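import Mathlib

/-!
# Cochains and homotopies out of a coproduct of cochain complexes
-/

namespace Groth.Agent.H2.CoprodCx

open CategoryTheory Limits CochainComplex HomComplex

universe w v u
variable {A : Type u} [Category.{v} A] [Preadditive A]
variable {J : Type w} [HasColimitsOfShape (Discrete J) A]
variable {K : J → CochainComplex A ℤ} {c : Cofan K} (hc : IsColimit c)

/-- degreewise, the cofan is a colimit -/
noncomputable def isColimitEval (p : ℤ) :
    IsColimit ((HomologicalComplex.eval A (ComplexShape.up ℤ) p).mapCocone c) :=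
  isColimitOfPreserves (HomologicalComplex.eval A (ComplexShape.up ℤ) p) hc

include hc in
lemma hom_ext_degree {p : ℤ} {T : A} {a b : c.pt.X p ⟶ T}
    (h : ∀ j, (c.inj j).f p ≫ a = (c.inj j).f p ≫ b) : a = b :=
  (isColimitEval hc p).hom_ext (fun ⟨j⟩ => h j)

include hc in
lemma exists_desc_degree (p : ℤ) {T : A} (a : ∀ j, (K j).X p ⟶ T) :
    ∃ b : c.pt.X p ⟶ T, ∀ j, (c.inj j).f p ≫ b = a j := by
  let s : Cocone (Discrete.functor K ⋙ HomologicalComplex.eval A (ComplexShape.up ℤ) p) :=
    { pt := T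
      ι := Discrete.natTrans (fun ⟨j⟩ => a j) }
  exact ⟨(isColimitEval hc p).desc s, fun j => (isColimitEval hc p).fac s ⟨j⟩⟩

include hc in
lemma cochain_ext {L : CochainComplex A ℤ} {n : ℤ} {α β : Cochain c.pt L n}
    (h : ∀ j, (Cochain.ofHom (c.inj j)).comp α (zero_add n) =
      (Cochain.ofHom (c.inj j)).comp β (zero_add n)) : α = β := by
  ext p q hpq
  apply hom_ext_degree hc
  intro j
  have := Cochain.congr_v (h j) p q hpq
  simpa [Cochain.zero_cochain_comp_v] using this

include hc in
lemma exists_cochain {L : CochainComplex A ℤ} {n : ℤ} (z : ∀ j, Cochain (K j) L n) :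
    ∃ Z : Cochain c.pt L n, ∀ j, (Cochain.ofHom (c.inj j)).comp Z (zero_add n) = z j := by
  have h := fun (p q : ℤ) (hpq : p + n = q) =>
    exists_desc_degree hc p (fun j => (z j).v p q hpq)
  choose b hb using h
  refine ⟨Cochain.mk b, fun j => ?_⟩
  ext p q hpq
  simp [Cochain.zero_cochain_comp_v, hb]

include hc in
/-- A morphism out of a coproduct of complexes which is null-homotopic on each summand
is null-homotopic. -/
theorem nonempty_homotopy_zero {L : CochainComplex A ℤ} (g : c.pt ⟶ L)
    (h : ∀ j, Nonempty (Homotopy (c.inj j ≫ g) 0)) : Nonempty (Homotopy g 0) := by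
  have hz : ∀ j, ∃ z : Cochain (K j) L (-1), Cochain.ofHom (c.inj j ≫ g) = δ (-1) 0 z := by
    intro j
    obtain ⟨z, hz⟩ := Cochain.equivHomotopy _ _ (h j).some
    exact ⟨z, by simpa using hz⟩
  choose z hz using hz
  obtain ⟨Z, hZ⟩ := exists_cochain hc z
  refine ⟨(Cochain.equivHomotopy _ _).symm ⟨Z, ?_⟩⟩
  rw [Cochain.ofHom_zero, add_zero]
  apply cochain_ext hc
  intro j
  rw [← Cochain.ofHom_comp, hz j, ← hZ j, δ_ofHom_comp]

end Groth.Agent.H2.CoprodCx
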