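import Mathlib
import Groth.Prelude.Def_DerLim

/-!
# The telescope sequence `0 → ⨁ Fₙ → ⨁ Fₙ → colim F → 0`

Part 1: `1 - shift` is a monomorphism when sequential colimits are exact.
-/

namespace Groth.Agent.H2.Telescope

open CategoryTheory Limits DerLim

universe v u

section General

variable {A : Type u} [Category.{v} A]
variable (K : ℕ → A) (f : ∀ n, K n ⟶ K (n + 1)) [HasCoproduct K]

lemma ι_shiftMap (n : ℕ) : Sigma.ι K n ≫ shiftMap K f = f n ≫ Sigma.ι K (n + 1) := by
  simp [shiftMap]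

end General

variable {A : Type u} [Category.{v} A] [Abelian A]
variable (K : ℕ → A) (f : ∀ n, K n ⟶ K (n + 1)) [HasCoproduct K]

/-- the idempotent of `∐ K` killing the summands of index `< N` -/
noncomputable def q (N : ℕ) : ∐ K ⟶ ∐ K :=
  Sigma.desc (fun n => if n < N then 0 else Sigma.ι K n)

lemma ι_q_of_lt {n N : ℕ} (h : n < N) : Sigma.ι K n ≫ q K N = 0 := by
  simp [q, h]

lemma ι_q_of_le {n N : ℕ} (h : N ≤ n) : Sigma.ι K n ≫ q K N = Sigma.ι K n := by
  simp [q, Nat.not_lt.2 h]

lemma shiftMap_q (N : ℕ) : shiftMap K f ≫ q K (N + 1) = q K N ≫ shiftMap K f := by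
  apply Sigma.hom_ext
  intro n
  rw [← Category.assoc, ι_shiftMap, Category.assoc]
  by_cases h : n < N
  · rw [ι_q_of_lt K (show n + 1 < N + 1 by omega), comp_zero, ← Category.assoc,
      ι_q_of_lt K h, zero_comp]
  · rw [ι_q_of_le K (show N + 1 ≤ n + 1 by omega), ← Category.assoc,
      ι_q_of_le K (show N ≤ n by omega), ι_shiftMap]

lemma q_zero : q K 0 = 𝟙 _ := by
  apply Sigma.hom_ext
  intro n
  rw [ι_q_of_le K (Nat.zero_le n), Category.comp_id]

variable {K f} in
lemma comp_q_eq {Z : A} (k : Z ⟶ ∐ K) (hk : k ≫ shiftMap K f = k) (N : ℕ) : k ≫ q K N = k := by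
  induction N with
  | zero => rw [q_zero, Category.comp_id]
  | succ N ih =>
    calc k ≫ q K (N + 1) = (k ≫ shiftMap K f) ≫ q K (N + 1) := by rw [hk]
      _ = k ≫ q K N ≫ shiftMap K f := by rw [Category.assoc, shiftMap_q]
      _ = k := by rw [← Category.assoc, ih, hk]

/-- the sequence `∐ K ⟶ ∐ K ⟶ …` with transition maps the `q K (N + 1)` -/
noncomputable def E : ℕ ⥤ A := Functor.ofSequence (X := fun _ => ∐ K) (fun N => q K (N + 1))

variable [HasColimitsOfShape ℕ A]

lemma ι_E_eq (N : ℕ) :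
    colimit.ι (E K) N = q K (N + 1) ≫ colimit.ι (E K) (N + 1) := by
  rw [← colimit.w (E K) (homOfLE (Nat.le_add_right N 1))]
  congr 1
  exact Functor.ofSequence_map_homOfLE_succ _ N

lemma ι_comp_ι_E (d : ℕ) : ∀ (n N : ℕ), n < N + 1 + d →
    Sigma.ι K n ≫ colimit.ι (E K) N = 0 := by
  induction d with
  | zero =>
    intro n N h
    rw [ι_E_eq, ← Category.assoc]
    erw [ι_q_of_lt K (show n < N + 1 by omega)]
    rw [zero_comp]
  | succ d ih =>
    intro n N h
    rw [ι_E_eq, ← Category.assoc]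
    by_cases h' : n < N + 1
    · erw [ι_q_of_lt K h']
      rw [zero_comp]
    · erw [ι_q_of_le K (show N + 1 ≤ n by omega)]
      exact ih n (N + 1) (by omega)

lemma isZero_colimit_E : IsZero (colimit (E K)) := by
  rw [IsZero.iff_id_eq_zero]
  apply colimit.hom_ext
  intro N
  rw [Category.comp_id, comp_zero]
  change (colimit.ι (E K) N : ∐ K ⟶ _) = 0
  apply Sigma.hom_ext
  intro n
  exact (ι_comp_ι_E K n n N (by omega)).trans comp_zero.symm

variable [HasExactColimitsOfShape ℕ A]

include f in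
variable {K f} in
lemma eq_zero_of_comp_shiftMap_eq {Z : A} (k : Z ⟶ ∐ K) [Mono k]
    (hk : k ≫ shiftMap K f = k) : IsZero Z := by
  let κ : (Functor.const ℕ).obj Z ⟶ E K :=
    NatTrans.ofSequence (fun _ => k) (fun N => by
      dsimp
      rw [Category.id_comp]
      erw [Functor.ofSequence_map_homOfLE_succ]
      exact (comp_q_eq k hk (N + 1)).symm)
  have hκ : Mono κ := by
    have : ∀ N, Mono (κ.app N) := fun N => by
      change Mono k
      infer_instance
    exact NatTrans.mono_of_mono_app κ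
  have h1 : Mono (colim.map κ) := inferInstance
  have h2 : colim.map κ = 0 := (isZero_colimit_E K).eq_of_tgt _ _
  have h3 : IsZero (colim.obj ((Functor.const ℕ).obj Z)) := by
    rw [IsZero.iff_id_eq_zero, ← cancel_mono (colim.map κ), h2, comp_zero, comp_zero]
  rw [IsZero.iff_id_eq_zero]
  have h4 : 𝟙 Z = colimit.ι ((Functor.const ℕ).obj Z) 0 ≫
      colimit.desc ((Functor.const ℕ).obj Z) ⟨Z, 𝟙 _⟩ := by
    rw [colimit.ι_desc]
    rfl
  rw [h4, h3.eq_of_tgt (colimit.ι ((Functor.const ℕ).obj Z) 0) 0, zero_comp]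

instance mono_one_sub_shiftMap : Mono (𝟙 (∐ K) - shiftMap K f) := by
  apply Preadditive.mono_of_kernel_zero
  have hk : kernel.ι (𝟙 (∐ K) - shiftMap K f) ≫ shiftMap K f =
      kernel.ι (𝟙 (∐ K) - shiftMap K f) := by
    have := kernel.condition (𝟙 (∐ K) - shiftMap K f)
    rw [Preadditive.comp_sub, Category.comp_id, sub_eq_zero] at this
    exact this.symm
  exact (eq_zero_of_comp_shiftMap_eq _ hk).eq_of_src _ _

end Groth.Agent.H2.Telescope
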