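import Mathlib

/-!
# Coproducts of quasi-isomorphisms are quasi-isomorphisms (AB4)
-/

namespace Groth.Agent.H2.CoprodCx

open CategoryTheory Limits

universe w v u
variable {A : Type u} [Category.{v} A] [Abelian A]
variable {J : Type w} {ι : Type*} {c : ComplexShape ι}

/-- a family of complexes as a complex of functors on the discrete category -/
@[simps]
def fam (K : J → HomologicalComplex A c) : HomologicalComplex (Discrete J ⥤ A) c where
  X i := Discrete.functor (fun j => (K j).X i)
  d i i' := Discrete.natTrans (fun ⟨j⟩ => (K j).d i i')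
  shape i i' h := by
    ext ⟨j⟩
    exact (K j).shape i i' h
  d_comp_d' i i' i'' _ _ := by
    ext ⟨j⟩
    exact (K j).d_comp_d i i' i''

/-- a family of morphisms as a morphism of complexes of functors -/
@[simps]
def famMap {M K : J → HomologicalComplex A c} (s : ∀ j, M j ⟶ K j) : fam M ⟶ fam K where
  f i := Discrete.natTrans (fun ⟨j⟩ => (s j).f i)
  comm' i i' _ := by
    ext ⟨j⟩
    exact (s j).comm i i'

/-- evaluating the family complex gives back the members -/
def evalFamIso (K : J → HomologicalComplex A c) (j : J) :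
    (((evaluation (Discrete J) A).obj ⟨j⟩).mapHomologicalComplex c).obj (fam K) ≅ K j :=
  HomologicalComplex.Hom.isoOfComponents (fun i => Iso.refl _) (by
    intro i i' _
    exact (Category.id_comp _).trans (Category.comp_id _).symm)

lemma quasiIso_famMap {M K : J → HomologicalComplex A c} (s : ∀ j, M j ⟶ K j)
    [∀ j, QuasiIso (s j)] : QuasiIso (famMap s) := by
  rw [HomologicalComplex.quasiIso_iff_evaluation]
  rintro ⟨j⟩
  have : (((evaluation (Discrete J) A).obj ⟨j⟩).mapHomologicalComplex c).map (famMap s) =
      (evalFamIso M j).hom ≫ s j ≫ (evalFamIso K j).inv := by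
    ext i
    exact ((Category.id_comp _).trans (Category.comp_id _)).symm
  rw [this]
  infer_instance

variable [HasColimitsOfShape (Discrete J) A]

/-- the termwise coproduct of a family of complexes -/
noncomputable abbrev sig (K : J → HomologicalComplex A c) : HomologicalComplex A c :=
  ((colim : (Discrete J ⥤ A) ⥤ A).mapHomologicalComplex c).obj (fam K)

/-- the inclusions into the termwise coproduct -/
@[simps]
noncomputable def sigι (K : J → HomologicalComplex A c) (j : J) : K j ⟶ sig K where
  f i := colimit.ι ((fam K).X i) ⟨j⟩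
  comm' i i' _ := by
    change colimit.ι ((fam K).X i) ⟨j⟩ ≫ colimMap ((fam K).d i i') = _
    rw [ι_colimMap]
    rfl

/-- the cofan of the termwise coproduct -/
noncomputable def sigCofan (K : J → HomologicalComplex A c) : Cofan K :=
  Cofan.mk (sig K) (sigι K)

/-- the termwise coproduct is a coproduct -/
noncomputable def isColimitSigCofan (K : J → HomologicalComplex A c) :
    IsColimit (sigCofan K) :=
  HomologicalComplex.isColimitOfEval _ _ (fun i =>
    { desc := fun s => colimit.desc ((fam K).X i)
        { pt := s.pt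
          ι := Discrete.natTrans (fun ⟨j⟩ => s.ι.app ⟨j⟩) }
      fac := fun s ⟨j⟩ => by
        change colimit.ι ((fam K).X i) ⟨j⟩ ≫ _ = _
        rw [colimit.ι_desc]
        rfl
      uniq := fun s m hm => by
        change colimit ((fam K).X i) ⟶ s.pt at m
        refine colimit.hom_ext (F := (fam K).X i) ?_
        rintro ⟨j⟩
        rw [colimit.ι_desc]
        exact hm ⟨j⟩ })

lemma sigι_map {M K : J → HomologicalComplex A c} (s : ∀ j, M j ⟶ K j) (j : J) :
    sigι M j ≫ ((colim : (Discrete J ⥤ A) ⥤ A).mapHomologicalComplex c).map (famMap s) =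
      s j ≫ sigι K j := by
  ext i
  change colimit.ι ((fam M).X i) ⟨j⟩ ≫ colimMap ((famMap s).f i) = _
  rw [ι_colimMap]
  rfl

variable [HasExactColimitsOfShape (Discrete J) A]

instance quasiIso_sigMap {M K : J → HomologicalComplex A c} (s : ∀ j, M j ⟶ K j)
    [∀ j, QuasiIso (s j)] :
    QuasiIso (((colim : (Discrete J ⥤ A) ⥤ A).mapHomologicalComplex c).map (famMap s)) := by
  have := quasiIso_famMap s
  infer_instance

/-- AB4: a coproduct of quasi-isomorphisms is a quasi-isomorphism. -/
theorem quasiIso_of_cofans {M K : J → HomologicalComplex A c} {cM : Cofan M} {cK : Cofan K}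
    (hM : IsColimit cM) (hK : IsColimit cK) (s : ∀ j, M j ⟶ K j) [∀ j, QuasiIso (s j)]
    (σ : cM.pt ⟶ cK.pt) (hσ : ∀ j, cM.inj j ≫ σ = s j ≫ cK.inj j) : QuasiIso σ := by
  let eM : sig M ≅ cM.pt := (isColimitSigCofan M).coconePointUniqueUpToIso hM
  let eK : sig K ≅ cK.pt := (isColimitSigCofan K).coconePointUniqueUpToIso hK
  have heM : ∀ j, sigι M j ≫ eM.hom = cM.inj j := fun j =>
    (isColimitSigCofan M).comp_coconePointUniqueUpToIso_hom hM ⟨j⟩
  have heK : ∀ j, sigι K j ≫ eK.hom = cK.inj j := fun j =>
    (isColimitSigCofan K).comp_coconePointUniqueUpToIso_hom hK ⟨j⟩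
  have h : eM.hom ≫ σ =
      ((colim : (Discrete J ⥤ A) ⥤ A).mapHomologicalComplex c).map (famMap s) ≫ eK.hom := by
    apply Cofan.IsColimit.hom_ext (isColimitSigCofan M)
    intro j
    change sigι M j ≫ _ = sigι M j ≫ _
    rw [reassoc_of% (heM j), hσ, reassoc_of% (sigι_map s j), heK]
  have h' : σ = eM.inv ≫
      ((colim : (Discrete J ⥤ A) ⥤ A).mapHomologicalComplex c).map (famMap s) ≫ eK.hom := by
    rw [← h, Iso.inv_hom_id_assoc]
  rw [h']
  infer_instance

end Groth.Agent.H2.CoprodCx
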