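import Groth.Agent.Lib.Helper2.CoprodCx1
import Groth.Agent.Lib.Helper2.CoprodCx2

/-!
# Coproducts in the derived category of an AB4 abelian category

If `A` has exact coproducts of shape `J`, the localization functor
`Q : CochainComplex A ℤ ⥤ DerivedCategory A` sends coproduct cofans to coproduct cofans,
so that `DerivedCategory A` has coproducts of shape `J`.
-/

namespace Groth.Agent.H2.DCoprod

open CategoryTheory Limits DerivedCategory

universe w w' v u
variable {A : Type u} [Category.{v} A] [Abelian A] [HasDerivedCategory.{w'} A]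

/-- If `Q.map h = 0`, then `h` becomes null-homotopic after precomposition with a
quasi-isomorphism. -/
lemma exists_quasiIso_comp_homotopy_zero {X Y : CochainComplex A ℤ} (h : X ⟶ Y)
    (hh : Q.map h = 0) :
    ∃ (N : CochainComplex A ℤ) (t : N ⟶ X), QuasiIso t ∧ Nonempty (Homotopy (t ≫ h) 0) := by
  have h1 : Qh.map ((HomotopyCategory.quotient A (ComplexShape.up ℤ)).map h) =
      Qh.map ((HomotopyCategory.quotient A (ComplexShape.up ℤ)).map 0) := by
    rw [← cancel_mono ((quotientCompQhIso A).hom.app Y), quotientCompQhIso_hom_naturality,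
      quotientCompQhIso_hom_naturality, hh, Q.map_zero]
  rw [MorphismProperty.map_eq_iff_precomp Qh
    (HomotopyCategory.quasiIso A (ComplexShape.up ℤ))] at h1
  obtain ⟨X', s, hs, fac⟩ := h1
  obtain ⟨N, rfl⟩ := HomotopyCategory.quotient_obj_surjective X'
  obtain ⟨t, rfl⟩ := (HomotopyCategory.quotient _ _).map_surjective s
  rw [HomotopyCategory.quotient_map_mem_quasiIso_iff] at hs
  refine ⟨N, t, hs, ⟨?_⟩⟩
  rw [← Functor.map_comp, ← Functor.map_comp, comp_zero] at fac
  exact HomotopyCategory.homotopyOfEq _ _ fac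

variable {J : Type w} [HasColimitsOfShape (Discrete J) A] [HasExactColimitsOfShape (Discrete J) A]
variable {K : J → CochainComplex A ℤ} {c : Cofan K} (hc : IsColimit c)

include hc in
/-- existence of a factorization through `Q` of the coproduct -/
lemma exists_desc {L : CochainComplex A ℤ} (f : ∀ j, Q.obj (K j) ⟶ Q.obj L) :
    ∃ φ : Q.obj c.pt ⟶ Q.obj L, ∀ j, Q.map (c.inj j) ≫ φ = f j := by
  have hfac := fun j => right_fac (f j)
  choose M s hs g hg using hfac
  have hs' : ∀ j, QuasiIso (s j) := fun j => (isIso_Q_map_iff_quasiIso _ (s j)).1 (hs j)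
  let σ : ∐ M ⟶ c.pt := Sigma.desc (fun j => s j ≫ c.inj j)
  have hσ : QuasiIso σ :=
    CoprodCx.quasiIso_of_cofans (cM := Cofan.mk (∐ M) (Sigma.ι M)) (coproductIsCoproduct M) hc s σ
      (fun j => Sigma.ι_desc _ j)
  have : IsIso (Q.map σ) := (isIso_Q_map_iff_quasiIso _ σ).2 hσ
  refine ⟨inv (Q.map σ) ≫ Q.map (Sigma.desc g), fun j => ?_⟩
  have h1 : Q.map (Sigma.ι M j) ≫ Q.map σ = Q.map (s j) ≫ Q.map (c.inj j) := by
    rw [← Q.map_comp, ← Q.map_comp, Sigma.ι_desc]
  have h2 : Q.map (c.inj j) ≫ inv (Q.map σ) = inv (Q.map (s j)) ≫ Q.map (Sigma.ι M j) := by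
    rw [← cancel_mono (Q.map σ), Category.assoc, IsIso.inv_hom_id, Category.comp_id,
      Category.assoc, h1, IsIso.inv_hom_id_assoc]
  rw [← Category.assoc, h2, Category.assoc, ← Q.map_comp, Sigma.ι_desc, hg j]

include hc in
/-- uniqueness of a factorization through `Q` of the coproduct -/
lemma eq_zero_of_comp_eq_zero {L : CochainComplex A ℤ} (ψ : Q.obj c.pt ⟶ Q.obj L)
    (hψ : ∀ j, Q.map (c.inj j) ≫ ψ = 0) : ψ = 0 := by
  obtain ⟨L', g, s, hs, rfl⟩ := left_fac ψ
  have hg : ∀ j, Q.map (c.inj j ≫ g) = 0 := by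
    intro j
    have := hψ j
    rw [← Category.assoc, ← Q.map_comp] at this
    rw [← cancel_mono (inv (Q.map s)), this, zero_comp]
  have ht := fun j => exists_quasiIso_comp_homotopy_zero _ (hg j)
  choose N t ht hH using ht
  let τ : ∐ N ⟶ c.pt := Sigma.desc (fun j => t j ≫ c.inj j)
  have hτ : QuasiIso τ :=
    CoprodCx.quasiIso_of_cofans (cM := Cofan.mk (∐ N) (Sigma.ι N)) (coproductIsCoproduct N) hc t τ
      (fun j => Sigma.ι_desc _ j)
  have : IsIso (Q.map τ) := (isIso_Q_map_iff_quasiIso _ τ).2 hτ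
  have hH' : Nonempty (Homotopy (τ ≫ g) 0) := by
    refine CoprodCx.nonempty_homotopy_zero (c := Cofan.mk (∐ N) (Sigma.ι N))
      (coproductIsCoproduct N) (τ ≫ g) (fun j => ?_)
    obtain ⟨H⟩ := hH j
    have e : (Cofan.mk (∐ N) (Sigma.ι N)).inj j ≫ τ ≫ g = t j ≫ c.inj j ≫ g := by
      change Sigma.ι N j ≫ τ ≫ g = _
      rw [← Category.assoc, Sigma.ι_desc, Category.assoc]
    exact ⟨(Homotopy.ofEq e).trans H⟩
  have h0 : Q.map (τ ≫ g) = 0 := by
    rw [Q_map_eq_of_homotopy _ hH'.some, Q.map_zero]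
  rw [Q.map_comp] at h0
  have h1 : Q.map g = 0 := by
    rw [← cancel_epi (Q.map τ), h0, comp_zero]
  rw [h1, zero_comp]

include hc in
lemma exists_desc' (T : DerivedCategory A) (f : ∀ j, Q.obj (K j) ⟶ T) :
    ∃ φ : Q.obj c.pt ⟶ T, ∀ j, Q.map (c.inj j) ≫ φ = f j := by
  let e : Q.obj (Q.objPreimage T) ≅ T := Q.objObjPreimageIso T
  obtain ⟨φ, hφ⟩ := exists_desc hc (fun j => f j ≫ e.inv)
  refine ⟨φ ≫ e.hom, fun j => ?_⟩
  rw [← Category.assoc, hφ, Category.assoc, Iso.inv_hom_id, Category.comp_id]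

include hc in
lemma hom_ext' {T : DerivedCategory A} {m m' : Q.obj c.pt ⟶ T}
    (h : ∀ j, Q.map (c.inj j) ≫ m = Q.map (c.inj j) ≫ m') : m = m' := by
  let e : Q.obj (Q.objPreimage T) ≅ T := Q.objObjPreimageIso T
  have h0 : (m - m') ≫ e.inv = 0 := by
    apply eq_zero_of_comp_eq_zero hc
    intro j
    rw [← Category.assoc, Preadditive.comp_sub, h j, sub_self, zero_comp]
  have h1 : m - m' = 0 := by
    rw [← cancel_mono e.inv, h0, zero_comp]
  exact sub_eq_zero.1 h1

/-- `Q` sends coproduct cofans of complexes to coproduct cofans. -/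
noncomputable def isColimitMapCofan :
    IsColimit (Cofan.mk (Q.obj c.pt) (fun j => Q.map (c.inj j))) :=
  mkCofanColimit _ (fun t => (exists_desc' hc t.pt (fun j => t.inj j)).choose)
    (fun t j => (exists_desc' hc t.pt (fun j => t.inj j)).choose_spec j)
    (fun t m hm => hom_ext' hc (fun j => by
      rw [(exists_desc' hc t.pt (fun j => t.inj j)).choose_spec j]
      exact hm j))

variable (A J) in
/-- The derived category of an abelian category with exact coproducts of shape `J` has
coproducts of shape `J`. -/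
theorem hasColimitsOfShape_discrete : HasColimitsOfShape (Discrete J) (DerivedCategory A) where
  has_colimit F := by
    let K : J → CochainComplex A ℤ := fun j => Q.objPreimage (F.obj ⟨j⟩)
    have : HasColimit (Discrete.functor (fun j => Q.obj (K j))) :=
      ⟨⟨⟨_, isColimitMapCofan (coproductIsCoproduct K)⟩⟩⟩
    have e : F ≅ Discrete.functor (fun j => Q.obj (K j)) :=
      Discrete.natIso (fun ⟨j⟩ => (Q.objObjPreimageIso (F.obj ⟨j⟩)).symm)
    exact hasColimit_of_iso e

end Groth.Agent.H2.DCoprod
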