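import Groth.Agent.Lib.Helper2.Telescope2

/-!
# Sequential colimits of complexes are homotopy colimits in the derived category
-/

namespace Groth.Agent.H2.Telescope

open CategoryTheory Limits DerLim DerivedCategory Pretriangulated

universe w v u
variable {A : Type u} [Category.{v} A] [Abelian A] [HasDerivedCategory.{w} A]
  [HasColimitsOfShape ℕ A] [HasExactColimitsOfShape ℕ A]
  (L : ℕ ⥤ CochainComplex A ℤ) [HasCoproduct L.obj]
  [PreservesColimit (Discrete.functor L.obj) (DerivedCategory.Q (C := A))]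
  [HasCoproduct (fun n => DerivedCategory.Q.obj (L.obj n))]

theorem isHocolim_of_colimit :
    DerLim.IsHocolim (fun n => DerivedCategory.Q.obj (L.obj n))
      (fun n => DerivedCategory.Q.map (L.map (homOfLE (Nat.le_succ n))))
      (DerivedCategory.Q.obj (colimit L)) (fun n => DerivedCategory.Q.map (colimit.ι L n)) := by
  let S : ShortComplex (CochainComplex A ℤ) :=
    ShortComplex.mk _ _ (one_sub_shiftMap_desc (colimit.cocone L))
  have hS : S.ShortExact := shortExact_of_isColimit (colimit.isColimit L)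
  let e : (∐ fun n => Q.obj (L.obj n)) ≅ Q.obj (∐ L.obj) :=
    (PreservesCoproduct.iso Q L.obj).symm
  have he : ∀ n, Sigma.ι (fun n => Q.obj (L.obj n)) n ≫ e.hom = Q.map (Sigma.ι L.obj n) := by
    intro n
    simp [e]
  have h1 : (𝟙 (∐ fun n => Q.obj (L.obj n)) - shiftMap (fun n => Q.obj (L.obj n))
      (fun n => Q.map (L.map (homOfLE (Nat.le_succ n))))) ≫ e.hom = e.hom ≫ Q.map S.f := by
    apply Sigma.hom_ext
    intro n
    dsimp only [S]
    rw [Preadditive.sub_comp, Preadditive.comp_sub, Category.id_comp, ← Category.assoc,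
      ← Category.assoc, ι_shiftMap, he, Category.assoc, he, ← Q.map_comp, ← Q.map_comp,
      ← Q.map_sub]
    congr 1
    rw [Preadditive.comp_sub, Category.comp_id, ι_shiftMap]
  have h2 : Sigma.desc (fun n => Q.map (colimit.ι L n)) ≫ 𝟙 _ = e.hom ≫ Q.map S.g := by
    apply Sigma.hom_ext
    intro n
    dsimp only [S]
    rw [Category.comp_id, Sigma.ι_desc, ← Category.assoc, he, ← Q.map_comp, Sigma.ι_desc]
    rfl
  have h3 : (triangleOfSESδ hS ≫ e.inv⟦(1 : ℤ)⟧') ≫ e.hom⟦(1 : ℤ)⟧' =
      𝟙 _ ≫ triangleOfSESδ hS := by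
    rw [Category.id_comp, Category.assoc, ← Functor.map_comp, e.inv_hom_id,
      CategoryTheory.Functor.map_id, Category.comp_id]
  refine ⟨triangleOfSESδ hS ≫ e.inv⟦(1 : ℤ)⟧', ?_⟩
  refine isomorphic_distinguished _ (triangleOfSES_distinguished hS) _ ?_
  exact Triangle.isoMk _ _ e e (Iso.refl _) h1 h2 h3

end Groth.Agent.H2.Telescope
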