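import Mathlib
set_option autoImplicit false
universe u
open scoped TensorProduct

namespace Groth.Agent.H2.CAlgA

theorem flat_inf_smul {R : Type u} [CommRing R] (I J : Ideal R) (M : Type u) [AddCommGroup M] [Module R M] [Module.Flat R M] : (I • (⊤ : Submodule R M)) ⊓ (J • ⊤) = (I ⊓ J) • (⊤ : Submodule R M) := by
  apply le_antisymm
  · intro m hm
    let f : ↥(I ⊓ J) →ₗ[R] R := (I ⊓ J).subtype
    let g : R →ₗ[R] (R ⧸ I) × (R ⧸ J) := (Submodule.mkQ I).prod (Submodule.mkQ J)
    have hex : Function.Exact f g := by
      rw [LinearMap.exact_iff, LinearMap.ker_prod, Submodule.ker_mkQ, Submodule.ker_mkQ,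
        Submodule.range_subtype]
    have hex' := Module.Flat.lTensor_exact M hex
    have h0 : g.lTensor M (m ⊗ₜ[R] (1 : R)) = 0 := by
      apply (TensorProduct.prodRight R R M (R ⧸ I) (R ⧸ J)).injective
      rw [map_zero, LinearMap.lTensor_tmul, TensorProduct.prodRight_tmul]
      have h1 : m ⊗ₜ[R] (Submodule.mkQ I (1 : R)) = (0 : M ⊗[R] (R ⧸ I)) := by
        apply (TensorProduct.tensorQuotEquivQuotSMul M I).injective
        rw [map_zero]
        show (TensorProduct.tensorQuotEquivQuotSMul M I) (m ⊗ₜ[R] Ideal.Quotient.mk I 1) = 0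
        rw [TensorProduct.tensorQuotEquivQuotSMul_tmul_mk, one_smul,
          Submodule.Quotient.mk_eq_zero]
        exact hm.1
      have h2 : m ⊗ₜ[R] (Submodule.mkQ J (1 : R)) = (0 : M ⊗[R] (R ⧸ J)) := by
        apply (TensorProduct.tensorQuotEquivQuotSMul M J).injective
        rw [map_zero]
        show (TensorProduct.tensorQuotEquivQuotSMul M J) (m ⊗ₜ[R] Ideal.Quotient.mk J 1) = 0
        rw [TensorProduct.tensorQuotEquivQuotSMul_tmul_mk, one_smul,
          Submodule.Quotient.mk_eq_zero]
        exact hm.2
      show (m ⊗ₜ[R] (Submodule.mkQ I (1 : R)), m ⊗ₜ[R] (Submodule.mkQ J (1 : R))) = 0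
      rw [h1, h2]; rfl
    obtain ⟨y, hy⟩ := (hex' _).mp h0
    have key : ∀ y : M ⊗[R] ↥(I ⊓ J), TensorProduct.rid R M (f.lTensor M y) ∈
        (I ⊓ J) • (⊤ : Submodule R M) := by
      intro y
      induction y using TensorProduct.induction_on with
      | zero => simp
      | tmul a b =>
        rw [LinearMap.lTensor_tmul, TensorProduct.rid_tmul]
        exact Submodule.smul_mem_smul b.2 Submodule.mem_top
      | add a b ha hb => rw [map_add, map_add]; exact add_mem ha hb
    have := key y
    rwa [hy, TensorProduct.rid_tmul, one_smul] at this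
  · exact le_inf (Submodule.smul_mono_left inf_le_left) (Submodule.smul_mono_left inf_le_right)

theorem flat_of_ses {R : Type u} [CommRing R] {M' M M'' : Type u} [AddCommGroup M'] [Module R M'] [AddCommGroup M] [Module R M] [AddCommGroup M''] [Module R M''] (f : M' →ₗ[R] M) (g : M →ₗ[R] M'') (hf : Function.Injective f) (hexact : Function.Exact f g) (hg : Function.Surjective g) [Module.Flat R M''] : (Module.Flat R M' → Module.Flat R M) ∧ (Module.Flat R M → Module.Flat R M') := by
  have hinj : ∀ (A : Type u) [AddCommGroup A] [Module R A], Function.Injective (f.lTensor A) :=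
    fun A _ _ => LinearMap.lTensor_injective_of_exact_of_flat g hg f hf hexact A
  constructor
  · intro hM'
    rw [Module.Flat.iff_rTensor_preserves_injective_linearMap]
    intro N P _ _ _ _ i hi
    rw [injective_iff_map_eq_zero]
    intro x hx
    have h1 : (g.lTensor N) x = 0 := by
      apply Module.Flat.rTensor_preserves_injective_linearMap (M := M'') i hi
      rw [map_zero, ← LinearMap.comp_apply, LinearMap.rTensor_comp_lTensor,
        ← LinearMap.lTensor_comp_rTensor, LinearMap.comp_apply, hx, map_zero]
    obtain ⟨x', rfl⟩ := (lTensor_exact N hexact hg x).mp h1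
    have h2 : (i.rTensor M') x' = 0 := by
      apply hinj P
      rw [map_zero, ← LinearMap.comp_apply, LinearMap.lTensor_comp_rTensor,
        ← LinearMap.rTensor_comp_lTensor, LinearMap.comp_apply, hx]
    have h3 : x' = 0 := by
      apply Module.Flat.rTensor_preserves_injective_linearMap (M := M') i hi
      rw [h2, map_zero]
    rw [h3, map_zero]
  · intro hM
    rw [Module.Flat.iff_rTensor_preserves_injective_linearMap]
    intro N P _ _ _ _ i hi
    rw [injective_iff_map_eq_zero]
    intro x' hx'
    apply hinj N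
    rw [map_zero]
    apply Module.Flat.rTensor_preserves_injective_linearMap (M := M) i hi
    rw [map_zero, ← LinearMap.comp_apply, LinearMap.rTensor_comp_lTensor,
      ← LinearMap.lTensor_comp_rTensor, LinearMap.comp_apply, hx', map_zero]

theorem flat_iff_lift {R : Type u} [CommRing R] (M : Type u) [AddCommGroup M] [Module R M] : Module.Flat R M ↔ ∀ (P : Type u) [AddCommGroup P] [Module R P], Module.FinitePresentation R P → ∀ (N : Type u) [AddCommGroup N] [Module R N] (g : N →ₗ[R] M), Function.Surjective g → ∀ h : P →ₗ[R] M, ∃ h' : P →ₗ[R] N, g.comp h' = h := by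
  constructor
  · intro hM P _ _ hP N _ _ g hg h
    obtain ⟨k, h₂, h₃, rfl⟩ := Module.Flat.exists_factorization_of_finitePresentation h
    obtain ⟨h₃', hh⟩ := Module.projective_lifting_property g h₃ hg
    exact ⟨h₃' ∘ₗ h₂, by rw [← LinearMap.comp_assoc, hh]⟩
  · intro H
    rw [Module.Flat.iff_forall_isTrivialRelation]
    intro l f x hfx
    classical
    -- the finitely presented module
    let Q : Submodule R (Fin l → R) := Submodule.span R {f}
    let P := (Fin l → R) ⧸ Q
    have hP : Module.FinitePresentation R P :=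
      Module.finitePresentation_of_surjective Q.mkQ Q.mkQ_surjective
        (by rw [Submodule.ker_mkQ]; exact Submodule.fg_span_singleton f)
    let x' : (Fin l → R) →ₗ[R] M := Fintype.linearCombination R x
    have hx'f : x' f = 0 := by
      simpa [x', Fintype.linearCombination_apply] using hfx
    let h : P →ₗ[R] M := Q.liftQ x' (by
      rw [Submodule.span_le, Set.singleton_subset_iff]; exact hx'f)
    let g : (M →₀ R) →ₗ[R] M := Finsupp.linearCombination R id
    have hg : Function.Surjective g :=
      Finsupp.linearCombination_surjective R Function.surjective_id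
    obtain ⟨h', hh'⟩ := H P hP (M →₀ R) g hg h
    let n : Fin l → (M →₀ R) := fun i => h' (Q.mkQ (Pi.single i 1))
    let S : Finset M := Finset.univ.biUnion fun i => (n i).support
    let e : S ≃ Fin S.card := S.equivFin
    refine ⟨S.card, fun i j => n i (e.symm j), fun j => (e.symm j : M), ?_, ?_⟩
    · intro i
      have h1 : x i = g (n i) := by
        have := LinearMap.congr_fun hh' (Q.mkQ (Pi.single i 1))
        rw [LinearMap.comp_apply] at this
        rw [this]
        show x i = x' (Pi.single i 1)
        simp [x', Fintype.linearCombination_apply, Pi.single_apply]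
      rw [h1]
      show Finsupp.linearCombination R id (n i) = _
      rw [Finsupp.linearCombination_apply, Finsupp.sum]
      have hsub : (n i).support ⊆ S := Finset.subset_biUnion_of_mem (fun i => (n i).support)
        (Finset.mem_univ i)
      rw [Finset.sum_subset hsub (by
        intro m _ hm
        rw [Finsupp.notMem_support_iff] at hm
        rw [hm, zero_smul])]
      rw [← Finset.sum_coe_sort S, ← e.symm.sum_comp]
      rfl
    · intro j
      have h2 : ∑ i, f i • n i = 0 := by
        have : ∑ i, f i • n i = h' (Q.mkQ (∑ i, f i • Pi.single i 1)) := by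
          simp only [map_sum, map_smul, n]
        rw [this]
        have hf : ∑ i, f i • (Pi.single i 1 : Fin l → R) = f := by
          ext k
          simp [Finset.sum_apply, Pi.single_apply]
        rw [hf]
        have : Q.mkQ f = 0 := by
          rw [Submodule.mkQ_apply, Submodule.Quotient.mk_eq_zero]
          exact Submodule.mem_span_singleton_self f
        rw [this, map_zero]
      have := DFunLike.congr_fun h2 (e.symm j : M)
      simpa [Finsupp.finsetSum_apply] using this

theorem isAdicComplete_of_pow_eq_bot {R : Type u} [CommRing R] (J : Ideal R) (N : ℕ)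
    (hJ : J ^ N = ⊥) : IsAdicComplete J R where
  haus' x hx := by
    have := hx N
    rw [hJ, Submodule.bot_smul, SModEq.bot] at this
    exact this
  prec' f hf := by
    refine ⟨f N, fun n => ?_⟩
    rcases le_total n N with h | h
    · exact hf h
    · have := hf h
      rw [hJ, Submodule.bot_smul, SModEq.bot] at this
      rw [this]

theorem isUnit_of_isUnit_mk_of_nil {R : Type u} [CommRing R] (I : Ideal R)
    (hI : ∀ x ∈ I, IsNilpotent x) {a : R} (ha : IsUnit (Ideal.Quotient.mk I a)) : IsUnit a := by
  obtain ⟨b, hb⟩ := ha.exists_right_inv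
  obtain ⟨b, rfl⟩ := Ideal.Quotient.mk_surjective b
  rw [← map_mul, ← map_one (Ideal.Quotient.mk I), Ideal.Quotient.eq] at hb
  have hnil := hI _ hb
  have : IsUnit (a * b) := by
    have h2 : a * b = 1 + (a * b - 1) := by ring
    rw [h2]
    exact IsNilpotent.isUnit_one_add hnil
  exact isUnit_of_mul_isUnit_left this

theorem exists_root_one_add {R : Type u} [CommRing R] (n : ℕ) (hn : 1 ≤ n) (hu : IsUnit (n : R))
    (y : R) (hy : IsNilpotent y) : ∃ x ∈ Ideal.span {y}, (1 + x) ^ n = 1 + y := by
  obtain ⟨N, hN⟩ := hy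
  have hJ : (Ideal.span {y}) ^ N = ⊥ := by
    rw [Ideal.span_singleton_pow, hN, Ideal.span_singleton_eq_bot]
  haveI := isAdicComplete_of_pow_eq_bot _ N hJ
  have hH : HenselianRing R (Ideal.span {y}) := inferInstance
  let f : Polynomial R := Polynomial.X ^ n - Polynomial.C (1 + y)
  have hf : f.Monic := Polynomial.monic_X_pow_sub_C _ (by omega)
  obtain ⟨a, ha, ha'⟩ := hH.is_henselian f hf 1
    (by simp [f, Ideal.mem_span_singleton])
    (by
      simp only [f, Polynomial.derivative_sub, Polynomial.derivative_X_pow, Polynomial.derivative_C,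
        sub_zero, Polynomial.eval_mul, Polynomial.eval_pow, Polynomial.eval_X, one_pow, mul_one,
        Polynomial.eval_C]
      simpa using hu.map (Ideal.Quotient.mk _))
  refine ⟨a - 1, ha', ?_⟩
  have : a ^ n - (1 + y) = 0 := by simpa [f, Polynomial.IsRoot] using ha
  rw [add_sub_cancel]
  linear_combination this

theorem nth_roots_nil {R : Type u} [CommRing R] (I : Ideal R) (hI : ∀ x ∈ I, IsNilpotent x) (n : ℕ) (hn : 1 ≤ n) (hinv : IsUnit ((n : ℕ) : R ⧸ I)) : (∀ y ∈ I, ∃! x : R, x ∈ I ∧ (1 + x) ^ n = 1 + y) ∧ (∀ u : Rˣ, (∃ v : R, v ^ n = (u : R)) ↔ ∃ w : R ⧸ I, w ^ n = Ideal.Quotient.mk I (u : R)) := by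
  have hnu : IsUnit (n : R) := by
    apply isUnit_of_isUnit_mk_of_nil I hI
    simpa using hinv
  have hex : ∀ y ∈ I, ∃ x ∈ I, (1 + x) ^ n = 1 + y := by
    intro y hy
    obtain ⟨x, hx, hxy⟩ := exists_root_one_add n hn hnu y (hI y hy)
    refine ⟨x, ?_, hxy⟩
    have : Ideal.span {y} ≤ I := by rwa [Ideal.span_singleton_le_iff_mem]
    exact this hx
  constructor
  · intro y hy
    obtain ⟨x, hx, hxy⟩ := hex y hy
    refine ⟨x, ⟨hx, hxy⟩, ?_⟩
    rintro x' ⟨hx', hxy'⟩
    have h1 := Commute.geom_sum₂_mul (Commute.all (1 + x') (1 + x)) n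
    rw [hxy, hxy', sub_self] at h1
    have hs : IsUnit (∑ i ∈ Finset.range n, (1 + x') ^ i * (1 + x) ^ (n - 1 - i)) := by
      apply isUnit_of_isUnit_mk_of_nil I hI
      have e1 : Ideal.Quotient.mk I (1 + x') = 1 := by
        rw [map_add, map_one, Ideal.Quotient.eq_zero_iff_mem.mpr hx', add_zero]
      have e2 : Ideal.Quotient.mk I (1 + x) = 1 := by
        rw [map_add, map_one, Ideal.Quotient.eq_zero_iff_mem.mpr hx, add_zero]
      simp only [map_sum, map_mul, map_pow, e1, e2, one_pow, mul_one, Finset.sum_const,
        Finset.card_range, nsmul_eq_mul]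
      exact hinv
    have := hs.mul_right_eq_zero.mp h1
    linear_combination this
  · intro u
    constructor
    · rintro ⟨v, hv⟩
      exact ⟨Ideal.Quotient.mk I v, by rw [← map_pow, hv]⟩
    · rintro ⟨w, hw⟩
      obtain ⟨v₀, rfl⟩ := Ideal.Quotient.mk_surjective w
      rw [← map_pow, Ideal.Quotient.eq] at hw
      set y := (↑u⁻¹ : R) * (v₀ ^ n - u) with hy
      have hyI : y ∈ I := I.mul_mem_left _ hw
      obtain ⟨x, hx, hxy⟩ := hex y hyI
      have hunit : IsUnit (1 + x) := IsNilpotent.isUnit_one_add (hI x hx)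
      obtain ⟨c, hc⟩ := hunit.exists_right_inv
      refine ⟨v₀ * c, ?_⟩
      have h1 : (1 + x) ^ n * c ^ n = 1 := by rw [← mul_pow, hc, one_pow]
      have h2 : v₀ ^ n = u * (1 + y) := by
        rw [hy, mul_add, mul_one, ← mul_assoc, Units.mul_inv, one_mul]; ring
      rw [mul_pow, h2, ← hxy, mul_assoc, h1, mul_one]

theorem isEpi_iff_linear (R S : Type u) [CommRing R] [CommRing S] [Algebra R S] :
    Algebra.IsEpi R S ↔
      ∀ (N₁ N₂ : Type u) [AddCommGroup N₁] [Module S N₁] [Module R N₁] [IsScalarTower R S N₁]
        [AddCommGroup N₂] [Module S N₂] [Module R N₂] [IsScalarTower R S N₂] (φ : N₁ →ₗ[R] N₂),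
        ∀ (s : S) (x : N₁), φ (s • x) = s • φ x := by
  constructor
  · intro h N₁ N₂ _ _ _ _ _ _ _ _ φ s x
    have key : (1 : S) ⊗ₜ[R] (s • x) = s ⊗ₜ[R] x := by
      apply (TensorProduct.lid' R S N₁).injective
      simp
    let ψ : S ⊗[R] N₁ →ₗ[R] N₂ := TensorProduct.lift
      ((LinearMap.restrictScalars₁₂ R R (LinearMap.lsmul S N₂)).compr₂ LinearMap.id |>.compl₂ φ)
    have := congrArg ψ key
    simpa [ψ] using this
  · intro H
    rw [Algebra.isEpi_iff_forall_one_tmul_eq]
    intro a
    let φ : S →ₗ[R] S ⊗[R] S :=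
      { toFun := fun a => 1 ⊗ₜ a
        map_add' := fun x y => TensorProduct.tmul_add _ _ _
        map_smul' := fun r x => TensorProduct.tmul_smul _ _ _ }
    have := H S (S ⊗[R] S) φ a 1
    simpa [φ, TensorProduct.smul_tmul'] using this

theorem bijective_of_ff_epi (R S : Type u) [CommRing R] [CommRing S] [Algebra R S]
    [Module.FaithfullyFlat R S] [Algebra.IsEpi R S] : Function.Bijective (algebraMap R S) := by
  have h : Function.Bijective ((Algebra.linearMap R S).lTensor S) := by
    have e : ((TensorProduct.lid' R S S).toLinearMap.restrictScalars R) ∘ₗ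
        ((Algebra.linearMap R S).lTensor S) = (TensorProduct.rid R S).toLinearMap := by
      ext s
      simp
    have hb : Function.Bijective (((TensorProduct.lid' R S S).toLinearMap.restrictScalars R) ∘ₗ
        ((Algebra.linearMap R S).lTensor S)) := by
      rw [e]; exact (TensorProduct.rid R S).bijective
    rw [LinearMap.coe_comp] at hb
    exact (Function.Bijective.of_comp_iff' (TensorProduct.lid' R S S).bijective _).mp hb
  rw [Module.FaithfullyFlat.lTensor_bijective_iff_bijective] at h
  exact h

theorem field_epi (k S : Type u) [Field k] [CommRing S] [Algebra k S] [Algebra.IsEpi k S] :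
    Subsingleton S ∨ Function.Bijective (algebraMap k S) := by
  rcases subsingleton_or_nontrivial S with h | h
  · exact Or.inl h
  · exact Or.inr (bijective_of_ff_epi k S)

end Groth.Agent.H2.CAlgA
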