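import Mathlib

/-!
# Right resolutions by a class of objects: the `ℕ`-indexed construction
-/

namespace Groth.Agent.H2.Resol

open CategoryTheory CategoryTheory.Limits

universe v u

variable {A : Type u} [Category.{v} A] [Abelian A]

/-- Pushout squares in an abelian category are exact: a pair of maps to `X₂`, `X₃` that agree in
`X₄` comes from `X₁`, up to refinement. -/
lemma pushout_refine {X₁ X₂ X₃ X₄ : A} {f : X₁ ⟶ X₂} {g : X₁ ⟶ X₃} {inl : X₂ ⟶ X₄}
    {inr : X₃ ⟶ X₄} (h : IsPushout f g inl inr) {W : A} (x₂ : W ⟶ X₂) (x₃ : W ⟶ X₃)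
    (hx : x₂ ≫ inl = x₃ ≫ inr) :
    ∃ (W' : A) (π : W' ⟶ W) (_ : Epi π) (y : W' ⟶ X₁), π ≫ x₂ = y ≫ f ∧ π ≫ x₃ = y ≫ g := by
  have hex := h.exact_shortComplex
  rw [ShortComplex.exact_iff_exact_up_to_refinements] at hex
  obtain ⟨W', π, hπ, y, hy⟩ := hex (biprod.lift x₂ (-x₃)) (by
    change biprod.lift x₂ (-x₃) ≫ biprod.desc inl inr = 0
    simp [hx])
  have hy' : π ≫ biprod.lift x₂ (-x₃) = (show W' ⟶ X₁ from y) ≫ biprod.lift f (-g) := hy
  generalize (show W' ⟶ X₁ from y) = y' at hy'
  refine ⟨W', π, hπ, y', ?_, ?_⟩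
  · have := hy' =≫ biprod.fst
    simp only [Category.assoc, biprod.lift_fst] at this
    exact this
  · have := hy' =≫ biprod.snd
    simp only [Category.assoc, biprod.lift_snd, Preadditive.comp_neg, neg_inj] at this
    exact this

variable (I : A → Prop) (hI : ∀ X : A, ∃ (Y : A) (ι : X ⟶ Y), I Y ∧ Mono ι)

/-- A chosen object of `I` containing `X`. -/
noncomputable def emb (X : A) : A := (hI X).choose

/-- The chosen embedding. -/
noncomputable def embι (X : A) : X ⟶ emb I hI X := (hI X).choose_spec.choose

lemma emb_mem (X : A) : I (emb I hI X) := (hI X).choose_spec.choose_spec.1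

instance embι_mono (X : A) : Mono (embι I hI X) := (hI X).choose_spec.choose_spec.2

lemma embι_mono' (X : A) : Mono (embι I hI X) := (hI X).choose_spec.choose_spec.2

variable (K : CochainComplex A ℕ)

/-- The data at stage `n` of the construction. -/
structure State (n : ℕ) where
  /-- the term of the resolution -/
  L : A
  hL : I L
  /-- the comparison map -/
  α : K.X n ⟶ L
  hα : Mono α
  /-- the cokernel of the incoming differential -/
  R : A
  /-- the projection -/
  q : L ⟶ R
  hq : Epi q
  /-- the comparison of opcycles -/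
  γ : K.opcycles n ⟶ R
  hγ : Mono γ
  comm : α ≫ q = K.pOpcycles n ≫ γ

attribute [instance] State.hα State.hq State.hγ

/-- The initial state. -/
noncomputable def init : State I K 0 where
  L := emb I hI (K.X 0)
  hL := emb_mem I hI _
  α := embι I hI (K.X 0)
  hα := inferInstance
  R := emb I hI (K.X 0)
  q := 𝟙 _
  hq := inferInstance
  γ := inv (K.pOpcycles 0) ≫ embι I hI (K.X 0)
  hγ := inferInstance
  comm := by simp

variable {I K}

section step

variable {n : ℕ} (s : State I K n)

/-- The pushout used in the inductive step. -/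
noncomputable abbrev B : A := pushout s.γ (K.fromOpcycles n (n + 1))

/-- The next term. -/
noncomputable abbrev Lnext : A := emb I hI (B s)

/-- The next differential. -/
noncomputable def dL : s.L ⟶ Lnext hI s :=
  s.q ≫ pushout.inl s.γ (K.fromOpcycles n (n + 1)) ≫ embι I hI (B s)

/-- The next comparison map. -/
noncomputable def αnext : K.X (n + 1) ⟶ Lnext hI s :=
  pushout.inr s.γ (K.fromOpcycles n (n + 1)) ≫ embι I hI (B s)

instance : Mono (αnext hI s) := by
  unfold αnext
  have : Mono (pushout.inr s.γ (K.fromOpcycles n (n + 1))) := inferInstance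
  have := embι_mono' I hI (B s)
  exact mono_comp _ _

lemma d_αnext : K.d n (n + 1) ≫ αnext hI s = s.α ≫ dL hI s := by
  unfold αnext dL
  rw [← K.p_fromOpcycles n (n + 1), Category.assoc, ← pushout.condition_assoc,
    ← reassoc_of% s.comm]

lemma d_αnext_π : K.d n (n + 1) ≫ αnext hI s ≫ cokernel.π (dL hI s) = 0 := by
  rw [← Category.assoc, d_αnext, Category.assoc, cokernel.condition, comp_zero]

/-- The next comparison of opcycles. -/
noncomputable def γnext : K.opcycles (n + 1) ⟶ cokernel (dL hI s) :=
  K.descOpcycles (αnext hI s ≫ cokernel.π (dL hI s)) n (by simp) (d_αnext_π hI s)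

lemma p_γnext : K.pOpcycles (n + 1) ≫ γnext hI s = αnext hI s ≫ cokernel.π (dL hI s) :=
  K.p_descOpcycles _ _ _ _

instance : Mono (γnext hI s) := by
  apply Preadditive.mono_of_cancel_zero
  intro W x hx
  obtain ⟨W₁, π₁, _, x₁, hx₁⟩ := surjective_up_to_refinements_of_epi (K.pOpcycles (n + 1)) x
  have h1 : (x₁ ≫ αnext hI s) ≫ cokernel.π (dL hI s) = 0 := by
    rw [Category.assoc, ← p_γnext, ← reassoc_of% hx₁, hx, comp_zero]
  have hex : (ShortComplex.mk (dL hI s) (cokernel.π (dL hI s)) (cokernel.condition _)).Exact :=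
    ShortComplex.exact_of_g_is_cokernel _ (cokernelIsCokernel _)
  rw [ShortComplex.exact_iff_exact_up_to_refinements] at hex
  obtain ⟨W₂, π₂, _, y, hy⟩ := hex (x₁ ≫ αnext hI s) h1
  change π₂ ≫ x₁ ≫ αnext hI s = y ≫ dL hI s at hy
  have h2 : (y ≫ s.q) ≫ pushout.inl s.γ (K.fromOpcycles n (n + 1)) =
      (π₂ ≫ x₁) ≫ pushout.inr s.γ (K.fromOpcycles n (n + 1)) := by
    have := embι_mono' I hI (B s)
    refine (cancel_mono (embι I hI (B s))).mp ?_
    simp only [Category.assoc]
    exact hy.symm
  obtain ⟨W₃, π₃, _, z, hz1, hz2⟩ := pushout_refine (IsPushout.of_hasPushout _ _) _ _ h2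
  rw [← cancel_epi π₁, ← cancel_epi π₂, ← cancel_epi π₃, comp_zero, comp_zero, comp_zero, hx₁,
    ← Category.assoc π₂, ← Category.assoc π₃, hz2, Category.assoc]
  have : K.fromOpcycles n (n + 1) ≫ K.pOpcycles (n + 1) = 0 := by
    rw [← cancel_epi (K.pOpcycles n), K.p_fromOpcycles_assoc, K.d_pOpcycles, comp_zero]
  rw [this, comp_zero]

/-- The inductive step. -/
noncomputable def step : State I K (n + 1) where
  L := Lnext hI s
  hL := emb_mem I hI _
  α := αnext hI s
  hα := inferInstance
  R := cokernel (dL hI s)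
  q := cokernel.π (dL hI s)
  hq := inferInstance
  γ := γnext hI s
  hγ := inferInstance
  comm := (p_γnext hI s).symm

end step

variable (I K)

/-- The sequence of states. -/
noncomputable def st : ∀ n : ℕ, State I K n
  | 0 => init I hI K
  | n + 1 => step hI (st n)

/-- The resolution. -/
noncomputable def res : CochainComplex A ℕ :=
  CochainComplex.of (fun n => (st I hI K n).L) (fun n => dL hI (st I hI K n)) (fun n => by
    change dL hI (st I hI K n) ≫ (cokernel.π (dL hI (st I hI K n)) ≫ _) = 0
    rw [cokernel.condition_assoc, zero_comp])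

lemma res_X (n : ℕ) : (res I hI K).X n = (st I hI K n).L := rfl

lemma res_mem (n : ℕ) : I ((res I hI K).X n) := (st I hI K n).hL

lemma res_d (n : ℕ) : (res I hI K).d n (n + 1) = dL hI (st I hI K n) :=
  CochainComplex.of_d (fun n => (st I hI K n).L) (fun n => dL hI (st I hI K n)) n

/-- The comparison map. -/
noncomputable def resMap : K ⟶ res I hI K where
  f n := (st I hI K n).α
  comm' i j hij := by
    obtain rfl : i + 1 = j := hij
    rw [res_d]
    exact (d_αnext hI (st I hI K i)).symm

lemma resMap_f (n : ℕ) : (resMap I hI K).f n = (st I hI K n).α := rfl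

instance (n : ℕ) : Mono ((resMap I hI K).f n) := (st I hI K n).hα

/-! Wrappers with types expressed through `res`. -/

/-- The cokernel object at stage `n`. -/
noncomputable def resR (n : ℕ) : A := (st I hI K n).R

/-- The projection to the cokernel object. -/
noncomputable def resq (n : ℕ) : (res I hI K).X n ⟶ resR I hI K n := (st I hI K n).q

/-- The comparison of opcycles. -/
noncomputable def resγ (n : ℕ) : K.opcycles n ⟶ resR I hI K n := (st I hI K n).γ

instance (n : ℕ) : Mono (resγ I hI K n) := (st I hI K n).hγ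

instance (n : ℕ) : Epi (resq I hI K n) := (st I hI K n).hq

lemma resMap_f_q (n : ℕ) :
    (resMap I hI K).f n ≫ resq I hI K n = K.pOpcycles n ≫ resγ I hI K n :=
  (st I hI K n).comm

/-- The pushout object. -/
noncomputable def resB (n : ℕ) : A := pushout (resγ I hI K n) (K.fromOpcycles n (n + 1))

/-- The first pushout inclusion. -/
noncomputable def resinl (n : ℕ) : resR I hI K n ⟶ resB I hI K n :=
  pushout.inl (resγ I hI K n) (K.fromOpcycles n (n + 1))

/-- The second pushout inclusion. -/
noncomputable def resinr (n : ℕ) : K.X (n + 1) ⟶ resB I hI K n :=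
  pushout.inr (resγ I hI K n) (K.fromOpcycles n (n + 1))

lemma res_isPushout (n : ℕ) :
    IsPushout (resγ I hI K n) (K.fromOpcycles n (n + 1)) (resinl I hI K n) (resinr I hI K n) :=
  IsPushout.of_hasPushout _ _

/-- The embedding of the pushout into the next term. -/
noncomputable def resemb (n : ℕ) : resB I hI K n ⟶ (res I hI K).X (n + 1) :=
  embι I hI (B (st I hI K n))

instance (n : ℕ) : Mono (resemb I hI K n) := embι_mono' I hI (B (st I hI K n))

lemma res_d_eq (n : ℕ) :
    (res I hI K).d n (n + 1) = resq I hI K n ≫ resinl I hI K n ≫ resemb I hI K n :=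
  res_d I hI K n

lemma res_d_q (i n : ℕ) : (res I hI K).d i n ≫ resq I hI K n = 0 := by
  by_cases h : i + 1 = n
  · subst h
    rw [res_d]
    exact cokernel.condition _
  · rw [(res I hI K).shape i n h, zero_comp]

lemma exact_q (i n : ℕ) (hi : (ComplexShape.up ℕ).prev n = i) {W : A}
    (w : W ⟶ (res I hI K).X n) (hw : w ≫ resq I hI K n = 0) :
    ∃ (W' : A) (π : W' ⟶ W) (_ : Epi π) (y₁ : W' ⟶ (res I hI K).X i),
      π ≫ w = y₁ ≫ (res I hI K).d i n := by
  cases n with
  | zero =>
    refine ⟨W, 𝟙 W, inferInstance, 0, ?_⟩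
    have : w = 0 := by
      have h1 : w ≫ 𝟙 _ = 0 := hw
      rwa [Category.comp_id] at h1
    rw [this, comp_zero, zero_comp]
  | succ m =>
    obtain rfl : m = i := by
      rw [← hi]
      exact (CochainComplex.prev_nat_succ m).symm
    have hex : (ShortComplex.mk (dL hI (st I hI K m)) (cokernel.π (dL hI (st I hI K m)))
        (cokernel.condition _)).Exact :=
      ShortComplex.exact_of_g_is_cokernel _ (cokernelIsCokernel _)
    rw [ShortComplex.exact_iff_exact_up_to_refinements] at hex
    obtain ⟨W', π, hπ, y, hy⟩ := hex w hw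
    refine ⟨W', π, hπ, y, ?_⟩
    rw [res_d]
    exact hy

end Groth.Agent.H2.Resol
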