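import Mathlib
import Groth.Agent.Lib.Helper2.Resol1

/-!
# Right resolutions by a class of objects: the comparison map is a quasi-isomorphism
-/

namespace Groth.Agent.H2.Resol

open CategoryTheory CategoryTheory.Limits

universe v u

variable {A : Type u} [Category.{v} A] [Abelian A]
variable (I : A → Prop) (hI : ∀ X : A, ∃ (Y : A) (ι : X ⟶ Y), I Y ∧ Mono ι)
variable (K : CochainComplex A ℕ)

lemma mono_homologyMap (n : ℕ) :
    Mono (HomologicalComplex.homologyMap (resMap I hI K) n) := by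
  rw [HomologicalComplex.mono_homologyMap_iff_up_to_refinements (resMap I hI K)
    ((ComplexShape.up ℕ).prev n) n (n + 1) rfl (CochainComplex.next ℕ n)]
  intro W x₂ hx₂ y₁ hxy
  have h1 : x₂ ≫ K.pOpcycles n = 0 := by
    rw [← cancel_mono (resγ I hI K n), zero_comp, Category.assoc, ← resMap_f_q,
      reassoc_of% hxy, res_d_q, comp_zero]
  exact (K.comp_pOpcycles_eq_zero_iff_up_to_refinements x₂ _ rfl).mp h1

lemma epi_homologyMap (n : ℕ) :
    Epi (HomologicalComplex.homologyMap (resMap I hI K) n) := by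
  rw [HomologicalComplex.epi_homologyMap_iff_up_to_refinements (resMap I hI K)
    ((ComplexShape.up ℕ).prev n) n (n + 1) rfl (CochainComplex.next ℕ n)]
  intro W y₂ hy₂
  rw [res_d_eq] at hy₂
  have h2 : (y₂ ≫ resq I hI K n) ≫ resinl I hI K n =
      (0 : W ⟶ K.X (n + 1)) ≫ resinr I hI K n := by
    rw [← cancel_mono (resemb I hI K n)]
    simp only [Category.assoc, zero_comp]
    exact hy₂
  obtain ⟨W₁, π₁, _, z, hz1, hz2⟩ := pushout_refine (res_isPushout I hI K n) _ _ h2
  obtain ⟨W₂, π₂, _, x₂, hx₂⟩ := surjective_up_to_refinements_of_epi (K.pOpcycles n) z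
  have hx₂d : x₂ ≫ K.d n (n + 1) = 0 := by
    rw [← K.p_fromOpcycles n (n + 1), ← reassoc_of% hx₂, ← hz2, comp_zero, comp_zero]
  have hw : (π₂ ≫ π₁ ≫ y₂ - x₂ ≫ (resMap I hI K).f n) ≫ resq I hI K n = 0 := by
    rw [Preadditive.sub_comp, Category.assoc, Category.assoc, Category.assoc, hz1,
      resMap_f_q, ← reassoc_of% hx₂, sub_self]
  obtain ⟨W₃, π₃, _, y₁, hy₁⟩ := exact_q I hI K _ n rfl _ hw
  refine ⟨W₃, π₃ ≫ π₂ ≫ π₁, inferInstance, π₃ ≫ x₂, by rw [Category.assoc, hx₂d, comp_zero],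
    y₁, ?_⟩
  rw [← hy₁, Preadditive.comp_sub]
  simp only [Category.assoc]
  abel

instance quasiIso_resMap : QuasiIso (resMap I hI K) := by
  rw [quasiIso_iff]
  intro n
  rw [quasiIsoAt_iff_isIso_homologyMap]
  have := mono_homologyMap I hI K n
  have := epi_homologyMap I hI K n
  exact isIso_of_mono_of_epi _

end Groth.Agent.H2.Resol
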