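import Mathlib
import Groth.Agent.Lib.Helper2.Resol2

/-!
# Right resolutions by a class of objects: `ℤ`-indexed bounded below complexes
-/

namespace Groth.Agent.H2.Resol

open CategoryTheory CategoryTheory.Limits HomologicalComplex

universe v u

variable {A : Type u} [Category.{v} A] [Abelian A]

/-- Replace the objects of a complex by isomorphic ones. -/
noncomputable def replaceX {ι : Type*} {c : ComplexShape ι} (L : HomologicalComplex A c)
    (Y : ι → A) (e : ∀ i, L.X i ≅ Y i) : HomologicalComplex A c where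
  X := Y
  d i j := (e i).inv ≫ L.d i j ≫ (e j).hom
  shape i j h := by rw [L.shape i j h, zero_comp, comp_zero]
  d_comp_d' i j k _ _ := by simp

/-- The isomorphism to the complex with replaced objects. -/
noncomputable def replaceXIso {ι : Type*} {c : ComplexShape ι} (L : HomologicalComplex A c)
    (Y : ι → A) (e : ∀ i, L.X i ≅ Y i) : L ≅ replaceX L Y e :=
  HomologicalComplex.Hom.isoOfComponents e (fun i j _ => by simp [replaceX])

lemma mono_of_isZero_src {X Y : A} (f : X ⟶ Y) (hX : IsZero X) : Mono f :=
  ⟨fun _ _ _ => hX.eq_of_tgt _ _⟩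

section

variable (I : A → Prop) (hI : ∀ X : A, ∃ (Y : A) (ι : X ⟶ Y), I Y ∧ Mono ι)
variable (K : CochainComplex A ℤ) (a : ℤ) [K.IsStrictlyGE a]

lemma hasLift (L : CochainComplex A ℕ)
    (φ : K.restriction (ComplexShape.embeddingUpIntGE a) ⟶ L) :
    (ComplexShape.embeddingUpIntGE a).HasLift φ := by
  intro j hj i' hi'
  have hz : IsZero (K.X i') := by
    apply K.isZero_X_of_isStrictlySupported (ComplexShape.embeddingUpIntGE a)
    intro i hi
    exact hj.2 i (hi ▸ hi')
  rw [hz.eq_of_src (K.d i' _) 0, zero_comp]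

/-- The extension of the `ℕ`-indexed resolution. -/
noncomputable def resZ₁ : CochainComplex A ℤ :=
  (res I hI (K.restriction (ComplexShape.embeddingUpIntGE a))).extend
    (ComplexShape.embeddingUpIntGE a)

/-- The comparison map to the extension. -/
noncomputable def resZMap₁ : K ⟶ resZ₁ I hI K a :=
  (ComplexShape.embeddingUpIntGE a).liftExtend
    (resMap I hI (K.restriction (ComplexShape.embeddingUpIntGE a))) (hasLift K a _ _)

lemma mono_resZMap₁ (n : ℤ) : Mono ((resZMap₁ I hI K a).f n) := by
  by_cases hn : a ≤ n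
  · obtain ⟨k, rfl⟩ : ∃ k : ℕ, n = a + k := ⟨(n - a).toNat, by omega⟩
    have hk : (ComplexShape.embeddingUpIntGE a).f k = a + k := rfl
    unfold resZMap₁
    exact ((ComplexShape.embeddingUpIntGE a).mono_liftExtend_f_iff _ _ hk).mpr inferInstance
  · exact mono_of_isZero_src _ (K.isZero_of_isStrictlyGE a n (by omega))

lemma isIso_liftExtend_id :
    IsIso ((ComplexShape.embeddingUpIntGE a).liftExtend
      (𝟙 (K.restriction (ComplexShape.embeddingUpIntGE a))) (hasLift K a _ _)) := by
  apply (config := { allowSynthFailures := true }) HomologicalComplex.Hom.isIso_of_components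
  intro n
  by_cases hn : a ≤ n
  · obtain ⟨k, rfl⟩ : ∃ k : ℕ, n = a + k := ⟨(n - a).toNat, by omega⟩
    have hk : (ComplexShape.embeddingUpIntGE a).f k = a + k := rfl
    exact ((ComplexShape.embeddingUpIntGE a).isIso_liftExtend_f_iff _ _ hk).mpr inferInstance
  · have h1 : IsZero (K.X n) := K.isZero_of_isStrictlyGE a n (by omega)
    have h2 : IsZero (((K.restriction (ComplexShape.embeddingUpIntGE a)).extend
        (ComplexShape.embeddingUpIntGE a)).X n) := by
      apply isZero_extend_X
      intro i hi
      have : (ComplexShape.embeddingUpIntGE a).f i = a + i := rfl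
      omega
    exact ⟨⟨0, h1.eq_of_src _ _, h2.eq_of_src _ _⟩⟩

lemma resZMap₁_fac : resZMap₁ I hI K a =
    (ComplexShape.embeddingUpIntGE a).liftExtend
      (𝟙 (K.restriction (ComplexShape.embeddingUpIntGE a))) (hasLift K a _ _) ≫
      extendMap (resMap I hI (K.restriction (ComplexShape.embeddingUpIntGE a)))
        (ComplexShape.embeddingUpIntGE a) := by
  apply ((ComplexShape.embeddingUpIntGE a).homEquiv K _).injective
  ext : 1
  simp only [ComplexShape.Embedding.homEquiv_apply_coe]
  rw [(ComplexShape.embeddingUpIntGE a).homRestrict_comp_extendMap,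
    (ComplexShape.embeddingUpIntGE a).homRestrict_liftExtend, Category.id_comp]
  exact (ComplexShape.embeddingUpIntGE a).homRestrict_liftExtend _ _

lemma quasiIso_resZMap₁ : QuasiIso (resZMap₁ I hI K a) := by
  rw [resZMap₁_fac]
  have := isIso_liftExtend_id K a
  have h1 : QuasiIso ((ComplexShape.embeddingUpIntGE a).liftExtend
      (𝟙 (K.restriction (ComplexShape.embeddingUpIntGE a))) (hasLift K a _ _)) := inferInstance
  have h2 : QuasiIso (extendMap (resMap I hI (K.restriction (ComplexShape.embeddingUpIntGE a)))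
      (ComplexShape.embeddingUpIntGE a)) := inferInstance
  exact quasiIso_comp _ _ (hφ := h1) (hφ' := h2)

/-- The objects of the final resolution. -/
noncomputable def resZX (Z : A) (n : ℤ) : A :=
  if a ≤ n then (res I hI (K.restriction (ComplexShape.embeddingUpIntGE a))).X (n - a).toNat
  else Z

lemma resZX_mem (Z : A) (hZ : I Z) (n : ℤ) : I (resZX I hI K a Z n) := by
  unfold resZX
  split_ifs
  · exact res_mem I hI _ _
  · exact hZ

lemma isZero_resZX (Z : A) (hZ : IsZero Z) (n : ℤ) (hn : n < a) :
    IsZero (resZX I hI K a Z n) := by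
  unfold resZX
  rw [if_neg (by omega)]
  exact hZ

/-- The comparison of objects. -/
noncomputable def resZXIso (Z : A) (hZ : IsZero Z) (n : ℤ) :
    (resZ₁ I hI K a).X n ≅ resZX I hI K a Z n :=
  if hn : a ≤ n then
    (extendXIso _ (ComplexShape.embeddingUpIntGE a)
      (show (ComplexShape.embeddingUpIntGE a).f (n - a).toNat = n by
        change a + ((n - a).toNat : ℤ) = n
        omega)) ≪≫ eqToIso (by unfold resZX; rw [if_pos hn])
  else
    IsZero.iso (isZero_extend_X _ _ _ (fun i hi => by
      have : (ComplexShape.embeddingUpIntGE a).f i = a + i := rfl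
      omega)) (isZero_resZX I hI K a Z hZ n (by omega))

include hI in
theorem exists_resolution (hI0 : ∃ Z : A, IsZero Z ∧ I Z) :
    ∃ (L : CochainComplex A ℤ) (α : K ⟶ L), L.IsStrictlyGE a ∧ (∀ n, I (L.X n)) ∧
      (∀ n, Mono (α.f n)) ∧ QuasiIso α := by
  obtain ⟨Z, hZ, hIZ⟩ := hI0
  let ε := replaceXIso (resZ₁ I hI K a) (resZX I hI K a Z) (resZXIso I hI K a Z hZ)
  refine ⟨replaceX (resZ₁ I hI K a) (resZX I hI K a Z) (resZXIso I hI K a Z hZ),
    resZMap₁ I hI K a ≫ ε.hom, ?_, ?_, ?_, ?_⟩
  · rw [CochainComplex.isStrictlyGE_iff]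
    intro i hi
    exact isZero_resZX I hI K a Z hZ i hi
  · intro n
    exact resZX_mem I hI K a Z hIZ n
  · intro n
    have := mono_resZMap₁ I hI K a n
    rw [HomologicalComplex.comp_f]
    have : IsIso (ε.hom.f n) := inferInstance
    exact mono_comp _ _
  · have := quasiIso_resZMap₁ I hI K a
    infer_instance

end

end Groth.Agent.H2.Resol
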