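import Groth.Agent.Lib.Helper2.RDer2
import Groth.Agent.Lib.Helper2.Resol3
import Mathlib.Algebra.Homology.DerivedCategory.KInjective
import Mathlib.Algebra.Homology.HomotopyCategory.Acyclic
import Mathlib.Algebra.Homology.HomotopyCategory.Pretriangulated

/-!
# Objects of an adapted class are right acyclic
-/

universe w w' v v' u u'

open CategoryTheory CategoryTheory.Limits

namespace Groth.Agent.H2.RDer

open ZeroObject

section general

variable {A : Type u} [Category.{v} A] [Abelian A]

/-- A morphism of cochain complexes is a quasi-isomorphism iff its mapping cone is acyclic. -/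
lemma quasiIso_iff_mappingCone_exactAt {K L : CochainComplex A ℤ} (f : K ⟶ L) :
    QuasiIso f ↔ ∀ n, (CochainComplex.mappingCone f).ExactAt n := by
  have h1 : HomotopyCategory.quasiIso A (ComplexShape.up ℤ)
      ((HomotopyCategory.quotient A (ComplexShape.up ℤ)).map f) ↔ QuasiIso f := by
    rw [HomotopyCategory.quotient_map_mem_quasiIso_iff]
    exact HomologicalComplex.mem_quasiIso_iff f
  have key := (HomotopyCategory.subcategoryAcyclic A).trW_iff_of_distinguished _
    (HomotopyCategory.mappingCone_triangleh_distinguished f)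
  have key' : (HomotopyCategory.subcategoryAcyclic A).trW
      ((HomotopyCategory.quotient A (ComplexShape.up ℤ)).map f) ↔
      HomotopyCategory.subcategoryAcyclic A
        ((HomotopyCategory.quotient A (ComplexShape.up ℤ)).obj (CochainComplex.mappingCone f)) :=
    key
  rw [← h1, HomotopyCategory.quasiIso_eq_trW_subcategoryAcyclic, key']
  exact HomotopyCategory.quotient_obj_mem_subcategoryAcyclic_iff_exactAt _

attribute [local instance] HasDerivedCategory.standard in
/-- A quasi-isomorphism from a K-injective complex has a retraction up to homotopy. -/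
lemma exists_retraction_of_quasiIso {J Y : CochainComplex A ℤ} [J.IsKInjective] (u : J ⟶ Y)
    [QuasiIso u] : ∃ r : Y ⟶ J, Nonempty (Homotopy (u ≫ r) (𝟙 J)) := by
  have hiso : IsIso (DerivedCategory.Qh.map
      ((HomotopyCategory.quotient A (ComplexShape.up ℤ)).map u)) := by
    have : IsIso (DerivedCategory.Q.map u) := inferInstance
    exact (NatIso.isIso_map_iff (DerivedCategory.quotientCompQhIso A) u).2 this
  obtain ⟨r, hr⟩ := (CochainComplex.IsKInjective.Qh_map_bijective
    ((HomotopyCategory.quotient A (ComplexShape.up ℤ)).obj Y) J).surjective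
    (inv (DerivedCategory.Qh.map ((HomotopyCategory.quotient A (ComplexShape.up ℤ)).map u)))
  obtain ⟨r', rfl⟩ := (HomotopyCategory.quotient A (ComplexShape.up ℤ)).map_surjective r
  have h : (HomotopyCategory.quotient A (ComplexShape.up ℤ)).map (u ≫ r') =
      (HomotopyCategory.quotient A (ComplexShape.up ℤ)).map (𝟙 J) :=
    (CochainComplex.IsKInjective.Qh_map_bijective _ J).injective (by
      rw [Functor.map_comp, Functor.map_comp, hr, IsIso.hom_inv_id,
        CategoryTheory.Functor.map_id, CategoryTheory.Functor.map_id])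
  exact ⟨r', ⟨HomotopyCategory.homotopyOfEq _ _ h⟩⟩

lemma biprod_iso_of_isZero_left {P Q : A} (hP : IsZero P) : Nonempty (P ⊞ Q ≅ Q) :=
  ⟨{ hom := biprod.snd
     inv := biprod.inr
     hom_inv_id := by
       apply biprod.hom_ext
       · exact hP.eq_of_tgt _ _
       · simp
     inv_hom_id := by simp }⟩

lemma biprod_iso_of_isZero_right {P Q : A} (hQ : IsZero Q) : Nonempty (P ⊞ Q ≅ P) :=
  ⟨{ hom := biprod.fst
     inv := biprod.inl
     hom_inv_id := by
       apply biprod.hom_ext
       · simp
       · exact hQ.eq_of_tgt _ _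
     inv_hom_id := by simp }⟩

end general

section adapted

variable {A : Type u} [Category.{v} A] [Abelian A]
  {B : Type u'} [Category.{v'} B] [Abelian B]
  (F : A ⥤ B) [F.Additive] (I : ObjectProperty A)
  (h2 : ∀ S : ShortComplex A, S.ShortExact → I S.X₁ → I S.X₂ → I S.X₃ ∧ (S.map F).ShortExact)

include h2

/-- `F` maps a resolution of an object of `I` by objects of `I` to a resolution. -/
theorem quasiIso_map_of_resolution (h0 : I (0 : A)) {X : A} (hX : I X)
    (Y : CochainComplex A ℤ) [Y.IsStrictlyGE 0] (hY : ∀ n, I (Y.X n))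
    (y : (CochainComplex.singleFunctor A 0).obj X ⟶ Y) [QuasiIso y] :
    QuasiIso ((F.mapHomologicalComplex (ComplexShape.up ℤ)).map y) := by
  rw [quasiIso_iff_mappingCone_exactAt]
  intro n
  have hC := (quasiIso_iff_mappingCone_exactAt y).1 inferInstance
  haveI : ((CochainComplex.singleFunctor A 0).obj X).IsStrictlyGE 0 := by
    rw [CochainComplex.isStrictlyGE_iff]
    intro i hi
    exact HomologicalComplex.isZero_single_obj_X _ _ _ _ (by omega)
  haveI : (CochainComplex.mappingCone y).IsStrictlyGE (-1) :=
    CochainComplex.isStrictlyGE_mappingCone y 0 0 (-1) (by omega) (by omega)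
  have hCI : ∀ n, I ((CochainComplex.mappingCone y).X n) := by
    intro n
    have e := HomologicalComplex.homotopyCofiber.XIsoBiprod y n (n + 1) (by simp)
    by_cases hn : n + 1 = 0
    · have hz : IsZero (Y.X n) := Y.isZero_of_isStrictlyGE 0 n (by omega)
      obtain ⟨e'⟩ := biprod_iso_of_isZero_right
        (P := ((CochainComplex.singleFunctor A 0).obj X).X (n + 1)) hz
      exact I_of_iso F I h2 h0 ((HomologicalComplex.singleObjXIsoOfEq (ComplexShape.up ℤ) 0 X
        (n + 1) hn).symm ≪≫ e'.symm ≪≫ e.symm) hX
    · have hz : IsZero (((CochainComplex.singleFunctor A 0).obj X).X (n + 1)) :=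
        HomologicalComplex.isZero_single_obj_X _ _ _ _ hn
      obtain ⟨e'⟩ := biprod_iso_of_isZero_left (Q := Y.X n) hz
      exact I_of_iso F I h2 h0 (e'.symm ≪≫ e.symm) (hY n)
  have := exactAt_map_of_acyclic F I h2 (CochainComplex.mappingCone y) (-1) hC hCI h0 n
  exact this.of_iso (CochainComplex.mappingCone.mapHomologicalComplexIso y F)

/-- Objects of an adapted class are right acyclic: `F` maps an injective resolution of such an
object to a quasi-isomorphism. -/
theorem quasiIso_map_injectiveResolution
    (h1 : ∀ X : A, ∃ (Y : A) (ι : X ⟶ Y), I Y ∧ Mono ι) {X : A} (hX : I X)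
    (R : InjectiveResolution X) :
    QuasiIso ((F.mapHomologicalComplex (ComplexShape.up ℤ)).map R.ι') := by
  have h0 : I (0 : A) := I_zero F I h2 hX
  obtain ⟨Y, u, hY, hYI, _, huq⟩ := Resol.exists_resolution I h1 R.cochainComplex 0
    ⟨0, isZero_zero A, h0⟩
  haveI : CochainComplex.IsKInjective R.cochainComplex :=
    CochainComplex.isKInjective_of_injective _ 0
  obtain ⟨r, ⟨hr⟩⟩ := exists_retraction_of_quasiIso u
  have hFy : QuasiIso ((F.mapHomologicalComplex (ComplexShape.up ℤ)).map (R.ι' ≫ u)) :=
    quasiIso_map_of_resolution F I h2 h0 hX Y hYI (R.ι' ≫ u)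
  rw [quasiIso_iff]
  intro n
  rw [quasiIsoAt_iff_isIso_homologyMap]
  have e1 : HomologicalComplex.homologyMap
      ((F.mapHomologicalComplex (ComplexShape.up ℤ)).map u) n ≫
      HomologicalComplex.homologyMap ((F.mapHomologicalComplex (ComplexShape.up ℤ)).map r) n =
      𝟙 _ := by
    rw [← HomologicalComplex.homologyMap_comp, ← Functor.map_comp,
      (F.mapHomotopy hr).homologyMap_eq n, CategoryTheory.Functor.map_id,
      HomologicalComplex.homologyMap_id]
  have e2 : HomologicalComplex.homologyMap
      ((F.mapHomologicalComplex (ComplexShape.up ℤ)).map R.ι') n ≫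
      HomologicalComplex.homologyMap ((F.mapHomologicalComplex (ComplexShape.up ℤ)).map u) n =
      HomologicalComplex.homologyMap
        ((F.mapHomologicalComplex (ComplexShape.up ℤ)).map (R.ι' ≫ u)) n := by
    rw [← HomologicalComplex.homologyMap_comp, ← Functor.map_comp]
  have h3 : IsIso (HomologicalComplex.homologyMap
      ((F.mapHomologicalComplex (ComplexShape.up ℤ)).map (R.ι' ≫ u)) n) := by
    rw [← quasiIsoAt_iff_isIso_homologyMap]
    infer_instance
  haveI : Mono (HomologicalComplex.homologyMap
      ((F.mapHomologicalComplex (ComplexShape.up ℤ)).map u) n) := mono_of_mono_fac e1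
  haveI : Epi (HomologicalComplex.homologyMap
      ((F.mapHomologicalComplex (ComplexShape.up ℤ)).map u) n) := by
    rw [← e2] at h3
    exact epi_of_epi (HomologicalComplex.homologyMap
      ((F.mapHomologicalComplex (ComplexShape.up ℤ)).map R.ι') n) _
  haveI : IsIso (HomologicalComplex.homologyMap
      ((F.mapHomologicalComplex (ComplexShape.up ℤ)).map u) n) := isIso_of_mono_of_epi _
  rw [← e2] at h3
  exact IsIso.of_isIso_comp_right _ (HomologicalComplex.homologyMap
      ((F.mapHomologicalComplex (ComplexShape.up ℤ)).map u) n)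

end adapted

end Groth.Agent.H2.RDer
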