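import Groth.Agent.Lib.Helper2.KInjProd
import Groth.Agent.Lib.Helper2.Resol3

/-!
# Products of bounded below objects in the derived category
-/

namespace Groth.Agent.H2.DProd

open CategoryTheory Limits DerivedCategory CochainComplex

universe w v u
variable {A : Type u} [Category.{v} A] [Abelian A] [HasDerivedCategory.{w} A]

/-- Morphisms in the derived category to a K-injective complex come from morphisms of complexes. -/
lemma exists_Q_map_eq {M I : CochainComplex A ℤ} [I.IsKInjective] (φ : Q.obj M ⟶ Q.obj I) :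
    ∃ g : M ⟶ I, Q.map g = φ := by
  obtain ⟨ψ, hψ⟩ := (IsKInjective.Qh_map_bijective
    ((HomotopyCategory.quotient A (ComplexShape.up ℤ)).obj M) I).2
    ((quotientCompQhIso A).hom.app M ≫ φ ≫ (quotientCompQhIso A).inv.app I)
  obtain ⟨g, rfl⟩ := (HomotopyCategory.quotient _ _).map_surjective ψ
  refine ⟨g, ?_⟩
  rw [← cancel_epi ((quotientCompQhIso A).hom.app M), ← quotientCompQhIso_hom_naturality, hψ]
  simp

/-- A morphism to a K-injective complex which vanishes in the derived category is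
null-homotopic. -/
lemma nonempty_homotopy_zero_of_Q_map_eq_zero {M I : CochainComplex A ℤ} [I.IsKInjective]
    (g : M ⟶ I) (hg : Q.map g = 0) : Nonempty (Homotopy g 0) := by
  have h : Qh.map ((HomotopyCategory.quotient A (ComplexShape.up ℤ)).map g) =
      Qh.map ((HomotopyCategory.quotient A (ComplexShape.up ℤ)).map 0) := by
    rw [← cancel_mono ((quotientCompQhIso A).hom.app I), quotientCompQhIso_hom_naturality,
      quotientCompQhIso_hom_naturality, hg, Q.map_zero]
  exact ⟨HomotopyCategory.homotopyOfEq _ _ ((IsKInjective.Qh_map_bijective _ I).1 h)⟩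

variable {J : Type*} (I : J → CochainComplex A ℤ) [HasProduct I] [∀ j, (I j).IsKInjective]

lemma exists_lift {M : CochainComplex A ℤ} (φ : ∀ j, Q.obj M ⟶ Q.obj (I j)) :
    ∃ ψ : Q.obj M ⟶ Q.obj (∏ᶜ I), ∀ j, ψ ≫ Q.map (Pi.π I j) = φ j := by
  choose g hg using fun j => exists_Q_map_eq (φ j)
  exact ⟨Q.map (Pi.lift g), fun j => by rw [← Q.map_comp, Pi.lift_π, hg]⟩

lemma eq_zero_of_comp_π_eq_zero {M : CochainComplex A ℤ} (ψ : Q.obj M ⟶ Q.obj (∏ᶜ I))
    (hψ : ∀ j, ψ ≫ Q.map (Pi.π I j) = 0) : ψ = 0 := by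
  have : (∏ᶜ I).IsKInjective := KInjProd.isKInjective_pi I inferInstance
  obtain ⟨g, rfl⟩ := exists_Q_map_eq ψ
  have hfac := fun j => KInjProd.exists_factor_cone (g ≫ Pi.π I j)
    (nonempty_homotopy_zero_of_Q_map_eq_zero (g ≫ Pi.π I j) (by
      rw [Q.map_comp]
      exact hψ j)).some
  choose u hu using hfac
  have hg : g = mappingCone.inr (𝟙 M) ≫ Pi.lift u := by
    apply Pi.hom_ext
    intro j
    rw [Category.assoc, Pi.lift_π, hu]
  rw [hg, Q_map_eq_of_homotopy _ (KInjProd.homotopyZeroOfFactorsCone _), Q.map_zero]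

/-- the image in the derived category of a product of K-injective complexes is a product -/
noncomputable def isLimitFan :
    IsLimit (Fan.mk (Q.obj (∏ᶜ I)) (fun j => Q.map (Pi.π I j))) := by
  have hex : ∀ (T : DerivedCategory A) (φ : ∀ j, T ⟶ Q.obj (I j)),
      ∃ ψ : T ⟶ Q.obj (∏ᶜ I), ∀ j, ψ ≫ Q.map (Pi.π I j) = φ j := by
    intro T φ
    let e : Q.obj (Q.objPreimage T) ≅ T := Q.objObjPreimageIso T
    obtain ⟨ψ, hψ⟩ := exists_lift I (fun j => e.hom ≫ φ j)
    exact ⟨e.inv ≫ ψ, fun j => by rw [Category.assoc, hψ, Iso.inv_hom_id_assoc]⟩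
  have huniq : ∀ (T : DerivedCategory A) (m m' : T ⟶ Q.obj (∏ᶜ I)),
      (∀ j, m ≫ Q.map (Pi.π I j) = m' ≫ Q.map (Pi.π I j)) → m = m' := by
    intro T m m' h
    let e : Q.obj (Q.objPreimage T) ≅ T := Q.objObjPreimageIso T
    have h0 : e.hom ≫ (m - m') = 0 := by
      apply eq_zero_of_comp_π_eq_zero I
      intro j
      rw [Category.assoc, Preadditive.sub_comp, h j, sub_self, comp_zero]
    have h1 : m - m' = 0 := by
      rw [← cancel_epi e.hom, h0, comp_zero]
    exact sub_eq_zero.1 h1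
  exact mkFanLimit _ (fun t => (hex t.pt t.proj).choose)
    (fun t j => (hex t.pt t.proj).choose_spec j)
    (fun t m hm => huniq _ _ _ (fun j => by
      rw [(hex t.pt t.proj).choose_spec j]
      exact hm j))

omit [HasDerivedCategory.{w} A] in
/-- bounded below objects of the derived category are represented by K-injective complexes -/
lemma exists_kInjective_iso [HasDerivedCategory.{w} A] [EnoughInjectives A]
    (X : DerivedCategory A) (a : ℤ) [X.IsGE a] :
    ∃ (I : CochainComplex A ℤ), I.IsKInjective ∧ Nonempty (Q.obj I ≅ X) := by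
  obtain ⟨M, hM, ⟨e⟩⟩ := X.exists_iso_Q_obj_of_isGE a
  obtain ⟨Z, hZ⟩ := HasZeroObject.zero (C := A)
  have hZinj : Injective Z := ⟨fun {X Y} g f _ => ⟨0, hZ.eq_of_tgt _ _⟩⟩
  obtain ⟨L, α, hL, hLI, -, hα⟩ := Resol.exists_resolution (fun Y : A => Injective Y)
    (fun Y => ⟨Injective.under Y, Injective.ι Y, inferInstance, inferInstance⟩) M a
    ⟨Z, hZ, hZinj⟩
  have : ∀ n, Injective (L.X n) := hLI
  have : IsIso (Q.map α) := (isIso_Q_map_iff_quasiIso _ α).2 hα
  exact ⟨L, isKInjective_of_injective L a, ⟨(asIso (Q.map α)).symm ≪≫ e.symm⟩⟩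

theorem hasProduct_of_isGE [EnoughInjectives A] {J : Type*} [HasLimitsOfShape (Discrete J) A]
    (K : J → DerivedCategory A) (hK : ∀ j, ∃ a : ℤ, (K j).IsGE a) : HasProduct K := by
  have h : ∀ j, ∃ (I : CochainComplex A ℤ), I.IsKInjective ∧ Nonempty (Q.obj I ≅ K j) := by
    intro j
    obtain ⟨a, ha⟩ := hK j
    exact exists_kInjective_iso (K j) a
  choose I hI e using h
  have : HasLimit (Discrete.functor (fun j => Q.obj (I j))) := ⟨⟨⟨_, isLimitFan I⟩⟩⟩
  have iso : Discrete.functor K ≅ Discrete.functor (fun j => Q.obj (I j)) :=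
    Discrete.natIso (fun ⟨j⟩ => (e j).some.symm)
  exact hasLimit_of_iso iso.symm

end Groth.Agent.H2.DProd
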