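import Mathlib.Algebra.Homology.DerivedCategory.KInjective
import Mathlib.CategoryTheory.Functor.Derived.PointwiseRightDerived
import Mathlib.CategoryTheory.Functor.Derived.RightDerived

/-!
# Right derived functors from K-injective resolutions
-/

universe w v v' u u'

open CategoryTheory CategoryTheory.Limits

namespace Groth.Agent.H2.KInjDer

variable {A : Type u} [Category.{v} A] [Abelian A] [HasDerivedCategory.{w} A]
variable {H : Type u'} [Category.{v'} H]
  (F : HomotopyCategory A (ComplexShape.up ℤ) ⥤ H)

/-- For a K-injective complex `I`, the identity is a terminal object of the category of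
objects of `K(A)` over `I` in `D(A)`. -/
noncomputable def isTerminalMkId (I : CochainComplex A ℤ) [I.IsKInjective] :
    IsTerminal (CostructuredArrow.mk
      (𝟙 (DerivedCategory.Qh.obj ((HomotopyCategory.quotient A (ComplexShape.up ℤ)).obj I))) :
      CostructuredArrow DerivedCategory.Qh
        (DerivedCategory.Qh.obj ((HomotopyCategory.quotient A (ComplexShape.up ℤ)).obj I))) := by
  have hbij := fun K => CochainComplex.IsKInjective.Qh_map_bijective K I
  have hg : ∀ X : CostructuredArrow DerivedCategory.Qh
      (DerivedCategory.Qh.obj ((HomotopyCategory.quotient A (ComplexShape.up ℤ)).obj I)),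
      ∃ g : X.left ⟶ (HomotopyCategory.quotient A (ComplexShape.up ℤ)).obj I,
        DerivedCategory.Qh.map g = X.hom := fun X => (hbij X.left).2 X.hom
  choose g hg using hg
  refine IsTerminal.ofUniqueHom
    (fun X => CostructuredArrow.homMk (g X) ?_) ?_
  · dsimp
    rw [hg, Category.comp_id]
  · intro X m
    apply CostructuredArrow.hom_ext
    change m.left = g X
    apply (hbij X.left).1
    rw [hg]
    have := CostructuredArrow.w m
    dsimp at this
    rw [Category.comp_id] at this
    exact this

lemma hasPointwiseAt_of_isKInjective (I : CochainComplex A ℤ) [I.IsKInjective] :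
    F.HasPointwiseRightDerivedFunctorAt (HomotopyCategory.quasiIso A (ComplexShape.up ℤ))
      ((HomotopyCategory.quotient A (ComplexShape.up ℤ)).obj I) := by
  rw [F.hasPointwiseRightDerivedFunctorAt_iff DerivedCategory.Qh
    (HomotopyCategory.quasiIso A (ComplexShape.up ℤ))]
  exact ⟨⟨_, colimitOfDiagramTerminal (isTerminalMkId I) _⟩⟩

lemma hasPointwise
    (hKinj : ∀ K : CochainComplex A ℤ, ∃ (I : CochainComplex A ℤ) (f : K ⟶ I),
      I.IsKInjective ∧ QuasiIso f) :
    F.HasPointwiseRightDerivedFunctor (HomotopyCategory.quasiIso A (ComplexShape.up ℤ)) := by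
  intro K'
  obtain ⟨K, rfl⟩ := HomotopyCategory.quotient_obj_surjective K'
  obtain ⟨I, f, hI, hf⟩ := hKinj K
  rw [F.hasPointwiseRightDerivedFunctorAt_iff_of_mem
    (HomotopyCategory.quasiIso A (ComplexShape.up ℤ))
    ((HomotopyCategory.quotient A (ComplexShape.up ℤ)).map f)
    ((HomotopyCategory.quotient_map_mem_quasiIso_iff f).2 hf)]
  exact hasPointwiseAt_of_isKInjective F I

lemma isIso_unit_of_isKInjective
    (hKinj : ∀ K : CochainComplex A ℤ, ∃ (I : CochainComplex A ℤ) (f : K ⟶ I),
      I.IsKInjective ∧ QuasiIso f)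
    [F.HasRightDerivedFunctor (HomotopyCategory.quasiIso A (ComplexShape.up ℤ))]
    (I : CochainComplex A ℤ) (hI : I.IsKInjective) :
    IsIso ((F.totalRightDerivedUnit DerivedCategory.Qh
      (HomotopyCategory.quasiIso A (ComplexShape.up ℤ))).app
        ((HomotopyCategory.quotient A (ComplexShape.up ℤ)).obj I)) := by
  haveI := hasPointwise F hKinj
  have hpw := Functor.isPointwiseLeftKanExtensionOfHasPointwiseRightDerivedFunctor
    (HomotopyCategory.quasiIso A (ComplexShape.up ℤ))
    (F' := F.totalRightDerived DerivedCategory.Qh (HomotopyCategory.quasiIso A (ComplexShape.up ℤ)))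
    (α := F.totalRightDerivedUnit DerivedCategory.Qh
      (HomotopyCategory.quasiIso A (ComplexShape.up ℤ)))
  have h1 := (hpw (DerivedCategory.Qh.obj
    ((HomotopyCategory.quotient A (ComplexShape.up ℤ)).obj I))).isIso_ι_app_of_isTerminal _
      (isTerminalMkId I)
  rw [Functor.LeftExtension.coconeAt_ι_app] at h1
  dsimp at h1
  rw [CategoryTheory.Functor.map_id, Category.comp_id] at h1
  exact h1

end Groth.Agent.H2.KInjDer
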