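import Mathlib

/-!
# Mapping cones of short exact sequences of complexes of modules
-/

open CategoryTheory CategoryTheory.Limits CochainComplex HomologicalComplex
  CochainComplex.HomComplex

universe u

namespace Groth.Agent.H2.Kos

section general

variable {C : Type*} [Category C] [Preadditive C] [HasBinaryBiproducts C]
variable {F₁ G₁ F₂ G₂ : CochainComplex C ℤ} (φ₁ : F₁ ⟶ G₁) (φ₂ : F₂ ⟶ G₂) (a : F₁ ⟶ F₂)
  (b : G₁ ⟶ G₂) (comm : φ₁ ≫ b = a ≫ φ₂)

lemma inl_v_map_f (m n : ℤ) (h : m + (-1) = n) :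
    (mappingCone.inl φ₁).v m n h ≫ (mappingCone.map φ₁ φ₂ a b comm).f n =
      a.f m ≫ (mappingCone.inl φ₂).v m n h := by
  simp [mappingCone.map]

lemma inr_f_map_f (n : ℤ) :
    (mappingCone.inr φ₁).f n ≫ (mappingCone.map φ₁ φ₂ a b comm).f n =
      b.f n ≫ (mappingCone.inr φ₂).f n := by
  simp [mappingCone.map]

lemma map_f_fst_v (n m : ℤ) (h : n + 1 = m) :
    (mappingCone.map φ₁ φ₂ a b comm).f n ≫ (mappingCone.fst φ₂).1.v n m h =
      (mappingCone.fst φ₁).1.v n m h ≫ a.f m := by
  rw [mappingCone.ext_from_iff _ m n h]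
  constructor
  · simp [mappingCone.map]
  · simp [mappingCone.map]

lemma map_f_snd_v (n : ℤ) :
    (mappingCone.map φ₁ φ₂ a b comm).f n ≫ (mappingCone.snd φ₂).v n n (add_zero n) =
      (mappingCone.snd φ₁).v n n (add_zero n) ≫ b.f n := by
  rw [mappingCone.ext_from_iff _ (n + 1) n rfl]
  constructor
  · simp [mappingCone.map]
  · simp [mappingCone.map]

lemma map_zero_zero (h : φ₁ ≫ (0 : G₁ ⟶ G₂) = (0 : F₁ ⟶ F₂) ≫ φ₂) :
    mappingCone.map φ₁ φ₂ 0 0 h = 0 := by
  ext n
  simp [mappingCone.ext_from_iff _ (n + 1) n rfl, mappingCone.map]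

end general

section modules

variable {A : Type u} [Ring A]
variable {F G : CochainComplex (ModuleCat.{u} A) ℤ} (φ : F ⟶ G)

lemma decomp (n : ℤ) (x : (mappingCone φ).X n) :
    x = ((mappingCone.inl φ).v (n + 1) n (by omega)).hom
          (((mappingCone.fst φ).1.v n (n + 1) rfl).hom x) +
        ((mappingCone.inr φ).f n).hom (((mappingCone.snd φ).v n n (add_zero n)).hom x) := by
  have := congrArg (fun f => f.hom x) (mappingCone.id_X φ n (n + 1) rfl)
  simpa using this.symm

end modules

section cone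

variable {A : Type u} [Ring A]

/-- The short complex of mapping cones attached to a morphism of short complexes of complexes. -/
noncomputable def coneSC {S T : ShortComplex (CochainComplex (ModuleCat.{u} A) ℤ)} (φ : S ⟶ T) :
    ShortComplex (CochainComplex (ModuleCat.{u} A) ℤ) :=
  ShortComplex.mk (mappingCone.map φ.τ₁ φ.τ₂ S.f T.f φ.comm₁₂)
    (mappingCone.map φ.τ₂ φ.τ₃ S.g T.g φ.comm₂₃) (by
      rw [← mappingCone.map_comp]
      have h1 : S.f ≫ S.g = 0 := S.zero
      have h2 : T.f ≫ T.g = 0 := T.zero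
      simp only [h1, h2]
      exact map_zero_zero _ _ _)

lemma shortExact_degree {S : ShortComplex (CochainComplex (ModuleCat.{u} A) ℤ)} (hS : S.ShortExact)
    (n : ℤ) : Function.Injective (S.f.f n).hom ∧ Function.Surjective (S.g.f n).hom ∧
      ∀ y : S.X₂.X n, (S.g.f n).hom y = 0 → ∃ x : S.X₁.X n, (S.f.f n).hom x = y := by
  have h := hS.map_of_exact (HomologicalComplex.eval (ModuleCat.{u} A) (ComplexShape.up ℤ) n)
  refine ⟨?_, ?_, ?_⟩
  · have := h.mono_f
    exact (ModuleCat.mono_iff_injective _).mp this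
  · have := h.epi_g
    exact (ModuleCat.epi_iff_surjective _).mp this
  · exact (ShortComplex.moduleCat_exact_iff _).mp h.exact

lemma shortExact_of_degree (S : ShortComplex (CochainComplex (ModuleCat.{u} A) ℤ))
    (h : ∀ n : ℤ, Function.Injective (S.f.f n).hom ∧ Function.Surjective (S.g.f n).hom ∧
      ∀ y : S.X₂.X n, (S.g.f n).hom y = 0 → ∃ x : S.X₁.X n, (S.f.f n).hom x = y) :
    S.ShortExact := by
  apply HomologicalComplex.shortExact_of_degreewise_shortExact
  intro n
  obtain ⟨h1, h2, h3⟩ := h n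
  exact
    { exact := (ShortComplex.moduleCat_exact_iff _).mpr h3
      mono_f := (ModuleCat.mono_iff_injective _).mpr h1
      epi_g := (ModuleCat.epi_iff_surjective _).mpr h2 }

end cone

end Groth.Agent.H2.Kos
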