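import Mathlib
import Groth.Agent.Lib.Helper2.Kos1

/-!
# Mapping cones of short exact sequences of complexes of modules are short exact
-/

open CategoryTheory CategoryTheory.Limits CochainComplex HomologicalComplex
  CochainComplex.HomComplex

universe u

namespace Groth.Agent.H2.Kos

variable {A : Type u} [Ring A]

section elt

variable {F₁ G₁ F₂ G₂ : CochainComplex (ModuleCat.{u} A) ℤ} (φ₁ : F₁ ⟶ G₁) (φ₂ : F₂ ⟶ G₂)
  (a : F₁ ⟶ F₂) (b : G₁ ⟶ G₂) (comm : φ₁ ≫ b = a ≫ φ₂)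

lemma map_inl_apply (n : ℤ) (u : F₁.X (n + 1)) :
    ((mappingCone.map φ₁ φ₂ a b comm).f n).hom
        (((mappingCone.inl φ₁).v (n + 1) n (by omega)).hom u) =
      ((mappingCone.inl φ₂).v (n + 1) n (by omega)).hom ((a.f (n + 1)).hom u) := by
  have := congrArg (fun f => f.hom u) (inl_v_map_f φ₁ φ₂ a b comm (n + 1) n (by omega))
  simpa using this

lemma map_inr_apply (n : ℤ) (v : G₁.X n) :
    ((mappingCone.map φ₁ φ₂ a b comm).f n).hom (((mappingCone.inr φ₁).f n).hom v) =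
      ((mappingCone.inr φ₂).f n).hom ((b.f n).hom v) := by
  have := congrArg (fun f => f.hom v) (inr_f_map_f φ₁ φ₂ a b comm n)
  simpa using this

lemma fst_map_apply (n : ℤ) (x : (mappingCone φ₁).X n) :
    ((mappingCone.fst φ₂).1.v n (n + 1) rfl).hom (((mappingCone.map φ₁ φ₂ a b comm).f n).hom x) =
      (a.f (n + 1)).hom (((mappingCone.fst φ₁).1.v n (n + 1) rfl).hom x) := by
  have := congrArg (fun f => f.hom x) (map_f_fst_v φ₁ φ₂ a b comm n (n + 1) rfl)
  simpa using this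

lemma snd_map_apply (n : ℤ) (x : (mappingCone φ₁).X n) :
    ((mappingCone.snd φ₂).v n n (add_zero n)).hom (((mappingCone.map φ₁ φ₂ a b comm).f n).hom x) =
      (b.f n).hom (((mappingCone.snd φ₁).v n n (add_zero n)).hom x) := by
  have := congrArg (fun f => f.hom x) (map_f_snd_v φ₁ φ₂ a b comm n)
  simpa using this

end elt

theorem coneSC_shortExact {S T : ShortComplex (CochainComplex (ModuleCat.{u} A) ℤ)} (φ : S ⟶ T)
    (hS : S.ShortExact) (hT : T.ShortExact) : (coneSC φ).ShortExact := by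
  apply shortExact_of_degree
  intro n
  obtain ⟨hS1, hS2, hS3⟩ := shortExact_degree hS (n + 1)
  obtain ⟨hT1, hT2, hT3⟩ := shortExact_degree hT n
  refine ⟨?_, ?_, ?_⟩
  · -- injective
    rw [injective_iff_map_eq_zero]
    intro x hx
    have h1 := fst_map_apply φ.τ₁ φ.τ₂ S.f T.f φ.comm₁₂ n x
    have h2 := snd_map_apply φ.τ₁ φ.τ₂ S.f T.f φ.comm₁₂ n x
    change ((mappingCone.map φ.τ₁ φ.τ₂ S.f T.f φ.comm₁₂).f n).hom x = 0 at hx
    rw [hx, map_zero] at h1 h2
    have h1' := hS1 (h1.symm.trans (map_zero _).symm)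
    have h2' := hT1 (h2.symm.trans (map_zero _).symm)
    have hx0 := decomp φ.τ₁ n x
    rw [h1', h2', map_zero, map_zero, add_zero] at hx0
    exact hx0
  · -- surjective
    intro y
    obtain ⟨u, hu⟩ := hS2 (((mappingCone.fst φ.τ₃).1.v n (n + 1) rfl).hom y)
    obtain ⟨v, hv⟩ := hT2 (((mappingCone.snd φ.τ₃).v n n (add_zero n)).hom y)
    refine ⟨((mappingCone.inl φ.τ₂).v (n + 1) n (by omega)).hom u +
      ((mappingCone.inr φ.τ₂).f n).hom v, ?_⟩
    change ((mappingCone.map φ.τ₂ φ.τ₃ S.g T.g φ.comm₂₃).f n).hom _ = y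
    rw [map_add, map_inl_apply, map_inr_apply, hu, hv]
    exact (decomp φ.τ₃ n y).symm
  · -- exact
    intro y hy
    change ((mappingCone.map φ.τ₂ φ.τ₃ S.g T.g φ.comm₂₃).f n).hom y = 0 at hy
    have h1 := fst_map_apply φ.τ₂ φ.τ₃ S.g T.g φ.comm₂₃ n y
    have h2 := snd_map_apply φ.τ₂ φ.τ₃ S.g T.g φ.comm₂₃ n y
    rw [hy, map_zero] at h1 h2
    obtain ⟨u, hu⟩ := hS3 _ h1.symm
    obtain ⟨v, hv⟩ := hT3 _ h2.symm
    refine ⟨((mappingCone.inl φ.τ₁).v (n + 1) n (by omega)).hom u +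
      ((mappingCone.inr φ.τ₁).f n).hom v, ?_⟩
    change ((mappingCone.map φ.τ₁ φ.τ₂ S.f T.f φ.comm₁₂).f n).hom _ = y
    rw [map_add, map_inl_apply, map_inr_apply, hu, hv]
    exact (decomp φ.τ₂ n y).symm

end Groth.Agent.H2.Kos
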