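import Mathlib
import Groth.Prelude.Def_ega3
import Groth.Agent.Lib.Helper2.Kos2

/-!
# Functoriality and exactness of the iterated-mapping-cone Koszul complex in the module
-/

open CategoryTheory CategoryTheory.Limits CochainComplex HomologicalComplex
  CochainComplex.HomComplex

universe u

namespace Groth.Agent.H2.Kos

section general

variable {R : Type*} [CommRing R] {C : Type*} [Category C] [Preadditive C] [Linear R C]
  [HasBinaryBiproducts C]
variable {F₁ G₁ F₂ G₂ : CochainComplex C ℤ} (φ₁ : F₁ ⟶ G₁) (φ₂ : F₂ ⟶ G₂) (a : F₁ ⟶ F₂)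
  (b : G₁ ⟶ G₂) (comm : φ₁ ≫ b = a ≫ φ₂)

lemma map_smul (r : R) (comm' : φ₁ ≫ (r • b) = (r • a) ≫ φ₂) :
    mappingCone.map φ₁ φ₂ (r • a) (r • b) comm' = r • mappingCone.map φ₁ φ₂ a b comm := by
  ext n
  simp [mappingCone.ext_from_iff _ (n + 1) n rfl, mappingCone.map]

lemma map_smul_id {F G : CochainComplex C ℤ} (φ : F ⟶ G) (r : R)
    (comm' : φ ≫ (r • 𝟙 G) = (r • 𝟙 F) ≫ φ) :
    mappingCone.map φ φ (r • 𝟙 F) (r • 𝟙 G) comm' = r • 𝟙 (mappingCone φ) := by
  rw [map_smul φ φ (𝟙 F) (𝟙 G) (by simp) r comm', mappingCone.map_id]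

end general

variable {A : Type u} [CommRing A]

open CohIII

/-- Functoriality of the Koszul complex in the module. -/
noncomputable def kmap {M N : ModuleCat.{u} A} (g : M ⟶ N) :
    ∀ fs : List A, koszulCx M fs ⟶ koszulCx N fs
  | [] => (HomologicalComplex.single (ModuleCat.{u} A) (ComplexShape.up ℤ) 0).map g
  | f :: fs => mappingCone.map (f • 𝟙 (koszulCx M fs)) (f • 𝟙 (koszulCx N fs))
      (kmap g fs) (kmap g fs) (by simp)

lemma kmap_nil {M N : ModuleCat.{u} A} (g : M ⟶ N) :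
    kmap g [] = (HomologicalComplex.single (ModuleCat.{u} A) (ComplexShape.up ℤ) 0).map g := rfl

lemma kmap_cons {M N : ModuleCat.{u} A} (g : M ⟶ N) (f : A) (fs : List A) :
    kmap g (f :: fs) = mappingCone.map (f • 𝟙 (koszulCx M fs)) (f • 𝟙 (koszulCx N fs))
      (kmap g fs) (kmap g fs) (by simp) := rfl

lemma kmap_comp {M N P : ModuleCat.{u} A} (g : M ⟶ N) (h : N ⟶ P) (fs : List A) :
    kmap (g ≫ h) fs = kmap g fs ≫ kmap h fs := by
  induction fs with
  | nil => exact Functor.map_comp _ g h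
  | cons f fs ih =>
    change mappingCone.map (f • 𝟙 (koszulCx M fs)) (f • 𝟙 (koszulCx P fs)) (kmap (g ≫ h) fs)
        (kmap (g ≫ h) fs) _ =
      mappingCone.map (f • 𝟙 (koszulCx M fs)) (f • 𝟙 (koszulCx N fs)) (kmap g fs) (kmap g fs) _ ≫
        mappingCone.map (f • 𝟙 (koszulCx N fs)) (f • 𝟙 (koszulCx P fs)) (kmap h fs) (kmap h fs) _
    simp only [ih]
    apply mappingCone.map_comp

lemma kmap_zero {M N : ModuleCat.{u} A} (fs : List A) : kmap (0 : M ⟶ N) fs = 0 := by
  induction fs with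
  | nil => exact Functor.map_zero _ _ _
  | cons f fs ih =>
    change mappingCone.map (f • 𝟙 (koszulCx M fs)) (f • 𝟙 (koszulCx N fs)) (kmap 0 fs)
        (kmap 0 fs) _ = 0
    simp only [ih]
    exact map_zero_zero _ _ _

lemma kmap_smul_id (M : ModuleCat.{u} A) (r : A) (fs : List A) :
    kmap (r • 𝟙 M) fs = r • 𝟙 (koszulCx M fs) := by
  induction fs with
  | nil =>
    change (HomologicalComplex.single (ModuleCat.{u} A) (ComplexShape.up ℤ) 0).map (r • 𝟙 M) =
      r • 𝟙 ((HomologicalComplex.single (ModuleCat.{u} A) (ComplexShape.up ℤ) 0).obj M)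
    apply HomologicalComplex.from_single_hom_ext
    simp [HomologicalComplex.single_map_f_self]
  | cons f fs ih =>
    change mappingCone.map (f • 𝟙 (koszulCx M fs)) (f • 𝟙 (koszulCx M fs)) (kmap (r • 𝟙 M) fs)
        (kmap (r • 𝟙 M) fs) _ = r • 𝟙 (mappingCone (f • 𝟙 (koszulCx M fs)))
    simp only [ih]
    exact map_smul_id _ r _

/-- The short complex of Koszul complexes attached to a short complex of modules. -/
noncomputable def kSC (S : ShortComplex (ModuleCat.{u} A)) (fs : List A) :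
    ShortComplex (CochainComplex (ModuleCat.{u} A) ℤ) :=
  ShortComplex.mk (kmap S.f fs) (kmap S.g fs) (by rw [← kmap_comp, S.zero, kmap_zero])

/-- Multiplication by `f` as an endomorphism of `kSC S fs`. -/
noncomputable def kSCsmul (S : ShortComplex (ModuleCat.{u} A)) (fs : List A) (f : A) :
    kSC S fs ⟶ kSC S fs where
  τ₁ := f • 𝟙 _
  τ₂ := f • 𝟙 _
  τ₃ := f • 𝟙 _
  comm₁₂ := by simp
  comm₂₃ := by simp

lemma kSC_cons (S : ShortComplex (ModuleCat.{u} A)) (fs : List A) (f : A) :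
    kSC S (f :: fs) = coneSC (kSCsmul S fs f) := rfl

end Groth.Agent.H2.Kos
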