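import Mathlib
import Groth.Prelude.Def_ega3
import Groth.Agent.Lib.Helper2.Kos3

/-!
# Exactness of the Koszul complex in the module; regular sequences
-/

open CategoryTheory CategoryTheory.Limits CochainComplex HomologicalComplex
  CochainComplex.HomComplex

universe u

namespace Groth.Agent.H2.Kos

variable {A : Type u} [CommRing A]

open CohIII

lemma isZero_elim {M : ModuleCat.{u} A} (h : IsZero M) (x : M) : x = 0 := by
  have := ModuleCat.subsingleton_of_isZero h
  exact Subsingleton.elim _ _

theorem kSC_shortExact (S : ShortComplex (ModuleCat.{u} A)) (hS : S.ShortExact) (fs : List A) :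
    (kSC S fs).ShortExact := by
  induction fs with
  | nil =>
    apply shortExact_of_degree
    intro n
    by_cases hn : n = 0
    · subst hn
      have h1 : Function.Injective S.f.hom := (ModuleCat.mono_iff_injective _).mp hS.mono_f
      have h2 : Function.Surjective S.g.hom := (ModuleCat.epi_iff_surjective _).mp hS.epi_g
      have h3 := (ShortComplex.moduleCat_exact_iff _).mp hS.exact
      have ef : ((kSC S []).f.f 0) = (HomologicalComplex.singleObjXSelf (ComplexShape.up ℤ) 0 S.X₁).hom ≫
          S.f ≫ (HomologicalComplex.singleObjXSelf (ComplexShape.up ℤ) 0 S.X₂).inv :=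
        HomologicalComplex.single_map_f_self _ _ _
      have eg : ((kSC S []).g.f 0) = (HomologicalComplex.singleObjXSelf (ComplexShape.up ℤ) 0 S.X₂).hom ≫
          S.g ≫ (HomologicalComplex.singleObjXSelf (ComplexShape.up ℤ) 0 S.X₃).inv :=
        HomologicalComplex.single_map_f_self _ _ _
      let e1 := (HomologicalComplex.singleObjXSelf (ComplexShape.up ℤ) 0 S.X₁).toLinearEquiv
      let e2 := (HomologicalComplex.singleObjXSelf (ComplexShape.up ℤ) 0 S.X₂).toLinearEquiv
      let e3 := (HomologicalComplex.singleObjXSelf (ComplexShape.up ℤ) 0 S.X₃).toLinearEquiv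
      have hf : ∀ x, ((kSC S []).f.f 0).hom x = e2.symm (S.f.hom (e1 x)) := by
        intro x; rw [ef]; rfl
      have hg : ∀ x, ((kSC S []).g.f 0).hom x = e3.symm (S.g.hom (e2 x)) := by
        intro x; rw [eg]; rfl
      refine ⟨?_, ?_, ?_⟩
      · intro x y hxy
        rw [hf, hf] at hxy
        exact e1.injective (h1 (e2.symm.injective hxy))
      · intro y
        obtain ⟨x, hx⟩ := h2 (e3 y)
        refine ⟨e2.symm x, ?_⟩
        rw [hg, LinearEquiv.apply_symm_apply, hx, LinearEquiv.symm_apply_apply]
      · intro y hy
        rw [hg] at hy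
        have : S.g.hom (e2 y) = 0 := by
          have := congrArg e3 hy
          rw [LinearEquiv.apply_symm_apply] at this
          exact this.trans (map_zero e3)
        obtain ⟨x, hx⟩ := h3 _ this
        refine ⟨e1.symm x, ?_⟩
        rw [hf, LinearEquiv.apply_symm_apply]
        change e2.symm (S.f.hom x) = y
        rw [hx, LinearEquiv.symm_apply_apply]
    · have hz : ∀ M : ModuleCat.{u} A, IsZero ((koszulCx M []).X n) := fun M =>
        HomologicalComplex.isZero_single_obj_X (ComplexShape.up ℤ) 0 M n hn
      refine ⟨?_, ?_, ?_⟩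
      · intro x y _
        rw [isZero_elim (hz _) x, isZero_elim (hz _) y]
      · intro y
        exact ⟨0, (isZero_elim (hz _) _).trans (isZero_elim (hz _) y).symm⟩
      · intro y _
        exact ⟨0, (isZero_elim (hz _) _).trans (isZero_elim (hz _) y).symm⟩
  | cons f fs ih =>
    rw [kSC_cons]
    exact coneSC_shortExact _ ih ih

lemma isZero_X_of_pos (M : ModuleCat.{u} A) (fs : List A) (n : ℤ) (hn : 0 < n) :
    IsZero ((koszulCx M fs).X n) := by
  induction fs generalizing n with
  | nil => exact HomologicalComplex.isZero_single_obj_X (ComplexShape.up ℤ) 0 M n (by omega)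
  | cons f fs ih =>
    change IsZero ((mappingCone (f • 𝟙 (koszulCx M fs))).X n)
    rw [mappingCone.isZero_X_iff]
    exact ⟨ih (n + 1) (by omega), ih n hn⟩

lemma isZero_X_of_lt (M : ModuleCat.{u} A) (fs : List A) (n : ℤ) (hn : n < -(fs.length : ℤ)) :
    IsZero ((koszulCx M fs).X n) := by
  induction fs generalizing n with
  | nil =>
    exact HomologicalComplex.isZero_single_obj_X (ComplexShape.up ℤ) 0 M n (by simp at hn; omega)
  | cons f fs ih =>
    change IsZero ((mappingCone (f • 𝟙 (koszulCx M fs))).X n)
    rw [mappingCone.isZero_X_iff]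
    simp only [List.length_cons, Nat.cast_add, Nat.cast_one] at hn
    exact ⟨ih (n + 1) (by omega), ih n (by omega)⟩

/-- If `f` is `M`-regular then `K(f :: fs; M)` and `K(fs; M/fM)` have the same exactness. -/
theorem exactAt_cons_iff (M : ModuleCat.{u} A) (f : A) (hf : IsSMulRegular M f) (fs : List A)
    (n : ℤ) :
    (koszulCx M (f :: fs)).ExactAt n ↔
      (koszulCx (ModuleCat.of A (QuotSMulTop f M)) fs).ExactAt n := by
  have hS := kSC_shortExact _ hf.smulShortComplex_shortExact fs
  have key : ∀ φ : koszulCx M fs ⟶ koszulCx M fs, φ = (kSC (M.smulShortComplex f) fs).f →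
      ((mappingCone φ).ExactAt n ↔
        (koszulCx (ModuleCat.of A (QuotSMulTop f M)) fs).ExactAt n) := by
    intro φ hφ
    subst hφ
    have := mappingCone.quasiIso_descShortComplex hS
    exact exactAt_iff_of_quasiIsoAt (mappingCone.descShortComplex _) n
  exact key (f • 𝟙 _) (kmap_smul_id M f fs).symm

theorem isZero_koszulH_of_isWeaklyRegular (fs : List A) (M : Type u) [AddCommGroup M] [Module A M]
    (hreg : RingTheory.Sequence.IsWeaklyRegular M fs) (n : ℤ) (hn : n ≠ 0) :
    IsZero ((koszulCx (ModuleCat.of A M) fs).homology n) := by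
  induction fs generalizing M with
  | nil =>
    apply HomologicalComplex.ExactAt.isZero_homology
    apply HomologicalComplex.ExactAt.of_isZero
    exact HomologicalComplex.isZero_single_obj_X (ComplexShape.up ℤ) 0 _ n hn
  | cons f fs ih =>
    rw [RingTheory.Sequence.isWeaklyRegular_cons_iff] at hreg
    rw [← HomologicalComplex.exactAt_iff_isZero_homology,
      exactAt_cons_iff (ModuleCat.of A M) f hreg.1 fs n,
      HomologicalComplex.exactAt_iff_isZero_homology]
    exact ih (QuotSMulTop f M) hreg.2

end Groth.Agent.H2.Kos
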