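import Mathlib
import Groth.Prelude.Def_ega3
import Groth.Agent.Lib.Helper2.Kos4

/-!
# Elements of the ideal act null-homotopically on the Koszul complex
-/

open CategoryTheory CategoryTheory.Limits CochainComplex HomologicalComplex
  CochainComplex.HomComplex

universe u

namespace Groth.Agent.H2.Kos

section general

variable {R : Type*} [CommRing R] {C : Type*} [Category C] [Preadditive C] [Linear R C]
  [HasBinaryBiproducts C]

/-- Multiplication by `f` on the cone of multiplication by `f` is null-homotopic. -/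
noncomputable def homotopyHead (K : CochainComplex C ℤ) (f : R) :
    Homotopy (f • 𝟙 (mappingCone (f • 𝟙 K))) 0 :=
  mappingCone.descHomotopy (f • 𝟙 K) _ _ 0 (mappingCone.inl (f • 𝟙 K))
    (by
      ext p q hpq
      simp [Cochain.comp_v _ _ (add_zero (-1)) p q q hpq (add_zero q),
        Cochain.comp_v _ _ (zero_add (-1)) p p q (add_zero p) hpq])
    (by
      ext p
      simp)

/-- If multiplication by `x` on `K` is null-homotopic, so is multiplication by `x` on the cone of
multiplication by `f`. -/
noncomputable def homotopyTail (K : CochainComplex C ℤ) (f x : R) (h : Homotopy (x • 𝟙 K) 0) :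
    Homotopy (x • 𝟙 (mappingCone (f • 𝟙 K))) 0 :=
  mappingCone.descHomotopy (f • 𝟙 K) _ _
    (-(Cochain.ofHomotopy h).comp (mappingCone.inl (f • 𝟙 K)) (by norm_num))
    ((Cochain.ofHomotopy h).comp (Cochain.ofHom (mappingCone.inr (f • 𝟙 K))) (add_zero (-1)))
    (by
      rw [δ_neg, δ_comp (Cochain.ofHomotopy h) (mappingCone.inl (f • 𝟙 K))
        (by norm_num : (-1 : ℤ) + (-1) = -2)
        0 0 (-1) (by norm_num) (by norm_num) (by norm_num), δ_ofHomotopy, mappingCone.δ_inl]
      ext p q hpq
      simp [Cochain.comp_v _ _ (add_zero (-1)) p q q hpq (add_zero q),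
        Cochain.comp_v _ _ (zero_add (-1)) p p q (add_zero p) hpq])
    (by
      rw [δ_comp_ofHom, δ_ofHomotopy]
      ext p
      simp)

/-- The elements acting null-homotopically on a complex form an ideal. -/
lemma nonempty_homotopy_of_mem_span (K : CochainComplex C ℤ) (s : Set R)
    (hs : ∀ x ∈ s, Nonempty (Homotopy (x • 𝟙 K) 0)) (a : R) (ha : a ∈ Ideal.span s) :
    Nonempty (Homotopy (a • 𝟙 K) 0) := by
  induction ha using Submodule.span_induction with
  | mem x hx => exact hs x hx
  | zero => exact ⟨Homotopy.ofEq (zero_smul R _)⟩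
  | add x y _ _ hx hy =>
    obtain ⟨h1⟩ := hx
    obtain ⟨h2⟩ := hy
    exact ⟨(Homotopy.ofEq (add_smul x y (𝟙 K))).trans
      ((h1.add h2).trans (Homotopy.ofEq (add_zero 0)))⟩
  | smul c x _ hx =>
    obtain ⟨h1⟩ := hx
    refine ⟨(Homotopy.ofEq ?_).trans ((h1.compLeft (c • 𝟙 K)).trans (Homotopy.ofEq comp_zero))⟩
    simp [smul_smul, mul_comm]

end general

variable {A : Type u} [CommRing A]

open CohIII

theorem nonempty_homotopy_of_mem (M : ModuleCat.{u} A) (xs : List A) (x : A) (hx : x ∈ xs) :
    Nonempty (Homotopy (x • 𝟙 (koszulCx M xs)) 0) := by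
  induction xs with
  | nil => simp at hx
  | cons f fs ih =>
    rcases List.mem_cons.mp hx with rfl | hx'
    · exact ⟨homotopyHead (koszulCx M fs) x⟩
    · obtain ⟨h⟩ := ih hx'
      exact ⟨homotopyTail (koszulCx M fs) f x h⟩

theorem nonempty_homotopy_of_mem_ideal (M : ModuleCat.{u} A) (xs : List A) (a : A)
    (ha : a ∈ Ideal.span {x | x ∈ xs}) :
    Nonempty (Homotopy (a • 𝟙 (koszulCx M xs)) 0) :=
  nonempty_homotopy_of_mem_span _ _ (fun x hx => nonempty_homotopy_of_mem M xs x hx) a ha

/-- If the `xs` generate the unit ideal, the Koszul complex is acyclic. -/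
theorem isZero_homology_of_span_eq_top (M : ModuleCat.{u} A) (xs : List A)
    (h : Ideal.span {x | x ∈ xs} = ⊤) (n : ℤ) : IsZero ((koszulCx M xs).homology n) := by
  obtain ⟨ho⟩ := nonempty_homotopy_of_mem_ideal M xs 1 (by rw [h]; exact Submodule.mem_top)
  rw [IsZero.iff_id_eq_zero, ← HomologicalComplex.homologyMap_id]
  have h1 : (1 : A) • 𝟙 (koszulCx M xs) = 𝟙 _ := one_smul _ _
  rw [← h1, ho.homologyMap_eq n, HomologicalComplex.homologyMap_zero]

end Groth.Agent.H2.Kos
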