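import Mathlib
import Groth.Prelude.Def_ega3
import Groth.Agent.Lib.Helper2.Kos5

/-!
# The top Koszul cohomology is `M / (xs) M`
-/

open CategoryTheory CategoryTheory.Limits CochainComplex HomologicalComplex
  CochainComplex.HomComplex

universe u

namespace Groth.Agent.H2.Kos

variable {A : Type u} [CommRing A]

open CohIII

theorem nonempty_homology0_equiv (K : CochainComplex (ModuleCat.{u} A) ℤ) (N : Type u)
    [AddCommGroup N] [Module A N] (ε : K.X 0 →ₗ[A] N) (hε : Function.Surjective ε)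
    (hker : LinearMap.ker ε = LinearMap.range (K.d (-1) 0).hom) (h1 : IsZero (K.X 1)) :
    Nonempty (K.homology 0 ≃ₗ[A] N) := by
  let S := K.sc' (-1) 0 1
  let e1 : K.homology 0 ≅ S.homology := K.homologyIsoSc' (-1) 0 1 (by simp) (by simp)
  let e2 := S.moduleCatHomologyIso
  let ψ : LinearMap.ker S.g.hom →ₗ[A] N := ε ∘ₗ (LinearMap.ker S.g.hom).subtype
  have hψs : Function.Surjective ψ := by
    intro n
    obtain ⟨x, rfl⟩ := hε n
    refine ⟨⟨x, ?_⟩, rfl⟩
    exact isZero_elim h1 _
  have hψk : LinearMap.ker ψ = LinearMap.range S.moduleCatToCycles := by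
    ext ⟨x, hx⟩
    simp only [LinearMap.mem_ker, LinearMap.mem_range]
    constructor
    · intro h
      have hx' : x ∈ LinearMap.ker ε := h
      rw [hker] at hx'
      obtain ⟨y, rfl⟩ := hx'
      exact ⟨y, Subtype.ext rfl⟩
    · rintro ⟨y, hy⟩
      have hx' : x ∈ LinearMap.range (K.d (-1) 0).hom := ⟨y, congrArg Subtype.val hy⟩
      rw [← hker] at hx'
      exact hx'
  exact ⟨(e1 ≪≫ e2).toLinearEquiv ≪≫ₗ (Submodule.quotEquivOfEq _ _ hψk.symm) ≪≫ₗ
    ψ.quotKerEquivOfSurjective hψs⟩

end Groth.Agent.H2.Kos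

namespace Groth.Agent.H2.Kos

variable {A : Type u} [CommRing A]

open CohIII

section coneElt

variable {F G : CochainComplex (ModuleCat.{u} A) ℤ} (φ : F ⟶ G)

lemma decomp' (n m : ℤ) (h : n + 1 = m) (x : (mappingCone φ).X n) :
    x = ((mappingCone.inl φ).v m n (by omega)).hom
          (((mappingCone.fst φ).1.v n m h).hom x) +
        ((mappingCone.inr φ).f n).hom (((mappingCone.snd φ).v n n (add_zero n)).hom x) := by
  subst h
  exact decomp φ n x

lemma snd_inr_apply (n : ℤ) (y : G.X n) :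
    ((mappingCone.snd φ).v n n (add_zero n)).hom (((mappingCone.inr φ).f n).hom y) = y := by
  exact congrArg (fun f => f.hom y) (mappingCone.inr_f_snd_v φ n)

lemma snd_inl_apply (m n : ℤ) (h : m + (-1) = n) (y : F.X m) :
    ((mappingCone.snd φ).v n n (add_zero n)).hom (((mappingCone.inl φ).v m n h).hom y) = 0 := by
  exact congrArg (fun f => f.hom y) (mappingCone.inl_v_snd_v φ m n h)

lemma d_inr_apply (n₁ n₂ : ℤ) (z : G.X n₁) :
    ((mappingCone φ).d n₁ n₂).hom (((mappingCone.inr φ).f n₁).hom z) =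
      ((mappingCone.inr φ).f n₂).hom ((G.d n₁ n₂).hom z) := by
  exact congrArg (fun f => f.hom z) (mappingCone.inr_f_d φ n₁ n₂)

lemma d_inl_apply (i j k : ℤ) (hij : i + (-1) = j) (hik : k + (-1) = i) (y : F.X i) :
    ((mappingCone φ).d j i).hom (((mappingCone.inl φ).v i j hij).hom y) =
      ((mappingCone.inr φ).f i).hom ((φ.f i).hom y) -
        ((mappingCone.inl φ).v k i hik).hom ((F.d i k).hom y) := by
  exact congrArg (fun f => f.hom y) (mappingCone.inl_v_d φ i j k hij hik)

end coneElt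

end Groth.Agent.H2.Kos
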