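import Mathlib
import Groth.Prelude.Def_ega3
import Groth.Agent.Lib.Helper2.Kos6

/-!
# The augmentation `K(fs; M)^0 → M/(fs)M`
-/

open CategoryTheory CategoryTheory.Limits CochainComplex HomologicalComplex
  CochainComplex.HomComplex

universe u

namespace Groth.Agent.H2.Kos

variable {A : Type u} [CommRing A]

open CohIII Pointwise

section quot

variable (M : Type u) [AddCommGroup M] [Module A M] (f : A) (fs : List A)

/-- The projection `M/(fs)M → M/(f :: fs)M`. -/
def qmap : (M ⧸ (Ideal.ofList fs • (⊤ : Submodule A M))) →ₗ[A]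
    (M ⧸ (Ideal.ofList (f :: fs) • (⊤ : Submodule A M))) :=
  Submodule.mapQ _ _ LinearMap.id (by
    rw [Ideal.ofList_cons_smul]
    exact le_sup_right)

lemma qmap_mk (m : M) : qmap M f fs (Submodule.Quotient.mk m) = Submodule.Quotient.mk m := rfl

lemma qmap_surjective : Function.Surjective (qmap M f fs) := by
  intro y
  obtain ⟨m, rfl⟩ := Submodule.Quotient.mk_surjective _ y
  exact ⟨Submodule.Quotient.mk m, rfl⟩

lemma qmap_eq_zero_iff (n : M ⧸ (Ideal.ofList fs • (⊤ : Submodule A M))) :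
    qmap M f fs n = 0 ↔ ∃ n₁, n = f • n₁ := by
  obtain ⟨m, rfl⟩ := Submodule.Quotient.mk_surjective _ n
  rw [qmap_mk, Submodule.Quotient.mk_eq_zero, Ideal.ofList_cons_smul, Submodule.mem_sup]
  constructor
  · rintro ⟨y, hy, z, hz, rfl⟩
    rw [Submodule.mem_smul_pointwise_iff_exists] at hy
    obtain ⟨m₁, -, rfl⟩ := hy
    refine ⟨Submodule.Quotient.mk m₁, ?_⟩
    rw [← Submodule.Quotient.mk_smul, Submodule.Quotient.eq]
    simpa using hz
  · rintro ⟨n₁, hn₁⟩
    obtain ⟨m₁, rfl⟩ := Submodule.Quotient.mk_surjective _ n₁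
    rw [← Submodule.Quotient.mk_smul, Submodule.Quotient.eq] at hn₁
    refine ⟨f • m₁, Submodule.smul_mem_pointwise_smul _ _ _ Submodule.mem_top, m - f • m₁, hn₁, ?_⟩
    abel

end quot

theorem aug_cone (K' : CochainComplex (ModuleCat.{u} A) ℤ) (h1 : IsZero (K'.X 1)) (f : A)
    (N' N : Type u) [AddCommGroup N'] [Module A N'] [AddCommGroup N] [Module A N]
    (ε' : K'.X 0 →ₗ[A] N') (hε's : Function.Surjective ε')
    (hε'k : LinearMap.ker ε' = LinearMap.range (K'.d (-1) 0).hom)
    (q : N' →ₗ[A] N) (hqs : Function.Surjective q) (hq : ∀ n, q n = 0 ↔ ∃ n₁, n = f • n₁) :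
    ∃ ε : (mappingCone (f • 𝟙 K')).X 0 →ₗ[A] N, Function.Surjective ε ∧
      LinearMap.ker ε = LinearMap.range ((mappingCone (f • 𝟙 K')).d (-1) 0).hom := by
  let φ : K' ⟶ K' := f • 𝟙 K'
  have hz1 : ∀ y : K'.X 1, y = 0 := fun y => isZero_elim h1 y
  let sndL : (mappingCone φ).X 0 →ₗ[A] K'.X 0 := ((mappingCone.snd φ).v 0 0 (add_zero 0)).hom
  refine ⟨q ∘ₗ ε' ∘ₗ sndL, ?_, ?_⟩
  · refine hqs.comp (hε's.comp ?_)
    intro y
    exact ⟨((mappingCone.inr φ).f 0).hom y, snd_inr_apply φ 0 y⟩
  · have hφ : ∀ y : K'.X 0, (φ.f 0).hom y = f • y := fun y => by simp [φ]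
    have hd : ∀ w : (mappingCone φ).X (-1),
        ((mappingCone φ).d (-1) 0).hom w =
          ((mappingCone.inr φ).f 0).hom
            (f • ((mappingCone.fst φ).1.v (-1) 0 (by norm_num)).hom w +
              (K'.d (-1) 0).hom (((mappingCone.snd φ).v (-1) (-1) (add_zero _)).hom w)) := by
      intro w
      conv_lhs => rw [decomp' φ (-1) 0 (by norm_num) w]
      rw [map_add, d_inl_apply φ 0 (-1) 1 (by norm_num) (by norm_num), d_inr_apply,
        hz1 ((K'.d 0 1).hom _), map_zero, sub_zero, hφ, map_add]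
    have hx0 : ∀ x : (mappingCone φ).X 0, x = ((mappingCone.inr φ).f 0).hom (sndL x) := by
      intro x
      conv_lhs => rw [decomp' φ 0 1 (by norm_num) x]
      rw [hz1 (((mappingCone.fst φ).1.v 0 1 (by norm_num)).hom x), map_zero, zero_add]
    ext x
    simp only [LinearMap.mem_ker, LinearMap.coe_comp, Function.comp_apply, LinearMap.mem_range]
    constructor
    · intro hx
      rw [hq] at hx
      obtain ⟨n₁, hn₁⟩ := hx
      obtain ⟨y, rfl⟩ := hε's n₁
      have h2 : sndL x - f • y ∈ LinearMap.ker ε' := by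
        rw [LinearMap.mem_ker, map_sub, LinearMap.map_smul, hn₁, sub_self]
      rw [hε'k] at h2
      obtain ⟨z, hz⟩ := h2
      refine ⟨((mappingCone.inl φ).v 0 (-1) (by norm_num)).hom y +
        ((mappingCone.inr φ).f (-1)).hom z, ?_⟩
      rw [map_add, d_inl_apply φ 0 (-1) 1 (by norm_num) (by norm_num), d_inr_apply,
        hz1 ((K'.d 0 1).hom _), map_zero, sub_zero, hφ, ← map_add, hz]
      rw [add_sub_cancel]
      exact (hx0 x).symm
    · rintro ⟨w, rfl⟩
      rw [hd w, hq]
      refine ⟨ε' (((mappingCone.fst φ).1.v (-1) 0 (by norm_num)).hom w), ?_⟩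
      change ε' (sndL (((mappingCone.inr φ).f 0).hom _)) = _
      rw [show sndL (((mappingCone.inr φ).f 0).hom
          (f • ((mappingCone.fst φ).1.v (-1) 0 (by norm_num)).hom w +
              (K'.d (-1) 0).hom (((mappingCone.snd φ).v (-1) (-1) (add_zero _)).hom w))) = _
        from snd_inr_apply φ 0 _]
      rw [map_add, LinearMap.map_smul]
      have : (K'.d (-1) 0).hom (((mappingCone.snd φ).v (-1) (-1) (add_zero _)).hom w) ∈
          LinearMap.ker ε' := by
        rw [hε'k]
        exact ⟨_, rfl⟩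
      rw [LinearMap.mem_ker.mp this, add_zero]

theorem exists_aug (M : Type u) [AddCommGroup M] [Module A M] (fs : List A) :
    ∃ ε : (koszulCx (ModuleCat.of A M) fs).X 0 →ₗ[A]
        (M ⧸ (Ideal.ofList fs • (⊤ : Submodule A M))),
      Function.Surjective ε ∧
        LinearMap.ker ε = LinearMap.range ((koszulCx (ModuleCat.of A M) fs).d (-1) 0).hom := by
  induction fs with
  | nil =>
    let e : (koszulCx (ModuleCat.of A M) []).X 0 ≃ₗ[A] M :=
      (HomologicalComplex.singleObjXSelf (ComplexShape.up ℤ) 0 (ModuleCat.of A M)).toLinearEquiv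
    have h0 : (Ideal.ofList ([] : List A) • (⊤ : Submodule A M)) = ⊥ := by
      rw [Ideal.ofList_nil, Submodule.bot_smul]
    refine ⟨(Submodule.mkQ _) ∘ₗ e.toLinearMap, ?_, ?_⟩
    · exact (Submodule.mkQ_surjective _).comp e.surjective
    · have hd : ((koszulCx (ModuleCat.of A M) []).d (-1) 0) = 0 :=
        (HomologicalComplex.isZero_single_obj_X (ComplexShape.up ℤ) 0 (ModuleCat.of A M) (-1)
          (by norm_num)).eq_of_src _ _
      rw [hd]
      ext x
      simp only [LinearMap.mem_ker, LinearMap.coe_comp, Function.comp_apply, Submodule.mkQ_apply,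
        LinearEquiv.coe_coe, Submodule.Quotient.mk_eq_zero, h0, Submodule.mem_bot,
        LinearMap.mem_range]
      constructor
      · intro hx
        exact ⟨0, by rw [map_zero]; exact (e.injective (hx.trans (map_zero e).symm)).symm⟩
      · rintro ⟨y, rfl⟩
        simp
  | cons f fs ih =>
    obtain ⟨ε', hε's, hε'k⟩ := ih
    obtain ⟨ε, h1, h2⟩ := aug_cone (koszulCx (ModuleCat.of A M) fs)
      (isZero_X_of_pos _ fs 1 (by norm_num)) f _ _ ε' hε's hε'k (qmap M f fs)
      (qmap_surjective M f fs) (qmap_eq_zero_iff M f fs)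
    exact ⟨ε, h1, h2⟩

theorem nonempty_homology0_equiv_quot (M : Type u) [AddCommGroup M] [Module A M] (fs : List A) :
    Nonempty ((koszulCx (ModuleCat.of A M) fs).homology 0 ≃ₗ[A]
      (M ⧸ (Ideal.ofList fs • (⊤ : Submodule A M)))) := by
  obtain ⟨ε, hs, hk⟩ := exists_aug M fs
  exact nonempty_homology0_equiv _ _ ε hs hk (isZero_X_of_pos _ fs 1 (by norm_num))

end Groth.Agent.H2.Kos
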