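import Groth.Agent.Lib.Helper2.TorBalSyz

/-! Abstract balancing: a functor `Φ : C ⥤ ChainComplex D ℕ` which is exact degreewise and whose
positive homology vanishes on projectives computes the left derived functors of `H₀ ∘ Φ`. -/

universe v u v' u'

namespace Groth.Agent.H2.TorBal

open CategoryTheory CategoryTheory.Limits Category HomologicalComplex

variable {C : Type u} [Category.{v} C] [Abelian C] {D : Type u'} [Category.{v'} D] [Abelian D]

/-- Kernels of isomorphic arrows are isomorphic. -/
lemma nonempty_iso_of_isLimit_kernelFork {A A' B B' E E' : D} {i : A ⟶ B} {f : B ⟶ B'}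
    (w : i ≫ f = 0) (hA : IsLimit (KernelFork.ofι i w)) {i' : A' ⟶ E} {f' : E ⟶ E'}
    (w' : i' ≫ f' = 0) (hA' : IsLimit (KernelFork.ofι i' w')) (p : B ≅ E) (q : B' ≅ E')
    (comm : f ≫ q.hom = p.hom ≫ f') : Nonempty (A ≅ A') :=
  ⟨(IsLimit.conePointUniqueUpToIso hA (kernelIsKernel f)) ≪≫ kernel.mapIso f f' p q comm ≪≫
    (IsLimit.conePointUniqueUpToIso hA' (kernelIsKernel f')).symm⟩

section Trunc

variable (L : ChainComplex D ℕ)

/-- Homology of the truncation in positive degrees. -/
noncomputable def truncHomologyIso (n : ℕ) :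
    (ChainComplex.truncate.obj L).homology (n + 1) ≅ L.homology (n + 2) :=
  ((ChainComplex.truncate.obj L).homologyIsoSc' (n + 2) (n + 1) n
      (by simp only [ChainComplex.prev]; rfl) (by simp)) ≪≫
    (L.homologyIsoSc' (n + 3) (n + 2) (n + 1) (by simp only [ChainComplex.prev]; rfl) (by simp)).symm

/-- The map `coker (L₂ ⟶ L₁) ⟶ L₀`, with the cokernel taken as the `0`-opcycles of the truncation. -/
noncomputable def truncFromOpcycles : (ChainComplex.truncate.obj L).opcycles 0 ⟶ L.X 0 :=
  (ChainComplex.truncate.obj L).descOpcycles (L.d 1 0) 1 (by simp) (L.d_comp_d 2 1 0)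

@[reassoc (attr := simp)]
lemma p_truncFromOpcycles :
    (ChainComplex.truncate.obj L).pOpcycles 0 ≫ truncFromOpcycles L = L.d 1 0 := by
  simp [truncFromOpcycles]

/-- `L.opcycles 1` identifies with the `0`-opcycles of the truncation. -/
noncomputable def truncOpcyclesIso : L.opcycles 1 ≅ (ChainComplex.truncate.obj L).opcycles 0 :=
  IsColimit.coconePointUniqueUpToIso (L.opcyclesIsCokernel 2 1 (by simp))
    ((ChainComplex.truncate.obj L).opcyclesIsCokernel 1 0 (by simp))

@[reassoc (attr := simp)]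
lemma p_truncOpcyclesIso_hom :
    L.pOpcycles 1 ≫ (truncOpcyclesIso L).hom = (ChainComplex.truncate.obj L).pOpcycles 0 :=
  IsColimit.comp_coconePointUniqueUpToIso_hom (L.opcyclesIsCokernel 2 1 (by simp))
    ((ChainComplex.truncate.obj L).opcyclesIsCokernel 1 0 (by simp)) WalkingParallelPair.one

@[reassoc (attr := simp)]
lemma truncOpcyclesIso_hom_truncFromOpcycles :
    (truncOpcyclesIso L).hom ≫ truncFromOpcycles L = L.fromOpcycles 1 0 := by
  rw [← cancel_epi (L.pOpcycles 1), L.p_fromOpcycles, ← assoc]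
  have h1 := p_truncOpcyclesIso_hom L
  have h2 := p_truncFromOpcycles L
  rw [h1]
  exact h2

end Trunc

section Main

variable (Φ : C ⥤ ChainComplex D ℕ) [Φ.PreservesZeroMorphisms] (G : C ⥤ D)

/-- Data making `n ↦ Hₙ ∘ Φ` a homological `δ`-functor, effaceable in positive degrees, with
`H₀ ∘ Φ ≅ G`. -/
structure DeltaData where
  /-- `Φ` sends short exact sequences to short exact sequences of complexes. -/
  shortExact : ∀ S : ShortComplex C, S.ShortExact → (S.map Φ).ShortExact
  /-- positive homology vanishes on projectives. -/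
  isZero_proj : ∀ (X : C), Projective X → ∀ n : ℕ, IsZero ((Φ.obj X).homology (n + 1))
  /-- the identification of `H₀ ∘ Φ`. -/
  e : Φ ⋙ HomologicalComplex.homologyFunctor D _ 0 ≅ G

variable {Φ G}

/-- The short exact sequence of complexes attached to `0 ⟶ K ⟶ P₀ ⟶ M ⟶ 0`. -/
lemma DeltaData.syz_shortExact (h : DeltaData Φ G) {M : C} (P : ProjectiveResolution M) :
    ((syzSC P).map Φ).ShortExact :=
  h.shortExact _ (syzSC_shortExact P)

/-- Dimension shifting on the `Φ`-side. -/
noncomputable def DeltaData.shiftIso (h : DeltaData Φ G) {M : C} (P : ProjectiveResolution M)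
    (n : ℕ) : (Φ.obj M).homology (n + 2) ≅ (Φ.obj (syz P)).homology (n + 1) :=
  (h.syz_shortExact P).δIso (n + 2) (n + 1) rfl
    (h.isZero_proj _ (P.projective 0) (n + 1)) (h.isZero_proj _ (P.projective 0) n)

variable (h : DeltaData Φ G) {M : C} (P : ProjectiveResolution M)

variable [G.Additive]

variable [PreservesFiniteColimits G] [HasProjectiveResolutions C]

set_option linter.unusedSectionVars false

/-- The identification `coker (G P₂ ⟶ G P₁) ≅ G K`. -/
noncomputable def opcyclesSyzIso :
    (ChainComplex.truncate.obj ((G.mapHomologicalComplex (ComplexShape.down ℕ)).obj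
      P.complex)).opcycles 0 ≅ G.obj (syz P) :=
  have i : ((G.mapHomologicalComplex (ComplexShape.down ℕ)).obj (syzRes P).complex).opcycles 0 ≅
      G.obj (syz P) := asIso ((syzRes P).fromLeftDerivedZero' G)
  i

lemma opcyclesSyzIso_hom :
    (opcyclesSyzIso (G := G) P).hom = (syzRes P).fromLeftDerivedZero' G := rfl

lemma opcyclesSyzIso_hom_map :
    (opcyclesSyzIso (G := G) P).hom ≫ G.map (syzι P) =
      truncFromOpcycles ((G.mapHomologicalComplex _).obj P.complex) := by
  rw [← cancel_epi (HomologicalComplex.pOpcycles _ _)]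
  have h2 := p_truncFromOpcycles ((G.mapHomologicalComplex _).obj P.complex)
  refine Eq.trans ?_ h2.symm
  have h3 : G.map (dSyz P) ≫ G.map (syzι P) = G.map (P.complex.d 1 0) := by
    rw [← G.map_comp, dSyz_ι]
  have h4 : (syzRes P).π.f 0 = dSyz P := syzRes_π_f_zero P
  have h5 := ProjectiveResolution.pOpcycles_comp_fromLeftDerivedZero' (syzRes P) G
  rw [h4] at h5
  rw [← assoc]
  refine Eq.trans ?_ h3
  exact congrArg (· ≫ G.map (syzι P)) h5

include h in
/-- Abstract balancing. -/
theorem DeltaData.nonempty_iso : ∀ (n : ℕ) {M : C} (P : ProjectiveResolution M),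
    Nonempty ((Φ.obj M).homology n ≅ ((G.mapHomologicalComplex _).obj P.complex).homology n)
  | 0, M, P =>
    ⟨h.e.app M ≪≫ (asIso (P.fromLeftDerivedZero' G)).symm ≪≫
      (ChainComplex.isoHomologyι₀ _).symm⟩
  | 1, M, P => by
    let L := (G.mapHomologicalComplex (ComplexShape.down ℕ)).obj P.complex
    have hS := h.syz_shortExact P
    have hmono : Mono (hS.δ 1 0 rfl) := hS.mono_δ 1 0 rfl (h.isZero_proj _ (P.projective 0) 0)
    have hex := hS.homology_exact₁ 1 0 rfl
    have hA := hex.fIsKernel
    have hA' := L.homologyIsKernel 1 0 (by simp)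
    let p : (Φ.obj (syz P)).homology 0 ≅ L.opcycles 1 :=
      h.e.app (syz P) ≪≫ (opcyclesSyzIso (G := G) P).symm ≪≫ (truncOpcyclesIso L).symm
    let q : (Φ.obj (P.complex.X 0)).homology 0 ≅ L.X 0 := h.e.app (P.complex.X 0)
    refine nonempty_iso_of_isLimit_kernelFork _ hA _ hA' p q ?_
    have hnat := h.e.hom.naturality (syzι P)
    have h1 := opcyclesSyzIso_hom_map (G := G) P
    have h2 := truncOpcyclesIso_hom_truncFromOpcycles L
    have h5 : (opcyclesSyzIso (G := G) P).inv ≫ (truncOpcyclesIso L).inv ≫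
        L.fromOpcycles 1 0 = G.map (syzι P) :=
      (Iso.inv_comp_eq _).2 ((Iso.inv_comp_eq _).2
        (h2.symm.trans (congrArg ((truncOpcyclesIso L).hom ≫ ·) h1.symm)))
    calc _ = h.e.hom.app (syz P) ≫ G.map (syzι P) := hnat
      _ = h.e.hom.app (syz P) ≫ ((opcyclesSyzIso (G := G) P).inv ≫
            (truncOpcyclesIso L).inv ≫ L.fromOpcycles 1 0) :=
          congrArg (h.e.hom.app (syz P) ≫ ·) h5.symm
      _ = _ := by
          simp only [p, Iso.trans_hom, Iso.app_hom, Iso.symm_hom]
          exact ((assoc _ _ _).trans (congrArg (h.e.hom.app (syz P) ≫ ·) (assoc _ _ _))).symm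
  | n + 2, M, P => by
    obtain ⟨i⟩ := DeltaData.nonempty_iso (n + 1) (syzRes P)
    exact ⟨h.shiftIso P n ≪≫ i ≪≫
      truncHomologyIso ((G.mapHomologicalComplex (ComplexShape.down ℕ)).obj P.complex) n⟩

end Main

end Groth.Agent.H2.TorBal
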