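import Mathlib
import Groth.Agent.Lib.Helper2.TorBalGen

/-! Balancing of `Tor` over a commutative ring: `Tor_n(M, N)` (Mathlib: derived in the second
variable) is computed by any projective resolution of the first variable. -/

universe u

namespace Groth.Agent.H2.TorBal

open CategoryTheory CategoryTheory.Limits Category HomologicalComplex MonoidalCategory

variable {R : Type u} [CommRing R]

/-- The functor `X ↦ X ⊗ K` for a chain complex `K`. -/
noncomputable def tensorCx (K : ChainComplex (ModuleCat.{u} R) ℕ) :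
    ModuleCat.{u} R ⥤ ChainComplex (ModuleCat.{u} R) ℕ where
  obj X := ((tensorLeft X).mapHomologicalComplex _).obj K
  map f := (NatTrans.mapHomologicalComplex ((tensoringLeft _).map f) _).app K
  map_id X := by
    ext i : 1
    rw [NatTrans.mapHomologicalComplex_app_f, CategoryTheory.Functor.map_id]
    rfl
  map_comp f g := by
    ext i : 1
    rw [NatTrans.mapHomologicalComplex_app_f, CategoryTheory.Functor.map_comp]
    rfl

@[simp]
lemma tensorCx_obj_X (K : ChainComplex (ModuleCat.{u} R) ℕ) (X : ModuleCat.{u} R) (i : ℕ) :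
    ((tensorCx K).obj X).X i = X ⊗ K.X i := rfl

@[simp]
lemma tensorCx_obj_d (K : ChainComplex (ModuleCat.{u} R) ℕ) (X : ModuleCat.{u} R) (i j : ℕ) :
    ((tensorCx K).obj X).d i j = X ◁ K.d i j := rfl

@[simp]
lemma tensorCx_map_f (K : ChainComplex (ModuleCat.{u} R) ℕ) {X Y : ModuleCat.{u} R} (f : X ⟶ Y)
    (i : ℕ) : ((tensorCx K).map f).f i = f ▷ K.X i := rfl

instance (K : ChainComplex (ModuleCat.{u} R) ℕ) : (tensorCx K).PreservesZeroMorphisms where
  map_zero X Y := by
    ext i : 1
    simp
    rfl

lemma tensorCx_shortExact (K : ChainComplex (ModuleCat.{u} R) ℕ)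
    (hK : ∀ i, Module.Flat R (K.X i)) (S : ShortComplex (ModuleCat.{u} R)) (hS : S.ShortExact) :
    (S.map (tensorCx K)).ShortExact := by
  apply HomologicalComplex.shortExact_of_degreewise_shortExact
  intro j
  haveI : Module.Flat R (K.X j) := hK j
  exact hS.map_of_exact (tensorRight (K.X j))

lemma flat_of_projective (X : ModuleCat.{u} R) [Projective X] : Module.Flat R X := by
  haveI : Module.Projective R X := by
    rw [IsProjective.iff_projective]
    infer_instance
  infer_instance

lemma tensorCx_isZero_homology_succ {N : ModuleCat.{u} R} (Q : ProjectiveResolution N)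
    (X : ModuleCat.{u} R) [Module.Flat R X] (n : ℕ) :
    IsZero (((tensorCx Q.complex).obj X).homology (n + 1)) := by
  rw [← HomologicalComplex.exactAt_iff_isZero_homology]
  rw [HomologicalComplex.exactAt_iff' _ (n + 2) (n + 1) n
    (by simp only [ChainComplex.prev]; rfl) (by simp)]
  exact Module.Flat.lTensor_shortComplex_exact X _ (Q.exact_succ n)

section E

variable {N : ModuleCat.{u} R} (Q : ProjectiveResolution N)

/-- `H₀(X ⊗ Q) ≅ X ⊗ N`. -/
noncomputable def tensorCxZeroIso (X : ModuleCat.{u} R) :
    ((tensorCx Q.complex).obj X).homology 0 ≅ X ⊗ N :=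
  have i : (((tensorLeft X).mapHomologicalComplex (ComplexShape.down ℕ)).obj Q.complex).opcycles 0 ≅
      X ⊗ N := asIso (Q.fromLeftDerivedZero' (tensorLeft X))
  (ChainComplex.isoHomologyι₀ ((tensorCx Q.complex).obj X)) ≪≫ i

lemma tensorCxZeroIso_hom (X : ModuleCat.{u} R) :
    (tensorCxZeroIso Q X).hom = ((tensorCx Q.complex).obj X).homologyι 0 ≫
      Q.fromLeftDerivedZero' (tensorLeft X) := rfl

lemma tensorCxZeroIso_hom_naturality {X Y : ModuleCat.{u} R} (f : X ⟶ Y) :
    HomologicalComplex.homologyMap ((tensorCx Q.complex).map f) 0 ≫ (tensorCxZeroIso Q Y).hom =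
      (tensorCxZeroIso Q X).hom ≫ f ▷ N := by
  rw [tensorCxZeroIso_hom, tensorCxZeroIso_hom, HomologicalComplex.homologyι_naturality_assoc,
    assoc]
  congr 1
  rw [← cancel_epi (HomologicalComplex.pOpcycles _ _), HomologicalComplex.p_opcyclesMap_assoc]
  have h1 := ProjectiveResolution.pOpcycles_comp_fromLeftDerivedZero' Q (tensorLeft X)
  have h2 := ProjectiveResolution.pOpcycles_comp_fromLeftDerivedZero' Q (tensorLeft Y)
  exact (congrArg (f ▷ Q.complex.X 0 ≫ ·) h2).trans ((whisker_exchange f (Q.π.f 0)).symm.trans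
    ((congrArg (· ≫ f ▷ N) h1.symm).trans (assoc _ _ _)))

/-- `H₀ ∘ (- ⊗ Q) ≅ - ⊗ N`. -/
noncomputable def tensorCxZeroNatIso :
    tensorCx Q.complex ⋙ HomologicalComplex.homologyFunctor (ModuleCat.{u} R) _ 0 ≅ tensorRight N :=
  NatIso.ofComponents (fun X => tensorCxZeroIso Q X)
    (fun f => tensorCxZeroIso_hom_naturality Q f)

/-- The `δ`-functor data of `X ↦ X ⊗ Q`. -/
noncomputable def deltaData : DeltaData (tensorCx Q.complex) (tensorRight N) where
  shortExact S hS := tensorCx_shortExact _
    (fun i => haveI := Q.projective i; flat_of_projective _) S hS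
  isZero_proj X hX n := by
    haveI := hX
    haveI := flat_of_projective X
    exact tensorCx_isZero_homology_succ Q X n
  e := tensorCxZeroNatIso Q

end E

/-- `Tor_n(M, N)` is computed by the complex `M ⊗ Q` for any projective resolution `Q` of `N`. -/
noncomputable def torIsoTensorCx (M : ModuleCat.{u} R) {N : ModuleCat.{u} R}
    (Q : ProjectiveResolution N) (n : ℕ) :
    ((Tor (ModuleCat.{u} R) n).obj M).obj N ≅ ((tensorCx Q.complex).obj M).homology n :=
  Q.isoLeftDerivedObj (tensorLeft M) n

/-- **Balancing of Tor**: `Tor_n(M, N)` (Mathlib: derived in the second variable) is computed by any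
projective resolution `P` of the first variable `M`. -/
theorem nonempty_tor_iso (M N : ModuleCat.{u} R) (P : ProjectiveResolution M) (n : ℕ) :
    Nonempty (((Tor (ModuleCat.{u} R) n).obj M).obj N ≅
      (((tensorRight N).mapHomologicalComplex (ComplexShape.down ℕ)).obj P.complex).homology n) := by
  obtain ⟨i⟩ := (deltaData (projectiveResolution N)).nonempty_iso n P
  exact ⟨torIsoTensorCx M (projectiveResolution N) n ≪≫ i⟩

end Groth.Agent.H2.TorBal
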