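import Groth.Agent.Lib.Helper2.ProjUPD

/-! # Projective space as `Proj` of the symmetric algebra of a free module. -/

universe u
open CategoryTheory CategoryTheory.Limits AlgebraicGeometry HomogeneousLocalization Opposite
  TopologicalSpace

namespace Groth.Agent.H2.PUP

open Groth.Agent.LD Twist

variable (n : ℕ) (R : Type u) [CommRing R]

/-- the linear map `R^{n+1} → R[T_0, …, T_n]`, `e_i ↦ T_i`. -/
noncomputable def ιPn : (Fin (n + 1) → R) →ₗ[R] MvPolynomial (Fin (n + 1)) R :=
  (Pi.basisFun R (Fin (n + 1))).constr R (MvPolynomial.X : Fin (n + 1) → MvPolynomial (Fin (n + 1)) R)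

lemma ιPn_apply (m : Fin (n + 1) → R) : ιPn n R m = ∑ i, m i • MvPolynomial.X i := by
  rw [ιPn, Module.Basis.constr_apply_fintype]
  rfl

lemma ιPn_single (i : Fin (n + 1)) : ιPn n R (Pi.single i 1) = MvPolynomial.X i := by
  have h := (Pi.basisFun R (Fin (n + 1))).constr_basis R
    (MvPolynomial.X : Fin (n + 1) → MvPolynomial (Fin (n + 1)) R) i
  rw [Pi.basisFun_apply] at h
  exact h

lemma ιPn_mem (m : Fin (n + 1) → R) : ιPn n R m ∈ CohB1.polyGrading n R 1 := by
  rw [ιPn_apply]
  refine Submodule.sum_mem _ fun i _ => Submodule.smul_mem _ _ ?_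
  exact MvPolynomial.isHomogeneous_X R i

lemma isSymmetricAlgebra_ιPn : IsSymmetricAlgebra (ιPn n R) :=
  SymmetricAlgebra.IsSymmetricAlgebra.mvPolynomial (Fin (n + 1)) (Pi.basisFun R (Fin (n + 1)))

lemma span_single :
    Submodule.span R (Set.range fun i : Fin (n + 1) => (Pi.single i 1 : Fin (n + 1) → R)) = ⊤ := by
  have h := (Pi.basisFun R (Fin (n + 1))).span_eq
  have h2 : (fun i : Fin (n + 1) => (Pi.single i 1 : Fin (n + 1) → R)) =
      ⇑(Pi.basisFun R (Fin (n + 1))) := by
    funext i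
    rw [Pi.basisFun_apply]
  rw [h2]
  exact h

lemma sec1_single (i : Fin (n + 1)) :
    sec1 (CohB1.polyGrading n R) (ιPn_mem n R (Pi.single i 1)) = ProjUP.coord n R i := by
  rw [sec1, ProjUP.coord]
  congr 1
  exact Subtype.ext (ιPn_single n R i)

end Groth.Agent.H2.PUP
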