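import Groth.Agent.Lib.Helper2.ProjUPJ
import Groth.Agent.Lib.Helper2.ProjUPE

/-! # Existence part of the universal property of projective space. -/

universe u
open CategoryTheory CategoryTheory.Limits AlgebraicGeometry HomogeneousLocalization Opposite
  TopologicalSpace

namespace Groth.Agent.H2.PUP

open Groth.Agent.LD Twist

variable (n : ℕ) {R : Type u} [CommRing R] {X : Scheme.{u}}
  (q : X ⟶ Spec (CommRingCat.of R)) (L : X.Modules) (s : Fin (n + 1) → ProjUP.Γm L)

/-- the additive map `R^{n+1} → Γ(X, L)`, `m ↦ Σ mᵢ sᵢ`. -/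
noncomputable def vOfFamily : (Fin (n + 1) → R) →+ ProjUP.Γm L where
  toFun m := ∑ i, ProjUP.toGlobal q (m i) • s i
  map_zero' := by simp
  map_add' m m' := by
    simp only [Pi.add_apply, map_add, add_smul, Finset.sum_add_distrib]

lemma vOfFamily_apply (m : Fin (n + 1) → R) :
    vOfFamily n q L s m = ∑ i, ProjUP.toGlobal q (m i) • s i := rfl

lemma vOfFamily_smul (a : R) (m : Fin (n + 1) → R) :
    vOfFamily n q L s (a • m) = ProjUP.toGlobal q a • vOfFamily n q L s m := by
  rw [vOfFamily_apply, vOfFamily_apply, Finset.smul_sum]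
  refine Finset.sum_congr rfl fun i _ => ?_
  rw [Pi.smul_apply, smul_eq_mul, map_mul, mul_smul]

lemma vOfFamily_single (i : Fin (n + 1)) :
    vOfFamily n q L s (Pi.single i 1) = s i := by
  rw [vOfFamily_apply, Finset.sum_eq_single i]
  · rw [Pi.single_eq_same, map_one, one_smul]
  · intro j _ hj
    rw [Pi.single_eq_of_ne hj, map_zero, zero_smul]
  · intro h
    exact absurd (Finset.mem_univ i) h

lemma generatedBy_vOfFamily (hs : ProjUP.GeneratedBy L s) :
    ProjUP.GeneratedBy L (vOfFamily n q L s) := by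
  intro x
  rw [eq_top_iff, ← hs x]
  apply Submodule.span_mono
  rintro _ ⟨i, rfl⟩
  exact ⟨Pi.single i 1, by simp only [vOfFamily_single]⟩

/-- **existence part of the universal property of projective space.** -/
theorem exists_hom_iso_Pn (hL : PicF.IsInvertible L) (hs : ProjUP.GeneratedBy L s) :
    ∃ (r : X ⟶ CohB1.ProjSpace n R) (_ : r ≫ CohB1.ProjSpace.toSpec n R = q)
      (τ : (Scheme.Modules.pullback r).obj (Twist.twistProjSpace n R 1) ≅ L),
      ∀ i, τ.hom.app ⊤ (ProjUP.pullSec r (Twist.twistProjSpace n R 1) (ProjUP.coord n R i)) =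
        s i := by
  obtain ⟨r, hr, τ, hτ⟩ := exists_hom_iso (CohB1.polyGrading n R) (ιPn n R) (ιPn_mem n R)
    (isSymmetricAlgebra_ιPn n R) q L (vOfFamily n q L s) (vOfFamily_smul n q L s) hL
    (generatedBy_vOfFamily n q L s hs)
  refine ⟨r, hr, τ, fun i => ?_⟩
  rw [← sec1_single]
  exact (hτ (Pi.single i 1)).trans (vOfFamily_single n q L s i)

end Groth.Agent.H2.PUP
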