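import Groth.Agent.Lib.Lead.QC.HomAffine

/-! # Gluing morphisms of `O_X`-modules from a basis of opens. -/

universe u
open CategoryTheory Limits AlgebraicGeometry TopologicalSpace Opposite

namespace Groth.Agent.H2.ModGlue

open Groth.Agent.LD Groth.Agent.LD.QC

variable {X : Scheme.{u}} {I : Type u} (B : I → X.Opens) (hB : Opens.IsBasis (Set.range B))

include hB in
/-- every open is covered by the basic opens it contains. -/
lemma le_iSup_basis (U : X.Opens) : U ≤ ⨆ i : {i : I // B i ≤ U}, B i.1 := by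
  intro x hx
  obtain ⟨V, ⟨i, rfl⟩, hxV, hVU⟩ := Opens.isBasis_iff_nbhd.mp hB hx
  exact Opens.mem_iSup.mpr ⟨⟨i, hVU⟩, hxV⟩

/-- the natural transformation on the basis attached to a compatible family of linear maps. -/
noncomputable def basisNatTrans (F G : X.Modules)
    (φ : ∀ i : I, Γ(F, B i) →ₗ[Γ(X, B i)] Γ(G, B i))
    (nat : ∀ (i j : I) (h : B j ≤ B i) (s : Γ(F, B i)),
      G.presheaf.map (homOfLE h).op (φ i s) = φ j (F.presheaf.map (homOfLE h).op s)) :
    (inducedFunctor B).op ⋙ F.presheaf ⟶ (inducedFunctor B).op ⋙ G.presheaf where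
  app i := AddCommGrpCat.ofHom (φ i.unop).toAddMonoidHom
  naturality i j g := by
    ext s
    exact (nat i.unop j.unop (leOfHom ((inducedFunctor B).map g.unop)) s).symm

/-- the morphism of abelian presheaves attached to a compatible family of linear maps on a
basis. -/
noncomputable def homOfBasisPre (F G : X.Modules)
    (φ : ∀ i : I, Γ(F, B i) →ₗ[Γ(X, B i)] Γ(G, B i))
    (nat : ∀ (i j : I) (h : B j ≤ B i) (s : Γ(F, B i)),
      G.presheaf.map (homOfLE h).op (φ i s) = φ j (F.presheaf.map (homOfLE h).op s)) :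
    F.presheaf ⟶ G.presheaf :=
  TopCat.Sheaf.restrictHomEquivHom F.presheaf ⟨G.presheaf, G.isSheaf⟩ (B := B) hB
    (basisNatTrans B F G φ nat)

lemma homOfBasisPre_app (F G : X.Modules)
    (φ : ∀ i : I, Γ(F, B i) →ₗ[Γ(X, B i)] Γ(G, B i))
    (nat : ∀ (i j : I) (h : B j ≤ B i) (s : Γ(F, B i)),
      G.presheaf.map (homOfLE h).op (φ i s) = φ j (F.presheaf.map (homOfLE h).op s))
    (i : I) (s : Γ(F, B i)) :
    (homOfBasisPre B hB F G φ nat).app (op (B i)) s = φ i s := by
  have h := TopCat.Sheaf.extend_hom_app F.presheaf ⟨G.presheaf, G.isSheaf⟩ (B := B) hB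
    (basisNatTrans B F G φ nat) i
  exact congr($h s)

lemma homOfBasisPre_smul (F G : X.Modules)
    (φ : ∀ i : I, Γ(F, B i) →ₗ[Γ(X, B i)] Γ(G, B i))
    (nat : ∀ (i j : I) (h : B j ≤ B i) (s : Γ(F, B i)),
      G.presheaf.map (homOfLE h).op (φ i s) = φ j (F.presheaf.map (homOfLE h).op s))
    (U : X.Opens) (r : Γ(X, U)) (m : Γ(F, U)) :
    (homOfBasisPre B hB F G φ nat).app (op U) (r • m) =
      r • (homOfBasisPre B hB F G φ nat).app (op U) m := by
  apply section_ext_of_cover G (fun V : {i : I // B i ≤ U} => B V.1)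
    (fun V => V.2) (le_iSup_basis B hB U)
  intro V
  rw [homOfAffinePre_res, Scheme.Modules.map_smul, Scheme.Modules.map_smul, homOfAffinePre_res,
    homOfBasisPre_app, homOfBasisPre_app, map_smul]

/-- **gluing morphisms**: a compatible family of linear maps on a basis of opens defines a
morphism of modules. -/
noncomputable def homOfBasis (F G : X.Modules)
    (φ : ∀ i : I, Γ(F, B i) →ₗ[Γ(X, B i)] Γ(G, B i))
    (nat : ∀ (i j : I) (h : B j ≤ B i) (s : Γ(F, B i)),
      G.presheaf.map (homOfLE h).op (φ i s) = φ j (F.presheaf.map (homOfLE h).op s)) :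
    F ⟶ G :=
  ⟨PresheafOfModules.homMk (homOfBasisPre B hB F G φ nat)
    (fun U r m => homOfBasisPre_smul B hB F G φ nat U.unop r m)⟩

lemma homOfBasis_app (F G : X.Modules)
    (φ : ∀ i : I, Γ(F, B i) →ₗ[Γ(X, B i)] Γ(G, B i))
    (nat : ∀ (i j : I) (h : B j ≤ B i) (s : Γ(F, B i)),
      G.presheaf.map (homOfLE h).op (φ i s) = φ j (F.presheaf.map (homOfLE h).op s))
    (i : I) (s : Γ(F, B i)) :
    (homOfBasis B hB F G φ nat).app (B i) s = φ i s :=
  homOfBasisPre_app B hB F G φ nat i s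

include hB in
/-- a morphism of modules which is bijective on sections over a basis is an isomorphism. -/
theorem isIso_of_bijective_basis {F G : X.Modules} (ψ : F ⟶ G)
    (h : ∀ i : I, Function.Bijective (ψ.app (B i))) : IsIso ψ := by
  apply isIso_of_local_bijective
  intro x W hx
  obtain ⟨V, ⟨i, rfl⟩, hxV, hVW⟩ := Opens.isBasis_iff_nbhd.mp hB hx
  exact ⟨B i, hxV, hVW, h i⟩

end Groth.Agent.H2.ModGlue
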