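import Mathlib
import Groth.Prelude.Def_Adeq

/-! # Kernels of morphisms of presheaves of modules, pointwise. -/

set_option autoImplicit false
universe v v₁ u₁ u
open CategoryTheory CategoryTheory.Limits

namespace Groth.Agent.H2.AdeqKer

variable {C : Type u₁} [Category.{v₁} C] {R : Cᵒᵖ ⥤ RingCat.{u}}
  {F G : PresheafOfModules.{v} R} (f : F ⟶ G)

theorem kernel_ι_app_injective (X : Cᵒᵖ) : Function.Injective ((kernel.ι f).app X) :=
  PresheafOfModules.injective_of_mono (kernel.ι f) X

theorem kernel_ι_app_comp (X : Cᵒᵖ) (y : (kernel f).obj X) :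
    f.app X ((kernel.ι f).app X y) = 0 := by
  have h := kernel.condition f
  have h2 := congrArg (fun t => (PresheafOfModules.Hom.app t X) y) h
  exact h2

theorem exists_of_app_eq_zero (X : Cᵒᵖ) (y : F.obj X) (hy : f.app X y = 0) :
    ∃ z : (kernel f).obj X, (kernel.ι f).app X z = y := by
  have hS : (ShortComplex.mk (kernel.ι f) f (kernel.condition f)).Exact :=
    ShortComplex.exact_of_f_is_kernel _ (kernelIsKernel f)
  have hS' := hS.map (PresheafOfModules.evaluation.{v} R X)
  rw [ShortComplex.moduleCat_exact_iff] at hS'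
  obtain ⟨z, hz⟩ := hS' y hy
  exact ⟨z, hz⟩

theorem mem_range_kernel_ι_app_iff (X : Cᵒᵖ) (y : F.obj X) :
    (∃ z : (kernel f).obj X, (kernel.ι f).app X z = y) ↔ f.app X y = 0 := by
  constructor
  · rintro ⟨z, rfl⟩
    exact kernel_ι_app_comp f X z
  · exact exists_of_app_eq_zero f X y

end Groth.Agent.H2.AdeqKer
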