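import Mathlib

/-! # The equational criterion for vanishing, without a spanning hypothesis. -/

set_option autoImplicit false
universe u v w
open TensorProduct

namespace Groth.Agent.H2.AdeqVanish

variable {R : Type u} [CommRing R] {M : Type v} [AddCommGroup M] [Module R M]
  {N : Type w} [AddCommGroup N] [Module R N]

/-- if `∑ mᵢ ⊗ nᵢ = 0`, then after adding finitely many `mᵢ` (with `nᵢ = 0`) the sum vanishes
trivially. -/
theorem exists_extension_vanishesTrivially {l : ℕ} (m : Fin l → M) (n : Fin l → N)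
    (h : ∑ i, m i ⊗ₜ[R] n i = 0) :
    ∃ (r : ℕ) (c : Fin r → M),
      TensorProduct.VanishesTrivially R (Sum.elim m c) (Sum.elim n (fun _ => (0 : N))) := by
  classical
  set N₀ : Submodule R M := Submodule.span R (Set.range m) with hN₀
  have hfg : N₀.FG := Submodule.fg_span (Set.finite_range m)
  have hmem : ∀ i, m i ∈ N₀ := fun i => Submodule.subset_span ⟨i, rfl⟩
  set x₀ : N₀ ⊗[R] N := ∑ i, (⟨m i, hmem i⟩ : N₀) ⊗ₜ[R] n i with hx₀
  have h0 : N₀.subtype.rTensor N x₀ = N₀.subtype.rTensor N 0 := by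
    rw [map_zero, hx₀, map_sum]
    simpa using h
  obtain ⟨N', hN'fg, hle, h1⟩ := hfg.exists_rTensor_fg_inclusion_eq h0
  rw [map_zero] at h1
  obtain ⟨r, c, hc⟩ := Submodule.fg_iff_exists_fin_generating_family.mp hN'fg
  have hcmem : ∀ k, c k ∈ N' := fun k => hc ▸ Submodule.subset_span ⟨k, rfl⟩
  refine ⟨r, c, ?_⟩
  set m' : Fin l ⊕ Fin r → N' :=
    Sum.elim (fun i => ⟨m i, hle (hmem i)⟩) (fun k => ⟨c k, hcmem k⟩) with hm'
  set n' : Fin l ⊕ Fin r → N := Sum.elim n (fun _ => (0 : N)) with hn'
  have hspan : Submodule.span R (Set.range m') = ⊤ := by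
    apply Submodule.map_injective_of_injective N'.injective_subtype
    rw [Submodule.map_span, Submodule.map_top, Submodule.range_subtype, ← Set.range_comp]
    apply le_antisymm
    · rw [Submodule.span_le]
      rintro _ ⟨i, rfl⟩
      exact (m' i).2
    · have hle2 : Submodule.span R (Set.range c) ≤
          Submodule.span R (Set.range (⇑N'.subtype ∘ m')) := by
        rw [Submodule.span_le]
        rintro _ ⟨k, rfl⟩
        exact Submodule.subset_span ⟨Sum.inr k, rfl⟩
      rwa [hc] at hle2
  have hsum : ∑ i, m' i ⊗ₜ[R] n' i = 0 := by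
    rw [Fintype.sum_sum_type]
    simp only [hm', hn', Sum.elim_inl, Sum.elim_inr, TensorProduct.tmul_zero,
      Finset.sum_const_zero, add_zero]
    rw [← h1, hx₀, map_sum]
    rfl
  obtain ⟨k, a, y, hy, ha⟩ := TensorProduct.vanishesTrivially_of_sum_tmul_eq_zero R hspan hsum
  refine ⟨k, a, y, hy, fun j => ?_⟩
  have := congrArg N'.subtype (ha j)
  rw [map_sum, map_zero] at this
  rw [← this]
  refine Finset.sum_congr rfl fun i _ => ?_
  rw [map_smul]
  rcases i with i | i <;> rfl

end Groth.Agent.H2.AdeqVanish
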