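import Groth.Agent.Lib.Helper2.ProSys1
import Mathlib.Algebra.Homology.DerivedCategory.TStructure
import Mathlib.CategoryTheory.Triangulated.TStructure.TruncLTGE
import Mathlib.Algebra.Homology.DerivedCategory.FullyFaithful

/-!
# Truncations in the derived category and homology
-/

universe w v u

open CategoryTheory CategoryTheory.Limits Opposite Pretriangulated Triangulated

namespace Groth.Agent.H2.DTrunc

variable {A : Type u} [Category.{v} A] [Abelian A] [HasDerivedCategory.{w} A]

open DerivedCategory

/-- The canonical t-structure. -/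
noncomputable abbrev tt : TStructure (DerivedCategory A) := TStructure.t

lemma isIso_homology_truncLTι (X : DerivedCategory A) (b i : ℤ) (hi : i < b) :
    IsIso ((homologyFunctor A i).map ((tt.truncLTι b).app X)) := by
  let T := (tt.triangleLTGE b).obj X
  have hT : T ∈ distTriang _ := tt.triangleLTGE_distinguished b X
  have h3 : ∀ j, j < b → IsZero ((homologyFunctor A j).obj T.obj₃) :=
    fun j hj => isZero_of_isGE _ b j hj
  have hmono : Mono ((homologyFunctor A i).map T.mor₁) := by
    rw [HomologySequence.mono_homologyMap_mor₁_iff T hT (i - 1) i (by omega)]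
    exact (h3 (i - 1) (by omega)).eq_of_src _ _
  have hepi : Epi ((homologyFunctor A i).map T.mor₁) := by
    rw [HomologySequence.epi_homologyMap_mor₁_iff T hT i]
    exact (h3 i hi).eq_of_tgt _ _
  have : IsIso ((homologyFunctor A i).map T.mor₁) := isIso_of_mono_of_epi _
  exact this

lemma isIso_homology_truncGEπ (X : DerivedCategory A) (b i : ℤ) (hi : b ≤ i) :
    IsIso ((homologyFunctor A i).map ((tt.truncGEπ b).app X)) := by
  let T := (tt.triangleLTGE b).obj X
  have hT : T ∈ distTriang _ := tt.triangleLTGE_distinguished b X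
  have h1 : ∀ j, b ≤ j → IsZero ((homologyFunctor A j).obj T.obj₁) :=
    fun j hj => isZero_of_isLE _ (b - 1) j (by omega)
  have hmono : Mono ((homologyFunctor A i).map T.mor₂) := by
    rw [HomologySequence.mono_homologyMap_mor₂_iff T hT i]
    exact (h1 i hi).eq_of_src _ _
  have hepi : Epi ((homologyFunctor A i).map T.mor₂) := by
    rw [HomologySequence.epi_homologyMap_mor₂_iff T hT i (i + 1) rfl]
    exact (h1 (i + 1) (by omega)).eq_of_tgt _ _
  have : IsIso ((homologyFunctor A i).map T.mor₂) := isIso_of_mono_of_epi _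
  exact this

section systems

variable (X : ARSys.PS (DerivedCategory A)) (b : ℤ)

/-- The truncated system `τ_{<b} X`. -/
noncomputable def sysLT : ARSys.PS (DerivedCategory A) := X ⋙ tt.truncLT b

/-- The truncated system `τ_{≥b} X`. -/
noncomputable def sysGE : ARSys.PS (DerivedCategory A) := X ⋙ tt.truncGE b

/-- The levelwise map `τ_{<b} X ⟶ X`. -/
noncomputable def sysι : sysLT X b ⟶ X where
  app n := (tt.truncLTι b).app (X.obj n)
  naturality _ _ φ := (tt.truncLTι b).naturality (X.map φ)

/-- The levelwise map `X ⟶ τ_{≥b} X`. -/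
noncomputable def sysπ : X ⟶ sysGE X b where
  app n := (tt.truncGEπ b).app (X.obj n)
  naturality _ _ φ := (tt.truncGEπ b).naturality (X.map φ)

/-- The levelwise connecting map. -/
noncomputable def sysδ : sysGE X b ⟶ sysLT X b ⋙ shiftFunctor (DerivedCategory A) (1 : ℤ) where
  app n := (tt.truncGEδLT b).app (X.obj n)
  naturality _ _ φ := (tt.truncGEδLT b).naturality (X.map φ)

lemma sys_dist (n : ℕ) :
    Triangle.mk ((sysι X b).app (op n)) ((sysπ X b).app (op n)) ((sysδ X b).app (op n)) ∈
      distTriang (DerivedCategory A) :=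
  tt.triangleLTGE_distinguished b (X.obj (op n))

instance (n : ℕ) : tt.IsLE ((sysLT X b).obj (op n)) (b - 1) := by
  dsimp only [sysLT, Functor.comp_obj]; infer_instance

instance (n : ℕ) : tt.IsGE ((sysGE X b).obj (op n)) b := by
  dsimp only [sysGE, Functor.comp_obj]; infer_instance

lemma sysLT_isGE (a : ℤ) (n : ℕ) [tt.IsGE (X.obj (op n)) a] :
    tt.IsGE ((sysLT X b).obj (op n)) a := by
  dsimp only [sysLT, Functor.comp_obj]; infer_instance

lemma sysGE_isLE (c : ℤ) (n : ℕ) [tt.IsLE (X.obj (op n)) c] :
    tt.IsLE ((sysGE X b).obj (op n)) c := by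
  dsimp only [sysGE, Functor.comp_obj]; infer_instance

/-- Homology of the truncation below, in low degrees. -/
noncomputable def homologyLTIso (i : ℤ) (hi : i < b) :
    sysLT X b ⋙ homologyFunctor A i ≅ X ⋙ homologyFunctor A i :=
  haveI : ∀ n, IsIso ((Functor.whiskerRight (sysι X b) (homologyFunctor A i)).app n) :=
    fun n => isIso_homology_truncLTι (X.obj n) b i hi
  haveI : IsIso (Functor.whiskerRight (sysι X b) (homologyFunctor A i)) :=
    NatIso.isIso_of_isIso_app _
  asIso (Functor.whiskerRight (sysι X b) (homologyFunctor A i))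

/-- Homology of the truncation above, in high degrees. -/
noncomputable def homologyGEIso (i : ℤ) (hi : b ≤ i) :
    X ⋙ homologyFunctor A i ≅ sysGE X b ⋙ homologyFunctor A i :=
  haveI : ∀ n, IsIso ((Functor.whiskerRight (sysπ X b) (homologyFunctor A i)).app n) :=
    fun n => isIso_homology_truncGEπ (X.obj n) b i hi
  haveI : IsIso (Functor.whiskerRight (sysπ X b) (homologyFunctor A i)) :=
    NatIso.isIso_of_isIso_app _
  asIso (Functor.whiskerRight (sysπ X b) (homologyFunctor A i))

end systems

end Groth.Agent.H2.DTrunc
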