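import Groth.Prelude.Def_KZero
import Mathlib.CategoryTheory.Triangulated.Pretriangulated
import Mathlib.CategoryTheory.Triangulated.Basic

/-!
# `K₀` of a full subcategory of a pretriangulated category: basic relations
-/

namespace Groth.Agent.H2.KTr

open CategoryTheory Limits Pretriangulated

universe v u
variable {D : Type u} [Category.{v} D] [Preadditive D] [HasZeroObject D] [HasShift D ℤ]
  [∀ n : ℤ, (shiftFunctor D n).Additive] [Pretriangulated D] (Q : ObjectProperty D)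

lemma clTr_eq {X : D} (h : Q X) :
    KZero.clTr Q X = QuotientAddGroup.mk (FreeAbelianGroup.of ⟨X, h⟩) := by
  unfold KZero.clTr
  rw [dif_pos h]

lemma cl_tri (T : Triangle D) (hT : T ∈ distTriang D)
    (h₁ : Q T.obj₁) (h₂ : Q T.obj₂) (h₃ : Q T.obj₃) :
    KZero.clTr Q T.obj₂ = KZero.clTr Q T.obj₁ + KZero.clTr Q T.obj₃ := by
  rw [clTr_eq Q h₁, clTr_eq Q h₂, clTr_eq Q h₃]
  have hrel : FreeAbelianGroup.of (⟨T.obj₂, h₂⟩ : Subtype Q) - FreeAbelianGroup.of ⟨T.obj₁, h₁⟩ -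
      FreeAbelianGroup.of ⟨T.obj₃, h₃⟩ ∈ KZero.relTr Q :=
    AddSubgroup.subset_closure ⟨T, h₁, h₂, h₃, hT, rfl⟩
  have h1 := (QuotientAddGroup.eq_zero_iff _).2 hrel
  rw [QuotientAddGroup.mk_sub, QuotientAddGroup.mk_sub, sub_sub, sub_eq_zero] at h1
  exact h1

open ZeroObject

lemma cl_zero {X : D} (hX : IsZero X) (hQ : Q X) : KZero.clTr Q X = 0 := by
  have hT : Triangle.mk (𝟙 X) (0 : X ⟶ X) 0 ∈ distTriang D := by
    refine isomorphic_distinguished _ (contractible_distinguished X) _ ?_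
    exact Triangle.isoMk _ _ (Iso.refl _) (Iso.refl _) (hX.isoZero)
      (by change 𝟙 X ≫ 𝟙 X = 𝟙 X ≫ 𝟙 X; rfl)
      (hX.eq_of_src _ _) (hX.eq_of_src _ _)
  have h := cl_tri Q _ hT hQ hQ hQ
  exact add_eq_left.1 h.symm

lemma cl_iso {X Y : D} (e : X ≅ Y) (hX : Q X) (hY : Q Y) (h0 : Q (0 : D)) :
    KZero.clTr Q X = KZero.clTr Q Y := by
  have hT : Triangle.mk e.hom (0 : Y ⟶ (0 : D)) 0 ∈ distTriang D := by
    refine isomorphic_distinguished _ (contractible_distinguished X) _ ?_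
    exact Triangle.isoMk _ _ (Iso.refl _) e.symm (Iso.refl _)
      (by change e.hom ≫ e.inv = 𝟙 X ≫ 𝟙 X; simp)
      (by change (0 : Y ⟶ (0 : D)) ≫ 𝟙 0 = e.inv ≫ 0; simp)
      (by change (0 : (0 : D) ⟶ X⟦(1 : ℤ)⟧) ≫ (shiftFunctor D (1 : ℤ)).map (𝟙 X) = 𝟙 0 ≫ 0; simp)
  have h := cl_tri Q _ hT hX hY h0
  change KZero.clTr Q Y = KZero.clTr Q X + KZero.clTr Q (0 : D) at h
  rw [cl_zero Q (isZero_zero D) h0, add_zero] at h
  exact h.symm

lemma cl_shift {X : D} (hX : Q X) (hX' : Q (X⟦(1 : ℤ)⟧)) (h0 : Q (0 : D)) :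
    KZero.clTr Q (X⟦(1 : ℤ)⟧) = - KZero.clTr Q X := by
  have hT := rot_of_distTriang _ (contractible_distinguished X)
  have h := cl_tri Q _ hT hX h0 hX'
  change KZero.clTr Q (0 : D) = KZero.clTr Q X + KZero.clTr Q (X⟦(1 : ℤ)⟧) at h
  rw [cl_zero Q (isZero_zero D) h0] at h
  exact (neg_eq_of_add_eq_zero_right h.symm).symm

end Groth.Agent.H2.KTr
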