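import Groth.Agent.Lib.Helper2.KThick1
import Groth.Agent.Lib.Helper2.KThick2
import Groth.Agent.Lib.Helper2.DTrunc1

/-!
# `K₀` of a thick subcategory equals `K₀` of the bounded derived category with cohomology in it
-/

namespace Groth.Agent.H2.KThick

open CategoryTheory Limits DerivedCategory Pretriangulated KAbLib

universe w v u
variable {C : Type u} [Category.{v} C] [Abelian C] [HasDerivedCategory.{w} C]
  (P : ObjectProperty C)

/-- bounded objects with cohomology in `P` -/
abbrev Q : ObjectProperty (DerivedCategory C) := fun K =>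
  (∀ i : ℤ, P ((homologyFunctor C i).obj K)) ∧
    ∃ a b : ℤ, (TStructure.t (C := C)).IsGE K a ∧ (TStructure.t (C := C)).IsLE K b

variable [P.IsClosedUnderIsomorphisms] [P.ContainsZero]

lemma Q_of_iso {K L : DerivedCategory C} (e : K ≅ L) (hK : Q P K) : Q P L := by
  obtain ⟨h, a, b, ha, hb⟩ := hK
  exact ⟨fun i => P.prop_of_iso ((homologyFunctor C i).mapIso e) (h i), a, b,
    TStructure.t.isGE_of_iso e a, TStructure.t.isLE_of_iso e b⟩

lemma Q_of_isZero {K : DerivedCategory C} (hK : IsZero K) : Q P K :=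
  ⟨fun i => P.prop_of_isZero ((homologyFunctor C i).map_isZero hK), 0, 0,
    TStructure.t.isGE_of_isZero hK 0, TStructure.t.isLE_of_isZero hK 0⟩

open ZeroObject in
lemma Q_zero : Q P (0 : DerivedCategory C) := Q_of_isZero P (isZero_zero _)

/-- the homology of a single complex in its degree -/
noncomputable def homologySingleIso (X : C) (n : ℤ) :
    (homologyFunctor C n).obj ((singleFunctor C n).obj X) ≅ X :=
  (homologyFunctorFactors C n).app ((HomologicalComplex.single C _ n).obj X) ≪≫
    HomologicalComplex.singleObjHomologySelfIso _ _ _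

lemma isZero_homology_single (X : C) (n i : ℤ) (hi : i ≠ n) :
    IsZero ((homologyFunctor C i).obj ((singleFunctor C n).obj X)) := by
  rcases lt_or_gt_of_ne hi with h | h
  · exact isZero_of_isGE _ n i h
  · exact isZero_of_isLE _ n i h

lemma Q_single {X : C} (hX : P X) (n : ℤ) : Q P ((singleFunctor C n).obj X) := by
  refine ⟨fun i => ?_, n, n, inferInstance, inferInstance⟩
  by_cases hi : i = n
  · subst hi
    exact P.prop_of_iso (homologySingleIso X i).symm hX
  · exact P.prop_of_isZero (isZero_homology_single X n i hi)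

lemma χ_single {X : C} (n : ℤ) :
    χ P ((singleFunctor C n).obj X) = sgn n • KZero.clSub P X := by
  unfold χ
  rw [finsum_eq_single _ n (fun i hi => by
    rw [cl_zero P (isZero_homology_single X n i hi), smul_zero])]
  by_cases hX : P X
  · rw [cl_iso P (homologySingleIso X n) (P.prop_of_iso (homologySingleIso X n).symm hX)]
  · have h' : ¬ P ((homologyFunctor C n).obj ((singleFunctor C n).obj X)) := fun h =>
      hX (P.prop_of_iso (homologySingleIso X n) h)
    unfold KZero.clSub
    rw [dif_neg hX, dif_neg h']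

/-- the class of a single complex in degree `n` -/
lemma clTr_single_succ {X : C} (hX : P X) (n : ℤ) :
    KZero.clTr (Q P) ((singleFunctor C (n + 1)).obj X) =
      - KZero.clTr (Q P) ((singleFunctor C n).obj X) := by
  have e : ((singleFunctor C (n + 1)).obj X)⟦(1 : ℤ)⟧ ≅ (singleFunctor C n).obj X :=
    ((singleFunctors C).shiftIso 1 n (n + 1) (add_comm 1 n)).app X
  have h1 := Q_single P hX (n + 1)
  have h2 := Q_single P hX n
  have h3 : Q P (((singleFunctor C (n + 1)).obj X)⟦(1 : ℤ)⟧) := Q_of_iso P e.symm h2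
  have h := KTr.cl_shift (Q P) h1 h3 (Q_zero P)
  rw [KTr.cl_iso (Q P) e h3 h2 (Q_zero P)] at h
  rw [h, neg_neg]

lemma clTr_single {X : C} (hX : P X) (n : ℤ) :
    KZero.clTr (Q P) ((singleFunctor C n).obj X) =
      sgn n • KZero.clTr (Q P) ((singleFunctor C 0).obj X) := by
  induction n using Int.induction_on with
  | zero => simp [sgn]
  | succ n ih =>
    rw [clTr_single_succ P hX, ih, sgn_succ, neg_smul]
  | pred n ih =>
    have h := clTr_single_succ P hX (-(n : ℤ) - 1)
    rw [sub_add_cancel] at h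
    have h2 := sgn_succ (-(n : ℤ) - 1)
    rw [sub_add_cancel] at h2
    rw [← neg_eq_iff_eq_neg] at h
    rw [← h, ih, h2, neg_smul, neg_neg]

open DTrunc in
lemma Q_truncLT {K : DerivedCategory C} (hK : Q P K) (b : ℤ) :
    Q P ((tt.truncLT b).obj K) := by
  obtain ⟨h, a, b', ha, hb⟩ := hK
  refine ⟨fun i => ?_, a, b - 1, inferInstance, inferInstance⟩
  by_cases hi : i < b
  · have := isIso_homology_truncLTι K b i hi
    exact P.prop_of_iso (asIso ((homologyFunctor C i).map ((tt.truncLTι b).app K))).symm (h i)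
  · exact P.prop_of_isZero (isZero_of_isLE _ (b - 1) i (by omega))

open DTrunc in
lemma Q_truncGE {K : DerivedCategory C} (hK : Q P K) (b : ℤ) :
    Q P ((tt.truncGE b).obj K) := by
  obtain ⟨h, a, b', ha, hb⟩ := hK
  refine ⟨fun i => ?_, b, b', inferInstance, inferInstance⟩
  by_cases hi : b ≤ i
  · have := isIso_homology_truncGEπ K b i hi
    exact P.prop_of_iso (asIso ((homologyFunctor C i).map ((tt.truncGEπ b).app K))) (h i)
  · exact P.prop_of_isZero (isZero_of_isGE _ b i (by omega))

/-- the map `K₀(P) → K₀(D^b_P)` on generators -/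
noncomputable def fwd₀ : FreeAbelianGroup (Subtype P) →+ KZero.K0tr (Q P) :=
  FreeAbelianGroup.lift (fun X => KZero.clTr (Q P) ((singleFunctor C 0).obj X.1))

lemma relSub_le_ker : KZero.relSub P ≤ (fwd₀ P).ker := by
  unfold KZero.relSub
  rw [AddSubgroup.closure_le]
  rintro x ⟨S, h₁, h₂, h₃, hS, rfl⟩
  change fwd₀ P _ = 0
  simp only [fwd₀, map_sub, FreeAbelianGroup.lift_apply_of]
  have h := KTr.cl_tri (Q P) hS.singleTriangle hS.singleTriangle_distinguished
    (Q_single P h₁ 0) (Q_single P h₂ 0) (Q_single P h₃ 0)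
  change KZero.clTr (Q P) ((singleFunctor C 0).obj S.X₂) =
    KZero.clTr (Q P) ((singleFunctor C 0).obj S.X₁) +
      KZero.clTr (Q P) ((singleFunctor C 0).obj S.X₃) at h
  rw [h]
  abel

/-- the map `K₀(P) → K₀(D^b_P)` -/
noncomputable def fwd : KZero.K0sub P →+ KZero.K0tr (Q P) :=
  QuotientAddGroup.lift _ (fwd₀ P) (relSub_le_ker P)

lemma fwd_cl {X : C} (hX : P X) :
    fwd P (KZero.clSub P X) = KZero.clTr (Q P) ((singleFunctor C 0).obj X) := by
  rw [clSub_eq P hX]
  change fwd₀ P _ = _
  simp only [fwd₀, FreeAbelianGroup.lift_apply_of]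

variable [P.IsClosedUnderKernels]

/-- the Euler characteristic map on generators -/
noncomputable def bwd₀ : FreeAbelianGroup (Subtype (Q P)) →+ KZero.K0sub P :=
  FreeAbelianGroup.lift (fun K => χ P K.1)

lemma relTr_le_ker : KZero.relTr (Q P) ≤ (bwd₀ P).ker := by
  unfold KZero.relTr
  rw [AddSubgroup.closure_le]
  rintro x ⟨T, ⟨h₁, a₁, b₁, _, _⟩, ⟨h₂, a₂, b₂, _, _⟩, ⟨h₃, a₃, b₃, _, _⟩, hT, rfl⟩
  change bwd₀ P _ = 0
  simp only [bwd₀, map_sub, FreeAbelianGroup.lift_apply_of]
  rw [χ_additive P T hT h₁ h₂ h₃ a₁ b₁ a₂ b₂ a₃ b₃]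
  abel

/-- the Euler characteristic map `K₀(D^b_P) → K₀(P)` -/
noncomputable def bwd : KZero.K0tr (Q P) →+ KZero.K0sub P :=
  QuotientAddGroup.lift _ (bwd₀ P) (relTr_le_ker P)

lemma bwd_cl {K : DerivedCategory C} (hK : Q P K) :
    bwd P (KZero.clTr (Q P) K) = χ P K := by
  rw [KTr.clTr_eq (Q P) hK]
  change bwd₀ P _ = _
  simp only [bwd₀, FreeAbelianGroup.lift_apply_of]

lemma bwd_fwd (x : KZero.K0sub P) : bwd P (fwd P x) = x := by
  induction x using QuotientAddGroup.induction_on with
  | H x =>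
    induction x using FreeAbelianGroup.induction_on with
    | zero => simp
    | of X =>
      have h1 : (QuotientAddGroup.mk (FreeAbelianGroup.of X) : KZero.K0sub P) =
        KZero.clSub P X.1 := (clSub_eq P X.2).symm
      rw [h1, fwd_cl P X.2, bwd_cl P (Q_single P X.2 0), χ_single]
      simp [sgn]
    | neg X hX =>
      rw [QuotientAddGroup.mk_neg, map_neg, map_neg, hX]
    | add x y hx hy =>
      rw [QuotientAddGroup.mk_add, map_add, map_add, hx, hy]

lemma fwd_bwd_single {Y : C} (hY : P Y) (n : ℤ) :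
    fwd P (bwd P (KZero.clTr (Q P) ((singleFunctor C n).obj Y))) =
      KZero.clTr (Q P) ((singleFunctor C n).obj Y) := by
  rw [bwd_cl P (Q_single P hY n), χ_single, map_zsmul, fwd_cl P hY, clTr_single P hY n]

open DTrunc in
lemma fwd_bwd_aux (n : ℕ) : ∀ (K : DerivedCategory C) (a b : ℤ) (_ : tt.IsGE K a)
    (_ : tt.IsLE K b) (_ : b < a + n) (_ : Q P K),
    fwd P (bwd P (KZero.clTr (Q P) K)) = KZero.clTr (Q P) K := by
  induction n with
  | zero =>
    intro K a b _ _ hab hK
    have hz : IsZero K := tt.isZero K b a (by simpa using hab)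
    rw [KTr.cl_zero (Q P) hz hK, map_zero, map_zero]
  | succ n ih =>
    intro K a b _ _ hab hK
    have hT := tt.triangleLTGE_distinguished b K
    have h₁ : Q P ((tt.truncLT b).obj K) := Q_truncLT P hK b
    have h₃ : Q P ((tt.truncGE b).obj K) := Q_truncGE P hK b
    have h := KTr.cl_tri (Q P) _ hT h₁ hK h₃
    change KZero.clTr (Q P) K = KZero.clTr (Q P) ((tt.truncLT b).obj K) +
      KZero.clTr (Q P) ((tt.truncGE b).obj K) at h
    have e₁ := ih ((tt.truncLT b).obj K) a (b - 1) inferInstance inferInstance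
      (by push_cast at hab; omega) h₁
    obtain ⟨Y, ⟨e⟩⟩ := exists_iso_singleFunctor_obj_of_isGE_of_isLE ((tt.truncGE b).obj K) b
    have hY : P Y := by
      have h3 := (Q_of_iso P e h₃).1 b
      exact P.prop_of_iso (homologySingleIso Y b) h3
    have e₃ : fwd P (bwd P (KZero.clTr (Q P) ((tt.truncGE b).obj K))) =
        KZero.clTr (Q P) ((tt.truncGE b).obj K) := by
      rw [KTr.cl_iso (Q P) e h₃ (Q_single P hY b) (Q_zero P)]
      exact fwd_bwd_single P hY b
    rw [h, map_add, map_add, e₁, e₃]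

lemma fwd_bwd (x : KZero.K0tr (Q P)) : fwd P (bwd P x) = x := by
  induction x using QuotientAddGroup.induction_on with
  | H x =>
    induction x using FreeAbelianGroup.induction_on with
    | zero => simp
    | of K =>
      have h1 : (QuotientAddGroup.mk (FreeAbelianGroup.of K) : KZero.K0tr (Q P)) =
        KZero.clTr (Q P) K.1 := (KTr.clTr_eq (Q P) K.2).symm
      obtain ⟨h, a, b, ha, hb⟩ := K.2
      rw [h1]
      exact fwd_bwd_aux P (b - a + 1).toNat K.1 a b ha hb (by omega) K.2
    | neg X hX =>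
      rw [QuotientAddGroup.mk_neg, map_neg, map_neg, hX]
    | add x y hx hy =>
      rw [QuotientAddGroup.mk_add, map_add, map_add, hx, hy]

theorem main : ∃ φ : KZero.K0sub P ≃+ KZero.K0tr (Q P),
    ∀ X : C, P X → φ (KZero.clSub P X) = KZero.clTr (Q P) ((singleFunctor C 0).obj X) :=
  ⟨{ toFun := fwd P
     invFun := bwd P
     left_inv := bwd_fwd P
     right_inv := fwd_bwd P
     map_add' := map_add _ }, fun X hX => fwd_cl P hX⟩

end Groth.Agent.H2.KThick
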