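import Mathlib

/-! Dimension theory of finitely generated algebras over a field. helper2

Main results (namespace `Groth.Agent.H2.DimFG`):
* `ringKrullDim_eq_of_integral_injective`
* `ringKrullDim_mvPolynomial_fin`
* `exists_dim_eq_trdeg` : for a f.g. `k`-domain `A`, `dim A = trdeg_k A = s`
* `ringKrullDim_quotient_prime_mvPolynomial` : `dim k[x_1..x_s]/(f) + 1 = s` for `f` prime
* `ringKrullDim_quotient_add_one_of_covBy` : `dim A/p + 1 = dim A` for a height-one prime `p`
* `length_eq_ringKrullDim_of_maximal_chain` : all maximal chains of primes have length `dim A`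
-/

set_option autoImplicit false
universe u

open Polynomial

namespace Groth.Agent.H2.DimFG

/-- integral injective extensions preserve Krull dimension -/
theorem ringKrullDim_eq_of_integral_injective (A B : Type*) [CommRing A] [CommRing B] [Algebra A B]
    [Algebra.IsIntegral A B] (hinj : Function.Injective (algebraMap A B)) :
    ringKrullDim B = ringKrullDim A := by
  have h1 : ringKrullDim B ≤ ringKrullDim A := by
    unfold ringKrullDim
    apply Order.krullDim_le_of_strictMono (PrimeSpectrum.comap (algebraMap A B))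
    intro P Q hPQ
    rw [← PrimeSpectrum.asIdeal_lt_asIdeal] at hPQ ⊢
    exact Ideal.IsIntegral.comap_lt_comap hPQ
  refine le_antisymm h1 ?_
  unfold ringKrullDim
  rw [Order.krullDim]
  apply iSup_le
  intro l
  obtain ⟨P, hP, hPl⟩ := Ideal.exists_ideal_over_prime_of_isIntegral (S := B) l.head.asIdeal
    (⊥ : Ideal B) (by rw [Ideal.comap_bot_of_injective _ hinj]; exact bot_le)
  have : P.LiesOver l.head.asIdeal := ⟨hPl.2.symm⟩
  have := hPl.1
  obtain ⟨L, hL, -, -⟩ := Ideal.exists_ltSeries_of_hasGoingUp l P
  rw [← hL]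
  exact Order.LTSeries.length_le_krullDim L

theorem ringKrullDim_mvPolynomial_fin (k : Type*) [Field k] (s : ℕ) :
    ringKrullDim (MvPolynomial (Fin s) k) = s := by
  rw [MvPolynomial.ringKrullDim_of_isNoetherianRing, ringKrullDim_eq_zero_of_field]
  simp

/-- `dim A = trdeg_k A` for a finitely generated `k`-domain. -/
theorem exists_dim_eq_trdeg (k A : Type u) [Field k] [CommRing A] [IsDomain A] [Algebra k A]
    [Algebra.FiniteType k A] :
    ∃ s : ℕ, ringKrullDim A = s ∧ Algebra.trdeg k A = s := by
  obtain ⟨s, g, hinj, hint⟩ := exists_integral_inj_algHom_of_fg k A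
  refine ⟨s, ?_, ?_⟩
  · algebraize [g.toRingHom]
    have : Algebra.IsIntegral (MvPolynomial (Fin s) k) A := ⟨hint⟩
    rw [ringKrullDim_eq_of_integral_injective (MvPolynomial (Fin s) k) A hinj,
      ringKrullDim_mvPolynomial_fin]
  · algebraize [g.toRingHom]
    have : Algebra.IsIntegral (MvPolynomial (Fin s) k) A := ⟨hint⟩
    have hfs : FaithfulSMul (MvPolynomial (Fin s) k) A :=
      (faithfulSMul_iff_algebraMap_injective _ _).mpr hinj
    have htower : IsScalarTower k (MvPolynomial (Fin s) k) A :=
      IsScalarTower.of_algebraMap_eq' (by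
        ext x
        simp [RingHom.algebraMap_toAlgebra])
    have h := trdeg_add_eq k (MvPolynomial (Fin s) k) (A := A)
    rw [trdeg_eq_zero (R := MvPolynomial (Fin s) k) (A := A), add_zero,
      MvPolynomial.trdeg_of_isDomain] at h
    rw [← h]
    simp


section hypersurface

/-- In `R'[X]` over a domain, a constant divisible by a polynomial of positive degree is zero. -/
lemma eq_zero_of_C_mem_span {R' : Type*} [CommRing R'] [IsDomain R'] (F : R'[X])
    (hF : 0 < F.natDegree) (r : R') (hr : Polynomial.C r ∈ Ideal.span {F}) : r = 0 := by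
  obtain ⟨G, hG⟩ := Ideal.mem_span_singleton.mp hr
  by_contra hr0
  have hG0 : G ≠ 0 := by
    rintro rfl
    rw [mul_zero] at hG
    exact hr0 (Polynomial.C_eq_zero.mp hG)
  have hF0 : F ≠ 0 := by
    rintro rfl
    simp at hF
  have := congrArg Polynomial.natDegree hG
  rw [Polynomial.natDegree_C, Polynomial.natDegree_mul hF0 hG0] at this
  omega

variable (k : Type u) [Field k]

/-- the inclusion `k[x_1..x_n] → k[x_0..x_n]` -/
noncomputable def incl (n : ℕ) : MvPolynomial (Fin n) k →ₐ[k] MvPolynomial (Fin (n + 1)) k :=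
  (MvPolynomial.finSuccEquiv k n).symm.toAlgHom.comp (Polynomial.CAlgHom)

lemma finSuccEquiv_incl (n : ℕ) (p : MvPolynomial (Fin n) k) :
    MvPolynomial.finSuccEquiv k n (incl k n p) = Polynomial.C p := by
  simp [incl]

lemma injective_mk_comp_incl (n : ℕ) (f : MvPolynomial (Fin (n + 1)) k)
    (hf : 0 < MvPolynomial.degreeOf 0 f) :
    Function.Injective ((Ideal.Quotient.mkₐ k (Ideal.span {f})).comp (incl k n)) := by
  rw [injective_iff_map_eq_zero]
  intro p hp
  rw [AlgHom.comp_apply, Ideal.Quotient.mkₐ_eq_mk, Ideal.Quotient.eq_zero_iff_mem] at hp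
  obtain ⟨g, hg⟩ := Ideal.mem_span_singleton.mp hp
  have h2 := congrArg (MvPolynomial.finSuccEquiv k n) hg
  rw [finSuccEquiv_incl, map_mul] at h2
  apply eq_zero_of_C_mem_span (MvPolynomial.finSuccEquiv k n f)
    (by rw [MvPolynomial.natDegree_finSuccEquiv]; exact hf) p
  rw [h2]
  exact Ideal.mem_span_singleton.mpr (dvd_mul_right _ _)

lemma le_trdeg_quotient_zero (n : ℕ) (f : MvPolynomial (Fin (n + 1)) k)
    (hf : 0 < MvPolynomial.degreeOf 0 f) :
    (n : Cardinal.{u}) ≤ Algebra.trdeg k (MvPolynomial (Fin (n + 1)) k ⧸ Ideal.span {f}) := by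
  have h := trdeg_le_of_injective _ (injective_mk_comp_incl k n f hf)
  rw [MvPolynomial.trdeg_of_isDomain] at h
  simpa using h

lemma le_trdeg_quotient (n : ℕ) (f : MvPolynomial (Fin (n + 1)) k) (i : Fin (n + 1))
    (hf : 0 < MvPolynomial.degreeOf i f) :
    (n : Cardinal.{u}) ≤ Algebra.trdeg k (MvPolynomial (Fin (n + 1)) k ⧸ Ideal.span {f}) := by
  let ρ : MvPolynomial (Fin (n + 1)) k ≃ₐ[k] MvPolynomial (Fin (n + 1)) k :=
    MvPolynomial.renameEquiv k (Equiv.swap 0 i)
  have hρ : 0 < MvPolynomial.degreeOf 0 (ρ f) := by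
    have := MvPolynomial.degreeOf_rename_of_injective (p := f) (Equiv.swap 0 i).injective i
    rw [Equiv.swap_apply_right] at this
    change 0 < MvPolynomial.degreeOf 0 (MvPolynomial.rename (Equiv.swap 0 i) f)
    rw [this]
    exact hf
  have hmap : Ideal.span {ρ f} = (Ideal.span {f}).map (ρ : MvPolynomial (Fin (n + 1)) k →+* _) := by
    rw [Ideal.map_span, Set.image_singleton]
    rfl
  let e : (MvPolynomial (Fin (n + 1)) k ⧸ Ideal.span {f}) ≃ₐ[k]
      (MvPolynomial (Fin (n + 1)) k ⧸ Ideal.span {ρ f}) :=
    Ideal.quotientEquivAlg _ _ ρ hmap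
  rw [e.trdeg_eq]
  exact le_trdeg_quotient_zero k n (ρ f) hρ

lemma exists_degreeOf_pos (n : ℕ) (f : MvPolynomial (Fin (n + 1)) k) (hf : Prime f) :
    ∃ i, 0 < MvPolynomial.degreeOf i f := by
  by_contra h
  push Not at h
  have h0 : f.totalDegree = 0 := by
    rw [MvPolynomial.totalDegree_eq_zero_iff]
    intro m hm l
    have := MvPolynomial.monomial_le_degreeOf l hm
    have := h l
    omega
  rw [MvPolynomial.totalDegree_eq_zero_iff_eq_C] at h0
  have hc : f.coeff 0 ≠ 0 := by
    intro hc
    rw [hc, map_zero] at h0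
    exact hf.ne_zero h0
  apply hf.not_isUnit
  rw [h0]
  exact (IsUnit.mk0 _ hc).map MvPolynomial.C

theorem ringKrullDim_quotient_prime_mvPolynomial (n : ℕ) (f : MvPolynomial (Fin (n + 1)) k)
    (hf : Prime f) :
    ringKrullDim (MvPolynomial (Fin (n + 1)) k ⧸ Ideal.span {f}) = n := by
  have hprime : (Ideal.span {f}).IsPrime := (Ideal.span_singleton_prime hf.ne_zero).mpr hf
  have hdom : IsDomain (MvPolynomial (Fin (n + 1)) k ⧸ Ideal.span {f}) :=
    Ideal.Quotient.isDomain _
  obtain ⟨s, hs1, hs2⟩ := exists_dim_eq_trdeg k (MvPolynomial (Fin (n + 1)) k ⧸ Ideal.span {f})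
  obtain ⟨i, hi⟩ := exists_degreeOf_pos k n f hf
  have h1 := le_trdeg_quotient k n f i hi
  rw [hs2] at h1
  have h1' : n ≤ s := by exact_mod_cast h1
  have h2 := ringKrullDim_quotient_succ_le_of_nonZeroDivisor
    (mem_nonZeroDivisors_of_ne_zero hf.ne_zero)
  rw [ringKrullDim_mvPolynomial_fin, hs1] at h2
  have h2' : s + 1 ≤ n + 1 := by exact_mod_cast h2
  rw [hs1]
  have : s = n := by omega
  rw [this]

end hypersurface


section heightOne

/-- For a height-one prime `p` of a finitely generated `k`-domain, `dim A/p + 1 = dim A`. -/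
theorem ringKrullDim_quotient_add_one_of_heightOne (k A : Type u) [Field k] [CommRing A]
    [IsDomain A] [Algebra k A] [Algebra.FiniteType k A] (p : Ideal A) [p.IsPrime] (hp0 : p ≠ ⊥)
    (hp1 : ∀ q : Ideal A, q.IsPrime → q ≤ p → q = ⊥ ∨ q = p) :
    ringKrullDim (A ⧸ p) + 1 = ringKrullDim A := by
  obtain ⟨s, g, hinj, hint⟩ := exists_integral_inj_algHom_of_fg k A
  algebraize [g.toRingHom]
  have hintegral : Algebra.IsIntegral (MvPolynomial (Fin s) k) A := ⟨hint⟩
  have hfs : FaithfulSMul (MvPolynomial (Fin s) k) A :=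
    (faithfulSMul_iff_algebraMap_injective _ _).mpr hinj
  have hdimA : ringKrullDim A = s := by
    rw [ringKrullDim_eq_of_integral_injective (MvPolynomial (Fin s) k) A hinj,
      ringKrullDim_mvPolynomial_fin]
  -- the contraction
  set q : Ideal (MvPolynomial (Fin s) k) := p.under (MvPolynomial (Fin s) k) with hq
  have hqprime : q.IsPrime := inferInstance
  have hlies : p.LiesOver q := ⟨rfl⟩
  have hq0 : q ≠ ⊥ := fun h => hp0 (Ideal.eq_bot_of_comap_eq_bot h)
  -- `q` has height one
  have hq1 : ∀ q' : Ideal (MvPolynomial (Fin s) k), q'.IsPrime → q' ≤ q → q' = ⊥ ∨ q' = q := by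
    intro q' hq'prime hle
    by_cases heq : q' = q
    · exact Or.inr heq
    left
    have hlt : q' < q := lt_of_le_of_ne hle heq
    obtain ⟨p', hp'lt, hp'prime, hp'lies⟩ := Ideal.exists_ideal_lt_liesOver_of_lt (p := q')
      (q := q) p hlt
    rcases hp1 p' hp'prime hp'lt.le with h | h
    · rw [hp'lies.over, h]
      exact Ideal.comap_bot_of_injective _ hinj
    · exact absurd h hp'lt.ne
  -- a prime element generating `q`
  obtain ⟨f, hfq, hfprime⟩ := Ideal.IsPrime.exists_mem_prime_of_ne_bot hqprime hq0
  have hspan : Ideal.span {f} = q := by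
    have hprime : (Ideal.span {f}).IsPrime :=
      (Ideal.span_singleton_prime hfprime.ne_zero).mpr hfprime
    have hle : Ideal.span {f} ≤ q := (Ideal.span_singleton_le_iff_mem _).mpr hfq
    rcases hq1 _ hprime hle with h | h
    · exact absurd (Ideal.span_singleton_eq_bot.mp h) hfprime.ne_zero
    · exact h
  -- `s` is a successor
  obtain ⟨n, rfl⟩ : ∃ n, s = n + 1 := by
    rcases s with _ | n
    · exfalso
      apply hfprime.not_isUnit
      rw [MvPolynomial.eq_C_of_isEmpty f]
      have : f.coeff 0 ≠ 0 := by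
        intro h0
        apply hfprime.ne_zero
        rw [MvPolynomial.eq_C_of_isEmpty f, h0, map_zero]
      exact (IsUnit.mk0 _ this).map MvPolynomial.C
    · exact ⟨n, rfl⟩
  have hdimq : ringKrullDim (MvPolynomial (Fin (n + 1)) k ⧸ q) = n := by
    rw [← hspan]
    exact ringKrullDim_quotient_prime_mvPolynomial k n f hfprime
  have hdimp : ringKrullDim (A ⧸ p) = ringKrullDim (MvPolynomial (Fin (n + 1)) k ⧸ q) :=
    ringKrullDim_eq_of_integral_injective (MvPolynomial (Fin (n + 1)) k ⧸ q) (A ⧸ p)
      (FaithfulSMul.algebraMap_injective _ _)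
  rw [hdimp, hdimq, hdimA]
  norm_cast

end heightOne


section chains

/-- If `x ⋖ y` are primes of a finitely generated `k`-algebra then `dim A/x = dim A/y + 1`. -/
theorem ringKrullDim_quotient_of_covBy (k A : Type u) [Field k] [CommRing A]
    [Algebra k A] [Algebra.FiniteType k A] (x y : PrimeSpectrum A) (hxy : x ⋖ y) :
    ringKrullDim (A ⧸ x.asIdeal) = ringKrullDim (A ⧸ y.asIdeal) + 1 := by
  have hle : x.asIdeal ≤ y.asIdeal := hxy.le
  set B := A ⧸ x.asIdeal
  have hsurj : Function.Surjective (Ideal.Quotient.mk x.asIdeal) := Ideal.Quotient.mk_surjective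
  set p : Ideal B := y.asIdeal.map (Ideal.Quotient.mk x.asIdeal) with hp
  have hcomap : p.comap (Ideal.Quotient.mk x.asIdeal) = y.asIdeal := by
    rw [hp, Ideal.comap_map_of_surjective _ hsurj, ← RingHom.ker_eq_comap_bot, Ideal.mk_ker]
    exact sup_eq_left.mpr hle
  have hpprime : p.IsPrime := by
    apply Ideal.map_isPrime_of_surjective hsurj
    rw [Ideal.mk_ker]; exact hle
  have hp0 : p ≠ ⊥ := by
    intro h0
    have : y.asIdeal ≤ x.asIdeal := by
      rw [← hcomap, h0, ← RingHom.ker_eq_comap_bot, Ideal.mk_ker]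
    exact hxy.lt.not_ge this
  have hp1 : ∀ q' : Ideal B, q'.IsPrime → q' ≤ p → q' = ⊥ ∨ q' = p := by
    intro q' hq' hq'le
    have hqprime : (q'.comap (Ideal.Quotient.mk x.asIdeal)).IsPrime := Ideal.comap_isPrime _ _
    let q : PrimeSpectrum A := ⟨q'.comap (Ideal.Quotient.mk x.asIdeal), hqprime⟩
    have h1 : x ≤ q := by
      change x.asIdeal ≤ q'.comap (Ideal.Quotient.mk x.asIdeal)
      intro a ha
      rw [Ideal.mem_comap, Ideal.Quotient.eq_zero_iff_mem.mpr ha]
      exact q'.zero_mem
    have h2 : q ≤ y := by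
      change q'.comap (Ideal.Quotient.mk x.asIdeal) ≤ y.asIdeal
      rw [← hcomap]
      exact Ideal.comap_mono hq'le
    rcases hxy.eq_or_eq h1 h2 with h | h
    · left
      have := congrArg PrimeSpectrum.asIdeal h
      change q'.comap (Ideal.Quotient.mk x.asIdeal) = x.asIdeal at this
      rw [← Ideal.map_comap_of_surjective _ hsurj q', this, Ideal.map_quotient_self]
    · right
      have := congrArg PrimeSpectrum.asIdeal h
      change q'.comap (Ideal.Quotient.mk x.asIdeal) = y.asIdeal at this
      rw [← Ideal.map_comap_of_surjective _ hsurj q', this]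
  have key := ringKrullDim_quotient_add_one_of_heightOne k B p hp0 hp1
  rw [← key]
  congr 1
  exact ringKrullDim_eq_of_ringEquiv (DoubleQuot.quotQuotEquivQuotOfLE hle)

/-- **All maximal chains of primes have the same length** in a f.g. algebra over a field:
a saturated chain of primes ending at a maximal ideal has length `dim A/c.head`. -/
theorem length_eq_ringKrullDim_quotient_head (k A : Type u) [Field k] [CommRing A]
    [Algebra k A] [Algebra.FiniteType k A] (c : LTSeries (PrimeSpectrum A))
    (hmax : c.last.asIdeal.IsMaximal)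
    (hsat : ∀ i : Fin c.length, c i.castSucc ⋖ c i.succ) :
    (c.length : WithBot ℕ∞) = ringKrullDim (A ⧸ c.head.asIdeal) := by
  have key : ∀ i : Fin (c.length + 1),
      ringKrullDim (A ⧸ (c i).asIdeal) = ((c.length - i : ℕ) : WithBot ℕ∞) := by
    intro i
    induction i using Fin.reverseInduction with
    | last =>
      have : (c (Fin.last c.length)).asIdeal.IsMaximal := hmax
      let := Ideal.Quotient.field (c (Fin.last c.length)).asIdeal
      rw [ringKrullDim_eq_zero_of_field]
      simp
    | cast i ih =>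
      rw [ringKrullDim_quotient_of_covBy k A _ _ (hsat i), ih]
      have : c.length - (i.castSucc : ℕ) = c.length - (i.succ : ℕ) + 1 := by
        have := i.2
        simp only [Fin.val_castSucc, Fin.val_succ]
        omega
      rw [this]
      norm_cast
  have := key 0
  change ringKrullDim (A ⧸ c.head.asIdeal) = _ at this
  rw [this]
  simp

/-- S10833: maximal chains in a f.g. domain have length `dim A`. -/
theorem length_eq_ringKrullDim_of_maximal_chain (k A : Type u) [Field k] [CommRing A]
    [IsDomain A] [Algebra k A] [Algebra.FiniteType k A] (c : LTSeries (PrimeSpectrum A))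
    (h0 : c.head.asIdeal = ⊥) (hmax : c.last.asIdeal.IsMaximal)
    (hsat : ∀ i : Fin c.length, c i.castSucc ⋖ c i.succ) :
    (c.length : WithBot ℕ∞) = ringKrullDim A := by
  rw [length_eq_ringKrullDim_quotient_head k A c hmax hsat, h0]
  exact ringKrullDim_eq_of_ringEquiv (RingEquiv.quotientBot A)

end chains


section heights

/-- telescoping along a saturated chain of primes -/
theorem ringKrullDim_quotient_head_eq (k A : Type u) [Field k] [CommRing A]
    [Algebra k A] [Algebra.FiniteType k A] (c : LTSeries (PrimeSpectrum A))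
    (hsat : ∀ i : Fin c.length, c i.castSucc ⋖ c i.succ) :
    ringKrullDim (A ⧸ c.head.asIdeal) = ringKrullDim (A ⧸ c.last.asIdeal) + (c.length : ℕ) := by
  have key : ∀ i : Fin (c.length + 1),
      ringKrullDim (A ⧸ (c i).asIdeal) =
        ringKrullDim (A ⧸ c.last.asIdeal) + ((c.length - i : ℕ) : WithBot ℕ∞) := by
    intro i
    induction i using Fin.reverseInduction with
    | last =>
      simp only [Fin.val_last, Nat.sub_self, Nat.cast_zero, add_zero]
      rfl
    | cast i ih =>
      rw [ringKrullDim_quotient_of_covBy k A _ _ (hsat i), ih]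
      have : c.length - (i.castSucc : ℕ) = c.length - (i.succ : ℕ) + 1 := by
        have := i.2
        simp only [Fin.val_castSucc, Fin.val_succ]
        omega
      rw [this, add_assoc]
      norm_cast
  have := key 0
  simp only [Fin.val_zero, Nat.sub_zero] at this
  exact this

/-- In any partial order, a chain realizing a finite height is saturated and starts at a minimal
element. -/
theorem exists_saturated_series {α : Type*} [PartialOrder α] (a : α) {n : ℕ}
    (h : Order.height a = n) :
    ∃ c : LTSeries α, c.last = a ∧ c.length = n ∧ IsMin c.head ∧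
      ∀ i : Fin c.length, c i.castSucc ⋖ c i.succ := by
  obtain ⟨c, hlast, hlen⟩ := Order.exists_series_of_height_eq_coe a h
  have hh : (c.length : ℕ∞) = Order.height c.last := by rw [hlast, h, hlen]
  have hidx := Order.height_eq_index_of_length_eq_height_last hh
  refine ⟨c, hlast, hlen, ?_, ?_⟩
  · rw [← Order.height_eq_zero]
    have := hidx 0
    simp only [Fin.val_zero, Nat.cast_zero] at this
    exact this
  · intro i
    refine ⟨c.strictMono (Fin.castSucc_lt_succ), ?_⟩
    intro z hz1 hz2
    have h1 := Order.height_add_one_le hz1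
    have h2 := Order.height_add_one_le hz2
    rw [hidx i.castSucc] at h1
    rw [hidx i.succ] at h2
    have h3 : ((i.castSucc : ℕ) : ℕ∞) + 1 + 1 ≤ ((i.succ : ℕ) : ℕ∞) :=
      le_trans (add_le_add_left h1 1) h2
    simp only [Fin.val_castSucc, Fin.val_succ] at h3
    norm_cast at h3
    omega

/-- `ht p + dim A/p = dim A` in a finitely generated domain over a field. -/
theorem height_add_ringKrullDim_quotient (k A : Type u) [Field k] [CommRing A] [IsDomain A]
    [Algebra k A] [Algebra.FiniteType k A] (p : Ideal A) [hp : p.IsPrime] :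
    (p.height : WithBot ℕ∞) + ringKrullDim (A ⧸ p) = ringKrullDim A := by
  have hnoeth : IsNoetherianRing A := Algebra.FiniteType.isNoetherianRing k A
  obtain ⟨n, hn⟩ : ∃ n : ℕ, p.height = n := by
    have := Ideal.height_ne_top_of_isPrime (I := p)
    exact ⟨p.height.toNat, (ENat.natCast_toNat this).symm⟩
  have hn' : Order.height (⟨p, hp⟩ : PrimeSpectrum A) = n := by
    rw [← PrimeSpectrum.height_eq_orderHeight]; exact hn
  obtain ⟨c, hlast, hlen, hmin, hsat⟩ := exists_saturated_series _ hn'
  have hhead : c.head.asIdeal = ⊥ := by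
    have hbot : (⟨⊥, Ideal.isPrime_bot⟩ : PrimeSpectrum A) ≤ c.head := by
      change (⊥ : Ideal A) ≤ c.head.asIdeal
      exact bot_le
    have := hmin hbot
    exact le_bot_iff.mp this
  have key := ringKrullDim_quotient_head_eq k A c hsat
  rw [hhead, hlast, hlen] at key
  have h0 : ringKrullDim (A ⧸ (⊥ : Ideal A)) = ringKrullDim A :=
    ringKrullDim_eq_of_ringEquiv (RingEquiv.quotientBot A)
  rw [h0] at key
  rw [key, hn, add_comm]
  rfl

theorem height_eq_ringKrullDim_of_isMaximal (k A : Type u) [Field k] [CommRing A] [IsDomain A]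
    [Algebra k A] [Algebra.FiniteType k A] (m : Ideal A) [hm : m.IsMaximal] :
    (m.height : WithBot ℕ∞) = ringKrullDim A := by
  have h := height_add_ringKrullDim_quotient k A m
  let := Ideal.Quotient.field m
  rwa [ringKrullDim_eq_zero_of_field, add_zero] at h

end heights


section fractionRing

theorem trdeg_fractionRing (k S : Type u) [Field k] [CommRing S] [IsDomain S] [Algebra k S] :
    Algebra.trdeg k (FractionRing S) = Algebra.trdeg k S := by
  have : Algebra.IsAlgebraic S (FractionRing S) :=
    IsLocalization.isAlgebraic (FractionRing S) (nonZeroDivisors S)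
  have h := trdeg_add_eq k S (A := FractionRing S)
  rw [trdeg_eq_zero (R := S) (A := FractionRing S), add_zero] at h
  exact h.symm

/-- S2680: dimension of f.g. domains and of their local rings at maximal ideals. -/
theorem exists_trdeg_dim_localization (k S : Type u) [Field k] [CommRing S] [IsDomain S]
    [Algebra k S] [Algebra.FiniteType k S] :
    ∃ n : ℕ, Algebra.trdeg k (FractionRing S) = n ∧ ringKrullDim S = n ∧
      ∀ (m : Ideal S) [m.IsMaximal], ringKrullDim (Localization.AtPrime m) = n := by
  obtain ⟨n, h1, h2⟩ := exists_dim_eq_trdeg k S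
  refine ⟨n, by rw [trdeg_fractionRing, h2], h1, fun m hm => ?_⟩
  rw [IsLocalization.AtPrime.ringKrullDim_eq_height m (Localization.AtPrime m),
    height_eq_ringKrullDim_of_isMaximal k S m, h1]

end fractionRing


section saturated

/-- the Krull dimension of a nontrivial quotient of a f.g. algebra over a field is a natural number -/
theorem exists_ringKrullDim_eq_nat (k A : Type u) [Field k] [CommRing A] [Nontrivial A]
    [Algebra k A] [Algebra.FiniteType k A] : ∃ a : ℕ, ringKrullDim A = a := by
  obtain ⟨s, g, hinj, hint⟩ := exists_integral_inj_algHom_of_fg k A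
  refine ⟨s, ?_⟩
  algebraize [g.toRingHom]
  have : Algebra.IsIntegral (MvPolynomial (Fin s) k) A := ⟨hint⟩
  rw [ringKrullDim_eq_of_integral_injective (MvPolynomial (Fin s) k) A hinj,
    ringKrullDim_mvPolynomial_fin]

/-- S9153: in a f.g. domain over a field, a saturated chain of primes from `p` to `q` has length
`ht q - ht p`. -/
theorem length_add_height_head_eq (k A : Type u) [Field k] [CommRing A] [IsDomain A]
    [Algebra k A] [Algebra.FiniteType k A] (s : LTSeries (PrimeSpectrum A))
    (hsat : ∀ i : Fin s.length, s (Fin.castSucc i) ⋖ s (Fin.succ i)) :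
    (s.length : ℕ∞) + s.head.asIdeal.height = s.last.asIdeal.height := by
  have hnoeth : IsNoetherianRing A := Algebra.FiniteType.isNoetherianRing k A
  have h1 := ringKrullDim_quotient_head_eq k A s hsat
  have h2 := height_add_ringKrullDim_quotient k A s.head.asIdeal
  have h3 := height_add_ringKrullDim_quotient k A s.last.asIdeal
  obtain ⟨a, ha⟩ := exists_ringKrullDim_eq_nat k (A ⧸ s.last.asIdeal)
  obtain ⟨d, hd⟩ := exists_ringKrullDim_eq_nat k A
  obtain ⟨x, hx⟩ : ∃ x : ℕ, s.head.asIdeal.height = x :=
    ⟨_, (ENat.natCast_toNat (Ideal.height_ne_top_of_isPrime)).symm⟩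
  obtain ⟨y, hy⟩ : ∃ y : ℕ, s.last.asIdeal.height = y :=
    ⟨_, (ENat.natCast_toNat (Ideal.height_ne_top_of_isPrime)).symm⟩
  rw [ha] at h1 h3
  rw [h1, hx, hd] at h2
  rw [hy, hd] at h3
  rw [hx, hy]
  have h2' : x + (a + s.length) = d := by exact_mod_cast h2
  have h3' : y + a = d := by exact_mod_cast h3
  have : s.length + x = y := by omega
  exact_mod_cast this

end saturated

end Groth.Agent.H2.DimFG
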