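import Mathlib

/-!
# Every module is a directed colimit of finitely presented modules

Index set: pairs `(S, K)` with `S` a finite subset of `M` and `K` a finitely generated submodule of the
relations among `S`; `G (S, K) = R^S / K`.
-/

universe u

namespace Groth.Agent.H2.FPSys

variable {R : Type u} [CommRing R] (M : Type u) [AddCommGroup M] [Module R M]

/-- the canonical surjection from the free module on `M` -/
noncomputable abbrev π : (M →₀ R) →ₗ[R] M := Finsupp.linearCombination R id

/-- index set -/
structure Idx where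
  S : Finset M
  K : Submodule R (M →₀ R)
  fg : K.FG
  le_ker : K ≤ LinearMap.ker (π (R := R) M)
  le_supp : K ≤ Finsupp.supported R R (S : Set M)

variable {M}

noncomputable instance instACGSupported (S : Set M) : AddCommGroup (Finsupp.supported R R S) :=
  inferInstance

instance : Preorder (Idx (R := R) M) where
  le a b := a.S ⊆ b.S ∧ a.K ≤ b.K
  le_refl a := ⟨subset_rfl, le_rfl⟩
  le_trans a b c h1 h2 := ⟨h1.1.trans h2.1, h1.2.trans h2.2⟩

theorem supp_le {a b : Idx (R := R) M} (h : a ≤ b) :
    Finsupp.supported R R (a.S : Set M) ≤ Finsupp.supported R R (b.S : Set M) :=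
  Finsupp.supported_mono (by exact_mod_cast h.1)

instance : Nonempty (Idx (R := R) M) :=
  ⟨⟨∅, ⊥, Submodule.fg_bot, bot_le, bot_le⟩⟩

open Classical in
instance : IsDirected (Idx (R := R) M) (· ≤ ·) :=
  ⟨fun a b => ⟨⟨a.S ∪ b.S, a.K ⊔ b.K, a.fg.sup b.fg, sup_le a.le_ker b.le_ker,
    sup_le (a.le_supp.trans (Finsupp.supported_mono (by simp)))
      (b.le_supp.trans (Finsupp.supported_mono (by simp)))⟩,
    ⟨Finset.subset_union_left, le_sup_left⟩, ⟨Finset.subset_union_right, le_sup_right⟩⟩⟩

/-- relations submodule inside `R^S` -/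
noncomputable abbrev rel (a : Idx (R := R) M) : Submodule R (Finsupp.supported R R (a.S : Set M)) :=
  a.K.comap (Finsupp.supported R R (a.S : Set M)).subtype

/-- the modules -/
abbrev G (a : Idx (R := R) M) : Type u := (Finsupp.supported R R (a.S : Set M)) ⧸ rel a

/-- transition maps -/
noncomputable def f (a b : Idx (R := R) M) (h : a ≤ b) : G a →ₗ[R] G b :=
  Submodule.mapQ (rel a) (rel b) (Submodule.inclusion (supp_le h)) (fun x hx => by
    change ((Submodule.inclusion (supp_le h) x : Finsupp.supported R R (b.S : Set M)) : M →₀ R) ∈ b.K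
    exact h.2 hx)

/-- maps to `M` -/
noncomputable def toM (a : Idx (R := R) M) : G a →ₗ[R] M :=
  Submodule.liftQ (rel a) ((π (R := R) M) ∘ₗ (Finsupp.supported R R (a.S : Set M)).subtype)
    (fun x hx => a.le_ker hx)

theorem f_mk (a b : Idx (R := R) M) (h : a ≤ b) (x : Finsupp.supported R R (a.S : Set M)) :
    f a b h (Submodule.Quotient.mk x) = Submodule.Quotient.mk (Submodule.inclusion (supp_le h) x) :=
  rfl

theorem toM_mk (a : Idx (R := R) M) (x : Finsupp.supported R R (a.S : Set M)) :
    toM a (Submodule.Quotient.mk x) = π (R := R) M x.1 := rfl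

theorem f_self (a : Idx (R := R) M) (x : G a) : f a a le_rfl x = x := by
  obtain ⟨x, rfl⟩ := Submodule.Quotient.mk_surjective _ x
  rfl

theorem f_f (a b c : Idx (R := R) M) (h1 : a ≤ b) (h2 : b ≤ c) (x : G a) :
    f b c h2 (f a b h1 x) = f a c (h1.trans h2) x := by
  obtain ⟨x, rfl⟩ := Submodule.Quotient.mk_surjective _ x
  rfl

instance : DirectedSystem (G (R := R) (M := M)) fun i j h => f i j h where
  map_self i x := f_self i x
  map_map k j i hij hjk x := f_f _ _ _ hij hjk x

theorem toM_f (a b : Idx (R := R) M) (h : a ≤ b) (x : G a) : toM b (f a b h x) = toM a x := by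
  obtain ⟨x, rfl⟩ := Submodule.Quotient.mk_surjective _ x
  rfl

instance (a : Idx (R := R) M) : Module.FinitePresentation R (G a) := by
  have e := Finsupp.supportedEquivFinsupp (R := R) (M := R) (a.S : Set M)
  haveI : Module.FinitePresentation R (Finsupp.supported R R (a.S : Set M)) :=
    Module.FinitePresentation.of_equiv e.symm
  refine Module.finitePresentation_of_surjective (rel a).mkQ (Submodule.mkQ_surjective _) ?_
  rw [Submodule.ker_mkQ]
  apply Submodule.fg_of_fg_map_injective _ (Submodule.subtype_injective _)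
  rw [Submodule.map_comap_subtype, inf_eq_right.2 a.le_supp]
  exact a.fg

theorem exists_toM_eq (m : M) : ∃ (a : Idx (R := R) M) (x : G a), toM a x = m := by
  refine ⟨⟨{m}, ⊥, Submodule.fg_bot, bot_le, bot_le⟩,
    Submodule.Quotient.mk ⟨Finsupp.single m 1, ?_⟩, ?_⟩
  · rw [Finsupp.mem_supported]
    intro y hy
    have := Finsupp.support_single_subset hy
    simpa using this
  · rw [toM_mk]
    simp [π]

theorem exists_f_eq_zero (a : Idx (R := R) M) (x : G a) (hx : toM a x = 0) :
    ∃ (b : Idx (R := R) M) (h : a ≤ b), f a b h x = 0 := by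
  obtain ⟨x, rfl⟩ := Submodule.Quotient.mk_surjective _ x
  rw [toM_mk] at hx
  refine ⟨⟨a.S, a.K ⊔ Submodule.span R {x.1}, a.fg.sup (Submodule.fg_span_singleton _),
    sup_le a.le_ker ?_, sup_le a.le_supp ?_⟩, ⟨subset_rfl, le_sup_left⟩, ?_⟩
  · rw [Submodule.span_singleton_le_iff_mem]
    exact hx
  · rw [Submodule.span_singleton_le_iff_mem]
    exact x.2
  · rw [f_mk, Submodule.Quotient.mk_eq_zero]
    change x.1 ∈ a.K ⊔ Submodule.span R {x.1}
    exact Submodule.mem_sup_right (Submodule.mem_span_singleton_self _)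

open Classical in
/-- the direct limit is `M` -/
noncomputable def directLimitEquiv :
    Module.DirectLimit (G (R := R) (M := M)) (fun i j h => f i j h) ≃ₗ[R] M := by
  refine LinearEquiv.ofBijective
    (Module.DirectLimit.lift R (Idx (R := R) M) G (fun i j h => f i j h) toM
      (fun i j h x => toM_f i j h x)) ⟨?_, ?_⟩
  · rw [injective_iff_map_eq_zero]
    intro z hz
    obtain ⟨i, x, rfl⟩ := Module.DirectLimit.exists_of z
    rw [Module.DirectLimit.lift_of] at hz
    obtain ⟨b, h, hb⟩ := exists_f_eq_zero i x hz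
    rw [← Module.DirectLimit.of_f (hij := h), hb, map_zero]
  · intro m
    obtain ⟨a, x, hx⟩ := exists_toM_eq (R := R) m
    exact ⟨Module.DirectLimit.of R _ G _ a x, by rw [Module.DirectLimit.lift_of, hx]⟩

end Groth.Agent.H2.FPSys
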