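import Groth.Agent.Lib.Helper2.ProjDimFlat
import Mathlib.RingTheory.Flat.FaithfullyFlat.Basic
import Mathlib.RingTheory.Flat.EquationalCriterion
import Mathlib.RingTheory.LocalProperties.ProjectiveDimension

/-! Projective dimension of finite modules over a Noetherian ring is invariant under faithfully
flat base change. -/

universe u

namespace Groth.Agent.H2

open CategoryTheory ModuleCat Limits TensorProduct

variable (A B : Type u) [CommRing A] [CommRing B] [Algebra A B]

theorem projective_of_projective_extendScalars [IsNoetherianRing A] [Module.FaithfullyFlat A B]
    (M : ModuleCat.{u} A) [Module.Finite A M]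
    (h : Projective ((extendScalars.{_, _, u} (algebraMap A B)).obj M)) : Projective M := by
  rw [← IsProjective.iff_projective] at h ⊢
  have h1 : Module.Projective B (B ⊗[A] M) :=
    Module.Projective.of_equiv (tensorEquivExtendScalars A B M).symm
  have h2 : Module.Flat B (B ⊗[A] M) := Module.Flat.of_projective
  have h3 : Module.Flat A M := Module.Flat.of_flat_tensorProduct A M B
  have : Module.FinitePresentation A M := Module.finitePresentation_of_finite A M
  exact Module.Flat.projective_of_finitePresentation

theorem hasProjectiveDimensionLE_extendScalars_iff [IsNoetherianRing A]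
    [Module.FaithfullyFlat A B] (n : ℕ) (M : ModuleCat.{u} A) [Module.Finite A M] :
    HasProjectiveDimensionLE ((extendScalars.{_, _, u} (algebraMap A B)).obj M) n ↔
      HasProjectiveDimensionLE M n := by
  have hf : (algebraMap A B).Flat := (RingHom.flat_algebraMap_iff).mpr inferInstance
  have := preservesFiniteLimits_extendScalars_of_flat hf
  induction n generalizing M with
  | zero =>
    simp only [HasProjectiveDimensionLE, zero_add, ← projective_iff_hasProjectiveDimensionLT_one]
    exact ⟨projective_of_projective_extendScalars A B M,
      fun h => (extendScalars.{_, _, u} (algebraMap A B)).projective_obj_of_projective h⟩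
  | succ n ih =>
    rcases Module.exists_finite_presentation A M with ⟨P, _, _, _, _, f, surjf⟩
    let S := f.shortComplexKer
    have S_exact := LinearMap.shortExact_shortComplexKer surjf
    have proj := ModuleCat.projective_of_categoryTheory_projective S.X₂
    let SB := S.map (extendScalars.{_, _, u} (algebraMap A B))
    have SB_exact : SB.ShortExact := S_exact.map_of_exact (extendScalars.{_, _, u} (algebraMap A B))
    have projB : Projective SB.X₂ :=
      (extendScalars.{_, _, u} (algebraMap A B)).projective_obj_of_projective proj
    have ih' := ih (ModuleCat.of A (LinearMap.ker f))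
    simp only [HasProjectiveDimensionLE] at ih' ⊢
    exact (SB_exact.hasProjectiveDimensionLT_X₃_iff n projB).trans
      (ih'.trans (S_exact.hasProjectiveDimensionLT_X₃_iff n proj).symm)

theorem projectiveDimension_extendScalars_eq [IsNoetherianRing A]
    [Module.FaithfullyFlat A B] (M : ModuleCat.{u} A) [Module.Finite A M] :
    projectiveDimension ((extendScalars.{_, _, u} (algebraMap A B)).obj M) =
      projectiveDimension M := by
  have aux (n : ℕ) : projectiveDimension ((extendScalars.{_, _, u} (algebraMap A B)).obj M) ≤ n ↔
      projectiveDimension M ≤ n := by
    simp only [projectiveDimension_le_iff]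
    exact hasProjectiveDimensionLE_extendScalars_iff A B n M
  refine eq_of_forall_ge_iff (fun N ↦ ?_)
  induction N with
  | bot =>
    simp only [le_bot_iff, projectiveDimension_eq_bot_iff, ModuleCat.isZero_iff_subsingleton]
    rw [← (tensorEquivExtendScalars A B M).toEquiv.subsingleton_congr]
    exact Module.FaithfullyFlat.subsingleton_tensorProduct_iff_right A B
  | coe N =>
    induction N with
    | top => simp
    | coe n => simpa using aux n

end Groth.Agent.H2
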