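import Groth.Agent.Lib.Helper2.RDer5
import Mathlib.Algebra.Homology.HomologySequenceLemmas

/-!
# The horseshoe lemma for injective resolutions (`ℕ`-indexed)
-/

universe v u

open CategoryTheory CategoryTheory.Limits

namespace Groth.Agent.H2.RDer

namespace HS

variable {A : Type u} [Category.{v} A] [Abelian A]

section twist

variable (I J : CochainComplex A ℕ) (θ : ∀ n : ℕ, J.X n ⟶ I.X (n + 1))

/-- The twisted differential. -/
noncomputable def twD (n : ℕ) : (I.X n ⊞ J.X n) ⟶ (I.X (n + 1) ⊞ J.X (n + 1)) :=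
  biprod.fst ≫ I.d n (n + 1) ≫ biprod.inl + biprod.snd ≫ θ n ≫ biprod.inl +
    biprod.snd ≫ J.d n (n + 1) ≫ biprod.inr

lemma inl_twD (n : ℕ) : biprod.inl ≫ twD I J θ n = I.d n (n + 1) ≫ biprod.inl := by
  simp [twD]

lemma inr_twD (n : ℕ) : biprod.inr ≫ twD I J θ n =
    θ n ≫ biprod.inl + J.d n (n + 1) ≫ biprod.inr := by
  simp [twD]

lemma twD_snd (n : ℕ) : twD I J θ n ≫ biprod.snd = biprod.snd ≫ J.d n (n + 1) := by
  simp [twD]

lemma twD_fst (n : ℕ) : twD I J θ n ≫ biprod.fst =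
    biprod.fst ≫ I.d n (n + 1) + biprod.snd ≫ θ n := by
  simp [twD]

variable (hθ : ∀ n : ℕ, J.d n (n + 1) ≫ θ (n + 1) = -(θ n ≫ I.d (n + 1) (n + 1 + 1)))

include hθ in
lemma twD_comp (n : ℕ) : twD I J θ n ≫ twD I J θ (n + 1) = 0 := by
  apply biprod.hom_ext'
  · rw [← Category.assoc, inl_twD, Category.assoc, inl_twD, ← Category.assoc,
      HomologicalComplex.d_comp_d, zero_comp, comp_zero]
  · rw [← Category.assoc, inr_twD, Preadditive.add_comp, Category.assoc, Category.assoc,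
      inl_twD, inr_twD, Preadditive.comp_add, ← Category.assoc (J.d n (n + 1)),
      ← Category.assoc (J.d n (n + 1)), HomologicalComplex.d_comp_d, zero_comp, add_zero,
      hθ n, comp_zero, Preadditive.neg_comp, Category.assoc, add_neg_cancel]

/-- The twisted complex. -/
noncomputable def twist : CochainComplex A ℕ :=
  CochainComplex.of (fun n => I.X n ⊞ J.X n) (twD I J θ) (twD_comp I J θ hθ)

lemma twist_d (n : ℕ) : (twist I J θ hθ).d n (n + 1) = twD I J θ n :=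
  by
  unfold twist
  dsimp [CochainComplex.of]
  exact CochainComplex.of_d _ _ n

/-- The inclusion of the first summand. -/
noncomputable def twistInl : I ⟶ twist I J θ hθ where
  f n := (biprod.inl : I.X n ⟶ I.X n ⊞ J.X n)
  comm' i j hij := by
    obtain rfl : i + 1 = j := hij
    rw [twist_d]
    exact inl_twD I J θ i

/-- The projection to the second summand. -/
noncomputable def twistSnd : twist I J θ hθ ⟶ J where
  f n := (biprod.snd : I.X n ⊞ J.X n ⟶ J.X n)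
  comm' i j hij := by
    obtain rfl : i + 1 = j := hij
    rw [twist_d]
    exact (twD_snd I J θ i).symm

lemma twistInl_f (n : ℕ) : (twistInl I J θ hθ).f n = (biprod.inl : I.X n ⟶ I.X n ⊞ J.X n) := rfl

lemma twistSnd_f (n : ℕ) : (twistSnd I J θ hθ).f n = (biprod.snd : I.X n ⊞ J.X n ⟶ J.X n) := rfl

lemma twistInl_twistSnd : twistInl I J θ hθ ≫ twistSnd I J θ hθ = 0 := by
  ext n
  exact biprod.inl_snd

/-- The short complex `I ⟶ twist ⟶ J`. -/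
noncomputable def twistSC : ShortComplex (CochainComplex A ℕ) :=
  ShortComplex.mk (twistInl I J θ hθ) (twistSnd I J θ hθ) (twistInl_twistSnd I J θ hθ)

/-- The degreewise splittings of `twistSC`. -/
noncomputable def twistSplitting (n : ℕ) :
    ((twistSC I J θ hθ).map (HomologicalComplex.eval A (ComplexShape.up ℕ) n)).Splitting where
  r := (biprod.fst : I.X n ⊞ J.X n ⟶ I.X n)
  s := (biprod.inr : J.X n ⟶ I.X n ⊞ J.X n)
  f_r := biprod.inl_fst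
  s_g := biprod.inr_snd
  id := biprod.total

end twist

section cocycle

variable (I J : CochainComplex A ℕ)

/-- The invariant of the recursive construction of the cocycle. -/
def Q (n : ℕ) (t : J.X n ⟶ I.X (n + 1)) : Prop :=
  kernel.ι (J.d n (n + 1)) ≫ t ≫ I.d (n + 1) (n + 1 + 1) = 0

variable [hI : ∀ n, Injective (I.X n)] (hJ : ∀ n, J.ExactAt (n + 1))

include hJ in
lemma exists_step (n : ℕ) (t : J.X n ⟶ I.X (n + 1)) (ht : Q I J n t) :
    ∃ t' : J.X (n + 1) ⟶ I.X (n + 1 + 1),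
      J.d n (n + 1) ≫ t' = -(t ≫ I.d (n + 1) (n + 1 + 1)) ∧ Q I J (n + 1) t' := by
  have hex : (ShortComplex.mk (kernel.ι (J.d n (n + 1))) (J.d n (n + 1))
      (kernel.condition _)).Exact :=
    ShortComplex.exact_of_f_is_kernel _ (kernelIsKernel _)
  have h0 : kernel.ι (J.d n (n + 1)) ≫ (-(t ≫ I.d (n + 1) (n + 1 + 1))) = 0 := by
    rw [Preadditive.comp_neg, ht, neg_zero]
  let t' : J.X (n + 1) ⟶ I.X (n + 1 + 1) :=
    hex.descToInjective (-(t ≫ I.d (n + 1) (n + 1 + 1))) h0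
  have ht' : J.d n (n + 1) ≫ t' = -(t ≫ I.d (n + 1) (n + 1 + 1)) :=
    hex.comp_descToInjective _ h0
  refine ⟨t', ht', ?_⟩
  have hex2 := (HomologicalComplex.exactAt_iff' J n (n + 1) (n + 1 + 1) (by simp)
    (by simp)).1 (hJ n)
  obtain ⟨W, π, hπ, z, hz⟩ := hex2.exact_up_to_refinements
    (kernel.ι (J.d (n + 1) (n + 1 + 1))) (kernel.condition _)
  let z' : W ⟶ J.X n := z
  have hz' : π ≫ kernel.ι (J.d (n + 1) (n + 1 + 1)) = z' ≫ J.d n (n + 1) := hz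
  unfold Q
  rw [← cancel_epi π, comp_zero, ← Category.assoc, hz', Category.assoc,
    ← Category.assoc (J.d n (n + 1)), ht', Preadditive.neg_comp, Category.assoc,
    HomologicalComplex.d_comp_d, comp_zero, neg_zero, comp_zero]

/-- The recursive construction of the cocycle. -/
noncomputable def θseq (θ₀ : J.X 0 ⟶ I.X 1) (h₀ : Q I J 0 θ₀) :
    ∀ n : ℕ, {t : J.X n ⟶ I.X (n + 1) // Q I J n t}
  | 0 => ⟨θ₀, h₀⟩
  | n + 1 => ⟨(exists_step I J hJ n (θseq θ₀ h₀ n).1 (θseq θ₀ h₀ n).2).choose,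
      (exists_step I J hJ n (θseq θ₀ h₀ n).1 (θseq θ₀ h₀ n).2).choose_spec.2⟩

/-- The cocycle. -/
noncomputable def θ (θ₀ : J.X 0 ⟶ I.X 1) (h₀ : Q I J 0 θ₀) (n : ℕ) : J.X n ⟶ I.X (n + 1) :=
  (θseq I J hJ θ₀ h₀ n).1

lemma θ_zero (θ₀ : J.X 0 ⟶ I.X 1) (h₀ : Q I J 0 θ₀) : θ I J hJ θ₀ h₀ 0 = θ₀ := rfl

lemma θ_rel (θ₀ : J.X 0 ⟶ I.X 1) (h₀ : Q I J 0 θ₀) (n : ℕ) :
    J.d n (n + 1) ≫ θ I J hJ θ₀ h₀ (n + 1) =
      -(θ I J hJ θ₀ h₀ n ≫ I.d (n + 1) (n + 1 + 1)) :=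
  (exists_step I J hJ n (θseq I J hJ θ₀ h₀ n).1 (θseq I J hJ θ₀ h₀ n).2).choose_spec.1

end cocycle

section resolution

lemma exact₀ {X : A} (R : InjectiveResolution X) :
    (ShortComplex.mk (ι0 R) (R.cocomplex.d 0 1) (ι0_d R)).Exact :=
  ShortComplex.exact_of_f_is_kernel _ R.isLimitKernelFork

instance mono_ι0 {X : A} (R : InjectiveResolution X) : Mono (ι0 R) :=
  inferInstanceAs (Mono (R.ι.f 0))

variable {S : ShortComplex A} (hS : S.ShortExact)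
  (R₁ : InjectiveResolution S.X₁) (R₃ : InjectiveResolution S.X₃)

include hS in
lemma exists_data : ∃ (e : S.X₂ ⟶ R₁.cocomplex.X 0)
    (θ₀ : R₃.cocomplex.X 0 ⟶ R₁.cocomplex.X (0 + 1)),
    S.f ≫ e = ι0 R₁ ∧ (S.g ≫ ι0 R₃) ≫ θ₀ = -(e ≫ R₁.cocomplex.d 0 (0 + 1)) ∧
      Q R₁.cocomplex R₃.cocomplex 0 θ₀ := by
  haveI := hS.mono_f
  haveI := hS.epi_g
  let e : S.X₂ ⟶ R₁.cocomplex.X 0 := Injective.factorThru (ι0 R₁) S.f
  have he : S.f ≫ e = ι0 R₁ := Injective.comp_factorThru _ _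
  have h1 : S.f ≫ (-(e ≫ R₁.cocomplex.d 0 (0 + 1))) = 0 := by
    rw [Preadditive.comp_neg, ← Category.assoc, he]
    exact (congrArg (fun t => -t) (ι0_d R₁)).trans neg_zero
  let u' : S.X₃ ⟶ R₁.cocomplex.X (0 + 1) := hS.exact.descToInjective _ h1
  have hu' : S.g ≫ u' = -(e ≫ R₁.cocomplex.d 0 (0 + 1)) := hS.exact.comp_descToInjective _ h1
  let θ₀ : R₃.cocomplex.X 0 ⟶ R₁.cocomplex.X (0 + 1) := Injective.factorThru u' (ι0 R₃)
  have hθ₀ : ι0 R₃ ≫ θ₀ = u' := Injective.comp_factorThru _ _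
  refine ⟨e, θ₀, he, by rw [Category.assoc, hθ₀, hu'], ?_⟩
  have h2 : ι0 R₃ ≫ θ₀ ≫ R₁.cocomplex.d (0 + 1) (0 + 1 + 1) = 0 := by
    rw [← Category.assoc, hθ₀, ← cancel_epi S.g, comp_zero, ← Category.assoc, hu',
      Preadditive.neg_comp, Category.assoc, HomologicalComplex.d_comp_d, comp_zero, neg_zero]
  obtain ⟨W, π, hπ, z, hz⟩ := (exact₀ R₃).exact_up_to_refinements
    (kernel.ι (R₃.cocomplex.d 0 (0 + 1))) (kernel.condition _)
  let z' : W ⟶ S.X₃ := z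
  have hz' : π ≫ kernel.ι (R₃.cocomplex.d 0 (0 + 1)) = z' ≫ ι0 R₃ := hz
  unfold Q
  rw [← cancel_epi π, comp_zero, ← Category.assoc, hz', Category.assoc, h2, comp_zero]

/-- The extension of the augmentation of `R₁` to `S.X₂`. -/
noncomputable def e : S.X₂ ⟶ R₁.cocomplex.X 0 := (exists_data hS R₁ R₃).choose

/-- The degree `0` component of the cocycle. -/
noncomputable def θ₀ : R₃.cocomplex.X 0 ⟶ R₁.cocomplex.X (0 + 1) :=
  (exists_data hS R₁ R₃).choose_spec.choose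

lemma f_e : S.f ≫ e hS R₁ R₃ = ι0 R₁ := (exists_data hS R₁ R₃).choose_spec.choose_spec.1

lemma g_θ₀ : (S.g ≫ ι0 R₃) ≫ θ₀ hS R₁ R₃ = -(e hS R₁ R₃ ≫ R₁.cocomplex.d 0 (0 + 1)) :=
  (exists_data hS R₁ R₃).choose_spec.choose_spec.2.1

lemma Q_θ₀ : Q R₁.cocomplex R₃.cocomplex 0 (θ₀ hS R₁ R₃) :=
  (exists_data hS R₁ R₃).choose_spec.choose_spec.2.2

/-- The cocycle. -/
noncomputable def th (n : ℕ) : R₃.cocomplex.X n ⟶ R₁.cocomplex.X (n + 1) :=
  θ R₁.cocomplex R₃.cocomplex (fun n => R₃.cocomplex_exactAt_succ n) (θ₀ hS R₁ R₃)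
    (Q_θ₀ hS R₁ R₃) n

lemma th_zero : th hS R₁ R₃ 0 = θ₀ hS R₁ R₃ := rfl

lemma th_rel (n : ℕ) : R₃.cocomplex.d n (n + 1) ≫ th hS R₁ R₃ (n + 1) =
    -(th hS R₁ R₃ n ≫ R₁.cocomplex.d (n + 1) (n + 1 + 1)) :=
  θ_rel _ _ _ _ _ n

/-- The middle complex. -/
noncomputable def mid : CochainComplex A ℕ :=
  twist R₁.cocomplex R₃.cocomplex (th hS R₁ R₃) (th_rel hS R₁ R₃)

/-- The inclusion. -/
noncomputable def midInl : R₁.cocomplex ⟶ mid hS R₁ R₃ :=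
  twistInl R₁.cocomplex R₃.cocomplex (th hS R₁ R₃) (th_rel hS R₁ R₃)

/-- The projection. -/
noncomputable def midSnd : mid hS R₁ R₃ ⟶ R₃.cocomplex :=
  twistSnd R₁.cocomplex R₃.cocomplex (th hS R₁ R₃) (th_rel hS R₁ R₃)

/-- The short complex. -/
noncomputable def midSC : ShortComplex (CochainComplex A ℕ) :=
  twistSC R₁.cocomplex R₃.cocomplex (th hS R₁ R₃) (th_rel hS R₁ R₃)

lemma midSC_shortExact : (midSC hS R₁ R₃).ShortExact :=
  HomologicalComplex.shortExact_of_degreewise_shortExact _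
    (fun n => (twistSplitting R₁.cocomplex R₃.cocomplex (th hS R₁ R₃) (th_rel hS R₁ R₃)
      n).shortExact)

lemma mid_exactAt_succ (n : ℕ) : (mid hS R₁ R₃).ExactAt (n + 1) :=
  (midSC_shortExact hS R₁ R₃).exactAt_X₂ (n + 1)
    (R₁.cocomplex_exactAt_succ n) (R₃.cocomplex_exactAt_succ n)

/-- The augmentation. -/
noncomputable def ι₂ : S.X₂ ⟶ R₁.cocomplex.X 0 ⊞ R₃.cocomplex.X 0 :=
  biprod.lift (e hS R₁ R₃) (S.g ≫ ι0 R₃)

lemma ι₂_twD : ι₂ hS R₁ R₃ ≫ twD R₁.cocomplex R₃.cocomplex (th hS R₁ R₃) 0 = 0 := by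
  have h3 : (S.g ≫ ι0 R₃) ≫ R₃.cocomplex.d 0 (0 + 1) = 0 := by
    rw [Category.assoc]
    exact (congrArg (fun t => S.g ≫ t) (ι0_d R₃)).trans comp_zero
  unfold ι₂ twD
  rw [Preadditive.comp_add, Preadditive.comp_add, biprod.lift_fst_assoc, biprod.lift_snd_assoc,
    biprod.lift_snd_assoc, th_zero, ← Category.assoc (S.g ≫ ι0 R₃), g_θ₀,
    ← Category.assoc (S.g ≫ ι0 R₃), h3, zero_comp, add_zero, Preadditive.neg_comp,
    Category.assoc, add_neg_cancel]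

lemma ι₂_fst : ι₂ hS R₁ R₃ ≫ biprod.fst = e hS R₁ R₃ := biprod.lift_fst _ _

lemma ι₂_snd : ι₂ hS R₁ R₃ ≫ biprod.snd = S.g ≫ ι0 R₃ := biprod.lift_snd _ _

lemma mono_ι₂ : Mono (ι₂ hS R₁ R₃) := by
  haveI := hS.mono_f
  rw [Preadditive.mono_iff_cancel_zero]
  intro W y hy
  have h1 : y ≫ e hS R₁ R₃ = 0 := by
    rw [← ι₂_fst, ← Category.assoc, hy, zero_comp]
  have h2 : (y ≫ S.g) ≫ ι0 R₃ = 0 := by
    rw [Category.assoc, ← ι₂_snd hS R₁ R₃, ← Category.assoc, hy, zero_comp]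
  have h3 : y ≫ S.g = 0 := by rw [← cancel_mono (ι0 R₃), h2, zero_comp]
  obtain ⟨W', π, hπ, x, hx⟩ := hS.exact.exact_up_to_refinements y h3
  have h4 : x ≫ ι0 R₁ = 0 := by
    rw [← f_e hS R₁ R₃, ← Category.assoc, ← hx, Category.assoc, h1, comp_zero]
  have h5 : x = 0 := by rw [← cancel_mono (ι0 R₁), h4, zero_comp]
  rw [← cancel_epi π, hx, h5, zero_comp, comp_zero]

lemma exact_ι₂ : (ShortComplex.mk (ι₂ hS R₁ R₃)
    (twD R₁.cocomplex R₃.cocomplex (th hS R₁ R₃) 0) (ι₂_twD hS R₁ R₃)).Exact := by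
  haveI := hS.epi_g
  rw [ShortComplex.exact_iff_exact_up_to_refinements]
  intro W y hy
  let y' : W ⟶ R₁.cocomplex.X 0 ⊞ R₃.cocomplex.X 0 := y
  have hy' : y' ≫ twD R₁.cocomplex R₃.cocomplex (th hS R₁ R₃) 0 = 0 := hy
  have h1 : (y' ≫ biprod.snd) ≫ R₃.cocomplex.d 0 (0 + 1) = 0 := by
    rw [Category.assoc, ← twD_snd R₁.cocomplex R₃.cocomplex (th hS R₁ R₃) 0, ← Category.assoc,
      hy', zero_comp]
  obtain ⟨W₁, π₁, hπ₁, z, hz⟩ := (exact₀ R₃).exact_up_to_refinements (y' ≫ biprod.snd) h1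
  let z' : W₁ ⟶ S.X₃ := z
  have hz' : π₁ ≫ y' ≫ biprod.snd = z' ≫ ι0 R₃ := hz
  obtain ⟨W₂, π₂, hπ₂, w, hw⟩ := surjective_up_to_refinements_of_epi S.g z'
  let y'' : W₂ ⟶ R₁.cocomplex.X 0 ⊞ R₃.cocomplex.X 0 := π₂ ≫ π₁ ≫ y' - w ≫ ι₂ hS R₁ R₃
  have h2 : y'' ≫ biprod.snd = 0 := by
    dsimp only [y'']
    rw [Preadditive.sub_comp, Category.assoc, Category.assoc, hz', Category.assoc, ι₂_snd,
      ← Category.assoc π₂, hw, Category.assoc, sub_self]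
  have h3 : y'' ≫ twD R₁.cocomplex R₃.cocomplex (th hS R₁ R₃) 0 = 0 := by
    dsimp only [y'']
    rw [Preadditive.sub_comp, Category.assoc, Category.assoc, hy', comp_zero, comp_zero,
      Category.assoc, ι₂_twD, comp_zero, sub_zero]
  have h4 : (y'' ≫ biprod.fst) ≫ R₁.cocomplex.d 0 (0 + 1) = 0 := by
    have h := h3 =≫ biprod.fst
    rw [zero_comp, Category.assoc, twD_fst, Preadditive.comp_add, ← Category.assoc y'' biprod.snd,
      h2, zero_comp, add_zero, ← Category.assoc] at h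
    exact h
  obtain ⟨W₃, π₃, hπ₃, x, hx⟩ := (exact₀ R₁).exact_up_to_refinements (y'' ≫ biprod.fst) h4
  let x' : W₃ ⟶ S.X₁ := x
  have hx' : π₃ ≫ y'' ≫ biprod.fst = x' ≫ ι0 R₁ := hx
  have hx'' : π₃ ≫ π₂ ≫ π₁ ≫ y' ≫ biprod.fst = π₃ ≫ w ≫ e hS R₁ R₃ + x' ≫ ι0 R₁ := by
    rw [← hx']
    dsimp only [y'']
    rw [Preadditive.sub_comp, Preadditive.comp_sub, Category.assoc, Category.assoc,
      Category.assoc, ι₂_fst]
    abel
  refine ⟨W₃, π₃ ≫ π₂ ≫ π₁, epi_comp _ _, π₃ ≫ w + x' ≫ S.f, ?_⟩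
  change (π₃ ≫ π₂ ≫ π₁) ≫ y' = (π₃ ≫ w + x' ≫ S.f) ≫ ι₂ hS R₁ R₃
  apply biprod.hom_ext
  · rw [Category.assoc, Category.assoc, Category.assoc, hx'', Category.assoc, ι₂_fst,
      Preadditive.add_comp, Category.assoc, Category.assoc, f_e]
  · rw [Category.assoc, Category.assoc, Category.assoc, hz', Category.assoc, ι₂_snd,
      Preadditive.add_comp, Category.assoc, Category.assoc, S.zero_assoc, zero_comp, comp_zero,
      add_zero, ← Category.assoc π₂, hw, Category.assoc]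

lemma mid_d_zero : (mid hS R₁ R₃).d 0 1 = twD R₁.cocomplex R₃.cocomplex (th hS R₁ R₃) 0 :=
  twist_d R₁.cocomplex R₃.cocomplex (th hS R₁ R₃) (th_rel hS R₁ R₃) 0

lemma ι₂_d : (ι₂ hS R₁ R₃ : S.X₂ ⟶ (mid hS R₁ R₃).X 0) ≫ (mid hS R₁ R₃).d 0 1 = 0 := by
  rw [mid_d_zero]
  exact ι₂_twD hS R₁ R₃

/-- The injective resolution of the middle term given by the horseshoe lemma. -/
noncomputable def res₂ : InjectiveResolution S.X₂ where
  cocomplex := mid hS R₁ R₃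
  injective n := inferInstanceAs (Injective (R₁.cocomplex.X n ⊞ R₃.cocomplex.X n))
  ι := (CochainComplex.fromSingle₀Equiv _ _).symm ⟨ι₂ hS R₁ R₃, ι₂_d hS R₁ R₃⟩
  quasiIso := ⟨fun n => by
    cases n
    · rw [CochainComplex.quasiIsoAt₀_iff, ShortComplex.quasiIso_iff_of_zeros]
      · refine (ShortComplex.exact_and_mono_f_iff_of_iso ?_).2
          ⟨exact_ι₂ hS R₁ R₃, mono_ι₂ hS R₁ R₃⟩
        exact ShortComplex.isoMk (Iso.refl _) (Iso.refl _) (Iso.refl _)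
          ((Category.id_comp _).trans
            ((CochainComplex.fromSingle₀Equiv_symm_apply_f_zero (C := mid hS R₁ R₃)
              (ι₂ hS R₁ R₃) (ι₂_d hS R₁ R₃)).symm.trans (Category.comp_id _).symm))
          ((Category.id_comp _).trans
            ((mid_d_zero hS R₁ R₃).symm.trans (Category.comp_id _).symm))
      all_goals rfl
    · rw [quasiIsoAt_iff_exactAt]
      · apply mid_exactAt_succ
      · apply CochainComplex.exactAt_succ_single_obj⟩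

lemma res₂_cocomplex : (res₂ hS R₁ R₃).cocomplex = mid hS R₁ R₃ := rfl

lemma ι0_res₂ : ι0 (res₂ hS R₁ R₃) = ι₂ hS R₁ R₃ := by
  unfold ι0 res₂
  exact CochainComplex.fromSingle₀Equiv_symm_apply_f_zero _ _

/-- The inclusion `R₁.cocomplex ⟶ (res₂ hS R₁ R₃).cocomplex`. -/
noncomputable def φ₁ : R₁.cocomplex ⟶ (res₂ hS R₁ R₃).cocomplex := midInl hS R₁ R₃

/-- The projection `(res₂ hS R₁ R₃).cocomplex ⟶ R₃.cocomplex`. -/
noncomputable def φ₂ : (res₂ hS R₁ R₃).cocomplex ⟶ R₃.cocomplex := midSnd hS R₁ R₃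

lemma comm₁_aux : ι0 R₁ ≫ (biprod.inl : R₁.cocomplex.X 0 ⟶ R₁.cocomplex.X 0 ⊞ R₃.cocomplex.X 0) =
    S.f ≫ ι₂ hS R₁ R₃ := by
  apply biprod.hom_ext
  · rw [Category.assoc, biprod.inl_fst, Category.comp_id, Category.assoc, ι₂_fst, f_e]
  · rw [Category.assoc, biprod.inl_snd, comp_zero, Category.assoc, ι₂_snd, S.zero_assoc,
      zero_comp]

lemma comm₁ : R₁.ι.f 0 ≫ (φ₁ hS R₁ R₃).f 0 = S.f ≫ (res₂ hS R₁ R₃).ι.f 0 :=
  (comm₁_aux hS R₁ R₃).trans (congrArg (fun t => S.f ≫ t) (ι0_res₂ hS R₁ R₃).symm)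

lemma comm₂ : (res₂ hS R₁ R₃).ι.f 0 ≫ (φ₂ hS R₁ R₃).f 0 = S.g ≫ R₃.ι.f 0 :=
  (congrArg (fun t => t ≫
    (biprod.snd : R₁.cocomplex.X 0 ⊞ R₃.cocomplex.X 0 ⟶ R₃.cocomplex.X 0))
    (ι0_res₂ hS R₁ R₃)).trans (ι₂_snd hS R₁ R₃)

/-- The short complex of resolutions. -/
noncomputable def resSC : ShortComplex (CochainComplex A ℕ) :=
  ShortComplex.mk (φ₁ hS R₁ R₃) (φ₂ hS R₁ R₃) (twistInl_twistSnd _ _ _ _)

/-- The degreewise splittings. -/
noncomputable def resSplitting (n : ℕ) :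
    ((resSC hS R₁ R₃).map (HomologicalComplex.eval A (ComplexShape.up ℕ) n)).Splitting :=
  twistSplitting R₁.cocomplex R₃.cocomplex (th hS R₁ R₃) (th_rel hS R₁ R₃) n

end resolution

end HS

end Groth.Agent.H2.RDer
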