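import Mathlib
import Groth.Agent.Lib.Helper2.TorBalMod

/-! Consequences of balancing: vanishing of Tor for flat modules in either variable, symmetry. -/

universe u

namespace Groth.Agent.H2.TorBal

open CategoryTheory CategoryTheory.Limits Category HomologicalComplex MonoidalCategory

variable {R : Type u} [CommRing R]

/-- `Tor_{n+1}(M, N) = 0` if `M` is flat. -/
theorem isZero_tor_succ_of_flat_left (M N : ModuleCat.{u} R) [Module.Flat R M] (n : ℕ) :
    IsZero (((Tor (ModuleCat.{u} R) (n + 1)).obj M).obj N) :=
  (tensorCx_isZero_homology_succ (projectiveResolution N) M n).of_iso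
    (torIsoTensorCx M (projectiveResolution N) (n + 1))

/-- `Tor_{n+1}(M, N) = 0` if `N` is flat. -/
theorem isZero_tor_succ_of_flat_right (M N : ModuleCat.{u} R) [Module.Flat R N] (n : ℕ) :
    IsZero (((Tor (ModuleCat.{u} R) (n + 1)).obj M).obj N) := by
  obtain ⟨i⟩ := nonempty_tor_iso M N (projectiveResolution M) (n + 1)
  refine IsZero.of_iso ?_ i
  rw [← HomologicalComplex.exactAt_iff_isZero_homology]
  rw [HomologicalComplex.exactAt_iff' _ (n + 2) (n + 1) n
    (by simp only [ChainComplex.prev]; rfl) (by simp)]
  exact Module.Flat.rTensor_shortComplex_exact N _ ((projectiveResolution M).exact_succ n)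

/-- Symmetry of Tor. -/
theorem nonempty_tor_symm (M N : ModuleCat.{u} R) (n : ℕ) :
    Nonempty (((Tor (ModuleCat.{u} R) n).obj M).obj N ≅ ((Tor (ModuleCat.{u} R) n).obj N).obj M) := by
  obtain ⟨i⟩ := nonempty_tor_iso M N (projectiveResolution M) n
  let j := (projectiveResolution M).isoLeftDerivedObj (tensorLeft N) n
  let k := (HomologicalComplex.homologyFunctor (ModuleCat.{u} R) (ComplexShape.down ℕ) n).mapIso
    ((NatIso.mapHomologicalComplex (BraidedCategory.tensorLeftIsoTensorRight N)
      (ComplexShape.down ℕ)).app (projectiveResolution M).complex)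
  exact ⟨i ≪≫ k.symm ≪≫ j.symm⟩

end Groth.Agent.H2.TorBal
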