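import Mathlib
import Groth.Agent.Lib.Helper2.TorBalApps

/-! Vanishing / shifting consequences of the long exact sequences of Tor in either variable
(non-natural, via balancing). -/

universe u

namespace Groth.Agent.H2.TorBal

open CategoryTheory CategoryTheory.Limits Category HomologicalComplex MonoidalCategory

variable {R : Type u} [CommRing R]

/-- Abbreviation for `Tor_n(M, N)`. -/
noncomputable abbrev torObj (n : ℕ) (M N : ModuleCat.{u} R) : ModuleCat.{u} R :=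
  ((Tor (ModuleCat.{u} R) n).obj M).obj N

section First

variable (T : ShortComplex (ModuleCat.{u} R)) (hT : T.ShortExact) (S : ModuleCat.{u} R)

include hT in
/-- The short exact sequence of complexes computing the long exact sequence in the first variable. -/
lemma tensorCx_map_shortExact :
    (T.map (tensorCx (projectiveResolution S).complex)).ShortExact :=
  (deltaData (projectiveResolution S)).shortExact T hT

include hT

/-- `Tor_{n+1}(X₂, S) = 0` and `Tor_n(X₁, S) = 0` imply `Tor_{n+1}(X₃, S) = 0`. -/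
theorem isZero_tor_X₃_left (n : ℕ) (h2 : IsZero (torObj (n + 1) T.X₂ S))
    (h1 : IsZero (torObj n T.X₁ S)) : IsZero (torObj (n + 1) T.X₃ S) := by
  have hS := tensorCx_map_shortExact T hT S
  have hex := hS.homology_exact₃ (n + 1) n rfl
  refine IsZero.of_iso ?_ (torIsoTensorCx T.X₃ (projectiveResolution S) (n + 1))
  exact hex.isZero_of_both_zeros
    ((h2.of_iso (torIsoTensorCx T.X₂ (projectiveResolution S) (n + 1)).symm).eq_of_src _ _)
    ((h1.of_iso (torIsoTensorCx T.X₁ (projectiveResolution S) n).symm).eq_of_tgt _ _)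

/-- `Tor_n(X₁, S) = 0` and `Tor_n(X₃, S) = 0` imply `Tor_n(X₂, S) = 0`. -/
theorem isZero_tor_X₂_left (n : ℕ) (h1 : IsZero (torObj n T.X₁ S))
    (h3 : IsZero (torObj n T.X₃ S)) : IsZero (torObj n T.X₂ S) := by
  have hS := tensorCx_map_shortExact T hT S
  have hex := hS.homology_exact₂ n
  refine IsZero.of_iso ?_ (torIsoTensorCx T.X₂ (projectiveResolution S) n)
  exact hex.isZero_of_both_zeros
    ((h1.of_iso (torIsoTensorCx T.X₁ (projectiveResolution S) n).symm).eq_of_src _ _)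
    ((h3.of_iso (torIsoTensorCx T.X₃ (projectiveResolution S) n).symm).eq_of_tgt _ _)

/-- `Tor_{n+1}(X₃, S) = 0` and `Tor_n(X₂, S) = 0` imply `Tor_n(X₁, S) = 0`. -/
theorem isZero_tor_X₁_left (n : ℕ) (h3 : IsZero (torObj (n + 1) T.X₃ S))
    (h2 : IsZero (torObj n T.X₂ S)) : IsZero (torObj n T.X₁ S) := by
  have hS := tensorCx_map_shortExact T hT S
  have hex := hS.homology_exact₁ (n + 1) n rfl
  refine IsZero.of_iso ?_ (torIsoTensorCx T.X₁ (projectiveResolution S) n)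
  exact hex.isZero_of_both_zeros
    ((h3.of_iso (torIsoTensorCx T.X₃ (projectiveResolution S) (n + 1)).symm).eq_of_src _ _)
    ((h2.of_iso (torIsoTensorCx T.X₂ (projectiveResolution S) n).symm).eq_of_tgt _ _)

/-- Dimension shifting in the first variable. -/
theorem nonempty_tor_shift_left (n : ℕ) (h2 : IsZero (torObj (n + 1) T.X₂ S))
    (h2' : IsZero (torObj n T.X₂ S)) :
    Nonempty ((torObj (n + 1) T.X₃ S) ≅ (torObj n T.X₁ S)) := by
  have hS := tensorCx_map_shortExact T hT S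
  exact ⟨torIsoTensorCx T.X₃ (projectiveResolution S) (n + 1) ≪≫
    hS.δIso (n + 1) n rfl
      (h2.of_iso (torIsoTensorCx T.X₂ (projectiveResolution S) (n + 1)).symm)
      (h2'.of_iso (torIsoTensorCx T.X₂ (projectiveResolution S) n).symm) ≪≫
    (torIsoTensorCx T.X₁ (projectiveResolution S) n).symm⟩

/-- The connecting map is a monomorphism when `Tor_{n+1}(X₂, S) = 0`. -/
theorem exists_mono_tor_shift_left (n : ℕ) (h2 : IsZero (torObj (n + 1) T.X₂ S)) :
    ∃ f : (torObj (n + 1) T.X₃ S) ⟶ (torObj n T.X₁ S), Mono f := by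
  have hS := tensorCx_map_shortExact T hT S
  have hm : Mono (hS.δ (n + 1) n rfl) := hS.mono_δ (n + 1) n rfl
    (h2.of_iso (torIsoTensorCx T.X₂ (projectiveResolution S) (n + 1)).symm)
  have hm2 : Mono (hS.δ (n + 1) n rfl ≫
      (torIsoTensorCx T.X₁ (projectiveResolution S) n).inv) :=
    @mono_comp _ _ _ _ _ _ hm _ inferInstance
  exact ⟨(torIsoTensorCx T.X₃ (projectiveResolution S) (n + 1)).hom ≫ (hS.δ (n + 1) n rfl ≫
    (torIsoTensorCx T.X₁ (projectiveResolution S) n).inv),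
    @mono_comp _ _ _ _ _ _ inferInstance _ hm2⟩

end First

section Second

variable (T : ShortComplex (ModuleCat.{u} R)) (hT : T.ShortExact) (S : ModuleCat.{u} R)

include hT

/-- `Tor_{n+1}(S, X₂) = 0` and `Tor_n(S, X₁) = 0` imply `Tor_{n+1}(S, X₃) = 0`. -/
theorem isZero_tor_X₃_right (n : ℕ) (h2 : IsZero (torObj (n + 1) S T.X₂))
    (h1 : IsZero (torObj n S T.X₁)) : IsZero (torObj (n + 1) S T.X₃) := by
  obtain ⟨i1⟩ := nonempty_tor_symm S T.X₁ n
  obtain ⟨i2⟩ := nonempty_tor_symm S T.X₂ (n + 1)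
  obtain ⟨i3⟩ := nonempty_tor_symm S T.X₃ (n + 1)
  exact (isZero_tor_X₃_left T hT S n (h2.of_iso i2.symm) (h1.of_iso i1.symm)).of_iso i3

/-- `Tor_n(S, X₁) = 0` and `Tor_n(S, X₃) = 0` imply `Tor_n(S, X₂) = 0`. -/
theorem isZero_tor_X₂_right (n : ℕ) (h1 : IsZero (torObj n S T.X₁))
    (h3 : IsZero (torObj n S T.X₃)) : IsZero (torObj n S T.X₂) := by
  obtain ⟨i1⟩ := nonempty_tor_symm S T.X₁ n
  obtain ⟨i2⟩ := nonempty_tor_symm S T.X₂ n
  obtain ⟨i3⟩ := nonempty_tor_symm S T.X₃ n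
  exact (isZero_tor_X₂_left T hT S n (h1.of_iso i1.symm) (h3.of_iso i3.symm)).of_iso i2

/-- `Tor_{n+1}(S, X₃) = 0` and `Tor_n(S, X₂) = 0` imply `Tor_n(S, X₁) = 0`. -/
theorem isZero_tor_X₁_right (n : ℕ) (h3 : IsZero (torObj (n + 1) S T.X₃))
    (h2 : IsZero (torObj n S T.X₂)) : IsZero (torObj n S T.X₁) := by
  obtain ⟨i1⟩ := nonempty_tor_symm S T.X₁ n
  obtain ⟨i2⟩ := nonempty_tor_symm S T.X₂ n
  obtain ⟨i3⟩ := nonempty_tor_symm S T.X₃ (n + 1)
  exact (isZero_tor_X₁_left T hT S n (h3.of_iso i3.symm) (h2.of_iso i2.symm)).of_iso i1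

/-- Dimension shifting in the second variable. -/
theorem nonempty_tor_shift_right (n : ℕ) (h2 : IsZero (torObj (n + 1) S T.X₂))
    (h2' : IsZero (torObj n S T.X₂)) :
    Nonempty ((torObj (n + 1) S T.X₃) ≅ (torObj n S T.X₁)) := by
  obtain ⟨i1⟩ := nonempty_tor_symm S T.X₁ n
  obtain ⟨i2⟩ := nonempty_tor_symm S T.X₂ n
  obtain ⟨i2'⟩ := nonempty_tor_symm S T.X₂ (n + 1)
  obtain ⟨i3⟩ := nonempty_tor_symm S T.X₃ (n + 1)
  obtain ⟨j⟩ := nonempty_tor_shift_left T hT S n (h2.of_iso i2'.symm) (h2'.of_iso i2.symm)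
  exact ⟨i3 ≪≫ j ≪≫ i1.symm⟩

/-- A monomorphism `Tor_{n+1}(S, X₃) ⟶ Tor_n(S, X₁)` when `Tor_{n+1}(S, X₂) = 0`. -/
theorem exists_mono_tor_shift_right (n : ℕ) (h2 : IsZero (torObj (n + 1) S T.X₂)) :
    ∃ f : (torObj (n + 1) S T.X₃) ⟶ (torObj n S T.X₁), Mono f := by
  obtain ⟨i1⟩ := nonempty_tor_symm S T.X₁ n
  obtain ⟨i2'⟩ := nonempty_tor_symm S T.X₂ (n + 1)
  obtain ⟨i3⟩ := nonempty_tor_symm S T.X₃ (n + 1)
  obtain ⟨f, hf⟩ := exists_mono_tor_shift_left T hT S n (h2.of_iso i2'.symm)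
  have hm2 : Mono (f ≫ i1.inv) := @mono_comp _ _ _ _ _ _ hf _ inferInstance
  exact ⟨i3.hom ≫ (f ≫ i1.inv), @mono_comp _ _ _ _ _ _ inferInstance _ hm2⟩

end Second

end Groth.Agent.H2.TorBal
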