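import Mathlib
import Groth.Agent.Lib.Helper2.TorBalLES

/-! Wrappers: short exact sequences of modules given by linear maps. -/

universe u

namespace Groth.Agent.H2.TorBal

open CategoryTheory CategoryTheory.Limits Category HomologicalComplex MonoidalCategory

variable {R : Type u} [CommRing R]

section

variable {A B C : Type u} [AddCommGroup A] [Module R A] [AddCommGroup B] [Module R B]
  [AddCommGroup C] [Module R C] (f : A →ₗ[R] B) (g : B →ₗ[R] C)

/-- The short complex of modules attached to an exact pair of linear maps. -/
noncomputable def scOfLinearMaps (hfg : Function.Exact f g) : ShortComplex (ModuleCat.{u} R) :=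
  ShortComplex.mk (ModuleCat.ofHom f) (ModuleCat.ofHom g) (by
    ext x
    exact hfg.apply_apply_eq_zero x)

lemma scOfLinearMaps_shortExact (hf : Function.Injective f) (hfg : Function.Exact f g)
    (hg : Function.Surjective g) : (scOfLinearMaps f g hfg).ShortExact :=
  ModuleCat.shortComplex_shortExact _ hfg hf hg

end

end Groth.Agent.H2.TorBal
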