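import Mathlib

/-!
# Elementary `Tor₁` arguments for flatness

* `rTensor_injective_of_lTensor_injective`: symmetry of `Tor₁` in elementary form.
* `flat_of_forall_lTensor_injective`: flatness criterion via a presentation `L → F → M → 0`.
* `flat_of_exact_of_flat`: kernel of a surjection of flat modules is flat.
* `lTensor_injective_of_exact`, `lTensor_injective_of_equiv`: `Tor₁(M, -) = 0` is closed under
  extensions and isomorphisms.
* `lTensor_injective_of_baseChange`: `Tor₁^R(M, N) = 0` for `A`-modules `N` if `Tor₁^R(M, A) = 0` and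
  `A ⊗ M` is `A`-flat.
-/

namespace Groth.Agent.H2.FlatAlg
open TensorProduct
universe u

section sym
variable {R : Type*} [CommRing R]
variable {X Y C W₁ G W : Type*} [AddCommGroup X] [AddCommGroup Y] [AddCommMonoid C]
  [AddCommGroup W₁] [AddCommGroup G] [AddCommGroup W]
  [Module R X] [Module R Y] [Module R C] [Module R W₁] [Module R G] [Module R W]

/-- Symmetry of `Tor₁` in elementary form: for exact `0 → X → Y → C → 0` and exact
`W₁ → G → W → 0` with `G` flat, if `C ⊗ W₁ → C ⊗ G` is injective then `X ⊗ W → Y ⊗ W` is
injective. -/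
theorem rTensor_injective_of_lTensor_injective [Module.Flat R G]
    (i : X →ₗ[R] Y) (p : Y →ₗ[R] C) (hi : Function.Injective i) (hip : Function.Exact i p)
    (hp : Function.Surjective p)
    (d : W₁ →ₗ[R] G) (ε : G →ₗ[R] W) (hdε : Function.Exact d ε) (hε : Function.Surjective ε)
    (h : Function.Injective (d.lTensor C)) : Function.Injective (i.rTensor W) := by
  letI : AddCommGroup C := Module.addCommMonoidToAddCommGroup R
  rw [injective_iff_map_eq_zero]
  intro z hz
  obtain ⟨z', rfl⟩ := LinearMap.lTensor_surjective X hε z
  have h1 : ε.lTensor Y (i.rTensor G z') = 0 := by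
    rw [← LinearMap.comp_apply, LinearMap.lTensor_comp_rTensor, ← LinearMap.rTensor_comp_lTensor,
      LinearMap.comp_apply, hz]
  obtain ⟨w, hw⟩ := (lTensor_exact Y hdε hε _).1 h1
  have h2 : d.lTensor C (p.rTensor W₁ w) = 0 := by
    rw [← LinearMap.comp_apply, LinearMap.lTensor_comp_rTensor, ← LinearMap.rTensor_comp_lTensor,
      LinearMap.comp_apply, hw, ← LinearMap.comp_apply, ← LinearMap.rTensor_comp,
      hip.linearMap_comp_eq_zero, LinearMap.rTensor_zero, LinearMap.zero_apply]
  have h3 := h (h2.trans (map_zero _).symm)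
  obtain ⟨w₀, rfl⟩ := (rTensor_exact W₁ hip hp _).1 h3
  have h4 : i.rTensor G (d.lTensor X w₀) = i.rTensor G z' := by
    rw [← hw, ← LinearMap.comp_apply, LinearMap.rTensor_comp_lTensor, ← LinearMap.lTensor_comp_rTensor,
      LinearMap.comp_apply]
  have h5 := Module.Flat.rTensor_preserves_injective_linearMap (M := G) i hi h4
  rw [← h5, ← LinearMap.comp_apply, ← LinearMap.lTensor_comp, hdε.linearMap_comp_eq_zero,
    LinearMap.lTensor_zero, LinearMap.zero_apply]

end sym

section crit
variable {R : Type u} [CommRing R]
variable {L F M : Type u} [AddCommGroup L] [AddCommGroup F] [AddCommGroup M]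
  [Module R L] [Module R F] [Module R M]

/-- Flatness criterion via a presentation: if `L → F → M → 0` is exact with `F` flat and
`C ⊗ L → C ⊗ F` is injective for every `C`, then `M` is flat. -/
theorem flat_of_forall_lTensor_injective [Module.Flat R F]
    (d : L →ₗ[R] F) (ε : F →ₗ[R] M) (hdε : Function.Exact d ε) (hε : Function.Surjective ε)
    (h : ∀ (C : Type u) [AddCommGroup C] [Module R C], Function.Injective (d.lTensor C)) :
    Module.Flat R M := by
  rw [Module.Flat.iff_rTensor_preserves_injective_linearMap]
  intro N N' _ _ _ _ i hi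
  exact rTensor_injective_of_lTensor_injective i (LinearMap.range i).mkQ hi
    (LinearMap.exact_map_mkQ_range i) (Submodule.mkQ_surjective _) d ε hdε hε (h _)

/-- The kernel of a surjection of flat modules is flat. -/
theorem flat_of_exact_of_flat [Module.Flat R F] [Module.Flat R M]
    (d : L →ₗ[R] F) (ε : F →ₗ[R] M) (hd : Function.Injective d) (hdε : Function.Exact d ε)
    (hε : Function.Surjective ε) : Module.Flat R L := by
  rw [Module.Flat.iff_rTensor_preserves_injective_linearMap]
  intro N N' _ _ _ _ i hi
  have h1 : Function.Injective (d.lTensor N) :=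
    LinearMap.lTensor_injective_of_exact_of_flat ε hε d hd hdε N
  have h2 : Function.Injective (i.rTensor F) :=
    Module.Flat.rTensor_preserves_injective_linearMap i hi
  have h3 : (d.lTensor N') ∘ₗ (i.rTensor L) = (i.rTensor F) ∘ₗ (d.lTensor N) := by
    rw [LinearMap.lTensor_comp_rTensor, LinearMap.rTensor_comp_lTensor]
  have h4 : Function.Injective ((d.lTensor N') ∘ₗ (i.rTensor L)) := by
    rw [h3]; exact h2.comp h1
  exact Function.Injective.of_comp h4

end crit

section ext
variable {R : Type*} [CommRing R]
variable {L F : Type*} [AddCommGroup L] [AddCommGroup F] [Module R L] [Module R F]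
variable {N₁ N N₂ : Type*} [AddCommGroup N₁] [AddCommGroup N] [AddCommGroup N₂]
  [Module R N₁] [Module R N] [Module R N₂]

/-- `P(N₁) ∧ P(N₂) → P(N)` for an exact sequence `0 → N₁ → N → N₂ → 0`, when `F` is flat. -/
theorem lTensor_injective_of_exact [Module.Flat R F] (d : L →ₗ[R] F)
    (a : N₁ →ₗ[R] N) (b : N →ₗ[R] N₂) (ha : Function.Injective a) (hab : Function.Exact a b)
    (hb : Function.Surjective b)
    (h1 : Function.Injective (d.lTensor N₁)) (h2 : Function.Injective (d.lTensor N₂)) :
    Function.Injective (d.lTensor N) := by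
  rw [injective_iff_map_eq_zero]
  intro z hz
  have k1 : d.lTensor N₂ (b.rTensor L z) = 0 := by
    rw [← LinearMap.comp_apply, LinearMap.lTensor_comp_rTensor, ← LinearMap.rTensor_comp_lTensor,
      LinearMap.comp_apply, hz, map_zero]
  have k2 := h2 (k1.trans (map_zero _).symm)
  obtain ⟨z₁, rfl⟩ := (rTensor_exact L hab hb _).1 k2
  have k3 : a.rTensor F (d.lTensor N₁ z₁) = 0 := by
    rw [← LinearMap.comp_apply, LinearMap.rTensor_comp_lTensor, ← LinearMap.lTensor_comp_rTensor,
      LinearMap.comp_apply, hz]
  have k4 := Module.Flat.rTensor_preserves_injective_linearMap (M := F) a ha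
    (k3.trans (map_zero _).symm)
  rw [h1 (k4.trans (map_zero _).symm), map_zero]

/-- `P` is invariant under linear equivalences. -/
theorem lTensor_injective_of_equiv (d : L →ₗ[R] F) (e : N ≃ₗ[R] N₂)
    (h2 : Function.Injective (d.lTensor N₂)) : Function.Injective (d.lTensor N) := by
  have h3 : (e.toLinearMap.rTensor F) ∘ₗ (d.lTensor N) =
      (d.lTensor N₂) ∘ₗ (e.toLinearMap.rTensor L) := by
    rw [LinearMap.rTensor_comp_lTensor, LinearMap.lTensor_comp_rTensor]
  have h4 : Function.Injective ((e.toLinearMap.rTensor F) ∘ₗ (d.lTensor N)) := by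
    rw [h3]
    exact h2.comp (e.rTensor L).injective
  exact Function.Injective.of_comp h4

end ext

section base
variable {R A : Type*} [CommRing R] [CommRing A] [Algebra R A]
variable {L F M : Type*} [AddCommGroup L] [AddCommGroup F] [AddCommGroup M]
  [Module R L] [Module R F] [Module R M]

/-- If `0 → L → F → M → 0` is exact, stays left exact after `A ⊗ -`, and `A ⊗ M` is `A`-flat, then
`N ⊗_R L → N ⊗_R F` is injective for every `A`-module `N`. -/
theorem lTensor_injective_of_baseChange [Module.Flat A (A ⊗[R] M)]
    (d : L →ₗ[R] F) (ε : F →ₗ[R] M) (hdε : Function.Exact d ε) (hε : Function.Surjective ε)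
    (hA : Function.Injective (d.lTensor A))
    (N : Type*) [AddCommGroup N] [Module R N] [Module A N] [IsScalarTower R A N] :
    Function.Injective (d.lTensor N) := by
  have hex : Function.Exact (d.baseChange A) (ε.baseChange A) := by
    have := lTensor_exact A hdε hε
    intro x
    simpa only [LinearMap.baseChange_eq_ltensor] using this x
  have hsurj : Function.Surjective (ε.baseChange A) := by
    have := LinearMap.lTensor_surjective A hε
    intro y
    obtain ⟨x, hx⟩ := this y
    exact ⟨x, by simpa only [LinearMap.baseChange_eq_ltensor] using hx⟩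
  have hinj : Function.Injective (d.baseChange A) := by
    intro x y hxy
    apply hA
    simpa only [LinearMap.baseChange_eq_ltensor] using hxy
  have key : Function.Injective ((d.baseChange A).lTensor N) :=
    LinearMap.lTensor_injective_of_exact_of_flat (ε.baseChange A) hsurj (d.baseChange A) hinj hex N
  let e₁ := AlgebraTensorModule.cancelBaseChange R A A N L
  let e₀ := AlgebraTensorModule.cancelBaseChange R A A N F
  have c₁ : ∀ x, d.lTensor N (e₁ x) = e₀ ((d.baseChange A).lTensor N x) := by
    intro x
    exact LinearMap.congr_fun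
      (AlgebraTensorModule.lTensor_comp_cancelBaseChange R A A (M := N) d) x
  intro x y hxy
  obtain ⟨x, rfl⟩ := e₁.surjective x
  obtain ⟨y, rfl⟩ := e₁.surjective y
  rw [c₁, c₁] at hxy
  rw [key (e₀.injective hxy)]

end base

end Groth.Agent.H2.FlatAlg
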