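import Mathlib
import Groth.Agent.Lib.Helper2.FlatAlg

/-!
# `Tor₁` (Mathlib's categorical `Tor` on `ModuleCat`) via presentations

* `lTensor_injective_of_presentation`: independence of the presentation for the elementary
  `Tor₁`-vanishing condition.
* `subsingleton_tor_one`: `Tor_1(M, X) = 0` from an elementary vanishing condition on one flat
  presentation of `X`.
-/

namespace Groth.Agent.H2.TorOne
open CategoryTheory CategoryTheory.Limits MonoidalCategory TensorProduct
universe u
variable {R : Type u} [CommRing R]

section pres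
variable (M : Type u) [AddCommGroup M] [Module R M] {X : Type u} [AddCommGroup X] [Module R X]
variable {L F K P : Type u} [AddCommGroup L] [Module R L] [AddCommGroup F] [Module R F]
  [AddCommGroup K] [Module R K] [AddCommGroup P] [Module R P]

/-- If `M ⊗ L → M ⊗ F` is injective for one presentation `L → F → X → 0` with `F` flat, then
`M ⊗ K → M ⊗ P` is injective for every short exact `0 → K → P → X → 0`. -/
theorem lTensor_injective_of_presentation [Module.Flat R F]
    (d : L →ₗ[R] F) (ε : F →ₗ[R] X) (hdε : Function.Exact d ε) (hε : Function.Surjective ε)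
    (h : Function.Injective (d.lTensor M))
    (ι : K →ₗ[R] P) (π : P →ₗ[R] X) (hι : Function.Injective ι) (hιπ : Function.Exact ι π)
    (hπ : Function.Surjective π) : Function.Injective (ι.lTensor M) := by
  -- free presentation of `M`
  let εM : (M →₀ R) →ₗ[R] M := Finsupp.linearCombination R id
  have hεM : Function.Surjective εM := Finsupp.linearCombination_id_surjective R M
  obtain ⟨A, _, _, i, hi, hiε⟩ : ∃ (A : Type u) (_ : AddCommGroup A) (_ : Module R A)
      (i : A →ₗ[R] (M →₀ R)), Function.Injective i ∧ Function.Exact i εM :=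
    ⟨LinearMap.ker εM, inferInstance, inferInstance, (LinearMap.ker εM).subtype,
      Submodule.subtype_injective _, LinearMap.exact_subtype_ker_map _⟩
  have h1 : Function.Injective (i.rTensor X) :=
    FlatAlg.rTensor_injective_of_lTensor_injective i εM hi hiε hεM d ε hdε hε h
  have h2 : Function.Injective (i.lTensor X) :=
    (LinearMap.lTensor_inj_iff_rTensor_inj _ _).2 h1
  have h3 : Function.Injective (ι.rTensor M) :=
    FlatAlg.rTensor_injective_of_lTensor_injective ι π hι hιπ hπ i εM hiε hεM h2
  exact (LinearMap.lTensor_inj_iff_rTensor_inj _ _).2 h3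

end pres

section cat

/-- the complex computing `Tor_•(M, X)` -/
noncomputable abbrev torCx (M X : ModuleCat.{u} R) : ChainComplex (ModuleCat.{u} R) ℕ :=
  ((tensorLeft M).mapHomologicalComplex _).obj (projectiveResolution X).complex

theorem isZero_Tor_iff (M X : ModuleCat.{u} R) (n : ℕ) :
    IsZero (((Tor (ModuleCat.{u} R) n).obj M).obj X) ↔ IsZero ((torCx M X).homology n) :=
  ((projectiveResolution X).isoLeftDerivedObj (tensorLeft M) n).isZero_iff

theorem isZero_homology_one_iff (M X : Type u) [AddCommGroup M] [Module R M]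
    [AddCommGroup X] [Module R X] :
    IsZero ((torCx (ModuleCat.of R M) (ModuleCat.of R X)).homology 1) ↔
      Function.Exact
        (LinearMap.lTensor M ((projectiveResolution (ModuleCat.of R X)).complex.d 2 1).hom)
        (LinearMap.lTensor M ((projectiveResolution (ModuleCat.of R X)).complex.d 1 0).hom) := by
  rw [← HomologicalComplex.exactAt_iff_isZero_homology]
  rw [HomologicalComplex.exactAt_iff' _ 2 1 0 (by simp only [ChainComplex.prev]; rfl) (by simp)]
  rw [ShortComplex.ShortExact.moduleCat_exact_iff_function_exact]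
  rfl

/-- `Tor_1(M, X) = 0` from the elementary vanishing condition on one flat presentation of `X`. -/
theorem subsingleton_tor_one (M X : Type u) [AddCommGroup M] [Module R M]
    [AddCommGroup X] [Module R X]
    {L F : Type u} [AddCommGroup L] [Module R L] [AddCommGroup F] [Module R F] [Module.Flat R F]
    (d : L →ₗ[R] F) (ε : F →ₗ[R] X) (hdε : Function.Exact d ε) (hε : Function.Surjective ε)
    (h : Function.Injective (d.lTensor M)) :
    Subsingleton (((Tor (ModuleCat.{u} R) 1).obj (ModuleCat.of R M)).obj (ModuleCat.of R X)) := by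
  apply ModuleCat.subsingleton_of_isZero
  rw [isZero_Tor_iff, isZero_homology_one_iff]
  let P := projectiveResolution (ModuleCat.of R X)
  let π : P.complex.X 0 →ₗ[R] X := (P.π.f 0).hom
  have h₀ : Function.Exact (P.complex.d 1 0).hom π := by
    have hex : (ShortComplex.mk (P.complex.d 1 0) (P.π.f 0) P.complex_d_comp_π_f_zero).Exact :=
      ShortComplex.exact_of_g_is_cokernel _ P.isColimitCokernelCofork
    exact (ShortComplex.ShortExact.moduleCat_exact_iff_function_exact _).1 hex
  have hπ : Function.Surjective π := (ModuleCat.epi_iff_surjective (P.π.f 0)).1 inferInstance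
  have h₁ : Function.Exact (P.complex.d 2 1).hom (P.complex.d 1 0).hom := by
    have := P.exact_succ 0
    exact (ShortComplex.ShortExact.moduleCat_exact_iff_function_exact _).1 this
  -- K = ker π
  let K : Submodule R (P.complex.X 0) := LinearMap.ker π
  have hinj : Function.Injective (K.subtype.lTensor M) :=
    lTensor_injective_of_presentation M d ε hdε hε h K.subtype π K.subtype_injective
      (LinearMap.exact_subtype_ker_map π) hπ
  let d₁' : P.complex.X 1 →ₗ[R] K := (P.complex.d 1 0).hom.codRestrict K (fun x => by
    change π ((P.complex.d 1 0).hom x) = 0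
    exact h₀.apply_apply_eq_zero x)
  have hd₁' : Function.Surjective d₁' := by
    rintro ⟨y, hy⟩
    obtain ⟨x, hx⟩ := (h₀ y).1 hy
    exact ⟨x, Subtype.ext hx⟩
  have hex' : Function.Exact (P.complex.d 2 1).hom d₁' := by
    intro x
    rw [← h₁ x]
    constructor
    · intro hx
      exact congrArg Subtype.val hx
    · intro hx
      exact Subtype.ext hx
  have hex'' := lTensor_exact M hex' hd₁'
  intro y
  constructor
  · intro hy
    apply (hex'' y).1
    apply hinj
    rw [map_zero, ← LinearMap.comp_apply, ← LinearMap.lTensor_comp]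
    exact hy
  · rintro ⟨z, rfl⟩
    rw [← LinearMap.comp_apply, ← LinearMap.lTensor_comp]
    have : (P.complex.d 1 0).hom ∘ₗ (P.complex.d 2 1).hom = 0 := by
      ext x; exact h₁.apply_apply_eq_zero x
    rw [this, LinearMap.lTensor_zero, LinearMap.zero_apply]

end cat

section conv

/-- Converse: `Tor_1(M, X) = 0` implies injectivity of `M ⊗ K → M ⊗ P` for every short exact
`0 → K → P → X → 0`. -/
theorem lTensor_injective_of_isZero_tor_one (M X : Type u) [AddCommGroup M] [Module R M]
    [AddCommGroup X] [Module R X]
    (h : IsZero (((Tor (ModuleCat.{u} R) 1).obj (ModuleCat.of R M)).obj (ModuleCat.of R X)))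
    {K P : Type u} [AddCommGroup K] [Module R K] [AddCommGroup P] [Module R P]
    (ι : K →ₗ[R] P) (π : P →ₗ[R] X) (hι : Function.Injective ι) (hιπ : Function.Exact ι π)
    (hπ : Function.Surjective π) : Function.Injective (ι.lTensor M) := by
  rw [isZero_Tor_iff, isZero_homology_one_iff] at h
  let Q := projectiveResolution (ModuleCat.of R X)
  let π₀ : Q.complex.X 0 →ₗ[R] X := (Q.π.f 0).hom
  have h₀ : Function.Exact (Q.complex.d 1 0).hom π₀ := by
    have hex : (ShortComplex.mk (Q.complex.d 1 0) (Q.π.f 0) Q.complex_d_comp_π_f_zero).Exact :=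
      ShortComplex.exact_of_g_is_cokernel _ Q.isColimitCokernelCofork
    exact (ShortComplex.ShortExact.moduleCat_exact_iff_function_exact _).1 hex
  have hπ₀ : Function.Surjective π₀ := (ModuleCat.epi_iff_surjective (Q.π.f 0)).1 inferInstance
  have : Projective (Q.complex.X 0) := Q.projective 0
  have : Module.Projective R (Q.complex.X 0) := by
    rw [IsProjective.iff_projective]
    exact inferInstanceAs (Projective (Q.complex.X 0))
  let K₀ : Submodule R (Q.complex.X 0) := LinearMap.ker π₀
  let d₁' : Q.complex.X 1 →ₗ[R] K₀ := (Q.complex.d 1 0).hom.codRestrict K₀ (fun x => by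
    change π₀ ((Q.complex.d 1 0).hom x) = 0
    exact h₀.apply_apply_eq_zero x)
  have hd₁' : Function.Surjective d₁' := by
    rintro ⟨y, hy⟩
    obtain ⟨x, hx⟩ := (h₀ y).1 hy
    exact ⟨x, Subtype.ext hx⟩
  have hK₀ : Function.Injective (K₀.subtype.lTensor M) := by
    rw [injective_iff_map_eq_zero]
    intro y hy
    obtain ⟨z, rfl⟩ := LinearMap.lTensor_surjective M hd₁' y
    rw [← LinearMap.comp_apply, ← LinearMap.lTensor_comp] at hy
    have hz : LinearMap.lTensor M (Q.complex.d 1 0).hom z = 0 := hy
    obtain ⟨w, rfl⟩ := (h z).1 hz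
    rw [← LinearMap.comp_apply, ← LinearMap.lTensor_comp]
    have : d₁' ∘ₗ (Q.complex.d 2 1).hom = 0 := by
      apply LinearMap.ext
      intro x
      apply Subtype.ext
      have h₁ : Function.Exact (Q.complex.d 2 1).hom (Q.complex.d 1 0).hom :=
        (ShortComplex.ShortExact.moduleCat_exact_iff_function_exact _).1 (Q.exact_succ 0)
      exact h₁.apply_apply_eq_zero x
    rw [this, LinearMap.lTensor_zero, LinearMap.zero_apply]
  exact lTensor_injective_of_presentation M K₀.subtype π₀ (LinearMap.exact_subtype_ker_map π₀)
    hπ₀ hK₀ ι π hι hιπ hπ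

theorem isZero_tor_one_iff (M X : Type u) [AddCommGroup M] [Module R M]
    [AddCommGroup X] [Module R X]
    {L F : Type u} [AddCommGroup L] [Module R L] [AddCommGroup F] [Module R F] [Module.Flat R F]
    (d : L →ₗ[R] F) (ε : F →ₗ[R] X) (hd : Function.Injective d) (hdε : Function.Exact d ε)
    (hε : Function.Surjective ε) :
    IsZero (((Tor (ModuleCat.{u} R) 1).obj (ModuleCat.of R M)).obj (ModuleCat.of R X)) ↔
      Function.Injective (d.lTensor M) :=
  ⟨fun h => lTensor_injective_of_isZero_tor_one M X h d ε hd hdε hε,
    fun h => by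
      haveI := subsingleton_tor_one M X d ε hdε hε h
      exact ModuleCat.isZero_of_subsingleton _⟩

end conv

end Groth.Agent.H2.TorOne
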