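import Mathlib
import Groth.Agent.Lib.Helper2.TorBalLin

/-! `Tor₁` as a kernel, and `Tor₀` as the tensor product. -/

universe u

namespace Groth.Agent.H2.TorBal

open CategoryTheory CategoryTheory.Limits Category HomologicalComplex MonoidalCategory

variable {R : Type u} [CommRing R]

/-- `Tor₀(M, N) ≅ M ⊗ N`. -/
noncomputable def torZeroIso (M N : ModuleCat.{u} R) : torObj 0 M N ≅ M ⊗ N :=
  (Functor.leftDerivedZeroIsoSelf (tensorLeft M)).app N

/-- `Tor₀(M, N) ≃ M ⊗ N` as a linear equivalence. -/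
noncomputable def torZeroLinearEquiv (M N : Type u) [AddCommGroup M] [Module R M]
    [AddCommGroup N] [Module R N] :
    torObj 0 (ModuleCat.of R M) (ModuleCat.of R N) ≃ₗ[R] TensorProduct R M N :=
  (torZeroIso (ModuleCat.of R M) (ModuleCat.of R N)).toLinearEquiv

section

variable (T : ShortComplex (ModuleCat.{u} R)) (hT : T.ShortExact) (S : ModuleCat.{u} R)

include hT

/-- `Tor₁(X₃, S) ≅ ker (X₁ ⊗ S ⟶ X₂ ⊗ S)` when `Tor₁(X₂, S) = 0`. -/
theorem nonempty_tor_one_iso_kernel (h2 : IsZero (torObj 1 T.X₂ S)) :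
    Nonempty (torObj 1 T.X₃ S ≅ kernel (T.f ▷ S)) := by
  let Q := projectiveResolution S
  have hS := tensorCx_map_shortExact T hT S
  have hm : Mono (hS.δ 1 0 rfl) := hS.mono_δ 1 0 rfl
    (h2.of_iso (torIsoTensorCx T.X₂ Q 1).symm)
  have hex := hS.homology_exact₁ 1 0 rfl
  have hA := hex.fIsKernel
  have hA' := kernelIsKernel (T.f ▷ S)
  obtain ⟨i⟩ := nonempty_iso_of_isLimit_kernelFork _ hA (kernel.condition (T.f ▷ S)) hA'
    (tensorCxZeroIso Q T.X₁) (tensorCxZeroIso Q T.X₂) (tensorCxZeroIso_hom_naturality Q T.f)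
  exact ⟨torIsoTensorCx T.X₃ Q 1 ≪≫ i⟩

/-- `Tor₁(X₃, S) ≃ ker (X₁ ⊗ S ⟶ X₂ ⊗ S)` when `Tor₁(X₂, S) = 0`, concretely. -/
theorem nonempty_tor_one_linearEquiv_ker (h2 : IsZero (torObj 1 T.X₂ S)) :
    Nonempty (torObj 1 T.X₃ S ≃ₗ[R] LinearMap.ker (LinearMap.rTensor S T.f.hom)) := by
  obtain ⟨i⟩ := nonempty_tor_one_iso_kernel T hT S h2
  exact ⟨(i ≪≫ ModuleCat.kernelIsoKer (T.f ▷ S)).toLinearEquiv⟩

end

end Groth.Agent.H2.TorBal
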