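import Mathlib
import Groth.Agent.Lib.Helper2.TorBalOne
import Groth.Agent.Lib.Helper2.TorOne

/-! Base change for Tor: semilinear bijections `Tor_n^A(P, Q') → Tor_n^{A'}(A' ⊗ P, Q')`. -/

universe u

namespace Groth.Agent.H2.TorBC

open CategoryTheory TensorProduct Groth.Agent.H2.TorBal

variable (A A' : Type u) [CommRing A] [CommRing A'] [Algebra A A']

/-- Existence of a bijective map semilinear over `A → A'`. -/
def SLB (X Y : Type*) [AddCommGroup X] [Module A X] [AddCommGroup Y] [Module A' Y] : Prop :=
  ∃ φ : X →ₛₗ[algebraMap A A'] Y, Function.Bijective φ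

variable {A A'}

section SLB

variable {X X₁ X₂ Y Y₁ Y₂ : Type*} [AddCommGroup X] [Module A X] [AddCommGroup X₁] [Module A X₁]
  [AddCommGroup X₂] [Module A X₂] [AddCommGroup Y] [Module A' Y] [AddCommGroup Y₁] [Module A' Y₁]
  [AddCommGroup Y₂] [Module A' Y₂]

lemma SLB.of_linearEquiv_left (e : X₁ ≃ₗ[A] X₂) (h : SLB A A' X₂ Y) : SLB A A' X₁ Y := by
  obtain ⟨φ, hφ⟩ := h
  exact ⟨φ.comp e.toLinearMap, hφ.comp e.bijective⟩

lemma SLB.of_linearEquiv_right (e : Y₂ ≃ₗ[A'] Y₁) (h : SLB A A' X Y₂) : SLB A A' X Y₁ := by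
  obtain ⟨φ, hφ⟩ := h
  exact ⟨e.toLinearMap.comp φ, e.bijective.comp hφ⟩

/-- Transfer to kernels. -/
lemma SLB.ker {θ₁ : X₁ →ₛₗ[algebraMap A A'] Y₁} {θ₂ : X₂ →ₛₗ[algebraMap A A'] Y₂}
    (h₁ : Function.Bijective θ₁) (h₂ : Function.Injective θ₂) (f : X₁ →ₗ[A] X₂)
    (g : Y₁ →ₗ[A'] Y₂) (hc : ∀ x, θ₂ (f x) = g (θ₁ x)) :
    SLB A A' (LinearMap.ker f) (LinearMap.ker g) := by
  refine ⟨LinearMap.codRestrict (LinearMap.ker g) (θ₁.comp (LinearMap.ker f).subtype) ?_, ?_, ?_⟩
  · intro c
    rw [LinearMap.mem_ker]
    show g (θ₁ c.1) = 0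
    rw [← hc, c.2, map_zero]
  · intro a b hab
    apply Subtype.ext
    apply h₁.1
    exact congrArg Subtype.val hab
  · intro y
    obtain ⟨x, hx⟩ := h₁.2 y.1
    have hx0 : f x = 0 := by
      apply h₂
      rw [hc, hx, map_zero]
      exact y.2
    exact ⟨⟨x, hx0⟩, Subtype.ext hx⟩

end SLB

section Theta

variable (X : Type*) [AddCommGroup X] [Module A X]
  (Q' : Type*) [AddCommGroup Q'] [Module A' Q'] [Module A Q'] [IsScalarTower A A' Q']

/-- The semilinear bijection `X ⊗_A Q' → (A' ⊗_A X) ⊗_{A'} Q'`, `x ⊗ q ↦ (1 ⊗ x) ⊗ q`. -/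
noncomputable def theta : X ⊗[A] Q' →ₛₗ[algebraMap A A'] (A' ⊗[A] X) ⊗[A'] Q' where
  toFun t := TensorProduct.comm A' Q' (A' ⊗[A] X)
    ((TensorProduct.AlgebraTensorModule.cancelBaseChange A A' A' Q' X).symm
      (TensorProduct.comm A X Q' t))
  map_add' x y := by simp only [map_add]
  map_smul' a t := by
    simp only [LinearEquiv.map_smul]
    rw [← algebraMap_smul A' a (TensorProduct.comm A X Q' t), LinearEquiv.map_smul,
      LinearEquiv.map_smul]

@[simp]
lemma theta_tmul (x : X) (q : Q') : theta X Q' (x ⊗ₜ[A] q) = ((1 : A') ⊗ₜ[A] x) ⊗ₜ[A'] q := by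
  show TensorProduct.comm A' Q' (A' ⊗[A] X)
    ((TensorProduct.AlgebraTensorModule.cancelBaseChange A A' A' Q' X).symm
      (TensorProduct.comm A X Q' (x ⊗ₜ[A] q))) = _
  rw [TensorProduct.comm_tmul]
  have h : (TensorProduct.AlgebraTensorModule.cancelBaseChange A A' A' Q' X).symm (q ⊗ₜ[A] x) =
      q ⊗ₜ[A'] ((1 : A') ⊗ₜ[A] x) := by
    rw [LinearEquiv.symm_apply_eq, TensorProduct.AlgebraTensorModule.cancelBaseChange_tmul,
      one_smul]
  rw [h, TensorProduct.comm_tmul]

lemma theta_bijective : Function.Bijective (theta (A := A) (A' := A') X Q') := by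
  show Function.Bijective (fun t => TensorProduct.comm A' Q' (A' ⊗[A] X)
    ((TensorProduct.AlgebraTensorModule.cancelBaseChange A A' A' Q' X).symm
      (TensorProduct.comm A X Q' t)))
  exact (TensorProduct.comm A' Q' (A' ⊗[A] X)).bijective.comp
    ((TensorProduct.AlgebraTensorModule.cancelBaseChange A A' A' Q' X).symm.bijective.comp
      (TensorProduct.comm A X Q').bijective)

variable {X} in
lemma theta_naturality {X' : Type*} [AddCommGroup X'] [Module A X'] (f : X →ₗ[A] X')
    (t : X ⊗[A] Q') :
    theta X' Q' (f.rTensor Q' t) = (f.baseChange A').rTensor Q' (theta X Q' t) := by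
  induction t using TensorProduct.induction_on with
  | zero => simp
  | tmul x q => simp
  | add a b ha hb => simp only [map_add, ha, hb]

end Theta

section Main

open CategoryTheory.Limits

/-- The hypothesis `Tor_q^A(P, A') = 0` for `q ≥ 1`. -/
def TorIndep (A A' : Type u) [CommRing A] [CommRing A'] [Algebra A A'] (P : Type u)
    [AddCommGroup P] [Module A P] : Prop :=
  ∀ q : ℕ, IsZero (torObj (q + 1) (ModuleCat.of A P) (ModuleCat.of A A'))

section Pres

variable (A) (P : Type u) [AddCommGroup P] [Module A P]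

/-- The free module on the underlying set of `P`. -/
def PresF : Type u := P →₀ A

noncomputable instance : AddCommGroup (PresF A P) := inferInstanceAs (AddCommGroup (P →₀ A))
noncomputable instance : Module A (PresF A P) := inferInstanceAs (Module A (P →₀ A))
instance : Module.Free A (PresF A P) := inferInstanceAs (Module.Free A (P →₀ A))
instance : Module.Flat A (PresF A P) := inferInstanceAs (Module.Flat A (P →₀ A))

/-- The canonical free presentation `(P →₀ A) → P`. -/
noncomputable def presπ : PresF A P →ₗ[A] P := Finsupp.linearCombination A id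

lemma presπ_surjective : Function.Surjective (presπ A P) :=
  Finsupp.linearCombination_id_surjective A P

/-- The kernel of the canonical free presentation. -/
def PresK : Type u := LinearMap.ker (presπ A P)

noncomputable instance : AddCommGroup (PresK A P) :=
  inferInstanceAs (AddCommGroup (LinearMap.ker (presπ A P)))
noncomputable instance : Module A (PresK A P) :=
  inferInstanceAs (Module A (LinearMap.ker (presπ A P)))

/-- The inclusion of the kernel of the canonical free presentation. -/
noncomputable def presι : PresK A P →ₗ[A] PresF A P := (LinearMap.ker (presπ A P)).subtype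

lemma presι_injective : Function.Injective (presι A P) :=
  Submodule.injective_subtype (LinearMap.ker (presπ A P))

lemma pres_exact : Function.Exact (presι A P) (presπ A P) :=
  LinearMap.exact_subtype_ker_map (presπ A P)

/-- The presentation as a short exact sequence. -/
noncomputable def presSC : ShortComplex (ModuleCat.{u} A) :=
  scOfLinearMaps (presι A P) (presπ A P) (pres_exact A P)

lemma presSC_shortExact : (presSC A P).ShortExact :=
  scOfLinearMaps_shortExact _ _ (presι_injective A P) (pres_exact A P) (presπ_surjective A P)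

instance : Module.Flat A (presSC A P).X₂ := inferInstanceAs (Module.Flat A (PresF A P))

variable {A P} in
lemma TorIndep.presK (hP : TorIndep A A' P) : TorIndep A A' (PresK A P) := by
  intro q
  obtain ⟨i⟩ := nonempty_tor_shift_left (presSC A P) (presSC_shortExact A P)
    (ModuleCat.of A A') (q + 1)
    (isZero_tor_succ_of_flat_left _ _ _) (isZero_tor_succ_of_flat_left _ _ _)
  exact (hP (q + 1)).of_iso i.symm

variable {A P} in
lemma TorIndep.baseChange_injective (hP : TorIndep A A' P) :
    Function.Injective ((presι A P).baseChange A') := by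
  obtain ⟨i⟩ := nonempty_tor_symm (ModuleCat.of A P) (ModuleCat.of A A') 1
  have h := Groth.Agent.H2.TorOne.lTensor_injective_of_isZero_tor_one A' P ((hP 0).of_iso i.symm)
    (presι A P) (presπ A P) (presι_injective A P) (pres_exact A P) (presπ_surjective A P)
  exact h

lemma pres_exact' :
    Function.Exact ((presι A P).baseChange A') ((presπ A P).baseChange A') :=
  lTensor_exact A' (pres_exact A P) (presπ_surjective A P)

variable (A') in
/-- The base-changed presentation as a short exact sequence over `A'`. -/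
noncomputable def presSC' : ShortComplex (ModuleCat.{u} A') :=
  scOfLinearMaps ((presι A P).baseChange A') ((presπ A P).baseChange A') (pres_exact' A P)

variable {A P} in
lemma presSC'_shortExact (hP : TorIndep A A' P) : (presSC' A A' P).ShortExact :=
  scOfLinearMaps_shortExact _ _ hP.baseChange_injective _
    (LinearMap.lTensor_surjective A' (presπ_surjective A P))

instance : Module.Flat A' (presSC' A A' P).X₂ :=
  inferInstanceAs (Module.Flat A' (A' ⊗[A] PresF A P))

end Pres

variable (Q' : Type u) [AddCommGroup Q'] [Module A' Q'] [Module A Q'] [IsScalarTower A A' Q']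

set_option maxSynthPendingDepth 4 in
/-- **Base change for Tor** (semilinear form). -/
theorem slb_tor : ∀ (n : ℕ) (P : Type u) [AddCommGroup P] [Module A P], TorIndep A A' P →
    SLB A A' (torObj n (ModuleCat.of A P) (ModuleCat.of A Q'))
      (torObj n (ModuleCat.of A' (A' ⊗[A] P)) (ModuleCat.of A' Q'))
  | 0, P, _, _, _ => by
    have h0 : SLB A A' (P ⊗[A] Q') ((A' ⊗[A] P) ⊗[A'] Q') := ⟨theta P Q', theta_bijective P Q'⟩
    exact (h0.of_linearEquiv_left (torZeroLinearEquiv (R := A) P Q')).of_linearEquiv_right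
      (torZeroLinearEquiv (R := A') (A' ⊗[A] P) Q').symm
  | 1, P, _, _, hP => by
    obtain ⟨e₁⟩ := nonempty_tor_one_linearEquiv_ker (presSC A P) (presSC_shortExact A P)
      (ModuleCat.of A Q') (isZero_tor_succ_of_flat_left _ _ 0)
    obtain ⟨e₂⟩ := nonempty_tor_one_linearEquiv_ker (presSC' A A' P) (presSC'_shortExact hP)
      (ModuleCat.of A' Q') (isZero_tor_succ_of_flat_left _ _ 0)
    have hk : SLB A A' (LinearMap.ker ((presι A P).rTensor Q'))
        (LinearMap.ker (((presι A P).baseChange A').rTensor Q')) :=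
      SLB.ker (theta_bijective (PresK A P) Q') (theta_bijective (PresF A P) Q').1 _ _
        (theta_naturality Q' (presι A P))
    exact (hk.of_linearEquiv_left e₁).of_linearEquiv_right e₂.symm
  | n + 2, P, _, _, hP => by
    obtain ⟨i₁⟩ := nonempty_tor_shift_left (presSC A P) (presSC_shortExact A P)
      (ModuleCat.of A Q') (n + 1) (isZero_tor_succ_of_flat_left _ _ _)
      (isZero_tor_succ_of_flat_left _ _ _)
    obtain ⟨i₂⟩ := nonempty_tor_shift_left (presSC' A A' P) (presSC'_shortExact hP)
      (ModuleCat.of A' Q') (n + 1) (isZero_tor_succ_of_flat_left _ _ _)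
      (isZero_tor_succ_of_flat_left _ _ _)
    have ih := slb_tor (n + 1) (PresK A P) hP.presK
    exact (ih.of_linearEquiv_left i₁.toLinearEquiv).of_linearEquiv_right i₂.toLinearEquiv.symm

end Main

end Groth.Agent.H2.TorBC
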