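import Mathlib
import Groth.Agent.Lib.Helper2.TorBC

/-! Flat base change for Tor: `A' ⊗_A Tor_n^A(P, Q) ≃ Tor_n^{A'}(A' ⊗ P, A' ⊗ Q)` for `A'` flat. -/

universe u

namespace Groth.Agent.H2.TorBC

open CategoryTheory TensorProduct Groth.Agent.H2.TorBal

/-- Kernels of maps conjugate under linear equivalences are linearly equivalent. -/
noncomputable def kerEquivOfComm {R : Type*} [CommRing R] {X₁ X₂ Y₁ Y₂ : Type*}
    [AddCommGroup X₁] [Module R X₁] [AddCommGroup X₂] [Module R X₂]
    [AddCommGroup Y₁] [Module R Y₁] [AddCommGroup Y₂] [Module R Y₂]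
    (e₁ : X₁ ≃ₗ[R] Y₁) (e₂ : X₂ ≃ₗ[R] Y₂) (f : X₁ →ₗ[R] X₂) (g : Y₁ →ₗ[R] Y₂)
    (h : ∀ x, e₂ (f x) = g (e₁ x)) : LinearMap.ker f ≃ₗ[R] LinearMap.ker g :=
  LinearEquiv.ofBijective
    (LinearMap.codRestrict (LinearMap.ker g) (e₁.toLinearMap.comp (LinearMap.ker f).subtype)
      (fun c => by
        rw [LinearMap.mem_ker]
        show g (e₁ c.1) = 0
        rw [← h, c.2, map_zero]))
    ⟨fun a b hab => Subtype.ext (e₁.injective (congrArg Subtype.val hab)), fun y => by
      obtain ⟨x, hx⟩ := e₁.surjective y.1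
      have hx0 : f x = 0 := by
        apply e₂.injective
        rw [h, hx, map_zero]
        exact y.2
      exact ⟨⟨x, hx0⟩, Subtype.ext hx⟩⟩

variable {A A' : Type u} [CommRing A] [CommRing A'] [Algebra A A']

lemma torIndep_of_flat [Module.Flat A A'] (P : Type u) [AddCommGroup P] [Module A P] :
    TorIndep A A' P := fun q =>
  haveI : Module.Flat A (ModuleCat.of A A') := inferInstanceAs (Module.Flat A A')
  isZero_tor_succ_of_flat_right _ (ModuleCat.of A A') q

section

variable [Module.Flat A A'] (Q : Type u) [AddCommGroup Q] [Module A Q]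

lemma distribBaseChange_naturality {X X' : Type*} [AddCommGroup X] [Module A X]
    [AddCommGroup X'] [Module A X'] (f : X →ₗ[A] X') (t : A' ⊗[A] (X ⊗[A] Q)) :
    TensorProduct.AlgebraTensorModule.distribBaseChange A A' X' Q
      (TensorProduct.AlgebraTensorModule.lTensor A' A' (f.rTensor Q) t) =
    (f.baseChange A').rTensor (A' ⊗[A] Q)
      (TensorProduct.AlgebraTensorModule.distribBaseChange A A' X Q t) := by
  induction t using TensorProduct.induction_on with
  | zero => simp
  | add a b ha hb => simp only [map_add, ha, hb]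
  | tmul a s =>
    induction s using TensorProduct.induction_on with
    | zero => simp
    | add x y hx hy => simp only [TensorProduct.tmul_add, map_add, hx, hy]
    | tmul x q => simp

set_option maxSynthPendingDepth 4 in
/-- **Flat base change for Tor.** -/
theorem nonempty_flat_baseChange : ∀ (n : ℕ) (P : Type u) [AddCommGroup P] [Module A P],
    Nonempty (A' ⊗[A] (torObj n (ModuleCat.of A P) (ModuleCat.of A Q)) ≃ₗ[A']
      torObj n (ModuleCat.of A' (A' ⊗[A] P)) (ModuleCat.of A' (A' ⊗[A] Q)))
  | 0, P, _, _ => by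
    let e₁ := torZeroLinearEquiv (R := A) P Q
    let e₂ := torZeroLinearEquiv (R := A') (A' ⊗[A] P) (A' ⊗[A] Q)
    exact ⟨(TensorProduct.AlgebraTensorModule.congr (LinearEquiv.refl A' A') e₁).trans
      ((TensorProduct.AlgebraTensorModule.distribBaseChange A A' P Q).trans e₂.symm)⟩
  | 1, P, _, _ => by
    have hP := torIndep_of_flat (A := A) (A' := A') P
    obtain ⟨e₁⟩ := nonempty_tor_one_linearEquiv_ker (presSC A P) (presSC_shortExact A P)
      (ModuleCat.of A Q) (isZero_tor_succ_of_flat_left _ _ 0)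
    obtain ⟨e₂⟩ := nonempty_tor_one_linearEquiv_ker (presSC' A A' P) (presSC'_shortExact hP)
      (ModuleCat.of A' (A' ⊗[A] Q)) (isZero_tor_succ_of_flat_left _ _ 0)
    let k₁ := LinearMap.tensorKerEquiv A' A' ((presι A P).rTensor Q)
    let k₂ := kerEquivOfComm
      (TensorProduct.AlgebraTensorModule.distribBaseChange A A' (PresK A P) Q)
      (TensorProduct.AlgebraTensorModule.distribBaseChange A A' (PresF A P) Q)
      (TensorProduct.AlgebraTensorModule.lTensor A' A' ((presι A P).rTensor Q))
      (((presι A P).baseChange A').rTensor (A' ⊗[A] Q))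
      (distribBaseChange_naturality Q (presι A P))
    exact ⟨(TensorProduct.AlgebraTensorModule.congr (LinearEquiv.refl A' A') e₁).trans
      (k₁.trans (k₂.trans e₂.symm))⟩
  | n + 2, P, _, _ => by
    have hP := torIndep_of_flat (A := A) (A' := A') P
    obtain ⟨i₁⟩ := nonempty_tor_shift_left (presSC A P) (presSC_shortExact A P)
      (ModuleCat.of A Q) (n + 1) (isZero_tor_succ_of_flat_left _ _ _)
      (isZero_tor_succ_of_flat_left _ _ _)
    obtain ⟨i₂⟩ := nonempty_tor_shift_left (presSC' A A' P) (presSC'_shortExact hP)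
      (ModuleCat.of A' (A' ⊗[A] Q)) (n + 1) (isZero_tor_succ_of_flat_left _ _ _)
      (isZero_tor_succ_of_flat_left _ _ _)
    obtain ⟨ih⟩ := nonempty_flat_baseChange (n + 1) (PresK A P)
    exact ⟨(TensorProduct.AlgebraTensorModule.congr (LinearEquiv.refl A' A')
      i₁.toLinearEquiv).trans (ih.trans i₂.toLinearEquiv.symm)⟩

end

end Groth.Agent.H2.TorBC
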