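import Mathlib.RingTheory.LocalProperties.ProjectiveDimension
import Mathlib.RingTheory.Spectrum.Prime.FreeLocus
import Mathlib.Algebra.Module.LocalizedModule.Exact
import Mathlib.Algebra.Homology.ShortComplex.ModuleCat
import Mathlib.RingTheory.LocalRing.Module

/-! Upper semicontinuity of projective dimension. -/

universe u

namespace Groth.Agent.H2

open CategoryTheory ModuleCat

section

variable (A : Type u) [CommRing A]

theorem projective_localizedModule_iff_mem_freeLocus (M : Type u) [AddCommGroup M] [Module A M]
    [Module.Finite A M] (p : PrimeSpectrum A) :
    Module.Projective (Localization.AtPrime p.asIdeal) (LocalizedModule p.asIdeal.primeCompl M) ↔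
      p ∈ Module.freeLocus A M := by
  rw [Module.mem_freeLocus]
  constructor
  · intro h
    have : Module.Finite (Localization.AtPrime p.asIdeal)
        (LocalizedModule p.asIdeal.primeCompl M) :=
      Module.Finite.of_isLocalizedModule p.asIdeal.primeCompl
        (LocalizedModule.mkLinearMap p.asIdeal.primeCompl M)
    exact Module.free_of_flat_of_isLocalRing
  · intro h
    infer_instance

/-- The localized short exact sequence. -/
theorem localized_shortExact {K P M : Type u} [AddCommGroup K] [Module A K] [AddCommGroup P]
    [Module A P] [AddCommGroup M] [Module A M] (i : K →ₗ[A] P) (f : P →ₗ[A] M)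
    (hi : Function.Injective i) (hf : Function.Surjective f) (hex : Function.Exact i f)
    (S : Submonoid A) :
    (ShortComplex.mk (ModuleCat.ofHom (LocalizedModule.map S i))
      (ModuleCat.ofHom (LocalizedModule.map S f)) (by
        ext x
        exact (LocalizedModule.map_exact S i f hex).apply_apply_eq_zero x)).ShortExact where
  exact := (ShortComplex.ShortExact.moduleCat_exact_iff_function_exact _).mpr
    (LocalizedModule.map_exact S i f hex)
  mono_f := (ModuleCat.mono_iff_injective _).mpr (LocalizedModule.map_injective S i hi)
  epi_g := (ModuleCat.epi_iff_surjective _).mpr (LocalizedModule.map_surjective S f hf)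

end

theorem isOpen_projectiveDimension_le (A : Type u) [CommRing A] [IsNoetherianRing A] (n : ℕ) :
    ∀ (M : Type u) [AddCommGroup M] [Module A M] [Module.Finite A M],
      IsOpen {p : PrimeSpectrum A |
        projectiveDimension (ModuleCat.of (Localization.AtPrime p.asIdeal)
          (LocalizedModule p.asIdeal.primeCompl M)) ≤ n} := by
  induction n with
  | zero =>
    intro M _ _ _
    have : Module.FinitePresentation A M := Module.finitePresentation_of_finite A M
    convert Module.isOpen_freeLocus (R := A) (M := M) using 1
    ext p
    rw [← projective_localizedModule_iff_mem_freeLocus, Set.mem_ofPred_eq, Nat.cast_zero,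
      ← Nat.cast_zero, projectiveDimension_le_iff, HasProjectiveDimensionLE, zero_add,
      ← projective_iff_hasProjectiveDimensionLT_one, ← IsProjective.iff_projective]
  | succ n ih =>
    intro M _ _ _
    rcases Module.exists_finite_presentation A M with ⟨P, _, _, _, _, f, surjf⟩
    convert ih (LinearMap.ker f) using 1
    ext p
    simp only [Set.mem_ofPred_eq]
    rw [projectiveDimension_le_iff, projectiveDimension_le_iff]
    have hS := localized_shortExact A (LinearMap.ker f).subtype f
      (LinearMap.ker f).injective_subtype surjf (LinearMap.exact_subtype_ker_map f)
      p.asIdeal.primeCompl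
    have hproj : Module.Projective (Localization.AtPrime p.asIdeal)
        (LocalizedModule p.asIdeal.primeCompl P) := inferInstance
    rw [IsProjective.iff_projective] at hproj
    exact hS.hasProjectiveDimensionLT_X₃_iff n hproj

end Groth.Agent.H2
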