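import Groth.Agent.Lib.Helper2.Comodule
import Mathlib.Algebra.Module.Projective
import Mathlib.LinearAlgebra.DirectSum.Finsupp

set_option autoImplicit false
universe u
open TensorProduct

namespace Groth.Agent.H2

section
variable {R : Type u} [CommRing R] {C : Type u} [AddCommGroup C] [Module R C]
  {V : Type u} [AddCommGroup V] [Module R V]

/-- `id ⊗ f : V ⊗ C → V`. -/
noncomputable def slice (f : Module.Dual R C) : V ⊗[R] C →ₗ[R] V :=
  (TensorProduct.rid R V).toLinearMap ∘ₗ f.lTensor V

@[simp] lemma slice_tmul (f : Module.Dual R C) (v : V) (c : C) :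
    slice f (v ⊗ₜ[R] c) = f c • v := by
  simp [slice]

lemma slice_rTensor_mem (f : Module.Dual R C) (N : Submodule R V) (y : N ⊗[R] C) :
    slice f (N.subtype.rTensor C y) ∈ N := by
  induction y using TensorProduct.induction_on with
  | zero => simp
  | tmul n c => simp [Submodule.smul_mem]
  | add a b ha hb =>
    simp only [map_add]
    exact Submodule.add_mem _ ha hb

lemma range_rTensor_mono {N₁ N₂ : Submodule R V} (h : N₁ ≤ N₂) :
    LinearMap.range (N₁.subtype.rTensor C) ≤ LinearMap.range (N₂.subtype.rTensor C) := by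
  rintro _ ⟨y, rfl⟩
  refine ⟨(Submodule.inclusion h).rTensor C y, ?_⟩
  rw [← LinearMap.comp_apply, ← LinearMap.rTensor_comp]
  rfl

lemma exists_fg_minimal [Module.Projective R C] (y : V ⊗[R] C) :
    ∃ T : Submodule R V, T.FG ∧ y ∈ LinearMap.range (T.subtype.rTensor C) ∧
      ∀ W : Submodule R V, (∀ f : Module.Dual R C, slice f y ∈ W) → T ≤ W := by
  classical
  obtain ⟨s, hs⟩ := Module.projective_def'.mp (inferInstance : Module.Projective R C)
  set p := Finsupp.linearCombination R (id : C → C) with hp
  set z := TensorProduct.finsuppScalarRight R R V C (s.lTensor V y) with hz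
  refine ⟨Submodule.span R ((z.support.image z : Finset V) : Set V),
    Submodule.fg_span (Finset.finite_toSet _), ?_, ?_⟩
  · have h1 : y = p.lTensor V (s.lTensor V y) := by
      rw [← LinearMap.comp_apply, ← LinearMap.lTensor_comp, hs, LinearMap.lTensor_id,
        LinearMap.id_apply]
    have h2 : s.lTensor V y = (TensorProduct.finsuppScalarRight R R V C).symm z := by
      rw [hz, LinearEquiv.symm_apply_apply]
    have h3 : z = ∑ α ∈ z.support, Finsupp.single α (z α) := by
      conv_lhs => rw [← Finsupp.sum_single z]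
      rfl
    have hy : y = ∑ α ∈ z.support, z α ⊗ₜ[R] p (Finsupp.single α 1) := by
      conv_lhs => rw [h1, h2, h3]
      rw [map_sum, map_sum]
      refine Finset.sum_congr rfl fun α _ => ?_
      rw [TensorProduct.finsuppScalarRight_symm_apply_single, LinearMap.lTensor_tmul]
    rw [hy]
    refine Submodule.sum_mem _ fun α hα => ?_
    have hmem : z α ∈ Submodule.span R ((z.support.image z : Finset V) : Set V) :=
      Submodule.subset_span (Finset.mem_coe.mpr (Finset.mem_image_of_mem z hα))
    exact ⟨(⟨z α, hmem⟩ : Submodule.span R ((z.support.image z : Finset V) : Set V)) ⊗ₜ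
      p (Finsupp.single α 1), by simp⟩
  · intro W hW
    rw [Submodule.span_le]
    intro v hv
    obtain ⟨α, _, rfl⟩ := Finset.mem_image.mp (Finset.mem_coe.mp hv)
    have : z α = slice (Finsupp.lapply α ∘ₗ s) y := by
      rw [hz, TensorProduct.finsuppScalarRight_apply, ← LinearMap.comp_apply,
        ← LinearMap.lTensor_comp]
      rfl
    rw [SetLike.mem_coe, this]
    exact hW _


lemma slice_naturality {V' : Type u} [AddCommGroup V'] [Module R V'] (f : Module.Dual R C)
    (φ : V →ₗ[R] V') : φ ∘ₗ slice f = slice f ∘ₗ φ.rTensor C := by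
  apply TensorProduct.ext'
  intro v c
  simp

lemma slice_slice (h f : Module.Dual R C) (u : (V ⊗[R] C) ⊗[R] C) :
    slice h (slice f u) =
      slice (LinearMap.mul' R R ∘ₗ TensorProduct.map h f) (TensorProduct.assoc R V C C u) := by
  have : slice h ∘ₗ slice f =
      slice (V := V) (LinearMap.mul' R R ∘ₗ TensorProduct.map h f) ∘ₗ
        (TensorProduct.assoc R V C C).toLinearMap := by
    apply TensorProduct.ext_threefold
    intro v c d
    simp only [LinearMap.coe_comp, Function.comp_apply, slice_tmul, map_smul, LinearEquiv.coe_coe,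
      TensorProduct.assoc_tmul, TensorProduct.map_tmul, LinearMap.mul'_apply, mul_smul]
    exact smul_comm _ _ _
  exact LinearMap.congr_fun this u

lemma slice_lTensor {C' : Type u} [AddCommGroup C'] [Module R C'] (k : Module.Dual R C')
    (g : C →ₗ[R] C') (y : V ⊗[R] C) : slice k (g.lTensor V y) = slice (k ∘ₗ g) y := by
  simp only [slice, LinearMap.coe_comp, Function.comp_apply, LinearEquiv.coe_coe]
  rw [← LinearMap.comp_apply, ← LinearMap.lTensor_comp]

end

section
variable {R : Type u} [CommRing R] {C : Type u} [AddCommGroup C] [Module R C] [Coalgebra R C]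
  {V : Type u} [AddCommGroup V] [Module R V] [HopfRep.Comod R C V]

local notation "ρ" => (HopfRep.Comod.coact (k := R) (A := C) (V := V))

/-- The submodule generated by all slices of coactions of elements of `M`. -/
noncomputable def gen (M : Submodule R V) : Submodule R V :=
  ⨆ f : Module.Dual R C, Submodule.map (slice f ∘ₗ ρ) M

lemma slice_coact_mem_gen (M : Submodule R V) (f : Module.Dual R C) {m : V} (hm : m ∈ M) :
    slice f (ρ m) ∈ gen (C := C) M :=
  (le_iSup (fun f : Module.Dual R C => Submodule.map (slice f ∘ₗ ρ) M) f) ⟨m, hm, rfl⟩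

lemma le_gen (M : Submodule R V) : M ≤ gen (C := C) M := by
  intro m hm
  have := slice_coact_mem_gen (C := C) M (CoalgebraStruct.counit (R := R) (A := C)) hm
  rwa [slice, LinearMap.comp_apply, LinearEquiv.coe_coe, rid_counit_coact] at this

lemma gen_le_of_isSubcomod (M W' : Submodule R V)
    (hW' : HopfRep.IsSubcomod (k := R) (A := C) W') (h : M ≤ W') : gen (C := C) M ≤ W' := by
  refine iSup_le fun f => ?_
  rintro _ ⟨m, hm, rfl⟩
  obtain ⟨y, hy⟩ := hW' m (h hm)
  rw [LinearMap.comp_apply, ← hy]
  exact slice_rTensor_mem f W' y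

lemma slice_coact_slice_coact (h f : Module.Dual R C) (m : V) :
    slice h (ρ (slice f (ρ m))) =
      slice ((LinearMap.mul' R R ∘ₗ TensorProduct.map h f) ∘ₗ
        CoalgebraStruct.comul (R := R) (A := C)) (ρ m) := by
  have h1 : ρ (slice f (ρ m)) = slice f ((ρ).rTensor C (ρ m)) :=
    LinearMap.congr_fun (slice_naturality f ρ) (ρ m)
  have hco := LinearMap.congr_fun (HopfRep.Comod.coassoc (k := R) (A := C) (V := V)) m
  simp only [LinearMap.coe_comp, Function.comp_apply, LinearEquiv.coe_coe] at hco
  rw [h1, slice_slice, hco, slice_lTensor]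

theorem isSubcomod_gen [Module.Projective R C] (M : Submodule R V) :
    HopfRep.IsSubcomod (k := R) (A := C) (gen (C := C) M) := by
  intro w hw
  refine Submodule.iSup_induction (fun f : Module.Dual R C => Submodule.map (slice f ∘ₗ ρ) M)
    (motive := fun w => ρ w ∈ LinearMap.range ((gen (C := C) M).subtype.rTensor C)) hw ?_ ?_ ?_
  · rintro f _ ⟨m, hm, rfl⟩
    obtain ⟨T, -, hyT, hTmin⟩ := exists_fg_minimal (C := C) (ρ ((slice f ∘ₗ ρ) m))
    refine range_rTensor_mono (hTmin _ fun h => ?_) hyT
    rw [LinearMap.comp_apply, slice_coact_slice_coact]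
    exact slice_coact_mem_gen M _ hm
  · rw [map_zero]; exact Submodule.zero_mem _
  · intro a b ha hb
    rw [map_add]; exact Submodule.add_mem _ ha hb

theorem fg_gen [Module.Projective R C] (M : Submodule R V) (hM : M.FG) : (gen (C := C) M).FG := by
  classical
  obtain ⟨S, hS⟩ := hM
  choose T hTfg hyT hTmin using fun m : V => exists_fg_minimal (C := C) (ρ m)
  have heq : gen (C := C) M = S.sup T := by
    apply le_antisymm
    · refine iSup_le fun f => ?_
      rw [← hS, Submodule.map_span, Submodule.span_le]
      rintro _ ⟨m, hm, rfl⟩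
      obtain ⟨y, hy⟩ := hyT m
      have : slice f (ρ m) ∈ T m := by
        rw [← hy]; exact slice_rTensor_mem f (T m) y
      exact (Finset.le_sup (f := T) hm) this
    · refine Finset.sup_le fun m hm => ?_
      refine hTmin m _ fun f => ?_
      refine slice_coact_mem_gen M f ?_
      rw [← hS]; exact Submodule.subset_span hm
  rw [heq]
  exact Submodule.fg_finset_sup S T fun m _ => hTfg m

theorem exists_smallest_subcomod [Module.Projective R C] (M : Submodule R V) :
    ∃ W : Submodule R V, HopfRep.IsSubcomod (k := R) (A := C) W ∧ M ≤ W ∧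
      (∀ W' : Submodule R V, HopfRep.IsSubcomod (k := R) (A := C) W' → M ≤ W' → W ≤ W') ∧
      (M.FG → W.FG) :=
  ⟨gen (C := C) M, isSubcomod_gen M, le_gen M, fun W' hW' h => gen_le_of_isSubcomod M W' hW' h,
    fg_gen M⟩

end
end Groth.Agent.H2
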