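import Mathlib
import Groth.Prelude.Def_Cone
import Groth.Prelude.Def_PCone

/-!
# Gluing a morphism to `Proj 𝒜` from affine charts (helper2)
-/

open CategoryTheory CategoryTheory.Limits AlgebraicGeometry HomogeneousLocalization

universe u

namespace Groth.Agent.H2.Cone

variable {R A : Type u} [CommRing R] [CommRing A] [Algebra R A] (𝒜 : ℕ → Submodule R A)
  [GradedAlgebra 𝒜]

/-- `Proj.awayι` does not depend on the degree. -/
lemma awayι_congr {f : A} {d d' : ℕ} (hf : f ∈ 𝒜 d) (hd : 0 < d) (hf' : f ∈ 𝒜 d') (hd' : 0 < d') :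
    Proj.awayι 𝒜 f hf hd = Proj.awayι 𝒜 f hf' hd' := rfl

/-- General gluing lemma: a scheme `E` covered by affine charts `c f : Spec (C f) ⟶ E` indexed by
homogeneous elements of positive degree, compatibly with the localisation maps of `Proj 𝒜`, admits
exactly one morphism to `Proj 𝒜` given on charts by ring maps `γ f : 𝒜_(f) → C f`. -/
theorem existsUnique_of_charts {E : Scheme.{u}}
    (C : A → Type u) [∀ f, CommRing (C f)]
    (c : ∀ (d : ℕ) (f : A), 0 < d → f ∈ 𝒜 d → (Spec (CommRingCat.of (C f)) ⟶ E))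
    [hc : ∀ d f hd hf, IsOpenImmersion (c d f hd hf)]
    (hcov : ∀ x : E, ∃ d f hd hf, x ∈ Set.range (c d f hd hf))
    (γ : ∀ f : A, Away 𝒜 f →+* C f)
    (H : ∀ (d : ℕ) (f : A) (hd : 0 < d) (hf : f ∈ 𝒜 d) (d' : ℕ) (g : A) (_ : 0 < d')
      (hg : g ∈ 𝒜 d') (x : A) (hx : x = f * g) (e : ℕ) (he : 0 < e) (hxe : x ∈ 𝒜 e),
      ∃ t : C f →+* C x, Spec.map (CommRingCat.ofHom t) ≫ c d f hd hf = c e x he hxe ∧
        (γ x).comp (awayMap 𝒜 hg hx) = t.comp (γ f))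
    (Hr : ∀ (d : ℕ) (f : A) (hd : 0 < d) (hf : f ∈ 𝒜 d) (d' : ℕ) (g : A) (hd' : 0 < d')
      (hg : g ∈ 𝒜 d'),
      Set.range (c d f hd hf) ∩ Set.range (c d' g hd' hg) ⊆
        Set.range (c (d + d') (f * g) (by omega) (SetLike.mul_mem_graded hf hg))) :
    ∃! π : E ⟶ Proj 𝒜, ∀ (d : ℕ) (f : A) (hd : 0 < d) (hf : f ∈ 𝒜 d),
      c d f hd hf ≫ π = Spec.map (CommRingCat.ofHom (γ f)) ≫ Proj.awayι 𝒜 f hf hd := by
  classical
  let I := Σ' (d : ℕ) (f : A), 0 < d ∧ f ∈ 𝒜 d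
  let 𝒰 : E.OpenCover := Scheme.Cover.mkOfCovers I (fun i => Spec (CommRingCat.of (C i.2.1)))
    (fun i => c i.1 i.2.1 i.2.2.1 i.2.2.2)
    (fun x => by
      obtain ⟨d, f, hd, hf, y, hy⟩ := hcov x
      exact ⟨⟨d, f, hd, hf⟩, y, hy⟩)
    (fun i => hc _ _ _ _)
  let g : ∀ i : I, 𝒰.X i ⟶ Proj 𝒜 := fun i =>
    Spec.map (CommRingCat.ofHom (γ i.2.1)) ≫ Proj.awayι 𝒜 i.2.1 i.2.2.2 i.2.2.1
  have compat : ∀ i j : I, pullback.fst (𝒰.f i) (𝒰.f j) ≫ g i = pullback.snd _ _ ≫ g j := by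
    rintro ⟨d, f, hd, hf⟩ ⟨d', g', hd', hg⟩
    have he : 0 < d + d' := by omega
    have hxe : f * g' ∈ 𝒜 (d + d') := SetLike.mul_mem_graded hf hg
    obtain ⟨t₁, h₁, h₁'⟩ := H d f hd hf d' g' hd' hg (f * g') rfl (d + d') he hxe
    obtain ⟨t₂, h₂, h₂'⟩ := H d' g' hd' hg d f hd hf (f * g') (mul_comm f g') (d + d') he hxe
    change pullback.fst (c d f hd hf) (c d' g' hd' hg) ≫
        Spec.map (CommRingCat.ofHom (γ f)) ≫ Proj.awayι 𝒜 f hf hd =
      pullback.snd (c d f hd hf) (c d' g' hd' hg) ≫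
        Spec.map (CommRingCat.ofHom (γ g')) ≫ Proj.awayι 𝒜 g' hg hd'
    have hrange : Set.range (pullback.fst (c d f hd hf) (c d' g' hd' hg) ≫ c d f hd hf) ⊆
        Set.range (c (d + d') (f * g') he hxe) := by
      rw [IsOpenImmersion.range_pullback_to_base_of_left]
      exact Hr d f hd hf d' g' hd' hg
    let l := IsOpenImmersion.lift (c (d + d') (f * g') he hxe)
      (pullback.fst (c d f hd hf) (c d' g' hd' hg) ≫ c d f hd hf) hrange
    have hl : l ≫ c (d + d') (f * g') he hxe =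
        pullback.fst (c d f hd hf) (c d' g' hd' hg) ≫ c d f hd hf :=
      IsOpenImmersion.lift_fac _ _ _
    have hfst : pullback.fst (c d f hd hf) (c d' g' hd' hg) =
        l ≫ Spec.map (CommRingCat.ofHom t₁) := by
      rw [← cancel_mono (c d f hd hf), Category.assoc, h₁, hl]
    have hsnd : pullback.snd (c d f hd hf) (c d' g' hd' hg) =
        l ≫ Spec.map (CommRingCat.ofHom t₂) := by
      rw [← cancel_mono (c d' g' hd' hg), Category.assoc, h₂, hl, pullback.condition]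
    have e₁ : Spec.map (CommRingCat.ofHom t₁) ≫ Spec.map (CommRingCat.ofHom (γ f)) ≫
        Proj.awayι 𝒜 f hf hd =
        Spec.map (CommRingCat.ofHom (γ (f * g'))) ≫ Proj.awayι 𝒜 (f * g') hxe he := by
      rw [← Category.assoc, ← Spec.map_comp, ← CommRingCat.ofHom_comp, ← h₁',
        CommRingCat.ofHom_comp, Spec.map_comp, Category.assoc,
        Proj.SpecMap_awayMap_awayι 𝒜 hf hd hg rfl]
    have e₂ : Spec.map (CommRingCat.ofHom t₂) ≫ Spec.map (CommRingCat.ofHom (γ g')) ≫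
        Proj.awayι 𝒜 g' hg hd' =
        Spec.map (CommRingCat.ofHom (γ (f * g'))) ≫ Proj.awayι 𝒜 (f * g') hxe he := by
      rw [← Category.assoc, ← Spec.map_comp, ← CommRingCat.ofHom_comp, ← h₂',
        CommRingCat.ofHom_comp, Spec.map_comp, Category.assoc,
        Proj.SpecMap_awayMap_awayι 𝒜 hg hd' hf (mul_comm f g')]
      rfl
    rw [hfst, hsnd, Category.assoc, Category.assoc, e₁, e₂]
  refine ⟨𝒰.glueMorphisms g compat,
    fun d f hd hf => 𝒰.ι_glueMorphisms g compat ⟨d, f, hd, hf⟩, fun π' hπ' => ?_⟩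
  refine 𝒰.hom_ext _ _ fun i => ?_
  rw [Scheme.Cover.ι_glueMorphisms]
  exact hπ' i.1 i.2.1 i.2.2.1 i.2.2.2

end Groth.Agent.H2.Cone
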