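import Mathlib
import Groth.Agent.Lib.Helper2.ConeA

/-!
# The canonical retraction of the pointed affine cone onto `Proj` (helper2)
-/

open CategoryTheory CategoryTheory.Limits AlgebraicGeometry HomogeneousLocalization

universe u

namespace Groth.Agent.H2.Cone

variable {R A : Type u} [CommRing R] [CommRing A] [Algebra R A] (𝒜 : ℕ → Submodule R A)
  [GradedAlgebra 𝒜]

variable {𝒜}

@[reassoc]
lemma chart_ι {d : ℕ} {f : A} (hf : f ∈ 𝒜 d) (hd : 0 < d) :
    _root_.Cone.chart hf hd ≫ (_root_.Cone.pointed 𝒜).ι =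
      Spec.map (CommRingCat.ofHom (algebraMap A (Localization.Away f))) :=
  IsOpenImmersion.lift_fac _ _ _

instance {d : ℕ} {f : A} (hf : f ∈ 𝒜 d) (hd : 0 < d) :
    IsOpenImmersion (_root_.Cone.chart hf hd) := by
  have : IsOpenImmersion (_root_.Cone.chart hf hd ≫ (_root_.Cone.pointed 𝒜).ι) := by
    rw [chart_ι]; infer_instance
  exact IsOpenImmersion.of_comp _ (_root_.Cone.pointed 𝒜).ι

lemma mem_range_chart_iff {d : ℕ} {f : A} (hf : f ∈ 𝒜 d) (hd : 0 < d)
    (p : (_root_.Cone.pointed 𝒜 : Scheme.{u})) :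
    p ∈ Set.range (_root_.Cone.chart hf hd) ↔
      f ∉ ((_root_.Cone.pointed 𝒜).ι p : PrimeSpectrum A).asIdeal := by
  have hr := PrimeSpectrum.localization_away_comap_range (Localization.Away f) f
  constructor
  · rintro ⟨q, rfl⟩
    have : (_root_.Cone.pointed 𝒜).ι (_root_.Cone.chart hf hd q) =
        (Spec.map (CommRingCat.ofHom (algebraMap A (Localization.Away f)))) q := by
      rw [← chart_ι hf hd]; rfl
    rw [this]
    have h2 : (Spec.map (CommRingCat.ofHom (algebraMap A (Localization.Away f)))) q ∈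
        (PrimeSpectrum.basicOpen f : Set (PrimeSpectrum A)) := by
      rw [← hr]; exact ⟨q, rfl⟩
    exact h2
  · intro h
    have h2 : ((_root_.Cone.pointed 𝒜).ι p : PrimeSpectrum A) ∈
        (PrimeSpectrum.basicOpen f : Set (PrimeSpectrum A)) := h
    rw [← hr] at h2
    obtain ⟨q, hq⟩ := h2
    refine ⟨q, ?_⟩
    apply (_root_.Cone.pointed 𝒜).ι.isOpenEmbedding.injective
    rw [← hq, ← Scheme.Hom.comp_apply, chart_ι hf hd]
    rfl

lemma exists_mem_range_chart (p : (_root_.Cone.pointed 𝒜 : Scheme.{u})) :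
    ∃ (d : ℕ) (f : A) (hd : 0 < d) (hf : f ∈ 𝒜 d), p ∈ Set.range (_root_.Cone.chart hf hd) := by
  classical
  have hp : ((_root_.Cone.pointed 𝒜).ι p : PrimeSpectrum A) ∈
      (PrimeSpectrum.zeroLocus ((HomogeneousIdeal.irrelevant 𝒜).toIdeal : Set A))ᶜ := p.2
  have hp' : ¬ ((HomogeneousIdeal.irrelevant 𝒜).toIdeal : Set A) ⊆
      (((_root_.Cone.pointed 𝒜).ι p : PrimeSpectrum A).asIdeal : Set A) := by
    intro h
    exact hp ((PrimeSpectrum.mem_zeroLocus _ _).mpr h)
  rw [Set.not_subset] at hp'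
  obtain ⟨a, ha, hap⟩ := hp'
  have ha0 : GradedRing.proj 𝒜 0 a = 0 := (HomogeneousIdeal.mem_irrelevant_iff _ _).mp ha
  have : ∃ i, (DirectSum.decompose 𝒜 a i : A) ∉
      ((_root_.Cone.pointed 𝒜).ι p : PrimeSpectrum A).asIdeal := by
    by_contra hcon
    push_neg at hcon
    apply hap
    rw [← DirectSum.sum_support_decompose 𝒜 a]
    exact Ideal.sum_mem _ fun i _ => hcon i
  obtain ⟨i, hi⟩ := this
  have hi0 : i ≠ 0 := by
    rintro rfl
    apply hi
    rw [GradedRing.proj_apply] at ha0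
    rw [ha0]
    exact zero_mem _
  exact ⟨i, _, Nat.pos_of_ne_zero hi0, SetLike.coe_mem _,
    (mem_range_chart_iff (SetLike.coe_mem _) (Nat.pos_of_ne_zero hi0) p).mpr hi⟩

variable (𝒜)

/-- Existence and uniqueness of the canonical retraction `E → Proj 𝒜`. -/
theorem existsUnique_retraction :
    ∃! π : (_root_.Cone.pointed 𝒜 : Scheme.{u}) ⟶ Proj 𝒜,
      ∀ (d : ℕ) (f : A) (hd : 0 < d) (hf : f ∈ 𝒜 d),
        _root_.Cone.chart hf hd ≫ π =
          Spec.map (CommRingCat.ofHom (algebraMap (HomogeneousLocalization.Away 𝒜 f)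
            (Localization.Away f))) ≫ Proj.awayι 𝒜 f hf hd := by
  refine existsUnique_of_charts 𝒜 (fun f => Localization.Away f)
    (fun d f hd hf => _root_.Cone.chart hf hd)
    (fun p => exists_mem_range_chart p)
    (fun f => algebraMap (HomogeneousLocalization.Away 𝒜 f) (Localization.Away f)) ?_ ?_
  · intro d f hd hf d' g hd' hg x hx e he hxe
    have hu : IsUnit (algebraMap A (Localization.Away x) f) :=
      isUnit_of_dvd_unit (map_dvd _ ⟨_, hx⟩) (IsLocalization.Away.algebraMap_isUnit x)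
    refine ⟨Localization.awayLift (algebraMap A (Localization.Away x)) f hu, ?_, ?_⟩
    · rw [← cancel_mono (_root_.Cone.pointed 𝒜).ι, Category.assoc, chart_ι, chart_ι,
        ← Spec.map_comp, ← CommRingCat.ofHom_comp]
      congr 2
      exact IsLocalization.Away.lift_comp _ _
    · ext z
      simp only [RingHom.comp_apply, HomogeneousLocalization.algebraMap_apply]
      rw [val_awayMap]
  · intro d f hd hf d' g hd' hg p hp
    obtain ⟨h1, h2⟩ := hp
    rw [mem_range_chart_iff] at h1 h2 ⊢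
    intro h
    rcases (((_root_.Cone.pointed 𝒜).ι p : PrimeSpectrum A).isPrime.mem_or_mem h) with h | h
    · exact h1 h
    · exact h2 h

end Groth.Agent.H2.Cone
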