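import Mathlib
import Groth.Agent.Lib.Helper2.ConeA

/-!
# Points of `Proj 𝒜` in the standard charts (helper2)
-/

open CategoryTheory CategoryTheory.Limits AlgebraicGeometry HomogeneousLocalization

universe u

namespace Groth.Agent.H2.Cone

variable {R A : Type u} [CommRing R] [CommRing A] [Algebra R A] (𝒜 : ℕ → Submodule R A)
  [GradedAlgebra 𝒜]

set_option backward.isDefEq.respectTransparency.types false in
lemma basicOpenToSpec_toLRSHom (f : A) :
    (Proj.basicOpenToSpec 𝒜 f).toLRSHom = ProjectiveSpectrum.Proj.toSpec 𝒜 f := by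
  refine Eq.trans ?_ (ΓSpec.locallyRingedSpaceAdjunction.homEquiv_apply _ _ _).symm
  dsimp [Proj.basicOpenToSpec, Scheme.Opens.toSpecΓ]
  simp only [Category.assoc, ← Spec.map_comp]
  rfl

lemma mk_mem_basicOpenToSpec_apply (f : A) (x : (Proj.basicOpen 𝒜 f : Scheme.{u}))
    (z : NumDenSameDeg 𝒜 (.powers f)) :
    HomogeneousLocalization.mk z ∈ ((Proj.basicOpenToSpec 𝒜 f) x : PrimeSpectrum _).asIdeal ↔
      z.num.1 ∈ ((Proj.basicOpen 𝒜 f).ι x : ProjectiveSpectrum 𝒜).asHomogeneousIdeal := by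
  have h := ProjectiveSpectrum.Proj.mk_mem_toSpec_base_apply 𝒜 (f := f) x z
  rw [← basicOpenToSpec_toLRSHom] at h
  exact h

lemma mk_mem_iff_awayι {f : A} {d : ℕ} (hf : f ∈ 𝒜 d) (hd : 0 < d)
    (y : Spec (CommRingCat.of (Away 𝒜 f))) (z : NumDenSameDeg 𝒜 (.powers f)) :
    HomogeneousLocalization.mk z ∈ (y : PrimeSpectrum _).asIdeal ↔
      z.num.1 ∈ (Proj.awayι 𝒜 f hf hd y : ProjectiveSpectrum 𝒜).asHomogeneousIdeal := by
  have h := mk_mem_basicOpenToSpec_apply 𝒜 f ((Proj.basicOpenIsoSpec 𝒜 f hf hd).inv y) z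
  have e : (Proj.basicOpenToSpec 𝒜 f) ((Proj.basicOpenIsoSpec 𝒜 f hf hd).inv y) = y := by
    rw [← Proj.basicOpenIsoSpec_hom 𝒜 f hf hd, ← Scheme.Hom.comp_apply, Iso.inv_hom_id]
    rfl
  rw [e] at h
  exact h

/-- Membership of a homogeneous element in the point `awayι y` of `Proj 𝒜`. -/
lemma mem_awayι_iff_of_mem {f : A} {d : ℕ} (hf : f ∈ 𝒜 d) (hd : 0 < d)
    (y : Spec (CommRingCat.of (Away 𝒜 f))) {n : ℕ} {a : A} (ha : a ∈ 𝒜 n) :
    a ∈ (Proj.awayι 𝒜 f hf hd y : ProjectiveSpectrum 𝒜).asHomogeneousIdeal ↔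
      Away.mk 𝒜 hf n (a ^ d) (by
        rw [smul_eq_mul, mul_comm]; exact SetLike.pow_mem_graded d ha) ∈
        (y : PrimeSpectrum _).asIdeal := by
  rw [Away.mk, mk_mem_iff_awayι 𝒜 hf hd]
  change _ ↔ a ^ d ∈ (Proj.awayι 𝒜 f hf hd y : ProjectiveSpectrum 𝒜).asHomogeneousIdeal.toIdeal
  rw [(Proj.awayι 𝒜 f hf hd y : ProjectiveSpectrum 𝒜).isPrime.pow_mem_iff_mem d hd]
  rfl

/-- Two homogeneous ideals with the same homogeneous elements are equal. -/
lemma homogeneousIdeal_ext {I J : HomogeneousIdeal 𝒜}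
    (h : ∀ (n : ℕ) (a : A), a ∈ 𝒜 n → (a ∈ I ↔ a ∈ J)) : I = J := by
  apply HomogeneousIdeal.toIdeal_injective
  ext a
  rw [I.isHomogeneous.mem_iff, J.isHomogeneous.mem_iff]
  exact forall_congr' fun i => h i _ (SetLike.coe_mem _)

end Groth.Agent.H2.Cone
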