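import Mathlib
import Groth.Agent.Lib.Helper2.ConeB
import Groth.Agent.Lib.Helper2.ConeD
import Groth.Agent.Lib.Helper1.ProjBasic

/-!
# Properties of the canonical retraction of the pointed affine cone (helper2)
-/

open CategoryTheory CategoryTheory.Limits AlgebraicGeometry HomogeneousLocalization

universe u

namespace Groth.Agent.H2.Cone

variable {R A : Type u} [CommRing R] [CommRing A] [Algebra R A] (𝒜 : ℕ → Submodule R A)
  [GradedAlgebra 𝒜]
  (π : (_root_.Cone.pointed 𝒜 : Scheme.{u}) ⟶ Proj 𝒜)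
  (hπ : ∀ (d : ℕ) (f : A) (hd : 0 < d) (hf : f ∈ 𝒜 d),
    _root_.Cone.chart hf hd ≫ π =
      Spec.map (CommRingCat.ofHom (algebraMap (HomogeneousLocalization.Away 𝒜 f)
        (Localization.Away f))) ≫ Proj.awayι 𝒜 f hf hd)

lemma mem_homogeneousCore_iff_of_mem (I : Ideal A) {n : ℕ} {a : A} (ha : a ∈ 𝒜 n) :
    a ∈ I.homogeneousCore 𝒜 ↔ a ∈ I :=
  ⟨fun h => Ideal.toIdeal_homogeneousCore_le 𝒜 I h,
    fun h => Ideal.mem_homogeneousCore_of_homogeneous_of_mem ⟨n, ha⟩ h⟩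

include hπ in
/-- On points, `π` sends a prime `p` of `A` to its homogeneous core. -/
lemma π_apply_asHomogeneousIdeal (p : (_root_.Cone.pointed 𝒜 : Scheme.{u})) :
    (π p : ProjectiveSpectrum 𝒜).asHomogeneousIdeal =
      (((_root_.Cone.pointed 𝒜).ι p : PrimeSpectrum A).asIdeal).homogeneousCore 𝒜 := by
  obtain ⟨d, f, hd, hf, y, rfl⟩ := exists_mem_range_chart p
  have e1 : π (_root_.Cone.chart hf hd y) =
      Proj.awayι 𝒜 f hf hd (Spec.map (CommRingCat.ofHom (algebraMap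
        (HomogeneousLocalization.Away 𝒜 f) (Localization.Away f))) y) := by
    rw [← Scheme.Hom.comp_apply, hπ]; rfl
  have e2 : (_root_.Cone.pointed 𝒜).ι (_root_.Cone.chart hf hd y) =
      Spec.map (CommRingCat.ofHom (algebraMap A (Localization.Away f))) y := by
    rw [← Scheme.Hom.comp_apply, chart_ι]
  rw [e1, e2]
  apply homogeneousIdeal_ext
  intro n a ha
  rw [mem_awayι_iff_of_mem 𝒜 hf hd _ ha]
  change algebraMap (HomogeneousLocalization.Away 𝒜 f) (Localization.Away f) _ ∈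
    (y : PrimeSpectrum _).asIdeal ↔ _
  rw [show (a ∈ Ideal.homogeneousCore 𝒜 ((Spec.map (CommRingCat.ofHom
      (algebraMap A (Localization.Away f))) y : PrimeSpectrum A).asIdeal)) ↔ a ∈
      (Spec.map (CommRingCat.ofHom (algebraMap A (Localization.Away f))) y :
        PrimeSpectrum A).asIdeal from mem_homogeneousCore_iff_of_mem 𝒜 _ ha]
  change _ ↔ algebraMap A (Localization.Away f) a ∈ (y : PrimeSpectrum _).asIdeal
  rw [HomogeneousLocalization.algebraMap_apply, Away.val_mk, Localization.mk_eq_mk',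
    IsLocalization.mk'_mem_iff, map_pow]
  exact (y : PrimeSpectrum _).isPrime.pow_mem_iff_mem d hd

include hπ in
lemma π_preimage_basicOpen {d : ℕ} {f : A} (hf : f ∈ 𝒜 d) :
    π ⁻¹ᵁ Proj.basicOpen 𝒜 f = (_root_.Cone.pointed 𝒜).ι ⁻¹ᵁ _root_.Cone.coneOpen f := by
  ext q
  change π q ∈ Proj.basicOpen 𝒜 f ↔
    ((_root_.Cone.pointed 𝒜).ι q : PrimeSpectrum A) ∈ PrimeSpectrum.basicOpen f
  rw [Proj.mem_basicOpen, π_apply_asHomogeneousIdeal 𝒜 π hπ]
  exact not_congr (mem_homogeneousCore_iff_of_mem 𝒜 _ hf)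

lemma ι_preimage_coneOpen_eq_opensRange {d : ℕ} {f : A} (hf : f ∈ 𝒜 d) (hd : 0 < d) :
    (_root_.Cone.pointed 𝒜).ι ⁻¹ᵁ _root_.Cone.coneOpen f =
      (_root_.Cone.chart hf hd).opensRange := by
  ext q
  exact (mem_range_chart_iff hf hd q).symm

include hπ in
theorem isAffineHom_π : IsAffineHom π := by
  apply isAffineHom_of_forall_exists_isAffineOpen
  intro x
  obtain ⟨d, f, hd, hf, hfx⟩ := Groth.Agent.H1.PB.exists_homogeneous_pos_notMem 𝒜 x
  refine ⟨Proj.basicOpen 𝒜 f, (Proj.mem_basicOpen 𝒜 f x).mpr hfx,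
    Proj.isAffineOpen_basicOpen 𝒜 f hf hd, ?_⟩
  rw [π_preimage_basicOpen 𝒜 π hπ hf, ι_preimage_coneOpen_eq_opensRange 𝒜 hf hd]
  exact isAffineOpen_opensRange _

include hπ in
theorem surjective_π : Surjective π := by
  refine ⟨fun x => ?_⟩
  let P : PrimeSpectrum A := ⟨x.asHomogeneousIdeal.toIdeal, x.isPrime⟩
  have hP : P ∈ (PrimeSpectrum.zeroLocus ((HomogeneousIdeal.irrelevant 𝒜).toIdeal : Set A))ᶜ := by
    intro hmem
    exact x.not_irrelevant_le ((PrimeSpectrum.mem_zeroLocus _ _).mp hmem)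
  refine ⟨⟨P, hP⟩, ?_⟩
  apply ProjectiveSpectrum.ext
  rw [π_apply_asHomogeneousIdeal 𝒜 π hπ]
  exact HomogeneousIdeal.toIdeal_homogeneousCore_eq_self _

end Groth.Agent.H2.Cone
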