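import Mathlib
import Groth.Prelude.Def_FSch3

/-!
# Ideal sheaves on affine schemes `Spec R` (helper2)

`specIdeal R I` is the ideal sheaf on `Spec R` attached to an ideal `I` of `R`; it is an
order-preserving multiplicative bijection, computes kernels of `Spec.map`, and its
inverse image along `Spec.map φ` is the extended ideal.
-/

open AlgebraicGeometry CategoryTheory CategoryTheory.Limits

namespace Groth.Agent.H2.FSchAff

universe u

variable (R : Type u) [CommRing R]

/-- The ring isomorphism `Γ(Spec R, ⊤) ≃+* R`. -/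
noncomputable def gammaEquiv : Γ(Spec (CommRingCat.of R), ⊤) ≃+* R :=
  (Scheme.ΓSpecIso (CommRingCat.of R)).commRingCatIsoToRingEquiv

/-- The ideal sheaf on `Spec R` of an ideal of `R`. -/
noncomputable def specIdeal (I : Ideal R) : (Spec (CommRingCat.of R)).IdealSheafData :=
  Scheme.IdealSheafData.ofIdealTop (I.comap (gammaEquiv R))

variable {R}

lemma specIdeal_ideal_top (I : Ideal R) :
    (specIdeal R I).ideal ⟨⊤, isAffineOpen_top _⟩ = I.comap (gammaEquiv R) := by
  rw [specIdeal, Scheme.IdealSheafData.ofIdealTop_ideal]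
  have h1 : (Spec (CommRingCat.of R)).presheaf.map
      (homOfLE (le_top : (⊤ : (Spec (CommRingCat.of R)).Opens) ≤ ⊤)).op = 𝟙 _ := by
    rw [← (Spec (CommRingCat.of R)).presheaf.map_id]; rfl
  rw [h1]
  exact Ideal.map_id _

lemma specIdeal_le_iff {I J : Ideal R} : specIdeal R I ≤ specIdeal R J ↔ I ≤ J := by
  constructor
  · intro h
    have := h ⟨⊤, isAffineOpen_top _⟩
    rw [specIdeal_ideal_top, specIdeal_ideal_top] at this
    exact (Ideal.comap_le_comap_iff_of_surjective _ (gammaEquiv R).surjective I J).mp this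
  · intro h
    apply Scheme.IdealSheafData.le_of_isAffine
    rw [specIdeal_ideal_top, specIdeal_ideal_top]
    exact Ideal.comap_mono h

lemma specIdeal_injective : Function.Injective (specIdeal R) := by
  intro I J h
  exact le_antisymm (specIdeal_le_iff.mp h.le) (specIdeal_le_iff.mp h.ge)

lemma specIdeal_surjective : Function.Surjective (specIdeal R) := by
  intro 𝓘
  refine ⟨(𝓘.ideal ⟨⊤, isAffineOpen_top _⟩).map (gammaEquiv R), ?_⟩
  apply Scheme.IdealSheafData.ext_of_isAffine
  rw [specIdeal_ideal_top]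
  exact Ideal.comap_map_of_bijective _ (gammaEquiv R).bijective

lemma specIdeal_mul (I J : Ideal R) : specIdeal R (I * J) = specIdeal R I * specIdeal R J := by
  apply Scheme.IdealSheafData.ext_of_isAffine
  rw [Scheme.IdealSheafData.ideal_mul, Pi.mul_apply, specIdeal_ideal_top, specIdeal_ideal_top,
    specIdeal_ideal_top]
  rw [← Ideal.map_symm, ← Ideal.map_symm, ← Ideal.map_symm]
  exact Ideal.map_mul _ I J

lemma specIdeal_top : specIdeal R (⊤ : Ideal R) = ⊤ := by
  apply Scheme.IdealSheafData.ext_of_isAffine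
  rw [specIdeal_ideal_top, Ideal.comap_top]
  rfl

lemma specIdeal_pow (I : Ideal R) (n : ℕ) : specIdeal R (I ^ n) = specIdeal R I ^ n := by
  induction n with
  | zero =>
    rw [pow_zero, pow_zero, Ideal.one_eq_top, specIdeal_top]
    rfl
  | succ n ih => rw [pow_succ, pow_succ, specIdeal_mul, ih]

/-- The kernel of `Spec.map φ`. -/
lemma ker_specMap {R' : Type u} [CommRing R'] (φ : R →+* R') :
    (Spec.map (CommRingCat.ofHom φ)).ker = specIdeal R (RingHom.ker φ) := by
  rw [Scheme.ker_of_isAffine, specIdeal]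
  congr 1
  have h := Scheme.ΓSpecIso_naturality (CommRingCat.ofHom φ)
  ext x
  simp only [RingHom.mem_ker, Ideal.mem_comap]
  have h2 := congrArg (fun g => g.hom x) h
  simp only [CommRingCat.hom_comp, RingHom.comp_apply, CommRingCat.hom_ofHom] at h2
  change _ ↔ φ ((Scheme.ΓSpecIso (CommRingCat.of R)).hom.hom x) = 0
  rw [← h2]
  constructor
  · intro hx; rw [hx, map_zero]
  · intro hx
    have hinj : Function.Injective (Scheme.ΓSpecIso (CommRingCat.of R')).hom.hom :=
      (Scheme.ΓSpecIso (CommRingCat.of R')).commRingCatIsoToRingEquiv.injective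
    exact hinj (by rw [hx, map_zero])

lemma idealSpec_eq (J : Ideal R) : FSch.idealSpec R J = specIdeal R J := by
  rw [FSch.idealSpec, ker_specMap, Ideal.mk_ker]

/-- The quotient `A ⧸ 𝔟A` is the pushout of `A` and `B ⧸ 𝔟` over `B`. -/
lemma isPushout_quotient {A B : Type u} [CommRing A] [CommRing B] (φ : B →+* A) (𝔟 : Ideal B) :
    IsPushout (CommRingCat.ofHom φ) (CommRingCat.ofHom (Ideal.Quotient.mk 𝔟))
      (CommRingCat.ofHom (Ideal.Quotient.mk (𝔟.map φ)))
      (CommRingCat.ofHom (Ideal.quotientMap (𝔟.map φ) φ Ideal.le_comap_map)) := by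
  refine ⟨⟨?_⟩, ⟨PushoutCocone.IsColimit.mk _ (fun s => ?_) ?_ ?_ ?_⟩⟩
  · ext x
    simp
  · refine CommRingCat.ofHom (Ideal.Quotient.lift (𝔟.map φ) s.inl.hom ?_)
    intro a ha
    have hle : 𝔟.map φ ≤ RingHom.ker s.inl.hom := by
      rw [Ideal.map_le_iff_le_comap]
      intro b hb
      rw [Ideal.mem_comap, RingHom.mem_ker]
      have h := congrArg (fun g => g.hom b) s.condition
      simp only [CommRingCat.hom_comp, RingHom.comp_apply, CommRingCat.hom_ofHom] at h
      rw [h, Ideal.Quotient.eq_zero_iff_mem.mpr hb, map_zero]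
    exact hle ha
  · intro s
    ext x
    simp
  · intro s
    ext b
    have h := congrArg (fun g => g.hom b) s.condition
    simp only [CommRingCat.hom_comp, RingHom.comp_apply, CommRingCat.hom_ofHom] at h
    simp only [CommRingCat.hom_comp, RingHom.comp_apply, CommRingCat.hom_ofHom,
      Ideal.quotientMap_mk, Ideal.Quotient.lift_mk]
    exact h
  · intro s m h1 _
    ext a
    have h := congrArg (fun g => g.hom a) h1
    simp only [CommRingCat.hom_comp, RingHom.comp_apply, CommRingCat.hom_ofHom] at h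
    simp only [CommRingCat.hom_ofHom, Ideal.Quotient.lift_mk]
    exact h

instance isClosedImmersion_specMap_mk (I : Ideal R) :
    IsClosedImmersion (Spec.map (CommRingCat.ofHom (Ideal.Quotient.mk I))) :=
  IsClosedImmersion.spec_of_surjective _ Ideal.Quotient.mk_surjective

/-- Inverse image of the ideal sheaf of `𝔟` along `Spec.map φ` is the ideal sheaf of `𝔟A`. -/
theorem specIdeal_comap {A B : Type u} [CommRing A] [CommRing B] (φ : B →+* A) (𝔟 : Ideal B) :
    (specIdeal B 𝔟).comap (Spec.map (CommRingCat.ofHom φ)) = specIdeal A (𝔟.map φ) := by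
  have h1 : specIdeal B 𝔟 = (Spec.map (CommRingCat.ofHom (Ideal.Quotient.mk 𝔟))).ker := by
    rw [ker_specMap, Ideal.mk_ker]
  rw [h1, ← Scheme.IdealSheafData.ker_fst_of_isClosedImmersion]
  have hpb := isPullback_SpecMap_of_isPushout _ _ _ _ (isPushout_quotient φ 𝔟)
  have h2 : pullback.fst (Spec.map (CommRingCat.ofHom φ))
      (Spec.map (CommRingCat.ofHom (Ideal.Quotient.mk 𝔟))) =
      hpb.isoPullback.inv ≫ Spec.map (CommRingCat.ofHom (Ideal.Quotient.mk (𝔟.map φ))) := by
    rw [Iso.eq_inv_comp, IsPullback.isoPullback_hom_fst]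
  rw [h2, Scheme.Hom.ker_comp_of_isIso, ker_specMap, Ideal.mk_ker]

end Groth.Agent.H2.FSchAff
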