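import Mathlib
import Groth.Prelude.Def_FSch3
import Groth.Agent.Lib.Helper2.FSchAff

/-!
# The formal spectrum `FSch.spf A J` as a system (helper2)
-/

open AlgebraicGeometry CategoryTheory CategoryTheory.Limits

namespace Groth.Agent.H2.FSchAff

universe u

/-- `Spec.map` of a surjection whose kernel is contained in the nilradical is surjective on
points. -/
lemma specMap_surjective_of_ker_le {R S : Type u} [CommRing R] [CommRing S] (φ : R →+* S)
    (hφ : Function.Surjective φ) (hk : RingHom.ker φ ≤ nilradical R) :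
    Function.Surjective (Spec.map (CommRingCat.ofHom φ)).base := by
  intro p
  let p' : PrimeSpectrum R := p
  have hp : p' ∈ Set.range (PrimeSpectrum.comap φ) := by
    rw [range_comap_of_surjective _ _ hφ, PrimeSpectrum.mem_zeroLocus]
    intro x hx
    exact nilradical_le_prime p'.asIdeal (hk hx)
  obtain ⟨q, hq⟩ := hp
  exact ⟨q, hq⟩

variable (A : Type u) [CommRing A] (J : Ideal A)

/-- The transition ring maps `A ⧸ J^(n+2) → A ⧸ J^(n+1)`. -/
noncomputable abbrev trans (n : ℕ) : A ⧸ J ^ (n + 2) →+* A ⧸ J ^ (n + 1) :=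
  Ideal.Quotient.factor (Ideal.pow_le_pow_right (Nat.le_succ (n + 1)))

/-- The ring maps `A ⧸ J^(m+1) → A ⧸ J^(0+1)`. -/
noncomputable abbrev toZero (m : ℕ) : A ⧸ J ^ (m + 1) →+* A ⧸ J ^ (0 + 1) :=
  Ideal.Quotient.factor (Ideal.pow_le_pow_right (Nat.succ_le_succ (Nat.zero_le m)))

lemma spf_ι (n : ℕ) : (FSch.spf A J).ι n = Spec.map (CommRingCat.ofHom (trans A J n)) :=
  rfl

lemma spf_toX (m : ℕ) : (FSch.spf A J).toX m = Spec.map (CommRingCat.ofHom (toZero A J m)) := by
  induction m with
  | zero =>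
    have : toZero A J 0 = RingHom.id _ := Ideal.Quotient.factor_eq
    rw [this]
    exact (Spec.map_id _).symm
  | succ m ih =>
    have e1 : (FSch.spf A J).toX (m + 1) = (FSch.spf A J).toX m ≫ (FSch.spf A J).ι m := rfl
    rw [e1, ih, spf_ι]
    refine (Spec.map_comp _ _).symm.trans ?_
    rw [← CommRingCat.ofHom_comp]
    congr 2
    exact Ideal.Quotient.factor_comp _ _

lemma ker_trans (n : ℕ) :
    RingHom.ker (trans A J n) = (J ^ (n + 1)).map (Ideal.Quotient.mk (J ^ (n + 2))) :=
  Ideal.Quotient.factor_ker _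

lemma ker_toZero (m : ℕ) :
    RingHom.ker (toZero A J m) = (J ^ (0 + 1)).map (Ideal.Quotient.mk (J ^ (m + 1))) :=
  Ideal.Quotient.factor_ker _

lemma spf_isFormal : (FSch.spf A J).IsFormal := by
  intro n
  rw [spf_ι]
  have hsurj : Function.Surjective (trans A J n) := Ideal.Quotient.factor_surjective _
  refine ⟨IsClosedImmersion.spec_of_surjective _ hsurj, ?_⟩
  apply specMap_surjective_of_ker_le _ hsurj
  rw [ker_trans]
  intro x hx
  refine ⟨2, ?_⟩
  have h1 : x ^ 2 ∈ (Ideal.map (Ideal.Quotient.mk (J ^ (n + 2))) (J ^ (n + 1))) ^ 2 :=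
    Ideal.pow_mem_pow hx 2
  rw [← Ideal.map_pow, ← pow_mul] at h1
  have h2 : Ideal.map (Ideal.Quotient.mk (J ^ (n + 2))) (J ^ ((n + 1) * 2)) = ⊥ := by
    rw [Ideal.map_eq_bot_iff_le_ker, Ideal.mk_ker]
    exact Ideal.pow_le_pow_right (by omega)
  rw [h2] at h1
  exact h1

lemma spf_isAdic : (FSch.spf A J).IsAdic := by
  intro n
  rw [spf_ι, spf_toX]
  refine (ker_specMap (trans A J n)).trans ?_
  refine Eq.trans ?_ (congrArg (· ^ (n + 1)) (ker_specMap (toZero A J (n + 1))).symm)
  change _ = specIdeal _ _ ^ (n + 1)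
  rw [← specIdeal_pow, ker_trans, ker_toZero, ← Ideal.map_pow, ← pow_mul]
  congr 2
  ring

lemma spf_isLocNoethFormal [IsNoetherianRing A] : (FSch.spf A J).IsLocNoethFormal := by
  refine ⟨spf_isFormal A J, spf_isAdic A J, fun n => ?_⟩
  change IsLocallyNoetherian (Spec (CommRingCat.of (A ⧸ J ^ (n + 1))))
  infer_instance

/-- Ring maps `φ : B → A` with `φ(K) ⊆ I` are the same as morphisms of systems `Spf A ⟶ Spf B`,
for `A` complete. -/
theorem spfMap_bijective (A B : Type u) [CommRing A] [CommRing B] (I : Ideal A) (K : Ideal B)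
    [IsAdicComplete I A] :
    Function.Bijective (fun φ : {φ : B →+* A // K ≤ I.comap φ} ↦ FSch.spfMap I K φ.1 φ.2) := by
  constructor
  · -- injective
    rintro ⟨φ, hφ⟩ ⟨ψ, hψ⟩ h
    have hn : ∀ n, FSch.quotPowMap I K φ hφ n = FSch.quotPowMap I K ψ hψ n := by
      intro n
      have h1 := congrArg (fun F : FSch.Hom (FSch.spf A I) (FSch.spf B K) => F.app n) h
      simp only [FSch.spfMap_app] at h1
      have h2 := Spec.map_injective h1
      exact congrArg CommRingCat.Hom.hom h2
    apply Subtype.ext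
    apply RingHom.ext
    intro b
    change φ b = ψ b
    rw [← sub_eq_zero]
    apply IsHausdorff.haus (inferInstance : IsHausdorff I A)
    intro n
    rw [SModEq.zero, smul_eq_mul, Ideal.mul_top]
    rcases n with _ | n
    · simp
    · have h3 := congrArg (fun g => g (Ideal.Quotient.mk (K ^ (n + 1)) b)) (hn n)
      simp only [FSch.quotPowMap, Ideal.quotientMap_mk] at h3
      rw [← Ideal.Quotient.eq]
      exact h3
  · -- surjective
    intro F
    have hex : ∀ n, ∃ g : CommRingCat.of (B ⧸ K ^ (n + 1)) ⟶ CommRingCat.of (A ⧸ I ^ (n + 1)),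
        Spec.map g = ((F : FSch.Hom _ _).app n : Spec (CommRingCat.of (A ⧸ I ^ (n + 1))) ⟶
          Spec (CommRingCat.of (B ⧸ K ^ (n + 1)))) :=
      fun n => Spec.map_surjective ((F : FSch.Hom _ _).app n)
    choose g hg using hex
    have hcomm : ∀ n (x : B ⧸ K ^ (n + 2)),
        (g n).hom (trans B K n x) = trans A I n ((g (n + 1)).hom x) := by
      intro n x
      have h1 := (F : FSch.Hom _ _).comm n
      rw [← hg n, ← hg (n + 1)] at h1
      change Spec.map (g n) ≫ Spec.map (CommRingCat.ofHom (trans B K n)) =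
        Spec.map (CommRingCat.ofHom (trans A I n)) ≫ Spec.map (g (n + 1)) at h1
      rw [← Spec.map_comp, ← Spec.map_comp] at h1
      have h2 := Spec.map_injective h1
      exact congrArg (fun k => k.hom x) h2
    let f : (n : ℕ) → B →+* A ⧸ I ^ (n + 1) := fun n =>
      (g n).hom.comp (Ideal.Quotient.mk (K ^ (n + 1)))
    have hf : ∀ {m : ℕ}, (Ideal.Quotient.factorPow I
        ((strictMono_id.add_const 1 : StrictMono fun n : ℕ => n + 1).monotone m.le_succ)).comp
          (f (m + 1)) = f m := by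
      intro m
      ext b
      simp only [f, RingHom.comp_apply]
      have := hcomm m (Ideal.Quotient.mk (K ^ (m + 2)) b)
      simp only [Ideal.Quotient.factor_mk] at this
      rw [this]
    let φ : B →+* A := IsAdicComplete.StrictMono.liftRingHom I
      (strictMono_id.add_const 1 : StrictMono fun n : ℕ => n + 1) f hf
    have hφmk : ∀ n b, Ideal.Quotient.mk (I ^ (n + 1)) (φ b) =
        (g n).hom (Ideal.Quotient.mk (K ^ (n + 1)) b) := fun n b =>
      IsAdicComplete.StrictMono.mk_liftRingHom I _ f hf b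
    have hK : K ≤ I.comap φ := by
      intro b hb
      rw [Ideal.mem_comap]
      have h0 := hφmk 0 b
      have hb0 : Ideal.Quotient.mk (K ^ (0 + 1)) b = 0 :=
        Ideal.Quotient.eq_zero_iff_mem.mpr (by simpa using hb)
      rw [hb0, map_zero, Ideal.Quotient.eq_zero_iff_mem] at h0
      simpa using h0
    refine ⟨⟨φ, hK⟩, ?_⟩
    apply FSch.Hom.ext
    funext n
    change Spec.map (CommRingCat.ofHom (FSch.quotPowMap I K φ hK n)) = (F : FSch.Hom _ _).app n
    rw [← hg n]
    congr 1
    ext b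
    simp only [CommRingCat.hom_ofHom, RingHom.comp_apply, FSch.quotPowMap, Ideal.quotientMap_mk]
    exact hφmk n b

/-- For a cartesian square of closed immersions the kernel ideal upstairs is the inverse image
of the kernel ideal downstairs. -/
lemma comap_ker_of_isPullback {ZX ZY X Y : Scheme.{u}} (iX : ZX ⟶ X) (iY : ZY ⟶ Y) (Zf : ZX ⟶ ZY)
    (f : X ⟶ Y) [IsClosedImmersion iY] (h : IsPullback iX Zf f iY) :
    iY.ker.comap f = iX.ker := by
  rw [← Scheme.IdealSheafData.ker_fst_of_isClosedImmersion]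
  have h2 : iX = h.isoPullback.hom ≫ pullback.fst f iY := (IsPullback.isoPullback_hom_fst h).symm
  rw [h2, Scheme.Hom.ker_comp_of_isIso]

lemma quotPowMap_mk {A B : Type u} [CommRing A] [CommRing B] (I : Ideal A) (K : Ideal B)
    (φ : B →+* A) (h : K ≤ I.comap φ) (n : ℕ) (b : B) :
    FSch.quotPowMap I K φ h n (Ideal.Quotient.mk (K ^ (n + 1)) b) =
      Ideal.Quotient.mk (I ^ (n + 1)) (φ b) := rfl

lemma quotPowMap_comm {A B : Type u} [CommRing A] [CommRing B] (I : Ideal A) (K : Ideal B)
    (φ : B →+* A) (h : K ≤ I.comap φ) (n : ℕ) :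
    (FSch.quotPowMap I K φ h n).comp (trans B K n) =
      (trans A I n).comp (FSch.quotPowMap I K φ h (n + 1)) := by
  apply Ideal.Quotient.ringHom_ext
  ext b
  rfl

/-- The image under `θ_{n+1}` of the kernel of the transition map of `B`. -/
lemma map_ker_trans {A B : Type u} [CommRing A] [CommRing B] (I : Ideal A) (K : Ideal B)
    (φ : B →+* A) (h : K ≤ I.comap φ) (n : ℕ) :
    (RingHom.ker (trans B K n)).map (FSch.quotPowMap I K φ h (n + 1)) =
      ((K.map φ) ^ (n + 1)).map (Ideal.Quotient.mk (I ^ (n + 2))) := by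
  rw [ker_trans, Ideal.map_map]
  have : (FSch.quotPowMap I K φ h (n + 1)).comp (Ideal.Quotient.mk (K ^ (n + 2))) =
      (Ideal.Quotient.mk (I ^ (n + 2))).comp φ := by
    ext b; rfl
  rw [this, ← Ideal.map_map, Ideal.map_pow]

/-- The square at level `n` of `spfMap` is cartesian iff `(KA)^(n+1) + I^(n+2) = I^(n+1)`
modulo `I^(n+2)`. -/
lemma isPullback_spfMap_iff {A B : Type u} [CommRing A] [CommRing B] (I : Ideal A) (K : Ideal B)
    (φ : B →+* A) (h : K ≤ I.comap φ) (n : ℕ) :
    IsPullback ((FSch.spf A I).ι n) ((FSch.spfMap I K φ h : FSch.Hom _ _).app n)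
      ((FSch.spfMap I K φ h : FSch.Hom _ _).app (n + 1)) ((FSch.spf B K).ι n) ↔
    ((K.map φ) ^ (n + 1)).map (Ideal.Quotient.mk (I ^ (n + 2))) =
      (I ^ (n + 1)).map (Ideal.Quotient.mk (I ^ (n + 2))) := by
  have hsA : Function.Surjective (trans A I n) := Ideal.Quotient.factor_surjective _
  have hsB : Function.Surjective (trans B K n) := Ideal.Quotient.factor_surjective _
  have hX : IsClosedImmersion (Spec.map (CommRingCat.ofHom (trans A I n))) :=
    IsClosedImmersion.spec_of_surjective _ hsA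
  have hY : IsClosedImmersion (Spec.map (CommRingCat.ofHom (trans B K n))) :=
    IsClosedImmersion.spec_of_surjective _ hsB
  have hw : Spec.map (CommRingCat.ofHom (trans A I n)) ≫
      Spec.map (CommRingCat.ofHom (FSch.quotPowMap I K φ h (n + 1))) =
      Spec.map (CommRingCat.ofHom (FSch.quotPowMap I K φ h n)) ≫
        Spec.map (CommRingCat.ofHom (trans B K n)) := by
    rw [← Spec.map_comp, ← Spec.map_comp, ← CommRingCat.ofHom_comp, ← CommRingCat.ofHom_comp,
      quotPowMap_comm]
  have hker : (Spec.map (CommRingCat.ofHom (trans B K n))).ker.comap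
      (Spec.map (CommRingCat.ofHom (FSch.quotPowMap I K φ h (n + 1)))) =
      specIdeal _ (((K.map φ) ^ (n + 1)).map (Ideal.Quotient.mk (I ^ (n + 2)))) := by
    rw [ker_specMap, specIdeal_comap, map_ker_trans]
  have hkerX : (Spec.map (CommRingCat.ofHom (trans A I n))).ker =
      specIdeal _ ((I ^ (n + 1)).map (Ideal.Quotient.mk (I ^ (n + 2)))) := by
    rw [ker_specMap, ker_trans]
  change IsPullback (Spec.map (CommRingCat.ofHom (trans A I n)))
    (Spec.map (CommRingCat.ofHom (FSch.quotPowMap I K φ h n)))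
    (Spec.map (CommRingCat.ofHom (FSch.quotPowMap I K φ h (n + 1))))
    (Spec.map (CommRingCat.ofHom (trans B K n))) ↔ _
  constructor
  · intro hpb
    have := comap_ker_of_isPullback _ _ _ _ hpb
    rw [hker, hkerX] at this
    exact specIdeal_injective this
  · intro heq
    refine isPullback_of_isClosedImmersion _ _ _ _ hw ?_
    rw [hker, hkerX, heq]

/-- `Spf A ⟶ Spf B` is adic iff `KA = I` (for `A` Noetherian and complete). -/
theorem isAdicHom_spfMap_iff (A B : Type u) [CommRing A] [CommRing B] [IsNoetherianRing A]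
    (I : Ideal A) (K : Ideal B) [IsAdicComplete I A] (φ : B →+* A) (h : K ≤ I.comap φ) :
    FSch.IsAdicHom (FSch.spfMap I K φ h) ↔ K.map φ = I := by
  have hle : K.map φ ≤ I := Ideal.map_le_iff_le_comap.mpr h
  constructor
  · intro hadic
    have h0 := (isPullback_spfMap_iff I K φ h 0).mp (hadic 0)
    have h1 := congrArg (Ideal.comap (Ideal.Quotient.mk (I ^ (0 + 2)))) h0
    rw [Ideal.comap_map_of_surjective _ Ideal.Quotient.mk_surjective,
      Ideal.comap_map_of_surjective _ Ideal.Quotient.mk_surjective,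
      ← RingHom.ker_eq_comap_bot, Ideal.mk_ker] at h1
    simp only [zero_add, pow_one] at h1
    have h2 : I ≤ K.map φ ⊔ I • I := by
      have : I ≤ I ⊔ I ^ 2 := le_sup_left
      rw [← h1] at this
      rw [smul_eq_mul, ← pow_two]
      exact this
    have h3 : I ≤ K.map φ :=
      Submodule.le_of_le_smul_of_le_jacobson_bot (IsNoetherian.noetherian I)
        (IsAdicComplete.le_jacobson_bot I) h2
    exact le_antisymm hle h3
  · intro heq n
    exact (isPullback_spfMap_iff I K φ h n).mpr (by rw [heq])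

end Groth.Agent.H2.FSchAff
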