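import Mathlib
import Groth.Prelude.Def_FSch3
import Groth.Agent.Lib.Helper2.FSchAff

/-!
# Affine-local description of the inverse image of an ideal sheaf (helper2)
-/

open AlgebraicGeometry CategoryTheory CategoryTheory.Limits

namespace Groth.Agent.H2.FSchAff

universe u

variable {X Y : Scheme.{u}}

/-- Restriction of an ideal sheaf to an affine open, read on `Spec Γ(X, U)`. -/
theorem comap_fromSpec (𝓘 : X.IdealSheafData) (U : X.affineOpens) :
    𝓘.comap U.2.fromSpec = specIdeal Γ(X, U) (𝓘.ideal U) := by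
  have H : 𝓘.subschemeCover.f U ≫ 𝓘.subschemeι =
      Spec.map (CommRingCat.ofHom (Ideal.Quotient.mk (𝓘.ideal U))) ≫ U.2.fromSpec := by
    rw [Scheme.IdealSheafData.subschemeCover_map_subschemeι,
      Scheme.IdealSheafData.glueDataObjι_ι]
  have hpb : IsPullback (Spec.map (CommRingCat.ofHom (Ideal.Quotient.mk (𝓘.ideal U))))
      (𝓘.subschemeCover.f U) U.2.fromSpec 𝓘.subschemeι := by
    apply IsOpenImmersion.isPullback _ _ _ _ H
    rw [Scheme.IdealSheafData.opensRange_subschemeCover_map, IsAffineOpen.opensRange_fromSpec]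
  rw [Scheme.IdealSheafData.comap]
  have h2 : pullback.fst U.2.fromSpec 𝓘.subschemeι =
      hpb.isoPullback.inv ≫ Spec.map (CommRingCat.ofHom (Ideal.Quotient.mk (𝓘.ideal U))) := by
    rw [Iso.eq_inv_comp, IsPullback.isoPullback_hom_fst]
  rw [h2, Scheme.Hom.ker_comp_of_isIso, ker_specMap, Ideal.mk_ker]

/-- Affine-local formula for the inverse image of an ideal sheaf. -/
theorem ideal_comap (f : X ⟶ Y) (𝓙 : Y.IdealSheafData) (U : X.affineOpens) (V : Y.affineOpens)
    (e : U.1 ≤ f ⁻¹ᵁ V.1) :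
    (𝓙.comap f).ideal U = (𝓙.ideal V).map (f.appLE V.1 U.1 e).hom := by
  apply specIdeal_injective
  rw [← comap_fromSpec, ← Scheme.IdealSheafData.comap_comp,
    ← IsAffineOpen.SpecMap_appLE_fromSpec f V.2 U.2 e, Scheme.IdealSheafData.comap_comp,
    comap_fromSpec]
  exact specIdeal_comap (f.appLE V.1 U.1 e).hom (𝓙.ideal V)

/-- The affine opens of `X` mapping into an affine open of `Y`. -/
def AffPair (f : X ⟶ Y) : Type u :=
  {p : X.affineOpens × Y.affineOpens // p.1.1 ≤ f ⁻¹ᵁ p.2.1}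

lemma iSup_affPair (f : X ⟶ Y) : ⨆ p : AffPair f, (p.1.1 : X.Opens) = ⊤ := by
  rw [eq_top_iff]
  rintro x -
  obtain ⟨_, ⟨V, hV, rfl⟩, hxV, -⟩ := Y.isBasis_affineOpens.exists_subset_of_mem_open
    (Set.mem_univ (f x)) isOpen_univ
  obtain ⟨_, ⟨U, hU, rfl⟩, hxU, hUV⟩ := X.isBasis_affineOpens.exists_subset_of_mem_open
    (show x ∈ ((f ⁻¹ᵁ V : X.Opens) : Set X) from hxV) (f ⁻¹ᵁ V).2
  exact TopologicalSpace.Opens.mem_iSup.mpr ⟨⟨(⟨U, hU⟩, ⟨V, hV⟩), hUV⟩, hxU⟩

/-- To compare two ideal sheaves on `X` it suffices to compare them on affine opens mapping into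
affine opens of `Y`. -/
lemma ext_of_affPair (f : X ⟶ Y) {I J : X.IdealSheafData}
    (H : ∀ (U : X.affineOpens) (V : Y.affineOpens) (_ : U.1 ≤ f ⁻¹ᵁ V.1), I.ideal U = J.ideal U) :
    I = J :=
  Scheme.IdealSheafData.ext_of_iSup_eq_top (fun p : AffPair f => p.1.1) (iSup_affPair f)
    (fun p => H p.1.1 p.1.2 p.2)

lemma le_of_affPair (f : X ⟶ Y) {I J : X.IdealSheafData}
    (H : ∀ (U : X.affineOpens) (V : Y.affineOpens) (_ : U.1 ≤ f ⁻¹ᵁ V.1), I.ideal U ≤ J.ideal U) :
    I ≤ J :=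
  Scheme.IdealSheafData.le_of_iSup_eq_top (fun p : AffPair f => p.1.1) (iSup_affPair f)
    (fun p => H p.1.1 p.1.2 p.2)

/-- Inverse image of ideal sheaves commutes with products. -/
theorem comap_mul (f : X ⟶ Y) (K₁ K₂ : Y.IdealSheafData) :
    (K₁ * K₂).comap f = K₁.comap f * K₂.comap f := by
  apply ext_of_affPair f
  intro U V e
  rw [ideal_comap f _ U V e, Scheme.IdealSheafData.ideal_mul, Pi.mul_apply,
    Scheme.IdealSheafData.ideal_mul, Pi.mul_apply, ideal_comap f _ U V e, ideal_comap f _ U V e,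
    Ideal.map_mul]

/-- Inverse image of ideal sheaves commutes with powers. -/
theorem comap_pow (f : X ⟶ Y) (K : Y.IdealSheafData) (n : ℕ) :
    (K ^ n).comap f = K.comap f ^ n := by
  induction n with
  | zero =>
    rw [pow_zero, pow_zero, Scheme.IdealSheafData.one_eq_top, Scheme.IdealSheafData.comap_top]
    rfl
  | succ n ih => rw [pow_succ, pow_succ, comap_mul, ih]

end Groth.Agent.H2.FSchAff
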