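import Groth.Prelude.Def_FSch3
import Groth.Agent.Lib.Helper2.IdealComap
import Groth.Agent.Lib.Helper2.FSchSpf

set_option autoImplicit false
universe u

open CategoryTheory CategoryTheory.Limits AlgebraicGeometry

namespace Groth.Agent.H2.FSchCompl

open Groth.Agent.H2.FSchAff

theorem isPullback_completionMap {X Y : Scheme.{u}} (f : X ⟶ Y) (𝓚 : Y.IdealSheafData)
    (h : FSch.PowCompat f (𝓚.comap f) 𝓚) (n : ℕ) :
    IsPullback (FSch.completionToX X (𝓚.comap f) n)
      ((FSch.completionMap f (𝓚.comap f) 𝓚 h : FSch.Hom _ _).app n) f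
      (FSch.completionToX Y 𝓚 n) := by
  change IsPullback ((𝓚.comap f ^ (n + 1)).subschemeι) _ f ((𝓚 ^ (n + 1)).subschemeι)
  apply isPullback_of_isClosedImmersion
  · exact (Scheme.IdealSheafData.subschemeMap_subschemeι _ _ _
      (Scheme.IdealSheafData.le_map_iff_comap_le.mpr (h n))).symm
  · rw [Scheme.IdealSheafData.ker_subschemeι, Scheme.IdealSheafData.ker_subschemeι, comap_pow]

theorem completionAlong_ι_toX (X : Scheme.{u}) (𝓘 : X.IdealSheafData) (n : ℕ) :
    (FSch.completionAlong X 𝓘).ι n ≫ FSch.completionToX X 𝓘 (n + 1) = FSch.completionToX X 𝓘 n :=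
  Scheme.IdealSheafData.inclusion_subschemeι _

theorem isAdicHom_completionMap {X Y : Scheme.{u}} (f : X ⟶ Y) (𝓚 : Y.IdealSheafData)
    (h : FSch.PowCompat f (𝓚.comap f) 𝓚) :
    FSch.IsAdicHom (FSch.completionMap f (𝓚.comap f) 𝓚 h) := by
  intro n
  have h1 := isPullback_completionMap f 𝓚 h n
  have h2 := isPullback_completionMap f 𝓚 h (n + 1)
  rw [← completionAlong_ι_toX X (𝓚.comap f) n, ← completionAlong_ι_toX Y 𝓚 n] at h1
  exact IsPullback.of_right h1 ((FSch.completionMap f (𝓚.comap f) 𝓚 h : FSch.Hom _ _).comm n).symm h2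

end Groth.Agent.H2.FSchCompl

namespace Groth.Agent.H2.FSchCompl

open Groth.Agent.H2.FSchAff

/-- A square of systems that is cartesian at every level is cartesian. -/
theorem isPullback_of_levelwise {𝔓 𝔛 𝔜 𝔖 : FSch.Sys.{u}} (p : 𝔓 ⟶ 𝔛) (q : 𝔓 ⟶ 𝔜) (f : 𝔛 ⟶ 𝔖)
    (g : 𝔜 ⟶ 𝔖)
    (H : ∀ n, IsPullback ((p : FSch.Hom _ _).app n) ((q : FSch.Hom _ _).app n)
      ((f : FSch.Hom _ _).app n) ((g : FSch.Hom _ _).app n)) :
    IsPullback p q f g := by
  have hcond : ∀ (s : Limits.PullbackCone f g) (n : ℕ),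
      (s.fst : FSch.Hom _ _).app n ≫ (f : FSch.Hom _ _).app n =
        (s.snd : FSch.Hom _ _).app n ≫ (g : FSch.Hom _ _).app n := by
    intro s n
    have := congrArg (fun φ : FSch.Hom s.pt 𝔖 => φ.app n) s.condition
    simpa using this
  refine ⟨⟨?_⟩, ⟨Limits.PullbackCone.IsLimit.mk _ (fun s => ?_) ?_ ?_ ?_⟩⟩
  · apply FSch.Hom.ext
    funext n
    exact (H n).w
  · refine ⟨fun n => (H n).lift _ _ (hcond s n), fun n => ?_⟩
    apply (H (n + 1)).hom_ext
    · rw [Category.assoc, Category.assoc, IsPullback.lift_fst, ← (p : FSch.Hom _ _).comm n,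
        IsPullback.lift_fst_assoc]
      exact (s.fst : FSch.Hom _ _).comm n
    · rw [Category.assoc, Category.assoc, IsPullback.lift_snd, ← (q : FSch.Hom _ _).comm n,
        IsPullback.lift_snd_assoc]
      exact (s.snd : FSch.Hom _ _).comm n
  · intro s
    apply FSch.Hom.ext
    funext n
    exact (H n).lift_fst _ _ _
  · intro s
    apply FSch.Hom.ext
    funext n
    exact (H n).lift_snd _ _ _
  · intro s m h1 h2
    apply FSch.Hom.ext
    funext n
    apply (H n).hom_ext
    · have := congrArg (fun φ : FSch.Hom s.pt 𝔛 => φ.app n) h1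
      simp only [FSch.comp_app] at this
      exact this.trans ((H n).lift_fst _ _ _).symm
    · have := congrArg (fun φ : FSch.Hom s.pt 𝔜 => φ.app n) h2
      simp only [FSch.comp_app] at this
      exact this.trans ((H n).lift_snd _ _ _).symm

theorem completionMap_toX {X Y : Scheme.{u}} (f : X ⟶ Y) (𝓘 : X.IdealSheafData)
    (𝓚 : Y.IdealSheafData) (h : FSch.PowCompat f 𝓘 𝓚) (n : ℕ) :
    (FSch.completionMap f 𝓘 𝓚 h : FSch.Hom _ _).app n ≫ FSch.completionToX Y 𝓚 n =
      FSch.completionToX X 𝓘 n ≫ f :=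
  Scheme.IdealSheafData.subschemeMap_subschemeι _ _ _
    (Scheme.IdealSheafData.le_map_iff_comap_le.mpr (h n))

theorem isPullback_completion_fibre {X Y S : Scheme.{u}} (g : X ⟶ S) (h : Y ⟶ S)
    (𝓡 : X.IdealSheafData) (𝓙 : S.IdealSheafData)
    (hg : FSch.PowCompat g 𝓡 𝓙) (hh : FSch.PowCompat h (𝓙.comap h) 𝓙)
    (hp : FSch.PowCompat (pullback.fst g h) (𝓡.comap (pullback.fst g h)) 𝓡)
    (hq : FSch.PowCompat (pullback.snd g h) (𝓡.comap (pullback.fst g h)) (𝓙.comap h)) :
    IsPullback (FSch.completionMap (pullback.fst g h) (𝓡.comap (pullback.fst g h)) 𝓡 hp)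
      (FSch.completionMap (pullback.snd g h) (𝓡.comap (pullback.fst g h)) (𝓙.comap h) hq)
      (FSch.completionMap g 𝓡 𝓙 hg) (FSch.completionMap h (𝓙.comap h) 𝓙 hh) := by
  apply isPullback_of_levelwise
  intro n
  have hA := isPullback_completionMap (pullback.fst g h) 𝓡 hp n
  have hB : IsPullback (pullback.snd g h) (pullback.fst g h) h g :=
    (IsPullback.of_hasPullback g h).flip
  have hC := isPullback_completionMap h 𝓙 hh n
  have hAB := hA.paste_horiz hB
  rw [← completionMap_toX (pullback.snd g h) _ _ hq n, ← completionMap_toX g _ _ hg n] at hAB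
  refine (IsPullback.of_right hAB ?_ hC).flip
  have : Mono (FSch.completionToX S 𝓙 n) :=
    inferInstanceAs (Mono ((𝓙 ^ (n + 1)).subschemeι))
  rw [← cancel_mono (FSch.completionToX S 𝓙 n)]
  rw [Category.assoc, Category.assoc, completionMap_toX, completionMap_toX,
    ← Category.assoc, ← Category.assoc, completionMap_toX, completionMap_toX,
    Category.assoc, Category.assoc, pullback.condition]

end Groth.Agent.H2.FSchCompl

namespace Groth.Agent.H2.FSchCompl

open Groth.Agent.H2.FSchAff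

/-- The kernel of the inclusion of closed subschemes `V(J) ⟶ V(I)` is the inverse image of `J`. -/
theorem ker_inclusion {X : Scheme.{u}} {I J : X.IdealSheafData} (h : I ≤ J) :
    (Scheme.IdealSheafData.inclusion h).ker = J.comap I.subschemeι := by
  have hp : IsPullback (Scheme.IdealSheafData.inclusion h) (𝟙 J.subscheme) I.subschemeι
      J.subschemeι :=
    IsPullback.of_vert_isIso_mono ⟨by rw [Scheme.IdealSheafData.inclusion_subschemeι,
      Category.id_comp]⟩
  have := comap_ker_of_isPullback _ _ _ _ hp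
  rw [Scheme.IdealSheafData.ker_subschemeι] at this
  exact this.symm

theorem inclusion_surjective {X : Scheme.{u}} {I J : X.IdealSheafData} (h : I ≤ J)
    (hs : I.support = J.support) :
    Function.Surjective (Scheme.IdealSheafData.inclusion h).base := by
  intro y
  have hy : I.subschemeι y ∈ Set.range J.subschemeι := by
    rw [Scheme.IdealSheafData.range_subschemeι, ← hs, ← Scheme.IdealSheafData.range_subschemeι]
    exact ⟨y, rfl⟩
  obtain ⟨x, hx⟩ := hy
  refine ⟨x, ?_⟩
  apply I.subschemeι.isEmbedding.injective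
  rw [← hx, ← Scheme.IdealSheafData.inclusion_subschemeι h]
  rfl

theorem pow_succ_le_one {X : Scheme.{u}} (𝓘 : X.IdealSheafData) (m : ℕ) :
    𝓘 ^ (m + 1) ≤ 𝓘 ^ (0 + 1) :=
  pow_le_pow_of_le_one bot_le le_top (Nat.succ_le_succ (Nat.zero_le m))

theorem completionAlong_toX (X : Scheme.{u}) (𝓘 : X.IdealSheafData) (m : ℕ) :
    (FSch.completionAlong X 𝓘).toX m =
      Scheme.IdealSheafData.inclusion (pow_succ_le_one 𝓘 m) := by
  induction m with
  | zero =>
    change 𝟙 _ = _
    exact (Scheme.IdealSheafData.inclusion_id _).symm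
  | succ m ih =>
    change (FSch.completionAlong X 𝓘).toX m ≫ (FSch.completionAlong X 𝓘).ι m = _
    rw [ih]
    exact Scheme.IdealSheafData.inclusion_comp _ _

theorem completionAlong_isFormal (X : Scheme.{u}) (𝓘 : X.IdealSheafData) :
    (FSch.completionAlong X 𝓘).IsFormal := by
  intro n
  refine ⟨?_, ?_⟩
  · change IsClosedImmersion (Scheme.IdealSheafData.inclusion _)
    infer_instance
  · exact inclusion_surjective _ rfl

theorem completionAlong_isAdic (X : Scheme.{u}) (𝓘 : X.IdealSheafData) :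
    (FSch.completionAlong X 𝓘).IsAdic := by
  intro n
  have h1 : ((FSch.completionAlong X 𝓘).ι n).ker =
      (𝓘 ^ (n + 1)).comap (𝓘 ^ (n + 2)).subschemeι :=
    ker_inclusion (FSch.pow_succ_le X 𝓘 n)
  have h2 : ((FSch.completionAlong X 𝓘).toX (n + 1)).ker =
      (𝓘 ^ (0 + 1)).comap (𝓘 ^ (n + 2)).subschemeι := by
    rw [completionAlong_toX]
    exact ker_inclusion (pow_succ_le_one 𝓘 (n + 1))
  have key : (𝓘 ^ (n + 1)).comap (𝓘 ^ (n + 2)).subschemeι =
      ((𝓘 ^ (0 + 1)).comap (𝓘 ^ (n + 2)).subschemeι) ^ (n + 1) := by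
    rw [comap_pow, comap_pow, ← pow_mul]
    simp
  exact h1.trans (key.trans (congrArg (· ^ (n + 1)) h2.symm))

theorem completionAlong_isLocNoethFormal (X : Scheme.{u}) [IsLocallyNoetherian X]
    (𝓘 : X.IdealSheafData) : (FSch.completionAlong X 𝓘).IsLocNoethFormal := by
  refine ⟨completionAlong_isFormal X 𝓘, completionAlong_isAdic X 𝓘, fun n => ?_⟩
  have : IsLocallyNoetherian (𝓘 ^ (n + 1)).subscheme :=
    LocallyOfFiniteType.isLocallyNoetherian ((𝓘 ^ (n + 1)).subschemeι)
  exact this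

end Groth.Agent.H2.FSchCompl
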