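import Groth.Prelude.Def_EGA4b
import Mathlib.RingTheory.Localization.LocalizationLocalization
import Mathlib.RingTheory.Ideal.Height
import Mathlib.RingTheory.Ideal.MinimalPrime.Noetherian

/-! The `(R_n)` locus. -/

universe u

namespace Groth.Agent.H2

theorem hasRkAt_iff {A : Type u} [CommRing A] (n : ℕ) (p : Ideal A) [p.IsPrime] :
    EGA4.HasRkAt n A p ↔ ∀ (q : Ideal A) [q.IsPrime], q ≤ p → q.height ≤ n →
      IsRegularLocalRing (Localization.AtPrime q) := by
  constructor
  · intro h q _ hqp hq
    have hP : (q.map (algebraMap A (Localization.AtPrime p))).IsPrime :=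
      Ideal.isPrime_map_of_isLocalizationAtPrime p hqp
    have hu : (q.map (algebraMap A (Localization.AtPrime p))).under A = q :=
      Ideal.under_map_of_isLocalizationAtPrime p hqp
    have hht : (q.map (algebraMap A (Localization.AtPrime p))).height = q.height := by
      rw [← IsLocalization.height_under p.primeCompl, hu]
    have hreg := h (q.map (algebraMap A (Localization.AtPrime p))) (by rw [hht]; exact hq)
    let e := IsLocalization.localizationLocalizationAtPrimeIsoLocalization p.primeCompl
      (q.map (algebraMap A (Localization.AtPrime p)))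
    have hreg' := IsRegularLocalRing.of_ringEquiv e.symm.toRingEquiv
    have hu' : Ideal.comap (algebraMap A (Localization p.primeCompl))
        (q.map (algebraMap A (Localization.AtPrime p))) = q := hu
    have key : ∀ (q' : Ideal A) (hq' : q'.IsPrime) (_ : q' = q),
        @IsRegularLocalRing (@Localization.AtPrime A _ q' hq') _ →
          IsRegularLocalRing (Localization.AtPrime q) := by
      intro q' hq' hqq h
      subst hqq
      exact h
    exact key _ _ hu' hreg'
  · intro h P _ hP
    have hht : (P.under A).height = P.height := IsLocalization.height_under p.primeCompl P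
    have hle : P.under A ≤ p := by
      intro x hx
      by_contra hxp
      have hunit : IsUnit (algebraMap A (Localization.AtPrime p) x) :=
        IsLocalization.map_units (Localization.AtPrime p) (⟨x, hxp⟩ : p.primeCompl)
      exact ‹P.IsPrime›.ne_top (Ideal.eq_top_of_isUnit_mem _ hx hunit)
    have hreg := h (P.under A) hle (by rw [hht]; exact hP)
    let e := IsLocalization.localizationLocalizationAtPrimeIsoLocalization p.primeCompl P
    exact IsRegularLocalRing.of_ringEquiv e.toRingEquiv

open PrimeSpectrum in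
theorem isOpen_hasRkAt_of_finite {A : Type u} [CommRing A] (n : ℕ)
    (T : Set (Ideal A)) (hT : T.Finite)
    (h1 : ∀ q ∈ T, ∃ _ : q.IsPrime, q.height ≤ n ∧ ¬ IsRegularLocalRing (Localization.AtPrime q))
    (h2 : ∀ (q : Ideal A) [q.IsPrime], q.height ≤ n →
      ¬ IsRegularLocalRing (Localization.AtPrime q) → ∃ q' ∈ T, q' ≤ q) :
    IsOpen {p : PrimeSpectrum A | EGA4.HasRkAt n A p.asIdeal} := by
  have : {p : PrimeSpectrum A | EGA4.HasRkAt n A p.asIdeal}ᶜ =
      ⋃ q ∈ T, zeroLocus (q : Set A) := by
    ext p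
    simp only [Set.mem_compl_iff, Set.mem_ofPred_eq, Set.mem_iUnion, mem_zeroLocus,
      SetLike.coe_subset_coe, exists_prop]
    rw [hasRkAt_iff]
    push Not
    constructor
    · rintro ⟨q, hq, hqp, hqn, hreg⟩
      obtain ⟨q', hq'T, hq'q⟩ := h2 q hqn hreg
      exact ⟨q', hq'T, hq'q.trans hqp⟩
    · rintro ⟨q, hqT, hqp⟩
      obtain ⟨hq, hqn, hreg⟩ := h1 q hqT
      exact ⟨q, hq, hqp, hqn, hreg⟩
  rw [← isClosed_compl_iff, this]
  exact hT.isClosed_biUnion (fun q _ => isClosed_zeroLocus _)

end Groth.Agent.H2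

namespace Groth.Agent.H2

open PrimeSpectrum in
theorem isOpen_hasRkAt_of_isOpen_regLocus (A : Type u) [CommRing A] [IsNoetherianRing A]
    (h : IsOpen (EGA4.regLocus A)) (n : ℕ) :
    IsOpen {p : PrimeSpectrum A | EGA4.HasRkAt n A p.asIdeal} := by
  set Z : Set (PrimeSpectrum A) := (EGA4.regLocus A)ᶜ with hZ
  have hZc : IsClosed Z := h.isClosed_compl
  set I : Ideal A := vanishingIdeal Z with hI
  have hZI : zeroLocus (I : Set A) = Z := by
    rw [hI, zeroLocus_vanishingIdeal_eq_closure, hZc.closure_eq]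
  have hmem : ∀ (q : Ideal A) [hq : q.IsPrime],
      I ≤ q ↔ ¬ IsRegularLocalRing (Localization.AtPrime q) := by
    intro q hq
    have : (⟨q, hq⟩ : PrimeSpectrum A) ∈ zeroLocus (I : Set A) ↔ (⟨q, hq⟩ : PrimeSpectrum A) ∈ Z := by
      rw [hZI]
    rw [mem_zeroLocus, SetLike.coe_subset_coe] at this
    rw [this]
    rfl
  apply isOpen_hasRkAt_of_finite n
    ({q | ∃ _ : q.IsPrime, q.height ≤ n ∧ ¬ IsRegularLocalRing (Localization.AtPrime q)} ∩
      I.minimalPrimes)
  · exact (Ideal.finite_minimalPrimes_of_isNoetherianRing A I).subset Set.inter_subset_right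
  · rintro q ⟨hq, -⟩
    exact hq
  · intro q _ hqn hreg
    have hIq : I ≤ q := (hmem q).mpr hreg
    obtain ⟨q', hq'min, hq'q⟩ := Ideal.exists_minimalPrimes_le hIq
    have hq'prime : q'.IsPrime := hq'min.1.1
    refine ⟨q', ⟨⟨hq'prime, (Ideal.height_mono hq'q).trans hqn, ?_⟩, hq'min⟩, hq'q⟩
    exact (hmem q').mp hq'min.1.2

open PrimeSpectrum in
theorem isOpen_hasRkAt_zero (A : Type u) [CommRing A] [IsNoetherianRing A] :
    IsOpen {p : PrimeSpectrum A | EGA4.HasRkAt 0 A p.asIdeal} := by
  apply isOpen_hasRkAt_of_finite 0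
    ({q | ∃ _ : q.IsPrime, q.height ≤ (0 : ℕ) ∧
      ¬ IsRegularLocalRing (Localization.AtPrime q)} ∩ minimalPrimes A)
  · exact (minimalPrimes.finite_of_isNoetherianRing A).subset Set.inter_subset_right
  · rintro q ⟨hq, -⟩
    exact hq
  · intro q _ hqn hreg
    refine ⟨q, ⟨⟨inferInstance, hqn, hreg⟩, ?_⟩, le_rfl⟩
    rw [← Ideal.height_eq_zero_iff]
    simpa using hqn

end Groth.Agent.H2
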