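import Mathlib
import Groth.Prelude.Def_CInt
import Groth.Prelude.Def_CAlg
import Groth.Agent.Lib.Helper1.FibreStalk
import Groth.Agent.Lib.Helper6.SemiLin
import Groth.Agent.Lib.Helper6.CMKit
import Groth.Agent.S2062

/-! Depth of the local rings of a flat morphism in terms of base and fibre. -/

universe u
set_option linter.style.haveILetI false

open AlgebraicGeometry CategoryTheory IsLocalRing TensorProduct

namespace Groth.Agent.H2.FibDepth

/-- `depth B = depth A + depth (B/𝔪_A B)` for a flat local homomorphism, the closed fibre being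
given up to isomorphism -/
theorem depth_eq_add (A B F : Type u) [CommRing A] [CommRing B] [CommRing F]
    [IsNoetherianRing A] [IsNoetherianRing B] [IsLocalRing A] [IsLocalRing B] [IsLocalRing F]
    [Algebra A B] [IsLocalHom (algebraMap A B)] [Module.Flat A B]
    (e : (B ⧸ (maximalIdeal A).map (algebraMap A B)) ≃+* F) :
    LocCoh.depth B B = LocCoh.depth A A + LocCoh.depth F F ∧
      ringKrullDim F = ringKrullDim (B ⧸ (maximalIdeal A).map (algebraMap A B)) := by
  refine ⟨?_, (ringKrullDim_eq_of_ringEquiv e).symm⟩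
  have h1 := Groth.Agent.S2062.result (R := A) (S := B) (M := A) (N := B)
  have h2 : LocCoh.depth B (B ⊗[A] A) = LocCoh.depth B B :=
    Groth.Agent.H6.CM.idealDepth_eq_of_linearEquiv _ (TensorProduct.AlgebraTensorModule.rid A B B)
  rw [h2] at h1
  rw [h1]
  congr 1
  set I := (maximalIdeal A).map (algebraMap A B) with hI
  have hJeq : (I • ⊤ : Submodule B B) = I := by rw [smul_eq_mul, Ideal.mul_top]
  have h3 : LocCoh.depth B (B ⧸ (I • ⊤ : Submodule B B)) = LocCoh.depth B (B ⧸ I) :=
    Groth.Agent.H6.CM.idealDepth_eq_of_linearEquiv _ (Submodule.quotEquivOfEq _ _ hJeq)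
  rw [h3]
  haveI : IsLocalRing (B ⧸ I) := e.symm.isLocalRing
  haveI : IsNoetherianRing F := isNoetherianRing_of_ringEquiv (B ⧸ I) e
  haveI : IsLocalHom (algebraMap B (B ⧸ I)) :=
    IsLocalHom.of_surjective _ Ideal.Quotient.mk_surjective
  haveI : Module.Finite B (B ⧸ I) :=
    Module.Finite.of_surjective (Algebra.linearMap B (B ⧸ I)) Ideal.Quotient.mk_surjective
  rw [Groth.Agent.H6.Depth.depth_eq_of_isLocalHom_of_finite (A := B) (B := B ⧸ I) (B ⧸ I)]
  exact (Groth.Agent.H6.SemiLin.depth_and_dim_eq (M₁ := B ⧸ I) (M₂ := F) e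
    e.toAddEquiv (fun r m => map_mul e r m)).1

/-- `depth O_{X,y} = depth O_{S,f(y)} + depth O_{X_s,y}` for a flat morphism of locally Noetherian
schemes -/
theorem depth_stalk_eq {X S : Scheme.{u}} [IsLocallyNoetherian X] [IsLocallyNoetherian S]
    (f : X ⟶ S) [Flat f] (y : X) :
    LocCoh.depth (X.presheaf.stalk y) (X.presheaf.stalk y) =
      LocCoh.depth (S.presheaf.stalk (f y)) (S.presheaf.stalk (f y)) +
        LocCoh.depth (CInt.fiberStalk f y) (CInt.fiberStalk f y) := by
  letI : Algebra (S.presheaf.stalk (f y)) (X.presheaf.stalk y) := (f.stalkMap y).hom.toAlgebra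
  haveI : Module.Flat (S.presheaf.stalk (f y)) (X.presheaf.stalk y) := Flat.stalkMap f y
  haveI : IsLocalHom (algebraMap (S.presheaf.stalk (f y)) (X.presheaf.stalk y)) :=
    inferInstanceAs (IsLocalHom (f.stalkMap y).hom)
  exact (depth_eq_add (S.presheaf.stalk (f y)) (X.presheaf.stalk y) (CInt.fiberStalk f y)
    (Groth.Agent.H1.FibreStalk.fiberStalkEquiv f y)).1

end Groth.Agent.H2.FibDepth
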