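import Mathlib
import Groth.Prelude.Def_CAlg
import Groth.Agent.Lib.Helper1.Miracle
import Groth.Agent.Lib.Helper1.CritFib3

/-! A finite algebra over a flat family of regular local rings which is flat over the base, with
Cohen–Macaulay closed fibre of the right dimension, is flat. -/

universe u
set_option linter.style.haveILetI false

open IsLocalRing TensorProduct

namespace Groth.Agent.H2.FinFlat

/-- a nonzero finite algebra over a local ring is local over it -/
theorem isLocalHom_of_finite (A B : Type*) [CommRing A] [CommRing B] [IsLocalRing A]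
    [Nontrivial B] [Algebra A B] [Module.Finite A B] : IsLocalHom (algebraMap A B) := by
  refine ⟨fun a ha => ?_⟩
  by_contra hnu
  have ham : a ∈ maximalIdeal A := (mem_maximalIdeal a).mpr hnu
  have hne : (maximalIdeal A) • (⊤ : Submodule A B) ≠ ⊤ := by
    intro htop
    have h1 : (⊤ : Submodule A B) = ⊥ :=
      Submodule.eq_bot_of_le_smul_of_le_jacobson_bot _ _ Module.Finite.fg_top htop.ge
        (IsLocalRing.maximalIdeal_le_jacobson _)
    exact top_ne_bot h1
  apply hne
  rw [eq_top_iff]
  intro b _
  obtain ⟨u, hu⟩ := ha
  have hb : b = a • ((↑u⁻¹ : B) * b) := by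
    rw [Algebra.smul_def, ← mul_assoc, ← hu, Units.mul_inv, one_mul]
  rw [hb]
  exact Submodule.smul_mem_smul ham Submodule.mem_top

/-- the closed fibre of a nonzero finite algebra over a local ring has dimension zero -/
theorem ringKrullDim_quotient_map_maximalIdeal (A B : Type*) [CommRing A] [CommRing B]
    [IsLocalRing A] [IsLocalRing B] [Algebra A B] [Module.Finite A B]
    [IsLocalHom (algebraMap A B)] :
    ringKrullDim (B ⧸ (maximalIdeal A).map (algebraMap A B)) = 0 := by
  letI := Ideal.Quotient.field (maximalIdeal A)
  haveI : Module.Finite A (B ⧸ (maximalIdeal A).map (algebraMap A B)) :=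
    Module.Finite.of_surjective (Algebra.linearMap B _ |>.restrictScalars A)
      Ideal.Quotient.mk_surjective
  haveI : Module.Finite (A ⧸ maximalIdeal A) (B ⧸ (maximalIdeal A).map (algebraMap A B)) :=
    Module.Finite.of_restrictScalars_finite A _ _
  haveI : IsArtinianRing (B ⧸ (maximalIdeal A).map (algebraMap A B)) :=
    IsArtinianRing.of_finite (A ⧸ maximalIdeal A) _
  haveI : Nontrivial (B ⧸ (maximalIdeal A).map (algebraMap A B)) :=
    Ideal.Quotient.nontrivial_iff.mpr (fun h => by
      have hle : (maximalIdeal A).map (algebraMap A B) ≤ maximalIdeal B :=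
        IsLocalRing.map_maximalIdeal_le (algebraMap A B)
      rw [h] at hle
      exact (maximalIdeal.isMaximal B).ne_top (top_le_iff.mp hle))
  apply le_antisymm
  · have : Ring.KrullDimLE 0 (B ⧸ (maximalIdeal A).map (algebraMap A B)) := inferInstance
    exact Ring.krullDimLE_iff.mp this
  · exact ringKrullDim_nonneg_of_nontrivial

section Main

variable (R R' S : Type u) [CommRing R] [CommRing R'] [CommRing S] [IsLocalRing R]
  [IsNoetherianRing R'] [IsLocalRing R'] [IsNoetherianRing S] [IsLocalRing S]
  [Algebra R R'] [Algebra R' S] [Algebra R S] [IsScalarTower R R' S] [Module.Finite R' S]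
  [Module.Flat R S]

/-- the fibrewise criterion, in the finite case, via miracle flatness on the closed fibre -/
theorem flat_of_finite_of_cm_closedFibre
    (hI : (maximalIdeal R).map (algebraMap R R') ≠ ⊤)
    (hreg : IsRegularLocalRing (R' ⧸ (maximalIdeal R).map (algebraMap R R')))
    (hCM : LocCoh.IsCohenMacaulayLocalRing
      (S ⧸ ((maximalIdeal R).map (algebraMap R R')).map (algebraMap R' S)))
    (hdim : ringKrullDim (R' ⧸ (maximalIdeal R).map (algebraMap R R')) ≤
      ringKrullDim (S ⧸ ((maximalIdeal R).map (algebraMap R R')).map (algebraMap R' S))) :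
    Module.Flat R' S := by
  set I' := (maximalIdeal R).map (algebraMap R R') with hI'
  set A := R' ⧸ I' with hA
  set B := S ⧸ I'.map (algebraMap R' S) with hB
  haveI := hreg
  haveI := hCM
  haveI : IsNoetherianRing B := inferInstance
  haveI : IsLocalRing B := inferInstance
  -- `B` is finite over `A`
  haveI : Module.Finite R' B :=
    Module.Finite.of_surjective (Algebra.linearMap S B |>.restrictScalars R')
      Ideal.Quotient.mk_surjective
  haveI : Module.Finite A B := Module.Finite.of_restrictScalars_finite R' A B
  haveI : IsLocalHom (algebraMap A B) := isLocalHom_of_finite A B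
  -- dimensions
  have h0 := ringKrullDim_quotient_map_maximalIdeal A B
  have hle : ringKrullDim B ≤ ringKrullDim A := by
    haveI : Algebra.IsIntegral A B := Algebra.IsIntegral.of_finite A B
    unfold ringKrullDim
    apply Order.krullDim_le_of_strictMono (PrimeSpectrum.comap (algebraMap A B))
    intro P Q hPQ
    rw [← PrimeSpectrum.asIdeal_lt_asIdeal] at hPQ ⊢
    exact Ideal.IsIntegral.comap_lt_comap hPQ
  have hdimeq : ringKrullDim B = ringKrullDim A := le_antisymm hle hdim
  have hflatAB : Module.Flat A B := by
    refine Groth.Agent.H1.Miracle.flat_of_cm (A := A) (B := B) B hCM.supportDim_eq_depth ?_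
    have hJeq : ((maximalIdeal A).map (algebraMap A B) • ⊤ : Submodule B B) =
        (maximalIdeal A).map (algebraMap A B) := by rw [smul_eq_mul, Ideal.mul_top]
    rw [Module.supportDim_eq_of_equiv (Submodule.quotEquivOfEq _ _ hJeq),
      Module.supportDim_quotient_eq_ringKrullDim, h0, add_zero,
      Module.supportDim_self_eq_ringKrullDim, hdimeq]
  haveI : Module.Flat A (A ⊗[R'] S) :=
    Module.Flat.of_linearEquiv
      (Algebra.TensorProduct.quotIdealMapEquivQuotTensor S I').symm.toLinearEquiv
  haveI : Module.FinitePresentation R' S := Module.finitePresentation_of_finite R' S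
  exact Groth.Agent.H1.CritFib.flat_of_flat_fibre_self (A := R) (B := R') (maximalIdeal R) hI (M := S)

end Main

end Groth.Agent.H2.FinFlat
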