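import Mathlib
import Groth.Agent.Lib.Helper1.CMFlat

/-! Cohen–Macaulayness along a flat homomorphism with Cohen–Macaulay fibre. -/

universe u
set_option linter.style.haveILetI false

namespace Groth.Agent.H2.CMFib

variable {R S : Type u} [CommRing R] [CommRing S] [IsNoetherianRing R] [IsNoetherianRing S]
  [Algebra R S] [Module.Flat R S]

/-- depth and dimension of `S_Q` in terms of `R_P` and the fibre -/
theorem depth_and_dim (Q : Ideal S) [Q.IsPrime] :
    LocCoh.depth (Localization.AtPrime Q) (Localization.AtPrime Q) =
      LocCoh.depth (Localization.AtPrime (Q.comap (algebraMap R S)))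
          (Localization.AtPrime (Q.comap (algebraMap R S))) +
        LocCoh.depth (Localization.AtPrime Q) (EGA4.FibLocRing R S Q) ∧
    Module.supportDim (Localization.AtPrime Q) (Localization.AtPrime Q) =
      Module.supportDim (Localization.AtPrime (Q.comap (algebraMap R S)))
          (Localization.AtPrime (Q.comap (algebraMap R S))) +
        Module.supportDim (Localization.AtPrime Q) (EGA4.FibLocRing R S Q) := by
  set P := Q.comap (algebraMap R S) with hP
  obtain ⟨h3, h4⟩ := Groth.Agent.H6.FlatLoc.depth_and_dim_localized_tensor (A := R)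
    (B := S) R S Q
  obtain ⟨h5, h6⟩ := Groth.Agent.H6.FiberDict.depth_and_dim_self (A := R) (B := S) Q
  haveI : Module.Finite S (TensorProduct R S R) :=
    Groth.Agent.H1.finite_tensor_of_finite R
  obtain ⟨h7, h8⟩ := Groth.Agent.H6.SkLoc.depth_and_dim_congr
    (TensorProduct R S R)
    (TensorProduct.AlgebraTensorModule.rid R S S) Q
  have e1 := Groth.Agent.H6.FiberDict.locEquiv S Q
  have e2 := Groth.Agent.H6.FiberDict.locEquiv R P
  have hd1 : LocCoh.depth (Localization.AtPrime Q) (LocalizedModule Q.primeCompl S) =
      LocCoh.depth (Localization.AtPrime Q) (Localization.AtPrime Q) :=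
    Groth.Agent.H6.HomKer.idealDepth_congr _ e1
  have hd2 : LocCoh.depth (Localization.AtPrime P) (LocalizedModule P.primeCompl R) =
      LocCoh.depth (Localization.AtPrime P) (Localization.AtPrime P) :=
    Groth.Agent.H6.HomKer.idealDepth_congr _ e2
  refine ⟨?_, ?_⟩
  · rw [← hd1, ← hd2, ← h7, h3, h5]
  · rw [← Module.supportDim_eq_of_equiv e1, ← Module.supportDim_eq_of_equiv e2, ← h8, h4, h6]

end Groth.Agent.H2.CMFib
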