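import Mathlib
import Groth.Agent.Lib.Helper2.CMFib1
import Groth.Agent.Lib.Helper6.FiberDict

/-! A flat homomorphism of Cohen–Macaulay rings has Cohen–Macaulay fibres. -/

universe u
set_option linter.style.haveILetI false

namespace Groth.Agent.H2.CMFib

variable {R S : Type u} [CommRing R] [CommRing S] [IsNoetherianRing R] [IsNoetherianRing S]
  [Algebra R S] [Module.Flat R S]

theorem fibLocRing_cm_of_cm (Q : Ideal S) [Q.IsPrime]
    (hS : LocCoh.IsCohenMacaulayLocalRing (Localization.AtPrime Q))
    (hR : LocCoh.IsCohenMacaulayLocalRing (Localization.AtPrime (Q.comap (algebraMap R S)))) :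
    Module.supportDim (Localization.AtPrime Q) (EGA4.FibLocRing R S Q) =
      ((LocCoh.depth (Localization.AtPrime Q) (EGA4.FibLocRing R S Q) : ℕ∞) : WithBot ℕ∞) := by
  set P := Q.comap (algebraMap R S) with hP
  haveI : IsNoetherianRing (Localization.AtPrime P) :=
    IsLocalization.isNoetherianRing P.primeCompl _ inferInstance
  haveI : IsNoetherianRing (Localization.AtPrime Q) :=
    IsLocalization.isNoetherianRing Q.primeCompl _ inferInstance
  obtain ⟨E1, E2⟩ := depth_and_dim (R := R) Q
  set T := EGA4.FibLocRing R S Q with hT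
  haveI : Module.Finite (Localization.AtPrime Q) T :=
    Module.Finite.of_surjective (Algebra.linearMap _ _) Ideal.Quotient.mk_surjective
  obtain ⟨nb, hnb⟩ := Groth.Agent.H6.LC.exists_supportDim_eq (R := Localization.AtPrime P)
    (Localization.AtPrime P)
  obtain ⟨nf, hnf⟩ := Groth.Agent.H6.LC.exists_supportDim_eq (R := Localization.AtPrime Q) T
  obtain ⟨df, hdf, -⟩ := Groth.Agent.H6.Depth.exists_depth_eq (R := Localization.AtPrime Q) T
  have hda : LocCoh.depth (Localization.AtPrime P) (Localization.AtPrime P) = nb := by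
    have h1 := hR.supportDim_eq_depth
    rw [hnb] at h1
    have : ((nb : ℕ∞) : WithBot ℕ∞) = ((LocCoh.depth (Localization.AtPrime P)
        (Localization.AtPrime P) : ℕ∞) : WithBot ℕ∞) := h1
    exact (WithBot.coe_inj.mp this).symm
  have h2 := hS.supportDim_eq_depth
  rw [E1, E2, hnb, hnf, hda, hdf] at h2
  rw [hnf, hdf]
  have h1 : ((nb + nf : ℕ) : WithBot ℕ∞) = ((nb + df : ℕ) : WithBot ℕ∞) := by
    exact_mod_cast h2
  have h3 : nb + nf = nb + df := by exact_mod_cast h1
  have h4 : nf = df := by omega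
  rw [h4]
  rfl

/-- a flat homomorphism of Cohen–Macaulay rings has Cohen–Macaulay fibres -/
theorem cm_fibres_of_cm [hR : LocCoh.IsCohenMacaulayRing R] [hS : LocCoh.IsCohenMacaulayRing S]
    (p : Ideal R) [p.IsPrime] : LocCoh.IsCohenMacaulayRing (p.Fiber S) := by
  rw [Groth.Agent.H6.FiberDict.cm_fiber_iff]
  intro r hr hrp
  exact fibLocRing_cm_of_cm r (hS.isCohenMacaulayLocalRing_localization r)
    (hR.isCohenMacaulayLocalRing_localization _)

end Groth.Agent.H2.CMFib
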