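import Mathlib
import Groth.Prelude.Def_Found
import Groth.Agent.S0581
import Groth.Agent.S0603
import Groth.Agent.Lib.Helper5.Catenary
import Groth.Agent.Lib.Helper5.FSm.PSReg
import Groth.Agent.Lib.Helper6.CompleteNoeth
import Groth.Agent.Lib.Helper1.CMFlat
import Groth.Agent.Lib.Helper1.RegLoc

/-! A complete Noetherian local ring is catenary. -/

universe u
set_option linter.style.haveILetI false

namespace Groth.Agent.H2.ComplCat

open IsLocalRing

theorem isRegularRing_of_isRegularLocalRing (R : Type u) [CommRing R] [IsRegularLocalRing R] :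
    IsRegularRing R where
  isRegularLocalRing_localization p _ := Groth.Agent.H1.Reg.isRegularLocalRing_localization R p

/-- a complete Noetherian local ring is catenary -/
theorem isCatenary_of_complete_local (R : Type u) [CommRing R] [IsLocalRing R]
    [IsNoetherianRing R] [IsAdicComplete (maximalIdeal R) R] : CAlg.IsCatenary R := by
  rw [Groth.Agent.H5.isCatenary_iff_forall_quotient_minimalPrimes]
  intro p hp
  haveI := hp.1.1
  haveI : IsLocalRing (R ⧸ p) :=
    IsLocalRing.of_surjective' (Ideal.Quotient.mk p) Ideal.Quotient.mk_surjective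
  haveI : IsAdicComplete (maximalIdeal (R ⧸ p)) (R ⧸ p) :=
    Groth.Agent.H6.isAdicComplete_quotient p
  obtain ⟨Λ, _, n, f, hΛ, hfinj, hffin, -⟩ := Groth.Agent.S0581.result (R ⧸ p)
  letI : Algebra (MvPowerSeries (Fin n) Λ) (R ⧸ p) := f.toAlgebra
  haveI : Module.Finite (MvPowerSeries (Fin n) Λ) (R ⧸ p) := hffin
  have hreg : IsRegularLocalRing (MvPowerSeries (Fin n) Λ) := by
    rcases hΛ with hfield | hcohen
    · letI := hfield.toField
      exact (Groth.Agent.H5.FSm.isRegularLocalRing_mvPowerSeries Λ n).1
    · obtain ⟨hdom, hdvr, -, q, hq, hm⟩ := hcohen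
      haveI := hdom
      haveI := hdvr
      exact (Groth.Agent.H5.FSm.isRegularLocalRing_mvPowerSeries Λ n).1
  haveI := hreg
  haveI : IsRegularRing (MvPowerSeries (Fin n) Λ) := isRegularRing_of_isRegularLocalRing _
  haveI : LocCoh.IsCohenMacaulayRing (MvPowerSeries (Fin n) Λ) :=
    Groth.Agent.H1.CMFlat.isCohenMacaulayRing_of_isRegularRing _
  have huc := Groth.Agent.S0603.result (MvPowerSeries (Fin n) Λ)
  exact huc.2 (R ⧸ p) inferInstance

end Groth.Agent.H2.ComplCat
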