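import Mathlib
import Groth.Prelude.Def_EGA4b
import Groth.Agent.Lib.Helper6.FiberDict
import Groth.Agent.Lib.Helper6.FlatLoc
import Groth.Agent.Lib.Helper6.SemiLin

/-! Fibre local rings of compatible quotients: if `R → R'` and `S → S'` are compatible surjections
with `ker (S → S') = ker (R → R') S`, the fibre local rings of `R' → S'` are those of `R → S`. -/

universe u
set_option linter.style.haveILetI false

open IsLocalRing TensorProduct

namespace Groth.Agent.H2.FFib

section Quot

variable {R R' S S' : Type u} [CommRing R] [CommRing R'] [CommRing S] [CommRing S']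
  [Algebra R S] [Algebra R' S'] (f : R →+* R') (g : S →+* S')

/-- the fibre local ring of `R' → S'` at `t'` is the fibre local ring of `R → S` at `g⁻¹ t'` -/
theorem nonempty_fibLocRing_equiv (hf : Function.Surjective f) (hg : Function.Surjective g)
    (H : g.comp (algebraMap R S) = (algebraMap R' S').comp f)
    (hker : RingHom.ker g = (RingHom.ker f).map (algebraMap R S))
    (t' : Ideal S') [t'.IsPrime] :
    Nonempty (EGA4.FibLocRing R S (t'.comap g) ≃+* EGA4.FibLocRing R' S' t') := by
  set t := t'.comap g with ht
  set P' := t'.comap (algebraMap R' S') with hP'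
  set P := t.comap (algebraMap R S) with hP
  have hPP' : P = P'.comap f := by
    rw [hP, ht, hP', Ideal.comap_comap, Ideal.comap_comap, H]
  have hP'map : P' = P.map f := by rw [hPP', Ideal.map_comap_of_surjective f hf]
  have hkerP : (RingHom.ker f).map (algebraMap R S) ≤ P.map (algebraMap R S) := by
    apply Ideal.map_mono
    intro a ha
    rw [hPP', Ideal.mem_comap, (RingHom.mem_ker).mp ha]
    exact Ideal.zero_mem _
  -- the extension of `P'` to `S'` is the image of the extension of `P` to `S`
  have hext : P'.map (algebraMap R' S') = (P.map (algebraMap R S)).map g := by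
    rw [hP'map, Ideal.map_map, Ideal.map_map, H]
  let φ : Localization.AtPrime t →+* Localization.AtPrime t' :=
    Localization.localRingHom t t' g rfl
  have hφsurj : Function.Surjective φ :=
    (RingHom.surjectiveOnStalks_of_surjective hg).localRingHom_surjective t t' rfl
  let χ : Localization.AtPrime t →+* EGA4.FibLocRing R' S' t' :=
    (Ideal.Quotient.mk _).comp φ
  have hχsurj : Function.Surjective χ := Ideal.Quotient.mk_surjective.comp hφsurj
  have hχker : RingHom.ker χ = P.map (algebraMap R (Localization.AtPrime t)) := by
    apply le_antisymm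
    · intro x hx
      obtain ⟨s, u, rfl⟩ := IsLocalization.exists_mk'_eq t.primeCompl x
      rw [RingHom.mem_ker] at hx
      change Ideal.Quotient.mk _ (φ (IsLocalization.mk' _ s u)) = 0 at hx
      rw [Ideal.Quotient.eq_zero_iff_mem, Localization.localRingHom_mk',
        IsScalarTower.algebraMap_eq R' S' (Localization.AtPrime t'), ← Ideal.map_map,
        IsLocalization.mk'_mem_map_algebraMap_iff t'.primeCompl] at hx
      obtain ⟨v', hv', hv's⟩ := hx
      obtain ⟨v, rfl⟩ := hg v'
      have hv : v ∈ t.primeCompl := hv'
      rw [← map_mul, hext, Ideal.mem_map_iff_of_surjective g hg] at hv's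
      obtain ⟨y, hy, hyeq⟩ := hv's
      have h1 : v * s - y ∈ RingHom.ker g := by
        rw [RingHom.mem_ker, map_sub, hyeq, sub_self]
      rw [hker] at h1
      have h2 : v * s ∈ P.map (algebraMap R S) := by
        have := Ideal.add_mem _ (hkerP h1) hy
        rwa [sub_add_cancel] at this
      rw [IsScalarTower.algebraMap_eq R S (Localization.AtPrime t), ← Ideal.map_map,
        IsLocalization.mk'_mem_map_algebraMap_iff t.primeCompl]
      exact ⟨v, hv, h2⟩
    · rw [Ideal.map_le_iff_le_comap]
      intro a ha
      rw [Ideal.mem_comap, RingHom.mem_ker]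
      change Ideal.Quotient.mk _ (φ (algebraMap R (Localization.AtPrime t) a)) = 0
      rw [Ideal.Quotient.eq_zero_iff_mem, IsScalarTower.algebraMap_apply R S (Localization.AtPrime t),
        Localization.localRingHom_to_map]
      have h1 : g (algebraMap R S a) = algebraMap R' S' (f a) := by
        have := RingHom.congr_fun H a
        simpa using this
      rw [h1, ← IsScalarTower.algebraMap_apply R' S' (Localization.AtPrime t')]
      apply Ideal.mem_map_of_mem
      rw [hPP'] at ha
      exact ha
  exact ⟨(Ideal.quotEquivOfEq hχker.symm).trans (RingHom.quotientKerEquivOfSurjective hχsurj)⟩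

/-- depth and dimension of the fibre local rings agree -/
theorem depth_and_dim_fibLocRing [IsNoetherianRing S] [IsNoetherianRing S']
    (hf : Function.Surjective f) (hg : Function.Surjective g)
    (H : g.comp (algebraMap R S) = (algebraMap R' S').comp f)
    (hker : RingHom.ker g = (RingHom.ker f).map (algebraMap R S))
    (t' : Ideal S') [t'.IsPrime] :
    LocCoh.depth (Localization.AtPrime t') (EGA4.FibLocRing R' S' t') =
      LocCoh.depth (Localization.AtPrime (t'.comap g)) (EGA4.FibLocRing R S (t'.comap g)) ∧
    Module.supportDim (Localization.AtPrime t') (EGA4.FibLocRing R' S' t') =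
      Module.supportDim (Localization.AtPrime (t'.comap g))
        (EGA4.FibLocRing R S (t'.comap g)) := by
  obtain ⟨e⟩ := nonempty_fibLocRing_equiv f g hf hg H hker t'
  set t := t'.comap g with ht
  set T := EGA4.FibLocRing R S t with hT
  set T' := EGA4.FibLocRing R' S' t' with hT'
  haveI : Module.Finite (Localization.AtPrime t) T :=
    Module.Finite.of_surjective (Algebra.linearMap _ _) Ideal.Quotient.mk_surjective
  haveI : Module.Finite (Localization.AtPrime t') T' :=
    Module.Finite.of_surjective (Algebra.linearMap _ _) Ideal.Quotient.mk_surjective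
  obtain ⟨h1, h2⟩ := Groth.Agent.H6.SemiLin.depth_and_dim_eq (R₁ := T) (R₂ := T')
    (M₁ := T) (M₂ := T') e e.toAddEquiv (fun x y => map_mul e x y)
  constructor
  · rw [Groth.Agent.H6.Depth.depth_eq_of_isLocalHom_of_finite (A := Localization.AtPrime t')
      (B := T') T', ← h1]
    exact (Groth.Agent.H6.Depth.depth_eq_of_isLocalHom_of_finite (A := Localization.AtPrime t)
      (B := T) T).symm
  · rw [← Groth.Agent.H6.FlatDim.supportDim_of_surjective (B := Localization.AtPrime t')
      (C := T') Ideal.Quotient.mk_surjective T', ← h2]
    exact Groth.Agent.H6.FlatDim.supportDim_of_surjective (B := Localization.AtPrime t)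
      (C := T) Ideal.Quotient.mk_surjective T

end Quot

end Groth.Agent.H2.FFib
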