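import Mathlib

/-! Power series over a Noetherian ring: flatness, the kernel of `MvPowerSeries.map`. -/

universe u
set_option linter.style.haveILetI false

namespace Groth.Agent.H2.PSFlat

open MvPowerSeries

/-- power series in finitely many variables over a Noetherian ring are flat -/
theorem flat_mvPowerSeries (R : Type u) [CommRing R] [IsNoetherianRing R] (σ : Type*)
    [Finite σ] : Module.Flat R (MvPowerSeries σ R) := by
  haveI : Module.Flat (MvPolynomial σ R)
      (AdicCompletion (MvPolynomial.idealOfVars σ R) (MvPolynomial σ R)) := inferInstance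
  haveI : Module.Flat (MvPolynomial σ R) (MvPowerSeries σ R) :=
    Module.Flat.of_linearEquiv (MvPowerSeries.toAdicCompletionAlgEquiv σ R).toLinearEquiv
  exact Module.Flat.trans R (MvPolynomial σ R) (MvPowerSeries σ R)

variable {T R : Type u} [CommRing T] [CommRing R] (σ : Type*) (f : T →+* R)

theorem map_surjective (hf : Function.Surjective f) :
    Function.Surjective (MvPowerSeries.map (σ := σ) f) := by
  intro g
  choose c hc using hf
  refine ⟨fun n => c (coeff n g), ?_⟩
  ext n
  rw [coeff_map]
  exact hc _

/-- the kernel of `MvPowerSeries.map f` is generated by the kernel of `f`, if the latter is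
finitely generated -/
theorem ker_map (hfg : (RingHom.ker f).FG) :
    RingHom.ker (MvPowerSeries.map (σ := σ) f) = (RingHom.ker f).map (C (σ := σ) (R := T)) := by
  apply le_antisymm
  · intro g hg
    rw [RingHom.mem_ker] at hg
    obtain ⟨s, a, ha⟩ := Submodule.fg_iff_exists_fin_generating_family.mp hfg
    have hcoef : ∀ n : σ →₀ ℕ, coeff n g ∈ Submodule.span T (Set.range a) := by
      intro n
      rw [ha, RingHom.mem_ker, ← coeff_map, hg, map_zero]
    have hex : ∀ n : σ →₀ ℕ, ∃ c : Fin s → T, ∑ l, c l • a l = coeff n g := fun n =>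
      (Submodule.mem_span_range_iff_exists_fun T).mp (hcoef n)
    choose c hc using hex
    let h : Fin s → MvPowerSeries σ T := fun l n => c n l
    have hg' : g = ∑ l, C (a l) * h l := by
      ext n
      rw [map_sum, ← hc n]
      refine Finset.sum_congr rfl fun l _ => ?_
      rw [coeff_C_mul, smul_eq_mul, mul_comm]
      rfl
    rw [hg']
    refine Ideal.sum_mem _ fun l _ => Ideal.mul_mem_right _ _ (Ideal.mem_map_of_mem _ ?_)
    rw [← ha]
    exact Submodule.subset_span ⟨l, rfl⟩
  · rw [Ideal.map_le_iff_le_comap]
    intro a ha
    rw [Ideal.mem_comap, RingHom.mem_ker, map_C, (RingHom.mem_ker).mp ha, map_zero]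

end Groth.Agent.H2.PSFlat
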