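import Mathlib
import Groth.Prelude.Def_EGA4b
import Groth.Agent.Lib.Helper2.PSFlat
import Groth.Agent.Lib.Helper2.CMFib3
import Groth.Agent.Lib.Helper2.FFib1
import Groth.Agent.Lib.Helper2.ComplCat
import Groth.Agent.Lib.Helper1.CMFlat
import Groth.Agent.Lib.Helper5.FSm.PSReg
import Groth.Agent.S0580

/-! The fibres of `R → R[[Y]]` are Cohen–Macaulay for a complete Noetherian local ring `R`. -/

universe u
set_option linter.style.haveILetI false

open IsLocalRing

namespace Groth.Agent.H2.PSFib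

/-- the fibre local rings of `R → R[[Y₁, …, Yₙ]]` are Cohen–Macaulay -/
theorem fibLocRing_cm_mvPowerSeries (R : Type u) [CommRing R] [IsNoetherianRing R]
    [IsLocalRing R] [IsAdicComplete (maximalIdeal R) R] (n : ℕ)
    (t' : Ideal (MvPowerSeries (Fin n) R)) [t'.IsPrime] :
    Module.supportDim (Localization.AtPrime t') (EGA4.FibLocRing R (MvPowerSeries (Fin n) R) t') =
      ((LocCoh.depth (Localization.AtPrime t')
        (EGA4.FibLocRing R (MvPowerSeries (Fin n) R) t') : ℕ∞) : WithBot ℕ∞) := by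
  obtain ⟨Λ₀, _, m, f, hΛ, hf⟩ := Groth.Agent.S0580.result R (IsNoetherian.noetherian _)
  have hreg : IsRegularLocalRing (MvPowerSeries (Fin m) Λ₀) := by
    rcases hΛ with hfield | hcohen
    · letI := hfield.toField
      exact (Groth.Agent.H5.FSm.isRegularLocalRing_mvPowerSeries Λ₀ m).1
    · obtain ⟨hdom, hdvr, -, q, hq, hm⟩ := hcohen
      haveI := hdom
      haveI := hdvr
      exact (Groth.Agent.H5.FSm.isRegularLocalRing_mvPowerSeries Λ₀ m).1
  haveI := hreg
  haveI hreg' : IsRegularLocalRing (MvPowerSeries (Fin n) (MvPowerSeries (Fin m) Λ₀)) :=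
    (Groth.Agent.H5.FSm.isRegularLocalRing_mvPowerSeries (MvPowerSeries (Fin m) Λ₀) n).1
  haveI : IsRegularRing (MvPowerSeries (Fin m) Λ₀) :=
    Groth.Agent.H2.ComplCat.isRegularRing_of_isRegularLocalRing _
  haveI : IsRegularRing (MvPowerSeries (Fin n) (MvPowerSeries (Fin m) Λ₀)) :=
    Groth.Agent.H2.ComplCat.isRegularRing_of_isRegularLocalRing _
  haveI hT : LocCoh.IsCohenMacaulayRing (MvPowerSeries (Fin m) Λ₀) :=
    Groth.Agent.H1.CMFlat.isCohenMacaulayRing_of_isRegularRing _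
  haveI hT' : LocCoh.IsCohenMacaulayRing (MvPowerSeries (Fin n) (MvPowerSeries (Fin m) Λ₀)) :=
    Groth.Agent.H1.CMFlat.isCohenMacaulayRing_of_isRegularRing _
  haveI : Module.Flat (MvPowerSeries (Fin m) Λ₀)
      (MvPowerSeries (Fin n) (MvPowerSeries (Fin m) Λ₀)) :=
    Groth.Agent.H2.PSFlat.flat_mvPowerSeries _ (Fin n)
  let g : MvPowerSeries (Fin n) (MvPowerSeries (Fin m) Λ₀) →+* MvPowerSeries (Fin n) R :=
    MvPowerSeries.map f
  have hg : Function.Surjective g := Groth.Agent.H2.PSFlat.map_surjective (Fin n) f hf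
  have H : g.comp (algebraMap (MvPowerSeries (Fin m) Λ₀)
        (MvPowerSeries (Fin n) (MvPowerSeries (Fin m) Λ₀))) =
      (algebraMap R (MvPowerSeries (Fin n) R)).comp f := by
    ext a : 1
    simp [g, MvPowerSeries.algebraMap_apply]
  have hker : RingHom.ker g = (RingHom.ker f).map (algebraMap (MvPowerSeries (Fin m) Λ₀)
      (MvPowerSeries (Fin n) (MvPowerSeries (Fin m) Λ₀))) := by
    have h1 := Groth.Agent.H2.PSFlat.ker_map (Fin n) f (IsNoetherian.noetherian _)
    rw [h1]
    congr 1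
  obtain ⟨h1, h2⟩ := Groth.Agent.H2.FFib.depth_and_dim_fibLocRing f g hf hg H hker t'
  rw [h1, h2]
  exact Groth.Agent.H2.CMFib.fibLocRing_cm_of_cm (t'.comap g)
    (hT'.isCohenMacaulayLocalRing_localization _) (hT.isCohenMacaulayLocalRing_localization _)

/-- the fibres of `R → R[[Y₁, …, Yₙ]]` are Cohen–Macaulay -/
theorem cm_fibres_mvPowerSeries (R : Type u) [CommRing R] [IsNoetherianRing R]
    [IsLocalRing R] [IsAdicComplete (maximalIdeal R) R] (n : ℕ) (p : Ideal R) [p.IsPrime] :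
    LocCoh.IsCohenMacaulayRing (p.Fiber (MvPowerSeries (Fin n) R)) := by
  rw [Groth.Agent.H6.FiberDict.cm_fiber_iff]
  intro r hr hrp
  exact fibLocRing_cm_mvPowerSeries R n r

end Groth.Agent.H2.PSFib
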