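import Mathlib
import Groth.Agent.Lib.Helper2.PSFlat
import Groth.Agent.Lib.Helper5.FSm.PSReg

/-! The closed fibre of `R → R[[Y]]` is a power series ring over the residue field. -/

universe u
set_option linter.style.haveILetI false

open IsLocalRing

namespace Groth.Agent.H2.PSFib

/-- the closed fibre of `R → R[[Y₁, …, Yₙ]]` is regular of dimension `n` -/
theorem closedFibre_mvPowerSeries (R : Type u) [CommRing R] [IsNoetherianRing R] [IsLocalRing R]
    (n : ℕ) :
    IsRegularLocalRing (MvPowerSeries (Fin n) R ⧸
        (maximalIdeal R).map (algebraMap R (MvPowerSeries (Fin n) R))) ∧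
      ringKrullDim (MvPowerSeries (Fin n) R ⧸
        (maximalIdeal R).map (algebraMap R (MvPowerSeries (Fin n) R))) = (n : WithBot ℕ∞) := by
  let φ : MvPowerSeries (Fin n) R →+* MvPowerSeries (Fin n) (ResidueField R) :=
    MvPowerSeries.map (residue R)
  have hφ : Function.Surjective φ :=
    Groth.Agent.H2.PSFlat.map_surjective (Fin n) (residue R) (residue_surjective)
  have hker : (maximalIdeal R).map (algebraMap R (MvPowerSeries (Fin n) R)) = RingHom.ker φ := by
    have h1 := Groth.Agent.H2.PSFlat.ker_map (Fin n) (residue R) (IsNoetherian.noetherian _)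
    rw [h1, IsLocalRing.ker_residue]
    congr 1
  let e : (MvPowerSeries (Fin n) R ⧸
      (maximalIdeal R).map (algebraMap R (MvPowerSeries (Fin n) R))) ≃+*
      MvPowerSeries (Fin n) (ResidueField R) :=
    (Ideal.quotEquivOfEq hker).trans (RingHom.quotientKerEquivOfSurjective hφ)
  obtain ⟨h1, h2⟩ := Groth.Agent.H5.FSm.isRegularLocalRing_mvPowerSeries (ResidueField R) n
  haveI := h1
  refine ⟨IsRegularLocalRing.of_ringEquiv e.symm, ?_⟩
  rw [ringKrullDim_eq_of_ringEquiv e, h2, ringKrullDim_eq_zero_of_field, zero_add]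

end Groth.Agent.H2.PSFib
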