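import Mathlib
import Groth.Agent.Lib.Helper1.CMFlat
import Groth.Agent.Lib.Helper1.RegRing
import Groth.Agent.Lib.Helper5.CA.NG33
import Groth.Agent.Lib.Helper6.Liai3
import Groth.Agent.Lib.Helper6.CMKit

/-! Tensor products of fields (one finitely generated) are Cohen–Macaulay. -/

universe u
set_option linter.style.haveILetI false

open TensorProduct

namespace Groth.Agent.H2.TenCM

/-- an Artinian local ring is Cohen–Macaulay -/
theorem cmLocal_of_isArtinianRing (R : Type u) [CommRing R] [IsLocalRing R] [IsArtinianRing R] :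
    LocCoh.IsCohenMacaulayLocalRing R := by
  refine { supportDim_eq_depth := ?_ }
  rw [Module.supportDim_self_eq_ringKrullDim]
  have hdim : ringKrullDim R = 0 := by
    apply le_antisymm
    · have : Ring.KrullDimLE 0 R := inferInstance
      exact Ring.krullDimLE_iff.mp this
    · exact ringKrullDim_nonneg_of_nontrivial
  rw [hdim]
  obtain ⟨P, hP⟩ := associatedPrimes.nonempty R R
  have h1 := Groth.Agent.H6.CM.depth_le_ringKrullDim_quotient R P hP
  have h2 : ringKrullDim (R ⧸ P) ≤ ringKrullDim R :=
    ringKrullDim_le_of_surjective (Ideal.Quotient.mk P) Ideal.Quotient.mk_surjective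
  rw [hdim] at h2
  have h3 := h1.trans h2
  have h4 : ((LocCoh.depth R R : ℕ∞) : WithBot ℕ∞) ≤ ((0 : ℕ∞) : WithBot ℕ∞) := by
    exact_mod_cast h3
  have h5 : LocCoh.depth R R ≤ 0 := by exact_mod_cast h4
  have h6 : LocCoh.depth R R = 0 := le_antisymm h5 zero_le
  rw [h6]
  rfl

/-- an Artinian ring is Cohen–Macaulay -/
theorem cm_of_isArtinianRing (R : Type u) [CommRing R] [IsArtinianRing R] :
    LocCoh.IsCohenMacaulayRing R := by
  refine { isCohenMacaulayLocalRing_localization := fun p hp => ?_ }
  haveI : IsArtinianRing (Localization.AtPrime p) := inferInstance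
  exact cmLocal_of_isArtinianRing _

end Groth.Agent.H2.TenCM
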