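import Mathlib
import Groth.Prelude.Def_EGA4b
import Groth.Agent.Lib.Helper2.PSFib
import Groth.Agent.Lib.Helper2.PSFib2
import Groth.Agent.Lib.Helper2.FinFlat
import Groth.Agent.Lib.Helper2.TenCM1
import Groth.Agent.Lib.Helper5.CA.NN2
import Groth.Agent.Lib.Helper5.CA.PSExists
import Groth.Agent.Lib.Helper6.Liai3
import Groth.Agent.S2717

/-! Flat local homomorphisms of complete Noetherian local rings with finite residue field
extension and Cohen–Macaulay closed fibre have Cohen–Macaulay fibres. -/

universe u
set_option linter.style.haveILetI false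

open IsLocalRing TensorProduct

namespace Groth.Agent.H2.CMFibC

/-- fibres of a finite flat algebra are Artinian, hence Cohen–Macaulay; composition -/
theorem cm_fibres_comp_finite (R R' S : Type u) [CommRing R] [CommRing R'] [CommRing S]
    [IsNoetherianRing R] [IsNoetherianRing R'] [IsNoetherianRing S]
    [Algebra R R'] [Algebra R' S] [Algebra R S] [IsScalarTower R R' S] [Module.Flat R R']
    [Module.Flat R' S] [Module.Finite R' S]
    (h : ∀ (p : Ideal R) [p.IsPrime], LocCoh.IsCohenMacaulayRing (p.Fiber R'))
    (p : Ideal R) [p.IsPrime] : LocCoh.IsCohenMacaulayRing (p.Fiber S) := by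
  refine (Groth.Agent.S2717.result R R' S h ?_).2 p
  intro q hq
  haveI : Module.Finite q.ResidueField (q.Fiber S) := inferInstance
  haveI : IsArtinianRing (q.Fiber S) := IsArtinianRing.of_finite q.ResidueField _
  exact Groth.Agent.H2.TenCM.cm_of_isArtinianRing _

variable (R S : Type u) [CommRing R] [CommRing S] [IsNoetherianRing R] [IsNoetherianRing S]
  [IsLocalRing R] [IsLocalRing S] [Algebra R S] [IsLocalHom (algebraMap R S)] [Module.Flat R S]
  [IsAdicComplete (maximalIdeal R) R] [IsAdicComplete (maximalIdeal S) S]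
  [Module.Finite (ResidueField R) (ResidueField S)]

/-- the complete case -/
theorem cm_fibres_complete
    (hF : LocCoh.IsCohenMacaulayLocalRing (S ⧸ (maximalIdeal R).map (algebraMap R S)))
    (p : Ideal R) [p.IsPrime] : LocCoh.IsCohenMacaulayRing (p.Fiber S) := by
  classical
  haveI := hF
  set mS := (maximalIdeal R).map (algebraMap R S) with hmS
  have hmSle : mS ≤ maximalIdeal S := IsLocalRing.map_maximalIdeal_le (algebraMap R S)
  -- a system of parameters of the closed fibre
  obtain ⟨n, ybar, hn, hybar, hart⟩ := Groth.Agent.H5.NN.exists_sop (S ⧸ mS)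
  have hlift : ∀ i, ∃ s : S, Ideal.Quotient.mk mS s = ybar i :=
    fun i => Ideal.Quotient.mk_surjective (ybar i)
  choose y hy using hlift
  have hym : ∀ i, y i ∈ maximalIdeal S := by
    intro i
    rw [IsLocalRing.mem_maximalIdeal]
    intro hu
    have h1 : IsUnit (Ideal.Quotient.mk mS (y i)) := hu.map _
    rw [hy i] at h1
    exact (IsLocalRing.mem_maximalIdeal _).mp (hybar i) h1
  -- the power series map
  obtain ⟨ψ, hψ⟩ := Groth.Agent.H5.CA.exists_algHom_mvPowerSeries R S (maximalIdeal S) y hym
  have hfin0 : ((residue S).comp (algebraMap R S)).Finite := by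
    have h1 : (residue S).comp (algebraMap R S) =
        (algebraMap (ResidueField R) (ResidueField S)).comp (residue R) := by
      ext r
      rfl
    rw [h1]
    refine RingHom.Finite.comp ?_ (RingHom.Finite.of_surjective _ residue_surjective)
    exact RingHom.finite_algebraMap.mpr inferInstance
  have hart' : IsArtinianRing (S ⧸ (mS ⊔ Ideal.span (Set.range y))) := by
    have h1 : Ideal.span (Set.range ybar) = (Ideal.span (Set.range y)).map
        (Ideal.Quotient.mk mS) := by
      rw [Ideal.map_span, ← Set.range_comp]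
      congr 2
      funext i
      exact (hy i).symm
    rw [h1] at hart
    haveI := hart
    exact (DoubleQuot.quotQuotEquivQuotSup mS (Ideal.span (Set.range y))).surjective.isArtinianRing
  have hψC : ∀ c, ψ.toRingHom (MvPowerSeries.C c) = algebraMap R S c := by
    intro c
    have h1 : (MvPowerSeries.C c : MvPowerSeries (Fin n) R) =
        algebraMap R (MvPowerSeries (Fin n) R) c := by
      simp [MvPowerSeries.algebraMap_apply]
    rw [h1]
    exact ψ.commutes c
  have hfin : ψ.toRingHom.Finite :=
    Groth.Agent.H5.NN.finite_of_sop (maximalIdeal R) (algebraMap R S) hfin0 n y hym hmSle hart'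
      ψ.toRingHom hψC hψ
  -- the algebra structure
  letI algR'S : Algebra (MvPowerSeries (Fin n) R) S := ψ.toRingHom.toAlgebra
  haveI : IsScalarTower R (MvPowerSeries (Fin n) R) S :=
    IsScalarTower.of_algebraMap_eq fun r => (ψ.commutes r).symm
  haveI : Module.Finite (MvPowerSeries (Fin n) R) S := hfin
  haveI : Module.Flat R (MvPowerSeries (Fin n) R) :=
    Groth.Agent.H2.PSFlat.flat_mvPowerSeries R (Fin n)
  obtain ⟨hreg, hdimR'⟩ := Groth.Agent.H2.PSFib.closedFibre_mvPowerSeries R n
  have hI : (maximalIdeal R).map (algebraMap R (MvPowerSeries (Fin n) R)) ≠ ⊤ := by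
    haveI := hreg
    intro h
    have h2 := (Ideal.Quotient.nontrivial_iff (I := (maximalIdeal R).map
      (algebraMap R (MvPowerSeries (Fin n) R)))).mp inferInstance
    exact h2 h
  have hideal : ((maximalIdeal R).map (algebraMap R (MvPowerSeries (Fin n) R))).map
      (algebraMap (MvPowerSeries (Fin n) R) S) = mS := by
    rw [Ideal.map_map, ← IsScalarTower.algebraMap_eq]
  let eF : (S ⧸ mS) ≃+* (S ⧸ ((maximalIdeal R).map
      (algebraMap R (MvPowerSeries (Fin n) R))).map (algebraMap (MvPowerSeries (Fin n) R) S)) :=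
    Ideal.quotEquivOfEq hideal.symm
  have hCM' : LocCoh.IsCohenMacaulayLocalRing (S ⧸ ((maximalIdeal R).map
      (algebraMap R (MvPowerSeries (Fin n) R))).map (algebraMap (MvPowerSeries (Fin n) R) S)) :=
    Groth.Agent.H6.Liai.cmLocal_of_ringEquiv eF
  have hdim : ringKrullDim (MvPowerSeries (Fin n) R ⧸
        (maximalIdeal R).map (algebraMap R (MvPowerSeries (Fin n) R))) ≤
      ringKrullDim (S ⧸ ((maximalIdeal R).map
        (algebraMap R (MvPowerSeries (Fin n) R))).map (algebraMap (MvPowerSeries (Fin n) R) S)) := by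
    rw [hdimR', ← ringKrullDim_eq_of_ringEquiv eF]
    exact hn
  haveI : Module.Flat (MvPowerSeries (Fin n) R) S :=
    Groth.Agent.H2.FinFlat.flat_of_finite_of_cm_closedFibre R (MvPowerSeries (Fin n) R) S hI hreg
      hCM' hdim
  exact cm_fibres_comp_finite R (MvPowerSeries (Fin n) R) S
    (fun q _ => Groth.Agent.H2.PSFib.cm_fibres_mvPowerSeries R n q) p

end Groth.Agent.H2.CMFibC
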