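import Mathlib
import Groth.Agent.Lib.Helper2.TenCM1

/-! Tensor products of fields (one finitely generated) are Cohen–Macaulay. -/

universe u
set_option linter.style.haveILetI false

open TensorProduct

namespace Groth.Agent.H2.TenCM

variable (k K L : Type u) [Field k] [Field K] [Field L] [Algebra k K] [Algebra k L]

theorem isRegularRing_tensor_fractionRing (ι : Type u) [Finite ι] :
    IsRegularRing (L ⊗[k] FractionRing (MvPolynomial ι k)) := by
  obtain ⟨_, hloc⟩ := H5.NG.exists_isLocalization_tensor k L (MvPolynomial ι k)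
    (nonZeroDivisors (MvPolynomial ι k)) (FractionRing (MvPolynomial ι k))
  haveI : IsRegularRing (L ⊗[k] MvPolynomial ι k) :=
    IsRegularRing.of_ringEquiv (MvPolynomial.algebraTensorAlgEquiv (σ := ι) k L).symm.toRingEquiv
  haveI := hloc
  exact Groth.Agent.H1.Reg.isRegularRing_of_isLocalization (L ⊗[k] MvPolynomial ι k)
    ((nonZeroDivisors (MvPolynomial ι k)).map
      (Algebra.TensorProduct.includeRight (R := k) (A := L) (B := MvPolynomial ι k)))
    (L ⊗[k] FractionRing (MvPolynomial ι k))

theorem isRegularRing_tensor_adjoin {ι : Type u} [Finite ι] (x : ι → K)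
    (hx : AlgebraicIndependent k x) :
    IsRegularRing (IntermediateField.adjoin k (Set.range x) ⊗[k] L) := by
  haveI := isRegularRing_tensor_fractionRing k L ι
  let e1 : L ⊗[k] FractionRing (MvPolynomial ι k) ≃ₐ[k]
      L ⊗[k] IntermediateField.adjoin k (Set.range x) :=
    Algebra.TensorProduct.congr AlgEquiv.refl hx.aevalEquivField
  let e2 : L ⊗[k] IntermediateField.adjoin k (Set.range x) ≃ₐ[k]
      IntermediateField.adjoin k (Set.range x) ⊗[k] L := Algebra.TensorProduct.comm k _ _
  exact IsRegularRing.of_ringEquiv (e1.trans e2).toRingEquiv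

end Groth.Agent.H2.TenCM

namespace Groth.Agent.H2.TenCM

variable (k K L : Type u) [Field k] [Field K] [Field L] [Algebra k K] [Algebra k L]

theorem cm_tensor_aux (E : Type u) [Field E] [Algebra k E] [Algebra E K] [IsScalarTower k E K]
    [Module.Finite E K] [hD : IsRegularRing (E ⊗[k] L)] :
    LocCoh.IsCohenMacaulayRing (K ⊗[k] L) := by
  haveI : LocCoh.IsCohenMacaulayRing (E ⊗[k] L) :=
    Groth.Agent.H1.CMFlat.isCohenMacaulayRing_of_isRegularRing _
  haveI : IsNoetherianRing ((E ⊗[k] L) ⊗[E] K) := IsNoetherianRing.of_finite (E ⊗[k] L) _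
  have hB' : LocCoh.IsCohenMacaulayRing ((E ⊗[k] L) ⊗[E] K) := by
    refine Groth.Agent.H1.CMFlat.isCohenMacaulayRing_of_flat_of_fibres (R := E ⊗[k] L) ?_
    intro P hP
    haveI : Module.Finite P.ResidueField (P.Fiber ((E ⊗[k] L) ⊗[E] K)) := inferInstance
    haveI : IsArtinianRing (P.Fiber ((E ⊗[k] L) ⊗[E] K)) := by
      have := IsArtinianRing.of_finite P.ResidueField (P.Fiber ((E ⊗[k] L) ⊗[E] K))
      convert this
    exact cm_of_isArtinianRing _
  let e1 : (E ⊗[k] L) ⊗[E] K ≃ₐ[E] K ⊗[E] (E ⊗[k] L) := Algebra.TensorProduct.comm E _ K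
  let e2 : K ⊗[E] (E ⊗[k] L) ≃ₐ[K] K ⊗[k] L := Algebra.TensorProduct.cancelBaseChange k E K K L
  haveI := hB'
  exact Groth.Agent.H6.Liai.cm_of_ringEquiv (e1.toRingEquiv.trans e2.toRingEquiv)

/-- `K ⊗_k L` is Cohen–Macaulay if `K` is a finitely generated field extension of `k` -/
theorem cm_tensor_of_essFiniteType [Algebra.EssFiniteType k K] :
    LocCoh.IsCohenMacaulayRing (K ⊗[k] L) := by
  obtain ⟨s, hs⟩ := exists_finset_isTranscendenceBasis k K
  haveI : Algebra.IsAlgebraic (IntermediateField.adjoin k (Set.range ((↑) : s → K))) K :=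
    hs.isAlgebraic_field
  haveI : Algebra.EssFiniteType (IntermediateField.adjoin k (Set.range ((↑) : s → K))) K :=
    Algebra.EssFiniteType.of_comp k _ K
  haveI : Module.Finite (IntermediateField.adjoin k (Set.range ((↑) : s → K))) K :=
    Algebra.finite_of_essFiniteType_of_isAlgebraic
  haveI hD : IsRegularRing ((IntermediateField.adjoin k (Set.range ((↑) : s → K))) ⊗[k] L) :=
    isRegularRing_tensor_adjoin k K L _ hs.1
  exact cm_tensor_aux k K L (IntermediateField.adjoin k (Set.range ((↑) : s → K)))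

/-- symmetric version -/
theorem cm_tensor_of_essFiniteType' [Algebra.EssFiniteType k L] :
    LocCoh.IsCohenMacaulayRing (K ⊗[k] L) := by
  haveI := cm_tensor_of_essFiniteType k L K
  exact Groth.Agent.H6.Liai.cm_of_ringEquiv (Algebra.TensorProduct.comm k L K).toRingEquiv

end Groth.Agent.H2.TenCM
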