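import Mathlib
import Groth.Agent.Lib.Helper2.CMFib1
import Groth.Agent.Lib.Helper6.FlatNormal
import Groth.Agent.Lib.Helper6.FlatGD

/-! Codepth and `(S_n)` along flat homomorphisms with Cohen–Macaulay fibres. -/

universe u
set_option linter.style.haveILetI false

open TensorProduct

namespace Groth.Agent.H2.TenCM

variable {R S : Type u} [CommRing R] [CommRing S] [IsNoetherianRing R] [IsNoetherianRing S]
  [Algebra R S] [Module.Flat R S]

/-- equality of codepths along a flat homomorphism with Cohen–Macaulay fibre -/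
theorem codepth_eq (Q : Ideal S) [Q.IsPrime]
    (hfib : Module.supportDim (Localization.AtPrime Q) (EGA4.FibLocRing R S Q) =
      ((LocCoh.depth (Localization.AtPrime Q) (EGA4.FibLocRing R S Q) : ℕ∞) : WithBot ℕ∞)) :
    ringKrullDim (Localization.AtPrime (Q.comap (algebraMap R S))) +
        ((LocCoh.depth (Localization.AtPrime Q) (Localization.AtPrime Q) : ℕ∞) : WithBot ℕ∞) =
      ringKrullDim (Localization.AtPrime Q) +
        ((LocCoh.depth (Localization.AtPrime (Q.comap (algebraMap R S)))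
          (Localization.AtPrime (Q.comap (algebraMap R S))) : ℕ∞) : WithBot ℕ∞) := by
  obtain ⟨E1, E2⟩ := Groth.Agent.H2.CMFib.depth_and_dim (R := R) Q
  rw [← Module.supportDim_self_eq_ringKrullDim, ← Module.supportDim_self_eq_ringKrullDim, E2, E1,
    hfib, WithBot.coe_add]
  ac_rfl

/-- the Serre inequality at `Q ∩ R` and at `Q` in terms of localizations -/
theorem skIneq_iff_loc (T : Type u) [CommRing T] (n : ℕ) (q : Ideal T) [q.IsPrime] :
    Groth.Agent.H6.SkLoc.SkIneq T n q ↔
      min (n : WithBot ℕ∞) (Module.supportDim (Localization.AtPrime q) (Localization.AtPrime q)) ≤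
        ((LocCoh.depth (Localization.AtPrime q) (Localization.AtPrime q) : ℕ∞) : WithBot ℕ∞) := by
  unfold Groth.Agent.H6.SkLoc.SkIneq
  have e1 := Groth.Agent.H6.FiberDict.locEquiv T q
  have hd1 : LocCoh.depth (Localization.AtPrime q) (LocalizedModule q.primeCompl T) =
      LocCoh.depth (Localization.AtPrime q) (Localization.AtPrime q) :=
    Groth.Agent.H6.HomKer.idealDepth_congr _ e1
  rw [hd1, Module.supportDim_eq_of_equiv e1]

theorem hasSkAt_iff_of_cm_fibres
    (hfib : ∀ (Q : Ideal S) [Q.IsPrime],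
      Module.supportDim (Localization.AtPrime Q) (EGA4.FibLocRing R S Q) =
      ((LocCoh.depth (Localization.AtPrime Q) (EGA4.FibLocRing R S Q) : ℕ∞) : WithBot ℕ∞))
    (n : ℕ) (Q : Ideal S) [hQ : Q.IsPrime] :
    EGA4.HasSkAt n R R (Q.comap (algebraMap R S)) ↔ EGA4.HasSkAt n S S Q := by
  rw [Groth.Agent.H6.SkLoc.hasSkAt_iff, Groth.Agent.H6.SkLoc.hasSkAt_iff]
  constructor
  · intro h Q₁ hQ₁ hle
    have h1 := h (Q₁.comap (algebraMap R S)) (Ideal.comap_mono hle)
    rw [skIneq_iff_loc] at h1 ⊢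
    obtain ⟨E1, E2⟩ := Groth.Agent.H2.CMFib.depth_and_dim (R := R) Q₁
    rw [E1, E2, hfib Q₁]
    exact Groth.Agent.H6.SkLoc.min_add_le n _ _ _ _ h1 (min_le_right _ _)
  · intro h p hp hle
    have hQs : (⟨Q, hQ⟩ : PrimeSpectrum S) ∈ Module.support S S := by
      rw [Module.support_eq_zeroLocus, PrimeSpectrum.mem_zeroLocus]
      intro x hx
      have h0 : x = 0 := by
        have := Module.mem_annihilator.mp hx 1
        simpa using this
      rw [h0]
      exact Q.zero_mem
    obtain ⟨Q₁, hQ₁, hQ₁Q, hQ₁p, hmin⟩ := Groth.Agent.H6.FlatGD.exists_going_down (A := R)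
      (B := S) S Q hQs p hle
    haveI := hQ₁
    subst hQ₁p
    obtain ⟨h1, h2⟩ := Groth.Agent.H6.FlatGD.fibLocMod_depth_dim_zero (A := R) (B := S) S Q₁ hmin
    obtain ⟨h3, h4⟩ := Groth.Agent.H6.FiberDict.depth_and_dim_self (A := R) (B := S) Q₁
    rw [h3] at h1
    rw [h4] at h2
    have h5 := h Q₁ hQ₁Q
    rw [skIneq_iff_loc] at h5 ⊢
    obtain ⟨E1, E2⟩ := Groth.Agent.H2.CMFib.depth_and_dim (R := R) Q₁
    rw [E1, E2, h1, h2, add_zero, add_zero] at h5
    exact h5

end Groth.Agent.H2.TenCM
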