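import Mathlib
import Groth.Agent.Lib.Helper2.TenCM2
import Groth.Agent.Lib.Helper2.TenCM3

/-! Base change of a Noetherian algebra over a field by a field extension: the fibres are
Cohen–Macaulay. -/

universe u
set_option linter.style.haveILetI false

open TensorProduct

namespace Groth.Agent.H2.TenCM

theorem cm_fibre_baseChange_field (k S k' : Type u) [Field k] [CommRing S] [Algebra k S]
    [Field k'] [Algebra k k']
    (hft : Algebra.FiniteType k S ∨ Algebra.EssFiniteType k k')
    (p : Ideal S) [p.IsPrime] :
    LocCoh.IsCohenMacaulayRing (p.Fiber (S ⊗[k] k')) := by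
  let e : p.ResidueField ⊗[S] (S ⊗[k] k') ≃ₐ[p.ResidueField] p.ResidueField ⊗[k] k' :=
    Algebra.TensorProduct.cancelBaseChange k S p.ResidueField p.ResidueField k'
  have h1 : LocCoh.IsCohenMacaulayRing (p.ResidueField ⊗[k] k') := by
    rcases hft with h | h
    · haveI := h
      haveI : Algebra.EssFiniteType k p.ResidueField := by
        haveI : Algebra.EssFiniteType k (Localization.AtPrime p) := inferInstance
        exact Algebra.EssFiniteType.of_surjective
          (IsScalarTower.toAlgHom k (Localization.AtPrime p) p.ResidueField)
          Ideal.Quotient.mk_surjective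
      exact cm_tensor_of_essFiniteType k p.ResidueField k'
    · haveI := h
      exact cm_tensor_of_essFiniteType' k p.ResidueField k'
  haveI := h1
  exact Groth.Agent.H6.Liai.cm_of_ringEquiv e.symm.toRingEquiv

end Groth.Agent.H2.TenCM
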