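import Mathlib
import Groth.Prelude.Def_EGA4b
import Groth.Agent.Lib.Helper2.TenCM4
import Groth.Agent.Lib.Helper6.FiberDict

/-! Cohen–Macaulay fibres: localization and base change. -/

universe u
set_option linter.style.haveILetI false

open IsLocalRing TensorProduct

namespace Groth.Agent.H2.FFib

/-- a localization of a Cohen–Macaulay ring is Cohen–Macaulay -/
theorem cm_of_isLocalization (R : Type u) [CommRing R] [LocCoh.IsCohenMacaulayRing R]
    (M : Submonoid R) (S : Type u) [CommRing S] [Algebra R S] [IsLocalization M S] :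
    LocCoh.IsCohenMacaulayRing S := by
  haveI : IsNoetherianRing S := IsLocalization.isNoetherianRing M S inferInstance
  haveI : Module.Flat R S := IsLocalization.flat S M
  refine Groth.Agent.H1.CMFlat.isCohenMacaulayRing_of_flat_of_fibres (R := R) (S := S)
    fun p _ => ?_
  haveI : IsLocalization (Algebra.algebraMapSubmonoid p.ResidueField M) (p.Fiber S) :=
    IsLocalization.tensor S M
  haveI : IsArtinianRing (p.Fiber S) :=
    IsArtinianRing.localization_artinian (Algebra.algebraMapSubmonoid p.ResidueField M) _
  exact Groth.Agent.H2.TenCM.cm_of_isArtinianRing _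

/-- Cohen–Macaulay fibres pass to localizations of the target -/
theorem cm_fibres_of_isLocalization (A D D' : Type u) [CommRing A] [CommRing D] [CommRing D']
    [Algebra A D] [Algebra D D'] [Algebra A D'] [IsScalarTower A D D'] (M : Submonoid D)
    [IsLocalization M D']
    (h : ∀ (p : Ideal A) [p.IsPrime], LocCoh.IsCohenMacaulayRing (p.Fiber D))
    (p : Ideal A) [p.IsPrime] : LocCoh.IsCohenMacaulayRing (p.Fiber D') := by
  letI : Algebra (p.Fiber D) (p.Fiber D') :=
    (Algebra.TensorProduct.map (AlgHom.id p.ResidueField p.ResidueField)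
      (IsScalarTower.toAlgHom A D D')).toRingHom.toAlgebra
  haveI : IsScalarTower p.ResidueField (p.Fiber D) (p.Fiber D') := by
    refine IsScalarTower.of_algebraMap_eq (R := p.ResidueField) (S := p.Fiber D)
      (A := p.Fiber D') fun x => ?_
    change _ = Algebra.TensorProduct.map (AlgHom.id p.ResidueField p.ResidueField)
      (IsScalarTower.toAlgHom A D D') (algebraMap p.ResidueField (p.Fiber D) x)
    simp [Algebra.TensorProduct.algebraMap_apply]
  have hloc := IsLocalization.tensorProduct_tensorProduct_right A p.ResidueField M D' (by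
    ext d
    change Algebra.TensorProduct.map (AlgHom.id p.ResidueField p.ResidueField)
      (IsScalarTower.toAlgHom A D D') ((1 : p.ResidueField) ⊗ₜ[A] d) = _
    simp)
  haveI := h p
  exact @cm_of_isLocalization (p.Fiber D) _ _ _ (p.Fiber D') _ _ hloc

/-- base change of a Cohen–Macaulay algebra over a field by a finitely generated field extension -/
theorem cm_baseChange_field (k F k' : Type u) [Field k] [CommRing F] [Algebra k F] [Field k']
    [Algebra k k'] [Algebra.EssFiniteType k k'] [IsNoetherianRing (F ⊗[k] k')]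
    [LocCoh.IsCohenMacaulayRing F] : LocCoh.IsCohenMacaulayRing (F ⊗[k] k') :=
  Groth.Agent.H1.CMFlat.isCohenMacaulayRing_of_flat_of_fibres (R := F) (S := F ⊗[k] k')
    fun p _ => Groth.Agent.H2.TenCM.cm_fibre_baseChange_field k F k' (Or.inr inferInstance) p

/-- the fibres of `B → B ⊗[A] C` are Cohen–Macaulay if those of `A → C` are and `B` is
essentially of finite type over `A` -/
theorem cm_fibre_baseChange (A B C : Type u) [CommRing A] [CommRing B] [CommRing C] [Algebra A B]
    [Algebra A C] [Algebra.EssFiniteType A B] [IsNoetherianRing (B ⊗[A] C)]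
    (hC : ∀ (p : Ideal A) [p.IsPrime], LocCoh.IsCohenMacaulayRing (p.Fiber C))
    (q : Ideal B) [q.IsPrime] : LocCoh.IsCohenMacaulayRing (q.Fiber (B ⊗[A] C)) := by
  set p := q.under A with hp
  haveI : q.LiesOver p := ⟨rfl⟩
  letI := Localization.AtPrime.algebraOfLiesOver p q
  haveI : Algebra.EssFiniteType p.ResidueField q.ResidueField := inferInstance
  haveI : IsScalarTower A p.ResidueField q.ResidueField := inferInstance
  let e1 : q.ResidueField ⊗[B] (B ⊗[A] C) ≃ₐ[q.ResidueField] q.ResidueField ⊗[A] C :=
    Algebra.TensorProduct.cancelBaseChange A B q.ResidueField q.ResidueField C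
  let e2 : q.ResidueField ⊗[p.ResidueField] (p.ResidueField ⊗[A] C) ≃ₐ[q.ResidueField]
      q.ResidueField ⊗[A] C :=
    Algebra.TensorProduct.cancelBaseChange A p.ResidueField q.ResidueField q.ResidueField C
  let e3 : q.ResidueField ⊗[p.ResidueField] (p.Fiber C) ≃ₐ[p.ResidueField]
      (p.Fiber C) ⊗[p.ResidueField] q.ResidueField := Algebra.TensorProduct.comm _ _ _
  let E : q.Fiber (B ⊗[A] C) ≃+* (p.Fiber C) ⊗[p.ResidueField] q.ResidueField :=
    e1.toRingEquiv.trans (e2.symm.toRingEquiv.trans e3.toRingEquiv)
  haveI : IsNoetherianRing (q.Fiber (B ⊗[A] C)) :=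
    Groth.Agent.H6.FiberDict.isNoetherianRing_fiber q
  haveI : IsNoetherianRing ((p.Fiber C) ⊗[p.ResidueField] q.ResidueField) :=
    isNoetherianRing_of_ringEquiv _ E
  haveI := hC p
  haveI := cm_baseChange_field p.ResidueField (p.Fiber C) q.ResidueField
  exact Groth.Agent.H6.Liai.cm_of_ringEquiv
    (A := (p.Fiber C) ⊗[p.ResidueField] q.ResidueField) E.symm

end Groth.Agent.H2.FFib
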