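import Mathlib
import Groth.Prelude.Def_EGA4b
import Groth.Agent.Lib.Helper2.CMFibC
import Groth.Agent.Lib.Helper2.FFib3
import Groth.Agent.Lib.Helper3.CA.CMFibres
import Groth.Agent.S0543

/-! Cohen–Macaulay fibres of a flat local homomorphism from the closed fibre of the completion. -/

universe u
set_option linter.style.haveILetI false

open IsLocalRing TensorProduct

namespace Groth.Agent.H2.CMFibD

/-- a local ring which is a Cohen–Macaulay ring is a Cohen–Macaulay local ring -/
theorem cmLocal_of_cm (L : Type u) [CommRing L] [IsLocalRing L]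
    [hL : LocCoh.IsCohenMacaulayRing L] : LocCoh.IsCohenMacaulayLocalRing L := by
  haveI := hL.isCohenMacaulayLocalRing_localization (maximalIdeal L)
  have hunits : (maximalIdeal L).primeCompl ≤ IsUnit.submonoid L := by
    intro x hx
    exact IsLocalRing.notMem_maximalIdeal.mp hx
  let e : L ≃ₐ[L] Localization.AtPrime (maximalIdeal L) :=
    IsLocalization.atUnits L (maximalIdeal L).primeCompl hunits
  exact Groth.Agent.H6.Liai.cmLocal_of_ringEquiv e.symm.toRingEquiv

section Residue

variable (A B : Type u) [CommRing A] [CommRing B] [IsNoetherianRing A] [IsNoetherianRing B]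
  [IsLocalRing A] [IsLocalRing B] [Algebra A B] [IsLocalHom (algebraMap A B)]

/-- finiteness of the residue field extension passes to the completions -/
theorem finite_residueField_cpl [Algebra (EGA4.Cpl A) (EGA4.Cpl B)]
    [IsLocalHom (algebraMap (EGA4.Cpl A) (EGA4.Cpl B))]
    [IsScalarTower A (EGA4.Cpl A) (EGA4.Cpl B)]
    [Module.Finite (ResidueField A) (ResidueField B)] :
    Module.Finite (ResidueField (EGA4.Cpl A)) (ResidueField (EGA4.Cpl B)) := by
  haveI := Groth.Agent.H3.CplMap.isScalarTower_cpl A B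
  set χA := ResidueField.map (algebraMap A (EGA4.Cpl A)) with hχA
  set χB := ResidueField.map (algebraMap B (EGA4.Cpl B)) with hχB
  have hbijA := AdicCompletion.residueField_map_bijective A
  have hbijB := AdicCompletion.residueField_map_bijective B
  have hcomp : (algebraMap (ResidueField (EGA4.Cpl A)) (ResidueField (EGA4.Cpl B))).comp χA =
      χB.comp (algebraMap (ResidueField A) (ResidueField B)) := by
    ext x
    obtain ⟨a, rfl⟩ := residue_surjective x
    change ResidueField.map (algebraMap (EGA4.Cpl A) (EGA4.Cpl B))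
        (ResidueField.map (algebraMap A (EGA4.Cpl A)) (residue A a)) =
      ResidueField.map (algebraMap B (EGA4.Cpl B))
        (ResidueField.map (algebraMap A B) (residue A a))
    rw [ResidueField.map_residue, ResidueField.map_residue, ResidueField.map_residue,
      ResidueField.map_residue, ← IsScalarTower.algebraMap_apply A (EGA4.Cpl A) (EGA4.Cpl B),
      ← IsScalarTower.algebraMap_apply A B (EGA4.Cpl B)]
  have hfin : ((algebraMap (ResidueField (EGA4.Cpl A)) (ResidueField (EGA4.Cpl B))).comp
      χA).Finite := by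
    rw [hcomp]
    exact RingHom.Finite.comp (RingHom.Finite.of_surjective _ hbijB.2)
      (RingHom.finite_algebraMap.mpr inferInstance)
  exact RingHom.finite_algebraMap.mp (RingHom.Finite.of_comp_finite hfin)

end Residue

/-- the fibre over the maximal ideal is the quotient by the extended maximal ideal -/
noncomputable def fibreMaxEquiv (A C : Type u) [CommRing A] [IsLocalRing A] [CommRing C]
    [Algebra A C] :
    (maximalIdeal A).Fiber C ≃+* C ⧸ (maximalIdeal A).map (algebraMap A C) :=
  let e0 : (A ⧸ maximalIdeal A) ≃ₐ[A] (maximalIdeal A).ResidueField :=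
    (Ideal.quotientEquivAlgOfEq A (Ideal.ker_algebraMap_residueField (maximalIdeal A)).symm).trans
      (Ideal.quotientKerAlgEquivOfSurjective
        (f := Algebra.ofId A (maximalIdeal A).ResidueField)
        (Ideal.algebraMap_residueField_surjective (maximalIdeal A)))
  ((Algebra.TensorProduct.congr e0 (AlgEquiv.refl (R := A) (A₁ := C))).symm.toRingEquiv).trans
    (Algebra.TensorProduct.quotIdealMapEquivQuotTensor C (maximalIdeal A)).symm.toRingEquiv

/-- all fibres are Cohen–Macaulay if the closed fibre of the completion is and the formal fibres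
of the base are -/
theorem cm_fibres_of_cpl_closedFibre (A B : Type u) [CommRing A] [CommRing B]
    [IsNoetherianRing A] [IsNoetherianRing B] [IsLocalRing A] [IsLocalRing B] [Algebra A B]
    [IsLocalHom (algebraMap A B)] [Module.Flat A B]
    [Module.Finite (IsLocalRing.ResidueField A) (IsLocalRing.ResidueField B)]
    (hA : EGA4.HasCMFormalFibres A)
    (h : LocCoh.IsCohenMacaulayRing ((maximalIdeal A).Fiber (EGA4.Cpl B))) :
    ∀ (p : Ideal A) [p.IsPrime], LocCoh.IsCohenMacaulayRing (p.Fiber B) := by
  haveI : IsNoetherianRing (EGA4.Cpl A) := Groth.Agent.S0543.result A _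
  haveI : IsNoetherianRing (EGA4.Cpl B) := Groth.Agent.S0543.result B _
  obtain ⟨alg, htower, hff⟩ := Groth.Agent.H3.CplMap.exists_cpl_tower A B
  haveI := Groth.Agent.H3.CplMap.isScalarTower_cpl A B
  haveI : IsLocalHom (algebraMap (EGA4.Cpl A) (EGA4.Cpl B)) := inferInstance
  haveI := finite_residueField_cpl A B
  have hF : LocCoh.IsCohenMacaulayLocalRing
      (EGA4.Cpl B ⧸ (maximalIdeal (EGA4.Cpl A)).map (algebraMap (EGA4.Cpl A) (EGA4.Cpl B))) := by
    haveI := h
    haveI h1 : LocCoh.IsCohenMacaulayRing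
        (EGA4.Cpl B ⧸ (maximalIdeal A).map (algebraMap A (EGA4.Cpl B))) :=
      Groth.Agent.H6.Liai.cm_of_ringEquiv (fibreMaxEquiv A (EGA4.Cpl B))
    have hideal : (maximalIdeal (EGA4.Cpl A)).map (algebraMap (EGA4.Cpl A) (EGA4.Cpl B)) =
        (maximalIdeal A).map (algebraMap A (EGA4.Cpl B)) := by
      rw [AdicCompletion.maximalIdeal_eq_map, Ideal.map_map, ← IsScalarTower.algebraMap_eq]
    haveI : LocCoh.IsCohenMacaulayRing (EGA4.Cpl B ⧸
        (maximalIdeal (EGA4.Cpl A)).map (algebraMap (EGA4.Cpl A) (EGA4.Cpl B))) :=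
      Groth.Agent.H6.Liai.cm_of_ringEquiv (Ideal.quotEquivOfEq hideal.symm)
    haveI : Nontrivial (EGA4.Cpl B ⧸
        (maximalIdeal (EGA4.Cpl A)).map (algebraMap (EGA4.Cpl A) (EGA4.Cpl B))) :=
      Ideal.Quotient.nontrivial_iff.mpr (fun htop => by
        have hle : (maximalIdeal (EGA4.Cpl A)).map (algebraMap (EGA4.Cpl A) (EGA4.Cpl B)) ≤
            maximalIdeal (EGA4.Cpl B) := IsLocalRing.map_maximalIdeal_le _
        rw [htop] at hle
        exact (maximalIdeal.isMaximal _).ne_top (top_le_iff.mp hle))
    haveI : IsLocalRing (EGA4.Cpl B ⧸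
        (maximalIdeal (EGA4.Cpl A)).map (algebraMap (EGA4.Cpl A) (EGA4.Cpl B))) :=
      IsLocalRing.of_surjective' (Ideal.Quotient.mk _) Ideal.Quotient.mk_surjective
    exact cmLocal_of_cm _
  have hAB : ∀ (q : Ideal (EGA4.Cpl A)) [q.IsPrime],
      LocCoh.IsCohenMacaulayRing (q.Fiber (EGA4.Cpl B)) :=
    fun q _ => Groth.Agent.H2.CMFibC.cm_fibres_complete (EGA4.Cpl A) (EGA4.Cpl B) hF q
  obtain ⟨-, hAC⟩ := Groth.Agent.S2717.result A (EGA4.Cpl A) (EGA4.Cpl B) hA hAB
  haveI : Module.FaithfullyFlat B (EGA4.Cpl B) := Module.FaithfullyFlat.of_flat_of_isLocalHom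
  intro p hp
  exact Groth.Agent.H3.CMFib.cmFibres_of_comp A B (EGA4.Cpl B) hAC p

end Groth.Agent.H2.CMFibD
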