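import Mathlib

/-! Comparing Kähler differentials of one ring over two different base rings. -/

namespace Groth.Agent.H2.KaehlerChange

open KaehlerDifferential

/-- If the universal `R'`-derivation of `S` kills the image of `R`, and `Ω[S⁄R] = 0`, then
`Ω[S⁄R'] = 0`. -/
theorem subsingleton_of_D_algebraMap_eq_zero (R R' S : Type*) [CommRing R] [CommRing R']
    [CommRing S] [Algebra R S] [Algebra R' S]
    (h : ∀ r : R, KaehlerDifferential.D R' S (algebraMap R S r) = 0) [Subsingleton Ω[S⁄R]] :
    Subsingleton Ω[S⁄R'] := by
  haveI : SMulCommClass R' R S := ⟨fun r' r s => by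
    simp only [Algebra.smul_def]
    ring⟩
  let D : Derivation R S Ω[S⁄R'] :=
    { toFun := fun s => KaehlerDifferential.D R' S s
      map_add' := fun x y => map_add _ x y
      map_smul' := fun r s => by
        simp only [RingHom.id_apply]
        rw [Algebra.smul_def, Derivation.leibniz, h r, smul_zero, add_zero,
          algebraMap_smul]
      map_one_eq_zero' := Derivation.map_one_eq_zero _
      leibniz' := fun a b => Derivation.leibniz _ a b }
  have hD : ∀ s : S, KaehlerDifferential.D R' S s = 0 := by
    intro s
    have h1 : D.liftKaehlerDifferential (KaehlerDifferential.D R S s) = D s :=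
      Derivation.liftKaehlerDifferential_comp_D D s
    have h2 : KaehlerDifferential.D R S s = 0 := Subsingleton.elim _ _
    have h3 : D s = KaehlerDifferential.D R' S s := rfl
    rw [← h3, ← h1, h2, map_zero]
  have htop : (⊤ : Submodule S Ω[S⁄R']) = ⊥ := by
    rw [← KaehlerDifferential.span_range_derivation, Submodule.span_eq_bot]
    rintro _ ⟨s, rfl⟩
    exact hD s
  refine ⟨fun x y => ?_⟩
  have hx : x ∈ (⊥ : Submodule S Ω[S⁄R']) := htop ▸ Submodule.mem_top
  have hy : y ∈ (⊥ : Submodule S Ω[S⁄R']) := htop ▸ Submodule.mem_top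
  rw [(Submodule.mem_bot S).1 hx, (Submodule.mem_bot S).1 hy]

end Groth.Agent.H2.KaehlerChange

namespace Groth.Agent.H2.KaehlerChange

open KaehlerDifferential

/-- If the universal `R'`-derivation of `S` kills the image of `R` and kills a family `s` whose
`R`-differentials span `Ω[S⁄R]`, then `Ω[S⁄R'] = 0`. -/
theorem subsingleton_of_span (R R' S : Type*) [CommRing R] [CommRing R']
    [CommRing S] [Algebra R S] [Algebra R' S]
    (h : ∀ r : R, KaehlerDifferential.D R' S (algebraMap R S r) = 0) {ι : Type*} (s : ι → S)
    (hs : Submodule.span S (Set.range fun i => KaehlerDifferential.D R S (s i)) = ⊤)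
    (h0 : ∀ i, KaehlerDifferential.D R' S (s i) = 0) :
    Subsingleton Ω[S⁄R'] := by
  haveI : SMulCommClass R' R S := ⟨fun r' r s => by
    simp only [Algebra.smul_def]
    ring⟩
  let D : Derivation R S Ω[S⁄R'] :=
    { toFun := fun s => KaehlerDifferential.D R' S s
      map_add' := fun x y => map_add _ x y
      map_smul' := fun r s => by
        simp only [RingHom.id_apply]
        rw [Algebra.smul_def, Derivation.leibniz, h r, smul_zero, add_zero,
          algebraMap_smul]
      map_one_eq_zero' := Derivation.map_one_eq_zero _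
      leibniz' := fun a b => Derivation.leibniz _ a b }
  have hlift : D.liftKaehlerDifferential = 0 := by
    apply LinearMap.ext_on_range (v := fun i => KaehlerDifferential.D R S (s i)) hs
    intro i
    have h1 : D.liftKaehlerDifferential (KaehlerDifferential.D R S (s i)) = D (s i) :=
      Derivation.liftKaehlerDifferential_comp_D D (s i)
    rw [h1, LinearMap.zero_apply]
    exact h0 i
  have hD : ∀ t : S, KaehlerDifferential.D R' S t = 0 := by
    intro t
    have h1 : D.liftKaehlerDifferential (KaehlerDifferential.D R S t) = D t :=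
      Derivation.liftKaehlerDifferential_comp_D D t
    have h3 : D t = KaehlerDifferential.D R' S t := rfl
    rw [← h3, ← h1, hlift, LinearMap.zero_apply]
  have htop : (⊤ : Submodule S Ω[S⁄R']) = ⊥ := by
    rw [← KaehlerDifferential.span_range_derivation, Submodule.span_eq_bot]
    rintro _ ⟨t, rfl⟩
    exact hD t
  refine ⟨fun x y => ?_⟩
  have hx : x ∈ (⊥ : Submodule S Ω[S⁄R']) := htop ▸ Submodule.mem_top
  have hy : y ∈ (⊥ : Submodule S Ω[S⁄R']) := htop ▸ Submodule.mem_top
  rw [(Submodule.mem_bot S).1 hx, (Submodule.mem_bot S).1 hy]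

end Groth.Agent.H2.KaehlerChange
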