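import Mathlib

/-! A finite type algebra `A → B` in characteristic `p` with `B^{p^s} ⊆ im A` and `Ω_{B/A} = 0` is
surjective. -/

namespace Groth.Agent.H2.PIU

open TensorProduct KaehlerDifferential

variable (p : ℕ) [Fact p.Prime] {A B : Type*} [CommRing A] [CommRing B] [Algebra A B] [CharP B p]

include p in
/-- The generators `1 ⊗ b - b ⊗ 1` of the diagonal ideal are nilpotent. -/
lemma isNilpotent_one_tmul_sub (s : ℕ) (hpow : ∀ b : B, b ^ p ^ s ∈ Set.range (algebraMap A B))
    (b : B) : IsNilpotent ((1 : B) ⊗ₜ[A] b - b ⊗ₜ[A] (1 : B)) := by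
  have hp : (p : ℕ).Prime := Fact.out
  have hp0 : ((p : ℕ) : B ⊗[A] B) = 0 := by
    have h1 : ((p : ℕ) : B ⊗[A] B) = ((p : ℕ) : B) ⊗ₜ[A] (1 : B) := by
      rw [← map_natCast (Algebra.TensorProduct.includeLeft : B →ₐ[A] B ⊗[A] B)]
      rfl
    rw [h1, CharP.cast_eq_zero, TensorProduct.zero_tmul]
  refine ⟨p ^ s, ?_⟩
  obtain ⟨a, ha⟩ := hpow b
  obtain ⟨r, hr⟩ := (Commute.all ((1 : B) ⊗ₜ[A] b) (-(b ⊗ₜ[A] (1 : B)))).exists_add_pow_prime_pow_eq
    hp s
  have hneg : (-(b ⊗ₜ[A] (1 : B))) ^ p ^ s = -((b ⊗ₜ[A] (1 : B)) ^ p ^ s) := by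
    rcases hp.eq_two_or_odd' with h2 | hodd
    · -- characteristic two: `-x = x`
      have h2' : (2 : B ⊗[A] B) = 0 := by
        have := hp0
        rw [h2] at this
        exact_mod_cast this
      have hnegx : ∀ y : B ⊗[A] B, -y = y := fun y => by
        rw [neg_eq_iff_add_eq_zero, ← two_mul, h2', zero_mul]
      rw [hnegx, hnegx]
    · exact (hodd.pow).neg_pow _
  rw [sub_eq_add_neg, hr, hp0, zero_mul, zero_mul, zero_mul, add_zero, hneg,
    Algebra.TensorProduct.tmul_pow, Algebra.TensorProduct.tmul_pow, one_pow, ← ha]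
  rw [Algebra.algebraMap_eq_smul_one, TensorProduct.tmul_smul, ← TensorProduct.smul_tmul']
  exact add_neg_cancel _

include p in
/-- **Purely inseparable + unramified + finite type ⇒ surjective.** -/
theorem surjective_algebraMap [Algebra.FiniteType A B] (s : ℕ)
    (hpow : ∀ b : B, b ^ p ^ s ∈ Set.range (algebraMap A B)) [Subsingleton (Ω[B⁄A])] :
    Function.Surjective (algebraMap A B) := by
  have hp : (p : ℕ).Prime := Fact.out
  -- the diagonal ideal vanishes
  have hI : KaehlerDifferential.ideal A B = ⊥ := by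
    have hidem : IsIdempotentElem (KaehlerDifferential.ideal A B) :=
      (Ideal.cotangent_subsingleton_iff _).1 (inferInstanceAs (Subsingleton (Ω[B⁄A])))
    obtain ⟨e, he, heq⟩ := (Ideal.isIdempotentElem_iff_of_fg _
      (KaehlerDifferential.ideal_fg A B)).1 hidem
    have hle : KaehlerDifferential.ideal A B ≤ nilradical (B ⊗[A] B) := by
      rw [← KaehlerDifferential.span_range_eq_ideal, Ideal.span_le]
      rintro _ ⟨b, rfl⟩
      exact isNilpotent_one_tmul_sub p s hpow b
    have hemem : e ∈ KaehlerDifferential.ideal A B := by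
      rw [heq]
      exact Submodule.mem_span_singleton_self e
    obtain ⟨n, hn⟩ : IsNilpotent e := hle hemem
    have he0 : e = 0 := by
      rcases n with _ | n
      · rw [pow_zero] at hn
        have : Subsingleton (B ⊗[A] B) := subsingleton_of_zero_eq_one hn.symm
        exact Subsingleton.elim _ _
      · rw [he.pow_succ_eq] at hn
        exact hn
    rw [heq, he0]
    simp
  -- hence `B` is an epimorphic `A`-algebra
  have hepi : Algebra.IsEpi A B := by
    refine ⟨?_⟩
    have hinj : Function.Injective (Algebra.TensorProduct.lmul' A : B ⊗[A] B →ₐ[A] B) := by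
      rw [injective_iff_map_eq_zero]
      intro x hx
      have : x ∈ KaehlerDifferential.ideal A B := hx
      rw [hI] at this
      exact this
    intro x y hxy
    apply hinj
    exact hxy
  -- `B` is finite over `A`
  haveI : Algebra.IsIntegral A B := ⟨fun b => by
    obtain ⟨a, ha⟩ := hpow b
    refine ⟨Polynomial.X ^ p ^ s - Polynomial.C a,
      Polynomial.monic_X_pow_sub_C _ (pow_ne_zero _ hp.ne_zero), ?_⟩
    simp [ha]⟩
  haveI : Module.Finite A B := Algebra.IsIntegral.finite
  exact Algebra.isEpi_iff_surjective_algebraMap_of_finite.1 hepi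

end Groth.Agent.H2.PIU
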