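import Groth.Prelude.Def_EGA41
import Groth.Agent.Lib.Helper2.KaehlerChange
import Groth.Agent.Lib.Helper2.PurelyInsepUnram

/-! `p`-generators: algebra generation over `A[B^p]`, reduced monomials, and differentials. -/

universe u

namespace Groth.Agent.H2.PGen

open EGA41 KaehlerDifferential

variable (p : ℕ) [Fact p.Prime] {A B : Type u} [CommRing A] [CommRing B] [Algebra A B]
  {ι : Type u} (x : ι → B)

lemma pow_p_mem (b : B) : b ^ p ∈ pPowerSubalgebra p A B :=
  Algebra.subset_adjoin ⟨b, rfl⟩

lemma pMonomial_zero : pMonomial x (0 : ι →₀ ℕ) = 1 := by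
  simp [pMonomial]

lemma pMonomial_add (e f : ι →₀ ℕ) : pMonomial x (e + f) = pMonomial x e * pMonomial x f := by
  unfold pMonomial
  exact Finsupp.prod_add_index' (fun i => pow_zero _) (fun i m n => pow_add _ _ _)

lemma pMonomial_single (i : ι) (n : ℕ) : pMonomial x (Finsupp.single i n) = x i ^ n := by
  unfold pMonomial
  exact Finsupp.prod_single_index (pow_zero _)

/-- The `A[B^p]`-span of the reduced monomials. -/
noncomputable def redSpan : Submodule (pPowerSubalgebra p A B) B :=
  Submodule.span (pPowerSubalgebra p A B)
    (Set.range fun e : {e : ι →₀ ℕ // ∀ i, e i < p} => pMonomial x e.1)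

lemma isPGenerating_iff : IsPGenerating p A x ↔ redSpan (A := A) p x = ⊤ := Iff.rfl

lemma mul_mem_redSpan (i : ι) (b : B) (hb : b ∈ redSpan (A := A) p x) :
    x i * b ∈ redSpan (A := A) p x := by
  classical
  have hp : 0 < p := (Fact.out : p.Prime).pos
  induction hb using Submodule.span_induction with
  | mem y hy =>
    obtain ⟨⟨e, he⟩, rfl⟩ := hy
    by_cases h : e i + 1 < p
    · refine Submodule.subset_span ⟨⟨e + Finsupp.single i 1, fun j => ?_⟩, ?_⟩
      · by_cases hj : j = i
        · subst hj
          simpa using h
        · simpa [Finsupp.single_apply, Ne.symm hj] using he j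
      · show pMonomial x (e + Finsupp.single i 1) = x i * pMonomial x e
        rw [pMonomial_add, pMonomial_single, pow_one, mul_comm]
    · have hei : e i + 1 = p := by
        have := he i
        omega
      have hdecomp : e = e.erase i + Finsupp.single i (e i) := (Finsupp.erase_add_single i e).symm
      have h1 : x i * pMonomial x e = x i ^ p * pMonomial x (e.erase i) := by
        conv_lhs => rw [hdecomp, pMonomial_add, pMonomial_single]
        rw [← hei, pow_succ]
        ring
      show x i * pMonomial x e ∈ redSpan (A := A) p x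
      rw [h1]
      have h2 : x i ^ p * pMonomial x (e.erase i) =
          (⟨x i ^ p, pow_p_mem p (x i)⟩ : pPowerSubalgebra p A B) • pMonomial x (e.erase i) := rfl
      rw [h2]
      refine Submodule.smul_mem _ _ (Submodule.subset_span ⟨⟨e.erase i, fun j => ?_⟩, rfl⟩)
      by_cases hj : j = i
      · subst hj
        simpa using hp
      · rw [Finsupp.erase_ne hj]
        exact he j
  | zero => rw [mul_zero]; exact Submodule.zero_mem _
  | add y z _ _ hy hz => rw [mul_add]; exact Submodule.add_mem _ hy hz
  | smul c y _ hy =>
    have : x i * (c • y) = c • (x i * y) := by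
      rw [Algebra.smul_def, Algebra.smul_def]
      ring
    rw [this]
    exact Submodule.smul_mem _ _ hy

lemma one_mem_redSpan : (1 : B) ∈ redSpan (A := A) p x := by
  refine Submodule.subset_span ⟨⟨0, fun i => (Fact.out : p.Prime).pos⟩, ?_⟩
  exact pMonomial_zero x

/-- (a) ⟺ (b). -/
theorem adjoin_eq_top_iff :
    Algebra.adjoin (pPowerSubalgebra p A B) (Set.range x) = ⊤ ↔ IsPGenerating p A x := by
  rw [isPGenerating_iff]
  constructor
  · intro h
    rw [eq_top_iff]
    intro b _
    have hb : b ∈ Subalgebra.toSubmodule (Algebra.adjoin (pPowerSubalgebra p A B) (Set.range x)) := by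
      rw [h]
      exact (Algebra.mem_top : b ∈ (⊤ : Subalgebra (pPowerSubalgebra p A B) B))
    rw [Algebra.adjoin_eq_span (R := pPowerSubalgebra p A B) (A := B)] at hb
    refine Submodule.span_le.2 ?_ hb
    intro m hm
    induction hm using Submonoid.closure_induction_left with
    | one => exact one_mem_redSpan p x
    | mul_left y hy z _ hz =>
      obtain ⟨i, rfl⟩ := hy
      exact mul_mem_redSpan p x i z hz
  · intro h
    rw [eq_top_iff]
    intro b _
    have hb : b ∈ redSpan (A := A) p x := by
      rw [h]
      exact Submodule.mem_top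
    have hle : redSpan (A := A) p x ≤
        Subalgebra.toSubmodule (Algebra.adjoin (pPowerSubalgebra p A B) (Set.range x)) := by
      refine Submodule.span_le.2 ?_
      rintro _ ⟨⟨e, -⟩, rfl⟩
      show pMonomial x e ∈ Algebra.adjoin (pPowerSubalgebra p A B) (Set.range x)
      unfold pMonomial
      refine Subalgebra.prod_mem _ (fun i _ => ?_)
      exact Subalgebra.pow_mem _ (Algebra.subset_adjoin (Set.mem_range_self i)) _
    exact hle hb

section Diff

variable [CharP B p]

/-- The universal derivation kills `A[B^p]`. -/
lemma D_eq_zero_of_mem (c : B) (hc : c ∈ pPowerSubalgebra p A B) :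
    KaehlerDifferential.D A B c = 0 := by
  induction hc using Algebra.adjoin_induction with
  | mem y hy =>
    obtain ⟨b, rfl⟩ := hy
    rw [Derivation.leibniz_pow, ← Nat.cast_smul_eq_nsmul B, CharP.cast_eq_zero, zero_smul]
  | algebraMap a => exact Derivation.map_algebraMap _ a
  | add y z _ _ hy hz => rw [map_add, hy, hz, add_zero]
  | mul y z _ _ hy hz => rw [Derivation.leibniz, hy, hz, smul_zero, smul_zero, add_zero]

/-- The differential of any monomial lies in the span of the `d x_i`. -/
lemma D_pMonomial_mem (e : ι →₀ ℕ) :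
    KaehlerDifferential.D A B (pMonomial x e) ∈
      Submodule.span B (Set.range fun i => KaehlerDifferential.D A B (x i)) := by
  classical
  induction e using Finsupp.induction with
  | zero =>
    rw [pMonomial_zero, Derivation.map_one_eq_zero]
    exact Submodule.zero_mem _
  | single_add i n f _ _ ih =>
    rw [pMonomial_add, pMonomial_single, Derivation.leibniz, Derivation.leibniz_pow]
    refine Submodule.add_mem _ (Submodule.smul_mem _ _ ih) (Submodule.smul_mem _ _ ?_)
    refine Submodule.smul_of_tower_mem _ n (Submodule.smul_mem _ _ ?_)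
    exact Submodule.subset_span ⟨i, rfl⟩

/-- (b) ⟹ (c). -/
theorem span_D_eq_top_of_isPGenerating (h : IsPGenerating p A x) :
    Submodule.span B (Set.range fun i => KaehlerDifferential.D A B (x i)) = ⊤ := by
  rw [eq_top_iff, ← KaehlerDifferential.span_range_derivation, Submodule.span_le]
  rintro _ ⟨b, rfl⟩
  have hb : b ∈ redSpan (A := A) p x := by
    rw [(isPGenerating_iff p x).1 h]
    exact Submodule.mem_top
  show KaehlerDifferential.D A B b ∈ _
  induction hb using Submodule.span_induction with
  | mem y hy =>
    obtain ⟨⟨e, -⟩, rfl⟩ := hy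
    exact D_pMonomial_mem x e
  | zero => rw [map_zero]; exact Submodule.zero_mem _
  | add y z _ _ hy hz => rw [map_add]; exact Submodule.add_mem _ hy hz
  | smul c y _ hy =>
    have h1 : c • y = (c : B) * y := rfl
    rw [h1, Derivation.leibniz, D_eq_zero_of_mem p c.1 c.2, smul_zero, add_zero]
    exact Submodule.smul_mem _ _ hy

/-- (c) ⟹ (a) when `B` is of finite type over `A[B^p]`. -/
theorem isPGenerating_of_span_D_eq_top [Algebra.FiniteType (pPowerSubalgebra p A B) B]
    (h : Submodule.span B (Set.range fun i => KaehlerDifferential.D A B (x i)) = ⊤) :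
    IsPGenerating p A x := by
  rw [← adjoin_eq_top_iff]
  set C := Algebra.adjoin (pPowerSubalgebra p A B) (Set.range x) with hC
  haveI : Algebra.FiniteType C B :=
    Algebra.FiniteType.of_restrictScalars_finiteType (pPowerSubalgebra p A B) C B
  have hPC : ∀ c : B, c ∈ pPowerSubalgebra p A B → c ∈ C := fun c hc =>
    Subalgebra.algebraMap_mem C (⟨c, hc⟩ : pPowerSubalgebra p A B)
  haveI : Subsingleton Ω[B⁄C] := by
    refine Groth.Agent.H2.KaehlerChange.subsingleton_of_span A C B ?_ x h ?_
    · intro a
      have : algebraMap A B a = algebraMap C B ⟨algebraMap A B a,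
          hPC _ (Subalgebra.algebraMap_mem _ a)⟩ := rfl
      rw [this, Derivation.map_algebraMap]
    · intro i
      have : x i = algebraMap C B ⟨x i, Algebra.subset_adjoin (Set.mem_range_self i)⟩ := rfl
      rw [this, Derivation.map_algebraMap]
  have hsurj := Groth.Agent.H2.PIU.surjective_algebraMap p (A := C) (B := B) 1 (fun b => by
    rw [pow_one]
    exact ⟨⟨b ^ p, hPC _ (pow_p_mem p b)⟩, rfl⟩)
  rw [eq_top_iff]
  intro b _
  obtain ⟨c, rfl⟩ := hsurj b
  exact c.2

end Diff

end Groth.Agent.H2.PGen
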