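import Mathlib

set_option autoImplicit false
set_option linter.unusedSectionVars false
set_option linter.style.haveILetI false

/-! Constructible topology on spectral spaces: helper lemmas. -/

namespace Groth.Agent.H2.ConsTop

open Topology Set

variable {Y : Type*} [TopologicalSpace Y]

/-- open in the constructible topology -/
def CO (s : Set Y) : Prop := IsOpen[constructibleTopology Y] s
/-- closed in the constructible topology -/
def CC (s : Set Y) : Prop := IsClosed[constructibleTopology Y] s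

lemma cc_iff {s : Set Y} : CC s ↔ CO sᶜ := (@isOpen_compl_iff Y s (constructibleTopology Y)).symm

lemma co_iff {s : Set Y} : CO s ↔ CC sᶜ := by rw [cc_iff, compl_compl]

lemma CO.union {s t : Set Y} (hs : CO s) (ht : CO t) : CO (s ∪ t) :=
  by letI := constructibleTopology Y; exact IsOpen.union hs ht

lemma CO.inter {s t : Set Y} (hs : CO s) (ht : CO t) : CO (s ∩ t) :=
  by letI := constructibleTopology Y; exact IsOpen.inter hs ht

lemma CO.sUnion {S : Set (Set Y)} (h : ∀ s ∈ S, CO s) : CO (⋃₀ S) :=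
  @isOpen_sUnion Y (constructibleTopology Y) S h

lemma CC.sInter {S : Set (Set Y)} (h : ∀ s ∈ S, CC s) : CC (⋂₀ S) :=
  @isClosed_sInter Y (constructibleTopology Y) S h

lemma CC.inter {s t : Set Y} (hs : CC s) (ht : CC t) : CC (s ∩ t) :=
  by letI := constructibleTopology Y; exact IsClosed.inter hs ht

lemma CC.union {s t : Set Y} (hs : CC s) (ht : CC t) : CC (s ∪ t) :=
  by letI := constructibleTopology Y; exact IsClosed.union hs ht

lemma co_of_isCompact_isOpen {s : Set Y} (hc : IsCompact s) (ho : IsOpen s) : CO s :=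
  hc.isOpen_constructibleTopology_of_isOpen ho

lemma cc_of_isCompact_isOpen {s : Set Y} (hc : IsCompact s) (ho : IsOpen s) : CC s := by
  rw [cc_iff]
  exact IsCompact.isOpen_constructibleTopology_of_isClosed (by rwa [compl_compl]) ho.isClosed_compl

section compact
variable [CompactSpace Y]

lemma co_and_cc_of_isConstructible {s : Set Y} (hs : IsConstructible s) : CO s ∧ CO sᶜ := by
  induction hs using IsConstructible.empty_union_induction with
  | open_retrocompact U hU hU' =>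
    have hc : IsCompact U := by simpa using hU' isCompact_univ isOpen_univ
    exact ⟨co_of_isCompact_isOpen hc hU, cc_iff.mp (cc_of_isCompact_isOpen hc hU)⟩
  | union s hs t ht ihs iht =>
    refine ⟨ihs.1.union iht.1, ?_⟩
    rw [compl_union]
    exact ihs.2.inter iht.2
  | compl s hs ih =>
    refine ⟨ih.2, ?_⟩
    rw [compl_compl]
    exact ih.1

lemma co_of_isConstructible {s : Set Y} (hs : IsConstructible s) : CO s :=
  (co_and_cc_of_isConstructible hs).1

lemma cc_of_isConstructible {s : Set Y} (hs : IsConstructible s) : CC s :=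
  cc_iff.mpr (co_and_cc_of_isConstructible hs).2

end compact

section spectral
variable [CompactSpace Y] [QuasiSober Y] [PrespectralSpace Y] [QuasiSeparatedSpace Y]

lemma compactSpace_cons : @CompactSpace Y (constructibleTopology Y) :=
  @Function.Surjective.compactSpace (WithConstructibleTopology Y) Y _ (constructibleTopology Y)
    WithTopology.ofTopology (WithTopology.continuous_ofTopology _) _
    (WithTopology.ofTopology_surjective _)

/-- Compactness: if `⋂ C ⊆ ⋃ O` with `C` cons-closed, `O` cons-open, finitely many suffice. -/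
lemma exists_finite_of_sInter_subset_sUnion {𝒞 𝒪 : Set (Set Y)} (h𝒞 : ∀ s ∈ 𝒞, CC s)
    (h𝒪 : ∀ s ∈ 𝒪, CO s) (h : ⋂₀ 𝒞 ⊆ ⋃₀ 𝒪) :
    ∃ 𝒞' 𝒪' : Set (Set Y), 𝒞' ⊆ 𝒞 ∧ 𝒪' ⊆ 𝒪 ∧ 𝒞'.Finite ∧ 𝒪'.Finite ∧ ⋂₀ 𝒞' ⊆ ⋃₀ 𝒪' := by
  have hcpt : @IsCompact Y (constructibleTopology Y) univ :=
    (@isCompact_univ Y (constructibleTopology Y) compactSpace_cons)
  let 𝒰 : Set (Set Y) := (compl '' 𝒞) ∪ 𝒪
  have h𝒰 : ∀ s ∈ 𝒰, CO s := by
    rintro s (⟨c, hc, rfl⟩ | hs)
    · exact cc_iff.mp (h𝒞 c hc)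
    · exact h𝒪 s hs
  have hcov : (univ : Set Y) ⊆ ⋃₀ 𝒰 := by
    intro y _
    by_cases hy : y ∈ ⋂₀ 𝒞
    · obtain ⟨o, ho, hyo⟩ := h hy
      exact ⟨o, Or.inr ho, hyo⟩
    · rw [mem_sInter] at hy
      push Not at hy
      obtain ⟨c, hc, hyc⟩ := hy
      exact ⟨cᶜ, Or.inl ⟨c, hc, rfl⟩, hyc⟩
  obtain ⟨𝒱, h𝒱sub, h𝒱fin, h𝒱cov⟩ : ∃ b' ⊆ 𝒰, b'.Finite ∧ (univ : Set Y) ⊆ ⋃ i ∈ b', id i := by
    letI := constructibleTopology Y
    exact IsCompact.elim_finite_subcover_image (b := 𝒰) (c := id) hcpt (fun s hs => h𝒰 s hs)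
      (by simpa [sUnion_eq_biUnion] using hcov)
  refine ⟨{c ∈ 𝒞 | cᶜ ∈ 𝒱}, 𝒱 ∩ 𝒪, fun c hc => hc.1, inter_subset_right, ?_, h𝒱fin.inter_of_left _, ?_⟩
  · refine (h𝒱fin.preimage (f := compl) (compl_injective.injOn)).subset ?_
    intro c hc
    exact hc.2
  · intro y hy
    have hy' : y ∈ ⋃ i ∈ 𝒱, id i := h𝒱cov (mem_univ y)
    simp only [mem_iUnion, id, exists_prop] at hy'
    obtain ⟨v, hv, hyv⟩ := hy'
    rcases h𝒱sub hv with ⟨c, hc, rfl⟩ | ho
    · exact absurd (hy c ⟨hc, hv⟩) hyv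
    · exact ⟨v, ⟨hv, ho⟩, hyv⟩

end spectral

lemma isConstructible_of_mem_subbasis [CompactSpace Y] [QuasiSeparatedSpace Y] {s : Set Y}
    (hs : s ∈ constructibleTopologySubbasis Y) : IsConstructible s := by
  rcases hs with hs | hs
  · exact hs.2.isConstructible hs.1
  · have := hs.2.isConstructible hs.1.isOpen_compl
    rwa [isConstructible_compl] at this

/-- cons-open sets are unions of constructible sets. -/
lemma CO.exists_isConstructible [CompactSpace Y] [QuasiSeparatedSpace Y] {s : Set Y} (hs : CO s) {y : Y} (hy : y ∈ s) :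
    ∃ C : Set Y, IsConstructible C ∧ y ∈ C ∧ C ⊆ s := by
  have hb := @TopologicalSpace.isTopologicalBasis_of_subbasis Y (constructibleTopology Y)
    (constructibleTopologySubbasis Y) rfl
  obtain ⟨C, ⟨f, ⟨hf, hfs⟩, rfl⟩, hyC, hCs⟩ :=
    (@TopologicalSpace.IsTopologicalBasis.exists_subset_of_mem_open Y (constructibleTopology Y) _ hb
      y s hy hs)
  exact ⟨_, IsConstructible.sInter hf (fun t ht => isConstructible_of_mem_subbasis (hfs ht)), hyC, hCs⟩

/-- cons-closed sets are intersections of constructible sets. -/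
lemma CC.exists_isConstructible [CompactSpace Y] [QuasiSeparatedSpace Y] {s : Set Y} (hs : CC s) {y : Y} (hy : y ∉ s) :
    ∃ C : Set Y, IsConstructible C ∧ y ∉ C ∧ s ⊆ C := by
  obtain ⟨C, hC, hyC, hCs⟩ := (cc_iff.mp hs).exists_isConstructible (y := y) hy
  exact ⟨Cᶜ, hC.compl, fun h => h hyC, fun z hz hzC => hCs hzC hz⟩

lemma CC.eq_sInter [CompactSpace Y] [QuasiSeparatedSpace Y] {s : Set Y} (hs : CC s) :
    s = ⋂₀ {C : Set Y | IsConstructible C ∧ s ⊆ C} := by
  apply subset_antisymm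
  · intro y hy C hC
    exact hC.2 hy
  · intro y hy
    by_contra hys
    obtain ⟨C, hC, hyC, hsC⟩ := hs.exists_isConstructible hys
    exact hyC (hy C ⟨hC, hsC⟩)

lemma CO.eq_sUnion [CompactSpace Y] [QuasiSeparatedSpace Y] {s : Set Y} (hs : CO s) :
    s = ⋃₀ {C : Set Y | IsConstructible C ∧ C ⊆ s} := by
  apply subset_antisymm
  · intro y hy
    obtain ⟨C, hC, hyC, hCs⟩ := hs.exists_isConstructible hy
    exact ⟨C, ⟨hC, hCs⟩, hyC⟩
  · rintro y ⟨C, hC, hyC⟩
    exact hC.2 hyC

section spectral2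
variable [CompactSpace Y] [QuasiSober Y] [PrespectralSpace Y] [QuasiSeparatedSpace Y]

/-- cons-clopen sets are constructible. -/
lemma isConstructible_of_co_of_cc {s : Set Y} (ho : CO s) (hc : CC s) : IsConstructible s := by
  have h := exists_finite_of_sInter_subset_sUnion (𝒞 := {s})
    (𝒪 := {C : Set Y | IsConstructible C ∧ C ⊆ s}) (by rintro _ rfl; exact hc)
    (fun C hC => co_of_isConstructible hC.1) (by rw [sInter_singleton]; exact ho.eq_sUnion.subset)
  obtain ⟨𝒞', 𝒪', h𝒞', h𝒪', -, hfin, hsub⟩ := h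
  have hs : s = ⋃₀ 𝒪' := by
    apply subset_antisymm
    · refine subset_trans ?_ hsub
      intro y hy t ht
      rw [h𝒞' ht]
      exact hy
    · rintro y ⟨C, hC, hyC⟩
      exact (h𝒪' hC).2 hyC
  rw [hs]
  exact IsConstructible.sUnion hfin (fun C hC => (h𝒪' hC).1)

end spectral2

/-- The constructible topology of a `T0` prespectral space is Hausdorff. -/
lemma t2_cons [T0Space Y] [PrespectralSpace Y] : @T2Space Y (constructibleTopology Y) := by
  refine @T2Space.mk Y (constructibleTopology Y) (fun x y hxy => ?_)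
  obtain ⟨U, hU, hxor⟩ := exists_isOpen_xor_mem hxy
  rcases hxor with ⟨hx, hy⟩ | ⟨hy, hx⟩
  · obtain ⟨W, ⟨hWo, hWc⟩, hxW, hWU⟩ :=
      (PrespectralSpace.isTopologicalBasis (X := Y)).exists_subset_of_mem_open hx hU
    exact ⟨W, Wᶜ, co_of_isCompact_isOpen hWc hWo, cc_iff.mp (cc_of_isCompact_isOpen hWc hWo),
      hxW, fun h => hy (hWU h), disjoint_compl_right⟩
  · obtain ⟨W, ⟨hWo, hWc⟩, hyW, hWU⟩ :=
      (PrespectralSpace.isTopologicalBasis (X := Y)).exists_subset_of_mem_open hy hU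
    exact ⟨Wᶜ, W, cc_iff.mp (cc_of_isCompact_isOpen hWc hWo), co_of_isCompact_isOpen hWc hWo,
      fun h => hx (hWU h), hyW, disjoint_compl_left⟩

/-- A spectral map is continuous for the constructible topologies. -/
lemma continuous_cons {Y₁ Y₂ : Type*} [TopologicalSpace Y₁] [TopologicalSpace Y₂] {g : Y₁ → Y₂}
    (hg : IsSpectralMap g) :
    @Continuous Y₁ Y₂ (constructibleTopology Y₁) (constructibleTopology Y₂) g := by
  show @Continuous Y₁ Y₂ (constructibleTopology Y₁)
    (TopologicalSpace.generateFrom (constructibleTopologySubbasis Y₂)) g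
  apply (continuous_generateFrom_iff (t := constructibleTopology Y₁)).mpr
  rintro s (hs | hs)
  · show CO (g ⁻¹' s)
    exact co_of_isCompact_isOpen (hg.isCompact_preimage_of_isOpen hs.1 hs.2)
      (hs.1.preimage hg.continuous)
  · have h1 : IsOpen (g ⁻¹' sᶜ) := hs.1.isOpen_compl.preimage hg.continuous
    have h2 : IsCompact (g ⁻¹' sᶜ) := hg.isCompact_preimage_of_isOpen hs.1.isOpen_compl hs.2
    have := cc_iff.mp (cc_of_isCompact_isOpen h2 h1)
    rw [preimage_compl, compl_compl] at this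
    show CO (g ⁻¹' s)
    exact this

/-- The image of a cons-closed set under a spectral map of spectral spaces is cons-closed. -/
lemma CC.image {Y₁ Y₂ : Type*} [TopologicalSpace Y₁] [TopologicalSpace Y₂]
    [CompactSpace Y₁] [QuasiSober Y₁] [PrespectralSpace Y₁] [QuasiSeparatedSpace Y₁]
    [T0Space Y₂] [PrespectralSpace Y₂] {g : Y₁ → Y₂} (hg : IsSpectralMap g) {K : Set Y₁}
    (hK : CC K) : CC (g '' K) := by
  have hcs := compactSpace_cons (Y := Y₁)
  have ht2 := t2_cons (Y := Y₂)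
  have hcont := continuous_cons hg
  letI := constructibleTopology Y₁
  letI := constructibleTopology Y₂
  haveI := hcs
  haveI := ht2
  have h1 : IsCompact K := IsClosed.isCompact hK
  exact (h1.image hcont).isClosed

section spectral3
variable [CompactSpace Y] [QuasiSober Y] [PrespectralSpace Y] [QuasiSeparatedSpace Y]

/-- The closure of a cons-closed set is the set of specializations of its points. -/
lemma CC.exists_specializes_of_mem_closure {K : Set Y} (hK : CC K) {y : Y} (hy : y ∈ closure K) :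
    ∃ k ∈ K, k ⤳ y := by
  let 𝒞 : Set (Set Y) := insert K {W | IsOpen W ∧ IsCompact W ∧ y ∈ W}
  have h𝒞 : ∀ s ∈ 𝒞, CC s := by
    rintro s (rfl | hs)
    · exact hK
    · exact cc_of_isCompact_isOpen hs.2.1 hs.1
  by_contra hcon
  push Not at hcon
  have hempty : ⋂₀ 𝒞 ⊆ ⋃₀ (∅ : Set (Set Y)) := by
    intro k hk
    exfalso
    have hkK : k ∈ K := hk K (mem_insert _ _)
    apply hcon k hkK
    rw [specializes_iff_forall_open]
    intro O hO hyO
    obtain ⟨W, ⟨hWo, hWc⟩, hyW, hWO⟩ :=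
      (PrespectralSpace.isTopologicalBasis (X := Y)).exists_subset_of_mem_open hyO hO
    exact hWO (hk W (mem_insert_of_mem _ ⟨hWo, hWc, hyW⟩))
  obtain ⟨𝒞', 𝒪', h𝒞', h𝒪', hfin, -, hsub⟩ :=
    exists_finite_of_sInter_subset_sUnion h𝒞 (by simp) hempty
  have h𝒪'e : 𝒪' = ∅ := subset_empty_iff.mp h𝒪'
  -- the finite intersection of the open members
  let 𝒲 : Set (Set Y) := 𝒞' \ {K}
  have h𝒲 : ∀ W ∈ 𝒲, IsOpen W ∧ y ∈ W := by
    rintro W ⟨hW, hWK⟩
    rcases h𝒞' hW with rfl | h
    · exact absurd rfl hWK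
    · exact ⟨h.1, h.2.2⟩
  have hN : IsOpen (⋂₀ 𝒲) := (hfin.subset diff_subset).isOpen_sInter (fun W hW => (h𝒲 W hW).1)
  have hyN : y ∈ ⋂₀ 𝒲 := fun W hW => (h𝒲 W hW).2
  obtain ⟨k, hkN, hkK⟩ := mem_closure_iff.mp hy _ hN hyN
  have : k ∈ ⋂₀ 𝒞' := by
    intro s hs
    by_cases hsK : s = K
    · rw [hsK]; exact hkK
    · exact hkN s ⟨hs, hsK⟩
  have := hsub this
  rw [h𝒪'e, sUnion_empty] at this
  exact this


end spectral3

/-- open sets of a prespectral space are cons-open -/
lemma co_of_isOpen [PrespectralSpace Y] {s : Set Y} (hs : IsOpen s) : CO s := by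
  have : s = ⋃₀ {W : Set Y | (IsOpen W ∧ IsCompact W) ∧ W ⊆ s} := by
    apply subset_antisymm
    · intro y hy
      obtain ⟨W, hW, hyW, hWs⟩ :=
        (PrespectralSpace.isTopologicalBasis (X := Y)).exists_subset_of_mem_open hy hs
      exact ⟨W, ⟨hW, hWs⟩, hyW⟩
    · rintro y ⟨W, hW, hyW⟩
      exact hW.2 hyW
  rw [this]
  exact CO.sUnion (fun W hW => co_of_isCompact_isOpen hW.1.2 hW.1.1)


end Groth.Agent.H2.ConsTop
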