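import Mathlib
import Groth.Prelude.Def_ProCons
import Groth.Agent.Lib.Helper2.ConsTop

set_option autoImplicit false
set_option linter.unusedSectionVars false
set_option linter.style.haveILetI false

/-! Pro/ind-constructible sets versus the constructible topology on spectral open subspaces. -/

namespace Groth.Agent.H2.ProConsLib

open Topology Set Groth.Agent.H2.ConsTop
open scoped Set.Notation

variable {X : Type*} [TopologicalSpace X]

/-- The piece of a locally constructible subset `T` of `U` lying in a compact open `W ⊆ U ∩ V`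
is constructible in `V`. -/
lemma isConstructible_piece {U V W : Set X} (hU : IsOpen U) (hV : IsOpen V) (hW : IsOpen W)
    (hWc : IsCompact W) (hWU : W ⊆ U) (hWV : W ⊆ V) [PrespectralSpace V] [QuasiSeparatedSpace V]
    {T : Set U} (hT : IsLocallyConstructible T) :
    IsConstructible {v : V | v.1 ∈ W ∧ ∃ h : v.1 ∈ U, (⟨v.1, h⟩ : U) ∈ T} := by
  have eU : IsOpenEmbedding (inclusion hWU) :=
    IsOpenEmbedding.inclusion hWU (hW.preimage continuous_subtype_val)
  have eV : IsOpenEmbedding (inclusion hWV) :=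
    IsOpenEmbedding.inclusion hWV (hW.preimage continuous_subtype_val)
  haveI : PrespectralSpace W := eV.prespectralSpace
  haveI : QuasiSeparatedSpace W := eV.quasiSeparatedSpace
  haveI : CompactSpace W := isCompact_iff_compactSpace.mp hWc
  have h1 : IsLocallyConstructible (inclusion hWU ⁻¹' T) := hT.preimage_of_isOpenEmbedding eU
  have h2 : IsConstructible (inclusion hWU ⁻¹' T) := h1.isConstructible
  have hrange : range (inclusion hWV) = V ↓∩ W := by
    ext v
    simp only [mem_range, mem_preimage]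
    constructor
    · rintro ⟨w, rfl⟩; exact w.2
    · intro hv; exact ⟨⟨v.1, hv⟩, rfl⟩
  have hcpt : IsCompact (V ↓∩ W) := by
    rw [← hrange, ← image_univ]
    exact isCompact_univ.image eV.continuous
  have h3 : IsRetrocompact (range (inclusion hWV)) := by
    rw [hrange]
    exact hcpt.isRetrocompact (hW.preimage continuous_subtype_val)
  have h4 := h2.image_of_isOpenEmbedding eV h3
  convert h4 using 1
  ext v
  simp only [mem_setOf_eq, mem_image, mem_preimage]
  constructor
  · rintro ⟨hvW, hvU, hvT⟩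
    exact ⟨⟨v.1, hvW⟩, hvT, rfl⟩
  · rintro ⟨w, hwT, rfl⟩
    exact ⟨w.2, hWU w.2, hwT⟩

section spectralOpen
variable {V : Set X} (hV : IsOpen V) [CompactSpace V] [QuasiSober V] [PrespectralSpace V]
  [QuasiSeparatedSpace V]

include hV in
/-- An ind-constructible set restricted to a spectral open subspace is cons-open. -/
lemma co_of_isIndConstructible {E : Set X} (hE : ProCons.IsIndConstructible E) :
    CO (V ↓∩ E) := by
  have key : ∀ v ∈ V ↓∩ E, ∃ C : Set V, CO C ∧ v ∈ C ∧ C ⊆ V ↓∩ E := by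
    intro v hv
    obtain ⟨U, hU, hvU, S, hS, hES⟩ := hE v.1
    -- compact open W of V with v ∈ W ⊆ U
    obtain ⟨W', ⟨hW'o, hW'c⟩, hvW', hW'U⟩ :=
      (PrespectralSpace.isTopologicalBasis (X := V)).exists_subset_of_mem_open
        (show v ∈ V ↓∩ U from hvU) (hU.preimage continuous_subtype_val)
    let W : Set X := Subtype.val '' W'
    have hW : IsOpen W := hV.isOpenMap_subtype_val W' hW'o
    have hWc : IsCompact W := hW'c.image continuous_subtype_val
    have hWV : W ⊆ V := by rintro _ ⟨w, _, rfl⟩; exact w.2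
    have hWU : W ⊆ U := by rintro _ ⟨w, hw, rfl⟩; exact hW'U hw
    have hvE : (⟨v.1, hvU⟩ : U) ∈ Subtype.val ⁻¹' E := hv
    rw [hES] at hvE
    obtain ⟨T, hTS, hvT⟩ := hvE
    refine ⟨{v : V | v.1 ∈ W ∧ ∃ h : v.1 ∈ U, (⟨v.1, h⟩ : U) ∈ T},
      co_of_isConstructible (isConstructible_piece hU hV hW hWc hWU hWV (hS T hTS)),
      ⟨⟨v, hvW', rfl⟩, hvU, hvT⟩, ?_⟩
    rintro z ⟨-, hzU, hzT⟩
    have : (⟨z.1, hzU⟩ : U) ∈ Subtype.val ⁻¹' E := by rw [hES]; exact ⟨T, hTS, hzT⟩
    exact this
  have : V ↓∩ E = ⋃₀ {C : Set V | CO C ∧ C ⊆ V ↓∩ E} := by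
    apply subset_antisymm
    · intro v hv
      obtain ⟨C, hC, hvC, hCE⟩ := key v hv
      exact ⟨C, ⟨hC, hCE⟩, hvC⟩
    · rintro v ⟨C, hC, hvC⟩
      exact hC.2 hvC
  rw [this]
  exact CO.sUnion (fun C hC => hC.1)

include hV in
/-- A pro-constructible set restricted to a spectral open subspace is cons-closed. -/
lemma cc_of_isProConstructible {F : Set X} (hF : ProCons.IsProConstructible F) :
    CC (V ↓∩ F) := by
  rw [cc_iff]
  have key : ∀ v ∈ (V ↓∩ F)ᶜ, ∃ C : Set V, CO C ∧ v ∈ C ∧ C ⊆ (V ↓∩ F)ᶜ := by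
    intro v hv
    obtain ⟨U, hU, hvU, S, hS, hFS⟩ := hF v.1
    obtain ⟨W', ⟨hW'o, hW'c⟩, hvW', hW'U⟩ :=
      (PrespectralSpace.isTopologicalBasis (X := V)).exists_subset_of_mem_open
        (show v ∈ V ↓∩ U from hvU) (hU.preimage continuous_subtype_val)
    let W : Set X := Subtype.val '' W'
    have hW : IsOpen W := hV.isOpenMap_subtype_val W' hW'o
    have hWc : IsCompact W := hW'c.image continuous_subtype_val
    have hWV : W ⊆ V := by rintro _ ⟨w, _, rfl⟩; exact w.2
    have hWU : W ⊆ U := by rintro _ ⟨w, hw, rfl⟩; exact hW'U hw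
    have hvF : (⟨v.1, hvU⟩ : U) ∉ Subtype.val ⁻¹' F := hv
    rw [hFS, mem_sInter] at hvF
    push Not at hvF
    obtain ⟨T, hTS, hvT⟩ := hvF
    have hcons := isConstructible_piece hU hV hW hWc hWU hWV (hS T hTS)
    refine ⟨W' \ {v : V | v.1 ∈ W ∧ ∃ h : v.1 ∈ U, (⟨v.1, h⟩ : U) ∈ T}, ?_, ⟨hvW', ?_⟩, ?_⟩
    · exact (co_of_isCompact_isOpen hW'c hW'o).inter (cc_iff.mp (cc_of_isConstructible hcons))
    · rintro ⟨-, h, hT⟩
      exact hvT hT
    · rintro z ⟨hzW', hz⟩ hzF
      apply hz
      have hzU : z.1 ∈ U := hW'U hzW'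
      refine ⟨⟨z, hzW', rfl⟩, hzU, ?_⟩
      have : (⟨z.1, hzU⟩ : U) ∈ Subtype.val ⁻¹' F := hzF
      rw [hFS] at this
      exact this T hTS
  have : (V ↓∩ F)ᶜ = ⋃₀ {C : Set V | CO C ∧ C ⊆ (V ↓∩ F)ᶜ} := by
    apply subset_antisymm
    · intro v hv
      obtain ⟨C, hC, hvC, hCE⟩ := key v hv
      exact ⟨C, ⟨hC, hCE⟩, hvC⟩
    · rintro v ⟨C, hC, hvC⟩
      exact hC.2 hvC
  rw [this]
  exact CO.sUnion (fun C hC => hC.1)

end spectralOpen

end Groth.Agent.H2.ProConsLib

namespace Groth.Agent.H2.ProConsLib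

open Topology Set Groth.Agent.H2.ConsTop AlgebraicGeometry
open scoped Set.Notation

universe u

/-- The underlying space of an affine open is spectral. -/
lemma spectral_of_isAffineOpen {X : Scheme.{u}} {V : X.Opens} (hV : IsAffineOpen V) :
    CompactSpace ↥(V : Set X) ∧ QuasiSober ↥(V : Set X) ∧ PrespectralSpace ↥(V : Set X) ∧
      QuasiSeparatedSpace ↥(V : Set X) := by
  have e : IsOpenEmbedding (Subtype.val : ↥(V : Set X) → X) := V.2.isOpenEmbedding_subtypeVal
  refine ⟨isCompact_iff_compactSpace.mp hV.isCompact, ?_, e.prespectralSpace, ?_⟩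
  · exact e.quasiSober
  · exact (isQuasiSeparated_iff_quasiSeparatedSpace (V : Set X) V.2).mp hV.isQuasiSeparated

/-- Every point of a scheme has an affine open neighbourhood inside a given open. -/
lemma exists_affine_nhd {X : Scheme.{u}} (x : X) {U : Set X} (hU : IsOpen U) (hx : x ∈ U) :
    ∃ V : X.Opens, IsAffineOpen V ∧ x ∈ V ∧ (V : Set X) ⊆ U := by
  obtain ⟨_, ⟨V, hV, rfl⟩, hxV, hVU⟩ :=
    (X.isBasis_affineOpens).exists_subset_of_mem_open hx hU
  exact ⟨V, hV, hxV, hVU⟩

lemma isProConstructible_preimage {X Y : Scheme.{u}} (f : X ⟶ Y) {T : Set Y}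
    (hT : ProCons.IsProConstructible T) : ProCons.IsProConstructible (f.base ⁻¹' T) := by
  intro x
  obtain ⟨V, hV, hxV, -⟩ := exists_affine_nhd (f.base x) isOpen_univ (Set.mem_univ _)
  obtain ⟨i1, i2, i3, i4⟩ := spectral_of_isAffineOpen hV
  have hcc := cc_of_isProConstructible V.isOpen hT
  have heq := hcc.eq_sInter
  let g := f ∣_ V
  refine ⟨((f ⁻¹ᵁ V : X.Opens) : Set X), (f ⁻¹ᵁ V).2, hxV,
    (fun C => g.base ⁻¹' C) '' {C : Set ↥(V : Set Y) | IsConstructible C ∧ (V : Set Y) ↓∩ T ⊆ C}, ?_, ?_⟩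
  · rintro _ ⟨C, hC, rfl⟩
    exact (g.isConstructible_preimage hC.1).isLocallyConstructible
  · ext u
    have hgu : (g u).1 = f u.1 := morphismRestrict_base_coe f V u
    have h1 : u ∈ (Subtype.val ⁻¹' (f.base ⁻¹' T) : Set ↥((f ⁻¹ᵁ V : X.Opens) : Set X)) ↔
        g u ∈ (V : Set Y) ↓∩ T := by
      show f u.1 ∈ T ↔ (g u).1 ∈ T
      rw [hgu]
    constructor
    · intro hu
      have := h1.mp hu
      rintro _ ⟨C, hC, rfl⟩
      exact hC.2 this
    · intro hu
      apply h1.mpr
      rw [heq]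
      intro C hC
      exact hu _ ⟨C, hC, rfl⟩

lemma isIndConstructible_preimage {X Y : Scheme.{u}} (f : X ⟶ Y) {T : Set Y}
    (hT : ProCons.IsIndConstructible T) : ProCons.IsIndConstructible (f.base ⁻¹' T) := by
  intro x
  obtain ⟨V, hV, hxV, -⟩ := exists_affine_nhd (f.base x) isOpen_univ (Set.mem_univ _)
  obtain ⟨i1, i2, i3, i4⟩ := spectral_of_isAffineOpen hV
  have hco := co_of_isIndConstructible V.isOpen hT
  have heq := hco.eq_sUnion
  let g := f ∣_ V
  refine ⟨((f ⁻¹ᵁ V : X.Opens) : Set X), (f ⁻¹ᵁ V).2, hxV,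
    (fun C => g.base ⁻¹' C) '' {C : Set ↥(V : Set Y) | IsConstructible C ∧ C ⊆ (V : Set Y) ↓∩ T}, ?_, ?_⟩
  · rintro _ ⟨C, hC, rfl⟩
    exact (g.isConstructible_preimage hC.1).isLocallyConstructible
  · ext u
    have hgu : (g u).1 = f u.1 := morphismRestrict_base_coe f V u
    have h1 : u ∈ (Subtype.val ⁻¹' (f.base ⁻¹' T) : Set ↥((f ⁻¹ᵁ V : X.Opens) : Set X)) ↔
        g u ∈ (V : Set Y) ↓∩ T := by
      show f u.1 ∈ T ↔ (g u).1 ∈ T
      rw [hgu]
    constructor
    · intro hu
      have := h1.mp hu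
      rw [heq] at this
      obtain ⟨C, hC, hgC⟩ := this
      exact ⟨_, ⟨C, hC, rfl⟩, hgC⟩
    · rintro ⟨_, ⟨C, hC, rfl⟩, hgC⟩
      exact h1.mpr (hC.2 hgC)


lemma isProConstructible_of_cc {X : Scheme.{u}} {E : Set X}
    (h : ∀ x : X, ∃ V : X.Opens, IsAffineOpen V ∧ x ∈ V ∧ CC ((V : Set X) ↓∩ E)) :
    ProCons.IsProConstructible E := by
  intro x
  obtain ⟨V, hV, hxV, hcc⟩ := h x
  obtain ⟨i1, i2, i3, i4⟩ := spectral_of_isAffineOpen hV
  exact ⟨V, V.isOpen, hxV, {C | IsConstructible C ∧ (V : Set X) ↓∩ E ⊆ C},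
    fun C hC => hC.1.isLocallyConstructible, hcc.eq_sInter⟩

lemma isIndConstructible_of_co {X : Scheme.{u}} {E : Set X}
    (h : ∀ x : X, ∃ V : X.Opens, IsAffineOpen V ∧ x ∈ V ∧ CO ((V : Set X) ↓∩ E)) :
    ProCons.IsIndConstructible E := by
  intro x
  obtain ⟨V, hV, hxV, hco⟩ := h x
  obtain ⟨i1, i2, i3, i4⟩ := spectral_of_isAffineOpen hV
  exact ⟨V, V.isOpen, hxV, {C | IsConstructible C ∧ C ⊆ (V : Set X) ↓∩ E},
    fun C hC => hC.1.isLocallyConstructible, hco.eq_sUnion⟩

/-- the piece of the image coming from an affine open `V'` mapping into the affine open `V`. -/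
lemma cc_image_piece {X' X : Scheme.{u}} (f : X' ⟶ X) {V : X.Opens} (hV : IsAffineOpen V)
    {V' : X'.Opens} (hV' : IsAffineOpen V') (hle : V' ≤ f ⁻¹ᵁ V) {E' : Set X'}
    (hE' : ProCons.IsProConstructible E') :
    CC {v : ↥(V : Set X) | ∃ u ∈ V', u ∈ E' ∧ f u = v.1} := by
  obtain ⟨j1, j2, j3, j4⟩ := spectral_of_isAffineOpen hV'
  let g := f.resLE V V' hle
  haveI : IsAffine V.toScheme := hV
  haveI : IsAffine V'.toScheme := hV'
  haveI : QuasiCompact g := (HasAffineProperty.iff_of_isAffine (P := @QuasiCompact)).mpr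
    (inferInstanceAs (CompactSpace V'.toScheme))
  have hg : IsSpectralMap g := quasiCompact_iff_isSpectralMap.mp inferInstance
  have hK : @CC ↥V'.toScheme _ (Subtype.val ⁻¹' E') := cc_of_isProConstructible V'.isOpen hE'
  have := CC.image (Y₁ := ↥V'.toScheme) (Y₂ := ↥V.toScheme) (g := g) hg hK
  show @CC ↥V.toScheme _ _
  convert this using 1
  ext v
  constructor
  · rintro ⟨u, huV', huE', hfu⟩
    refine ⟨⟨u, huV'⟩, huE', Subtype.ext ?_⟩
    rw [Scheme.Hom.coe_resLE_apply]
    exact hfu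
  · rintro ⟨u, huE', rfl⟩
    exact ⟨u.1, u.2, huE', (Scheme.Hom.coe_resLE_apply f hle u).symm⟩

/-- The image of a pro-constructible set under a quasi-compact morphism, restricted to an affine
open, is cons-closed. -/
lemma cc_image {X' X : Scheme.{u}} (f : X' ⟶ X) [QuasiCompact f] {V : X.Opens} (hV : IsAffineOpen V)
    {E' : Set X'} (hE' : ProCons.IsProConstructible E') :
    CC ((V : Set X) ↓∩ (f '' E')) := by
  have hc : IsCompact (f ⁻¹ᵁ V : Set X') :=
    QuasiCompact.isCompact_preimage _ V.isOpen hV.isCompact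
  obtain ⟨s, hsfin, hs⟩ := isCompact_and_isOpen_iff_finite_and_eq_biUnion_affineOpens.mp
    ⟨hc, (f ⁻¹ᵁ V).isOpen⟩
  have hle : ∀ W ∈ s, (W : X'.Opens) ≤ f ⁻¹ᵁ V := by
    intro W hW u hu
    have : u ∈ ⋃ i ∈ s, ((i : X'.Opens) : Set X') := mem_biUnion hW hu
    rw [← hs] at this
    exact this
  have heq : (V : Set X) ↓∩ (f '' E') =
      ⋃ W ∈ s, {v : ↥(V : Set X) | ∃ u ∈ (W : X'.Opens), u ∈ E' ∧ f u = v.1} := by
    ext v
    simp only [mem_preimage, mem_image, mem_iUnion, mem_setOf_eq, exists_prop]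
    constructor
    · rintro ⟨u, huE', hfu⟩
      have hu : u ∈ (f ⁻¹ᵁ V : Set X') := by
        show f u ∈ V
        rw [hfu]; exact v.2
      rw [hs] at hu
      simp only [mem_iUnion, exists_prop] at hu
      obtain ⟨W, hW, huW⟩ := hu
      exact ⟨W, hW, u, huW, huE', hfu⟩
    · rintro ⟨W, hW, u, huW, huE', hfu⟩
      exact ⟨u, huE', hfu⟩
  rw [heq]
  have : ∀ W ∈ s, CC {v : ↥(V : Set X) | ∃ u ∈ (W : X'.Opens), u ∈ E' ∧ f u = v.1} :=
    fun W hW => cc_image_piece f hV W.2 (hle W hW) hE'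
  exact @Set.Finite.isClosed_biUnion _ _ (constructibleTopology _) s _ hsfin this

lemma isProConstructible_image {X' X : Scheme.{u}} (f : X' ⟶ X) [QuasiCompact f]
    {E' : Set X'} (hE' : ProCons.IsProConstructible E') :
    ProCons.IsProConstructible (f '' E') := by
  apply isProConstructible_of_cc
  intro x
  obtain ⟨V, hV, hxV, -⟩ := exists_affine_nhd x isOpen_univ (Set.mem_univ _)
  exact ⟨V, hV, hxV, cc_image f hV hE'⟩


lemma co_image_piece {X' X : Scheme.{u}} (f : X' ⟶ X) [LocallyOfFinitePresentation f]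
    {V : X.Opens} (hV : IsAffineOpen V)
    {V' : X'.Opens} (hV' : IsAffineOpen V') (hle : V' ≤ f ⁻¹ᵁ V) {E' : Set X'}
    (hE' : ProCons.IsIndConstructible E') :
    CO {v : ↥(V : Set X) | ∃ u ∈ V', u ∈ E' ∧ f u = v.1} := by
  obtain ⟨j1, j2, j3, j4⟩ := spectral_of_isAffineOpen hV'
  let g := f.resLE V V' hle
  haveI : IsAffine V.toScheme := hV
  haveI : IsAffine V'.toScheme := hV'
  haveI : QuasiCompact g := (HasAffineProperty.iff_of_isAffine (P := @QuasiCompact)).mpr
    (inferInstanceAs (CompactSpace V'.toScheme))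
  have hK : @CO ↥V'.toScheme _ (Subtype.val ⁻¹' E') := co_of_isIndConstructible V'.isOpen hE'
  have heq : {v : ↥(V : Set X) | ∃ u ∈ V', u ∈ E' ∧ f u = v.1} =
      ⋃₀ ((fun C : Set ↥V'.toScheme => (g '' C : Set ↥V.toScheme)) ''
        {C : Set ↥V'.toScheme | IsConstructible C ∧ C ⊆ Subtype.val ⁻¹' E'}) := by
    ext v
    constructor
    · rintro ⟨u, huV', huE', hfu⟩
      have hu : (⟨u, huV'⟩ : ↥V'.toScheme) ∈ (Subtype.val ⁻¹' E' : Set ↥V'.toScheme) := huE'
      rw [hK.eq_sUnion] at hu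
      obtain ⟨C, hC, huC⟩ := hu
      refine ⟨_, ⟨C, hC, rfl⟩, ⟨u, huV'⟩, huC, Subtype.ext ?_⟩
      rw [Scheme.Hom.coe_resLE_apply]
      exact hfu
    · rintro ⟨_, ⟨C, hC, rfl⟩, u, huC, rfl⟩
      exact ⟨u.1, u.2, hC.2 huC, (Scheme.Hom.coe_resLE_apply f hle u).symm⟩
  rw [heq]
  show @CO ↥V.toScheme _ _
  apply CO.sUnion
  rintro _ ⟨C, hC, rfl⟩
  exact co_of_isConstructible (g.isConstructible_image hC.1)

lemma co_image {X' X : Scheme.{u}} (f : X' ⟶ X) [LocallyOfFinitePresentation f] {V : X.Opens}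
    (hV : IsAffineOpen V) {E' : Set X'} (hE' : ProCons.IsIndConstructible E') :
    CO ((V : Set X) ↓∩ (f '' E')) := by
  have heq : (V : Set X) ↓∩ (f '' E') =
      ⋃₀ ((fun W : X'.Opens => {v : ↥(V : Set X) | ∃ u ∈ W, u ∈ E' ∧ f u = v.1}) ''
        {W : X'.Opens | IsAffineOpen W ∧ W ≤ f ⁻¹ᵁ V}) := by
    ext v
    constructor
    · rintro ⟨u, huE', hfu⟩
      have hu : u ∈ (f ⁻¹ᵁ V : Set X') := by
        show f u ∈ V
        rw [hfu]; exact v.2
      obtain ⟨W, hW, huW, hWV⟩ := exists_affine_nhd u (f ⁻¹ᵁ V).isOpen hu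
      exact ⟨_, ⟨W, ⟨hW, hWV⟩, rfl⟩, u, huW, huE', hfu⟩
    · rintro ⟨_, ⟨W, hW, rfl⟩, u, huW, huE', hfu⟩
      exact ⟨u, huE', hfu⟩
  rw [heq]
  apply CO.sUnion
  rintro _ ⟨W, hW, rfl⟩
  exact co_image_piece f hV hW.1 hW.2 hE'

lemma isIndConstructible_image {X' X : Scheme.{u}} (f : X' ⟶ X) [LocallyOfFinitePresentation f]
    {E' : Set X'} (hE' : ProCons.IsIndConstructible E') :
    ProCons.IsIndConstructible (f '' E') := by
  apply isIndConstructible_of_co
  intro x
  obtain ⟨V, hV, hxV, -⟩ := exists_affine_nhd x isOpen_univ (Set.mem_univ _)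
  exact ⟨V, hV, hxV, co_image f hV hE'⟩


lemma isIndConstructible_compl {X : Scheme.{u}} {E : Set X} (hE : ProCons.IsProConstructible E) :
    ProCons.IsIndConstructible Eᶜ := by
  apply isIndConstructible_of_co
  intro x
  obtain ⟨V, hV, hxV, -⟩ := exists_affine_nhd x isOpen_univ (Set.mem_univ _)
  obtain ⟨i1, i2, i3, i4⟩ := spectral_of_isAffineOpen hV
  exact ⟨V, hV, hxV, cc_iff.mp (cc_of_isProConstructible V.isOpen hE)⟩

lemma isProConstructible_compl {X : Scheme.{u}} {E : Set X} (hE : ProCons.IsIndConstructible E) :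
    ProCons.IsProConstructible Eᶜ := by
  apply isProConstructible_of_cc
  intro x
  obtain ⟨V, hV, hxV, -⟩ := exists_affine_nhd x isOpen_univ (Set.mem_univ _)
  obtain ⟨i1, i2, i3, i4⟩ := spectral_of_isAffineOpen hV
  refine ⟨V, hV, hxV, ?_⟩
  have := co_iff.mp (co_of_isIndConstructible V.isOpen hE)
  exact this

lemma isLocallyConstructible_iff {X : Scheme.{u}} {E : Set X} :
    IsLocallyConstructible E ↔ ProCons.IsIndConstructible E ∧ ProCons.IsProConstructible E := by
  constructor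
  · intro hE
    have hloc : Topology.IsLocallyConstructible (Subtype.val ⁻¹' E : Set ↥(Set.univ : Set X)) :=
      hE.preimage_of_isOpenEmbedding isOpen_univ.isOpenEmbedding_subtypeVal
    refine ⟨fun x => ⟨Set.univ, isOpen_univ, Set.mem_univ x, {Subtype.val ⁻¹' E}, ?_, ?_⟩,
      fun x => ⟨Set.univ, isOpen_univ, Set.mem_univ x, {Subtype.val ⁻¹' E}, ?_, ?_⟩⟩
    · rintro T rfl; exact hloc
    · rw [Set.sUnion_singleton]
    · rintro T rfl; exact hloc
    · rw [Set.sInter_singleton]
  · rintro ⟨hind, hpro⟩ x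
    obtain ⟨V, hV, hxV, -⟩ := exists_affine_nhd x isOpen_univ (Set.mem_univ x)
    obtain ⟨i1, i2, i3, i4⟩ := spectral_of_isAffineOpen hV
    refine ⟨(V : Set X), V.2.mem_nhds hxV, V.2, ?_⟩
    exact isConstructible_of_co_of_cc (co_of_isIndConstructible V.2 hind)
      (cc_of_isProConstructible V.2 hpro)


/-- In a scheme, a point of the closure of a pro-constructible set is a specialization of a point
of the set. -/
lemma exists_specializes_of_mem_closure {X : Scheme.{u}} {Z : Set X}
    (hZ : ProCons.IsProConstructible Z) {x : X} (hx : x ∈ closure Z) : ∃ z ∈ Z, z ⤳ x := by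
  obtain ⟨V, hV, hxV, -⟩ := exists_affine_nhd x isOpen_univ (Set.mem_univ _)
  obtain ⟨i1, i2, i3, i4⟩ := spectral_of_isAffineOpen hV
  have hcc := cc_of_isProConstructible V.isOpen hZ
  have hcl : (⟨x, hxV⟩ : ↥(V : Set X)) ∈ closure ((V : Set X) ↓∩ Z) := by
    rw [← V.isOpen.isOpenEmbedding_subtypeVal.isOpenMap.preimage_closure_eq_closure_preimage
      continuous_subtype_val]
    exact hx
  obtain ⟨k, hkZ, hk⟩ := hcc.exists_specializes_of_mem_closure hcl
  exact ⟨k.1, hkZ, hk.map continuous_subtype_val⟩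

/-- Every point of a scheme has a maximal generization. -/
lemma exists_maximal_generization {X : Scheme.{u}} (x : X) :
    ∃ ξ : X, ξ ⤳ x ∧ ∀ y : X, y ⤳ ξ → y = ξ := by
  have hirr := isIrreducible_irreducibleComponent (x := x)
  have hcl := isClosed_irreducibleComponent (x := x)
  refine ⟨hirr.genericPoint, ?_, ?_⟩
  · have hgen := hirr.isGenericPoint_genericPoint_closure
    rw [hcl.closure_eq] at hgen
    rw [specializes_iff_mem_closure, hgen.def]
    exact mem_irreducibleComponent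
  · intro y hy
    have hgen := hirr.isGenericPoint_genericPoint_closure
    rw [hcl.closure_eq] at hgen
    have h1 : irreducibleComponent x ⊆ closure {y} := by
      rw [← hgen.def]
      exact (hy.closure_subset : closure {hirr.genericPoint} ⊆ closure {y})
    have h2 : closure {y} = irreducibleComponent x :=
      eq_irreducibleComponent isIrreducible_singleton.closure.isPreirreducible h1
    have hy' : IsGenericPoint y (irreducibleComponent x) := h2
    exact hy'.eq hgen


lemma isProConstructible_singleton {X : Scheme.{u}} (y : X) : ProCons.IsProConstructible {y} := by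
  apply isProConstructible_of_cc
  intro x
  obtain ⟨V, hV, hxV, -⟩ := exists_affine_nhd x isOpen_univ (Set.mem_univ _)
  obtain ⟨i1, i2, i3, i4⟩ := spectral_of_isAffineOpen hV
  refine ⟨V, hV, hxV, ?_⟩
  by_cases hy : y ∈ V
  · have : (V : Set X) ↓∩ {y} = {(⟨y, hy⟩ : ↥(V : Set X))} := by
      ext v
      simp only [mem_preimage, mem_singleton_iff]
      exact ⟨fun h => Subtype.ext h, fun h => by rw [h]⟩
    rw [this]
    have ht2 := t2_cons (Y := ↥(V : Set X))
    exact @isClosed_singleton _ (constructibleTopology _) (@T2Space.t1Space _ (constructibleTopology _) ht2) _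
  · have : (V : Set X) ↓∩ {y} = ∅ := by
      ext v
      simp only [mem_preimage, mem_singleton_iff, mem_empty_iff_false, iff_false]
      intro h
      exact hy (h ▸ v.2)
    rw [this]
    exact @isClosed_empty _ (constructibleTopology _)


open CategoryTheory IsLocalRing in
set_option backward.isDefEq.respectTransparency.types false in
lemma exists_valuationRing_of_specializes {Y : Scheme.{u}} {y' y : Y} (h : y' ⤳ y) :
    ∃ (V : Type u) (_ : CommRing V) (_ : IsDomain V) (_ : ValuationRing V)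
      (g : Spec (CommRingCat.of V) ⟶ Y),
      g (IsLocalRing.closedPoint V) = y ∧ g (⟨⊥, Ideal.isPrime_bot⟩ : PrimeSpectrum V) = y' := by
  let φ : Y.presheaf.stalk y ⟶ Y.residueField y' := Y.presheaf.stalkSpecializes h ≫ Y.residue y'
  obtain ⟨A, hA, hA_local⟩ := IsLocalRing.exists_factor_valuationRing φ.hom
  let ψ : Y.presheaf.stalk y ⟶ CommRingCat.of A := CommRingCat.ofHom (φ.hom.codRestrict _ hA)
  refine ⟨A, inferInstance, inferInstance, inferInstance, Spec.map ψ ≫ Y.fromSpecStalk y, ?_, ?_⟩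
  · have : Spec.map ψ (closedPoint A) = closedPoint (Y.presheaf.stalk y) :=
      comap_closedPoint (S := A) (φ.hom.codRestrict A.toSubring hA)
    rw [Scheme.Hom.comp_apply, this, Y.fromSpecStalk_closedPoint]
  · have w : Y.fromSpecResidueField y' =
        Spec.map (CommRingCat.ofHom (algebraMap A (Y.residueField y'))) ≫
          Spec.map ψ ≫ Y.fromSpecStalk y := by
      rw [Scheme.fromSpecResidueField, ← Scheme.SpecMap_stalkSpecializes_fromSpecStalk h]
      simp_rw [← Spec.map_comp_assoc]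
      rfl
    have hgen : Spec.map (CommRingCat.ofHom (algebraMap A (Y.residueField y')))
        (closedPoint (Y.residueField y')) = (⟨⊥, Ideal.isPrime_bot⟩ : PrimeSpectrum A) := by
      apply PrimeSpectrum.ext
      show Ideal.comap (algebraMap A (Y.residueField y')) (maximalIdeal (Y.residueField y')) = ⊥
      rw [IsLocalRing.maximalIdeal_eq_bot, ← RingHom.ker_eq_comap_bot,
        (RingHom.injective_iff_ker_eq_bot _).mp]
      exact Subtype.val_injective
    have h2 := Y.fromSpecResidueField_apply y' (closedPoint (Y.residueField y'))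
    rw [w, Scheme.Hom.comp_apply, hgen] at h2
    exact h2


lemma isIndConstructible_of_isOpen {X : Scheme.{u}} {U : Set X} (hU : IsOpen U) :
    ProCons.IsIndConstructible U := by
  apply isIndConstructible_of_co
  intro x
  obtain ⟨V, hV, hxV, -⟩ := exists_affine_nhd x isOpen_univ (Set.mem_univ _)
  obtain ⟨i1, i2, i3, i4⟩ := spectral_of_isAffineOpen hV
  exact ⟨V, hV, hxV, co_of_isOpen (hU.preimage continuous_subtype_val)⟩


open CategoryTheory IsLocalRing

/-- the generic point of the spectrum of a domain has no proper generization -/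
lemma eq_bot_of_specializes_bot {V : Type u} [CommRing V] [IsDomain V] {z : PrimeSpectrum V}
    (h : z ⤳ (⟨⊥, Ideal.isPrime_bot⟩ : PrimeSpectrum V)) : z = ⟨⊥, Ideal.isPrime_bot⟩ := by
  rw [← PrimeSpectrum.le_iff_specializes] at h
  exact PrimeSpectrum.ext (le_bot_iff.mp h)

/-- the closed point of a local ring has no proper specialization -/
lemma eq_closedPoint_of_specializes {V : Type u} [CommRing V] [IsLocalRing V] {z : PrimeSpectrum V}
    (h : closedPoint V ⤳ z) : z = closedPoint V := by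
  rw [← PrimeSpectrum.le_iff_specializes] at h
  exact PrimeSpectrum.ext (le_antisymm (IsLocalRing.le_maximalIdeal z.2.ne_top) h)

/-- A morphism of spectra of valuation rings hitting the generic and the closed point is
surjective. -/
lemma surjective_of_valuationRing {V V' : Type u} [CommRing V] [IsDomain V] [ValuationRing V]
    [CommRing V'] [IsDomain V'] [ValuationRing V']
    (b : Spec (CommRingCat.of V') ⟶ Spec (CommRingCat.of V))
    (h1 : b (closedPoint V') = closedPoint V)
    (h2 : b (⟨⊥, Ideal.isPrime_bot⟩ : PrimeSpectrum V') = (⟨⊥, Ideal.isPrime_bot⟩ : PrimeSpectrum V)) :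
    Function.Surjective b := by
  obtain ⟨β, rfl⟩ := Spec.map_surjective b
  let β' : V →+* V' := β.hom
  have hb : ∀ p : PrimeSpectrum V', (Spec.map β) p = PrimeSpectrum.comap β' p := fun p => rfl
  have hinj : Function.Injective β' := by
    rw [RingHom.injective_iff_ker_eq_bot, RingHom.ker_eq_comap_bot]
    have := congrArg PrimeSpectrum.asIdeal ((hb _).symm.trans h2)
    exact this
  have hloc : IsLocalHom β' := by
    have := congrArg PrimeSpectrum.asIdeal ((hb _).symm.trans h1)
    exact (IsLocalRing.local_hom_TFAE β').out 4 0 |>.mp this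
  letI : Algebra V V' := β'.toAlgebra
  have halg : ∀ v : V, algebraMap V V' v = β' v := fun v => rfl
  haveI : Module.Flat V V' := by
    rw [Module.Flat.flat_iff_torsion_eq_bot_of_isBezout, Submodule.eq_bot_iff]
    intro x hx
    rw [Submodule.mem_torsion_iff] at hx
    obtain ⟨⟨v, hv⟩, hvx⟩ := hx
    have hv0 : v ≠ 0 := nonZeroDivisors.ne_zero hv
    have : β' v * x = 0 := by
      have : v • x = 0 := hvx
      rwa [Algebra.smul_def] at this
    rcases mul_eq_zero.mp this with h | h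
    · exact absurd ((map_eq_zero_iff β' hinj).mp h) hv0
    · exact h
  haveI : IsLocalHom (algebraMap V V') := hloc
  haveI : Module.FaithfullyFlat V V' := Module.FaithfullyFlat.of_flat_of_isLocalHom
  exact PrimeSpectrum.comap_surjective_of_faithfullyFlat (A := V) (B := V')


end Groth.Agent.H2.ProConsLib
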