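import Mathlib

set_option autoImplicit false
universe u

open AlgebraicGeometry CategoryTheory TopologicalSpace

namespace Groth.Agent.H2

/-- The subscheme associated to an ideal sheaf all of whose ideals are radical is reduced. -/
theorem isReduced_subscheme_of_isRadical {X : Scheme.{u}} (I : X.IdealSheafData)
    (h : ∀ U : X.affineOpens, (I.ideal U).IsRadical) : IsReduced I.subscheme := by
  have : ∀ U : X.affineOpens, IsReduced (I.subschemeCover.openCover.X U) := by
    intro U
    change IsReduced (Spec (.of <| Γ(X, U) ⧸ I.ideal U))
    have : _root_.IsReduced (Γ(X, U) ⧸ I.ideal U) :=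
      (Ideal.isRadical_iff_quotient_reduced _).mp (h U)
    infer_instance
  exact IsReduced.of_openCover _ I.subschemeCover.openCover

/-- The kernel of a morphism from a reduced scheme is a radical ideal sheaf. -/
theorem isRadical_ker_ideal {X Y : Scheme.{u}} (f : X ⟶ Y) [IsReduced X] (U : Y.affineOpens) :
    (f.ker.ideal U).IsRadical := by
  have hle : f.ker.radical ≤ f.ker := by
    refine Scheme.IdealSheafData.le_ofIdeals_iff.mpr fun V ↦ ?_
    rw [Scheme.IdealSheafData.radical_ideal]
    have hrad : (RingHom.ker (f.app V).hom).IsRadical := by
      intro x hx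
      obtain ⟨n, hn⟩ := hx
      rw [RingHom.mem_ker, map_pow] at hn
      exact (RingHom.mem_ker).mpr (IsReduced.eq_zero _ ⟨n, hn⟩)
    exact (Ideal.radical_mono (f.ideal_ker_le V)).trans hrad.radical.le
  have := hle U
  rw [Scheme.IdealSheafData.radical_ideal] at this
  exact this

theorem isReduced_image {X Y : Scheme.{u}} (f : X ⟶ Y) [IsReduced X] : IsReduced f.image :=
  isReduced_subscheme_of_isRadical _ (isRadical_ker_ideal f)

theorem irreducibleSpace_image {X Y : Scheme.{u}} (f : X ⟶ Y) [QuasiCompact f]
    [IrreducibleSpace X] : IrreducibleSpace f.image := by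
  have hd : DenseRange f.toImage := f.toImage.denseRange
  have : PreirreducibleSpace f.image := by
    constructor
    have := (IrreducibleSpace.isIrreducible_univ X).image f.toImage
      f.toImage.continuous.continuousOn
    rw [Set.image_univ] at this
    have h2 := this.closure
    rw [hd.closure_range] at h2
    exact h2.isPreirreducible
  have hne : Nonempty f.image := (inferInstance : Nonempty X).map f.toImage
  exact { toPreirreducibleSpace := this, toNonempty := hne }

end Groth.Agent.H2
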