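import Mathlib

/-! Open morphisms of schemes are generalizing (going down holds), helper2. -/

set_option autoImplicit false
universe u

open CategoryTheory AlgebraicGeometry Topology

namespace Groth.Agent.H2.OpenGen

/-- If `Spec B → Spec A` is open then it is generalizing. -/
theorem comap_generalizingMap_of_isOpenMap {A B : Type u} [CommRing A] [CommRing B]
    (φ : A →+* B) (h : IsOpenMap (PrimeSpectrum.comap φ)) :
    GeneralizingMap (PrimeSpectrum.comap φ) := by
  intro q p' hp'
  -- `p' ⤳ comap φ q`, i.e. `p'.asIdeal ≤ (comap φ q).asIdeal`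
  rw [← PrimeSpectrum.le_iff_specializes] at hp'
  -- the multiplicative set
  let S : Submonoid B := q.asIdeal.primeCompl ⊔ (p'.asIdeal.primeCompl.map φ)
  have hdisj : Disjoint (Ideal.map φ p'.asIdeal : Set B) (S : Set B) := by
    rw [Set.disjoint_left]
    rintro b hb hbS
    obtain ⟨g, hg, c, hc, rfl⟩ := Submonoid.mem_sup.mp hbS
    obtain ⟨a, ha, rfl⟩ := hc
    -- `p'` lies in the image of `D(g)`
    have hopen := h _ (PrimeSpectrum.basicOpen g).isOpen
    have hq : PrimeSpectrum.comap φ q ∈ PrimeSpectrum.comap φ '' (PrimeSpectrum.basicOpen g : Set _) :=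
      ⟨q, hg, rfl⟩
    have hp'mem := hopen.stableUnderGeneralization
      ((PrimeSpectrum.le_iff_specializes _ _).mp hp') hq
    obtain ⟨q'', hq''g, hq''⟩ := hp'mem
    have hle : Ideal.map φ p'.asIdeal ≤ q''.asIdeal := by
      rw [Ideal.map_le_iff_le_comap, ← hq'']
      exact le_rfl
    have := hle hb
    rcases q''.isPrime.mem_or_mem this with h1 | h1
    · exact hq''g h1
    · have : a ∈ (PrimeSpectrum.comap φ q'').asIdeal := h1
      rw [hq''] at this
      exact ha this
  obtain ⟨Q, hQ, hQle, hQdisj⟩ := Ideal.exists_le_prime_disjoint _ S hdisj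
  refine ⟨⟨Q, hQ⟩, ?_, ?_⟩
  · change (⟨Q, hQ⟩ : PrimeSpectrum B) ⤳ q
    rw [← PrimeSpectrum.le_iff_specializes]
    intro b hb
    by_contra hbq
    exact Set.disjoint_left.mp hQdisj hb (SetLike.le_def.mp le_sup_left hbq)
  · apply PrimeSpectrum.ext
    apply le_antisymm
    · intro a ha
      by_contra hap
      exact Set.disjoint_left.mp hQdisj ha
        (SetLike.le_def.mp le_sup_right (Submonoid.mem_map.mpr ⟨a, hap, rfl⟩))
    · intro a ha
      exact hQle (Ideal.mem_map_of_mem φ ha)

/-- An open morphism of schemes is generalizing. -/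
theorem generalizingMap_of_isOpenMap {X Y : Scheme.{u}} (f : X ⟶ Y) (hf : IsOpenMap f.base) :
    GeneralizingMap f.base := by
  change topologically GeneralizingMap f
  have hf' : topologically IsOpenMap f := hf
  clear hf
  wlog hY : ∃ R, Y = Spec R generalizing X Y
  · rw [IsZariskiLocalAtTarget.iff_of_openCover (P := topologically GeneralizingMap) Y.affineCover]
    intro i
    dsimp only [Scheme.Cover.pullbackHom]
    refine this _ ?_ ⟨_, rfl⟩
    exact IsZariskiLocalAtTarget.of_isPullback (P := topologically IsOpenMap)
      (iY := Y.affineCover.f i) (IsPullback.of_hasPullback ..) hf'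
  obtain ⟨R, rfl⟩ := hY
  wlog hX : ∃ S, X = Spec S generalizing X
  · rw [IsZariskiLocalAtSource.iff_of_openCover (P := topologically GeneralizingMap) X.affineCover]
    intro i
    refine this _ ?_ ⟨_, rfl⟩
    exact IsZariskiLocalAtSource.comp (P := topologically IsOpenMap) hf' _
  obtain ⟨S, rfl⟩ := hX
  obtain ⟨φ, rfl⟩ := Spec.map_surjective f
  exact comap_generalizingMap_of_isOpenMap φ.hom hf'

end Groth.Agent.H2.OpenGen

namespace Groth.Agent.H2.OpenGen

/-- If strict upward steps lift along a surjective map `g : α → β`, then `dim β ≤ dim α`. -/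
theorem krullDim_le_of_lift {α β : Type*} [Preorder α] [Preorder β] (g : α → β)
    (hs : Function.Surjective g)
    (hl : ∀ a b, g a < b → ∃ a', a < a' ∧ g a' = b) : Order.krullDim β ≤ Order.krullDim α := by
  have key : ∀ p : LTSeries β, ∃ q : LTSeries α, q.length = p.length ∧ g q.last = p.last := by
    intro p
    induction p using RelSeries.inductionOn' with
    | singleton b =>
      obtain ⟨a, rfl⟩ := hs b
      exact ⟨RelSeries.singleton _ a, by simp, by simp⟩
    | snoc p b h ih =>
      obtain ⟨q, hlen, hlast⟩ := ih
      obtain ⟨a', ha', hga'⟩ := hl q.last b (by rw [hlast]; exact h)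
      exact ⟨q.snoc a' ha', by simp [hlen], by simp [hga']⟩
  rw [Order.krullDim]
  apply iSup_le
  intro p
  obtain ⟨q, hlen, -⟩ := key p
  rw [← hlen]
  exact Order.LTSeries.length_le_krullDim q

attribute [local instance] specializationOrder in
theorem topologicalKrullDim_eq_krullDim (T : Type*) [TopologicalSpace T] [QuasiSober T]
    [T0Space T] : topologicalKrullDim T = Order.krullDim T :=
  Order.krullDim_eq_of_orderIso irreducibleSetEquivPoints

attribute [local instance] specializationOrder in
/-- A surjective continuous generalizing map between sober spaces does not raise dimension. -/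
theorem topologicalKrullDim_le_of_generalizingMap {S T : Type*} [TopologicalSpace S]
    [TopologicalSpace T] [QuasiSober S] [T0Space S] [QuasiSober T] [T0Space T] (g : S → T)
    (hc : Continuous g) (hs : Function.Surjective g) (hg : GeneralizingMap g) :
    topologicalKrullDim T ≤ topologicalKrullDim S := by
  rw [topologicalKrullDim_eq_krullDim, topologicalKrullDim_eq_krullDim]
  apply krullDim_le_of_lift g hs
  intro a b hab
  obtain ⟨a', ha', rfl⟩ := hg (show b ⤳ g a from hab.le)
  refine ⟨a', lt_of_le_not_ge ha' ?_, rfl⟩
  intro h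
  exact hab.not_ge ((show a ⤳ a' from h).map hc)

theorem topologicalKrullDim_range_le {X Y : Scheme.{u}} (f : X ⟶ Y) (hf : IsOpenMap f.base) :
    topologicalKrullDim ↥(Set.range f.base) ≤ topologicalKrullDim ↥X := by
  have hopen : IsOpen (Set.range f.base) := hf.isOpen_range
  have : QuasiSober ↥(Set.range f.base) := hopen.isOpenEmbedding_subtypeVal.quasiSober
  apply topologicalKrullDim_le_of_generalizingMap (Set.rangeFactorization f.base)
  · exact f.continuous.subtype_mk _
  · exact Set.rangeFactorization_surjective
  · intro x y hy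
    have hy' : (y : Y) ⤳ f.base x := (subtype_specializes_iff _ _).mp hy
    obtain ⟨x', hx', hfx'⟩ := generalizingMap_of_isOpenMap f hf hy'
    exact ⟨x', hx', Subtype.ext hfx'⟩

end Groth.Agent.H2.OpenGen
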