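import Mathlib
import Groth.Prelude.Def_CAlgX

/-!
# Quasi-regular sequences (helper library, helper2)

Basic theory around `CAlgX.IsQuasiRegular`:
* evaluation of homogeneous polynomials and powers of the ideal;
* the colon lemma: a non-zero-divisor modulo `I` stays one modulo `I ^ k`;
* adjoining a non-zero-divisor modulo a quasi-regular sequence;
* change of generators;
* regular sequences are quasi-regular.
-/

open MvPolynomial

namespace Groth.Agent.H2.QReg

universe u

variable {R : Type u} [CommRing R] {c : ℕ}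

/-- The value of a monomial at `f` lies in the corresponding power of the ideal generated by `f`. -/
lemma prod_pow_mem_pow (f : Fin c → R) (d : Fin c →₀ ℕ) :
    (∏ i ∈ d.support, f i ^ d i) ∈ Ideal.span (Set.range f) ^ d.degree := by
  rw [Ideal.mem_span_pow_iff_exists_isHomogeneous]
  refine ⟨monomial d 1, isHomogeneous_monomial _ rfl, ?_⟩
  rw [eval_monomial, one_mul]
  rfl

/-- A homogeneous polynomial of degree `n` with coefficients in `K` takes at `f` a value in
`K * (f) ^ n`. -/
lemma eval_mem_mul_pow (f : Fin c → R) (K : Ideal R) {n : ℕ} {P : MvPolynomial (Fin c) R}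
    (hP : P.IsHomogeneous n) (hK : ∀ d, P.coeff d ∈ K) :
    eval f P ∈ K * Ideal.span (Set.range f) ^ n := by
  rw [eval_eq]
  refine Ideal.sum_mem _ fun d hd => ?_
  refine Ideal.mul_mem_mul (hK d) ?_
  have hdeg : d.degree = n := by
    have := hP (mem_support_iff.mp hd)
    simpa [Finsupp.weight_apply, Finsupp.degree, Finsupp.sum] using this
  have h := prod_pow_mem_pow f d
  rwa [hdeg] at h

lemma eval_mem_pow (f : Fin c → R) {n : ℕ} {P : MvPolynomial (Fin c) R}
    (hP : P.IsHomogeneous n) : eval f P ∈ Ideal.span (Set.range f) ^ n :=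
  (Ideal.mem_span_pow_iff_exists_isHomogeneous f _).mpr ⟨P, hP, rfl⟩

/-- Colon lemma: if `f` is quasi-regular, generating `I`, and `x` is a non-zero-divisor modulo `I`,
then `x` is a non-zero-divisor modulo `I ^ k` for all `k ≥ 1`. -/
lemma colon_pow (f : Fin c → R) (hf : CAlgX.IsQuasiRegular f) (x : R)
    (hx : ∀ m, x * m ∈ Ideal.span (Set.range f) → m ∈ Ideal.span (Set.range f)) :
    ∀ k : ℕ, 1 ≤ k → ∀ m, x * m ∈ Ideal.span (Set.range f) ^ k →
      m ∈ Ideal.span (Set.range f) ^ k := by
  intro k hk
  induction k, hk using Nat.le_induction with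
  | base => intro m hm; rw [pow_one] at hm ⊢; exact hx m hm
  | succ k hk ih =>
    intro m hm
    have hmk : m ∈ Ideal.span (Set.range f) ^ k :=
      ih m (Ideal.pow_le_pow_right (Nat.le_succ k) hm)
    obtain ⟨G, hG, rfl⟩ := (Ideal.mem_span_pow_iff_exists_isHomogeneous f _).mp hmk
    have hxG : (C x * G).IsHomogeneous k := by
      simpa using (isHomogeneous_C (Fin c) x).mul hG
    have hcoef := hf k (C x * G) hxG (by simpa using hm)
    have hG' : ∀ d, G.coeff d ∈ Ideal.span (Set.range f) := by
      intro d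
      have := hcoef d
      rw [coeff_C_mul] at this
      exact hx _ this
    have := eval_mem_mul_pow f _ hG hG'
    rwa [← pow_succ'] at this

/-- `(I + (x)) ^ (m+1) ≤ I ^ (m+1) + x (I + (x)) ^ m`. -/
lemma sup_span_pow_succ_le (I : Ideal R) (x : R) (m : ℕ) :
    (I ⊔ Ideal.span {x}) ^ (m + 1) ≤ I ^ (m + 1) ⊔ Ideal.span {x} * (I ⊔ Ideal.span {x}) ^ m := by
  induction m with
  | zero => simp
  | succ m ih =>
    calc (I ⊔ Ideal.span {x}) ^ (m + 1 + 1)
        = (I ⊔ Ideal.span {x}) * (I ⊔ Ideal.span {x}) ^ (m + 1) := pow_succ' _ _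
      _ ≤ (I ⊔ Ideal.span {x}) * (I ^ (m + 1) ⊔ Ideal.span {x} * (I ⊔ Ideal.span {x}) ^ m) :=
          Ideal.mul_mono_right ih
      _ ≤ I ^ (m + 1 + 1) ⊔ Ideal.span {x} * (I ⊔ Ideal.span {x}) ^ (m + 1) := by
        rw [Ideal.mul_sup, Ideal.sup_mul, Ideal.sup_mul]
        refine sup_le (sup_le ?_ ?_) (sup_le ?_ ?_)
        · rw [← pow_succ']; exact le_sup_left
        · refine le_trans (Ideal.mul_mono_right ?_) le_sup_right
          exact Ideal.pow_right_mono le_sup_left _
        · refine le_trans ?_ le_sup_right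
          rw [mul_left_comm]
          refine Ideal.mul_mono_right ?_
          rw [pow_succ']
          exact Ideal.mul_mono_left le_sup_left
        · refine le_trans ?_ le_sup_right
          rw [mul_left_comm]
          refine Ideal.mul_mono_right ?_
          rw [pow_succ']
          exact Ideal.mul_mono_left le_sup_right

/-- Sequence form of the inductive step: `Q j` are the coefficients (w.r.t. the new variable) of a
homogeneous polynomial of degree `n` in one more variable. -/
lemma cons_aux (f : Fin c → R) (hf : CAlgX.IsQuasiRegular f) (x : R)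
    (hx : ∀ m, x * m ∈ Ideal.span (Set.range f) → m ∈ Ideal.span (Set.range f)) :
    ∀ (n : ℕ) (Q : ℕ → MvPolynomial (Fin c) R), (∀ j ≤ n, (Q j).IsHomogeneous (n - j)) →
      (∑ j ∈ Finset.range (n + 1), x ^ j * eval f (Q j)) ∈
        (Ideal.span (Set.range f) ⊔ Ideal.span {x}) ^ (n + 1) →
      ∀ j ≤ n, ∀ d, (Q j).coeff d ∈ Ideal.span (Set.range f) ⊔ Ideal.span {x} := by
  intro n
  induction n with
  | zero =>
    intro Q hQ hmem j hj d
    obtain rfl : j = 0 := Nat.le_zero.mp hj
    have h0 := hQ 0 le_rfl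
    rw [← totalDegree_zero_iff_isHomogeneous, totalDegree_eq_zero_iff_eq_C] at h0
    simp only [zero_add, Finset.range_one, Finset.sum_singleton, pow_zero, one_mul, pow_one]
      at hmem
    rw [h0, eval_C] at hmem
    rw [h0, coeff_C]
    split_ifs
    · exact hmem
    · exact Ideal.zero_mem _
  | succ n ih =>
    intro Q hQ hmem
    set I := Ideal.span (Set.range f) with hI
    set J := I ⊔ Ideal.span {x} with hJ
    rw [Finset.sum_range_succ'] at hmem
    simp only [pow_zero, one_mul] at hmem
    -- h = H(f)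
    set h : R := ∑ j ∈ Finset.range (n + 1), x ^ j * eval f (Q (j + 1)) with hh
    have hsum : (∑ j ∈ Finset.range (n + 1), x ^ (j + 1) * eval f (Q (j + 1))) = x * h := by
      rw [hh, Finset.mul_sum]
      refine Finset.sum_congr rfl fun j _ => ?_
      ring
    rw [hsum] at hmem
    obtain ⟨u, hu, w', hw', huw⟩ := Submodule.mem_sup.mp (sup_span_pow_succ_le I x (n + 1) hmem)
    obtain ⟨v, hv, rfl⟩ := Ideal.mem_span_singleton_mul.mp hw'
    have hQ0 : eval f (Q 0) ∈ I ^ (n + 1) := eval_mem_pow f (by simpa using hQ 0 (Nat.zero_le _))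
    have hcol : x * (v - h) ∈ I ^ (n + 1) := by
      have : x * (v - h) = eval f (Q 0) - u := by
        linear_combination huw
      rw [this]
      exact Ideal.sub_mem _ hQ0 (Ideal.pow_le_pow_right (Nat.le_succ _) hu)
    have hw : v - h ∈ I ^ (n + 1) := colon_pow f hf x hx (n + 1) (Nat.succ_le_succ (Nat.zero_le _)) _ hcol
    have hhJ : h ∈ J ^ (n + 1) := by
      have : h = v - (v - h) := by ring
      rw [this]
      exact Ideal.sub_mem _ hv (Ideal.pow_right_mono le_sup_left _ hw)
    have ihQ := ih (fun j => Q (j + 1)) (fun j hj => by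
      have := hQ (j + 1) (Nat.succ_le_succ hj)
      simpa using this) hhJ
    obtain ⟨W, hW, hWe⟩ := (Ideal.mem_span_pow_iff_exists_isHomogeneous f _).mp hw
    have hQW : (Q 0 - C x * W).IsHomogeneous (n + 1) := by
      refine (by simpa using hQ 0 (Nat.zero_le _) : (Q 0).IsHomogeneous (n + 1)).sub ?_
      simpa using (isHomogeneous_C (Fin c) x).mul hW
    have hval : eval f (Q 0 - C x * W) ∈ I ^ (n + 1 + 1) := by
      have : eval f (Q 0 - C x * W) = u := by
        rw [map_sub, map_mul, eval_C, hWe]
        linear_combination (-1 : R) * huw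
      rw [this]; exact hu
    have hcoef := hf (n + 1) _ hQW hval
    intro j hj d
    rcases Nat.eq_zero_or_pos j with rfl | hjpos
    · have h1 := hcoef d
      rw [coeff_sub, coeff_C_mul] at h1
      have : (Q 0).coeff d = ((Q 0).coeff d - x * W.coeff d) + x * W.coeff d := by ring
      rw [this]
      refine Ideal.add_mem _ (Ideal.mem_sup_left h1) (Ideal.mem_sup_right ?_)
      exact Ideal.mul_mem_right _ _ (Ideal.mem_span_singleton_self x)
    · obtain ⟨j', rfl⟩ : ∃ j', j = j' + 1 := ⟨j - 1, by omega⟩
      exact ihQ j' (by omega) d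

lemma span_range_cons (f : Fin c → R) (x : R) :
    Ideal.span (Set.range (Fin.cons x f : Fin (c + 1) → R)) =
      Ideal.span (Set.range f) ⊔ Ideal.span {x} := by
  rw [Fin.range_cons, Ideal.span_insert, sup_comm]

/-- Adjoining (in front) a non-zero-divisor modulo the ideal of a quasi-regular sequence gives a
quasi-regular sequence. -/
theorem isQuasiRegular_cons (f : Fin c → R) (hf : CAlgX.IsQuasiRegular f) (x : R)
    (hx : ∀ m, x * m ∈ Ideal.span (Set.range f) → m ∈ Ideal.span (Set.range f)) :
    CAlgX.IsQuasiRegular (Fin.cons x f : Fin (c + 1) → R) := by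
  intro n P hP hmem d
  rw [span_range_cons] at hmem ⊢
  set p := finSuccEquiv R c P with hp
  have hdeg : p.natDegree ≤ n := by
    rw [hp, natDegree_finSuccEquiv]
    exact (degreeOf_le_totalDegree P 0).trans hP.totalDegree_le
  have heval : eval (Fin.cons x f : Fin (c + 1) → R) P =
      ∑ j ∈ Finset.range (n + 1), x ^ j * eval f (p.coeff j) := by
    rw [eval_eq_eval_mv_eval', ← hp,
      Polynomial.eval_eq_sum_range' (n := n + 1)
        (lt_of_le_of_lt (Polynomial.natDegree_map_le) (Nat.lt_succ_of_le hdeg))]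
    refine Finset.sum_congr rfl fun j _ => ?_
    rw [Polynomial.coeff_map, mul_comm]
  rw [heval] at hmem
  have hQ : ∀ j ≤ n, (p.coeff j).IsHomogeneous (n - j) := fun j hj =>
    IsHomogeneous.finSuccEquiv_coeff_isHomogeneous hP j (n - j) (by omega)
  have key := cons_aux f hf x hx n (fun j => p.coeff j) hQ hmem
  have hd : P.coeff d = (p.coeff (d 0)).coeff (Finsupp.tail d) := by
    rw [hp, finSuccEquiv_coeff_coeff, Finsupp.cons_tail]
  rw [hd]
  by_cases h0 : d 0 ≤ n
  · exact key (d 0) h0 _
  · rw [Polynomial.coeff_eq_zero_of_natDegree_lt (by omega), coeff_zero]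
    exact Ideal.zero_mem _

/-- The linear forms `∑ j, a i j X j`. -/
noncomputable def lin {S : Type u} [CommRing S] {n : ℕ} (a : Fin n → Fin n → S) (i : Fin n) :
    MvPolynomial (Fin n) S := ∑ j, C (a i j) * X j

lemma lin_isHomogeneous {S : Type u} [CommRing S] {n : ℕ} (a : Fin n → Fin n → S) (i : Fin n) :
    (lin a i).IsHomogeneous 1 :=
  IsHomogeneous.sum _ _ _ fun j _ => isHomogeneous_C_mul_X _ _

lemma eval_lin {S : Type u} [CommRing S] {n : ℕ} (a : Fin n → Fin n → S) (f : Fin n → S)
    (i : Fin n) : eval f (lin a i) = ∑ j, a i j * f j := by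
  simp [lin]

lemma map_lin {S T : Type u} [CommRing S] [CommRing T] (π : S →+* T) {n : ℕ}
    (a : Fin n → Fin n → S) (i : Fin n) :
    map π (lin a i) = lin (fun i j => π (a i j)) i := by
  simp [lin]

lemma bind₁_lin_lin {S : Type u} [CommRing S] {n : ℕ} (a b : Fin n → Fin n → S) (i : Fin n) :
    bind₁ (lin b) (lin a i) = lin (fun i k => ∑ j, a i j * b j k) i := by
  simp only [lin, map_sum, map_mul, bind₁_C_right, bind₁_X_right, Finset.mul_sum]
  rw [Finset.sum_comm]
  refine Finset.sum_congr rfl fun k _ => ?_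
  rw [Finset.sum_mul]
  refine Finset.sum_congr rfl fun j _ => ?_
  ring

lemma lin_one {S : Type u} [CommRing S] {n : ℕ} (a : Fin n → Fin n → S)
    (ha : ∀ i k, a i k = if i = k then 1 else 0) (i : Fin n) : lin a i = X i := by
  simp [lin, ha]

/-- Degree one: a linear relation modulo `J ^ 2` has coefficients in `J`. -/
lemma coeff_mem_of_sum_mem_sq (f : Fin c → R) (hf : CAlgX.IsQuasiRegular f) (a : Fin c → R)
    (h : ∑ i, a i * f i ∈ Ideal.span (Set.range f) ^ 2) (i : Fin c) :
    a i ∈ Ideal.span (Set.range f) := by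
  classical
  have hP : (∑ j, C (a j) * X j : MvPolynomial (Fin c) R).IsHomogeneous 1 :=
    IsHomogeneous.sum _ _ _ fun j _ => isHomogeneous_C_mul_X _ _
  have := hf 1 _ hP (by simpa using h) (Finsupp.single i 1)
  simpa [coeff_sum, coeff_C_mul, coeff_X, Finsupp.single_left_inj] using this

/-- Change of generators: a sequence of the same length generating the same ideal as a
quasi-regular sequence is quasi-regular. -/
theorem isQuasiRegular_of_span_eq {n : ℕ} (f f' : Fin n → R) (hf : CAlgX.IsQuasiRegular f)
    (h : Ideal.span (Set.range f') = Ideal.span (Set.range f)) : CAlgX.IsQuasiRegular f' := by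
  classical
  have h1 : ∀ i, ∃ a : Fin n → R, ∑ j, a j * f j = f' i := fun i =>
    Ideal.mem_span_range_iff_exists_fun.mp (h ▸ Ideal.subset_span ⟨i, rfl⟩)
  have h2 : ∀ i, ∃ b : Fin n → R, ∑ j, b j * f' j = f i := fun i =>
    Ideal.mem_span_range_iff_exists_fun.mp (h.symm ▸ Ideal.subset_span ⟨i, rfl⟩)
  set J := Ideal.span (Set.range f) with hJ
  choose a ha using h1
  choose b hb using h2
  -- `b * a ≡ 1` modulo `J`
  have hba : ∀ i k, (∑ j, b i j * a j k) - (if i = k then 1 else 0) ∈ J := by
    intro i
    refine coeff_mem_of_sum_mem_sq f hf _ ?_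
    have : ∑ k, ((∑ j, b i j * a j k) - (if i = k then 1 else 0)) * f k = 0 := by
      simp only [sub_mul, Finset.sum_sub_distrib, ite_mul, one_mul, zero_mul,
        Finset.sum_ite_eq, Finset.mem_univ, if_true]
      rw [sub_eq_zero, ← hb i]
      simp only [Finset.sum_mul]
      rw [Finset.sum_comm]
      refine Finset.sum_congr rfl fun j _ => ?_
      rw [← ha j, Finset.mul_sum]
      refine Finset.sum_congr rfl fun k _ => ?_
      ring
    rw [this]; exact Ideal.zero_mem _
  let π := Ideal.Quotient.mk J
  let A : Matrix (Fin n) (Fin n) (R ⧸ J) := Matrix.of fun i j => π (a i j)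
  let B : Matrix (Fin n) (Fin n) (R ⧸ J) := Matrix.of fun i j => π (b i j)
  have hBA : B * A = 1 := by
    ext i k
    rw [Matrix.mul_apply, Matrix.one_apply]
    have := Ideal.Quotient.eq.mpr (hba i k)
    simp only [map_sum, map_mul] at this
    rw [← Ideal.Quotient.mk_eq_mk] at this
    simpa [A, B, π, apply_ite] using this
  have hAB : A * B = 1 := mul_eq_one_comm.mp hBA
  have hAB' : ∀ i k, (∑ j, π (a i j) * π (b j k)) = if i = k then 1 else 0 := by
    intro i k
    have := congrFun (congrFun hAB i) k
    rwa [Matrix.mul_apply, Matrix.one_apply] at this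
  intro m P hP hmem d
  rw [h] at hmem ⊢
  set Q := bind₁ (lin a) P with hQ
  have hQh : Q.IsHomogeneous m := by
    have := hP.aeval (lin a) (lin_isHomogeneous a)
    rw [one_mul] at this
    exact this
  have hQe : eval f Q = eval f' P := by
    have : eval f Q = aeval f (bind₁ (lin a) P) := rfl
    rw [this, aeval_bind₁]
    simp only [aeval_eq_eval, eval_lin, ha]
  have hQc := hf m Q hQh (hQe ▸ hmem)
  have hQ0 : map π Q = 0 := by
    ext e
    rw [coeff_map, coeff_zero]
    exact Ideal.Quotient.eq_zero_iff_mem.mpr (hQc e)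
  have hP0 : map π P = 0 := by
    have e1 : map π P = bind₁ (fun i => bind₁ (lin fun i j => π (b i j))
        (lin (fun i j => π (a i j)) i)) (map π P) := by
      have : (fun i => bind₁ (lin fun i j => π (b i j)) (lin (fun i j => π (a i j)) i)) =
          (X : Fin n → MvPolynomial (Fin n) (R ⧸ J)) := by
        funext i
        rw [bind₁_lin_lin]
        exact lin_one _ (fun i k => hAB' i k) i
      rw [this, bind₁_X_left]; rfl
    rw [e1, ← bind₁_bind₁]
    have : bind₁ (lin fun i j => π (a i j)) (map π P) = map π Q := by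
      rw [hQ, map_bind₁]
      simp only [map_lin]
    rw [this, hQ0, map_zero]
  have := congrArg (coeff d) hP0
  rw [coeff_map, coeff_zero] at this
  exact Ideal.Quotient.eq_zero_iff_mem.mp this

lemma isQuasiRegular_of_isEmpty (f : Fin 0 → R) : CAlgX.IsQuasiRegular f := by
  intro n P _ hmem d
  have hJ : Ideal.span (Set.range f) = ⊥ := by
    rw [Set.range_eq_empty, Ideal.span_empty]
  rw [hJ] at hmem ⊢
  have h0 : (⊥ : Ideal R) ^ (n + 1) = ⊥ := by
    rw [Ideal.bot_pow]; omega
  rw [h0, Ideal.mem_bot] at hmem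
  have hP : P = C (coeff 0 P) := by
    have := (isEmptyAlgEquiv R (Fin 0)).symm_apply_apply P
    rw [isEmptyAlgEquiv_symm_apply] at this
    rw [← this]
    congr 1
    simp [isEmptyAlgEquiv]
  rw [hP, eval_C] at hmem
  rw [hP, hmem, C_0, coeff_zero]
  exact Ideal.zero_mem _

lemma ofList_ofFn (f : Fin c → R) : Ideal.ofList (List.ofFn f) = Ideal.span (Set.range f) := by
  unfold Ideal.ofList
  congr 1
  ext x
  simp [List.mem_ofFn]

/-- A (weakly) regular sequence is quasi-regular. -/
theorem isQuasiRegular_of_isWeaklyRegular :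
    ∀ (c : ℕ) (f : Fin c → R), RingTheory.Sequence.IsWeaklyRegular R (List.ofFn f) →
      CAlgX.IsQuasiRegular f := by
  intro c
  induction c with
  | zero => intro f _; exact isQuasiRegular_of_isEmpty f
  | succ c ih =>
    intro f hf
    rw [List.ofFn_succ', List.concat_eq_append,
      RingTheory.Sequence.isWeaklyRegular_append_iff,
      RingTheory.Sequence.isWeaklyRegular_singleton_iff] at hf
    obtain ⟨hg, hlast⟩ := hf
    set g : Fin c → R := fun i => f (Fin.castSucc i) with hgdef
    have hgq := ih g hg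
    have hx : ∀ m, f (Fin.last c) * m ∈ Ideal.span (Set.range g) →
        m ∈ Ideal.span (Set.range g) := by
      intro m hm
      rw [ofList_ofFn] at hlast
      have h0 : (f (Fin.last c)) • (Submodule.Quotient.mk m :
          R ⧸ (Ideal.span (Set.range g) • ⊤ : Submodule R R)) = (f (Fin.last c)) • 0 := by
        rw [smul_zero, ← Submodule.Quotient.mk_smul, Submodule.Quotient.mk_eq_zero, smul_eq_mul,
          Ideal.mul_top]
        exact hm
      have := hlast h0
      rwa [Submodule.Quotient.mk_eq_zero, smul_eq_mul, Ideal.mul_top] at this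
    have hcons := isQuasiRegular_cons g hgq (f (Fin.last c)) hx
    refine isQuasiRegular_of_span_eq _ f hcons ?_
    apply le_antisymm
    · rw [Ideal.span_le]
      rintro _ ⟨i, rfl⟩
      induction i using Fin.lastCases with
      | last => exact Ideal.subset_span ⟨0, by simp⟩
      | cast i => exact Ideal.subset_span ⟨i.succ, by simp [g]⟩
    · rw [Ideal.span_le]
      rintro _ ⟨i, rfl⟩
      induction i using Fin.cases with
      | zero => exact Ideal.subset_span ⟨Fin.last c, by simp⟩
      | succ i => exact Ideal.subset_span ⟨i.castSucc, by simp [g]⟩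

end Groth.Agent.H2.QReg
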