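import Mathlib
import Groth.Agent.Lib.Lead.QC.AssPoint
import Groth.Agent.Lib.Lead.QC.WeakAssPushSch
import Groth.Agent.Lib.Lead.QC.WeakAssInj
import Groth.Agent.Lib.Lead.QC.Compact
import Groth.Prelude.Def_FDesc
import Groth.Agent.Lib.Lead.QC.SuppSES
import Groth.Agent.Lib.Lead.QC.WeakAssSES
import Groth.Agent.Lib.Helper1.SchFibInj

/-!
# Associated points on schemes (helper2), building on the lead's `WeakAss` library
-/

set_option autoImplicit false
set_option linter.style.haveILetI false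
universe u
open CategoryTheory Limits AlgebraicGeometry TopologicalSpace Opposite IsLocalRing

namespace Groth.Agent.H2.AssSch

open Groth.Agent.LD.QC

variable {X S : Scheme.{u}}

/-- images of weakly associated points are weakly associated to the direct image, as soon as the
image point has an affine neighbourhood with affine preimage. -/
theorem isWeakAssPoint_pushforward_of_preimage_affine (f : X ⟶ S)
    [IsLocallyNoetherian X] (F : X.Modules) [F.IsQuasicoherent]
    [((Scheme.Modules.pushforward f).obj F).IsQuasicoherent] (x : X)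
    (V : S.Opens) (hV : IsAffineOpen V) (hsV : f x ∈ V) (hU : IsAffineOpen (f ⁻¹ᵁ V))
    (hx : Curv2.IsWeakAssPoint F x) :
    Curv2.IsWeakAssPoint ((Scheme.Modules.pushforward f).obj F) (f x) := by
  have hxU : x ∈ f ⁻¹ᵁ V := hsV
  haveI : IsNoetherianRing Γ(X, f ⁻¹ᵁ V) := IsLocallyNoetherian.component_noetherian ⟨_, hU⟩
  rw [isWeakAssPoint_iff_mem_weakAss _ hV (f x) hsV]
  rw [isWeakAssPoint_iff_mem_weakAss F hU x hxU] at hx
  letI : Module Γ(X, f ⁻¹ᵁ V) Γ((Scheme.Modules.pushforward f).obj F, V) :=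
    inferInstanceAs (Module Γ(X, f ⁻¹ᵁ V) Γ(F, f ⁻¹ᵁ V))
  have h1 := comap_mem_weakAss_of_noetherian (f.app V).hom
    (N := Γ((Scheme.Modules.pushforward f).obj F, V)) (fun a n => pushforward_smul f F V a n) _ hx
  have h2 := IsAffineOpen.comap_primeIdealOf_appLE V hV (f ⁻¹ᵁ V) hU le_rfl hxU
  have h3 : (hV.primeIdealOf ⟨f x, hsV⟩).asIdeal =
      Ideal.comap (f.app V).hom (hU.primeIdealOf ⟨x, hxU⟩).asIdeal := by
    rw [← h2, Scheme.Hom.app_eq_appLE]
    rfl
  rw [h3]
  exact h1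

theorem mem_ass_iff (M : X.Modules) (x : X) :
    x ∈ _root_.AssSch.Ass M ↔ Curv2.IsWeakAssPoint M x :=
  isAssPoint_iff_isWeakAssPoint M x

/-- associated points of the direct image along an open immersion into a locally Noetherian scheme -/
theorem isWeakAssPoint_pushforward_ι [IsLocallyNoetherian X] (U : X.Opens)
    (M : (↑U : Scheme.{u}).Modules) [M.IsQuasicoherent] (x : (↑U : Scheme.{u}))
    (hx : Curv2.IsWeakAssPoint M x) :
    Curv2.IsWeakAssPoint ((Scheme.Modules.pushforward U.ι).obj M) (U.ι x) := by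
  haveI : ((Scheme.Modules.pushforward U.ι).obj M).IsQuasicoherent := qc_pushforward U.ι M
  obtain ⟨V, hV, hxV, hVU⟩ := exists_isAffineOpen_mem_and_subset (x := U.ι x) (U := U) x.2
  have hVU' : V ≤ U.ι.opensRange := by
    rw [Scheme.Opens.opensRange_ι]; exact hVU
  exact isWeakAssPoint_pushforward_of_preimage_affine U.ι M x V hV hxV
    (hV.preimage_of_isOpenImmersion U.ι hVU') hx

/-- weakly associated points in terms of the weakly associated primes of the stalk -/
theorem isWeakAssPoint_iff_stalk (M : X.Modules) (x : X) :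
    Curv2.IsWeakAssPoint M x ↔
      maximalIdeal (X.presheaf.stalk x) ∈
        FlatCA.weakAss (X.presheaf.stalk x) (M.presheaf.stalk x) := by
  rw [mem_weakAss_iff]
  unfold Curv2.IsWeakAssPoint
  simp only [radical_eq_maximalIdeal_iff]

theorem ass_subset_of_mono {A B : X.Modules} (f : A ⟶ B) [Mono f] :
    _root_.AssSch.Ass A ⊆ _root_.AssSch.Ass B := by
  intro x hx
  rw [mem_ass_iff, isWeakAssPoint_iff_stalk] at hx ⊢
  exact weakAss_subset_of_injective (N₁ := A.presheaf.stalk x) (N₂ := B.presheaf.stalk x)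
    (show A.presheaf.stalk x →+ B.presheaf.stalk x from
      ((TopCat.Presheaf.stalkFunctor _ x).map f.mapPresheaf).hom)
    (stalkMap_injective_of_mono f x)
    (fun r n => Groth.Agent.H1.SchFlat.stalkFun_smul f x r n) hx

theorem ass_subset_union_of_shortExact {S : ShortComplex X.Modules} (hS : S.ShortExact) :
    _root_.AssSch.Ass S.X₂ ⊆ _root_.AssSch.Ass S.X₁ ∪ _root_.AssSch.Ass S.X₃ := by
  haveI := hS.mono_f
  intro x hx
  rw [Set.mem_union, mem_ass_iff, mem_ass_iff, isWeakAssPoint_iff_stalk, isWeakAssPoint_iff_stalk]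
  rw [mem_ass_iff, isWeakAssPoint_iff_stalk] at hx
  exact weakAss_subset_union_of_exact (N₁ := S.X₁.presheaf.stalk x) (N₂ := S.X₂.presheaf.stalk x)
    (N₃ := S.X₃.presheaf.stalk x)
    (show S.X₁.presheaf.stalk x →+ S.X₂.presheaf.stalk x from
      ((TopCat.Presheaf.stalkFunctor _ x).map S.f.mapPresheaf).hom)
    (show S.X₂.presheaf.stalk x →+ S.X₃.presheaf.stalk x from
      ((TopCat.Presheaf.stalkFunctor _ x).map S.g.mapPresheaf).hom)
    (stalkMap_injective_of_mono S.f x)
    (fun r n => Groth.Agent.H1.SchFlat.stalkFun_smul S.f x r n)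
    (fun r n => Groth.Agent.H1.SchFlat.stalkFun_smul S.g x r n)
    (stalk_exact hS x) hx

/-- for points of an affine open, specialization is containment of primes -/
theorem specializes_of_primeIdealOf_le {U : X.Opens} (hU : IsAffineOpen U) (x y : X)
    (hx : x ∈ U) (hy : y ∈ U)
    (h : (hU.primeIdealOf ⟨x, hx⟩).asIdeal ≤ (hU.primeIdealOf ⟨y, hy⟩).asIdeal) : x ⤳ y := by
  have hspec : hU.primeIdealOf ⟨x, hx⟩ ⤳ hU.primeIdealOf ⟨y, hy⟩ :=
    (PrimeSpectrum.le_iff_specializes _ _).mp h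
  have h2 := hspec.map hU.fromSpec.continuous
  rwa [hU.fromSpec_primeIdealOf ⟨x, hx⟩, hU.fromSpec_primeIdealOf ⟨y, hy⟩] at h2

/-- a section killed by a function invertible at `y` has zero germ at `y` -/
theorem germ_eq_zero_of_smul_eq_zero (M : X.Modules) {U : X.Opens} (hU : IsAffineOpen U)
    (y : X) (hy : y ∈ U) (n : Γ(M, U)) (b : Γ(X, U))
    (hb : b ∉ (hU.primeIdealOf ⟨y, hy⟩).asIdeal) (hbn : b • n = 0) :
    M.presheaf.germ U y hy n = 0 := by
  have hu : IsUnit (X.presheaf.germ U y hy b) := isUnit_germ_of_notMem hU y hy b hb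
  have h1 := germ_smul M y U hy b n
  rw [hbn, map_zero] at h1
  exact (hu.smul_eq_zero).mp h1.symm

/-- **S2506** -/
theorem ass_subset_iff [IsLocallyNoetherian X] (M : X.Modules) [M.IsQuasicoherent] (U : X.Opens) :
    _root_.AssSch.Ass M ⊆ (U : Set X) ↔
      ∀ (V : X.Opens), IsAffineOpen V → ∀ s : Γ(M, V),
        M.presheaf.map (homOfLE (inf_le_left : V ⊓ U ≤ V)).op s = 0 → s = 0 := by
  constructor
  · intro hAss V hV s hs
    apply eq_zero_of_germ_eq_zero_at_weakAss M hV
    intro x hx hw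
    have hxU : x ∈ U := hAss ((mem_ass_iff M x).mpr hw)
    have h1 := germ_res M x (inf_le_left : V ⊓ U ≤ V) ⟨hx, hxU⟩ s
    rw [hs, map_zero] at h1
    exact h1.symm
  · intro h x hx
    by_contra hxU
    rw [mem_ass_iff] at hx
    obtain ⟨V, hV, hxV, -⟩ := exists_isAffineOpen_mem_and_subset (x := x) (U := (⊤ : X.Opens))
      trivial
    haveI : IsNoetherianRing Γ(X, V) := IsLocallyNoetherian.component_noetherian ⟨_, hV⟩
    rw [isWeakAssPoint_iff_mem_weakAss M hV x hxV] at hx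
    obtain ⟨n, hn⟩ := exists_ker_eq_of_mem_weakAss _ hx
    have hres : M.presheaf.map (homOfLE (inf_le_left : V ⊓ U ≤ V)).op n = 0 := by
      apply eq_zero_of_germ_eq_zero_at_weakAss' M (V ⊓ U)
      intro y hy _
      rw [germ_res M y (inf_le_left : V ⊓ U ≤ V) hy n]
      have hnle : ¬ (hV.primeIdealOf ⟨x, hxV⟩).asIdeal ≤ (hV.primeIdealOf ⟨y, hy.1⟩).asIdeal := by
        intro hle
        have hsp := specializes_of_primeIdealOf_le hV x y hxV hy.1 hle
        exact hxU (hsp.mem_open U.2 hy.2)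
      obtain ⟨b, hbx, hby⟩ := Set.not_subset.mp hnle
      have hbn : b • n = 0 := by
        have : b ∈ (LinearMap.ker (LinearMap.toSpanSingleton Γ(X, V) Γ(M, V) n) : Ideal Γ(X, V)) := by
          rw [← hn]; exact hbx
        exact this
      exact germ_eq_zero_of_smul_eq_zero M hV y hy.1 n b hby hbn
    have hn0 : n = 0 := h V hV n hres
    have htop : (hV.primeIdealOf ⟨x, hxV⟩).asIdeal = ⊤ := by
      rw [hn, hn0]
      ext a
      simp
    exact (hV.primeIdealOf ⟨x, hxV⟩).2.ne_top htop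

theorem primeIdealOf_le_of_specializes {U : X.Opens} (hU : IsAffineOpen U) (x y : X)
    (hx : x ∈ U) (hy : y ∈ U) (h : y ⤳ x) :
    (hU.primeIdealOf ⟨y, hy⟩).asIdeal ≤ (hU.primeIdealOf ⟨x, hx⟩).asIdeal := by
  have h1 : (⟨y, hy⟩ : U) ⤳ ⟨x, hx⟩ := (subtype_specializes_iff _ _).mpr h
  have h2 := h1.map hU.isoSpec.hom.continuous
  exact (PrimeSpectrum.le_iff_specializes _ _).mpr h2

/-- incomparability for integral ring maps -/
theorem eq_of_le_of_comap_eq {A B : Type*} [CommRing A] [CommRing B] (φ : A →+* B)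
    (hφ : φ.IsIntegral) (I J : Ideal B) [I.IsPrime] (hIJ : I ≤ J)
    (hc : I.comap φ = J.comap φ) : I = J := by
  by_contra hne
  have hlt : I < J := lt_of_le_of_ne hIJ hne
  obtain ⟨_, x, hxJ, hxI⟩ := SetLike.lt_iff_le_and_exists.mp hlt
  obtain ⟨p, p_monic, hpx⟩ := hφ x
  have := Ideal.comap_lt_comap_of_root_mem_sdiff (f := φ) hIJ ⟨hxJ, hxI⟩
    (Polynomial.map_monic_ne_zero p_monic) (by rw [hpx]; exact I.zero_mem)
  rw [hc] at this
  exact lt_irrefl _ this

/-- there are no specializations within the fibres of an integral morphism -/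
theorem eq_of_specializes_of_isIntegralHom (f : X ⟶ S) [IsIntegralHom f] (x y : X)
    (hyx : y ⤳ x) (hf : f x = f y) : x = y := by
  obtain ⟨V, hV, hsV, -⟩ := exists_isAffineOpen_mem_and_subset (x := f x) (U := (⊤ : S.Opens)) trivial
  have hU : IsAffineOpen (f ⁻¹ᵁ V) := hV.preimage f
  have hxU : x ∈ f ⁻¹ᵁ V := hsV
  have hyU : y ∈ f ⁻¹ᵁ V := hyx.mem_open (f ⁻¹ᵁ V).2 hxU
  have hle := primeIdealOf_le_of_specializes hU x y hxU hyU hyx
  have h2x := IsAffineOpen.comap_primeIdealOf_appLE V hV (f ⁻¹ᵁ V) hU le_rfl hxU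
  have h2y := IsAffineOpen.comap_primeIdealOf_appLE V hV (f ⁻¹ᵁ V) hU le_rfl hyU
  have hc : (hU.primeIdealOf ⟨y, hyU⟩).asIdeal.comap (f.appLE V (f ⁻¹ᵁ V) le_rfl).hom =
      (hU.primeIdealOf ⟨x, hxU⟩).asIdeal.comap (f.appLE V (f ⁻¹ᵁ V) le_rfl).hom := by
    have e1 := congrArg PrimeSpectrum.asIdeal h2x
    have e2 := congrArg PrimeSpectrum.asIdeal h2y
    change (hU.primeIdealOf ⟨x, hxU⟩).asIdeal.comap _ = _ at e1
    change (hU.primeIdealOf ⟨y, hyU⟩).asIdeal.comap _ = _ at e2
    rw [e1, e2]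
    have key : ∀ (a b : S) (ha : a ∈ V) (hb : b ∈ V), a = b →
        (hV.primeIdealOf ⟨a, ha⟩).asIdeal = (hV.primeIdealOf ⟨b, hb⟩).asIdeal := by
      intro a b ha hb hab
      subst hab
      rfl
    exact key _ _ _ _ hf.symm
  have hint : (f.appLE V (f ⁻¹ᵁ V) le_rfl).hom.IsIntegral := by
    rw [← Scheme.Hom.app_eq_appLE]
    exact f.isIntegral_app V hV
  have heq := eq_of_le_of_comap_eq _ hint _ _ hle hc
  have h3 : hU.primeIdealOf ⟨y, hyU⟩ = hU.primeIdealOf ⟨x, hxU⟩ := PrimeSpectrum.ext heq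
  have h4 := congrArg hU.fromSpec h3
  rw [hU.fromSpec_primeIdealOf, hU.fromSpec_primeIdealOf] at h4
  exact h4.symm

end Groth.Agent.H2.AssSch
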