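import Mathlib
import Groth.Prelude.Def_CAlg

/-!
# An extension lemma for modules of depth at least two (helper2)
-/

set_option autoImplicit false
set_option linter.style.haveILetI false
universe u
open IsLocalRing RingTheory.Sequence

namespace Groth.Agent.H2.DepthIso
open scoped Pointwise

variable {R : Type u} [CommRing R] [IsLocalRing R]
  {N G : Type u} [AddCommGroup N] [Module R N] [AddCommGroup G] [Module R G]

/-- a module of depth `≥ 2` with `𝔪N ≠ N` has a regular sequence of length two in `𝔪` -/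
theorem exists_regular_pair (hne : maximalIdeal R • (⊤ : Submodule R N) ≠ ⊤)
    (hdepth : (2 : ℕ∞) ≤ LocCoh.depth R N) :
    ∃ a ∈ maximalIdeal R, ∃ b ∈ maximalIdeal R,
      IsSMulRegular N a ∧ IsSMulRegular (QuotSMulTop a N) b := by
  unfold LocCoh.depth LocCoh.idealDepth at hdepth
  rw [if_neg hne] at hdepth
  by_contra hcon
  push Not at hcon
  have hle : (⨆ (rs : List R) (_ : IsWeaklyRegular N rs ∧ ∀ r ∈ rs, r ∈ maximalIdeal R),
      (rs.length : ℕ∞)) ≤ 1 := by
    apply iSup_le
    intro rs
    apply iSup_le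
    rintro ⟨hreg, hmem⟩
    match rs, hreg, hmem with
    | [], _, _ => simp
    | [a], _, _ => simp
    | a :: b :: rs', hreg, hmem =>
      exfalso
      rw [isWeaklyRegular_cons_iff, isWeaklyRegular_cons_iff] at hreg
      exact hcon a (hmem a (by simp)) b (hmem b (by simp)) hreg.1 hreg.2.1
  have : (2 : ℕ∞) ≤ 1 := hdepth.trans hle
  exact absurd this (by decide)

/-- the extension lemma: if `𝔪 g ⊆ φ(N)`, `N` has depth `≥ 2` and `𝔪` is not associated to `G`, then
`g ∈ φ(N)`. -/
theorem mem_range_of_depth_two [hfinN : Module.Finite R N] (φ : N →ₗ[R] G) (hφ : Function.Injective φ)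
    (hdepth : (2 : ℕ∞) ≤ LocCoh.depth R N)
    (hG : ∀ g : G, (∀ m ∈ maximalIdeal R, m • g = 0) → g = 0)
    (g : G) (hg : ∀ m ∈ maximalIdeal R, m • g ∈ LinearMap.range φ) : g ∈ LinearMap.range φ := by
  by_cases hne : maximalIdeal R • (⊤ : Submodule R N) = ⊤
  · -- `N = 0`
    have hbot : (⊤ : Submodule R N) = ⊥ :=
      Submodule.eq_bot_of_le_smul_of_le_jacobson_bot (maximalIdeal R) ⊤ Module.Finite.fg_top
        hne.ge (maximalIdeal_le_jacobson _)
    have hN : ∀ n : N, n = 0 := fun n => by
      have : n ∈ (⊤ : Submodule R N) := Submodule.mem_top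
      rwa [hbot, Submodule.mem_bot] at this
    have : g = 0 := by
      apply hG
      intro m hm
      obtain ⟨n, hn⟩ := hg m hm
      rw [← hn, hN n, map_zero]
    rw [this]
    exact Submodule.zero_mem _
  · obtain ⟨a, ha, b, hb, hrega, hregb⟩ := exists_regular_pair hne hdepth
    obtain ⟨f₁, hf₁⟩ := hg a ha
    obtain ⟨f₂, hf₂⟩ := hg b hb
    have h1 : b • f₁ = a • f₂ := by
      apply hφ
      rw [map_smul, map_smul, hf₁, hf₂, smul_comm]
    -- `f₁ ∈ aN`
    have h2 : (Submodule.mkQ (a • (⊤ : Submodule R N)) f₁ : QuotSMulTop a N) = 0 := by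
      apply hregb
      change b • _ = b • (0 : QuotSMulTop a N)
      rw [smul_zero, ← map_smul, h1, Submodule.mkQ_apply, Submodule.Quotient.mk_eq_zero]
      exact Submodule.smul_mem_pointwise_smul _ _ _ Submodule.mem_top
    rw [Submodule.mkQ_apply, Submodule.Quotient.mk_eq_zero,
      Submodule.mem_smul_pointwise_iff_exists] at h2
    obtain ⟨f', -, hf'⟩ := h2
    -- `h = g - φ f'` is killed by `𝔪`
    have hah : a • (g - φ f') = 0 := by
      rw [smul_sub, ← map_smul, hf', hf₁, sub_self]
    have hzero : g - φ f' = 0 := by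
      apply hG
      intro m hm
      obtain ⟨n, hn⟩ := hg m hm
      have h3 : m • (g - φ f') = φ (n - m • f') := by
        rw [smul_sub, map_sub, map_smul, hn]
      have h4 : a • (n - m • f') = 0 := by
        apply hφ
        rw [map_smul, ← h3, smul_comm, hah, smul_zero, map_zero]
      have h5 : n - m • f' = 0 := by
        apply hrega
        change a • _ = a • (0 : N)
        rw [h4, smul_zero]
      rw [h3, h5, map_zero]
    exact ⟨f', (sub_eq_zero.mp hzero).symm⟩

/-- an associated maximal ideal forces depth zero -/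
theorem depth_lt_two_of_ass [hfinN : Module.Finite R N] (f : N) (hf : f ≠ 0)
    (hrad : ∀ m ∈ maximalIdeal R, ∃ k : ℕ, m ^ k • f = 0) :
    ¬ (2 : ℕ∞) ≤ LocCoh.depth R N := by
  intro hdepth
  have hne : maximalIdeal R • (⊤ : Submodule R N) ≠ ⊤ := by
    intro htop
    have hbot : (⊤ : Submodule R N) = ⊥ :=
      Submodule.eq_bot_of_le_smul_of_le_jacobson_bot (maximalIdeal R) ⊤ Module.Finite.fg_top
        htop.ge (maximalIdeal_le_jacobson _)
    apply hf
    have : f ∈ (⊤ : Submodule R N) := Submodule.mem_top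
    rwa [hbot, Submodule.mem_bot] at this
  obtain ⟨a, ha, -, -, hrega, -⟩ := exists_regular_pair hne hdepth
  obtain ⟨k, hk⟩ := hrad a ha
  apply hf
  apply hrega.pow k
  change a ^ k • f = a ^ k • (0 : N)
  rw [hk, smul_zero]

end Groth.Agent.H2.DepthIso
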