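import Mathlib
import Groth.Prelude.Def_RefPow
import Groth.Agent.Lib.Lead.QC.SuppSES
import Groth.Agent.Lib.Lead.QC.Support
import Groth.Agent.Lib.Lead.QC.Coh
import Groth.Agent.Lib.Lead.QC.SubExt
import Groth.Agent.Lib.Lead.QC.LocFree3
import Groth.Agent.Lib.Helper1.SchFibInj

/-!
# The locus where a section `O_X → F` is an isomorphism (helper2)
-/

set_option autoImplicit false
set_option linter.style.haveILetI false
universe u
open CategoryTheory Limits AlgebraicGeometry TopologicalSpace Opposite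

namespace Groth.Agent.H2.IsoLocus

open Groth.Agent.LD.QC

variable {X : Scheme.{u}} {F G : X.Modules}

theorem stalkMapₗ_apply (φ : F ⟶ G) (x : X) (a : F.presheaf.stalk x) :
    RefHull.stalkMapₗ φ x a =
      ((TopCat.Presheaf.stalkFunctor Ab x).map φ.mapPresheaf).hom a := rfl

/-- the stalk map is injective where the kernel has vanishing stalk -/
theorem injective_iff (φ : F ⟶ G) (x : X) :
    Function.Injective (RefHull.stalkMapₗ φ x) ↔
      Subsingleton ((kernel φ).presheaf.stalk x) := by
  constructor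
  · intro hinj
    refine ⟨fun t t' => ?_⟩
    have key : ∀ t : (kernel φ).presheaf.stalk x, t = 0 := by
      intro t
      have hι := stalkMap_injective_of_mono (kernel.ι φ) x
      have h2 : RefHull.stalkMapₗ φ x (RefHull.stalkMapₗ (kernel.ι φ) x t) = 0 := by
        obtain ⟨V, hxV, τ, rfl⟩ := TopCat.Presheaf.exists_germ_eq (kernel φ).presheaf t
        rw [RefHull.stalkMapₗ_germ, RefHull.stalkMapₗ_germ, kernel_ι_app_comp, map_zero]
      have h3 : RefHull.stalkMapₗ (kernel.ι φ) x t = 0 := hinj (h2.trans (map_zero _).symm)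
      exact hι (h3.trans (map_zero (RefHull.stalkMapₗ (kernel.ι φ) x)).symm)
    rw [key t, key t']
  · intro hsub
    rw [injective_iff_map_eq_zero]
    intro a ha
    obtain ⟨V, hxV, σ, rfl⟩ := TopCat.Presheaf.exists_germ_eq F.presheaf a
    rw [RefHull.stalkMapₗ_germ] at ha
    obtain ⟨W, hWV, hxW, hW⟩ := exists_res_eq_zero_of_germ_eq_zero G x hxV _ ha
    rw [← app_res φ hWV σ] at hW
    obtain ⟨t, ht⟩ := exists_kernel_section φ W _ hW
    rw [← germ_res F x hWV hxW σ, ← ht, ← RefHull.stalkMapₗ_germ,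
      Subsingleton.elim ((kernel φ).presheaf.germ W x hxW t) 0, map_zero]

/-- the stalk map is surjective where the cokernel has vanishing stalk -/
theorem surjective_iff (φ : F ⟶ G) (hF : F.IsQuasicoherent) (hG : G.IsQuasicoherent) (x : X) :
    Function.Surjective (RefHull.stalkMapₗ φ x) ↔
      Subsingleton ((cokernel φ).presheaf.stalk x) := by
  constructor
  · intro hsurj
    refine ⟨fun c c' => ?_⟩
    have key : ∀ c : (cokernel φ).presheaf.stalk x, c = 0 := by
      intro c
      obtain ⟨b, rfl⟩ := stalkMap_surjective_of_epi (cokernel.π φ) x c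
      obtain ⟨a, rfl⟩ := hsurj b
      obtain ⟨V, hxV, σ, rfl⟩ := TopCat.Presheaf.exists_germ_eq F.presheaf a
      rw [← stalkMapₗ_apply, RefHull.stalkMapₗ_germ, RefHull.stalkMapₗ_germ]
      have h1 : (φ ≫ cokernel.π φ).app V σ = 0 := by
        rw [cokernel.condition]; rfl
      have h2 : (cokernel.π φ).app V (φ.app V σ) = 0 := h1
      rw [h2, map_zero]
    rw [key c, key c']
  · intro hsub b
    obtain ⟨V, hxV, ψ, rfl⟩ := TopCat.Presheaf.exists_germ_eq G.presheaf b
    have h0 : (cokernel φ).presheaf.germ V x hxV ((cokernel.π φ).app V ψ) = 0 :=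
      Subsingleton.elim _ _
    obtain ⟨W, hWV, hxW, hW⟩ := exists_res_eq_zero_of_germ_eq_zero (cokernel φ) x hxV _ h0
    obtain ⟨W', hW', hxW', hW'W⟩ := exists_isAffineOpen_mem_and_subset (x := x) (U := W) hxW
    have hW'W' : W' ≤ W := hW'W
    have hW'V : W' ≤ V := hW'W'.trans hWV
    have h1 : (cokernel.π φ).app W' (G.presheaf.map (homOfLE hW'V).op ψ) = 0 := by
      rw [app_res (cokernel.π φ) hW'V ψ]
      have h2 : (cokernel φ).presheaf.map (homOfLE hW'V).op ((cokernel.π φ).app V ψ) =
          (cokernel φ).presheaf.map (homOfLE hW'W').op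
            ((cokernel φ).presheaf.map (homOfLE hWV).op ((cokernel.π φ).app V ψ)) := by
        have hcomp : (cokernel φ).presheaf.map (homOfLE hW'V).op =
            (cokernel φ).presheaf.map (homOfLE hWV).op ≫
              (cokernel φ).presheaf.map (homOfLE hW'W').op := by
          rw [← Functor.map_comp]; rfl
        rw [hcomp]
        rfl
      rw [h2, hW, map_zero]
    obtain ⟨hex, -⟩ := Groth.Agent.H1.SchFlat.exact_app_cokernel hF hG φ hW'
    obtain ⟨σ, hσ⟩ := (hex (G.presheaf.map (homOfLE hW'V).op ψ)).mp h1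
    refine ⟨F.presheaf.germ W' x hxW' σ, ?_⟩
    rw [RefHull.stalkMapₗ_germ]
    have hσ' : φ.app W' σ = G.presheaf.map (homOfLE hW'V).op ψ := hσ
    rw [hσ', germ_res G x hW'V hxW' ψ]

/-- exactness of `F_x → G_x → coker_x` at the middle term -/
theorem stalk_exact_cokernel (φ : F ⟶ G) (hF : F.IsQuasicoherent) (hG : G.IsQuasicoherent) (x : X)
    (b : G.presheaf.stalk x) (hb : RefHull.stalkMapₗ (cokernel.π φ) x b = 0) :
    ∃ a : F.presheaf.stalk x, RefHull.stalkMapₗ φ x a = b := by
  obtain ⟨V, hxV, ψ, rfl⟩ := TopCat.Presheaf.exists_germ_eq G.presheaf b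
  rw [RefHull.stalkMapₗ_germ] at hb
  obtain ⟨W, hWV, hxW, hW⟩ := exists_res_eq_zero_of_germ_eq_zero (cokernel φ) x hxV _ hb
  obtain ⟨W', hW', hxW', hW'W⟩ := exists_isAffineOpen_mem_and_subset (x := x) (U := W) hxW
  have hW'W' : W' ≤ W := hW'W
  have hW'V : W' ≤ V := hW'W'.trans hWV
  have h1 : (cokernel.π φ).app W' (G.presheaf.map (homOfLE hW'V).op ψ) = 0 := by
    rw [app_res (cokernel.π φ) hW'V ψ]
    have h2 : (cokernel φ).presheaf.map (homOfLE hW'V).op ((cokernel.π φ).app V ψ) =
        (cokernel φ).presheaf.map (homOfLE hW'W').op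
          ((cokernel φ).presheaf.map (homOfLE hWV).op ((cokernel.π φ).app V ψ)) := by
      have hcomp : (cokernel φ).presheaf.map (homOfLE hW'V).op =
          (cokernel φ).presheaf.map (homOfLE hWV).op ≫
            (cokernel φ).presheaf.map (homOfLE hW'W').op := by
        rw [← Functor.map_comp]; rfl
      rw [hcomp]
      rfl
    rw [h2, hW, map_zero]
  obtain ⟨hex, -⟩ := Groth.Agent.H1.SchFlat.exact_app_cokernel hF hG φ hW'
  obtain ⟨σ, hσ⟩ := (hex (G.presheaf.map (homOfLE hW'V).op ψ)).mp h1
  refine ⟨F.presheaf.germ W' x hxW' σ, ?_⟩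
  rw [RefHull.stalkMapₗ_germ]
  have hσ' : φ.app W' σ = G.presheaf.map (homOfLE hW'V).op ψ := hσ
  rw [hσ', germ_res G x hW'V hxW' ψ]

theorem isFiniteType_structureModule (X : Scheme.{u}) :
    (Coh.structureModule X).IsFiniteType := by
  rw [isFiniteType_iff_finite_sections]
  intro U _
  exact inferInstanceAs (Module.Finite Γ(X, U) Γ(X, U))

/-- **S16149** -/
theorem isOpen_isoLocus [IsLocallyNoetherian X] (hF : Coh.IsCoh F)
    (s : Coh.structureModule X ⟶ F) : IsOpen (RefPow.isoLocus s) := by
  have hO : (Coh.structureModule X).IsQuasicoherent := inferInstance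
  have hFq : F.IsQuasicoherent := hF.1
  have hK : (kernel s).IsQuasicoherent := qc_kernel s hO hFq
  have hC : (cokernel s).IsQuasicoherent := qc_cokernel s hO hFq
  have hKft : (kernel s).IsFiniteType :=
    isFiniteType_of_mono (kernel.ι s) hK hO (isFiniteType_structureModule X)
  have hCft : (cokernel s).IsFiniteType := isFiniteType_of_epi (cokernel.π s) hFq hC hF.2
  have h1 := (isClosed_support_of_isFiniteType (kernel s) hKft).isOpen_compl
  have h2 := (isClosed_support_of_isFiniteType (cokernel s) hCft).isOpen_compl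
  have heq : RefPow.isoLocus s =
      {x : X | ¬ Subsingleton ((kernel s).presheaf.stalk x)}ᶜ ∩
        {x : X | ¬ Subsingleton ((cokernel s).presheaf.stalk x)}ᶜ := by
    ext x
    rw [RefPow.mem_isoLocus, Set.mem_inter_iff, Set.mem_compl_iff, Set.mem_compl_iff,
      Set.mem_setOf_eq, Set.mem_setOf_eq, not_not, not_not, ← injective_iff,
      ← surjective_iff s hO hFq]
    rfl
  rw [heq]
  exact h1.inter h2

end Groth.Agent.H2.IsoLocus
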