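import Mathlib
import Groth.Agent.Lib.Helper2.DepthIso1
import Groth.Agent.Lib.Helper2.IsoLocus
import Groth.Agent.Lib.Helper2.AssSch1
import Groth.Agent.Lib.Lead.QC.WeakAss
import Groth.Agent.Lib.Lead.QC.WeakAssNoeth
import Groth.Agent.Lib.Helper1.CohLen

/-!
# An isomorphism criterion via depth (helper2): S8890
-/

set_option autoImplicit false
set_option linter.style.haveILetI false
universe u
open CategoryTheory Limits AlgebraicGeometry TopologicalSpace Opposite IsLocalRing

namespace Groth.Agent.H2.DepthIso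

open Groth.Agent.LD.QC Groth.Agent.H2.AssSch Groth.Agent.H2.IsoLocus

variable {X : Scheme.{u}} [IsLocallyNoetherian X] {F G : X.Modules}

/-- a weakly associated point gives an element of the stalk killed exactly by the maximal ideal -/
theorem exists_ann_eq_of_isWeakAssPoint (M : X.Modules) (x : X) (h : Curv2.IsWeakAssPoint M x) :
    ∃ c : M.presheaf.stalk x, c ≠ 0 ∧ ∀ m ∈ maximalIdeal (X.presheaf.stalk x), m • c = 0 := by
  rw [isWeakAssPoint_iff_stalk] at h
  obtain ⟨c, hc⟩ := exists_ker_eq_of_mem_weakAss _ h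
  refine ⟨c, ?_, ?_⟩
  · rintro rfl
    have : (1 : X.presheaf.stalk x) ∈ maximalIdeal (X.presheaf.stalk x) := by
      rw [hc]
      change (1 : X.presheaf.stalk x) • (0 : M.presheaf.stalk x) = 0
      rw [smul_zero]
    exact (Ideal.ne_top_iff_one _).mp (maximalIdeal.isMaximal _).ne_top this
  · intro m hm
    rw [hc] at hm
    exact hm

/-- an element killed by the maximal ideal makes the point associated -/
theorem isAssPoint_of_ann (M : X.Modules) (x : X) (c : M.presheaf.stalk x) (hc : c ≠ 0)
    (h : ∀ m ∈ maximalIdeal (X.presheaf.stalk x), m • c = 0) : Curv2.IsAssPoint M x := by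
  rw [isAssPoint_iff_isWeakAssPoint]
  refine ⟨c, ?_⟩
  have hle : maximalIdeal (X.presheaf.stalk x) ≤
      (LinearMap.ker (LinearMap.toSpanSingleton (X.presheaf.stalk x) (M.presheaf.stalk x) c) :
        Ideal (X.presheaf.stalk x)) := fun m hm => h m hm
  have hne : (LinearMap.ker (LinearMap.toSpanSingleton (X.presheaf.stalk x)
      (M.presheaf.stalk x) c) : Ideal (X.presheaf.stalk x)) ≠ ⊤ := by
    intro htop
    apply hc
    have : (1 : X.presheaf.stalk x) ∈ (LinearMap.ker (LinearMap.toSpanSingleton
        (X.presheaf.stalk x) (M.presheaf.stalk x) c) : Ideal (X.presheaf.stalk x)) := by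
      rw [htop]; trivial
    have h1 : (1 : X.presheaf.stalk x) • c = 0 := this
    rwa [one_smul] at h1
  have heq := (maximalIdeal.isMaximal (X.presheaf.stalk x)).eq_of_le hne hle
  have hrad := (maximalIdeal.isMaximal (X.presheaf.stalk x)).isPrime.radical
  calc Ideal.radical (LinearMap.ker (LinearMap.toSpanSingleton (X.presheaf.stalk x)
        (M.presheaf.stalk x) c) : Ideal (X.presheaf.stalk x))
      = Ideal.radical (maximalIdeal (X.presheaf.stalk x)) := by rw [heq]
    _ = maximalIdeal (X.presheaf.stalk x) := hrad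


/-- **S8890**: the isomorphism criterion -/
theorem isIso_of_depth (φ : F ⟶ G) (hF : Coh.IsCoh F) (hG : G.IsQuasicoherent)
    (h : ∀ x : X, Function.Bijective (RefHull.stalkMapₗ φ x) ∨
      ((2 : ℕ∞) ≤ LocCoh.depth (X.presheaf.stalk x) (F.presheaf.stalk x) ∧
        ¬ Curv2.IsAssPoint G x)) : IsIso φ := by
  have hFq : F.IsQuasicoherent := hF.1
  haveI hK : (kernel φ).IsQuasicoherent := qc_kernel φ hFq hG
  haveI hC : (cokernel φ).IsQuasicoherent := qc_cokernel φ hFq hG
  have hfin : ∀ x : X, Module.Finite (X.presheaf.stalk x) (F.presheaf.stalk x) := fun x =>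
    Groth.Agent.H1.CohLen.finite_stalk F hF.2 x
  -- the kernel vanishes
  have hKz : IsZero (kernel φ) := by
    rw [isZero_iff_no_weakAssPoint]
    intro x hx
    rcases h x with hb | ⟨hd, -⟩
    · haveI := (injective_iff φ x).mp hb.1
      obtain ⟨c, hc, -⟩ := exists_ann_eq_of_isWeakAssPoint _ x hx
      exact hc (Subsingleton.elim _ _)
    · have hxF : Curv2.IsWeakAssPoint F x :=
        (mem_ass_iff _ x).mp (ass_subset_of_mono (kernel.ι φ) ((mem_ass_iff _ x).mpr hx))
      obtain ⟨c, hc, hann⟩ := exists_ann_eq_of_isWeakAssPoint F x hxF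
      haveI := hfin x
      exact depth_lt_two_of_ass c hc (fun m hm => ⟨1, by rw [pow_one]; exact hann m hm⟩) hd
  haveI : Mono φ := Preadditive.mono_of_isZero_kernel φ hKz
  have hinj : ∀ x : X, Function.Injective (RefHull.stalkMapₗ φ x) := fun x =>
    stalkMap_injective_of_mono φ x
  -- the cokernel vanishes
  have hCz : IsZero (cokernel φ) := by
    rw [isZero_iff_no_weakAssPoint]
    intro x hx
    obtain ⟨c, hc, hann⟩ := exists_ann_eq_of_isWeakAssPoint _ x hx
    rcases h x with hb | ⟨hd, hnass⟩
    · haveI := (surjective_iff φ hFq hG x).mp hb.2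
      exact hc (Subsingleton.elim _ _)
    · obtain ⟨g, hg'⟩ : ∃ g : G.presheaf.stalk x, RefHull.stalkMapₗ (cokernel.π φ) x g = c :=
        stalkMap_surjective_of_epi (cokernel.π φ) x c
      haveI := hfin x
      have hmem : g ∈ LinearMap.range (RefHull.stalkMapₗ φ x) := by
        refine mem_range_of_depth_two (hfinN := hfin x) (RefHull.stalkMapₗ φ x) (hinj x) hd ?_ g ?_
        · intro g' hg'0
          by_contra hne
          exact hnass (isAssPoint_of_ann G x g' hne hg'0)
        · intro m hm
          obtain ⟨a, ha⟩ := stalk_exact_cokernel φ hFq hG x (m • g) (by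
            rw [map_smul, hg']; exact hann m hm)
          exact ⟨a, ha⟩
      obtain ⟨a, ha⟩ := hmem
      apply hc
      rw [← hg', ← ha]
      obtain ⟨V, hxV, σ, rfl⟩ := TopCat.Presheaf.exists_germ_eq F.presheaf a
      rw [RefHull.stalkMapₗ_germ, RefHull.stalkMapₗ_germ]
      have h1 : (φ ≫ cokernel.π φ).app V σ = 0 := by
        rw [cokernel.condition]; rfl
      have h2 : (cokernel.π φ).app V (φ.app V σ) = 0 := h1
      rw [h2, map_zero]
  haveI : Epi φ := Preadditive.epi_of_isZero_cokernel φ hCz
  exact isIso_of_mono_of_epi φ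


/-- on an integral scheme a torsion-free module has no associated points besides the generic one -/
theorem not_isAssPoint_of_torsionFree [IsIntegral X] (G : X.Modules) (x : X)
    (htf : ∀ (m : X.presheaf.stalk x) (c : G.presheaf.stalk x), m • c = 0 → m = 0 ∨ c = 0)
    (hx : x ≠ genericPoint X) : ¬ Curv2.IsAssPoint G x := by
  intro hass
  rw [isAssPoint_iff_isWeakAssPoint] at hass
  obtain ⟨c, hc, hann⟩ := exists_ann_eq_of_isWeakAssPoint G x hass
  have hm0 : ∀ m ∈ maximalIdeal (X.presheaf.stalk x), m = 0 := fun m hm =>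
    (htf m c (hann m hm)).resolve_right hc
  obtain ⟨U, hU, hxU, -⟩ := exists_isAffineOpen_mem_and_subset (x := x) (U := ⊤) trivial
  have hξU : genericPoint X ∈ U :=
    ((genericPoint_spec X).mem_open_set_iff U.2).mpr ⟨x, trivial, hxU⟩
  apply hx
  refine (Specializes.antisymm ?_ (genericPoint_specializes x)).eq
  apply specializes_of_primeIdealOf_le hU x (genericPoint X) hxU hξU
  intro b hb
  letI : Algebra Γ(X, U) (X.presheaf.stalk x) := X.presheaf.algebra_section_stalk ⟨x, hxU⟩
  haveI := hU.isLocalization_stalk ⟨x, hxU⟩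
  have h1 : algebraMap Γ(X, U) (X.presheaf.stalk x) b ∈ maximalIdeal (X.presheaf.stalk x) :=
    (IsLocalization.AtPrime.to_map_mem_maximal_iff _ (hU.primeIdealOf ⟨x, hxU⟩).asIdeal b).mpr hb
  have h2 : X.presheaf.germ U x hxU b = 0 := hm0 _ h1
  have h3 : b = 0 := germ_injective_of_isIntegral X x hxU (h2.trans (map_zero _).symm)
  rw [h3]
  exact zero_mem _

end Groth.Agent.H2.DepthIso
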