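import Mathlib
import Groth.Prelude.Def_CAlg

/-!
# Serre's condition `S₁` and embedded primes, local algebra (helper2)
-/

set_option autoImplicit false
set_option linter.style.haveILetI false
universe u
open IsLocalRing RingTheory.Sequence

namespace Groth.Agent.H2.DepthS1

variable {R : Type u} [CommRing R] [IsLocalRing R] [IsNoetherianRing R]
  {N : Type u} [AddCommGroup N] [Module R N] [Module.Finite R N]

theorem smul_top_ne_top [Nontrivial N] : maximalIdeal R • (⊤ : Submodule R N) ≠ ⊤ := by
  intro htop
  have hbot : (⊤ : Submodule R N) = ⊥ :=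
    Submodule.eq_bot_of_le_smul_of_le_jacobson_bot (maximalIdeal R) ⊤ Module.Finite.fg_top
      htop.ge (maximalIdeal_le_jacobson _)
  exact top_ne_bot hbot

theorem one_le_depth_iff [Nontrivial N] :
    (1 : ℕ∞) ≤ LocCoh.depth R N ↔ ∃ a ∈ maximalIdeal R, IsSMulRegular N a := by
  unfold LocCoh.depth LocCoh.idealDepth
  rw [if_neg smul_top_ne_top]
  constructor
  · intro h
    by_contra hcon
    push Not at hcon
    have hle : (⨆ (rs : List R) (_ : IsWeaklyRegular N rs ∧ ∀ r ∈ rs, r ∈ maximalIdeal R),
        (rs.length : ℕ∞)) ≤ 0 := by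
      apply iSup_le
      intro rs
      apply iSup_le
      rintro ⟨hreg, hmem⟩
      match rs, hreg, hmem with
      | [], _, _ => simp
      | a :: rs', hreg, hmem =>
        exfalso
        rw [isWeaklyRegular_cons_iff] at hreg
        exact hcon a (hmem a (by simp)) hreg.1
    exact absurd (h.trans hle) (by decide)
  · rintro ⟨a, ha, hreg⟩
    refine le_trans ?_ (le_iSup₂ (f := fun (rs : List R)
      (_ : IsWeaklyRegular N rs ∧ ∀ r ∈ rs, r ∈ maximalIdeal R) => (rs.length : ℕ∞)) [a] ⟨?_, ?_⟩)
    · simp
    · rw [isWeaklyRegular_cons_iff]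
      exact ⟨hreg, IsWeaklyRegular.nil R _⟩
    · intro r hr
      rw [List.mem_singleton] at hr
      rw [hr]
      exact ha

/-- depth zero means the maximal ideal is associated -/
theorem maximalIdeal_isAssociatedPrime_iff [Nontrivial N] :
    IsAssociatedPrime (maximalIdeal R) N ↔ ¬ (1 : ℕ∞) ≤ LocCoh.depth R N := by
  rw [one_le_depth_iff]
  constructor
  · rintro hass ⟨a, ha, hreg⟩
    obtain ⟨-, c, hc⟩ := (isAssociatedPrime_iff).mp hass
    have hc0 : c ≠ 0 := by
      rintro rfl
      apply (maximalIdeal.isMaximal R).ne_top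
      rw [hc]
      ext r
      simp [Submodule.mem_colon_singleton]
    have hac : a • c = 0 := by
      rw [hc] at ha
      simpa [Submodule.mem_colon_singleton] using ha
    apply hc0
    apply hreg
    change a • c = a • (0 : N)
    rw [hac, smul_zero]
  · intro h
    push Not at h
    have hfin := associatedPrimes.finite R N
    have hsub : ((maximalIdeal R : Ideal R) : Set R) ⊆
        ⋃ p ∈ (↑hfin.toFinset : Set (Ideal R)), ((id p : Ideal R) : Set R) := by
      intro a ha
      have h1 : a ∈ {r : R | ∃ x : N, x ≠ 0 ∧ r • x = 0} := by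
        have h2 := h a ha
        rw [isSMulRegular_iff_right_eq_zero_of_smul] at h2
        push Not at h2
        obtain ⟨x, hx, hx0⟩ := h2
        exact ⟨x, hx0, hx⟩
      rw [← biUnion_associatedPrimes_eq_zero_divisors R N] at h1
      simpa using h1
    have hp : ∀ i ∈ hfin.toFinset, i ≠ (⊥ : Ideal R) → i ≠ (⊥ : Ideal R) →
        Ideal.IsPrime (id i : Ideal R) := by
      intro p hp _ _
      rw [Set.Finite.mem_toFinset] at hp
      exact hp.1
    obtain ⟨p, hp', hle⟩ :=
      (Ideal.subset_union_prime (s := hfin.toFinset) (f := id) ⊥ ⊥ hp).mp hsub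
    rw [Set.Finite.mem_toFinset] at hp'
    have hpp : p.IsPrime := hp'.1
    have : p = maximalIdeal R := ((maximalIdeal.isMaximal R).eq_of_le hpp.ne_top hle).symm
    rw [← this]
    exact hp'

theorem maximalIdeal_mem_support [Nontrivial N] :
    (closedPoint R) ∈ Module.support R N := by
  obtain ⟨p, hp⟩ := Module.nonempty_support_of_nontrivial (R := R) (M := N)
  exact Module.mem_support_mono (le_maximalIdeal p.2.ne_top) hp

/-- positive-dimensional support means there is a non-maximal associated prime -/
theorem one_le_supportDim_iff [Nontrivial N] :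
    (1 : WithBot ℕ∞) ≤ Module.supportDim R N ↔
      ∃ q : Ideal R, IsAssociatedPrime q N ∧ q ≠ maximalIdeal R := by
  unfold Module.supportDim
  rw [Order.one_le_krullDim_iff]
  constructor
  · rintro ⟨a, b, hab⟩
    have ha : Module.annihilator R N ≤ a.1.asIdeal := Module.mem_support_iff_of_finite.mp a.2
    obtain ⟨q, hq, hqa⟩ := Ideal.exists_minimalPrimes_le ha
    have hqass : IsAssociatedPrime q N :=
      Module.associatedPrimes.minimalPrimes_annihilator_subset_associatedPrimes R N hq
    refine ⟨q, hqass, ?_⟩
    rintro rfl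
    have hlt : a.1.asIdeal < b.1.asIdeal := hab
    have hb : b.1.asIdeal ≤ maximalIdeal R := le_maximalIdeal b.1.2.ne_top
    exact absurd (lt_of_lt_of_le (hqa.trans_lt hlt) hb) (lt_irrefl _)
  · rintro ⟨q, hq, hne⟩
    have hqp : q.IsPrime := hq.1
    have hqs : (⟨q, hqp⟩ : PrimeSpectrum R) ∈ Module.support R N := by
      rw [Module.mem_support_iff_of_finite]
      have := hq.annihilator_le
      rwa [Submodule.annihilator_top] at this
    refine ⟨⟨⟨q, hqp⟩, hqs⟩, ⟨closedPoint R, maximalIdeal_mem_support⟩, ?_⟩
    change q < maximalIdeal R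
    exact lt_of_le_of_ne (le_maximalIdeal hqp.ne_top) hne

/-- the condition `S₁` at a local ring in terms of associated primes -/
theorem s1_iff :
    min (1 : WithBot ℕ∞) (Module.supportDim R N) ≤ ((LocCoh.depth R N : ℕ∞) : WithBot ℕ∞) ↔
      ¬ (IsAssociatedPrime (maximalIdeal R) N ∧
        ∃ q : Ideal R, IsAssociatedPrime q N ∧ q ≠ maximalIdeal R) := by
  rcases subsingleton_or_nontrivial N with hN | hN
  · have h1 : Module.supportDim R N = ⊥ := Module.supportDim_eq_bot_of_subsingleton R N
    rw [h1, min_eq_right bot_le]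
    refine iff_of_true bot_le ?_
    rintro ⟨hass, -⟩
    have : maximalIdeal R ∈ associatedPrimes R N := hass
    rw [associatedPrimes.eq_empty_of_subsingleton] at this
    exact this
  · by_cases hass : IsAssociatedPrime (maximalIdeal R) N
    · have hd : ¬ (1 : ℕ∞) ≤ LocCoh.depth R N := maximalIdeal_isAssociatedPrime_iff.mp hass
      have hd0 : LocCoh.depth R N = 0 := by
        rw [Order.one_le_iff_ne_zero, not_not] at hd
        exact hd
      rw [hd0, ← one_le_supportDim_iff]
      simp only [hass, true_and]
      constructor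
      · intro h h1
        rw [min_eq_left h1] at h
        exact absurd h (by decide)
      · intro h
        rw [not_le] at h
        rw [min_eq_right h.le]
        have h2 : Module.supportDim R N < ((1 : ℕ∞) : WithBot ℕ∞) := h
        rcases hsd : Module.supportDim R N with _ | n
        · exact bot_le
        · rw [hsd] at h2
          have h3 : n < 1 := WithBot.coe_lt_coe.mp h2
          have h4 : n = 0 := Order.lt_one_iff.mp h3
          rw [h4]
          exact le_refl _
    · have hd : (1 : ℕ∞) ≤ LocCoh.depth R N := by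
        by_contra hcon
        exact hass (maximalIdeal_isAssociatedPrime_iff.mpr hcon)
      refine iff_of_true ?_ (fun h => hass h.1)
      refine le_trans (min_le_left _ _) ?_
      exact WithBot.coe_le_coe.mpr hd

end Groth.Agent.H2.DepthS1
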