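import Mathlib
import Groth.Prelude.Def_CAlg
import Groth.Agent.Lib.Helper2.DepthS1

/-!
# A criterion for depth at least two (helper2)

Local algebra: a finite module over a Noetherian local ring without `𝔪`-torsion, such that no
quotient by a regular element of `𝔪` has `𝔪`-torsion, has depth at least two.
-/

set_option autoImplicit false
set_option linter.style.haveILetI false
universe u
open IsLocalRing RingTheory.Sequence

namespace Groth.Agent.H2.DepthRes
open Groth.Agent.H2.DepthS1
open scoped Pointwise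

variable {R : Type u} [CommRing R] [IsLocalRing R] [IsNoetherianRing R]
  {N : Type u} [AddCommGroup N] [Module R N] [Module.Finite R N]

/-- no `𝔪`-torsion gives a regular element in `𝔪` -/
theorem exists_regular_of_no_torsion [Nontrivial N]
    (h : ∀ c : N, (∀ r ∈ maximalIdeal R, r • c = 0) → c = 0) :
    ∃ a ∈ maximalIdeal R, IsSMulRegular N a := by
  rw [← one_le_depth_iff]
  by_contra hcon
  rw [← maximalIdeal_isAssociatedPrime_iff] at hcon
  obtain ⟨-, c, hc⟩ := isAssociatedPrime_iff.mp hcon
  have hc0 : c = 0 := h c (fun r hr => by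
    rw [hc] at hr
    simpa [Submodule.mem_colon_singleton] using hr)
  apply (maximalIdeal.isMaximal R).ne_top
  rw [hc, hc0]
  ext r
  simp [Submodule.mem_colon_singleton]

/-- the depth-two criterion -/
theorem two_le_depth_of [Nontrivial N]
    (h1 : ∀ c : N, (∀ r ∈ maximalIdeal R, r • c = 0) → c = 0)
    (h2 : ∀ a ∈ maximalIdeal R, IsSMulRegular N a → ∀ c : N,
      (∀ r ∈ maximalIdeal R, ∃ d : N, r • c = a • d) → ∃ d : N, c = a • d) :
    (2 : ℕ∞) ≤ LocCoh.depth R N := by
  obtain ⟨a, ha, hreg⟩ := exists_regular_of_no_torsion h1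
  haveI : Nontrivial (QuotSMulTop a N) := nontrivial_quotSMulTop_of_mem_maximalIdeal N ha
  obtain ⟨b, hb, hbreg⟩ := exists_regular_of_no_torsion (N := QuotSMulTop a N) (by
    intro q hq
    obtain ⟨c, rfl⟩ := Submodule.Quotient.mk_surjective _ q
    obtain ⟨d, hd⟩ := h2 a ha hreg c (fun r hr => by
      have h3 := hq r hr
      rw [← Submodule.Quotient.mk_smul, Submodule.Quotient.mk_eq_zero,
        Submodule.mem_smul_pointwise_iff_exists] at h3
      obtain ⟨d, -, hd⟩ := h3
      exact ⟨d, hd.symm⟩)
    rw [Submodule.Quotient.mk_eq_zero, Submodule.mem_smul_pointwise_iff_exists]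
    exact ⟨d, Submodule.mem_top, hd.symm⟩)
  unfold LocCoh.depth LocCoh.idealDepth
  rw [if_neg smul_top_ne_top]
  refine le_trans ?_ (le_iSup₂ (f := fun (rs : List R)
    (_ : IsWeaklyRegular N rs ∧ ∀ r ∈ rs, r ∈ maximalIdeal R) => (rs.length : ℕ∞)) [a, b] ⟨?_, ?_⟩)
  · simp
  · rw [isWeaklyRegular_cons_iff, isWeaklyRegular_cons_iff]
    exact ⟨hreg, hbreg, IsWeaklyRegular.nil R _⟩
  · intro r hr
    simp only [List.mem_cons, List.not_mem_nil, or_false] at hr
    rcases hr with rfl | rfl
    · exact ha
    · exact hb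

end Groth.Agent.H2.DepthRes
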