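import Mathlib
import Groth.Agent.Lib.Helper2.DepthS1
import Groth.Agent.Lib.Helper2.AssSch1
import Groth.Agent.Lib.Lead.QC.WeakAss
import Groth.Agent.Lib.Helper1.CohLen

/-!
# No embedded points iff `S₁` (helper2): S8871
-/

set_option autoImplicit false
set_option linter.style.haveILetI false
universe u
open CategoryTheory Limits AlgebraicGeometry TopologicalSpace Opposite IsLocalRing

namespace Groth.Agent.H2.DepthS1

open Groth.Agent.LD.QC Groth.Agent.H2.AssSch

variable {X : Scheme.{u}} [IsLocallyNoetherian X] (F : X.Modules) [F.IsQuasicoherent]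

/-- associated primes of the stalk versus those of the sections on an affine chart -/
theorem isAssociatedPrime_stalk_iff {U : X.Opens} (hU : IsAffineOpen U) (x : X) (hx : x ∈ U)
    (q : Ideal (X.presheaf.stalk x)) :
    IsAssociatedPrime q (F.presheaf.stalk x) ↔
      IsAssociatedPrime (q.comap (X.presheaf.germ U x hx).hom) Γ(F, U) := by
  letI algBA : Algebra Γ(X, U) (X.presheaf.stalk x) :=
    TopCat.Presheaf.algebra_section_stalk X.presheaf ⟨x, hx⟩
  haveI hloc := hU.isLocalization_stalk ⟨x, hx⟩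
  letI mB := stalkΓModule F x U hx
  haveI tower : IsScalarTower Γ(X, U) (X.presheaf.stalk x) (F.presheaf.stalk x) :=
    ⟨fun r a m => by
      change (X.presheaf.germ U x hx r * a) • m = X.presheaf.germ U x hx r • (a • m)
      rw [mul_smul]⟩
  haveI hlm := isLocalizedModule_germ F hU x hx
  haveI : IsNoetherianRing Γ(X, U) := IsLocallyNoetherian.component_noetherian ⟨U, hU⟩
  have key :=
    Module.associatedPrimes.preimage_comap_associatedPrimes_eq_associatedPrimes_of_isLocalizedModule
      (hU.primeIdealOf ⟨x, hx⟩).asIdeal.primeCompl (X.presheaf.stalk x) (germLinear F x U hx)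
  constructor
  · intro h
    have h' : q ∈ associatedPrimes (X.presheaf.stalk x) (F.presheaf.stalk x) := h
    rw [← key] at h'
    exact h'
  · intro h
    have h' : q ∈ (Ideal.comap (algebraMap Γ(X, U) (X.presheaf.stalk x))) ⁻¹'
        associatedPrimes Γ(X, U) Γ(F, U) := h
    rw [key] at h'
    exact h'

theorem comap_maximalIdeal {U : X.Opens} (hU : IsAffineOpen U) (x : X) (hx : x ∈ U) :
    (maximalIdeal (X.presheaf.stalk x)).comap (X.presheaf.germ U x hx).hom =
      (hU.primeIdealOf ⟨x, hx⟩).asIdeal := by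
  letI algBA : Algebra Γ(X, U) (X.presheaf.stalk x) :=
    TopCat.Presheaf.algebra_section_stalk X.presheaf ⟨x, hx⟩
  haveI hloc := hU.isLocalization_stalk ⟨x, hx⟩
  exact IsLocalization.AtPrime.under_maximalIdeal (X.presheaf.stalk x)
    (hU.primeIdealOf ⟨x, hx⟩).asIdeal

/-- associated points in an affine chart -/
theorem isAssPoint_iff {U : X.Opens} (hU : IsAffineOpen U) (x : X) (hx : x ∈ U) :
    Curv2.IsAssPoint F x ↔ IsAssociatedPrime (hU.primeIdealOf ⟨x, hx⟩).asIdeal Γ(F, U) := by
  unfold Curv2.IsAssPoint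
  rw [isAssociatedPrime_stalk_iff F hU x hx, comap_maximalIdeal hU x hx]

/-- generizations of `x` associated to `F` correspond to associated primes of the stalk at `x` -/
theorem exists_assPrime_ne_iff (x : X) :
    (∃ q : Ideal (X.presheaf.stalk x), IsAssociatedPrime q (F.presheaf.stalk x) ∧
        q ≠ maximalIdeal (X.presheaf.stalk x)) ↔
      ∃ y : X, Curv2.IsAssPoint F y ∧ y ⤳ x ∧ y ≠ x := by
  obtain ⟨U, hU, hxU, -⟩ := exists_isAffineOpen_mem_and_subset (x := x) (U := ⊤) trivial
  letI algBA : Algebra Γ(X, U) (X.presheaf.stalk x) :=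
    TopCat.Presheaf.algebra_section_stalk X.presheaf ⟨x, hxU⟩
  haveI hloc := hU.isLocalization_stalk ⟨x, hxU⟩
  constructor
  · rintro ⟨q, hq, hne⟩
    have hqp : q.IsPrime := hq.1
    have hq₀ := (isAssociatedPrime_stalk_iff F hU x hxU q).mp hq
    have hq₀p : (q.comap (X.presheaf.germ U x hxU).hom).IsPrime := hq₀.1
    set y₀ : PrimeSpectrum Γ(X, U) := ⟨q.comap (X.presheaf.germ U x hxU).hom, hq₀p⟩ with hy₀
    have hyU : hU.fromSpec y₀ ∈ U := fromSpec_mem hU y₀
    have hpy : hU.primeIdealOf ⟨hU.fromSpec y₀, hyU⟩ = y₀ := primeIdealOf_fromSpec hU y₀ hyU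
    refine ⟨hU.fromSpec y₀, ?_, ?_, ?_⟩
    · rw [isAssPoint_iff F hU _ hyU, hpy]
      exact hq₀
    · apply specializes_of_primeIdealOf_le hU _ _ hyU hxU
      rw [hpy, ← comap_maximalIdeal hU x hxU]
      exact Ideal.comap_mono (le_maximalIdeal hqp.ne_top)
    · intro hyx
      apply hne
      have h1 : (hU.primeIdealOf ⟨x, hxU⟩).asIdeal = y₀.asIdeal := by
        rw [← hpy]
        congr 2
        exact Subtype.ext hyx.symm
      rw [← comap_maximalIdeal hU x hxU] at h1
      have h2 := IsLocalization.map_under (hU.primeIdealOf ⟨x, hxU⟩).asIdeal.primeCompl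
        (X.presheaf.stalk x) q
      have h3 := IsLocalization.map_under (hU.primeIdealOf ⟨x, hxU⟩).asIdeal.primeCompl
        (X.presheaf.stalk x) (maximalIdeal (X.presheaf.stalk x))
      rw [← h2, ← h3]
      exact congrArg (Ideal.map (algebraMap Γ(X, U) (X.presheaf.stalk x))) h1.symm
  · rintro ⟨y, hy, hyx, hne⟩
    have hyU : y ∈ U := hyx.mem_open U.2 hxU
    have hpy := (isAssPoint_iff F hU y hyU).mp hy
    have hle := primeIdealOf_le_of_specializes hU x y hxU hyU hyx
    have hdisj : Disjoint ((hU.primeIdealOf ⟨x, hxU⟩).asIdeal.primeCompl : Set Γ(X, U))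
        ((hU.primeIdealOf ⟨y, hyU⟩).asIdeal : Set Γ(X, U)) := by
      rw [Set.disjoint_left]
      intro a ha ha'
      exact ha (hle ha')
    have hcomap := IsLocalization.under_map_of_isPrime_disjoint
      (hU.primeIdealOf ⟨x, hxU⟩).asIdeal.primeCompl (X.presheaf.stalk x)
      (hU.primeIdealOf ⟨y, hyU⟩).2 hdisj
    refine ⟨Ideal.map (algebraMap Γ(X, U) (X.presheaf.stalk x))
      (hU.primeIdealOf ⟨y, hyU⟩).asIdeal, ?_, ?_⟩
    · rw [isAssociatedPrime_stalk_iff F hU x hxU]
      have : Ideal.comap (X.presheaf.germ U x hxU).hom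
          (Ideal.map (algebraMap Γ(X, U) (X.presheaf.stalk x))
            (hU.primeIdealOf ⟨y, hyU⟩).asIdeal) = (hU.primeIdealOf ⟨y, hyU⟩).asIdeal := hcomap
      rw [this]
      exact hpy
    · intro heq
      apply hne
      have h1 : (hU.primeIdealOf ⟨y, hyU⟩).asIdeal = (hU.primeIdealOf ⟨x, hxU⟩).asIdeal := by
        rw [← comap_maximalIdeal hU x hxU, ← heq]
        exact hcomap.symm
      exact (Specializes.antisymm hyx
        (specializes_of_primeIdealOf_le hU x y hxU hyU h1.ge)).eq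

/-- **S8871** -/
theorem noEmbedded_iff_s1 (hF : F.IsFiniteType) :
    (∀ x : X, Curv2.IsAssPoint F x → ∀ y : X, Curv2.IsAssPoint F y → y ⤳ x → y = x) ↔
      ∀ x : X, min (1 : WithBot ℕ∞)
          (Module.supportDim (X.presheaf.stalk x) (F.presheaf.stalk x)) ≤
        ((LocCoh.depth (X.presheaf.stalk x) (F.presheaf.stalk x) : ℕ∞) : WithBot ℕ∞) := by
  have hfin : ∀ x : X, Module.Finite (X.presheaf.stalk x) (F.presheaf.stalk x) := fun x =>
    Groth.Agent.H1.CohLen.finite_stalk F hF x
  have key : ∀ x : X, (min (1 : WithBot ℕ∞)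
          (Module.supportDim (X.presheaf.stalk x) (F.presheaf.stalk x)) ≤
        ((LocCoh.depth (X.presheaf.stalk x) (F.presheaf.stalk x) : ℕ∞) : WithBot ℕ∞)) ↔
      ¬ (Curv2.IsAssPoint F x ∧ ∃ y : X, Curv2.IsAssPoint F y ∧ y ⤳ x ∧ y ≠ x) := by
    intro x
    haveI := hfin x
    rw [s1_iff, exists_assPrime_ne_iff F x]
    rfl
  simp only [key]
  constructor
  · rintro h x ⟨hx, y, hy, hyx, hne⟩
    exact hne (h x hx y hy hyx)
  · intro h x hx y hy hyx
    by_contra hne
    exact h x ⟨hx, y, hy, hyx, hne⟩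

end Groth.Agent.H2.DepthS1
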