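import Mathlib
import Groth.Agent.Lib.Helper2.DepthRes1
import Groth.Agent.Lib.Helper2.DepthS1Sch
import Groth.Agent.Lib.Helper2.AssSch1
import Groth.Agent.Lib.Lead.QC.Stalk
import Groth.Agent.Lib.Lead.QC.StalkNbhd
import Groth.Agent.Lib.Lead.QC.FinType
import Groth.Agent.Lib.Lead.QC.CartierHeight
import Groth.Agent.Lib.Helper1.CohLen
import Groth.Prelude.Def_FlatMod2

/-!
# Bijective restriction maps force depth at least two (helper2): S6039, S12226
-/

set_option autoImplicit false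
set_option linter.style.haveILetI false
universe u
open CategoryTheory Limits AlgebraicGeometry TopologicalSpace Opposite IsLocalRing

namespace Groth.Agent.H2.DepthRes

open Groth.Agent.LD.QC Groth.Agent.H2.AssSch Groth.Agent.H2.DepthS1

variable {X : Scheme.{u}}

/-- `germ_smul` for the module structure on stalks found by instance search here -/
lemma germ_smul' (M : X.Modules) (x : X) (U : X.Opens) (hx : x ∈ U) (r : Γ(X, U)) (m : Γ(M, U)) :
    M.presheaf.germ U x hx (r • m) = X.presheaf.germ U x hx r • M.presheaf.germ U x hx m :=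
  germ_smul M x U hx r m

/-- a section over an open containing no specialization of `x`, killed by the prime of `x`,
vanishes -/
theorem eq_zero_of_prime_smul (M : X.Modules) {W : X.Opens} (hW : IsAffineOpen W) (x : X)
    (hx : x ∈ W) {O : X.Opens} (hOW : O ≤ W) (hO : ∀ y ∈ O, ¬ x ⤳ y) (t : Γ(M, O))
    (h : ∀ a ∈ (hW.primeIdealOf ⟨x, hx⟩).asIdeal, X.presheaf.map (homOfLE hOW).op a • t = 0) :
    t = 0 := by
  apply section_eq_zero_of_germ
  intro y hy
  have hyW : y ∈ W := hOW hy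
  have hnle : ¬ (hW.primeIdealOf ⟨x, hx⟩).asIdeal ≤ (hW.primeIdealOf ⟨y, hyW⟩).asIdeal := by
    intro hle
    exact hO y hy (specializes_of_primeIdealOf_le hW x y hx hyW hle)
  obtain ⟨a, hap, hay⟩ := SetLike.not_le_iff_exists.mp hnle
  have hu : IsUnit (X.presheaf.germ W y hyW a) := isUnit_germ_of_notMem hW y hyW a hay
  have h0 := congrArg (M.presheaf.germ O y hy) (h a hap)
  rw [germ_smul, sgerm_res, map_zero] at h0
  exact (hu.smul_eq_zero).mp h0

/-- finitely many local conditions hold on a common neighbourhood -/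
theorem exists_common_nbhd {ι : Type*} (S : Finset ι) (x : X) (W : X.Opens) (hx : x ∈ W)
    (Q : ι → X.Opens → Prop) (hQ : ∀ i (V V' : X.Opens), V' ≤ V → Q i V → Q i V')
    (h : ∀ i ∈ S, ∃ V : X.Opens, V ≤ W ∧ x ∈ V ∧ Q i V) :
    ∃ V : X.Opens, V ≤ W ∧ x ∈ V ∧ ∀ i ∈ S, Q i V := by
  classical
  induction S using Finset.induction_on with
  | empty => exact ⟨W, le_rfl, hx, fun i hi => absurd hi (Finset.notMem_empty i)⟩
  | insert i S hi ih =>
    obtain ⟨V₁, hV₁, hx₁, hQ₁⟩ := ih (fun j hj => h j (Finset.mem_insert_of_mem hj))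
    obtain ⟨V₂, hV₂, hx₂, hQ₂⟩ := h i (Finset.mem_insert_self i S)
    refine ⟨V₁ ⊓ V₂, inf_le_left.trans hV₁, ⟨hx₁, hx₂⟩, ?_⟩
    intro j hj
    rcases Finset.mem_insert.mp hj with rfl | hj
    · exact hQ _ _ _ inf_le_right hQ₂
    · exact hQ _ _ _ inf_le_left (hQ₁ j hj)

/-- representing a germ of a function and a germ of a section on a common affine open -/
theorem exists_affine_repr (M : X.Modules) (x : X) (a : X.presheaf.stalk x)
    (c : M.presheaf.stalk x) :
    ∃ (W : X.Opens) (_ : IsAffineOpen W) (hx : x ∈ W) (α : Γ(X, W)) (s : Γ(M, W)),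
      X.presheaf.germ W x hx α = a ∧ M.presheaf.germ W x hx s = c := by
  obtain ⟨V₁, hx₁, α₀, rfl⟩ := TopCat.Presheaf.germ_exist X.presheaf a
  obtain ⟨V₂, hx₂, s₀, rfl⟩ := TopCat.Presheaf.germ_exist M.presheaf c
  obtain ⟨W, hW, hxW, hWV⟩ := exists_isAffineOpen_mem_and_subset (x := x) (U := V₁ ⊓ V₂) ⟨hx₁, hx₂⟩
  have h1 : W ≤ V₁ := fun y hy => (hWV hy).1
  have h2 : W ≤ V₂ := fun y hy => (hWV hy).2
  exact ⟨W, hW, hxW, X.presheaf.map (homOfLE h1).op α₀, M.presheaf.map (homOfLE h2).op s₀,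
    sgerm_res x h1 hxW α₀, germ_res M x h2 hxW s₀⟩

/-- if restriction to the traces on `U` is injective, then stalks outside `U` have no
`𝔪`-torsion -/
theorem no_torsion [IsLocallyNoetherian X] (M : X.Modules) (U : X.Opens)
    (hinj : ∀ V : X.Opens,
      Function.Injective (M.presheaf.map (homOfLE (inf_le_left : V ⊓ U ≤ V)).op))
    (x : X) (hxU : x ∉ U) (c : M.presheaf.stalk x)
    (hc : ∀ r ∈ maximalIdeal (X.presheaf.stalk x), r • c = 0) : c = 0 := by
  classical
  obtain ⟨W, hW, hxW, -, s, -, rfl⟩ := exists_affine_repr M x 0 c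
  haveI : IsNoetherianRing Γ(X, W) := IsLocallyNoetherian.component_noetherian ⟨W, hW⟩
  obtain ⟨S, hS⟩ := (isNoetherianRing_iff_ideal_fg Γ(X, W)).mp inferInstance
    (hW.primeIdealOf ⟨x, hxW⟩).asIdeal
  obtain ⟨W', hW', hxW', hQ⟩ := exists_common_nbhd S x W hxW
    (fun a V => ∃ h : V ≤ W, M.presheaf.map (homOfLE h).op (a • s) = 0)
    (fun a V V' hVV' ⟨h, h0⟩ => ⟨hVV'.trans h, by
      rw [← res_res M h hVV', h0, map_zero]⟩)
    (fun a ha => by
      have hap : a ∈ (hW.primeIdealOf ⟨x, hxW⟩).asIdeal := hS ▸ Ideal.subset_span ha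
      rw [← comap_maximalIdeal hW x hxW] at hap
      have h0 : M.presheaf.germ W x hxW (a • s) = 0 := by
        rw [germ_smul]
        exact hc _ (Ideal.mem_comap.mp hap)
      obtain ⟨V, hV, hxV, hV0⟩ := exists_res_eq_zero_of_germ_eq_zero M x hxW (a • s) h0
      exact ⟨V, hV, hxV, hV, hV0⟩)
  have hOW : W' ⊓ U ≤ W := inf_le_left.trans hW'
  have hkill : ∀ a ∈ (hW.primeIdealOf ⟨x, hxW⟩).asIdeal,
      M.presheaf.map (homOfLE hOW).op (a • s) = 0 := by
    intro a ha
    rw [← hS] at ha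
    induction ha using Submodule.span_induction with
    | mem a ha =>
      obtain ⟨h, h0⟩ := hQ a ha
      rw [← res_res M h inf_le_left, h0, map_zero]
    | zero => rw [zero_smul, map_zero]
    | add a b _ _ ha hb => rw [add_smul, map_add, ha, hb, add_zero]
    | smul r a _ ha =>
      rw [smul_eq_mul, mul_smul, smul_res, ha, smul_zero]
  have h0 : M.presheaf.map (homOfLE hOW).op s = 0 := by
    apply eq_zero_of_prime_smul M hW x hxW hOW
    · intro y hy hspec
      exact hxU (hspec.mem_open U.2 hy.2)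
    · intro a ha
      rw [← smul_res]
      exact hkill a ha
  have h1 : M.presheaf.map (homOfLE hW').op s = 0 := by
    apply hinj W'
    rw [res_res, h0, map_zero]
  rw [← germ_res M x hW' hxW' s, h1, map_zero]

/-- regularity of a function on the stalk at `x` spreads to sections over small opens near `x` -/
theorem exists_nbhd_regular [IsLocallyNoetherian X] (M : X.Modules) [M.IsQuasicoherent]
    (hM : M.IsFiniteType) {W : X.Opens} (hW : IsAffineOpen W) (x : X) (hx : x ∈ W) (α : Γ(X, W))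
    (hreg : IsSMulRegular (M.presheaf.stalk x) (X.presheaf.germ W x hx α)) :
    ∃ W₁ : X.Opens, W₁ ≤ W ∧ x ∈ W₁ ∧ ∀ (O : X.Opens) (_ : O ≤ W₁) (hOW : O ≤ W) (τ : Γ(M, O)),
      X.presheaf.map (homOfLE hOW).op α • τ = 0 → τ = 0 := by
  classical
  haveI : IsNoetherianRing Γ(X, W) := IsLocallyNoetherian.component_noetherian ⟨W, hW⟩
  haveI : Module.Finite Γ(X, W) Γ(M, W) := finite_sections_of_isFiniteType M hM hW
  let K : Submodule Γ(X, W) Γ(M, W) := LinearMap.ker (LinearMap.lsmul Γ(X, W) Γ(M, W) α)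
  obtain ⟨T, hT⟩ := (IsNoetherian.noetherian K : K.FG)
  obtain ⟨W₁, hW₁, hxW₁, hQ⟩ := exists_common_nbhd T x W hx
    (fun k V => ∃ h : V ≤ W, M.presheaf.map (homOfLE h).op k = 0)
    (fun k V V' hVV' ⟨h, h0⟩ => ⟨hVV'.trans h, by rw [← res_res M h hVV', h0, map_zero]⟩)
    (fun k hk => by
      have hkK : k ∈ K := hT ▸ Submodule.subset_span hk
      have hαk : α • k = 0 := hkK
      have h0 : M.presheaf.germ W x hx k = 0 := by
        apply hreg
        change X.presheaf.germ W x hx α • M.presheaf.germ W x hx k =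
          X.presheaf.germ W x hx α • (0 : M.presheaf.stalk x)
        rw [smul_zero, ← germ_smul', hαk, map_zero]
      obtain ⟨V, hV, hxV, hV0⟩ := exists_res_eq_zero_of_germ_eq_zero M x hx k h0
      exact ⟨V, hV, hxV, hV, hV0⟩)
  have hK0 : ∀ k ∈ K, M.presheaf.map (homOfLE hW₁).op k = 0 := by
    intro k hk
    rw [← hT] at hk
    induction hk using Submodule.span_induction with
    | mem k hk =>
      obtain ⟨h, h0⟩ := hQ k hk
      exact h0
    | zero => exact map_zero _
    | add a b _ _ ha hb => rw [map_add, ha, hb, add_zero]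
    | smul r a _ ha => rw [smul_res, ha, smul_zero]
  refine ⟨W₁, hW₁, hxW₁, ?_⟩
  intro O hO hOW τ hτ
  apply section_eq_zero_of_germ
  intro y hy
  have hyW : y ∈ W := hOW hy
  letI := stalkΓModule M y W hyW
  haveI := isLocalizedModule_germ M hW y hyW
  obtain ⟨⟨n, u⟩, hnu⟩ := IsLocalizedModule.surj (hW.primeIdealOf ⟨y, hyW⟩).asIdeal.primeCompl
    (germLinear M y W hyW) (M.presheaf.germ O y hy τ)
  have hnu' : X.presheaf.germ W y hyW u.1 • M.presheaf.germ O y hy τ =
      M.presheaf.germ W y hyW n := hnu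
  have hu : IsUnit (X.presheaf.germ W y hyW u.1) := isUnit_germ_of_notMem hW y hyW u.1 u.2
  have hατ : X.presheaf.germ W y hyW α • M.presheaf.germ O y hy τ = 0 := by
    have := congrArg (M.presheaf.germ O y hy) hτ
    rwa [germ_smul', sgerm_res, map_zero] at this
  have h1 : germLinear M y W hyW (α • n) = 0 := by
    rw [germLinear_apply, germ_smul', ← hnu', smul_smul, mul_comm, ← smul_smul, hατ, smul_zero]
  obtain ⟨v, hv⟩ := (IsLocalizedModule.eq_zero_iff
    (hW.primeIdealOf ⟨y, hyW⟩).asIdeal.primeCompl (germLinear M y W hyW)).mp h1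
  have hvn : v.1 • n ∈ K := by
    change α • (v.1 • n) = 0
    rw [smul_comm]
    exact hv
  have h2 := hK0 _ hvn
  have h3 : M.presheaf.germ W y hyW (v.1 • n) = 0 := by
    rw [← germ_res M y hW₁ (hO hy), h2, map_zero]
  rw [germ_smul'] at h3
  have hv' : IsUnit (X.presheaf.germ W y hyW v.1) := isUnit_germ_of_notMem hW y hyW v.1 v.2
  have h4 : M.presheaf.germ W y hyW n = 0 := hv'.smul_eq_zero.mp h3
  rw [h4] at hnu'
  exact hu.smul_eq_zero.mp hnu'

/-- if restriction to the traces on `U` is bijective, then outside `U` quotients of stalks by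
regular elements have no `𝔪`-torsion -/
theorem mem_smul_of_torsion [IsLocallyNoetherian X] (M : X.Modules) [M.IsQuasicoherent]
    (hM : M.IsFiniteType) (U : X.Opens)
    (hbij : ∀ V : X.Opens,
      Function.Bijective (M.presheaf.map (homOfLE (inf_le_left : V ⊓ U ≤ V)).op))
    (x : X) (hxU : x ∉ U) (a : X.presheaf.stalk x)
    (hreg : IsSMulRegular (M.presheaf.stalk x) a) (c : M.presheaf.stalk x)
    (hc : ∀ r ∈ maximalIdeal (X.presheaf.stalk x), ∃ d : M.presheaf.stalk x, r • c = a • d) :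
    ∃ d : M.presheaf.stalk x, c = a • d := by
  classical
  obtain ⟨W, hW, hxW, α, s, rfl, rfl⟩ := exists_affine_repr M x a c
  haveI : IsNoetherianRing Γ(X, W) := IsLocallyNoetherian.component_noetherian ⟨W, hW⟩
  obtain ⟨S, hS⟩ := (isNoetherianRing_iff_ideal_fg Γ(X, W)).mp inferInstance
    (hW.primeIdealOf ⟨x, hxW⟩).asIdeal
  obtain ⟨W₁, hW₁, hxW₁, hregW₁⟩ := exists_nbhd_regular M hM hW x hxW α hreg
  obtain ⟨W₂, hW₂, hxW₂, hQ⟩ := exists_common_nbhd S x W₁ hxW₁
    (fun g V => ∃ (h : V ≤ W) (σ : Γ(M, V)), M.presheaf.map (homOfLE h).op (g • s) =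
        X.presheaf.map (homOfLE h).op α • σ)
    (fun g V V' hVV' ⟨h, σ, hσ⟩ => ⟨hVV'.trans h, M.presheaf.map (homOfLE hVV').op σ, by
      rw [← res_res M h hVV', hσ, smul_res, sres_res]⟩)
    (fun g hg => by
      have hgp : g ∈ (hW.primeIdealOf ⟨x, hxW⟩).asIdeal := hS ▸ Ideal.subset_span hg
      rw [← comap_maximalIdeal hW x hxW] at hgp
      obtain ⟨d, hd⟩ := hc _ (Ideal.mem_comap.mp hgp)
      obtain ⟨V₀, hxV₀, σ₀, rfl⟩ := TopCat.Presheaf.germ_exist M.presheaf d
      have hV₁W : W₁ ⊓ V₀ ≤ W := inf_le_left.trans hW₁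
      have hxV₁ : x ∈ W₁ ⊓ V₀ := ⟨hxW₁, hxV₀⟩
      have h0 : M.presheaf.germ (W₁ ⊓ V₀) x hxV₁ (M.presheaf.map (homOfLE hV₁W).op (g • s) -
          X.presheaf.map (homOfLE hV₁W).op α •
            M.presheaf.map (homOfLE (inf_le_right : W₁ ⊓ V₀ ≤ V₀)).op σ₀) = 0 := by
        rw [map_sub, germ_res, germ_smul', germ_smul', sgerm_res, germ_res, sub_eq_zero]
        exact hd
      obtain ⟨V, hV, hxV, hV0⟩ := exists_res_eq_zero_of_germ_eq_zero M x hxV₁ _ h0
      refine ⟨V, hV.trans inf_le_left, hxV, hV.trans hV₁W,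
        M.presheaf.map (homOfLE (hV.trans inf_le_right)).op σ₀, ?_⟩
      rw [map_sub, sub_eq_zero, res_res] at hV0
      have e : M.presheaf.map (homOfLE hV).op (X.presheaf.map (homOfLE hV₁W).op α •
          M.presheaf.map (homOfLE (inf_le_right : W₁ ⊓ V₀ ≤ V₀)).op σ₀) =
          X.presheaf.map (homOfLE (hV.trans hV₁W)).op α •
            M.presheaf.map (homOfLE (hV.trans inf_le_right)).op σ₀ := by
        rw [smul_res, sres_res, res_res]
      rw [e] at hV0
      exact hV0)
  have hW₂W : W₂ ≤ W := hW₂.trans hW₁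
  choose hle σ hσ using fun g : S => hQ g.1 g.2
  -- the cover of `W₂ ⊓ U`
  let Og : S → X.Opens := fun g => (W₂ ⊓ U) ⊓ X.basicOpen g.1
  have hOgO : ∀ g, Og g ≤ W₂ ⊓ U := fun g => inf_le_left
  have hOgW₂ : ∀ g, Og g ≤ W₂ := fun g => inf_le_left.trans inf_le_left
  have hOgW : ∀ g, Og g ≤ W := fun g => (hOgW₂ g).trans hW₂W
  have hOgB : ∀ g : S, Og g ≤ X.basicOpen g.1 := fun g => inf_le_right
  have hcover : W₂ ⊓ U ≤ iSup Og := by
    intro y hy
    have hyW : y ∈ W := hW₂W hy.1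
    by_contra hcon
    have hall : ∀ g ∈ S, g ∈ (hW.primeIdealOf ⟨y, hyW⟩).asIdeal := by
      intro g hg
      rw [mem_primeIdealOf_iff hW y hyW g]
      intro hyg
      apply hcon
      rw [Opens.mem_iSup]
      exact ⟨⟨g, hg⟩, hy, hyg⟩
    have hle' : (hW.primeIdealOf ⟨x, hxW⟩).asIdeal ≤ (hW.primeIdealOf ⟨y, hyW⟩).asIdeal := by
      rw [← hS, Ideal.span_le]
      exact hall
    exact hxU ((specializes_of_primeIdealOf_le hW x y hxW hyW hle').mem_open U.2 hy.2)
  have hunit : ∀ g : S, IsUnit (X.presheaf.map (homOfLE (hOgW g)).op g.1) := by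
    intro g
    have h1 := (X.toRingedSpace.isUnit_res_basicOpen g.1).map
      (X.presheaf.map (homOfLE (hOgB g)).op).hom
    have h2 : (X.presheaf.map (homOfLE (hOgB g)).op).hom
        (X.presheaf.map (homOfLE (X.basicOpen_le g.1)).op g.1) =
        X.presheaf.map (homOfLE (hOgW g)).op g.1 := sres_res _ _ _
    rw [← h2]
    exact h1
  let τg : ∀ g : S, Γ(M, Og g) := fun g =>
    ((hunit g).unit⁻¹ : (Γ(X, Og g))ˣ).1 • M.presheaf.map (homOfLE (hOgW₂ g)).op (σ g)
  have hkey : ∀ g : S, X.presheaf.map (homOfLE (hOgW g)).op α • τg g =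
      M.presheaf.map (homOfLE (hOgW g)).op s := by
    intro g
    have h1 := congrArg (M.presheaf.map (homOfLE (hOgW₂ g)).op) (hσ g)
    rw [res_res, smul_res, smul_res, sres_res] at h1
    change X.presheaf.map (homOfLE (hOgW g)).op α •
      (((hunit g).unit⁻¹ : (Γ(X, Og g))ˣ).1 • M.presheaf.map (homOfLE (hOgW₂ g)).op (σ g)) = _
    rw [smul_comm, ← h1, smul_smul]
    have h3 : ((hunit g).unit⁻¹ : (Γ(X, Og g))ˣ).1 * X.presheaf.map (homOfLE (hOgW g)).op g.1 = 1 :=
      (hunit g).val_inv_mul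
    rw [h3, one_smul]
  have hcompat : TopCat.Presheaf.IsCompatible M.presheaf Og τg := by
    intro g g'
    change M.presheaf.map (homOfLE (inf_le_left : Og g ⊓ Og g' ≤ Og g)).op (τg g) =
      M.presheaf.map (homOfLE (inf_le_right : Og g ⊓ Og g' ≤ Og g')).op (τg g')
    rw [← sub_eq_zero]
    apply hregW₁ (Og g ⊓ Og g') (inf_le_left.trans ((hOgW₂ g).trans hW₂))
      (inf_le_left.trans (hOgW g))
    rw [smul_sub, sub_eq_zero]
    have e1 : X.presheaf.map (homOfLE (inf_le_left.trans (hOgW g) : Og g ⊓ Og g' ≤ W)).op α =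
        X.presheaf.map (homOfLE (inf_le_left : Og g ⊓ Og g' ≤ Og g)).op
          (X.presheaf.map (homOfLE (hOgW g)).op α) := (sres_res _ _ _).symm
    have e2 : X.presheaf.map (homOfLE (inf_le_left.trans (hOgW g) : Og g ⊓ Og g' ≤ W)).op α =
        X.presheaf.map (homOfLE (inf_le_right : Og g ⊓ Og g' ≤ Og g')).op
          (X.presheaf.map (homOfLE (hOgW g')).op α) := (sres_res _ _ _).symm
    calc X.presheaf.map (homOfLE (inf_le_left.trans (hOgW g) : Og g ⊓ Og g' ≤ W)).op α •
          M.presheaf.map (homOfLE (inf_le_left : Og g ⊓ Og g' ≤ Og g)).op (τg g)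
        = M.presheaf.map (homOfLE (inf_le_left : Og g ⊓ Og g' ≤ Og g)).op
            (X.presheaf.map (homOfLE (hOgW g)).op α • τg g) := by rw [e1, ← smul_res]
      _ = M.presheaf.map (homOfLE (inf_le_left.trans (hOgW g) : Og g ⊓ Og g' ≤ W)).op s := by
          rw [hkey g, res_res]
      _ = M.presheaf.map (homOfLE (inf_le_right : Og g ⊓ Og g' ≤ Og g')).op
            (X.presheaf.map (homOfLE (hOgW g')).op α • τg g') := by rw [hkey g', res_res]
      _ = X.presheaf.map (homOfLE (inf_le_left.trans (hOgW g) : Og g ⊓ Og g' ≤ W)).op α •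
          M.presheaf.map (homOfLE (inf_le_right : Og g ⊓ Og g' ≤ Og g')).op (τg g') := by
          rw [e2, ← smul_res]
  obtain ⟨τ, hτ, -⟩ := TopCat.Sheaf.existsUnique_gluing' ⟨_, M.isSheaf⟩ Og (W₂ ⊓ U)
    (fun g => homOfLE (hOgO g)) hcover τg hcompat
  have hOW : W₂ ⊓ U ≤ W := inf_le_left.trans hW₂W
  have hατ : X.presheaf.map (homOfLE hOW).op α • τ = M.presheaf.map (homOfLE hOW).op s := by
    refine section_ext_of_cover M Og hOgO hcover _ _ (fun g => ?_)
    have hτg : M.presheaf.map (homOfLE (hOgO g)).op τ = τg g := hτ g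
    rw [smul_res, sres_res, hτg, res_res]
    exact hkey g
  obtain ⟨τ', hτ'⟩ := (hbij W₂).2 τ
  have hfin : X.presheaf.map (homOfLE hW₂W).op α • τ' = M.presheaf.map (homOfLE hW₂W).op s := by
    apply (hbij W₂).1
    rw [smul_res, hτ', sres_res, res_res]
    exact hατ
  refine ⟨M.presheaf.germ W₂ x hxW₂ τ', ?_⟩
  rw [← germ_res M x hW₂W hxW₂ s, ← hfin, germ_smul', sgerm_res]

/-- **S6039** (converse direction): bijective restriction maps force depth at least two
outside `U` -/
theorem two_le_depth_of_res_bijective [IsLocallyNoetherian X] (M : X.Modules) (hM : Coh.IsCoh M)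
    (U : X.Opens)
    (hbij : ∀ V : X.Opens,
      Function.Bijective (M.presheaf.map (homOfLE (inf_le_left : V ⊓ U ≤ V)).op))
    (x : X) (hxU : x ∉ U) :
    (2 : ℕ∞) ≤ LocCoh.depth (X.presheaf.stalk x) (M.presheaf.stalk x) := by
  haveI : M.IsQuasicoherent := hM.1
  haveI hfin : Module.Finite (X.presheaf.stalk x) (M.presheaf.stalk x) :=
    Groth.Agent.H1.CohLen.finite_stalk M hM.2 x
  by_cases hnt : Nontrivial (M.presheaf.stalk x)
  · exact two_le_depth_of
      (fun c hc => no_torsion M U (fun V => (hbij V).1) x hxU c hc)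
      (fun a _ hreg c hc => mem_smul_of_torsion M hM.2 U hbij x hxU a hreg c hc)
  · rw [not_nontrivial_iff_subsingleton] at hnt
    unfold LocCoh.depth LocCoh.idealDepth
    rw [if_pos (Subsingleton.elim _ _)]
    exact le_top

end Groth.Agent.H2.DepthRes
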