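import Mathlib
import Groth.Agent.Lib.Helper2.DepthRes2
import Groth.Agent.Lib.Helper1.Depth2Coh2

/-!
# The direct image of a restriction: depth two and uniqueness (helper2): S12226
-/

set_option autoImplicit false
set_option linter.style.haveILetI false
universe u
open CategoryTheory Limits AlgebraicGeometry TopologicalSpace Opposite IsLocalRing

namespace Groth.Agent.H2.DepthRes

open Groth.Agent.LD.QC

variable {X : Scheme.{u}}

lemma bijective_res_of_eq (M : X.Modules) {A B : X.Opens} (h : B ≤ A) (e : A = B) :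
    Function.Bijective (M.presheaf.map (homOfLE h).op) := by
  subst e
  exact ⟨fun a b hab => by rwa [res_self, res_self] at hab, fun b => ⟨b, res_self M h b⟩⟩

/-- sections of `j_* j^* F` over `V` and over `V ∩ U` agree -/
theorem push_restrict_res_bijective (F : X.Modules) (U V : X.Opens) :
    Function.Bijective (((Scheme.Modules.pushforward U.ι).obj (F.restrict U.ι)).presheaf.map
      (homOfLE (inf_le_left : V ⊓ U ≤ V)).op) := by
  have e : U.ι ''ᵁ U.ι ⁻¹ᵁ V = U.ι ''ᵁ U.ι ⁻¹ᵁ (V ⊓ U) := by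
    rw [Scheme.Hom.image_preimage_eq_opensRange_inf, Scheme.Hom.image_preimage_eq_opensRange_inf,
      Scheme.Opens.opensRange_ι]
    rw [inf_comm V U, ← inf_assoc, inf_idem]
  have hle : U.ι ''ᵁ U.ι ⁻¹ᵁ (V ⊓ U) ≤ U.ι ''ᵁ U.ι ⁻¹ᵁ V :=
    Scheme.Hom.image_mono _ (Scheme.Hom.preimage_mono _ inf_le_left)
  exact bijective_res_of_eq F hle e

/-- **S12226 (a)** -/
theorem two_le_depth_push_restrict [IsLocallyNoetherian X] (U : X.Opens) (F : X.Modules)
    (hF' : Coh.IsCoh ((Scheme.Modules.pushforward U.ι).obj (F.restrict U.ι))) (x : X)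
    (hx : x ∉ U) :
    (2 : ℕ∞) ≤ LocCoh.depth (X.presheaf.stalk x)
      (((Scheme.Modules.pushforward U.ι).obj (F.restrict U.ι)).presheaf.stalk x) :=
  two_le_depth_of_res_bijective _ hF' U (fun V => push_restrict_res_bijective F U V) x hx

/-- **S12226 (b)** -/
theorem existsUnique_factor [IsLocallyNoetherian X] (U : X.Opens) (F G : X.Modules)
    (hG : Coh.IsCoh G) (φ : F ⟶ G)
    (hφ : IsIso ((Scheme.Modules.restrictFunctor U.ι).map φ))
    (hdepth : ∀ x : X, x ∉ U →
      (2 : ℕ∞) ≤ LocCoh.depth (X.presheaf.stalk x) (G.presheaf.stalk x)) :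
    (∃! ψ : G ⟶ (Scheme.Modules.pushforward U.ι).obj (F.restrict U.ι),
        φ ≫ ψ = (Scheme.Modules.restrictAdjunction U.ι).unit.app F) ∧
      ∀ ψ : G ⟶ (Scheme.Modules.pushforward U.ι).obj (F.restrict U.ι),
        φ ≫ ψ = (Scheme.Modules.restrictAdjunction U.ι).unit.app F → IsIso ψ := by
  haveI := hφ
  haveI := Groth.Agent.H1.Depth2Coh.isIso_unit G hG U hdepth
  set adj := Scheme.Modules.restrictAdjunction U.ι with hadj
  let ψ₀ : G ⟶ (Scheme.Modules.pushforward U.ι).obj (F.restrict U.ι) :=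
    adj.unit.app G ≫
      (Scheme.Modules.pushforward U.ι).map (inv ((Scheme.Modules.restrictFunctor U.ι).map φ))
  have h₀ : φ ≫ ψ₀ = adj.unit.app F := by
    have hn := adj.unit.naturality φ
    simp only [Functor.id_obj, Functor.id_map, Functor.comp_obj, Functor.comp_map] at hn
    change φ ≫ adj.unit.app G ≫ _ = _
    rw [← Category.assoc, hn, Category.assoc, ← Functor.map_comp, IsIso.hom_inv_id,
      CategoryTheory.Functor.map_id, Category.comp_id]
  have key : ∀ ψ' : G ⟶ (Scheme.Modules.pushforward U.ι).obj (F.restrict U.ι),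
      φ ≫ ψ' = adj.unit.app F →
      (adj.homEquiv G _).symm ψ' = inv ((Scheme.Modules.restrictFunctor U.ι).map φ) := by
    intro ψ' hψ'
    rw [← cancel_epi ((Scheme.Modules.restrictFunctor U.ι).map φ), IsIso.hom_inv_id,
      Adjunction.homEquiv_counit, ← Category.assoc, ← Functor.map_comp, hψ']
    exact adj.left_triangle_components F
  have huniq : ∀ ψ : G ⟶ (Scheme.Modules.pushforward U.ι).obj (F.restrict U.ι),
      φ ≫ ψ = adj.unit.app F → ψ = ψ₀ := by
    intro ψ hψ
    apply (adj.homEquiv G _).symm.injective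
    rw [key ψ hψ, key ψ₀ h₀]
  haveI : IsIso ψ₀ := by
    change IsIso (adj.unit.app G ≫ _)
    infer_instance
  refine ⟨⟨ψ₀, h₀, huniq⟩, fun ψ hψ => ?_⟩
  rw [huniq ψ hψ]
  infer_instance

end Groth.Agent.H2.DepthRes
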