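import Mathlib
import Groth.Agent.Lib.Helper2.DepthRes2
import Groth.Agent.Lib.Helper2.IsoLocus
import Groth.Prelude.Def_RefHull

/-!
# Depth at least two from a bijective stalk map into a module with bijective restrictions
(helper2): towards S5856
-/

set_option autoImplicit false
set_option linter.style.haveILetI false
universe u
open CategoryTheory Limits AlgebraicGeometry TopologicalSpace Opposite IsLocalRing

namespace Groth.Agent.H2.DepthRes

open Groth.Agent.LD.QC Groth.Agent.H2.AssSch Groth.Agent.H2.DepthS1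

variable {X : Scheme.{u}}

/-- an element of a stalk outside `U` killed by the maximal ideal is the germ of a section vanishing
on the trace of `U` -/
theorem exists_res_eq_zero_of_torsion [IsLocallyNoetherian X] (M : X.Modules) (U : X.Opens)
    (x : X) (hxU : x ∉ U) (c : M.presheaf.stalk x)
    (hc : ∀ r ∈ maximalIdeal (X.presheaf.stalk x), r • c = 0) :
    ∃ (W' : X.Opens) (hx : x ∈ W') (s : Γ(M, W')), M.presheaf.germ W' x hx s = c ∧
      M.presheaf.map (homOfLE (inf_le_left : W' ⊓ U ≤ W')).op s = 0 := by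
  classical
  obtain ⟨W, hW, hxW, -, s, -, rfl⟩ := exists_affine_repr M x 0 c
  haveI : IsNoetherianRing Γ(X, W) := IsLocallyNoetherian.component_noetherian ⟨W, hW⟩
  obtain ⟨S, hS⟩ := (isNoetherianRing_iff_ideal_fg Γ(X, W)).mp inferInstance
    (hW.primeIdealOf ⟨x, hxW⟩).asIdeal
  obtain ⟨W', hW', hxW', hQ⟩ := exists_common_nbhd S x W hxW
    (fun a V => ∃ h : V ≤ W, M.presheaf.map (homOfLE h).op (a • s) = 0)
    (fun a V V' hVV' ⟨h, h0⟩ => ⟨hVV'.trans h, by
      rw [← res_res M h hVV', h0, map_zero]⟩)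
    (fun a ha => by
      have hap : a ∈ (hW.primeIdealOf ⟨x, hxW⟩).asIdeal := hS ▸ Ideal.subset_span ha
      rw [← comap_maximalIdeal hW x hxW] at hap
      have h0 : M.presheaf.germ W x hxW (a • s) = 0 := by
        rw [germ_smul]
        exact hc _ (Ideal.mem_comap.mp hap)
      obtain ⟨V, hV, hxV, hV0⟩ := exists_res_eq_zero_of_germ_eq_zero M x hxW (a • s) h0
      exact ⟨V, hV, hxV, hV, hV0⟩)
  have hOW : W' ⊓ U ≤ W := inf_le_left.trans hW'
  have hkill : ∀ a ∈ (hW.primeIdealOf ⟨x, hxW⟩).asIdeal,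
      M.presheaf.map (homOfLE hOW).op (a • s) = 0 := by
    intro a ha
    rw [← hS] at ha
    induction ha using Submodule.span_induction with
    | mem a ha =>
      obtain ⟨h, h0⟩ := hQ a ha
      rw [← res_res M h inf_le_left, h0, map_zero]
    | zero => rw [zero_smul, map_zero]
    | add a b _ _ ha hb => rw [add_smul, map_add, ha, hb, add_zero]
    | smul r a _ ha =>
      rw [smul_eq_mul, mul_smul, smul_res, ha, smul_zero]
  have h0 : M.presheaf.map (homOfLE hOW).op s = 0 := by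
    apply eq_zero_of_prime_smul M hW x hxW hOW
    · intro y hy hspec
      exact hxU (hspec.mem_open U.2 hy.2)
    · intro a ha
      rw [← smul_res]
      exact hkill a ha
  refine ⟨W', hxW', M.presheaf.map (homOfLE hW').op s, germ_res M x hW' hxW' s, ?_⟩
  rw [res_res]
  exact h0


/-- a division problem in the stalk outside `U` can be solved by a section over the trace of `U` -/
theorem exists_div_section [IsLocallyNoetherian X] (M : X.Modules) [M.IsQuasicoherent]
    (hM : M.IsFiniteType) (U : X.Opens)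
    (x : X) (hxU : x ∉ U) (a : X.presheaf.stalk x)
    (hreg : IsSMulRegular (M.presheaf.stalk x) a) (c : M.presheaf.stalk x)
    (hc : ∀ r ∈ maximalIdeal (X.presheaf.stalk x), ∃ d : M.presheaf.stalk x, r • c = a • d) :
    ∃ (W₂ : X.Opens) (hx : x ∈ W₂) (α : Γ(X, W₂)) (s : Γ(M, W₂)) (τ : Γ(M, W₂ ⊓ U)),
      X.presheaf.germ W₂ x hx α = a ∧ M.presheaf.germ W₂ x hx s = c ∧
      X.presheaf.map (homOfLE (inf_le_left : W₂ ⊓ U ≤ W₂)).op α • τ =
        M.presheaf.map (homOfLE (inf_le_left : W₂ ⊓ U ≤ W₂)).op s := by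
  classical
  obtain ⟨W, hW, hxW, α, s, rfl, rfl⟩ := exists_affine_repr M x a c
  haveI : IsNoetherianRing Γ(X, W) := IsLocallyNoetherian.component_noetherian ⟨W, hW⟩
  obtain ⟨S, hS⟩ := (isNoetherianRing_iff_ideal_fg Γ(X, W)).mp inferInstance
    (hW.primeIdealOf ⟨x, hxW⟩).asIdeal
  obtain ⟨W₁, hW₁, hxW₁, hregW₁⟩ := exists_nbhd_regular M hM hW x hxW α hreg
  obtain ⟨W₂, hW₂, hxW₂, hQ⟩ := exists_common_nbhd S x W₁ hxW₁
    (fun g V => ∃ (h : V ≤ W) (σ : Γ(M, V)), M.presheaf.map (homOfLE h).op (g • s) =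
        X.presheaf.map (homOfLE h).op α • σ)
    (fun g V V' hVV' ⟨h, σ, hσ⟩ => ⟨hVV'.trans h, M.presheaf.map (homOfLE hVV').op σ, by
      rw [← res_res M h hVV', hσ, smul_res, sres_res]⟩)
    (fun g hg => by
      have hgp : g ∈ (hW.primeIdealOf ⟨x, hxW⟩).asIdeal := hS ▸ Ideal.subset_span hg
      rw [← comap_maximalIdeal hW x hxW] at hgp
      obtain ⟨d, hd⟩ := hc _ (Ideal.mem_comap.mp hgp)
      obtain ⟨V₀, hxV₀, σ₀, rfl⟩ := TopCat.Presheaf.germ_exist M.presheaf d
      have hV₁W : W₁ ⊓ V₀ ≤ W := inf_le_left.trans hW₁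
      have hxV₁ : x ∈ W₁ ⊓ V₀ := ⟨hxW₁, hxV₀⟩
      have h0 : M.presheaf.germ (W₁ ⊓ V₀) x hxV₁ (M.presheaf.map (homOfLE hV₁W).op (g • s) -
          X.presheaf.map (homOfLE hV₁W).op α •
            M.presheaf.map (homOfLE (inf_le_right : W₁ ⊓ V₀ ≤ V₀)).op σ₀) = 0 := by
        rw [map_sub, germ_res, germ_smul', germ_smul', sgerm_res, germ_res, sub_eq_zero]
        exact hd
      obtain ⟨V, hV, hxV, hV0⟩ := exists_res_eq_zero_of_germ_eq_zero M x hxV₁ _ h0
      refine ⟨V, hV.trans inf_le_left, hxV, hV.trans hV₁W,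
        M.presheaf.map (homOfLE (hV.trans inf_le_right)).op σ₀, ?_⟩
      rw [map_sub, sub_eq_zero, res_res] at hV0
      have e : M.presheaf.map (homOfLE hV).op (X.presheaf.map (homOfLE hV₁W).op α •
          M.presheaf.map (homOfLE (inf_le_right : W₁ ⊓ V₀ ≤ V₀)).op σ₀) =
          X.presheaf.map (homOfLE (hV.trans hV₁W)).op α •
            M.presheaf.map (homOfLE (hV.trans inf_le_right)).op σ₀ := by
        rw [smul_res, sres_res, res_res]
      rw [e] at hV0
      exact hV0)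
  have hW₂W : W₂ ≤ W := hW₂.trans hW₁
  choose hle σ hσ using fun g : S => hQ g.1 g.2
  -- the cover of `W₂ ⊓ U`
  let Og : S → X.Opens := fun g => (W₂ ⊓ U) ⊓ X.basicOpen g.1
  have hOgO : ∀ g, Og g ≤ W₂ ⊓ U := fun g => inf_le_left
  have hOgW₂ : ∀ g, Og g ≤ W₂ := fun g => inf_le_left.trans inf_le_left
  have hOgW : ∀ g, Og g ≤ W := fun g => (hOgW₂ g).trans hW₂W
  have hOgB : ∀ g : S, Og g ≤ X.basicOpen g.1 := fun g => inf_le_right
  have hcover : W₂ ⊓ U ≤ iSup Og := by
    intro y hy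
    have hyW : y ∈ W := hW₂W hy.1
    by_contra hcon
    have hall : ∀ g ∈ S, g ∈ (hW.primeIdealOf ⟨y, hyW⟩).asIdeal := by
      intro g hg
      rw [mem_primeIdealOf_iff hW y hyW g]
      intro hyg
      apply hcon
      rw [Opens.mem_iSup]
      exact ⟨⟨g, hg⟩, hy, hyg⟩
    have hle' : (hW.primeIdealOf ⟨x, hxW⟩).asIdeal ≤ (hW.primeIdealOf ⟨y, hyW⟩).asIdeal := by
      rw [← hS, Ideal.span_le]
      exact hall
    exact hxU ((specializes_of_primeIdealOf_le hW x y hxW hyW hle').mem_open U.2 hy.2)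
  have hunit : ∀ g : S, IsUnit (X.presheaf.map (homOfLE (hOgW g)).op g.1) := by
    intro g
    have h1 := (X.toRingedSpace.isUnit_res_basicOpen g.1).map
      (X.presheaf.map (homOfLE (hOgB g)).op).hom
    have h2 : (X.presheaf.map (homOfLE (hOgB g)).op).hom
        (X.presheaf.map (homOfLE (X.basicOpen_le g.1)).op g.1) =
        X.presheaf.map (homOfLE (hOgW g)).op g.1 := sres_res _ _ _
    rw [← h2]
    exact h1
  let τg : ∀ g : S, Γ(M, Og g) := fun g =>
    ((hunit g).unit⁻¹ : (Γ(X, Og g))ˣ).1 • M.presheaf.map (homOfLE (hOgW₂ g)).op (σ g)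
  have hkey : ∀ g : S, X.presheaf.map (homOfLE (hOgW g)).op α • τg g =
      M.presheaf.map (homOfLE (hOgW g)).op s := by
    intro g
    have h1 := congrArg (M.presheaf.map (homOfLE (hOgW₂ g)).op) (hσ g)
    rw [res_res, smul_res, smul_res, sres_res] at h1
    change X.presheaf.map (homOfLE (hOgW g)).op α •
      (((hunit g).unit⁻¹ : (Γ(X, Og g))ˣ).1 • M.presheaf.map (homOfLE (hOgW₂ g)).op (σ g)) = _
    rw [smul_comm, ← h1, smul_smul]
    have h3 : ((hunit g).unit⁻¹ : (Γ(X, Og g))ˣ).1 * X.presheaf.map (homOfLE (hOgW g)).op g.1 = 1 :=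
      (hunit g).val_inv_mul
    rw [h3, one_smul]
  have hcompat : TopCat.Presheaf.IsCompatible M.presheaf Og τg := by
    intro g g'
    change M.presheaf.map (homOfLE (inf_le_left : Og g ⊓ Og g' ≤ Og g)).op (τg g) =
      M.presheaf.map (homOfLE (inf_le_right : Og g ⊓ Og g' ≤ Og g')).op (τg g')
    rw [← sub_eq_zero]
    apply hregW₁ (Og g ⊓ Og g') (inf_le_left.trans ((hOgW₂ g).trans hW₂))
      (inf_le_left.trans (hOgW g))
    rw [smul_sub, sub_eq_zero]
    have e1 : X.presheaf.map (homOfLE (inf_le_left.trans (hOgW g) : Og g ⊓ Og g' ≤ W)).op α =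
        X.presheaf.map (homOfLE (inf_le_left : Og g ⊓ Og g' ≤ Og g)).op
          (X.presheaf.map (homOfLE (hOgW g)).op α) := (sres_res _ _ _).symm
    have e2 : X.presheaf.map (homOfLE (inf_le_left.trans (hOgW g) : Og g ⊓ Og g' ≤ W)).op α =
        X.presheaf.map (homOfLE (inf_le_right : Og g ⊓ Og g' ≤ Og g')).op
          (X.presheaf.map (homOfLE (hOgW g')).op α) := (sres_res _ _ _).symm
    calc X.presheaf.map (homOfLE (inf_le_left.trans (hOgW g) : Og g ⊓ Og g' ≤ W)).op α •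
          M.presheaf.map (homOfLE (inf_le_left : Og g ⊓ Og g' ≤ Og g)).op (τg g)
        = M.presheaf.map (homOfLE (inf_le_left : Og g ⊓ Og g' ≤ Og g)).op
            (X.presheaf.map (homOfLE (hOgW g)).op α • τg g) := by rw [e1, ← smul_res]
      _ = M.presheaf.map (homOfLE (inf_le_left.trans (hOgW g) : Og g ⊓ Og g' ≤ W)).op s := by
          rw [hkey g, res_res]
      _ = M.presheaf.map (homOfLE (inf_le_right : Og g ⊓ Og g' ≤ Og g')).op
            (X.presheaf.map (homOfLE (hOgW g')).op α • τg g') := by rw [hkey g', res_res]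
      _ = X.presheaf.map (homOfLE (inf_le_left.trans (hOgW g) : Og g ⊓ Og g' ≤ W)).op α •
          M.presheaf.map (homOfLE (inf_le_right : Og g ⊓ Og g' ≤ Og g')).op (τg g') := by
          rw [e2, ← smul_res]
  obtain ⟨τ, hτ, -⟩ := TopCat.Sheaf.existsUnique_gluing' ⟨_, M.isSheaf⟩ Og (W₂ ⊓ U)
    (fun g => homOfLE (hOgO g)) hcover τg hcompat
  have hOW : W₂ ⊓ U ≤ W := inf_le_left.trans hW₂W
  have hατ : X.presheaf.map (homOfLE hOW).op α • τ = M.presheaf.map (homOfLE hOW).op s := by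
    refine section_ext_of_cover M Og hOgO hcover _ _ (fun g => ?_)
    have hτg : M.presheaf.map (homOfLE (hOgO g)).op τ = τg g := hτ g
    rw [smul_res, sres_res, hτg, res_res]
    exact hkey g
  refine ⟨W₂, hxW₂, X.presheaf.map (homOfLE hW₂W).op α, M.presheaf.map (homOfLE hW₂W).op s, τ,
    sgerm_res x hW₂W hxW₂ α, germ_res M x hW₂W hxW₂ s, ?_⟩
  rw [sres_res, res_res]
  exact hατ

/-- depth at least two at a point `x ∉ U` from a map `φ : M ⟶ H`, bijective on stalks at `x`,
into a module `H` whose sections restrict bijectively to the traces of `U` -/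
theorem two_le_depth_of_stalk_bijective [IsLocallyNoetherian X] (M : X.Modules)
    (hM : Coh.IsCoh M) (H : X.Modules) (φ : M ⟶ H) (U : X.Opens)
    (hH : ∀ V : X.Opens,
      Function.Bijective (H.presheaf.map (homOfLE (inf_le_left : V ⊓ U ≤ V)).op))
    (x : X) (hxU : x ∉ U) (hφ : Function.Bijective (RefHull.stalkMapₗ φ x)) :
    (2 : ℕ∞) ≤ LocCoh.depth (X.presheaf.stalk x) (M.presheaf.stalk x) := by
  haveI : M.IsQuasicoherent := hM.1
  haveI hfin : Module.Finite (X.presheaf.stalk x) (M.presheaf.stalk x) :=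
    Groth.Agent.H1.CohLen.finite_stalk M hM.2 x
  by_cases hnt : Nontrivial (M.presheaf.stalk x)
  · refine two_le_depth_of ?_ ?_
    · intro c hc
      obtain ⟨W', hxW', s, rfl, hs⟩ := exists_res_eq_zero_of_torsion M U x hxU c hc
      have h1 : φ.app W' s = 0 := by
        apply (hH W').1
        rw [← app_res, hs, map_zero, map_zero]
      apply hφ.1
      rw [RefHull.stalkMapₗ_germ, h1, map_zero, map_zero]
    · intro a _ hreg c hc
      obtain ⟨W₂, hxW₂, α, s, τ, rfl, rfl, hτ⟩ := exists_div_section M hM.2 U x hxU a hreg c hc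
      obtain ⟨η, hη⟩ := (hH W₂).2 (φ.app (W₂ ⊓ U) τ)
      obtain ⟨c', hc'⟩ := hφ.2 (H.presheaf.germ W₂ x hxW₂ η)
      obtain ⟨V, hxV, s₀, rfl⟩ := TopCat.Presheaf.exists_germ_eq M.presheaf c'
      have hxW₃ : x ∈ V ⊓ W₂ := ⟨hxV, hxW₂⟩
      have h0 : H.presheaf.germ (V ⊓ W₂) x hxW₃
          (H.presheaf.map (homOfLE (inf_le_left : V ⊓ W₂ ≤ V)).op (φ.app V s₀) -
            H.presheaf.map (homOfLE (inf_le_right : V ⊓ W₂ ≤ W₂)).op η) = 0 := by
        rw [map_sub, germ_res, germ_res, sub_eq_zero, ← RefHull.stalkMapₗ_germ]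
        exact hc'
      obtain ⟨W₄, hW₄, hxW₄, hW₄0⟩ := exists_res_eq_zero_of_germ_eq_zero H x hxW₃ _ h0
      rw [map_sub, sub_eq_zero, res_res, res_res] at hW₄0
      have hW₄V : W₄ ≤ V := hW₄.trans inf_le_left
      have hW₄W₂ : W₄ ≤ W₂ := hW₄.trans inf_le_right
      refine ⟨M.presheaf.germ W₄ x hxW₄ (M.presheaf.map (homOfLE hW₄V).op s₀), ?_⟩
      -- the section `α s₀ - s` over `W₄` is killed by `φ`
      have hkey : φ.app W₄ (X.presheaf.map (homOfLE hW₄W₂).op α •
          M.presheaf.map (homOfLE hW₄V).op s₀ - M.presheaf.map (homOfLE hW₄W₂).op s) = 0 := by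
        apply (hH W₄).1
        rw [map_zero, ← app_res, map_sub, map_sub, smul_res, sres_res, res_res, res_res,
          Scheme.Modules.Hom.app_smul]
        have hle : W₄ ⊓ U ≤ W₂ ⊓ U := inf_le_inf_right U hW₄W₂
        -- `φ (s₀|)` is `φ (τ|)`
        have e1 : φ.app (W₄ ⊓ U) (M.presheaf.map (homOfLE (inf_le_left.trans hW₄V)).op s₀) =
            φ.app (W₄ ⊓ U) (M.presheaf.map (homOfLE hle).op τ) := by
          rw [app_res, app_res, ← res_res H hW₄V inf_le_left, hW₄0, res_res,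
            ← res_res H (inf_le_left : W₂ ⊓ U ≤ W₂) hle, hη]
        -- `s|` is `α τ|`
        have e2 : M.presheaf.map (homOfLE (inf_le_left.trans hW₄W₂ : W₄ ⊓ U ≤ W₂)).op s =
            X.presheaf.map (homOfLE (inf_le_left.trans hW₄W₂ : W₄ ⊓ U ≤ W₂)).op α •
              M.presheaf.map (homOfLE hle).op τ := by
          rw [← res_res M (inf_le_left : W₂ ⊓ U ≤ W₂) hle, ← hτ, smul_res, sres_res]
        rw [e1, e2, Scheme.Modules.Hom.app_smul, sub_self]
      have h2 : M.presheaf.germ W₄ x hxW₄ (X.presheaf.map (homOfLE hW₄W₂).op α •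
          M.presheaf.map (homOfLE hW₄V).op s₀ - M.presheaf.map (homOfLE hW₄W₂).op s) = 0 := by
        apply hφ.1
        rw [RefHull.stalkMapₗ_germ, hkey, map_zero, map_zero]
      rw [map_sub, sub_eq_zero, germ_smul', sgerm_res, germ_res M x hW₄W₂ hxW₄ s] at h2
      exact h2.symm
  · rw [not_nontrivial_iff_subsingleton] at hnt
    unfold LocCoh.depth LocCoh.idealDepth
    rw [if_pos (Subsingleton.elim _ _)]
    exact le_top

end Groth.Agent.H2.DepthRes
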