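import Mathlib
import Groth.Agent.Lib.Helper2.DepthRes4
import Groth.Agent.Lib.Helper2.DepthRes3
import Groth.Agent.Lib.Helper2.DepthIso2
import Groth.Agent.Lib.Helper3.ZClosStalk
import Groth.Agent.Lib.Helper3.ZClosQCoh
import Groth.Agent.Lib.Helper3.ZClosCover
import Groth.Agent.Lib.Helper3.ZClosNoeth
import Groth.Agent.Lib.Helper3.AssSupp

/-!
# `Z`-closedness at a point and depth two (helper2): S5856
-/

set_option autoImplicit false
set_option linter.style.haveILetI false
universe u
open CategoryTheory Limits AlgebraicGeometry TopologicalSpace Opposite IsLocalRing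

namespace Groth.Agent.H2.DepthRes

open Groth.Agent.LD.QC Groth.Agent.H2.AssSch Groth.Agent.H2.DepthS1 Groth.Agent.H2.IsoLocus
  Groth.Agent.H2.DepthIso

variable {X : Scheme.{u}}

/-- vanishing of stalks of quasi-coherent modules passes to generizations -/
theorem subsingleton_stalk_of_specializes (M : X.Modules) [M.IsQuasicoherent] {x x' : X}
    (h : x' ⤳ x) (hx : Subsingleton (M.presheaf.stalk x)) :
    Subsingleton (M.presheaf.stalk x') := by
  obtain ⟨W, hW, hxW, -⟩ := exists_isAffineOpen_mem_and_subset (x := x) (U := ⊤) trivial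
  have hx'W : x' ∈ W := h.mem_open W.2 hxW
  have key : ∀ m : M.presheaf.stalk x', m = 0 := by
    intro m
    obtain ⟨⟨n, u⟩, hnu⟩ : ∃ p : Γ(M, W) × (hW.primeIdealOf ⟨x', hx'W⟩).asIdeal.primeCompl,
        X.presheaf.germ W x' hx'W p.2.1 • m = M.presheaf.germ W x' hx'W p.1 := by
      letI := stalkΓModule M x' W hx'W
      haveI := isLocalizedModule_germ M hW x' hx'W
      exact IsLocalizedModule.surj (hW.primeIdealOf ⟨x', hx'W⟩).asIdeal.primeCompl
        (germLinear M x' W hx'W) m
    have hn0 : M.presheaf.germ W x hxW n = 0 := Subsingleton.elim _ _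
    obtain ⟨v, hv⟩ : ∃ v : (hW.primeIdealOf ⟨x, hxW⟩).asIdeal.primeCompl, v.1 • n = 0 := by
      letI := stalkΓModule M x W hxW
      haveI := isLocalizedModule_germ M hW x hxW
      exact (IsLocalizedModule.eq_zero_iff (hW.primeIdealOf ⟨x, hxW⟩).asIdeal.primeCompl
        (germLinear M x W hxW)).mp hn0
    have hvx' : v.1 ∉ (hW.primeIdealOf ⟨x', hx'W⟩).asIdeal := fun hmem =>
      v.2 (primeIdealOf_le_of_specializes hW x x' hxW hx'W h hmem)
    have h3 : M.presheaf.germ W x' hx'W (v.1 • n) = 0 := by rw [hv, map_zero]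
    rw [germ_smul'] at h3
    have h4 := (isUnit_germ_of_notMem hW x' hx'W v.1 hvx').smul_eq_zero.mp h3
    rw [h4] at hnu
    exact (isUnit_germ_of_notMem hW x' hx'W u.1 u.2).smul_eq_zero.mp hnu
  exact ⟨fun m₁ m₂ => by rw [key m₁, key m₂]⟩

/-- bijectivity of the stalk map of a morphism of quasi-coherent modules passes to generizations -/
theorem bijective_stalkMap_of_specializes {F G : X.Modules} (φ : F ⟶ G) (hF : F.IsQuasicoherent)
    (hG : G.IsQuasicoherent) {x x' : X} (h : x' ⤳ x)
    (hb : Function.Bijective (RefHull.stalkMapₗ φ x)) :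
    Function.Bijective (RefHull.stalkMapₗ φ x') := by
  haveI : (kernel φ).IsQuasicoherent := qc_kernel φ hF hG
  haveI : (cokernel φ).IsQuasicoherent := qc_cokernel φ hF hG
  constructor
  · rw [injective_iff]
    exact subsingleton_stalk_of_specializes _ h ((injective_iff φ x).mp hb.1)
  · rw [surjective_iff φ hF hG]
    exact subsingleton_stalk_of_specializes _ h ((surjective_iff φ hF hG x).mp hb.2)

/-- **S5856 (⇒)** -/
theorem depth_of_isZClosedAt [IsLocallyNoetherian X] (Z : Set X)
    (hZ : StableUnderSpecialization Z) (F : X.Modules) (hF : Coh.IsCoh F) (x : X)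
    (h : ZClos.IsZClosedAt Z F x) (x' : X) (hsp : x' ⤳ x) (hx'Z : x' ∈ Z) :
    (2 : ℕ∞) ≤ LocCoh.depth (X.presheaf.stalk x') (F.presheaf.stalk x') := by
  have hHq : ((ZClos.H0 Z).obj F).IsQuasicoherent :=
    Groth.Agent.H3.ZClosQCoh.isQCoh_H0 Z F hF.1
  have hb : Function.Bijective (RefHull.stalkMapₗ (ZClos.rhoApp Z F) x) := h
  have hb' := bijective_stalkMap_of_specializes (ZClos.rhoApp Z F) hF.1 hHq hsp hb
  have hcl := Groth.Agent.H3.ZClosNoeth.isZClosed_H0_obj Z F
  rw [Groth.Agent.H3.ZClosCover.isZClosed_iff_sections_all] at hcl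
  let T : ZClos.Cl Z := ⟨⟨closure {x'}, isClosed_closure⟩, fun y hy =>
    hZ (specializes_iff_mem_closure.mpr hy) hx'Z⟩
  exact two_le_depth_of_stalk_bijective F hF _ (ZClos.rhoApp Z F) T.U (fun V => hcl T V) x'
    (fun hxU => hxU (subset_closure (Set.mem_singleton x'))) hb'

section Local

variable [IsLocallyNoetherian X] {F G : X.Modules}

/-- a nonzero stalk of a quasi-coherent module has a weakly associated generization -/
theorem exists_weakAss_generization_of_nontrivial (M : X.Modules) [M.IsQuasicoherent] (x : X)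
    (h : ¬ Subsingleton (M.presheaf.stalk x)) :
    ∃ y : X, y ⤳ x ∧ Curv2.IsWeakAssPoint M y := by
  rw [not_subsingleton_iff_nontrivial] at h
  obtain ⟨c, hc⟩ := exists_ne (0 : M.presheaf.stalk x)
  obtain ⟨W, hW, hxW, -, s, -, rfl⟩ := exists_affine_repr M x 0 c
  obtain ⟨y, hy, hsp, hw, -⟩ :=
    Groth.Agent.H3.AssSupp.exists_weakAss_generization M hW x hxW s hc
  exact ⟨y, hsp, hw⟩

/-- local form of the depth criterion: injectivity -/
theorem injective_stalkMap_of_depth (φ : F ⟶ G) (hF : Coh.IsCoh F) (hG : G.IsQuasicoherent)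
    (x : X)
    (h : ∀ y : X, y ⤳ x → Function.Bijective (RefHull.stalkMapₗ φ y) ∨
      ((2 : ℕ∞) ≤ LocCoh.depth (X.presheaf.stalk y) (F.presheaf.stalk y) ∧
        ¬ Curv2.IsAssPoint G y)) :
    Function.Injective (RefHull.stalkMapₗ φ x) := by
  have hFq : F.IsQuasicoherent := hF.1
  haveI hK : (kernel φ).IsQuasicoherent := qc_kernel φ hFq hG
  rw [injective_iff]
  by_contra hns
  obtain ⟨y, hsp, hw⟩ := exists_weakAss_generization_of_nontrivial (kernel φ) x hns
  rcases h y hsp with hb | ⟨hd, -⟩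
  · haveI := (injective_iff φ y).mp hb.1
    obtain ⟨c, hc, -⟩ := exists_ann_eq_of_isWeakAssPoint _ y hw
    exact hc (Subsingleton.elim _ _)
  · have hyF : Curv2.IsWeakAssPoint F y :=
      (mem_ass_iff _ y).mp (ass_subset_of_mono (kernel.ι φ) ((mem_ass_iff _ y).mpr hw))
    obtain ⟨c, hc, hann⟩ := exists_ann_eq_of_isWeakAssPoint F y hyF
    haveI := Groth.Agent.H1.CohLen.finite_stalk F hF.2 y
    exact depth_lt_two_of_ass c hc (fun m hm => ⟨1, by rw [pow_one]; exact hann m hm⟩) hd

/-- local form of the depth criterion: surjectivity -/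
theorem surjective_stalkMap_of_depth (φ : F ⟶ G) (hF : Coh.IsCoh F) (hG : G.IsQuasicoherent)
    (x : X)
    (h : ∀ y : X, y ⤳ x → Function.Bijective (RefHull.stalkMapₗ φ y) ∨
      ((2 : ℕ∞) ≤ LocCoh.depth (X.presheaf.stalk y) (F.presheaf.stalk y) ∧
        ¬ Curv2.IsAssPoint G y)) :
    Function.Surjective (RefHull.stalkMapₗ φ x) := by
  have hFq : F.IsQuasicoherent := hF.1
  haveI hC : (cokernel φ).IsQuasicoherent := qc_cokernel φ hFq hG
  rw [surjective_iff φ hFq hG]
  by_contra hns
  obtain ⟨y, hsp, hw⟩ := exists_weakAss_generization_of_nontrivial (cokernel φ) x hns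
  obtain ⟨c, hc, hann⟩ := exists_ann_eq_of_isWeakAssPoint _ y hw
  rcases h y hsp with hb | ⟨hd, hnass⟩
  · haveI := (surjective_iff φ hFq hG y).mp hb.2
    exact hc (Subsingleton.elim _ _)
  · have hinjy := injective_stalkMap_of_depth φ hF hG y (fun z hz => h z (hz.trans hsp))
    obtain ⟨g, hg'⟩ : ∃ g : G.presheaf.stalk y, RefHull.stalkMapₗ (cokernel.π φ) y g = c :=
      stalkMap_surjective_of_epi (cokernel.π φ) y c
    have hfin := Groth.Agent.H1.CohLen.finite_stalk F hF.2 y
    have hmem : g ∈ LinearMap.range (RefHull.stalkMapₗ φ y) := by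
      refine mem_range_of_depth_two (hfinN := hfin) (RefHull.stalkMapₗ φ y) hinjy hd ?_ g ?_
      · intro g' hg'0
        by_contra hne
        exact hnass (isAssPoint_of_ann G y g' hne hg'0)
      · intro m hm
        obtain ⟨a, ha⟩ := stalk_exact_cokernel φ hFq hG y (m • g) (by
          rw [map_smul, hg']; exact hann m hm)
        exact ⟨a, ha⟩
    obtain ⟨a, ha⟩ := hmem
    apply hc
    rw [← hg', ← ha]
    obtain ⟨V, hxV, σ, rfl⟩ := TopCat.Presheaf.exists_germ_eq F.presheaf a
    rw [RefHull.stalkMapₗ_germ, RefHull.stalkMapₗ_germ]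
    have h1 : (φ ≫ cokernel.π φ).app V σ = 0 := by
      rw [cokernel.condition]; rfl
    have h2 : (cokernel.π φ).app V (φ.app V σ) = 0 := h1
    rw [h2, map_zero]

/-- points outside `U` are not associated to `j_* j^* F` -/
theorem not_isAssPoint_resPush (F : X.Modules) (U : X.Opens) (y : X) (hy : y ∉ U) :
    ¬ Curv2.IsAssPoint ((Scheme.Modules.pushforward U.ι).obj (F.restrict U.ι)) y := by
  intro hass
  rw [isAssPoint_iff_isWeakAssPoint] at hass
  obtain ⟨c, hc, hann⟩ := exists_ann_eq_of_isWeakAssPoint _ y hass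
  obtain ⟨W', hxW', s, rfl, hs⟩ := exists_res_eq_zero_of_torsion _ U y hy c hann
  apply hc
  have h0 : s = 0 := (push_restrict_res_bijective F U W').1 (by rw [hs, map_zero])
  rw [h0, map_zero]

end Local

end Groth.Agent.H2.DepthRes
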