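import Mathlib
import Groth.Agent.Lib.Helper2.DepthRes5

/-!
# `Z`-closedness at a point and depth two, converse direction (helper2): S5856
-/

set_option autoImplicit false
set_option linter.style.haveILetI false
universe u
open CategoryTheory Limits AlgebraicGeometry TopologicalSpace Opposite IsLocalRing

namespace Groth.Agent.H2.DepthRes

open Groth.Agent.LD.QC ZClos Groth.Agent.H3.ZClosStalk

variable {X : Scheme.{u}}

attribute [local instance] IsFiltered.isConnected

/-- if all the units are bijective on stalks at `x`, then `F` is `Z`-closed at `x` -/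
theorem isZClosedAt_of_forall_isIso (Z : Set X) (F : X.Modules) (x : X)
    (hiso : ∀ T : Cl Z, IsIso ((stalkFun x).map (toDiagram Z F T))) : IsZClosedAt Z F x := by
  let w : (Functor.const (Cl Z)).obj ((stalkFun x).obj F) ⟶ (diagram Z).obj F ⋙ stalkFun x :=
    { app := fun T => (stalkFun x).map (toDiagram Z F T)
      naturality := fun T T' f => by
        have h := congrArg (stalkFun x).map (toDiagram_map Z F f)
        rw [Functor.map_comp] at h
        exact (Category.id_comp _).trans h.symm }
  have : ∀ T, IsIso (w.app T) := hiso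
  have : IsIso w := NatIso.isIso_of_isIso_app _
  have hc₂ := isColimitOfPreserves (stalkFun x) (colimit.isColimit ((diagram Z).obj F))
  let e := IsColimit.coconePointsIsoOfNatIso
    (isColimitConstCocone (Cl Z) ((stalkFun x).obj F)) hc₂ (asIso w)
  have he : e.hom = (stalkFun x).map (rhoApp Z F) := by
    apply (isColimitConstCocone (Cl Z) ((stalkFun x).obj F)).hom_ext
    intro T
    rw [IsColimit.comp_coconePointsIsoOfNatIso_hom]
    change (stalkFun x).map (toDiagram Z F T) ≫
      (stalkFun x).map (colimit.ι ((diagram Z).obj F) T) = 𝟙 _ ≫ (stalkFun x).map (rhoApp Z F)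
    rw [Category.id_comp, ← Functor.map_comp, ← rhoApp_eq]
    rfl
  have hI : IsIso ((stalkFun x).map (rhoApp Z F)) := by
    rw [← he]; infer_instance
  exact (ConcreteCategory.isIso_iff_bijective _).1 hI

/-- **S5856 (⇐)** -/
theorem isZClosedAt_of_depth [IsLocallyNoetherian X] (Z : Set X) (F : X.Modules)
    (hF : Coh.IsCoh F) (x : X)
    (h : ∀ x' : X, x' ⤳ x → x' ∈ Z →
      (2 : ℕ∞) ≤ LocCoh.depth (X.presheaf.stalk x') (F.presheaf.stalk x')) :
    IsZClosedAt Z F x := by
  haveI := hF.1
  apply isZClosedAt_of_forall_isIso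
  intro T
  have hGq : ((resPush T.U).obj F).IsQuasicoherent := qc_pushforward T.U.ι _
  have hcase : ∀ y : X, y ⤳ x → Function.Bijective (RefHull.stalkMapₗ (toDiagram Z F T) y) ∨
      ((2 : ℕ∞) ≤ LocCoh.depth (X.presheaf.stalk y) (F.presheaf.stalk y) ∧
        ¬ Curv2.IsAssPoint ((resPush T.U).obj F) y) := by
    intro y hy
    by_cases hyT : y ∈ T.U
    · left
      have := isIso_stalkFun_unit T.U F y hyT
      exact (ConcreteCategory.isIso_iff_bijective _).1 this
    · right
      exact ⟨h y hy (T.2 (not_not.mp hyT)), not_isAssPoint_resPush F T.U y hyT⟩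
  have hb : Function.Bijective (RefHull.stalkMapₗ (toDiagram Z F T) x) :=
    ⟨injective_stalkMap_of_depth _ hF hGq x hcase, surjective_stalkMap_of_depth _ hF hGq x hcase⟩
  exact (ConcreteCategory.isIso_iff_bijective _).2 hb

/-- **S5856** -/
theorem isZClosedAt_iff_depth [IsLocallyNoetherian X] (Z : Set X)
    (hZ : StableUnderSpecialization Z) (F : X.Modules) (hF : Coh.IsCoh F) (x : X) :
    IsZClosedAt Z F x ↔
      ∀ x' : X, x' ⤳ x → x' ∈ Z →
        (2 : ℕ∞) ≤ LocCoh.depth (X.presheaf.stalk x') (F.presheaf.stalk x') :=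
  ⟨fun h x' hsp hx' => depth_of_isZClosedAt Z hZ F hF x h x' hsp hx',
    isZClosedAt_of_depth Z F hF x⟩

end Groth.Agent.H2.DepthRes
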