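import Mathlib
import Groth.Agent.Lib.Lead.QC.PullbackUnit
import Groth.Agent.Lib.Lead.QC.ClosedUnit
import Groth.Agent.Lib.Lead.QC.StalkNbhd
import Groth.Agent.Lib.Lead.QC.AnnIdeal
import Groth.Agent.Lib.Helper2.AssSch1

/-!
# Morphisms of coherent modules vanishing on all infinitesimal neighbourhoods (helper2)
S2302, S2303, S2304
-/

set_option autoImplicit false
set_option linter.style.haveILetI false
universe u
open CategoryTheory Limits AlgebraicGeometry TopologicalSpace Opposite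

namespace Groth.Agent.H2.FComplZero

open Groth.Agent.LD.QC Groth.Agent.H2.AssSch

variable {X : Scheme.{u}}

/-- a section killed by pullback to the closed subscheme `V(I)` lies in `I • Γ(Q, V)` -/
theorem mem_smul_top_of_pbSec_eq_zero (I : X.IdealSheafData) (Q : X.Modules) [Q.IsQuasicoherent]
    (V : X.affineOpens) (y : Γ(Q, V.1))
    (hy : pbSec I.subschemeι Q (le_refl (I.subschemeι ⁻¹ᵁ V.1)) y = 0) :
    y ∈ (I.ideal V) • (⊤ : Submodule Γ(X, V.1) Γ(Q, V.1)) := by
  have hU : IsAffineOpen (I.subschemeι ⁻¹ᵁ V.1) := V.2.preimage I.subschemeι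
  have e : I.subschemeι ⁻¹ᵁ V.1 ≤ I.subschemeι ⁻¹ᵁ V.1 := le_refl _
  letI := (I.subschemeι.appLE V.1 (I.subschemeι ⁻¹ᵁ V.1) e).hom.toAlgebra
  letI := pbModule I.subschemeι Q e
  haveI := pbModule_isScalarTower I.subschemeι Q e
  have hbc := isBaseChange_pbSec I.subschemeι hU V.2 e Q
  have happ : I.subschemeι.appLE V.1 (I.subschemeι ⁻¹ᵁ V.1) e = I.subschemeι.app V.1 :=
    (Scheme.Hom.app_eq_appLE (f := I.subschemeι) (U := V.1)).symm
  have hsurj : Function.Surjective
      (algebraMap Γ(X, V.1) Γ(I.subscheme, I.subschemeι ⁻¹ᵁ V.1)) := by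
    change Function.Surjective (I.subschemeι.appLE V.1 (I.subschemeι ⁻¹ᵁ V.1) e).hom
    rw [happ]
    exact I.subschemeι_app_surjective V
  have hker := isBaseChange_ker_of_surjective hbc hsurj
  have hk2 : RingHom.ker (algebraMap Γ(X, V.1) Γ(I.subscheme, I.subschemeι ⁻¹ᵁ V.1)) =
      I.ideal V := by
    change RingHom.ker (I.subschemeι.appLE V.1 (I.subschemeι ⁻¹ᵁ V.1) e).hom = _
    rw [happ]
    exact I.ker_subschemeι_app V
  rw [hk2] at hker
  rw [← hker, LinearMap.mem_ker]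
  exact hy


/-- **Krull**: if `φ` dies on every infinitesimal neighbourhood of `V(J)`, its image has zero
germs along `V(J)` -/
theorem germ_eq_zero_of_pullback_eq_zero [IsLocallyNoetherian X] {P Q : X.Modules}
    [Q.IsQuasicoherent] (hQ : Q.IsFiniteType) (φ : P ⟶ Q) (J : X.IdealSheafData)
    (h : ∀ n : ℕ, (Scheme.Modules.pullback (J ^ (n + 1)).subschemeι).map φ = 0)
    (x : X) (hx : x ∈ J.support) (V : X.Opens) (hV : IsAffineOpen V) (hxV : x ∈ V)
    (m : Γ(P, V)) : Q.presheaf.germ V x hxV (φ.app V m) = 0 := by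
  haveI : IsNoetherianRing Γ(X, V) := IsLocallyNoetherian.component_noetherian ⟨V, hV⟩
  haveI : Module.Finite Γ(X, V) Γ(Q, V) := finite_sections_of_isFiniteType Q hQ hV
  have hmem : ∀ n : ℕ, φ.app V m ∈
      (J.ideal ⟨V, hV⟩) ^ (n + 1) • (⊤ : Submodule Γ(X, V) Γ(Q, V)) := by
    intro n
    have h1 := mem_smul_top_of_pbSec_eq_zero (J ^ (n + 1)) Q ⟨V, hV⟩ (φ.app V m) (by
      rw [← pbSec_naturality, h n]
      rfl)
    rwa [Scheme.IdealSheafData.ideal_pow] at h1
  have hinf : φ.app V m ∈ (⨅ i : ℕ, (J.ideal ⟨V, hV⟩) ^ i • ⊤ :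
      Submodule Γ(X, V) Γ(Q, V)) := by
    rw [Submodule.mem_iInf]
    intro i
    cases i with
    | zero => simp
    | succ n => exact hmem n
  obtain ⟨r, hr⟩ := (Ideal.mem_iInf_smul_pow_eq_bot_iff (J.ideal ⟨V, hV⟩) (φ.app V m)).mp hinf
  have hle : J.ideal ⟨V, hV⟩ ≤ (hV.primeIdealOf ⟨x, hxV⟩).asIdeal := by
    rw [← mem_zeroLocus_iff_le_primeIdealOf hV _ x hxV,
      ← Scheme.IdealSheafData.mem_support_iff_of_mem (U := ⟨V, hV⟩) hxV]
    exact hx
  have hnot : (1 - (r : Γ(X, V))) ∉ (hV.primeIdealOf ⟨x, hxV⟩).asIdeal := by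
    intro hmem1
    have h1 : (1 : Γ(X, V)) ∈ (hV.primeIdealOf ⟨x, hxV⟩).asIdeal := by
      have := Ideal.add_mem _ hmem1 (hle r.2)
      rwa [sub_add_cancel] at this
    exact (hV.primeIdealOf ⟨x, hxV⟩).2.ne_top ((Ideal.eq_top_iff_one _).mpr h1)
  apply germ_eq_zero_of_smul_eq_zero Q hV x hxV (φ.app V m) (1 - (r : Γ(X, V))) hnot
  rw [sub_smul, one_smul, hr, sub_self]

/-- every germ comes from a section over an affine open -/
theorem exists_affine_germ_eq (P : X.Modules) (x : X) (a : P.presheaf.stalk x) :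
    ∃ (V : X.Opens) (_ : IsAffineOpen V) (hxV : x ∈ V) (t : Γ(P, V)),
      P.presheaf.germ V x hxV t = a := by
  obtain ⟨V', hxV', t, rfl⟩ := TopCat.Presheaf.exists_germ_eq P.presheaf a
  obtain ⟨V, hV, hxV, hVV'⟩ := exists_isAffineOpen_mem_and_subset (x := x) (U := V') hxV'
  exact ⟨V, hV, hxV, P.presheaf.map (homOfLE hVV').op t, germ_res P x hVV' hxV t⟩


/-- the open complement of the support of a module of finite type -/
noncomputable def cosupp (M : X.Modules) (hM : M.IsFiniteType) : X.Opens :=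
  ⟨{x : X | ¬ Subsingleton (M.presheaf.stalk x)}ᶜ,
    (isClosed_support_of_isFiniteType M hM).isOpen_compl⟩

theorem mem_cosupp (M : X.Modules) (hM : M.IsFiniteType) (x : X) :
    x ∈ cosupp M hM ↔ Subsingleton (M.presheaf.stalk x) := by
  change x ∈ {x : X | ¬ Subsingleton (M.presheaf.stalk x)}ᶜ ↔ _
  rw [Set.mem_compl_iff, Set.mem_setOf_eq, not_not]

theorem mono_restrict_of_stalks {F G : X.Modules} (φ : F ⟶ G) (U : X.Opens)
    (hU : ∀ y ∈ U, Subsingleton ((kernel φ).presheaf.stalk y)) :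
    Mono ((Scheme.Modules.restrictFunctor U.ι).map φ) := by
  have hz := isZero_restrict_of_stalks (kernel φ) U hU
  have hz' : IsZero (kernel ((Scheme.Modules.restrictFunctor U.ι).map φ)) :=
    hz.of_iso (PreservesKernel.iso (Scheme.Modules.restrictFunctor U.ι) φ).symm
  exact Preadditive.mono_of_isZero_kernel _ hz'

theorem epi_restrict_of_stalks {F G : X.Modules} (φ : F ⟶ G) (U : X.Opens)
    (hU : ∀ y ∈ U, Subsingleton ((cokernel φ).presheaf.stalk y)) :
    Epi ((Scheme.Modules.restrictFunctor U.ι).map φ) := by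
  have hz := isZero_restrict_of_stalks (cokernel φ) U hU
  have hz' : IsZero (cokernel ((Scheme.Modules.restrictFunctor U.ι).map φ)) :=
    hz.of_iso (PreservesCokernel.iso (Scheme.Modules.restrictFunctor U.ι) φ).symm
  exact Preadditive.epi_of_isZero_cokernel _ hz'

/-- **S2303** -/
theorem mono_near_support [IsLocallyNoetherian X] (F G : X.Modules) (hF : Coh.IsCoh F)
    (hG : Coh.IsCoh G) (u : F ⟶ G) (J : X.IdealSheafData)
    (h : ∀ n : ℕ, (Scheme.Modules.pullback (J ^ (n + 1)).subschemeι).map (kernel.ι u) = 0) :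
    ∃ U : X.Opens, (J.support : Set X) ⊆ U ∧
      Mono ((Scheme.Modules.restrictFunctor U.ι).map u) := by
  obtain ⟨hFq, hFf⟩ := hF
  obtain ⟨hGq, hGf⟩ := hG
  have hKq : (kernel u).IsQuasicoherent := qc_kernel u hFq hGq
  have hKf : (kernel u).IsFiniteType := isFiniteType_of_mono (kernel.ι u) hKq hFq hFf
  refine ⟨cosupp (kernel u) hKf, ?_,
    mono_restrict_of_stalks u _ (fun y hy => (mem_cosupp _ hKf y).mp hy)⟩
  intro x hx
  rw [SetLike.mem_coe, mem_cosupp]
  apply subsingleton_of_forall_eq_zero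
  intro a
  obtain ⟨V, hV, hxV, t, rfl⟩ := exists_affine_germ_eq (kernel u) x a
  have h0 := germ_eq_zero_of_pullback_eq_zero hFf (kernel.ι u) J h x hx V hV hxV t
  have hinj := stalkMap_injective_of_mono (kernel.ι u) x
  apply hinj
  refine ((stalkMap_germ (kernel.ι u) x V hxV t).trans h0).trans ?_
  exact (map_zero ((TopCat.Presheaf.stalkFunctor Ab x).map
    (Scheme.Modules.Hom.mapPresheaf (kernel.ι u))).hom).symm

/-- **S2304** -/
theorem epi_near_support [IsLocallyNoetherian X] (F G : X.Modules) (hF : Coh.IsCoh F)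
    (hG : Coh.IsCoh G) (u : F ⟶ G) (J : X.IdealSheafData)
    (h : ∀ n : ℕ, (Scheme.Modules.pullback (J ^ (n + 1)).subschemeι).map (cokernel.π u) = 0) :
    ∃ U : X.Opens, (J.support : Set X) ⊆ U ∧
      Epi ((Scheme.Modules.restrictFunctor U.ι).map u) := by
  obtain ⟨hFq, hFf⟩ := hF
  obtain ⟨hGq, hGf⟩ := hG
  haveI hCq : (cokernel u).IsQuasicoherent := qc_cokernel u hFq hGq
  have hCf : (cokernel u).IsFiniteType := isFiniteType_of_epi (cokernel.π u) hGq hCq hGf
  refine ⟨cosupp (cokernel u) hCf, ?_,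
    epi_restrict_of_stalks u _ (fun y hy => (mem_cosupp _ hCf y).mp hy)⟩
  intro x hx
  rw [SetLike.mem_coe, mem_cosupp]
  apply subsingleton_of_forall_eq_zero
  intro c
  obtain ⟨b, rfl⟩ := stalkMap_surjective_of_epi (cokernel.π u) x c
  obtain ⟨V, hV, hxV, t, rfl⟩ := exists_affine_germ_eq G x b
  have h0 := germ_eq_zero_of_pullback_eq_zero hCf (cokernel.π u) J h x hx V hV hxV t
  exact (stalkMap_germ (cokernel.π u) x V hxV t).trans h0

/-- **S2302** -/
theorem zero_near_support [IsLocallyNoetherian X] (F G : X.Modules) (hF : Coh.IsCoh F)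
    (hG : Coh.IsCoh G) (u : F ⟶ G) (J : X.IdealSheafData)
    (h : ∀ n : ℕ, (Scheme.Modules.pullback (J ^ (n + 1)).subschemeι).map u = 0) :
    ∃ U : X.Opens, (J.support : Set X) ⊆ U ∧
      (Scheme.Modules.restrictFunctor U.ι).map u = 0 := by
  obtain ⟨hFq, hFf⟩ := hF
  obtain ⟨hGq, hGf⟩ := hG
  have hKq : (kernel u).IsQuasicoherent := qc_kernel u hFq hGq
  haveI hCq : (cokernel (kernel.ι u)).IsQuasicoherent := qc_cokernel (kernel.ι u) hKq hFq
  have hCf : (cokernel (kernel.ι u)).IsFiniteType :=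
    isFiniteType_of_epi (cokernel.π (kernel.ι u)) hFq hCq hFf
  refine ⟨cosupp (cokernel (kernel.ι u)) hCf, ?_, ?_⟩
  · intro x hx
    rw [SetLike.mem_coe, mem_cosupp]
    apply subsingleton_of_forall_eq_zero
    intro c
    obtain ⟨b, rfl⟩ := stalkMap_surjective_of_epi (cokernel.π (kernel.ι u)) x c
    obtain ⟨V, hV, hxV, t, rfl⟩ := exists_affine_germ_eq F x b
    have h0 := germ_eq_zero_of_pullback_eq_zero hGf u J h x hx V hV hxV t
    obtain ⟨W, hWV, hxW, hW⟩ := exists_res_eq_zero_of_germ_eq_zero G x hxV _ h0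
    rw [← app_res u hWV t] at hW
    obtain ⟨k, hk⟩ := exists_kernel_section u W _ hW
    refine (stalkMap_germ (cokernel.π (kernel.ι u)) x V hxV t).trans ?_
    rw [← germ_res (cokernel (kernel.ι u)) x hWV hxW, ← app_res (cokernel.π (kernel.ι u)) hWV t,
      ← hk]
    have h1 : (kernel.ι u ≫ cokernel.π (kernel.ι u)).app W k = 0 := by
      rw [cokernel.condition]; rfl
    have h2 : (cokernel.π (kernel.ι u)).app W ((kernel.ι u).app W k) = 0 := h1
    rw [h2, map_zero]
  · haveI : Epi ((Scheme.Modules.restrictFunctor (cosupp (cokernel (kernel.ι u)) hCf).ι).map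
        (kernel.ι u)) :=
      epi_restrict_of_stalks (kernel.ι u) _ (fun y hy => (mem_cosupp _ hCf y).mp hy)
    rw [← cancel_epi ((Scheme.Modules.restrictFunctor (cosupp (cokernel (kernel.ι u)) hCf).ι).map
        (kernel.ι u)), ← Functor.map_comp, kernel.condition, comp_zero]
    exact Functor.map_zero _ _ _

end Groth.Agent.H2.FComplZero
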