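import Mathlib
import Groth.Agent.Lib.Helper2.DepthRes6
import Groth.Agent.Lib.Helper2.FComplZero
import Groth.Agent.Lib.Helper2.IsoLocus

/-!
# The `Z`-closed locus of a coherent module (helper2): S5859
-/

set_option autoImplicit false
set_option linter.style.haveILetI false
universe u
open CategoryTheory Limits AlgebraicGeometry TopologicalSpace Opposite IsLocalRing

namespace Groth.Agent.H2.DepthRes

open Groth.Agent.LD.QC ZClos Groth.Agent.H3.ZClosStalk Groth.Agent.H3.ZClosCover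
  Groth.Agent.H3.ZClosSect

variable {X : Scheme.{u}}

/-- a morphism bijective on all small opens around `x` is bijective on the stalk at `x` -/
theorem bijective_stalkMap_of_app {F G : X.Modules} (φ : F ⟶ G) (V : X.Opens) (x : X)
    (hx : x ∈ V) (h : ∀ W : X.Opens, W ≤ V → Function.Bijective (φ.app W)) :
    Function.Bijective (RefHull.stalkMapₗ φ x) := by
  constructor
  · rw [injective_iff_map_eq_zero]
    intro a ha
    obtain ⟨W', hxW', s', rfl⟩ := TopCat.Presheaf.exists_germ_eq F.presheaf a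
    have hWV : W' ⊓ V ≤ V := inf_le_right
    have hxW : x ∈ W' ⊓ V := ⟨hxW', hx⟩
    rw [← germ_res F x (inf_le_left : W' ⊓ V ≤ W') hxW s'] at ha ⊢
    rw [RefHull.stalkMapₗ_germ] at ha
    obtain ⟨W'', hW'', hxW'', h0⟩ := exists_res_eq_zero_of_germ_eq_zero G x hxW _ ha
    rw [← app_res] at h0
    have h1 := (h W'' (hW''.trans hWV)).1 (h0.trans (map_zero (φ.app W'').hom).symm)
    rw [← germ_res F x hW'' hxW'', h1, map_zero]
  · intro b
    obtain ⟨W', hxW', t', rfl⟩ := TopCat.Presheaf.exists_germ_eq G.presheaf b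
    have hWV : W' ⊓ V ≤ V := inf_le_right
    have hxW : x ∈ W' ⊓ V := ⟨hxW', hx⟩
    obtain ⟨s, hs⟩ := (h (W' ⊓ V) hWV).2 (G.presheaf.map (homOfLE (inf_le_left : W' ⊓ V ≤ W')).op t')
    refine ⟨F.presheaf.germ (W' ⊓ V) x hxW s, ?_⟩
    rw [RefHull.stalkMapₗ_germ, hs, germ_res]

lemma bijective_app_congr {F G : X.Modules} (φ : F ⟶ G) {A B : X.Opens} (h : A = B) :
    Function.Bijective (φ.app A) ↔ Function.Bijective (φ.app B) := by
  subst h; rfl

/-- a morphism with trivial kernel and cokernel stalks on `U` is bijective on opens inside `U` -/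
theorem bijective_app_of_stalks {F G : X.Modules} (φ : F ⟶ G) (U : X.Opens)
    (hK : ∀ y ∈ U, Subsingleton ((kernel φ).presheaf.stalk y))
    (hC : ∀ y ∈ U, Subsingleton ((cokernel φ).presheaf.stalk y)) (V : X.Opens) (hV : V ≤ U) :
    Function.Bijective (φ.app V) := by
  haveI := Groth.Agent.H2.FComplZero.mono_restrict_of_stalks φ U hK
  haveI := Groth.Agent.H2.FComplZero.epi_restrict_of_stalks φ U hC
  haveI : IsIso ((Scheme.Modules.restrictFunctor U.ι).map φ) := isIso_of_mono_of_epi _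
  have h1 := Scheme.Modules.Hom.isIso_iff_isIso_app.1 this (U.ι ⁻¹ᵁ V)
  rw [ConcreteCategory.isIso_iff_bijective] at h1
  have h2 : Function.Bijective (φ.app (U.ι ''ᵁ (U.ι ⁻¹ᵁ V))) := h1
  have hW : U.ι ''ᵁ (U.ι ⁻¹ᵁ V) = V := by
    rw [ι_image_preimage]; exact inf_eq_right.2 hV
  exact (bijective_app_congr φ hW).1 h2

end Groth.Agent.H2.DepthRes

namespace Groth.Agent.H2.DepthRes

open Groth.Agent.LD.QC ZClos Groth.Agent.H3.ZClosStalk Groth.Agent.H3.ZClosCover
  Groth.Agent.H3.ZClosSect Groth.Agent.H2.FComplZero Groth.Agent.H2.IsoLocus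

variable {X : Scheme.{u}}

/-- **S5859** -/
theorem s5859 [IsLocallyNoetherian X] (Z : Set X)
    (hZ : StableUnderSpecialization Z) (F : X.Modules) (hF : Coh.IsCoh F)
    (hH : Coh.IsCoh ((ZClos.H0 Z).obj F)) :
    ∃ U : X.Opens, (U : Set X) = {x | ∀ x' : X, x' ⤳ x → x' ∈ Z →
        (2 : ℕ∞) ≤ LocCoh.depth (X.presheaf.stalk x') (F.presheaf.stalk x')} ∧
      (U : Set X)ᶜ ⊆ Z ∧
      ZClos.IsZClosed (U.ι.base ⁻¹' Z) ((Scheme.Modules.restrictFunctor U.ι).obj F) ∧
      ∀ V : X.Opens, ZClos.IsZClosed (V.ι.base ⁻¹' Z)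
        ((Scheme.Modules.restrictFunctor V.ι).obj F) → V ≤ U := by
  obtain ⟨hFq, hFf⟩ := hF
  obtain ⟨hHq, hHf⟩ := hH
  have hKq : (kernel (rhoApp Z F)).IsQuasicoherent := qc_kernel _ hFq hHq
  have hKf : (kernel (rhoApp Z F)).IsFiniteType :=
    isFiniteType_of_mono (kernel.ι (rhoApp Z F)) hKq hFq hFf
  haveI hCq : (cokernel (rhoApp Z F)).IsQuasicoherent := qc_cokernel _ hFq hHq
  have hCf : (cokernel (rhoApp Z F)).IsFiniteType :=
    isFiniteType_of_epi (cokernel.π (rhoApp Z F)) hHq hCq hHf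
  let U : X.Opens := cosupp _ hKf ⊓ cosupp _ hCf
  have hmemU : ∀ x : X, x ∈ U ↔ IsZClosedAt Z F x := by
    intro x
    change x ∈ cosupp _ hKf ∧ x ∈ cosupp _ hCf ↔ _
    rw [mem_cosupp, mem_cosupp, ← injective_iff, ← surjective_iff _ hFq hHq]
    rfl
  have hU_eq : (U : Set X) = {x | ∀ x' : X, x' ⤳ x → x' ∈ Z →
      (2 : ℕ∞) ≤ LocCoh.depth (X.presheaf.stalk x') (F.presheaf.stalk x')} := by
    ext x
    rw [SetLike.mem_coe, hmemU, isZClosedAt_iff_depth Z hZ F ⟨hFq, hFf⟩ x]
    rfl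
  refine ⟨U, hU_eq, ?_, ?_, ?_⟩
  · intro x hx
    by_contra hxZ
    exact hx ((hmemU x).2 (isZClosedAt_of_not_mem Z F x hxZ))
  · -- `F|_U` is closed
    have hρ : ∀ V : X.Opens, V ≤ U → Function.Bijective ((rhoApp Z F).app V) :=
      bijective_app_of_stalks (rhoApp Z F) U
        (fun y hy => (mem_cosupp _ hKf y).1 hy.1) (fun y hy => (mem_cosupp _ hCf y).1 hy.2)
    have hcl := Groth.Agent.H3.ZClosNoeth.isZClosed_H0_obj Z F
    rw [isZClosed_iff_sections_all] at hcl
    have key : ∀ (T : Cl Z) (V : X.Opens), V ≤ U →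
        Function.Bijective (F.presheaf.map (homOfLE (inf_le_left : V ⊓ T.U ≤ V)).op) := by
      intro T V hV
      have h1 := hρ V hV
      have h2 := hρ (V ⊓ T.U) (inf_le_left.trans hV)
      have h3 := hcl T V
      rw [← Function.Bijective.of_comp_iff' h2]
      have hcomm : ⇑(ConcreteCategory.hom ((rhoApp Z F).app (V ⊓ T.U))) ∘
          ⇑(ConcreteCategory.hom (F.presheaf.map (homOfLE (inf_le_left : V ⊓ T.U ≤ V)).op)) =
          ⇑(ConcreteCategory.hom (((ZClos.H0 Z).obj F).presheaf.map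
            (homOfLE (inf_le_left : V ⊓ T.U ≤ V)).op)) ∘
          ⇑(ConcreteCategory.hom ((rhoApp Z F).app V)) := by
        funext s
        exact app_res (rhoApp Z F) (inf_le_left : V ⊓ T.U ≤ V) s
      rw [hcomm]
      exact h3.comp h1
    rw [isZClosed_iff_sections_all]
    intro T' W'
    let T : Cl Z := ⟨⟨closure (U.ι '' (T'.1 : Set (U : Scheme.{u}))), isClosed_closure⟩,
      closure_image_subset Z hZ U T'.1 T'.2⟩
    have hT : (T'.1 : Set (U : Scheme.{u})) = U.ι ⁻¹' (T.1 : Set X) :=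
      preimage_closure_image U T'.1
    have he := image_inf_compl U T.1 T'.1 hT W'
    rw [restrict_presheaf_map]
    refine (bijective_res_congr F rfl he _ _).2 (key T (U.ι ''ᵁ W') ?_)
    intro y hy
    obtain ⟨z, -, rfl⟩ := hy
    exact z.2
  · -- maximality
    intro V hV x hxV
    rw [hmemU]
    apply isZClosedAt_of_forall_isIso
    intro T
    have hb : Function.Bijective (RefHull.stalkMapₗ (toDiagram Z F T) x) := by
      apply bijective_stalkMap_of_app (toDiagram Z F T) V x hxV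
      intro W hWV
      refine (unit_app_bijective_iff T.U W F).2 ?_
      have hi := (isZClosed_iff_sections_all _ _).1 hV
      let T' : Cl (V.ι.base ⁻¹' Z) := ⟨T.1.preimage V.ι.continuous, fun y hy => T.2 hy⟩
      have he := image_inf_compl V T.1 T'.1 rfl (V.ι ⁻¹ᵁ W)
      have hW : V.ι ''ᵁ (V.ι ⁻¹ᵁ W) = W := by
        rw [ι_image_preimage]; exact inf_eq_right.2 hWV
      have := hi T' (V.ι ⁻¹ᵁ W)
      rw [restrict_presheaf_map] at this
      exact (bijective_res_congr F hW (he.trans (by rw [hW]; rfl)) _ _).1 this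
    exact (ConcreteCategory.isIso_iff_bijective _).2 hb

end Groth.Agent.H2.DepthRes
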