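import Mathlib
import Groth.Prelude.Def_RefHull
import Groth.Agent.Lib.Lead.QC.Stalk
import Groth.Agent.Lib.Lead.QC.StalkNbhd
import Groth.Agent.Lib.Lead.QC.Iso
import Groth.Agent.Lib.Lead.QC.Extend

/-!
# Sections of the sheaf Hom as compatible families of maps on sections (helper2)

For `g : Γ(𝓗om(F, G), U)` and `V ≤ U` we construct the map `app g hVU : Γ(F, V) → Γ(G, V)`
characterised by `germ_y (app g hVU m) = g_y (germ_y m)`.
-/

set_option autoImplicit false
set_option linter.style.haveILetI false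
universe u
open CategoryTheory Limits AlgebraicGeometry TopologicalSpace Opposite

namespace Groth.Agent.H2.HomSh

open Groth.Agent.LD.QC

attribute [-instance] Groth.Agent.LD.QC.stalkModule

variable {X : Scheme.{u}} {F G : X.Modules}

/-- two sections with the same germs are equal -/
lemma section_ext_germ (M : X.Modules) {U : X.Opens} (s t : Γ(M, U))
    (h : ∀ (x : X) (hx : x ∈ U), M.presheaf.germ U x hx s = M.presheaf.germ U x hx t) : s = t :=
  TopCat.Presheaf.section_ext ⟨_, M.isSheaf⟩ U s t h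

/-- extensionality for sections of the sheaf Hom -/
lemma hom_ext {U : X.Opens} (g g' : Γ(RefHull.homSh F G, U))
    (h : ∀ (x : X) (hx : x ∈ U), g.1 ⟨x, hx⟩ = g'.1 ⟨x, hx⟩) : g = g' :=
  Subtype.ext (funext fun x => h x.1 x.2)

@[simp] lemma add_val {U : X.Opens} (g g' : Γ(RefHull.homSh F G, U)) (x : U) :
    (g + g').1 x = g.1 x + g'.1 x := rfl

@[simp] lemma zero_val {U : X.Opens} (x : U) :
    (0 : Γ(RefHull.homSh F G, U)).1 x = 0 := rfl

@[simp] lemma smul_val {U : X.Opens} (r : Γ(X, U)) (g : Γ(RefHull.homSh F G, U)) (x : U) :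
    (r • g).1 x = X.presheaf.germ U x.1 x.2 r • g.1 x := rfl

@[simp] lemma res_val {U V : X.Opens} (h : V ≤ U) (g : Γ(RefHull.homSh F G, U)) (x : V) :
    ((RefHull.homSh F G).presheaf.map (homOfLE h).op g).1 x = g.1 ⟨x.1, h x.2⟩ := rfl

/-- **the section of `G` obtained by applying a section of the sheaf Hom to a section of `F`** -/
theorem existsUnique_app {U : X.Opens} (g : Γ(RefHull.homSh F G, U)) {V : X.Opens} (hVU : V ≤ U)
    (m : Γ(F, V)) :
    ∃! n : Γ(G, V), ∀ (y : X) (hy : y ∈ V),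
      G.presheaf.germ V y hy n = g.1 ⟨y, hVU hy⟩ (F.presheaf.germ V y hy m) := by
  choose W hxW j n hW using fun x : V => g.2 V (homOfLE hVU) m x
  have hcompat : TopCat.Presheaf.IsCompatible G.presheaf W n := by
    intro x x'
    apply section_ext_germ
    intro y hy
    have h1 := hW x ⟨y, hy.1⟩
    have h2 := hW x' ⟨y, hy.2⟩
    rw [TopCat.Presheaf.germ_res_apply, TopCat.Presheaf.germ_res_apply]
    exact h1.symm.trans h2
  obtain ⟨s, hs, -⟩ := TopCat.Sheaf.existsUnique_gluing' ⟨_, G.isSheaf⟩ W V j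
    (fun y hy => Opens.mem_iSup.mpr ⟨⟨y, hy⟩, hxW ⟨y, hy⟩⟩) n hcompat
  have hgerm : ∀ (y : X) (hy : y ∈ V),
      G.presheaf.germ V y hy s = g.1 ⟨y, hVU hy⟩ (F.presheaf.germ V y hy m) := by
    intro y hy
    have h1 := hW ⟨y, hy⟩ ⟨y, hxW ⟨y, hy⟩⟩
    have h2 : G.presheaf.germ (W ⟨y, hy⟩) y (hxW ⟨y, hy⟩) (n ⟨y, hy⟩) =
        G.presheaf.germ V y hy s := by
      rw [← hs ⟨y, hy⟩]
      exact TopCat.Presheaf.germ_res_apply G.presheaf (j ⟨y, hy⟩) y (hxW ⟨y, hy⟩) s
    exact h2.symm.trans h1.symm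
  refine ⟨s, hgerm, fun s' hs' => ?_⟩
  apply section_ext_germ
  intro y hy
  rw [hs' y hy, hgerm y hy]

/-- applying a section of the sheaf Hom over `U` to a section of `F` over `V ≤ U` -/
noncomputable def app {U : X.Opens} (g : Γ(RefHull.homSh F G, U)) {V : X.Opens} (hVU : V ≤ U)
    (m : Γ(F, V)) : Γ(G, V) :=
  (existsUnique_app g hVU m).exists.choose

lemma germ_app {U : X.Opens} (g : Γ(RefHull.homSh F G, U)) {V : X.Opens} (hVU : V ≤ U)
    (m : Γ(F, V)) (y : X) (hy : y ∈ V) :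
    G.presheaf.germ V y hy (app g hVU m) = g.1 ⟨y, hVU hy⟩ (F.presheaf.germ V y hy m) :=
  (existsUnique_app g hVU m).exists.choose_spec y hy

lemma app_eq_of_germ {U : X.Opens} (g : Γ(RefHull.homSh F G, U)) {V : X.Opens} (hVU : V ≤ U)
    (m : Γ(F, V)) (n : Γ(G, V))
    (h : ∀ (y : X) (hy : y ∈ V),
      G.presheaf.germ V y hy n = g.1 ⟨y, hVU hy⟩ (F.presheaf.germ V y hy m)) :
    app g hVU m = n := by
  apply section_ext_germ
  intro y hy
  rw [germ_app, h y hy]

lemma app_add {U : X.Opens} (g : Γ(RefHull.homSh F G, U)) {V : X.Opens} (hVU : V ≤ U)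
    (m m' : Γ(F, V)) : app g hVU (m + m') = app g hVU m + app g hVU m' := by
  apply app_eq_of_germ
  intro y hy
  rw [map_add, map_add, map_add, germ_app, germ_app]

lemma app_smul {U : X.Opens} (g : Γ(RefHull.homSh F G, U)) {V : X.Opens} (hVU : V ≤ U)
    (r : Γ(X, V)) (m : Γ(F, V)) : app g hVU (r • m) = r • app g hVU m := by
  apply app_eq_of_germ
  intro y hy
  rw [Mero.germ_smul, Mero.germ_smul, map_smul, germ_app]

/-- `app g hVU` as a linear map -/
noncomputable def appLin {U : X.Opens} (g : Γ(RefHull.homSh F G, U)) {V : X.Opens} (hVU : V ≤ U) :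
    Γ(F, V) →ₗ[Γ(X, V)] Γ(G, V) where
  toFun := app g hVU
  map_add' := app_add g hVU
  map_smul' := app_smul g hVU

@[simp] lemma appLin_apply {U : X.Opens} (g : Γ(RefHull.homSh F G, U)) {V : X.Opens} (hVU : V ≤ U)
    (m : Γ(F, V)) : appLin g hVU m = app g hVU m := rfl

/-- naturality in the open set -/
lemma app_res {U : X.Opens} (g : Γ(RefHull.homSh F G, U)) {V V' : X.Opens} (hVU : V ≤ U)
    (hV'V : V' ≤ V) (m : Γ(F, V)) :
    app g (hV'V.trans hVU) (F.presheaf.map (homOfLE hV'V).op m) =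
      G.presheaf.map (homOfLE hV'V).op (app g hVU m) := by
  apply app_eq_of_germ
  intro y hy
  rw [germ_res, germ_res, germ_app]

/-- restricting the section of the sheaf Hom does not change `app` -/
lemma app_res_hom {U U' : X.Opens} (hU'U : U' ≤ U) (g : Γ(RefHull.homSh F G, U)) {V : X.Opens}
    (hVU' : V ≤ U') (m : Γ(F, V)) :
    app ((RefHull.homSh F G).presheaf.map (homOfLE hU'U).op g) hVU' m =
      app g (hVU'.trans hU'U) m := by
  apply app_eq_of_germ
  intro y hy
  rw [germ_app]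
  rfl

lemma app_add_hom {U : X.Opens} (g g' : Γ(RefHull.homSh F G, U)) {V : X.Opens} (hVU : V ≤ U)
    (m : Γ(F, V)) : app (g + g') hVU m = app g hVU m + app g' hVU m := by
  apply app_eq_of_germ
  intro y hy
  rw [map_add, germ_app, germ_app]
  rfl

lemma app_zero_hom {U : X.Opens} {V : X.Opens} (hVU : V ≤ U)
    (m : Γ(F, V)) : app (0 : Γ(RefHull.homSh F G, U)) hVU m = 0 := by
  apply app_eq_of_germ
  intro y hy
  rw [map_zero]
  rfl

lemma app_smul_hom {U : X.Opens} (r : Γ(X, U)) (g : Γ(RefHull.homSh F G, U)) {V : X.Opens}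
    (hVU : V ≤ U) (m : Γ(F, V)) :
    app (r • g) hVU m = X.presheaf.map (homOfLE hVU).op r • app g hVU m := by
  apply app_eq_of_germ
  intro y hy
  rw [Mero.germ_smul, germ_app, sgerm_res]
  rfl

/-- the section of the sheaf Hom defined by a morphism acts through the morphism -/
lemma app_ofHom (φ : F ⟶ G) (U : X.Opens) {V : X.Opens} (hVU : V ≤ U) (m : Γ(F, V)) :
    app (RefHull.ofHom φ U) hVU m = φ.app V m := by
  apply app_eq_of_germ
  intro y hy
  exact (RefHull.stalkMapₗ_germ φ y hy m).symm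

end Groth.Agent.H2.HomSh
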