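import Mathlib
import Groth.Prelude.Def_RefHull
import Groth.Prelude.Def_TorSh
import Groth.Agent.Lib.Lead.QC.Stalk
import Groth.Agent.Lib.Lead.QC.StalkNbhd
import Groth.Agent.Lib.Lead.QC.FinType

/-!
# Stalks of the sheaf Hom (helper2): S16082
-/

set_option autoImplicit false
set_option linter.style.haveILetI false
universe u
open CategoryTheory Limits AlgebraicGeometry TopologicalSpace Opposite

namespace Groth.Agent.H2.HomStalk

open Groth.Agent.LD.QC

attribute [-instance] Groth.Agent.LD.QC.stalkModule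

variable {X : Scheme.{u}} (F G : X.Modules)

/-- a linear map out of the stalk of a quasi-coherent module which kills the germs of all sections
over an affine neighbourhood vanishes -/
theorem stalkHom_eq_zero_of_germ [F.IsQuasicoherent] {U : X.Opens} (hU : IsAffineOpen U) (y : X)
    (hy : y ∈ U) (φ : RefHull.StalkHom F G y)
    (h : ∀ m : Γ(F, U), φ (F.presheaf.germ U y hy m) = 0) : φ = 0 := by
  letI := stalkΓModule F y U hy
  haveI := isLocalizedModule_germ F hU y hy
  ext a
  obtain ⟨⟨m, s⟩, hms⟩ := IsLocalizedModule.surj (hU.primeIdealOf ⟨y, hy⟩).asIdeal.primeCompl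
    (germLinear F y U hy) a
  have hms' : X.presheaf.germ U y hy (s : Γ(X, U)) • a = F.presheaf.germ U y hy m := hms
  obtain ⟨u, hu⟩ := isUnit_germ_of_notMem hU y hy s.1 s.2
  have h1 : X.presheaf.germ U y hy (s : Γ(X, U)) • φ a = 0 := by
    rw [← map_smul, hms', h m]
  rw [← hu] at h1
  have h2 := congrArg (fun z => (↑u⁻¹ : X.presheaf.stalk y) • z) h1
  simp only [smul_zero, smul_smul, Units.inv_mul, one_smul] at h2
  exact h2


/-- local vanishing: if the stalk map `g_x` vanishes then `g_y` kills the germs of a given section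
for `y` near `x` -/
theorem exists_nbhd_kill {U' U : X.Opens} (g : Γ(RefHull.homSh F G, U')) (hUU' : U ≤ U') (x : X)
    (hxU : x ∈ U) (hgx : g.1 ⟨x, hUU' hxU⟩ = 0) (m : Γ(F, U)) :
    ∃ W : X.Opens, x ∈ W ∧ ∀ (y : X) (hyW : y ∈ W) (hyU : y ∈ U),
      g.1 ⟨y, hUU' hyU⟩ (F.presheaf.germ U y hyU m) = 0 := by
  obtain ⟨W, hxW, j, n, hW⟩ := g.2 U (homOfLE hUU') m ⟨x, hxU⟩
  have h0 : G.presheaf.germ W x hxW n = 0 := by
    rw [← hW ⟨x, hxW⟩]
    change g.1 ⟨x, hUU' hxU⟩ _ = 0
    rw [hgx]
    rfl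
  obtain ⟨W', hW'W, hxW', hW'⟩ := exists_res_eq_zero_of_germ_eq_zero G x hxW n h0
  refine ⟨W', hxW', fun y hyW' hyU => ?_⟩
  have h1 := hW ⟨y, hW'W hyW'⟩
  have h2 : G.presheaf.germ W y (hW'W hyW') n = 0 := by
    rw [← germ_res G y hW'W hyW' n, hW', map_zero]
  rw [h2] at h1
  exact h1

/-- **injectivity of `𝓗om(F, G)_x → Hom(F_x, G_x)`** for `F` quasi-coherent of finite type -/
theorem evalStalk_injective_of_qcoh [F.IsQuasicoherent] (hF : F.IsFiniteType) (x : X) :
    Function.Injective (RefHull.evalStalk F G x) := by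
  rw [injective_iff_map_eq_zero]
  intro θ hθ
  obtain ⟨U', hxU', g, rfl⟩ := TopCat.Presheaf.exists_germ_eq (RefHull.homSh F G).presheaf θ
  rw [RefHull.evalStalk_germ] at hθ
  obtain ⟨U, hU, hxU, hUU'⟩ := exists_isAffineOpen_mem_and_subset (x := x) (U := U') hxU'
  have hUU'' : U ≤ U' := hUU'
  haveI : Module.Finite Γ(X, U) Γ(F, U) := finite_sections_of_isFiniteType F hF hU
  obtain ⟨S, hS⟩ := (Module.Finite.fg_top : (⊤ : Submodule Γ(X, U) Γ(F, U)).FG)
  choose W hxW hW using fun m : Γ(F, U) => exists_nbhd_kill F G g hUU'' x hxU hθ m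
  let W₀ : X.Opens := U ⊓ ⨅ m : S, W m.1
  have hxW₀ : x ∈ W₀ := by
    refine ⟨hxU, ?_⟩
    rw [SetLike.mem_coe, ← SetLike.mem_coe, Opens.coe_iInf]
    exact Set.mem_iInter.mpr fun m => hxW m.1
  have hW₀U' : W₀ ≤ U' := inf_le_left.trans hUU''
  have hzero : ∀ (y : X) (hy : y ∈ W₀), g.1 ⟨y, hW₀U' hy⟩ = 0 := by
    intro y hy
    have hyU : y ∈ U := hy.1
    apply stalkHom_eq_zero_of_germ F G hU y hyU
    intro m
    have hm : m ∈ Submodule.span Γ(X, U) (S : Set Γ(F, U)) := by rw [hS]; trivial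
    induction hm using Submodule.span_induction with
    | mem m hm =>
      have hyW : y ∈ W m := by
        have h1 : y ∈ ((⨅ m : S, W m.1 : X.Opens) : Set X) := hy.2
        rw [Opens.coe_iInf] at h1
        exact Set.mem_iInter.mp h1 ⟨m, hm⟩
      exact hW m y hyW hyU
    | zero => rw [map_zero, map_zero]
    | add a b _ _ ha hb => rw [map_add, map_add, ha, hb, add_zero]
    | smul r a _ ha => rw [germ_smul, map_smul, ha, smul_zero]
  have hres : (RefHull.homSh F G).presheaf.map (homOfLE hW₀U').op g = 0 := by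
    apply Subtype.ext
    funext y
    exact hzero y.1 y.2
  rw [← germ_res (RefHull.homSh F G) x hW₀U' hxW₀ g, hres, map_zero]

/-- **S16082** -/
theorem isTorsionFree_homSh [F.IsQuasicoherent] (hF : F.IsFiniteType)
    (hGt : TorSh.IsTorsionFree G) : TorSh.IsTorsionFree (RefHull.homSh F G) := by
  intro x
  haveI := hGt x
  haveI : Module.IsTorsionFree (X.presheaf.stalk x) (RefHull.StalkHom F G x) :=
    ⟨fun r hr φ ψ h => by
      ext a
      have h1 := congrArg (fun θ : RefHull.StalkHom F G x => θ a) h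
      exact (Module.IsTorsionFree.isSMulRegular hr : IsSMulRegular (G.presheaf.stalk x) r) h1⟩
  exact Function.Injective.moduleIsTorsionFree (RefHull.evalStalk F G x)
    (evalStalk_injective_of_qcoh F G hF x) (fun r m => map_smul _ r m)

end Groth.Agent.H2.HomStalk
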