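import Mathlib
import Groth.Agent.Lib.Helper2.HomSh1
import Groth.Agent.Lib.Helper2.HomStalk
import Groth.Agent.Lib.Lead.QC.FinType

/-!
# Sections of the sheaf Hom over opens inside an affine open (helper2)

For `U` affine, `F` quasi-coherent and `V ≤ U`:
`Γ(𝓗om(F, G), V) ≃ {semilinear maps Γ(F, U) → Γ(G, V)}`.
-/

set_option autoImplicit false
set_option linter.style.haveILetI false
universe u
open CategoryTheory Limits AlgebraicGeometry TopologicalSpace Opposite

namespace Groth.Agent.H2.HomSh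

open Groth.Agent.LD.QC

attribute [-instance] Groth.Agent.LD.QC.stalkModule

variable {X : Scheme.{u}} {F G : X.Modules}

/-- stalk homs agreeing on the germs of sections over an affine neighbourhood are equal -/
theorem stalkHom_ext_of_germ [F.IsQuasicoherent] {U : X.Opens} (hU : IsAffineOpen U) (y : X)
    (hy : y ∈ U) (φ ψ : RefHull.StalkHom F G y)
    (h : ∀ m : Γ(F, U), φ (F.presheaf.germ U y hy m) = ψ (F.presheaf.germ U y hy m)) : φ = ψ := by
  have h0 := HomStalk.stalkHom_eq_zero_of_germ F G hU y hy (φ - ψ)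
    (fun m => by rw [LinearMap.sub_apply, h m, sub_self])
  exact sub_eq_zero.mp h0

lemma isUnit_end_of_notMem (M : X.Modules) {U : X.Opens} (hU : IsAffineOpen U) (y : X) (hy : y ∈ U)
    (s : (hU.primeIdealOf ⟨y, hy⟩).asIdeal.primeCompl) :
    letI := stalkΓModule M y U hy
    IsUnit (algebraMap Γ(X, U) (Module.End Γ(X, U) (M.presheaf.stalk y)) s) := by
  letI := stalkΓModule M y U hy
  obtain ⟨u, hu⟩ := isUnit_germ_of_notMem hU y hy s.1 s.2
  rw [Module.End.isUnit_iff]
  refine ⟨fun a b hab => ?_, fun b => ⟨(↑u⁻¹ : X.presheaf.stalk y) • b, ?_⟩⟩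
  · have h1 : (u : X.presheaf.stalk y) • a = (u : X.presheaf.stalk y) • b := by
      rw [hu]; exact hab
    have := congrArg (fun z => (↑u⁻¹ : X.presheaf.stalk y) • z) h1
    simpa [smul_smul] using this
  · change X.presheaf.germ U y hy s.1 • ((↑u⁻¹ : X.presheaf.stalk y) • b) = b
    rw [← hu, smul_smul, Units.mul_inv, one_smul]

/-- the stalk map at `y ∈ V` induced by a semilinear map `Γ(F, U) → Γ(G, V)` -/
theorem exists_stalkHom_of_semilinear [F.IsQuasicoherent] {U V : X.Opens} (hU : IsAffineOpen U)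
    (hVU : V ≤ U) (T : Γ(F, U) →+ Γ(G, V))
    (hT : ∀ (r : Γ(X, U)) (m : Γ(F, U)), T (r • m) = X.presheaf.map (homOfLE hVU).op r • T m)
    (y : X) (hy : y ∈ V) :
    ∃ φ : RefHull.StalkHom F G y, ∀ m : Γ(F, U),
      φ (F.presheaf.germ U y (hVU hy) m) = G.presheaf.germ V y hy (T m) := by
  have hyU := hVU hy
  letI := stalkΓModule F y U hyU
  letI := stalkΓModule G y U hyU
  letI : Algebra Γ(X, U) (X.presheaf.stalk y) :=
    TopCat.Presheaf.algebra_section_stalk X.presheaf ⟨y, hyU⟩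
  haveI := hU.isLocalization_stalk ⟨y, hyU⟩
  haveI := isLocalizedModule_germ F hU y hyU
  haveI : IsScalarTower Γ(X, U) (X.presheaf.stalk y) (F.presheaf.stalk y) :=
    IsScalarTower.of_algebraMap_smul fun r m => rfl
  haveI : IsScalarTower Γ(X, U) (X.presheaf.stalk y) (G.presheaf.stalk y) :=
    IsScalarTower.of_algebraMap_smul fun r m => rfl
  let T' : Γ(F, U) →ₗ[Γ(X, U)] G.presheaf.stalk y :=
    { toFun := fun m => G.presheaf.germ V y hy (T m)
      map_add' := fun a b => by rw [map_add, map_add]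
      map_smul' := fun r m => by
        rw [hT, Mero.germ_smul, sgerm_res]
        rfl }
  let ℓ := IsLocalizedModule.lift (hU.primeIdealOf ⟨y, hyU⟩).asIdeal.primeCompl
    (germLinear F y U hyU) T' (isUnit_end_of_notMem G hU y hyU)
  refine ⟨LinearMap.extendScalarsOfIsLocalization
    (hU.primeIdealOf ⟨y, hyU⟩).asIdeal.primeCompl (X.presheaf.stalk y) ℓ, fun m => ?_⟩
  exact IsLocalizedModule.lift_apply (hU.primeIdealOf ⟨y, hyU⟩).asIdeal.primeCompl
    (germLinear F y U hyU) T' (isUnit_end_of_notMem G hU y hyU) m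

/-- **a semilinear map `Γ(F, U) → Γ(G, V)` defines a section of the sheaf Hom over `V`** -/
theorem exists_ofLin [F.IsQuasicoherent] {U V : X.Opens} (hU : IsAffineOpen U) (hVU : V ≤ U)
    (T : Γ(F, U) →+ Γ(G, V))
    (hT : ∀ (r : Γ(X, U)) (m : Γ(F, U)), T (r • m) = X.presheaf.map (homOfLE hVU).op r • T m) :
    ∃ g : Γ(RefHull.homSh F G, V), ∀ (y : X) (hy : y ∈ V) (m : Γ(F, U)),
      g.1 ⟨y, hy⟩ (F.presheaf.germ U y (hVU hy) m) = G.presheaf.germ V y hy (T m) := by
  choose φ hφ using fun y : V => exists_stalkHom_of_semilinear hU hVU T hT y.1 y.2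
  refine ⟨⟨φ, ?_⟩, fun y hy m => hφ ⟨y, hy⟩ m⟩
  intro V' i m x
  have hxU : x.1 ∈ U := hVU (i.le x.2)
  obtain ⟨a, haV', hxa⟩ := hU.exists_basicOpen_le (V := V') ⟨x.1, x.2⟩ hxU
  obtain ⟨k, s, hs⟩ := affine_surj F hU a (F.presheaf.map (homOfLE haV').op m)
  obtain ⟨v, hv⟩ : IsUnit (X.presheaf.map (homOfLE (X.basicOpen_le a)).op a) :=
    RingedSpace.isUnit_res_basicOpen _ a
  have hWV : X.basicOpen a ≤ V := haV'.trans i.le
  refine ⟨X.basicOpen a, hxa, homOfLE haV',
    ((↑(v⁻¹) : Γ(X, X.basicOpen a)) ^ k) • G.presheaf.map (homOfLE hWV).op (T s), fun y => ?_⟩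
  have hyV : y.1 ∈ V := hWV y.2
  have hyU : y.1 ∈ U := hVU hyV
  -- the key relation on germs
  have h1 : F.presheaf.germ U y.1 hyU s =
      (X.presheaf.germ (X.basicOpen a) y.1 y.2 (v : Γ(X, X.basicOpen a))) ^ k •
        F.presheaf.germ V' y.1 (haV' y.2) m := by
    rw [← germ_res F y.1 (X.basicOpen_le a) y.2 s, hs, Mero.germ_smul, germ_res, map_pow, hv]
  have h2 := hφ ⟨y.1, hyV⟩ s
  rw [h1, map_smul] at h2
  rw [Mero.germ_smul, germ_res, ← h2, smul_smul, ← map_pow, ← map_mul, ← mul_pow,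
    Units.inv_mul, one_pow, map_one, one_smul]

/-- the section of the sheaf Hom over `V` defined by a semilinear map `Γ(F, U) → Γ(G, V)` -/
noncomputable def ofLin [F.IsQuasicoherent] {U V : X.Opens} (hU : IsAffineOpen U) (hVU : V ≤ U)
    (T : Γ(F, U) →+ Γ(G, V))
    (hT : ∀ (r : Γ(X, U)) (m : Γ(F, U)), T (r • m) = X.presheaf.map (homOfLE hVU).op r • T m) :
    Γ(RefHull.homSh F G, V) :=
  (exists_ofLin hU hVU T hT).choose

lemma ofLin_germ [F.IsQuasicoherent] {U V : X.Opens} (hU : IsAffineOpen U) (hVU : V ≤ U)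
    (T : Γ(F, U) →+ Γ(G, V))
    (hT : ∀ (r : Γ(X, U)) (m : Γ(F, U)), T (r • m) = X.presheaf.map (homOfLE hVU).op r • T m)
    (y : X) (hy : y ∈ V) (m : Γ(F, U)) :
    (ofLin hU hVU T hT).1 ⟨y, hy⟩ (F.presheaf.germ U y (hVU hy) m) =
      G.presheaf.germ V y hy (T m) :=
  (exists_ofLin hU hVU T hT).choose_spec y hy m

lemma app_ofLin [F.IsQuasicoherent] {U V : X.Opens} (hU : IsAffineOpen U) (hVU : V ≤ U)
    (T : Γ(F, U) →+ Γ(G, V))
    (hT : ∀ (r : Γ(X, U)) (m : Γ(F, U)), T (r • m) = X.presheaf.map (homOfLE hVU).op r • T m)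
    (m : Γ(F, U)) :
    app (ofLin hU hVU T hT) le_rfl (F.presheaf.map (homOfLE hVU).op m) = T m := by
  apply app_eq_of_germ
  intro y hy
  rw [germ_res, ofLin_germ]

/-- sections of the sheaf Hom over `V ≤ U` (`U` affine) are determined by their action on the
restrictions of sections over `U` -/
theorem hom_ext_affine [F.IsQuasicoherent] {U V : X.Opens} (hU : IsAffineOpen U) (hVU : V ≤ U)
    (g g' : Γ(RefHull.homSh F G, V))
    (h : ∀ m : Γ(F, U), app g le_rfl (F.presheaf.map (homOfLE hVU).op m) =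
      app g' le_rfl (F.presheaf.map (homOfLE hVU).op m)) : g = g' := by
  apply hom_ext
  intro y hy
  apply stalkHom_ext_of_germ hU y (hVU hy)
  intro m
  have h1 := germ_app g le_rfl (F.presheaf.map (homOfLE hVU).op m) y hy
  have h2 := germ_app g' le_rfl (F.presheaf.map (homOfLE hVU).op m) y hy
  rw [germ_res] at h1 h2
  rw [← h1, ← h2, h m]

lemma sres_self {U : X.Opens} (h : U ≤ U) (r : Γ(X, U)) :
    X.presheaf.map (homOfLE h).op r = r := by
  have : homOfLE h = 𝟙 U := Subsingleton.elim _ _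
  rw [this, op_id, X.presheaf.map_id]
  rfl

/-- the section of the sheaf Hom over an affine `U` defined by a linear map on sections -/
noncomputable def ofLinear [F.IsQuasicoherent] {U : X.Opens} (hU : IsAffineOpen U)
    (T : Γ(F, U) →ₗ[Γ(X, U)] Γ(G, U)) : Γ(RefHull.homSh F G, U) :=
  ofLin hU le_rfl T.toAddMonoidHom (fun r m => by
    rw [sres_self]
    exact map_smul T r m)

lemma ofLinear_germ [F.IsQuasicoherent] {U : X.Opens} (hU : IsAffineOpen U)
    (T : Γ(F, U) →ₗ[Γ(X, U)] Γ(G, U)) (y : X) (hy : y ∈ U) (m : Γ(F, U)) :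
    (ofLinear hU T).1 ⟨y, hy⟩ (F.presheaf.germ U y hy m) = G.presheaf.germ U y hy (T m) :=
  ofLin_germ hU le_rfl _ _ y hy m

lemma appLin_ofLinear [F.IsQuasicoherent] {U : X.Opens} (hU : IsAffineOpen U)
    (T : Γ(F, U) →ₗ[Γ(X, U)] Γ(G, U)) : appLin (ofLinear hU T) le_rfl = T := by
  ext m
  apply app_eq_of_germ
  intro y hy
  rw [ofLinear_germ]

theorem appLin_injective [F.IsQuasicoherent] {U : X.Opens} (hU : IsAffineOpen U)
    (g g' : Γ(RefHull.homSh F G, U)) (h : appLin g le_rfl = appLin g' le_rfl) : g = g' := by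
  apply hom_ext_affine hU le_rfl
  intro m
  rw [res_self]
  exact LinearMap.congr_fun h m

/-- **`Γ(U, 𝓗om(F, G)) ≃ Hom_{O(U)}(F(U), G(U))`** for `U` affine and `F` quasi-coherent -/
noncomputable def secEquiv [F.IsQuasicoherent] {U : X.Opens} (hU : IsAffineOpen U) :
    Γ(RefHull.homSh F G, U) ≃ₗ[Γ(X, U)] (Γ(F, U) →ₗ[Γ(X, U)] Γ(G, U)) where
  toFun g := appLin g le_rfl
  map_add' g g' := by
    ext m
    exact app_add_hom g g' le_rfl m
  map_smul' r g := by
    ext m
    change app (r • g) le_rfl m = r • app g le_rfl m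
    rw [app_smul_hom, sres_self]
  invFun := ofLinear hU
  left_inv g := appLin_injective hU _ _ (appLin_ofLinear hU _)
  right_inv T := appLin_ofLinear hU T

@[simp] lemma secEquiv_apply [F.IsQuasicoherent] {U : X.Opens} (hU : IsAffineOpen U)
    (g : Γ(RefHull.homSh F G, U)) (m : Γ(F, U)) : secEquiv hU g m = app g le_rfl m := rfl

end Groth.Agent.H2.HomSh
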