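import Mathlib
import Groth.Agent.Lib.Helper2.HomSh2
import Groth.Agent.Lib.Lead.QC.FinPres
import Groth.Agent.Lib.Lead.QC.Coh

/-!
# Quasi-coherence and coherence of the sheaf Hom (helper2)
-/

set_option autoImplicit false
set_option linter.style.haveILetI false
universe u
open CategoryTheory Limits AlgebraicGeometry TopologicalSpace Opposite

namespace Groth.Agent.H2.HomSh

open Groth.Agent.LD.QC

attribute [-instance] Groth.Agent.LD.QC.stalkModule

variable {X : Scheme.{u}} {F G : X.Modules}

lemma exists_pow_smul_eq_zero_of_finite {A M N : Type*} [CommRing A] [AddCommGroup M] [Module A M]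
    [AddCommGroup N] [Module A N] [Module.Finite A M] (T : M →ₗ[A] N) (f : A)
    (h : ∀ m : M, ∃ n : ℕ, f ^ n • T m = 0) : ∃ n : ℕ, f ^ n • T = 0 := by
  classical
  obtain ⟨S, hS⟩ := (Module.Finite.fg_top : (⊤ : Submodule A M).FG)
  choose n hn using h
  refine ⟨S.sup n, ?_⟩
  ext m
  have hm : m ∈ Submodule.span A (S : Set M) := by rw [hS]; trivial
  rw [LinearMap.smul_apply, LinearMap.zero_apply]
  induction hm using Submodule.span_induction with
  | mem m hm =>
    have hle : n m ≤ S.sup n := Finset.le_sup hm
    rw [← Nat.sub_add_cancel hle, pow_add, mul_smul, hn m, smul_zero]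
  | zero => rw [map_zero, smul_zero]
  | add a b _ _ ha hb => rw [map_add, smul_add, ha, hb, add_zero]
  | smul r a _ ha => rw [map_smul, smul_comm, ha, smul_zero]

/-- **the sheaf Hom of a finitely presented module into a quasi-coherent one is quasi-coherent** -/
theorem qc_homSh (hF : F.IsFinitePresentation) [G.IsQuasicoherent] :
    (RefHull.homSh F G).IsQuasicoherent := by
  haveI : F.IsQuasicoherent := inferInstance
  refine qc_of_surj_inj _ ?_ ?_
  · -- surjectivity up to powers
    intro U hU f t
    haveI : Module.FinitePresentation Γ(X, U) Γ(F, U) :=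
      finitePresentation_sections_of_isFinitePresentation F hF hU
    letI := resModule F (X.basicOpen_le f)
    letI := resModule G (X.basicOpen_le f)
    haveI : IsLocalizedModule (Submonoid.powers f) (resLinear G (X.basicOpen_le f)) :=
      isLocalizedModule_basicOpen G hU f
    let g₁ : Γ(F, U) →ₗ[Γ(X, U)] Γ(G, X.basicOpen f) :=
      { toFun := fun m => app t le_rfl (F.presheaf.map (homOfLE (X.basicOpen_le f)).op m)
        map_add' := fun a b => by rw [map_add, app_add]
        map_smul' := fun r m => by
          rw [Scheme.Modules.map_smul, app_smul]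
          rfl }
    obtain ⟨h, s, hs⟩ := Module.FinitePresentation.exists_lift_of_isLocalizedModule
      (Submonoid.powers f) (resLinear G (X.basicOpen_le f)) g₁
    obtain ⟨n, hn⟩ := s.2
    refine ⟨n, ofLinear hU h, ?_⟩
    apply hom_ext_affine hU (X.basicOpen_le f)
    intro m
    rw [app_res_hom, app_res _ le_rfl (X.basicOpen_le f) m, app_smul_hom, sres_self]
    have h1 := LinearMap.congr_fun hs m
    have h2 : app (ofLinear hU h) le_rfl m = h m := LinearMap.congr_fun (appLin_ofLinear hU h) m
    rw [h2]
    change G.presheaf.map (homOfLE (X.basicOpen_le f)).op (h m) = _ at h1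
    rw [h1, ← map_pow]
    change (s : Γ(X, U)) • g₁ m = _
    rw [← hn]
    rfl
  · -- injectivity up to powers
    intro U hU f g hg
    haveI : Module.FinitePresentation Γ(X, U) Γ(F, U) :=
      finitePresentation_sections_of_isFinitePresentation F hF hU
    haveI : Module.Finite Γ(X, U) Γ(F, U) := inferInstance
    have h0 : ∀ m : Γ(F, U), ∃ n : ℕ, f ^ n • appLin g le_rfl m = 0 := by
      intro m
      apply affine_inj G hU f
      rw [appLin_apply, ← app_res g le_rfl (X.basicOpen_le f) m,
        ← app_res_hom (X.basicOpen_le f) g le_rfl, hg, app_zero_hom]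
    obtain ⟨n, hn⟩ := exists_pow_smul_eq_zero_of_finite (appLin g le_rfl) f h0
    refine ⟨n, ?_⟩
    apply appLin_injective hU
    have h1 : appLin (f ^ n • g) le_rfl = f ^ n • appLin g le_rfl := (secEquiv hU).map_smul _ g
    have h2 : appLin (0 : Γ(RefHull.homSh F G, U)) le_rfl = 0 := (secEquiv hU).map_zero
    rw [h1, hn, h2]

/-- sections of the sheaf Hom over an affine open of a locally Noetherian scheme are finite -/
theorem finite_sections_homSh [IsLocallyNoetherian X] (hF : Coh.IsCoh F) (hG : Coh.IsCoh G)
    {U : X.Opens} (hU : IsAffineOpen U) : Module.Finite Γ(X, U) Γ(RefHull.homSh F G, U) := by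
  haveI : F.IsQuasicoherent := hF.1
  haveI : G.IsQuasicoherent := hG.1
  haveI : IsNoetherianRing Γ(X, U) := IsLocallyNoetherian.component_noetherian ⟨U, hU⟩
  haveI : Module.Finite Γ(X, U) Γ(F, U) := finite_sections_of_isFiniteType F hF.2 hU
  haveI : Module.Finite Γ(X, U) Γ(G, U) := finite_sections_of_isFiniteType G hG.2 hU
  haveI : IsNoetherian Γ(X, U) (Γ(F, U) →ₗ[Γ(X, U)] Γ(G, U)) := isNoetherian_linearMap _ _ _
  haveI : Module.Finite Γ(X, U) (Γ(F, U) →ₗ[Γ(X, U)] Γ(G, U)) := Module.IsNoetherian.finite _ _
  exact Module.Finite.equiv (secEquiv (F := F) (G := G) hU).symm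

/-- **the sheaf Hom of coherent modules on a locally Noetherian scheme is coherent** -/
theorem isCoh_homSh [IsLocallyNoetherian X] (hF : Coh.IsCoh F) (hG : Coh.IsCoh G) :
    Coh.IsCoh (RefHull.homSh F G) := by
  haveI : G.IsQuasicoherent := hG.1
  haveI hqc : (RefHull.homSh F G).IsQuasicoherent :=
    qc_homSh (isFinitePresentation_of_qc_ft F hF.1 hF.2)
  refine ⟨hqc, ?_⟩
  rw [isFiniteType_iff_finite_sections]
  intro U hU
  exact finite_sections_homSh hF hG hU

end Groth.Agent.H2.HomSh
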