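import Mathlib
import Groth.Agent.Lib.Helper2.HomSh3

/-!
# Stalks of the sheaf Hom (helper2): `𝓗om(F, G)_x ≃ Hom(F_x, G_x)` for `F` finitely presented
-/

set_option autoImplicit false
set_option linter.style.haveILetI false
universe u
open CategoryTheory Limits AlgebraicGeometry TopologicalSpace Opposite

namespace Groth.Agent.H2.HomSh

open Groth.Agent.LD.QC

attribute [-instance] Groth.Agent.LD.QC.stalkModule

variable {X : Scheme.{u}} {F G : X.Modules}

/-- finitely many germs are represented on a common neighbourhood -/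
lemma exists_common_rep (G : X.Modules) {U : X.Opens} (x : X) (hx : x ∈ U) {n : ℕ}
    (v : Fin n → G.presheaf.stalk x) :
    ∃ (V : X.Opens) (_ : V ≤ U) (hxV : x ∈ V) (s : Fin n → Γ(G, V)),
      ∀ i, G.presheaf.germ V x hxV (s i) = v i := by
  choose W hxW s hs using fun i => TopCat.Presheaf.germ_exist G.presheaf (v i)
  let V : X.Opens := U ⊓ ⨅ i, W i
  have hxV : x ∈ V := by
    refine ⟨hx, ?_⟩
    rw [SetLike.mem_coe, ← SetLike.mem_coe, Opens.coe_iInf]
    exact Set.mem_iInter.mpr hxW
  have hVW : ∀ i, V ≤ W i := fun i => inf_le_right.trans (iInf_le W i)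
  refine ⟨V, inf_le_left, hxV, fun i => G.presheaf.map (homOfLE (hVW i)).op (s i), fun i => ?_⟩
  rw [germ_res, hs]

/-- finitely many sections with vanishing germs vanish on a common neighbourhood -/
lemma exists_common_zero (G : X.Modules) {V : X.Opens} (x : X) (hx : x ∈ V) {k : ℕ}
    (s : Fin k → Γ(G, V)) (h : ∀ j, G.presheaf.germ V x hx (s j) = 0) :
    ∃ (W : X.Opens) (hWV : W ≤ V), x ∈ W ∧ ∀ j, G.presheaf.map (homOfLE hWV).op (s j) = 0 := by
  choose W hWV hxW hW using fun j => exists_res_eq_zero_of_germ_eq_zero G x hx (s j) (h j)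
  let W₀ : X.Opens := V ⊓ ⨅ j, W j
  have hxW₀ : x ∈ W₀ := by
    refine ⟨hx, ?_⟩
    rw [SetLike.mem_coe, ← SetLike.mem_coe, Opens.coe_iInf]
    exact Set.mem_iInter.mpr hxW
  have hle : ∀ j, W₀ ≤ W j := fun j => inf_le_right.trans (iInf_le W j)
  refine ⟨W₀, inf_le_left, hxW₀, fun j => ?_⟩
  rw [← res_res G (hWV j) (hle j), hW j, map_zero]

/-- **a semilinear map from a finitely presented module into a stalk lifts to a neighbourhood** -/
theorem exists_lift_nbhd (G : X.Modules) {U : X.Opens} (x : X) (hx : x ∈ U) (M : Type u)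
    [AddCommGroup M] [Module Γ(X, U) M] [Module.FinitePresentation Γ(X, U) M]
    (ψ : M →+ G.presheaf.stalk x)
    (hψ : ∀ (r : Γ(X, U)) (m : M), ψ (r • m) = X.presheaf.germ U x hx r • ψ m) :
    ∃ (V : X.Opens) (hVU : V ≤ U) (hxV : x ∈ V) (T : M →+ Γ(G, V)),
      (∀ (r : Γ(X, U)) (m : M), T (r • m) = X.presheaf.map (homOfLE hVU).op r • T m) ∧
      ∀ m, G.presheaf.germ V x hxV (T m) = ψ m := by
  classical
  obtain ⟨n, k, f, g, hf, hfg⟩ := Module.FinitePresentation.exists_fin' Γ(X, U) M
  obtain ⟨V₀, hV₀U, hxV₀, s, hs⟩ := exists_common_rep G x hx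
    (fun i : Fin n => ψ (f (Pi.single i 1)))
  -- the map on the free module
  letI := resModule G hV₀U
  let T₀ : (Fin n → Γ(X, U)) →ₗ[Γ(X, U)] Γ(G, V₀) :=
    (Pi.basisFun Γ(X, U) (Fin n)).constr Γ(X, U) s
  have hT₀ : ∀ c : Fin n → Γ(X, U), G.presheaf.germ V₀ x hxV₀ (T₀ c) = ψ (f c) := by
    intro c
    have hc : c = ∑ i, c i • (Pi.single i 1 : Fin n → Γ(X, U)) := by
      ext j
      simp [Finset.sum_apply, Pi.single_apply]
    have h1 : T₀ c = ∑ i, c i • s i := by
      rw [Module.Basis.constr_apply_fintype]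
      simp [Pi.basisFun_equivFun]
    rw [h1, map_sum]
    conv_rhs => rw [hc, map_sum, map_sum]
    refine Finset.sum_congr rfl fun i _ => ?_
    rw [map_smul f (c i), hψ, ← hs i, resModule_smul, Mero.germ_smul, sgerm_res]
  -- kill the relations
  obtain ⟨V, hVV₀, hxV, hV⟩ := exists_common_zero G x hxV₀
    (fun j : Fin k => T₀ (g (Pi.single j 1))) (fun j => by
      rw [hT₀, hfg.apply_apply_eq_zero, map_zero])
  have hVU : V ≤ U := hVV₀.trans hV₀U
  letI := resModule G hVU
  let T₁ : (Fin n → Γ(X, U)) →ₗ[Γ(X, U)] Γ(G, V) :=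
    { toFun := fun c => G.presheaf.map (homOfLE hVV₀).op (T₀ c)
      map_add' := fun a b => by rw [map_add, map_add]
      map_smul' := fun r c => by
        rw [map_smul, resModule_smul, Scheme.Modules.map_smul, sres_res]
        rfl }
  have hker : LinearMap.ker f ≤ LinearMap.ker T₁ := by
    intro c hc
    rw [LinearMap.mem_ker] at hc ⊢
    obtain ⟨d, rfl⟩ := (hfg c).mp hc
    have hd : d = ∑ j, d j • (Pi.single j 1 : Fin k → Γ(X, U)) := by
      ext j
      simp [Finset.sum_apply, Pi.single_apply]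
    rw [hd, map_sum, map_sum]
    refine Finset.sum_eq_zero fun j _ => ?_
    rw [map_smul, map_smul]
    have : T₁ (g (Pi.single j 1)) = 0 := hV j
    rw [this, smul_zero]
  let T : M →ₗ[Γ(X, U)] Γ(G, V) :=
    ((LinearMap.ker f).liftQ T₁ hker).comp (LinearMap.quotKerEquivOfSurjective f hf).symm.toLinearMap
  have hTf : ∀ c, T (f c) = T₁ c := by
    intro c
    change ((LinearMap.ker f).liftQ T₁ hker)
      ((LinearMap.quotKerEquivOfSurjective f hf).symm (f c)) = _
    have : (LinearMap.quotKerEquivOfSurjective f hf).symm (f c) = (LinearMap.ker f).mkQ c := by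
      rw [LinearEquiv.symm_apply_eq]
      rfl
    rw [this]
    rfl
  refine ⟨V, hVU, hxV, T.toAddMonoidHom, fun r m => ?_, fun m => ?_⟩
  · exact map_smul T r m
  · obtain ⟨c, rfl⟩ := hf m
    change G.presheaf.germ V x hxV (T (f c)) = _
    rw [hTf]
    change G.presheaf.germ V x hxV (G.presheaf.map (homOfLE hVV₀).op (T₀ c)) = _
    rw [germ_res, hT₀]

/-- **surjectivity of `𝓗om(F, G)_x → Hom(F_x, G_x)`** for `F` finitely presented -/
theorem evalStalk_surjective (hF : F.IsFinitePresentation) (x : X) :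
    Function.Surjective (RefHull.evalStalk F G x) := by
  haveI : F.IsQuasicoherent := inferInstance
  intro φ
  obtain ⟨U, hU, hxU, -⟩ := exists_isAffineOpen_mem_and_subset (x := x) (U := ⊤) trivial
  haveI : Module.FinitePresentation Γ(X, U) Γ(F, U) :=
    finitePresentation_sections_of_isFinitePresentation F hF hU
  let ψ : Γ(F, U) →+ G.presheaf.stalk x :=
    { toFun := fun m => φ (F.presheaf.germ U x hxU m)
      map_zero' := by rw [map_zero, map_zero]
      map_add' := fun a b => by rw [map_add, map_add] }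
  obtain ⟨V, hVU, hxV, T, hT, hTψ⟩ := exists_lift_nbhd G x hxU Γ(F, U) ψ (fun r m => by
    change φ (F.presheaf.germ U x hxU (r • m)) = _
    rw [Mero.germ_smul, map_smul]
    rfl)
  refine ⟨(RefHull.homSh F G).presheaf.germ V x hxV (ofLin hU hVU T hT), ?_⟩
  rw [RefHull.evalStalk_germ]
  apply stalkHom_ext_of_germ hU x hxU
  intro m
  rw [ofLin_germ, hTψ]
  rfl

/-- **`𝓗om(F, G)_x ≃ Hom(F_x, G_x)`** for `F` finitely presented -/
theorem evalStalk_bijective (hF : F.IsFinitePresentation) (x : X) :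
    Function.Bijective (RefHull.evalStalk F G x) := by
  haveI : F.IsQuasicoherent := inferInstance
  exact ⟨HomStalk.evalStalk_injective_of_qcoh F G inferInstance x, evalStalk_surjective hF x⟩

end Groth.Agent.H2.HomSh
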