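import Mathlib
import Groth.Agent.Lib.Helper1.Depth2Coh2
import Groth.Agent.Lib.Helper6.SerreNormal
import Groth.Agent.Lib.Helper6.SkLoc
import Groth.Agent.Lib.Helper6.HomKer
import Groth.Agent.Lib.Lead.QC.InvBasis
import Groth.Agent.Lib.Lead.QC.TensorPow
import Groth.Agent.Lib.Lead.QC.AmpleIso
import Groth.Agent.Lib.Lead.QC.StalkNbhd
import Groth.Agent.Lib.Helper2.DepthRes2

/-!
# Invertible modules on normal schemes and opens with complement of codimension two (helper2): S7885
-/

set_option autoImplicit false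
set_option linter.style.haveILetI false
universe u
open CategoryTheory Limits AlgebraicGeometry TopologicalSpace Opposite IsLocalRing

namespace Groth.Agent.H2.PicCodim2

open Groth.Agent.LD.QC

variable {X : Scheme.{u}}

/-- the stalk of a module with a local basis is free of rank one -/
theorem bijective_toSpanSingleton_germ (L : X.Modules) (U : X.Opens) (e : Γ(L, U))
    (he : IsBasisOver L U e) (x : X) (hx : x ∈ U) :
    Function.Bijective (LinearMap.toSpanSingleton (X.presheaf.stalk x) (L.presheaf.stalk x)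
      (L.presheaf.germ U x hx e)) := by
  constructor
  · rw [injective_iff_map_eq_zero]
    intro a ha
    obtain ⟨V', hxV', a', rfl⟩ := TopCat.Presheaf.exists_germ_eq X.presheaf a
    have hxV : x ∈ V' ⊓ U := ⟨hxV', hx⟩
    rw [LinearMap.toSpanSingleton_apply,
      ← sgerm_res x (inf_le_left : V' ⊓ U ≤ V') hxV a',
      ← germ_res L x (inf_le_right : V' ⊓ U ≤ U) hxV e,
      ← Groth.Agent.H2.DepthRes.germ_smul'] at ha
    obtain ⟨W, hW, hxW, h0⟩ := exists_res_eq_zero_of_germ_eq_zero L x hxV _ ha
    rw [smul_res, res_res] at h0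
    have hb := he W (hW.trans inf_le_right)
    have h1 : X.presheaf.map (homOfLE hW).op (X.presheaf.map (homOfLE (inf_le_left :
        V' ⊓ U ≤ V')).op a') = 0 := by
      apply hb.1
      simp only [zero_smul]
      exact h0
    rw [← sgerm_res x (inf_le_left : V' ⊓ U ≤ V') hxV a', ← sgerm_res x hW hxW, h1, map_zero]
  · intro m
    obtain ⟨V', hxV', m', rfl⟩ := TopCat.Presheaf.exists_germ_eq L.presheaf m
    have hxV : x ∈ V' ⊓ U := ⟨hxV', hx⟩
    obtain ⟨a, ha⟩ := (he (V' ⊓ U) inf_le_right).2
      (L.presheaf.map (homOfLE (inf_le_left : V' ⊓ U ≤ V')).op m')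
    refine ⟨X.presheaf.germ (V' ⊓ U) x hxV a, ?_⟩
    rw [LinearMap.toSpanSingleton_apply,
      ← germ_res L x (inf_le_right : V' ⊓ U ≤ U) hxV e,
      ← Groth.Agent.H2.DepthRes.germ_smul']
    have ha' : a • L.presheaf.map (homOfLE (inf_le_right : V' ⊓ U ≤ U)).op e =
        L.presheaf.map (homOfLE (inf_le_left : V' ⊓ U ≤ V')).op m' := ha
    rw [ha', germ_res]

/-- the depth of the stalk of an invertible module is that of the local ring -/
theorem depth_stalk_of_isInvertible (L : X.Modules) (hL : PicF.IsInvertible L) (x : X) :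
    LocCoh.depth (X.presheaf.stalk x) (L.presheaf.stalk x) =
      LocCoh.depth (X.presheaf.stalk x) (X.presheaf.stalk x) := by
  obtain ⟨U, e, hxU, he⟩ := (isInvertible_iff_exists_isBasisOver L).1 hL x
  let ε := LinearEquiv.ofBijective _ (bijective_toSpanSingleton_germ L U e he x hxU)
  unfold LocCoh.depth
  exact (Groth.Agent.H6.HomKer.idealDepth_congr _ ε).symm

end Groth.Agent.H2.PicCodim2

namespace Groth.Agent.H2.PicCodim2

open Groth.Agent.LD.QC

variable {X : Scheme.{u}}

/-- a normal Noetherian local domain of dimension at least two has depth at least two -/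
theorem two_le_depth_of_normal (B : Type u) [CommRing B] [IsLocalRing B] [IsNoetherianRing B]
    [IsDomain B] [IsIntegrallyClosed B] (hdim : (2 : WithBot ℕ∞) ≤ ringKrullDim B) :
    (2 : ℕ∞) ≤ LocCoh.depth B B := by
  have h1 := Groth.Agent.H6.SkLoc.hasSk_closedPoint (R := B) B 2
    (Groth.Agent.H6.SerreNormal.hasSk_two_of_normal B)
  rw [Module.supportDim_self_eq_ringKrullDim] at h1
  have h2 : min ((2 : ℕ) : WithBot ℕ∞) (ringKrullDim B) = (2 : WithBot ℕ∞) := min_eq_left hdim
  rw [h2] at h1
  exact WithBot.coe_le_coe.mp h1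

theorem isCoh_of_isInvertible (L : X.Modules) (hL : PicF.IsInvertible L) : Coh.IsCoh L :=
  ⟨qc_of_isFinLocFree L (isFinLocFree_of_isInvertible L hL), isFiniteType_of_isInvertible L hL⟩

/-- **S7885** -/
theorem s7885 (T : Scheme.{u}) [IsLocallyNoetherian T]
    (hT : ∀ x : T, IsDomain (T.presheaf.stalk x) ∧ IsIntegrallyClosed (T.presheaf.stalk x))
    (U : T.Opens) (hU : ∀ x : T, x ∉ (U : Set T) → 2 ≤ ringKrullDim (T.presheaf.stalk x))
    (L : T.Modules) (hL : PicF.IsInvertible L) :
    Function.Bijective (L.val.map (homOfLE (le_top (a := U))).op) ∧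
      (Nonempty (L.restrict U.ι ≅ Coh.structureModule (U : Scheme.{u})) →
        Nonempty (L ≅ Coh.structureModule T)) := by
  have hO : ∀ x : T, x ∉ U →
      (2 : ℕ∞) ≤ LocCoh.depth (T.presheaf.stalk x) (T.presheaf.stalk x) := by
    intro x hx
    haveI := (hT x).1
    haveI := (hT x).2
    exact two_le_depth_of_normal _ (hU x hx)
  have hLd : ∀ x : T, x ∉ U →
      (2 : ℕ∞) ≤ LocCoh.depth (T.presheaf.stalk x) (L.presheaf.stalk x) := by
    intro x hx
    rw [depth_stalk_of_isInvertible L hL x]
    exact hO x hx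
  have hLc := isCoh_of_isInvertible L hL
  have hOc := isCoh_of_isInvertible (unitMod T) (isInvertible_unit T)
  constructor
  · have h1 := Groth.Agent.H1.Depth2Coh.s1575 T L hLc U hLd ⊤
    exact Groth.Agent.H1.Depth2Coh.bijective_res_of_eq L _ _ rfl (top_inf_eq U) h1
  · rintro ⟨e⟩
    haveI h1 := Groth.Agent.H1.Depth2Coh.isIso_unit L hLc U hLd
    have hO' : ∀ x : T, x ∉ U → (2 : ℕ∞) ≤ LocCoh.depth (T.presheaf.stalk x)
        ((unitMod T).presheaf.stalk x) := by
      intro x hx
      rw [depth_stalk_of_isInvertible (unitMod T) (isInvertible_unit T) x]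
      exact hO x hx
    haveI h2 := Groth.Agent.H1.Depth2Coh.isIso_unit (unitMod T) hOc U hO'
    let adj := Scheme.Modules.restrictAdjunction U.ι
    exact ⟨asIso (adj.unit.app L) ≪≫
      (Scheme.Modules.pushforward U.ι).mapIso (e ≪≫ (Scheme.Modules.restrictUnitIso U.ι).symm) ≪≫
      (asIso (adj.unit.app (unitMod T))).symm⟩

end Groth.Agent.H2.PicCodim2
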