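import Mathlib
import Groth.Agent.Lib.Helper2.HomSh4
import Groth.Agent.Lib.Helper2.IsoLocus
import Groth.Agent.Lib.Helper2.DepthRes7
import Groth.Agent.Lib.Helper2.PicCodim2
import Groth.Agent.Lib.Lead.QC.TensorPow

/-!
# Reflexive modules: `F ⟶ F^**` is an isomorphism iff every stalk is reflexive (helper2)
-/

set_option autoImplicit false
set_option linter.style.haveILetI false
universe u
open CategoryTheory Limits AlgebraicGeometry TopologicalSpace Opposite

namespace Groth.Agent.H2.HomSh

open Groth.Agent.LD.QC

attribute [-instance] Groth.Agent.LD.QC.stalkModule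

/-- reflexivity can be tested with any free module of rank one in place of the ring -/
theorem isReflexive_iff_bijective_applyₗ {R M N : Type*} [CommRing R] [AddCommGroup M]
    [Module R M] [AddCommGroup N] [Module R N] (e : R ≃ₗ[R] N) :
    Module.IsReflexive R M ↔
      Function.Bijective (LinearMap.applyₗ : M →ₗ[R] (M →ₗ[R] N) →ₗ[R] N) := by
  let Φ : ((M →ₗ[R] N) →ₗ[R] N) ≃ₗ[R] ((M →ₗ[R] R) →ₗ[R] R) :=
    LinearEquiv.arrowCongr (LinearEquiv.arrowCongr (LinearEquiv.refl R M) e.symm) e.symm
  have hΦ : ∀ m : M, Φ (LinearMap.applyₗ m) = Module.Dual.eval R M m := by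
    intro m
    ext φ
    simp [Φ, LinearEquiv.arrowCongr_apply]
  have hcomp : ⇑(Module.Dual.eval R M) =
      ⇑Φ ∘ ⇑(LinearMap.applyₗ : M →ₗ[R] (M →ₗ[R] N) →ₗ[R] N) := by
    funext m
    exact (hΦ m).symm
  constructor
  · intro h
    have hb : Function.Bijective (Module.Dual.eval R M) := h.bijective_dual_eval'
    rw [hcomp] at hb
    exact (Function.Bijective.of_comp_iff' Φ.bijective _).mp hb
  · intro h
    refine ⟨?_⟩
    rw [hcomp]
    exact Φ.bijective.comp h

variable {X : Scheme.{u}} {F G : X.Modules}

/-- the stalk of the structure module is free of rank one over the local ring -/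
noncomputable def unitStalkEquiv (x : X) :
    X.presheaf.stalk x ≃ₗ[X.presheaf.stalk x] (Coh.structureModule X).presheaf.stalk x :=
  LinearEquiv.ofBijective _
    (PicCodim2.bijective_toSpanSingleton_germ (unitMod X) ⊤ (1 : Γ(X, ⊤)) (isBasisOver_one ⊤) x
      trivial)

/-- `IsIso φ` iff all stalk maps are bijective (quasi-coherent modules) -/
theorem isIso_iff_stalk (φ : F ⟶ G) (hF : F.IsQuasicoherent) (hG : G.IsQuasicoherent) :
    IsIso φ ↔ ∀ x : X, Function.Bijective (RefHull.stalkMapₗ φ x) := by
  constructor
  · intro h x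
    refine DepthRes.bijective_stalkMap_of_app φ ⊤ x trivial fun W _ => ?_
    have h1 := Scheme.Modules.Hom.isIso_iff_isIso_app.1 h W
    rwa [ConcreteCategory.isIso_iff_bijective] at h1
  · intro h
    apply isIso_of_bijective_app
    intro W
    exact DepthRes.bijective_app_of_stalks φ ⊤
      (fun y _ => (IsoLocus.injective_iff φ y).mp (h y).1)
      (fun y _ => (IsoLocus.surjective_iff φ hF hG y).mp (h y).2) W le_top

/-- the stalk of the biduality map, followed by evaluation, is the pointwise biduality map -/
theorem evalStalk_stalkMap_bidualMap (F : X.Modules) (x : X) (v : F.presheaf.stalk x) :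
    RefHull.evalStalk (RefHull.dual F) (Coh.structureModule X) x
      (RefHull.stalkMapₗ (RefHull.bidualMap F) x v) = RefHull.bidualAt F x v := by
  obtain ⟨U, hxU, s, rfl⟩ := TopCat.Presheaf.exists_germ_eq F.presheaf v
  rw [RefHull.stalkMapₗ_germ, RefHull.evalStalk_germ]
  rfl

/-- the pointwise biduality map is bijective iff the stalk is reflexive -/
theorem bidualAt_bijective_iff (hF : F.IsFinitePresentation) (x : X) :
    Function.Bijective (RefHull.bidualAt F x) ↔ RefHull.IsReflexiveAt F x := by
  let E : (RefHull.dual F).presheaf.stalk x ≃ₗ[X.presheaf.stalk x]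
      RefHull.StalkHom F (Coh.structureModule X) x :=
    LinearEquiv.ofBijective (RefHull.evalStalk F (Coh.structureModule X) x)
      (evalStalk_bijective hF x)
  let Ψ : (RefHull.StalkHom F (Coh.structureModule X) x →ₗ[X.presheaf.stalk x]
        (Coh.structureModule X).presheaf.stalk x) ≃ₗ[X.presheaf.stalk x]
      ((RefHull.dual F).presheaf.stalk x →ₗ[X.presheaf.stalk x]
        (Coh.structureModule X).presheaf.stalk x) :=
    LinearEquiv.arrowCongr E.symm
      (LinearEquiv.refl (X.presheaf.stalk x) ((Coh.structureModule X).presheaf.stalk x))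
  have hcomp : ⇑(RefHull.bidualAt F x) = ⇑Ψ ∘ ⇑(LinearMap.applyₗ :
      F.presheaf.stalk x →ₗ[X.presheaf.stalk x]
        (RefHull.StalkHom F (Coh.structureModule X) x) →ₗ[X.presheaf.stalk x]
          (Coh.structureModule X).presheaf.stalk x) := by
    funext v
    apply LinearMap.ext
    intro θ
    simp [Ψ, E, LinearEquiv.arrowCongr_apply]
  unfold RefHull.IsReflexiveAt
  rw [isReflexive_iff_bijective_applyₗ (unitStalkEquiv x), hcomp]
  exact Function.Bijective.of_comp_iff' Ψ.bijective _

theorem isCoh_structureModule (X : Scheme.{u}) : Coh.IsCoh (Coh.structureModule X) :=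
  ⟨inferInstance, IsoLocus.isFiniteType_structureModule X⟩

theorem isCoh_dual [IsLocallyNoetherian X] (hF : Coh.IsCoh F) : Coh.IsCoh (RefHull.dual F) :=
  isCoh_homSh hF (isCoh_structureModule X)

theorem isCoh_ddual [IsLocallyNoetherian X] (hF : Coh.IsCoh F) : Coh.IsCoh (RefHull.ddual F) :=
  isCoh_dual (isCoh_dual hF)

/-- the stalk map of the biduality map is bijective iff the stalk is reflexive -/
theorem stalkMap_bidualMap_bijective_iff [IsLocallyNoetherian X] (hF : Coh.IsCoh F) (x : X) :
    Function.Bijective (RefHull.stalkMapₗ (RefHull.bidualMap F) x) ↔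
      RefHull.IsReflexiveAt F x := by
  have hFP : F.IsFinitePresentation := isFinitePresentation_of_qc_ft F hF.1 hF.2
  have hD := isCoh_dual hF
  have hDP : (RefHull.dual F).IsFinitePresentation := isFinitePresentation_of_qc_ft _ hD.1 hD.2
  rw [← bidualAt_bijective_iff hFP x]
  have hcomp : ⇑(RefHull.bidualAt F x) =
      ⇑(RefHull.evalStalk (RefHull.dual F) (Coh.structureModule X) x) ∘
        ⇑(RefHull.stalkMapₗ (RefHull.bidualMap F) x) := by
    funext v
    exact (evalStalk_stalkMap_bidualMap F x v).symm
  rw [hcomp]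
  exact (Function.Bijective.of_comp_iff' (evalStalk_bijective hDP x) _).symm

/-- **a coherent module on a locally Noetherian scheme is reflexive iff all its stalks are** -/
theorem isReflexive_iff_stalk [IsLocallyNoetherian X] (hF : Coh.IsCoh F) :
    RefHull.IsReflexive F ↔ ∀ x : X, RefHull.IsReflexiveAt F x := by
  unfold RefHull.IsReflexive
  rw [isIso_iff_stalk _ hF.1 (isCoh_ddual hF).1]
  exact forall_congr' fun x => stalkMap_bidualMap_bijective_iff hF x

end Groth.Agent.H2.HomSh
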