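import Mathlib
import Groth.Prelude.Def_SGA1

/-!
# Quotients of schemes by finite groups, part A: the action on sections (helper2)
-/

set_option autoImplicit false
set_option linter.style.haveILetI false
universe u
open CategoryTheory Limits AlgebraicGeometry TopologicalSpace Opposite

namespace Groth.Agent.H2.Quot

variable {X Y : Scheme.{u}} {G : Type u} [Group G] (ρ : G →* Aut X) (p : X ⟶ Y)
  (hinv : ∀ g : G, (ρ g).hom ≫ p = p)

/-- the (right) action of `g` on the sections of `O_X` over `p⁻¹U` -/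
noncomputable def sig (U : Y.Opens) (g : G) : Γ(X, p ⁻¹ᵁ U) ⟶ Γ(X, p ⁻¹ᵁ U) :=
  (ρ g).hom.appLE (p ⁻¹ᵁ U) (p ⁻¹ᵁ U) (SGA1.preimage_le_of_inv ρ p hinv g U)

theorem sig_one (U : Y.Opens) : sig ρ p hinv U 1 = 𝟙 _ := by
  unfold sig
  have h1 : (ρ 1).hom = 𝟙 X := by rw [map_one]; rfl
  have key : ∀ (f : X ⟶ X) (_ : f = 𝟙 X) (e : p ⁻¹ᵁ U ≤ f ⁻¹ᵁ (p ⁻¹ᵁ U)),
      f.appLE (p ⁻¹ᵁ U) (p ⁻¹ᵁ U) e = 𝟙 _ := by
    rintro f rfl e
    simp only [Scheme.Hom.appLE, Scheme.Hom.id_app, Category.id_comp]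
    exact X.presheaf.map_id _
  exact key _ h1 _

theorem sig_mul (U : Y.Opens) (g h : G) :
    sig ρ p hinv U (g * h) = sig ρ p hinv U g ≫ sig ρ p hinv U h := by
  unfold sig
  rw [Scheme.Hom.appLE_comp_appLE]
  have h1 : (ρ (g * h)).hom = (ρ h).hom ≫ (ρ g).hom := by rw [map_mul]; rfl
  have key : ∀ (f f' : X ⟶ X) (_ : f = f') (e : p ⁻¹ᵁ U ≤ f ⁻¹ᵁ (p ⁻¹ᵁ U))
      (e' : p ⁻¹ᵁ U ≤ f' ⁻¹ᵁ (p ⁻¹ᵁ U)),
      f.appLE (p ⁻¹ᵁ U) (p ⁻¹ᵁ U) e = f'.appLE (p ⁻¹ᵁ U) (p ⁻¹ᵁ U) e' := by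
    rintro f f' rfl e e'
    rfl
  exact key _ _ h1 _ _

theorem app_sig (U : Y.Opens) (g : G) : p.app U ≫ sig ρ p hinv U g = p.app U := by
  unfold sig
  rw [← Scheme.Hom.comp_appLE]
  have key : ∀ (f : X ⟶ Y) (_ : f = p) (e : p ⁻¹ᵁ U ≤ f ⁻¹ᵁ U),
      f.appLE U (p ⁻¹ᵁ U) e = p.app U := by
    rintro f rfl e
    exact (Scheme.Hom.app_eq_appLE _).symm
  exact key _ (hinv g) _

theorem sig_app_apply (U : Y.Opens) (g : G) (a : Γ(Y, U)) :
    (sig ρ p hinv U g).hom ((p.app U).hom a) = (p.app U).hom a := by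
  have := app_sig ρ p hinv U g
  exact congr($(this).hom a)

theorem sig_inv_sig (U : Y.Opens) (g : G) (s : Γ(X, p ⁻¹ᵁ U)) :
    (sig ρ p hinv U g⁻¹).hom ((sig ρ p hinv U g).hom s) = s := by
  have h1 := sig_mul ρ p hinv U g g⁻¹
  rw [mul_inv_cancel, sig_one] at h1
  exact congr($(h1.symm).hom s)

theorem sig_sig_inv (U : Y.Opens) (g : G) (s : Γ(X, p ⁻¹ᵁ U)) :
    (sig ρ p hinv U g).hom ((sig ρ p hinv U g⁻¹).hom s) = s := by
  have := sig_inv_sig ρ p hinv U g⁻¹ s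
  rwa [inv_inv] at this

/-- the left action of `G` on the sections of `O_X` over `p⁻¹U` -/
@[reducible] noncomputable def action (U : Y.Opens) : MulSemiringAction G Γ(X, p ⁻¹ᵁ U) where
  smul g s := (sig ρ p hinv U g⁻¹).hom s
  one_smul s := by
    change (sig ρ p hinv U 1⁻¹).hom s = s
    rw [inv_one, sig_one]
    rfl
  mul_smul g h s := by
    change (sig ρ p hinv U (g * h)⁻¹).hom s =
      (sig ρ p hinv U g⁻¹).hom ((sig ρ p hinv U h⁻¹).hom s)
    rw [mul_inv_rev, sig_mul]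
    rfl
  smul_zero g := map_zero (sig ρ p hinv U g⁻¹).hom
  smul_add g s t := map_add (sig ρ p hinv U g⁻¹).hom s t
  smul_one g := map_one (sig ρ p hinv U g⁻¹).hom
  smul_mul g s t := map_mul (sig ρ p hinv U g⁻¹).hom s t

theorem action_smul_def (U : Y.Opens) (g : G) (s : Γ(X, p ⁻¹ᵁ U)) :
    letI := action ρ p hinv U
    g • s = (sig ρ p hinv U g⁻¹).hom s := rfl

/-- the algebra structure of the sections over `p⁻¹U` over the sections over `U` -/
@[reducible] noncomputable def algebra (U : Y.Opens) : Algebra Γ(Y, U) Γ(X, p ⁻¹ᵁ U) :=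
  (p.app U).hom.toAlgebra

theorem smulCommClass (U : Y.Opens) :
    letI := action ρ p hinv U
    letI := algebra p U
    SMulCommClass G Γ(Y, U) Γ(X, p ⁻¹ᵁ U) := by
  letI := action ρ p hinv U
  letI := algebra p U
  refine ⟨fun g a s => ?_⟩
  change (sig ρ p hinv U g⁻¹).hom ((p.app U).hom a * s) =
    (p.app U).hom a * (sig ρ p hinv U g⁻¹).hom s
  rw [map_mul, sig_app_apply]

variable {ρ p}

theorem isInvariant (hp : SGA1.IsQuot ρ p) (U : Y.Opens) :
    letI := action ρ p hp.inv U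
    letI := algebra p U
    Algebra.IsInvariant Γ(Y, U) Γ(X, p ⁻¹ᵁ U) G := by
  letI := action ρ p hp.inv U
  letI := algebra p U
  refine ⟨fun s hs => ?_⟩
  have h1 : s ∈ Set.range (p.app U).hom := by
    rw [hp.range_iff U s]
    intro g
    have := hs g⁻¹
    rw [action_smul_def, inv_inv] at this
    exact this
  obtain ⟨a, ha⟩ := h1
  exact ⟨a, ha⟩

theorem isIntegral_app [Finite G] (hp : SGA1.IsQuot ρ p) (U : Y.Opens) :
    (p.app U).hom.IsIntegral := by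
  letI := action ρ p hp.inv U
  letI := algebra p U
  haveI := smulCommClass ρ p hp.inv U
  haveI := isInvariant hp U
  have h := Algebra.IsInvariant.isIntegral Γ(Y, U) Γ(X, p ⁻¹ᵁ U) G
  intro s
  exact h.isIntegral s

/-- **S13596** -/
theorem s13596 [Finite G] (hp : SGA1.IsQuot ρ p) : IsIntegralHom p :=
  { toIsAffineHom := hp.affine
    isIntegral_app := fun U _ => isIntegral_app hp U }

end Groth.Agent.H2.Quot
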