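import Mathlib
import Groth.Agent.Lib.Helper2.QuotA

/-!
# Quotients of schemes by finite groups, part B: points (S2908) (helper2)
-/

set_option autoImplicit false
set_option linter.style.haveILetI false
universe u
open CategoryTheory Limits AlgebraicGeometry TopologicalSpace Opposite

namespace Groth.Agent.H2.Quot

variable {X Y : Scheme.{u}} {G : Type u} [Group G] {ρ : G →* Aut X} {p : X ⟶ Y}

/-- the point of `Y` under a point of `p⁻¹U` given by a prime -/
theorem map_fromSpec [IsAffineHom p] {U : Y.Opens} (hU : IsAffineOpen U)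
    (Q : PrimeSpectrum Γ(X, p ⁻¹ᵁ U)) :
    p ((hU.preimage p).fromSpec Q) = hU.fromSpec (Spec.map (p.app U) Q) := by
  have h := IsAffineOpen.SpecMap_appLE_fromSpec p hU (hU.preimage p) le_rfl
  rw [← Scheme.Hom.app_eq_appLE] at h
  have := congrArg (fun f : Spec Γ(X, p ⁻¹ᵁ U) ⟶ Y => f Q) h
  exact this.symm

theorem sig_fromSpec [IsAffineHom p] (hinv : ∀ g : G, (ρ g).hom ≫ p = p) {U : Y.Opens}
    (hU : IsAffineOpen U) (g : G) (Q : PrimeSpectrum Γ(X, p ⁻¹ᵁ U)) :
    (ρ g).hom ((hU.preimage p).fromSpec Q) =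
      (hU.preimage p).fromSpec (Spec.map (sig ρ p hinv U g) Q) := by
  have h := IsAffineOpen.SpecMap_appLE_fromSpec (ρ g).hom (hU.preimage p) (hU.preimage p)
    (SGA1.preimage_le_of_inv ρ p hinv g U)
  have := congrArg (fun f : Spec Γ(X, p ⁻¹ᵁ U) ⟶ X => f Q) h
  exact this.symm

theorem surjective [Finite G] (hp : SGA1.IsQuot ρ p) : Function.Surjective p := by
  haveI := hp.affine
  intro y
  obtain ⟨U, hU, hyU, -⟩ := exists_isAffineOpen_mem_and_subset (x := y) (U := ⊤) trivial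
  let P := hU.primeIdealOf ⟨y, hyU⟩
  letI := algebra p U
  haveI : Algebra.IsIntegral Γ(Y, U) Γ(X, p ⁻¹ᵁ U) := ⟨fun s => isIntegral_app hp U s⟩
  obtain ⟨Q, -, hQ, hQP⟩ := Ideal.exists_ideal_over_prime_of_isIntegral
    (R := Γ(Y, U)) (S := Γ(X, p ⁻¹ᵁ U)) P.asIdeal ⊥ (by
      intro a ha
      rw [Ideal.mem_comap, Ideal.mem_bot] at ha
      have : a = 0 := hp.injective U (ha.trans (map_zero _).symm)
      rw [this]
      exact zero_mem _)
  refine ⟨(hU.preimage p).fromSpec ⟨Q, hQ⟩, ?_⟩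
  rw [map_fromSpec hU]
  have : Spec.map (p.app U) ⟨Q, hQ⟩ = P := PrimeSpectrum.ext hQP
  rw [this]
  exact hU.fromSpec_primeIdealOf ⟨y, hyU⟩

theorem orbit [Finite G] (hp : SGA1.IsQuot ρ p) (x x' : X) :
    p x = p x' ↔ ∃ g : G, (ρ g).hom x = x' := by
  haveI := hp.affine
  constructor
  · intro hxx
    obtain ⟨U, hU, hyU, -⟩ := exists_isAffineOpen_mem_and_subset (x := p x) (U := ⊤) trivial
    have hV := hU.preimage p
    have hx : x ∈ p ⁻¹ᵁ U := hyU
    have hx' : x' ∈ p ⁻¹ᵁ U := by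
      change p x' ∈ U
      rw [← hxx]
      exact hyU
    let Q := hV.primeIdealOf ⟨x, hx⟩
    let Q' := hV.primeIdealOf ⟨x', hx'⟩
    have hQ : hV.fromSpec Q = x := hV.fromSpec_primeIdealOf ⟨x, hx⟩
    have hQ' : hV.fromSpec Q' = x' := hV.fromSpec_primeIdealOf ⟨x', hx'⟩
    letI := action ρ p hp.inv U
    letI := algebra p U
    haveI := smulCommClass ρ p hp.inv U
    haveI := isInvariant hp U
    have hunder : Spec.map (p.app U) Q = Spec.map (p.app U) Q' := by
      haveI := hU.isOpenImmersion_fromSpec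
      apply hU.fromSpec.isOpenEmbedding.injective
      rw [← map_fromSpec hU, ← map_fromSpec hU, hQ, hQ', hxx]
    have hunder' : Ideal.under Γ(Y, U) Q.asIdeal = Ideal.under Γ(Y, U) Q'.asIdeal :=
      congrArg PrimeSpectrum.asIdeal hunder
    obtain ⟨g, hg⟩ := Algebra.IsInvariant.exists_smul_of_under_eq Γ(Y, U) Γ(X, p ⁻¹ᵁ U) G
      Q.asIdeal Q'.asIdeal hunder'
    refine ⟨g, ?_⟩
    rw [← hQ, ← hQ', sig_fromSpec hp.inv hU]
    congr 1
    apply PrimeSpectrum.ext
    change Q.asIdeal.comap (sig ρ p hp.inv U g).hom = Q'.asIdeal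
    rw [hg, Ideal.pointwise_smul_def]
    ext s
    rw [Ideal.mem_comap]
    constructor
    · intro hs
      refine (Ideal.mem_map_iff_of_surjective _ ?_).mpr ⟨_, hs, ?_⟩
      · intro t
        exact ⟨(sig ρ p hp.inv U g).hom t, sig_inv_sig ρ p hp.inv U g t⟩
      · exact sig_inv_sig ρ p hp.inv U g s
    · intro hs
      have hsurj : Function.Surjective (MulSemiringAction.toRingHom G Γ(X, p ⁻¹ᵁ U) g) := by
        intro t
        exact ⟨(sig ρ p hp.inv U g).hom t, sig_inv_sig ρ p hp.inv U g t⟩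
      obtain ⟨t, ht, hts⟩ := (Ideal.mem_map_iff_of_surjective _ hsurj).mp hs
      have : (sig ρ p hp.inv U g).hom s = t := by
        rw [← hts]
        exact sig_sig_inv ρ p hp.inv U g t
      rw [this]
      exact ht
  · rintro ⟨g, rfl⟩
    have := congrArg (fun f : X ⟶ Y => f x) (hp.inv g)
    exact this.symm

/-- **S2908** -/
theorem s2908 [Finite G] (hp : SGA1.IsQuot ρ p) :
    Function.Surjective p.base ∧
      (∀ x x' : X, p.base x = p.base x' ↔ ∃ g : G, (ρ g).hom.base x = x') ∧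
      Topology.IsQuotientMap p.base := by
  haveI := s13596 hp
  refine ⟨surjective hp, orbit hp, ?_⟩
  exact IsClosedMap.isQuotientMap p.isClosedMap p.continuous (surjective hp)

end Groth.Agent.H2.Quot
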