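import Mathlib
import Groth.Agent.S2913

/-!
# Descent of morphisms along quotient-like morphisms (helper2)

`exists_desc`: if `g : S' ⟶ S` is a topological quotient map, injective on sections, then a
morphism `e : S' ⟶ W` which is constant on the fibres of `g` and whose sections come from `S`
factors through `g`.
-/

set_option autoImplicit false
set_option linter.style.haveILetI false
universe u
open CategoryTheory Limits AlgebraicGeometry TopologicalSpace Opposite

namespace Groth.Agent.H2.Quot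

/-- a morphism from an open subscheme into an affine open is determined by its ring map -/
theorem toSpecΓ_appLE_fromSpec {T W : Scheme.{u}} (e : T ⟶ W) {Wi : W.Opens}
    (hW : IsAffineOpen Wi) (V : T.Opens) (hle : V ≤ e ⁻¹ᵁ Wi) :
    V.toSpecΓ ≫ Spec.map (e.appLE Wi V hle) ≫ hW.fromSpec = V.ι ≫ e := by
  have h1 := Scheme.Opens.toSpecΓ_naturality e Wi
  have h2 := Scheme.Opens.toSpecΓ_SpecMap_presheaf_map V (e ⁻¹ᵁ Wi) hle
  have h3 : e.appLE Wi V hle = e.app Wi ≫ T.presheaf.map (homOfLE hle).op := rfl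
  calc V.toSpecΓ ≫ Spec.map (e.appLE Wi V hle) ≫ hW.fromSpec
      = (V.toSpecΓ ≫ Spec.map (T.presheaf.map (homOfLE hle).op)) ≫ Spec.map (e.app Wi) ≫
          hW.fromSpec := by
        rw [h3, Spec.map_comp, Category.assoc, Category.assoc]
    _ = T.homOfLE hle ≫ ((e ⁻¹ᵁ Wi).toSpecΓ ≫ Spec.map (e.app Wi)) ≫ hW.fromSpec := by
        rw [h2, Category.assoc, Category.assoc]
    _ = T.homOfLE hle ≫ (e ∣_ Wi) ≫ Wi.ι := by
        rw [h1, Category.assoc, hW.toSpecΓ_fromSpec]
    _ = V.ι ≫ e := by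
        rw [morphismRestrict_ι, ← Category.assoc, Scheme.homOfLE_ι]

/-- factoring a ring map through an injective ring map containing its image -/
theorem exists_ringHom_factor {A B C : Type u} [CommRing A] [CommRing B] [CommRing C]
    (f : A →+* B) (hf : Function.Injective f) (a : C →+* B) (h : ∀ t, a t ∈ Set.range f) :
    ∃ φ : C →+* A, f.comp φ = a := by
  let ψ : A ≃+* f.range := RingEquiv.ofBijective f.rangeRestrict
    ⟨fun x y hxy => hf (congrArg Subtype.val hxy), f.rangeRestrict_surjective⟩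
  let a' : C →+* f.range := a.codRestrict f.range (fun t => by
    obtain ⟨x, hx⟩ := h t
    exact ⟨x, hx⟩)
  refine ⟨ψ.symm.toRingHom.comp a', ?_⟩
  ext t
  change f (ψ.symm (a' t)) = a t
  have : (ψ (ψ.symm (a' t)) : B) = f (ψ.symm (a' t)) := rfl
  rw [← this, ψ.apply_symm_apply]
  rfl

section Desc
variable {S' S W : Scheme.{u}} (g : S' ⟶ S) (e : S' ⟶ W)

theorem epi_morphismRestrict (hsurj : Function.Surjective g)
    (hinj : ∀ U : S.Opens, Function.Injective (g.app U).hom) (U : S.Opens) : Epi (g ∣_ U) := by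
  haveI : Surjective (g ∣_ U) := by
    refine ⟨fun u => ?_⟩
    obtain ⟨x, hx⟩ := hsurj u.1
    have hxU : x ∈ g ⁻¹ᵁ U := by
      change g x ∈ U
      rw [hx]
      exact u.2
    refine ⟨⟨x, hxU⟩, ?_⟩
    apply Subtype.ext
    rw [morphismRestrict_base_coe]
    exact hx
  apply Groth.Agent.S2913.result
  intro V
  rw [morphismRestrict_app]
  have h2 : Function.Injective (S'.presheaf.map (eqToHom
      (image_morphismRestrict_preimage g U V)).op).hom := by
    apply (ConcreteCategory.isIso_iff_bijective _).mp inferInstance |>.1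
  exact h2.comp (hinj _)

/-- the open of `S` whose preimage is `e⁻¹W'` -/
def dOpen (hq : Topology.IsQuotientMap g) (hfib : ∀ x x' : S', g x = g x' → e x = e x')
    (W' : W.Opens) : S.Opens :=
  ⟨{s | ∃ x, g x = s ∧ e x ∈ W'}, by
    rw [← hq.isOpen_preimage]
    have : g ⁻¹' {s | ∃ x, g x = s ∧ e x ∈ W'} = e ⁻¹' (W' : Set W) := by
      ext x
      constructor
      · rintro ⟨x', hx', hx'W⟩
        change e x ∈ W'
        rw [hfib x x' hx'.symm]
        exact hx'W
      · intro hx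
        exact ⟨x, rfl, hx⟩
    rw [this]
    exact W'.2.preimage e.continuous⟩

theorem preimage_dOpen (hq : Topology.IsQuotientMap g)
    (hfib : ∀ x x' : S', g x = g x' → e x = e x') (W' : W.Opens) :
    g ⁻¹ᵁ (dOpen g e hq hfib W') = e ⁻¹ᵁ W' := by
  ext x
  constructor
  · rintro ⟨x', hx', hx'W⟩
    change e x ∈ W'
    rw [hfib x x' hx'.symm]
    exact hx'W
  · intro hx
    exact ⟨x, rfl, hx⟩

/-- **descent of morphisms along quotient-like morphisms** -/
theorem exists_desc (hq : Topology.IsQuotientMap g)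
    (hfib : ∀ x x' : S', g x = g x' → e x = e x')
    (hinj : ∀ U : S.Opens, Function.Injective (g.app U).hom)
    (hrange : ∀ (U : S.Opens) (W' : W.Opens) (hle : g ⁻¹ᵁ U ≤ e ⁻¹ᵁ W') (t : Γ(W, W')),
      (e.appLE W' (g ⁻¹ᵁ U) hle).hom t ∈ Set.range (g.app U).hom) :
    ∃ ē : S ⟶ W, g ≫ ē = e := by
  have hsurj : Function.Surjective g := hq.surjective
  -- the index set: affine opens of `W`
  obtain ⟨U, hUdef⟩ : ∃ U : {Wi : W.Opens // IsAffineOpen Wi} → S.Opens,
      ∀ i, U i = dOpen g e hq hfib i.1 := ⟨_, fun _ => rfl⟩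
  have hpre : ∀ i, g ⁻¹ᵁ (U i) = e ⁻¹ᵁ i.1 := fun i => by
    rw [hUdef]; exact preimage_dOpen g e hq hfib i.1
  have hcov : IsOpenCover U := by
    rw [IsOpenCover, eq_top_iff]
    intro s _
    obtain ⟨x, rfl⟩ := hsurj s
    obtain ⟨Wi, hWi, hxWi, -⟩ := exists_isAffineOpen_mem_and_subset (x := e x) (U := ⊤) trivial
    refine Opens.mem_iSup.mpr ⟨⟨Wi, hWi⟩, ?_⟩
    rw [hUdef]
    exact ⟨x, rfl, hxWi⟩
  -- the ring maps
  have hφ : ∀ i, ∃ φ : Γ(W, i.1) ⟶ Γ(S, U i),
      φ ≫ g.app (U i) = e.appLE i.1 (g ⁻¹ᵁ (U i)) (hpre i).le := by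
    intro i
    obtain ⟨φ, hφ⟩ := exists_ringHom_factor (g.app (U i)).hom (hinj (U i))
      (e.appLE i.1 (g ⁻¹ᵁ (U i)) (hpre i).le).hom (hrange (U i) i.1 (hpre i).le)
    refine ⟨CommRingCat.ofHom φ, ?_⟩
    ext t
    exact congr($hφ t)
  choose φ hφ using hφ
  -- the local morphisms
  obtain ⟨ē, hēdef⟩ : ∃ ē : ∀ i, ((U i : S.Opens) : Scheme.{u}) ⟶ W,
      ∀ i, ē i = (U i).toSpecΓ ≫ Spec.map (φ i) ≫ i.2.fromSpec := ⟨_, fun _ => rfl⟩
  have hē : ∀ i, (g ∣_ (U i)) ≫ ē i = (g ⁻¹ᵁ (U i)).ι ≫ e := by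
    intro i
    rw [hēdef, ← Category.assoc, ← Scheme.Opens.toSpecΓ_naturality, Category.assoc,
      ← Category.assoc (Spec.map _), ← Spec.map_comp, hφ i]
    exact toSpecΓ_appLE_fromSpec e i.2 _ _
  -- restricted versions
  have hres : ∀ i (V : S.Opens) (hV : V ≤ U i),
      (g ∣_ V) ≫ S.homOfLE hV ≫ ē i = (g ⁻¹ᵁ V).ι ≫ e := by
    intro i V hV
    have h1 : (g ∣_ V) ≫ S.homOfLE hV =
        S'.homOfLE (g.preimage_mono hV) ≫ (g ∣_ (U i)) := by
      rw [← cancel_mono (U i).ι, Category.assoc, Category.assoc, Scheme.homOfLE_ι,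
        morphismRestrict_ι, morphismRestrict_ι, ← Category.assoc, Scheme.homOfLE_ι]
    rw [← Category.assoc, h1, Category.assoc, hē i, ← Category.assoc, Scheme.homOfLE_ι]
  -- gluing
  let 𝒰 := S.openCoverOfIsOpenCover U hcov
  have hcompat : ∀ i j, pullback.fst (𝒰.f i) (𝒰.f j) ≫ ē i =
      pullback.snd (𝒰.f i) (𝒰.f j) ≫ ē j := by
    intro i j
    have hpb := isPullback_opens_inf (U i) (U j)
    change pullback.fst (U i).ι (U j).ι ≫ ē i = pullback.snd (U i).ι (U j).ι ≫ ē j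
    rw [← cancel_epi hpb.isoPullback.hom]
    have e1 : hpb.isoPullback.hom ≫ pullback.fst (U i).ι (U j).ι = S.homOfLE inf_le_left :=
      hpb.isoPullback_hom_fst
    have e2 : hpb.isoPullback.hom ≫ pullback.snd (U i).ι (U j).ι = S.homOfLE inf_le_right :=
      hpb.isoPullback_hom_snd
    rw [← Category.assoc, ← Category.assoc, e1, e2]
    haveI := epi_morphismRestrict g hsurj hinj (U i ⊓ U j)
    rw [← cancel_epi (g ∣_ (U i ⊓ U j)), hres i _ inf_le_left, hres j _ inf_le_right]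
  refine ⟨𝒰.glueMorphisms ē hcompat, ?_⟩
  -- check on the preimage cover
  have hcov' : IsOpenCover (fun i => g ⁻¹ᵁ (U i)) := by
    rw [IsOpenCover, eq_top_iff]
    intro x _
    have hgx : g x ∈ iSup U := by
      rw [show iSup U = ⊤ from hcov]
      trivial
    obtain ⟨i, hi⟩ := Opens.mem_iSup.mp hgx
    exact Opens.mem_iSup.mpr ⟨i, hi⟩
  apply (S'.openCoverOfIsOpenCover _ hcov').hom_ext
  intro i
  change (g ⁻¹ᵁ (U i)).ι ≫ g ≫ 𝒰.glueMorphisms ē hcompat = (g ⁻¹ᵁ (U i)).ι ≫ e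
  rw [← Category.assoc, ← morphismRestrict_ι, Category.assoc]
  have : (U i).ι ≫ 𝒰.glueMorphisms ē hcompat = ē i := 𝒰.ι_glueMorphisms ē hcompat i
  rw [this, hē i]

end Desc

end Groth.Agent.H2.Quot
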