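import Mathlib
import Groth.Agent.Lib.Helper2.QuotB
import Groth.Agent.Lib.Helper2.QuotC

/-!
# Universal property of quotients by finite groups (S2925) and effective epimorphisms (S2914)
(helper2)
-/

set_option autoImplicit false
set_option linter.style.haveILetI false
universe u
open CategoryTheory Limits AlgebraicGeometry TopologicalSpace Opposite

namespace Groth.Agent.H2.Quot

theorem appLE_congr_hom {X Y : Scheme.{u}} {f f' : X ⟶ Y} (h : f = f') (U : Y.Opens)
    (V : X.Opens) (e : V ≤ f ⁻¹ᵁ U) (e' : V ≤ f' ⁻¹ᵁ U) : f.appLE U V e = f'.appLE U V e' := by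
  subst h
  rfl

/-- **S2925** -/
theorem s2925 {X Y : Scheme.{u}} {G : Type u} [Group G] [Finite G] (ρ : G →* Aut X)
    (p : X ⟶ Y) (hp : SGA1.IsQuot ρ p) (Z : Scheme.{u}) (h : X ⟶ Z)
    (hh : ∀ g : G, (ρ g).hom ≫ h = h) :
    ∃! h' : Y ⟶ Z, p ≫ h' = h := by
  obtain ⟨hsurj, horb, hq⟩ := s2908 hp
  haveI : Surjective p := ⟨hsurj⟩
  haveI : Epi p := Groth.Agent.S2913.result p hp.injective
  have hex : ∃ h' : Y ⟶ Z, p ≫ h' = h := by
    apply exists_desc p h hq
    · intro x x' hxx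
      obtain ⟨g, rfl⟩ := (horb x x').mp hxx
      have := congrArg (fun f : X ⟶ Z => f x) (hh g)
      exact this.symm
    · exact hp.injective
    · intro U W' hle t
      rw [hp.range_iff U]
      intro g
      have h1 : h.appLE W' (p ⁻¹ᵁ U) hle ≫ (ρ g).hom.appLE (p ⁻¹ᵁ U) (p ⁻¹ᵁ U)
          (SGA1.preimage_le_of_inv ρ p hp.inv g U) = h.appLE W' (p ⁻¹ᵁ U) hle := by
        rw [Scheme.Hom.appLE_comp_appLE]
        exact appLE_congr_hom (hh g) _ _ _ _
      exact congr($(h1).hom t)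
  obtain ⟨h', hh'⟩ := hex
  refine ⟨h', hh', fun h'' hh'' => ?_⟩
  rw [← cancel_epi p, hh', hh'']

/-- **S2914** -/
theorem s2914 {S' S : Scheme.{u}} (g : S' ⟶ S) (hq : Topology.IsQuotientMap g.base)
    (hinj : ∀ U : S.Opens, Function.Injective (g.app U).hom)
    (heq : ∀ (U : S.Opens) (s' : Γ(S', g ⁻¹ᵁ U)),
      (SGA1.overlapFstApp g U).hom s' = (SGA1.overlapSndApp g U).hom s' →
      s' ∈ Set.range (g.app U).hom) :
    EffectiveEpi g := by
  haveI : Surjective g := ⟨hq.surjective⟩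
  haveI : Epi g := Groth.Agent.S2913.result g hinj
  have hex : ∀ {W : Scheme.{u}} (e : S' ⟶ W),
      (∀ {Z : Scheme.{u}} (g₁ g₂ : Z ⟶ S'), g₁ ≫ g = g₂ ≫ g → g₁ ≫ e = g₂ ≫ e) →
      ∃ ē : S ⟶ W, g ≫ ē = e := by
    intro W e he
    have hpb : pullback.fst g g ≫ e = pullback.snd g g ≫ e := he _ _ pullback.condition
    apply exists_desc g e hq
    · intro x x' hxx
      obtain ⟨z, rfl, rfl⟩ := Scheme.Pullback.exists_preimage_pullback x x' hxx
      exact congrArg (fun f : pullback g g ⟶ W => f z) hpb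
    · exact hinj
    · intro U W' hle t
      apply heq U
      unfold SGA1.overlapFstApp SGA1.overlapSndApp
      have h1 : e.appLE W' (g ⁻¹ᵁ U) hle ≫ (pullback.fst g g).app (g ⁻¹ᵁ U) =
          e.appLE W' (g ⁻¹ᵁ U) hle ≫ (pullback.snd g g).appLE (g ⁻¹ᵁ U)
            ((pullback.fst g g) ⁻¹ᵁ (g ⁻¹ᵁ U)) (SGA1.fst_preimage_eq_snd_preimage g U).le := by
        rw [Scheme.Hom.app_eq_appLE, Scheme.Hom.appLE_comp_appLE, Scheme.Hom.appLE_comp_appLE]
        exact appLE_congr_hom hpb _ _ _ _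
      exact congr($(h1).hom t)
  refine ⟨⟨{
    desc := fun e he => (hex e he).choose
    fac := fun e he => (hex e he).choose_spec
    uniq := fun e he m hm => by
      rw [← cancel_epi g, hm, (hex e he).choose_spec] }⟩⟩

end Groth.Agent.H2.Quot
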