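import Groth.Agent.Lib.Helper2.ProjUPC
import Groth.Agent.Lib.Lead.QC.AmpleBase
import Groth.Agent.Lib.Lead.QC.AmpleBasis

/-! # Uniqueness part of the universal property of `Proj (Sym M)`. -/

universe u
open CategoryTheory CategoryTheory.Limits AlgebraicGeometry HomogeneousLocalization Opposite
  TopologicalSpace

namespace Groth.Agent.H2.PUP

open Groth.Agent.LD Twist

variable {A : Type u} [CommRing A] {S : Type u} [CommRing S] [Algebra A S]
  (𝒮 : ℕ → Submodule A S) [GradedAlgebra 𝒮]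
  {M : Type u} [AddCommGroup M] [Module A M] (ι : M →ₗ[A] S)
  (hι : ∀ m, ι m ∈ 𝒮 1) (hsym : IsSymmetricAlgebra ι)
variable {X : Scheme.{u}}

include hι hsym in
/-- `r^*(f/1)` is a basis of `r^*O(1)` over `U ≤ r⁻¹ D₊(f)`. -/
lemma isBasisOver_res_pullSec_sec1 (r : X ⟶ Proj 𝒮) {f : S} (hf : f ∈ 𝒮 1) {U : X.Opens}
    (e : U ≤ r ⁻¹ᵁ Proj.basicOpen 𝒮 f) :
    QC.IsBasisOver ((Scheme.Modules.pullback r).obj (twist 𝒮 1)) U
      (((Scheme.Modules.pullback r).obj (twist 𝒮 1)).presheaf.map (homOfLE (le_top : U ≤ ⊤)).op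
        (ProjUP.pullSec r (twist 𝒮 1) (sec1 𝒮 hf))) := by
  haveI := isQuasicoherent_twist 𝒮 ι hι hsym 1
  rw [res_pullSec r _ _ e]
  exact (isBasisOver_sec1 𝒮 hf le_rfl).pullback r e

include hι hsym in
/-- conversely, where `r^*(f/1)` is a basis, `r` maps into `D₊(f)`. -/
lemma le_preimage_basicOpen_of_isBasisOver (r : X ⟶ Proj 𝒮) {f : S} (hf : f ∈ 𝒮 1) {U : X.Opens}
    (h : QC.IsBasisOver ((Scheme.Modules.pullback r).obj (twist 𝒮 1)) U
      (((Scheme.Modules.pullback r).obj (twist 𝒮 1)).presheaf.map (homOfLE (le_top : U ≤ ⊤)).op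
        (ProjUP.pullSec r (twist 𝒮 1) (sec1 𝒮 hf)))) :
    U ≤ r ⁻¹ᵁ Proj.basicOpen 𝒮 f := by
  have h1 := QC.genLocus_pbHom r (isInvertible_twist 𝒮 ι hι hsym 1)
    (QC.homOfSection _ (sec1 𝒮 hf))
  rw [genLocus_sec1 𝒮 ι hι hsym hf] at h1
  rw [← h1, QC.le_genLocus_iff_isBasisOver, QC.pbHom, QC.sectionOfHom_homOfSection,
    QC.val_homOfSection, ← pullSec_eq_pbSec]
  exact h

include hι hsym in
/-- **Uniqueness**: two morphisms to `Proj (Sym M)` over `A` with an isomorphism of the pullbacks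
of `O(1)` matching the pullbacks of the sections `ι m` are equal. -/
theorem hom_ext_of_iso (r r' : X ⟶ Proj 𝒮) (hrr' : r ≫ projStr 𝒮 = r' ≫ projStr 𝒮)
    (τ : (Scheme.Modules.pullback r).obj (twist 𝒮 1) ≅
      (Scheme.Modules.pullback r').obj (twist 𝒮 1))
    {J : Type*} (g : J → M) (hg : Submodule.span A (Set.range g) = ⊤)
    (hτ : ∀ j : J, τ.hom.app ⊤ (ProjUP.pullSec r (twist 𝒮 1) (sec1 𝒮 (hι (g j)))) =
      ProjUP.pullSec r' (twist 𝒮 1) (sec1 𝒮 (hι (g j)))) : r = r' := by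
  -- transport of restricted sections along `τ`
  have hτU : ∀ (j : J) (U : X.Opens),
      τ.hom.app U (((Scheme.Modules.pullback r).obj (twist 𝒮 1)).presheaf.map
        (homOfLE (le_top : U ≤ ⊤)).op (ProjUP.pullSec r (twist 𝒮 1) (sec1 𝒮 (hι (g j))))) =
      ((Scheme.Modules.pullback r').obj (twist 𝒮 1)).presheaf.map (homOfLE (le_top : U ≤ ⊤)).op
        (ProjUP.pullSec r' (twist 𝒮 1) (sec1 𝒮 (hι (g j)))) := by
    intro j U
    rw [QC.app_res, hτ]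
  have hbij : ∀ W : X.Opens, Function.Bijective (τ.hom.app W) :=
    fun W => QC.app_bijective_of_isIso τ.hom W
  -- the preimages of the charts agree
  have hU' : ∀ j : J, r ⁻¹ᵁ Proj.basicOpen 𝒮 (ι (g j)) ≤ r' ⁻¹ᵁ Proj.basicOpen 𝒮 (ι (g j)) := by
    intro j
    apply le_preimage_basicOpen_of_isBasisOver 𝒮 ι hι hsym r' (hι (g j))
    rw [← hτU j]
    exact (isBasisOver_res_pullSec_sec1 𝒮 ι hι hsym r (hι (g j)) le_rfl).map_of_bijective τ.hom
      (fun W _ => hbij W)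
  refine hom_ext_of_chart 𝒮 ι hι hsym r r' hrr'
    (fun j : J => r ⁻¹ᵁ Proj.basicOpen 𝒮 (ι (g j))) g ?_ (fun j => le_rfl) hU' g hg ?_
  · rw [← Scheme.Hom.preimage_iSup, iSup_basicOpen_eq_top' 𝒮 ι hι hsym g hg]
    rfl
  · intro j k
    have e1 := res_pullSec_sec1_eq_smul 𝒮 r (hι (g j)) (hι (g k)) (le_refl _)
    have e2 := res_pullSec_sec1_eq_smul 𝒮 r' (hι (g j)) (hι (g k)) (hU' j)
    have e3 := congrArg (τ.hom.app (r ⁻¹ᵁ Proj.basicOpen 𝒮 (ι (g j)))) e1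
    rw [Scheme.Modules.Hom.app_smul, hτU k, hτU j, e2] at e3
    exact ((isBasisOver_res_pullSec_sec1 𝒮 ι hι hsym r' (hι (g j)) (hU' j)).coord_injective
      e3).symm

end Groth.Agent.H2.PUP
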