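import Mathlib
import Groth.Agent.Lib.Helper2.ConeA

/-!
# The canonical morphism `G(φ) → Proj 𝒜` for a graded homomorphism `φ : 𝒜 → ℬ` (helper2)
-/

open CategoryTheory CategoryTheory.Limits AlgebraicGeometry HomogeneousLocalization

universe u

namespace Groth.Agent.H2.Cone

variable {R A : Type u} [CommRing R] [CommRing A] [Algebra R A] {𝒜 : ℕ → Submodule R A}
  [GradedAlgebra 𝒜] {B : Type u} [CommRing B] [Algebra R B] {ℬ : ℕ → Submodule R B}
  [GradedAlgebra ℬ] (φ : 𝒜 →+*ᵍ ℬ)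

@[reassoc]
lemma pchart_ι {d : ℕ} {f : A} (hf : f ∈ 𝒜 d) (hd : 0 < d) :
    PCone.chart φ hf hd ≫ (PCone.dom φ).ι = Proj.awayι ℬ (φ f) (φ.2 hf) hd :=
  IsOpenImmersion.lift_fac _ _ _

instance {d : ℕ} {f : A} (hf : f ∈ 𝒜 d) (hd : 0 < d) :
    IsOpenImmersion (PCone.chart φ hf hd) := by
  have : IsOpenImmersion (PCone.chart φ hf hd ≫ (PCone.dom φ).ι) := by
    rw [pchart_ι]; infer_instance
  exact IsOpenImmersion.of_comp _ (PCone.dom φ).ι

lemma mem_range_pchart_iff {d : ℕ} {f : A} (hf : f ∈ 𝒜 d) (hd : 0 < d)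
    (p : (PCone.dom φ : Scheme.{u})) :
    p ∈ Set.range (PCone.chart φ hf hd) ↔ (PCone.dom φ).ι p ∈ Proj.basicOpen ℬ (φ f) := by
  rw [← Proj.opensRange_awayι ℬ (φ f) (φ.2 hf) hd]
  constructor
  · rintro ⟨q, rfl⟩
    refine ⟨q, ?_⟩
    rw [← pchart_ι φ hf hd]; rfl
  · rintro ⟨q, hq⟩
    refine ⟨q, ?_⟩
    apply (PCone.dom φ).ι.isOpenEmbedding.injective
    rw [← hq, ← Scheme.Hom.comp_apply, pchart_ι φ hf hd]

lemma exists_mem_range_pchart (p : (PCone.dom φ : Scheme.{u})) :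
    ∃ (d : ℕ) (f : A) (hd : 0 < d) (hf : f ∈ 𝒜 d), p ∈ Set.range (PCone.chart φ hf hd) := by
  have hp : (PCone.dom φ).ι p ∈ PCone.dom φ := p.2
  obtain ⟨⟨f, d, hd, hf⟩, hf'⟩ := TopologicalSpace.Opens.mem_iSup.mp hp
  exact ⟨d, f, hd, hf, (mem_range_pchart_iff φ hf hd p).mpr hf'⟩

/-- Existence and uniqueness of the canonical morphism `G(φ) → Proj 𝒜`. -/
theorem existsUnique_pretraction :
    ∃! p : (PCone.dom φ : Scheme.{u}) ⟶ Proj 𝒜,
      ∀ (d : ℕ) (f : A) (hd : 0 < d) (hf : f ∈ 𝒜 d),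
        PCone.chart φ hf hd ≫ p =
          Spec.map (CommRingCat.ofHom (HomogeneousLocalization.Away.map φ f)) ≫
            Proj.awayι 𝒜 f hf hd := by
  refine existsUnique_of_charts 𝒜 (fun f => HomogeneousLocalization.Away ℬ (φ f))
    (fun d f hd hf => PCone.chart φ hf hd)
    (fun p => exists_mem_range_pchart φ p)
    (fun f => HomogeneousLocalization.Away.map φ f) ?_ ?_
  · intro d f hd hf d' g hd' hg x hx e he hxe
    have hx' : φ x = φ f * φ g := by rw [hx, map_mul]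
    refine ⟨awayMap ℬ (φ.2 hg) hx', ?_, ?_⟩
    · rw [← cancel_mono (PCone.dom φ).ι, Category.assoc, pchart_ι, pchart_ι]
      exact Proj.SpecMap_awayMap_awayι ℬ (φ.2 hf) hd (φ.2 hg) hx'
    · ext z
      obtain ⟨n, a, ha, rfl⟩ := Away.mk_surjective 𝒜 hf z
      simp only [RingHom.comp_apply]
      rw [awayMap_mk, Away.map_mk, Away.map_mk, awayMap_mk]
      simp only [Away.val_mk, map_mul, map_pow]
      rfl
  · intro d f hd hf d' g hd' hg p hp
    obtain ⟨h1, h2⟩ := hp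
    rw [mem_range_pchart_iff] at h1 h2 ⊢
    rw [map_mul, Proj.basicOpen_mul]
    exact ⟨h1, h2⟩

end Groth.Agent.H2.Cone
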