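import Mathlib
import Groth.Agent.Lib.Helper2.ConeC
import Groth.Agent.Lib.Helper2.ConeD
import Groth.Agent.Lib.Helper1.ProjBasic

/-!
# Properties of the canonical morphism `G(φ) → Proj 𝒜` (helper2)
-/

open CategoryTheory CategoryTheory.Limits AlgebraicGeometry HomogeneousLocalization

universe u

namespace Groth.Agent.H2.Cone

variable {R A : Type u} [CommRing R] [CommRing A] [Algebra R A] {𝒜 : ℕ → Submodule R A}
  [GradedAlgebra 𝒜] {B : Type u} [CommRing B] [Algebra R B] {ℬ : ℕ → Submodule R B}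
  [GradedAlgebra ℬ] (φ : 𝒜 →+*ᵍ ℬ)
  (p : (PCone.dom φ : Scheme.{u}) ⟶ Proj 𝒜)
  (hp : ∀ (d : ℕ) (f : A) (hd : 0 < d) (hf : f ∈ 𝒜 d),
    PCone.chart φ hf hd ≫ p =
      Spec.map (CommRingCat.ofHom (HomogeneousLocalization.Away.map φ f)) ≫
        Proj.awayι 𝒜 f hf hd)

include hp in
/-- On points, `p` sends a homogeneous prime `q` of `ℬ` to `φ⁻¹ q`. -/
lemma p_apply_asHomogeneousIdeal (q : (PCone.dom φ : Scheme.{u})) :
    (p q : ProjectiveSpectrum 𝒜).asHomogeneousIdeal =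
      ((PCone.dom φ).ι q : ProjectiveSpectrum ℬ).asHomogeneousIdeal.comap φ := by
  obtain ⟨d, f, hd, hf, y, rfl⟩ := exists_mem_range_pchart φ q
  have e1 : p (PCone.chart φ hf hd y) =
      Proj.awayι 𝒜 f hf hd (Spec.map (CommRingCat.ofHom (Away.map φ f)) y) := by
    rw [← Scheme.Hom.comp_apply, hp]; rfl
  have e2 : (PCone.dom φ).ι (PCone.chart φ hf hd y) = Proj.awayι ℬ (φ f) (φ.2 hf) hd y := by
    rw [← Scheme.Hom.comp_apply, pchart_ι]
  rw [e1, e2]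
  apply homogeneousIdeal_ext
  intro n a ha
  rw [mem_awayι_iff_of_mem 𝒜 hf hd _ ha]
  refine Iff.trans ?_ (mem_awayι_iff_of_mem ℬ (φ.2 hf) hd y (φ.2 ha)).symm
  change Away.map φ f _ ∈ (y : PrimeSpectrum _).asIdeal ↔ _
  rw [Away.map_mk]
  have e3 : ∀ (h1 : φ (a ^ d) ∈ ℬ (n • d)) (h2 : (φ a) ^ d ∈ ℬ (n • d)),
      Away.mk ℬ (φ.2 hf) n (φ (a ^ d)) h1 = Away.mk ℬ (φ.2 hf) n ((φ a) ^ d) h2 := by
    intro h1 h2
    apply HomogeneousLocalization.val_injective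
    simp only [Away.val_mk, map_pow]
  exact Iff.of_eq (congrArg (· ∈ (y : PrimeSpectrum _).asIdeal) (e3 _ _))

include hp in
lemma p_preimage_basicOpen (f : A) :
    p ⁻¹ᵁ Proj.basicOpen 𝒜 f = (PCone.dom φ).ι ⁻¹ᵁ Proj.basicOpen ℬ (φ f) := by
  ext q
  change p q ∈ Proj.basicOpen 𝒜 f ↔ (PCone.dom φ).ι q ∈ Proj.basicOpen ℬ (φ f)
  rw [Proj.mem_basicOpen, Proj.mem_basicOpen, p_apply_asHomogeneousIdeal φ p hp]
  rfl

lemma ι_preimage_basicOpen_eq_opensRange {d : ℕ} {f : A} (hf : f ∈ 𝒜 d) (hd : 0 < d) :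
    (PCone.dom φ).ι ⁻¹ᵁ Proj.basicOpen ℬ (φ f) = (PCone.chart φ hf hd).opensRange := by
  ext q
  exact (mem_range_pchart_iff φ hf hd q).symm

include hp in
/-- The canonical morphism `G(φ) → Proj 𝒜` is affine. -/
theorem isAffineHom_p : IsAffineHom p := by
  apply isAffineHom_of_forall_exists_isAffineOpen
  intro x
  obtain ⟨d, f, hd, hf, hfx⟩ := Groth.Agent.H1.PB.exists_homogeneous_pos_notMem 𝒜 x
  refine ⟨Proj.basicOpen 𝒜 f, (Proj.mem_basicOpen 𝒜 f x).mpr hfx,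
    Proj.isAffineOpen_basicOpen 𝒜 f hf hd, ?_⟩
  rw [p_preimage_basicOpen φ p hp, ι_preimage_basicOpen_eq_opensRange φ hf hd]
  exact isAffineOpen_opensRange _

end Groth.Agent.H2.Cone
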