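import Mathlib.AlgebraicGeometry.Noetherian
import Mathlib.AlgebraicGeometry.Properties
import Mathlib.RingTheory.Localization.Away.Basic
import Mathlib.RingTheory.Nilpotent.Lemmas

/-! Reduced neighbourhoods on locally Noetherian schemes (EGA I 6.1.13). -/

universe u

namespace Groth.Agent.H2

open AlgebraicGeometry CategoryTheory TopologicalSpace

/-- If `s` kills the nilradical of `A` then `A_s` is reduced. -/
theorem isReduced_away_of_mul_nilradical_eq_zero {A : Type*} [CommRing A] (s : A)
    (hs : ∀ f ∈ nilradical A, s * f = 0) (B : Type*) [CommRing B] [Algebra A B]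
    [IsLocalization.Away s B] : IsReduced B := by
  refine ⟨fun z hz => ?_⟩
  obtain ⟨a, t, rfl⟩ := IsLocalization.exists_mk'_eq (Submonoid.powers s) z
  have h1 : IsNilpotent (algebraMap A B a) := by
    rw [← IsLocalization.mk'_spec B a t]
    exact (Commute.all _ _).isNilpotent_mul_right hz
  obtain ⟨m, hm⟩ := h1
  rw [← map_pow, IsLocalization.map_eq_zero_iff (Submonoid.powers s)] at hm
  obtain ⟨⟨_, k, rfl⟩, hk⟩ := hm
  have hk' : s ^ k * a ^ m = 0 := hk
  have h2 : s * a ∈ nilradical A := by
    rw [mem_nilradical]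
    refine ⟨k + m, ?_⟩
    have : (s * a) ^ (k + m) = s ^ m * a ^ k * (s ^ k * a ^ m) := by ring
    rw [this, hk', mul_zero]
  have h3 : algebraMap A B a = 0 := by
    rw [IsLocalization.map_eq_zero_iff (Submonoid.powers s)]
    refine ⟨⟨s * s, Submonoid.mul_mem _ (Submonoid.mem_powers s) (Submonoid.mem_powers s)⟩, ?_⟩
    show s * s * a = 0
    rw [mul_assoc]; exact hs _ h2
  rw [IsLocalization.mk'_eq_mul_mk'_one, h3, zero_mul]

/-- An affine open with reduced ring of sections is a reduced scheme. -/
theorem isReduced_of_isAffineOpen_of_isReduced {X : Scheme.{u}} (U : X.Opens)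
    (hU : IsAffineOpen U) [IsReduced Γ(X, U)] : IsReduced (U : Scheme.{u}) := by
  have : IsAffine (U : Scheme.{u}) := hU
  have : IsReduced Γ((U : Scheme.{u}), ⊤) :=
    isReduced_of_injective (Scheme.Opens.topIso U).hom.hom
      ((ConcreteCategory.bijective_of_isIso (Scheme.Opens.topIso U).hom).injective)
  exact isReduced_of_isAffine_isReduced _

/-- EGA I 6.1.13: a reduced stalk on a locally Noetherian scheme spreads out. -/
theorem exists_reduced_nhd_of_isReduced_stalk (X : Scheme.{u}) [IsLocallyNoetherian X] (x : X)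
    [IsReduced (X.presheaf.stalk x)] : ∃ U : X.Opens, x ∈ U ∧ IsReduced (U : Scheme.{u}) := by
  classical
  obtain ⟨_, ⟨V, hV, rfl⟩, hxV, -⟩ :=
    X.isBasis_affineOpens.exists_subset_of_mem_open (Set.mem_univ x) isOpen_univ
  have hN := IsLocallyNoetherian.component_noetherian (⟨V, hV⟩ : X.affineOpens)
  let alg : Algebra Γ(X, V) (X.presheaf.stalk x) :=
    TopCat.Presheaf.algebra_section_stalk X.presheaf (⟨x, hxV⟩ : V)
  have hloc : IsLocalization.AtPrime (X.presheaf.stalk x) (hV.primeIdealOf ⟨x, hxV⟩).asIdeal :=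
    hV.isLocalization_stalk ⟨x, hxV⟩
  obtain ⟨T, hT⟩ := (isNoetherianRing_iff_ideal_fg Γ(X, V)).mp hN (nilradical Γ(X, V))
  -- each generator is killed by some element outside the prime
  have hkill : ∀ f ∈ T, ∃ c : Γ(X, V), IsUnit (X.presheaf.germ V x hxV c) ∧ c * f = 0 := by
    intro f hf
    have hfnil : f ∈ nilradical Γ(X, V) := hT ▸ Ideal.subset_span hf
    have h0 : algebraMap Γ(X, V) (X.presheaf.stalk x) f = 0 := by
      have : IsNilpotent (algebraMap Γ(X, V) (X.presheaf.stalk x) f) :=
        (mem_nilradical.mp hfnil).map _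
      exact this.eq_zero
    rw [IsLocalization.map_eq_zero_iff (hV.primeIdealOf ⟨x, hxV⟩).asIdeal.primeCompl] at h0
    obtain ⟨c, hc⟩ := h0
    exact ⟨c, IsLocalization.map_units (X.presheaf.stalk x) c, hc⟩
  choose! c hcu hc using hkill
  set s : Γ(X, V) := ∏ f ∈ T, c f with hs
  have hsu : IsUnit (X.presheaf.germ V x hxV s) := by
    rw [hs, map_prod]
    exact Finset.prod_induction _ IsUnit (fun _ _ => IsUnit.mul) isUnit_one fun f hf => hcu f hf
  have hskill : ∀ f ∈ nilradical Γ(X, V), s * f = 0 := by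
    intro f hf
    rw [← hT] at hf
    refine Submodule.span_induction (p := fun f _ => s * f = 0) ?_ ?_ ?_ ?_ hf
    · intro g hg
      rw [hs, ← Finset.mul_prod_erase T c hg, mul_comm (c g), mul_assoc, hc g hg, mul_zero]
    · exact mul_zero s
    · intro a b _ _ ha hb
      rw [mul_add, ha, hb, add_zero]
    · intro a b _ hb
      rw [smul_eq_mul, mul_left_comm, hb, mul_zero]
  have hloc' : IsLocalization.Away s Γ(X, X.basicOpen s) := hV.isLocalization_basicOpen s
  have : IsReduced Γ(X, X.basicOpen s) :=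
    isReduced_away_of_mul_nilradical_eq_zero s hskill _
  exact ⟨X.basicOpen s, (X.mem_basicOpen s x hxV).mpr hsu,
    isReduced_of_isAffineOpen_of_isReduced _ (hV.basicOpen s)⟩

end Groth.Agent.H2
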