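import Mathlib

/-!
# Base change of supports and of the unramified locus (ring level)
-/

set_option autoImplicit false

open TensorProduct

namespace Groth.Agent.H2.UnrLoc

/-- Testing membership in the support of a finite module with a field-valued point. -/
theorem nontrivial_tensor_field_iff {A : Type*} [CommRing A] {M : Type*} [AddCommGroup M]
    [Module A M] [Module.Finite A M] (k : Type*) [Field k] [Algebra A k] :
    Nontrivial (k ⊗[A] M) ↔
      (⟨RingHom.ker (algebraMap A k), RingHom.ker_isPrime _⟩ : PrimeSpectrum A) ∈
        Module.support A M := by
  set p : Ideal A := RingHom.ker (algebraMap A k) with hp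
  haveI : p.IsPrime := RingHom.ker_isPrime _
  let φ : p.ResidueField →+* k := Ideal.ResidueField.lift p (algebraMap A k) le_rfl (by
    intro a ha
    simp only [Submonoid.mem_comap, IsUnit.mem_submonoid_iff]
    rw [isUnit_iff_ne_zero]
    intro h0
    exact ha (by simpa [hp, RingHom.mem_ker] using h0))
  letI : Algebra p.ResidueField k := φ.toAlgebra
  haveI : IsScalarTower A p.ResidueField k := IsScalarTower.of_algebraMap_eq (fun a => by
    rw [RingHom.algebraMap_toAlgebra]
    exact (Ideal.ResidueField.lift_algebraMap _ _ _ _ a).symm)
  let e := AlgebraTensorModule.cancelBaseChange A p.ResidueField k k M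
  rw [← e.nontrivial_congr, Module.FaithfullyFlat.nontrivial_tensorProduct_iff_right,
    Module.mem_support_iff_nontrivial_residueField_tensorProduct]

/-- The support of a finite module commutes with base change. -/
theorem support_baseChange {A : Type*} [CommRing A] (B : Type*) [CommRing B] [Algebra A B]
    (M : Type*) [AddCommGroup M] [Module A M] [Module.Finite A M] :
    Module.support B (B ⊗[A] M) =
      PrimeSpectrum.comap (algebraMap A B) ⁻¹' Module.support A M := by
  ext q
  rw [Module.mem_support_iff_nontrivial_residueField_tensorProduct]
  let e := AlgebraTensorModule.cancelBaseChange A B q.asIdeal.ResidueField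
    q.asIdeal.ResidueField M
  rw [e.nontrivial_congr, nontrivial_tensor_field_iff, Set.mem_preimage]
  congr! 1
  ext a
  rw [RingHom.mem_ker, IsScalarTower.algebraMap_apply A B q.asIdeal.ResidueField,
    Ideal.algebraMap_residueField_eq_zero]
  rfl

end Groth.Agent.H2.UnrLoc

namespace Groth.Agent.H2.UnrLoc

/-- The unramified locus commutes with base change. -/
theorem unramifiedLocus_of_isPushout (R S A B : Type*) [CommRing R] [CommRing S] [CommRing A]
    [CommRing B] [Algebra R S] [Algebra R A] [Algebra S B] [Algebra A B] [Algebra R B]
    [IsScalarTower R A B] [IsScalarTower R S B] [Algebra.IsPushout R S A B]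
    [Algebra.FiniteType R A] :
    Algebra.unramifiedLocus S B =
      PrimeSpectrum.comap (algebraMap A B) ⁻¹' Algebra.unramifiedLocus R A := by
  rw [Algebra.unramifiedLocus_eq_compl_support, Algebra.unramifiedLocus_eq_compl_support,
    Set.preimage_compl, ← support_baseChange B Ω[A⁄R],
    (KaehlerDifferential.tensorKaehlerEquiv R S A B).support_eq]

end Groth.Agent.H2.UnrLoc
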