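import Mathlib
import Groth.Agent.Lib.Helper2.UnrLoc1

/-!
# The unramified locus of a finitely presented algebra is constructible
-/

set_option autoImplicit false

universe u

open TensorProduct AlgebraicGeometry CategoryTheory Topology

namespace Groth.Agent.H2.UnrLoc

attribute [local instance] Algebra.TensorProduct.rightAlgebra in
theorem unramifiedLocus_of_equiv (R₀ R A₀ A : Type*) [CommRing R₀] [CommRing R] [CommRing A₀]
    [CommRing A] [Algebra R₀ R] [Algebra R₀ A₀] [Algebra R A] [Algebra.FiniteType R₀ A₀]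
    (e : R ⊗[R₀] A₀ ≃ₐ[R] A) :
    Algebra.unramifiedLocus R A =
      PrimeSpectrum.comap ((e : R ⊗[R₀] A₀ →+* A).comp
        (Algebra.TensorProduct.includeRight (R := R₀) (A := R) (B := A₀)).toRingHom) ⁻¹'
        Algebra.unramifiedLocus R₀ A₀ := by
  let ψ : A₀ →+* A := (e : R ⊗[R₀] A₀ →+* A).comp
      (Algebra.TensorProduct.includeRight (R := R₀) (A := R) (B := A₀)).toRingHom
  letI : Algebra A₀ A := ψ.toAlgebra
  letI : Algebra R₀ A := ((algebraMap R A).comp (algebraMap R₀ R)).toAlgebra
  have : IsScalarTower R₀ R A := IsScalarTower.of_algebraMap_eq (fun r => rfl)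
  have : IsScalarTower R₀ A₀ A := IsScalarTower.of_algebraMap_eq (fun r => by
    change algebraMap R A (algebraMap R₀ R r) = e ((1 : R) ⊗ₜ[R₀] (algebraMap R₀ A₀ r))
    have h1 : ((1 : R) ⊗ₜ[R₀] (algebraMap R₀ A₀ r)) =
        algebraMap R (R ⊗[R₀] A₀) (algebraMap R₀ R r) := by
      rw [Algebra.TensorProduct.algebraMap_apply, Algebra.algebraMap_self, RingHom.id_apply,
        Algebra.algebraMap_eq_smul_one r (A := A₀), Algebra.algebraMap_eq_smul_one r (A := R)]
      exact (TensorProduct.smul_tmul r 1 1).symm
    rw [h1, e.commutes])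
  have : Algebra.IsPushout R₀ R A₀ A :=
    Algebra.IsPushout.of_equiv (R := R₀) (R' := R) (S := A₀) (S' := R ⊗[R₀] A₀) e rfl
  exact unramifiedLocus_of_isPushout R₀ R A₀ A

theorem isConstructible_unramifiedLocus (R A : Type u) [CommRing R] [CommRing A] [Algebra R A]
    [Algebra.FinitePresentation R A] : IsConstructible (Algebra.unramifiedLocus R A) := by
  let P := Algebra.Presentation.ofFinitePresentation R A
  have : IsNoetherianRing P.Core := Algebra.FiniteType.isNoetherianRing ℤ P.Core
  have : Algebra.FinitePresentation P.Core (P.ModelOfHasCoeffs P.Core) := inferInstance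
  have : Algebra.FiniteType P.Core (P.ModelOfHasCoeffs P.Core) := inferInstance
  have : IsNoetherianRing (P.ModelOfHasCoeffs P.Core) :=
    Algebra.FiniteType.isNoetherianRing P.Core (P.ModelOfHasCoeffs P.Core)
  rw [unramifiedLocus_of_equiv P.Core R (P.ModelOfHasCoeffs P.Core) A
    (P.tensorModelOfHasCoeffsEquiv P.Core)]
  have h0 : IsConstructible (Algebra.unramifiedLocus P.Core (P.ModelOfHasCoeffs P.Core)) := by
    refine IsRetrocompact.isConstructible Algebra.isOpen_unramifiedLocus ?_
    intro U _ _
    exact TopologicalSpace.NoetherianSpace.isCompact _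
  exact (Spec.map (CommRingCat.ofHom _)).isConstructible_preimage h0

end Groth.Agent.H2.UnrLoc
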