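import Mathlib
import Groth.Agent.Lib.Helper2.UnrLoc2

/-!
# Unramifiedness at a point of a morphism of schemes
-/

set_option autoImplicit false

universe u

open TensorProduct AlgebraicGeometry CategoryTheory CategoryTheory.Limits Topology

namespace Groth.Agent.H2.UnrLoc

variable {X Y : Scheme.{u}}

/-- `f` is unramified at `x`: the stalk map is formally unramified. -/
def UnrAt (f : X ⟶ Y) (x : X) : Prop := (f.stalkMap x).hom.FormallyUnramified

lemma formallyUnramified_iff_forall_unrAt (f : X ⟶ Y) :
    FormallyUnramified f ↔ ∀ x, UnrAt f x :=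
  ⟨fun _ x => FormallyUnramified.stalkMap f x,
    fun h => HasRingHomProperty.of_stalkMap (P := @FormallyUnramified)
      RingHom.FormallyUnramified.ofLocalizationPrime h⟩

lemma unrAt_iff_mem_unramifiedLocus {f : X ⟶ Y} {x : X} (U : Y.Opens)
    (hU : IsAffineOpen U) (V : X.Opens) (hV : IsAffineOpen V) (hVU : V ≤ f ⁻¹ᵁ U)
    (hx : x ∈ V) :
    letI := (f.appLE U V hVU).hom.toAlgebra
    UnrAt f x ↔ hV.primeIdealOf ⟨x, hx⟩ ∈ Algebra.unramifiedLocus Γ(Y, U) Γ(X, V) := by
  let := (f.appLE U V hVU).hom.toAlgebra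
  let p := (hU.primeIdealOf ⟨f x, hVU hx⟩).asIdeal
  let q := (hV.primeIdealOf ⟨x, hx⟩).asIdeal
  have : q.LiesOver p :=
    ⟨congr($(IsAffineOpen.comap_primeIdealOf_appLE U hU V hV hVU hx).1).symm⟩
  let := Localization.AtPrime.algebraOfLiesOver p q
  trans Algebra.FormallyUnramified (Localization.AtPrime p) (Localization.AtPrime q)
  · rw [← RingHom.formallyUnramified_algebraMap]
    exact RingHom.FormallyUnramified.respectsIso.arrow_mk_iso_iff
      (IsAffineOpen.arrowStalkMapIso f U hU V hV hVU hx)
  · constructor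
    · intro h
      exact Algebra.FormallyUnramified.comp Γ(Y, U) (Localization.AtPrime p) _
    · intro h
      have h' : Algebra.FormallyUnramified Γ(Y, U) (Localization.AtPrime q) := h
      exact Algebra.FormallyUnramified.of_restrictScalars Γ(Y, U) _ _

end Groth.Agent.H2.UnrLoc
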