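import Mathlib
import Groth.Agent.Lib.Helper2.UnrLoc3

/-!
# Unramifiedness at a point is compatible with base change
-/

set_option autoImplicit false

universe u

open TensorProduct AlgebraicGeometry CategoryTheory CategoryTheory.Limits Topology

namespace Groth.Agent.H2.UnrLoc

variable {X' X Y' Y : Scheme.{u}} {π : X' ⟶ X} {f' : X' ⟶ Y'} {f : X ⟶ Y} {ρ : Y' ⟶ Y}

theorem unrAt_iff_of_isPullback (H : IsPullback π f' f ρ) [LocallyOfFiniteType f] (x' : X') :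
    UnrAt f' x' ↔ UnrAt f (π x') := by
  have hy : f (π x') = ρ (f' x') := by
    rw [← Scheme.Hom.comp_apply, ← Scheme.Hom.comp_apply, H.w]
  obtain ⟨_, ⟨US : Y.Opens, hUS, rfl⟩, hxUS, -⟩ :=
    Y.isBasis_affineOpens.exists_subset_of_mem_open (Set.mem_univ (f (π x'))) isOpen_univ
  obtain ⟨_, ⟨UX : X.Opens, hUX, rfl⟩, hxUX, hUSX⟩ :=
    X.isBasis_affineOpens.exists_subset_of_mem_open hxUS (f ⁻¹ᵁ US).2
  have hxUS' : f' x' ∈ ρ ⁻¹ᵁ US := by
    change ρ (f' x') ∈ US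
    rw [← hy]
    exact hxUS
  obtain ⟨_, ⟨UT : Y'.Opens, hUT, rfl⟩, hxUT, hUST⟩ :=
    Y'.isBasis_affineOpens.exists_subset_of_mem_open hxUS' (ρ ⁻¹ᵁ US).2
  have hUSX' : UX ≤ f ⁻¹ᵁ US := hUSX
  have hUST' : UT ≤ ρ ⁻¹ᵁ US := hUST
  set UY : X'.Opens := π ⁻¹ᵁ UX ⊓ f' ⁻¹ᵁ UT with hUY
  have hx'UY : x' ∈ UY := ⟨hxUX, hxUT⟩
  have : IsAffine US.toScheme := hUS
  have : IsAffine UT.toScheme := hUT
  have : IsAffine UX.toScheme := hUX
  have hUY' : IsAffineOpen UY :=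
    .of_isIso (Scheme.Hom.isPullback_resLE H hUST' hUSX' hUY).isoPullback.hom
  have hiso := isIso_pushoutSection_of_isAffineOpen H hUST' hUSX' hUY hUS hUT hUX
  have hpush := (isIso_pushoutSection_iff H hUST' hUSX' hUY).mp hiso
  have hπ : UY ≤ π ⁻¹ᵁ UX := inf_le_left
  have hf' : UY ≤ f' ⁻¹ᵁ UT := inf_le_right
  have hfin := f.finiteType_appLE hUS hUX hUSX'
  algebraize [(f.appLE US UX hUSX').hom, (ρ.appLE US UT hUST').hom, (π.appLE UX UY hπ).hom,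
    (f'.appLE UT UY hf').hom, ((π.appLE UX UY hπ).hom.comp (f.appLE US UX hUSX').hom)]
  have : IsScalarTower Γ(Y, US) Γ(X, UX) Γ(X', UY) := IsScalarTower.of_algebraMap_eq (fun r => rfl)
  have : IsScalarTower Γ(Y, US) Γ(Y', UT) Γ(X', UY) := IsScalarTower.of_algebraMap_eq (fun r => by
    have := congr($(hpush.w).hom r)
    exact this)
  have hP : Algebra.IsPushout Γ(Y, US) Γ(X, UX) Γ(Y', UT) Γ(X', UY) :=
    CommRingCat.isPushout_iff_isPushout.mp hpush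
  have hP' : Algebra.IsPushout Γ(Y, US) Γ(Y', UT) Γ(X, UX) Γ(X', UY) := hP.symm
  have hloc := unramifiedLocus_of_isPushout Γ(Y, US) Γ(Y', UT) Γ(X, UX) Γ(X', UY)
  rw [unrAt_iff_mem_unramifiedLocus UT hUT UY hUY' hf' hx'UY,
    unrAt_iff_mem_unramifiedLocus US hUS UX hUX hUSX' hxUX, hloc, Set.mem_preimage]
  have hc := IsAffineOpen.comap_primeIdealOf_appLE UX hUX UY hUY' hπ hx'UY
  rw [← hc]
  rfl

end Groth.Agent.H2.UnrLoc
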