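import Mathlib
import Groth.Agent.Lib.Helper2.UnrLoc4

/-!
# The unramified locus of a morphism locally of finite presentation is locally constructible
-/

set_option autoImplicit false

universe u

open TensorProduct AlgebraicGeometry CategoryTheory CategoryTheory.Limits Topology

namespace Groth.Agent.H2.UnrLoc

variable {X Y : Scheme.{u}}

theorem isLocallyConstructible_unrAt (f : X ⟶ Y) [LocallyOfFinitePresentation f] :
    IsLocallyConstructible {x : X | UnrAt f x} := by
  intro x
  obtain ⟨_, ⟨U : Y.Opens, hU, rfl⟩, hxU, -⟩ := Y.isBasis_affineOpens.exists_subset_of_mem_open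
    (Set.mem_univ (f x)) isOpen_univ
  obtain ⟨_, ⟨V : X.Opens, hV, rfl⟩, hxV, hVU⟩ := X.isBasis_affineOpens.exists_subset_of_mem_open
    hxU (f ⁻¹ᵁ U).2
  refine ⟨V, V.2.mem_nhds hxV, V.2, ?_⟩
  have hVU' : V ≤ f ⁻¹ᵁ U := hVU
  have hfp := f.finitePresentation_appLE hU hV hVU'
  algebraize [(f.appLE U V hVU').hom]
  have h0 := isConstructible_unramifiedLocus Γ(Y, U) Γ(X, V)
  have h1 := hV.isoSpec.hom.isConstructible_preimage h0
  have heq : ((Subtype.val : ↥(V : Set X) → X) ⁻¹' {x : X | UnrAt f x}) =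
      (hV.isoSpec.hom ⁻¹' Algebra.unramifiedLocus Γ(Y, U) Γ(X, V)) := by
    ext v
    exact unrAt_iff_mem_unramifiedLocus U hU V hV hVU' v.2
  rw [heq]
  exact h1

end Groth.Agent.H2.UnrLoc
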