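import Mathlib
import Groth.Agent.Lib.Helper2.UnrLoc5
import Groth.Agent.Lib.Helper5.Cons.C3

/-!
# The locus where the fibre maps are unramified / monomorphisms
-/

set_option autoImplicit false

universe u

open TensorProduct AlgebraicGeometry CategoryTheory CategoryTheory.Limits Topology

namespace Groth.Agent.H2.UnrLoc

open H5.Cons

variable {X Y S : Scheme.{u}}

/-- A morphism locally of finite type is a monomorphism iff it is universally injective and
formally unramified. -/
theorem mono_iff (f : X ⟶ Y) [LocallyOfFiniteType f] :
    Mono f ↔ UniversallyInjective f ∧ FormallyUnramified f := by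
  constructor
  · intro h
    haveI : IsIso (pullback.diagonal f) := (pullback.isIso_diagonal_iff f).mpr h
    exact ⟨inferInstance, inferInstance⟩
  · rintro ⟨h1, h2⟩
    rw [← pullback.isIso_diagonal_iff, isIso_iff_isOpenImmersion_and_surjective]
    exact ⟨inferInstance, (UniversallyInjective.iff_diagonal f).mp h1⟩

variable (f : X ⟶ Y) (g : Y ⟶ S)

lemma fibMap_formallyUnramified_iff [LocallyOfFiniteType f] (s : S) :
    FormallyUnramified (fibMap f g s) ↔ (f ≫ g) ⁻¹' {s} ⊆ {x | UnrAt f x} := by
  have H1 := isPullback_fibMap f g s
  rw [formallyUnramified_iff_forall_unrAt]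
  have hrange : Set.range (pullback.fst (f ≫ g) (S.fromSpecResidueField s)) = (f ≫ g) ⁻¹' {s} :=
    (f ≫ g).range_fiberι s
  constructor
  · intro h x hx
    rw [← hrange] at hx
    obtain ⟨x', rfl⟩ := hx
    exact (unrAt_iff_of_isPullback H1 x').1 (h x')
  · intro h x'
    refine (unrAt_iff_of_isPullback H1 x').2 (h ?_)
    rw [← hrange]
    exact ⟨x', rfl⟩

theorem isLocallyConstructible_fibMap_formallyUnramified
    [LocallyOfFinitePresentation g] [QuasiCompact g] [QuasiSeparated g]
    [LocallyOfFinitePresentation (f ≫ g)] [QuasiCompact (f ≫ g)] [QuasiSeparated (f ≫ g)] :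
    IsLocallyConstructible {s : S | FormallyUnramified (fibMap f g s)} := by
  haveI : LocallyOfFinitePresentation f :=
    Groth.Agent.H5.EtSrc.locallyOfFinitePresentation_of_comp f g inferInstance inferInstance
  have hT : IsLocallyConstructible {x : X | UnrAt f x} := isLocallyConstructible_unrAt f
  convert isLocallyConstructible_fibre_subset (f ≫ g) hT using 1
  ext s
  exact fibMap_formallyUnramified_iff f g s

theorem main3426 [LocallyOfFinitePresentation g] [QuasiCompact g] [QuasiSeparated g]
    [LocallyOfFinitePresentation (f ≫ g)] [QuasiCompact (f ≫ g)] [QuasiSeparated (f ≫ g)] :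
    IsLocallyConstructible {s : S | Mono (fibMap f g s)} := by
  haveI : LocallyOfFinitePresentation f :=
    Groth.Agent.H5.EtSrc.locallyOfFinitePresentation_of_comp f g inferInstance inferInstance
  have h1 := main3444 f g
  have h2 := isLocallyConstructible_fibMap_formallyUnramified f g
  convert h1.inter h2 using 1
  ext s
  haveI : LocallyOfFiniteType (fibMap f g s) :=
    MorphismProperty.of_isPullback (P := @LocallyOfFiniteType) (isPullback_fibMap f g s)
      inferInstance
  exact mono_iff (fibMap f g s)

end Groth.Agent.H2.UnrLoc
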