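import Mathlib
import Groth.Agent.Lib.Lead.QC.IdealOfHom
import Groth.Agent.Lib.Lead.QC.IdealMod
import Groth.Agent.Lib.Lead.QC.QuotSupp
import Groth.Agent.Lib.Lead.QC.HomAffine
import Groth.Agent.Lib.Helper5.Lim.ModuleExt
import Groth.Agent.Lib.Helper3.ZClosLib

/-! The ideal module of the image of a monomorphism `F ⟶ O_X` (helper2). -/

set_option autoImplicit false
universe u
open CategoryTheory CategoryTheory.Limits AlgebraicGeometry TopologicalSpace

namespace Groth.Agent.H2.HypId

open Groth.Agent.LD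

variable {X : Scheme.{u}}

/-- `u` followed by the quotient by its image ideal is zero. -/
theorem comp_toSubscheme_idealOfHom (F : X.Modules) [F.IsQuasicoherent] (u : F ⟶ QC.unitMod X) :
    u ≫ ClSub.toSubscheme (QC.idealOfHom F u) = 0 := by
  refine Groth.Agent.H5.Lim.hom_ext_of_affine_cover (u ≫ ClSub.toSubscheme (QC.idealOfHom F u)) 0
    (fun U : X.affineOpens => U.1) (fun U => U.2) (le_of_eq (iSup_affineOpens_eq_top X).symm)
    ?_
  intro U s
  change (ClSub.toSubscheme (QC.idealOfHom F u)).app U.1 (u.app U.1 s) = 0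
  exact (QC.toSubscheme_app_eq_zero_iff (QC.idealOfHom F u) U _).mpr
    ((QC.mem_idealOfHom_iff F u U _).mpr ⟨s, rfl⟩)

/-- the ideal module of the image ideal of a monomorphism `u : F ⟶ O_X` is `F`. -/
theorem nonempty_idealMod_idealOfHom_iso (F : X.Modules) [F.IsQuasicoherent]
    (u : F ⟶ QC.unitMod X) [Mono u] :
    Nonempty (ClSub.idealMod (QC.idealOfHom F u) ≅ F) := by
  have h0 := comp_toSubscheme_idealOfHom F u
  let θ : F ⟶ ClSub.idealMod (QC.idealOfHom F u) := kernel.lift _ u h0
  have hθ : θ ≫ ClSub.idealModι (QC.idealOfHom F u) = u := kernel.lift_ι _ _ _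
  have hθapp : ∀ (U : X.Opens) (a : Γ(F, U)),
      (ClSub.idealModι (QC.idealOfHom F u)).app U (θ.app U a) = u.app U a := by
    intro U a
    exact congrArg (fun φ : F ⟶ QC.unitMod X => φ.app U a) hθ
  haveI : IsIso θ := by
    apply QC.isIso_of_bijective_affine
    intro U
    constructor
    · intro a b hab
      apply Groth.Agent.H3.ZClosLib.app_injective_of_mono u U.1
      rw [← hθapp, ← hθapp, hab]
    · intro c
      have hc : (ClSub.idealModι (QC.idealOfHom F u)).app U.1 c ∈ (QC.idealOfHom F u).ideal U :=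
        (QC.exists_idealModι_app_eq_iff (QC.idealOfHom F u) U _).mp ⟨c, rfl⟩
      obtain ⟨t, ht⟩ := (QC.mem_idealOfHom_iff F u U _).mp hc
      refine ⟨t, ?_⟩
      apply QC.idealModι_app_injective (QC.idealOfHom F u) U.1
      rw [hθapp]
      exact ht
  exact ⟨(asIso θ).symm⟩

end Groth.Agent.H2.HypId
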