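import Mathlib
import Groth.Agent.Lib.Helper2.HypIdA
import Groth.Agent.Lib.Lead.TW.HomClass
import Groth.Agent.Lib.Lead.TW.Zero
import Groth.Agent.Lib.Lead.TW.UnitBasis
import Groth.Agent.Lib.Lead.TW.BasicOpen
import Groth.Agent.Lib.Lead.PN.Main
import Groth.Agent.Lib.Lead.QC.SubExt
import Groth.Prelude.Def_LefPen

/-! The ideal sheaf of a hypersurface `V_+(G) ⊆ P^r_k` of degree `d` is `O(-d)` (helper2). -/

set_option autoImplicit false
universe u
open CategoryTheory CategoryTheory.Limits AlgebraicGeometry TopologicalSpace Opposite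

namespace Groth.Agent.H2.HypId

open Groth.Agent.LD Twist TW

variable (r : ℕ) (k : Type u) [Field k] {d : ℕ} (G : LefPen.Form r k d)

instance qc_twist (n : ℤ) : (twist (CohB1.polyGrading r k) n).IsQuasicoherent :=
  QC.qc_of_isInvertible _ (PN.isInvertible_twist r k n)

/-- multiplication by `G` : `O(-d) ⟶ O(0)`. -/
noncomputable def mulG :
    twist (CohB1.polyGrading r k) (-(d : ℤ)) ⟶ twist (CohB1.polyGrading r k) 0 :=
  (TW.exists_hom_of_sec (𝒜 := CohB1.polyGrading r k) (k := (d : ℤ)) (a := -(d : ℤ)) (b := 0)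
    (by ring) (globalOf (CohB1.polyGrading r k) G)).choose

theorem mulG_val (W : (Proj (CohB1.polyGrading r k)).Opens)
    (t : Γ(twist (CohB1.polyGrading r k) (-(d : ℤ)), W)) (y : W) :
    secVal ((mulG r k G).app W t) y =
      ((globalOf (CohB1.polyGrading r k) G).1 ⟨y.1, trivial⟩).1 * secVal t y :=
  (TW.exists_hom_of_sec (𝒜 := CohB1.polyGrading r k) (k := (d : ℤ)) (a := -(d : ℤ)) (b := 0)
    (by ring) (globalOf (CohB1.polyGrading r k) G)).choose_spec W t y

/-- multiplication by `G` : `O(-d) ⟶ O`. -/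
noncomputable def psi :
    twist (CohB1.polyGrading r k) (-(d : ℤ)) ⟶ QC.unitMod (Proj (CohB1.polyGrading r k)) :=
  mulG r k G ≫ (TW.twistZeroIso (CohB1.polyGrading r k)).hom

theorem psi_comp_unitToTwist :
    psi r k G ≫ unitToTwist (CohB1.polyGrading r k) = mulG r k G := by
  have h : (TW.twistZeroIso (CohB1.polyGrading r k)).hom ≫ unitToTwist (CohB1.polyGrading r k) =
      𝟙 _ := (asIso (unitToTwist (CohB1.polyGrading r k))).inv_hom_id
  unfold psi
  rw [Category.assoc, h, Category.comp_id]

/-- the value of `ψ(t)` at a point. -/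
theorem psi_val (W : (Proj (CohB1.polyGrading r k)).Opens)
    (t : Γ(twist (CohB1.polyGrading r k) (-(d : ℤ)), W)) (y : W) :
    ((show O (𝒜 := CohB1.polyGrading r k) (op W) from (psi r k G).app W t).1 y).val =
      ((globalOf (CohB1.polyGrading r k) G).1 ⟨y.1, trivial⟩).1 * secVal t y := by
  have h1 : (unitToTwist (CohB1.polyGrading r k)).app W ((psi r k G).app W t) =
      (mulG r k G).app W t :=
    congrArg (fun φ : twist (CohB1.polyGrading r k) (-(d : ℤ)) ⟶ twist (CohB1.polyGrading r k) 0 =>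
      φ.app W t) (psi_comp_unitToTwist r k G)
  have h2 := congrArg (fun s : Γ(twist (CohB1.polyGrading r k) 0, W) => secVal s y) h1
  exact h2.trans (mulG_val r k G W t y)

/-- equality of functions on an open of `Proj` can be checked on values. -/
theorem O_ext {W : (Proj (CohB1.polyGrading r k)).Opens}
    (a b : Γ(Proj (CohB1.polyGrading r k), W))
    (h : ∀ y : W, ((show O (𝒜 := CohB1.polyGrading r k) (op W) from a).1 y).val =
      ((show O (𝒜 := CohB1.polyGrading r k) (op W) from b).1 y).val) : a = b := by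
  apply Subtype.ext
  funext y
  exact HomogeneousLocalization.val_injective _ (h y)

theorem globalOf_ne_zero (hG : G ≠ 0) (y : ProjectiveSpectrum (CohB1.polyGrading r k)) :
    (((globalOf (CohB1.polyGrading r k) G).1 ⟨y, trivial⟩).1 :
      Loc (CohB1.polyGrading r k) y) ≠ 0 := by
  rw [globalOf_val]
  intro h
  apply hG
  have h1 : algebraMap (MvPolynomial (Fin (r + 1)) k) (Loc (CohB1.polyGrading r k) y) G.1 = 0 := by
    rw [← h, ← Localization.mk_one_eq_algebraMap]
    rfl
  have hinj := IsLocalization.injective (Loc (CohB1.polyGrading r k) y)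
    (Ideal.primeCompl_le_nonZeroDivisors y.asHomogeneousIdeal.toIdeal)
  have h2 : G.1 = 0 := hinj (h1.trans (map_zero _).symm)
  exact Subtype.ext h2

theorem psi_app_injective (hG : G ≠ 0) (W : (Proj (CohB1.polyGrading r k)).Opens)
    (a b : Γ(twist (CohB1.polyGrading r k) (-(d : ℤ)), W))
    (hab : (psi r k G).app W a = (psi r k G).app W b) : a = b := by
  have key : ∀ y : W, secVal a y = secVal b y := by
    intro y
    haveI : IsDomain (Loc (CohB1.polyGrading r k) y.1) :=
      IsLocalization.isDomain_of_local_atPrime y.1.isPrime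
    have h1 := psi_val r k G W a y
    have h2 := psi_val r k G W b y
    have h3 := congrArg (fun c : Γ(QC.unitMod (Proj (CohB1.polyGrading r k)), W) =>
      ((show O (𝒜 := CohB1.polyGrading r k) (op W) from c).1 y).val) hab
    exact mul_left_cancel₀ (globalOf_ne_zero r k G hG y.1) (h1.symm.trans (h3.trans h2))
  exact sectN_ext (s := (show sectN (𝒜 := CohB1.polyGrading r k) (-(d : ℤ)) (op W) from a))
    (t := (show sectN (𝒜 := CohB1.polyGrading r k) (-(d : ℤ)) (op W) from b)) key

theorem mono_psi (hG : G ≠ 0) : Mono (psi r k G) :=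
  QC.mono_of_injective_app _ (fun W a b hab => psi_app_injective r k G hG W a b hab)

/-- `T_i^d` as an element of degree `d`. -/
noncomputable def Xpow (i : Fin (r + 1)) (d : ℕ) : CohB1.polyGrading r k d :=
  ⟨MvPolynomial.X i ^ d, (MvPolynomial.mem_homogeneousSubmodule d _).mpr
    (MvPolynomial.isHomogeneous_X_pow i d)⟩

theorem chart_le (i : Fin (r + 1)) (d : ℕ) :
    (LefPen.chart r k i : Opens (ProjectiveSpectrum.top (CohB1.polyGrading r k))) ≤
      ProjectiveSpectrum.basicOpen (CohB1.polyGrading r k) ((Xpow r k i d : _) :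
        MvPolynomial (Fin (r + 1)) k) := by
  intro y hy h
  exact hy (y.isPrime.mem_of_pow_mem d h)

/-- the section `T_i^{-d}` of `O(-d)` over the chart `D_+(T_i)`. -/
noncomputable def eSec (i : Fin (r + 1)) (d : ℕ) :
    sectN (𝒜 := CohB1.polyGrading r k) (-(d : ℤ)) (op (LefPen.chart r k i)) :=
  resSec (chart_le r k i d) (invSec (Xpow r k i d))

theorem isUnitSec_eSec (i : Fin (r + 1)) (d : ℕ) : IsUnitSec (eSec r k i d) := by
  obtain ⟨v, hv⟩ := isUnitSec_globalOf (Xpow r k i d) (chart_le r k i d)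
  refine IsUnitSec.inv (u := resSec (le_top : _ ≤ ⊤) (globalOf (CohB1.polyGrading r k) (Xpow r k i d)))
    (v := eSec r k i d) ?_
  intro x
  exact mk_mul_mk_inv (x := x.1) (Xpow r k i d).1 (chart_le r k i d x.2)
    (fun h => x.1.isPrime.ne_top ((Ideal.eq_top_iff_one _).mpr h))

theorem isBasisOver_eSec (i : Fin (r + 1)) (d : ℕ) :
    QC.IsBasisOver (twist (CohB1.polyGrading r k) (-(d : ℤ))) (LefPen.chart r k i)
      (show Γ(twist (CohB1.polyGrading r k) (-(d : ℤ)), LefPen.chart r k i) from eSec r k i d) :=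
  (isUnitSec_eSec r k i d).isBasisOver

/-- `ψ(T_i^{-d}) = G / T_i^d`. -/
theorem psi_eSec (i : Fin (r + 1)) :
    (psi r k G).app (LefPen.chart r k i)
      (show Γ(twist (CohB1.polyGrading r k) (-(d : ℤ)), LefPen.chart r k i) from eSec r k i d) =
      LefPen.dehom G i := by
  apply O_ext
  intro y
  rw [psi_val, globalOf_val]
  have hl : ∀ (h1 h2), (Localization.mk G.1 ⟨1, h1⟩ : Loc (CohB1.polyGrading r k) y.1) *
      Localization.mk 1 ⟨(Xpow r k i d).1, h2⟩ = Localization.mk G.1 ⟨(Xpow r k i d).1, h2⟩ := by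
    intro h1 h2
    rw [Localization.mk_mul, mul_one]
    congr 1
    exact Subtype.ext (one_mul _)
  refine (hl _ (chart_le r k i d y.2)).trans ?_
  symm
  unfold LefPen.dehom
  refine (ProjectiveSpectrum.Proj.awayToSection_apply (CohB1.polyGrading r k) (MvPolynomial.X i)
    _ y).trans ?_
  rw [HomogeneousLocalization.Away.val_mk, Localization.mk_eq_mk', IsLocalization.map_mk',
    ← Localization.mk_eq_mk']
  rfl

end Groth.Agent.H2.HypId
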