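import Mathlib
import Groth.Agent.Lib.Helper2.HypIdB

/-! The ideal sheaf of a hypersurface `V_+(G) ⊆ P^r_k` of degree `d` is `O(-d)`, continued
(helper2). -/

set_option autoImplicit false
universe u
open CategoryTheory CategoryTheory.Limits AlgebraicGeometry TopologicalSpace Opposite

namespace Groth.Agent.H2.HypId

open Groth.Agent.LD Twist TW

variable (r : ℕ) (k : Type u) [Field k] {d : ℕ} (G : LefPen.Form r k d)

theorem iSup_chart : ⨆ i : Fin (r + 1), LefPen.chart r k i = ⊤ := by
  rw [eq_top_iff]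
  intro x _
  obtain ⟨f, ⟨i, rfl⟩, hx⟩ := exists_mem_basicOpen_of_span (PN.irrelevant_eq_span r k) x
  exact Opens.mem_iSup.2 ⟨i, hx⟩

theorem isAffineOpen_chart (i : Fin (r + 1)) : IsAffineOpen (LefPen.chart r k i) :=
  Proj.isAffineOpen_basicOpen _ _ (LefPen.X_mem r k i) one_pos

/-- restricting from an open to itself, written as an intersection, is invertible. -/
theorem res_res_self {P : Scheme.{u}} {V W : P.Opens} (h : V ≤ W) (h' : W ≤ V) (x : Γ(P, W)) :
    (P.presheaf.map (homOfLE h').op).hom ((P.presheaf.map (homOfLE h).op).hom x) = x := by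
  have h1 : P.presheaf.map (homOfLE h).op ≫ P.presheaf.map (homOfLE h').op = 𝟙 _ := by
    rw [← Functor.map_comp, ← op_comp]
    have h2 : homOfLE h' ≫ homOfLE h = 𝟙 _ := Subsingleton.elim _ _
    rw [h2, op_id]
    exact P.presheaf.map_id _
  have h3 := congrArg (fun φ => φ.hom x) h1
  simpa using h3

theorem hypFamily_chart_le (i : Fin (r + 1)) :
    LefPen.hypFamily G ⟨LefPen.chart r k i, isAffineOpen_chart r k i⟩ ≤
      (QC.idealOfHom (twist (CohB1.polyGrading r k) (-(d : ℤ))) (psi r k G)).ideal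
        ⟨LefPen.chart r k i, isAffineOpen_chart r k i⟩ := by
  intro s hs
  unfold LefPen.hypFamily at hs
  have h1 := (Ideal.mem_iInf.mp hs) i
  rw [Ideal.mem_comap, Ideal.mem_span_singleton'] at h1
  obtain ⟨c, hc⟩ := h1
  have hle : LefPen.chart r k i ≤ LefPen.chart r k i ⊓ LefPen.chart r k i := le_inf le_rfl le_rfl
  have hc' := congrArg
    (fun x => ((CohB1.ProjSpace r k).presheaf.map (homOfLE hle).op).hom x) hc
  simp only [map_mul] at hc'
  rw [res_res_self (P := CohB1.ProjSpace r k) inf_le_left hle s] at hc'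
  rw [res_res_self (P := CohB1.ProjSpace r k) inf_le_right hle (LefPen.dehom G i)] at hc'
  refine (QC.mem_idealOfHom_iff (X := Proj (CohB1.polyGrading r k))
    (twist (CohB1.polyGrading r k) (-(d : ℤ))) (psi r k G)
    ⟨LefPen.chart r k i, isAffineOpen_chart r k i⟩ s).mpr
    ⟨(show Γ(Proj (CohB1.polyGrading r k), LefPen.chart r k i) from
        ((CohB1.ProjSpace r k).presheaf.map (homOfLE hle).op).hom c) •
      (show Γ(twist (CohB1.polyGrading r k) (-(d : ℤ)), LefPen.chart r k i) from eSec r k i d), ?_⟩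
  rw [Scheme.Modules.Hom.app_smul, psi_eSec]
  exact hc'

theorem idealOfHom_le_hypFamily (U : (Proj (CohB1.polyGrading r k)).affineOpens) :
    (QC.idealOfHom (twist (CohB1.polyGrading r k) (-(d : ℤ))) (psi r k G)).ideal U ≤
      LefPen.hypFamily G U := by
  intro s hs
  obtain ⟨t, rfl⟩ := (QC.mem_idealOfHom_iff (X := Proj (CohB1.polyGrading r k))
    (twist (CohB1.polyGrading r k) (-(d : ℤ))) (psi r k G) U s).mp hs
  unfold LefPen.hypFamily
  refine Ideal.mem_iInf.mpr (fun i => ?_)
  refine Ideal.mem_comap.mpr (Ideal.mem_span_singleton'.mpr ?_)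
  obtain ⟨c, hc⟩ := (isBasisOver_eSec r k i d (U.1 ⊓ LefPen.chart r k i) inf_le_right).2
    ((twist (CohB1.polyGrading r k) (-(d : ℤ))).presheaf.map
      (homOfLE (inf_le_left : U.1 ⊓ LefPen.chart r k i ≤ U.1)).op t)
  refine ⟨c, ?_⟩
  have h1 := QC.app_res (psi r k G) (inf_le_left : U.1 ⊓ LefPen.chart r k i ≤ U.1) t
  have h2 := QC.app_res (psi r k G)
    (inf_le_right : U.1 ⊓ LefPen.chart r k i ≤ LefPen.chart r k i)
    (show Γ(twist (CohB1.polyGrading r k) (-(d : ℤ)), LefPen.chart r k i) from eSec r k i d)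
  rw [psi_eSec] at h2
  have h3 := Scheme.Modules.Hom.app_smul (psi r k G) c
    ((twist (CohB1.polyGrading r k) (-(d : ℤ))).presheaf.map
      (homOfLE (inf_le_right : U.1 ⊓ LefPen.chart r k i ≤ LefPen.chart r k i)).op
      (show Γ(twist (CohB1.polyGrading r k) (-(d : ℤ)), LefPen.chart r k i) from eSec r k i d))
  have hc' : c • _ = _ := hc
  rw [hc', h1, h2] at h3
  exact h3.symm

theorem hypIdeal_eq :
    (show (Proj (CohB1.polyGrading r k)).IdealSheafData from LefPen.hypIdeal G) =
      QC.idealOfHom (twist (CohB1.polyGrading r k) (-(d : ℤ))) (psi r k G) := by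
  apply le_antisymm
  · refine Scheme.IdealSheafData.le_of_iSup_eq_top
      (fun i : Fin (r + 1) => (⟨LefPen.chart r k i, isAffineOpen_chart r k i⟩ :
        (Proj (CohB1.polyGrading r k)).affineOpens)) (iSup_chart r k) ?_
    intro i
    exact (Scheme.IdealSheafData.ideal_ofIdeals_le (LefPen.hypFamily G) _).trans
      (hypFamily_chart_le r k G i)
  · exact Scheme.IdealSheafData.le_ofIdeals_iff.mpr (fun U => idealOfHom_le_hypFamily r k G U)

/-- **the ideal sheaf of a hypersurface of degree `d` is `O(-d)`.** -/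
theorem nonempty_idealMod_hypIdeal_iso (hG : G ≠ 0) :
    Nonempty (ClSub.idealMod (LefPen.hypIdeal G) ≅ Twist.twistProjSpace r k (-(d : ℤ))) := by
  haveI := mono_psi r k G hG
  obtain ⟨e⟩ := nonempty_idealMod_idealOfHom_iso (twist (CohB1.polyGrading r k) (-(d : ℤ)))
    (psi r k G)
  exact ⟨eqToIso (congrArg ClSub.idealMod (hypIdeal_eq r k G)) ≪≫ e⟩

end Groth.Agent.H2.HypId
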