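import Groth.Prelude.Def_KTri
import Mathlib.Algebra.Homology.HomologySequence
import Mathlib.Algebra.BigOperators.Finprod

/-!
# Euler characteristics in the Grothendieck group of an abelian category
-/

namespace Groth.Agent.H2.KAbLib

open CategoryTheory Limits

universe v u
variable {C : Type u} [Category.{v} C] [Abelian C]

lemma cl_ses (S : ShortComplex C) (hS : S.ShortExact) :
    KAb.cl S.X₂ = KAb.cl S.X₁ + KAb.cl S.X₃ := by
  have hrel : FreeAbelianGroup.of S.X₁ - FreeAbelianGroup.of S.X₂ + FreeAbelianGroup.of S.X₃ ∈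
      AddSubgroup.closure (KAb.relSet C) := AddSubgroup.subset_closure ⟨S, hS, rfl⟩
  have h1 : (QuotientAddGroup.mk (FreeAbelianGroup.of S.X₁ - FreeAbelianGroup.of S.X₂ +
      FreeAbelianGroup.of S.X₃) : KAb.K0 C) = 0 := (QuotientAddGroup.eq_zero_iff _).2 hrel
  have h2 : KAb.cl S.X₁ - KAb.cl S.X₂ + KAb.cl S.X₃ = 0 := h1
  have h3 : KAb.cl S.X₁ + KAb.cl S.X₃ - KAb.cl S.X₂ = 0 := by rw [← h2]; abel
  exact (sub_eq_zero.1 h3).symm

lemma cl_zero (X : C) (hX : IsZero X) : KAb.cl X = 0 := by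
  let S : ShortComplex C := ShortComplex.mk (0 : X ⟶ X) (0 : X ⟶ X) zero_comp
  have hS : S.ShortExact :=
    { exact := ShortComplex.exact_of_isZero_X₂ _ hX
      mono_f := ⟨fun _ _ _ => hX.eq_of_tgt _ _⟩
      epi_g := ⟨fun _ _ _ => hX.eq_of_src _ _⟩ }
  have := cl_ses S hS
  change KAb.cl X = KAb.cl X + KAb.cl X at this
  exact (add_eq_left.1 this.symm)

/-- `[X] + [coker f] = [ker f] + [Y]` for a morphism `f : X ⟶ Y` -/
lemma cl_ker_coker {X Y K Q : C} (f : X ⟶ Y) (k : K ⟶ X) (q : Y ⟶ Q) (w₁ : k ≫ f = 0)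
    (w₂ : f ≫ q = 0) (hk : IsLimit (KernelFork.ofι k w₁))
    (hq : IsColimit (CokernelCofork.ofπ q w₂)) :
    KAb.cl X + KAb.cl Q = KAb.cl K + KAb.cl Y := by
  -- `0 → K → X → im f → 0`
  have w₁' : k ≫ Abelian.factorThruImage f = 0 := by
    rw [← cancel_mono (Abelian.image.ι f), Category.assoc, Abelian.image.fac, w₁, zero_comp]
  have hkm : Mono k := mono_of_isLimit_fork hk
  have hqe : Epi q := epi_of_isColimit_cofork hq
  have hk' : IsLimit (KernelFork.ofι k w₁') :=
    KernelFork.IsLimit.ofι' k w₁' (fun {T} g hg => by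
      have hg' : g ≫ f = 0 := by
        rw [← Abelian.image.fac f, ← Category.assoc, hg, zero_comp]
      exact ⟨hk.lift (KernelFork.ofι g hg'), Fork.IsLimit.lift_ι hk⟩)
  have hS₁ : (ShortComplex.mk k (Abelian.factorThruImage f) w₁').ShortExact :=
    { exact := ShortComplex.exact_of_f_is_kernel _ hk'
      mono_f := hkm
      epi_g := by dsimp; infer_instance }
  -- `0 → im f → Y → Q → 0`
  have w₂' : Abelian.image.ι f ≫ q = 0 := by
    rw [← cancel_epi (Abelian.factorThruImage f), ← Category.assoc, Abelian.image.fac, w₂,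
      comp_zero]
  have hq' : IsColimit (CokernelCofork.ofπ q w₂') :=
    CokernelCofork.IsColimit.ofπ' q w₂' (fun {T} g hg => by
      have hg' : f ≫ g = 0 := by
        rw [← Abelian.image.fac f, Category.assoc, hg, comp_zero]
      exact ⟨hq.desc (CokernelCofork.ofπ g hg'),
        Cofork.IsColimit.π_desc hq⟩)
  have hS₂ : (ShortComplex.mk (Abelian.image.ι f) q w₂').ShortExact :=
    { exact := ShortComplex.exact_of_g_is_cokernel _ hq'
      mono_f := by dsimp; infer_instance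
      epi_g := hqe }
  have e₁ := cl_ses _ hS₁
  have e₂ := cl_ses _ hS₂
  dsimp at e₁ e₂
  rw [e₁, e₂]
  abel

end Groth.Agent.H2.KAbLib

namespace Groth.Agent.H2.KAbLib

open CategoryTheory Limits

universe v u
variable {C : Type u} [Category.{v} C] [Abelian C]

/-- `[E^i] + [H^{i+1}] = [Z^i] + [Z^{i+1}]` -/
lemma cl_X_add_cl_homology (E : CochainComplex C ℤ) (i j : ℤ) (hij : i + 1 = j) :
    KAb.cl (E.X i) + KAb.cl (E.homology j) = KAb.cl (E.cycles i) + KAb.cl (E.cycles j) := by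
  have hnext : (ComplexShape.up ℤ).next i = j := by simp [← hij]
  have hprev : (ComplexShape.up ℤ).prev j = i := by simp [← hij]
  have hk := E.cyclesIsKernel i j hnext
  have w : E.iCycles i ≫ E.toCycles i j = 0 := by
    rw [← cancel_mono (E.iCycles j), Category.assoc, E.toCycles_i, E.iCycles_d, zero_comp]
  have hk' : IsLimit (KernelFork.ofι (E.iCycles i) w) :=
    isKernelOfComp (f := E.toCycles i j) (E.iCycles j) (E.d i j) hk w (E.toCycles_i i j)
  exact cl_ker_coker (E.toCycles i j) (E.iCycles i) (E.homologyπ j) w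
    (E.toCycles_comp_homologyπ i j) hk' (E.homologyIsCokernel i j hprev)

def sgn (i : ℤ) : ℤ := (-1 : ℤ) ^ i.natAbs

lemma sgn_succ (i : ℤ) : sgn (i + 1) = - sgn i := by
  unfold sgn
  rcases Int.even_or_odd i with h | h
  · have h1 : Even i.natAbs := Int.natAbs_even.2 h
    have h2 : Odd (i + 1).natAbs := Int.natAbs_odd.2 (h.add_one)
    rw [h1.neg_one_pow, h2.neg_one_pow]
  · have h1 : Odd i.natAbs := Int.natAbs_odd.2 h
    have h2 : Even (i + 1).natAbs := Int.natAbs_even.2 (h.add_one)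
    rw [h1.neg_one_pow, h2.neg_one_pow]
    simp

theorem euler (E : CochainComplex C ℤ) (s : Finset ℤ)
    (hs : ∀ i : ℤ, i ∉ s → IsZero (E.X i)) :
    (∑ i ∈ s, ((-1 : ℤ) ^ i.natAbs) • KAb.cl (E.X i)) =
      ∑ i ∈ s, ((-1 : ℤ) ^ i.natAbs) • KAb.cl (E.homology i) := by
  have hZ : ∀ i : ℤ, i ∉ s → IsZero (E.cycles i) := fun i hi => by
    rw [IsZero.iff_id_eq_zero, ← cancel_mono (E.iCycles i)]
    exact (hs i hi).eq_of_tgt _ _
  have hH : ∀ i : ℤ, i ∉ s → IsZero (E.homology i) := fun i hi => by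
    rw [IsZero.iff_id_eq_zero, ← cancel_epi (E.homologyπ i)]
    exact (hZ i hi).eq_of_src _ _
  let fA : ℤ → KAb.K0 C := fun i => sgn i • KAb.cl (E.X i)
  let fZ : ℤ → KAb.K0 C := fun i => sgn i • KAb.cl (E.cycles i)
  let fH : ℤ → KAb.K0 C := fun i => sgn i • KAb.cl (E.homology i)
  have sA : Function.support fA ⊆ (s : Set ℤ) := fun i hi => by
    by_contra h
    exact hi (by simp [fA, cl_zero _ (hs i h)])
  have sZ : Function.support fZ ⊆ (s : Set ℤ) := fun i hi => by
    by_contra h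
    exact hi (by simp [fZ, cl_zero _ (hZ i h)])
  have sH : Function.support fH ⊆ (s : Set ℤ) := fun i hi => by
    by_contra h
    exact hi (by simp [fH, cl_zero _ (hH i h)])
  have fZfin : Function.HasFiniteSupport fZ := s.finite_toSet.subset sZ
  have fHfin : Function.HasFiniteSupport fH := s.finite_toSet.subset sH
  have fZ1fin : Function.HasFiniteSupport (fun i => fZ (i + 1)) :=
    Set.Finite.preimage (f := fun i : ℤ => i + 1) (fun a _ b _ h => by simpa using h) fZfin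
  have fH1fin : Function.HasFiniteSupport (fun i => fH (i + 1)) :=
    Set.Finite.preimage (f := fun i : ℤ => i + 1) (fun a _ b _ h => by simpa using h) fHfin
  have key : ∀ i, fA i = fZ i + (fH (i + 1) - fZ (i + 1)) := by
    intro i
    have h := cl_X_add_cl_homology E i (i + 1) rfl
    have h' : KAb.cl (E.X i) = KAb.cl (E.cycles i) + KAb.cl (E.cycles (i + 1)) -
        KAb.cl (E.homology (i + 1)) := by rw [← h]; abel
    simp only [fA, fZ, fH, sgn_succ, h', smul_add, smul_sub, neg_smul]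
    abel
  have e1 : ∑ i ∈ s, fA i = ∑ᶠ i, fA i := (finsum_eq_sum_of_support_subset _ sA).symm
  have e2 : ∑ i ∈ s, fH i = ∑ᶠ i, fH i := (finsum_eq_sum_of_support_subset _ sH).symm
  have e3 : ∑ᶠ i, fZ (i + 1) = ∑ᶠ i, fZ i := finsum_comp_equiv (Equiv.addRight (1 : ℤ))
  have e4 : ∑ᶠ i, fH (i + 1) = ∑ᶠ i, fH i := finsum_comp_equiv (Equiv.addRight (1 : ℤ))
  change ∑ i ∈ s, fA i = ∑ i ∈ s, fH i
  have e5 : ∑ᶠ i, (fH (i + 1) - fZ (i + 1)) = ∑ᶠ i, fH (i + 1) - ∑ᶠ i, fZ (i + 1) :=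
    finsum_sub_distrib fH1fin fZ1fin
  have e6 : ∑ᶠ i, (fZ i + (fH (i + 1) - fZ (i + 1))) =
      ∑ᶠ i, fZ i + ∑ᶠ i, (fH (i + 1) - fZ (i + 1)) :=
    finsum_add_distrib fZfin (fH1fin.sub fZ1fin)
  rw [e1, e2, finsum_congr key, e6, e5, e3, e4]
  abel

end Groth.Agent.H2.KAbLib
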