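import Groth.Prelude.Def_KZero
import Groth.Agent.Lib.Helper2.KAb1
import Mathlib.Algebra.Homology.DerivedCategory.TStructure
import Mathlib.Algebra.Homology.DerivedCategory.HomologySequence
import Mathlib.Algebra.Homology.DerivedCategory.SingleTriangle
import Mathlib.Algebra.BigOperators.Finprod
import Mathlib.Order.Interval.Finset.Defs
import Mathlib.Order.Interval.Set.Basic
import Mathlib.Data.Int.Interval
import Mathlib.CategoryTheory.Abelian.SerreClass.Basic
import Mathlib.CategoryTheory.ObjectProperty.Extensions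
import Mathlib.CategoryTheory.ObjectProperty.ClosedUnderIsomorphisms
import Mathlib.CategoryTheory.Abelian.Subcategory

/-!
# `K₀` of a thick subcategory of an abelian category: the abelian side
-/

namespace Groth.Agent.H2.KThick

open CategoryTheory Limits

universe v u
variable {C : Type u} [Category.{v} C] [Abelian C]
  (P : ObjectProperty C)

lemma clSub_eq {X : C} (h : P X) :
    KZero.clSub P X = QuotientAddGroup.mk (FreeAbelianGroup.of ⟨X, h⟩) := by
  unfold KZero.clSub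
  rw [dif_pos h]

lemma cl_ses (S : ShortComplex C) (hS : S.ShortExact)
    (h₁ : P S.X₁) (h₂ : P S.X₂) (h₃ : P S.X₃) :
    KZero.clSub P S.X₂ = KZero.clSub P S.X₁ + KZero.clSub P S.X₃ := by
  rw [clSub_eq P h₁, clSub_eq P h₂, clSub_eq P h₃]
  have hrel : FreeAbelianGroup.of (⟨S.X₂, h₂⟩ : Subtype P) - FreeAbelianGroup.of ⟨S.X₁, h₁⟩ -
      FreeAbelianGroup.of ⟨S.X₃, h₃⟩ ∈ KZero.relSub P :=
    AddSubgroup.subset_closure ⟨S, h₁, h₂, h₃, hS, rfl⟩
  have h1 := (QuotientAddGroup.eq_zero_iff _).2 hrel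
  rw [QuotientAddGroup.mk_sub, QuotientAddGroup.mk_sub, sub_sub, sub_eq_zero] at h1
  exact h1

variable [P.IsClosedUnderIsomorphisms] [P.ContainsZero]

lemma prop_of_isZero {X : C} (hX : IsZero X) : P X := P.prop_of_isZero hX

lemma cl_zero {X : C} (hX : IsZero X) : KZero.clSub P X = 0 := by
  have hP : P X := P.prop_of_isZero hX
  let S : ShortComplex C := ShortComplex.mk (0 : X ⟶ X) (0 : X ⟶ X) zero_comp
  have hS : S.ShortExact :=
    { exact := ShortComplex.exact_of_isZero_X₂ _ hX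
      mono_f := ⟨fun _ _ _ => hX.eq_of_tgt _ _⟩
      epi_g := ⟨fun _ _ _ => hX.eq_of_src _ _⟩ }
  have h := cl_ses P S hS hP hP hP
  exact add_eq_left.1 h.symm

lemma cl_iso {X Y : C} (e : X ≅ Y) (hX : P X) : KZero.clSub P X = KZero.clSub P Y := by
  have hY : P Y := P.prop_of_iso e hX
  obtain ⟨Z, hZ⟩ := HasZeroObject.zero (C := C)
  let S : ShortComplex C := ShortComplex.mk e.hom (0 : Y ⟶ Z) comp_zero
  have : Epi e.hom := inferInstance
  have hg : Epi S.g := ⟨fun _ _ _ => hZ.eq_of_src _ _⟩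
  have hS : S.ShortExact :=
    { exact := ShortComplex.exact_of_g_is_cokernel _
        (CokernelCofork.IsColimit.ofπ' _ _ (fun {T} g hg =>
          ⟨0, by
            rw [comp_zero]
            rw [← cancel_epi e.hom, hg, comp_zero]⟩))
      mono_f := by dsimp [S]; infer_instance
      epi_g := hg }
  have h := cl_ses P S hS hX hY (P.prop_of_isZero hZ)
  rw [cl_zero P hZ, add_zero] at h
  exact h.symm

variable [P.IsClosedUnderKernels]

/-- exactness of `X₁ ⟶ X₂ ⟶ X₃` gives `[X₁] = [ker f] + [ker g]` -/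
lemma cl_exact (S : ShortComplex C) (hS : S.Exact) (h₁ : P S.X₁) (h₂ : P S.X₂) (h₃ : P S.X₃) :
    KZero.clSub P S.X₁ = KZero.clSub P (kernel S.f) + KZero.clSub P (kernel S.g) := by
  have hk₁ : P (kernel S.f) := P.prop_kernel S.f h₁ h₂
  have hk₂ : P (kernel S.g) := P.prop_kernel S.g h₂ h₃
  have hepi : Epi (kernel.lift S.g S.f S.zero) := S.exact_iff_epi_kernel_lift.1 hS
  have w : kernel.ι S.f ≫ kernel.lift S.g S.f S.zero = 0 := by
    rw [← cancel_mono (kernel.ι S.g), Category.assoc, kernel.lift_ι, kernel.condition, zero_comp]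
  have hk : IsLimit (KernelFork.ofι (kernel.ι S.f) w) :=
    isKernelOfComp (f := kernel.lift S.g S.f S.zero) (kernel.ι S.g) S.f (kernelIsKernel S.f) w
      (kernel.lift_ι _ _ _)
  have hSE : (ShortComplex.mk (kernel.ι S.f) (kernel.lift S.g S.f S.zero) w).ShortExact :=
    { exact := ShortComplex.exact_of_f_is_kernel _ hk
      mono_f := by dsimp; infer_instance
      epi_g := hepi }
  exact cl_ses P _ hSE hk₁ h₁ hk₂

section Derived

universe w
variable [HasDerivedCategory.{w} C]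

open DerivedCategory KAbLib

/-- the Euler characteristic of an object of the derived category -/
noncomputable def χ (K : DerivedCategory C) : KZero.K0sub P :=
  ∑ᶠ i : ℤ, sgn i • KZero.clSub P ((homologyFunctor C i).obj K)

lemma hasFiniteSupport_of_isZero (F : ℤ → C) (a b : ℤ)
    (h₁ : ∀ i, i < a → IsZero (F i)) (h₂ : ∀ i, b < i → IsZero (F i)) :
    Function.HasFiniteSupport (fun i => sgn i • KZero.clSub P (F i)) := by
  apply (Set.finite_Icc a b).subset
  intro i hi
  by_contra h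
  rw [Set.mem_Icc, not_and_or, not_le, not_le] at h
  apply hi
  rcases h with h | h
  · simp [cl_zero P (h₁ i h)]
  · simp [cl_zero P (h₂ i h)]

lemma hasFiniteSupport_homology (K : DerivedCategory C) (a b : ℤ) [K.IsGE a] [K.IsLE b] :
    Function.HasFiniteSupport
      (fun i => sgn i • KZero.clSub P ((homologyFunctor C i).obj K)) :=
  hasFiniteSupport_of_isZero P _ a b (fun i hi => K.isZero_of_isGE a i hi)
    (fun i hi => K.isZero_of_isLE b i hi)

omit [HasDerivedCategory C] in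
lemma isZero_kernel_of_isZero {X Y : C} (f : X ⟶ Y) (hX : IsZero X) : IsZero (kernel f) := by
  rw [IsZero.iff_id_eq_zero, ← cancel_mono (kernel.ι f)]
  exact hX.eq_of_tgt _ _

open Pretriangulated in
theorem χ_additive (T : Triangle (DerivedCategory C)) (hT : T ∈ distTriang _)
    (h₁ : ∀ i, P ((homologyFunctor C i).obj T.obj₁))
    (h₂ : ∀ i, P ((homologyFunctor C i).obj T.obj₂))
    (h₃ : ∀ i, P ((homologyFunctor C i).obj T.obj₃))
    (a₁ b₁ a₂ b₂ a₃ b₃ : ℤ) [T.obj₁.IsGE a₁] [T.obj₁.IsLE b₁] [T.obj₂.IsGE a₂] [T.obj₂.IsLE b₂]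
    [T.obj₃.IsGE a₃] [T.obj₃.IsLE b₃] :
    χ P T.obj₂ = χ P T.obj₁ + χ P T.obj₃ := by
  let zA : ℤ → C := fun i => kernel ((homologyFunctor C i).map T.mor₁)
  let zB : ℤ → C := fun i => kernel ((homologyFunctor C i).map T.mor₂)
  let zC : ℤ → C := fun i => kernel (HomologySequence.δ T i (i + 1) rfl)
  have eA : ∀ i, KZero.clSub P ((homologyFunctor C i).obj T.obj₁) =
      KZero.clSub P (zA i) + KZero.clSub P (zB i) := fun i =>
    cl_exact P _ (HomologySequence.exact₂ T hT i) (h₁ i) (h₂ i) (h₃ i)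
  have eB : ∀ i, KZero.clSub P ((homologyFunctor C i).obj T.obj₂) =
      KZero.clSub P (zB i) + KZero.clSub P (zC i) := fun i =>
    cl_exact P _ (HomologySequence.exact₃ T hT i (i + 1) rfl) (h₂ i) (h₃ i) (h₁ (i + 1))
  have eC : ∀ i, KZero.clSub P ((homologyFunctor C i).obj T.obj₃) =
      KZero.clSub P (zC i) + KZero.clSub P (zA (i + 1)) := fun i =>
    cl_exact P _ (HomologySequence.exact₁ T hT i (i + 1) rfl) (h₃ i) (h₁ (i + 1)) (h₂ (i + 1))
  let f₁ : ℤ → KZero.K0sub P := fun i => sgn i • KZero.clSub P ((homologyFunctor C i).obj T.obj₁)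
  let f₂ : ℤ → KZero.K0sub P := fun i => sgn i • KZero.clSub P ((homologyFunctor C i).obj T.obj₂)
  let f₃ : ℤ → KZero.K0sub P := fun i => sgn i • KZero.clSub P ((homologyFunctor C i).obj T.obj₃)
  let fZ : ℤ → KZero.K0sub P := fun i => sgn i • KZero.clSub P (zA i)
  have fin₁ : Function.HasFiniteSupport f₁ := hasFiniteSupport_homology P T.obj₁ a₁ b₁
  have fin₃ : Function.HasFiniteSupport f₃ := hasFiniteSupport_homology P T.obj₃ a₃ b₃
  have finZ : Function.HasFiniteSupport fZ :=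
    hasFiniteSupport_of_isZero P zA a₁ b₁
      (fun i hi => isZero_kernel_of_isZero _ (T.obj₁.isZero_of_isGE a₁ i hi))
      (fun i hi => isZero_kernel_of_isZero _ (T.obj₁.isZero_of_isLE b₁ i hi))
  have finZ1 : Function.HasFiniteSupport (fun i => fZ (i + 1)) :=
    Set.Finite.preimage (f := fun i : ℤ => i + 1) (fun a _ b _ h => by simpa using h) finZ
  have key : ∀ i, f₂ i = (f₁ i + f₃ i) + (fZ (i + 1) - fZ i) := by
    intro i
    simp only [f₁, f₂, f₃, fZ, eA i, eB i, eC i, sgn_succ, smul_add, neg_smul]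
    abel
  have e3 : ∑ᶠ i, fZ (i + 1) = ∑ᶠ i, fZ i := finsum_comp_equiv (Equiv.addRight (1 : ℤ))
  have e5 : ∑ᶠ i, (fZ (i + 1) - fZ i) = ∑ᶠ i, fZ (i + 1) - ∑ᶠ i, fZ i :=
    finsum_sub_distrib finZ1 finZ
  have e6 : ∑ᶠ i, ((f₁ i + f₃ i) + (fZ (i + 1) - fZ i)) =
      ∑ᶠ i, (f₁ i + f₃ i) + ∑ᶠ i, (fZ (i + 1) - fZ i) :=
    finsum_add_distrib (fin₁.add fin₃) (finZ1.sub finZ)
  have e7 : ∑ᶠ i, (f₁ i + f₃ i) = ∑ᶠ i, f₁ i + ∑ᶠ i, f₃ i := finsum_add_distrib fin₁ fin₃
  change ∑ᶠ i, f₂ i = ∑ᶠ i, f₁ i + ∑ᶠ i, f₃ i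
  rw [finsum_congr key, e6, e5, e3, e7, sub_self, add_zero]

end Derived

end Groth.Agent.H2.KThick
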