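import Groth.Agent.Lib.Helper2.QuasiReg2

/-!
# `H₁`-regular sequences are of linear type, hence quasi-regular (helper2)
-/

namespace Groth.Agent.H2.H1Reg

open MvPolynomial Groth.Agent.H2.QuasiReg

variable {A : Type*} [CommRing A]

/-- The submodule of trivial (Koszul) relations. -/
def triv {c : ℕ} (f : Fin c → A) : Submodule A (Fin c → A) :=
  Submodule.span A {v | ∃ i j : Fin c, v = Pi.single i (f j) - Pi.single j (f i)}

/-- `H₁`-regularity, as in `CAlgX.IsH1Regular`. -/
def H1 {c : ℕ} (f : Fin c → A) : Prop :=
  ∀ a : Fin c → A, ∑ i, a i * f i = 0 → a ∈ triv f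

theorem h1_iff {R : Type*} [CommRing R] {c : ℕ} (f : Fin c → R) :
    CAlgX.IsH1Regular f ↔ H1 f := Iff.rfl

theorem gen_mem_triv {c : ℕ} (f : Fin c → A) (i j : Fin c) :
    Pi.single i (f j) - Pi.single j (f i) ∈ triv f :=
  Submodule.subset_span ⟨i, j, rfl⟩

/-- Pairing with a vector, as a linear map. -/
noncomputable abbrev dot {c : ℕ} (g : Fin c → A) : (Fin c → A) →ₗ[A] A :=
  Fintype.linearCombination A g

theorem dot_apply {c : ℕ} (g a : Fin c → A) : dot g a = ∑ i, a i * g i := by
  simp [dot, Fintype.linearCombination_apply]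

theorem dot_gen {c : ℕ} (g : Fin c → A) (i j : Fin c) (x y : A) :
    dot g (Pi.single i x - Pi.single j y) = x * g i - y * g j := by
  classical
  rw [map_sub, Fintype.linearCombination_apply_single, Fintype.linearCombination_apply_single,
    smul_eq_mul, smul_eq_mul]

/-- Trivial relations are relations. -/
theorem triv_le_ker {c : ℕ} (f : Fin c → A) : triv f ≤ LinearMap.ker (dot f) := by
  refine Submodule.span_le.mpr ?_
  rintro _ ⟨i, j, rfl⟩
  rw [SetLike.mem_coe, LinearMap.mem_ker, dot_gen]
  ring

/-- `H₁`-regularity passes to polynomial rings. -/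
theorem H1.poly {c : ℕ} {f : Fin c → A} (hf : H1 f) (σ : Type*) :
    H1 (fun i => (C (f i) : MvPolynomial σ A)) := by
  classical
  intro P hP
  -- the coefficient vectors are relations
  have hcoef : ∀ m : σ →₀ ℕ, (fun i => (C (coeff m (P i)) : MvPolynomial σ A)) ∈
      triv (fun i => (C (f i) : MvPolynomial σ A)) := by
    intro m
    have hrel : ∑ i, coeff m (P i) * f i = 0 := by
      have := congrArg (coeff m) hP
      rw [coeff_sum] at this
      simp only [coeff_zero] at this
      rw [← this]
      refine Finset.sum_congr rfl (fun i _ => ?_)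
      rw [mul_comm (P i), coeff_C_mul, mul_comm]
    have hmem := hf _ hrel
    -- transport along `C`
    have hle : triv f ≤ Submodule.comap
        ((Algebra.linearMap A (MvPolynomial σ A)).compLeft (Fin c))
        ((triv (fun i => (C (f i) : MvPolynomial σ A))).restrictScalars A) := by
      refine Submodule.span_le.mpr ?_
      rintro _ ⟨i, j, rfl⟩
      rw [SetLike.mem_coe, Submodule.mem_comap, Submodule.restrictScalars_mem]
      have : ((Algebra.linearMap A (MvPolynomial σ A)).compLeft (Fin c))
          (Pi.single i (f j) - Pi.single j (f i)) =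
          Pi.single i (C (f j)) - Pi.single j (C (f i)) := by
        ext k
        simp only [LinearMap.compLeft_apply, Function.comp_apply, Pi.sub_apply,
          Algebra.linearMap_apply, map_sub, Pi.single_apply, algebraMap_eq]
        split_ifs <;> simp
      rw [this]
      exact gen_mem_triv _ i j
    have := hle hmem
    rw [Submodule.mem_comap, Submodule.restrictScalars_mem] at this
    exact this
  -- decompose `P` along monomials
  set supp : Finset (σ →₀ ℕ) := Finset.univ.biUnion (fun i => (P i).support) with hsupp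
  have hdec : P = ∑ m ∈ supp, (monomial m (1 : A)) • (fun i => (C (coeff m (P i)) : MvPolynomial σ A)) := by
    ext1 i
    rw [Finset.sum_apply]
    simp only [Pi.smul_apply, smul_eq_mul]
    have h1 : ∀ m, (monomial m (1 : A)) * C (coeff m (P i)) = monomial m (coeff m (P i)) := by
      intro m
      rw [mul_comm, C_mul_monomial, mul_one]
    simp only [h1]
    have hsub : (P i).support ⊆ supp := by
      intro m hm
      exact Finset.mem_biUnion.mpr ⟨i, Finset.mem_univ _, hm⟩
    rw [← Finset.sum_subset hsub]
    · exact (support_sum_monomial_coeff (P i)).symm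
    · intro m _ hm
      rw [notMem_support_iff.mp hm, monomial_zero]
  rw [hdec]
  exact Submodule.sum_mem _ (fun m _ => Submodule.smul_mem _ _ (hcoef m))

/-- Key lemma: for an `H₁`-regular sequence, if `∑ f i P i` lies in the ideal `Jb f` of Koszul
relations, then so does `∑ X i P i`. -/
theorem H1.sum_X_mem {c : ℕ} {f : Fin c → A} (hf : H1 f) (P : Fin c → MvPolynomial (Fin c) A)
    (hP : ∑ i, P i * C (f i) ∈ Jb f) : ∑ i, P i * X i ∈ Jb f := by
  classical
  let S := MvPolynomial (Fin c) A
  let N : Submodule S (Fin c → S) := triv (X : Fin c → S)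
  let fC : Fin c → S := fun i => C (f i)
  -- (a) `Jb f` is the image of `N` under pairing with `f`
  have ha : (Jb f : Submodule S S) ≤ Submodule.map (dot fC) N := by
    refine Submodule.span_le.mpr ?_
    rintro _ ⟨i, j, rfl⟩
    refine ⟨Pi.single i (X j) - Pi.single j (X i), gen_mem_triv _ i j, ?_⟩
    rw [dot_gen]
    ring
  -- (b) `N` pairs to zero with `X`
  have hb : N ≤ LinearMap.ker (dot (X : Fin c → S)) := triv_le_ker _
  -- (c) trivial `f`-relations pair with `X` into `Jb f`
  have hc : triv fC ≤ Submodule.comap (dot (X : Fin c → S)) (Jb f : Submodule S S) := by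
    refine Submodule.span_le.mpr ?_
    rintro _ ⟨i, j, rfl⟩
    rw [SetLike.mem_coe, Submodule.mem_comap, dot_gen]
    have := gen_mem_Jb f j i
    convert this using 1
  have hP' : dot fC P ∈ (Jb f : Submodule S S) := by
    rw [dot_apply]; exact hP
  obtain ⟨n, hn, hnP⟩ := ha hP'
  have hker : P - n ∈ triv fC := by
    apply hf.poly (Fin c)
    have : dot fC (P - n) = 0 := by rw [map_sub, hnP, sub_self]
    rwa [dot_apply] at this
  have h1 := hc hker
  rw [Submodule.mem_comap, map_sub, LinearMap.mem_ker.mp (hb hn), sub_zero, dot_apply] at h1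
  exact h1

/-- Decomposition of a homogeneous polynomial of positive degree. -/
theorem exists_decomp {c d : ℕ} {P : MvPolynomial (Fin c) A} (hP : P.IsHomogeneous (d + 1)) :
    ∃ Q : Fin c → MvPolynomial (Fin c) A, (∀ i, (Q i).IsHomogeneous d) ∧ P = ∑ i, Q i * X i := by
  classical
  let T : Submodule A (MvPolynomial (Fin c) A) :=
    { carrier := {P | ∃ Q : Fin c → MvPolynomial (Fin c) A,
        (∀ i, (Q i).IsHomogeneous d) ∧ P = ∑ i, Q i * X i}
      add_mem' := by
        rintro _ _ ⟨Q, hQ, rfl⟩ ⟨Q', hQ', rfl⟩
        refine ⟨Q + Q', fun i => (hQ i).add (hQ' i), ?_⟩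
        simp only [Pi.add_apply, add_mul, Finset.sum_add_distrib]
      zero_mem' := ⟨0, fun i => isHomogeneous_zero _ _ _, by simp⟩
      smul_mem' := by
        rintro r _ ⟨Q, hQ, rfl⟩
        refine ⟨fun i => C r * Q i, fun i => (hQ i).C_mul r, ?_⟩
        rw [smul_eq_C_mul, Finset.mul_sum]
        refine Finset.sum_congr rfl (fun i _ => ?_)
        ring }
  have hle : homogeneousSubmodule (Fin c) A (d + 1) ≤ T := by
    rw [← homogeneousSubmodule_one_pow (σ := Fin c) (R := A) (n := d + 1), pow_succ,
      homogeneousSubmodule_one_pow]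
    rw [Submodule.mul_le]
    intro m hm ℓ hℓ
    rw [homogeneousSubmodule_one_eq_span_X] at hℓ
    induction hℓ using Submodule.span_induction with
    | mem x hx =>
      obtain ⟨j, rfl⟩ := hx
      refine ⟨fun i => if i = j then m else 0, fun i => ?_, ?_⟩
      · by_cases hij : i = j
        · simp only [if_pos hij]; exact (mem_homogeneousSubmodule _ _).mp hm
        · simp only [if_neg hij]; exact isHomogeneous_zero _ _ _
      · simp
    | zero => rw [mul_zero]; exact zero_mem _
    | add x y _ _ hx hy => rw [mul_add]; exact add_mem hx hy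
    | smul r x _ hx => rw [mul_smul_comm]; exact Submodule.smul_mem _ r hx
  exact hle ((mem_homogeneousSubmodule _ _).mpr hP)

/-- **`H₁`-regular sequences are of linear type.** -/
theorem H1.linearType {c : ℕ} {f : Fin c → A} (hf : H1 f) :
    ∀ (d : ℕ) (P : MvPolynomial (Fin c) A), P.IsHomogeneous d → eval f P = 0 → P ∈ Jb f := by
  intro d
  induction d with
  | zero =>
    intro P hP hev
    have hC : P = C (coeff 0 P) := by
      have := (totalDegree_eq_zero_iff_eq_C (p := P)).mp
        (Nat.le_zero.mp (hP.totalDegree_le))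
      exact this
    rw [hC, eval_C] at hev
    rw [hC, hev, map_zero]
    exact zero_mem _
  | succ d ih =>
    intro P hP hev
    obtain ⟨Q, hQ, rfl⟩ := exists_decomp hP
    apply hf.sum_X_mem Q
    apply ih
    · exact IsHomogeneous.sum _ _ _ (fun i _ => by
        have := (hQ i).mul (isHomogeneous_C (Fin c) (f i))
        simpa using this)
    · rw [map_sum] at hev ⊢
      rw [← hev]
      refine Finset.sum_congr rfl (fun i _ => ?_)
      rw [map_mul, map_mul, eval_C, eval_X]

/-- Linear type implies quasi-regular. -/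
theorem qReg_of_linearType {c : ℕ} (f : Fin c → A)
    (hf : ∀ (d : ℕ) (P : MvPolynomial (Fin c) A), P.IsHomogeneous d → eval f P = 0 → P ∈ Jb f) :
    QReg f := by
  classical
  intro n P hP hev
  obtain ⟨Q, hQ, hQev⟩ := (Ideal.mem_span_pow_iff_exists_isHomogeneous f _).mp hev
  obtain ⟨R, hR, rfl⟩ := exists_decomp hQ
  set Q' : MvPolynomial (Fin c) A := ∑ i, R i * C (f i) with hQ'
  have hQ'hom : Q'.IsHomogeneous n := IsHomogeneous.sum _ _ _ (fun i _ => by
    have := (hR i).mul (isHomogeneous_C (Fin c) (f i))
    simpa using this)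
  have hQ'J : Q' ∈ Ideal.map C (Ideal.span (Set.range f)) :=
    Ideal.sum_mem _ (fun i _ => Ideal.mul_mem_left _ _
      (Ideal.mem_map_of_mem _ (Ideal.subset_span (Set.mem_range_self i))))
  have hQ'ev : eval f Q' = eval f P := by
    rw [← hQev, hQ', map_sum, map_sum]
    refine Finset.sum_congr rfl (fun i _ => ?_)
    rw [map_mul, map_mul, eval_C, eval_X]
  have h0 : eval f (P - Q') = 0 := by
    rw [map_sub]
    exact sub_eq_zero.mpr hQ'ev.symm
  have h1 := Jb_le_map_C f (hf n _ (hP.sub hQ'hom) h0)
  have : P = (P - Q') + Q' := by ring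
  rw [this]
  exact add_mem h1 hQ'J

/-- **`H₁`-regular sequences are quasi-regular.** -/
theorem H1.qReg {c : ℕ} {f : Fin c → A} (hf : H1 f) : QReg f :=
  qReg_of_linearType f hf.linearType

end Groth.Agent.H2.H1Reg
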