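import Mathlib

/-! Hilbert function of a hypersurface section of a homogeneous prime. helper2 -/

set_option autoImplicit false
universe u v

open DirectSum

namespace Groth.Agent.H2.HilbHyper

section graded
variable {k : Type u} {A : Type v} [Field k] [CommRing A] [Algebra k A]
  (𝒜 : ℕ → Submodule k A) [GradedAlgebra 𝒜]

/-- `I ∩ A_m` as a `k`-subspace -/
def U (I : Ideal A) (m : ℕ) : Submodule k A := Submodule.restrictScalars k I ⊓ 𝒜 m

/-- the map `(i, g) ↦ i + f g` -/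
noncomputable def psi (I : Ideal A) (f : A) (d e : ℕ) : (U 𝒜 I (d + e) × 𝒜 e) →ₗ[k] A :=
  (U 𝒜 I (d + e)).subtype.coprod ((LinearMap.mulLeft k f).comp (𝒜 e).subtype)

omit [GradedAlgebra 𝒜] in
@[simp] lemma psi_apply (I : Ideal A) (f : A) (d e : ℕ) (x : U 𝒜 I (d + e) × 𝒜 e) :
    psi 𝒜 I f d e x = (x.1 : A) + f * (x.2 : A) := by
  simp [psi]

lemma range_psi (I : Ideal A) (hI : I.IsHomogeneous 𝒜) (f : A) (d e : ℕ) (hf : f ∈ 𝒜 d) :
    LinearMap.range (psi 𝒜 I f d e) = U 𝒜 (I ⊔ Ideal.span {f}) (d + e) := by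
  apply le_antisymm
  · rintro _ ⟨x, rfl⟩
    rw [psi_apply]
    refine ⟨?_, ?_⟩
    · change (x.1 : A) + f * (x.2 : A) ∈ I ⊔ Ideal.span {f}
      refine Ideal.add_mem _ (Ideal.mem_sup_left x.1.2.1) (Ideal.mem_sup_right ?_)
      exact Ideal.mul_mem_right _ _ (Ideal.subset_span rfl)
    · exact (𝒜 (d + e)).add_mem x.1.2.2 (SetLike.mul_mem_graded hf x.2.2)
  · rintro h ⟨hh1, hh2⟩
    change h ∈ I ⊔ Ideal.span {f} at hh1
    obtain ⟨i, hi, y, hy, rfl⟩ := Submodule.mem_sup.mp hh1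
    obtain ⟨g, rfl⟩ := Ideal.mem_span_singleton'.mp hy
    have h1 : ((decompose 𝒜 (i + g * f) (d + e) : 𝒜 (d + e)) : A) = i + g * f :=
      decompose_of_mem_same 𝒜 hh2
    have h2 : ((decompose 𝒜 (i + g * f) (d + e) : 𝒜 (d + e)) : A) =
        ((decompose 𝒜 i (d + e) : 𝒜 (d + e)) : A) + f * ((decompose 𝒜 g e : 𝒜 e) : A) := by
      rw [decompose_add, DirectSum.add_apply, Submodule.coe_add, mul_comm g f,
        coe_decompose_mul_add_of_left_mem 𝒜 hf]
    refine ⟨(⟨(decompose 𝒜 i (d + e) : 𝒜 (d + e)), hI _ hi, SetLike.coe_mem _⟩,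
      (decompose 𝒜 g e : 𝒜 e)), ?_⟩
    rw [psi_apply, ← h2, h1]

/-- second projection on the kernel -/
noncomputable def theta (I : Ideal A) (f : A) (d e : ℕ) :
    LinearMap.ker (psi 𝒜 I f d e) →ₗ[k] A :=
  ((𝒜 e).subtype.comp (LinearMap.snd k _ _)).comp (LinearMap.ker (psi 𝒜 I f d e)).subtype

omit [GradedAlgebra 𝒜] in
lemma theta_injective (I : Ideal A) (f : A) (d e : ℕ) :
    Function.Injective (theta 𝒜 I f d e) := by
  rw [injective_iff_map_eq_zero]
  rintro ⟨⟨x1, x2⟩, hx⟩ h0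
  have hx' : (x1 : A) + f * (x2 : A) = 0 := by
    have := LinearMap.mem_ker.mp hx
    rwa [psi_apply] at this
  have h2 : (x2 : A) = 0 := h0
  have h1 : (x1 : A) = 0 := by rw [h2, mul_zero, add_zero] at hx'; exact hx'
  apply Subtype.ext
  exact Prod.ext (Subtype.ext h1) (Subtype.ext h2)

lemma range_theta (I : Ideal A) [I.IsPrime] (f : A) (d e : ℕ) (hf : f ∈ 𝒜 d) (hfI : f ∉ I) :
    LinearMap.range (theta 𝒜 I f d e) = U 𝒜 I e := by
  apply le_antisymm
  · rintro _ ⟨⟨⟨x1, x2⟩, hx⟩, rfl⟩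
    have hx' : (x1 : A) + f * (x2 : A) = 0 := by
      have := LinearMap.mem_ker.mp hx
      rwa [psi_apply] at this
    refine ⟨?_, x2.2⟩
    change (x2 : A) ∈ I
    have : f * (x2 : A) ∈ I := by
      have h3 : f * (x2 : A) = -(x1 : A) := eq_neg_of_add_eq_zero_right hx'
      rw [h3]
      exact I.neg_mem x1.2.1
    exact (Ideal.IsPrime.mem_or_mem inferInstance this).resolve_left hfI
  · rintro g ⟨hg1, hg2⟩
    change g ∈ I at hg1
    have hmem : -(f * g) ∈ U 𝒜 I (d + e) :=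
      ⟨I.neg_mem (I.mul_mem_left f hg1), (𝒜 (d + e)).neg_mem (SetLike.mul_mem_graded hf hg2)⟩
    refine ⟨⟨(⟨-(f * g), hmem⟩, ⟨g, hg2⟩), ?_⟩, rfl⟩
    rw [LinearMap.mem_ker, psi_apply]
    simp

theorem finrank_eq (hfin : ∀ m, FiniteDimensional k (𝒜 m))
    (I : Ideal A) [I.IsPrime] (hI : I.IsHomogeneous 𝒜) (f : A) (d e : ℕ) (hf : f ∈ 𝒜 d)
    (hfI : f ∉ I) :
    Module.finrank k (U 𝒜 (I ⊔ Ideal.span {f}) (d + e)) + Module.finrank k (U 𝒜 I e) =
      Module.finrank k (U 𝒜 I (d + e)) + Module.finrank k (𝒜 e) := by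
  have := hfin (d + e)
  have := hfin e
  have hU : FiniteDimensional k (U 𝒜 I (d + e)) :=
    Submodule.finiteDimensional_of_le (inf_le_right : U 𝒜 I (d + e) ≤ 𝒜 (d + e))
  have h1 := LinearMap.finrank_range_add_finrank_ker (psi 𝒜 I f d e)
  rw [Module.finrank_prod] at h1
  rw [range_psi 𝒜 I hI f d e hf] at h1
  have h2 := LinearMap.finrank_range_of_inj (theta_injective 𝒜 I f d e)
  rw [range_theta 𝒜 I f d e hf hfI] at h2
  rw [h2]
  exact h1

end graded

section poly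
open Polynomial

/-- coefficient `N-1` of `P - P(X + r)` -/
lemma coeff_sub_taylor (P : ℚ[X]) (r : ℚ) (N : ℕ) (hN : P.natDegree = N + 1) :
    (P - taylor r P).coeff N = -((N + 1 : ℕ) : ℚ) * P.leadingCoeff * r := by
  rw [coeff_sub, taylor_coeff]
  have hdeg : (hasseDeriv N P).natDegree < 2 := by
    have := natDegree_hasseDeriv_le P N
    omega
  rw [eval_eq_sum_range' hdeg, Finset.sum_range_succ, Finset.sum_range_one, hasseDeriv_coeff,
    hasseDeriv_coeff]
  simp only [zero_add, pow_zero, mul_one, pow_one, Nat.choose_self, Nat.cast_one, one_mul]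
  rw [add_comm 1 N, Nat.choose_succ_self_right, leadingCoeff, hN]
  ring

lemma natDegree_sub_taylor (P : ℚ[X]) (r : ℚ) (hr : r ≠ 0) (N : ℕ) (hN : P.natDegree = N + 1) :
    (P - taylor r P).natDegree = N ∧
      (P - taylor r P).leadingCoeff = -((N + 1 : ℕ) : ℚ) * P.leadingCoeff * r := by
  have hP0 : P ≠ 0 := by
    rintro rfl; simp at hN
  have hc := coeff_sub_taylor P r N hN
  have hne : (P - taylor r P).coeff N ≠ 0 := by
    rw [hc]
    have : P.leadingCoeff ≠ 0 := leadingCoeff_ne_zero.mpr hP0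
    have h2 : ((N + 1 : ℕ) : ℚ) ≠ 0 := by positivity
    exact mul_ne_zero (mul_ne_zero (neg_ne_zero.mpr h2) this) hr
  have hle : (P - taylor r P).natDegree ≤ N := by
    have hlt : (P - taylor r P).degree < P.degree := by
      apply degree_sub_lt_left
      · rw [degree_taylor]
      · exact hP0
      · rw [leadingCoeff_taylor]
    have := natDegree_lt_natDegree (fun h => by rw [h] at hne; simp at hne) hlt
    omega
  have hdeg : (P - taylor r P).natDegree = N :=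
    le_antisymm hle (le_natDegree_of_ne_zero hne)
  exact ⟨hdeg, by rw [leadingCoeff, hdeg, hc]⟩


end poly

section main
open Polynomial
variable {k : Type u} {A : Type v} [Field k] [CommRing A] [Algebra k A]
  (𝒜 : ℕ → Submodule k A) [GradedAlgebra 𝒜]

theorem hilb_hypersurface (hfin : ∀ m, FiniteDimensional k (𝒜 m))
    (I : Ideal A) [I.IsPrime] (hI : I.IsHomogeneous 𝒜) (f : A) (d : ℕ) (hd : 0 < d)
    (hf : f ∈ 𝒜 d) (hfI : f ∉ I) (P Q : ℚ[X])
    (hP : ∃ m₀ : ℕ, ∀ m : ℕ, m₀ ≤ m → P.eval (m : ℚ) =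
      (Module.finrank k ↥(𝒜 m) : ℚ) -
        Module.finrank k ↥(Submodule.restrictScalars k I ⊓ 𝒜 m))
    (hQ : ∃ m₀ : ℕ, ∀ m : ℕ, m₀ ≤ m → Q.eval (m : ℚ) =
      (Module.finrank k ↥(𝒜 m) : ℚ) -
        Module.finrank k ↥(Submodule.restrictScalars k (I ⊔ Ideal.span {f}) ⊓ 𝒜 m))
    (hdim : 1 ≤ P.natDegree) :
    Q.natDegree + 1 = P.natDegree ∧
      (Q.natDegree.factorial : ℚ) * Q.leadingCoeff =
        d * ((P.natDegree.factorial : ℚ) * P.leadingCoeff) := by
  obtain ⟨m₁, hP⟩ := hP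
  obtain ⟨m₂, hQ⟩ := hQ
  have hQeq : Q = P - taylor (-(d : ℚ)) P := by
    apply Polynomial.eq_of_infinite_eval_eq
    apply Set.infinite_of_injective_forall_mem
      (f := fun j : ℕ => ((d + (max m₁ m₂ + j) : ℕ) : ℚ))
    · intro a b hab
      have hab' : ((d + (max m₁ m₂ + a) : ℕ) : ℚ) = ((d + (max m₁ m₂ + b) : ℕ) : ℚ) := hab
      have : d + (max m₁ m₂ + a) = d + (max m₁ m₂ + b) := by exact_mod_cast hab'
      omega
    · intro j
      set e := max m₁ m₂ + j with he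
      have he1 : m₁ ≤ e := le_trans (le_max_left _ _) (Nat.le_add_right _ _)
      have he2 : m₂ ≤ e := le_trans (le_max_right _ _) (Nat.le_add_right _ _)
      change Q.eval ((d + e : ℕ) : ℚ) = (P - taylor (-(d : ℚ)) P).eval ((d + e : ℕ) : ℚ)
      rw [eval_sub, taylor_eval, hQ (d + e) (by omega), hP (d + e) (by omega)]
      have hcast : ((d + e : ℕ) : ℚ) + -(d : ℚ) = (e : ℚ) := by push_cast; ring
      rw [hcast, hP e he1]
      have key := finrank_eq 𝒜 hfin I hI f d e hf hfI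
      have key' : (Module.finrank k ↥(U 𝒜 (I ⊔ Ideal.span {f}) (d + e)) : ℚ) +
          Module.finrank k ↥(U 𝒜 I e) =
          Module.finrank k ↥(U 𝒜 I (d + e)) + Module.finrank k ↥(𝒜 e) := by exact_mod_cast key
      change _ - (Module.finrank k ↥(U 𝒜 (I ⊔ Ideal.span {f}) (d + e)) : ℚ) =
        _ - (Module.finrank k ↥(U 𝒜 I (d + e)) : ℚ) - (_ - (Module.finrank k ↥(U 𝒜 I e) : ℚ))
      linarith
  obtain ⟨N, hN⟩ : ∃ N, P.natDegree = N + 1 := ⟨P.natDegree - 1, by omega⟩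
  have hd' : (-(d : ℚ)) ≠ 0 := by
    have : (d : ℚ) ≠ 0 := by exact_mod_cast hd.ne'
    exact neg_ne_zero.mpr this
  obtain ⟨h1, h2⟩ := natDegree_sub_taylor P (-(d : ℚ)) hd' N hN
  rw [← hQeq] at h1 h2
  refine ⟨by rw [h1, hN], ?_⟩
  rw [h1, h2, hN, Nat.factorial_succ]
  push_cast
  ring

end main

end Groth.Agent.H2.HilbHyper
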