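import Mathlib
import Groth.Agent.Lib.Helper2.HilbHyper

/-! Hilbert functions of homogeneous ideals: additivity along `0 → A/(I:a)(-d) → A/I → A/(I+a) → 0`.
(helper2, ProjDeg cluster S10905-S10907) -/

set_option autoImplicit false
universe u v

open DirectSum

namespace Groth.Agent.H2.HilbDim
open Groth.Agent.H2.HilbHyper

section graded
variable {k : Type u} {A : Type v} [Field k] [CommRing A] [Algebra k A]
  (𝒜 : ℕ → Submodule k A) [GradedAlgebra 𝒜]

/-- the colon ideal `I : a` -/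
def col (I : Ideal A) (a : A) : Ideal A := Submodule.comap (LinearMap.mulLeft A a) I

omit [Field k] [Algebra k A] in
lemma mem_col {I : Ideal A} {a x : A} : x ∈ col I a ↔ a * x ∈ I := Iff.rfl

omit [Field k] [Algebra k A] in
lemma le_col (I : Ideal A) (a : A) : I ≤ col I a := fun _ hx => I.mul_mem_left a hx

lemma col_isHomogeneous {I : Ideal A} (hI : I.IsHomogeneous 𝒜) {a : A} {d : ℕ} (ha : a ∈ 𝒜 d) :
    (col I a).IsHomogeneous 𝒜 := by
  intro i x hx
  rw [mem_col] at hx ⊢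
  have := hI (d + i) hx
  rwa [coe_decompose_mul_add_of_left_mem 𝒜 ha] at this

omit [Field k] [Algebra k A] in
lemma col_eq_of_isPrime {I : Ideal A} [I.IsPrime] {a : A} (ha : a ∉ I) : col I a = I := by
  refine le_antisymm (fun x hx => ?_) (le_col I a)
  exact (Ideal.IsPrime.mem_or_mem inferInstance (mem_col.mp hx)).resolve_left ha

omit [Field k] [Algebra k A] in
lemma col_mul_le (I : Ideal A) (a : A) : col I a * (I ⊔ Ideal.span {a}) ≤ I := by
  rw [Ideal.mul_le]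
  intro x hx y hy
  obtain ⟨i, hi, z, hz, rfl⟩ := Submodule.mem_sup.mp hy
  obtain ⟨g, rfl⟩ := Ideal.mem_span_singleton'.mp hz
  rw [mul_add]
  refine I.add_mem (I.mul_mem_left x hi) ?_
  have : x * (g * a) = g * (a * x) := by ring
  rw [this]
  exact I.mul_mem_left g (mem_col.mp hx)

lemma range_theta' (I : Ideal A) (f : A) (d e : ℕ) (hf : f ∈ 𝒜 d) :
    LinearMap.range (theta 𝒜 I f d e) = U 𝒜 (col I f) e := by
  apply le_antisymm
  · rintro _ ⟨⟨⟨x1, x2⟩, hx⟩, rfl⟩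
    have hx' : (x1 : A) + f * (x2 : A) = 0 := by
      have := LinearMap.mem_ker.mp hx
      rwa [psi_apply] at this
    refine ⟨?_, x2.2⟩
    change (x2 : A) ∈ col I f
    rw [mem_col]
    have h3 : f * (x2 : A) = -(x1 : A) := eq_neg_of_add_eq_zero_right hx'
    rw [h3]
    exact I.neg_mem x1.2.1
  · rintro g ⟨hg1, hg2⟩
    change g ∈ col I f at hg1
    rw [mem_col] at hg1
    have hmem : -(f * g) ∈ U 𝒜 I (d + e) :=
      ⟨I.neg_mem hg1, (𝒜 (d + e)).neg_mem (SetLike.mul_mem_graded hf hg2)⟩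
    refine ⟨⟨(⟨-(f * g), hmem⟩, ⟨g, hg2⟩), ?_⟩, rfl⟩
    rw [LinearMap.mem_ker, psi_apply]
    simp

theorem finrank_eq' (hfin : ∀ m, FiniteDimensional k (𝒜 m))
    (I : Ideal A) (hI : I.IsHomogeneous 𝒜) (f : A) (d e : ℕ) (hf : f ∈ 𝒜 d) :
    Module.finrank k (U 𝒜 (I ⊔ Ideal.span {f}) (d + e)) + Module.finrank k (U 𝒜 (col I f) e) =
      Module.finrank k (U 𝒜 I (d + e)) + Module.finrank k (𝒜 e) := by
  have := hfin (d + e)
  have := hfin e
  have hU : FiniteDimensional k (U 𝒜 I (d + e)) :=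
    Submodule.finiteDimensional_of_le (inf_le_right : U 𝒜 I (d + e) ≤ 𝒜 (d + e))
  have h1 := LinearMap.finrank_range_add_finrank_ker (psi 𝒜 I f d e)
  rw [Module.finrank_prod] at h1
  rw [range_psi 𝒜 I hI f d e hf] at h1
  have h2 := LinearMap.finrank_range_of_inj (theta_injective 𝒜 I f d e)
  rw [range_theta' 𝒜 I f d e hf] at h2
  rw [h2]
  exact h1

/-- the Hilbert function of `A/I` -/
noncomputable def hfun (I : Ideal A) (m : ℕ) : ℚ :=
  (Module.finrank k ↥(𝒜 m) : ℚ) - Module.finrank k ↥(Submodule.restrictScalars k I ⊓ 𝒜 m)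

theorem hfun_add (hfin : ∀ m, FiniteDimensional k (𝒜 m))
    (I : Ideal A) (hI : I.IsHomogeneous 𝒜) (a : A) (d e : ℕ) (ha : a ∈ 𝒜 d) :
    hfun 𝒜 I (d + e) = hfun 𝒜 (col I a) e + hfun 𝒜 (I ⊔ Ideal.span {a}) (d + e) := by
  have key := finrank_eq' 𝒜 hfin I hI a d e ha
  have key' : (Module.finrank k ↥(U 𝒜 (I ⊔ Ideal.span {a}) (d + e)) : ℚ) +
      Module.finrank k ↥(U 𝒜 (col I a) e) =
      Module.finrank k ↥(U 𝒜 I (d + e)) + Module.finrank k ↥(𝒜 e) := by exact_mod_cast key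
  change _ - (Module.finrank k ↥(U 𝒜 I (d + e)) : ℚ) =
    (_ - (Module.finrank k ↥(U 𝒜 (col I a) e) : ℚ)) +
      (_ - (Module.finrank k ↥(U 𝒜 (I ⊔ Ideal.span {a}) (d + e)) : ℚ))
  linarith

omit [GradedAlgebra 𝒜] in
theorem hfun_nonneg (hfin : ∀ m, FiniteDimensional k (𝒜 m)) (I : Ideal A) (m : ℕ) :
    0 ≤ hfun 𝒜 I m := by
  have := hfin m
  have h : Module.finrank k ↥(Submodule.restrictScalars k I ⊓ 𝒜 m) ≤ Module.finrank k ↥(𝒜 m) :=
    Submodule.finrank_mono inf_le_right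
  have h' : (Module.finrank k ↥(Submodule.restrictScalars k I ⊓ 𝒜 m) : ℚ) ≤
      Module.finrank k ↥(𝒜 m) := by exact_mod_cast h
  unfold hfun
  linarith

omit [GradedAlgebra 𝒜] in
theorem hfun_eq_zero_of_le (I : Ideal A) (m : ℕ)
    (h : 𝒜 m ≤ Submodule.restrictScalars k I) : hfun 𝒜 I m = 0 := by
  unfold hfun
  rw [inf_eq_right.mpr h, sub_self]

omit [GradedAlgebra 𝒜] in
theorem le_of_hfun_eq_zero (hfin : ∀ m, FiniteDimensional k (𝒜 m)) (I : Ideal A) (m : ℕ)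
    (h : hfun 𝒜 I m = 0) : 𝒜 m ≤ Submodule.restrictScalars k I := by
  have := hfin m
  unfold hfun at h
  have h1 : Module.finrank k ↥(Submodule.restrictScalars k I ⊓ 𝒜 m) = Module.finrank k ↥(𝒜 m) := by
    have : (Module.finrank k ↥(Submodule.restrictScalars k I ⊓ 𝒜 m) : ℚ) =
        Module.finrank k ↥(𝒜 m) := by linarith
    exact_mod_cast this
  have h2 := Submodule.eq_of_le_of_finrank_eq (inf_le_right :
    Submodule.restrictScalars k I ⊓ 𝒜 m ≤ 𝒜 m) h1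
  exact inf_eq_right.mp h2

omit [GradedAlgebra 𝒜] in
theorem one_le_hfun_of_notMem (hfin : ∀ m, FiniteDimensional k (𝒜 m)) (I : Ideal A) (m : ℕ)
    {x : A} (hx : x ∈ 𝒜 m) (hxI : x ∉ I) : 1 ≤ hfun 𝒜 I m := by
  have := hfin m
  have hlt : Submodule.restrictScalars k I ⊓ 𝒜 m < 𝒜 m := by
    refine lt_of_le_of_ne inf_le_right fun h => hxI ?_
    have : x ∈ Submodule.restrictScalars k I ⊓ 𝒜 m := by rw [h]; exact hx
    exact this.1
  have h1 := Submodule.finrank_lt_finrank_of_lt hlt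
  have h2 : (Module.finrank k ↥(Submodule.restrictScalars k I ⊓ 𝒜 m) : ℚ) + 1 ≤
      Module.finrank k ↥(𝒜 m) := by exact_mod_cast h1
  unfold hfun
  linarith

omit [GradedAlgebra 𝒜] in
theorem hfun_top (m : ℕ) : hfun 𝒜 (⊤ : Ideal A) m = 0 :=
  hfun_eq_zero_of_le 𝒜 ⊤ m (fun _ _ => trivial)

end graded

end Groth.Agent.H2.HilbDim
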