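import Mathlib
import Groth.Agent.Lib.Helper2.HilbDim1

/-! Hilbert series of quotients by regular sequences of homogeneous elements.
(helper2, GrCI cluster S11838-S11840) -/

set_option autoImplicit false
universe u v

open DirectSum

namespace Groth.Agent.H2.GrCI
open Groth.Agent.H2.HilbHyper Groth.Agent.H2.HilbDim

section graded
variable {F : Type u} {A : Type v} [Field F] [CommRing A] [Algebra F A]
  (𝒜 : ℕ → Submodule F A) [GradedAlgebra 𝒜]

/-- the Hilbert function of `A/I`, via images of graded pieces -/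
noncomputable def hN (I : Ideal A) (u : ℕ) : ℕ :=
  Module.finrank F ↥(Submodule.map (Ideal.Quotient.mkₐ F I).toLinearMap (𝒜 u))

omit [GradedAlgebra 𝒜] in
theorem hN_add_finrank (hfin : ∀ m, FiniteDimensional F (𝒜 m)) (I : Ideal A) (u : ℕ) :
    hN 𝒜 I u + Module.finrank F ↥(Submodule.restrictScalars F I ⊓ 𝒜 u) =
      Module.finrank F ↥(𝒜 u) := by
  have := hfin u
  set φ : ↥(𝒜 u) →ₗ[F] (A ⧸ I) := (Ideal.Quotient.mkₐ F I).toLinearMap.comp (𝒜 u).subtype with hφ
  have h1 := LinearMap.finrank_range_add_finrank_ker φ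
  have h2 : LinearMap.range φ = Submodule.map (Ideal.Quotient.mkₐ F I).toLinearMap (𝒜 u) := by
    rw [hφ, LinearMap.range_comp, Submodule.range_subtype]
  have h3 : LinearMap.ker φ = Submodule.comap (𝒜 u).subtype (Submodule.restrictScalars F I) := by
    ext x
    simp only [hφ, LinearMap.mem_ker, LinearMap.comp_apply, Submodule.subtype_apply,
      Submodule.mem_comap, Submodule.restrictScalars_mem, AlgHom.toLinearMap_apply,
      Ideal.Quotient.mkₐ_eq_mk, Ideal.Quotient.eq_zero_iff_mem]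
  have h4 : Module.finrank F ↥(Submodule.comap (𝒜 u).subtype (Submodule.restrictScalars F I)) =
      Module.finrank F ↥(Submodule.restrictScalars F I ⊓ 𝒜 u) := by
    have e1 : Submodule.comap (𝒜 u).subtype (Submodule.restrictScalars F I) =
        Submodule.comap (𝒜 u).subtype (Submodule.restrictScalars F I ⊓ 𝒜 u) := by
      ext x
      simp only [Submodule.mem_comap, Submodule.mem_inf, Submodule.subtype_apply]
      exact ⟨fun h => ⟨h, x.2⟩, fun h => h.1⟩
    rw [e1]
    exact LinearEquiv.finrank_eq (Submodule.comapSubtypeEquivOfLe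
      (inf_le_right : Submodule.restrictScalars F I ⊓ 𝒜 u ≤ 𝒜 u))
  rw [h2, h3, h4] at h1
  exact h1

omit [GradedAlgebra 𝒜] in
theorem hN_cast (hfin : ∀ m, FiniteDimensional F (𝒜 m)) (I : Ideal A) (u : ℕ) :
    (hN 𝒜 I u : ℚ) = hfun 𝒜 I u := by
  have h := hN_add_finrank 𝒜 hfin I u
  have h' : (hN 𝒜 I u : ℚ) + Module.finrank F ↥(Submodule.restrictScalars F I ⊓ 𝒜 u) =
      Module.finrank F ↥(𝒜 u) := by exact_mod_cast h
  unfold hfun
  linarith

theorem inf_sup_span_of_lt {I : Ideal A} (hI : I.IsHomogeneous 𝒜) {a : A} {e u : ℕ}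
    (ha : a ∈ 𝒜 e) (hu : u < e) :
    Submodule.restrictScalars F (I ⊔ Ideal.span {a}) ⊓ 𝒜 u = Submodule.restrictScalars F I ⊓ 𝒜 u := by
  apply le_antisymm
  · rintro x ⟨hx1, hx2⟩
    refine ⟨?_, hx2⟩
    change x ∈ I ⊔ Ideal.span {a} at hx1
    change x ∈ I
    obtain ⟨i, hi, z, hz, rfl⟩ := Submodule.mem_sup.mp hx1
    obtain ⟨g, rfl⟩ := Ideal.mem_span_singleton'.mp hz
    have h1 : ((decompose 𝒜 (i + g * a) u : 𝒜 u) : A) = i + g * a := decompose_of_mem_same 𝒜 hx2
    rw [decompose_add, DirectSum.add_apply, Submodule.coe_add,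
      coe_decompose_mul_of_right_mem_of_not_le 𝒜 ha (by omega), add_zero] at h1
    rw [← h1]
    exact hI u hi
  · exact inf_le_inf_right _ (fun x hx => Ideal.mem_sup_left hx)

theorem hN_sup_span_of_lt {I : Ideal A} (hI : I.IsHomogeneous 𝒜)
    (hfin : ∀ m, FiniteDimensional F (𝒜 m)) {a : A} {e u : ℕ}
    (ha : a ∈ 𝒜 e) (hu : u < e) : hN 𝒜 (I ⊔ Ideal.span {a}) u = hN 𝒜 I u := by
  have h1 := hN_add_finrank 𝒜 hfin (I ⊔ Ideal.span {a}) u
  have h2 := hN_add_finrank 𝒜 hfin I u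
  rw [inf_sup_span_of_lt 𝒜 hI ha hu] at h1
  omega

theorem hN_sup_span_add {I : Ideal A} (hI : I.IsHomogeneous 𝒜)
    (hfin : ∀ m, FiniteDimensional F (𝒜 m)) {a : A} {e : ℕ}
    (ha : a ∈ 𝒜 e) (hcol : col I a = I) (m : ℕ) :
    hN 𝒜 I (e + m) = hN 𝒜 I m + hN 𝒜 (I ⊔ Ideal.span {a}) (e + m) := by
  have h := hfun_add 𝒜 hfin I hI a e m ha
  rw [hcol, ← hN_cast 𝒜 hfin, ← hN_cast 𝒜 hfin, ← hN_cast 𝒜 hfin] at h
  exact_mod_cast h

/-- the Hilbert series of `A/I` -/
noncomputable def HS (I : Ideal A) : PowerSeries ℤ := PowerSeries.mk fun u => (hN 𝒜 I u : ℤ)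

theorem HS_sup_span {I : Ideal A} (hI : I.IsHomogeneous 𝒜)
    (hfin : ∀ m, FiniteDimensional F (𝒜 m)) {a : A} {e : ℕ}
    (ha : a ∈ 𝒜 e) (hcol : col I a = I) :
    HS 𝒜 (I ⊔ Ideal.span {a}) = (1 - PowerSeries.X ^ e) * HS 𝒜 I := by
  ext u
  rw [sub_mul, one_mul, map_sub, PowerSeries.coeff_X_pow_mul']
  simp only [HS, PowerSeries.coeff_mk]
  by_cases hu : e ≤ u
  · rw [if_pos hu]
    obtain ⟨m, rfl⟩ := Nat.exists_eq_add_of_le hu
    have := hN_sup_span_add 𝒜 hI hfin ha hcol m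
    rw [Nat.add_sub_cancel_left]
    omega
  · rw [if_neg hu, sub_zero, hN_sup_span_of_lt 𝒜 hI hfin ha (by omega)]

end graded

section reg
variable {R : Type*} [CommRing R]

theorem mem_of_mul_mem_of_isWeaklyRegular {rs : List R}
    (h : RingTheory.Sequence.IsWeaklyRegular R rs) (i : ℕ) (hi : i < rs.length) (x : R)
    (hx : rs[i] * x ∈ Ideal.ofList (rs.take i)) : x ∈ Ideal.ofList (rs.take i) := by
  have h1 := h.regular_mod_prev i hi
  have h2 : (Ideal.ofList (rs.take i) • ⊤ : Submodule R R) = Ideal.ofList (rs.take i) := by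
    rw [smul_eq_mul, Ideal.mul_top]
  have h3 := @h1 (Submodule.Quotient.mk x) 0 (by
    simp only [smul_zero]
    rw [← Submodule.Quotient.mk_smul, Submodule.Quotient.mk_eq_zero, h2, smul_eq_mul]
    exact hx)
  rw [Submodule.Quotient.mk_eq_zero, h2] at h3
  exact h3

theorem ofList_ofFn {m : ℕ} (f : Fin m → R) :
    Ideal.ofList (List.ofFn f) = Ideal.span (Set.range f) := by
  unfold Ideal.ofList
  congr 1
  ext r
  simp [List.mem_ofFn]

theorem ofList_take_succ (rs : List R) (i : ℕ) (hi : i < rs.length) :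
    Ideal.ofList (rs.take (i + 1)) = Ideal.ofList (rs.take i) ⊔ Ideal.span {rs[i]} := by
  rw [List.take_succ_eq_append_getElem hi, Ideal.ofList_append, Ideal.ofList_singleton]

end reg

section seq
variable {F : Type u} {A : Type v} [Field F] [CommRing A] [Algebra F A]
  (𝒜 : ℕ → Submodule F A) [GradedAlgebra 𝒜]

theorem ofList_take_isHomogeneous {k : ℕ} (g : Fin k → A) (ε : Fin k → ℕ)
    (hg : ∀ i, g i ∈ 𝒜 (ε i)) (j : ℕ) :
    (Ideal.ofList ((List.ofFn g).take j)).IsHomogeneous 𝒜 := by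
  unfold Ideal.ofList
  apply Ideal.homogeneous_span
  intro x hx
  have hx' : x ∈ List.ofFn g := List.mem_of_mem_take hx
  obtain ⟨i, rfl⟩ := (List.mem_ofFn' g x).mp hx'
  exact ⟨ε i, hg i⟩

/-- the Hilbert series of the quotient by an initial segment of a regular sequence -/
theorem HS_ofList_take (hfin : ∀ m, FiniteDimensional F (𝒜 m)) {k : ℕ} (g : Fin k → A)
    (ε : Fin k → ℕ) (hg : ∀ i, g i ∈ 𝒜 (ε i))
    (hreg : RingTheory.Sequence.IsWeaklyRegular A (List.ofFn g)) (j : ℕ) (hj : j ≤ k) :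
    HS 𝒜 (Ideal.ofList ((List.ofFn g).take j)) =
      HS 𝒜 ⊥ * ∏ i ∈ Finset.univ.filter (fun i : Fin k => (i : ℕ) < j),
        (1 - PowerSeries.X ^ (ε i)) := by
  induction j with
  | zero =>
    simp [Ideal.ofList_nil]
  | succ j ih =>
    have hjk : j < k := hj
    have hlen : j < (List.ofFn g).length := by rw [List.length_ofFn]; exact hjk
    have hget : (List.ofFn g)[j] = g ⟨j, hjk⟩ := by simp
    rw [ofList_take_succ _ j hlen]
    have hhom := ofList_take_isHomogeneous 𝒜 g ε hg j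
    have hcol : col (Ideal.ofList ((List.ofFn g).take j)) ((List.ofFn g)[j]) =
        Ideal.ofList ((List.ofFn g).take j) := by
      refine le_antisymm (fun x hx => ?_) (le_col _ _)
      exact mem_of_mul_mem_of_isWeaklyRegular hreg j hlen x (mem_col.mp hx)
    rw [HS_sup_span 𝒜 hhom hfin (e := ε ⟨j, hjk⟩) (by rw [hget]; exact hg _) hcol, ih hjk.le]
    have hfilter : Finset.univ.filter (fun i : Fin k => (i : ℕ) < j + 1) =
        insert (⟨j, hjk⟩ : Fin k) (Finset.univ.filter (fun i : Fin k => (i : ℕ) < j)) := by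
      ext i
      simp only [Finset.mem_filter, Finset.mem_univ, true_and, Finset.mem_insert, Fin.ext_iff]
      omega
    rw [hfilter, Finset.prod_insert (by simp)]
    ring

theorem HS_span_range (hfin : ∀ m, FiniteDimensional F (𝒜 m)) {k : ℕ} (g : Fin k → A)
    (ε : Fin k → ℕ) (hg : ∀ i, g i ∈ 𝒜 (ε i))
    (hreg : RingTheory.Sequence.IsWeaklyRegular A (List.ofFn g)) :
    HS 𝒜 (Ideal.span (Set.range g)) = HS 𝒜 ⊥ * ∏ i : Fin k, (1 - PowerSeries.X ^ (ε i)) := by
  have h := HS_ofList_take 𝒜 hfin g ε hg hreg k le_rfl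
  have h1 : (List.ofFn g).take k = List.ofFn g := by
    apply List.take_of_length_le
    rw [List.length_ofFn]
  rw [h1, ofList_ofFn] at h
  rw [h]
  congr 1
  apply Finset.prod_congr _ (fun _ _ => rfl)
  ext i
  simp

end seq

end Groth.Agent.H2.GrCI
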