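import Mathlib
import Groth.Agent.Lib.Helper2.GrCI1

/-! Hilbert series of weighted polynomial rings and of graded complete intersections.
(helper2, GrCI cluster S11838-S11840) -/

set_option autoImplicit false
universe u

open DirectSum MvPolynomial

namespace Groth.Agent.H2.GrCI
open Groth.Agent.H2.HilbHyper Groth.Agent.H2.HilbDim

section wt
attribute [local instance] MvPolynomial.weightedGradedAlgebra
variable {F : Type u} [Field F] {k : ℕ} (δ : Fin k → ℕ)

theorem ofList_take_X (i : ℕ) :
    Ideal.ofList ((List.ofFn (X : Fin k → MvPolynomial (Fin k) F)).take i) =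
      Ideal.span (X '' {l : Fin k | (l : ℕ) < i}) := by
  unfold Ideal.ofList
  congr 1
  ext r
  simp only [Set.mem_setOf_eq, List.mem_take_iff_getElem, List.length_ofFn, List.getElem_ofFn,
    Set.mem_image]
  constructor
  · rintro ⟨j, hj, rfl⟩
    have hj' : j < i ∧ j < k := by omega
    exact ⟨⟨j, hj'.2⟩, hj'.1, rfl⟩
  · rintro ⟨l, hl, rfl⟩
    exact ⟨l, by have := l.2; omega, rfl⟩

theorem isWeaklyRegular_X :
    RingTheory.Sequence.IsWeaklyRegular (MvPolynomial (Fin k) F)
      (List.ofFn (X : Fin k → MvPolynomial (Fin k) F)) := by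
  classical
  refine ⟨fun i hi => ?_⟩
  rw [isSMulRegular_quotient_iff_mem_of_smul_mem]
  intro p hp
  have hik : i < k := by rwa [List.length_ofFn] at hi
  rw [smul_eq_mul, Ideal.mul_top] at hp ⊢
  rw [ofList_take_X, mem_ideal_span_X_image] at hp ⊢
  intro m hm
  have hget : (List.ofFn (X : Fin k → MvPolynomial (Fin k) F))[i] = X ⟨i, hik⟩ := by simp
  rw [hget, smul_eq_mul] at hp
  have hm' : m + Finsupp.single (⟨i, hik⟩ : Fin k) 1 ∈ (X (⟨i, hik⟩ : Fin k) * p).support := by
    rw [mem_support_iff, mul_comm, coeff_mul_X]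
    exact mem_support_iff.mp hm
  obtain ⟨l, hl, hne⟩ := hp _ hm'
  refine ⟨l, hl, ?_⟩
  have hli : l ≠ ⟨i, hik⟩ := by
    intro h
    rw [h] at hl
    simp at hl
  rw [Finsupp.add_apply, Finsupp.single_apply, if_neg (Ne.symm hli), add_zero] at hne
  exact hne

variable (hδ : ∀ i, 0 < δ i)
include hδ

theorem hfin_weighted (u : ℕ) :
    FiniteDimensional F (weightedHomogeneousSubmodule F δ u) :=
  Module.Finite.iff_fg.mpr (weightedHomogeneousSubmodule_fg F δ (fun i => (hδ i).ne') u)

theorem eq_zero_of_weight_eq_zero (m : Fin k →₀ ℕ) (hm : Finsupp.weight δ m = 0) : m = 0 := by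
  classical
  ext l
  by_contra hne
  have h1 : Finsupp.weight δ m = ∑ i, m i * δ i := by
    rw [Finsupp.weight_apply, Finsupp.sum_fintype _ _ (fun i => by simp)]
    simp
  rw [h1] at hm
  have h2 := (Finset.sum_eq_zero_iff.mp hm) l (Finset.mem_univ _)
  have h3 := hδ l
  rcases Nat.mul_eq_zero.mp h2 with h | h
  · exact hne h
  · omega

omit hδ in
theorem le_span_X_of_pos (u : ℕ) (hu : 0 < u) (p : MvPolynomial (Fin k) F)
    (hp : p ∈ weightedHomogeneousSubmodule F δ u) :
    p ∈ Ideal.span (Set.range (X : Fin k → MvPolynomial (Fin k) F)) := by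
  classical
  rw [← Set.image_univ, mem_ideal_span_X_image]
  intro m hm
  have hw : Finsupp.weight δ m = u := hp (mem_support_iff.mp hm)
  by_contra hcon
  push Not at hcon
  have hm0 : m = 0 := by
    ext l
    exact hcon l (Set.mem_univ _)
  rw [hm0, map_zero] at hw
  omega

theorem hN_span_X (u : ℕ) :
    hN (weightedHomogeneousSubmodule F δ)
      (Ideal.span (Set.range (X : Fin k → MvPolynomial (Fin k) F))) u = if u = 0 then 1 else 0 := by
  classical
  set I := Ideal.span (Set.range (X : Fin k → MvPolynomial (Fin k) F)) with hI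
  by_cases hu : u = 0
  · subst hu
    rw [if_pos rfl]
    unfold hN
    have h1 : weightedHomogeneousSubmodule F δ 0 = Submodule.span F {(1 : MvPolynomial (Fin k) F)} := by
      apply le_antisymm
      · intro p hp
        have hsupp : ∀ m ∈ p.support, m = 0 := fun m hm =>
          eq_zero_of_weight_eq_zero δ hδ m (hp (mem_support_iff.mp hm))
        have hp' : p = C (coeff 0 p) := by
          ext m
          rw [coeff_C]
          by_cases hm : 0 = m
          · rw [if_pos hm, hm]
          · rw [if_neg hm]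
            by_contra hne
            exact hm (hsupp m (mem_support_iff.mpr hne)).symm
        rw [hp', Submodule.mem_span_singleton]
        exact ⟨coeff 0 p, by rw [Algebra.smul_def, mul_one]; rfl⟩
      · rw [Submodule.span_le, Set.singleton_subset_iff]
        exact isWeightedHomogeneous_one F δ
    rw [h1, Submodule.map_span, Set.image_singleton]
    apply finrank_span_singleton
    intro h0
    have h2 : (1 : MvPolynomial (Fin k) F) ∈ I := by
      rw [← Ideal.Quotient.eq_zero_iff_mem]
      simpa using h0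
    rw [hI, ← Set.image_univ, mem_ideal_span_X_image] at h2
    obtain ⟨l, _, hl⟩ := h2 0 (by
      rw [mem_support_iff]
      simp)
    exact hl rfl
  · rw [if_neg hu]
    unfold hN
    have h1 : Submodule.map (Ideal.Quotient.mkₐ F I).toLinearMap
        (weightedHomogeneousSubmodule F δ u) = ⊥ := by
      rw [eq_bot_iff]
      rintro _ ⟨p, hp, rfl⟩
      rw [Submodule.mem_bot]
      exact Ideal.Quotient.eq_zero_iff_mem.mpr
        (le_span_X_of_pos δ u (Nat.pos_of_ne_zero hu) p hp)
    rw [h1, finrank_bot]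

theorem HS_span_X :
    HS (weightedHomogeneousSubmodule F δ)
      (Ideal.span (Set.range (X : Fin k → MvPolynomial (Fin k) F))) = 1 := by
  ext u
  rw [HS, PowerSeries.coeff_mk, hN_span_X δ hδ, PowerSeries.coeff_one]
  split_ifs <;> simp

theorem HS_bot_mul :
    HS (weightedHomogeneousSubmodule F δ) (⊥ : Ideal (MvPolynomial (Fin k) F)) *
      ∏ i : Fin k, (1 - PowerSeries.X ^ (δ i)) = 1 := by
  rw [← HS_span_range (weightedHomogeneousSubmodule F δ) (hfin_weighted δ hδ) X δ
    (fun i => isWeightedHomogeneous_X F δ i) isWeaklyRegular_X, HS_span_X δ hδ]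

/-- S11838 -/
theorem hilbertSeries_ci (g : Fin k → MvPolynomial (Fin k) F) (ε : Fin k → ℕ)
    (hg : ∀ i, IsWeightedHomogeneous δ (g i) (ε i))
    (hreg : RingTheory.Sequence.IsWeaklyRegular (MvPolynomial (Fin k) F) (List.ofFn g)) :
    HS (weightedHomogeneousSubmodule F δ) (Ideal.span (Set.range g)) *
      ∏ i : Fin k, (1 - PowerSeries.X ^ (δ i)) =
      ∏ i : Fin k, (1 - (PowerSeries.X : PowerSeries ℤ) ^ (ε i)) := by
  rw [HS_span_range (weightedHomogeneousSubmodule F δ) (hfin_weighted δ hδ) g ε hg hreg,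
    mul_assoc, mul_comm (∏ i : Fin k, (1 - (PowerSeries.X : PowerSeries ℤ) ^ (ε i))), ← mul_assoc,
    HS_bot_mul δ hδ, one_mul]

end wt

end Groth.Agent.H2.GrCI
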