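import Mathlib
import Groth.Agent.Lib.Helper1.CMFlat
import Groth.Agent.Lib.Helper6.CMKit
import Groth.Agent.Lib.Helper2.GrCI2
import Groth.Agent.Lib.Helper2.DimFG

/-! Homogeneous systems of parameters in weighted polynomial rings are regular sequences.
(helper2, GrCI S11849, S11846) -/

set_option autoImplicit false
universe u

open DirectSum MvPolynomial

namespace Groth.Agent.H2.GrCI
open Groth.Agent.H2.HilbHyper Groth.Agent.H2.HilbDim

theorem ringKrullDim_le_zero_of_isArtinianRing (B : Type*) [CommRing B] [IsArtinianRing B] :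
    ringKrullDim B ≤ 0 := by
  have hK : Ring.KrullDimLE 0 B := inferInstance
  exact_mod_cast Ring.krullDimLE_iff.mp hK

section irr
variable {F : Type u} [Field F] {k : ℕ}

/-- the irrelevant maximal ideal -/
noncomputable abbrev irr (F : Type u) [Field F] (k : ℕ) : Ideal (MvPolynomial (Fin k) F) :=
  Ideal.span (Set.range (X : Fin k → MvPolynomial (Fin k) F))

theorem irr_eq_ker : irr F k = RingHom.ker (constantCoeff : MvPolynomial (Fin k) F →+* F) := by
  classical
  ext x
  change x ∈ Ideal.span (Set.range (X : Fin k → MvPolynomial (Fin k) F)) ↔ _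
  rw [RingHom.mem_ker, ← Set.image_univ, mem_ideal_span_X_image, constantCoeff_eq]
  constructor
  · intro h
    by_contra hne
    obtain ⟨i, _, hi⟩ := h 0 (mem_support_iff.mpr hne)
    exact hi rfl
  · intro h m hm
    by_contra hcon
    push Not at hcon
    have hm0 : m = 0 := by
      ext l
      exact hcon l (Set.mem_univ _)
    rw [hm0, mem_support_iff] at hm
    exact hm h

instance irr_isMaximal : (irr F k).IsMaximal := by
  rw [irr_eq_ker]
  exact RingHom.ker_isMaximal_of_surjective _ (fun c => ⟨C c, constantCoeff_C _ c⟩)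

end irr

section wt
attribute [local instance] MvPolynomial.weightedGradedAlgebra
variable {F : Type u} [Field F] {k : ℕ} (δ : Fin k → ℕ) (hδ : ∀ i, 0 < δ i)
include hδ

theorem sub_proj_zero_mem_irr (s : MvPolynomial (Fin k) F) :
    s - ((decompose (weightedHomogeneousSubmodule F δ) s 0 :
      weightedHomogeneousSubmodule F δ 0) : MvPolynomial (Fin k) F) ∈ irr F k := by
  classical
  have hs := DirectSum.sum_support_decompose (weightedHomogeneousSubmodule F δ) s
  set T := (decompose (weightedHomogeneousSubmodule F δ) s).support with hT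
  have h1 : s - ((decompose (weightedHomogeneousSubmodule F δ) s 0 :
      weightedHomogeneousSubmodule F δ 0) : MvPolynomial (Fin k) F) =
      ∑ u ∈ T.erase 0, ((decompose (weightedHomogeneousSubmodule F δ) s u :
        weightedHomogeneousSubmodule F δ u) : MvPolynomial (Fin k) F) := by
    by_cases h0 : 0 ∈ T
    · rw [← Finset.add_sum_erase T _ h0] at hs
      rw [sub_eq_iff_eq_add, add_comm]
      exact hs.symm
    · have h0' : (decompose (weightedHomogeneousSubmodule F δ) s 0) = 0 := by
        rw [hT, DFinsupp.mem_support_iff, not_not] at h0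
        exact h0
      rw [h0', Submodule.coe_zero, sub_zero, Finset.erase_eq_of_notMem h0]
      exact hs.symm
  rw [h1]
  refine Ideal.sum_mem _ fun u hu => ?_
  have hu0 : u ≠ 0 := (Finset.mem_erase.mp hu).1
  exact le_span_X_of_pos δ u (Nat.pos_of_ne_zero hu0) _ (SetLike.coe_mem _)

theorem exists_C_of_mem_zero (p : MvPolynomial (Fin k) F)
    (hp : p ∈ weightedHomogeneousSubmodule F δ 0) : ∃ c : F, p = C c := by
  classical
  have hsupp : ∀ m ∈ p.support, m = 0 := fun m hm =>
    eq_zero_of_weight_eq_zero δ hδ m (hp (mem_support_iff.mp hm))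
  refine ⟨coeff 0 p, ?_⟩
  ext m
  rw [coeff_C]
  by_cases hm : 0 = m
  · rw [if_pos hm, hm]
  · rw [if_neg hm]
    by_contra hne
    exact hm (hsupp m (mem_support_iff.mpr hne)).symm

/-- a homogeneous ideal containing `s * p` with `s` outside the irrelevant ideal and `p`
homogeneous contains `p` -/
theorem mem_of_mul_mem_of_notMem_irr {I : Ideal (MvPolynomial (Fin k) F)}
    (hI : I.IsHomogeneous (weightedHomogeneousSubmodule F δ)) {s p : MvPolynomial (Fin k) F}
    {u : ℕ} (hp : p ∈ weightedHomogeneousSubmodule F δ u) (hs : s ∉ irr F k) (hsp : s * p ∈ I) :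
    p ∈ I := by
  have h1 := hI (0 + u) hsp
  rw [coe_decompose_mul_add_of_right_mem (weightedHomogeneousSubmodule F δ) hp] at h1
  obtain ⟨c, hc⟩ := exists_C_of_mem_zero δ hδ _
    (SetLike.coe_mem (decompose (weightedHomogeneousSubmodule F δ) s 0))
  have hc0 : c ≠ 0 := by
    rintro rfl
    apply hs
    have := sub_proj_zero_mem_irr δ hδ s
    rwa [hc, map_zero, sub_zero] at this
  rw [hc] at h1
  have h2 : p = C c⁻¹ * (C c * p) := by
    rw [← mul_assoc, ← C_mul, inv_mul_cancel₀ hc0, C_1, one_mul]
  rw [h2]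
  exact I.mul_mem_left _ h1

/-- to check that a homogeneous element is a nonzerodivisor modulo a homogeneous ideal it suffices
to check it on homogeneous elements -/
theorem col_le_of_homogeneous {I : Ideal (MvPolynomial (Fin k) F)}
    (hI : I.IsHomogeneous (weightedHomogeneousSubmodule F δ)) {a : MvPolynomial (Fin k) F} {e : ℕ}
    (ha : a ∈ weightedHomogeneousSubmodule F δ e)
    (h : ∀ (u : ℕ) (p : MvPolynomial (Fin k) F), p ∈ weightedHomogeneousSubmodule F δ u →
      a * p ∈ I → p ∈ I) : col I a ≤ I := by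
  classical
  intro x hx
  have hcol := col_isHomogeneous (weightedHomogeneousSubmodule F δ) hI ha
  rw [← DirectSum.sum_support_decompose (weightedHomogeneousSubmodule F δ) x]
  refine Ideal.sum_mem _ fun u _ => ?_
  exact h u _ (SetLike.coe_mem _) (mem_col.mp (hcol u hx))

end wt

section main
attribute [local instance] MvPolynomial.weightedGradedAlgebra
variable {F : Type u} [Field F] {k : ℕ} (δ : Fin k → ℕ) (hδ : ∀ i, 0 < δ i)
  (g : Fin k → MvPolynomial (Fin k) F) (ε : Fin k → ℕ) (hε : ∀ i, 0 < ε i)
  (hg : ∀ i, IsWeightedHomogeneous δ (g i) (ε i))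
  [hfin : Module.Finite F (MvPolynomial (Fin k) F ⧸ Ideal.span (Set.range g))]
include hδ hε hg hfin

theorem g_mem_irr (i : Fin k) : g i ∈ irr F k :=
  le_span_X_of_pos δ (ε i) (hε i) (g i) (hg i)

local notation "Rl" => Localization.AtPrime (irr F k)

theorem isWeaklyRegular_of_finite :
    RingTheory.Sequence.IsWeaklyRegular (MvPolynomial (Fin k) F) (List.ofFn g) := by
  classical
  set J : Ideal (MvPolynomial (Fin k) F) := Ideal.span (Set.range g) with hJ
  have hreg : IsRegularLocalRing Rl := inferInstance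
  have hcm := Groth.Agent.H1.CMFlat.isCohenMacaulayLocalRing_of_isRegularLocalRing Rl
  have hcmM : LocCoh.IsCohenMacaulayModule Rl Rl := hcm.supportDim_eq_depth
  set xs : List Rl := (List.ofFn g).map (algebraMap (MvPolynomial (Fin k) F) Rl) with hxs
  have hlen : xs.length = k := by rw [hxs, List.length_map, List.length_ofFn]
  have hxsmem : ∀ x ∈ xs, x ∈ IsLocalRing.maximalIdeal Rl := by
    intro x hx
    rw [hxs, List.mem_map] at hx
    obtain ⟨y, hy, rfl⟩ := hx
    obtain ⟨i, rfl⟩ := (List.mem_ofFn' g y).mp hy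
    rw [IsLocalization.AtPrime.to_map_mem_maximal_iff Rl (irr F k)]
    exact g_mem_irr δ hδ g ε hε hg i
  have hofList : Ideal.ofList xs = J.map (algebraMap (MvPolynomial (Fin k) F) Rl) := by
    rw [hxs, ← Ideal.map_ofList, ofList_ofFn]
  -- dimension of `Rl`
  have hdimR : Module.supportDim Rl Rl = (k : WithBot ℕ∞) := by
    rw [Module.supportDim_self_eq_ringKrullDim,
      IsLocalization.AtPrime.ringKrullDim_eq_height (irr F k) Rl,
      DimFG.height_eq_ringKrullDim_of_isMaximal F (MvPolynomial (Fin k) F) (irr F k),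
      DimFG.ringKrullDim_mvPolynomial_fin]
  -- dimension of the quotient
  have hdimQ : Module.supportDim Rl (Rl ⧸ (Ideal.ofList xs • ⊤ : Submodule Rl Rl)) = 0 := by
    have h1 : (Ideal.ofList xs • ⊤ : Submodule Rl Rl) = Ideal.ofList xs := by
      rw [smul_eq_mul, Ideal.mul_top]
    rw [h1, Module.supportDim_quotient_eq_ringKrullDim, hofList]
    have hart : IsArtinianRing (MvPolynomial (Fin k) F ⧸ J) :=
      IsArtinianRing.of_finite F (MvPolynomial (Fin k) F ⧸ J)
    have hart' : IsArtinianRing (Rl ⧸ J.map (algebraMap (MvPolynomial (Fin k) F) Rl)) :=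
      IsArtinianRing.localization_artinian (R := MvPolynomial (Fin k) F ⧸ J)
        (Algebra.algebraMapSubmonoid (MvPolynomial (Fin k) F ⧸ J) (irr F k).primeCompl)
        (Rl ⧸ J.map (algebraMap (MvPolynomial (Fin k) F) Rl))
    have hle : ringKrullDim (Rl ⧸ J.map (algebraMap (MvPolynomial (Fin k) F) Rl)) ≤ 0 :=
      ringKrullDim_le_zero_of_isArtinianRing
        (Rl ⧸ J.map (algebraMap (MvPolynomial (Fin k) F) Rl))
    have hnt : Nontrivial (Rl ⧸ J.map (algebraMap (MvPolynomial (Fin k) F) Rl)) := by
      apply Ideal.Quotient.nontrivial_iff.mpr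
      rw [← hofList]
      intro htop
      have : (1 : Rl) ∈ Ideal.ofList xs := by rw [htop]; trivial
      have hle' : Ideal.ofList xs ≤ IsLocalRing.maximalIdeal Rl := by
        unfold Ideal.ofList
        rw [Ideal.span_le]
        exact fun x hx => hxsmem x hx
      exact (IsLocalRing.maximalIdeal.isMaximal Rl).ne_top
        ((Ideal.eq_top_iff_one _).mpr (hle' this))
    exact le_antisymm hle ringKrullDim_nonneg_of_nontrivial
  have hwr : RingTheory.Sequence.IsWeaklyRegular Rl xs := by
    apply Groth.Agent.H6.CM.isWeaklyRegular_of_supportDim xs Rl hcmM hxsmem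
    rw [hdimQ, hdimR, hlen, zero_add]
  -- transfer back
  refine ⟨fun j hj => ?_⟩
  rw [isSMulRegular_quotient_iff_mem_of_smul_mem]
  have hjk : j < k := by rwa [List.length_ofFn] at hj
  have hget : (List.ofFn g)[j] = g ⟨j, hjk⟩ := by simp
  have hIh := ofList_take_isHomogeneous (weightedHomogeneousSubmodule F δ) g ε hg j
  set I : Ideal (MvPolynomial (Fin k) F) := Ideal.ofList ((List.ofFn g).take j) with hI
  have htop : (I • ⊤ : Submodule (MvPolynomial (Fin k) F) (MvPolynomial (Fin k) F)) = I := by
    rw [smul_eq_mul, Ideal.mul_top]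
  rw [htop]
  suffices hcol : col I ((List.ofFn g)[j]) ≤ I by
    intro p hp
    exact hcol (mem_col.mpr hp)
  rw [hget]
  apply col_le_of_homogeneous δ hδ hIh (hg ⟨j, hjk⟩)
  intro u p hp hgp
  -- pass to the localization
  have hj' : j < xs.length := by rw [hlen]; exact hjk
  have hxj : xs[j] = algebraMap (MvPolynomial (Fin k) F) Rl (g ⟨j, hjk⟩) := by
    simp [hxs]
  have htake : Ideal.ofList (xs.take j) = I.map (algebraMap (MvPolynomial (Fin k) F) Rl) := by
    rw [hxs, ← List.map_take, ← Ideal.map_ofList]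
  have h1 : xs[j] * algebraMap (MvPolynomial (Fin k) F) Rl p ∈ Ideal.ofList (xs.take j) := by
    rw [hxj, htake, ← map_mul]
    exact Ideal.mem_map_of_mem _ hgp
  have h2 := mem_of_mul_mem_of_isWeaklyRegular hwr j hj' _ h1
  rw [htake, IsLocalization.algebraMap_mem_map_algebraMap_iff (irr F k).primeCompl] at h2
  obtain ⟨s, hs, hsp⟩ := h2
  exact mem_of_mul_mem_of_notMem_irr δ hδ hIh hp hs hsp

end main

end Groth.Agent.H2.GrCI
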