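import Groth.Agent.Lib.Helper6.GrCMCrit3
import Groth.Agent.Lib.Helper6.PolyBasic
import Groth.Agent.Lib.Helper6.SkSurj
import Groth.Agent.Lib.Helper6.GrSubQuot
import Groth.Agent.Lib.Helper2.GrCI6

/-! A cone (quotient of a polynomial ring by a homogeneous ideal) is Cohen–Macaulay as soon as it
is so at its vertex.  Built on helper6's graded local–global principle `GrCM.cm_of_cm_irrelevant`. -/

universe u
set_option linter.unusedSectionVars false
attribute [local instance] MvPolynomial.weightedGradedAlgebra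

namespace Groth.Agent.H2.ConeCM

open Groth.Agent.H6

section Transfer

variable {R : Type u} [CommRing R] [IsNoetherianRing R]

/-- Cohen–Macaulayness of a localization of `R ⧸ I` as a ring gives Cohen–Macaulayness of the
localized `R`-module. -/
theorem cmModule_of_cmLocal (I : Ideal R) (P : Ideal (R ⧸ I)) [hP : P.IsPrime] (p : Ideal R)
    [hp : p.IsPrime] (hPp : P.comap (algebraMap R (R ⧸ I)) = p)
    (h : LocCoh.IsCohenMacaulayLocalRing (Localization.AtPrime P)) :
    LocCoh.IsCohenMacaulayModule (Localization.AtPrime p)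
      (LocalizedModule p.primeCompl (R ⧸ I)) := by
  subst hPp
  have h0 := (GrCM.cmLocal_iff_module P).mp h
  obtain ⟨h1, h2⟩ := SkSurj.depth_and_dim_comap (A := R) (C := R ⧸ I)
    Ideal.Quotient.mk_surjective (R ⧸ I) P
  unfold LocCoh.IsCohenMacaulayModule at h0 ⊢
  exact h2.symm.trans (h0.trans (congrArg _ h1))

/-- conversely -/
theorem cmLocal_of_cmModule (I : Ideal R) (P : Ideal (R ⧸ I)) [hP : P.IsPrime] (p : Ideal R)
    [hp : p.IsPrime] (hPp : P.comap (algebraMap R (R ⧸ I)) = p)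
    (h : LocCoh.IsCohenMacaulayModule (Localization.AtPrime p)
      (LocalizedModule p.primeCompl (R ⧸ I))) :
    LocCoh.IsCohenMacaulayLocalRing (Localization.AtPrime P) := by
  subst hPp
  rw [GrCM.cmLocal_iff_module P]
  obtain ⟨h1, h2⟩ := SkSurj.depth_and_dim_comap (A := R) (C := R ⧸ I)
    Ideal.Quotient.mk_surjective (R ⧸ I) P
  unfold LocCoh.IsCohenMacaulayModule at h ⊢
  exact h2.trans (h.trans (congrArg _ h1.symm))

theorem cmRing_quot_of_forall (I : Ideal R)
    (h : ∀ (p : Ideal R) [p.IsPrime], I ≤ p →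
      LocCoh.IsCohenMacaulayModule (Localization.AtPrime p)
        (LocalizedModule p.primeCompl (R ⧸ I))) :
    LocCoh.IsCohenMacaulayRing (R ⧸ I) :=
  { isCohenMacaulayLocalRing_localization := fun P hP => by
      haveI : (P.comap (algebraMap R (R ⧸ I))).IsPrime := Ideal.comap_isPrime _ _
      refine cmLocal_of_cmModule I P (P.comap (algebraMap R (R ⧸ I))) rfl (h _ ?_)
      intro x hx
      rw [Ideal.mem_comap]
      have : algebraMap R (R ⧸ I) x = 0 := Ideal.Quotient.eq_zero_iff_mem.mpr hx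
      rw [this]
      exact P.zero_mem }

theorem nontrivial_localized_quot (I : Ideal R) (p : Ideal R) [hp : p.IsPrime] (hIp : I ≤ p) :
    Nontrivial (LocalizedModule p.primeCompl (R ⧸ I)) := by
  have h1 : (⟨p, hp⟩ : PrimeSpectrum R) ∈ Module.support R (R ⧸ I) := by
    rw [Module.support_eq_zeroLocus, PrimeSpectrum.mem_zeroLocus, Ideal.annihilator_quotient]
    exact hIp
  exact Module.mem_support_iff.mp h1

end Transfer

section Cone

variable (K : Type u) [Field K] (N : ℕ)

/-- the constant weight one -/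
abbrev w1 : Fin N → ℤ := fun _ => 1

theorem w1_pos : ∀ i, 0 < w1 N i := fun _ => one_pos

theorem weight_w1 (d : Fin N →₀ ℕ) : Finsupp.weight (w1 N) d = (d.degree : ℤ) := by
  rw [Finsupp.weight_apply, Finsupp.degree_eq_sum, Finsupp.sum_fintype _ _ (fun i => by simp)]
  push_cast
  refine Finset.sum_congr rfl (fun i _ => ?_)
  simp

theorem mem_gr_of_isHomogeneous {f : MvPolynomial (Fin N) K} {k : ℕ} (hf : f.IsHomogeneous k) :
    f ∈ PolyGr.gr K N (w1 N) (k : ℤ) := by
  rw [PolyGr.mem_gr]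
  intro d hd
  rw [weight_w1]
  have := hf hd
  rw [Finsupp.weight_apply] at this
  have h2 : d.degree = k := by
    rw [Finsupp.degree_eq_sum, ← this, Finsupp.sum_fintype _ _ (fun i => by simp)]
    refine Finset.sum_congr rfl (fun i _ => ?_)
    simp
  rw [h2]

noncomputable instance instGradedRing : GradedRing (PolyGr.gr K N (w1 N)) :=
  ToAdd.gradedRing_toAdd (MvPolynomial.weightedHomogeneousSubmodule K (w1 N))

theorem cone_cm (I : Ideal (MvPolynomial (Fin N) K))
    (hI : ∃ T : Set (MvPolynomial (Fin N) K), (∀ f ∈ T, ∃ k : ℕ, f.IsHomogeneous k) ∧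
      I = Ideal.span T) (hI' : I ≠ ⊤)
    [hm : ((RingHom.ker (MvPolynomial.constantCoeff : MvPolynomial (Fin N) K →+* K)).map
      (Ideal.Quotient.mk I)).IsPrime]
    (hcm : LocCoh.IsCohenMacaulayLocalRing (Localization.AtPrime
        ((RingHom.ker (MvPolynomial.constantCoeff : MvPolynomial (Fin N) K →+* K)).map
          (Ideal.Quotient.mk I)))) :
    LocCoh.IsCohenMacaulayRing (MvPolynomial (Fin N) K ⧸ I) := by
  classical
  set 𝒜 := PolyGr.gr K N (w1 N) with h𝒜
  set m : Ideal (MvPolynomial (Fin N) K) :=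
    RingHom.ker (MvPolynomial.constantCoeff : MvPolynomial (Fin N) K →+* K) with hmdef
  -- the ideal is homogeneous
  have hIhom : I.IsHomogeneous 𝒜 := by
    obtain ⟨T, hT, rfl⟩ := hI
    refine Ideal.homogeneous_span 𝒜 T (fun f hf => ?_)
    obtain ⟨k, hk⟩ := hT f hf
    exact ⟨(k : ℤ), mem_gr_of_isHomogeneous K N hk⟩
  have hmmax : m.IsMaximal := by
    rw [hmdef, ← Groth.Agent.H2.GrCI.irr_eq_ker]
    infer_instance
  haveI hmprime : m.IsPrime := hmmax.isPrime
  have hmsp : m = Ideal.span (⋃ n ∈ Set.Ioi (0 : ℤ), ((𝒜 n : AddSubgroup _) :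
      Set (MvPolynomial (Fin N) K))) := by
    rw [PolyGr.span_pos_eq K N (w1 N) (w1_pos N), hmdef, ← Groth.Agent.H2.GrCI.irr_eq_ker]
  have hIm : I ≤ m := by
    have := Gr.le_irrelevant 𝒜 (PolyGr.gr_neg K N (w1 N) (w1_pos N))
      (PolyGr.isField_deg0 K N (w1 N) (w1_pos N)) m hmsp I hIhom hI'
    exact this
  -- the graded module `R ⧸ I`
  have hker : (LinearMap.ker (Submodule.mkQ I)).IsHomogeneous 𝒜 := by
    rw [Submodule.ker_mkQ]
    exact hIhom
  letI : DirectSum.Decomposition (Gr.quotGr 𝒜 (Submodule.mkQ I)) :=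
    Gr.quotDecomposition 𝒜 (Submodule.mkQ_surjective I) hker
  haveI : SetLike.GradedSMul 𝒜 (Gr.quotGr 𝒜 (Submodule.mkQ I)) :=
    Gr.quot_gradedSMul 𝒜 𝒜 (q := Submodule.mkQ I)
  -- Cohen–Macaulay at the irrelevant ideal
  have hcomap : ((m.map (Ideal.Quotient.mk I)).comap
      (algebraMap (MvPolynomial (Fin N) K) (MvPolynomial (Fin N) K ⧸ I))) = m := by
    rw [Ideal.Quotient.algebraMap_eq, Ideal.comap_map_of_surjective _ Ideal.Quotient.mk_surjective,
      ← RingHom.ker_eq_comap_bot, Ideal.mk_ker, sup_eq_left.mpr hIm]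
  have hcm_m := cmModule_of_cmLocal I (m.map (Ideal.Quotient.mk I)) m hcomap hcm
  refine cmRing_quot_of_forall I (fun p hp hIp => ?_)
  exact GrCM.cm_of_cm_irrelevant 𝒜 (Gr.quotGr 𝒜 (Submodule.mkQ I))
    (PolyGr.gr_neg K N (w1 N) (w1_pos N)) (PolyGr.isField_deg0 K N (w1 N) (w1_pos N)) m hmsp
    hcm_m p (nontrivial_localized_quot I p hIp)

end Cone

end Groth.Agent.H2.ConeCM
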