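import Groth.Agent.Lib.Helper2.Resol3

/-!
# Injective resolutions of short exact sequences of bounded below complexes
-/

namespace Groth.Agent.H2.SESRes

open CategoryTheory Limits DerivedCategory CochainComplex

universe v u
variable {A : Type u} [Category.{v} A] [Abelian A]

/-- bounded below complexes admit bounded below injective resolutions, monomorphic in each degree -/
lemma exists_injective_resolution [EnoughInjectives A] (K : CochainComplex A ℤ) (a : ℤ)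
    [K.IsStrictlyGE a] :
    ∃ (L : CochainComplex A ℤ) (α : K ⟶ L), L.IsStrictlyGE a ∧ (∀ k, Injective (L.X k)) ∧
      Mono α ∧ QuasiIso α := by
  obtain ⟨Z, hZ⟩ := HasZeroObject.zero (C := A)
  have hZinj : Injective Z := ⟨fun {X Y} g f _ => ⟨0, hZ.eq_of_tgt _ _⟩⟩
  obtain ⟨L, α, hL, hLI, hmono, hα⟩ := Resol.exists_resolution (fun Y : A => Injective Y)
    (fun Y => ⟨Injective.under Y, Injective.ι Y, inferInstance, inferInstance⟩) K a
    ⟨Z, hZ, hZinj⟩
  exact ⟨L, α, hL, hLI, HomologicalComplex.mono_of_mono_f _ hmono, hα⟩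

/-- two-out-of-three for quasi-isomorphisms between short exact sequences: the middle map -/
lemma quasiIso_τ₂ {S₁ S₂ : ShortComplex (CochainComplex A ℤ)} (φ : S₁ ⟶ S₂)
    (h₁ : S₁.ShortExact) (h₂ : S₂.ShortExact) (hφ₁ : QuasiIso φ.τ₁) (hφ₃ : QuasiIso φ.τ₃) :
    QuasiIso φ.τ₂ := by
  let _ := HasDerivedCategory.standard A
  have i1 : IsIso (triangleOfSES.map h₁ h₂ φ).hom₁ := by
    rw [triangleOfSES.map_hom₁]
    exact (isIso_Q_map_iff_quasiIso _ _).2 hφ₁
  have i3 : IsIso (triangleOfSES.map h₁ h₂ φ).hom₃ := by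
    rw [triangleOfSES.map_hom₃]
    exact (isIso_Q_map_iff_quasiIso _ _).2 hφ₃
  have i2 : IsIso (triangleOfSES.map h₁ h₂ φ).hom₂ :=
    Pretriangulated.isIso₂_of_isIso₁₃ _ (triangleOfSES_distinguished h₁)
      (triangleOfSES_distinguished h₂) i1 i3
  rw [triangleOfSES.map_hom₂] at i2
  exact (isIso_Q_map_iff_quasiIso _ _).1 i2

section Pushout

variable {S : ShortComplex (CochainComplex A ℤ)} (hS : S.ShortExact)
  {I₁ P : CochainComplex A ℤ} {α₁ : S.X₁ ⟶ I₁} {inl : S.X₂ ⟶ P} {inr : I₁ ⟶ P}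
  (hP : IsPushout S.f α₁ inl inr) (π : P ⟶ S.X₃) (hπ₁ : inl ≫ π = S.g) (hπ₂ : inr ≫ π = 0)

include hS hP hπ₁ in
lemma pushout_shortExact : (ShortComplex.mk inr π hπ₂).ShortExact := by
  have hm : Mono S.f := hS.mono_f
  have he : Epi S.g := hS.epi_g
  have hepi : Epi π := epi_of_epi_fac hπ₁
  have hmono : Mono inr := by
    have : Mono (pushout.inr S.f α₁) := inferInstance
    have e : inr = pushout.inr S.f α₁ ≫ hP.isoPushout.inv := by simp
    rw [e]
    infer_instance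
  have hcok : IsColimit (CokernelCofork.ofπ π hπ₂) :=
    CokernelCofork.IsColimit.ofπ' π hπ₂ (fun {T} k hk => by
      have h0 : S.f ≫ inl ≫ k = 0 := by
        rw [← Category.assoc, hP.w, Category.assoc, hk, comp_zero]
      refine ⟨hS.exact.gIsCokernel.desc (CokernelCofork.ofπ (inl ≫ k) h0), ?_⟩
      have h1 : S.g ≫ hS.exact.gIsCokernel.desc (CokernelCofork.ofπ (inl ≫ k) h0) =
          inl ≫ k := Cofork.IsColimit.π_desc hS.exact.gIsCokernel
      apply hP.hom_ext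
      · rw [← Category.assoc, hπ₁]
        exact h1
      · rw [← Category.assoc, hπ₂, zero_comp]
        exact hk.symm)
  exact
    { exact := ShortComplex.exact_of_g_is_cokernel _ hcok
      mono_f := hmono
      epi_g := hepi }

include hS hP hπ₁ hπ₂ in
lemma quasiIso_inl (hα₁ : QuasiIso α₁) : QuasiIso inl := by
  let φ : S ⟶ ShortComplex.mk inr π hπ₂ :=
    { τ₁ := α₁
      τ₂ := inl
      τ₃ := 𝟙 _
      comm₁₂ := hP.w.symm
      comm₂₃ := by
        change inl ≫ π = S.g ≫ 𝟙 _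
        rw [hπ₁, Category.comp_id] }
  exact quasiIso_τ₂ φ hS (pushout_shortExact hS hP π hπ₁ hπ₂) hα₁
    (by change QuasiIso (𝟙 _); infer_instance)

end Pushout

/-- a cokernel of a mono between injectives is injective -/
lemma injective_X₃ {S : ShortComplex A} (hS : S.ShortExact) [Injective S.X₁] [Injective S.X₂] :
    Injective S.X₃ := by
  let sp := hS.splittingOfInjective
  exact Retract.injective (Y := S.X₂) ⟨sp.s, S.g, sp.s_g⟩

lemma isZero_X₂_of_shortExact {S : ShortComplex A} (hS : S.ShortExact) (h₁ : IsZero S.X₁)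
    (h₃ : IsZero S.X₃) : IsZero S.X₂ :=
  hS.exact.isZero_of_both_zeros (h₁.eq_of_src _ _) (h₃.eq_of_tgt _ _)

lemma isStrictlyGE_X₂ {S : ShortComplex (CochainComplex A ℤ)} (hS : S.ShortExact) (n : ℤ)
    [S.X₁.IsStrictlyGE n] [S.X₃.IsStrictlyGE n] : S.X₂.IsStrictlyGE n := by
  rw [CochainComplex.isStrictlyGE_iff]
  intro i hi
  exact isZero_X₂_of_shortExact (hS.map_of_exact (HomologicalComplex.eval A _ i))
    (CochainComplex.isZero_of_isStrictlyGE S.X₁ n i hi)
    (CochainComplex.isZero_of_isStrictlyGE S.X₃ n i hi)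

lemma isStrictlyGE_X₃ {S : ShortComplex (CochainComplex A ℤ)} (hS : S.ShortExact) (n : ℤ)
    [S.X₂.IsStrictlyGE n] : S.X₃.IsStrictlyGE n := by
  rw [CochainComplex.isStrictlyGE_iff]
  intro i hi
  have h := hS.map_of_exact (HomologicalComplex.eval A _ i)
  have : Epi (S.g.f i) := h.epi_g
  rw [IsZero.iff_id_eq_zero, ← cancel_epi (S.g.f i)]
  exact (CochainComplex.isZero_of_isStrictlyGE S.X₂ n i hi).eq_of_src _ _

theorem exists_ses_resolution [EnoughInjectives A] (S : ShortComplex (CochainComplex A ℤ))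
    (hS : S.ShortExact) (n : ℤ)
    [S.X₁.IsStrictlyGE n] [S.X₂.IsStrictlyGE n] [S.X₃.IsStrictlyGE n] :
    ∃ (T : ShortComplex (CochainComplex A ℤ)) (φ : S ⟶ T), T.ShortExact ∧
      T.X₁.IsStrictlyGE n ∧ T.X₂.IsStrictlyGE n ∧ T.X₃.IsStrictlyGE n ∧
      (∀ k : ℤ, Injective (T.X₁.X k) ∧ Injective (T.X₂.X k) ∧ Injective (T.X₃.X k)) ∧
      QuasiIso φ.τ₁ ∧ QuasiIso φ.τ₂ ∧ QuasiIso φ.τ₃ := by
  obtain ⟨I₁, α₁, hI₁, hI₁inj, hα₁m, hα₁⟩ := exists_injective_resolution S.X₁ n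
  have hP : IsPushout S.f α₁ (pushout.inl S.f α₁) (pushout.inr S.f α₁) :=
    IsPushout.of_hasPushout _ _
  have hw : S.f ≫ S.g = α₁ ≫ (0 : I₁ ⟶ S.X₃) := by rw [S.zero, comp_zero]
  have hπ₁ : pushout.inl S.f α₁ ≫ pushout.desc S.g 0 hw = S.g := pushout.inl_desc _ _ _
  have hπ₂ : pushout.inr S.f α₁ ≫ pushout.desc S.g 0 hw = 0 := pushout.inr_desc _ _ _
  have hSgepi : Epi S.g := hS.epi_g
  have hSE := pushout_shortExact hS hP _ hπ₁ hπ₂
  have hinl := quasiIso_inl hS hP _ hπ₁ hπ₂ hα₁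
  have hPge : (pushout S.f α₁).IsStrictlyGE n := isStrictlyGE_X₂ hSE n
  obtain ⟨I₂, α₂, hI₂, hI₂inj, hα₂m, hα₂⟩ := exists_injective_resolution (pushout S.f α₁) n
  have hmono : Mono (pushout.inr S.f α₁ ≫ α₂) := by
    have := hSE.mono_f
    exact mono_comp (pushout.inr S.f α₁) α₂
  let T : ShortComplex (CochainComplex A ℤ) :=
    ShortComplex.mk (pushout.inr S.f α₁ ≫ α₂) (cokernel.π _) (cokernel.condition _)
  have hT : T.ShortExact :=
    { exact := ShortComplex.exact_cokernel _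
      mono_f := hmono
      epi_g := by dsimp [T]; infer_instance }
  have h0 : S.f ≫ (pushout.inl S.f α₁ ≫ α₂) ≫ T.g = 0 := by
    rw [← Category.assoc, ← Category.assoc, hP.w, Category.assoc, Category.assoc]
    have := T.zero
    dsimp [T] at this ⊢
    rw [Category.assoc] at this
    rw [this, comp_zero]
  let τ₃ : S.X₃ ⟶ T.X₃ := hS.exact.gIsCokernel.desc (CokernelCofork.ofπ _ h0)
  have hτ₃ : S.g ≫ τ₃ = (pushout.inl S.f α₁ ≫ α₂) ≫ T.g :=
    Cofork.IsColimit.π_desc hS.exact.gIsCokernel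
  let φ : S ⟶ T :=
    { τ₁ := α₁
      τ₂ := pushout.inl S.f α₁ ≫ α₂
      τ₃ := τ₃
      comm₁₂ := by
        change α₁ ≫ pushout.inr S.f α₁ ≫ α₂ = S.f ≫ pushout.inl S.f α₁ ≫ α₂
        rw [← Category.assoc, ← Category.assoc, hP.w]
      comm₂₃ := hτ₃.symm }
  have hq₂ : QuasiIso φ.τ₂ := by
    change QuasiIso (pushout.inl S.f α₁ ≫ α₂)
    infer_instance
  have hq₁ : QuasiIso φ.τ₁ := hα₁
  have hq₃ : QuasiIso φ.τ₃ :=
    HomologicalComplex.HomologySequence.quasiIso_τ₃ φ hS hT hq₁ hq₂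
  have hT₁ : T.X₁.IsStrictlyGE n := hI₁
  have hT₂ : T.X₂.IsStrictlyGE n := hI₂
  have hT₃ : T.X₃.IsStrictlyGE n := isStrictlyGE_X₃ hT n
  refine ⟨T, φ, hT, hT₁, hT₂, hT₃, fun k => ⟨hI₁inj k, hI₂inj k, ?_⟩, hq₁, hq₂, hq₃⟩
  have hk := hT.map_of_exact (HomologicalComplex.eval A _ k)
  have : Injective (T.map (HomologicalComplex.eval A _ k)).X₁ := hI₁inj k
  have : Injective (T.map (HomologicalComplex.eval A _ k)).X₂ := hI₂inj k
  exact injective_X₃ hk

end Groth.Agent.H2.SESRes
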