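import Groth.Agent.Lib.Helper2.RDer9
import Groth.Agent.Lib.Helper2.SESRes1

/-!
# The long exact sequence of the right derived functor on `D⁺` attached to a short exact sequence
of bounded below complexes
-/

universe w w' v v' u u'

open CategoryTheory CategoryTheory.Limits

namespace Groth.Agent.H2.RLong

open RDer

variable {C : Type u} [Category.{v} C] [Abelian C] [HasDerivedCategory.{w} C] [EnoughInjectives C]
  {D : Type u'} [Category.{v'} D] [Abelian D] [HasDerivedCategory.{w'} D]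
  (F : C ⥤ D) [F.Additive]

/-- the functor `H^i ∘ RF` on `K⁺` -/
noncomputable abbrev G (i : ℤ) : HomotopyCategory.Plus C ⥤ D :=
  DerivedCategory.Plus.Qh ⋙ F.rightDerivedFunctorPlus ⋙ DerivedCategory.Plus.ι ⋙
    DerivedCategory.homologyFunctor D i

/-- the functor `H^i ∘ F` on `K⁺` -/
noncomputable abbrev G' (i : ℤ) : HomotopyCategory.Plus C ⥤ D :=
  F.mapHomotopyCategoryPlus ⋙ DerivedCategory.Plus.Qh ⋙ DerivedCategory.Plus.ι ⋙
    DerivedCategory.homologyFunctor D i

/-- the natural transformation induced by the unit of the derived functor -/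
noncomputable def η (i : ℤ) : G' F i ⟶ G F i :=
  Functor.whiskerRight F.rightDerivedFunctorPlusUnit
    (DerivedCategory.Plus.ι ⋙ DerivedCategory.homologyFunctor D i)

/-- `H^i(F K)` computed in the derived category -/
noncomputable def β (i : ℤ) (K : CochainComplex C ℤ) (a : ℤ) [K.IsStrictlyGE a] :
    (G' F i).obj (plusObj K a) ≅
      ((F.mapHomologicalComplex (ComplexShape.up ℤ)).obj K).homology i :=
  (DerivedCategory.homologyFunctorFactors D i).app ((F.mapHomologicalComplex _).obj K)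

lemma β_naturality (i : ℤ) {K L : CochainComplex C ℤ} (a b : ℤ) [K.IsStrictlyGE a]
    [L.IsStrictlyGE b] (g : K ⟶ L) :
    (G' F i).map (plusMap a b g) ≫ (β F i L b).hom =
      (β F i K a).hom ≫
        HomologicalComplex.homologyMap ((F.mapHomologicalComplex (ComplexShape.up ℤ)).map g) i :=
  (DerivedCategory.homologyFunctorFactors D i).hom.naturality
    ((F.mapHomologicalComplex (ComplexShape.up ℤ)).map g)

omit [HasDerivedCategory C] [EnoughInjectives C] in
lemma plusMap_comp {K L M : CochainComplex C ℤ} (a b c : ℤ) [K.IsStrictlyGE a]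
    [L.IsStrictlyGE b] [M.IsStrictlyGE c] (f : K ⟶ L) (g : L ⟶ M) :
    plusMap a c (f ≫ g) = plusMap a b f ≫ plusMap b c g := by
  exact (HomotopyCategory.Plus.quotient C).map_comp
    (X := ⟨K, ⟨a, inferInstance⟩⟩) (Y := ⟨L, ⟨b, inferInstance⟩⟩) (Z := ⟨M, ⟨c, inferInstance⟩⟩)
    (ObjectProperty.homMk f) (ObjectProperty.homMk g)

lemma isIso_G_map (i : ℤ) {K L : CochainComplex C ℤ} (a b : ℤ) [K.IsStrictlyGE a]
    [L.IsStrictlyGE b] (s : K ⟶ L) [QuasiIso s] : IsIso ((G F i).map (plusMap a b s)) := by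
  haveI : IsIso (DerivedCategory.Plus.Qh.map (plusMap a b s)) :=
    (isIso_Qh_plusMap_iff a b s).2 inferInstance
  change IsIso ((F.rightDerivedFunctorPlus ⋙ DerivedCategory.Plus.ι ⋙
    DerivedCategory.homologyFunctor D i).map (DerivedCategory.Plus.Qh.map (plusMap a b s)))
  infer_instance

lemma isIso_η_app (i : ℤ) (J : CochainComplex C ℤ) (b : ℤ) [J.IsStrictlyGE b]
    [∀ n, Injective (J.X n)] : IsIso ((η F i).app (plusObj J b)) := by
  haveI := isIso_unit_plusObj F J b
  change IsIso ((DerivedCategory.Plus.ι ⋙ DerivedCategory.homologyFunctor D i).map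
    (F.rightDerivedFunctorPlusUnit.app (plusObj J b)))
  infer_instance

/-- the comparison isomorphism attached to an injective resolution -/
noncomputable def θ (i : ℤ) {K J : CochainComplex C ℤ} (a b : ℤ) [K.IsStrictlyGE a]
    [J.IsStrictlyGE b] [∀ n, Injective (J.X n)] (s : K ⟶ J) [QuasiIso s] :
    (G F i).obj (plusObj K a) ≅
      ((F.mapHomologicalComplex (ComplexShape.up ℤ)).obj J).homology i :=
  haveI := isIso_G_map F i a b s
  haveI := isIso_η_app F i J b
  asIso ((G F i).map (plusMap a b s)) ≪≫ (asIso ((η F i).app (plusObj J b))).symm ≪≫ β F i J b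

lemma θ_naturality (i : ℤ) {K J K' J' : CochainComplex C ℤ} (a b a' b' : ℤ) [K.IsStrictlyGE a]
    [J.IsStrictlyGE b] [∀ n, Injective (J.X n)] (s : K ⟶ J) [QuasiIso s]
    [K'.IsStrictlyGE a'] [J'.IsStrictlyGE b'] [∀ n, Injective (J'.X n)] (s' : K' ⟶ J')
    [QuasiIso s'] (u : K ⟶ K') (v : J ⟶ J') (comm : s ≫ v = u ≫ s') :
    (G F i).map (plusMap a a' u) ≫ (θ F i a' b' s').hom =
      (θ F i a b s).hom ≫
        HomologicalComplex.homologyMap ((F.mapHomologicalComplex (ComplexShape.up ℤ)).map v) i := by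
  haveI := isIso_G_map F i a b s
  haveI := isIso_η_app F i J b
  haveI := isIso_G_map F i a' b' s'
  haveI := isIso_η_app F i J' b'
  have h1 : (G F i).map (plusMap a a' u) ≫ (G F i).map (plusMap a' b' s') =
      (G F i).map (plusMap a b s) ≫ (G F i).map (plusMap b b' v) := by
    rw [← Functor.map_comp, ← Functor.map_comp, ← plusMap_comp, ← plusMap_comp, comm]
  have h2 : (G F i).map (plusMap b b' v) ≫ inv ((η F i).app (plusObj J' b')) =
      inv ((η F i).app (plusObj J b)) ≫ (G' F i).map (plusMap b b' v) := by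
    rw [IsIso.comp_inv_eq, Category.assoc, IsIso.eq_inv_comp]
    exact ((η F i).naturality (plusMap b b' v)).symm
  have h3 := β_naturality F i b b' v
  simp only [θ, Iso.trans_hom, asIso_hom, Iso.symm_hom, asIso_inv]
  rw [← Category.assoc, h1, Category.assoc, ← Category.assoc ((G F i).map (plusMap b b' v)), h2,
    Category.assoc, h3]
  simp only [Category.assoc]

section

variable {T : ShortComplex (CochainComplex C ℤ)} (hT : T.ShortExact)
  (hinj : ∀ k, Injective (T.X₁.X k))

/-- the image under `F` of a short exact sequence of complexes with injective kernel -/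
noncomputable def FT (T : ShortComplex (CochainComplex C ℤ)) :
    ShortComplex (CochainComplex D ℤ) :=
  T.map (F.mapHomologicalComplex (ComplexShape.up ℤ))

include hT hinj in
omit [HasDerivedCategory C] [EnoughInjectives C] [HasDerivedCategory D] in
lemma FT_shortExact : (FT F T).ShortExact := by
  apply HomologicalComplex.shortExact_of_degreewise_shortExact
  intro k
  have hk := hT.map_of_exact (HomologicalComplex.eval C (ComplexShape.up ℤ) k)
  haveI : Injective (T.map (HomologicalComplex.eval C (ComplexShape.up ℤ) k)).X₁ := hinj k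
  exact (hk.splittingOfInjective.map F).shortExact

end

omit [HasDerivedCategory D] in
/-- transport of the homology long exact sequence along isomorphisms -/
lemma transport {A₁ A₂ A₃ A₁' A₂' : D} (a : A₁ ⟶ A₂) (b : A₂ ⟶ A₃) (a' : A₁' ⟶ A₂')
    (W : ShortComplex (CochainComplex D ℤ)) (hW : W.ShortExact) (i : ℤ)
    (e₁ : A₁ ≅ W.X₁.homology i) (e₂ : A₂ ≅ W.X₂.homology i) (e₃ : A₃ ≅ W.X₃.homology i)
    (e₁' : A₁' ≅ W.X₁.homology (i + 1)) (e₂' : A₂' ≅ W.X₂.homology (i + 1))
    (nf : a ≫ e₂.hom = e₁.hom ≫ HomologicalComplex.homologyMap W.f i)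
    (ng : b ≫ e₃.hom = e₂.hom ≫ HomologicalComplex.homologyMap W.g i)
    (nf' : a' ≫ e₂'.hom = e₁'.hom ≫ HomologicalComplex.homologyMap W.f (i + 1)) :
    ∃ (δ : A₃ ⟶ A₁') (w₁ : a ≫ b = 0) (w₂ : b ≫ δ = 0) (w₃ : δ ≫ a' = 0),
      (ShortComplex.mk _ _ w₁).Exact ∧ (ShortComplex.mk _ _ w₂).Exact ∧
        (ShortComplex.mk _ _ w₃).Exact := by
  let δ' := hW.δ i (i + 1) rfl
  let δ : A₃ ⟶ A₁' := e₃.hom ≫ δ' ≫ e₁'.inv
  have nδ : δ ≫ e₁'.hom = e₃.hom ≫ δ' := by
    simp only [δ, Category.assoc, Iso.inv_hom_id, Category.comp_id]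
  have z₁ : HomologicalComplex.homologyMap W.f i ≫
      HomologicalComplex.homologyMap W.g i = 0 := by
    rw [← HomologicalComplex.homologyMap_comp, W.zero,
      HomologicalComplex.homologyMap_zero]
  have z₂ : HomologicalComplex.homologyMap W.g i ≫ δ' = 0 := hW.comp_δ i (i + 1) rfl
  have z₃ : δ' ≫ HomologicalComplex.homologyMap W.f (i + 1) = 0 :=
    hW.δ_comp i (i + 1) rfl
  have w₁ : a ≫ b = 0 := by
    rw [← cancel_mono e₃.hom, Category.assoc, ng, ← Category.assoc, nf, Category.assoc, z₁,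
      comp_zero, zero_comp]
  have w₂ : b ≫ δ = 0 := by
    rw [← cancel_mono e₁'.hom, Category.assoc, nδ, ← Category.assoc, ng, Category.assoc, z₂,
      comp_zero, zero_comp]
  have w₃ : δ ≫ a' = 0 := by
    rw [← cancel_mono e₂'.hom, Category.assoc, nf', ← Category.assoc, nδ, Category.assoc, z₃,
      comp_zero, zero_comp]
  refine ⟨δ, w₁, w₂, w₃, ?_, ?_, ?_⟩
  · refine (ShortComplex.exact_iff_of_iso ?_).2 (hW.homology_exact₂ i)
    exact ShortComplex.isoMk e₁ e₂ e₃ nf.symm ng.symm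
  · have h : (ShortComplex.mk (HomologicalComplex.homologyMap W.g i) δ' z₂).Exact :=
      hW.homology_exact₃ i (i + 1) rfl
    refine (ShortComplex.exact_iff_of_iso ?_).2 h
    exact ShortComplex.isoMk e₂ e₃ e₁' ng.symm nδ.symm
  · have h : (ShortComplex.mk δ' (HomologicalComplex.homologyMap W.f (i + 1)) z₃).Exact :=
      hW.homology_exact₁ i (i + 1) rfl
    refine (ShortComplex.exact_iff_of_iso ?_).2 h
    exact ShortComplex.isoMk e₃ e₁' e₂' nδ.symm nf'.symm

theorem long_exact (S : ShortComplex (CochainComplex C ℤ)) (hS : S.ShortExact) (n : ℤ)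
    [S.X₁.IsStrictlyGE n] [S.X₂.IsStrictlyGE n] [S.X₃.IsStrictlyGE n] (i : ℤ) :
    ∃ (δ : (G F i).obj (plusObj S.X₃ n) ⟶ (G F (i + 1)).obj (plusObj S.X₁ n))
      (w₁ : (G F i).map (plusMap n n S.f) ≫ (G F i).map (plusMap n n S.g) = 0)
      (w₂ : (G F i).map (plusMap n n S.g) ≫ δ = 0)
      (w₃ : δ ≫ (G F (i + 1)).map (plusMap n n S.f) = 0),
      (ShortComplex.mk _ _ w₁).Exact ∧ (ShortComplex.mk _ _ w₂).Exact ∧
        (ShortComplex.mk _ _ w₃).Exact := by
  obtain ⟨T, φ, hT, hT₁, hT₂, hT₃, hinj, hq₁, hq₂, hq₃⟩ := SESRes.exists_ses_resolution S hS n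
  haveI : ∀ k, Injective (T.X₁.X k) := fun k => (hinj k).1
  haveI : ∀ k, Injective (T.X₂.X k) := fun k => (hinj k).2.1
  haveI : ∀ k, Injective (T.X₃.X k) := fun k => (hinj k).2.2
  have hFT := FT_shortExact F hT (fun k => (hinj k).1)
  exact transport _ _ _ (FT F T) hFT i (θ F i n n φ.τ₁) (θ F i n n φ.τ₂) (θ F i n n φ.τ₃)
    (θ F (i + 1) n n φ.τ₁) (θ F (i + 1) n n φ.τ₂)
    (θ_naturality F i n n n n φ.τ₁ φ.τ₂ S.f T.f φ.comm₁₂)
    (θ_naturality F i n n n n φ.τ₂ φ.τ₃ S.g T.g φ.comm₂₃)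
    (θ_naturality F (i + 1) n n n n φ.τ₁ φ.τ₂ S.f T.f φ.comm₁₂)

end Groth.Agent.H2.RLong
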