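import Mathlib
import Groth.Agent.Lib.Helper2.RLong1

/-!
# `H⁰ ∘ RF` is a homological functor on `D⁺`
-/

universe w w' v v' u u'

open CategoryTheory CategoryTheory.Limits Pretriangulated

namespace Groth.Agent.H2.GSSGen

open RDer RLong

variable {C : Type u} [Category.{v} C] [Abelian C] [HasDerivedCategory.{w} C] [EnoughInjectives C]
  {D : Type u'} [Category.{v'} D] [Abelian D] [HasDerivedCategory.{w'} D]
  (F : C ⥤ D) [F.Additive]

/-- the functor `H⁰ ∘ RF` on `D⁺` -/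
noncomputable def Φ : DerivedCategory.Plus C ⥤ D :=
  F.rightDerivedFunctorPlus ⋙ DerivedCategory.Plus.homologyFunctor D 0

/-- the functor `H⁰ ∘ F` on `K⁺` -/
noncomputable def Ψ : HomotopyCategory.Plus C ⥤ D :=
  (F.mapHomotopyCategoryPlus ⋙ DerivedCategory.Plus.Qh) ⋙ DerivedCategory.Plus.homologyFunctor D 0

instance : (Ψ F).IsHomological := by
  unfold Ψ
  infer_instance

/-- the comparison `H⁰ ∘ F ⟶ H⁰ ∘ RF ∘ Qh` -/
noncomputable def ηΦ : Ψ F ⟶ DerivedCategory.Plus.Qh ⋙ Φ F :=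
  Functor.whiskerRight F.rightDerivedFunctorPlusUnit (DerivedCategory.Plus.homologyFunctor D 0)

/-- the objects of `K⁺` which are isomorphic to a complex of injectives -/
def IsInj (K : HomotopyCategory.Plus C) : Prop :=
  ∃ (J : CochainComplex C ℤ) (a : ℤ) (_ : J.IsStrictlyGE a) (_ : ∀ n, Injective (J.X n)),
    Nonempty (K ≅ plusObj J a)

lemma isIso_unit_of_isInj (K : HomotopyCategory.Plus C) (hK : IsInj K) :
    IsIso (F.rightDerivedFunctorPlusUnit.app K) := by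
  obtain ⟨J, a, _, _, ⟨e⟩⟩ := hK
  have h := isIso_unit_plusObj F J a
  have nat := F.rightDerivedFunctorPlusUnit.naturality e.hom
  have : F.rightDerivedFunctorPlusUnit.app K =
      (F.mapHomotopyCategoryPlus ⋙ DerivedCategory.Plus.Qh).map e.hom ≫
        F.rightDerivedFunctorPlusUnit.app (plusObj J a) ≫
          inv ((DerivedCategory.Plus.Qh ⋙ F.rightDerivedFunctorPlus).map e.hom) := by
    rw [← Category.assoc, nat, Category.assoc, IsIso.hom_inv_id, Category.comp_id]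
  rw [this]
  infer_instance

lemma isIso_ηΦ_of_isInj (K : HomotopyCategory.Plus C) (hK : IsInj K) :
    IsIso ((ηΦ F).app K) := by
  have := isIso_unit_of_isInj F K hK
  change IsIso ((DerivedCategory.Plus.homologyFunctor D 0).map
    (F.rightDerivedFunctorPlusUnit.app K))
  infer_instance

lemma exists_rep_of_isGE (X : DerivedCategory.Plus C) (n : ℤ) [X.IsGE n] :
    ∃ (J : CochainComplex C ℤ) (_ : J.IsStrictlyGE n) (_ : ∀ k, Injective (J.X k)),
      Nonempty (DerivedCategory.Plus.Qh.obj (plusObj J n) ≅ X) := by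
  obtain ⟨L, hL, ⟨e⟩⟩ := DerivedCategory.Plus.exists_injective_nonempty_iso X n
  have h1 : (((InjectiveObject.ι C).mapCochainComplexPlus.obj L).obj).IsStrictlyGE n := by
    change CochainComplex.IsStrictlyGE
      (((InjectiveObject.ι C).mapHomologicalComplex (ComplexShape.up ℤ)).obj L.obj) n
    rw [CochainComplex.isStrictlyGE_mapHomologicalComplex_obj_iff]
    exact hL
  have h2 : ∀ k, Injective ((((InjectiveObject.ι C).mapCochainComplexPlus.obj L).obj).X k) :=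
    fun k => inferInstanceAs (Injective ((InjectiveObject.ι C).obj (L.obj.X k)))
  exact ⟨_, h1, h2, ⟨e⟩⟩

lemma exists_rep (X : DerivedCategory.Plus C) :
    ∃ K : HomotopyCategory.Plus C, IsInj K ∧ Nonempty (DerivedCategory.Plus.Qh.obj K ≅ X) := by
  obtain ⟨n, hn⟩ := X.property
  have : X.IsGE n := (DerivedCategory.Plus.isGE_ι_obj_iff X n).1 hn
  obtain ⟨J, hJ, hinj, ⟨e⟩⟩ := exists_rep_of_isGE X n
  exact ⟨plusObj J n, ⟨J, n, hJ, hinj, ⟨Iso.refl _⟩⟩, ⟨e⟩⟩

omit [HasDerivedCategory C] [EnoughInjectives C] in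
lemma exists_plusMap_eq {J₁ J₂ : CochainComplex C ℤ} (a₁ a₂ : ℤ) [J₁.IsStrictlyGE a₁]
    [J₂.IsStrictlyGE a₂] (ψ : plusObj J₁ a₁ ⟶ plusObj J₂ a₂) :
    ∃ φ : J₁ ⟶ J₂, plusMap a₁ a₂ φ = ψ := by
  obtain ⟨φ, hφ⟩ := (HomotopyCategory.Plus.quotient C).map_surjective
    (X := (⟨J₁, ⟨a₁, inferInstance⟩⟩ : CochainComplex.Plus C))
    (Y := (⟨J₂, ⟨a₂, inferInstance⟩⟩ : CochainComplex.Plus C)) (by exact ψ)
  exact ⟨φ.hom, hφ⟩

omit [HasDerivedCategory C] [EnoughInjectives C] in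
lemma isInj_obj₃ (T₀ : Triangle (HomotopyCategory.Plus C))
    (hT₀ : T₀ ∈ distTriang (HomotopyCategory.Plus C))
    (h₁ : IsInj T₀.obj₁) (h₂ : IsInj T₀.obj₂) : IsInj T₀.obj₃ := by
  obtain ⟨J₁, a₁, _, hJ₁, ⟨e₁⟩⟩ := h₁
  obtain ⟨J₂, a₂, _, hJ₂, ⟨e₂⟩⟩ := h₂
  obtain ⟨φ, hφ⟩ := exists_plusMap_eq a₁ a₂ (e₁.inv ≫ T₀.mor₁ ≫ e₂.hom)
  have hc : (CochainComplex.mappingCone φ).IsStrictlyGE (min (a₁ - 1) a₂) :=
    CochainComplex.isStrictlyGE_mappingCone φ a₁ a₂ _ (by
      have := min_le_left (a₁ - 1) a₂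
      omega) (min_le_right _ _)
  have hinj : ∀ n, Injective ((CochainComplex.mappingCone φ).X n) := fun n =>
    Injective.of_iso (HomologicalComplex.homotopyCofiber.XIsoBiprod φ n (n + 1) rfl).symm
      inferInstance
  have d1 := (HomotopyCategory.Plus.ι C).map_distinguished _ hT₀
  have d2 := HomotopyCategory.mappingCone_triangleh_distinguished φ
  have comm : ((HomotopyCategory.Plus.ι C).mapTriangle.obj T₀).mor₁ ≫
      ((HomotopyCategory.Plus.ι C).mapIso e₂).hom =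
      ((HomotopyCategory.Plus.ι C).mapIso e₁).hom ≫
        (CochainComplex.mappingCone.triangleh φ).mor₁ := by
    change (HomotopyCategory.Plus.ι C).map T₀.mor₁ ≫ (HomotopyCategory.Plus.ι C).map e₂.hom =
      (HomotopyCategory.Plus.ι C).map e₁.hom ≫
        (HomotopyCategory.Plus.ι C).map (plusMap a₁ a₂ φ)
    rw [hφ, ← Functor.map_comp, ← Functor.map_comp, Iso.hom_inv_id_assoc]
  let e := isoTriangleOfIso₁₂ _ _ d1 d2 ((HomotopyCategory.Plus.ι C).mapIso e₁)
    ((HomotopyCategory.Plus.ι C).mapIso e₂) comm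
  let e₃ : (HomotopyCategory.Plus.ι C).obj T₀.obj₃ ≅
      (HomotopyCategory.Plus.ι C).obj (plusObj (CochainComplex.mappingCone φ) (min (a₁ - 1) a₂)) :=
    Triangle.π₃.mapIso e
  exact ⟨_, _, hc, hinj, ⟨(HomotopyCategory.Plus.fullyFaithfulι C).preimageIso e₃⟩⟩

omit [EnoughInjectives C] in
lemma Qh_map_bijective_of_isInj (K L : HomotopyCategory.Plus C) (hL : IsInj L) :
    Function.Bijective (DerivedCategory.Plus.Qh.map : (K ⟶ L) → _) := by
  obtain ⟨J, a, _, hJ, ⟨e⟩⟩ := hL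
  have hKI : CochainComplex.IsKInjective J := CochainComplex.isKInjective_of_injective J a
  have h := DerivedCategory.Plus.Qh_map_bijective_of_isKInjective K (plusObj J a) hKI
  constructor
  · intro f g hfg
    have : f ≫ e.hom = g ≫ e.hom := h.1 (by
      rw [Functor.map_comp, Functor.map_comp, hfg])
    exact (cancel_mono e.hom).1 this
  · intro f
    obtain ⟨g, hg⟩ := h.2 (f ≫ DerivedCategory.Plus.Qh.map e.hom)
    refine ⟨g ≫ e.inv, ?_⟩
    rw [Functor.map_comp, hg, Category.assoc, ← Functor.map_comp, Iso.hom_inv_id,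
      CategoryTheory.Functor.map_id, Category.comp_id]

/-- `H⁰(RF(Qh K)) ≅ H⁰(F J)` for a complex of injectives -/
noncomputable def ΦQhIso (J : CochainComplex C ℤ) (a : ℤ) [J.IsStrictlyGE a]
    [∀ n, Injective (J.X n)] :
    (Φ F).obj (DerivedCategory.Plus.Qh.obj (plusObj J a)) ≅
      ((F.mapHomologicalComplex (ComplexShape.up ℤ)).obj J).homology 0 :=
  haveI := isIso_ηΦ_of_isInj F (plusObj J a) ⟨J, a, inferInstance, inferInstance, ⟨Iso.refl _⟩⟩
  (asIso ((ηΦ F).app (plusObj J a))).symm ≪≫ β F 0 J a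

lemma isZero_Φ_of_isGE (X : DerivedCategory.Plus C) (n : ℤ) (hn : 0 < n) [X.IsGE n] :
    IsZero ((Φ F).obj X) := by
  obtain ⟨J, hJ, hinj, ⟨e⟩⟩ := exists_rep_of_isGE X n
  refine IsZero.of_iso ?_ ((Φ F).mapIso e.symm ≪≫ ΦQhIso F J n)
  have : CochainComplex.IsStrictlyGE ((F.mapHomologicalComplex (ComplexShape.up ℤ)).obj J) n := by
    rw [CochainComplex.isStrictlyGE_iff]
    intro i hi
    exact F.map_isZero (J.isZero_of_isStrictlyGE n i hi)
  rw [← HomologicalComplex.exactAt_iff_isZero_homology]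
  exact HomologicalComplex.exactAt_of_isSupported _ (ComplexShape.embeddingUpIntGE n) 0
    (by
      intro i hi
      have : (ComplexShape.embeddingUpIntGE n).f i = n + i := rfl
      omega)

open ZeroObject in
instance : (Φ F).PreservesZeroMorphisms := by
  have h0 : IsZero (0 : DerivedCategory.Plus C) := isZero_zero _
  have : (0 : DerivedCategory.Plus C).IsGE 1 :=
    DerivedCategory.Plus.TStructure.t.isGE_of_isZero h0 1
  exact Functor.preservesZeroMorphisms_of_map_zero_object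
    ((isZero_Φ_of_isGE F 0 1 (by omega)).isoZero)

/-- exactness on a triangle of `K⁺` with objects isomorphic to complexes of injectives -/
lemma exact_of_isInj (T₀ : Triangle (HomotopyCategory.Plus C))
    (hT₀ : T₀ ∈ distTriang (HomotopyCategory.Plus C))
    (h₁ : IsInj T₀.obj₁) (h₂ : IsInj T₀.obj₂) :
    ((shortComplexOfDistTriangle T₀ hT₀).map (DerivedCategory.Plus.Qh ⋙ Φ F)).Exact := by
  have h₃ := isInj_obj₃ T₀ hT₀ h₁ h₂
  have hex := (Ψ F).map_distinguished_exact T₀ hT₀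
  have i1 := isIso_ηΦ_of_isInj F _ h₁
  have i2 := isIso_ηΦ_of_isInj F _ h₂
  have i3 := isIso_ηΦ_of_isInj F _ h₃
  let τ := (shortComplexOfDistTriangle T₀ hT₀).mapNatTrans (ηΦ F)
  have : Epi τ.τ₁ := by
    change Epi ((ηΦ F).app T₀.obj₁)
    infer_instance
  have : IsIso τ.τ₂ := by
    change IsIso ((ηΦ F).app T₀.obj₂)
    infer_instance
  have : Mono τ.τ₃ := by
    change Mono ((ηΦ F).app T₀.obj₃)
    infer_instance
  exact (ShortComplex.exact_iff_of_epi_of_isIso_of_mono τ).1 hex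

instance : (Φ F).IsHomological := by
  refine Functor.IsHomological.mk' _ (fun T hT => ?_)
  obtain ⟨K₁, hK₁, ⟨e₁⟩⟩ := exists_rep T.obj₁
  obtain ⟨K₂, hK₂, ⟨e₂⟩⟩ := exists_rep T.obj₂
  obtain ⟨ψ, hψ⟩ := (Qh_map_bijective_of_isInj K₁ K₂ hK₂).2 (e₁.hom ≫ T.mor₁ ≫ e₂.inv)
  obtain ⟨Z, g, h, hT₀⟩ := distinguished_cocone_triangle ψ
  have hT₀' := DerivedCategory.Plus.Qh.map_distinguished _ hT₀
  have comm : T.mor₁ ≫ e₂.symm.hom = e₁.symm.hom ≫
      (DerivedCategory.Plus.Qh.mapTriangle.obj (Triangle.mk ψ g h)).mor₁ := by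
    change T.mor₁ ≫ e₂.inv = e₁.inv ≫ DerivedCategory.Plus.Qh.map ψ
    rw [hψ, Iso.inv_hom_id_assoc]
  refine ⟨_, isoTriangleOfIso₁₂ T _ hT hT₀' e₁.symm e₂.symm comm, ?_⟩
  exact exact_of_isInj F (Triangle.mk ψ g h) hT₀ hK₁ hK₂

end Groth.Agent.H2.GSSGen
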