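import Mathlib
import Groth.Agent.Lib.Helper2.GSSGen1
import Groth.Agent.Lib.Lead.GSS.MapHom
import Groth.Agent.Lib.Lead.GSS.Abut

/-!
# The hypercohomology spectral object of `RF` on an object of `D^{≥0}`
-/

universe w w' v v' u u'

open CategoryTheory CategoryTheory.Limits Pretriangulated ComposableArrows

namespace Groth.Agent.H2.GSSGen

open RDer RLong Groth.Agent.LD.GSS

variable {C : Type u} [Category.{v} C] [Abelian C] [HasDerivedCategory.{w} C] [EnoughInjectives C]
  {D : Type u'} [Category.{v'} D] [Abelian D] [HasDerivedCategory.{w'} D]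
  (F : C ⥤ D) [F.Additive]

noncomputable instance : (Φ F).ShiftSequence ℤ := Functor.ShiftSequence.tautological _ _

lemma Φ_shift_obj (n : ℤ) (X : DerivedCategory.Plus C) :
    ((Φ F).shift n).obj X = (Φ F).obj (X⟦n⟧) := rfl

open DerivedCategory.Plus in
/-- the truncation `τ_{≥ i} τ_{< j} X` -/
noncomputable abbrev trunc (X : DerivedCategory.Plus C) (i j : EInt) : DerivedCategory.Plus C :=
  (TStructure.t.eTruncGE.obj i).obj ((TStructure.t.eTruncLT.obj j).obj X)

/-- the spectral object -/
noncomputable def spec (X : DerivedCategory.Plus C) : Abelian.SpectralObject D EInt :=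
  mapHomological (DerivedCategory.Plus.TStructure.t.spectralObject X) (Φ F)

lemma spec_H_obj (X : DerivedCategory.Plus C) (n : ℤ) {i j : EInt} (hij : i ≤ j) :
    ((spec F X).H n).obj (mk₁ (homOfLE hij)) = (Φ F).obj ((trunc X i j)⟦n⟧) := rfl

omit [HasDerivedCategory C] [EnoughInjectives C] in
lemma succ_le_of_lt' (n : ℤ) (i : EInt) (h : ((n : ℤ) : EInt) < i) :
    (((n + 1 : ℤ)) : EInt) ≤ i := by
  induction i using WithBotTop.rec with
  | bot => simp at h
  | coe i =>
    simp only [WithBotTop.coe_lt_coe] at h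
    exact WithBotTop.coe_le_coe.2 (by lia)
  | top => exact le_top

open DerivedCategory.Plus in
instance (X : DerivedCategory.Plus C) [X.IsGE 0] : (spec F X).IsFirstQuadrant where
  isZero₁ i j hij hj n := by
    rw [spec_H_obj]
    have h0 : IsZero ((TStructure.t.eTruncLT.obj j).obj X) :=
      TStructure.t.isZero_eTruncLT_obj_obj X 0 j hj
    have h1 : IsZero (trunc X i j) := Functor.map_isZero _ h0
    exact (Φ F).map_isZero ((shiftFunctor (DerivedCategory.Plus C) n).map_isZero h1)
  isZero₂ i j hij n hi := by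
    rw [spec_H_obj]
    have : TStructure.t.IsGE (trunc X i j) (n + 1) :=
      TStructure.t.isGE_eTruncGE_obj_obj (n + 1) i (succ_le_of_lt' n i hi) _
    have : TStructure.t.IsGE ((trunc X i j)⟦n⟧) 1 :=
      TStructure.t.isGE_shift (trunc X i j) (n + 1) n 1 (by lia)
    exact isZero_Φ_of_isGE F _ 1 (by omega)

end Groth.Agent.H2.GSSGen
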