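import Groth.Agent.Lib.Helper2.RDer8

/-!
# Leray's acyclicity lemma
-/

universe w w' v v' u u'

open CategoryTheory CategoryTheory.Limits

namespace Groth.Agent.H2.RDer

open ZeroObject

section adapted

variable {A : Type u} [Category.{v} A] [Abelian A]
  {B : Type u'} [Category.{v'} B] [Abelian B]
  (F : A ⥤ B) [F.Additive] (I : ObjectProperty A)
  (h2 : ∀ S : ShortComplex A, S.ShortExact → I S.X₁ → I S.X₂ → I S.X₃ ∧ (S.map F).ShortExact)

include h2

/-- `F` maps a quasi-isomorphism between bounded below complexes with terms in `I` to a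
quasi-isomorphism. -/
theorem quasiIso_map_of_terms (h0 : I (0 : A)) (hsum : ∀ X Y : A, I X → I Y → I (X ⊞ Y))
    (K L : CochainComplex A ℤ) (a b : ℤ) [K.IsStrictlyGE a] [L.IsStrictlyGE b]
    (hK : ∀ n, I (K.X n)) (hL : ∀ n, I (L.X n)) (s : K ⟶ L) [QuasiIso s] :
    QuasiIso ((F.mapHomologicalComplex (ComplexShape.up ℤ)).map s) := by
  rw [quasiIso_iff_mappingCone_exactAt]
  intro n
  have hC := (quasiIso_iff_mappingCone_exactAt s).1 inferInstance
  haveI : (CochainComplex.mappingCone s).IsStrictlyGE (min (a - 1) b) :=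
    CochainComplex.isStrictlyGE_mappingCone s a b _ (by
      have := min_le_left (a - 1) b
      omega) (min_le_right _ _)
  have hCI : ∀ n, I ((CochainComplex.mappingCone s).X n) := by
    intro n
    have e := HomologicalComplex.homotopyCofiber.XIsoBiprod s n (n + 1) (by simp)
    exact I_of_iso F I h2 h0 e.symm (hsum _ _ (hK (n + 1)) (hL n))
  have := exactAt_map_of_acyclic F I h2 (CochainComplex.mappingCone s) (min (a - 1) b) hC hCI h0 n
  exact this.of_iso (CochainComplex.mappingCone.mapHomologicalComplexIso s F)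

end adapted

section unit

variable {A : Type u} [Category.{v} A] [Abelian A] [HasDerivedCategory.{w} A]
  {B : Type u'} [Category.{v'} B] [Abelian B] [HasDerivedCategory.{w'} B]
  (F : A ⥤ B) [F.Additive] [EnoughInjectives A]

/-- The unit of the right derived functor at a bounded below complex `K` is an isomorphism iff `F`
maps an injective resolution of `K` to a quasi-isomorphism. -/
theorem isIso_unit_plusObj_iff (K J : CochainComplex A ℤ) (a b : ℤ) [K.IsStrictlyGE a]
    [J.IsStrictlyGE b] [∀ n, Injective (J.X n)] (s : K ⟶ J) [QuasiIso s] :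
    IsIso (F.rightDerivedFunctorPlusUnit.app (plusObj K a)) ↔
      QuasiIso ((F.mapHomologicalComplex (ComplexShape.up ℤ)).map s) := by
  have nat := F.rightDerivedFunctorPlusUnit.naturality (plusMap a b s)
  haveI h1 : IsIso (F.rightDerivedFunctorPlusUnit.app (plusObj J b)) :=
    isIso_unit_plusObj F J b
  haveI h2 : IsIso (DerivedCategory.Plus.Qh.map (plusMap a b s)) :=
    (isIso_Qh_plusMap_iff a b s).2 inferInstance
  haveI h3 : IsIso ((DerivedCategory.Plus.Qh ⋙ F.rightDerivedFunctorPlus).map
      (plusMap a b s)) := by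
    rw [Functor.comp_map]
    infer_instance
  rw [← isIso_Qh_plusMap_iff a b, ← mapHomotopyCategoryPlus_plusMap]
  change _ ↔ IsIso ((F.mapHomotopyCategoryPlus ⋙ DerivedCategory.Plus.Qh).map (plusMap a b s))
  constructor
  · intro h
    have : IsIso ((F.mapHomotopyCategoryPlus ⋙ DerivedCategory.Plus.Qh).map (plusMap a b s) ≫
        F.rightDerivedFunctorPlusUnit.app (plusObj J b)) := by
      rw [nat]
      infer_instance
    exact IsIso.of_isIso_comp_right _ (F.rightDerivedFunctorPlusUnit.app (plusObj J b))
  · intro h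
    have : IsIso (F.rightDerivedFunctorPlusUnit.app (plusObj K a) ≫
        (DerivedCategory.Plus.Qh ⋙ F.rightDerivedFunctorPlus).map (plusMap a b s)) := by
      rw [← nat]
      infer_instance
    exact IsIso.of_isIso_comp_right _
      ((DerivedCategory.Plus.Qh ⋙ F.rightDerivedFunctorPlus).map (plusMap a b s))

end unit

section leray

variable {A : Type u} [Category.{v} A] [Abelian A] [EnoughInjectives A]
  {B : Type u'} [Category.{v'} B] [Abelian B]
  (F : A ⥤ B) [F.Additive] [PreservesFiniteLimits F]

/-- The class of right `F`-acyclic objects. -/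
def acyc : ObjectProperty A := fun X => ∀ i : ℕ, 0 < i → IsZero ((F.rightDerived i).obj X)

lemma acyc_of_injective (X : A) [Injective X] : acyc F X := by
  intro i hi
  obtain ⟨k, rfl⟩ : ∃ k, i = k + 1 := ⟨i - 1, by omega⟩
  exact F.isZero_rightDerived_obj_injective_succ k X

lemma acyc_h2 (S : ShortComplex A) (hS : S.ShortExact) (h₁ : acyc F S.X₁) (h₂ : acyc F S.X₂) :
    acyc F S.X₃ ∧ (S.map F).ShortExact :=
  ⟨fun i hi => isZero_X₃ F hS i (h₂ i hi) (h₁ (i + 1) (by omega)),
    shortExact_map_of_epi F hS (epi_map_g_of_isZero F hS (h₁ 1 (by omega)))⟩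

lemma acyc_zero : acyc F (0 : A) := acyc_of_injective F 0

lemma acyc_biprod (X Y : A) (hX : acyc F X) (hY : acyc F Y) : acyc F (X ⊞ Y) := by
  intro i hi
  have hS : (ShortComplex.mk (biprod.inl : X ⟶ X ⊞ Y) biprod.snd biprod.inl_snd).ShortExact :=
    (ShortComplex.Splitting.mk biprod.fst biprod.inr biprod.inl_fst biprod.inr_snd
      biprod.total).shortExact
  exact isZero_X₂ F hS i (hX i hi) (hY i hi)

/-- Leray's acyclicity lemma: `F` maps a quasi-isomorphism from a bounded below complex of
`F`-acyclic objects to a bounded below complex of injectives to a quasi-isomorphism. -/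
theorem quasiIso_map_of_acyc (K J : CochainComplex A ℤ) (a b : ℤ) [K.IsStrictlyGE a]
    [J.IsStrictlyGE b] (hK : ∀ n, acyc F (K.X n)) [∀ n, Injective (J.X n)] (s : K ⟶ J)
    [QuasiIso s] : QuasiIso ((F.mapHomologicalComplex (ComplexShape.up ℤ)).map s) :=
  quasiIso_map_of_terms F (acyc F) (acyc_h2 F) (acyc_zero F) (acyc_biprod F) K J a b hK
    (fun n => acyc_of_injective F (J.X n)) s

end leray

end Groth.Agent.H2.RDer
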