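import Mathlib
import Groth.Agent.Lib.Helper2.GSSGen2
import Groth.Agent.Lib.Helper2.RDer9

/-!
# Computing `H⁰(RF(W⟦n⟧))` from an injective model of `W`
-/

universe w w' v v' u u'

open CategoryTheory CategoryTheory.Limits Pretriangulated

namespace Groth.Agent.H2.GSSGen

open RDer RLong

variable {C : Type u} [Category.{v} C] [Abelian C] [HasDerivedCategory.{w} C] [EnoughInjectives C]
  {D : Type u'} [Category.{v'} D] [Abelian D] [HasDerivedCategory.{w'} D]
  (F : C ⥤ D) [F.Additive]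

omit [HasDerivedCategory C] [EnoughInjectives C] in
lemma isInj_shift (K : HomotopyCategory.Plus C) (hK : IsInj K) (n : ℤ) : IsInj (K⟦n⟧) := by
  obtain ⟨J, a, _, hJ, ⟨e⟩⟩ := hK
  have h1 : (J⟦n⟧).IsStrictlyGE (a - n) := J.isStrictlyGE_shift a n (a - n) (by omega)
  have h2 : ∀ k, Injective ((J⟦n⟧).X k) := fun k => inferInstanceAs (Injective (J.X (k + n)))
  let e₁ : (HomotopyCategory.Plus.ι C).obj (K⟦n⟧) ≅
      (HomotopyCategory.Plus.ι C).obj (plusObj (J⟦n⟧) (a - n)) :=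
    ((HomotopyCategory.Plus.ι C).commShiftIso n).app K ≪≫
      (shiftFunctor _ n).mapIso ((HomotopyCategory.Plus.ι C).mapIso e) ≪≫
      ((HomotopyCategory.quotient C (ComplexShape.up ℤ)).commShiftIso n).symm.app J
  exact ⟨_, _, h1, h2, ⟨(HomotopyCategory.Plus.fullyFaithfulι C).preimageIso e₁⟩⟩

noncomputable instance : (Ψ F).ShiftSequence ℤ :=
  inferInstanceAs (((F.mapHomotopyCategoryPlus ⋙ DerivedCategory.Plus.Qh) ⋙
    DerivedCategory.Plus.homologyFunctor D 0).ShiftSequence ℤ)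

omit [HasDerivedCategory C] [EnoughInjectives C] in
lemma Ψ_shift_obj (n : ℤ) (K : HomotopyCategory.Plus C) :
    ((Ψ F).shift n).obj K = (G' F n).obj K := rfl

/-- `H⁰(RF((Qh K)⟦n⟧)) ≅ Hⁿ(F K)` for `K` a complex of injectives -/
noncomputable def ΦShiftIso (K : HomotopyCategory.Plus C) (hK : IsInj K) (n : ℤ) :
    (Φ F).obj ((DerivedCategory.Plus.Qh.obj K)⟦n⟧) ≅ (G' F n).obj K :=
  haveI := isIso_ηΦ_of_isInj F (K⟦n⟧) (isInj_shift K hK n)
  (Φ F).mapIso ((DerivedCategory.Plus.Qh.commShiftIso n).app K).symm ≪≫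
    (asIso ((ηΦ F).app (K⟦n⟧))).symm ≪≫
    ((Ψ F).isoShiftZero ℤ).symm.app (K⟦n⟧) ≪≫
    ((Ψ F).shiftIso n 0 n (add_zero n)).app K

lemma nonempty_Φ_shift_iso (W : DerivedCategory.Plus C) (J : CochainComplex C ℤ) (a : ℤ)
    [J.IsStrictlyGE a] [∀ n, Injective (J.X n)]
    (e : DerivedCategory.Plus.Qh.obj (plusObj J a) ≅ W) (n : ℤ) :
    Nonempty ((Φ F).obj (W⟦n⟧) ≅
      ((F.mapHomologicalComplex (ComplexShape.up ℤ)).obj J).homology n) :=
  ⟨(Φ F).mapIso ((shiftFunctor _ n).mapIso e.symm) ≪≫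
    ΦShiftIso F (plusObj J a) ⟨J, a, inferInstance, inferInstance, ⟨Iso.refl _⟩⟩ n ≪≫ β F n J a⟩

/-- a bounded below complex of `F`-acyclic objects computes `RF` -/
lemma nonempty_Φ_shift_iso_of_acyc [PreservesFiniteLimits F] (K : CochainComplex C ℤ) (a : ℤ)
    [K.IsStrictlyGE a] (hK : ∀ n, acyc F (K.X n)) (n : ℤ) :
    Nonempty ((Φ F).obj ((DerivedCategory.Plus.Qh.obj (plusObj K a))⟦n⟧) ≅
      ((F.mapHomologicalComplex (ComplexShape.up ℤ)).obj K).homology n) := by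
  obtain ⟨J, s, hJ, hinj, hmono, hs⟩ := SESRes.exists_injective_resolution K a
  have h1 : IsIso (DerivedCategory.Plus.Qh.map (plusMap a a s)) :=
    (isIso_Qh_plusMap_iff a a s).2 hs
  obtain ⟨e⟩ := nonempty_Φ_shift_iso F (DerivedCategory.Plus.Qh.obj (plusObj K a)) J a
    (asIso (DerivedCategory.Plus.Qh.map (plusMap a a s))).symm n
  have h2 : QuasiIso ((F.mapHomologicalComplex (ComplexShape.up ℤ)).map s) :=
    quasiIso_map_of_acyc F K J a a hK s
  have h3 : IsIso (HomologicalComplex.homologyMap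
      ((F.mapHomologicalComplex (ComplexShape.up ℤ)).map s) n) := by
    rw [← quasiIsoAt_iff_isIso_homologyMap]
    infer_instance
  exact ⟨e ≪≫ (asIso (HomologicalComplex.homologyMap
      ((F.mapHomologicalComplex (ComplexShape.up ℤ)).map s) n)).symm⟩

end Groth.Agent.H2.GSSGen
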