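import Mathlib
import Groth.Agent.Lib.Helper2.GSSGen3
import Groth.Agent.Lib.Lead.GSS.ExtendMap

/-!
# `H⁰(RF(V⟦p⟧)) ≅ RᵖF(H⁰ V)` for `V` in the heart of `D⁺`
-/

universe w w' v v' u u'

open CategoryTheory CategoryTheory.Limits Pretriangulated

namespace Groth.Agent.H2.GSSGen

open RDer RLong

variable {C : Type u} [Category.{v} C] [Abelian C] [HasDerivedCategory.{w} C] [EnoughInjectives C]
  {D : Type u'} [Category.{v'} D] [Abelian D] [HasDerivedCategory.{w'} D]
  (F : C ⥤ D) [F.Additive]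

omit [HasDerivedCategory C] [HasDerivedCategory D] in
/-- `R^k F X` is the `k`-th cohomology of `F` applied to the `ℤ`-indexed injective resolution. -/
noncomputable def rightDerivedIsoHomology' {X : C} (I : InjectiveResolution X) (k : ℕ) :
    (F.rightDerived k).obj X ≅
      ((F.mapHomologicalComplex (ComplexShape.up ℤ)).obj I.cochainComplex).homology (k : ℤ) :=
  I.isoRightDerivedObj F k ≪≫
    (((F.mapHomologicalComplex (ComplexShape.up ℕ)).obj I.cocomplex).extendHomologyIso
      ComplexShape.embeddingUpNat (j := k) (j' := (k : ℤ)) rfl).symm ≪≫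
    (HomologicalComplex.homologyFunctor D (ComplexShape.up ℤ) (k : ℤ)).mapIso
      (Groth.Agent.LD.GSS.mapExtendIso F I.cocomplex ComplexShape.embeddingUpNat).symm

lemma nonempty_Φ_shift_heart_iso (V : DerivedCategory.Plus C) [V.IsGE 0] [V.IsLE 0] (p : ℕ) :
    Nonempty ((Φ F).obj (V⟦(p : ℤ)⟧) ≅
      (F.rightDerived p).obj ((DerivedCategory.Plus.homologyFunctor C 0).obj V)) := by
  obtain ⟨Y, ⟨e⟩⟩ := DerivedCategory.exists_iso_singleFunctor_obj_of_isGE_of_isLE
    (DerivedCategory.Plus.ι.obj V) 0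
  let eY : (DerivedCategory.Plus.homologyFunctor C 0).obj V ≅ Y :=
    (DerivedCategory.homologyFunctor C 0).mapIso e ≪≫
      (DerivedCategory.singleFunctorCompHomologyFunctorIso C 0).app Y
  let R := InjectiveResolution.of Y
  have hq : IsIso (DerivedCategory.Q.map R.ι') := by
    rw [DerivedCategory.isIso_Q_map_iff_quasiIso]
    infer_instance
  let e₁ : DerivedCategory.Plus.ι.obj (DerivedCategory.Plus.Qh.obj (plusObj R.cochainComplex 0)) ≅
      DerivedCategory.Plus.ι.obj V :=
    (DerivedCategory.quotientCompQhIso C).app R.cochainComplex ≪≫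
      (asIso (DerivedCategory.Q.map R.ι')).symm ≪≫
      ((DerivedCategory.singleFunctorIsoCompQ C 0).app Y).symm ≪≫ e.symm
  obtain ⟨e₂⟩ := nonempty_Φ_shift_iso F V R.cochainComplex 0
    (DerivedCategory.Plus.ι.preimageIso e₁) p
  exact ⟨e₂ ≪≫ (rightDerivedIsoHomology' F R p).symm ≪≫
    (F.rightDerived p).mapIso eY.symm⟩

end Groth.Agent.H2.GSSGen
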