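import Mathlib
import Groth.Agent.Lib.Helper2.GSSGen4

/-!
# Homology of truncations in `D⁺`
-/

universe w v u

open CategoryTheory CategoryTheory.Limits Pretriangulated

namespace Groth.Agent.H2.GSSGen

variable {C : Type u} [Category.{v} C] [Abelian C] [HasDerivedCategory.{w} C]

open DerivedCategory.Plus

/-- the homology functors on `D⁺` -/
noncomputable abbrev HP (i : ℤ) : DerivedCategory.Plus C ⥤ C := DerivedCategory.Plus.homologyFunctor C i

lemma shift_HP (i : ℤ) : (HP (C := C) 0).shift i = HP i := rfl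

lemma isIso_HP_truncLTι (X : DerivedCategory.Plus C) (b i : ℤ) (hi : i < b) :
    IsIso ((HP i).map ((TStructure.t.truncLTι b).app X)) := by
  let T := (TStructure.t.triangleLTGE b).obj X
  have hT : T ∈ distTriang _ := TStructure.t.triangleLTGE_distinguished b X
  have h3 : ∀ j, j < b → IsZero ((HP j).obj T.obj₃) :=
    fun j hj => isZero_homology_of_isGE _ b j hj
  have hmono : Mono ((HP i).map T.mor₁) := by
    have := ((HP (C := C) 0).homologySequence_mono_shift_map_mor₁_iff T hT (i - 1) i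
      (by omega)).2 ((h3 (i - 1) (by omega)).eq_of_src _ _)
    exact this
  have hepi : Epi ((HP i).map T.mor₁) := by
    have := ((HP (C := C) 0).homologySequence_epi_shift_map_mor₁_iff T hT i).2
      ((h3 i hi).eq_of_tgt _ _)
    exact this
  have : IsIso ((HP i).map T.mor₁) := isIso_of_mono_of_epi _
  exact this

lemma isIso_HP_truncGEπ (X : DerivedCategory.Plus C) (b i : ℤ) (hi : b ≤ i) :
    IsIso ((HP i).map ((TStructure.t.truncGEπ b).app X)) := by
  let T := (TStructure.t.triangleLTGE b).obj X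
  have hT : T ∈ distTriang _ := TStructure.t.triangleLTGE_distinguished b X
  have h1 : ∀ j, b ≤ j → IsZero ((HP j).obj T.obj₁) :=
    fun j hj => isZero_homology_of_isLE _ (b - 1) j (by omega)
  have hmono : Mono ((HP i).map T.mor₂) := by
    have := ((HP (C := C) 0).homologySequence_mono_shift_map_mor₂_iff T hT i).2
      ((h1 i hi).eq_of_src _ _)
    exact this
  have hepi : Epi ((HP i).map T.mor₂) := by
    have := ((HP (C := C) 0).homologySequence_epi_shift_map_mor₂_iff T hT i (i + 1) rfl).2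
      ((h1 (i + 1) (by omega)).eq_of_tgt _ _)
    exact this
  have : IsIso ((HP i).map T.mor₂) := isIso_of_mono_of_epi _
  exact this

/-- `H^q(τ_{≥q}τ_{<q+1} X) ≅ H^q(X)` -/
noncomputable def HPTruncIso (X : DerivedCategory.Plus C) (q : ℤ) :
    (HP q).obj (trunc X ((q : ℤ) : EInt) ((q + 1 : ℤ) : EInt)) ≅ (HP q).obj X :=
  haveI := isIso_HP_truncGEπ ((TStructure.t.truncLT (q + 1)).obj X) q q le_rfl
  haveI := isIso_HP_truncLTι X (q + 1) q (by omega)
  (asIso ((HP q).map ((TStructure.t.truncGEπ q).app ((TStructure.t.truncLT (q + 1)).obj X)))).symm ≪≫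
    asIso ((HP q).map ((TStructure.t.truncLTι (q + 1)).app X))

section

variable [EnoughInjectives C]
  {D : Type*} [Category D] [Abelian D] [HasDerivedCategory D]
  (F : C ⥤ D) [F.Additive]

lemma nonempty_E₂_iso (X : DerivedCategory.Plus C) (q : ℤ) (p : ℕ) (n : ℤ) (hn : n = p + q) :
    Nonempty ((Φ F).obj ((trunc X ((q : ℤ) : EInt) ((q + 1 : ℤ) : EInt))⟦n⟧) ≅
      (F.rightDerived p).obj ((HP q).obj X)) := by
  subst hn
  set Z := trunc X ((q : ℤ) : EInt) ((q + 1 : ℤ) : EInt) with hZ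
  have h1 : TStructure.t.IsGE Z q := TStructure.t.isGE_eTruncGE_obj_obj q q le_rfl _
  have h2 : TStructure.t.IsLE Z q := by
    have : TStructure.t.IsLE ((TStructure.t.eTruncLT.obj ((q + 1 : ℤ) : EInt)).obj X) q :=
      TStructure.t.isLE_eTruncLT_obj_obj q _ le_rfl X
    infer_instance
  have h3 : TStructure.t.IsGE (Z⟦q⟧) 0 := TStructure.t.isGE_shift Z q q 0 (by omega)
  have h4 : TStructure.t.IsLE (Z⟦q⟧) 0 := TStructure.t.isLE_shift Z q q 0 (by omega)
  obtain ⟨e⟩ := nonempty_Φ_shift_heart_iso F (Z⟦q⟧) p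
  let e₁ : Z⟦(p : ℤ) + q⟧ ≅ (Z⟦q⟧)⟦(p : ℤ)⟧ :=
    (shiftFunctorAdd' (DerivedCategory.Plus C) q (p : ℤ) ((p : ℤ) + q) (by omega)).app Z
  let e₂ : (HP 0).obj (Z⟦q⟧) ≅ (HP q).obj Z :=
    ((HP (C := C) 0).shiftIso q 0 q (add_zero q)).app Z
  exact ⟨(Φ F).mapIso e₁ ≪≫ e ≪≫ (F.rightDerived p).mapIso (e₂ ≪≫ HPTruncIso X q)⟩

end

end Groth.Agent.H2.GSSGen
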