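import Mathlib
import Groth.Agent.Lib.Helper2.GSSGen5

/-!
# The Grothendieck spectral sequence of a composite of functors
-/

universe v u

open CategoryTheory CategoryTheory.Limits Pretriangulated ComposableArrows
open scoped ZeroObject

namespace Groth.Agent.H2.GSSGen

open RDer RLong Groth.Agent.LD.GSS

lemma enoughInjectives_of_hasInjectiveResolutions (C : Type u) [Category.{v} C] [Abelian C]
    [HasInjectiveResolutions C] : EnoughInjectives C :=
  ⟨fun X => ⟨⟨(injectiveResolution X).cocomplex.X 0, inferInstance,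
    (HomologicalComplex.singleObjXSelf (ComplexShape.up ℕ) 0 X).inv ≫
      (injectiveResolution X).ι.f 0, inferInstance⟩⟩⟩

section

variable {C C' C'' : Type u} [Category.{v} C] [Category.{v} C'] [Category.{v} C'']
  [Abelian C] [Abelian C'] [Abelian C''] [HasInjectiveResolutions C] [HasInjectiveResolutions C']
  (T : C ⥤ C') [T.Additive] (S : C' ⥤ C'') [S.Additive] [PreservesFiniteLimits S]
  (hT : ∀ Q : C, Injective Q → ∀ q : ℕ, 0 < q → IsZero ((S.rightDerived q).obj (T.obj Q))) (A : C)

attribute [local instance] HasDerivedCategory.standard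

include hT in
theorem exists_gss :
    ∃ (E : E₂CohomologicalSpectralSequence C'')
      (a : SpSeq.Abutment E (fun n : ℤ =>
        if 0 ≤ n then ((T ⋙ S).rightDerived n.toNat).obj A else 0)),
      (∀ n, a.IsFinite n) ∧ SpSeq.IsBounded E ∧
      ∀ p q : ℤ, Nonempty ((E.page 2 le_rfl).X (p, q) ≅
        (if 0 ≤ p ∧ 0 ≤ q then
          (S.rightDerived p.toNat).obj ((T.rightDerived q.toNat).obj A) else 0)) := by
  haveI : EnoughInjectives C' := enoughInjectives_of_hasInjectiveResolutions C'
  haveI : EnoughInjectives C := enoughInjectives_of_hasInjectiveResolutions C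
  let R := injectiveResolution A
  let K : CochainComplex C' ℤ := (T.mapHomologicalComplex (ComplexShape.up ℤ)).obj R.cochainComplex
  haveI : K.IsStrictlyGE 0 := by
    rw [CochainComplex.isStrictlyGE_iff]
    intro i hi
    exact T.map_isZero (R.cochainComplex.isZero_of_isStrictlyGE 0 i hi)
  have hK : ∀ n, acyc S (K.X n) := fun n i hi =>
    hT _ (inferInstance : Injective (R.cochainComplex.X n)) i hi
  let X : DerivedCategory.Plus C' := DerivedCategory.Plus.Qh.obj (plusObj K 0)
  haveI : X.IsGE 0 := by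
    rw [← DerivedCategory.Plus.isGE_ι_obj_iff]
    exact DerivedCategory.TStructure.t.isGE_of_iso ((DerivedCategory.quotientCompQhIso C').symm.app K) 0
  -- the abutment
  have hab : ∀ n : ℤ, Nonempty (abut (spec S X) n ≅
      (if 0 ≤ n then ((T ⋙ S).rightDerived n.toNat).obj A else 0)) := by
    intro n
    by_cases hn : 0 ≤ n
    · rw [if_pos hn]
      obtain ⟨k, rfl⟩ := Int.eq_ofNat_of_zero_le hn
      rw [Int.toNat_natCast]
      obtain ⟨e⟩ := nonempty_Φ_shift_iso_of_acyc S K 0 hK (k : ℤ)
      exact ⟨e ≪≫ (rightDerivedIsoHomology' (T ⋙ S) R k).symm⟩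
    · rw [if_neg hn]
      exact ⟨(isZero_abut_of_neg (spec S X) n (by omega)).iso (isZero_zero _)⟩
  obtain ⟨a, ha, hb, hE⟩ := exists_abutment (spec S X)
    (H' := fun n : ℤ => if 0 ≤ n then ((T ⋙ S).rightDerived n.toNat).obj A else 0)
    (fun n => (hab n).some)
  refine ⟨_, a, ha, hb, fun p q => ?_⟩
  split_ifs with hpq
  · obtain ⟨e1⟩ := hE p q
    obtain ⟨hp, hq⟩ := hpq
    obtain ⟨k, rfl⟩ := Int.eq_ofNat_of_zero_le hp
    obtain ⟨l, rfl⟩ := Int.eq_ofNat_of_zero_le hq
    rw [Int.toNat_natCast, Int.toNat_natCast]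
    obtain ⟨e2⟩ := nonempty_E₂_iso S X (l : ℤ) k ((k : ℤ) + l) rfl
    let e3 : (HP (l : ℤ)).obj X ≅ (T.rightDerived l).obj A :=
      (DerivedCategory.homologyFunctorFactors C' (l : ℤ)).app K ≪≫
        (rightDerivedIsoHomology' T R l).symm
    exact ⟨e1 ≪≫ e2 ≪≫ (S.rightDerived k).mapIso e3⟩
  · refine ⟨IsZero.iso ?_ (isZero_zero _)⟩
    rw [not_and_or, not_le, not_le] at hpq
    rcases hpq with h | h
    · exact isZero_page_of_fst_neg _ 2 le_rfl (p, q) h
    · exact isZero_page_of_snd_neg _ 2 le_rfl (p, q) h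

end

end Groth.Agent.H2.GSSGen
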