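import Groth.Agent.Lib.Helper2.TorBalNat
import Groth.Agent.Lib.Helper2.TorBalMod

/-! Natural balancing of `Tor` over a commutative ring: for a projective resolution `P` of `M`,
`Tor_n(M, -) ≅ H_n(P ⊗ -)` as functors. -/

universe u

namespace Groth.Agent.H2.TorBal

open CategoryTheory CategoryTheory.Limits Category HomologicalComplex MonoidalCategory

variable {R : Type u} [CommRing R]

/-- The natural transformation `- ⊗ N ⟶ - ⊗ N'` induced by `g : N ⟶ N'`. -/
noncomputable def tensorRightMap {N N' : ModuleCat.{u} R} (g : N ⟶ N') :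
    tensorRight N ⟶ tensorRight N' where
  app X := X ◁ g
  naturality _ _ f := (whisker_exchange f g).symm

@[simp]
lemma tensorRightMap_app {N N' : ModuleCat.{u} R} (g : N ⟶ N') (X : ModuleCat.{u} R) :
    (tensorRightMap g).app X = X ◁ g := rfl

/-- The functor `N ↦ K ⊗ N` for a chain complex `K`. -/
noncomputable def tensorCxR (K : ChainComplex (ModuleCat.{u} R) ℕ) :
    ModuleCat.{u} R ⥤ ChainComplex (ModuleCat.{u} R) ℕ where
  obj N := ((tensorRight N).mapHomologicalComplex _).obj K
  map g := (NatTrans.mapHomologicalComplex (tensorRightMap g) _).app K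
  map_id X := by
    ext i : 1
    rw [NatTrans.mapHomologicalComplex_app_f]
    simp
    rfl
  map_comp f g := by
    ext i : 1
    rw [NatTrans.mapHomologicalComplex_app_f]
    simp
    rfl

@[simp]
lemma tensorCxR_obj_X (K : ChainComplex (ModuleCat.{u} R) ℕ) (N : ModuleCat.{u} R) (i : ℕ) :
    ((tensorCxR K).obj N).X i = K.X i ⊗ N := rfl

@[simp]
lemma tensorCxR_obj_d (K : ChainComplex (ModuleCat.{u} R) ℕ) (N : ModuleCat.{u} R) (i j : ℕ) :
    ((tensorCxR K).obj N).d i j = K.d i j ▷ N := rfl

@[simp]
lemma tensorCxR_map_f (K : ChainComplex (ModuleCat.{u} R) ℕ) {N N' : ModuleCat.{u} R} (g : N ⟶ N')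
    (i : ℕ) : ((tensorCxR K).map g).f i = K.X i ◁ g := rfl

/-- The natural transformation `- ⊗ K ⟶ - ⊗ K'` induced by a map of complexes. -/
noncomputable def tensorCxMap {K K' : ChainComplex (ModuleCat.{u} R) ℕ} (γ : K ⟶ K') :
    tensorCx K ⟶ tensorCx K' where
  app X := ((tensorLeft X).mapHomologicalComplex _).map γ
  naturality X Y f := by
    ext i : 1
    exact (whisker_exchange f (γ.f i)).symm

@[simp]
lemma tensorCxMap_app_f {K K' : ChainComplex (ModuleCat.{u} R) ℕ} (γ : K ⟶ K')
    (X : ModuleCat.{u} R) (i : ℕ) : ((tensorCxMap γ).app X).f i = X ◁ γ.f i := rfl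

section Compat

variable {N N' : ModuleCat.{u} R} (g : N ⟶ N') (Q : ProjectiveResolution N)
  (Q' : ProjectiveResolution N') (γ : Q.complex ⟶ Q'.complex)
  (comm : γ.f 0 ≫ Q'.π.f 0 = Q.π.f 0 ≫ g)

include comm in
lemma tensorCxZeroIso_compat (X : ModuleCat.{u} R) :
    homologyMap ((tensorCxMap γ).app X) 0 ≫ (deltaData Q').e.hom.app X =
      (deltaData Q).e.hom.app X ≫ (tensorRightMap g).app X := by
  have h1 := ProjectiveResolution.fromLeftDerivedZero'_naturality g Q Q' γ comm (tensorLeft X)
  have h2 := HomologicalComplex.homologyι_naturality ((tensorCxMap γ).app X) 0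
  show homologyMap ((tensorCxMap γ).app X) 0 ≫ (tensorCxZeroIso Q' X).hom =
    (tensorCxZeroIso Q X).hom ≫ X ◁ g
  rw [tensorCxZeroIso_hom, tensorCxZeroIso_hom]
  exact sq_comp₂ h2 h1

end Compat

/-- **Natural balancing of Tor**: `Tor_n(M, -) ≅ H_n(P ⊗ -)`. -/
noncomputable def torIsoR (M : ModuleCat.{u} R) (P : ProjectiveResolution M) (n : ℕ) :
    (Tor (ModuleCat.{u} R) n).obj M ≅
      tensorCxR P.complex ⋙ HomologicalComplex.homologyFunctor (ModuleCat.{u} R) _ n :=
  NatIso.ofComponents
    (fun N => torIsoTensorCx M (projectiveResolution N) n ≪≫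
      (deltaData (projectiveResolution N)).iso n P)
    (fun {N N'} g => by
      have h1 := ProjectiveResolution.isoLeftDerivedObj_hom_naturality g
        (projectiveResolution N) (projectiveResolution N')
        (ProjectiveResolution.lift g _ _)
        (ProjectiveResolution.lift_commutes_zero g _ _) (tensorLeft M) n
      have h2 := DeltaData.iso_naturality (deltaData (projectiveResolution N))
        (deltaData (projectiveResolution N'))
        (tensorCxMap (ProjectiveResolution.lift g _ _)) (tensorRightMap g)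
        (tensorCxZeroIso_compat g _ _ _ (ProjectiveResolution.lift_commutes_zero g _ _)) n P
      exact sq_comp₂ h1 h2)

end Groth.Agent.H2.TorBal
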