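import Mathlib

/-! Homology of complexes of modules commutes with filtered colimits. -/

universe u

namespace Groth.Agent.H2.HomologyFiltered

open CategoryTheory CategoryTheory.Limits HomologicalComplex

variable {R : Type u} [Ring R] {ι : Type*} {c : ComplexShape ι}

section Elements

variable (K : HomologicalComplex (ModuleCat.{u} R) c)

lemma iCycles_injective (n : ι) : Function.Injective (K.iCycles n) :=
  (ModuleCat.mono_iff_injective _).1 inferInstance

lemma homologyπ_surjective (n : ι) : Function.Surjective (K.homologyπ n) :=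
  (ModuleCat.epi_iff_surjective _).1 inferInstance

lemma exists_cycle (n : ι) (x : K.X n) (hx : K.d n (c.next n) x = 0) :
    ∃ w : K.cycles n, K.iCycles n w = x := by
  have hex : (ShortComplex.mk (K.iCycles n) (K.d n (c.next n)) (K.iCycles_d n _)).Exact :=
    ShortComplex.exact_of_f_is_kernel _ (K.cyclesIsKernel n (c.next n) rfl)
  rw [ShortComplex.ShortExact.moduleCat_exact_iff_function_exact] at hex
  exact (hex x).1 hx

lemma homologyπ_eq_zero_iff (n : ι) (w : K.cycles n) :
    K.homologyπ n w = 0 ↔ ∃ u : K.X (c.prev n), K.d (c.prev n) n u = K.iCycles n w := by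
  have hex : (ShortComplex.mk (K.toCycles (c.prev n) n) (K.homologyπ n)
      (K.toCycles_comp_homologyπ _ n)).Exact :=
    ShortComplex.exact_of_g_is_cokernel _ (K.homologyIsCokernel (c.prev n) n rfl)
  rw [ShortComplex.ShortExact.moduleCat_exact_iff_function_exact] at hex
  rw [hex w]
  constructor
  · rintro ⟨u, hu⟩
    refine ⟨u, ?_⟩
    have := congrArg (K.iCycles n) hu
    rw [← this]
    exact (congrArg (fun f => f.hom u) (K.toCycles_i (c.prev n) n)).symm
  · rintro ⟨u, hu⟩
    refine ⟨u, iCycles_injective K n ?_⟩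
    rw [← hu]
    exact congrArg (fun f => f.hom u) (K.toCycles_i (c.prev n) n)

end Elements

section Main

lemma apply_eq_of_comp_eq {W X Y Z : ModuleCat.{u} R} (f : W ⟶ X) (g : X ⟶ Z) (f' : W ⟶ Y)
    (g' : Y ⟶ Z) (h : f ≫ g = f' ≫ g') (w : W) : g (f w) = g' (f' w) := by
  rw [← ConcreteCategory.comp_apply, h, ConcreteCategory.comp_apply]

lemma apply_eq_of_comp_eq' {W X Z : ModuleCat.{u} R} (f : W ⟶ X) (g : X ⟶ Z) (k : W ⟶ Z)
    (h : f ≫ g = k) (w : W) : g (f w) = k w := by
  rw [← ConcreteCategory.comp_apply, h]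

variable {J : Type u} [SmallCategory J]
  {D : J ⥤ HomologicalComplex (ModuleCat.{u} R) c} {t : Cocone D}

lemma app_f_map (m : ι) {j k : J} (f : j ⟶ k) (y : (D.obj j).X m) :
    (t.ι.app k).f m ((D.map f).f m y) = (t.ι.app j).f m y := by
  have h := HomologicalComplex.congr_hom (t.w f) m
  rw [HomologicalComplex.comp_f] at h
  exact apply_eq_of_comp_eq' _ _ _ h y

variable [IsFiltered J] (ht : IsColimit t)

include ht

lemma exists_rep (m : ι) (x : t.pt.X m) :
    ∃ (j : J) (y : (D.obj j).X m), (t.ι.app j).f m y = x :=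
  Concrete.isColimit_exists_rep (D ⋙ eval _ c m)
    (isColimitOfPreserves (eval (ModuleCat.{u} R) c m) ht) x

lemma exists_map_eq_zero (m : ι) (j : J) (y : (D.obj j).X m) (hy : (t.ι.app j).f m y = 0) :
    ∃ (k : J) (f : j ⟶ k), (D.map f).f m y = 0 := by
  obtain ⟨k, f, g, hfg⟩ := (Concrete.isColimit_rep_eq_iff_exists (F := D ⋙ eval _ c m)
    (isColimitOfPreserves (eval (ModuleCat.{u} R) c m) ht) y (0 : (D.obj j).X m)).1
    (hy.trans (map_zero ((t.ι.app j).f m).hom).symm)
  exact ⟨k, f, hfg.trans (map_zero ((D.map g).f m).hom)⟩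

lemma homology_exists_rep (n : ι) (x : t.pt.homology n) :
    ∃ (j : J) (y : (D.obj j).homology n), homologyMap (t.ι.app j) n y = x := by
  obtain ⟨z, rfl⟩ := homologyπ_surjective t.pt n x
  obtain ⟨j, y, hy⟩ := exists_rep ht n (t.pt.iCycles n z)
  have hz : t.pt.d n (c.next n) (t.pt.iCycles n z) = 0 := by
    have := apply_eq_of_comp_eq' _ _ _ (t.pt.iCycles_d n (c.next n)) z
    simpa using this
  have h1 : (t.ι.app j).f (c.next n) ((D.obj j).d n (c.next n) y) = 0 := by
    have h2 := apply_eq_of_comp_eq _ _ _ _ ((t.ι.app j).comm n (c.next n)) y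
    rw [← h2]
    show t.pt.d n (c.next n) ((t.ι.app j).f n y) = 0
    rw [hy, hz]
  obtain ⟨k, f, hf⟩ := exists_map_eq_zero ht (c.next n) j _ h1
  have h3 : (D.obj k).d n (c.next n) ((D.map f).f n y) = 0 := by
    have h4 := apply_eq_of_comp_eq _ _ _ _ ((D.map f).comm n (c.next n)) y
    exact h4.trans hf
  obtain ⟨w, hw⟩ := exists_cycle (D.obj k) n _ h3
  refine ⟨k, (D.obj k).homologyπ n w, ?_⟩
  have h5 : cyclesMap (t.ι.app k) n w = z := by
    apply iCycles_injective t.pt n
    have h6 := apply_eq_of_comp_eq _ _ _ _ (cyclesMap_i (t.ι.app k) n) w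
    refine h6.trans ?_
    rw [hw, app_f_map, hy]
  have h7 := apply_eq_of_comp_eq _ _ _ _ (homologyπ_naturality (t.ι.app k) n) w
  refine h7.trans ?_
  rw [h5]
  rfl

lemma homology_map_eq_zero (n : ι) (i : J) (a : (D.obj i).homology n)
    (ha : homologyMap (t.ι.app i) n a = 0) :
    ∃ (k : J) (f : i ⟶ k), homologyMap (D.map f) n a = 0 := by
  obtain ⟨e, rfl⟩ := homologyπ_surjective (D.obj i) n a
  have h1 : t.pt.homologyπ n (cyclesMap (t.ι.app i) n e) = 0 := by
    have h7 := apply_eq_of_comp_eq _ _ _ _ (homologyπ_naturality (t.ι.app i) n) e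
    exact h7.symm.trans ha
  obtain ⟨u, hu⟩ := (homologyπ_eq_zero_iff t.pt n _).1 h1
  have hu' : t.pt.d (c.prev n) n u = (t.ι.app i).f n ((D.obj i).iCycles n e) :=
    hu.trans (apply_eq_of_comp_eq _ _ _ _ (cyclesMap_i (t.ι.app i) n) e)
  obtain ⟨j, v, hv⟩ := exists_rep ht (c.prev n) u
  let m := IsFiltered.max i j
  let fi : i ⟶ m := IsFiltered.leftToMax i j
  let fj : j ⟶ m := IsFiltered.rightToMax i j
  let y : (D.obj m).X n := (D.map fi).f n ((D.obj i).iCycles n e) -
    (D.obj m).d (c.prev n) n ((D.map fj).f (c.prev n) v)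
  have hy0 : (t.ι.app m).f n y = 0 := by
    have h2 : (t.ι.app m).f n ((D.obj m).d (c.prev n) n ((D.map fj).f (c.prev n) v)) =
        t.pt.d (c.prev n) n u := by
      have h3 := apply_eq_of_comp_eq _ _ _ _ ((t.ι.app m).comm (c.prev n) n)
        ((D.map fj).f (c.prev n) v)
      refine h3.symm.trans ?_
      show t.pt.d (c.prev n) n ((t.ι.app m).f (c.prev n) ((D.map fj).f (c.prev n) v)) = _
      rw [app_f_map, hv]
    show (t.ι.app m).f n ((D.map fi).f n ((D.obj i).iCycles n e) -
      (D.obj m).d (c.prev n) n ((D.map fj).f (c.prev n) v)) = 0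
    rw [map_sub, app_f_map, h2, hu', sub_self]
  obtain ⟨k, g, hg⟩ := exists_map_eq_zero ht n m y hy0
  refine ⟨k, fi ≫ g, ?_⟩
  have h8 := apply_eq_of_comp_eq _ _ _ _ (homologyπ_naturality (D.map (fi ≫ g)) n) e
  refine h8.trans ?_
  rw [homologyπ_eq_zero_iff]
  refine ⟨(D.map (fj ≫ g)).f (c.prev n) v, ?_⟩
  have h9 := apply_eq_of_comp_eq _ _ _ _ (cyclesMap_i (D.map (fi ≫ g)) n) e
  rw [h9]
  have h10 : (D.map g).f n ((D.map fi).f n ((D.obj i).iCycles n e)) =
      (D.map g).f n ((D.obj m).d (c.prev n) n ((D.map fj).f (c.prev n) v)) := by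
    have : (D.map g).f n y = 0 := hg
    rw [map_sub, sub_eq_zero] at this
    exact this
  have h11 : (D.map (fi ≫ g)).f n ((D.obj i).iCycles n e) =
      (D.map g).f n ((D.map fi).f n ((D.obj i).iCycles n e)) := by
    rw [D.map_comp, HomologicalComplex.comp_f, ConcreteCategory.comp_apply]
  have h12 : (D.map (fj ≫ g)).f (c.prev n) v =
      (D.map g).f (c.prev n) ((D.map fj).f (c.prev n) v) := by
    rw [D.map_comp, HomologicalComplex.comp_f, ConcreteCategory.comp_apply]
  rw [h11, h10, h12]
  exact apply_eq_of_comp_eq _ _ _ _ ((D.map g).comm (c.prev n) n)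
    ((D.map fj).f (c.prev n) v)

end Main

section Thm

variable (J : Type u) [SmallCategory J] [IsFiltered J]

/-- Homology of complexes of modules commutes with filtered colimits. -/
theorem preservesColimitsOfShape_homologyFunctor (n : ι) :
    PreservesColimitsOfShape J (homologyFunctor (ModuleCat.{u} R) c n) := by
  constructor
  intro D
  constructor
  intro t ht
  constructor
  apply isColimitOfReflects (forget (ModuleCat.{u} R))
  apply Types.FilteredColimit.isColimitOf'
  · intro x
    obtain ⟨j, y, hy⟩ := homology_exists_rep ht n x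
    exact ⟨j, y, hy.symm⟩
  · intro i a b hab
    let a' : (D.obj i).homology n := a
    let b' : (D.obj i).homology n := b
    have hab0 : homologyMap (t.ι.app i) n a' = homologyMap (t.ι.app i) n b' := hab
    have hab' : homologyMap (t.ι.app i) n (a' - b') = 0 := by rw [map_sub, hab0, sub_self]
    obtain ⟨k, f, hf⟩ := homology_map_eq_zero ht n i _ hab'
    refine ⟨k, f, ?_⟩
    have hf' : homologyMap (D.map f) n a' = homologyMap (D.map f) n b' := by
      rw [map_sub, sub_eq_zero] at hf
      exact hf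
    exact hf'

end Thm

end Groth.Agent.H2.HomologyFiltered
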