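import Mathlib
import Groth.Agent.Lib.Helper2.TorBalMod
import Groth.Agent.Lib.Helper2.HomologyFiltered

/-! `M ↦ Tor_n(M, N)` commutes with filtered colimits. -/

universe u

namespace Groth.Agent.H2.TorBal

open CategoryTheory CategoryTheory.Limits Category HomologicalComplex MonoidalCategory

variable {R : Type u} [CommRing R]

/-- `Tor_n(-, N) ≅ H_n(- ⊗ Q)` as functors. -/
noncomputable def torFlipIso (N : ModuleCat.{u} R) (Q : ProjectiveResolution N) (n : ℕ) :
    (Tor (ModuleCat.{u} R) n).flip.obj N ≅
      tensorCx Q.complex ⋙ homologyFunctor (ModuleCat.{u} R) (ComplexShape.down ℕ) n :=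
  NatIso.ofComponents (fun M => torIsoTensorCx M Q n) (fun {M M'} f => by
    have h := ProjectiveResolution.leftDerived_app_eq
      ((tensoringLeft (ModuleCat.{u} R)).map f) Q n
    show (NatTrans.leftDerived ((tensoringLeft (ModuleCat.{u} R)).map f) n).app N ≫ _ = _
    rw [h]
    simp only [assoc]
    erw [Iso.inv_hom_id, comp_id]
    rfl)

/-- Evaluation of `- ⊗ K` in degree `i` is `- ⊗ K_i`. -/
noncomputable def tensorCxEvalIso (K : ChainComplex (ModuleCat.{u} R) ℕ) (i : ℕ) :
    tensorCx K ⋙ HomologicalComplex.eval _ _ i ≅ tensorRight (K.X i) :=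
  NatIso.ofComponents (fun _ => Iso.refl _) (fun f => by
    simp only [Iso.refl_hom, comp_id, id_comp]
    rfl)

instance (K : ChainComplex (ModuleCat.{u} R) ℕ) (J : Type u) [SmallCategory J] :
    PreservesColimitsOfShape J (tensorCx K) :=
  HomologicalComplex.preservesColimitsOfShape_of_eval _ (fun i =>
    preservesColimitsOfShape_of_natIso (tensorCxEvalIso K i).symm)

/-- `M ↦ Tor_n(M, N)` preserves filtered colimits. -/
theorem preservesColimitsOfShape_tor_flip (N : ModuleCat.{u} R) (n : ℕ)
    (J : Type u) [SmallCategory J] [IsFiltered J] :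
    PreservesColimitsOfShape J ((Tor (ModuleCat.{u} R) n).flip.obj N) := by
  haveI := Groth.Agent.H2.HomologyFiltered.preservesColimitsOfShape_homologyFunctor
    (R := R) (c := ComplexShape.down ℕ) J n
  exact preservesColimitsOfShape_of_natIso (torFlipIso N (projectiveResolution N) n).symm

end Groth.Agent.H2.TorBal
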