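import Mathlib
import Groth.Agent.Lib.Helper2.TorBalNatMod
import Groth.Agent.Lib.Helper2.TorFiltered

/-! Symmetry of `Tor` as an isomorphism of bifunctors. -/

universe u

namespace Groth.Agent.H2.TorBal

open CategoryTheory CategoryTheory.Limits Category HomologicalComplex MonoidalCategory

variable {R : Type u} [CommRing R]

/-- The natural transformation `K ⊗ - ⟶ K' ⊗ -` induced by a map of complexes. -/
noncomputable def tensorCxRMap {K K' : ChainComplex (ModuleCat.{u} R) ℕ} (φ : K ⟶ K') :
    tensorCxR K ⟶ tensorCxR K' where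
  app N := ((tensorRight N).mapHomologicalComplex _).map φ
  naturality N N' g := by
    ext i : 1
    exact whisker_exchange (φ.f i) g

@[simp]
lemma tensorCxRMap_app_f {K K' : ChainComplex (ModuleCat.{u} R) ℕ} (φ : K ⟶ K')
    (N : ModuleCat.{u} R) (i : ℕ) : ((tensorCxRMap φ).app N).f i = φ.f i ▷ N := rfl

/-- Naturality of `torIsoR` in the first variable. -/
lemma torIsoR_hom_naturality {M M' : ModuleCat.{u} R} (f : M ⟶ M') (P : ProjectiveResolution M)
    (P' : ProjectiveResolution M') (φ : P.complex ⟶ P'.complex)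
    (comm : φ.f 0 ≫ P'.π.f 0 = P.π.f 0 ≫ f) (n : ℕ) (N : ModuleCat.{u} R) :
    ((Tor (ModuleCat.{u} R) n).map f).app N ≫ (torIsoR M' P' n).hom.app N =
      (torIsoR M P n).hom.app N ≫ homologyMap ((tensorCxRMap φ).app N) n := by
  have h1 := ProjectiveResolution.leftDerived_app_eq
    ((tensoringLeft (ModuleCat.{u} R)).map f) (projectiveResolution N) n
  have h2 := DeltaData.iso_naturality₂ (deltaData (projectiveResolution N)) n f P P' φ comm
  show (NatTrans.leftDerived ((tensoringLeft (ModuleCat.{u} R)).map f) n).app N ≫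
    ((torIsoTensorCx M' (projectiveResolution N) n).hom ≫
      ((deltaData (projectiveResolution N)).iso n P').hom) =
    ((torIsoTensorCx M (projectiveResolution N) n).hom ≫
      ((deltaData (projectiveResolution N)).iso n P).hom) ≫ _
  rw [h1]
  simp only [assoc]
  have h3 : ((projectiveResolution N).isoLeftDerivedObj (tensorLeft M') n).inv ≫
      (torIsoTensorCx M' (projectiveResolution N) n).hom = 𝟙 _ := Iso.inv_hom_id _
  rw [reassoc_of% h3]
  congr 1

/-- The braiding `K ⊗ - ≅ - ⊗ K` of functors to chain complexes. -/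
noncomputable def tensorCxBraid (K : ChainComplex (ModuleCat.{u} R) ℕ) : tensorCxR K ≅ tensorCx K :=
  NatIso.ofComponents
    (fun N => HomologicalComplex.Hom.isoOfComponents (fun i => β_ (K.X i) N)
      (fun i j _ => (BraidedCategory.braiding_naturality_left (K.d i j) N).symm))
    (fun {N N'} g => by
      ext i : 1
      exact BraidedCategory.braiding_naturality_right (K.X i) g)

lemma tensorCxBraid_naturality {K K' : ChainComplex (ModuleCat.{u} R) ℕ} (φ : K ⟶ K')
    (N : ModuleCat.{u} R) :
    (tensorCxRMap φ).app N ≫ (tensorCxBraid K').hom.app N =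
      (tensorCxBraid K).hom.app N ≫ (tensorCxMap φ).app N := by
  ext i : 1
  exact BraidedCategory.braiding_naturality_left (φ.f i) N

/-- The symmetry isomorphism `Tor_n(M, -) ≅ Tor_n(-, M)`. -/
noncomputable def torSymmIso (M : ModuleCat.{u} R) (P : ProjectiveResolution M) (n : ℕ) :
    (Tor (ModuleCat.{u} R) n).obj M ≅ (Tor (ModuleCat.{u} R) n).flip.obj M :=
  torIsoR M P n ≪≫ Functor.isoWhiskerRight (tensorCxBraid P.complex)
    (homologyFunctor (ModuleCat.{u} R) (ComplexShape.down ℕ) n) ≪≫ (torFlipIso M P n).symm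

lemma torSymmIso_hom_app (M : ModuleCat.{u} R) (P : ProjectiveResolution M) (n : ℕ)
    (N : ModuleCat.{u} R) :
    (torSymmIso M P n).hom.app N = (torIsoR M P n).hom.app N ≫
      homologyMap ((tensorCxBraid P.complex).hom.app N) n ≫
        (P.isoLeftDerivedObj (tensorLeft N) n).inv := rfl

lemma torSymmIso_naturality {M M' : ModuleCat.{u} R} (f : M ⟶ M') (P : ProjectiveResolution M)
    (P' : ProjectiveResolution M') (φ : P.complex ⟶ P'.complex)
    (comm : φ.f 0 ≫ P'.π.f 0 = P.π.f 0 ≫ f) (n : ℕ) (N : ModuleCat.{u} R) :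
    ((Tor (ModuleCat.{u} R) n).map f).app N ≫ (torSymmIso M' P' n).hom.app N =
      (torSymmIso M P n).hom.app N ≫ ((Tor (ModuleCat.{u} R) n).obj N).map f := by
  have h1 := torIsoR_hom_naturality f P P' φ comm n N
  have h2 : homologyMap ((tensorCxRMap φ).app N) n ≫
      homologyMap ((tensorCxBraid P'.complex).hom.app N) n =
      homologyMap ((tensorCxBraid P.complex).hom.app N) n ≫
        homologyMap ((tensorCxMap φ).app N) n := by
    rw [← homologyMap_comp, ← homologyMap_comp, tensorCxBraid_naturality]
  have h3 := (ProjectiveResolution.isoLeftDerivedObj_inv_naturality f P P' φ comm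
    (tensorLeft N) n).symm
  rw [torSymmIso_hom_app, torSymmIso_hom_app]
  exact sq_comp₃ h1 h2 h3

/-- **Symmetry of Tor** as an isomorphism of bifunctors. -/
noncomputable def torSymm (n : ℕ) :
    Tor (ModuleCat.{u} R) n ≅ (Tor (ModuleCat.{u} R) n).flip :=
  NatIso.ofComponents (fun M => torSymmIso M (projectiveResolution M) n)
    (fun {M M'} f => by
      apply NatTrans.ext
      funext N
      exact torSymmIso_naturality f _ _ (ProjectiveResolution.lift f _ _)
        (ProjectiveResolution.lift_commutes_zero f _ _) n N)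

end Groth.Agent.H2.TorBal
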