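import Mathlib
import Groth.Prelude.Def_CInt

/-!
# Schematically dense open subschemes (helper2)
-/

open AlgebraicGeometry CategoryTheory TopologicalSpace Opposite

namespace Groth.Agent.H2.SchDense

universe u

variable {X : Scheme.{u}}

/-- A section which vanishes locally vanishes. -/
lemma eq_zero_of_locally {V : X.Opens} (a : Γ(X, V))
    (h : ∀ x ∈ V, ∃ (W : X.Opens) (hWV : W ≤ V), x ∈ W ∧ X.presheaf.map (homOfLE hWV).op a = 0) :
    a = 0 := by
  choose W hWV hxW hW using h
  refine X.sheaf.eq_of_locally_eq' (fun x : V => W x.1 x.2) V (fun x => homOfLE (hWV x.1 x.2)) ?_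
    a 0 ?_
  · intro x hx
    exact Opens.mem_iSup.mpr ⟨⟨x, hx⟩, hxW x hx⟩
  · intro x
    rw [map_zero]
    exact hW x.1 x.2

/-- Criterion: it suffices to check injectivity on zero sections. -/
lemma of_forall_eq_zero (U : X.Opens)
    (h : ∀ (V : X.Opens) (a : Γ(X, V)),
      X.presheaf.map (homOfLE (inf_le_left : V ⊓ U ≤ V)).op a = 0 → a = 0) :
    CInt.IsSchematicallyDense U := by
  intro V a b hab
  have : a - b = 0 := h V (a - b) (by rw [map_sub, hab, sub_self])
  exact sub_eq_zero.mp this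

/-- Criterion: it suffices to check on affine opens. -/
lemma of_forall_affine (U : X.Opens)
    (h : ∀ (V : X.Opens), IsAffineOpen V → ∀ a : Γ(X, V),
      X.presheaf.map (homOfLE (inf_le_left : V ⊓ U ≤ V)).op a = 0 → a = 0) :
    CInt.IsSchematicallyDense U := by
  apply of_forall_eq_zero
  intro V a ha
  apply eq_zero_of_locally
  intro x hx
  obtain ⟨_, ⟨W, hW, rfl⟩, hxW, hWV'⟩ := X.isBasis_affineOpens.exists_subset_of_mem_open hx V.2
  have hWV : W ≤ V := hWV'
  refine ⟨W, hWV, hxW, ?_⟩
  apply h W hW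
  have e : X.presheaf.map (homOfLE (inf_le_left : W ⊓ U ≤ W)).op
        (X.presheaf.map (homOfLE hWV).op a) =
      X.presheaf.map (homOfLE (inf_le_inf_right U hWV : W ⊓ U ≤ V ⊓ U)).op
        (X.presheaf.map (homOfLE (inf_le_left : V ⊓ U ≤ V)).op a) := by
    rw [← ConcreteCategory.comp_apply, ← ConcreteCategory.comp_apply, ← X.presheaf.map_comp,
      ← X.presheaf.map_comp]
    rfl
  rw [e, ha, map_zero]

lemma apply_eq_zero {U : X.Opens} (hU : CInt.IsSchematicallyDense U) {V : X.Opens} (a : Γ(X, V))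
    (ha : X.presheaf.map (homOfLE (inf_le_left : V ⊓ U ≤ V)).op a = 0) : a = 0 :=
  hU V (by rw [ha, map_zero])

/-- Monotonicity. -/
lemma mono {U U' : X.Opens} (hU : CInt.IsSchematicallyDense U) (hUU' : U ≤ U') :
    CInt.IsSchematicallyDense U' := by
  apply of_forall_eq_zero
  intro V a ha
  apply apply_eq_zero hU
  have e : X.presheaf.map (homOfLE (inf_le_left : V ⊓ U ≤ V)).op a =
      X.presheaf.map (homOfLE (inf_le_inf_left V hUU' : V ⊓ U ≤ V ⊓ U')).op
        (X.presheaf.map (homOfLE (inf_le_left : V ⊓ U' ≤ V)).op a) := by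
    rw [← ConcreteCategory.comp_apply, ← X.presheaf.map_comp]
    rfl
  rw [e, ha, map_zero]

/-- The non-vanishing locus of a section whose germs are non-zero-divisors is schematically
dense. -/
theorem basicOpen_of_germ_nonZeroDivisors (s : Γ(X, ⊤))
    (hs : ∀ x : X, (X.presheaf.germ ⊤ x trivial s) ∈ nonZeroDivisors (X.presheaf.stalk x)) :
    CInt.IsSchematicallyDense (X.basicOpen s) := by
  apply of_forall_affine
  intro V hV a ha
  set s' : Γ(X, V) := X.presheaf.map (homOfLE (le_top : V ≤ ⊤)).op s with hs'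
  have hb : X.basicOpen s' = V ⊓ X.basicOpen s := Scheme.basicOpen_res _ _ _
  have hle : X.basicOpen s' ≤ V ⊓ X.basicOpen s := hb.le
  have H : X.presheaf.map (homOfLE (X.basicOpen_le s')).op a = 0 := by
    have e : X.presheaf.map (homOfLE (X.basicOpen_le s')).op a =
        X.presheaf.map (homOfLE hle).op
          (X.presheaf.map (homOfLE (inf_le_left : V ⊓ X.basicOpen s ≤ V)).op a) := by
      rw [← ConcreteCategory.comp_apply, ← X.presheaf.map_comp]
      rfl
    rw [e, ha, map_zero]
  obtain ⟨n, hn⟩ := exists_pow_mul_eq_zero_of_res_basicOpen_eq_zero_of_isAffineOpen X hV a s' H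
  apply TopCat.Presheaf.section_ext X.sheaf V a 0
  intro x hx
  rw [map_zero]
  have h1 := congrArg (X.presheaf.germ V x hx) hn
  rw [map_mul, map_pow, map_zero] at h1
  have h2 : X.presheaf.germ V x hx s' = X.presheaf.germ ⊤ x trivial s :=
    TopCat.Presheaf.germ_res_apply X.presheaf (homOfLE (le_top : V ≤ ⊤)) x hx s
  rw [h2] at h1
  have h3 : (X.presheaf.germ ⊤ x trivial s) ^ n ∈ nonZeroDivisors (X.presheaf.stalk x) :=
    pow_mem (hs x) n
  exact (mul_left_mem_nonZeroDivisors_eq_zero_iff h3).mp h1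

end Groth.Agent.H2.SchDense
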