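import Mathlib
import Groth.Prelude.Def_CInt
import Groth.Agent.Lib.Helper2.SchDense

/-!
# Schematic density and flat base change (helper2)
-/

open AlgebraicGeometry CategoryTheory TopologicalSpace Opposite
open scoped TensorProduct

namespace Groth.Agent.H2.SchDense

universe u

/-- If no nonzero element is killed by all `s i`, then no nonzero element is killed by powers of
all the `s i`. -/
lemma eq_zero_of_pow_mul_eq_zero {B : Type*} [CommRing B] {ι : Type*} [Fintype ι] (s : ι → B)
    (hinj : ∀ b : B, (∀ i, s i * b = 0) → b = 0) :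
    ∀ b : B, (∀ i, ∃ m : ℕ, s i ^ m * b = 0) → b = 0 := by
  classical
  intro b hb
  choose m hm using hb
  suffices H : ∀ (N : ℕ) (m : ι → ℕ) (b : B), ∑ i, m i = N → (∀ i, s i ^ m i * b = 0) → b = 0 from
    H _ m b rfl hm
  intro N
  induction N using Nat.strong_induction_on with
  | _ N ih =>
    intro m b hN hm
    apply hinj
    intro i₀
    by_cases h0 : m i₀ = 0
    · have := hm i₀
      rw [h0, pow_zero, one_mul] at this
      rw [this, mul_zero]
    · have hpos : 0 < m i₀ := Nat.pos_of_ne_zero h0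
      refine ih (∑ i, Function.update m i₀ (m i₀ - 1) i) ?_ (Function.update m i₀ (m i₀ - 1))
        (s i₀ * b) rfl ?_
      · rw [← hN]
        apply Finset.sum_lt_sum
        · intro i _
          by_cases hi : i = i₀
          · subst hi; simp
          · simp [Function.update_of_ne hi]
        · exact ⟨i₀, Finset.mem_univ _, by simp; omega⟩
      · intro i
        by_cases hi : i = i₀
        · subst hi
          rw [Function.update_self, ← mul_assoc, ← pow_succ, Nat.sub_add_cancel hpos]
          exact hm i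
        · rw [Function.update_of_ne hi, mul_left_comm, hm i, mul_zero]

/-- Flat base change of the condition "no nonzero element is killed by all `t i`". -/
lemma flat_baseChange_inj {A B : Type u} [CommRing A] [CommRing B] [Algebra A B]
    [Module.Flat A B] {ι : Type*} [Fintype ι] [DecidableEq ι] (t : ι → A)
    (hinj : ∀ c : A, (∀ i, t i * c = 0) → c = 0) :
    ∀ b : B, (∀ i, algebraMap A B (t i) * b = 0) → b = 0 := by
  intro b hb
  let ψ : A →ₗ[A] (ι → A) := LinearMap.pi fun i => LinearMap.mulLeft A (t i)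
  have hψ : Function.Injective ψ := by
    rw [injective_iff_map_eq_zero]
    intro c hc
    apply hinj
    intro i
    have := congrFun hc i
    simpa [ψ] using this
  have hinj' := Module.Flat.lTensor_preserves_injective_linearMap (M := B) ψ hψ
  have h1 : (ψ.lTensor B) (b ⊗ₜ[A] (1 : A)) = 0 := by
    apply (TensorProduct.piScalarRight A A B ι).injective
    rw [map_zero, LinearMap.lTensor_tmul, TensorProduct.piScalarRight_apply,
      TensorProduct.piScalarRightHom_tmul]
    funext i
    have : ψ 1 i = t i := by simp [ψ]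
    rw [this, Algebra.smul_def, Pi.zero_apply]
    exact hb i
  have h2 : b ⊗ₜ[A] (1 : A) = 0 := hinj' (by rw [h1, map_zero])
  have h3 := congrArg (TensorProduct.rid A B) h2
  simpa using h3

/-- On an affine open `W` with Noetherian coordinate ring, schematic density of `V` gives a finite
family `t i` of sections with `D(t i) ≤ V` such that no nonzero section is killed by all `t i`. -/
lemma exists_finite_family {X : Scheme.{u}} {V : X.Opens} (hV : CInt.IsSchematicallyDense V)
    {W : X.Opens} (hW : IsAffineOpen W) [IsNoetherianRing Γ(X, W)] :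
    ∃ s' : Finset Γ(X, W), (∀ t ∈ s', X.basicOpen t ≤ V) ∧
      ∀ c : Γ(X, W), (∀ t ∈ s', t * c = 0) → c = 0 := by
  let K : Set Γ(X, W) := {t | X.basicOpen t ≤ V}
  obtain ⟨s', hs'K, hs'span⟩ := (Submodule.fg_span_iff_fg_span_finset_subset K).mp
    (IsNoetherian.noetherian (Ideal.span K))
  refine ⟨s', fun t ht => hs'K ht, ?_⟩
  intro c hc
  have hann : ∀ t ∈ Ideal.span K, t * c = 0 := by
    intro t ht
    have ht' : t ∈ Submodule.span Γ(X, W) (s' : Set Γ(X, W)) := hs'span ▸ ht
    refine Submodule.span_induction (p := fun t _ => t * c = 0) ?_ ?_ ?_ ?_ ht'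
    · intro t ht; exact hc t ht
    · exact zero_mul c
    · intro x y _ _ hx hy; rw [add_mul, hx, hy, add_zero]
    · intro a x _ hx; rw [smul_eq_mul, mul_assoc, hx, mul_zero]
  apply apply_eq_zero hV
  apply eq_zero_of_locally
  rintro x ⟨hxW, hxV⟩
  obtain ⟨t, htV, hxt⟩ := hW.exists_basicOpen_le ⟨x, hxV⟩ hxW
  have htW : X.basicOpen t ≤ W := X.basicOpen_le t
  refine ⟨X.basicOpen t, le_inf htW htV, hxt, ?_⟩
  have htc : t * c = 0 := hann t (Ideal.subset_span htV)
  have e : X.presheaf.map (homOfLE (le_inf htW htV)).op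
      (X.presheaf.map (homOfLE (inf_le_left : W ⊓ V ≤ W)).op c) =
      X.presheaf.map (homOfLE htW).op c := by
    rw [← ConcreteCategory.comp_apply, ← X.presheaf.map_comp]
    rfl
  rw [e]
  have hunit : IsUnit (X.presheaf.map (homOfLE htW).op t) :=
    RingedSpace.isUnit_res_basicOpen _ t
  have := congrArg (X.presheaf.map (homOfLE htW).op) htc
  rw [map_mul, map_zero] at this
  exact (hunit.mul_right_eq_zero).mp this

/-- Preimages of schematically dense opens under flat morphisms to locally Noetherian schemes are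
schematically dense. -/
theorem preimage_of_flat_of_isLocallyNoetherian {X X' : Scheme.{u}} (f : X' ⟶ X) [Flat f]
    [IsLocallyNoetherian X] (V : X.Opens) (hV : CInt.IsSchematicallyDense V) :
    CInt.IsSchematicallyDense (f ⁻¹ᵁ V) := by
  classical
  apply of_forall_eq_zero
  intro V'' a ha
  apply eq_zero_of_locally
  intro x' hx'
  obtain ⟨_, ⟨W, hW, rfl⟩, hxW, -⟩ := X.isBasis_affineOpens.exists_subset_of_mem_open
    (Set.mem_univ (f x')) isOpen_univ
  obtain ⟨_, ⟨W', hW', rfl⟩, hxW', hW'le⟩ := X'.isBasis_affineOpens.exists_subset_of_mem_open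
    (show x' ∈ ((V'' ⊓ f ⁻¹ᵁ W : X'.Opens) : Set X') from ⟨hx', hxW⟩) (V'' ⊓ f ⁻¹ᵁ W).2
  have hW'V : W' ≤ V'' := fun y hy => (hW'le hy).1
  have e : W' ≤ f ⁻¹ᵁ W := fun y hy => (hW'le hy).2
  refine ⟨W', hW'V, hxW', ?_⟩
  have : IsNoetherianRing Γ(X, W) := IsLocallyNoetherian.component_noetherian ⟨W, hW⟩
  obtain ⟨s', hs'V, hinjA⟩ := exists_finite_family hV hW
  have hflat : RingHom.Flat (f.appLE W W' e).hom :=
    HasRingHomProperty.appLE @Flat f inferInstance ⟨W, hW⟩ ⟨W', hW'⟩ e
  let := (f.appLE W W' e).hom.toAlgebra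
  have : Module.Flat Γ(X, W) Γ(X', W') := hflat
  have hinjA' : ∀ c : Γ(X, W), (∀ i : s', (i : Γ(X, W)) * c = 0) → c = 0 :=
    fun c hc => hinjA c fun t ht => hc ⟨t, ht⟩
  have hinjB := flat_baseChange_inj (A := Γ(X, W)) (B := Γ(X', W'))
    (fun i : s' => (i : Γ(X, W))) hinjA'
  apply eq_zero_of_pow_mul_eq_zero _ hinjB
  intro i
  have hle : X'.basicOpen (f.appLE W W' e i.1) ≤ V'' ⊓ f ⁻¹ᵁ V := by
    rw [Scheme.basicOpen_appLE]
    refine le_inf (inf_le_left.trans hW'V) (inf_le_right.trans ?_)
    exact f.preimage_mono (hs'V i.1 i.2)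
  apply exists_pow_mul_eq_zero_of_res_basicOpen_eq_zero_of_isAffineOpen X' hW'
  have e2 : X'.presheaf.map (homOfLE (X'.basicOpen_le (f.appLE W W' e i.1))).op
      (X'.presheaf.map (homOfLE hW'V).op a) =
      X'.presheaf.map (homOfLE hle).op
        (X'.presheaf.map (homOfLE (inf_le_left : V'' ⊓ f ⁻¹ᵁ V ≤ V'')).op a) := by
    rw [← ConcreteCategory.comp_apply, ← ConcreteCategory.comp_apply, ← X'.presheaf.map_comp,
      ← X'.presheaf.map_comp]
    rfl
  change X'.presheaf.map (homOfLE (X'.basicOpen_le (f.appLE W W' e i.1))).op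
      (X'.presheaf.map (homOfLE hW'V).op a) = 0
  rw [e2, ha, map_zero]

end Groth.Agent.H2.SchDense
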