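import Groth.Agent.Lib.Helper2.NonSimpleA
import Groth.Agent.Lib.Lead.QC.BasisFamPull
import Groth.Agent.Lib.Lead.QC.FiniteFree

/-! Non-simplicity of a bundle of rank `> 1` admitting nonzero maps from and to an invertible module
(towards S11506). -/

universe u
set_option autoImplicit false
open CategoryTheory Limits AlgebraicGeometry TopologicalSpace Opposite

namespace Groth.Agent.H2.NonSimple
open Groth.Agent.LD.QC Groth.Agent.LD.Ann

attribute [-instance] Groth.Agent.LD.QC.stalkModule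

variable {X : Scheme.{u}}

/-- local bases of a finite locally free module of rank `r`. -/
theorem exists_isBasisFam_of_rank (E : X.Modules) (r : ℕ) (hE : FlatMod.IsFinLocFreeOfRank r E)
    (x : X) : ∃ (U : X.Opens) (e : Fin r → Γ(E, U)), x ∈ U ∧ IsBasisFam E U e := by
  obtain ⟨U, hxU, ⟨φ⟩⟩ := hE x
  let D := (FreeData.free (U : Scheme.{u}) r).ofIso φ.symm
  exact ⟨U, _, hxU, isBasisFam_of_freeData E U D⟩

theorem isTorsionFree_stalk [IsIntegral X] (F : X.Modules) (hF : FlatMod.IsFinLocFree F) (x : X) :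
    Module.IsTorsionFree (X.presheaf.stalk x) (F.presheaf.stalk x) := by
  haveI := free_stalk_of_isFinLocFree F hF x
  infer_instance

/-- on an integral scheme, a section of a finite locally free module vanishing on a nonempty open
vanishes. -/
theorem eq_zero_of_res_eq_zero [IsIntegral X] (F : X.Modules) (hF : FlatMod.IsFinLocFree F)
    {U V : X.Opens} (h : V ≤ U) (hV : (V : Set X).Nonempty) (s : Γ(F, U))
    (h0 : F.presheaf.map (homOfLE h).op s = 0) : s = 0 := by
  haveI : F.IsQuasicoherent := qc_of_isFinLocFree F hF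
  have hηV := RatExt.genericPoint_mem V hV
  apply RatExt.eq_zero_of_germ_generic F (isTorsionFree_stalk F hF) U (h hηV)
  rw [← germ_res F _ h hηV s, h0, map_zero]

/-- on an integral scheme, sections of finite locally free modules are torsion-free. -/
theorem eq_zero_of_smul_eq_zero [IsIntegral X] (F : X.Modules) (hF : FlatMod.IsFinLocFree F)
    {U : X.Opens} (a : Γ(X, U)) (s : Γ(F, U)) (h : a • s = 0) (ha : a ≠ 0) : s = 0 := by
  haveI : F.IsQuasicoherent := qc_of_isFinLocFree F hF
  have hne : (U : Set X).Nonempty := by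
    by_contra hcon
    rw [Set.not_nonempty_iff_eq_empty] at hcon
    have hW : U = ⊥ := by
      ext x
      simp [hcon]
    subst hW
    exact ha (Subsingleton.elim _ _)
  have hη := RatExt.genericPoint_mem U hne
  apply RatExt.eq_zero_of_germ_generic F (isTorsionFree_stalk F hF) U hη
  have h3 := congrArg (F.presheaf.germ U (genericPoint X) hη) h
  rw [germ_smul, map_zero] at h3
  have hga : X.presheaf.germ U (genericPoint X) hη a ≠ 0 := by
    intro h'
    apply ha
    apply germ_injective_of_isIntegral X (genericPoint X) hη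
    rw [h', map_zero]
  haveI := isTorsionFree_stalk F hF (genericPoint X)
  haveI : IsDomain (X.presheaf.stalk (genericPoint X)) := inferInstance
  exact (smul_eq_zero.mp h3).resolve_left hga

theorem nonempty_of_section_ne_zero (F : X.Modules) {U : X.Opens} (s : Γ(F, U)) (hs : s ≠ 0) :
    (U : Set X).Nonempty := by
  by_contra hcon
  rw [Set.not_nonempty_iff_eq_empty] at hcon
  have hW : U = ⊥ := by
    ext x
    simp [hcon]
  apply hs
  apply section_eq_zero_of_germ
  intro x hx
  rw [hW] at hx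
  exact absurd hx (by simp)

/-- on an integral scheme, the composite of a nonzero map to an invertible module and a nonzero
map from it to a finite locally free module is nonzero. -/
theorem comp_ne_zero_inv [IsIntegral X] (E : X.Modules) (hE : FlatMod.IsFinLocFree E)
    (N : X.Modules) (hN : PicF.IsInvertible N)
    (s : N ⟶ E) (hs : s ≠ 0) (t : E ⟶ N) (ht : t ≠ 0) : t ≫ s ≠ 0 := by
  intro h0
  obtain ⟨W, e, he⟩ := exists_app_ne_zero t ht
  obtain ⟨W', ν, hν⟩ := exists_app_ne_zero s hs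
  have hNf : FlatMod.IsFinLocFree N := isFinLocFree_of_isInvertible N hN
  have hW := nonempty_of_section_ne_zero N _ he
  have hW' := nonempty_of_section_ne_zero E _ hν
  obtain ⟨x, hxW, hxW'⟩ := nonempty_preirreducible_inter W.2 W'.2 hW hW'
  obtain ⟨U, ν₀, hxU, hν₀⟩ := (isInvertible_iff_exists_isBasisOver N).mp hN x
  obtain ⟨V, hVdef⟩ : ∃ V : X.Opens, V = U ⊓ W ⊓ W' := ⟨_, rfl⟩
  have hVne : (V : Set X).Nonempty := ⟨x, by rw [hVdef]; exact ⟨⟨hxU, hxW⟩, hxW'⟩⟩
  have hVU : V ≤ U := by rw [hVdef]; exact inf_le_left.trans inf_le_left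
  have hVW : V ≤ W := by rw [hVdef]; exact inf_le_left.trans inf_le_right
  have hVW' : V ≤ W' := by rw [hVdef]; exact inf_le_right
  obtain ⟨α, hα⟩ := (hν₀ V hVU).2 (N.presheaf.map (homOfLE hVW).op (t.app W e))
  obtain ⟨β, hβ⟩ := (hν₀ V hVU).2 (N.presheaf.map (homOfLE hVW').op ν)
  have hα' : α • N.presheaf.map (homOfLE hVU).op ν₀ =
      N.presheaf.map (homOfLE hVW).op (t.app W e) := hα
  have hβ' : β • N.presheaf.map (homOfLE hVU).op ν₀ = N.presheaf.map (homOfLE hVW').op ν := hβ
  have hα0 : α ≠ 0 := by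
    rintro rfl
    rw [zero_smul] at hα'
    exact he (eq_zero_of_res_eq_zero N hNf hVW hVne _ hα'.symm)
  have h1 : s.app V (N.presheaf.map (homOfLE hVW).op (t.app W e)) = 0 := by
    rw [app_res s hVW]
    have : s.app W (t.app W e) = 0 := congrArg (fun f => f.app W e) h0
    rw [this, map_zero]
  rw [← hα', Scheme.Modules.Hom.app_smul] at h1
  have h2 : s.app V (N.presheaf.map (homOfLE hVU).op ν₀) = 0 :=
    eq_zero_of_smul_eq_zero E hE α _ h1 hα0
  have h3 : s.app V (N.presheaf.map (homOfLE hVW').op ν) = 0 := by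
    rw [← hβ', Scheme.Modules.Hom.app_smul, h2, smul_zero]
  rw [app_res s hVW'] at h3
  exact hν (eq_zero_of_res_eq_zero E hE hVW' hVne _ h3)

end Groth.Agent.H2.NonSimple

namespace Groth.Agent.H2.NonSimple
open Groth.Agent.LD.QC Groth.Agent.LD.Ann

variable {X : Scheme.{u}}

/-- the composite of a map to an invertible module and a map from it to a bundle of rank `> 1` is
never multiplication by a unit. -/
theorem comp_ne_smulEnd_of_isUnit_inv [Nonempty X] (r : ℕ) (hr : 1 < r) (E : X.Modules)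
    (hE : FlatMod.IsFinLocFreeOfRank r E) (N : X.Modules) (hN : PicF.IsInvertible N)
    (s : N ⟶ E) (t : E ⟶ N) (a : Γ(X, ⊤)) (ha : IsUnit a) : t ≫ s ≠ smulEnd E a := by
  intro h
  obtain ⟨x⟩ := ‹Nonempty X›
  have hinj : ∀ V : X.Opens, Function.Injective (t.app V) := by
    intro V e1 e2 h12
    have h1 : s.app V (t.app V e1) = (smulEnd E a).app V e1 := congrArg (fun f => f.app V e1) h
    have h2 : s.app V (t.app V e2) = (smulEnd E a).app V e2 := congrArg (fun f => f.app V e2) h
    rw [smulEnd_app] at h1 h2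
    have hu : IsUnit (X.presheaf.map (homOfLE (le_top : V ≤ ⊤)).op a) := ha.map _
    have h3 : (X.presheaf.map (homOfLE (le_top : V ≤ ⊤)).op a) • e1 =
        (X.presheaf.map (homOfLE (le_top : V ≤ ⊤)).op a) • e2 := by
      rw [← h1, ← h2, h12]
    exact hu.smul_left_cancel.mp h3
  obtain ⟨U₁, e, hxU₁, he⟩ := exists_isBasisFam_of_rank E r hE x
  obtain ⟨U₂, ν₀, hxU₂, hν₀⟩ := (isInvertible_iff_exists_isBasisOver N).mp hN x
  obtain ⟨V, hVdef⟩ : ∃ V : X.Opens, V = U₁ ⊓ U₂ := ⟨_, rfl⟩
  have hV1 : V ≤ U₁ := by rw [hVdef]; exact inf_le_left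
  have hV2 : V ≤ U₂ := by rw [hVdef]; exact inf_le_right
  have hxV : x ∈ V := by rw [hVdef]; exact ⟨hxU₁, hxU₂⟩
  haveI : Nontrivial Γ(X, V) := by
    haveI : Nonempty V := ⟨⟨x, hxV⟩⟩
    infer_instance
  obtain ⟨i0, i1, h01⟩ : ∃ i0 i1 : Fin r, i0 ≠ i1 :=
    ⟨⟨0, by omega⟩, ⟨1, hr⟩, by simp [Fin.ext_iff]⟩
  obtain ⟨b, hb⟩ : ∃ b : Fin r → Γ(E, V), b = fun i => E.presheaf.map (homOfLE hV1).op (e i) :=
    ⟨_, rfl⟩
  obtain ⟨ν, hνdef⟩ : ∃ ν : Γ(N, V), ν = N.presheaf.map (homOfLE hV2).op ν₀ := ⟨_, rfl⟩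
  have hbij : Function.Bijective (fun c : Fin r → Γ(X, V) => ∑ i, c i • b i) := by
    rw [hb]; exact he V hV1
  have hνbij : Function.Bijective (fun c : Γ(X, V) => c • ν) := by
    rw [hνdef]; exact hν₀ V hV2
  obtain ⟨α₀, hα₀⟩ := hνbij.2 (t.app V (b i0))
  obtain ⟨α₁, hα₁⟩ := hνbij.2 (t.app V (b i1))
  have hα₀' : α₀ • ν = t.app V (b i0) := hα₀
  have hα₁' : α₁ • ν = t.app V (b i1) := hα₁
  have h1 : t.app V (α₁ • b i0 - α₀ • b i1) = 0 := by
    rw [map_sub, Scheme.Modules.Hom.app_smul, Scheme.Modules.Hom.app_smul, ← hα₀', ← hα₁',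
      smul_smul, smul_smul, mul_comm, sub_self]
  have h2 : α₁ • b i0 - α₀ • b i1 = 0 := hinj V (h1.trans (map_zero _).symm)
  classical
  have h3 : (fun c : Fin r → Γ(X, V) => ∑ i, c i • b i) (Pi.single i0 α₁ - Pi.single i1 α₀) =
      (fun c : Fin r → Γ(X, V) => ∑ i, c i • b i) 0 := by
    simp only [Pi.sub_apply, sub_smul, Finset.sum_sub_distrib, Pi.zero_apply, zero_smul,
      Finset.sum_const_zero]
    rw [Finset.sum_eq_single i0, Finset.sum_eq_single i1]
    · simpa using h2
    · intro j _ hj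
      rw [Pi.single_eq_of_ne hj, zero_smul]
    · simp
    · intro j _ hj
      rw [Pi.single_eq_of_ne hj, zero_smul]
    · simp
  have h4 := hbij.1 h3
  have h5 : α₁ = 0 := by
    have := congrFun h4 i0
    simpa [Pi.single_eq_of_ne h01] using this
  have h6 : t.app V (b i1) = 0 := by rw [← hα₁', h5, zero_smul]
  have h7 : b i1 = 0 := hinj V (h6.trans (map_zero _).symm)
  have h8 : (fun c : Fin r → Γ(X, V) => ∑ i, c i • b i) (Pi.single i1 1) =
      (fun c : Fin r → Γ(X, V) => ∑ i, c i • b i) 0 := by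
    simp only [Pi.zero_apply, zero_smul, Finset.sum_const_zero]
    rw [Finset.sum_eq_single i1]
    · simp [h7]
    · intro j _ hj
      rw [Pi.single_eq_of_ne hj, zero_smul]
    · simp
  have h9 := congrFun (hbij.1 h8) i1
  simp at h9

end Groth.Agent.H2.NonSimple
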