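import Groth.Agent.Lib.Helper2.EulerChartB
import Groth.Agent.Lib.Helper2.NonSimpleB
import Groth.Agent.Lib.Lead.QC.SheafIso
import Groth.Agent.H4.FittSheaf2

/-! # Local freeness on projective space: `Ω` has rank `n`; epimorphisms of bundles of the same rank. -/

set_option autoImplicit false
set_option linter.style.haveILetI false
universe u
open CategoryTheory CategoryTheory.Limits AlgebraicGeometry TopologicalSpace Opposite

namespace Groth.Agent.H2.Euler

open Twist Groth.Agent.LD.TW Groth.Agent.LD.PT Groth.Agent.LD.PN Groth.Agent.H3.Om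
open Groth.Agent.LD.QC Groth.Agent.LD.Ann Abelian

attribute [local instance] Abelian.hasFiniteBiproducts

section general
variable {X : Scheme.{u}}

/-- sections of a finite direct sum. -/
noncomputable def biproductSecEquiv {ι : Type} [Fintype ι] (F : ι → X.Modules) (W : X.Opens) :
    Γ(⨁ F, W) ≃ₗ[Γ(X, W)] (∀ j, Γ(F j, W)) :=
  LinearEquiv.ofBijective (LinearMap.pi fun j => appLin (biproduct.π F j) W) (by
    classical
    constructor
    · intro v v' h
      apply biproduct_section_ext F W
      intro j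
      exact congrFun h j
    · intro s
      refine ⟨∑ j, (biproduct.ι F j).app W (s j), ?_⟩
      funext i
      change (biproduct.π F i).app W (∑ j, (biproduct.ι F j).app W (s j)) = s i
      rw [map_sum, Finset.sum_eq_single i]
      · rw [← comp_app', biproduct.ι_π_self]
        rfl
      · intro j _ hj
        rw [← comp_app', biproduct.ι_π_ne _ hj]
        rfl
      · intro h; exact absurd (Finset.mem_univ i) h)

/-- sections of a binary direct sum. -/
noncomputable def biprodSecEquiv (A B : X.Modules) (W : X.Opens) :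
    Γ(A ⊞ B, W) ≃ₗ[Γ(X, W)] (Γ(A, W) × Γ(B, W)) :=
  LinearEquiv.ofBijective (LinearMap.prod (appLin biprod.fst W) (appLin biprod.snd W)) (by
    constructor
    · rw [← LinearMap.ker_eq_bot, LinearMap.ker_eq_bot']
      intro v hv
      have h1 : (biprod.fst : A ⊞ B ⟶ A).app W v = 0 := congrArg Prod.fst hv
      have h2 : (biprod.snd : A ⊞ B ⟶ B).app W v = 0 := congrArg Prod.snd hv
      have h3 := congrArg (fun φ : A ⊞ B ⟶ A ⊞ B => φ.app W v) (biprod.total (X := A) (Y := B))
      simp only at h3
      rw [add_app', comp_app', comp_app', h1, h2, map_zero, map_zero, add_zero] at h3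
      exact h3.symm
    · rintro ⟨a, b⟩
      refine ⟨(biprod.inl : A ⟶ A ⊞ B).app W a + (biprod.inr : B ⟶ A ⊞ B).app W b, ?_⟩
      apply Prod.ext
      · change (biprod.fst : A ⊞ B ⟶ A).app W _ = a
        rw [map_add, ← comp_app', ← comp_app', biprod.inl_fst, biprod.inr_fst]
        change a + 0 = a
        rw [add_zero]
      · change (biprod.snd : A ⊞ B ⟶ B).app W _ = b
        rw [map_add, ← comp_app', ← comp_app', biprod.inl_snd, biprod.inr_snd]
        change 0 + b = b
        rw [zero_add])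

/-- a basis of `L` over `U` identifies the sections with the functions. -/
noncomputable def basisSecEquiv {L : X.Modules} {U : X.Opens} {e : Γ(L, U)}
    (he : IsBasisOver L U e) : Γ(X, U) ≃ₗ[Γ(X, U)] Γ(L, U) :=
  LinearEquiv.ofBijective
    (LinearMap.toSpanSingleton Γ(X, U) Γ(L, U) (L.presheaf.map (homOfLE (le_refl U)).op e))
    (he U (le_refl U))

/-- **an epimorphism of finite locally free modules of the same rank is an isomorphism.** -/
theorem isIso_of_epi_of_isFinLocFreeOfRank {E F : X.Modules} (r : ℕ)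
    (hE : FlatMod.IsFinLocFreeOfRank r E) (hF : FlatMod.IsFinLocFreeOfRank r F)
    (p : E ⟶ F) [Epi p] : IsIso p := by
  have hE' : FlatMod.IsFinLocFree E := fun x => by
    obtain ⟨U, hxU, hU⟩ := hE x
    exact ⟨U, r, hxU, hU⟩
  have hF' : FlatMod.IsFinLocFree F := fun x => by
    obtain ⟨U, hxU, hU⟩ := hF x
    exact ⟨U, r, hxU, hU⟩
  have hEq : E.IsQuasicoherent := qc_of_isFinLocFree E hE'
  have hFq : F.IsQuasicoherent := qc_of_isFinLocFree F hF'
  apply isIso_of_local_bijective
  intro x W hxW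
  obtain ⟨U₁, e, hxU₁, he⟩ := Groth.Agent.H2.NonSimple.exists_isBasisFam_of_rank E r hE x
  obtain ⟨U₂, f, hxU₂, hf⟩ := Groth.Agent.H2.NonSimple.exists_isBasisFam_of_rank F r hF x
  obtain ⟨V, hV, hxV, hVle⟩ := exists_isAffineOpen_mem_and_subset (x := x) (U := U₁ ⊓ U₂ ⊓ W)
    ⟨⟨hxU₁, hxU₂⟩, hxW⟩
  have hV1 : V ≤ U₁ := fun y hy => (hVle hy).1.1
  have hV2 : V ≤ U₂ := fun y hy => (hVle hy).1.2
  have hVW : V ≤ W := fun y hy => (hVle hy).2
  refine ⟨V, hxV, hVW, ?_⟩
  have hsurj : Function.Surjective (p.app V) := epi_app_affine hEq hFq p hV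
  let eE : (Fin r → Γ(X, V)) ≃ₗ[Γ(X, V)] Γ(E, V) := LinearEquiv.ofBijective
    (Fintype.linearCombination Γ(X, V) (fun i => E.presheaf.map (homOfLE hV1).op (e i)))
    (by
      have := he V hV1
      convert this using 1
      funext a
      exact Fintype.linearCombination_apply _ _ a)
  let eF : (Fin r → Γ(X, V)) ≃ₗ[Γ(X, V)] Γ(F, V) := LinearEquiv.ofBijective
    (Fintype.linearCombination Γ(X, V) (fun i => F.presheaf.map (homOfLE hV2).op (f i)))
    (by
      have := hf V hV2
      convert this using 1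
      funext a
      exact Fintype.linearCombination_apply _ _ a)
  let g : (Fin r → Γ(X, V)) →ₗ[Γ(X, V)] (Fin r → Γ(X, V)) :=
    eF.symm.toLinearMap ∘ₗ appLin p V ∘ₗ eE.toLinearMap
  have hg : Function.Surjective g :=
    eF.symm.surjective.comp (hsurj.comp eE.surjective)
  have hgi : Function.Injective g := OrzechProperty.injective_of_surjective_endomorphism g hg
  refine ⟨?_, hsurj⟩
  intro s s' hss
  apply eE.symm.injective
  apply hgi
  change eF.symm (p.app V (eE (eE.symm s))) = eF.symm (p.app V (eE (eE.symm s')))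
  rw [LinearEquiv.apply_symm_apply, LinearEquiv.apply_symm_apply, hss]

end general

variable {n : ℕ} {R : Type u} [CommRing R]

/-- the coordinates `X_j ι_l(ω)`, `l ≠ j`, of a section of `Ω` over `U_j`. -/
noncomputable def omCoord (j : Fin (n + 1)) :
    Γ(Omega.sheaf (pS n R), U n R j) →ₗ[Γ(Proj (CohB1.polyGrading n R), U n R j)]
      ({l : Fin (n + 1) // l ≠ j} → Γ(Proj (CohB1.polyGrading n R), U n R j)) :=
  LinearMap.pi fun l => (unitSecEquiv (U n R j)).toLinearMap ∘ₗ appLin (bet j l.1) (U n R j)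

lemma omCoord_apply (j : Fin (n + 1)) (ω : Γ(Omega.sheaf (pS n R), U n R j))
    (l : {l : Fin (n + 1) // l ≠ j}) :
    omCoord j ω l = unitSecEquiv (U n R j) ((bet j l.1).app (U n R j) ω) := rfl

lemma omCoord_injective (j : Fin (n + 1)) : Function.Injective (omCoord (R := R) j) := by
  rw [← LinearMap.ker_eq_bot, LinearMap.ker_eq_bot']
  intro ω h0
  apply iota_injective_chart j ω
  have hne : ∀ l, l ≠ j → (iota n R l).app (U n R j) ω = 0 := by
    intro l hl
    apply secVal_ext
    intro x
    have h1 := oval_bet j l (U n R j) ω x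
    have h2 : omCoord j ω ⟨l, hl⟩ = 0 := by
      rw [h0]; rfl
    rw [omCoord_apply] at h2
    rw [h2, oval_zero] at h1
    exact (isUnit_xi (le_refl _) x).mul_right_eq_zero.1 h1.symm
  intro l
  by_cases hl : l = j
  · subst hl
    apply secVal_ext
    intro x
    have h3 := euler_relation (U n R l) ω x
    rw [Finset.sum_eq_single l] at h3
    · exact (isUnit_xi (le_refl _) x).mul_right_eq_zero.1 h3
    · intro b _ hb
      rw [hne b hb]
      exact mul_zero _
    · intro h; exact absurd (Finset.mem_univ l) h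
  · exact hne l hl

lemma omCoord_surjective (j : Fin (n + 1)) : Function.Surjective (omCoord (R := R) j) := by
  classical
  intro c
  have hpre : ∀ b : Γ(Proj (CohB1.polyGrading n R), U n R j),
      ∃ κ : Γ(twist (CohB1.polyGrading n R) (-1), U n R j), ∀ x : U n R j,
        xi x.1 j * secVal κ x = oval (CohB1.polyGrading n R) b x := by
    intro b
    obtain ⟨κ, hκ⟩ := (mX0_app_bijective n R j (U n R j) (le_refl _)).2
      ((unitToTwist (CohB1.polyGrading n R)).app (U n R j) ((unitSecEquiv (U n R j)).symm b))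
    refine ⟨κ, fun x => ?_⟩
    rw [← secVal_mX0, hκ]
    rfl
  choose pre hpre' using hpre
  let κ' : Fin (n + 1) → Γ(twist (CohB1.polyGrading n R) (-1), U n R j) := fun l =>
    if h : l ≠ j then pre (c ⟨l, h⟩) else 0
  obtain ⟨κj, hκj⟩ := (mX0_app_bijective n R j (U n R j) (le_refl _)).2
    (-(∑ l, (mX0 n R l).app (U n R j) (κ' l)))
  let κ : Fin (n + 1) → Γ(twist (CohB1.polyGrading n R) (-1), U n R j) := Function.update κ' j κj
  have hκ'j : κ' j = 0 := dif_neg (fun h => h rfl)
  have hrel : ∀ x : U n R j, ∑ l, xi x.1 l * secVal (κ l) x = 0 := by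
    intro x
    have h1 : xi x.1 j * secVal κj x = -∑ l, xi x.1 l * secVal (κ' l) x := by
      rw [← secVal_mX0, hκj, secVal_neg', secVal_sum]
      exact congrArg Neg.neg (Finset.sum_congr rfl fun l _ => secVal_mX0 l _ _ x)
    rw [← Finset.add_sum_erase _ _ (Finset.mem_univ j)]
    have h2 : ∑ l ∈ Finset.univ.erase j, xi x.1 l * secVal (κ l) x =
        ∑ l, xi x.1 l * secVal (κ' l) x := by
      rw [← Finset.add_sum_erase _ (fun l => xi x.1 l * secVal (κ' l) x) (Finset.mem_univ j)]
      simp only [hκ'j]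
      rw [secVal_zero, mul_zero, zero_add]
      refine Finset.sum_congr rfl fun l hl => ?_
      simp only [κ]
      rw [Function.update_of_ne (Finset.ne_of_mem_erase hl)]
    simp only [κ] at h2 ⊢
    rw [h2, Function.update_self, h1, neg_add_cancel]
  obtain ⟨ω, hω⟩ := iota_surjective_chart j κ hrel
  refine ⟨ω, ?_⟩
  funext l
  rw [omCoord_apply]
  apply sec_ext
  intro x
  rw [oval_bet, hω l.1]
  simp only [κ]
  rw [Function.update_of_ne l.2]
  have h3 : κ' l.1 = pre (c l) := by
    simp only [κ']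
    rw [dif_pos l.2]
  rw [h3, hpre']

/-- sections of `Ω` over a standard chart are free of rank `n`. -/
noncomputable def omChartEquiv (j : Fin (n + 1)) :
    Γ(Omega.sheaf (pS n R), U n R j) ≃ₗ[Γ(Proj (CohB1.polyGrading n R), U n R j)]
      (Fin n → Γ(Proj (CohB1.polyGrading n R), U n R j)) :=
  (LinearEquiv.ofBijective (omCoord j) ⟨omCoord_injective j, omCoord_surjective j⟩).trans
    (LinearEquiv.funCongrLeft _ _ (finSuccAboveEquiv j))

/-- **`Ω` on `P^n` is finite locally free of rank `n`.** -/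
theorem isFinLocFreeOfRank_omega (n : ℕ) (R : Type u) [CommRing R] :
    FlatMod.IsFinLocFreeOfRank n (Omega.sheaf (pS n R)) := by
  rw [Groth.Agent.H4.FittSheaf.isFinLocFreeOfRank_iff]
  intro x
  obtain ⟨j, hj⟩ := exists_mem_U n R x
  exact ⟨U n R j, isAffineOpen_U j, hj, ⟨omChartEquiv j⟩⟩

/-- sections of `O(d)` over a standard chart are free of rank one. -/
theorem nonempty_twist_chart_equiv (d : ℤ) (j : Fin (n + 1)) :
    Nonempty (Γ(Proj (CohB1.polyGrading n R), U n R j) ≃ₗ[Γ(Proj (CohB1.polyGrading n R), U n R j)]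
      Γ(twist (CohB1.polyGrading n R) d, U n R j)) := by
  obtain ⟨w, hw⟩ := exists_isUnitSec_one (𝒜 := CohB1.polyGrading n R) (MvPolynomial.X j)
    (X_mem j) d (V := U n R j) (le_refl _)
  exact ⟨basisSecEquiv hw.isBasisOver⟩

/-- **`O(-1)^r ⊕ Ω` is finite locally free of rank `r + n`.** -/
theorem isFinLocFreeOfRank_biprod_omega (n : ℕ) (R : Type u) [CommRing R] (r : ℕ) (d : ℤ) :
    FlatMod.IsFinLocFreeOfRank (r + n)
      ((⨁ fun _ : Fin r => twist (CohB1.polyGrading n R) d) ⊞ Omega.sheaf (pS n R)) := by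
  haveI h1 : (⨁ fun _ : Fin r => twist (CohB1.polyGrading n R) d).IsQuasicoherent :=
    qc_of_iso (biproduct.isoCoproduct _).symm (qc_sigma_fin (twist (CohB1.polyGrading n R) d) r)
  haveI h2 : ((⨁ fun _ : Fin r => twist (CohB1.polyGrading n R) d) ⊞
      Omega.sheaf (pS n R)).IsQuasicoherent :=
    qc_of_iso (biprod.isoCoprod _ _).symm
      (qc_finColimit (pair _ _) (by
        rintro ⟨_ | _⟩
        · exact h1
        · exact (inferInstance : (Omega.sheaf (pS n R)).IsQuasicoherent)))
  rw [Groth.Agent.H4.FittSheaf.isFinLocFreeOfRank_iff]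
  intro x
  obtain ⟨j, hj⟩ := exists_mem_U n R x
  refine ⟨U n R j, isAffineOpen_U j, hj, ?_⟩
  obtain ⟨t⟩ := nonempty_twist_chart_equiv (R := R) d j
  exact ⟨(biprodSecEquiv _ _ (U n R j)).trans
    (((biproductSecEquiv _ (U n R j)).trans (LinearEquiv.piCongrRight fun _ => t.symm)).prodCongr
      (omChartEquiv j) |>.trans
    ((LinearEquiv.sumArrowLequivProdArrow (Fin r) (Fin n)
      Γ(Proj (CohB1.polyGrading n R), U n R j)
      Γ(Proj (CohB1.polyGrading n R), U n R j)).symm.trans
      (LinearEquiv.funCongrLeft _ _ finSumFinEquiv.symm)))⟩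

end Groth.Agent.H2.Euler
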