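import Mathlib

universe w w' w'' v v' v'' u u' u''

open CategoryTheory CategoryTheory.Limits

namespace Groth.Agent.H2.ExtInd

open Abelian

variable {C : Type u} [Category.{v} C] [Abelian C] [HasExt.{w} C] [EnoughInjectives C]

/-- Induction principle for `Ext`: a property of Ext classes which holds for degree zero classes, for
classes of short exact sequences, and is stable under composition holds for all classes. -/
theorem ext_induction (P : ∀ {X Y : C} {n : ℕ}, Ext.{w} X Y n → Prop)
    (h0 : ∀ {X Y : C} (f : X ⟶ Y), P (Ext.mk₀ f))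
    (h1 : ∀ {S : ShortComplex C} (hS : S.ShortExact), P hS.extClass)
    (hcomp : ∀ {X Y Z : C} {a b c : ℕ} (α : Ext.{w} X Y a) (β : Ext.{w} Y Z b) (h : a + b = c),
      P α → P β → P (α.comp β h))
    {X Y : C} {n : ℕ} (e : Ext.{w} X Y n) : P e := by
  induction n generalizing Y with
  | zero =>
    rw [← Ext.mk₀_homEquiv₀_apply e]
    exact h0 _
  | succ n hn =>
    let I : InjectivePresentation Y := Classical.arbitrary _
    let S := ShortComplex.mk _ _ (cokernel.condition I.f)
    have hS : S.ShortExact := { exact := ShortComplex.exact_cokernel I.f }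
    have : Injective S.X₂ := I.injective
    have hz : e.comp (Ext.mk₀ S.f) (add_zero (n + 1)) = 0 := Ext.eq_zero_of_injective _
    obtain ⟨x₃, hx₃⟩ := Ext.covariant_sequence_exact₁ _ hS e hz rfl
    rw [← hx₃]
    exact hcomp _ _ _ (hn x₃) (h1 hS)

variable {D : Type u'} [Category.{v'} D] [Abelian D] [HasExt.{w'} D]
variable {E : Type u''} [Category.{v''} E] [Abelian E] [HasExt.{w''} E]

/-- `mapExactFunctor` is compatible with composition of functors. -/
theorem mapExactFunctor_comp_functor (F : C ⥤ D) [F.Additive] [PreservesFiniteLimits F]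
    [PreservesFiniteColimits F] (G : D ⥤ E) [G.Additive] [PreservesFiniteLimits G]
    [PreservesFiniteColimits G] {X Y : C} {n : ℕ} (e : Ext.{w} X Y n) :
    e.mapExactFunctor (F ⋙ G) = (e.mapExactFunctor F).mapExactFunctor G := by
  refine ext_induction (C := C)
    (P := fun {X Y n} e => e.mapExactFunctor (F ⋙ G) = (e.mapExactFunctor F).mapExactFunctor G)
    ?_ ?_ ?_ e
  · intro X Y f
    simp only [Ext.mapExactFunctor_mk₀]
    rfl
  · intro S hS
    have e1 := Ext.mapExactFunctor_extClass (F ⋙ G) hS
    have e2 := congrArg (fun z => Ext.mapExactFunctor G z) (Ext.mapExactFunctor_extClass F hS)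
    have e3 := Ext.mapExactFunctor_extClass G (hS.map_of_exact F)
    exact e1.trans (e2.trans e3).symm
  · intro X Y Z a b c α β h hα hβ
    simp only [Ext.mapExactFunctor_comp, hα, hβ]

end Groth.Agent.H2.ExtInd
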