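import Mathlib
import Groth.Agent.Lib.Helper2.ExtInd

universe w w' v v' u u'

open CategoryTheory CategoryTheory.Limits

namespace Groth.Agent.H2.ExtInd

open Abelian

variable {C : Type u} [Category.{v} C] [Abelian C] [HasExt.{w} C] [EnoughInjectives C]
variable {D : Type u'} [Category.{v'} D] [Abelian D] [HasExt.{w'} D]

/-- Conjugation of an Ext class by the components of a natural isomorphism. -/
noncomputable def conj {F F' : C ⥤ D} (α : F ≅ F') {X Y : C} {n : ℕ}
    (e : Ext.{w'} (F.obj X) (F.obj Y) n) : Ext.{w'} (F'.obj X) (F'.obj Y) n :=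
  (Ext.mk₀ (α.inv.app X)).comp (e.comp (Ext.mk₀ (α.hom.app Y)) (add_zero n)) (zero_add n)

lemma conj_comp {F F' : C ⥤ D} (α : F ≅ F') {X Y Z : C} {a b c : ℕ}
    (A : Ext.{w'} (F.obj X) (F.obj Y) a) (B : Ext.{w'} (F.obj Y) (F.obj Z) b) (h : a + b = c) :
    conj α (A.comp B h) = (conj α A).comp (conj α B) h := by
  unfold conj
  -- RHS
  have e1 : ((Ext.mk₀ (α.inv.app X)).comp (A.comp (Ext.mk₀ (α.hom.app Y)) (add_zero a)) (zero_add a)).comp
      ((Ext.mk₀ (α.inv.app Y)).comp (B.comp (Ext.mk₀ (α.hom.app Z)) (add_zero b)) (zero_add b)) h =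
      (Ext.mk₀ (α.inv.app X)).comp ((A.comp (Ext.mk₀ (α.hom.app Y)) (add_zero a)).comp
      ((Ext.mk₀ (α.inv.app Y)).comp (B.comp (Ext.mk₀ (α.hom.app Z)) (add_zero b)) (zero_add b)) h)
        (zero_add c) :=
    Ext.comp_assoc _ _ _ (zero_add a) h (by omega)
  have e2 : (A.comp (Ext.mk₀ (α.hom.app Y)) (add_zero a)).comp
      ((Ext.mk₀ (α.inv.app Y)).comp (B.comp (Ext.mk₀ (α.hom.app Z)) (add_zero b)) (zero_add b)) h =
      A.comp ((Ext.mk₀ (α.hom.app Y)).comp
      ((Ext.mk₀ (α.inv.app Y)).comp (B.comp (Ext.mk₀ (α.hom.app Z)) (add_zero b)) (zero_add b))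
        (zero_add b)) h :=
    Ext.comp_assoc_of_second_deg_zero _ _ _ h
  have e3 : (Ext.mk₀ (α.hom.app Y)).comp
      ((Ext.mk₀ (α.inv.app Y)).comp (B.comp (Ext.mk₀ (α.hom.app Z)) (add_zero b)) (zero_add b))
        (zero_add b) = B.comp (Ext.mk₀ (α.hom.app Z)) (add_zero b) := by
    rw [Ext.mk₀_comp_mk₀_assoc]
    have : α.hom.app Y ≫ α.inv.app Y = 𝟙 _ := α.hom_inv_id_app Y
    rw [this, Ext.mk₀_id_comp]
  have e4 : A.comp (B.comp (Ext.mk₀ (α.hom.app Z)) (add_zero b)) h =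
      (A.comp B h).comp (Ext.mk₀ (α.hom.app Z)) (add_zero c) :=
    (Ext.comp_assoc_of_third_deg_zero _ _ _ h).symm
  rw [e1, e2, e3, e4]

/-- `mapExactFunctor` is compatible with natural isomorphisms of functors. -/
theorem mapExactFunctor_natIso (F F' : C ⥤ D) [F.Additive] [PreservesFiniteLimits F]
    [PreservesFiniteColimits F] [F'.Additive] [PreservesFiniteLimits F']
    [PreservesFiniteColimits F'] (α : F ≅ F') {X Y : C} {n : ℕ} (e : Ext.{w} X Y n) :
    e.mapExactFunctor F' = conj α (e.mapExactFunctor F) := by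
  refine ext_induction (C := C)
    (P := fun {X Y n} e => e.mapExactFunctor F' = conj α (e.mapExactFunctor F)) ?_ ?_ ?_ e
  · intro X Y f
    unfold conj
    rw [Ext.mapExactFunctor_mk₀, Ext.mapExactFunctor_mk₀, Ext.mk₀_comp_mk₀, Ext.mk₀_comp_mk₀]
    congr 1
    simp
  · intro S hS
    have e1 := Ext.mapExactFunctor_extClass F' hS
    have e2 := Ext.mapExactFunctor_extClass F hS
    have e3 := ShortComplex.ShortExact.extClass_naturality (hS.map_of_exact F) (hS.map_of_exact F')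
      (S.mapNatTrans α.hom)
    rw [e1, e2]
    unfold conj
    have e4 : (hS.map_of_exact F).extClass.comp (Ext.mk₀ (α.hom.app S.X₁)) (add_zero 1) =
        (Ext.mk₀ (α.hom.app S.X₃)).comp (hS.map_of_exact F').extClass (zero_add 1) := e3
    have e5 : (Ext.mk₀ (α.inv.app S.X₃)).comp
        ((Ext.mk₀ (α.hom.app S.X₃)).comp (hS.map_of_exact F').extClass (zero_add 1)) (zero_add 1) =
        (hS.map_of_exact F').extClass := by
      rw [Ext.mk₀_comp_mk₀_assoc]
      have : α.inv.app S.X₃ ≫ α.hom.app S.X₃ = 𝟙 _ := α.inv_hom_id_app S.X₃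
      rw [this, Ext.mk₀_id_comp]
    exact (e5.symm.trans (congrArg (fun z => (Ext.mk₀ (α.inv.app S.X₃)).comp z (zero_add 1)) e4.symm))
  · intro X Y Z a b c A B h hA hB
    rw [Ext.mapExactFunctor_comp, Ext.mapExactFunctor_comp, hA, hB, conj_comp]

end Groth.Agent.H2.ExtInd
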