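import Mathlib
import Groth.Agent.Lib.Helper2.ExtInd2

universe w v u

open CategoryTheory CategoryTheory.Limits

namespace Groth.Agent.H2.ExtInd

open Abelian

variable {D : Type u} [Category.{v} D] [Abelian D] [HasExt.{w} D]

/-- Precomposition with the degree-zero class of an isomorphism is bijective. -/
lemma precomp_bijective {X' X Y : D} (i : X' ⟶ X) [IsIso i] (n : ℕ) :
    Function.Bijective (fun e : Ext.{w} X Y n => (Ext.mk₀ i).comp e (zero_add n)) := by
  refine Function.bijective_iff_has_inverse.mpr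
    ⟨fun e => (Ext.mk₀ (inv i)).comp e (zero_add n), fun e => ?_, fun e => ?_⟩
  · change (Ext.mk₀ (inv i)).comp ((Ext.mk₀ i).comp e (zero_add n)) (zero_add n) = e
    rw [Ext.mk₀_comp_mk₀_assoc, IsIso.inv_hom_id, Ext.mk₀_id_comp]
  · change (Ext.mk₀ i).comp ((Ext.mk₀ (inv i)).comp e (zero_add n)) (zero_add n) = e
    rw [Ext.mk₀_comp_mk₀_assoc, IsIso.hom_inv_id, Ext.mk₀_id_comp]

lemma comp_mk₀_comp_mk₀ {X Y Y' Y'' : D} {n : ℕ} (e : Ext.{w} X Y n) (f : Y ⟶ Y') (g : Y' ⟶ Y'') :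
    (e.comp (Ext.mk₀ f) (add_zero n)).comp (Ext.mk₀ g) (add_zero n) =
      e.comp (Ext.mk₀ (f ≫ g)) (add_zero n) := by
  rw [Ext.comp_assoc_of_third_deg_zero, Ext.mk₀_comp_mk₀]

/-- Postcomposition with the degree-zero class of an isomorphism is bijective. -/
lemma postcomp_bijective {X Y Y' : D} (i : Y ⟶ Y') [IsIso i] (n : ℕ) :
    Function.Bijective (fun e : Ext.{w} X Y n => e.comp (Ext.mk₀ i) (add_zero n)) := by
  refine Function.bijective_iff_has_inverse.mpr
    ⟨fun e => e.comp (Ext.mk₀ (inv i)) (add_zero n), fun e => ?_, fun e => ?_⟩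
  · change (e.comp (Ext.mk₀ i) (add_zero n)).comp (Ext.mk₀ (inv i)) (add_zero n) = e
    rw [comp_mk₀_comp_mk₀, IsIso.hom_inv_id, Ext.comp_mk₀_id]
  · change (e.comp (Ext.mk₀ (inv i)) (add_zero n)).comp (Ext.mk₀ i) (add_zero n) = e
    rw [comp_mk₀_comp_mk₀, IsIso.inv_hom_id, Ext.comp_mk₀_id]

end Groth.Agent.H2.ExtInd
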