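import Mathlib
import Groth.Prelude.Def_EtAcyc

universe u

open CategoryTheory CategoryTheory.Limits AlgebraicGeometry Opposite

namespace Groth.Agent.H2.HpullA

variable {X Y : Scheme.{u}} (h : Y ⟶ X) [PreservesFiniteLimits (EtCoh.pull h)]

lemma Hpull_apply (G : EtCoh.Ab X) (n : ℕ) (x : EtCoh.H X G n) :
    EtCore.Hpull h G n x = (Abelian.Ext.mk₀ (EtCore.pullConst h ℤ).inv).comp
      (x.mapExactFunctor (EtCoh.pull h)) (zero_add n) := rfl

lemma Hpull_naturality {F G : EtCoh.Ab X} (v : F ⟶ G) (q : ℕ) (x : EtCoh.H X F q) :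
    EtCore.Hpull h G q (Sheaf.H.map v q x) =
      Sheaf.H.map ((EtCoh.pull h).map v) q (EtCore.Hpull h F q x) := by
  rw [Hpull_apply, Hpull_apply, Sheaf.H.map_apply, Sheaf.H.map_apply,
    Abelian.Ext.mapExactFunctor_comp, Abelian.Ext.mapExactFunctor_mk₀, Abelian.Ext.comp_assoc]
  all_goals omega

lemma Hpull_extClass {S : ShortComplex (EtCoh.Ab X)} (hS : S.ShortExact) (q : ℕ)
    (β : EtCoh.H X S.X₃ q) :
    EtCore.Hpull h S.X₁ (q + 1) (β.comp hS.extClass rfl) =
      (EtCore.Hpull h S.X₃ q β).comp (hS.map_of_exact (EtCoh.pull h)).extClass rfl := by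
  rw [Hpull_apply, Hpull_apply, Abelian.Ext.mapExactFunctor_comp,
    Abelian.Ext.mapExactFunctor_extClass]
  exact (Abelian.Ext.comp_assoc _ _ _ (zero_add q) rfl (by omega)).symm

end Groth.Agent.H2.HpullA
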