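import Mathlib
import Groth.Agent.Lib.Helper2.DimFG

/-! Dimension of a tensor product of finitely generated algebras over a field.
(helper2, projective dimension theorem S7675) -/

set_option autoImplicit false
universe u

open TensorProduct

namespace Groth.Agent.H2.ProjInter

theorem isIntegralElem_of_comp_eq {R S R' S' : Type*} [CommRing R] [CommRing S] [CommRing R']
    [CommRing S'] (f : R →+* S) (φ : R →+* R') (ψ : S →+* S') (f' : R' →+* S')
    (h : f'.comp φ = ψ.comp f) {x : S} (hx : f.IsIntegralElem x) : f'.IsIntegralElem (ψ x) := by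
  obtain ⟨p, hp, hpx⟩ := hx
  refine ⟨p.map φ, hp.map φ, ?_⟩
  rw [Polynomial.eval₂_map, h, ← Polynomial.hom_eval₂, hpx, map_zero]

theorem ringKrullDim_eq_of_ringHom {A B : Type*} [CommRing A] [CommRing B] (f : A →+* B)
    (hf : f.IsIntegral) (hinj : Function.Injective f) : ringKrullDim B = ringKrullDim A := by
  algebraize [f]
  exact DimFG.ringKrullDim_eq_of_integral_injective A B hinj

section tensor
variable {k : Type*} [Field k] {A B P Q : Type*} [CommRing A] [CommRing B] [CommRing P]
  [CommRing Q] [Algebra k A] [Algebra k B] [Algebra k P] [Algebra k Q]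

theorem map_isIntegral (g₁ : P →ₐ[k] A) (g₂ : Q →ₐ[k] B) (h₁ : g₁.toRingHom.IsIntegral)
    (h₂ : g₂.toRingHom.IsIntegral) :
    (Algebra.TensorProduct.map g₁ g₂).toRingHom.IsIntegral := by
  intro x
  induction x using TensorProduct.induction_on with
  | zero => exact RingHom.isIntegralElem_zero _
  | tmul a b =>
    have ha : (Algebra.TensorProduct.map g₁ g₂).toRingHom.IsIntegralElem (a ⊗ₜ[k] (1 : B)) :=
      isIntegralElem_of_comp_eq g₁.toRingHom
        (Algebra.TensorProduct.includeLeft : P →ₐ[k] P ⊗[k] Q).toRingHom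
        (Algebra.TensorProduct.includeLeft : A →ₐ[k] A ⊗[k] B).toRingHom _
        (by ext p; simp) (h₁ a)
    have hb : (Algebra.TensorProduct.map g₁ g₂).toRingHom.IsIntegralElem ((1 : A) ⊗ₜ[k] b) :=
      isIntegralElem_of_comp_eq g₂.toRingHom
        (Algebra.TensorProduct.includeRight : Q →ₐ[k] P ⊗[k] Q).toRingHom
        (Algebra.TensorProduct.includeRight : B →ₐ[k] A ⊗[k] B).toRingHom _
        (by ext p; simp) (h₂ b)
    have := RingHom.IsIntegralElem.mul _ ha hb
    rwa [Algebra.TensorProduct.tmul_mul_tmul, mul_one, one_mul] at this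
  | add x y hx hy => exact RingHom.IsIntegralElem.add _ hx hy

theorem map_injective (g₁ : P →ₐ[k] A) (g₂ : Q →ₐ[k] B) (h₁ : Function.Injective g₁)
    (h₂ : Function.Injective g₂) :
    Function.Injective (Algebra.TensorProduct.map g₁ g₂) := by
  have := TensorProduct.map_injective_of_flat_flat g₁.toLinearMap g₂.toLinearMap h₁ h₂
  exact this

end tensor

/-- `dim (A ⊗ B) = dim A + dim B` for finitely generated algebras over a field -/
theorem ringKrullDim_tensorProduct (k : Type u) [Field k] (A B : Type u) [CommRing A] [CommRing B]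
    [Algebra k A] [Algebra k B] [Algebra.FiniteType k A] [Algebra.FiniteType k B] [Nontrivial A]
    [Nontrivial B] :
    ringKrullDim (A ⊗[k] B) = ringKrullDim A + ringKrullDim B := by
  obtain ⟨a, g₁, hi₁, hint₁⟩ := exists_integral_inj_algHom_of_fg k A
  obtain ⟨b, g₂, hi₂, hint₂⟩ := exists_integral_inj_algHom_of_fg k B
  have hA := ringKrullDim_eq_of_ringHom g₁.toRingHom hint₁ hi₁
  have hB := ringKrullDim_eq_of_ringHom g₂.toRingHom hint₂ hi₂
  have hAB := ringKrullDim_eq_of_ringHom (Algebra.TensorProduct.map g₁ g₂).toRingHom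
    (map_isIntegral g₁ g₂ hint₁ hint₂) (map_injective g₁ g₂ hi₁ hi₂)
  rw [hAB, hA, hB, DimFG.ringKrullDim_mvPolynomial_fin, DimFG.ringKrullDim_mvPolynomial_fin,
    ringKrullDim_eq_of_ringEquiv (MvPolynomial.tensorEquivSum k (Fin a) (Fin b) k).toRingEquiv,
    MvPolynomial.ringKrullDim_of_isNoetherianRing, ringKrullDim_eq_zero_of_field]
  simp

end Groth.Agent.H2.ProjInter
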