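import Groth.Prelude.Def_Found
import Mathlib.RingTheory.DedekindDomain.IntegralClosure
import Mathlib.RingTheory.DedekindDomain.Basic
import Mathlib.FieldTheory.Perfect

/-! N-2 for integrally closed Noetherian domains of characteristic zero, and for fields. -/

universe u

namespace Groth.Agent.H2

theorem isN2_of_isIntegrallyClosed_of_charZero (R : Type u) [CommRing R] [IsDomain R]
    [IsNoetherianRing R] [IsIntegrallyClosed R] [CharZero R] : CAlg.IsN2 R := by
  intro L _ _ _ _ hfin
  have : CharZero (FractionRing R) :=
    charZero_of_injective_algebraMap (IsFractionRing.injective R (FractionRing R))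
  have : Algebra.IsSeparable (FractionRing R) L := inferInstance
  exact IsIntegralClosure.finite R (FractionRing R) L (integralClosure R L)

theorem isN2_of_isField (R : Type u) [CommRing R] [IsDomain R] (hR : IsField R) : CAlg.IsN2 R := by
  intro L _ _ _ _ hfin
  let := hR.toField
  have h1 : Module.Finite R (FractionRing R) := by
    have hbij : Function.Bijective (algebraMap R (FractionRing R)) :=
      ⟨IsFractionRing.injective R (FractionRing R), by
        intro x
        obtain ⟨a, b, hb, rfl⟩ := IsFractionRing.div_surjective (A := R) x
        refine ⟨a / b, ?_⟩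
        rw [map_div₀]⟩
    exact Module.Finite.of_surjective (Algebra.linearMap R (FractionRing R)) hbij.2
  have h2 : Module.Finite R L := Module.Finite.trans (FractionRing R) L
  have : IsNoetherian R L := inferInstance
  exact Module.IsNoetherian.finite R _

theorem isNagata_of_isDedekindDomain_of_charZero (A : Type u) [CommRing A] [IsDedekindDomain A]
    [CharZero A] : CAlg.IsNagata A := by
  refine ⟨inferInstance, ?_⟩
  intro p hp
  by_cases hbot : p = ⊥
  · subst hbot
    let e : A ≃+* (A ⧸ (⊥ : Ideal A)) := (RingEquiv.quotientBot A).symm
    have : IsIntegrallyClosed (A ⧸ (⊥ : Ideal A)) := IsIntegrallyClosed.of_equiv e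
    have : CharZero (A ⧸ (⊥ : Ideal A)) := charZero_of_injective_ringHom (f := e.toRingHom) e.injective
    exact isN2_of_isIntegrallyClosed_of_charZero _
  · have hmax : p.IsMaximal := hp.isMaximal hbot
    exact isN2_of_isField _ ((Ideal.Quotient.maximal_ideal_iff_isField_quotient p).mp hmax)

end Groth.Agent.H2
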