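import Mathlib

/-!
# Sequential limits of K-injective complexes (helper2)

Inverse limit of a tower of K-injective complexes with degreewise split epi transition maps
is K-injective.
-/

namespace Groth.Agent.H2.KInjLim

open CategoryTheory Limits Opposite CochainComplex HomComplex

universe v u

variable {A : Type u} [Category.{v} A] [Abelian A]

/-- A cocycle from an acyclic complex to a K-injective complex is a coboundary. -/
lemma exists_cochain_of_cocycle {K L : CochainComplex A ℤ} [L.IsKInjective] (hK : K.Acyclic)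
    {n : ℤ} (x : Cocycle K L n) (m : ℤ) (hm : m + 1 = n) :
    ∃ β : Cochain K L m, δ m n β = x.1 := by
  have h0 : CohomologyClass.toHom (CohomologyClass.mk x) = 0 := by
    have := IsKInjective.rightOrthogonal (L⟦n⟧)
    exact this _ ((HomotopyCategory.quotient_obj_mem_subcategoryAcyclic_iff_acyclic _).2 hK)
  rw [CohomologyClass.toHom_mk_eq_zero_iff, mem_coboundaries_iff x m hm] at h0
  exact h0

/-- A null-homotopy cochain for a morphism from an acyclic complex to a K-injective one. -/
lemma exists_cochain_of_hom {K L : CochainComplex A ℤ} [L.IsKInjective] (hK : K.Acyclic)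
    (f : K ⟶ L) : ∃ β : Cochain K L (-1), δ (-1) 0 β = Cochain.ofHom f := by
  obtain ⟨β, hβ⟩ := Cochain.equivHomotopy _ _ (IsKInjective.homotopyZero f hK)
  exact ⟨β, by simpa using hβ.symm⟩

/-- Lifting a cochain along a degreewise split epimorphism. -/
noncomputable def liftCochain {K L L' : CochainComplex A ℤ} (t : L' ⟶ L)
    [∀ m, IsSplitEpi (t.f m)] {n : ℤ} (κ : Cochain K L n) : Cochain K L' n :=
  Cochain.mk (fun p q hpq => κ.v p q hpq ≫ section_ (t.f q))

lemma liftCochain_comp {K L L' : CochainComplex A ℤ} (t : L' ⟶ L)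
    [∀ m, IsSplitEpi (t.f m)] {n : ℤ} (κ : Cochain K L n) :
    (liftCochain t κ).comp (Cochain.ofHom t) (add_zero n) = κ := by
  ext p q hpq
  simp [liftCochain, Cochain.comp_zero_cochain_v]

/-- The inductive step: a null-homotopy cochain downstairs lifts compatibly. -/
lemma exists_lift_step {K L L' : CochainComplex A ℤ} [L.IsKInjective] [L'.IsKInjective]
    (hK : K.Acyclic) (t : L' ⟶ L) [∀ m, IsSplitEpi (t.f m)]
    (f' : K ⟶ L') (a : Cochain K L (-1)) (ha : δ (-1) 0 a = Cochain.ofHom (f' ≫ t)) :
    ∃ b : Cochain K L' (-1), δ (-1) 0 b = Cochain.ofHom f' ∧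
      b.comp (Cochain.ofHom t) (add_zero _) = a := by
  obtain ⟨β, hβ⟩ := exists_cochain_of_hom hK f'
  let γ : Cochain K L (-1) := β.comp (Cochain.ofHom t) (add_zero _) - a
  have hγ : δ (-1) 0 γ = 0 := by
    simp only [γ, δ_sub, δ_comp_ofHom, hβ, ha]
    rw [← Cochain.ofHom_comp, sub_self]
  obtain ⟨κ, hκ⟩ := exists_cochain_of_cocycle hK (Cocycle.mk γ 0 (by simp) hγ) (-2) (by simp)
  have hκ' : δ (-2) (-1) κ = γ := hκ
  refine ⟨β - δ (-2) (-1) (liftCochain t κ), ?_, ?_⟩
  · rw [δ_sub, δ_δ, sub_zero, hβ]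
  · rw [Cochain.sub_comp, ← δ_comp_ofHom, liftCochain_comp, hκ']
    simp [γ]

/-- Sequential limits of K-injective complexes with degreewise split epi transition maps
are K-injective. -/
theorem isKInjective_limit [HasLimitsOfShape ℕᵒᵖ A] (I : ℕᵒᵖ ⥤ CochainComplex A ℤ)
    (h1 : ∀ n : ℕ, (I.obj (op n)).IsKInjective)
    (h2 : ∀ (n : ℕ) (m : ℤ), IsSplitEpi ((I.map (homOfLE (Nat.le_succ n)).op).f m)) :
    (limit I).IsKInjective where
  nonempty_homotopy_zero {K} f hK := by
    classical
    let t : ∀ n : ℕ, I.obj (op (n + 1)) ⟶ I.obj (op n) :=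
      fun n => I.map (homOfLE (Nat.le_succ n)).op
    let fn : ∀ n : ℕ, K ⟶ I.obj (op n) := fun n => f ≫ limit.π I (op n)
    have hfn : ∀ n, fn (n + 1) ≫ t n = fn n := fun n => by
      simp only [fn, t, Category.assoc, limit.w]
    let P : ℕ → Type _ := fun n =>
      {a : Cochain K (I.obj (op n)) (-1) // δ (-1) 0 a = Cochain.ofHom (fn n)}
    have step : ∀ n (a : P n), ∃ b : P (n + 1),
        b.1.comp (Cochain.ofHom (t n)) (add_zero _) = a.1 := by
      intro n a
      haveI := h1 n
      haveI := h1 (n + 1)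
      haveI : ∀ m, IsSplitEpi ((t n).f m) := h2 n
      obtain ⟨b, hb1, hb2⟩ := exists_lift_step hK (t n) (fn (n + 1)) a.1
        (by rw [hfn]; exact a.2)
      exact ⟨⟨b, hb1⟩, hb2⟩
    obtain ⟨a0, ha0⟩ : ∃ a : Cochain K (I.obj (op 0)) (-1), δ (-1) 0 a = Cochain.ofHom (fn 0) := by
      haveI := h1 0
      exact exists_cochain_of_hom hK (fn 0)
    let α : ∀ n, P n := fun n => Nat.rec (motive := P) ⟨a0, ha0⟩ (fun n a => (step n a).choose) n
    have hα : ∀ n, (α (n + 1)).1.comp (Cochain.ofHom (t n)) (add_zero _) = (α n).1 :=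
      fun n => (step n (α n)).choose_spec
    -- the termwise limit cones
    have hc : ∀ q : ℤ, IsLimit ((HomologicalComplex.eval A (ComplexShape.up ℤ) q).mapCone
        (limit.cone I)) := fun q => isLimitOfPreserves _ (limit.isLimit I)
    let cone : ∀ (p q : ℤ) (hpq : p + (-1) = q),
        Cone (I ⋙ HomologicalComplex.eval A (ComplexShape.up ℤ) q) := fun p q hpq =>
      { pt := K.X p
        π := NatTrans.ofOpSequence (fun n => (α n).1.v p q hpq) (fun n => by
          have := Cochain.congr_v (hα n) p q hpq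
          rw [Cochain.comp_zero_cochain_v, Cochain.ofHom_v] at this
          dsimp
          rw [Category.id_comp]
          exact this.symm) }
    let β : Cochain K (limit I) (-1) := Cochain.mk (fun p q hpq => (hc q).lift (cone p q hpq))
    have hβ : ∀ n, β.comp (Cochain.ofHom (limit.π I (op n))) (add_zero _) = (α n).1 := by
      intro n
      ext p q hpq
      rw [Cochain.comp_zero_cochain_v, Cochain.ofHom_v]
      simp only [β, Cochain.mk_v]
      exact (hc q).fac (cone p q hpq) (op n)
    have hδ : δ (-1) 0 β = Cochain.ofHom f := by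
      ext p
      apply (hc p).hom_ext
      intro j
      obtain ⟨n⟩ := j
      have h1' := Cochain.congr_v (congrArg (δ (-1) 0) (hβ n)) p p (add_zero p)
      rw [δ_comp_ofHom, Cochain.comp_zero_cochain_v, Cochain.ofHom_v, (α n).2,
        Cochain.ofHom_v] at h1'
      simp only [fn, HomologicalComplex.comp_f] at h1'
      rw [Cochain.ofHom_v]
      exact h1'
    exact ⟨(Cochain.equivHomotopy _ _).symm ⟨β, by simp [hδ]⟩⟩

end Groth.Agent.H2.KInjLim
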