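import Mathlib

/-!
# Factorization of a morphism of complexes through a termwise split injection
followed by a homotopy equivalence, and dually.
-/

universe v u

open CategoryTheory CategoryTheory.Limits

namespace Groth.Agent.H2.SplitFact

section general

variable {V : Type u} [Category.{v} V] [Preadditive V] [HasBinaryBiproducts V]

lemma exists_iso_biprod {X Y Z : V} (i : X ⟶ Y) (r : Y ⟶ X) (j : Z ⟶ Y) (q : Y ⟶ Z)
    (hir : i ≫ r = 𝟙 X) (hjq : j ≫ q = 𝟙 Z) (h : r ≫ i + q ≫ j = 𝟙 Y) :
    ∃ e : Y ≅ X ⊞ Z, i ≫ e.hom = biprod.inl ∧ j ≫ e.hom = biprod.inr ∧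
      e.inv ≫ r = biprod.fst ∧ e.inv ≫ q = biprod.snd := by
  have hiq : i ≫ q = 0 := by
    have : i ≫ q = i ≫ (r ≫ i + q ≫ j) ≫ q := by rw [h, Category.id_comp]
    rw [Preadditive.add_comp, Preadditive.comp_add, Category.assoc, Category.assoc, hjq,
      Category.comp_id, ← Category.assoc i r, hir, Category.id_comp] at this
    exact left_eq_add.mp this
  have hjr : j ≫ r = 0 := by
    have : j ≫ r = j ≫ (r ≫ i + q ≫ j) ≫ r := by rw [h, Category.id_comp]
    rw [Preadditive.add_comp, Preadditive.comp_add, Category.assoc, Category.assoc, hir,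
      Category.comp_id, ← Category.assoc j q, hjq, Category.id_comp] at this
    exact right_eq_add.mp this
  refine ⟨⟨biprod.lift r q, biprod.desc i j, ?_, ?_⟩, ?_, ?_, ?_, ?_⟩
  · rw [biprod.lift_desc, h]
  · ext
    · simp [hir]
    · simp [hiq]
    · simp [hjr]
    · simp [hjq]
  · ext
    · simp [hir]
    · simp [hiq]
  · ext
    · simp [hjr]
    · simp [hjq]
  · ext
    · simp [hir]
    · simp [hjr]
  · ext
    · simp [hiq]
    · simp [hjq]

end general

end Groth.Agent.H2.SplitFact
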