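import Mathlib

/-!
# The fibre of a map from a biproduct which is invertible on one summand
-/

universe v u

open CategoryTheory CategoryTheory.Limits Pretriangulated

namespace Groth.Agent.H2.Tower

section

variable {D : Type u} [Category.{v} D] [Preadditive D] [HasZeroObject D] [HasShift D ℤ]
  [∀ n : ℤ, (shiftFunctor D n).Additive] [Pretriangulated D]

lemma isIso_fiber (T : Triangle D) (hT : T ∈ distTriang D) {J I : D}
    (inl : J ⟶ T.obj₂) (inr : I ⟶ T.obj₂) (fst : T.obj₂ ⟶ J) (snd : T.obj₂ ⟶ I)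
    (h1 : inl ≫ fst = 𝟙 J) (h2 : inr ≫ fst = 0) (h3 : fst ≫ inl + snd ≫ inr = 𝟙 _)
    (hv : IsIso (inr ≫ T.mor₂)) : IsIso (T.mor₁ ≫ fst) := by
  set v := inr ≫ T.mor₂ with hvdef
  have hs : (inl - (inl ≫ T.mor₂ ≫ inv v) ≫ inr) ≫ T.mor₂ = 0 := by
    rw [Preadditive.sub_comp, Category.assoc, Category.assoc, Category.assoc, ← hvdef,
      IsIso.inv_hom_id, Category.comp_id, sub_self]
  obtain ⟨w', hw'⟩ := Triangle.coyoneda_exact₂ T hT _ hs
  have hepi : Epi T.mor₂ := by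
    have : (inv v ≫ inr) ≫ T.mor₂ = 𝟙 _ := by
      rw [Category.assoc, ← hvdef, IsIso.inv_hom_id]
    exact epi_of_epi_fac this
  have hmono : Mono T.mor₁ := Triangle.mono₁ T hT (Triangle.mor₃_eq_zero_of_epi₂ T hT hepi)
  have e1 : w' ≫ T.mor₁ ≫ fst = 𝟙 J := by
    rw [← Category.assoc, ← hw', Preadditive.sub_comp, h1, Category.assoc, Category.assoc,
      Category.assoc, h2, comp_zero, comp_zero, comp_zero, sub_zero]
  have hz : T.mor₁ ≫ T.mor₂ = 0 := comp_distTriang_mor_zero₁₂ _ hT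
  have e0 : fst ≫ inl = 𝟙 _ - snd ≫ inr := by rw [← h3]; abel
  have e2 : (T.mor₁ ≫ fst) ≫ w' = 𝟙 _ := by
    rw [← cancel_mono T.mor₁, Category.assoc, Category.assoc, ← hw', Category.id_comp]
    rw [Preadditive.comp_sub, Preadditive.comp_sub]
    have a1 : T.mor₁ ≫ fst ≫ inl = T.mor₁ - T.mor₁ ≫ snd ≫ inr := by
      rw [e0, Preadditive.comp_sub, Category.comp_id]
    have a2 : T.mor₁ ≫ fst ≫ (inl ≫ T.mor₂ ≫ inv v) ≫ inr = - (T.mor₁ ≫ snd ≫ inr) := by
      have : T.mor₁ ≫ fst ≫ inl ≫ T.mor₂ = - (T.mor₁ ≫ snd ≫ v) := by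
        rw [← Category.assoc fst, e0, Preadditive.sub_comp, Category.id_comp,
          Preadditive.comp_sub, hz, zero_sub, Category.assoc]
      simp only [Category.assoc]
      rw [← Category.assoc fst, ← Category.assoc (fst ≫ inl), ← Category.assoc T.mor₁,
        Category.assoc fst, this, Preadditive.neg_comp, Category.assoc, Category.assoc,
        IsIso.hom_inv_id_assoc]
    rw [a1, a2]
    abel
  exact ⟨w', e2, e1⟩

lemma isIso_fiber' {W M E J I : D} (a : W ⟶ M) (φ : M ⟶ E) (δ : E ⟶ W⟦(1 : ℤ)⟧)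
    (hT : Triangle.mk a φ δ ∈ distTriang D)
    (inl : J ⟶ M) (inr : I ⟶ M) (fst : M ⟶ J) (snd : M ⟶ I)
    (h1 : inl ≫ fst = 𝟙 J) (h2 : inr ≫ fst = 0) (h3 : fst ≫ inl + snd ≫ inr = 𝟙 _)
    (hv : IsIso (inr ≫ φ)) : IsIso (a ≫ fst) :=
  isIso_fiber _ hT inl inr fst snd h1 h2 h3 hv

end

end Groth.Agent.H2.Tower
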