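import Mathlib
import Groth.Agent.Lib.Helper2.SESRes1

/-!
# Pushouts of termwise injective quasi-isomorphisms; descending to truncations
-/

universe v u

open CategoryTheory CategoryTheory.Limits

namespace Groth.Agent.H2.Tower

variable {A : Type u} [Category.{v} A] [Abelian A]

lemma quasiIso_f_of_acyclic {S : ShortComplex (CochainComplex A ℤ)} (hS : S.ShortExact)
    (h : S.X₃.Acyclic) : QuasiIso S.f := by
  rw [quasiIso_iff]
  intro i
  rw [quasiIsoAt_iff_isIso_homologyMap]
  have hz : ∀ j, IsZero (S.X₃.homology j) :=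
    fun j => (S.X₃.exactAt_iff_isZero_homology j).1 (h j)
  have hepi : Epi (HomologicalComplex.homologyMap S.f i) :=
    (hS.homology_exact₂ i).epi_f ((hz i).eq_of_tgt _ _)
  have hmono : Mono (HomologicalComplex.homologyMap S.f i) :=
    (hS.homology_exact₁ (i - 1) i (by simp)).mono_g ((hz (i - 1)).eq_of_src _ _)
  exact isIso_of_mono_of_epi _

/-- pushing out a termwise injective quasi-isomorphism -/
lemma exists_pushout {T J Q : CochainComplex A ℤ} (ι : T ⟶ J) [Mono ι] [QuasiIso ι] (f : T ⟶ Q)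
    (a : ℤ) [J.IsStrictlyGE a] [Q.IsStrictlyGE a] :
    ∃ (E : CochainComplex A ℤ) (g : J ⟶ E) (u : Q ⟶ E), ι ≫ g = f ≫ u ∧ QuasiIso u ∧
      E.IsStrictlyGE a := by
  let S : ShortComplex (CochainComplex A ℤ) := ShortComplex.mk ι (cokernel.π ι) (by simp)
  have hS : S.ShortExact :=
    { exact := ShortComplex.exact_cokernel ι
      mono_f := inferInstanceAs (Mono ι)
      epi_g := inferInstanceAs (Epi (cokernel.π ι)) }
  have hP : IsPushout S.f f (pushout.inl ι f) (pushout.inr ι f) := IsPushout.of_hasPushout _ _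
  let π : pushout ι f ⟶ cokernel ι := pushout.desc (cokernel.π ι) 0 (by simp)
  have hπ₁ : pushout.inl ι f ≫ π = S.g := pushout.inl_desc _ _ _
  have hπ₂ : pushout.inr ι f ≫ π = 0 := pushout.inr_desc _ _ _
  have hS' := SESRes.pushout_shortExact hS hP π hπ₁ hπ₂
  have hac : S.X₃.Acyclic := hS.acyclic_X₃ (inferInstanceAs (QuasiIso ι))
  have hq : QuasiIso (pushout.inr ι f) := quasiIso_f_of_acyclic hS' hac
  have h3 : S.X₃.IsStrictlyGE a := by
    have : S.X₂.IsStrictlyGE a := inferInstanceAs (J.IsStrictlyGE a)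
    exact SESRes.isStrictlyGE_X₃ hS a
  have hE : (pushout ι f).IsStrictlyGE a := by
    have i1 : (ShortComplex.mk (pushout.inr ι f) π hπ₂).X₁.IsStrictlyGE a :=
      inferInstanceAs (Q.IsStrictlyGE a)
    have i3 : (ShortComplex.mk (pushout.inr ι f) π hπ₂).X₃.IsStrictlyGE a := h3
    exact SESRes.isStrictlyGE_X₂ hS' a
  exact ⟨pushout ι f, pushout.inl ι f, pushout.inr ι f, pushout.condition, hq, hE⟩

/-- maps to a strictly bounded below complex descend to the canonical truncation -/
lemma exists_desc_truncGE (K Y : CochainComplex A ℤ) (a : ℤ) [Y.IsStrictlyGE a] (h : K ⟶ Y) :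
    ∃ h' : K.truncGE a ⟶ Y, K.πTruncGE a ≫ h' = h := by
  refine ⟨CochainComplex.truncGEMap h a ≫ inv (Y.πTruncGE a), ?_⟩
  rw [← Category.assoc, CochainComplex.πTruncGE_naturality, Category.assoc, IsIso.hom_inv_id,
    Category.comp_id]

end Groth.Agent.H2.Tower
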