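import Mathlib
import Groth.Agent.Lib.Helper2.Tower1
import Groth.Agent.Lib.Helper2.Tower2
import Groth.Agent.Lib.Helper2.SplitFact1

/-!
# The homotopy pullback of `g : J ⟶ E` and a quasi-isomorphism `u : Q ⟶ E`
-/

universe v u

open CategoryTheory CategoryTheory.Limits CochainComplex HomComplex

namespace Groth.Agent.H2.Tower

variable {A : Type u} [Category.{v} A] [Abelian A]
variable {J Q E : CochainComplex A ℤ} (g : J ⟶ E) (u : Q ⟶ E)

/-- the map whose cocone is the homotopy pullback -/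
noncomputable def φ : J ⊞ Q ⟶ E := biprod.desc (-g) u

/-- the homotopy pullback -/
noncomputable abbrev W : CochainComplex A ℤ := mappingCocone (φ g u)

/-- the projection to `J` -/
noncomputable def qJ : W g u ⟶ J := mappingCocone.fst (φ g u) ≫ biprod.fst

/-- the projection to `Q` -/
noncomputable def p : W g u ⟶ Q := mappingCocone.fst (φ g u) ≫ biprod.snd

attribute [local instance] HasDerivedCategory.standard in
lemma quasiIso_qJ [QuasiIso u] : QuasiIso (qJ g u) := by
  rw [← DerivedCategory.isIso_Q_map_iff_quasiIso]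
  have hT := DerivedCategory.mappingCocone_triangle_distinguished (φ g u)
  have hv : IsIso (DerivedCategory.Q.map (biprod.inr : Q ⟶ J ⊞ Q) ≫
      DerivedCategory.Q.map (φ g u)) := by
    rw [← Functor.map_comp]
    have : (biprod.inr : Q ⟶ J ⊞ Q) ≫ φ g u = u := by simp [φ]
    rw [this, DerivedCategory.isIso_Q_map_iff_quasiIso]
    infer_instance
  have := isIso_fiber' (DerivedCategory.Q.map (mappingCocone.fst (φ g u)))
    (DerivedCategory.Q.map (φ g u))
    (DerivedCategory.Q.mapTriangle.obj (mappingCocone.triangle (φ g u))).mor₃ hT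
    (DerivedCategory.Q.map (biprod.inl : J ⟶ J ⊞ Q))
    (DerivedCategory.Q.map (biprod.inr : Q ⟶ J ⊞ Q))
    (DerivedCategory.Q.map (biprod.fst : J ⊞ Q ⟶ J))
    (DerivedCategory.Q.map (biprod.snd : J ⊞ Q ⟶ Q))
    (by rw [← Functor.map_comp, biprod.inl_fst, CategoryTheory.Functor.map_id])
    (by rw [← Functor.map_comp, biprod.inr_fst, Functor.map_zero])
    (by rw [← Functor.map_comp, ← Functor.map_comp, ← Functor.map_add, biprod.total,
      CategoryTheory.Functor.map_id]) hv
  rw [← Functor.map_comp] at this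
  exact this

section lift

variable {T : CochainComplex A ℤ} (ι : T ⟶ J) (f : T ⟶ Q) (hc : ι ≫ g = f ≫ u)

/-- the map to the homotopy pullback -/
noncomputable def π' : T ⟶ W g u :=
  mappingCocone.lift (φ g u) (biprod.lift ι f) 0 (by
    have : biprod.lift ι f ≫ φ g u = 0 := by simp [φ, hc]
    rw [δ_zero, zero_add, this, Cochain.ofHom_zero])

lemma π'_qJ : π' g u ι f hc ≫ qJ g u = ι := by
  unfold π' qJ
  rw [mappingCocone.lift_fst_assoc, biprod.lift_fst]

lemma π'_p : π' g u ι f hc ≫ p g u = f := by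
  unfold π' p
  rw [mappingCocone.lift_fst_assoc, biprod.lift_snd]

include hc in
lemma mono_π'_f (i : ℤ) [Mono (ι.f i)] : Mono ((π' g u ι f hc).f i) := by
  have h : (π' g u ι f hc).f i ≫ (qJ g u).f i = ι.f i := by
    rw [← HomologicalComplex.comp_f, π'_qJ]
  exact mono_of_mono_fac h

include hc in
lemma quasiIso_π' [QuasiIso u] [QuasiIso ι] : QuasiIso (π' g u ι f hc) := by
  have := quasiIso_qJ g u
  have h : QuasiIso (π' g u ι f hc ≫ qJ g u) := by
    rw [π'_qJ]
    infer_instance
  exact quasiIso_of_comp_right (π' g u ι f hc) (qJ g u)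

end lift

section termwise

lemma p_f (i : ℤ) : (p g u).f i =
    (mappingCocone.fst (φ g u)).f i ≫ (biprod.snd : J ⊞ Q ⟶ Q).f i := rfl

/-- the termwise decomposition of the homotopy pullback -/
lemma exists_iso (i : ℤ) :
    ∃ (e : (W g u).X i ≅ (J.X i ⊞ E.X (i + -1)) ⊞ Q.X i) (s : Q.X i ⟶ (W g u).X i),
      e.inv ≫ (p g u).f i = biprod.snd ∧ s ≫ (p g u).f i = 𝟙 _ := by
  let a := (biprod.fst : J ⊞ Q ⟶ J).f i
  let b := (biprod.snd : J ⊞ Q ⟶ Q).f i
  let ia := (biprod.inl : J ⟶ J ⊞ Q).f i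
  let ib := (biprod.inr : Q ⟶ J ⊞ Q).f i
  let fstW := (mappingCocone.fst (φ g u)).f i
  let sndW := (mappingCocone.snd (φ g u)).v i (i + -1) rfl
  let inlW := (mappingCocone.inl (φ g u)).v i i (add_zero i)
  let inrW := (mappingCocone.inr (φ g u)).1.v (i + -1) i (by omega)
  have e1 : ia ≫ a = 𝟙 _ := by
    rw [← HomologicalComplex.comp_f, biprod.inl_fst]; rfl
  have e4 : ib ≫ b = 𝟙 _ := by
    rw [← HomologicalComplex.comp_f, biprod.inr_snd]; rfl
  have e5 : a ≫ ia + b ≫ ib = 𝟙 _ := by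
    rw [← HomologicalComplex.comp_f, ← HomologicalComplex.comp_f,
      ← HomologicalComplex.add_f_apply, biprod.total]
    rfl
  have c1 : inlW ≫ fstW = 𝟙 _ := mappingCocone.inl_v_fst_f _ _
  have c2 : inlW ≫ sndW = 0 := mappingCocone.inl_v_snd_v _ _ _ _
  have c3 : inrW ≫ fstW = 0 := mappingCocone.inr_v_fst_f _ _ _ _
  have c4 : inrW ≫ sndW = 𝟙 _ := mappingCocone.inr_v_snd_v _ _ _ _
  have c5 : fstW ≫ inlW + sndW ≫ inrW = 𝟙 _ := mappingCocone.id_X _ _ _ _
  obtain ⟨e, -, -, -, he⟩ := SplitFact.exists_iso_biprod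
    (X := J.X i ⊞ E.X (i + -1)) (Z := Q.X i)
    (biprod.desc (ia ≫ inlW) inrW) (biprod.lift (fstW ≫ a) sndW)
    (ib ≫ inlW) (fstW ≫ b)
    (by
      ext
      · simp [reassoc_of% c1, e1]
      · simp [c2]
      · simp [reassoc_of% c3]
      · simp [c4])
    (by rw [Category.assoc, reassoc_of% c1, e4])
    (by
      rw [biprod.lift_desc]
      simp only [Category.assoc]
      have : fstW ≫ a ≫ ia ≫ inlW + fstW ≫ b ≫ ib ≫ inlW = fstW ≫ inlW := by
        rw [← Preadditive.comp_add, ← Category.assoc a, ← Category.assoc b,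
          ← Preadditive.add_comp, e5, Category.id_comp]
      rw [← c5, ← this]
      abel)
  exact ⟨e, ib ≫ inlW, he, by
    rw [p_f]
    change (ib ≫ inlW) ≫ fstW ≫ b = 𝟙 _
    rw [Category.assoc, reassoc_of% c1, e4]⟩

lemma isZero_W_X (i : ℤ) (h1 : IsZero (J.X i)) (h2 : IsZero (Q.X i))
    (h3 : IsZero (E.X (i + -1))) : IsZero ((W g u).X i) := by
  obtain ⟨e, -, -, -⟩ := exists_iso g u i
  refine IsZero.of_iso ?_ e
  rw [biprod_isZero_iff, biprod_isZero_iff]
  exact ⟨⟨h1, h3⟩, h2⟩

lemma isStrictlyGE_W (a : ℤ) [J.IsStrictlyGE a] [Q.IsStrictlyGE a] [E.IsStrictlyGE a] :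
    (W g u).IsStrictlyGE a := by
  rw [isStrictlyGE_iff]
  intro i hi
  exact isZero_W_X g u i (J.isZero_of_isStrictlyGE a _ (by omega))
    (Q.isZero_of_isStrictlyGE a _ (by omega)) (E.isZero_of_isStrictlyGE a _ (by omega))

end termwise

lemma kernel_iso {B : Type*} [Category B] [Abelian B] {Y X Z : B} (p : Y ⟶ X)
    (e : Y ≅ Z ⊞ X) (he : e.inv ≫ p = biprod.snd) :
    Nonempty (kernel p ≅ Z) := by
  have hp : p = e.hom ≫ biprod.snd := by rw [← he, Iso.hom_inv_id_assoc]
  have h1 : kernel.ι p ≫ e.hom ≫ biprod.snd = 0 := by rw [← hp, kernel.condition]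
  have h2 : (biprod.fst : Z ⊞ X ⟶ Z) ≫ biprod.inl = 𝟙 _ - biprod.snd ≫ biprod.inr := by
    rw [← biprod.total]
    abel
  exact ⟨{ hom := kernel.ι p ≫ e.hom ≫ biprod.fst
           inv := kernel.lift p (biprod.inl ≫ e.inv)
            (by rw [Category.assoc, he, biprod.inl_snd])
           hom_inv_id := by
            rw [← cancel_mono (kernel.ι p)]
            simp only [Category.assoc, kernel.lift_ι, Category.id_comp]
            rw [reassoc_of% h2, Preadditive.sub_comp, Preadditive.comp_sub, Preadditive.comp_sub,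
              Category.assoc, reassoc_of% h1, zero_comp, sub_zero, Category.id_comp,
              Iso.hom_inv_id, Category.comp_id]
           inv_hom_id := by
            rw [← Category.assoc, kernel.lift_ι, Category.assoc, Iso.inv_hom_id_assoc,
              biprod.inl_fst] }⟩

end Groth.Agent.H2.Tower
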