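import Mathlib
import Groth.Agent.Lib.Helper2.Tower3
import Groth.Agent.Lib.Helper2.Resol3

/-!
# Towers of resolutions of the canonical truncations of a complex
-/

universe v u

open CategoryTheory CategoryTheory.Limits CochainComplex

namespace Groth.Agent.H2.Tower

variable {A : Type u} [Category.{v} A] [Abelian A]
variable (I : ObjectProperty A) [I.IsClosedUnderIsomorphisms]
  (hI0 : ∃ Z : A, IsZero Z ∧ I Z) (hIprod : ∀ X Y : A, I X → I Y → I (X ⊞ Y))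
  (hI : ∀ X : A, ∃ (Y : A) (ι : X ⟶ Y), I Y ∧ Mono ι)

include hI0 hIprod hI in
lemma step (T Q : CochainComplex A ℤ) (a : ℤ) [T.IsStrictlyGE a] [Q.IsStrictlyGE a]
    (hQ : ∀ i, I (Q.X i)) (f : T ⟶ Q) :
    ∃ (Q' : CochainComplex A ℤ) (π' : T ⟶ Q') (p : Q' ⟶ Q), Q'.IsStrictlyGE a ∧
      (∀ i, I (Q'.X i)) ∧ QuasiIso π' ∧ (∀ i, Mono (π'.f i)) ∧
      (∀ i, (∃ s : Q.X i ⟶ Q'.X i, s ≫ p.f i = 𝟙 _) ∧ I (kernel (p.f i))) ∧ π' ≫ p = f := by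
  obtain ⟨J, ι, hJ, hJI, hιm, hι⟩ := Resol.exists_resolution I hI T a hI0
  have hιmono : Mono ι := HomologicalComplex.mono_of_mono_f _ hιm
  obtain ⟨E, g0, u0, hc0, hu0, hE⟩ := exists_pushout ι f a
  obtain ⟨E', ε, hE', hE'I, -, hε⟩ := Resol.exists_resolution I hI E a hI0
  have hc : ι ≫ g0 ≫ ε = f ≫ u0 ≫ ε := by rw [← Category.assoc, hc0, Category.assoc]
  have hu : QuasiIso (u0 ≫ ε) := inferInstance
  refine ⟨W (g0 ≫ ε) (u0 ≫ ε), π' (g0 ≫ ε) (u0 ≫ ε) ι f hc, p (g0 ≫ ε) (u0 ≫ ε),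
    isStrictlyGE_W _ _ a, ?_, quasiIso_π' _ _ ι f hc, ?_, ?_, π'_p _ _ ι f hc⟩
  · intro i
    obtain ⟨e, s, he, hs⟩ := exists_iso (g0 ≫ ε) (u0 ≫ ε) i
    exact I.prop_of_iso e.symm (hIprod _ _ (hIprod _ _ (hJI i) (hE'I _)) (hQ i))
  · intro i
    have := hιm i
    exact mono_π'_f _ _ ι f hc i
  · intro i
    obtain ⟨e, s, he, hs⟩ := exists_iso (g0 ≫ ε) (u0 ≫ ε) i
    obtain ⟨e'⟩ := kernel_iso _ e he
    exact ⟨⟨s, hs⟩, I.prop_of_iso e'.symm (hIprod _ _ (hJI i) (hE'I _))⟩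

variable (K : CochainComplex A ℤ)

/-- the inductive state -/
structure State (n : ℕ) where
  /-- the complex -/
  Q : CochainComplex A ℤ
  /-- the resolution map -/
  π : K.truncGE (-(n : ℤ)) ⟶ Q
  hq : QuasiIso π
  hm : ∀ i, Mono (π.f i)
  hGE : Q.IsStrictlyGE (-(n : ℤ))
  hI : ∀ i, I (Q.X i)

/-- the next stage over a given state -/
structure Next {n : ℕ} (s : State I K n) where
  /-- the next state -/
  t : State I K (n + 1)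
  /-- the transition map -/
  p : t.Q ⟶ s.Q
  hp : ∀ i, (∃ σ : s.Q.X i ⟶ t.Q.X i, σ ≫ p.f i = 𝟙 _) ∧ I (kernel (p.f i))
  hc : K.πTruncGE (-((n + 1 : ℕ) : ℤ)) ≫ t.π ≫ p = K.πTruncGE (-(n : ℤ)) ≫ s.π

include hI0 hIprod hI in
lemma nonempty_next {n : ℕ} (s : State I K n) : Nonempty (Next I K s) := by
  have h1 : s.Q.IsStrictlyGE (-(n : ℤ)) := s.hGE
  have h2 : s.Q.IsStrictlyGE (-((n + 1 : ℕ) : ℤ)) :=
    CochainComplex.isStrictlyGE_of_ge _ _ (-(n : ℤ)) (by push_cast; omega)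
  obtain ⟨f, hf⟩ := exists_desc_truncGE K s.Q (-((n + 1 : ℕ) : ℤ))
    (K.πTruncGE (-(n : ℤ)) ≫ s.π)
  obtain ⟨Q', π', p, hQ', hQ'I, hq, hm, hp, hc⟩ :=
    step I hI0 hIprod hI (K.truncGE (-((n + 1 : ℕ) : ℤ))) s.Q (-((n + 1 : ℕ) : ℤ)) s.hI f
  exact ⟨{ t := ⟨Q', π', hq, hm, hQ', hQ'I⟩
           p := p
           hp := hp
           hc := by
            change K.πTruncGE (-((n + 1 : ℕ) : ℤ)) ≫ π' ≫ p = _
            rw [hc, hf] }⟩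

include hI0 hI in
lemma nonempty_state_zero : Nonempty (State I K 0) := by
  obtain ⟨J, ι, hJ, hJI, hιm, hι⟩ :=
    Resol.exists_resolution I hI (K.truncGE (-((0 : ℕ) : ℤ))) (-((0 : ℕ) : ℤ)) hI0
  exact ⟨⟨J, ι, hι, hιm, hJ, hJI⟩⟩

/-- the sequence of states -/
noncomputable def st : ∀ n, State I K n
  | 0 => (nonempty_state_zero I hI0 hI K).some
  | (n + 1) => (nonempty_next I hI0 hIprod hI K (st n)).some.t

/-- the sequence of transitions -/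
noncomputable def nx (n : ℕ) : Next I K (st I hI0 hIprod hI K n) :=
  (nonempty_next I hI0 hIprod hI K (st I hI0 hIprod hI K n)).some

include hI0 hIprod hI in
theorem main :
    ∃ (Q : ℕ → CochainComplex A ℤ) (p : ∀ n, Q (n + 1) ⟶ Q n)
      (π : ∀ n : ℕ, K.truncGE (-(n : ℤ)) ⟶ Q n),
      (∀ n, QuasiIso (π n) ∧ ∀ i, Mono ((π n).f i)) ∧
      (∀ n, ∃ a : ℤ, (Q n).IsStrictlyGE a) ∧ (∀ n i, I ((Q n).X i)) ∧
      (∀ n i, (∃ s : (Q n).X i ⟶ (Q (n + 1)).X i, s ≫ (p n).f i = 𝟙 _) ∧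
        I (kernel ((p n).f i))) ∧
      (∀ n : ℕ, K.πTruncGE (-((n + 1 : ℕ) : ℤ)) ≫ π (n + 1) ≫ p n =
        K.πTruncGE (-(n : ℤ)) ≫ π n) :=
  ⟨fun n => (st I hI0 hIprod hI K n).Q, fun n => (nx I hI0 hIprod hI K n).p,
    fun n => (st I hI0 hIprod hI K n).π,
    fun n => ⟨(st I hI0 hIprod hI K n).hq, (st I hI0 hIprod hI K n).hm⟩,
    fun n => ⟨_, (st I hI0 hIprod hI K n).hGE⟩,
    fun n => (st I hI0 hIprod hI K n).hI,
    fun n => (nx I hI0 hIprod hI K n).hp,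
    fun n => (nx I hI0 hIprod hI K n).hc⟩

end Groth.Agent.H2.Tower
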