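import Mathlib
import Groth.Agent.Lib.Lead.QC.TensorQC
import Groth.Agent.Lib.Lead.QC.SuppPullback
import Groth.Agent.Lib.Lead.QC.Pullback

/-!
# Support of a tensor product (helper2): S2286
-/

set_option autoImplicit false
set_option linter.style.haveILetI false
universe u
open CategoryTheory Limits AlgebraicGeometry TopologicalSpace Opposite TensorProduct

namespace Groth.Agent.H2.SuppTensor

open Groth.Agent.LD.QC

theorem nontrivial_tensor_field_iff (K : Type*) [Field K] (V W : Type*) [AddCommGroup V]
    [Module K V] [AddCommGroup W] [Module K W] :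
    Nontrivial (V ⊗[K] W) ↔ Nontrivial V ∧ Nontrivial W := by
  rw [← rank_pos_iff_nontrivial (R := K), ← rank_pos_iff_nontrivial (R := K) (M := V),
    ← rank_pos_iff_nontrivial (R := K) (M := W), rank_tensorProduct]
  simp [pos_iff_ne_zero]

theorem support_tensorProduct (R : Type*) [CommRing R] (M N : Type*) [AddCommGroup M] [Module R M]
    [AddCommGroup N] [Module R N] [Module.Finite R M] [Module.Finite R N] :
    Module.support R (M ⊗[R] N) = Module.support R M ∩ Module.support R N := by
  ext p
  rw [Set.mem_inter_iff, Module.mem_support_iff_nontrivial_residueField_tensorProduct,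
    Module.mem_support_iff_nontrivial_residueField_tensorProduct,
    Module.mem_support_iff_nontrivial_residueField_tensorProduct,
    (AlgebraTensorModule.distribBaseChange R p.asIdeal.ResidueField M N).toEquiv.nontrivial_congr]
  exact nontrivial_tensor_field_iff p.asIdeal.ResidueField _ _

variable {X : Scheme.{u}}

theorem support_tensorMod (M N : X.Modules) [M.IsQuasicoherent] [N.IsQuasicoherent]
    (hM : M.IsFiniteType) (hN : N.IsFiniteType) (x : X) :
    ¬ Subsingleton ((CohB1.tensorMod M N).presheaf.stalk x) ↔
      ¬ Subsingleton (M.presheaf.stalk x) ∧ ¬ Subsingleton (N.presheaf.stalk x) := by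
  obtain ⟨U, hU, hxU, -⟩ := exists_isAffineOpen_mem_and_subset (x := x) (U := ⊤) trivial
  haveI := finite_sections_of_isFiniteType M hM hU
  haveI := finite_sections_of_isFiniteType N hN hU
  rw [← mem_support_iff_not_subsingleton_stalk _ hU x hxU,
    ← mem_support_iff_not_subsingleton_stalk M hU x hxU,
    ← mem_support_iff_not_subsingleton_stalk N hU x hxU,
    ← (tensorSecEquiv M N hU).support_eq, support_tensorProduct]
  rfl

/-- **S2286** -/
theorem support_box {S Y : Scheme.{u}} (f : X ⟶ S) (g : Y ⟶ S) (F : X.Modules) (G : Y.Modules)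
    [F.IsQuasicoherent] [G.IsQuasicoherent] (hF : F.IsFiniteType) (hG : G.IsFiniteType) :
    CohB1.support (CohB1.tensorMod ((Scheme.Modules.pullback (pullback.fst f g)).obj F)
        ((Scheme.Modules.pullback (pullback.snd f g)).obj G)) =
      (pullback.fst f g) ⁻¹' CohB1.support F ∩ (pullback.snd f g) ⁻¹' CohB1.support G := by
  haveI := qc_pullback (pullback.fst f g) F
  haveI := qc_pullback (pullback.snd f g) G
  have h1 := isFiniteType_pullback (pullback.fst f g) F hF
  have h2 := isFiniteType_pullback (pullback.snd f g) G hG
  ext z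
  change ¬ Subsingleton _ ↔ _
  rw [support_tensorMod _ _ h1 h2 z, support_pullback (pullback.fst f g) F hF z,
    support_pullback (pullback.snd f g) G hG z]
  rfl

end Groth.Agent.H2.SuppTensor
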