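import Mathlib

/-!
# Morphisms from spectra of local rings through affine opens
-/

set_option autoImplicit false

universe u

open AlgebraicGeometry CategoryTheory CategoryTheory.Limits IsLocalRing

namespace Groth.Agent.H2.DVRGen

variable {X : Scheme.{u}}

/-- the ring map `Γ(X, U) ⟶ R` induced by a morphism `Spec R ⟶ X` from the spectrum of a local
ring sending the closed point into `U` -/
noncomputable def locLift {U : X.Opens} (R : CommRingCat.{u}) [IsLocalRing R] (φ : Spec R ⟶ X)
    (hx : φ (closedPoint R) ∈ U) : Γ(X, U) ⟶ R :=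
  X.presheaf.germ U _ hx ≫ Scheme.stalkClosedPointTo φ

lemma SpecMap_locLift_fromSpec {U : X.Opens} (hU : IsAffineOpen U) (R : CommRingCat.{u})
    [IsLocalRing R] (φ : Spec R ⟶ X) (hx : φ (closedPoint R) ∈ U) :
    Spec.map (locLift R φ hx) ≫ hU.fromSpec = φ := by
  rw [locLift, Spec.map_comp, Category.assoc]
  have := hU.fromSpecStalk_eq_fromSpecStalk hx
  unfold IsAffineOpen.fromSpecStalk at this
  rw [this, Scheme.Spec_stalkClosedPointTo_fromSpecStalk]

lemma hom_ext_fromSpec {U : X.Opens} (hU : IsAffineOpen U) {R : CommRingCat.{u}}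
    (a b : Γ(X, U) ⟶ R) (h : Spec.map a ≫ hU.fromSpec = Spec.map b ≫ hU.fromSpec) : a = b :=
  Spec.map_injective ((cancel_mono _).1 h)

/-- if all the sections over an affine open have values in the valuation ring, the morphism
extends -/
theorem lift_of_forall_mem {S : Scheme.{u}} (f : X ⟶ S) {L : Type u} [Field L]
    (ζ : Spec (CommRingCat.of L) ⟶ X) (R : ValuationSubring L)
    (φ : Spec (CommRingCat.of R) ⟶ S)
    (hφ : Spec.map (CommRingCat.ofHom R.subtype) ≫ φ = ζ ≫ f)
    {V : S.Opens} (hV : IsAffineOpen V) (hsV : φ (closedPoint R) ∈ V)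
    {U : X.Opens} (hU : IsAffineOpen U) (e : U ≤ f ⁻¹ᵁ V) (hx₀ : ζ (closedPoint L) ∈ U)
    (hmem : ∀ b : Γ(X, U), (locLift (CommRingCat.of L) ζ hx₀).hom b ∈ R) :
    ∃ l : Spec (CommRingCat.of R) ⟶ X, l ≫ f = φ ∧
      Spec.map (CommRingCat.ofHom R.subtype) ≫ l = ζ := by
  let β : Γ(X, U) ⟶ CommRingCat.of R :=
    CommRingCat.ofHom ((locLift (CommRingCat.of L) ζ hx₀).hom.codRestrict R.toSubring hmem)
  have hβ : β ≫ CommRingCat.ofHom R.subtype = locLift (CommRingCat.of L) ζ hx₀ := rfl
  have hl2 : Spec.map (CommRingCat.ofHom R.subtype) ≫ Spec.map β ≫ hU.fromSpec = ζ := by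
    rw [← Category.assoc, ← Spec.map_comp, hβ, SpecMap_locLift_fromSpec]
  refine ⟨Spec.map β ≫ hU.fromSpec, ?_, hl2⟩
  have h1 : (Spec.map β ≫ hU.fromSpec) ≫ f = Spec.map (f.appLE V U e ≫ β) ≫ hV.fromSpec := by
    rw [Spec.map_comp, Category.assoc, Category.assoc, IsAffineOpen.SpecMap_appLE_fromSpec]
  have h2 : Spec.map (locLift (CommRingCat.of R) φ hsV) ≫ hV.fromSpec = φ :=
    SpecMap_locLift_fromSpec hV _ φ hsV
  have h3 : f.appLE V U e ≫ β = locLift (CommRingCat.of R) φ hsV := by
    have h4 : (f.appLE V U e ≫ β) ≫ CommRingCat.ofHom R.subtype =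
        locLift (CommRingCat.of R) φ hsV ≫ CommRingCat.ofHom R.subtype := by
      apply hom_ext_fromSpec hV
      rw [Spec.map_comp, Category.assoc, ← h1, ← Category.assoc, hl2, Spec.map_comp,
        Category.assoc, h2, hφ]
    ext a
    exact congrArg (fun q => q.hom a) h4
  rw [h1, h3, h2]

/-- conversely, the sections over an affine open containing the image of the closed point have
values in the valuation ring -/
theorem mem_of_lift {L : Type u} [Field L] (ζ : Spec (CommRingCat.of L) ⟶ X)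
    (B : ValuationSubring L) (l : Spec (CommRingCat.of B) ⟶ X)
    (hl : Spec.map (CommRingCat.ofHom B.subtype) ≫ l = ζ) {U : X.Opens} (hU : IsAffineOpen U)
    (hxU : l (closedPoint B) ∈ U) :
    ∃ hx₀ : ζ (closedPoint L) ∈ U, ∀ b : Γ(X, U),
      (locLift (CommRingCat.of L) ζ hx₀).hom b ∈ B := by
  have hx₀ : ζ (closedPoint L) ∈ U := by
    rw [← hl, Scheme.Hom.comp_apply]
    have h1 := Scheme.preimage_eq_top_of_closedPoint_mem l hxU
    have h2 : (Spec.map (CommRingCat.ofHom B.subtype)) (closedPoint L) ∈ l ⁻¹ᵁ U := by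
      rw [h1]; trivial
    exact h2
  refine ⟨hx₀, fun b => ?_⟩
  have key : locLift (CommRingCat.of L) ζ hx₀ =
      locLift (CommRingCat.of B) l hxU ≫ CommRingCat.ofHom B.subtype := by
    apply hom_ext_fromSpec hU
    rw [SpecMap_locLift_fromSpec, Spec.map_comp, Category.assoc, SpecMap_locLift_fromSpec, hl]
  rw [key]
  exact ((locLift (CommRingCat.of B) l hxU).hom b).2

end Groth.Agent.H2.DVRGen
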