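import Mathlib
import Groth.Agent.Lib.Helper2.DVRGen1
import Groth.Agent.Lib.Helper8.DVRSch2
import Groth.Agent.Lib.Helper8.DVRDominate

/-!
# From discrete valuation rings to all valuation rings, for a field point of finite type
-/

set_option autoImplicit false

universe u

open AlgebraicGeometry CategoryTheory CategoryTheory.Limits IsLocalRing

namespace Groth.Agent.H2.DVRGen

open Groth.Agent.H8.DVRSch

/-- finite generation of the residue field over an affine open of the base -/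
theorem exists_finset_generating {W S : Scheme.{u}} (g : W ⟶ S) [LocallyOfFiniteType g] (w : W)
    {V : S.Opens} (hV : IsAffineOpen V) (hgw : g w ∈ V) (α : Γ(S, V) ⟶ W.residueField w)
    (hα : Spec.map α ≫ hV.fromSpec = W.fromSpecResidueField w ≫ g) :
    ∃ T : Finset (W.residueField w), ∀ F : Subfield (W.residueField w),
      (∀ a : Γ(S, V), α.hom a ∈ F) → (∀ z ∈ T, z ∈ F) → F = ⊤ := by
  classical
  obtain ⟨_, ⟨W₁, hW₁, rfl⟩, hwW₁, hsub⟩ := W.isBasis_affineOpens.exists_subset_of_mem_open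
    (show w ∈ ((g ⁻¹ᵁ V : W.Opens) : Set W) from hgw) (g ⁻¹ᵁ V).isOpen
  have e : W₁ ≤ g ⁻¹ᵁ V := hsub
  have hft : (g.appLE V W₁ e).hom.FiniteType :=
    HasRingHomProperty.appLE @LocallyOfFiniteType g inferInstance ⟨V, hV⟩ ⟨W₁, hW₁⟩ e
  letI : Algebra Γ(S, V) Γ(W, W₁) := (g.appLE V W₁ e).hom.toAlgebra
  obtain ⟨T, hT⟩ := (show Algebra.FiniteType Γ(S, V) Γ(W, W₁) from hft).out
  have hcomp : g.appLE V W₁ e ≫ W.evaluation W₁ w hwW₁ = α := by
    apply hom_ext_fromSpec hV
    rw [Spec.map_comp, Category.assoc, IsAffineOpen.SpecMap_appLE_fromSpec g hV hW₁ e,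
      ← Category.assoc, specMap_evaluation_fromSpec hW₁ hwW₁, hα]
  refine ⟨T.image (W.evaluation W₁ w hwW₁).hom, fun F h1 h2 => ?_⟩
  have hall : ∀ b : Γ(W, W₁), (W.evaluation W₁ w hwW₁).hom b ∈ F := by
    intro b
    have hb : b ∈ Algebra.adjoin Γ(S, V) (T : Set Γ(W, W₁)) := by rw [hT]; trivial
    induction hb using Algebra.adjoin_induction with
    | mem x hx => exact h2 _ (Finset.mem_image_of_mem _ hx)
    | algebraMap a =>
      have h3 : (W.evaluation W₁ w hwW₁).hom ((g.appLE V W₁ e).hom a) = α.hom a :=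
        congrArg (fun q => q.hom a) hcomp
      change (W.evaluation W₁ w hwW₁).hom ((g.appLE V W₁ e).hom a) ∈ F
      rw [h3]
      exact h1 a
    | add x y _ _ hx hy =>
      rw [map_add]
      exact F.add_mem hx hy
    | mul x y _ _ hx hy =>
      rw [map_mul]
      exact F.mul_mem hx hy
  rw [eq_top_iff, ← closure_range_evaluation hW₁ hwW₁, Subfield.closure_le]
  rintro _ ⟨b, rfl⟩
  exact hall b

/-- **From discrete valuation rings to all valuation rings.** -/
theorem exists_lift_of_dvr {X S W : Scheme.{u}} [IsLocallyNoetherian S] (f : X ⟶ S)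
    [LocallyOfFiniteType f] [QuasiCompact f] (g : W ⟶ S) [LocallyOfFiniteType g] (w : W)
    (ζ : Spec (W.residueField w) ⟶ X) (hζ : ζ ≫ f = W.fromSpecResidueField w ≫ g)
    (hDVR : ∀ (A : ValuationSubring (W.residueField w)), IsDiscreteValuationRing A →
      ∀ y : Spec (CommRingCat.of A) ⟶ S, Spec.map (CommRingCat.ofHom A.subtype) ≫ y = ζ ≫ f →
      ∃ l : Spec (CommRingCat.of A) ⟶ X, l ≫ f = y ∧
        Spec.map (CommRingCat.ofHom A.subtype) ≫ l = ζ)
    (R : ValuationSubring (W.residueField w)) (φ : Spec (CommRingCat.of R) ⟶ S)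
    (hφ : Spec.map (CommRingCat.ofHom R.subtype) ≫ φ = ζ ≫ f) :
    ∃ l : Spec (CommRingCat.of R) ⟶ X, l ≫ f = φ ∧
      Spec.map (CommRingCat.ofHom R.subtype) ≫ l = ζ := by
  classical
  by_contra hno
  -- an affine neighbourhood of the image of the closed point
  obtain ⟨_, ⟨V, hV, rfl⟩, hsV, -⟩ := S.isBasis_affineOpens.exists_subset_of_mem_open
    (Set.mem_univ (φ (closedPoint R))) isOpen_univ
  let αR : Γ(S, V) ⟶ CommRingCat.of R := locLift (CommRingCat.of R) φ hsV
  have hαR : Spec.map αR ≫ hV.fromSpec = φ := SpecMap_locLift_fromSpec hV _ φ hsV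
  let α : Γ(S, V) ⟶ W.residueField w := αR ≫ CommRingCat.ofHom R.subtype
  have hα : Spec.map α ≫ hV.fromSpec = ζ ≫ f := by
    have h1 : Spec.map α ≫ hV.fromSpec = Spec.map (CommRingCat.ofHom R.subtype) ≫ φ := by
      rw [Spec.map_comp, Category.assoc, hαR]
      rfl
    exact h1.trans hφ
  set x₀ : X := ζ (closedPoint (W.residueField w)) with hx₀def
  have hmemV : ∀ (Rg : CommRingCat.{u}) (γ : Γ(S, V) ⟶ Rg) (t : Spec Rg),
      (Spec.map γ ≫ hV.fromSpec) t ∈ V := by
    intro Rg γ t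
    rw [Scheme.Hom.comp_apply]
    have h1 : hV.fromSpec ((Spec.map γ) t) ∈ Set.range hV.fromSpec := Set.mem_range_self _
    rw [hV.range_fromSpec] at h1
    exact h1
  have hfx₀ : f x₀ ∈ V := by
    have h1 : f x₀ = (ζ ≫ f) (closedPoint (W.residueField w)) := by
      rw [Scheme.Hom.comp_apply]
    rw [h1, ← hα]
    exact hmemV _ _ _
  have hgw : g w ∈ V := by
    have h1 : g w = (W.fromSpecResidueField w ≫ g) (closedPoint (W.residueField w)) := by
      rw [Scheme.Hom.comp_apply, Scheme.fromSpecResidueField_apply]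
    rw [h1, ← hζ, ← hα]
    exact hmemV _ _ _
  -- finite affine cover of the preimage
  have hcomp : IsCompact ((f ⁻¹ᵁ V : X.Opens) : Set X) := f.isCompact_preimage hV.isCompact
  obtain ⟨s, hsfin, hs⟩ := isCompact_and_isOpen_iff_finite_and_eq_biUnion_affineOpens.1
    ⟨hcomp, (f ⁻¹ᵁ V).isOpen⟩
  have : Finite s := hsfin.to_subtype
  have hsle : ∀ U ∈ s, (U : X.Opens) ≤ f ⁻¹ᵁ V := by
    intro U hU x hx
    have : x ∈ ((f ⁻¹ᵁ V : X.Opens) : Set X) := by
      rw [hs]
      exact Set.mem_biUnion hU hx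
    exact this
  have hcover : ∀ x : X, f x ∈ V → ∃ U ∈ s, x ∈ (U : X.Opens) := by
    intro x hx
    have : x ∈ ((f ⁻¹ᵁ V : X.Opens) : Set X) := hx
    rw [hs] at this
    obtain ⟨U, hU, hxU⟩ := Set.mem_iUnion₂.1 this
    exact ⟨U, hU, hxU⟩
  -- the members of the cover containing `x₀`
  let ι := {U : s // x₀ ∈ (U.1 : X.Opens)}
  have : Finite ι := Subtype.finite
  have hex : ∀ i : ι, ∃ b : Γ(X, (i.1.1 : X.Opens)),
      (locLift (W.residueField w) ζ i.2).hom b ∉ R := by
    intro i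
    by_contra hall
    push Not at hall
    exact hno (lift_of_forall_mem f ζ R φ hφ hV hsV i.1.1.2 (hsle _ i.1.2) i.2 hall)
  choose b hb using hex
  let c : ι → W.residueField w := fun i => (locLift (W.residueField w) ζ i.2).hom (b i)
  have hc : ∀ i, c i ∉ R := hb
  have hc0 : ∀ i, c i ≠ 0 := fun i h0 => hc i (h0 ▸ R.zero_mem)
  have hdR : ∀ i, (c i)⁻¹ ∈ R := by
    intro i
    rcases R.mem_or_inv_mem (c i) with h | h
    · exact absurd h (hc i)
    · exact h
  have hdm : ∀ i, (⟨(c i)⁻¹, hdR i⟩ : R) ∈ maximalIdeal R := by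
    intro i
    rw [mem_maximalIdeal, mem_nonunits_iff]
    intro hu
    obtain ⟨v, hv⟩ := hu.exists_right_inv
    have h1 : (c i)⁻¹ * (v : W.residueField w) = 1 := congrArg Subtype.val hv
    have h2 : (v : W.residueField w) = c i := by
      have := eq_inv_of_mul_eq_one_right h1
      rwa [inv_inv] at this
    exact hc i (h2 ▸ v.2)
  -- the polynomial ring
  let ψR : MvPolynomial ι Γ(S, V) →+* R :=
    MvPolynomial.eval₂Hom αR.hom (fun i => ⟨(c i)⁻¹, hdR i⟩)
  let ψ : MvPolynomial ι Γ(S, V) →+* W.residueField w := R.subtype.comp ψR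
  have hψC : ∀ a, ψ (MvPolynomial.C a) = α.hom a := by
    intro a
    have h1 : ψR (MvPolynomial.C a) = αR.hom a := by simp [ψR]
    change ((ψR (MvPolynomial.C a) : R) : W.residueField w) = _
    rw [h1]
    rfl
  have hψX : ∀ i, ψ (MvPolynomial.X i) = (c i)⁻¹ := by
    intro i
    simp [ψ, ψR]
  let p : Ideal (MvPolynomial ι Γ(S, V)) := (maximalIdeal R).comap ψR
  have hp : p.IsPrime := Ideal.comap_isPrime _ _
  have hXp : ∀ i, (MvPolynomial.X i : MvPolynomial ι Γ(S, V)) ∈ p := by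
    intro i
    change ψR (MvPolynomial.X i) ∈ maximalIdeal R
    have : ψR (MvPolynomial.X i) = ⟨(c i)⁻¹, hdR _⟩ := by
      simp [ψR]
    rw [this]
    exact hdm _
  obtain ⟨U₁, hU₁s, hx₀U₁⟩ := hcover x₀ hfx₀
  let i₁ : ι := ⟨⟨U₁, hU₁s⟩, hx₀U₁⟩
  have hlt : RingHom.ker ψ < p := by
    refine lt_of_le_of_ne (fun q hq => ?_) (fun heq => ?_)
    · rw [RingHom.mem_ker] at hq
      change ψR q ∈ maximalIdeal R
      have : ψR q = 0 := Subtype.ext hq
      rw [this]
      exact Ideal.zero_mem _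
    · have h1 := hXp i₁
      rw [← heq, RingHom.mem_ker, hψX] at h1
      exact hc0 _ (inv_eq_zero.1 h1)
  have : IsNoetherianRing Γ(S, V) := IsLocallyNoetherian.component_noetherian ⟨V, hV⟩
  obtain ⟨T, hT⟩ := exists_finset_generating g w hV hgw α (hα.trans hζ)
  have hgen : Subfield.closure (Set.range ψ ∪ (T : Set (W.residueField w))) = ⊤ := by
    apply hT
    · intro a
      exact Subfield.subset_closure (Or.inl ⟨MvPolynomial.C a, hψC a⟩)
    · intro z hz
      exact Subfield.subset_closure (Or.inr hz)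
  obtain ⟨B, hBdvr, hB, hcomap⟩ :=
    Groth.Agent.H8.KA.exists_dvr_valuationSubring_of_lt ψ p hlt T hgen
  have hmemB : ∀ q, q ∈ p ↔ (⟨ψ q, hB q⟩ : B) ∈ maximalIdeal B := by
    intro q
    rw [← hcomap]
    rfl
  -- the morphism from `Spec B` to the base
  let αB : Γ(S, V) ⟶ CommRingCat.of B :=
    CommRingCat.ofHom (α.hom.codRestrict B.toSubring (fun a => by rw [← hψC]; exact hB _))
  have hαB : αB ≫ CommRingCat.ofHom B.subtype = α := rfl
  let yB : Spec (CommRingCat.of B) ⟶ S := Spec.map αB ≫ hV.fromSpec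
  have hyB : Spec.map (CommRingCat.ofHom B.subtype) ≫ yB = ζ ≫ f := by
    rw [← Category.assoc, ← Spec.map_comp, hαB, hα]
  obtain ⟨l, hl1, hl2⟩ := hDVR B hBdvr yB hyB
  have hfx₁ : f (l (closedPoint B)) ∈ V := by
    rw [← Scheme.Hom.comp_apply, hl1]
    exact hmemV _ _ _
  obtain ⟨U, hUs, hxU⟩ := hcover _ hfx₁
  obtain ⟨hx₀U, hmemU⟩ := mem_of_lift ζ B l hl2 U.2 hxU
  let i : ι := ⟨⟨U, hUs⟩, hx₀U⟩
  have hcB : c i ∈ B := hmemU (b i)
  have hdB := (hmemB _).1 (hXp i)
  rw [mem_maximalIdeal, mem_nonunits_iff] at hdB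
  apply hdB
  refine IsUnit.of_mul_eq_one (⟨c i, hcB⟩ : B) ?_
  apply Subtype.ext
  change ψ (MvPolynomial.X i) * c i = 1
  rw [hψX]
  exact inv_mul_cancel₀ (hc0 _)

end Groth.Agent.H2.DVRGen
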