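import Mathlib
import Groth.Agent.Lib.Helper2.DVRGen2
import Groth.Agent.Lib.Helper6.VC3

/-!
# Properness from discrete valuation rings whose generic point factors through a dense subscheme
-/

set_option autoImplicit false

universe u

open AlgebraicGeometry CategoryTheory CategoryTheory.Limits IsLocalRing

namespace Groth.Agent.H2.DVRGen

/-- the hypothesis on abstract discrete valuation rings gives the hypothesis on valuation
subrings of the residue field of a point of `U` -/
theorem exists_lift_valuationSubring {X S U : Scheme.{u}} (f : X ⟶ S) (h : U ⟶ X)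
    (H : ∀ (A : Type u) [CommRing A] [IsDomain A] [IsDiscreteValuationRing A]
      (u : Spec (CommRingCat.of (FractionRing A)) ⟶ U) (y : Spec (CommRingCat.of A) ⟶ S),
      u ≫ h ≫ f = Spec.map (CommRingCat.ofHom (algebraMap A (FractionRing A))) ≫ y →
        ∃ l : Spec (CommRingCat.of A) ⟶ X, l ≫ f = y ∧
          Spec.map (CommRingCat.ofHom (algebraMap A (FractionRing A))) ≫ l = u ≫ h)
    (u : U) (A : ValuationSubring (U.residueField u)) (hA : IsDiscreteValuationRing A)
    (y : Spec (CommRingCat.of A) ⟶ S)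
    (hy : Spec.map (CommRingCat.ofHom A.subtype) ≫ y = (U.fromSpecResidueField u ≫ h) ≫ f) :
    ∃ l : Spec (CommRingCat.of A) ⟶ X, l ≫ f = y ∧
      Spec.map (CommRingCat.ofHom A.subtype) ≫ l = U.fromSpecResidueField u ≫ h := by
  let e : FractionRing A ≃ₐ[A] (U.residueField u) := FractionRing.algEquiv A (U.residueField u)
  let ε : CommRingCat.of (U.residueField u) ⟶ CommRingCat.of (FractionRing A) :=
    CommRingCat.ofHom e.symm.toRingEquiv.toRingHom
  let ε' : CommRingCat.of (FractionRing A) ⟶ CommRingCat.of (U.residueField u) :=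
    CommRingCat.ofHom e.toRingEquiv.toRingHom
  have h1 : CommRingCat.ofHom A.subtype ≫ ε =
      CommRingCat.ofHom (algebraMap A (FractionRing A)) := by
    ext a
    exact e.symm.commutes a
  have h2 : CommRingCat.ofHom (algebraMap A (FractionRing A)) ≫ ε' =
      CommRingCat.ofHom A.subtype := by
    ext a
    exact e.commutes a
  have h3 : ε ≫ ε' = 𝟙 _ := by
    ext a
    exact e.apply_symm_apply a
  let u' : Spec (CommRingCat.of (FractionRing A)) ⟶ U := Spec.map ε ≫ U.fromSpecResidueField u
  have hu' : u' ≫ h ≫ f = Spec.map (CommRingCat.ofHom (algebraMap A (FractionRing A))) ≫ y := by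
    have : u' ≫ h ≫ f = Spec.map ε ≫ (U.fromSpecResidueField u ≫ h) ≫ f := by
      simp only [u', Category.assoc]
    rw [this, ← hy, ← Category.assoc, ← Spec.map_comp, h1]
  obtain ⟨l, hl1, hl2⟩ := H A u' y hu'
  refine ⟨l, hl1, ?_⟩
  have h4 : Spec.map ε' ≫ Spec.map (CommRingCat.ofHom (algebraMap A (FractionRing A))) ≫ l =
      Spec.map ε' ≫ u' ≫ h := by rw [hl2]
  rw [← Category.assoc, ← Spec.map_comp, h2] at h4
  rw [h4]
  simp only [u']
  rw [← Category.assoc, ← Category.assoc, ← Spec.map_comp, h3, Spec.map_id, Category.id_comp]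

theorem isProper_of_dense_dvr {X S U : Scheme.{u}} [IsLocallyNoetherian S] (f : X ⟶ S)
    [IsSeparated f] [LocallyOfFiniteType f] [QuasiCompact f] (h : U ⟶ X)
    [LocallyOfFiniteType h] [QuasiCompact h] (hd : DenseRange h.base)
    (H : ∀ (A : Type u) [CommRing A] [IsDomain A] [IsDiscreteValuationRing A]
      (u : Spec (CommRingCat.of (FractionRing A)) ⟶ U) (y : Spec (CommRingCat.of A) ⟶ S),
      u ≫ h ≫ f = Spec.map (CommRingCat.ofHom (algebraMap A (FractionRing A))) ≫ y →
        ∃ l : Spec (CommRingCat.of A) ⟶ X, l ≫ f = y ∧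
          Spec.map (CommRingCat.ofHom (algebraMap A (FractionRing A))) ≫ l = u ≫ h) :
    IsProper f := by
  have P : ∀ (y : X) (A : ValuationSubring (X.residueField y))
      (i₂ : Spec (CommRingCat.of A) ⟶ S),
      Spec.map (CommRingCat.ofHom A.subtype) ≫ i₂ = X.fromSpecResidueField y ≫ f →
      ∃ l : Spec (CommRingCat.of A) ⟶ X,
        Spec.map (CommRingCat.ofHom A.subtype) ≫ l = X.fromSpecResidueField y ∧ l ≫ f = i₂ := by
    intro y A i₂ hi
    refine Groth.Agent.H6.VC.keyP h f hd ?_ y A i₂ hi
    intro z R φ hφ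
    have hφ' : Spec.map (CommRingCat.ofHom R.subtype) ≫ φ =
        (U.fromSpecResidueField z ≫ h) ≫ f := by rw [hφ, Category.assoc]
    obtain ⟨l, hl1, hl2⟩ := exists_lift_of_dvr f (h ≫ f) z (U.fromSpecResidueField z ≫ h)
      (Category.assoc _ _ _)
      (fun A hA y hy => exists_lift_valuationSubring f h H z A hA y hy) R φ hφ'
    refine ⟨l, ⟨hl2, hl1⟩, fun l' hl' => ?_⟩
    have w : (U.fromSpecResidueField z ≫ h) ≫ f =
        Spec.map (CommRingCat.ofHom (algebraMap R (U.residueField z))) ≫ φ := hφ'.symm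
    let Sq : ValuativeCommSq f :=
      { R := R, K := U.residueField z, i₁ := U.fromSpecResidueField z ≫ h, i₂ := φ,
        commSq := ⟨w⟩ }
    have hsub : Subsingleton Sq.commSq.LiftStruct := IsSeparated.valuativeCriterion f Sq
    have := Subsingleton.elim (⟨l', hl'.1, hl'.2⟩ : Sq.commSq.LiftStruct) ⟨l, hl2, hl1⟩
    exact congrArg CommSq.LiftStruct.l this
  have : UniversallyClosed f :=
    UniversallyClosed.of_valuativeCriterion f (Groth.Agent.H6.VC.existence_of_key f P)
  exact { }

end Groth.Agent.H2.DVRGen
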