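import Mathlib.AlgebraicGeometry.Morphisms.QuasiCompact
import Mathlib.AlgebraicGeometry.Morphisms.UniversallyOpen
import Mathlib.RingTheory.Ideal.MinimalPrime.Localization

/-! The closure of the image of a closed set under a quasi-compact morphism consists of
specializations of points of the image. -/

universe u

namespace Groth.Agent.H2

open AlgebraicGeometry CategoryTheory TopologicalSpace

theorem _root_.PrimeSpectrum.exists_specializes_of_mem_closure_image_comap {R S : Type*}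
    [CommRing R] [CommRing S] (φ : R →+* S) (I : Ideal S) (x : PrimeSpectrum R)
    (hx : x ∈ closure (PrimeSpectrum.comap φ '' PrimeSpectrum.zeroLocus I)) :
    ∃ q ∈ PrimeSpectrum.zeroLocus (I : Set S), PrimeSpectrum.comap φ q ⤳ x := by
  rw [PrimeSpectrum.closure_image_comap_zeroLocus] at hx
  replace hx : I.comap φ ≤ x.asIdeal := hx
  obtain ⟨q, hq₁, hq₂⟩ := Ideal.exists_minimalPrimes_le hx
  obtain ⟨p', hp', hp'', rfl⟩ := Ideal.exists_comap_eq_of_mem_minimalPrimes φ _ hq₁
  exact ⟨⟨p', hp'⟩, hp'', (PrimeSpectrum.le_iff_specializes (PrimeSpectrum.comap φ ⟨p', hp'⟩) x).mp hq₂⟩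

theorem exists_specializes_of_mem_closure_image {X Y : Scheme.{u}} (f : X ⟶ Y) [QuasiCompact f]
    {T : Set X} (hT : IsClosed T) {y : Y} (hy : y ∈ closure (f '' T)) :
    ∃ x ∈ T, f x ⤳ y := by
  obtain ⟨_, ⟨V, hV, rfl⟩, hyV, -⟩ :=
    Y.isBasis_affineOpens.exists_subset_of_mem_open (Set.mem_univ y) isOpen_univ
  have hc : IsCompact (f ⁻¹ᵁ V : Set X) := f.isCompact_preimage hV.isCompact
  obtain ⟨S, g, hg⟩ := isCompact_iff_exists.mp hc
  have hrange : Set.range (g ≫ f) ⊆ Set.range hV.fromSpec := by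
    rw [hV.range_fromSpec]
    rintro _ ⟨s, rfl⟩
    have : g s ∈ (f ⁻¹ᵁ V : Set X) := hg ▸ Set.mem_range_self s
    simpa using this
  let l : Spec S ⟶ Spec Γ(Y, V) := IsOpenImmersion.lift hV.fromSpec (g ≫ f) hrange
  have hl : l ≫ hV.fromSpec = g ≫ f := IsOpenImmersion.lift_fac _ _ _
  obtain ⟨φ, hφ⟩ := Spec.map_surjective l
  set 𝔭 : PrimeSpectrum Γ(Y, V) := hV.primeIdealOf ⟨y, hyV⟩ with h𝔭
  have h𝔭y : hV.fromSpec 𝔭 = y := hV.fromSpec_primeIdealOf ⟨y, hyV⟩
  have hinjV : Function.Injective hV.fromSpec := hV.fromSpec.isOpenEmbedding.injective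
  have hTg : IsClosed (g ⁻¹' T) := hT.preimage g.continuous
  obtain ⟨I, hI⟩ := (PrimeSpectrum.isClosed_iff_zeroLocus_ideal _).mp hTg
  have hmem : 𝔭 ∈ closure (PrimeSpectrum.comap φ.hom '' PrimeSpectrum.zeroLocus (I : Set S)) := by
    rw [mem_closure_iff]
    intro O hO h𝔭O
    have hO' : IsOpen (hV.fromSpec '' O) := hV.fromSpec.isOpenEmbedding.isOpenMap _ hO
    obtain ⟨_, ⟨o, hoO, hox⟩, ⟨x, hxT, rfl⟩⟩ :=
      mem_closure_iff.mp hy _ hO' ⟨𝔭, h𝔭O, h𝔭y⟩
    have hxW : x ∈ (f ⁻¹ᵁ V : Set X) := by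
      have : hV.fromSpec o ∈ Set.range hV.fromSpec := Set.mem_range_self o
      rw [hV.range_fromSpec, hox] at this
      exact this
    rw [← hg] at hxW
    obtain ⟨s, rfl⟩ := hxW
    have hs : hV.fromSpec (l s) = f (g s) := by
      rw [← Scheme.Hom.comp_apply, hl, Scheme.Hom.comp_apply]
    have hls : l s = o := hinjV (hs.trans hox.symm)
    refine ⟨l s, hls ▸ hoO, ?_⟩
    refine ⟨s, ?_, ?_⟩
    · rw [← hI]; exact hxT
    · rw [← hφ]; rfl
  obtain ⟨q, hq, hsp⟩ := PrimeSpectrum.exists_specializes_of_mem_closure_image_comap φ.hom I 𝔭 hmem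
  refine ⟨g q, ?_, ?_⟩
  · rw [← hI] at hq; exact hq
  · have h2 : hV.fromSpec (PrimeSpectrum.comap φ.hom q) ⤳ hV.fromSpec 𝔭 :=
      hsp.map hV.fromSpec.continuous
    rw [h𝔭y] at h2
    have h3 : hV.fromSpec (PrimeSpectrum.comap φ.hom q) = f (g q) := by
      have : PrimeSpectrum.comap φ.hom q = l q := by rw [← hφ]; rfl
      rw [this, ← Scheme.Hom.comp_apply, hl, Scheme.Hom.comp_apply]
    rwa [h3] at h2

/-- For a quasi-compact morphism, the closure of the image of a closed set is the set of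
specializations of points of the image. -/
theorem closure_image_eq_of_quasiCompact {X Y : Scheme.{u}} (f : X ⟶ Y) [QuasiCompact f]
    {T : Set X} (hT : IsClosed T) :
    closure (f '' T) = {y | ∃ x ∈ T, f x ⤳ y} := by
  ext y
  constructor
  · exact exists_specializes_of_mem_closure_image f hT
  · rintro ⟨x, hxT, hsp⟩
    exact hsp.mem_closed isClosed_closure (subset_closure ⟨x, hxT, rfl⟩)

/-- If `f` is generalizing (e.g. flat) and `E` is the image of a closed set under a quasi-compact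
morphism then `f ⁻¹' closure E = closure (f ⁻¹' E)`. -/
theorem preimage_closure_image_eq {X Y Y' : Scheme.{u}} (f : X ⟶ Y) (hf : GeneralizingMap f)
    (g : Y' ⟶ Y) [QuasiCompact g] {T : Set Y'} (hT : IsClosed T) :
    f ⁻¹' closure (g '' T) = closure (f ⁻¹' (g '' T)) := by
  apply subset_antisymm
  · intro x hx
    obtain ⟨t, htT, hsp⟩ := exists_specializes_of_mem_closure_image g hT hx
    obtain ⟨x', hx', hfx'⟩ := hf hsp
    exact hx'.mem_closed isClosed_closure (subset_closure ⟨t, htT, hfx'.symm⟩)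
  · exact (isClosed_closure.preimage f.continuous).closure_subset_iff.mpr
      (Set.preimage_mono subset_closure)

end Groth.Agent.H2
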