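import Groth.Agent.Lib.Helper2.IrredComp
import Groth.Agent.Lib.Helper2.ReducedNhd
import Mathlib.AlgebraicGeometry.FunctionField

/-! Integral neighbourhoods on locally Noetherian schemes (EGA I 6.1.13). -/

universe u

namespace Groth.Agent.H2

open AlgebraicGeometry CategoryTheory TopologicalSpace

theorem isIntegral_opens_of_isIrreducible_of_isReduced {X : Scheme.{u}} (U : X.Opens)
    (hirr : IsIrreducible (U : Set X)) [IsReduced (U : Scheme.{u})] :
    IsIntegral (U : Scheme.{u}) := by
  have : IrreducibleSpace (U : Scheme.{u}) := Subtype.irreducibleSpace hirr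
  exact (isIntegral_iff_irreducibleSpace_and_isReduced _).mpr ⟨this, inferInstance⟩

theorem exists_integral_nhd_of_isDomain_stalk (X : Scheme.{u}) [IsLocallyNoetherian X] (x : X)
    [IsDomain (X.presheaf.stalk x)] : ∃ U : X.Opens, x ∈ U ∧ IsIntegral (U : Scheme.{u}) := by
  have hprime : (nilradical (X.presheaf.stalk x)).IsPrime := by
    rw [nilradical_eq_zero, Ideal.zero_eq_bot]
    exact Ideal.isPrime_bot
  obtain ⟨U₁, hx₁, hirr⟩ := exists_irreducible_nhd_of_isPrime_nilradical_stalk X x hprime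
  obtain ⟨U₂, hx₂, hred⟩ := exists_reduced_nhd_of_isReduced_stalk X x
  refine ⟨U₁ ⊓ U₂, ⟨hx₁, hx₂⟩, ?_⟩
  have hirr' : IsIrreducible ((U₁ ⊓ U₂ : X.Opens) : Set X) :=
    ⟨⟨x, hx₁, hx₂⟩, hirr.2.open_subset (U₁ ⊓ U₂).2 Set.inter_subset_left⟩
  have : IsReduced ((U₁ ⊓ U₂ : X.Opens) : Scheme.{u}) :=
    isReduced_of_isOpenImmersion (X.homOfLE (inf_le_right : U₁ ⊓ U₂ ≤ U₂))
  exact isIntegral_opens_of_isIrreducible_of_isReduced _ hirr'

end Groth.Agent.H2

namespace Groth.Agent.H2

open AlgebraicGeometry CategoryTheory TopologicalSpace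

/-- EGA I 6.1.10: irreducibility of a locally Noetherian scheme. -/
theorem irreducibleSpace_iff_connectedSpace_and_nilradical_stalk (X : Scheme.{u})
    [IsLocallyNoetherian X] :
    IrreducibleSpace X ↔
      ConnectedSpace X ∧ ∀ x : X, (nilradical (X.presheaf.stalk x)).IsPrime := by
  constructor
  · intro h
    refine ⟨inferInstance, fun x => ?_⟩
    rw [isPrime_nilradical_stalk_iff, irreducibleComponents_eq_singleton]
    exact ⟨Set.univ, ⟨rfl, Set.mem_univ x⟩, fun Z hZ => hZ.1⟩
  · rintro ⟨hconn, hprime⟩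
    obtain ⟨x₀⟩ := hconn.toNonempty
    set Z₀ := irreducibleComponent x₀ with hZ₀
    have hZ₀mem : Z₀ ∈ irreducibleComponents (X : Type u) :=
      irreducibleComponent_mem_irreducibleComponents x₀
    have hopen : IsOpen Z₀ := by
      rw [isOpen_iff_mem_nhds]
      intro x hx
      obtain ⟨V, _, hxV, hVN⟩ := exists_affineOpen_noetherianSpace X x
      have huniq := (isPrime_nilradical_stalk_iff X x).mp (hprime x)
      obtain ⟨U, hUo, hxU, -, hUirr⟩ := exists_isOpen_isIrreducible_of_existsUnique x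
        (V : Set X) V.2 hxV huniq
      obtain ⟨Z, hZ, hUZ⟩ := exists_mem_irreducibleComponents_subset_of_isIrreducible U hUirr
      obtain ⟨Z', _, hu⟩ := huniq
      have : Z = Z₀ := (hu Z ⟨hZ, hUZ hxU⟩).trans (hu Z₀ ⟨hZ₀mem, hx⟩).symm
      exact Filter.mem_of_superset (hUo.mem_nhds hxU) (this ▸ hUZ)
    have hclopen : IsClopen Z₀ := ⟨isClosed_irreducibleComponent, hopen⟩
    have huniv : Z₀ = Set.univ := hclopen.eq_univ ⟨x₀, mem_irreducibleComponent⟩
    have : IsIrreducible (Set.univ : Set X) := huniv ▸ isIrreducible_irreducibleComponent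
    exact (irreducibleSpace_def _).mpr this

theorem isIntegral_iff_connectedSpace_and_isDomain_stalk (X : Scheme.{u})
    [IsLocallyNoetherian X] :
    IsIntegral X ↔ ConnectedSpace X ∧ ∀ x : X, IsDomain (X.presheaf.stalk x) := by
  constructor
  · intro h
    exact ⟨inferInstance, fun x => inferInstance⟩
  · rintro ⟨hconn, hdom⟩
    have hirr : IrreducibleSpace X := by
      rw [irreducibleSpace_iff_connectedSpace_and_nilradical_stalk]
      refine ⟨hconn, fun x => ?_⟩
      have := hdom x
      rw [nilradical_eq_zero, Ideal.zero_eq_bot]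
      exact Ideal.isPrime_bot
    have : ∀ x : X, _root_.IsReduced (X.presheaf.stalk x) := fun x => by
      have := hdom x
      infer_instance
    have hred : IsReduced X := isReduced_of_isReduced_stalk X
    exact (isIntegral_iff_irreducibleSpace_and_isReduced _).mpr ⟨hirr, hred⟩

end Groth.Agent.H2
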