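import Mathlib
import Groth.Agent.Lib.Helper2.TorBalMod

/-! Free resolutions given by matrices: the associated projective resolution, and `Tor` against
`R ⧸ 𝔪` for a resolution whose matrices have all entries in `𝔪`. -/

universe u

namespace Groth.Agent.H2

open CategoryTheory CategoryTheory.Limits MonoidalCategory

/-- A free resolution `… → R^{rk 1} → R^{rk 0} → M → 0` in matrix form. -/
structure MatRes (R : Type u) [CommRing R] (M : Type u) [AddCommGroup M] [Module R M] where
  /-- ranks -/
  rk : ℕ → ℕ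
  /-- matrices of the differentials -/
  d : (i : ℕ) → Matrix (Fin (rk i)) (Fin (rk (i + 1))) R
  /-- images of the basis vectors of the zeroth term -/
  aug : Fin (rk 0) → M
  aug_surjective : Function.Surjective (Fintype.linearCombination R aug)
  exact_zero : LinearMap.ker (Fintype.linearCombination R aug) =
    LinearMap.range (Matrix.mulVecLin (d 0))
  exact_succ : ∀ i : ℕ,
    LinearMap.ker (Matrix.mulVecLin (d i)) = LinearMap.range (Matrix.mulVecLin (d (i + 1)))

namespace MatRes

variable {R : Type u} [CommRing R] {M : Type u} [AddCommGroup M] [Module R M] (F : MatRes R M)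

/-- The terms. -/
abbrev X (i : ℕ) : ModuleCat.{u} R := ModuleCat.of R (Fin (F.rk i) → R)

/-- The differentials. -/
noncomputable abbrev dHom (i : ℕ) : F.X (i + 1) ⟶ F.X i :=
  ModuleCat.ofHom (Matrix.mulVecLin (F.d i))

/-- The augmentation. -/
noncomputable abbrev augHom : F.X 0 ⟶ ModuleCat.of R M :=
  ModuleCat.ofHom (Fintype.linearCombination R F.aug)

lemma dHom_comp_dHom (i : ℕ) : F.dHom (i + 1) ≫ F.dHom i = 0 := by
  apply ModuleCat.hom_ext
  apply LinearMap.ext
  intro v
  have h : Matrix.mulVecLin (F.d (i + 1)) v ∈ LinearMap.ker (Matrix.mulVecLin (F.d i)) := by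
    rw [F.exact_succ i]
    exact ⟨v, rfl⟩
  exact h

lemma dHom_comp_augHom : F.dHom 0 ≫ F.augHom = 0 := by
  apply ModuleCat.hom_ext
  apply LinearMap.ext
  intro v
  have h : Matrix.mulVecLin (F.d 0) v ∈ LinearMap.ker (Fintype.linearCombination R F.aug) := by
    rw [F.exact_zero]
    exact ⟨v, rfl⟩
  exact h

/-- The complex of free modules. -/
noncomputable def complex : ChainComplex (ModuleCat.{u} R) ℕ :=
  ChainComplex.of F.X F.dHom F.dHom_comp_dHom

lemma complex_X (i : ℕ) : F.complex.X i = F.X i := rfl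

lemma complex_d (i : ℕ) : F.complex.d (i + 1) i = F.dHom i := ChainComplex.of_d _ _ _

lemma complex_exactAt_succ (n : ℕ) : F.complex.ExactAt (n + 1) := by
  rw [HomologicalComplex.exactAt_iff' _ (n + 1 + 1) (n + 1) n (by simp) (by simp)]
  rw [ShortComplex.ShortExact.moduleCat_exact_iff_function_exact]
  intro v
  show (F.complex.d (n + 1) n).hom v = 0 ↔ v ∈ Set.range (F.complex.d (n + 1 + 1) (n + 1)).hom
  rw [complex_d, complex_d]
  have h := F.exact_succ n
  constructor
  · intro hv
    have : v ∈ LinearMap.ker (Matrix.mulVecLin (F.d n)) := hv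
    rw [h] at this
    exact this
  · intro hv
    have : v ∈ LinearMap.range (Matrix.mulVecLin (F.d (n + 1))) := hv
    rw [← h] at this
    exact this

lemma complex_d_comp_augHom : F.complex.d 1 0 ≫ F.augHom = 0 := by
  rw [complex_d]
  exact F.dHom_comp_augHom

/-- The augmentation as a morphism of complexes. -/
noncomputable def π : F.complex ⟶ (ChainComplex.single₀ (ModuleCat.{u} R)).obj (ModuleCat.of R M) :=
  (ChainComplex.toSingle₀Equiv _ _).symm ⟨F.augHom, F.complex_d_comp_augHom⟩

@[simp]
lemma π_f_zero : F.π.f 0 = F.augHom := by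
  simp [π]

lemma exact_zero' : (ShortComplex.mk (F.complex.d 1 0) F.augHom F.complex_d_comp_augHom).Exact := by
  rw [ShortComplex.ShortExact.moduleCat_exact_iff_function_exact]
  intro v
  show (Fintype.linearCombination R F.aug) v = 0 ↔ v ∈ Set.range (F.complex.d 1 0).hom
  constructor
  · intro hv
    have h1 : v ∈ LinearMap.range (Matrix.mulVecLin (F.d 0)) := by
      rw [← F.exact_zero]
      exact hv
    obtain ⟨w, hw⟩ := h1
    refine ⟨w, ?_⟩
    rw [complex_d]
    exact hw
  · rintro ⟨w, rfl⟩
    exact LinearMap.congr_fun (congrArg ModuleCat.Hom.hom F.complex_d_comp_augHom) w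

instance : Epi F.augHom := (ModuleCat.epi_iff_surjective _).2 F.aug_surjective

/-- The projective resolution attached to a matrix resolution. -/
noncomputable def projRes : ProjectiveResolution (ModuleCat.of R M) where
  complex := F.complex
  projective n := by
    show Projective (F.X n)
    infer_instance
  π := F.π
  quasiIso := ⟨fun n => by
    cases n with
    | zero =>
      rw [ChainComplex.quasiIsoAt₀_iff, ShortComplex.quasiIso_iff_of_zeros']
      · refine (ShortComplex.exact_and_epi_g_iff_of_iso ?_).2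
          ⟨F.exact_zero', inferInstanceAs (Epi F.augHom)⟩
        exact ShortComplex.isoMk (Iso.refl _) (Iso.refl _) (Iso.refl _)
          ((Category.id_comp _).trans (Category.comp_id _).symm)
          (by
            have h : ((HomologicalComplex.shortComplexFunctor' (ModuleCat.{u} R)
                (ComplexShape.down ℕ) 1 0 0).map F.π).τ₂ = F.augHom := F.π_f_zero
            dsimp only [Iso.refl_hom]
            erw [Category.id_comp])
      · exact F.complex.shape _ _ (by simp)
      · rfl
      · rfl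
    | succ n =>
      rw [quasiIsoAt_iff_exactAt']
      · exact F.complex_exactAt_succ n
      · apply ChainComplex.exactAt_succ_single_obj⟩

section Minimal

open Groth.Agent.H2.TorBal

/-- Homology of a complex with zero differentials. -/
noncomputable def homologyIsoOfZero (L : ChainComplex (ModuleCat.{u} R) ℕ)
    (hL : ∀ j k, L.d j k = 0) (i : ℕ) : L.homology i ≅ L.X i :=
  (ShortComplex.LeftHomologyData.ofZeros (L.sc i) (hL _ _) (hL _ _)).homologyIso

variable (𝔪 : Ideal R) (hmin : ∀ i a b, F.d i a b ∈ 𝔪)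

include hmin

lemma lTensor_mulVecLin_eq_zero (i : ℕ) :
    LinearMap.lTensor (R ⧸ 𝔪) (Matrix.mulVecLin (F.d i)) = 0 := by
  classical
  apply TensorProduct.ext'
  intro x v
  obtain ⟨y, rfl⟩ := Ideal.Quotient.mk_surjective x
  rw [LinearMap.lTensor_tmul, LinearMap.zero_apply]
  have hv : Matrix.mulVecLin (F.d i) v =
      ∑ a, (∑ b, F.d i a b * v b) • (Pi.single a (1 : R) : Fin (F.rk i) → R) := by
    ext a
    simp [Matrix.mulVec, dotProduct, Finset.sum_apply, Pi.single_apply]
  rw [hv, TensorProduct.tmul_sum]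
  refine Finset.sum_eq_zero (fun a _ => ?_)
  rw [TensorProduct.tmul_smul, TensorProduct.smul_tmul']
  have h0 : (∑ b, F.d i a b * v b) • (Ideal.Quotient.mk 𝔪 y) = 0 := by
    rw [Algebra.smul_def, Ideal.Quotient.algebraMap_eq, ← map_mul, Ideal.Quotient.eq_zero_iff_mem]
    exact Ideal.mul_mem_right _ _ (Ideal.sum_mem _ (fun b _ => Ideal.mul_mem_right _ _ (hmin i a b)))
  rw [h0, TensorProduct.zero_tmul]

lemma tensorCx_d_eq_zero (j k : ℕ) :
    ((tensorCx F.complex).obj (ModuleCat.of R (R ⧸ 𝔪))).d j k = 0 := by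
  rw [tensorCx_obj_d]
  by_cases hjk : k + 1 = j
  · subst hjk
    rw [complex_d]
    apply ModuleCat.hom_ext
    exact F.lTensor_mulVecLin_eq_zero 𝔪 hmin k
  · rw [F.complex.shape j k hjk]
    exact MonoidalPreadditive.whiskerLeft_zero

/-- `Tor_i(R ⧸ 𝔪, M)` for a resolution minimal with respect to `𝔪`. -/
noncomputable def torIso (i : ℕ) :
    ((Tor (ModuleCat.{u} R) i).obj (ModuleCat.of R (R ⧸ 𝔪))).obj (ModuleCat.of R M) ≅
      ModuleCat.of R (Fin (F.rk i) → R ⧸ 𝔪) :=
  torIsoTensorCx (ModuleCat.of R (R ⧸ 𝔪)) F.projRes i ≪≫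
    homologyIsoOfZero _ (F.tensorCx_d_eq_zero 𝔪 hmin) i ≪≫
    (TensorProduct.piScalarRight R R (R ⧸ 𝔪) (Fin (F.rk i))).toModuleIso

/-- The length of `Tor_i(R ⧸ 𝔪, M)` is the `i`-th rank of a minimal resolution, for `𝔪` maximal. -/
theorem length_tor [𝔪.IsMaximal] (i : ℕ) :
    Module.length R (((Tor (ModuleCat.{u} R) i).obj (ModuleCat.of R (R ⧸ 𝔪))).obj
      (ModuleCat.of R M)) = (F.rk i : ℕ∞) := by
  rw [(F.torIso 𝔪 hmin i).toLinearEquiv.length_eq]
  have hs : IsSimpleModule R (R ⧸ 𝔪) := by
    rw [isSimpleModule_iff_isCoatom, ← Ideal.isMaximal_def]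
    infer_instance
  show Module.length R (Fin (F.rk i) → R ⧸ 𝔪) = _
  rw [Module.length_pi, Module.length_eq_one_iff.2 hs, mul_one]
  simp

end Minimal

end MatRes

end Groth.Agent.H2
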