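import Mathlib
import Groth.Prelude.Def_FSch3

/-!
# The completed localizations `A_{f}` modulo powers of the ideal of definition (helper2)
-/

set_option autoImplicit false
universe u

namespace Groth.Agent.H2.CAway

open AdicCompletion in
/-- The kernel of the evaluation `R^ → R ⧸ I^n` is the `n`-th power of the extension of `I`,
when `I` is finitely generated. -/
theorem ker_evalₐ_eq_map {R : Type*} [CommRing R] (I : Ideal R) (fg : I.FG) (n : ℕ) :
    RingHom.ker (AdicCompletion.evalₐ I n).toRingHom =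
      (I.map (algebraMap R (AdicCompletion I R))) ^ n := by
  ext x
  trans x ∈ (AdicCompletion.eval I R n).ker
  · have eq : I ^ n • (⊤ : Ideal R) = I ^ n := by simp
    have : Function.Injective (Ideal.Quotient.factor ((le_of_eq eq))) := by
      simpa [RingHom.injective_iff_ker_eq_bot, Ideal.Quotient.factor_ker]
        using Ideal.map_mk_eq_bot_of_le (le_of_eq eq.symm)
    rw [RingHom.mem_ker, LinearMap.mem_ker]
    change (evalₐ I n) x = 0 ↔ _
    rw [← factor_eval_eq_evalₐ I x (le_of_eq eq)]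
    exact map_eq_zero_iff _ this
  · rw [← pow_smul_top_eq_ker_eval fg, ← Ideal.map_pow]
    simp

/-- `R^ ⧸ (I R^)^n ≃ R ⧸ I^n` for a finitely generated ideal `I`. -/
noncomputable def quotEquiv {R : Type*} [CommRing R] (I : Ideal R) (fg : I.FG) (n : ℕ) :
    (AdicCompletion I R ⧸ (I.map (algebraMap R (AdicCompletion I R))) ^ n) ≃+* R ⧸ I ^ n :=
  (Ideal.quotEquivOfEq (ker_evalₐ_eq_map I fg n).symm).trans
    (RingHom.quotientKerEquivOfSurjective
      (f := (AdicCompletion.evalₐ I n).toRingHom) (AdicCompletion.surjective_evalₐ I n))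

theorem quotEquiv_mk {R : Type*} [CommRing R] (I : Ideal R) (fg : I.FG) (n : ℕ) (r : R) :
    quotEquiv I fg n (Ideal.Quotient.mk _ (algebraMap R (AdicCompletion I R) r)) =
      Ideal.Quotient.mk _ r := by
  simp only [quotEquiv, RingEquiv.trans_apply, Ideal.quotEquivOfEq_mk,
    RingHom.quotientKerEquivOfSurjective_apply_mk]
  exact AdicCompletion.evalₐ_of I n r

theorem quotEquiv_symm_mk {R : Type*} [CommRing R] (I : Ideal R) (fg : I.FG) (n : ℕ) (r : R) :
    (quotEquiv I fg n).symm (Ideal.Quotient.mk _ r) =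
      Ideal.Quotient.mk _ (algebraMap R (AdicCompletion I R) r) := by
  rw [RingEquiv.symm_apply_eq, quotEquiv_mk]

end Groth.Agent.H2.CAway

namespace Groth.Agent.H2.CAway

theorem exists_equiv (A : Type u) [CommRing A] [IsNoetherianRing A] (J : Ideal A) (f : A) (n : ℕ) :
    ∃ e : Localization.Away (Ideal.Quotient.mk (J ^ (n + 1)) f) ≃+*
        FSch.cAway A J f ⧸ (J.map (algebraMap A (FSch.cAway A J f))) ^ (n + 1),
      ∀ a : A, e (algebraMap (A ⧸ J ^ (n + 1)) _ (Ideal.Quotient.mk (J ^ (n + 1)) a)) =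
        Ideal.Quotient.mk _ (algebraMap A (FSch.cAway A J f) a) := by
  have fg : (J.map (algebraMap A (Localization.Away f))).FG :=
    Ideal.FG.map (IsNoetherian.noetherian J) _
  have hI : (J ^ (n + 1)).map (algebraMap A (Localization.Away f)) =
      (J.map (algebraMap A (Localization.Away f))) ^ (n + 1) := Ideal.map_pow _ _ _
  have hJC : J.map (algebraMap A (FSch.cAway A J f)) =
      (J.map (algebraMap A (Localization.Away f))).map
        (algebraMap (Localization.Away f) (FSch.cAway A J f)) := by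
    rw [Ideal.map_map, ← IsScalarTower.algebraMap_eq]
  have : IsLocalization (Submonoid.powers (Ideal.Quotient.mk (J ^ (n + 1)) f))
      (Localization.Away f ⧸ (J ^ (n + 1)).map (algebraMap A (Localization.Away f))) := by
    have h := IsLocalization.instQuotientIdealAlgebraMapSubmonoidMapRingHomAlgebraMap
      (Submonoid.powers f) (Localization.Away f) (J ^ (n + 1))
    have hs : Algebra.algebraMapSubmonoid (A ⧸ J ^ (n + 1)) (Submonoid.powers f) =
        Submonoid.powers (Ideal.Quotient.mk (J ^ (n + 1)) f) := by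
      simp [Algebra.algebraMapSubmonoid, Submonoid.map_powers]
    rwa [hs] at h
  let e2 : Localization.Away (Ideal.Quotient.mk (J ^ (n + 1)) f) ≃ₐ[A ⧸ J ^ (n + 1)]
      (Localization.Away f ⧸ (J ^ (n + 1)).map (algebraMap A (Localization.Away f))) :=
    IsLocalization.algEquiv (Submonoid.powers (Ideal.Quotient.mk (J ^ (n + 1)) f)) _ _
  let e3 := Ideal.quotEquivOfEq hI
  let e4 := (quotEquiv (J.map (algebraMap A (Localization.Away f))) fg (n + 1)).symm
  let e5 : (FSch.cAway A J f ⧸ ((J.map (algebraMap A (Localization.Away f))).map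
        (algebraMap (Localization.Away f) (FSch.cAway A J f))) ^ (n + 1)) ≃+*
      (FSch.cAway A J f ⧸ (J.map (algebraMap A (FSch.cAway A J f))) ^ (n + 1)) :=
    Ideal.quotEquivOfEq (by rw [hJC])
  refine ⟨e2.toRingEquiv.trans (e3.trans (e4.trans e5)), fun a => ?_⟩
  have h1 : e2 (algebraMap (A ⧸ J ^ (n + 1)) _ (Ideal.Quotient.mk (J ^ (n + 1)) a)) =
      Ideal.Quotient.mk _ (algebraMap A (Localization.Away f) a) := by
    rw [AlgEquiv.commutes]
    rfl
  simp only [RingEquiv.trans_apply, AlgEquiv.coe_ringEquiv, h1]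
  simp only [e3, e4, e5, Ideal.quotEquivOfEq_mk, quotEquiv_symm_mk]
  rw [← IsScalarTower.algebraMap_apply]

end Groth.Agent.H2.CAway


namespace Groth.Agent.H2.CAway

theorem complMap_of {S T : Type u} [CommRing S] [CommRing T] (I : Ideal S) (K : Ideal T)
    (g : S →+* T) (h : I.map g ≤ K) (x : S) :
    FSch.complMap I K g h (AdicCompletion.of I S x) = AdicCompletion.of K T (g x) := by
  apply AdicCompletion.ext_evalₐ
  intro n
  have key : ∀ (f : ∀ n, AdicCompletion I S →+* T ⧸ K ^ n)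
      (hf : ∀ {m n : ℕ} (hle : m ≤ n), (Ideal.Quotient.factorPow K hle).comp (f n) = f m)
      (y : AdicCompletion I S),
      AdicCompletion.evalₐ K n (AdicCompletion.liftRingHom K f hf y) = f n y :=
    fun f hf y => AdicCompletion.evalₐ_liftRingHom K f (fun {m n} hle => hf hle) n y
  unfold FSch.complMap
  generalize_proofs
  rw [key]
  · simp
  · assumption

/-- Elements of the kernel of `R^ → R ⧸ I` are non-units when `I` is proper. -/
theorem not_isUnit_of_evalₐ_eq_zero {R : Type*} [CommRing R] (I : Ideal R) (hI : I ≠ ⊤)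
    (y : AdicCompletion I R) (hy : AdicCompletion.evalₐ I 1 y = 0) : ¬ IsUnit y := by
  intro hu
  have := hu.map (AdicCompletion.evalₐ I 1)
  rw [hy] at this
  have h0 : (0 : R ⧸ I ^ 1) = 1 := by
    simpa using (isUnit_zero_iff.mp this)
  apply hI
  rw [← pow_one I]
  rw [Ideal.eq_top_iff_one, ← Ideal.Quotient.eq_zero_iff_mem]
  exact h0.symm

end Groth.Agent.H2.CAway

namespace Groth.Agent.H2.CAway

variable (A : Type u) [CommRing A] (J : Ideal A) (𝔭 : Ideal A) [𝔭.IsPrime]

theorem of_mem_stalkSubring (r : Localization.AtPrime 𝔭) :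
    AdicCompletion.of (J.map (algebraMap A (Localization.AtPrime 𝔭))) _ r ∈
      FSch.stalkSubring A J 𝔭 := by
  obtain ⟨a, s, rfl⟩ := IsLocalization.exists_mk'_eq 𝔭.primeCompl r
  have hs : (s : A) ∉ 𝔭 := s.2
  have hmem : (FSch.cAwayToAtPrime A J 𝔭 s hs).range ≤ FSch.stalkSubring A J 𝔭 :=
    le_iSup (fun f : {f : A // f ∉ 𝔭} => (FSch.cAwayToAtPrime A J 𝔭 f.1 f.2).range) ⟨s, hs⟩
  apply hmem
  refine ⟨AdicCompletion.of _ _ (IsLocalization.mk' (Localization.Away (s : A)) a
    (⟨s, Submonoid.mem_powers _⟩ : Submonoid.powers (s : A))), ?_⟩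
  rw [FSch.cAwayToAtPrime, complMap_of]
  congr 1
  rw [IsLocalization.eq_mk'_iff_mul_eq]
  have h1 : IsLocalization.mk' (Localization.Away (s : A)) a
      (⟨s, Submonoid.mem_powers _⟩ : Submonoid.powers (s : A)) *
      algebraMap A (Localization.Away (s : A)) s = algebraMap A _ a :=
    IsLocalization.mk'_spec _ _ _
  have h2 := congrArg (FSch.awayToAtPrime A 𝔭 s hs) h1
  rw [map_mul] at h2
  have h3 : ∀ b : A, FSch.awayToAtPrime A 𝔭 s hs (algebraMap A _ b) =
      algebraMap A (Localization.AtPrime 𝔭) b := fun b => by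
    simp [FSch.awayToAtPrime]
  rwa [h3, h3] at h2

theorem residue_bijective (hJ : J ≤ 𝔭)
    [IsLocalRing (FSch.stalkSubring A J 𝔭)] [IsLocalRing (FSch.cAtPrime A J 𝔭)]
    [IsLocalHom (FSch.stalkSubring A J 𝔭).subtype]
    [IsLocalHom (algebraMap (Localization.AtPrime 𝔭) (FSch.cAtPrime A J 𝔭))] :
    Function.Bijective (IsLocalRing.ResidueField.map (FSch.stalkSubring A J 𝔭).subtype) ∧
      Function.Bijective
        (IsLocalRing.ResidueField.map
          (algebraMap (Localization.AtPrime 𝔭) (FSch.cAtPrime A J 𝔭))) := by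
  have hI : J.map (algebraMap A (Localization.AtPrime 𝔭)) ≠ ⊤ := by
    have hle : J.map (algebraMap A (Localization.AtPrime 𝔭)) ≤
        IsLocalRing.maximalIdeal (Localization.AtPrime 𝔭) := by
      rw [Ideal.map_le_iff_le_comap]
      have h := IsLocalization.AtPrime.under_maximalIdeal (Localization.AtPrime 𝔭) 𝔭
      rw [Ideal.under_def] at h
      rw [h]
      exact hJ
    intro h
    rw [h] at hle
    exact (IsLocalRing.maximalIdeal.isMaximal _).ne_top (top_le_iff.mp hle)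
  have key : ∀ x : FSch.cAtPrime A J 𝔭, ∃ r : Localization.AtPrime 𝔭,
      IsLocalRing.residue _ x = IsLocalRing.residue _
        (AdicCompletion.of (J.map (algebraMap A (Localization.AtPrime 𝔭))) _ r) := by
    intro x
    obtain ⟨r, hr⟩ := Ideal.Quotient.mk_surjective
      (AdicCompletion.evalₐ (J.map (algebraMap A (Localization.AtPrime 𝔭))) 1 x)
    refine ⟨r, ?_⟩
    rw [← sub_eq_zero, ← map_sub, IsLocalRing.residue_eq_zero_iff, IsLocalRing.mem_maximalIdeal,
      mem_nonunits_iff]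
    apply not_isUnit_of_evalₐ_eq_zero _ hI
    rw [map_sub, AdicCompletion.evalₐ_of, hr, sub_self]
  refine ⟨⟨RingHom.injective _, fun y => ?_⟩, ⟨RingHom.injective _, fun y => ?_⟩⟩
  · obtain ⟨x, rfl⟩ := IsLocalRing.residue_surjective y
    obtain ⟨r, hr⟩ := key x
    refine ⟨IsLocalRing.residue _ ⟨_, of_mem_stalkSubring A J 𝔭 r⟩, ?_⟩
    rw [IsLocalRing.ResidueField.map_residue, hr]
    rfl
  · obtain ⟨x, rfl⟩ := IsLocalRing.residue_surjective y
    obtain ⟨r, hr⟩ := key x
    refine ⟨IsLocalRing.residue _ r, ?_⟩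
    rw [IsLocalRing.ResidueField.map_residue, hr]
    rfl

end Groth.Agent.H2.CAway


namespace Groth.Agent.H2.CAway

theorem evalₐ_complMap {S T : Type u} [CommRing S] [CommRing T] (I : Ideal S) (K : Ideal T)
    (g : S →+* T) (h : I.map g ≤ K) (n : ℕ) (x : AdicCompletion I S) :
    AdicCompletion.evalₐ K n (FSch.complMap I K g h x) =
      Ideal.quotientMap (K ^ n) g (FSch.pow_le_comap_pow_of_map_le I K g h n)
        (AdicCompletion.evalₐ I n x) := by
  have key : ∀ (f : ∀ n, AdicCompletion I S →+* T ⧸ K ^ n)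
      (hf : ∀ {m n : ℕ} (hle : m ≤ n), (Ideal.Quotient.factorPow K hle).comp (f n) = f m)
      (y : AdicCompletion I S),
      AdicCompletion.evalₐ K n (AdicCompletion.liftRingHom K f hf y) = f n y :=
    fun f hf y => AdicCompletion.evalₐ_liftRingHom K f (fun {m n} hle => hf hle) n y
  unfold FSch.complMap
  generalize_proofs
  rw [key]
  · rfl
  · assumption

theorem complMap_comp {S T U : Type u} [CommRing S] [CommRing T] [CommRing U] (I : Ideal S)
    (K : Ideal T) (L : Ideal U) (g : S →+* T) (g' : T →+* U) (h : I.map g ≤ K)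
    (h' : K.map g' ≤ L) (h'' : I.map (g'.comp g) ≤ L) (x : AdicCompletion I S) :
    FSch.complMap K L g' h' (FSch.complMap I K g h x) = FSch.complMap I L (g'.comp g) h'' x := by
  apply AdicCompletion.ext_evalₐ
  intro n
  rw [evalₐ_complMap, evalₐ_complMap, evalₐ_complMap]
  obtain ⟨s, hs⟩ := Ideal.Quotient.mk_surjective (AdicCompletion.evalₐ I n x)
  rw [← hs]
  simp

end Groth.Agent.H2.CAway


namespace Groth.Agent.H2.CAway

theorem isUnit_of_isUnit_evalₐ_one {R : Type*} [CommRing R] (I : Ideal R)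
    (x : AdicCompletion I R) (h : IsUnit (AdicCompletion.evalₐ I 1 x)) : IsUnit x := by
  obtain ⟨a, rfl⟩ := AdicCompletion.mk_surjective I R x
  have hsub : ∀ {m n : ℕ}, m ≤ n → a m - a n ∈ I ^ m := by
    intro m n hmn
    have := a.2 hmn
    rw [SModEq.sub_mem] at this
    simpa using this
  have hu : ∀ n, IsUnit (Ideal.Quotient.mk (I ^ n) (a n)) := by
    intro n
    rcases Nat.eq_zero_or_pos n with rfl | hn
    · have : Subsingleton (R ⧸ I ^ 0) := by
        rw [pow_zero, Ideal.one_eq_top]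
        exact Ideal.Quotient.subsingleton_iff.mpr rfl
      exact isUnit_of_subsingleton _
    · rw [Ideal.Quotient.isUnit_mk_pow_iff_isUnit_mk I hn.ne']
      have h1 : Ideal.Quotient.mk I (a n) = Ideal.Quotient.mk I (a 1) := by
        rw [eq_comm, Ideal.Quotient.eq]
        have := hsub (Nat.succ_le_of_lt hn)
        rwa [pow_one] at this
      rw [h1]
      rw [AdicCompletion.evalₐ_mk] at h
      rwa [← Ideal.Quotient.isUnit_mk_pow_iff_isUnit_mk I one_ne_zero]
  have hex : ∀ n, ∃ b : R, a n * b - 1 ∈ I ^ n := by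
    intro n
    obtain ⟨c, hc⟩ := (hu n).exists_right_inv
    obtain ⟨b, rfl⟩ := Ideal.Quotient.mk_surjective c
    refine ⟨b, ?_⟩
    rw [← Ideal.Quotient.eq, map_mul, map_one, hc]
  choose b hb using hex
  have hcau : AdicCompletion.IsAdicCauchy I R b := by
    intro m n hmn
    rw [SModEq.sub_mem]
    have h1 : a n * b n - 1 ∈ I ^ m := Ideal.pow_le_pow_right hmn (hb n)
    have h2 := hb m
    have h3 := hsub hmn
    have : b m - b n = - b m * (a n * b n - 1) + b n * (-(a m - a n) * b m + (a m * b m - 1)) := by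
      ring
    simp only [smul_eq_mul, Ideal.mul_top]
    rw [this]
    exact Ideal.add_mem _ (Ideal.mul_mem_left _ _ h1)
      (Ideal.mul_mem_left _ _ (Ideal.add_mem _ (Ideal.mul_mem_right _ _ (Ideal.neg_mem_iff _ |>.mpr h3)) h2))
  refine IsUnit.of_mul_eq_one (AdicCompletion.mk I R ⟨b, hcau⟩) ?_
  apply AdicCompletion.ext_evalₐ
  intro n
  rw [map_mul, AdicCompletion.evalₐ_mk, AdicCompletion.evalₐ_mk, map_one, ← map_mul,
    ← map_one (Ideal.Quotient.mk (I ^ n)), Ideal.Quotient.eq]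
  exact hb n

end Groth.Agent.H2.CAway


namespace Groth.Agent.H2.CAway

variable (A : Type u) [CommRing A] (J : Ideal A)

theorem complMap_congr {S T : Type u} [CommRing S] [CommRing T] (I : Ideal S) (K : Ideal T)
    (g g' : S →+* T) (e : g = g') (h : I.map g ≤ K) (h' : I.map g' ≤ K) (x : AdicCompletion I S) :
    FSch.complMap I K g h x = FSch.complMap I K g' h' x := by
  subst e
  rfl

/-- The localization map `A_f → A_h` for `f ∣ h`. -/
noncomputable def awayDvd (f h : A) (hd : f ∣ h) : Localization.Away f →+* Localization.Away h :=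
  IsLocalization.Away.lift f (g := algebraMap A (Localization.Away h))
    (isUnit_of_dvd_unit (map_dvd _ hd) (IsLocalization.Away.algebraMap_isUnit h))

theorem awayDvd_algebraMap (f h : A) (hd : f ∣ h) (a : A) :
    awayDvd A f h hd (algebraMap A _ a) = algebraMap A _ a := by
  simp [awayDvd]

theorem map_awayDvd_le (f h : A) (hd : f ∣ h) :
    (J.map (algebraMap A (Localization.Away f))).map (awayDvd A f h hd) ≤
      J.map (algebraMap A (Localization.Away h)) := by
  rw [Ideal.map_map]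
  apply le_of_eq
  congr 1
  ext a
  simp [awayDvd]

/-- The map `A_{f} → A_{h}` for `f ∣ h`. -/
noncomputable def cAwayDvd (f h : A) (hd : f ∣ h) : FSch.cAway A J f →+* FSch.cAway A J h :=
  FSch.complMap _ _ (awayDvd A f h hd) (map_awayDvd_le A J f h hd)

variable (𝔭 : Ideal A) [𝔭.IsPrime]

theorem awayToAtPrime_algebraMap (f : A) (hf : f ∉ 𝔭) (a : A) :
    FSch.awayToAtPrime A 𝔭 f hf (algebraMap A _ a) = algebraMap A _ a := by
  simp [FSch.awayToAtPrime]

theorem awayToAtPrime_comp_awayDvd (f h : A) (hd : f ∣ h) (hf : f ∉ 𝔭) (hh : h ∉ 𝔭) :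
    (FSch.awayToAtPrime A 𝔭 h hh).comp (awayDvd A f h hd) = FSch.awayToAtPrime A 𝔭 f hf := by
  apply IsLocalization.ringHom_ext (Submonoid.powers f)
  ext a
  simp [awayToAtPrime_algebraMap, awayDvd_algebraMap]

theorem cAwayToAtPrime_cAwayDvd (f h : A) (hd : f ∣ h) (hf : f ∉ 𝔭) (hh : h ∉ 𝔭)
    (y : FSch.cAway A J f) :
    FSch.cAwayToAtPrime A J 𝔭 h hh (cAwayDvd A J f h hd y) = FSch.cAwayToAtPrime A J 𝔭 f hf y := by
  unfold FSch.cAwayToAtPrime cAwayDvd
  rw [complMap_comp _ _ _ _ _ _ _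
    (by rw [awayToAtPrime_comp_awayDvd A 𝔭 f h hd hf hh]; exact FSch.map_awayToAtPrime_le A J 𝔭 f hf)]
  exact complMap_congr _ _ _ _ (awayToAtPrime_comp_awayDvd A 𝔭 f h hd hf hh) _ _ y

theorem range_le_range_of_dvd (f h : A) (hd : f ∣ h) (hf : f ∉ 𝔭) (hh : h ∉ 𝔭) :
    (FSch.cAwayToAtPrime A J 𝔭 f hf).range ≤ (FSch.cAwayToAtPrime A J 𝔭 h hh).range := by
  rintro _ ⟨y, rfl⟩
  exact ⟨cAwayDvd A J f h hd y, cAwayToAtPrime_cAwayDvd A J 𝔭 f h hd hf hh y⟩

theorem mem_stalkSubring_iff (x : FSch.cAtPrime A J 𝔭) :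
    x ∈ FSch.stalkSubring A J 𝔭 ↔
      ∃ (f : A) (hf : f ∉ 𝔭), x ∈ (FSch.cAwayToAtPrime A J 𝔭 f hf).range := by
  have : Nonempty {f : A // f ∉ 𝔭} := ⟨⟨1, fun h => ‹𝔭.IsPrime›.ne_top ((Ideal.eq_top_iff_one _).mpr h)⟩⟩
  unfold FSch.stalkSubring
  rw [Subring.mem_iSup_of_directed]
  · constructor
    · rintro ⟨⟨f, hf⟩, hx⟩
      exact ⟨f, hf, hx⟩
    · rintro ⟨f, hf, hx⟩
      exact ⟨⟨f, hf⟩, hx⟩
  · rintro ⟨f, hf⟩ ⟨g, hg⟩
    have hfg : f * g ∉ 𝔭 := fun h => (‹𝔭.IsPrime›.mem_or_mem h).elim hf hg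
    exact ⟨⟨f * g, hfg⟩, range_le_range_of_dvd A J 𝔭 f _ (Dvd.intro _ rfl) hf hfg,
      range_le_range_of_dvd A J 𝔭 g _ (Dvd.intro_left _ rfl) hg hfg⟩

end Groth.Agent.H2.CAway


namespace Groth.Agent.H2.CAway

variable (A : Type u) [CommRing A] (J : Ideal A) (𝔭 : Ideal A) [𝔭.IsPrime]

theorem map_le_maximalIdeal (hJ : J ≤ 𝔭) :
    J.map (algebraMap A (Localization.AtPrime 𝔭)) ≤
      IsLocalRing.maximalIdeal (Localization.AtPrime 𝔭) := by
  rw [Ideal.map_le_iff_le_comap]
  have h := IsLocalization.AtPrime.under_maximalIdeal (Localization.AtPrime 𝔭) 𝔭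
  rw [Ideal.under_def] at h
  rw [h]
  exact hJ

theorem isUnit_of_isUnit_mk (hJ : J ≤ 𝔭) (r : Localization.AtPrime 𝔭)
    (h : IsUnit (Ideal.Quotient.mk ((J.map (algebraMap A (Localization.AtPrime 𝔭))) ^ 1) r)) :
    IsUnit r := by
  by_contra hr
  have hm : r ∈ IsLocalRing.maximalIdeal (Localization.AtPrime 𝔭) := hr
  obtain ⟨c, hc⟩ := h.exists_right_inv
  obtain ⟨c, rfl⟩ := Ideal.Quotient.mk_surjective c
  rw [← map_mul, ← map_one (Ideal.Quotient.mk _), Ideal.Quotient.eq, pow_one] at hc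
  have h1 : r * c - 1 ∈ IsLocalRing.maximalIdeal (Localization.AtPrime 𝔭) :=
    map_le_maximalIdeal A J 𝔭 hJ hc
  have h2 : r * c ∈ IsLocalRing.maximalIdeal (Localization.AtPrime 𝔭) :=
    Ideal.mul_mem_right _ _ hm
  have h3 : (1 : Localization.AtPrime 𝔭) ∈ IsLocalRing.maximalIdeal (Localization.AtPrime 𝔭) := by
    have := Ideal.sub_mem _ h2 h1
    rwa [sub_sub_cancel] at this
  exact (IsLocalRing.maximalIdeal.isMaximal _).ne_top ((Ideal.eq_top_iff_one _).mpr h3)

theorem exists_inv_of_isUnit (hJ : J ≤ 𝔭) (x : FSch.cAtPrime A J 𝔭)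
    (hx : x ∈ FSch.stalkSubring A J 𝔭) (hu : IsUnit x) :
    ∃ z ∈ FSch.stalkSubring A J 𝔭, x * z = 1 := by
  obtain ⟨f, hf, y, rfl⟩ := (mem_stalkSubring_iff A J 𝔭 x).mp hx
  obtain ⟨r, hr⟩ := Ideal.Quotient.mk_surjective
    (AdicCompletion.evalₐ (J.map (algebraMap A (Localization.Away f))) 1 y)
  have h1 : AdicCompletion.evalₐ (J.map (algebraMap A (Localization.AtPrime 𝔭))) 1
      (FSch.cAwayToAtPrime A J 𝔭 f hf y) =
      Ideal.Quotient.mk _ (FSch.awayToAtPrime A 𝔭 f hf r) := by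
    rw [FSch.cAwayToAtPrime, evalₐ_complMap, ← hr, Ideal.quotientMap_mk]
  have h2 : IsUnit (FSch.awayToAtPrime A 𝔭 f hf r) := by
    apply isUnit_of_isUnit_mk A J 𝔭 hJ
    rw [← h1]
    exact hu.map _
  obtain ⟨a, s, rfl⟩ := IsLocalization.exists_mk'_eq (Submonoid.powers f) r
  have hs : (s : A) ∉ 𝔭 := by
    have : Submonoid.powers f ≤ 𝔭.primeCompl := Submonoid.powers_le.mpr hf
    exact this s.2
  have hspec : IsLocalization.mk' (Localization.Away f) a s *
      algebraMap A (Localization.Away f) s = algebraMap A _ a := IsLocalization.mk'_spec _ _ _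
  have ha : a ∉ 𝔭 := by
    have h3 := congrArg (FSch.awayToAtPrime A 𝔭 f hf) hspec
    rw [map_mul, awayToAtPrime_algebraMap, awayToAtPrime_algebraMap] at h3
    have h4 : IsUnit (algebraMap A (Localization.AtPrime 𝔭) a) := by
      rw [← h3]
      exact h2.mul ((IsLocalization.AtPrime.isUnit_to_map_iff _ 𝔭 _).mpr hs)
    exact (IsLocalization.AtPrime.isUnit_to_map_iff _ 𝔭 a).mp h4
  have hh : f * a ∉ 𝔭 := fun h => (‹𝔭.IsPrime›.mem_or_mem h).elim hf ha
  have hd : f ∣ f * a := Dvd.intro _ rfl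
  have h5 : IsUnit (cAwayDvd A J f (f * a) hd y) := by
    apply isUnit_of_isUnit_evalₐ_one
    rw [cAwayDvd, evalₐ_complMap, ← hr, Ideal.quotientMap_mk]
    apply IsUnit.map
    have h6 := congrArg (awayDvd A f (f * a) hd) hspec
    rw [map_mul, awayDvd_algebraMap, awayDvd_algebraMap] at h6
    have hua : IsUnit (algebraMap A (Localization.Away (f * a)) a) :=
      isUnit_of_dvd_unit (map_dvd _ (Dvd.intro_left _ rfl))
        (IsLocalization.Away.algebraMap_isUnit (f * a))
    have huf : IsUnit (algebraMap A (Localization.Away (f * a)) f) :=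
      isUnit_of_dvd_unit (map_dvd _ hd) (IsLocalization.Away.algebraMap_isUnit (f * a))
    have hus : IsUnit (algebraMap A (Localization.Away (f * a)) s) := by
      obtain ⟨k, hk⟩ := s.2
      rw [← hk, map_pow]
      exact huf.pow k
    rw [← h6] at hua
    exact isUnit_of_mul_isUnit_left hua
  obtain ⟨z', hz'⟩ := h5.exists_right_inv
  refine ⟨FSch.cAwayToAtPrime A J 𝔭 (f * a) hh z', ?_, ?_⟩
  · exact (mem_stalkSubring_iff A J 𝔭 _).mpr ⟨f * a, hh, z', rfl⟩
  · rw [← cAwayToAtPrime_cAwayDvd A J 𝔭 f (f * a) hd hf hh y, ← map_mul, hz', map_one]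

end Groth.Agent.H2.CAway

namespace Groth.Agent.H2.CAway

variable (A : Type u) [CommRing A] (J : Ideal A) (𝔭 : Ideal A) [𝔭.IsPrime]

theorem map_ne_top (hJ : J ≤ 𝔭) : J.map (algebraMap A (Localization.AtPrime 𝔭)) ^ 1 ≠ ⊤ := by
  intro h
  rw [pow_one] at h
  have := map_le_maximalIdeal A J 𝔭 hJ
  rw [h] at this
  exact (IsLocalRing.maximalIdeal.isMaximal _).ne_top (top_le_iff.mp this)

theorem isUnit_cAtPrime_iff (x : FSch.cAtPrime A J 𝔭) :
    IsUnit x ↔
      IsUnit (AdicCompletion.evalₐ (J.map (algebraMap A (Localization.AtPrime 𝔭))) 1 x) :=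
  ⟨fun h => h.map _, isUnit_of_isUnit_evalₐ_one _ x⟩

theorem cAtPrime_nonunits_add (hJ : J ≤ 𝔭) (x y : FSch.cAtPrime A J 𝔭) (hx : ¬ IsUnit x)
    (hy : ¬ IsUnit y) : ¬ IsUnit (x + y) := by
  have : Nontrivial (Localization.AtPrime 𝔭 ⧸
      J.map (algebraMap A (Localization.AtPrime 𝔭)) ^ 1) :=
    Ideal.Quotient.nontrivial_iff.mpr (map_ne_top A J 𝔭 hJ)
  have : IsLocalRing (Localization.AtPrime 𝔭 ⧸
      J.map (algebraMap A (Localization.AtPrime 𝔭)) ^ 1) :=
    IsLocalRing.of_surjective' (Ideal.Quotient.mk _) Ideal.Quotient.mk_surjective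
  rw [isUnit_cAtPrime_iff] at hx hy ⊢
  rw [map_add]
  exact fun h => (IsLocalRing.isUnit_or_isUnit_of_isUnit_add h).elim hx hy

theorem stalkSubring_isLocal (hJ : J ≤ 𝔭) :
    IsLocalRing (FSch.stalkSubring A J 𝔭) ∧ IsLocalHom (FSch.stalkSubring A J 𝔭).subtype := by
  have hloc : IsLocalHom (FSch.stalkSubring A J 𝔭).subtype := by
    refine ⟨fun b hb => ?_⟩
    obtain ⟨z, hz, hbz⟩ := exists_inv_of_isUnit A J 𝔭 hJ b.1 b.2 hb
    exact IsUnit.of_mul_eq_one ⟨z, hz⟩ (Subtype.ext hbz)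
  refine ⟨?_, hloc⟩
  have hnt : Nontrivial (FSch.cAtPrime A J 𝔭) := by
    refine ⟨⟨0, 1, fun h => ?_⟩⟩
    have h1 := congrArg (AdicCompletion.evalₐ (J.map (algebraMap A (Localization.AtPrime 𝔭))) 1) h
    rw [map_zero, map_one] at h1
    have : Nontrivial (Localization.AtPrime 𝔭 ⧸
        J.map (algebraMap A (Localization.AtPrime 𝔭)) ^ 1) :=
      Ideal.Quotient.nontrivial_iff.mpr (map_ne_top A J 𝔭 hJ)
    exact zero_ne_one h1
  apply IsLocalRing.of_nonunits_add
  intro a b ha hb hab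
  have ha' : ¬ IsUnit (a : FSch.cAtPrime A J 𝔭) := fun h => ha (hloc.map_nonunit a h)
  have hb' : ¬ IsUnit (b : FSch.cAtPrime A J 𝔭) := fun h => hb (hloc.map_nonunit b h)
  have := cAtPrime_nonunits_add A J 𝔭 hJ _ _ ha' hb'
  exact this (hab.map (FSch.stalkSubring A J 𝔭).subtype)

end Groth.Agent.H2.CAway
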