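import Groth.Agent.Lib.Helper2.Ghost1

/-!
# Artin–Rees and the ghost lemma: `J^{n+m} ⊗ K ⟶ J^m ⊗ K` vanishes in the derived category
-/

universe w u

open CategoryTheory CategoryTheory.Limits MonoidalCategory TensorProduct

namespace Groth.Agent.H2.ARGhost

section Mod

variable {A : Type u} [CommRing A]

lemma ar_step [IsNoetherianRing A] {M : Type*} [AddCommGroup M] [Module A M] [Module.Finite A M]
    (J : Ideal A) (Z B : Submodule A M) (hB : J • Z ≤ B) :
    ∃ c : ℕ, ∀ e m : ℕ, c + 1 + m ≤ e → J ^ e • (⊤ : Submodule A M) ⊓ Z ≤ J ^ m • B := by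
  obtain ⟨k, hk⟩ := Ideal.exists_pow_inf_eq_pow_smul J Z
  refine ⟨k, fun e m he => ?_⟩
  have h1 : J ^ e • (⊤ : Submodule A M) ⊓ Z ≤ J ^ (k + 1 + m) • (⊤ : Submodule A M) ⊓ Z :=
    inf_le_inf_right _ (Submodule.smul_mono_left (Ideal.pow_le_pow_right he))
  refine h1.trans ?_
  rw [hk (k + 1 + m) (by omega), show k + 1 + m - k = m + 1 by omega, pow_succ,
    Submodule.mul_smul]
  exact Submodule.smul_mono le_rfl
    ((Submodule.smul_mono le_rfl inf_le_right).trans hB)

/-- the multiplication map `I ⊗ M → M` -/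
noncomputable def mu (I : Ideal A) (M : Type*) [AddCommGroup M] [Module A M] :
    I ⊗[A] M →ₗ[A] M :=
  TensorProduct.lift ((LinearMap.lsmul A M).comp I.subtype)

@[simp]
lemma mu_tmul (I : Ideal A) {M : Type*} [AddCommGroup M] [Module A M] (r : I) (x : M) :
    mu I M (r ⊗ₜ[A] x) = (r : A) • x := by
  simp [mu]

lemma mu_injective (I : Ideal A) (M : Type*) [AddCommGroup M] [Module A M] [Module.Flat A M] :
    Function.Injective (mu I M) := by
  have h1 := Module.Flat.rTensor_preserves_injective_linearMap (M := M) I.subtype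
    Subtype.val_injective
  have h2 : mu I M = (TensorProduct.lid A M).toLinearMap ∘ₗ LinearMap.rTensor M I.subtype := by
    apply TensorProduct.ext'
    intro r x
    simp
  rw [h2]
  exact (TensorProduct.lid A M).injective.comp h1

lemma mu_mem (I : Ideal A) {M : Type*} [AddCommGroup M] [Module A M] (x : I ⊗[A] M) :
    mu I M x ∈ I • (⊤ : Submodule A M) := by
  induction x using TensorProduct.induction_on with
  | zero => simp
  | tmul r x =>
    rw [mu_tmul]
    exact Submodule.smul_mem_smul r.2 trivial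
  | add x y hx hy =>
    rw [map_add]
    exact Submodule.add_mem _ hx hy

/-- elements of `I • range f` lift along `mu ∘ (1 ⊗ f)` -/
lemma exists_of_mem_smul_range (I : Ideal A) {M N : Type*} [AddCommGroup M] [Module A M]
    [AddCommGroup N] [Module A N] (f : M →ₗ[A] N) (w : N) (hw : w ∈ I • LinearMap.range f) :
    ∃ y : I ⊗[A] M, mu I N (LinearMap.lTensor I f y) = w := by
  refine Submodule.smul_induction_on hw ?_ ?_
  · intro r hr n hn
    obtain ⟨x, rfl⟩ := hn
    exact ⟨(⟨r, hr⟩ : I) ⊗ₜ[A] x, by simp⟩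
  · rintro x y ⟨y₁, h₁⟩ ⟨y₂, h₂⟩
    exact ⟨y₁ + y₂, by rw [map_add, map_add, h₁, h₂]⟩

lemma mu_lTensor (I : Ideal A) {M N : Type*} [AddCommGroup M] [Module A M]
    [AddCommGroup N] [Module A N] (f : M →ₗ[A] N) (x : I ⊗[A] M) :
    mu I N (LinearMap.lTensor I f x) = f (mu I M x) := by
  induction x using TensorProduct.induction_on with
  | zero => simp
  | tmul r x => simp
  | add x y hx hy => rw [map_add, map_add, map_add, map_add, hx, hy]

lemma mu_rTensor_inclusion {I I' : Ideal A} (h : I ≤ I') {M : Type*} [AddCommGroup M]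
    [Module A M] (x : I ⊗[A] M) :
    mu I' M (LinearMap.rTensor M (Submodule.inclusion h) x) = mu I M x := by
  induction x using TensorProduct.induction_on with
  | zero => simp
  | tmul r x => simp
  | add x y hx hy => rw [map_add, map_add, map_add, hx, hy]

end Mod

section SC

variable {A : Type u} [Ring A]

lemma homologyMap_eq_zero_of_forall {S₁ S₂ : ShortComplex (ModuleCat.{u} A)} (φ : S₁ ⟶ S₂)
    (h : ∀ x : S₁.X₂, S₁.g x = 0 → ∃ y : S₂.X₁, S₂.f y = φ.τ₂ x) :
    ShortComplex.homologyMap φ = 0 := by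
  rw [← cancel_epi S₁.homologyπ, ShortComplex.homologyπ_naturality, comp_zero]
  ext z
  have hx : S₁.g (S₁.iCycles z) = 0 := by
    rw [← ModuleCat.comp_apply, S₁.iCycles_g]
    rfl
  obtain ⟨y, hy⟩ := h _ hx
  have hinj : Function.Injective S₂.iCycles := (ModuleCat.mono_iff_injective _).1 inferInstance
  have e : S₂.toCycles y = ShortComplex.cyclesMap φ z := by
    apply hinj
    rw [← ModuleCat.comp_apply, S₂.toCycles_i, hy, ← ModuleCat.comp_apply,
      ← ModuleCat.comp_apply, ShortComplex.cyclesMap_i]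
  rw [ModuleCat.comp_apply, ← e, ← ModuleCat.comp_apply, S₂.toCycles_comp_homologyπ]
  rfl

end SC

end Groth.Agent.H2.ARGhost
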