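import Groth.Agent.Lib.Helper2.ARGhost1

/-!
# Artin–Rees and the ghost lemma, part 2: complexes
-/

universe w u

open CategoryTheory CategoryTheory.Limits MonoidalCategory TensorProduct

namespace Groth.Agent.H2.ARGhost

variable {A : Type u} [CommRing A] (J : Ideal A) (K : CochainComplex (ModuleCat.{u} A) ℤ)

/-- `J^e ⊗ K` -/
noncomputable abbrev T (e : ℕ) : CochainComplex (ModuleCat.{u} A) ℤ :=
  (((curriedTensor (ModuleCat.{u} A)).obj (ModuleCat.of A ↥(J ^ e))).mapHomologicalComplex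
    (ComplexShape.up ℤ)).obj K

/-- the map `J^e ⊗ K ⟶ J^e' ⊗ K` for `e' ≤ e` -/
noncomputable abbrev τ {e e' : ℕ} (h : e' ≤ e) : T J K e ⟶ T J K e' :=
  (NatTrans.mapHomologicalComplex ((curriedTensor (ModuleCat.{u} A)).map
    (ModuleCat.ofHom (Submodule.inclusion (p := J ^ e) (p' := J ^ e')
      (Ideal.pow_le_pow_right h)))) (ComplexShape.up ℤ)).app K

lemma τ_comp {e e' e'' : ℕ} (h : e' ≤ e) (h' : e'' ≤ e') :
    τ J K h ≫ τ J K h' = τ J K (h'.trans h) := by
  ext q : 1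
  change (ModuleCat.ofHom (Submodule.inclusion (p := J ^ e) (p' := J ^ e')
      (Ideal.pow_le_pow_right h))) ▷ K.X q ≫ (ModuleCat.ofHom (Submodule.inclusion (p := J ^ e')
      (p' := J ^ e'') (Ideal.pow_le_pow_right h'))) ▷ K.X q = (ModuleCat.ofHom
      (Submodule.inclusion (p := J ^ e) (p' := J ^ e'')
      (Ideal.pow_le_pow_right (h'.trans h)))) ▷ K.X q
  rw [← comp_whiskerRight]
  rfl

/-- the incoming differential at `q` -/
noncomputable abbrev dIn (q : ℤ) : K.X ((ComplexShape.up ℤ).prev q) →ₗ[A] K.X q :=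
  (K.d ((ComplexShape.up ℤ).prev q) q).hom

/-- the outgoing differential at `q` -/
noncomputable abbrev dOut (q : ℤ) : K.X q →ₗ[A] K.X ((ComplexShape.up ℤ).next q) :=
  (K.d q ((ComplexShape.up ℤ).next q)).hom

lemma T_f_apply (e : ℕ) (q : ℤ) (y : ↥(J ^ e) ⊗[A] K.X ((ComplexShape.up ℤ).prev q)) :
    ((T J K e).sc q).f y = LinearMap.lTensor (↥(J ^ e)) (dIn K q) y := rfl

lemma T_g_apply (e : ℕ) (q : ℤ) (y : ↥(J ^ e) ⊗[A] K.X q) :
    ((T J K e).sc q).g y = LinearMap.lTensor (↥(J ^ e)) (dOut K q) y := rfl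

lemma τ_τ₂_apply {e e' : ℕ} (h : e' ≤ e) (q : ℤ) (y : ↥(J ^ e) ⊗[A] K.X q) :
    ((HomologicalComplex.shortComplexFunctor _ _ q).map (τ J K h)).τ₂ y =
      LinearMap.rTensor (K.X q) (Submodule.inclusion (p := J ^ e) (p' := J ^ e')
      (Ideal.pow_le_pow_right h)) y := rfl

/-- the ideal `J` kills `Z/B` -/
lemma smul_ker_le_range (q : ℤ) (hJ : ∀ x ∈ J, ∀ c : ↑(K.homology q), x • c = 0) :
    J • LinearMap.ker (dOut K q) ≤ LinearMap.range (dIn K q) := by
  rw [Submodule.smul_le]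
  intro r hr z hz
  let S := K.sc q
  let zc : LinearMap.ker S.g.hom := ⟨z, hz⟩
  let ι : (LinearMap.ker S.g.hom ⧸ LinearMap.range S.moduleCatToCycles) →ₗ[A] S.homology :=
    S.moduleCatHomologyIso.inv.hom
  have hinj : Function.Injective ι :=
    (ModuleCat.mono_iff_injective S.moduleCatHomologyIso.inv).1 inferInstance
  have h1 : r • ι ((LinearMap.range S.moduleCatToCycles).mkQ zc) = 0 := hJ r hr _
  have h2 : (LinearMap.range S.moduleCatToCycles).mkQ (r • zc) = 0 := by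
    apply hinj
    rw [map_zero, map_smul, map_smul]
    exact h1
  rw [Submodule.mkQ_apply, Submodule.Quotient.mk_eq_zero] at h2
  obtain ⟨y, hy⟩ := h2
  exact ⟨y, congrArg Subtype.val hy⟩

lemma homologyMap_τ_eq_zero (q : ℤ) [Module.Flat A (K.X q)] (c : ℕ)
    (hc : ∀ e m : ℕ, c + 1 + m ≤ e →
      J ^ e • (⊤ : Submodule A (K.X q)) ⊓ LinearMap.ker (dOut K q) ≤
        J ^ m • LinearMap.range (dIn K q))
    {e e' : ℕ} (h : c + 1 + e' ≤ e) :
    HomologicalComplex.homologyMap (τ J K (show e' ≤ e by omega)) q = 0 := by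
  apply homologyMap_eq_zero_of_forall
  intro x hx
  change ↥(J ^ e) ⊗[A] K.X q at x
  have hx' : LinearMap.lTensor (↥(J ^ e)) (dOut K q) x = 0 := hx
  -- the image of `x` in `K.X q`
  have h1 : mu (J ^ e) (K.X q) x ∈
      J ^ e • (⊤ : Submodule A (K.X q)) ⊓ LinearMap.ker (dOut K q) := by
    refine ⟨mu_mem _ x, ?_⟩
    rw [SetLike.mem_coe, LinearMap.mem_ker, ← mu_lTensor, hx', map_zero]
  obtain ⟨y, hy⟩ := exists_of_mem_smul_range (J ^ e') (dIn K q) _ (hc e e' h h1)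
  refine ⟨y, ?_⟩
  have key : LinearMap.lTensor (↥(J ^ e')) (dIn K q) y =
      LinearMap.rTensor (K.X q) (Submodule.inclusion (p := J ^ e) (p' := J ^ e')
        (Ideal.pow_le_pow_right (show e' ≤ e by omega))) x := by
    apply mu_injective (J ^ e') (K.X q)
    rw [hy, mu_rTensor_inclusion]
  exact key

end Groth.Agent.H2.ARGhost
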