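import Groth.Agent.Lib.Helper2.ARGhost2

/-!
# Artin–Rees and the ghost lemma, part 3: assembly
-/

universe w u

open CategoryTheory CategoryTheory.Limits MonoidalCategory TensorProduct

namespace Groth.Agent.H2.ARGhost

variable {A : Type u} [CommRing A] [IsNoetherianRing A] (J : Ideal A)
  (K : CochainComplex (ModuleCat.{u} A) ℤ)

lemma exists_uniform_c (a b : ℤ)
    (hK : ∀ q : ℤ, q < a ∨ b < q → Limits.IsZero (K.X q))
    (hfin : ∀ q : ℤ, Module.Finite A (K.X q))
    (hJ : ∀ q : ℤ, ∀ x ∈ J, ∀ c : ↑(K.homology q), x • c = 0) :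
    ∃ c : ℕ, ∀ (q : ℤ) (e m : ℕ), c + 1 + m ≤ e →
      J ^ e • (⊤ : Submodule A (K.X q)) ⊓ LinearMap.ker (dOut K q) ≤
        J ^ m • LinearMap.range (dIn K q) := by
  have h := fun q : ℤ => ar_step J (LinearMap.ker (dOut K q)) (LinearMap.range (dIn K q))
    (smul_ker_le_range J K q (hJ q))
  choose cq hcq using h
  refine ⟨(Finset.Icc a b).sup cq, fun q e m he => ?_⟩
  by_cases hq : q ∈ Finset.Icc a b
  · have : cq q ≤ (Finset.Icc a b).sup cq := Finset.le_sup hq
    exact hcq q e m (by omega)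
  · rw [Finset.mem_Icc, not_and_or, not_le, not_le] at hq
    have := ModuleCat.subsingleton_of_isZero (hK q hq)
    intro x _
    rw [Subsingleton.elim x 0]
    exact zero_mem _

lemma isZero_T_X (e : ℕ) (q : ℤ) (h : IsZero (K.X q)) : IsZero ((T J K e).X q) :=
  Functor.map_isZero ((curriedTensor (ModuleCat.{u} A)).obj (ModuleCat.of A ↥(J ^ e))) h

variable [HasDerivedCategory.{w} (ModuleCat.{u} A)]

lemma homologyFunctor_map_Q_map_eq_zero {X Y : CochainComplex (ModuleCat.{u} A) ℤ} (f : X ⟶ Y)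
    (q : ℤ) (h : HomologicalComplex.homologyMap f q = 0) :
    (DerivedCategory.homologyFunctor (ModuleCat.{u} A) q).map (DerivedCategory.Q.map f) = 0 := by
  have h1 := DerivedCategory.homologyFunctorFactors_hom_naturality f q
  have h0 : (DerivedCategory.homologyFunctorFactors (ModuleCat.{u} A) q).hom.app X ≫
      HomologicalComplex.homologyMap f q = 0 := by
    rw [h]
    exact Limits.comp_zero
  rw [h0] at h1
  have h2 := h1 =≫ (DerivedCategory.homologyFunctorFactors (ModuleCat.{u} A) q).inv.app Y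
  rw [Category.assoc, Iso.hom_inv_id_app] at h2
  refine (Category.comp_id _).symm.trans (h2.trans ?_)
  exact Limits.zero_comp

theorem main (a b : ℤ)
    (hK : ∀ q : ℤ, q < a ∨ b < q → Limits.IsZero (K.X q))
    (hfin : ∀ q : ℤ, Module.Finite A (K.X q)) (hproj : ∀ q : ℤ, Module.Projective A (K.X q))
    (hJ : ∀ q : ℤ, ∀ x ∈ J, ∀ c : ↑(K.homology q), x • c = 0) :
    ∃ n : ℕ, ∀ m : ℕ, 0 < m →
      DerivedCategory.Q.map (τ J K (Nat.le_add_left m n)) = 0 := by
  obtain ⟨c, hc⟩ := exists_uniform_c J K a b hK hfin hJ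
  set N : ℕ := (b - a).toNat with hN
  refine ⟨(N + 1) * (c + 1), fun m _ => ?_⟩
  -- exponents
  let e : ℕ → ℕ := fun i => m + (N + 1 - i) * (c + 1)
  have he : ∀ i, e (i + 1) ≤ e i := fun i =>
    Nat.add_le_add_left (Nat.mul_le_mul_right _ (by omega)) _
  have he0 : ∀ k, e k ≤ e 0 := fun k =>
    Nat.add_le_add_left (Nat.mul_le_mul_right _ (by omega)) _
  let X : ℕ → DerivedCategory (ModuleCat.{u} A) := fun i => DerivedCategory.Q.obj (T J K (e i))
  let f : ∀ i, X i ⟶ X (i + 1) := fun i => DerivedCategory.Q.map (τ J K (he i))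
  have hGE : ∀ i : ℕ, i ≤ N + 1 → (X i).IsGE a := by
    intro i _
    have : (T J K (e i)).IsStrictlyGE a := by
      rw [CochainComplex.isStrictlyGE_iff]
      intro q hq
      exact isZero_T_X J K _ q (hK q (Or.inl hq))
    dsimp only [X]
    infer_instance
  have hLE : ∀ i : ℕ, i ≤ N + 1 → (X i).IsLE (a + N) := by
    intro i _
    have : (T J K (e i)).IsStrictlyLE (a + N) := by
      rw [CochainComplex.isStrictlyLE_iff]
      intro q hq
      exact isZero_T_X J K _ q (hK q (Or.inr (by omega)))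
    dsimp only [X]
    infer_instance
  have hz : ∀ i : ℕ, i ≤ N → ∀ q : ℤ,
      (DerivedCategory.homologyFunctor (ModuleCat.{u} A) q).map (f i) = 0 := by
    intro i hi q
    apply homologyFunctor_map_Q_map_eq_zero
    have := hproj q
    have hle : c + 1 + e (i + 1) ≤ e i := by
      dsimp only [e]
      have h1 : N + 1 - i = (N + 1 - (i + 1)) + 1 := by omega
      rw [h1, Nat.add_mul, one_mul]
      omega
    exact homologyMap_τ_eq_zero J K q c (hc q) hle
  have key := Ghost.ghost a N X f hGE hLE hz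
  have hiter : ∀ k, Ghost.iterComp X f (k + 1) = DerivedCategory.Q.map (τ J K (he0 (k + 1))) := by
    intro k
    induction k with
    | zero =>
      simp only [Ghost.iterComp, Category.id_comp]
      rfl
    | succ k ih =>
      rw [Ghost.iterComp, ih]
      dsimp only [f]
      rw [← Functor.map_comp, τ_comp]
  rw [hiter N] at key
  -- transport along the equalities of exponents
  have gen : ∀ (e₁ e₁' : ℕ) (h : e₁' ≤ e₁), e₁ = (N + 1) * (c + 1) + m → e₁' = m →
      DerivedCategory.Q.map (τ J K h) = 0 →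
      DerivedCategory.Q.map (τ J K (Nat.le_add_left m ((N + 1) * (c + 1)))) = 0 := by
    intro e₁ e₁' h h1 h2 h3
    subst h1 h2
    exact h3
  exact gen _ _ (he0 (N + 1)) (by dsimp only [e]; rw [Nat.sub_zero, add_comm])
    (by dsimp only [e]; simp) key

end Groth.Agent.H2.ARGhost
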