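import Groth.Agent.Lib.Helper2.ARSysIm
import Mathlib.CategoryTheory.Subobject.NoetherianObject
import Mathlib.CategoryTheory.Subobject.ArtinianObject
import Mathlib.CategoryTheory.ObjectProperty.Extensions
import Mathlib.CategoryTheory.ObjectProperty.FiniteProducts
import Mathlib.CategoryTheory.Abelian.SerreClass.Basic

set_option autoImplicit false
universe w v u
open CategoryTheory CategoryTheory.Limits Opposite

namespace Groth.Agent.H2.AR

variable {C : Type u} [Category.{v} C] [Abelian C]

set_option linter.unusedSectionVars false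

lemma factors_iff_imLE {B X : C} (S : Subobject X) (x : B ⟶ X) :
    S.Factors x ↔ ImLE x S.arrow := by
  rw [imLE_mono_iff]
  constructor
  · intro h
    exact ⟨S.factorThru x h, S.factorThru_arrow x h⟩
  · rintro ⟨c, rfl⟩
    exact Subobject.factors_comp_arrow c

lemma le_iff_imLE_arrow {X : C} (S T : Subobject X) : S ≤ T ↔ ImLE S.arrow T.arrow := by
  rw [← factors_iff_imLE]
  exact ⟨fun h => Subobject.factors_of_le _ h (Subobject.factors_self S),
    Subobject.le_of_factors⟩

lemma exists_add_of_exact {S : ShortComplex C} (hS : S.Exact) {B D : C}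
    {a : B ⟶ S.X₂} {c : D ⟶ S.X₂} (h : ImLE (a ≫ S.g) (c ≫ S.g)) :
    ∃ (B' : C) (π : B' ⟶ B) (_ : Epi π) (c' : B' ⟶ D) (x : B' ⟶ S.X₁),
      π ≫ a = c' ≫ c + x ≫ S.f := by
  obtain ⟨A₁, π₁, hπ₁, c₁, hc₁⟩ := h
  have h0 : (π₁ ≫ a - c₁ ≫ c) ≫ S.g = 0 := by
    rw [Preadditive.sub_comp, Category.assoc, Category.assoc, hc₁, sub_self]
  obtain ⟨A₂, π₂, hπ₂, x, hx⟩ := hS.exact_up_to_refinements _ h0
  refine ⟨A₂, π₂ ≫ π₁, epi_comp _ _, π₂ ≫ c₁, x, ?_⟩
  rw [← hx, Preadditive.comp_sub, Category.assoc, Category.assoc]
  abel

/-- The pair (intersection with `X₁`, image in `X₃`) of a subobject of `X₂`. -/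
noncomputable def subobjectSplit (S : ShortComplex C) (T : Subobject S.X₂) :
    Subobject S.X₁ × Subobject S.X₃ :=
  ((Subobject.pullback S.f).obj T, imageSubobject (T.arrow ≫ S.g))

lemma subobjectSplit_monotone (S : ShortComplex C) : Monotone (subobjectSplit S) := by
  intro T T' h
  refine ⟨(Subobject.pullback S.f).monotone h, ?_⟩
  change imageSubobject (T.arrow ≫ S.g) ≤ imageSubobject (T'.arrow ≫ S.g)
  rw [← imLE_iff_imageSubobject_le]
  exact ((le_iff_imLE_arrow T T').1 h).postcomp S.g

lemma le_of_subobjectSplit_le {S : ShortComplex C} (hS : S.Exact) {T T' : Subobject S.X₂}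
    (h : T ≤ T') (h' : subobjectSplit S T' ≤ subobjectSplit S T) : T' ≤ T := by
  rw [le_iff_imLE_arrow]
  have h1 : ImLE (T'.arrow ≫ S.g) (T.arrow ≫ S.g) :=
    (imLE_iff_imageSubobject_le _ _).2 h'.2
  obtain ⟨B, π, hπ, c', x, hx⟩ := exists_add_of_exact hS h1
  have h2 : T'.Factors (x ≫ S.f) := by
    have e : x ≫ S.f = π ≫ T'.arrow - c' ≫ T.arrow := by rw [hx]; abel
    rw [e, factors_iff_imLE]
    exact (ImLE.comp_self _ _).sub (((le_iff_imLE_arrow T T').1 h).precomp c')
  have h3 : ((Subobject.pullback S.f).obj T').Factors x :=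
    (Limits.pullback_factors_iff _ _ _).2 h2
  have h4 : ((Subobject.pullback S.f).obj T).Factors x := Subobject.factors_of_le _ h'.1 h3
  have h5 : T.Factors (x ≫ S.f) := (Limits.pullback_factors_iff _ _ _).1 h4
  apply ImLE.of_epi_comp π
  rw [hx]
  exact (ImLE.comp_self _ _).add ((factors_iff_imLE _ _).1 h5)

lemma subobjectSplit_strictMono {S : ShortComplex C} (hS : S.Exact) :
    StrictMono (subobjectSplit S) := by
  intro T T' h
  refine lt_of_le_of_ne (subobjectSplit_monotone S h.le) fun he => ?_
  exact h.ne (le_antisymm h.le (le_of_subobjectSplit_le hS h.le he.ge))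

theorem isNoetherianObject_of_exact {S : ShortComplex C} (hS : S.Exact)
    [IsNoetherianObject S.X₁] [IsNoetherianObject S.X₃] : IsNoetherianObject S.X₂ := by
  have : WellFoundedGT (Subobject S.X₂) := (subobjectSplit_strictMono hS).wellFoundedGT
  exact isNoetherianObject.is_of_prop this

theorem isArtinianObject_of_exact {S : ShortComplex C} (hS : S.Exact)
    [IsArtinianObject S.X₁] [IsArtinianObject S.X₃] : IsArtinianObject S.X₂ := by
  have : WellFoundedLT (Subobject S.X₂) := (subobjectSplit_strictMono hS).wellFoundedLT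
  exact isArtinianObject.is_of_prop this

lemma pullback_strictMono_of_epi {X Y : C} (g : X ⟶ Y) [Epi g] :
    StrictMono (Subobject.pullback g).obj := by
  intro T T' h
  refine lt_of_le_of_ne ((Subobject.pullback g).monotone h.le) fun he => ?_
  apply h.ne
  refine le_antisymm h.le ?_
  rw [le_iff_imLE_arrow]
  obtain ⟨B, π, hπ, x, hx⟩ := surjective_up_to_refinements_of_epi g T'.arrow
  have h1 : ((Subobject.pullback g).obj T').Factors x := by
    rw [Limits.pullback_factors_iff, ← hx, factors_iff_imLE]
    exact ImLE.comp_self _ _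
  rw [← he] at h1
  have h2 : T.Factors (x ≫ g) := (Limits.pullback_factors_iff _ _ _).1 h1
  apply ImLE.of_epi_comp π
  rw [hx]
  exact (factors_iff_imLE _ _).1 h2

theorem isNoetherianObject_of_epi {X Y : C} (g : X ⟶ Y) [Epi g] [IsNoetherianObject X] :
    IsNoetherianObject Y := by
  have : WellFoundedGT (Subobject Y) := (pullback_strictMono_of_epi g).wellFoundedGT
  exact isNoetherianObject.is_of_prop this

theorem isArtinianObject_of_epi {X Y : C} (g : X ⟶ Y) [Epi g] [IsArtinianObject X] :
    IsArtinianObject Y := by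
  have : WellFoundedLT (Subobject Y) := (pullback_strictMono_of_epi g).wellFoundedLT
  exact isArtinianObject.is_of_prop this

end Groth.Agent.H2.AR

namespace Groth.Agent.H2.AR

open CategoryTheory.ObjectProperty

variable {C : Type u} [Category.{v} C] [Abelian C]

set_option linter.unusedSectionVars false

instance : (isNoetherianObject (C := C)).IsClosedUnderExtensions where
  prop_X₂_of_shortExact {S} hS h₁ h₃ := by
    have : IsNoetherianObject S.X₁ := isNoetherianObject.is_of_prop h₁
    have : IsNoetherianObject S.X₃ := isNoetherianObject.is_of_prop h₃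
    have : IsNoetherianObject S.X₂ := isNoetherianObject_of_exact hS.exact
    exact isNoetherianObject.prop_of_is S.X₂

instance : (isArtinianObject (C := C)).IsClosedUnderExtensions where
  prop_X₂_of_shortExact {S} hS h₁ h₃ := by
    have : IsArtinianObject S.X₁ := isArtinianObject.is_of_prop h₁
    have : IsArtinianObject S.X₃ := isArtinianObject.is_of_prop h₃
    have : IsArtinianObject S.X₂ := isArtinianObject_of_exact hS.exact
    exact isArtinianObject.prop_of_is S.X₂

instance : (isNoetherianObject (C := C)).IsClosedUnderQuotients where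
  prop_of_epi {X Y} f _ hX := by
    have : IsNoetherianObject X := isNoetherianObject.is_of_prop hX
    have : IsNoetherianObject Y := isNoetherianObject_of_epi f
    exact isNoetherianObject.prop_of_is Y

instance : (isArtinianObject (C := C)).IsClosedUnderQuotients where
  prop_of_epi {X Y} f _ hX := by
    have : IsArtinianObject X := isArtinianObject.is_of_prop hX
    have : IsArtinianObject Y := isArtinianObject_of_epi f
    exact isArtinianObject.prop_of_is Y

instance : (isNoetherianObject (C := C)).IsSerreClass where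

instance : (isArtinianObject (C := C)).IsSerreClass where

/-- A property closed under extensions, isomorphisms and containing zero is closed under
binary products (in a preadditive category with biproducts). -/
lemma isClosedUnderBinaryProducts_of_extensions (P : ObjectProperty C)
    [P.IsClosedUnderExtensions] [P.IsClosedUnderIsomorphisms] :
    P.IsClosedUnderBinaryProducts where
  limitsOfShape_le := by
    rintro X ⟨p⟩
    have h1 : P (p.diag.obj ⟨WalkingPair.left⟩) := p.prop_diag_obj _
    have h2 : P (p.diag.obj ⟨WalkingPair.right⟩) := p.prop_diag_obj _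
    have h3 := P.prop_biprod h1 h2
    let e : p.diag ≅ pair (p.diag.obj ⟨WalkingPair.left⟩) (p.diag.obj ⟨WalkingPair.right⟩) :=
      diagramIsoPair p.diag
    let c : Cone (pair (p.diag.obj ⟨WalkingPair.left⟩) (p.diag.obj ⟨WalkingPair.right⟩)) :=
      (Cone.postcompose e.hom).obj ⟨X, p.π⟩
    have hc : IsLimit c := (IsLimit.postcomposeHomEquiv e _).symm p.isLimit
    have e2 : X ≅ (p.diag.obj ⟨WalkingPair.left⟩) ⊞ (p.diag.obj ⟨WalkingPair.right⟩) :=
      hc.conePointUniqueUpToIso (BinaryBiproduct.isLimit _ _)
    exact P.prop_of_iso e2.symm h3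

theorem isNoetherianObject_sigma {ι : Type w} [Finite ι] (f : ι → C)
    (h : ∀ i, IsNoetherianObject (f i)) : IsNoetherianObject (∐ f) := by
  have := isClosedUnderBinaryProducts_of_extensions (isNoetherianObject (C := C))
  have : (isNoetherianObject (C := C)).IsClosedUnderFiniteProducts :=
    IsClosedUnderFiniteProducts.mk'
  have h1 : isNoetherianObject (∏ᶜ f) :=
    prop_product _ (fun j => isNoetherianObject.prop_of_is (f j))
  have : HasFiniteBiproducts C := HasFiniteBiproducts.of_hasFiniteProducts
  have e : ∐ f ≅ ∏ᶜ f := (biproduct.isoCoproduct f).symm ≪≫ biproduct.isoProduct f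
  exact isNoetherianObject.is_of_prop ((isNoetherianObject (C := C)).prop_of_iso e.symm h1)

theorem isArtinianObject_sigma {ι : Type w} [Finite ι] (f : ι → C)
    (h : ∀ i, IsArtinianObject (f i)) : IsArtinianObject (∐ f) := by
  have := isClosedUnderBinaryProducts_of_extensions (isArtinianObject (C := C))
  have : (isArtinianObject (C := C)).IsClosedUnderFiniteProducts :=
    IsClosedUnderFiniteProducts.mk'
  have h1 : isArtinianObject (∏ᶜ f) :=
    prop_product _ (fun j => isArtinianObject.prop_of_is (f j))
  have : HasFiniteBiproducts C := HasFiniteBiproducts.of_hasFiniteProducts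
  have e : ∐ f ≅ ∏ᶜ f := (biproduct.isoCoproduct f).symm ≪≫ biproduct.isoProduct f
  exact isArtinianObject.is_of_prop ((isArtinianObject (C := C)).prop_of_iso e.symm h1)

end Groth.Agent.H2.AR
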