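import Mathlib

set_option autoImplicit false
set_option linter.style.haveILetI false
set_option linter.unusedSectionVars false
universe w v u
open CategoryTheory CategoryTheory.Limits Opposite

namespace Groth.Agent.H2.PullOver

variable {C : Type u} [Category.{v} C] {D : Type u} [Category.{v} D]
  [HasBinaryProducts C] [HasBinaryProducts D] (Φ : C ⥤ D)
  [PreservesLimitsOfShape (Discrete WalkingPair) Φ]

lemma iso_hom_map (V : C) {W W' : C} (g : W ⟶ W') :
    (PreservesLimitPair.iso Φ V W).hom ≫ prod.map (𝟙 (Φ.obj V)) (Φ.map g) =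
      Φ.map (prod.map (𝟙 V) g) ≫ (PreservesLimitPair.iso Φ V W').hom := by
  apply prod.hom_ext <;> simp [← Functor.map_comp]

set_option backward.isDefEq.respectTransparency false in
/-- Base change of `star`: `Φ(V × W) ≅ Φ V × Φ W` over `Φ V`. -/
noncomputable def starPostIso (V : C) :
    Φ ⋙ Over.star (Φ.obj V) ≅ Over.star V ⋙ Over.post Φ :=
  NatIso.ofComponents
    (fun W => Over.isoMk (PreservesLimitPair.iso Φ V W).symm (by
      rw [Iso.symm_hom, Iso.inv_comp_eq]
      simp only [Functor.comp_obj, Over.star_obj_hom, prod.lift_fst,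
        PreservesLimitPair.iso_hom, prodComparison_fst]
      exact congrArg (Φ.map (X := ((Over.star V).obj W).left) (Y := V))
        ((Over.star_obj_hom V W).trans (prod.lift_fst _ _))))
    (by
      intro W W' g
      apply Over.OverMorphism.ext
      change prod.map (𝟙 (Φ.obj V)) (Φ.map g) ≫ (PreservesLimitPair.iso Φ V W').inv =
        (PreservesLimitPair.iso Φ V W).inv ≫ Φ.map (prod.map (𝟙 V) g)
      rw [Iso.comp_inv_eq, Category.assoc, Iso.eq_inv_comp]
      exact iso_hom_map Φ V g)

end Groth.Agent.H2.PullOver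

namespace Groth.Agent.H2.PullOver

variable {C : Type u} [Category.{v} C] {D : Type u} [Category.{v} D]
  [HasBinaryProducts C] [HasBinaryProducts D] (Φ : C ⥤ D)
  [PreservesLimitsOfShape (Discrete WalkingPair) Φ]
  (J : GrothendieckTopology C) (K : GrothendieckTopology D)
  (A : Type w) [Category.{max u v} A]
  [Φ.IsContinuous J K] (V : C)
  [(Over.post (X := V) Φ).IsContinuous (J.over V) (K.over (Φ.obj V))]
  [(Φ.sheafPushforwardContinuous A J K).IsRightAdjoint]
  [((Over.post (X := V) Φ).sheafPushforwardContinuous A (J.over V)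
    (K.over (Φ.obj V))).IsRightAdjoint]

/-- The two right adjoints agree. -/
noncomputable def rightAdjIso :
    (Over.star (Φ.obj V)).sheafPushforwardContinuous A K (K.over (Φ.obj V)) ⋙
        Φ.sheafPushforwardContinuous A J K ≅
      (Over.post (X := V) Φ).sheafPushforwardContinuous A (J.over V) (K.over (Φ.obj V)) ⋙
        (Over.star V).sheafPushforwardContinuous A J (J.over V) :=
  haveI : (Over.star V ⋙ Over.post (X := V) Φ).IsContinuous J (K.over (Φ.obj V)) :=
    Functor.isContinuous_comp _ _ J (J.over V) (K.over (Φ.obj V))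
  Functor.sheafPushforwardContinuousComp' (F := Φ) (G := Over.star (Φ.obj V))
      (FG := Over.star V ⋙ Over.post (X := V) Φ) (starPostIso Φ V) A J K (K.over (Φ.obj V)) ≪≫
    (Functor.sheafPushforwardContinuousComp' (F := Over.star V) (G := Over.post (X := V) Φ)
      (FG := Over.star V ⋙ Over.post (X := V) Φ) (Iso.refl _) A J (J.over V)
      (K.over (Φ.obj V))).symm

/-- Pullback of sheaves commutes with restriction to slices. -/
noncomputable def pullOverIso :
    Φ.sheafPullback A J K ⋙ K.overPullback A (Φ.obj V) ≅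
      J.overPullback A V ⋙
        (Over.post (X := V) Φ).sheafPullback A (J.over V) (K.over (Φ.obj V)) :=
  ((Φ.sheafAdjunctionContinuous A J K).comp
      ((Over.forgetAdjStar (Φ.obj V)).sheafPushforwardContinuous (E := A)
        (K.over (Φ.obj V)) K)).leftAdjointUniq
    ((((Over.forgetAdjStar V).sheafPushforwardContinuous (E := A) (J.over V) J).comp
      ((Over.post (X := V) Φ).sheafAdjunctionContinuous A (J.over V)
        (K.over (Φ.obj V)))).ofNatIsoRight (rightAdjIso Φ J K A V).symm)

end Groth.Agent.H2.PullOver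

namespace Groth.Agent.H2.PullOver

section Const

variable {C' : Type u} [Category.{v} C'] {D' : Type u} [Category.{v} D'] (Ψ : C' ⥤ D')
  (J' : GrothendieckTopology C') (K' : GrothendieckTopology D')
  (A : Type w) [Category.{max u v} A]
  [Ψ.IsContinuous J' K'] [(Ψ.sheafPushforwardContinuous A J' K').IsRightAdjoint]
  [HasWeakSheafify J' A] [HasWeakSheafify K' A]

/-- Pullback along a continuous functor preserving the terminal object sends constant sheaves
to constant sheaves. -/
noncomputable def pullConstIso {T : C'} (hT : IsTerminal T) (hT' : IsTerminal (Ψ.obj T)) :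
    constantSheaf J' A ⋙ Ψ.sheafPullback A J' K' ≅ constantSheaf K' A :=
  ((constantSheafAdj J' A hT).comp (Ψ.sheafAdjunctionContinuous A J' K')).leftAdjointUniq
    ((constantSheafAdj K' A hT').ofNatIsoRight
      (NatIso.ofComponents (fun _ => Iso.refl _) (by
        intro H H' g
        exact (Category.comp_id _).trans (Category.id_comp _).symm)))

end Const

variable {C : Type u} [Category.{v} C] {D : Type u} [Category.{v} D]
  [HasBinaryProducts C] [HasBinaryProducts D] (Φ : C ⥤ D)
  [PreservesLimitsOfShape (Discrete WalkingPair) Φ]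
  (J : GrothendieckTopology C) (K : GrothendieckTopology D)
  (A : Type w) [Category.{max u v} A]
  [Φ.IsContinuous J K] (V : C)
  [(Over.post (X := V) Φ).IsContinuous (J.over V) (K.over (Φ.obj V))]
  [(Φ.sheafPushforwardContinuous A J K).IsRightAdjoint]
  [((Over.post (X := V) Φ).sheafPushforwardContinuous A (J.over V)
    (K.over (Φ.obj V))).IsRightAdjoint]
  [HasWeakSheafify (J.over V) A] [HasWeakSheafify (K.over (Φ.obj V)) A]

lemma isTerminal_post : Nonempty (IsTerminal ((Over.post (X := V) Φ).obj (Over.mk (𝟙 V)))) :=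
  ⟨IsTerminal.ofIso Over.mkIdTerminal (Over.isoMk (Iso.refl _)
    ((Category.id_comp (Φ.map (𝟙 V))).trans (Φ.map_id V)))⟩

/-- If `G|_V` is constant with value `M`, then `(Φ^* G)|_{Φ V}` is constant with value `M`. -/
theorem nonempty_pull_over_iso (G : Sheaf J A) (M : A)
    (α : G.over V ≅ (constantSheaf (J.over V) A).obj M) :
    Nonempty (((Φ.sheafPullback A J K).obj G).over (Φ.obj V) ≅
      (constantSheaf (K.over (Φ.obj V)) A).obj M) := by
  obtain ⟨hT'⟩ := isTerminal_post Φ V
  exact ⟨(pullOverIso Φ J K A V).app G ≪≫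
    ((Over.post (X := V) Φ).sheafPullback A (J.over V) (K.over (Φ.obj V))).mapIso α ≪≫
    (pullConstIso (Over.post (X := V) Φ) (J.over V) (K.over (Φ.obj V)) A
      Over.mkIdTerminal hT').app M⟩

end Groth.Agent.H2.PullOver
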