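import Mathlib
import Groth.Prelude.Def_EtRestW
import Groth.Prelude.Def_EtMod2
import Groth.Agent.Lib.Helper2.PullOverA

set_option autoImplicit false
set_option linter.style.haveILetI false
set_option linter.unusedSectionVars false
universe u
open CategoryTheory CategoryTheory.Limits Opposite AlgebraicGeometry

namespace Groth.Agent.H2.PullOver

variable {X Y : Scheme.{u}} (f : X ⟶ Y) (V : Y.Etale)

instance post_bc_isContinuous :
    (Over.post (X := V) (EtCoh.bc f)).IsContinuous (Y.smallEtaleTopology.over V)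
      (X.smallEtaleTopology.over ((EtCoh.bc f).obj V)) :=
  haveI : RepresentablyFlat (Over.post (X := V) (EtCoh.bc f)) := flat_of_preservesFiniteLimits _
  Functor.isContinuous_of_coverPreserving (compatiblePreservingOfFlat _ _)
    ((EtCoh.coverPreserving_bc f).overPost V)

example : ((Over.post (X := V) (EtCoh.bc f)).sheafPushforwardContinuous AddCommGrpCat.{u + 1}
    (Y.smallEtaleTopology.over V) (X.smallEtaleTopology.over ((EtCoh.bc f).obj V))).IsRightAdjoint :=
  inferInstance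

example (Λ : Type (u + 1)) [CommRing Λ] :
    ((Over.post (X := V) (EtCoh.bc f)).sheafPushforwardContinuous (ModuleCat.{u + 1} Λ)
    (Y.smallEtaleTopology.over V) (X.smallEtaleTopology.over ((EtCoh.bc f).obj V))).IsRightAdjoint :=
  inferInstance

end Groth.Agent.H2.PullOver

namespace Groth.Agent.H2.PullOver

variable {X Y : Scheme.{u}} (f : X ⟶ Y)

set_option backward.isDefEq.respectTransparency.types false in
lemma covers_bc {ι : Type u} (U : ι → Y.Etale) (hU : EtCoh.Covers U) :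
    EtCoh.Covers (fun i => (EtCoh.bc f).obj (U i)) := by
  intro x
  obtain ⟨i, y, hy⟩ := hU (f.base x)
  obtain ⟨z, -, hz⟩ := Scheme.Pullback.exists_preimage_pullback (f := (U i).hom) (g := f) y x hy
  exact ⟨i, z, hz⟩

theorem S6642_main :
    (∀ G : EtCoh.Ab Y, EtRest.IsLocallyConstant G →
      EtRest.IsLocallyConstant ((EtCoh.pull f).obj G)) ∧
    (∀ G : EtCoh.Ab Y, EtCoh.IsFiniteLocallyConstant G →
      EtCoh.IsFiniteLocallyConstant ((EtCoh.pull f).obj G)) ∧
    (∀ (Λ : Type (u + 1)) [CommRing Λ] (G : EtModW.Mod Λ Y),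
      EtModW.IsFTLocConst Λ G → EtModW.IsFTLocConst Λ ((EtModW.pull Λ f).obj G)) := by
  refine ⟨?_, ?_, ?_⟩
  · rintro G ⟨ι, U, hU, h⟩
    refine ⟨ι, fun i => (EtCoh.bc f).obj (U i), covers_bc f U hU, fun i => ?_⟩
    obtain ⟨M, iM, ⟨α⟩⟩ := h i
    exact ⟨M, iM, nonempty_pull_over_iso (EtCoh.bc f) Y.smallEtaleTopology X.smallEtaleTopology
      AddCommGrpCat.{u + 1} (U i) G (AddCommGrpCat.of M) α⟩
  · rintro G ⟨ι, U, hU, h⟩
    refine ⟨ι, fun i => (EtCoh.bc f).obj (U i), covers_bc f U hU, fun i => ?_⟩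
    obtain ⟨M, iM, iM2, ⟨α⟩⟩ := h i
    exact ⟨M, iM, iM2, nonempty_pull_over_iso (EtCoh.bc f) Y.smallEtaleTopology
      X.smallEtaleTopology AddCommGrpCat.{u + 1} (U i) G (AddCommGrpCat.of (ULift.{u + 1} M)) α⟩
  · rintro Λ _ G ⟨ι, U, hU, h⟩
    refine ⟨ι, fun i => (EtCoh.bc f).obj (U i), covers_bc f U hU, fun i => ?_⟩
    obtain ⟨M, iM, iM2, iM3, ⟨α⟩⟩ := h i
    exact ⟨M, iM, iM2, iM3, nonempty_pull_over_iso (EtCoh.bc f) Y.smallEtaleTopology
      X.smallEtaleTopology (ModuleCat.{u + 1} Λ) (U i) G (ModuleCat.of Λ M) α⟩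

end Groth.Agent.H2.PullOver
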