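import Mathlib

set_option autoImplicit false
set_option linter.style.haveILetI false
set_option linter.unusedSectionVars false
universe u

open CategoryTheory CategoryTheory.Limits Opposite AlgebraicGeometry TopologicalSpace

namespace Groth.Agent.H2.Strata

/-- Every locally closed subset `O ∩ Z` is the range of an immersion. -/
lemma exists_immersion_range {X : Scheme.{u}} (O : X.Opens) (Z : Closeds X) :
    ∃ (T : Scheme.{u}) (e : T ⟶ X), IsImmersion e ∧ Set.range e = (O : Set X) ∩ Z := by
  let I := Scheme.IdealSheafData.vanishingIdeal Z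
  refine ⟨pullback O.ι I.subschemeι, pullback.fst _ _ ≫ O.ι, inferInstance, ?_⟩
  rw [Scheme.Pullback.range_fst_comp, Scheme.Opens.range_ι, I.range_subschemeι,
    Scheme.IdealSheafData.coe_support_vanishingIdeal]

/-- A finite cover of an affine open by basic opens mapping into affine opens of the target. -/
lemma exists_basicOpen_cover {X Y : Scheme.{u}} (f : X ⟶ Y) (U : X.Opens) (hU : IsAffineOpen U) :
    ∃ (m : ℕ) (h : Fin m → Γ(X, U)) (V : Fin m → Y.Opens), (∀ k, IsAffineOpen (V k)) ∧
      (∀ k, X.basicOpen (h k) ≤ f ⁻¹ᵁ (V k)) ∧ (⋃ k, (X.basicOpen (h k) : Set X)) = U := by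
  have key : ∀ x : U, ∃ (V : Y.Opens) (h : Γ(X, U)), IsAffineOpen V ∧
      X.basicOpen h ≤ f ⁻¹ᵁ V ∧ x.1 ∈ X.basicOpen h := by
    intro x
    obtain ⟨_, ⟨V, hV : IsAffineOpen V, rfl⟩, hxV, -⟩ :=
      Y.isBasis_affineOpens.exists_subset_of_mem_open (Set.mem_univ (f x.1)) isOpen_univ
    obtain ⟨h, h1, h2⟩ := hU.exists_basicOpen_le (V := f ⁻¹ᵁ V) ⟨x.1, hxV⟩ x.2
    exact ⟨V, h, hV, h1, h2⟩
  choose V h hV hle hmem using key
  obtain ⟨t, ht⟩ := hU.isCompact.elim_finite_subcover (fun x : U => (X.basicOpen (h x) : Set X))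
    (fun x => (X.basicOpen (h x)).isOpen) (fun x hx => Set.mem_iUnion.2 ⟨⟨x, hx⟩, hmem ⟨x, hx⟩⟩)
  let e := t.equivFin
  refine ⟨t.card, fun k => h (e.symm k).1, fun k => V (e.symm k).1, fun k => hV _, fun k => hle _, ?_⟩
  apply Set.Subset.antisymm
  · refine Set.iUnion_subset (fun k => ?_)
    exact X.basicOpen_le _
  · intro x hx
    obtain ⟨y, hy, hxy⟩ := Set.mem_iUnion₂.1 (ht hx)
    refine Set.mem_iUnion.2 ⟨e ⟨y, hy⟩, ?_⟩
    change x ∈ (X.basicOpen (h (e.symm (e ⟨y, hy⟩)).1) : Set X)
    rw [Equiv.symm_apply_apply]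
    exact hxy

end Groth.Agent.H2.Strata

namespace Groth.Agent.H2.Strata

variable {X Y : Scheme.{u}}

lemma quasiSeparatedSpace_of_isAffineOpen {U : X.Opens} (hU : IsAffineOpen U) :
    QuasiSeparatedSpace ↥(U : Set X) := by
  haveI : IsAffine U.toScheme := hU
  exact (inferInstance : QuasiSeparatedSpace U.toScheme)

lemma compactSpace_of_isAffineOpen {U : X.Opens} (hU : IsAffineOpen U) :
    CompactSpace ↥(U : Set X) := isCompact_iff_compactSpace.mp hU.isCompact

/-- A compact open subset of `X` inside the affine open `U` is constructible in `U`. -/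
lemma isConstructible_val_preimage_of_isCompact {U : X.Opens} (hU : IsAffineOpen U)
    (D : X.Opens) (hDU : D ≤ U) (hD : IsCompact (D : Set X)) :
    Topology.IsConstructible ((Subtype.val : ↥(U : Set X) → X) ⁻¹' (D : Set X)) := by
  haveI := quasiSeparatedSpace_of_isAffineOpen hU
  refine IsCompact.isConstructible ?_ (D.isOpen.preimage continuous_subtype_val)
  rw [Subtype.isCompact_iff, Set.image_preimage_eq_inter_range, Subtype.range_coe]
  have : (D : Set X) ∩ (U : Set X) = D := Set.inter_eq_left.2 hDU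
  rw [this]
  exact hD

end Groth.Agent.H2.Strata

namespace Groth.Agent.H2.Strata

variable {X Y : Scheme.{u}}

lemma resLE_val (f : X ⟶ Y) {V : Y.Opens} {D : X.Opens} (hle : D ≤ f ⁻¹ᵁ V) (d : D) :
    ((f.resLE V D hle) d).1 = f d.1 := by
  have h := congrArg (fun g : D.toScheme ⟶ Y => g d) (Scheme.Hom.resLE_comp_ι f hle)
  simp only [Scheme.Hom.comp_apply, Scheme.Opens.ι_apply] at h
  exact h

/-- Preimages of constructible subsets of an affine open of `Y` are constructible in an affine open
of `X` mapping into it through a basic open. -/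
lemma isConstructible_val_preimage_inter (f : X ⟶ Y) {U : X.Opens} (hU : IsAffineOpen U)
    (h : Γ(X, U)) {V : Y.Opens} (hV : IsAffineOpen V) (hle : X.basicOpen h ≤ f ⁻¹ᵁ V)
    (R : Set Y) (hR : Topology.IsConstructible ((Subtype.val : ↥(V : Set Y) → Y) ⁻¹' R)) :
    Topology.IsConstructible ((Subtype.val : ↥(U : Set X) → X) ⁻¹'
      ((X.basicOpen h : Set X) ∩ f ⁻¹' R)) := by
  let D : X.Opens := X.basicOpen h
  have hD : IsAffineOpen D := hU.basicOpen h
  have hDU : D ≤ U := X.basicOpen_le h
  haveI : IsAffine D.toScheme := hD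
  haveI : IsAffine V.toScheme := hV
  haveI := quasiSeparatedSpace_of_isAffineOpen hU
  haveI := compactSpace_of_isAffineOpen hV
  haveI := quasiSeparatedSpace_of_isAffineOpen hD
  let ψ : D.toScheme ⟶ V.toScheme := f.resLE V D hle
  -- constructibility upstairs
  have hA : Topology.IsConstructible ((ψ : ↥(D : Set X) → ↥(V : Set Y)) ⁻¹'
      ((Subtype.val : ↥(V : Set Y) → Y) ⁻¹' R)) := by
    refine Topology.IsConstructible.preimage ψ.continuous (fun s hs hs' => ?_) hR
    have hc : IsCompact s := hs'.isCompact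
    have hc' : IsCompact ((ψ : ↥(D : Set X) → ↥(V : Set Y)) ⁻¹' s) :=
      QuasiCompact.isCompact_preimage (f := ψ) s hs hc
    exact hc'.isRetrocompact (hs.preimage ψ.continuous)
  -- push forward along the open embedding `D → U`
  let j : ↥(D : Set X) → ↥(U : Set X) := Set.inclusion hDU
  have hj : Topology.IsOpenEmbedding j := Opens.isOpenEmbedding_of_le hDU
  have hrange : Set.range j = (Subtype.val : ↥(U : Set X) → X) ⁻¹' (D : Set X) := by
    ext x
    constructor
    · rintro ⟨d, rfl⟩
      exact d.2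
    · intro hx
      exact ⟨⟨x.1, hx⟩, rfl⟩
  have hretro : IsRetrocompact (Set.range j) := by
    rw [hrange]
    refine IsCompact.isRetrocompact ?_ (D.isOpen.preimage continuous_subtype_val)
    rw [Subtype.isCompact_iff, Set.image_preimage_eq_inter_range, Subtype.range_coe]
    have : (D : Set X) ∩ (U : Set X) = D := Set.inter_eq_left.2 hDU
    rw [this]
    exact hD.isCompact
  have himage := hA.image_of_isOpenEmbedding hj hretro
  convert himage using 1
  ext x
  constructor
  · rintro ⟨hxD, hxR⟩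
    refine ⟨⟨x.1, hxD⟩, ?_, rfl⟩
    change (ψ ⟨x.1, hxD⟩).1 ∈ R
    rw [resLE_val]
    exact hxR
  · rintro ⟨d, hd, rfl⟩
    refine ⟨d.2, ?_⟩
    have : (ψ d).1 ∈ R := hd
    rw [resLE_val] at this
    exact this

end Groth.Agent.H2.Strata
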