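import Mathlib
import Groth.Agent.Lib.Helper2.StrataA

set_option autoImplicit false
set_option linter.style.haveILetI false
set_option linter.unusedSectionVars false
universe u

open CategoryTheory CategoryTheory.Limits Opposite AlgebraicGeometry TopologicalSpace

namespace Groth.Agent.H2.Strata

/-- Abstract finite stratification of `S ⊆ X` by immersions satisfying `Q`. -/
def HasStrata {X : Scheme.{u}} (Q : ∀ (T : Scheme.{u}), (T ⟶ X) → Prop) (S : Set X) : Prop :=
  ∃ (n : ℕ) (T : Fin n → Scheme.{u}) (g : ∀ i, T i ⟶ X),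
    (∀ i, IsImmersion (g i)) ∧
    (∀ i, Topology.IsConstructible ((Subtype.val : S → X) ⁻¹' Set.range (g i))) ∧
    Pairwise (fun i j => Disjoint (Set.range (g i)) (Set.range (g j))) ∧
    (⋃ i, Set.range (g i)) = S ∧ ∀ i, Q (T i) (g i)

/-- Strata indexed by a finite type. -/
lemma HasStrata.of_finite {X : Scheme.{u}} {Q : ∀ (T : Scheme.{u}), (T ⟶ X) → Prop} {S : Set X}
    {ι : Type} [Finite ι] (T : ι → Scheme.{u}) (g : ∀ i, T i ⟶ X)
    (h1 : ∀ i, IsImmersion (g i))
    (h2 : ∀ i, Topology.IsConstructible ((Subtype.val : S → X) ⁻¹' Set.range (g i)))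
    (h3 : Pairwise (fun i j => Disjoint (Set.range (g i)) (Set.range (g j))))
    (h4 : (⋃ i, Set.range (g i)) = S) (h5 : ∀ i, Q (T i) (g i)) : HasStrata Q S := by
  obtain ⟨n, ⟨e⟩⟩ := Finite.exists_equiv_fin ι
  refine ⟨n, fun k => T (e.symm k), fun k => g (e.symm k), fun k => h1 _, fun k => h2 _, ?_, ?_,
    fun k => h5 _⟩
  · intro k k' hkk'
    exact h3 (fun h => hkk' (e.symm.injective h))
  · rw [← h4]
    exact e.symm.surjective.iUnion_comp (fun i => Set.range (g i))

end Groth.Agent.H2.Strata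

namespace Groth.Agent.H2.Strata

variable {X Y : Scheme.{u}}

lemma range_snd_comp' {T E : Scheme.{u}} (g : T ⟶ Y) (e : E ⟶ X) (f : X ⟶ Y) :
    Set.range (pullback.snd g (e ≫ f) ≫ e) = Set.range e ∩ f ⁻¹' Set.range g := by
  have h1 : Set.range (pullback.snd g (e ≫ f)) = (e ≫ f) ⁻¹' Set.range g :=
    Scheme.Pullback.range_snd g (e ≫ f)
  ext x
  constructor
  · rintro ⟨z, rfl⟩
    have hz : pullback.snd g (e ≫ f) z ∈ (e ≫ f) ⁻¹' Set.range g := h1 ▸ Set.mem_range_self z
    refine ⟨⟨pullback.snd g (e ≫ f) z, by rw [Scheme.Hom.comp_apply]⟩, ?_⟩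
    rw [Scheme.Hom.comp_apply]
    have : (e ≫ f) (pullback.snd g (e ≫ f) z) ∈ Set.range g := hz
    rwa [Scheme.Hom.comp_apply] at this
  · rintro ⟨⟨t, rfl⟩, ht⟩
    have ht' : t ∈ (e ≫ f) ⁻¹' Set.range g := by
      change (e ≫ f) t ∈ Set.range g
      rw [Scheme.Hom.comp_apply]
      exact ht
    rw [← h1] at ht'
    obtain ⟨z, rfl⟩ := ht'
    exact ⟨z, by rw [Scheme.Hom.comp_apply]⟩

set_option maxHeartbeats 800000 in
/-- Stratifications of the affine opens of `Y` pull back to stratifications of the affine opens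
of `X`. -/
theorem hasStrata_pullback (f : X ⟶ Y) (Q : ∀ (T : Scheme.{u}), (T ⟶ Y) → Prop)
    (Q' : ∀ (T : Scheme.{u}), (T ⟶ X) → Prop)
    (hQ : ∀ (T T' : Scheme.{u}) (g : T ⟶ Y) (g' : T' ⟶ X) (p : T' ⟶ T),
      g' ≫ f = p ≫ g → Q T g → Q' T' g')
    (hY : ∀ V : Y.Opens, IsAffineOpen V → HasStrata Q (V : Set Y))
    (U : X.Opens) (hU : IsAffineOpen U) : HasStrata Q' (U : Set X) := by
  classical
  obtain ⟨m, h, V, hV, hle, hcov⟩ := exists_basicOpen_cover f U hU
  let D : Fin m → X.Opens := fun k => X.basicOpen (h k)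
  have hDU : ∀ k, D k ≤ U := fun k => X.basicOpen_le (h k)
  have hDc : ∀ k, IsCompact (D k : Set X) := fun k => (hU.basicOpen (h k)).isCompact
  -- the closed complement of the earlier opens
  let O : Fin m → X.Opens := fun k => ⨆ k' : {k' : Fin m // k' < k}, D k'.1
  let Zc : Fin m → Closeds X := fun k => ⟨(O k : Set X)ᶜ, (O k).isOpen.isClosed_compl⟩
  have hZc : ∀ k x, x ∈ (Zc k : Set X) ↔ ∀ k' < k, x ∉ (D k' : Set X) := by
    intro k x
    change x ∈ (O k : Set X)ᶜ ↔ _
    simp only [O, Set.mem_compl_iff, SetLike.mem_coe, Opens.mem_iSup, Subtype.exists, not_exists]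
  have hex := fun k => exists_immersion_range (D k) (Zc k)
  choose E e he_imm he_range using hex
  have hmemE : ∀ k x, x ∈ Set.range (e k) ↔ x ∈ (D k : Set X) ∧ ∀ k' < k, x ∉ (D k' : Set X) := by
    intro k x
    rw [he_range, Set.mem_inter_iff, hZc]
  -- strata downstairs
  have hstr := fun k => hY (V k) (hV k)
  choose n T g hgi hgc hgd hgu hgQ using hstr
  -- the strata upstairs
  refine HasStrata.of_finite (ι := Σ k : Fin m, Fin (n k))
    (fun ki => pullback (g ki.1 ki.2) (e ki.1 ≫ f))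
    (fun ki => pullback.snd (g ki.1 ki.2) (e ki.1 ≫ f) ≫ e ki.1) ?_ ?_ ?_ ?_ ?_
  · rintro ⟨k, i⟩
    haveI := hgi k i
    haveI := he_imm k
    infer_instance
  · rintro ⟨k, i⟩
    rw [range_snd_comp', he_range]
    have hset : (Subtype.val : ↥(U : Set X) → X) ⁻¹' ((D k : Set X) ∩ (Zc k : Set X) ∩
        f ⁻¹' Set.range (g k i)) =
        ((⋃ k' : {k' : Fin m // k' < k},
          (Subtype.val : ↥(U : Set X) → X) ⁻¹' (D k'.1 : Set X)))ᶜ ∩
        (Subtype.val : ↥(U : Set X) → X) ⁻¹' ((D k : Set X) ∩ f ⁻¹' Set.range (g k i)) := by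
      ext x
      simp only [Set.mem_preimage, Set.mem_inter_iff, Set.mem_compl_iff, Set.mem_iUnion,
        Subtype.exists, not_exists, hZc]
      constructor
      · rintro ⟨⟨h1, h2⟩, h3⟩
        exact ⟨fun k' hk' hx' => h2 k' hk' hx', h1, h3⟩
      · rintro ⟨h2, h1, h3⟩
        exact ⟨⟨h1, fun k' hk' hx' => h2 k' hk' hx'⟩, h3⟩
    rw [hset]
    refine Topology.IsConstructible.inter (Topology.IsConstructible.compl ?_) ?_
    · exact Topology.IsConstructible.iUnion (fun k' =>
        isConstructible_val_preimage_of_isCompact hU (D k'.1) (hDU _) (hDc _))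
    · exact isConstructible_val_preimage_inter f hU (h k) (hV k) (hle k) _ (hgc k i)
  · rintro ⟨k, i⟩ ⟨k', i'⟩ hne
    simp only [range_snd_comp']
    rw [Set.disjoint_left]
    rintro x ⟨hx1, hx2⟩ ⟨hx1', hx2'⟩
    rw [hmemE] at hx1 hx1'
    have hkk' : k = k' := by
      rcases lt_trichotomy k k' with hlt | heq | hgt
      · exact (hx1'.2 k hlt hx1.1).elim
      · exact heq
      · exact (hx1.2 k' hgt hx1'.1).elim
    subst hkk'
    have hii' : i ≠ i' := fun hi => hne (by rw [hi])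
    exact Set.disjoint_left.1 (hgd k hii') hx2 hx2'
  · apply Set.Subset.antisymm
    · refine Set.iUnion_subset ?_
      rintro ⟨k, i⟩
      rw [range_snd_comp']
      intro x hx
      exact hDU k ((hmemE k x).1 hx.1).1
    · intro x hx
      have hne : {k : Fin m | x ∈ (D k : Set X)}.Nonempty := by
        rw [← hcov] at hx
        obtain ⟨k, hk⟩ := Set.mem_iUnion.1 hx
        exact ⟨k, hk⟩
      obtain ⟨k, hk, hmin⟩ := wellFounded_lt.has_min _ hne
      have hxE : x ∈ Set.range (e k) := (hmemE k x).2 ⟨hk, fun k' hk' hx' => hmin k' hx' hk'⟩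
      have hfx : f x ∈ (V k : Set Y) := hle k hk
      rw [← hgu k] at hfx
      obtain ⟨i, hi⟩ := Set.mem_iUnion.1 hfx
      refine Set.mem_iUnion.2 ⟨⟨k, i⟩, ?_⟩
      rw [range_snd_comp']
      exact ⟨hxE, hi⟩
  · rintro ⟨k, i⟩
    refine hQ _ _ (g k i) _ (pullback.fst (g k i) (e k ≫ f)) ?_ (hgQ k i)
    rw [Category.assoc]
    exact pullback.condition.symm

end Groth.Agent.H2.Strata
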