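import Mathlib
import Groth.Prelude.Def_PBC
import Groth.Agent.Lib.Helper2.StrataB
import Groth.Agent.Lib.Helper2.PullOverB

set_option autoImplicit false
set_option linter.style.haveILetI false
set_option linter.unusedSectionVars false
universe u

open CategoryTheory CategoryTheory.Limits Opposite AlgebraicGeometry TopologicalSpace

namespace Groth.Agent.H2.Strata

lemma isFiniteLocallyConstant_of_iso {X : Scheme.{u}} {F F' : EtCoh.Ab X} (e : F ≅ F')
    (hF : EtCoh.IsFiniteLocallyConstant F) : EtCoh.IsFiniteLocallyConstant F' := by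
  obtain ⟨ι, U, hU, h⟩ := hF
  refine ⟨ι, U, hU, fun i => ?_⟩
  obtain ⟨M, i1, i2, ⟨α⟩⟩ := h i
  exact ⟨M, i1, i2, ⟨(X.smallEtaleTopology.overPullback AddCommGrpCat.{u + 1} (U i)).mapIso
    e.symm ≪≫ α⟩⟩

/-- Inverse images of abelian sheaves compose. -/
noncomputable def pullCompIsoAb {X T Z : Scheme.{u}} (p : Z ⟶ T) (g : T ⟶ X) :
    EtCoh.pull (p ≫ g) ≅ EtCoh.pull g ⋙ EtCoh.pull p :=
  (EtCoh.pullPushAdj (p ≫ g)).leftAdjointUniq
    (((EtCoh.pullPushAdj g).comp (EtCoh.pullPushAdj p)).ofNatIsoRight (EtCoh.pushComp g p))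

lemma isFLC_pull_of_comp {X Y T T' : Scheme.{u}} (f : X ⟶ Y) (g : T ⟶ Y) (g' : T' ⟶ X)
    (p : T' ⟶ T) (w : g' ≫ f = p ≫ g) (F : EtCoh.Ab Y)
    (hF : EtCoh.IsFiniteLocallyConstant ((EtCoh.pull g).obj F)) :
    EtCoh.IsFiniteLocallyConstant ((EtCoh.pull g').obj ((EtCoh.pull f).obj F)) := by
  have h1 : EtCoh.IsFiniteLocallyConstant ((EtCoh.pull p).obj ((EtCoh.pull g).obj F)) :=
    (Groth.Agent.H2.PullOver.S6642_main p).2.1 _ hF
  have h2 : EtCoh.IsFiniteLocallyConstant ((EtCoh.pull (p ≫ g)).obj F) :=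
    isFiniteLocallyConstant_of_iso ((pullCompIsoAb p g).app F).symm h1
  have h3 : EtCoh.IsFiniteLocallyConstant ((EtCoh.pull (g' ≫ f)).obj F) := by
    rw [w]; exact h2
  exact isFiniteLocallyConstant_of_iso ((pullCompIsoAb g' f).app F) h3

theorem S0127_main {X Y : Scheme.{u}} (f : X ⟶ Y) [EtCoh.BCCont f]
    (F : EtCoh.Ab Y) (hF : EtPBC.IsConstructible F) :
    EtPBC.IsConstructible ((EtCoh.pull f).obj F) := by
  intro U hU
  exact hasStrata_pullback f
    (fun T g => ∀ [EtCoh.BCCont g], EtCoh.IsFiniteLocallyConstant ((EtCoh.pull g).obj F))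
    (fun T g => ∀ [EtCoh.BCCont g],
      EtCoh.IsFiniteLocallyConstant ((EtCoh.pull g).obj ((EtCoh.pull f).obj F)))
    (fun T T' g g' p w hQ _ => isFLC_pull_of_comp f g g' p w F hQ)
    (fun V hV => hF V hV) U hU

end Groth.Agent.H2.Strata
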