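import Mathlib

set_option autoImplicit false
set_option linter.style.haveILetI false
set_option linter.unusedSectionVars false
universe w v₁ v₂ u₁ u₂

open CategoryTheory CategoryTheory.Limits Opposite MonoidalCategory

namespace Groth.Agent.H2.LanTens

variable {C : Type u₁} [Category.{v₁} C] {D : Type u₂} [Category.{v₂} D] (L : C ⥤ D)
  {H : Type*} [Category* H] [MonoidalCategory H]

/-- The tensor product of two left extensions. -/
@[simps]
def tensorUnit {P Q : C ⥤ H} {LP LQ : D ⥤ H} (αP : P ⟶ L ⋙ LP) (αQ : Q ⟶ L ⋙ LQ) :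
    (P ⊗ Q : C ⥤ H) ⟶ L ⋙ (LP ⊗ LQ : D ⥤ H) where
  app X := αP.app X ⊗ₘ αQ.app X
  naturality X Y f := by
    have h1 := αP.naturality f
    have h2 := αQ.naturality f
    simp only [Functor.comp_obj, Functor.comp_map] at h1 h2
    change (P.map f ⊗ₘ Q.map f) ≫ (αP.app Y ⊗ₘ αQ.app Y) =
      (αP.app X ⊗ₘ αQ.app X) ≫ (LP.map (L.map f) ⊗ₘ LQ.map (L.map f))
    rw [tensorHom_comp_tensorHom, tensorHom_comp_tensorHom, h1, h2]

variable {L}

/-- The tensor product of two pointwise left Kan extensions along a functor with sifted comma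
categories is a pointwise left Kan extension. -/
noncomputable def isPointwiseTensor {P Q : C ⥤ H} {LP LQ : D ⥤ H}
    (αP : P ⟶ L ⋙ LP) (αQ : Q ⟶ L ⋙ LQ)
    (hP : (Functor.LeftExtension.mk LP αP).IsPointwiseLeftKanExtension)
    (hQ : (Functor.LeftExtension.mk LQ αQ).IsPointwiseLeftKanExtension)
    [∀ Y, IsSifted (CostructuredArrow L Y)]
    [∀ Y, PreservesColimit₂ (CostructuredArrow.proj L Y ⋙ P) (CostructuredArrow.proj L Y ⋙ Q)
      (curriedTensor H)] :
    (Functor.LeftExtension.mk (LP ⊗ LQ : D ⥤ H)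
      (tensorUnit L αP αQ)).IsPointwiseLeftKanExtension := fun Y => by
  refine (IsColimit.equivOfNatIsoOfIso ?_ _ _ ?_).1 (IsColimit.tensor (hP Y) (hQ Y))
  · exact NatIso.ofComponents (fun _ => Iso.refl _) (fun _ => by simp)
  · refine Cocone.ext (Iso.refl _) (fun g => ?_)
    simp
    refine (Category.comp_id _).trans ?_
    change (αP.app g.left ≫ LP.map g.hom ⊗ₘ αQ.app g.left ≫ LQ.map g.hom) =
      (αP.app g.left ⊗ₘ αQ.app g.left) ≫ (LP.map g.hom ⊗ₘ LQ.map g.hom)
    rw [tensorHom_comp_tensorHom]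

variable (L) in
/-- the unit of the left Kan extension with the expected type. -/
noncomputable abbrev lanU [∀ F : C ⥤ H, L.HasLeftKanExtension F] (P : C ⥤ H) :
    P ⟶ L ⋙ L.lan.obj P := L.lanUnit.app P

variable (L) in
/-- Left Kan extension along a functor with sifted comma categories commutes with the pointwise
tensor product. -/
noncomputable def lanTensorIso [∀ F : C ⥤ H, L.HasPointwiseLeftKanExtension F] (P Q : C ⥤ H)
    [∀ Y, IsSifted (CostructuredArrow L Y)]
    [∀ Y, PreservesColimit₂ (CostructuredArrow.proj L Y ⋙ P) (CostructuredArrow.proj L Y ⋙ Q)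
      (curriedTensor H)] :
    L.lan.obj (P ⊗ Q) ≅ (L.lan.obj P ⊗ L.lan.obj Q : D ⥤ H) :=
  haveI : (L.lan.obj P ⊗ L.lan.obj Q : D ⥤ H).IsLeftKanExtension
      (tensorUnit L (lanU L P) (lanU L Q)) :=
    (isPointwiseTensor (lanU L P) (lanU L Q)
      (Functor.isPointwiseLeftKanExtensionOfIsLeftKanExtension _ _)
      (Functor.isPointwiseLeftKanExtensionOfIsLeftKanExtension _ _)).isLeftKanExtension
  Functor.leftKanExtensionUnique (L.lan.obj (P ⊗ Q)) (lanU L (P ⊗ Q))
    (L.lan.obj P ⊗ L.lan.obj Q : D ⥤ H) (tensorUnit L (lanU L P) (lanU L Q))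

end Groth.Agent.H2.LanTens
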