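import Mathlib
import Groth.Prelude.Def_EtModD2

set_option autoImplicit false
set_option linter.style.haveILetI false
set_option linter.unusedSectionVars false
universe u
open CategoryTheory CategoryTheory.Limits Opposite AlgebraicGeometry MonoidalCategory

namespace Groth.Agent.H2.TensLC

variable {C : Type (u + 1)} [Category.{u} C] (J : GrothendieckTopology C)
  (Λ : Type (u + 1)) [CommRing Λ]

instance W_isMonoidal : (J.W (A := ModuleCat.{u + 1} Λ)).IsMonoidal :=
  GrothendieckTopology.W.monoidal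

/-- Tensor product of constant presheaves is the constant presheaf on the tensor product. -/
noncomputable def constTensorIso (M' M'' : ModuleCat.{u + 1} Λ) :
    ((Functor.const Cᵒᵖ).obj M' ⊗ (Functor.const Cᵒᵖ).obj M'' : Cᵒᵖ ⥤ ModuleCat.{u + 1} Λ) ≅
      (Functor.const Cᵒᵖ).obj (M' ⊗ M'') :=
  NatIso.ofComponents (fun _ => Iso.refl _) (by
    intro V V' f
    simp)

/-- Restriction commutes with pointwise tensor products of presheaves. -/
noncomputable def overTensorIso (P Q : Cᵒᵖ ⥤ ModuleCat.{u + 1} Λ) (U : C) :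
    (Over.forget U).op ⋙ (P ⊗ Q) ≅ ((Over.forget U).op ⋙ P) ⊗ ((Over.forget U).op ⋙ Q) :=
  NatIso.ofComponents (fun _ => Iso.refl _) (by
    intro V V' f
    simp)

end Groth.Agent.H2.TensLC

namespace Groth.Agent.H2.TensLC

variable {C : Type (u + 1)} [Category.{u} C] (J : GrothendieckTopology C)
  (Λ : Type (u + 1)) [CommRing Λ]

/-- If `F|_U` and `G|_U` are constant with values `M'`, `M''`, then `(F ⊗ G)|_U` is constant with
value `M' ⊗ M''`. -/
theorem nonempty_tensor_over_iso (F G : Sheaf J (ModuleCat.{u + 1} Λ)) (U : C)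
    (M' M'' : ModuleCat.{u + 1} Λ)
    (α : F.over U ≅ (constantSheaf (J.over U) (ModuleCat.{u + 1} Λ)).obj M')
    (β : G.over U ≅ (constantSheaf (J.over U) (ModuleCat.{u + 1} Λ)).obj M'') :
    Nonempty (((presheafToSheaf J (ModuleCat.{u + 1} Λ)).obj (F.obj ⊗ G.obj)).over U ≅
      (constantSheaf (J.over U) (ModuleCat.{u + 1} Λ)).obj (M' ⊗ M'')) := by
  let A := ModuleCat.{u + 1} Λ
  let e1 := ((Over.forget U).pushforwardContinuousSheafificationCompatibility A
    (J.over U) J).symm.app (F.obj ⊗ G.obj)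
  let η' : (Functor.const (Over U)ᵒᵖ).obj M' ⟶ (F.over U).obj :=
    toSheafify (J.over U) _ ≫ α.inv.hom
  let η'' : (Functor.const (Over U)ᵒᵖ).obj M'' ⟶ (G.over U).obj :=
    toSheafify (J.over U) _ ≫ β.inv.hom
  have hη' : (J.over U).W η' := by
    refine MorphismProperty.comp_mem _ _ _ ((J.over U).W_toSheafify _) ?_
    exact ((J.over U).W_sheafToPresheaf_map_iff_isIso α.inv).2 inferInstance
  have hη'' : (J.over U).W η'' := by
    refine MorphismProperty.comp_mem _ _ _ ((J.over U).W_toSheafify _) ?_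
    exact ((J.over U).W_sheafToPresheaf_map_iff_isIso β.inv).2 inferInstance
  have hw : (J.over U).W (η' ⊗ₘ η'') :=
    MorphismProperty.tensorHom_mem _ η' η'' hη' hη''
  let w : (Functor.const (Over U)ᵒᵖ).obj (M' ⊗ M'') ⟶ (Over.forget U).op ⋙ (F.obj ⊗ G.obj) :=
    (constTensorIso Λ M' M'').inv ≫ (η' ⊗ₘ η'') ≫ (overTensorIso Λ F.obj G.obj U).inv
  have hw' : (J.over U).W w := by
    refine MorphismProperty.comp_mem _ _ _ (ObjectProperty.isLocal_of_isIso _ _) ?_
    exact MorphismProperty.comp_mem _ _ _ hw (ObjectProperty.isLocal_of_isIso _ _)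
  haveI : IsIso ((presheafToSheaf (J.over U) A).map w) := ((J.over U).W_iff w).1 hw'
  exact ⟨e1 ≪≫ (asIso ((presheafToSheaf (J.over U) A).map w)).symm⟩

end Groth.Agent.H2.TensLC
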