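import Mathlib
import Groth.Agent.Lib.Helper2.LanTensA
import Groth.Agent.Lib.Helper2.TensLCA

set_option autoImplicit false
set_option linter.style.haveILetI false
set_option linter.unusedSectionVars false
universe u

open CategoryTheory CategoryTheory.Limits Opposite MonoidalCategory

namespace Groth.Agent.H2.LanTens

variable {C : Type (u + 1)} [Category.{u} C] {D : Type (u + 1)} [Category.{u} D] (Φ : C ⥤ D)
  (J : GrothendieckTopology C) (K : GrothendieckTopology D)
  (Λ : Type (u + 1)) [CommRing Λ]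
  [Φ.IsContinuous J K]

instance isSifted_costructuredArrow [RepresentablyFlat Φ] (Y : Dᵒᵖ) :
    IsSifted (CostructuredArrow Φ.op Y) := IsFiltered.isSifted

/-- Sheafification followed by sheaf pullback is the presheaf left Kan extension followed by
sheafification. -/
noncomputable def sheafifyPullIso :
    presheafToSheaf J (ModuleCat.{u + 1} Λ) ⋙ Φ.sheafPullback (ModuleCat.{u + 1} Λ) J K ≅
      Φ.op.lan ⋙ presheafToSheaf K (ModuleCat.{u + 1} Λ) :=
  ((sheafificationAdjunction J (ModuleCat.{u + 1} Λ)).comp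
      (Φ.sheafAdjunctionContinuous (ModuleCat.{u + 1} Λ) J K)).leftAdjointUniq
    (((Φ.op.lanAdjunction (ModuleCat.{u + 1} Λ)).comp
      (sheafificationAdjunction K (ModuleCat.{u + 1} Λ))).ofNatIsoRight
      (Φ.sheafPushforwardContinuousCompSheafToPresheafIso (ModuleCat.{u + 1} Λ) J K).symm)

/-- `Φ^* F` as the sheafification of the presheaf pullback. -/
noncomputable def pullIsoLan (F : Sheaf J (ModuleCat.{u + 1} Λ)) :
    (Φ.sheafPullback (ModuleCat.{u + 1} Λ) J K).obj F ≅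
      (presheafToSheaf K (ModuleCat.{u + 1} Λ)).obj (Φ.op.lan.obj F.obj) :=
  (Functor.sheafPullbackConstruction.sheafPullbackIso Φ (ModuleCat.{u + 1} Λ) J K).app F

/-- Sheaf pullback along a flat continuous functor commutes with tensor products. -/
theorem nonempty_pull_tensor_iso [RepresentablyFlat Φ] (F G : Sheaf J (ModuleCat.{u + 1} Λ)) :
    Nonempty ((Φ.sheafPullback (ModuleCat.{u + 1} Λ) J K).obj
        ((presheafToSheaf J (ModuleCat.{u + 1} Λ)).obj (F.obj ⊗ G.obj)) ≅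
      (presheafToSheaf K (ModuleCat.{u + 1} Λ)).obj
        (((Φ.sheafPullback (ModuleCat.{u + 1} Λ) J K).obj F).obj ⊗
          ((Φ.sheafPullback (ModuleCat.{u + 1} Λ) J K).obj G).obj)) := by
  let A := ModuleCat.{u + 1} Λ
  let aK := presheafToSheaf K A
  let e1 := (sheafifyPullIso Φ J K Λ).app (F.obj ⊗ G.obj)
  let e2 := aK.mapIso (lanTensorIso Φ.op F.obj G.obj)
  -- W-equivalence `lan F ⊗ lan G → a(lan F) ⊗ a(lan G)`
  let w : (Φ.op.lan.obj F.obj ⊗ Φ.op.lan.obj G.obj : Dᵒᵖ ⥤ A) ⟶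
      ((aK.obj (Φ.op.lan.obj F.obj)).obj ⊗ (aK.obj (Φ.op.lan.obj G.obj)).obj : Dᵒᵖ ⥤ A) :=
    toSheafify K (Φ.op.lan.obj F.obj) ⊗ₘ toSheafify K (Φ.op.lan.obj G.obj)
  have hw : K.W w :=
    MorphismProperty.tensorHom_mem _ _ _ (K.W_toSheafify _) (K.W_toSheafify _)
  haveI : IsIso (aK.map w) := (K.W_iff w).1 hw
  let e3 := asIso (aK.map w)
  let pF := (sheafToPresheaf K A).mapIso (pullIsoLan Φ J K Λ F)
  let pG := (sheafToPresheaf K A).mapIso (pullIsoLan Φ J K Λ G)
  let e4 := aK.mapIso (pF ⊗ᵢ pG)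
  exact ⟨e1 ≪≫ e2 ≪≫ e3 ≪≫ e4.symm⟩

end Groth.Agent.H2.LanTens
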