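import Mathlib

set_option autoImplicit false
universe u
open CategoryTheory Opposite TopologicalSpace

namespace Groth.Agent.H2.LCModel

/-- A "topological realization" of a site: every object has an underlying topological space,
morphisms induce open continuous maps, covering sieves are jointly surjective, fibre products
are surjective onto the set-theoretic fibre products and every open cover can be refined by a
covering sieve.  (Both the small étale site of a scheme and its slices are of this kind.) -/
structure TopReal {C : Type (u + 1)} [Category.{u} C] (J : GrothendieckTopology C) where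
  /-- underlying set of points -/
  pt : C → Type u
  /-- its topology -/
  top : ∀ V, TopologicalSpace (pt V)
  /-- induced maps -/
  map : ∀ {V W : C}, (V ⟶ W) → pt V → pt W
  map_id : ∀ (V : C) (v : pt V), map (𝟙 V) v = v
  map_comp : ∀ {U V W : C} (f : U ⟶ V) (g : V ⟶ W) (x : pt U), map (f ≫ g) x = map g (map f x)
  continuous : ∀ {V W : C} (f : V ⟶ W), Continuous (map f)
  isOpenMap : ∀ {V W : C} (f : V ⟶ W), IsOpenMap (map f)
  exists_mem : ∀ {V : C} (S : Sieve V), S ∈ J V → ∀ v : pt V,
    ∃ (W : C) (f : W ⟶ V) (w : pt W), S f ∧ map f w = v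
  exists_sq : ∀ {V W W' : C} (f : W ⟶ V) (f' : W' ⟶ V) (w : pt W) (w' : pt W'),
    map f w = map f' w' → ∃ (Z : C) (h : Z ⟶ W) (h' : Z ⟶ W') (z : pt Z),
      h ≫ f = h' ≫ f' ∧ map h z = w ∧ map h' z = w'
  exists_refine : ∀ (V : C) (𝒰 : Set (Set (pt V))), (∀ O ∈ 𝒰, IsOpen O) → ⋃₀ 𝒰 = Set.univ →
    ∃ S : Sieve V, S ∈ J V ∧ ∀ {W : C} (f : W ⟶ V), S f → ∃ O ∈ 𝒰, Set.range (map f) ⊆ O

attribute [instance] TopReal.top

variable {C : Type (u + 1)} [Category.{u} C] {J : GrothendieckTopology C} (R : TopReal J)

/-- The continuous map induced by a morphism. -/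
def TopReal.cmap {V W : C} (f : V ⟶ W) : C(R.pt V, R.pt W) := ⟨R.map f, R.continuous f⟩

@[simp] lemma TopReal.cmap_apply {V W : C} (f : V ⟶ W) (v : R.pt V) : R.cmap f v = R.map f v := rfl

/-- The presheaf of locally constant functions with values in a set `M`. -/
def lcSet (M : Type (u + 1)) : Cᵒᵖ ⥤ Type (u + 1) where
  obj V := LocallyConstant (R.pt V.unop) M
  map f := TypeCat.ofHom (fun g => LocallyConstant.comap (R.cmap f.unop) g)
  map_id V := by
    ext g v
    change g (R.map (𝟙 _) v) = g v
    rw [R.map_id]
  map_comp f g := by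
    ext s v
    change s (R.map (g.unop ≫ f.unop) v) = s (R.map f.unop (R.map g.unop v))
    rw [R.map_comp]

/-- View a section of `lcSet` as a locally constant function. -/
def toLC {M : Type (u + 1)} {V : C} (s : (lcSet R M).obj (op V)) : LocallyConstant (R.pt V) M := s

/-- View a locally constant function as a section of `lcSet`. -/
def ofLC {M : Type (u + 1)} {V : C} (s : LocallyConstant (R.pt V) M) : (lcSet R M).obj (op V) := s

lemma toLC_injective {M : Type (u + 1)} {V : C} :
    Function.Injective (toLC R (M := M) (V := V)) := fun _ _ h => h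

@[simp] lemma toLC_ofLC {M : Type (u + 1)} {V : C} (s : LocallyConstant (R.pt V) M) :
    toLC R (ofLC R s) = s := rfl

lemma toLC_map {M : Type (u + 1)} {V W : C} (f : V ⟶ W)
    (s : (lcSet R M).obj (op W)) (v : R.pt V) :
    toLC R ((lcSet R M).map f.op s) v = toLC R s (R.map f v) := rfl

/-- If the realization of `V` is empty, the empty sieve covers `V`. -/
lemma bot_mem_of_isEmpty (V : C) [IsEmpty (R.pt V)] : (⊥ : Sieve V) ∈ J V := by
  obtain ⟨S, hS, h⟩ := R.exists_refine V ∅ (by simp) (by
    ext v; exact (IsEmpty.false v).elim)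
  have : S = ⊥ := by
    ext W f
    constructor
    · intro hf
      obtain ⟨O, hO, -⟩ := h f hf
      exact (Set.notMem_empty O hO).elim
    · intro hf; exact hf.elim
  rwa [this] at hS

/-- The presheaf of locally constant functions is a sheaf. -/
theorem isSheaf_lcSet (M : Type (u + 1)) : Presieve.IsSheaf J (lcSet R M) := by
  intro V S hS x hx
  -- choose data
  have hch := R.exists_mem S hS
  choose W f w hf hw using hch
  let g : R.pt V → M := fun v => toLC R (x (f v) (hf v)) (w v)
  have key : ∀ (W' : C) (f' : W' ⟶ V) (hf' : S f') (w' : R.pt W'),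
      g (R.map f' w') = toLC R (x f' hf') w' := by
    intro W' f' hf' w'
    obtain ⟨Z, h, h', z, hsq, hz, hz'⟩ :=
      R.exists_sq (f (R.map f' w')) f' (w (R.map f' w')) w' (hw _)
    have hc := hx h h' (hf (R.map f' w')) hf' hsq
    have hc' := congrArg (fun s => toLC R s z) hc
    simp only [toLC_map] at hc'
    rw [hz, hz'] at hc'
    exact hc'
  have hlc : IsLocallyConstant g := by
    rw [IsLocallyConstant.iff_exists_open]
    intro v
    obtain ⟨N, hN, hwN, hconst⟩ := (IsLocallyConstant.iff_exists_open _).1
      (toLC R (x (f v) (hf v))).isLocallyConstant (w v)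
    refine ⟨R.map (f v) '' N, R.isOpenMap (f v) N hN, ⟨w v, hwN, hw v⟩, ?_⟩
    rintro _ ⟨w', hw', rfl⟩
    have e1 : g (R.map (f v) w') = toLC R (x (f v) (hf v)) w' := key _ (f v) (hf v) w'
    have e2 : toLC R (x (f v) (hf v)) w' = toLC R (x (f v) (hf v)) (w v) := hconst w' hw'
    have e3 : g (R.map (f v) (w v)) = toLC R (x (f v) (hf v)) (w v) := key _ (f v) (hf v) (w v)
    have e4 : g (R.map (f v) (w v)) = g v := congrArg g (hw v)
    exact e1.trans (e2.trans (e3.symm.trans e4))
  refine ⟨ofLC R ⟨g, hlc⟩, ?_, ?_⟩
  · intro W' f' hf'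
    apply toLC_injective R
    apply LocallyConstant.ext
    intro w'
    rw [toLC_map]
    exact key W' f' hf' w'
  · intro t ht
    apply toLC_injective R
    apply LocallyConstant.ext
    intro v
    have h1 := congrArg (fun s => toLC R s (w v)) (ht (f v) (hf v))
    simp only [toLC_map] at h1
    rw [hw v] at h1
    exact h1

end Groth.Agent.H2.LCModel
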