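import Mathlib
import Groth.Agent.Lib.Helper2.LCModelA

set_option autoImplicit false
set_option linter.style.haveILetI false
set_option linter.unusedSectionVars false
universe u
open CategoryTheory Opposite TopologicalSpace

namespace Groth.Agent.H2.LCModel

variable {C : Type (u + 1)} [Category.{u} C] {J : GrothendieckTopology C} (R : TopReal J)
variable {𝒜 : Type (u + 2)} [Category.{u + 1} 𝒜] {FA : 𝒜 → 𝒜 → Type (u + 1)}
  {CA : 𝒜 → Type (u + 1)} [∀ X Y, FunLike (FA X Y) (CA X) (CA Y)] [ConcreteCategory 𝒜 FA]

/-- A presheaf `L` with values in a concrete category whose sections are the locally constant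
functions with values in `M`, together with the map from the constant presheaf. -/
structure LCData (M : 𝒜) where
  /-- the presheaf -/
  L : Cᵒᵖ ⥤ 𝒜
  /-- constant functions -/
  φ : (Functor.const Cᵒᵖ).obj M ⟶ L
  /-- sections are locally constant functions -/
  ev : ∀ V : C, ToType (L.obj (op V)) → LocallyConstant (R.pt V) (ToType M)
  ev_bij : ∀ V : C, Function.Bijective (ev V)
  ev_map : ∀ {V W : C} (f : V ⟶ W) (s : ToType (L.obj (op W))) (v : R.pt V),
    ev V (L.map f.op s) v = ev W s (R.map f v)
  ev_φ : ∀ (V : C) (m : ToType M) (v : R.pt V), ev V (φ.app (op V) m) v = m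

variable {R} {M : 𝒜} (D : LCData R M)

/-- The underlying presheaf of sets is the presheaf of locally constant functions. -/
noncomputable def LCData.forgetIso : D.L ⋙ forget 𝒜 ≅ lcSet R (ToType M) :=
  NatIso.ofComponents (fun V => (Equiv.ofBijective (D.ev V.unop) (D.ev_bij V.unop)).toIso)
    (by
      intro V W f
      ext s
      apply toLC_injective R
      apply LocallyConstant.ext
      intro v
      exact D.ev_map f.unop s v)

theorem LCData.isSheaf [Limits.HasLimits 𝒜] [Limits.PreservesLimits (forget 𝒜)]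
    [(forget 𝒜).ReflectsIsomorphisms] : Presheaf.IsSheaf J D.L := by
  rw [Presheaf.isSheaf_iff_isSheaf_forget J D.L (forget 𝒜), isSheaf_iff_isSheaf_of_type]
  exact Presieve.isSheaf_iso J D.forgetIso.symm (isSheaf_lcSet R (ToType M))

instance LCData.isLocallyInjective : Presheaf.IsLocallyInjective J D.φ where
  equalizerSieve_mem {V} x y h := by
    by_cases hV : Nonempty (R.pt V.unop)
    · obtain ⟨v⟩ := hV
      have h1 := congrArg (fun s => D.ev V.unop s v) h
      simp only [D.ev_φ] at h1
      have : x = y := h1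
      rw [this, Presheaf.equalizerSieve_self_eq_top]
      exact J.top_mem _
    · haveI : IsEmpty (R.pt V.unop) := not_nonempty_iff.1 hV
      exact J.superset_covering bot_le (bot_mem_of_isEmpty R V.unop)

instance LCData.isLocallySurjective : Presheaf.IsLocallySurjective J D.φ where
  imageSieve_mem {V} s := by
    obtain ⟨S, hS, h⟩ := R.exists_refine V (Set.range fun m : ToType M => D.ev V s ⁻¹' {m})
      (by
        rintro _ ⟨m, rfl⟩
        exact (D.ev V s).isLocallyConstant.isOpen_fiber m)
      (by
        ext v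
        simp only [Set.mem_sUnion, Set.mem_range, exists_exists_eq_and, Set.mem_preimage,
          Set.mem_singleton_iff, exists_eq', Set.mem_univ])
    refine J.superset_covering ?_ hS
    intro W f hf
    obtain ⟨_, ⟨m, rfl⟩, hO⟩ := h f hf
    refine ⟨m, ?_⟩
    apply (D.ev_bij W).1
    apply LocallyConstant.ext
    intro w
    rw [D.ev_φ, D.ev_map]
    exact (hO ⟨w, rfl⟩).symm

end Groth.Agent.H2.LCModel

namespace Groth.Agent.H2.LCModel

variable {C : Type (u + 1)} [Category.{u} C] {J : GrothendieckTopology C} {R : TopReal J}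
variable {𝒜 : Type (u + 2)} [Category.{u + 1} 𝒜] {FA : 𝒜 → 𝒜 → Type (u + 1)}
  {CA : 𝒜 → Type (u + 1)} [∀ X Y, FunLike (FA X Y) (CA X) (CA Y)] [ConcreteCategory 𝒜 FA]
  [Limits.HasLimits 𝒜] [Limits.PreservesLimits (forget 𝒜)] [(forget 𝒜).ReflectsIsomorphisms]
  [HasWeakSheafify J 𝒜] [J.WEqualsLocallyBijective 𝒜]
variable {M : 𝒜} (D : LCData R M)

/-- The sheaf of locally constant functions. -/
noncomputable abbrev LCData.sheaf : Sheaf J 𝒜 := ⟨D.L, D.isSheaf⟩

/-- The comparison map from the constant sheaf. -/
noncomputable def LCData.toSheaf : (constantSheaf J 𝒜).obj M ⟶ D.sheaf :=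
  ((sheafificationAdjunction J 𝒜).homEquiv _ _).symm D.φ

lemma LCData.toSheafify_toSheaf :
    toSheafify J ((Functor.const Cᵒᵖ).obj M) ≫ D.toSheaf.hom = D.φ := by
  have h := ((sheafificationAdjunction J 𝒜).homEquiv ((Functor.const Cᵒᵖ).obj M)
    D.sheaf).apply_symm_apply D.φ
  rw [Adjunction.homEquiv_unit] at h
  exact h

instance LCData.isIso_toSheaf : IsIso D.toSheaf := by
  have hW : J.W D.φ := J.W_of_isLocallyBijective D.φ
  rw [J.W_iff] at hW
  have e : D.toSheaf = (presheafToSheaf J 𝒜).map D.φ ≫
      (sheafificationAdjunction J 𝒜).counit.app D.sheaf := by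
    unfold LCData.toSheaf
    rw [Adjunction.homEquiv_counit]
  rw [e]
  have h2 : IsIso ((sheafificationAdjunction J 𝒜).counit.app D.sheaf) := inferInstance
  exact @IsIso.comp_isIso _ _ _ _ _ _ _ hW h2

/-- The constant sheaf is the sheaf of locally constant functions. -/
noncomputable def LCData.iso : (constantSheaf J 𝒜).obj M ≅ D.sheaf := asIso D.toSheaf

end Groth.Agent.H2.LCModel
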