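import Mathlib
import Groth.Agent.Lib.Helper2.LCModelB

set_option autoImplicit false
set_option linter.style.haveILetI false
set_option linter.unusedSectionVars false
universe u
open CategoryTheory Opposite TopologicalSpace

namespace Groth.Agent.H2.LCModel

section generic

variable {C : Type (u + 1)} [Category.{u} C] {J : GrothendieckTopology C} {R : TopReal J}
variable {𝒜 : Type (u + 2)} [Category.{u + 1} 𝒜] {FA : 𝒜 → 𝒜 → Type (u + 1)}
  {CA : 𝒜 → Type (u + 1)} [∀ X Y, FunLike (FA X Y) (CA X) (CA Y)] [ConcreteCategory 𝒜 FA]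
  [Limits.HasLimits 𝒜] [Limits.PreservesLimits (forget 𝒜)] [(forget 𝒜).ReflectsIsomorphisms]
  [HasWeakSheafify J 𝒜] [J.WEqualsLocallyBijective 𝒜]

/-- Naturality of the comparison map in the value object. -/
theorem toSheaf_naturality {M N : 𝒜} (DM : LCData R M) (DN : LCData R N) (h : M ⟶ N)
    (ψ : DM.L ⟶ DN.L) (hψ : DM.φ ≫ ψ = (Functor.const Cᵒᵖ).map h ≫ DN.φ) :
    (constantSheaf J 𝒜).map h ≫ DN.toSheaf = DM.toSheaf ≫ (⟨ψ⟩ : DM.sheaf ⟶ DN.sheaf) := by
  apply Sheaf.hom_ext
  refine sheafify_hom_ext J _ _ DN.isSheaf ?_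
  have e1 : toSheafify J ((Functor.const Cᵒᵖ).obj M) ≫
      ((constantSheaf J 𝒜).map h ≫ DN.toSheaf).hom = (Functor.const Cᵒᵖ).map h ≫ DN.φ := by
    have h1 : ((constantSheaf J 𝒜).map h ≫ DN.toSheaf).hom =
        sheafifyMap J ((Functor.const Cᵒᵖ).map h) ≫ DN.toSheaf.hom := rfl
    rw [h1]
    exact ((toSheafify_naturality_assoc J ((Functor.const Cᵒᵖ).map h) DN.toSheaf.hom).symm).trans
      (congrArg (fun t => (Functor.const Cᵒᵖ).map h ≫ t) DN.toSheafify_toSheaf)
  have e2 : toSheafify J ((Functor.const Cᵒᵖ).obj M) ≫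
      (DM.toSheaf ≫ (⟨ψ⟩ : DM.sheaf ⟶ DN.sheaf)).hom = DM.φ ≫ ψ := by
    have h1 : (DM.toSheaf ≫ (⟨ψ⟩ : DM.sheaf ⟶ DN.sheaf)).hom = DM.toSheaf.hom ≫ ψ := rfl
    rw [h1]
    exact (Category.assoc _ _ _).symm.trans (congrArg (fun t => t ≫ ψ) DM.toSheafify_toSheaf)
  exact e1.trans (hψ.symm.trans e2.symm)

end generic

section modules

variable {C : Type (u + 1)} [Category.{u} C] {J : GrothendieckTopology C} (R : TopReal J)
variable (Λ : Type (u + 1)) [CommRing Λ]

/-- The presheaf of modules of locally constant functions. -/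
noncomputable def lcModPre (M : ModuleCat.{u + 1} Λ) : Cᵒᵖ ⥤ ModuleCat.{u + 1} Λ where
  obj V := ModuleCat.of Λ (LocallyConstant (R.pt V.unop) M)
  map f := ModuleCat.ofHom (LocallyConstant.comapₗ Λ (R.cmap f.unop))
  map_id V := by
    ext g v
    change g (R.map (𝟙 _) v) = g v
    rw [R.map_id]
  map_comp f g := by
    ext s v
    change s (R.map (g.unop ≫ f.unop) v) = s (R.map f.unop (R.map g.unop v))
    rw [R.map_comp]

/-- The locally-constant-function model of the constant sheaf of modules. -/
noncomputable def lcMod (M : ModuleCat.{u + 1} Λ) : LCData R M where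
  L := lcModPre R Λ M
  φ :=
    { app := fun V => ModuleCat.ofHom (LocallyConstant.constₗ Λ)
      naturality := by
        intro V W f
        ext m v
        rfl }
  ev V s := s
  ev_bij V := Function.bijective_id
  ev_map f s v := rfl
  ev_φ V m v := rfl

/-- Postcomposition with a linear map. -/
noncomputable def lcModMap {M N : ModuleCat.{u + 1} Λ} (h : M ⟶ N) :
    lcModPre R Λ M ⟶ lcModPre R Λ N where
  app V := ModuleCat.ofHom (LocallyConstant.mapₗ Λ h.hom)
  naturality := by
    intro V W f
    ext s v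
    rfl

lemma lcModMap_app {M N : ModuleCat.{u + 1} Λ} (h : M ⟶ N) (V : C) :
    (lcModMap R Λ h).app (op V) = ModuleCat.ofHom (LocallyConstant.mapₗ Λ h.hom) := rfl

end modules

section groups

variable {C : Type (u + 1)} [Category.{u} C] {J : GrothendieckTopology C} (R : TopReal J)

/-- The presheaf of abelian groups of locally constant functions. -/
noncomputable def lcAbPre (M : AddCommGrpCat.{u + 1}) : Cᵒᵖ ⥤ AddCommGrpCat.{u + 1} where
  obj V := AddCommGrpCat.of (LocallyConstant (R.pt V.unop) M)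
  map f := AddCommGrpCat.ofHom (LocallyConstant.comapAddMonoidHom (R.cmap f.unop))
  map_id V := by
    ext g v
    change g (R.map (𝟙 _) v) = g v
    rw [R.map_id]
  map_comp f g := by
    ext s v
    change s (R.map (g.unop ≫ f.unop) v) = s (R.map f.unop (R.map g.unop v))
    rw [R.map_comp]

/-- The locally-constant-function model of the constant abelian sheaf. -/
noncomputable def lcAb (M : AddCommGrpCat.{u + 1}) : LCData R M where
  L := lcAbPre R M
  φ :=
    { app := fun V => AddCommGrpCat.ofHom LocallyConstant.constAddMonoidHom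
      naturality := by
        intro V W f
        ext m v
        rfl }
  ev V s := s
  ev_bij V := Function.bijective_id
  ev_map f s v := rfl
  ev_φ V m v := rfl

/-- Postcomposition with a group homomorphism. -/
noncomputable def lcAbMap {M N : AddCommGrpCat.{u + 1}} (h : M ⟶ N) :
    lcAbPre R M ⟶ lcAbPre R N where
  app V := AddCommGrpCat.ofHom (LocallyConstant.mapAddMonoidHom h.hom)
  naturality := by
    intro V W f
    ext s v
    rfl

lemma lcAbMap_app {M N : AddCommGrpCat.{u + 1}} (h : M ⟶ N) (V : C) :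
    (lcAbMap R h).app (op V) = AddCommGrpCat.ofHom (LocallyConstant.mapAddMonoidHom h.hom) := rfl

end groups

end Groth.Agent.H2.LCModel
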