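import Mathlib
import Groth.Prelude.Def_MoreMor

set_option autoImplicit false
set_option linter.style.haveILetI false
universe u
open CategoryTheory CategoryTheory.Limits AlgebraicGeometry MorphismProperty TopologicalSpace

namespace Groth.Agent.H2.GeomCount

/-- The number of primes of a finite étale algebra over a separably closed field is its
dimension. -/
theorem card_primeSpectrum_of_finite_etale (K B : Type u) [Field K] [IsSepClosed K] [CommRing B]
    [Algebra K B] [Module.Finite K B] [Algebra.Etale K B] :
    ENat.card (PrimeSpectrum B) = Module.finrank K B := by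
  haveI : Algebra.IsFiniteSplit K B := inferInstance
  obtain ⟨n, ⟨e⟩⟩ := Algebra.IsFiniteSplit.nonempty_algEquiv_fun K B
  have h1 : Module.finrank K B = n := by
    rw [LinearEquiv.finrank_eq e.toLinearEquiv, Module.finrank_fin_fun]
  let E : PrimeSpectrum B ≃ (Σ _ : Fin n, PrimeSpectrum K) :=
    (PrimeSpectrum.comapEquiv e.toRingEquiv).toEquiv.trans (Equiv.ofBijective _
      (PrimeSpectrum.sigmaToPi_bijective (fun _ : Fin n => K))).symm
  haveI : Finite (PrimeSpectrum B) := Finite.of_equiv _ E.symm
  rw [ENat.card_eq_coe_natCard, h1, Nat.card_congr E, Nat.card_sigma]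
  simp

/-- The number of points of a finite étale scheme over a separably closed field is its rank. -/
theorem card_of_finite_etale_sepClosed (K : Type u) [Field K] [IsSepClosed K] {Z : Scheme.{u}}
    (h : Z ⟶ Spec (CommRingCat.of K)) [IsFinite h] [Etale h] (pt : Spec (CommRingCat.of K)) :
    ENat.card Z = h.finrank pt := by
  haveI : IsAffine Z := isAffine_of_isAffineHom h
  let ψ : CommRingCat.of K ⟶ Γ(Z, ⊤) := (Scheme.ΓSpecIso (CommRingCat.of K)).inv ≫ h.appTop
  have hψ : Z.isoSpec.inv ≫ h = Spec.map ψ := by
    rw [← Scheme.isoSpec_inv_naturality, Scheme.isoSpec_Spec_inv, ← Spec.map_comp]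
  haveI : IsFinite (Spec.map ψ) := by rw [← hψ]; infer_instance
  haveI : Etale (Spec.map ψ) := by rw [← hψ]; infer_instance
  have hfin : ψ.hom.Finite := (IsFinite.SpecMap_iff ψ).mp inferInstance
  have het : ψ.hom.Etale := (HasRingHomProperty.Spec_iff (P := @Etale)).mp inferInstance
  algebraize [ψ.hom]
  have h1 : h.finrank pt = (Spec.map ψ).finrank pt := by
    rw [← hψ, Scheme.Hom.finrank_comp_left_of_isIso]
  have h2 : (Spec.map ψ).finrank pt = Module.rankAtStalk (R := K) Γ(Z, ⊤) pt :=
    Scheme.Hom.finrank_SpecMap_algebraMap K Γ(Z, ⊤) pt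
  have h3 : Module.rankAtStalk (R := K) Γ(Z, ⊤) pt = Module.finrank K Γ(Z, ⊤) := by
    rw [Module.rankAtStalk_eq_finrank_of_free]; rfl
  rw [h1, h2, h3, ← card_primeSpectrum_of_finite_etale K Γ(Z, ⊤)]
  exact ENat.card_congr Z.isoSpec.hom.homeomorph.toEquiv

/-- The number of geometric points of a fibre of a finite étale morphism is its rank. -/
theorem card_geomFiber_of_finite_etale {X Y : Scheme.{u}} (g : X ⟶ Y) [IsFinite g] [Etale g]
    (y : Y) : ENat.card ↥(MoreMor.geomFiber g y) = g.finrank y := by
  haveI : IsFinite (g.fiberToSpecResidueField y) := by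
    unfold Scheme.Hom.fiberToSpecResidueField
    exact MorphismProperty.pullback_snd (P := @IsFinite) g _ inferInstance
  haveI : Etale (g.fiberToSpecResidueField y) := by
    unfold Scheme.Hom.fiberToSpecResidueField
    exact MorphismProperty.pullback_snd (P := @Etale) g _ inferInstance
  let pt : Spec (CommRingCat.of (SeparableClosure (Y.residueField y))) :=
    (⊥ : PrimeSpectrum (SeparableClosure (Y.residueField y)))
  have key := card_of_finite_etale_sepClosed (SeparableClosure (Y.residueField y))
    (pullback.snd (g.fiberToSpecResidueField y) (Spec.map (CommRingCat.ofHom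
      (algebraMap (Y.residueField y) (SeparableClosure (Y.residueField y)))))) pt
  refine (show ENat.card ↥(MoreMor.geomFiber g y) = _ from key).trans ?_
  rw [Scheme.Hom.finrank_pullback_snd]
  congr 1
  have hpb : IsPullback (g.fiberι y) (g.fiberToSpecResidueField y) g
      (Y.fromSpecResidueField y) := IsPullback.of_hasPullback _ _
  rw [Scheme.Hom.finrank_of_isPullback _ _ _ _ hpb]
  congr 1
  have hz : ∀ z : Spec (Y.residueField y), Y.fromSpecResidueField y z = y := by
    intro z
    have : z = IsLocalRing.closedPoint (Y.residueField y) :=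
      Subsingleton.elim (α := PrimeSpectrum (Y.residueField y)) _ _
    rw [this, Scheme.fromSpecResidueField_apply]
  exact hz _

end Groth.Agent.H2.GeomCount
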