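import Mathlib
import Groth.Prelude.Def_MoreMor
import Groth.Agent.Lib.Helper2.GeomCountA
import Groth.Agent.Lib.Helper6.GN

set_option autoImplicit false
set_option linter.style.haveILetI false
universe u
open CategoryTheory CategoryTheory.Limits AlgebraicGeometry MorphismProperty TopologicalSpace

namespace Groth.Agent.H2.GeomCount

theorem locallyQuasiFinite_of_etale' {X Y : Scheme.{u}} (g : X ⟶ Y) [Etale g] :
    LocallyQuasiFinite g := Groth.Agent.H5.AlgSp.locallyQuasiFinite_of_etale g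

/-- constant geometric fibre cardinality near `y` gives finiteness near `y` -/
theorem finite_nhd_of_const {X Y : Scheme.{u}} (f : X ⟶ Y) [Etale f] [IsSeparated f]
    [LocallyOfFiniteType f] [QuasiCompact f] (y : Y)
    (h : ∃ U : Y.Opens, y ∈ U ∧ ∀ y' : Y, y' ∈ U →
      ENat.card ↥(MoreMor.geomFiber f y') = ENat.card ↥(MoreMor.geomFiber f y)) :
    ∃ U : Y.Opens, y ∈ U ∧ IsFinite (f ∣_ U) := by
  haveI : LocallyQuasiFinite f := locallyQuasiFinite_of_etale' f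
  obtain ⟨U, hyU, hU⟩ := h
  have h2 := (Groth.Agent.H1.GeomNum.s3418 f).2 y ⟨U, U.2.mem_nhds hyU, fun z hz => by
    rw [← Groth.Agent.H6.GN.card_geomFiber_eq, ← Groth.Agent.H6.GN.card_geomFiber_eq]
    exact hU z hz⟩
  obtain ⟨U', hyU', hprop⟩ := h2
  haveI := hprop
  haveI : LocallyQuasiFinite (f ∣_ U') := IsZariskiLocalAtTarget.restrict ‹LocallyQuasiFinite f› U'
  exact ⟨U', hyU', IsFinite.of_isProper_of_locallyQuasiFinite _⟩

theorem s5052 {X Y : Scheme.{u}} (f : X ⟶ Y) [Etale f] [IsSeparated f]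
    [LocallyOfFiniteType f] [QuasiCompact f] (y : Y) :
    (∃ U : Y.Opens, y ∈ U ∧ ∀ y' : Y, y' ∈ U →
      ENat.card ↥(MoreMor.geomFiber f y') = ENat.card ↥(MoreMor.geomFiber f y)) ↔
      ∃ U : Y.Opens, y ∈ U ∧ IsFinite (f ∣_ U) := by
  haveI : LocallyQuasiFinite f := locallyQuasiFinite_of_etale' f
  refine ⟨finite_nhd_of_const f y, ?_⟩
  rintro ⟨U, hyU, hfin⟩
  haveI := hfin
  haveI : Etale (f ∣_ U) := IsZariskiLocalAtTarget.restrict ‹Etale f› U
  haveI : LocallyQuasiFinite (f ∣_ U) := locallyQuasiFinite_of_etale' _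
  have hpb : IsPullback (f ⁻¹ᵁ U).ι (f ∣_ U) f U.ι := (isPullback_morphismRestrict f U).flip
  have hcount : ∀ w : ↥U, ENat.card ↥(MoreMor.geomFiber f (U.ι w)) = (f ∣_ U).finrank w := by
    intro w
    rw [Groth.Agent.H6.GN.card_geomFiber_eq,
      ← Groth.Agent.H3.GeomFibBC.nGeomConnComp_baseChange f (f ∣_ U) (f ⁻¹ᵁ U).ι U.ι hpb w,
      ← Groth.Agent.H6.GN.card_geomFiber_eq, card_geomFiber_of_finite_etale]
  have hlc := Scheme.Hom.isLocallyConstant_finrank (f ∣_ U)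
  let y₀ : ↥U := ⟨y, hyU⟩
  have hopen : IsOpen ((f ∣_ U).finrank ⁻¹' {(f ∣_ U).finrank y₀}) := hlc.isOpen_fiber _
  let W : (U : Scheme.{u}).Opens := ⟨_, hopen⟩
  refine ⟨U.ι ''ᵁ W, ⟨y₀, rfl, rfl⟩, ?_⟩
  rintro _ ⟨w, hw, rfl⟩
  have e1 := hcount w
  have e2 := hcount y₀
  have e3 : U.ι y₀ = y := rfl
  rw [e3] at e2
  refine e1.trans (Eq.trans ?_ e2.symm)
  exact congrArg _ hw

theorem s5053 {X Y : Scheme.{u}} [ConnectedSpace ↥Y] (f : X ⟶ Y)
    [Etale f] [IsSeparated f] [LocallyOfFiniteType f] [QuasiCompact f] :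
    IsFinite f ↔ ∃ n : ℕ∞, ∀ y : Y, ENat.card ↥(MoreMor.geomFiber f y) = n := by
  haveI : LocallyQuasiFinite f := locallyQuasiFinite_of_etale' f
  constructor
  · intro hfin
    have hlc := Scheme.Hom.isLocallyConstant_finrank f
    obtain ⟨y₀⟩ : Nonempty ↥Y := inferInstance
    refine ⟨(f.finrank y₀ : ℕ), fun y => ?_⟩
    rw [card_geomFiber_of_finite_etale, hlc.apply_eq_of_preconnectedSpace y y₀]
  · rintro ⟨n, hn⟩
    haveI : IsProper f := by
      refine IsZariskiLocalAtTarget.of_forall_exists_morphismRestrict (P := @IsProper) fun y => ?_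
      obtain ⟨U, hyU, hU⟩ := finite_nhd_of_const f y ⟨⊤, trivial, fun y' _ => by rw [hn, hn]⟩
      exact ⟨U, hyU, inferInstance⟩
    exact IsFinite.of_isProper_of_locallyQuasiFinite f

end Groth.Agent.H2.GeomCount
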