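import Mathlib
import Groth.Prelude.Def_MoreMor
import Groth.Prelude.Def_BigSite
import Groth.Agent.Lib.Helper2.GeomCountB
import Groth.Agent.Lib.Helper1.WtSplit

set_option autoImplicit false
set_option linter.style.haveILetI false
universe u
open CategoryTheory CategoryTheory.Limits AlgebraicGeometry MorphismProperty TopologicalSpace

namespace Groth.Agent.H2.PropA

theorem pi_of_comp_right {K E L : Type u} [Field K] [Field E] [Field L] (α : K →+* E)
    (β : E →+* L) (h : (β.comp α).IsPurelyInseparable) : β.IsPurelyInseparable := by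
  letI := (β.comp α).toAlgebra
  have h' : IsPurelyInseparable K L := h
  let q := ringExpChar K
  haveI : ExpChar K q := ringExpChar.expChar K
  haveI : ExpChar E q := expChar_of_injective_ringHom α.injective q
  letI := β.toAlgebra
  change IsPurelyInseparable E L
  rw [isPurelyInseparable_iff_pow_mem E q]
  intro x
  obtain ⟨n, k, hk⟩ := (isPurelyInseparable_iff_pow_mem K q).mp h' x
  exact ⟨n, α k, hk⟩

theorem pi_comp_bijective {K E L : Type u} [Field K] [Field E] [Field L] (α : K →+* E)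
    (β : E →+* L) (hβ : Function.Bijective β) (h : α.IsPurelyInseparable) :
    (β.comp α).IsPurelyInseparable := by
  letI := α.toAlgebra
  have h' : IsPurelyInseparable K E := h
  let q := ringExpChar K
  haveI : ExpChar K q := ringExpChar.expChar K
  letI := (β.comp α).toAlgebra
  change IsPurelyInseparable K L
  rw [isPurelyInseparable_iff_pow_mem K q]
  intro x
  obtain ⟨e, rfl⟩ := hβ.2 x
  obtain ⟨n, k, hk⟩ := (isPurelyInseparable_iff_pow_mem K q).mp h' e
  refine ⟨n, k, ?_⟩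
  change β (α k) = _
  rw [← map_pow]
  exact congrArg β hk

theorem pi_residueFieldMap_of_comp {A B C : Scheme.{u}} (a : A ⟶ B) (b : B ⟶ C) (x : A)
    (h : ((a ≫ b).residueFieldMap x).hom.IsPurelyInseparable) :
    (a.residueFieldMap x).hom.IsPurelyInseparable := by
  have e : ((a ≫ b).residueFieldMap x).hom =
      (a.residueFieldMap x).hom.comp (b.residueFieldMap (a x)).hom :=
    congrArg CommRingCat.Hom.hom (Scheme.residueFieldMap_comp a b x)
  exact pi_of_comp_right (b.residueFieldMap (a x)).hom (a.residueFieldMap x).hom (e ▸ h)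

theorem pi_residueFieldMap_openImm_comp {A B C : Scheme.{u}} (j : A ⟶ B) [IsOpenImmersion j]
    (s : B ⟶ C) (x : A) (h : (s.residueFieldMap (j x)).hom.IsPurelyInseparable) :
    ((j ≫ s).residueFieldMap x).hom.IsPurelyInseparable := by
  have e : ((j ≫ s).residueFieldMap x).hom =
      (j.residueFieldMap x).hom.comp (s.residueFieldMap (j x)).hom :=
    congrArg CommRingCat.Hom.hom (Scheme.residueFieldMap_comp j s x)
  have := pi_comp_bijective (s.residueFieldMap (j x)).hom (j.residueFieldMap x).hom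
    (ConcreteCategory.bijective_of_isIso (j.residueFieldMap x)) h
  exact e ▸ this


/-- A finite étale morphism with a single point over `b`, whose residue field extension is
purely inseparable, has rank one at `b`. -/
theorem finrank_eq_one_of_pi {A B : Scheme.{u}} (ρ : A ⟶ B) [IsFinite ρ] [Etale ρ] (a : A)
    (huniq : ∀ a', ρ a' = ρ a → a' = a)
    (hpi : (ρ.residueFieldMap a).hom.IsPurelyInseparable) : ρ.finrank (ρ a) = 1 := by
  haveI : LocallyQuasiFinite ρ := Groth.Agent.H2.GeomCount.locallyQuasiFinite_of_etale' ρ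
  apply le_antisymm
  · have h1 := Groth.Agent.H2.GeomCount.card_geomFiber_of_finite_etale ρ (ρ a)
    rw [Groth.Agent.H6.GN.card_geomFiber_eq] at h1
    have h2 : MoreMor.nGeomConnComp ρ (ρ a) ≤ ENat.card ↥(ρ ⁻¹' {ρ a}) := by
      refine Groth.Agent.H1.GeomNum.nGeomConnComp_le_card_of_pi ρ (ρ a) ?_
      intro x hx
      obtain rfl := huniq x hx
      exact hpi
    haveI : Subsingleton ↥(ρ ⁻¹' {ρ a}) :=
      ⟨fun p q => Subtype.ext ((huniq p.1 p.2).trans (huniq q.1 q.2).symm)⟩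
    have h3 : ENat.card ↥(ρ ⁻¹' {ρ a}) ≤ 1 := by
      rw [ENat.card_eq_coe_natCard]
      exact_mod_cast Finite.card_le_one_iff_subsingleton.mpr inferInstance
    have h4 : ((ρ.finrank (ρ a) : ℕ) : ℕ∞) ≤ 1 := h1 ▸ (h2.trans h3)
    exact_mod_cast h4
  · exact Scheme.Hom.one_le_finrank_map ρ a


theorem propA_of_sep_lqf {X Y : Scheme.{u}} (f : X ⟶ Y) [IsSeparated f]
    [LocallyQuasiFinite f] [LocallyOfFiniteType f] : BigSite.PropA f := by
  intro U g _ u
  obtain ⟨U₀, hU₀aff, huU₀⟩ : ∃ U₀ : U.Opens, IsAffineOpen U₀ ∧ u ∈ U₀ := by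
    obtain ⟨_, ⟨U₀, hU₀, rfl⟩, h1, -⟩ :=
      U.isBasis_affineOpens.exists_subset_of_mem_open (Set.mem_univ u) isOpen_univ
    exact ⟨U₀, hU₀, h1⟩
  haveI : IsAffine (U₀ : Scheme.{u}) := hU₀aff
  let g' : (U₀ : Scheme.{u}) ⟶ X := U₀.ι ≫ g
  haveI : Etale g' := inferInstance
  haveI : LocallyQuasiFinite g' := Groth.Agent.H2.GeomCount.locallyQuasiFinite_of_etale' g'
  let φ : (U₀ : Scheme.{u}) ⟶ Y := g' ≫ f
  haveI : LocallyQuasiFinite φ := inferInstance
  haveI : LocallyOfFiniteType φ := inferInstance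
  haveI : IsSeparated φ := inferInstance
  let u₀ : ↥U₀ := ⟨u, huU₀⟩
  obtain ⟨V₁, e, v₁, P, fst, snd, he, hev, hP, n, idx, T, t, hdisj, hclosed, hfin, hall⟩ :=
    Groth.Agent.H1.WtSplit.sepSplit φ (φ u₀) (fun _ : Fin 1 => u₀)
      (Function.injective_of_subsingleton _) (fun _ => rfl) (fun _ => φ.quasiFiniteAt u₀)
  haveI := he
  obtain ⟨w, hw1, hw2⟩ := Scheme.exists_preimage_of_isPullback hP u₀ v₁ hev.symm
  obtain ⟨k, -, hwk⟩ := hall w 0 hw2 hw1
  obtain ⟨hFP, -, hpi⟩ := hfin k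
  have hpi' : (snd.residueFieldMap (t k)).hom.IsPurelyInseparable := hpi
  clear hpi hfin hall hdisj
  set Tk := T k with hTk
  set tk := t k with htk
  -- the map to `X ×_Y V₁`
  have hcomm : (fst ≫ g') ≫ f = snd ≫ e := by rw [Category.assoc]; exact hP.w
  let r : P ⟶ pullback f e := pullback.lift (fst ≫ g') snd hcomm
  have hr1 : r ≫ pullback.fst f e = fst ≫ g' := pullback.lift_fst _ _ _
  have hr2 : r ≫ pullback.snd f e = snd := pullback.lift_snd _ _ _
  have hsq : IsPullback r fst (pullback.fst f e) g' := by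
    have hbig : IsPullback (r ≫ pullback.snd f e) fst e (g' ≫ f) := by
      rw [hr2]; exact hP.flip
    exact IsPullback.of_right hbig hr1 (IsPullback.of_hasPullback f e).flip
  haveI : Etale r := MorphismProperty.of_isPullback (P := @Etale) hsq.flip inferInstance
  let ρ : (Tk : Scheme.{u}) ⟶ pullback f e := Tk.ι ≫ r
  have hρ2 : ρ ≫ pullback.snd f e = Tk.ι ≫ snd := by
    simp only [ρ, Category.assoc, hr2]
  haveI : Etale ρ := inferInstance
  haveI : IsFinite (ρ ≫ pullback.snd f e) := by rw [hρ2]; exact hFP.finite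
  haveI : IsFinite ρ := MorphismProperty.of_postcomp (W := @IsFinite) (W' := @IsSeparated) ρ
    (pullback.snd f e) inferInstance inferInstance
  let t' : ↥Tk := ⟨tk, hFP.mem⟩
  have huniq : ∀ a' : ↥Tk, ρ a' = ρ t' → a' = t' := by
    intro a' ha'
    have h1 : (ρ ≫ pullback.snd f e) a' = (ρ ≫ pullback.snd f e) t' :=
      congrArg (pullback.snd f e) ha'
    rw [hρ2] at h1
    have h2 : snd a'.1 = v₁ := by
      have : snd tk = v₁ := hFP.snd_eq
      rw [← this]
      exact h1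
    exact Subtype.ext (hFP.uniq a'.1 a'.2 h2)
  have hpiρ : (ρ.residueFieldMap t').hom.IsPurelyInseparable := by
    have h1 : ((Tk.ι ≫ snd).residueFieldMap t').hom.IsPurelyInseparable :=
      pi_residueFieldMap_openImm_comp Tk.ι snd t' hpi'
    have h2 : ((ρ ≫ pullback.snd f e).residueFieldMap t').hom.IsPurelyInseparable := by
      rw [hρ2]; exact h1
    exact pi_residueFieldMap_of_comp ρ (pullback.snd f e) t' h2
  have hrank : ρ.finrank (ρ t') = 1 := finrank_eq_one_of_pi ρ t' huniq hpiρ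
  -- the open and closed locus of rank one
  have hlc := Scheme.Hom.isLocallyConstant_finrank ρ
  let N : (pullback f e).Opens := ⟨ρ.finrank ⁻¹' {1}, hlc.isOpen_fiber _⟩
  have hNcl : IsClosed (N : Set ↥(pullback f e)) := hlc.isClosed_fiber _
  have hρtN : ρ t' ∈ N := hrank
  haveI : IsFinite (ρ ∣_ N) := IsZariskiLocalAtTarget.restrict ‹IsFinite ρ› N
  haveI : Etale (ρ ∣_ N) := IsZariskiLocalAtTarget.restrict ‹Etale ρ› N
  haveI : IsIso (ρ ∣_ N) := by
    rw [Scheme.Hom.isIso_iff_finrank_eq]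
    ext z
    have hpb : IsPullback (ρ ⁻¹ᵁ N).ι (ρ ∣_ N) ρ N.ι := (isPullback_morphismRestrict ρ N).flip
    rw [Scheme.Hom.finrank_of_isPullback _ _ _ _ hpb]
    exact z.2
  let h : (N : Scheme.{u}) ⟶ U := inv (ρ ∣_ N) ≫ (ρ ⁻¹ᵁ N).ι ≫ Tk.ι ≫ fst ≫ U₀.ι
  refine ⟨V₁, e, he, N, hNcl, h, ?_, ?_⟩
  · simp only [h, Category.assoc]
    rw [IsIso.inv_comp_eq]
    have e1 : (ρ ∣_ N) ≫ N.ι = (ρ ⁻¹ᵁ N).ι ≫ ρ := morphismRestrict_ι ρ N
    rw [reassoc_of% e1]
    simp only [ρ, Category.assoc]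
    rw [hr1]
  · let t'' : ↥(ρ ⁻¹ᵁ N) := ⟨t', hρtN⟩
    refine ⟨(ρ ∣_ N) t'', ?_⟩
    change (inv (ρ ∣_ N) ≫ (ρ ⁻¹ᵁ N).ι ≫ Tk.ι ≫ fst ≫ U₀.ι) ((ρ ∣_ N) t'') = u
    rw [← Scheme.Hom.comp_apply, IsIso.hom_inv_id_assoc]
    change U₀.ι (fst tk) = u
    rw [← hwk, hw1]
    rfl

end Groth.Agent.H2.PropA
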