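import Mathlib
import Groth.Prelude.Def_MoreMor
import Groth.Prelude.Def_BigSite
import Groth.Agent.Lib.Helper2.PropAA

set_option autoImplicit false
set_option linter.style.haveILetI false
universe u
open CategoryTheory CategoryTheory.Limits AlgebraicGeometry MorphismProperty TopologicalSpace

namespace Groth.Agent.H2.PropInt

/-- Disjointification of finitely many clopen sets. -/
theorem exists_disjoint_clopen {α : Type*} [TopologicalSpace α] {n : ℕ} (N : Fin n → Set α)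
    (hN : ∀ k, IsClopen (N k)) :
    ∃ D : Fin n → Set α, (∀ k, IsClopen (D k)) ∧ (∀ k, D k ⊆ N k) ∧
      (∀ k k', k ≠ k' → Disjoint (D k) (D k')) ∧ (⋃ k, D k) = ⋃ k, N k := by
  refine ⟨fun k => N k \ ⋃ l : {l : Fin n // l < k}, N l.1, ?_, ?_, ?_, ?_⟩
  · intro k
    exact (hN k).diff (isClopen_iUnion_of_finite fun l => hN l.1)
  · intro k
    exact Set.sdiff_subset
  · intro k k' hne
    rcases lt_or_gt_of_ne hne with h | h
    · rw [Set.disjoint_left]
      intro a ha ha'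
      exact ha'.2 (Set.mem_iUnion.mpr ⟨⟨k, h⟩, ha.1⟩)
    · rw [Set.disjoint_left]
      intro a ha ha'
      exact ha.2 (Set.mem_iUnion.mpr ⟨⟨k', h⟩, ha'.1⟩)
  · apply Set.Subset.antisymm
    · exact Set.iUnion_mono fun k => Set.sdiff_subset
    · intro a ha
      obtain ⟨k, hk⟩ := Set.mem_iUnion.mp ha
      obtain ⟨m, hm, hmin⟩ := (wellFounded_lt (α := Fin n)).has_min {k | a ∈ N k} ⟨k, hk⟩
      refine Set.mem_iUnion.mpr ⟨m, hm, ?_⟩
      intro hmem
      obtain ⟨l, hl⟩ := Set.mem_iUnion.mp hmem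
      exact hmin l.1 hl l.2

/-- Gluing morphisms along a finite cover by pairwise disjoint opens. -/
theorem exists_glue_disjoint {P T : Scheme.{u}} {n : ℕ} (W : Fin n → P.Opens)
    (hdisj : ∀ k l, k ≠ l → Disjoint (W k : Set P) (W l : Set P)) (hcov : ∀ p : P, ∃ k, p ∈ W k)
    (h : ∀ k, ((W k : P.Opens) : Scheme.{u}) ⟶ T) :
    ∃ H : P ⟶ T, (∀ k, (W k).ι ≫ H = h k) ∧
      ∀ (T' : Scheme.{u}) (H₁ H₂ : P ⟶ T'), (∀ k, (W k).ι ≫ H₁ = (W k).ι ≫ H₂) → H₁ = H₂ := by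
  have hcov' : IsOpenCover W := by
    rw [IsOpenCover, eq_top_iff]
    intro p _
    obtain ⟨k, hk⟩ := hcov p
    exact Opens.mem_iSup.mpr ⟨k, hk⟩
  let 𝒰 := P.openCoverOfIsOpenCover W hcov'
  have hc : ∀ k l, pullback.fst (𝒰.f k) (𝒰.f l) ≫ h k = pullback.snd (𝒰.f k) (𝒰.f l) ≫ h l := by
    intro k l
    by_cases hkl : k = l
    · subst hkl
      have : pullback.fst (𝒰.f k) (𝒰.f k) = pullback.snd (𝒰.f k) (𝒰.f k) := by
        rw [← cancel_mono (𝒰.f k)]
        exact pullback.condition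
      rw [this]
    · haveI : IsEmpty ↥(pullback (𝒰.f k) (𝒰.f l)) := by
        constructor
        intro z
        have h1 : (𝒰.f k) (pullback.fst (𝒰.f k) (𝒰.f l) z) =
            (𝒰.f l) (pullback.snd (𝒰.f k) (𝒰.f l) z) := by
          rw [← Scheme.Hom.comp_apply, pullback.condition, Scheme.Hom.comp_apply]
        have h2 : (𝒰.f k) (pullback.fst (𝒰.f k) (𝒰.f l) z) ∈ (W k : Set P) :=
          (pullback.fst (𝒰.f k) (𝒰.f l) z).2
        have h3 : (𝒰.f l) (pullback.snd (𝒰.f k) (𝒰.f l) z) ∈ (W l : Set P) :=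
          (pullback.snd (𝒰.f k) (𝒰.f l) z).2
        exact Set.disjoint_left.mp (hdisj k l hkl) h2 (h1 ▸ h3)
      exact (isInitialOfIsEmpty).hom_ext _ _
  refine ⟨𝒰.glueMorphisms h hc, fun k => 𝒰.ι_glueMorphisms h hc k, ?_⟩
  intro T' H₁ H₂ hH
  exact 𝒰.hom_ext _ _ hH

/-- One finite part gives a clopen piece of `X ×_Y V₁` with a lift to `U`. -/
theorem piece {X Y U V₁ P : Scheme.{u}} (f : X ⟶ Y) (G : U ⟶ X) [Etale G] (e : V₁ ⟶ Y) [Etale e]
    [IsSeparated f] (fst : P ⟶ U) (snd : P ⟶ V₁) (hP : IsPullback fst snd (G ≫ f) e)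
    (r : P ⟶ pullback f e) (hr1 : r ≫ pullback.fst f e = fst ≫ G)
    (hr2 : r ≫ pullback.snd f e = snd) (v₁ : V₁) (x₀ : U) (Tk : P.Opens) (tk : P)
    (hFP : Groth.Agent.H1.EtLoc.FinPart fst snd v₁ x₀ Tk tk)
    (hpi : (snd.residueFieldMap tk).hom.IsPurelyInseparable) :
    ∃ (N : (pullback f e).Opens) (hk : (N : Scheme.{u}) ⟶ U), IsClosed (N : Set ↥(pullback f e)) ∧
      r tk ∈ N ∧ hk ≫ G = N.ι ≫ pullback.fst f e ∧
      ∀ (q : ↥(pullback f e)) (hq : q ∈ N), pullback.snd f e q = v₁ → hk ⟨q, hq⟩ = x₀ := by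
  have hsq : IsPullback r fst (pullback.fst f e) G := by
    have hbig : IsPullback (r ≫ pullback.snd f e) fst e (G ≫ f) := by
      rw [hr2]; exact hP.flip
    exact IsPullback.of_right hbig hr1 (IsPullback.of_hasPullback f e).flip
  haveI : Etale r := MorphismProperty.of_isPullback (P := @Etale) hsq.flip inferInstance
  let ρ : (Tk : Scheme.{u}) ⟶ pullback f e := Tk.ι ≫ r
  have hρ2 : ρ ≫ pullback.snd f e = Tk.ι ≫ snd := by
    simp only [ρ, Category.assoc, hr2]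
  haveI : Etale ρ := inferInstance
  haveI : IsFinite (ρ ≫ pullback.snd f e) := by rw [hρ2]; exact hFP.finite
  haveI : IsFinite ρ := MorphismProperty.of_postcomp (W := @IsFinite) (W' := @IsSeparated) ρ
    (pullback.snd f e) inferInstance inferInstance
  let t' : ↥Tk := ⟨tk, hFP.mem⟩
  have huniq' : ∀ a' : ↥Tk, snd a'.1 = v₁ → a' = t' := by
    intro a' ha'
    exact Subtype.ext (hFP.uniq a'.1 a'.2 ha')
  have hsndρ : ∀ a' : ↥Tk, pullback.snd f e (ρ a') = snd a'.1 := by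
    intro a'
    rw [← Scheme.Hom.comp_apply, hρ2]
    rfl
  have huniq : ∀ a' : ↥Tk, ρ a' = ρ t' → a' = t' := by
    intro a' ha'
    apply huniq'
    rw [← hsndρ a', ha', hsndρ t']
    exact hFP.snd_eq
  have hpiρ : (ρ.residueFieldMap t').hom.IsPurelyInseparable := by
    have h1 : ((Tk.ι ≫ snd).residueFieldMap t').hom.IsPurelyInseparable :=
      Groth.Agent.H2.PropA.pi_residueFieldMap_openImm_comp Tk.ι snd t' hpi
    have h2 : ((ρ ≫ pullback.snd f e).residueFieldMap t').hom.IsPurelyInseparable := by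
      rw [hρ2]; exact h1
    exact Groth.Agent.H2.PropA.pi_residueFieldMap_of_comp ρ (pullback.snd f e) t' h2
  have hrank : ρ.finrank (ρ t') = 1 := Groth.Agent.H2.PropA.finrank_eq_one_of_pi ρ t' huniq hpiρ
  have hlc := Scheme.Hom.isLocallyConstant_finrank ρ
  let N : (pullback f e).Opens := ⟨ρ.finrank ⁻¹' {1}, hlc.isOpen_fiber _⟩
  have hNcl : IsClosed (N : Set ↥(pullback f e)) := hlc.isClosed_fiber _
  have hρtN : ρ t' ∈ N := hrank
  haveI : IsFinite (ρ ∣_ N) := IsZariskiLocalAtTarget.restrict ‹IsFinite ρ› N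
  haveI : Etale (ρ ∣_ N) := IsZariskiLocalAtTarget.restrict ‹Etale ρ› N
  haveI : IsIso (ρ ∣_ N) := by
    rw [Scheme.Hom.isIso_iff_finrank_eq]
    ext z
    have hpb : IsPullback (ρ ⁻¹ᵁ N).ι (ρ ∣_ N) ρ N.ι := (isPullback_morphismRestrict ρ N).flip
    rw [Scheme.Hom.finrank_of_isPullback _ _ _ _ hpb]
    exact z.2
  let h : (N : Scheme.{u}) ⟶ U := inv (ρ ∣_ N) ≫ (ρ ⁻¹ᵁ N).ι ≫ Tk.ι ≫ fst
  have e1 : (ρ ∣_ N) ≫ N.ι = (ρ ⁻¹ᵁ N).ι ≫ ρ := morphismRestrict_ι ρ N
  refine ⟨N, h, hNcl, hρtN, ?_, ?_⟩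
  · simp only [h, Category.assoc]
    rw [IsIso.inv_comp_eq]
    rw [reassoc_of% e1]
    simp only [ρ, Category.assoc]
    rw [hr1]
  · intro q hq hqv
    -- the point of `ρ⁻¹ N` over `q`
    let z : ↥(ρ ⁻¹ᵁ N) := inv (ρ ∣_ N) ⟨q, hq⟩
    have hz1 : (ρ ∣_ N) z = ⟨q, hq⟩ := by
      change (inv (ρ ∣_ N) ≫ (ρ ∣_ N)) ⟨q, hq⟩ = _
      rw [IsIso.inv_hom_id]
      rfl
    have hz2 : ρ ((ρ ⁻¹ᵁ N).ι z) = q := by
      have := congrArg (fun w => N.ι w) hz1
      simp only at this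
      rw [← Scheme.Hom.comp_apply, e1, Scheme.Hom.comp_apply] at this
      exact this
    have hz3 : (ρ ⁻¹ᵁ N).ι z = t' := by
      apply huniq'
      rw [← hsndρ, hz2]
      exact hqv
    change fst (Tk.ι ((ρ ⁻¹ᵁ N).ι z)) = x₀
    rw [hz3]
    exact hFP.fst_eq

/-- **Key lemma (finite case).** Let `f : X ⟶ Y` be finite, `G : U ⟶ X` étale with `U` separated
over `Y`, and `y : Y` a point whose fibre is covered by the images of finitely many chosen points
`x i` of `U` (with pairwise distinct images). Then there are an étale neighbourhood `(V, v)` of `y`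
and an `X`-morphism `X ×_Y V ⟶ U` which sends every point over `v` and `G (x i)` to `x i`. -/
theorem keyFin {X Y U : Scheme.{u}} (f : X ⟶ Y) [IsFinite f] (G : U ⟶ X) [Etale G]
    [IsSeparated (G ≫ f)] (y : Y) {ι : Type} [Finite ι] (x : ι → U)
    (hinj : Function.Injective (fun i => G (x i))) (hs : ∀ i, f (G (x i)) = y)
    (hcov : ∀ p : X, f p = y → ∃ i, G (x i) = p) :
    ∃ (V : Scheme.{u}) (e : V ⟶ Y) (v : V), Etale e ∧ e v = y ∧
      ∃ h : pullback f e ⟶ U, h ≫ G = pullback.fst f e ∧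
        ∀ (i : ι) (q : ↥(pullback f e)), pullback.snd f e q = v →
          pullback.fst f e q = G (x i) → h q = x i := by
  haveI : LocallyQuasiFinite G := Groth.Agent.H2.GeomCount.locallyQuasiFinite_of_etale' G
  let π : U ⟶ Y := G ≫ f
  haveI : IsSeparated π := ‹_›
  haveI : LocallyQuasiFinite π := inferInstance
  haveI : LocallyOfFiniteType π := inferInstance
  have hxinj : Function.Injective x := fun a b hab => hinj (congrArg (fun z => G z) hab)
  obtain ⟨V₁, e, v₁, P, fst, snd, he, hev, hP, n, idx, T, t, hdisj, hclosed, hfin, hall⟩ :=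
    Groth.Agent.H1.WtSplit.sepSplit π y x hxinj (fun i => hs i) (fun i => π.quasiFiniteAt (x i))
  haveI := he
  have hcomm : (fst ≫ G) ≫ f = snd ≫ e := by rw [Category.assoc]; exact hP.w
  let r : P ⟶ pullback f e := pullback.lift (fst ≫ G) snd hcomm
  have hr1 : r ≫ pullback.fst f e = fst ≫ G := pullback.lift_fst _ _ _
  have hr2 : r ≫ pullback.snd f e = snd := pullback.lift_snd _ _ _
  have hsq : IsPullback r fst (pullback.fst f e) G := by
    have hbig : IsPullback (r ≫ pullback.snd f e) fst e (G ≫ f) := by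
      rw [hr2]; exact hP.flip
    exact IsPullback.of_right hbig hr1 (IsPullback.of_hasPullback f e).flip
  have key : ∀ k : Fin n, ∃ (N : (pullback f e).Opens) (hk : (N : Scheme.{u}) ⟶ U),
      IsClosed (N : Set ↥(pullback f e)) ∧
      r (t k) ∈ N ∧ hk ≫ G = N.ι ≫ pullback.fst f e ∧
      ∀ (q : ↥(pullback f e)) (hq : q ∈ N), pullback.snd f e q = v₁ → hk ⟨q, hq⟩ = x (idx k) := by
    intro k
    obtain ⟨hFP, -, hpi⟩ := hfin k
    exact piece f G e fst snd hP r hr1 hr2 v₁ (x (idx k)) (T k) (t k) hFP hpi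
  choose N₀ h₀ hN₀cl hN₀mem hN₀G hN₀pt using key
  -- the fibre over `v₁` is covered
  have hfib : ∀ q : ↥(pullback f e), pullback.snd f e q = v₁ →
      ∃ k, q = r (t k) ∧ ∀ i, pullback.fst f e q = G (x i) → idx k = i := by
    intro q hq
    have h1 : f (pullback.fst f e q) = y := by
      rw [← Scheme.Hom.comp_apply, pullback.condition, Scheme.Hom.comp_apply, hq, hev]
    obtain ⟨i, hi⟩ := hcov _ h1
    obtain ⟨w, hw1, hw2⟩ := Scheme.exists_preimage_of_isPullback hsq q (x i) hi.symm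
    have hw3 : snd w = v₁ := by
      rw [← hr2, Scheme.Hom.comp_apply]
      change pullback.snd f e (r w) = v₁
      rw [hw1, hq]
    obtain ⟨k, hk1, hk2⟩ := hall w i hw3 hw2
    refine ⟨k, ?_, ?_⟩
    · rw [← hk2]; exact hw1.symm
    · intro i' hi'
      rw [hk1]
      exact hinj (hi.trans hi')
  -- disjointification
  obtain ⟨D, hDclopen, hDsub, hDdisj, hDcov⟩ := exists_disjoint_clopen
    (fun k => (N₀ k : Set ↥(pullback f e))) (fun k => ⟨hN₀cl k, (N₀ k).isOpen⟩)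
  let R : Set ↥(pullback f e) := (⋃ k, D k)ᶜ
  have hRcl : IsClosed R :=
    (isClopen_iUnion_of_finite fun k => hDclopen k).isOpen.isClosed_compl
  let Z : Set V₁ := (pullback.snd f e) '' R
  have hZcl : IsClosed Z := (pullback.snd f e).isClosedMap _ hRcl
  have hvZ : v₁ ∉ Z := by
    rintro ⟨q, hqR, hq⟩
    obtain ⟨k, hk, -⟩ := hfib q hq
    apply hqR
    rw [hDcov]
    exact Set.mem_iUnion.mpr ⟨k, hk ▸ hN₀mem k⟩
  let V₂ : V₁.Opens := ⟨Zᶜ, hZcl.isOpen_compl⟩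
  let v₂ : ↥V₂ := ⟨v₁, hvZ⟩
  let e₂ : (V₂ : Scheme.{u}) ⟶ Y := V₂.ι ≫ e
  let j : pullback f e₂ ⟶ pullback f e :=
    pullback.map f e₂ f e (𝟙 X) V₂.ι (𝟙 Y) (by simp) (by simp [e₂])
  have hj1 : j ≫ pullback.fst f e = pullback.fst f e₂ :=
    (pullback.lift_fst _ _ _).trans (Category.comp_id _)
  have hj2 : j ≫ pullback.snd f e = pullback.snd f e₂ ≫ V₂.ι := pullback.lift_snd _ _ _
  let Dop : Fin n → (pullback f e).Opens := fun k => ⟨D k, (hDclopen k).isOpen⟩
  have hDle : ∀ k, Dop k ≤ N₀ k := fun k => hDsub k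
  let W : Fin n → (pullback f e₂).Opens := fun k => j ⁻¹ᵁ (Dop k)
  let hW : ∀ k, ((W k : (pullback f e₂).Opens) : Scheme.{u}) ⟶ U := fun k =>
    (j ∣_ (Dop k)) ≫ (pullback f e).homOfLE (hDle k) ≫ h₀ k
  have hWdisj : ∀ k l, k ≠ l → Disjoint (W k : Set ↥(pullback f e₂)) (W l : Set ↥(pullback f e₂)) := by
    intro k l hkl
    rw [Set.disjoint_left]
    intro a ha ha'
    exact Set.disjoint_left.mp (hDdisj k l hkl) ha ha'
  have hjmem : ∀ p : ↥(pullback f e₂), j p ∈ ⋃ k, D k := by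
    intro p
    by_contra hp
    have h1 : pullback.snd f e (j p) ∈ Z := ⟨j p, hp, rfl⟩
    have h2 : pullback.snd f e (j p) = V₂.ι (pullback.snd f e₂ p) := by
      rw [← Scheme.Hom.comp_apply, hj2, Scheme.Hom.comp_apply]
    rw [h2] at h1
    exact (pullback.snd f e₂ p).2 h1
  have hWcov : ∀ p : ↥(pullback f e₂), ∃ k, p ∈ W k := by
    intro p
    obtain ⟨k, hk⟩ := Set.mem_iUnion.mp (hjmem p)
    exact ⟨k, hk⟩
  obtain ⟨H, hH, hHext⟩ := exists_glue_disjoint W hWdisj hWcov hW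
  have hWG : ∀ k, hW k ≫ G = (W k).ι ≫ pullback.fst f e₂ := by
    intro k
    simp only [hW, Category.assoc]
    rw [hN₀G k, Scheme.homOfLE_ι_assoc, ← hj1]
    rw [← Category.assoc, morphismRestrict_ι, Category.assoc]
  refine ⟨V₂, e₂, v₂, inferInstance, ?_, H, ?_, ?_⟩
  · change e (V₂.ι v₂) = y
    exact hev
  · apply hHext
    intro k
    rw [← Category.assoc, hH k, hWG k]
  · intro i q hq1 hq2
    have hq1' : pullback.snd f e (j q) = v₁ := by
      rw [← Scheme.Hom.comp_apply, hj2, Scheme.Hom.comp_apply, hq1]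
      rfl
    have hq2' : pullback.fst f e (j q) = G (x i) := by
      rw [← Scheme.Hom.comp_apply, hj1]
      exact hq2
    obtain ⟨m, hm⟩ := Set.mem_iUnion.mp (hjmem q)
    have hqW : q ∈ W m := hm
    have hjN : j q ∈ N₀ m := hDsub m hm
    have h1 : H q = hW m ⟨q, hqW⟩ := by
      rw [← hH m]
      rfl
    have h2 : ((pullback f e).homOfLE (hDle m)) ((j ∣_ (Dop m)) ⟨q, hqW⟩) = ⟨j q, hjN⟩ := by
      apply (N₀ m).ι.injective
      rw [← Scheme.Hom.comp_apply, Scheme.homOfLE_ι, ← Scheme.Hom.comp_apply, morphismRestrict_ι]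
      rfl
    have h3 : hW m ⟨q, hqW⟩ = h₀ m ⟨j q, hjN⟩ := by
      change h₀ m (((pullback f e).homOfLE (hDle m)) ((j ∣_ (Dop m)) ⟨q, hqW⟩)) = _
      rw [h2]
    rw [h1, h3, hN₀pt m (j q) hjN hq1']
    obtain ⟨k₀, hk₀, hk₀'⟩ := hfib (j q) hq1'
    -- `idx m = i`
    have h4 : G (x (idx m)) = pullback.fst f e (j q) := by
      have e1 : (h₀ m ≫ G) ⟨j q, hjN⟩ = ((N₀ m).ι ≫ pullback.fst f e) ⟨j q, hjN⟩ := by
        rw [hN₀G m]
      rw [Scheme.Hom.comp_apply, Scheme.Hom.comp_apply, hN₀pt m (j q) hjN hq1'] at e1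
      exact e1
    have h5 : idx m = i := hinj (h4.trans hq2')
    rw [h5]

end Groth.Agent.H2.PropInt
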