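import Mathlib
import Groth.Prelude.Def_MoreMor
import Groth.Prelude.Def_BigSite
import Groth.Agent.Lib.Helper1.ResFin
import Groth.Agent.Lib.Helper2.PropIntA

/-!
# Geometric points and finite morphisms (helper2)

Lifting geometric points along finite morphisms, uniqueness of field-valued points with purely
inseparable residue field extension, finiteness of the set of lifts, and a strengthened form of
`PropInt.piece`.
-/

set_option autoImplicit false
set_option linter.style.haveILetI false
set_option linter.unusedVariables false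
universe u
open CategoryTheory CategoryTheory.Limits AlgebraicGeometry MorphismProperty TopologicalSpace

namespace Groth.Agent.H2.FinStalk

set_option backward.isDefEq.respectTransparency.types false in
/-- Over an algebraically closed field, geometric points lift along finite morphisms through any
given point of the fibre. -/
theorem exists_lift_of_finite {X S : Scheme.{u}} (f : X ⟶ S) [IsFinite f]
    {Ω : Type u} [Field Ω] [IsAlgClosed Ω] (s : Spec (.of Ω) ⟶ S)
    (x : X) (hx : f x = s default) :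
    ∃ (l : Spec (.of Ω) ⟶ X), l ≫ f = s ∧ l default = x := by
  obtain ⟨⟨s, a⟩, rfl⟩ := (Scheme.SpecToEquivOfField Ω S).symm.surjective s
  obtain rfl : f x = s := by simp [hx, Scheme.SpecToEquivOfField]
  have hfin : (f.residueFieldMap x).hom.Finite :=
    Groth.Agent.H1.ResFin.finite_residueFieldMap_of_quasiFiniteAt f (f.quasiFiniteAt x)
  let m := (f.residueFieldMap x).hom
  dsimp at m
  algebraize [m, a.hom]
  haveI : Module.Finite (S.residueField (f x)) (X.residueField x) := hfin
  haveI : Algebra.IsAlgebraic (S.residueField (f x)) (X.residueField x) :=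
    Algebra.IsAlgebraic.of_finite _ _
  let b : X.residueField x →ₐ[S.residueField (f x)] Ω :=
    IsAlgClosed.lift
  have : f.residueFieldMap x ≫ CommRingCat.ofHom b.toRingHom = a := by
    ext1; exact b.comp_algebraMap
  refine ⟨Spec.map (CommRingCat.ofHom b.toRingHom) ≫ X.fromSpecResidueField x, ?_, ?_⟩
  · simp [Scheme.SpecToEquivOfField, ← this]
    rfl
  · dsimp
    apply Scheme.fromSpecResidueField_apply


set_option backward.isDefEq.respectTransparency.types false in
set_option backward.defeqAttrib.useBackward true in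
/-- Two field-valued points with the same image point and the same composite with `f` are equal
if the residue field extension of `f` at that point is purely inseparable. -/
theorem eq_of_pi {X Y : Scheme.{u}} (f : X ⟶ Y) {K : Type u} [Field K]
    (g₁ g₂ : Spec (.of K) ⟶ X) (hg : g₁ ≫ f = g₂ ≫ f)
    (hpt : g₁ (IsLocalRing.closedPoint K) = g₂ (IsLocalRing.closedPoint K))
    (hf : (f.residueFieldMap (g₁ (IsLocalRing.closedPoint K))).hom.IsPurelyInseparable) :
    g₁ = g₂ := by
  obtain ⟨e, h⟩ := Scheme.SpecToEquivOfField_eq_iff.mp congr((Y.SpecToEquivOfField K) $(hg))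
  apply (X.SpecToEquivOfField K).injective
  dsimp at e h
  simp only [Scheme.descResidueField_stalkClosedPointTo_comp] at e h
  rw [← f.residueFieldMap_congr'_assoc hpt, CommRingCat.hom_ext_iff] at h
  rw [Scheme.SpecToEquivOfField_eq_iff]
  let x := g₁ (IsLocalRing.closedPoint K)
  have hfx := hf
  algebraize [(f.residueFieldMap (g₁ (IsLocalRing.closedPoint K))).hom]
  refine ⟨hpt, CommRingCat.hom_ext ?_⟩
  exact IsPurelyInseparable.injective_comp_algebraMap
    (Y.residueField (f x)) (X.residueField x) _ h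


set_option backward.isDefEq.respectTransparency.types false in
/-- A section of `p : Z ⟶ Spec K` (`K` a field) is determined by its image point. -/
theorem section_unique {Z : Scheme.{u}} {K : Type u} [Field K] (p : Z ⟶ Spec (.of K))
    (ζ ζ' : Spec (.of K) ⟶ Z) (h : ζ ≫ p = 𝟙 _) (h' : ζ' ≫ p = 𝟙 _)
    (hpt : ζ default = ζ' default) : ζ = ζ' := by
  obtain ⟨⟨z, ψ⟩, rfl⟩ := (Scheme.SpecToEquivOfField K Z).symm.surjective ζ
  obtain ⟨⟨z', ψ'⟩, rfl⟩ := (Scheme.SpecToEquivOfField K Z).symm.surjective ζ'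
  have hz : z = z' := by
    simpa [Scheme.SpecToEquivOfField] using hpt
  subst hz
  let a : CommRingCat.of K ⟶ Z.residueField z := Spec.preimage (Z.fromSpecResidueField z ≫ p)
  have ha : Spec.map a = Z.fromSpecResidueField z ≫ p := Spec.map_preimage _
  have h1 : a ≫ ψ = 𝟙 _ := by
    apply Spec.map_injective
    rw [Spec.map_comp, ha, Spec.map_id]
    simpa [Scheme.SpecToEquivOfField] using h
  have h2 : a ≫ ψ' = 𝟙 _ := by
    apply Spec.map_injective
    rw [Spec.map_comp, ha, Spec.map_id]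
    simpa [Scheme.SpecToEquivOfField] using h'
  have hinj : Function.Injective ψ.hom := (ψ.hom : Z.residueField z →+* K).injective
  have h3 : ∀ t : Z.residueField z, a.hom (ψ.hom t) = t := by
    intro t
    apply hinj
    have := congrArg (fun m => m.hom (ψ.hom t)) h1
    simpa using this
  have hψ : ψ = ψ' := by
    ext t
    have := congrArg (fun m => m.hom (ψ.hom t)) h2
    simp only [CommRingCat.hom_comp, RingHom.comp_apply, CommRingCat.hom_id, RingHom.id_apply] at this
    rw [h3] at this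
    exact this.symm
  rw [hψ]



/-- A geometric point has only finitely many lifts along a finite morphism. -/
theorem finite_lifts {X Y : Scheme.{u}} (f : X ⟶ Y) [IsFinite f] {Ω : Type u} [Field Ω]
    (η : Spec (.of Ω) ⟶ Y) : Finite {ξ : Spec (.of Ω) ⟶ X // ξ ≫ f = η} := by
  let p := pullback.snd f η
  haveI : IsFinite p := MorphismProperty.pullback_snd (P := @IsFinite) f η inferInstance
  haveI : Finite ↥(pullback f η) := by
    have h1 : (p ⁻¹' {default}).Finite := p.finite_preimage_singleton default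
    have h2 : (p ⁻¹' {default}) = Set.univ := by
      ext z
      simp only [Set.mem_preimage, Set.mem_singleton_iff, Set.mem_univ, iff_true]
      exact Subsingleton.elim _ _
    rw [h2] at h1
    exact Set.finite_univ_iff.mp h1
  let φ : {ξ : Spec (.of Ω) ⟶ X // ξ ≫ f = η} → ↥(pullback f η) := fun ξ =>
    (pullback.lift ξ.1 (𝟙 _) (by rw [ξ.2, Category.id_comp])) default
  apply Finite.of_injective φ
  intro ξ ξ' hξ
  apply Subtype.ext
  have h := section_unique p (pullback.lift ξ.1 (𝟙 _) (by rw [ξ.2, Category.id_comp]))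
    (pullback.lift ξ'.1 (𝟙 _) (by rw [ξ'.2, Category.id_comp]))
    (pullback.lift_snd _ _ _) (pullback.lift_snd _ _ _) hξ
  have h2 := congrArg (fun m => m ≫ pullback.fst f η) h
  simp only [pullback.lift_fst] at h2
  exact h2


theorem pi_of_comp_left {K E L : Type u} [Field K] [Field E] [Field L] (α : K →+* E)
    (β : E →+* L) (h : (β.comp α).IsPurelyInseparable) : α.IsPurelyInseparable := by
  letI := (β.comp α).toAlgebra
  have h' : IsPurelyInseparable K L := h
  let q := ringExpChar K
  haveI : ExpChar K q := ringExpChar.expChar K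
  letI := α.toAlgebra
  change IsPurelyInseparable K E
  rw [isPurelyInseparable_iff_pow_mem K q]
  intro x
  obtain ⟨n, k, hk⟩ := (isPurelyInseparable_iff_pow_mem K q).mp h' (β x)
  refine ⟨n, k, ?_⟩
  apply β.injective
  change β (α k) = _
  rw [map_pow]
  exact hk

theorem pi_residueFieldMap_bot {A B C : Scheme.{u}} (a : A ⟶ B) (b : B ⟶ C) (x : A)
    (h : ((a ≫ b).residueFieldMap x).hom.IsPurelyInseparable) :
    (b.residueFieldMap (a x)).hom.IsPurelyInseparable := by
  have e : ((a ≫ b).residueFieldMap x).hom =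
      (a.residueFieldMap x).hom.comp (b.residueFieldMap (a x)).hom :=
    congrArg CommRingCat.Hom.hom (Scheme.residueFieldMap_comp a b x)
  exact pi_of_comp_left (b.residueFieldMap (a x)).hom (a.residueFieldMap x).hom (e ▸ h)


/-- Strengthening of `PropInt.piece`: the lift `hk` is compatible with every morphism into the
finite part `Tk`, and `N` meets the fibre over `v₁` only in `r tk`. -/
theorem piece' {X Y U V₁ P : Scheme.{u}} (f : X ⟶ Y) (G : U ⟶ X) [Etale G] (e : V₁ ⟶ Y) [Etale e]
    [IsSeparated f] (fst : P ⟶ U) (snd : P ⟶ V₁) (hP : IsPullback fst snd (G ≫ f) e)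
    (r : P ⟶ pullback f e) (hr1 : r ≫ pullback.fst f e = fst ≫ G)
    (hr2 : r ≫ pullback.snd f e = snd) (v₁ : V₁) (x₀ : U) (Tk : P.Opens) (tk : P)
    (hFP : Groth.Agent.H1.EtLoc.FinPart fst snd v₁ x₀ Tk tk)
    (hpi : (snd.residueFieldMap tk).hom.IsPurelyInseparable) :
    ∃ (N : (pullback f e).Opens) (hk : (N : Scheme.{u}) ⟶ U), IsClosed (N : Set ↥(pullback f e)) ∧
      r tk ∈ N ∧ hk ≫ G = N.ι ≫ pullback.fst f e ∧
      (∀ (q : ↥(pullback f e)) (hq : q ∈ N), pullback.snd f e q = v₁ → q = r tk) ∧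
      ∀ (S : Scheme.{u}) (a : S ⟶ P) (b : S ⟶ (N : Scheme.{u})), a ≫ r = b ≫ N.ι →
        (∀ s : S, a s ∈ Tk) → a ≫ fst = b ≫ hk := by
  have hsq : IsPullback r fst (pullback.fst f e) G := by
    have hbig : IsPullback (r ≫ pullback.snd f e) fst e (G ≫ f) := by
      rw [hr2]; exact hP.flip
    exact IsPullback.of_right hbig hr1 (IsPullback.of_hasPullback f e).flip
  haveI : Etale r := MorphismProperty.of_isPullback (P := @Etale) hsq.flip inferInstance
  let ρ : (Tk : Scheme.{u}) ⟶ pullback f e := Tk.ι ≫ r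
  have hρ2 : ρ ≫ pullback.snd f e = Tk.ι ≫ snd := by
    simp only [ρ, Category.assoc, hr2]
  haveI : Etale ρ := inferInstance
  haveI : IsFinite (ρ ≫ pullback.snd f e) := by rw [hρ2]; exact hFP.finite
  haveI : IsFinite ρ := MorphismProperty.of_postcomp (W := @IsFinite) (W' := @IsSeparated) ρ
    (pullback.snd f e) inferInstance inferInstance
  let t' : ↥Tk := ⟨tk, hFP.mem⟩
  have huniq' : ∀ a' : ↥Tk, snd a'.1 = v₁ → a' = t' := by
    intro a' ha'
    exact Subtype.ext (hFP.uniq a'.1 a'.2 ha')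
  have hsndρ : ∀ a' : ↥Tk, pullback.snd f e (ρ a') = snd a'.1 := by
    intro a'
    rw [← Scheme.Hom.comp_apply, hρ2]
    rfl
  have huniq : ∀ a' : ↥Tk, ρ a' = ρ t' → a' = t' := by
    intro a' ha'
    apply huniq'
    rw [← hsndρ a', ha', hsndρ t']
    exact hFP.snd_eq
  have hpiρ : (ρ.residueFieldMap t').hom.IsPurelyInseparable := by
    have h1 : ((Tk.ι ≫ snd).residueFieldMap t').hom.IsPurelyInseparable :=
      Groth.Agent.H2.PropA.pi_residueFieldMap_openImm_comp Tk.ι snd t' hpi
    have h2 : ((ρ ≫ pullback.snd f e).residueFieldMap t').hom.IsPurelyInseparable := by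
      rw [hρ2]; exact h1
    exact Groth.Agent.H2.PropA.pi_residueFieldMap_of_comp ρ (pullback.snd f e) t' h2
  have hrank : ρ.finrank (ρ t') = 1 := Groth.Agent.H2.PropA.finrank_eq_one_of_pi ρ t' huniq hpiρ
  have hlc := Scheme.Hom.isLocallyConstant_finrank ρ
  let N : (pullback f e).Opens := ⟨ρ.finrank ⁻¹' {1}, hlc.isOpen_fiber _⟩
  have hNcl : IsClosed (N : Set ↥(pullback f e)) := hlc.isClosed_fiber _
  have hρtN : ρ t' ∈ N := hrank
  haveI : IsFinite (ρ ∣_ N) := IsZariskiLocalAtTarget.restrict ‹IsFinite ρ› N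
  haveI : Etale (ρ ∣_ N) := IsZariskiLocalAtTarget.restrict ‹Etale ρ› N
  haveI : IsIso (ρ ∣_ N) := by
    rw [Scheme.Hom.isIso_iff_finrank_eq]
    ext z
    have hpb : IsPullback (ρ ⁻¹ᵁ N).ι (ρ ∣_ N) ρ N.ι := (isPullback_morphismRestrict ρ N).flip
    rw [Scheme.Hom.finrank_of_isPullback _ _ _ _ hpb]
    exact z.2
  let h : (N : Scheme.{u}) ⟶ U := inv (ρ ∣_ N) ≫ (ρ ⁻¹ᵁ N).ι ≫ Tk.ι ≫ fst
  have e1 : (ρ ∣_ N) ≫ N.ι = (ρ ⁻¹ᵁ N).ι ≫ ρ := morphismRestrict_ι ρ N
  refine ⟨N, h, hNcl, hρtN, ?_, ?_, ?_⟩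
  · simp only [h, Category.assoc]
    rw [IsIso.inv_comp_eq]
    rw [reassoc_of% e1]
    simp only [ρ, Category.assoc]
    rw [hr1]
  · intro q hq hqv
    let z : ↥(ρ ⁻¹ᵁ N) := inv (ρ ∣_ N) ⟨q, hq⟩
    have hz1 : (ρ ∣_ N) z = ⟨q, hq⟩ := by
      change (inv (ρ ∣_ N) ≫ (ρ ∣_ N)) ⟨q, hq⟩ = _
      rw [IsIso.inv_hom_id]
      rfl
    have hz2 : ρ ((ρ ⁻¹ᵁ N).ι z) = q := by
      have := congrArg (fun w => N.ι w) hz1
      simp only at this
      rw [← Scheme.Hom.comp_apply, e1, Scheme.Hom.comp_apply] at this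
      exact this
    have hz3 : (ρ ⁻¹ᵁ N).ι z = t' := by
      apply huniq'
      rw [← hsndρ, hz2]
      exact hqv
    rw [← hz2, hz3]
    rfl
  · intro S a b hab hT
    -- `a` factors through `Tk`
    have hra : Set.range a ⊆ Set.range Tk.ι := by
      rintro _ ⟨s, rfl⟩
      rw [Scheme.Opens.range_ι]
      exact hT s
    let a' : S ⟶ (Tk : Scheme.{u}) := IsOpenImmersion.lift Tk.ι a hra
    have ha' : a' ≫ Tk.ι = a := IsOpenImmersion.lift_fac _ _ _
    have ha'ρ : a' ≫ ρ = b ≫ N.ι := by
      simp only [ρ, ← Category.assoc, ha']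
      exact hab
    have hra' : Set.range a' ⊆ Set.range (ρ ⁻¹ᵁ N).ι := by
      rintro _ ⟨s, rfl⟩
      rw [Scheme.Opens.range_ι]
      change ρ (a' s) ∈ N
      rw [← Scheme.Hom.comp_apply, ha'ρ, Scheme.Hom.comp_apply]
      exact (b s).2
    let a'' : S ⟶ ((ρ ⁻¹ᵁ N : (Tk : Scheme.{u}).Opens) : Scheme.{u}) :=
      IsOpenImmersion.lift (ρ ⁻¹ᵁ N).ι a' hra'
    have ha'' : a'' ≫ (ρ ⁻¹ᵁ N).ι = a' := IsOpenImmersion.lift_fac _ _ _
    have hb : a'' ≫ (ρ ∣_ N) = b := by
      rw [← cancel_mono N.ι, Category.assoc, e1, ← Category.assoc, ha'', ha'ρ]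
    have hb' : a'' = b ≫ inv (ρ ∣_ N) := by
      rw [← hb, Category.assoc, IsIso.hom_inv_id, Category.comp_id]
    calc a ≫ fst = a'' ≫ (ρ ⁻¹ᵁ N).ι ≫ Tk.ι ≫ fst := by
          rw [← Category.assoc, ha'', ← Category.assoc, ha']
      _ = b ≫ h := by
          rw [hb']
          simp only [h, Category.assoc]

end Groth.Agent.H2.FinStalk
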