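import Mathlib
import Groth.Agent.Lib.Helper2.FinStalkA

set_option autoImplicit false
set_option linter.style.haveILetI false
set_option linter.unusedVariables false
universe u
open CategoryTheory CategoryTheory.Limits AlgebraicGeometry MorphismProperty TopologicalSpace

namespace Groth.Agent.H2.FinStalk

open Groth.Agent.H2.PropInt in
/-- **Key lemma, geometric form.** Let `f : X ⟶ Y` be finite, `η` a geometric point of `Y` with
algebraically closed field, `G : U ⟶ X` étale with `U` separated over `Y`, and suppose every lift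
`ξ` of `η` to `X` is given a lift `u ξ` to `U`.  Then there are an étale neighbourhood `(V, v̄)` of
`η` and an `X`-morphism `h : X ×_Y V ⟶ U` carrying the geometric point `(ξ, v̄)` to `u ξ`. -/
theorem keyFinGeom {X Y U : Scheme.{u}} (f : X ⟶ Y) [IsFinite f] (G : U ⟶ X) [Etale G]
    [IsSeparated (G ≫ f)] {Ω : Type u} [Field Ω] [IsAlgClosed Ω] (η : Spec (.of Ω) ⟶ Y)
    (u : {ξ : Spec (.of Ω) ⟶ X // ξ ≫ f = η} → (Spec (.of Ω) ⟶ U))
    (hu : ∀ ξ, u ξ ≫ G = ξ.1) :
    ∃ (V : Scheme.{u}) (e : V ⟶ Y) (vb : Spec (.of Ω) ⟶ V), Etale e ∧ vb ≫ e = η ∧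
      ∃ h : pullback f e ⟶ U, h ≫ G = pullback.fst f e ∧
        ∀ (ξ : {ξ : Spec (.of Ω) ⟶ X // ξ ≫ f = η}) (qb : Spec (.of Ω) ⟶ pullback f e),
          qb ≫ pullback.fst f e = ξ.1 → qb ≫ pullback.snd f e = vb → qb ≫ h = u ξ := by
  classical
  haveI : LocallyQuasiFinite G := Groth.Agent.H2.GeomCount.locallyQuasiFinite_of_etale' G
  let π : U ⟶ Y := G ≫ f
  haveI : IsSeparated π := ‹_›
  haveI : LocallyQuasiFinite π := inferInstance
  haveI : LocallyOfFiniteType π := inferInstance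
  let L := {ξ : Spec (.of Ω) ⟶ X // ξ ≫ f = η}
  haveI : Finite L := finite_lifts f η
  let y : Y := η default
  let xpt : L → U := fun ξ => (u ξ) default
  have hxpt : ∀ ξ : L, π (xpt ξ) = y := by
    intro ξ
    change (u ξ ≫ G ≫ f) default = η default
    rw [reassoc_of% (hu ξ), ξ.2]
  -- index the finitely many points
  haveI : Finite ↥(Set.range xpt) := Set.finite_range xpt
  obtain ⟨m, ⟨em⟩⟩ := Finite.exists_equiv_fin ↥(Set.range xpt)
  let x : Fin m → U := fun i => (em.symm i).1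
  have hxinj : Function.Injective x := fun a b hab =>
    em.symm.injective (Subtype.ext hab)
  have hxs : ∀ i, π (x i) = y := by
    intro i
    obtain ⟨ξ, hξ⟩ := (em.symm i).2
    change π (em.symm i).1 = y
    rw [← hξ]
    exact hxpt ξ
  obtain ⟨V₁, e, v₁, P, fst, snd, he, hev, hP, n, idx, T, t, hdisj, hclosed, hfin, hall⟩ :=
    Groth.Agent.H1.WtSplit.sepSplit π y x hxinj hxs (fun i => π.quasiFiniteAt (x i))
  haveI := he
  -- lift the geometric point
  obtain ⟨vb₁, hvb₁, hvb₁pt⟩ := Scheme.exists_fac_of_etale_of_isSepClosed e η v₁ hev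
  have hcomm : (fst ≫ G) ≫ f = snd ≫ e := by rw [Category.assoc]; exact hP.w
  let r : P ⟶ pullback f e := pullback.lift (fst ≫ G) snd hcomm
  have hr1 : r ≫ pullback.fst f e = fst ≫ G := pullback.lift_fst _ _ _
  have hr2 : r ≫ pullback.snd f e = snd := pullback.lift_snd _ _ _
  -- the geometric points of `P`
  have hαw : ∀ ξ : L, u ξ ≫ π = vb₁ ≫ e := by
    intro ξ
    change u ξ ≫ G ≫ f = _
    rw [reassoc_of% (hu ξ), ξ.2, hvb₁]
  let α : L → (Spec (.of Ω) ⟶ P) := fun ξ => hP.lift (u ξ) vb₁ (hαw ξ)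
  have hα1 : ∀ ξ, α ξ ≫ fst = u ξ := fun ξ => hP.lift_fst _ _ _
  have hα2 : ∀ ξ, α ξ ≫ snd = vb₁ := fun ξ => hP.lift_snd _ _ _
  have hαr1 : ∀ ξ, (α ξ ≫ r) ≫ pullback.fst f e = ξ.1 := by
    intro ξ
    rw [Category.assoc, hr1, reassoc_of% (hα1 ξ), hu ξ]
  have hαr2 : ∀ ξ, (α ξ ≫ r) ≫ pullback.snd f e = vb₁ := by
    intro ξ
    rw [Category.assoc, hr2, hα2 ξ]
  have hk : ∀ ξ : L, ∃ k, α ξ default = t k := by
    intro ξ
    have h1 : snd (α ξ default) = v₁ := by
      rw [← Scheme.Hom.comp_apply, hα2 ξ]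
      exact hvb₁pt
    have h2 : fst (α ξ default) = x (em ⟨xpt ξ, ⟨ξ, rfl⟩⟩) := by
      rw [← Scheme.Hom.comp_apply, hα1 ξ]
      change xpt ξ = (em.symm (em ⟨xpt ξ, ⟨ξ, rfl⟩⟩)).1
      rw [Equiv.symm_apply_apply]
    obtain ⟨k, -, hk⟩ := hall (α ξ default) _ h1 h2
    exact ⟨k, hk⟩
  choose kk hkk using hk
  have key : ∀ k : Fin n, ∃ (N : (pullback f e).Opens) (hk : (N : Scheme.{u}) ⟶ U),
      IsClosed (N : Set ↥(pullback f e)) ∧
      r (t k) ∈ N ∧ hk ≫ G = N.ι ≫ pullback.fst f e ∧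
      (∀ (q : ↥(pullback f e)) (hq : q ∈ N), pullback.snd f e q = v₁ → q = r (t k)) ∧
      ∀ (S : Scheme.{u}) (a : S ⟶ P) (b : S ⟶ (N : Scheme.{u})), a ≫ r = b ≫ N.ι →
        (∀ s : S, a s ∈ T k) → a ≫ fst = b ≫ hk := by
    intro k
    obtain ⟨hFP, -, hpi⟩ := hfin k
    exact piece' f G e fst snd hP r hr1 hr2 v₁ (x (idx k)) (T k) (t k) hFP hpi
  choose N₀ h₀ hN₀cl hN₀mem hN₀G hN₀fib hN₀compat using key
  -- only the parts which are hit
  let N₁ : Fin n → Set ↥(pullback f e) := fun k =>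
    if k ∈ Set.range kk then (N₀ k : Set ↥(pullback f e)) else ∅
  have hN₁sub : ∀ k, N₁ k ⊆ N₀ k := by
    intro k
    by_cases hk : k ∈ Set.range kk
    · simp only [N₁, if_pos hk]; exact subset_rfl
    · simp only [N₁, if_neg hk]; exact Set.empty_subset _
  have hN₁clopen : ∀ k, IsClopen (N₁ k) := by
    intro k
    by_cases hk : k ∈ Set.range kk
    · simp only [N₁, if_pos hk]; exact ⟨hN₀cl k, (N₀ k).isOpen⟩
    · simp only [N₁, if_neg hk]; exact isClopen_empty
  have hN₁mem : ∀ k, (N₁ k).Nonempty → k ∈ Set.range kk := by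
    intro k hne
    by_contra hk
    simp only [N₁, if_neg hk] at hne
    exact Set.not_nonempty_empty hne
  haveI : IsFinite (pullback.snd f e) :=
    MorphismProperty.pullback_snd (P := @IsFinite) f e inferInstance
  -- the fibre over `v₁` is covered
  have hfib : ∀ q : ↥(pullback f e), pullback.snd f e q = v₁ →
      ∃ ξ : L, q = (α ξ ≫ r) default := by
    intro q hq
    obtain ⟨l, hl1, hl2⟩ := exists_lift_of_finite (pullback.snd f e) vb₁ q (hq.trans hvb₁pt.symm)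
    have hξ : (l ≫ pullback.fst f e) ≫ f = η := by
      rw [Category.assoc, pullback.condition, reassoc_of% hl1, hvb₁]
    refine ⟨⟨l ≫ pullback.fst f e, hξ⟩, ?_⟩
    have : α ⟨l ≫ pullback.fst f e, hξ⟩ ≫ r = l := by
      apply pullback.hom_ext
      · rw [hαr1]
      · rw [hαr2, hl1]
    rw [this, hl2]
  have hrt : ∀ ξ : L, (α ξ ≫ r) default = r (t (kk ξ)) := by
    intro ξ
    rw [Scheme.Hom.comp_apply, hkk ξ]
  have hrt' : ∀ (ξ : L) (s : Spec (.of Ω)), (α ξ ≫ r) s = r (t (kk ξ)) := by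
    intro ξ s
    have : s = default := Subsingleton.elim _ _
    rw [this]
    exact hrt ξ
  -- injectivity: two lifts landing in the same part are equal
  have hpiP : ∀ k, ((pullback.snd f e).residueFieldMap (r (t k))).hom.IsPurelyInseparable := by
    intro k
    obtain ⟨-, -, hpi⟩ := hfin k
    have : ((r ≫ pullback.snd f e).residueFieldMap (t k)).hom.IsPurelyInseparable := by
      rw [hr2]; exact hpi
    exact pi_residueFieldMap_bot r (pullback.snd f e) (t k) this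
  have hinjξ : ∀ ξ ξ' : L, r (t (kk ξ)) = r (t (kk ξ')) → ξ = ξ' := by
    intro ξ ξ' h
    have hpt : (α ξ ≫ r) (IsLocalRing.closedPoint Ω) = (α ξ' ≫ r) (IsLocalRing.closedPoint Ω) := by
      rw [hrt', hrt', h]
    have hpi' : ((pullback.snd f e).residueFieldMap
        ((α ξ ≫ r) (IsLocalRing.closedPoint Ω))).hom.IsPurelyInseparable := by
      rw [hrt']
      exact hpiP _
    have := eq_of_pi (pullback.snd f e) (α ξ ≫ r) (α ξ' ≫ r)
      (by rw [hαr2, hαr2]) hpt hpi'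
    apply Subtype.ext
    rw [← hαr1 ξ, ← hαr1 ξ', this]
  -- disjointification
  obtain ⟨D, hDclopen, hDsub, hDdisj, hDcov⟩ := exists_disjoint_clopen N₁ hN₁clopen
  let R : Set ↥(pullback f e) := (⋃ k, D k)ᶜ
  have hRcl : IsClosed R :=
    (isClopen_iUnion_of_finite fun k => hDclopen k).isOpen.isClosed_compl
  let Z : Set V₁ := (pullback.snd f e) '' R
  have hZcl : IsClosed Z := (pullback.snd f e).isClosedMap _ hRcl
  have hvZ : v₁ ∉ Z := by
    rintro ⟨q, hqR, hq⟩
    obtain ⟨ξ, hξ⟩ := hfib q hq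
    apply hqR
    rw [hDcov]
    refine Set.mem_iUnion.mpr ⟨kk ξ, ?_⟩
    have : kk ξ ∈ Set.range kk := ⟨ξ, rfl⟩
    simp only [N₁, if_pos this]
    rw [hξ, hrt]
    exact hN₀mem _
  let V₂ : V₁.Opens := ⟨Zᶜ, hZcl.isOpen_compl⟩
  let e₂ : (V₂ : Scheme.{u}) ⟶ Y := V₂.ι ≫ e
  let j : pullback f e₂ ⟶ pullback f e :=
    pullback.map f e₂ f e (𝟙 X) V₂.ι (𝟙 Y) (by simp) (by simp [e₂])
  have hj1 : j ≫ pullback.fst f e = pullback.fst f e₂ :=
    (pullback.lift_fst _ _ _).trans (Category.comp_id _)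
  have hj2 : j ≫ pullback.snd f e = pullback.snd f e₂ ≫ V₂.ι := pullback.lift_snd _ _ _
  let Dop : Fin n → (pullback f e).Opens := fun k => ⟨D k, (hDclopen k).isOpen⟩
  have hDle : ∀ k, Dop k ≤ N₀ k := fun k => (hDsub k).trans (hN₁sub k)
  let W : Fin n → (pullback f e₂).Opens := fun k => j ⁻¹ᵁ (Dop k)
  let hW : ∀ k, ((W k : (pullback f e₂).Opens) : Scheme.{u}) ⟶ U := fun k =>
    (j ∣_ (Dop k)) ≫ (pullback f e).homOfLE (hDle k) ≫ h₀ k
  have hWdisj : ∀ k l, k ≠ l → Disjoint (W k : Set ↥(pullback f e₂)) (W l : Set ↥(pullback f e₂)) := by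
    intro k l hkl
    rw [Set.disjoint_left]
    intro a ha ha'
    exact Set.disjoint_left.mp (hDdisj k l hkl) ha ha'
  have hjmem : ∀ p : ↥(pullback f e₂), j p ∈ ⋃ k, D k := by
    intro p
    by_contra hp
    have h1 : pullback.snd f e (j p) ∈ Z := ⟨j p, hp, rfl⟩
    have h2 : pullback.snd f e (j p) = V₂.ι (pullback.snd f e₂ p) := by
      rw [← Scheme.Hom.comp_apply, hj2, Scheme.Hom.comp_apply]
    rw [h2] at h1
    exact (pullback.snd f e₂ p).2 h1
  have hWcov : ∀ p : ↥(pullback f e₂), ∃ k, p ∈ W k := by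
    intro p
    obtain ⟨k, hk⟩ := Set.mem_iUnion.mp (hjmem p)
    exact ⟨k, hk⟩
  obtain ⟨H, hH, hHext⟩ := exists_glue_disjoint W hWdisj hWcov hW
  have hWG : ∀ k, hW k ≫ G = (W k).ι ≫ pullback.fst f e₂ := by
    intro k
    simp only [hW, Category.assoc]
    rw [hN₀G k, Scheme.homOfLE_ι_assoc, ← hj1]
    rw [← Category.assoc, morphismRestrict_ι, Category.assoc]
  -- the geometric point of `V₂`
  have hvb₁range : Set.range vb₁ ⊆ Set.range V₂.ι := by
    rintro _ ⟨s, rfl⟩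
    rw [Scheme.Opens.range_ι]
    have : s = default := Subsingleton.elim _ _
    rw [this, hvb₁pt]
    exact hvZ
  let vb₂ : Spec (.of Ω) ⟶ (V₂ : Scheme.{u}) := IsOpenImmersion.lift V₂.ι vb₁ hvb₁range
  have hvb₂ : vb₂ ≫ V₂.ι = vb₁ := IsOpenImmersion.lift_fac _ _ _
  refine ⟨V₂, e₂, vb₂, inferInstance, ?_, H, ?_, ?_⟩
  · simp only [e₂]
    rw [reassoc_of% hvb₂, hvb₁]
  · apply hHext
    intro k
    rw [← Category.assoc, hH k, hWG k]
  · intro ξ qb hq1 hq2
    -- `qb ≫ j` is the geometric point `α ξ ≫ r`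
    have hqj : qb ≫ j = α ξ ≫ r := by
      apply pullback.hom_ext
      · rw [Category.assoc, hj1, hq1, hαr1]
      · rw [Category.assoc, hj2, reassoc_of% hq2, hvb₂, hαr2]
    have hjpt : j (qb default) = r (t (kk ξ)) := by
      rw [← Scheme.Hom.comp_apply, hqj, hrt]
    obtain ⟨mm, hmm⟩ := Set.mem_iUnion.mp (hjmem (qb default))
    -- `mm = kk ξ`
    have hmm1 : j (qb default) ∈ N₁ mm := hDsub mm hmm
    obtain ⟨ξ', hξ'⟩ := hN₁mem mm ⟨_, hmm1⟩
    have hmm0 : j (qb default) ∈ N₀ mm := hN₁sub mm hmm1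
    have hsndv : pullback.snd f e (j (qb default)) = v₁ := by
      rw [hjpt, ← Scheme.Hom.comp_apply, hr2]
      have := (hfin (kk ξ)).1.snd_eq
      exact this
    have h3 : j (qb default) = r (t mm) := hN₀fib mm _ hmm0 hsndv
    have h4 : ξ = ξ' := by
      apply hinjξ
      rw [hξ', ← h3, hjpt]
    have hmk : mm = kk ξ := by rw [h4, hξ']
    -- `qb` factors through `W mm`
    have hqbrange : Set.range qb ⊆ Set.range (W mm).ι := by
      rintro _ ⟨s, rfl⟩
      rw [Scheme.Opens.range_ι]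
      have : s = default := Subsingleton.elim _ _
      rw [this]
      exact hmm
    let qb' : Spec (.of Ω) ⟶ ((W mm : (pullback f e₂).Opens) : Scheme.{u}) :=
      IsOpenImmersion.lift (W mm).ι qb hqbrange
    have hqb' : qb' ≫ (W mm).ι = qb := IsOpenImmersion.lift_fac _ _ _
    let b : Spec (.of Ω) ⟶ ((N₀ mm : (pullback f e).Opens) : Scheme.{u}) :=
      qb' ≫ (j ∣_ (Dop mm)) ≫ (pullback f e).homOfLE (hDle mm)
    have hb : α ξ ≫ r = b ≫ (N₀ mm).ι := by
      simp only [b, Category.assoc]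
      rw [Scheme.homOfLE_ι, morphismRestrict_ι, reassoc_of% hqb', hqj]
    have hT : ∀ s : Spec (.of Ω), α ξ s ∈ T mm := by
      intro s
      have : s = default := Subsingleton.elim _ _
      rw [this, hkk ξ, hmk]
      exact (hfin (kk ξ)).1.mem
    have h5 := hN₀compat mm _ (α ξ) b hb hT
    calc qb ≫ H = qb' ≫ (W mm).ι ≫ H := by rw [reassoc_of% hqb']
      _ = qb' ≫ hW mm := by rw [hH mm]
      _ = b ≫ h₀ mm := by simp only [b, hW, Category.assoc]
      _ = α ξ ≫ fst := h5.symm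
      _ = u ξ := hα1 ξ

end Groth.Agent.H2.FinStalk
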