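import Mathlib
import Groth.Agent.Lib.Helper2.FinStalkB

set_option autoImplicit false
set_option linter.style.haveILetI false
set_option linter.unusedVariables false
universe u
open CategoryTheory CategoryTheory.Limits AlgebraicGeometry MorphismProperty TopologicalSpace

namespace Groth.Agent.H2.FinStalk

/-- **Key lemma, geometric form, with a family of étale neighbourhoods.**  For `f` finite and
every lift `ξ` of `η` an étale `G ξ : U ξ ⟶ X` with a lift `u ξ` of `ξ`, there are an étale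
neighbourhood `(V, v̄)` of `η` and a partition of `X ×_Y V` into open subschemes `D ξ` with
`X`-morphisms `D ξ ⟶ U ξ` carrying `(ξ, v̄)` to `u ξ`. -/
theorem keyFinGeom' {X Y : Scheme.{u}} (f : X ⟶ Y) [IsFinite f] {Ω : Type u} [Field Ω]
    [IsAlgClosed Ω] (η : Spec (.of Ω) ⟶ Y)
    (U : {ξ : Spec (.of Ω) ⟶ X // ξ ≫ f = η} → Scheme.{u})
    (G : ∀ ξ, U ξ ⟶ X) [∀ ξ, Etale (G ξ)]
    (u : ∀ ξ, Spec (.of Ω) ⟶ U ξ) (hu : ∀ ξ, u ξ ≫ G ξ = ξ.1) :
    ∃ (V : Scheme.{u}) (e : V ⟶ Y) (vb : Spec (.of Ω) ⟶ V), Etale e ∧ vb ≫ e = η ∧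
      ∃ (D : {ξ : Spec (.of Ω) ⟶ X // ξ ≫ f = η} → (pullback f e).Opens)
        (h : ∀ ξ, (D ξ : Scheme.{u}) ⟶ U ξ),
        (∀ ξ ξ', ξ ≠ ξ' → Disjoint (D ξ : Set ↥(pullback f e)) (D ξ')) ∧
        (∀ p : ↥(pullback f e), ∃ ξ, p ∈ D ξ) ∧
        (∀ ξ, h ξ ≫ G ξ = (D ξ).ι ≫ pullback.fst f e) ∧
        ∀ (ξ : {ξ : Spec (.of Ω) ⟶ X // ξ ≫ f = η}) (qb : Spec (.of Ω) ⟶ pullback f e),
          qb ≫ pullback.fst f e = ξ.1 → qb ≫ pullback.snd f e = vb →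
          ∃ qb' : Spec (.of Ω) ⟶ (D ξ : Scheme.{u}), qb' ≫ (D ξ).ι = qb ∧ qb' ≫ h ξ = u ξ := by
  classical
  let L := {ξ : Spec (.of Ω) ⟶ X // ξ ≫ f = η}
  haveI : Finite L := finite_lifts f η
  -- affine neighbourhoods
  let idx : ∀ ξ : L, (U ξ).affineCover.I₀ := fun ξ => (U ξ).affineCover.idx ((u ξ) default)
  let A : L → Scheme.{u} := fun ξ => (U ξ).affineCover.X (idx ξ)
  let ιA : ∀ ξ : L, A ξ ⟶ U ξ := fun ξ => (U ξ).affineCover.f (idx ξ)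
  haveI : ∀ ξ, IsAffine (A ξ) := fun ξ => by dsimp only [A]; infer_instance
  haveI : ∀ ξ, IsOpenImmersion (ιA ξ) := fun ξ => by dsimp only [ιA]; infer_instance
  have hrange : ∀ ξ : L, Set.range (u ξ) ⊆ Set.range (ιA ξ) := by
    rintro ξ _ ⟨s, rfl⟩
    have : s = default := Subsingleton.elim _ _
    rw [this]
    exact (U ξ).affineCover.covers ((u ξ) default)
  let u₀ : ∀ ξ : L, Spec (.of Ω) ⟶ A ξ := fun ξ => IsOpenImmersion.lift (ιA ξ) (u ξ) (hrange ξ)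
  have hu₀ : ∀ ξ, u₀ ξ ≫ ιA ξ = u ξ := fun ξ => IsOpenImmersion.lift_fac _ _ _
  let UU : Scheme.{u} := ∐ A
  let GG : UU ⟶ X := Sigma.desc (fun ξ => ιA ξ ≫ G ξ)
  have hιGG : ∀ ξ, Sigma.ι A ξ ≫ GG = ιA ξ ≫ G ξ := fun ξ => Sigma.ι_desc _ _
  haveI : Etale GG := IsZariskiLocalAtSource.sigmaDesc (P := @Etale) (fun ξ => inferInstance)
  haveI : IsAffine UU := by dsimp only [UU]; infer_instance
  haveI : IsSeparated (GG ≫ f) := inferInstance
  let uU : L → (Spec (.of Ω) ⟶ UU) := fun ξ => u₀ ξ ≫ Sigma.ι A ξ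
  have huU : ∀ ξ, uU ξ ≫ GG = ξ.1 := by
    intro ξ
    simp only [uU, Category.assoc]
    rw [hιGG, reassoc_of% (hu₀ ξ), hu ξ]
  obtain ⟨V, e, vb, he, hvb, h, hhG, hpt⟩ := keyFinGeom f GG η uU huU
  refine ⟨V, e, vb, he, hvb, ?_⟩
  let D : L → (pullback f e).Opens := fun ξ => h ⁻¹ᵁ (Sigma.ι A ξ).opensRange
  let hh : ∀ ξ, (D ξ : Scheme.{u}) ⟶ U ξ := fun ξ =>
    (h ∣_ (Sigma.ι A ξ).opensRange) ≫ (Sigma.ι A ξ).isoOpensRange.inv ≫ ιA ξ
  refine ⟨D, hh, ?_, ?_, ?_, ?_⟩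
  · intro ξ ξ' hne
    rw [Set.disjoint_left]
    intro p hp hp'
    have h1 : h p ∈ (Sigma.ι A ξ).opensRange := hp
    have h2 : h p ∈ (Sigma.ι A ξ').opensRange := hp'
    have := disjoint_opensRange_sigmaι A ξ ξ' hne
    exact (this.le_bot ⟨h1, h2⟩)
  · intro p
    obtain ⟨ξ, a, ha⟩ := (sigmaOpenCover A).exists_eq (h p)
    exact ⟨ξ, ⟨a, ha⟩⟩
  · intro ξ
    simp only [hh, Category.assoc]
    rw [← hιGG, Scheme.Hom.isoOpensRange_inv_comp_assoc, ← Category.assoc, morphismRestrict_ι,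
      Category.assoc, hhG]
  · intro ξ qb hq1 hq2
    have h1 : qb ≫ h = uU ξ := hpt ξ qb hq1 hq2
    have hqbrange : Set.range qb ⊆ Set.range (D ξ).ι := by
      rintro _ ⟨s, rfl⟩
      rw [Scheme.Opens.range_ι]
      change h (qb s) ∈ (Sigma.ι A ξ).opensRange
      rw [← Scheme.Hom.comp_apply, h1]
      exact ⟨u₀ ξ s, rfl⟩
    let qb' : Spec (.of Ω) ⟶ (D ξ : Scheme.{u}) := IsOpenImmersion.lift (D ξ).ι qb hqbrange
    have hqb' : qb' ≫ (D ξ).ι = qb := IsOpenImmersion.lift_fac _ _ _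
    refine ⟨qb', hqb', ?_⟩
    have h2 : qb' ≫ (h ∣_ (Sigma.ι A ξ).opensRange) ≫ (Sigma.ι A ξ).isoOpensRange.inv = u₀ ξ := by
      rw [← cancel_mono (Sigma.ι A ξ)]
      simp only [Category.assoc]
      rw [Scheme.Hom.isoOpensRange_inv_comp, morphismRestrict_ι, reassoc_of% hqb', h1]
    simp only [hh]
    rw [← Category.assoc, ← Category.assoc, Category.assoc qb', h2, hu₀]


/-- An open subset of `V ×_Y X` containing all geometric points over a geometric point `xl` of `V`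
contains the preimage of an open neighbourhood of `xl` (for `f` finite). -/
theorem exists_open_nhd {X Y V : Scheme.{u}} (f : X ⟶ Y) [IsFinite f] (a : V ⟶ Y)
    {Ω : Type u} [Field Ω] [IsAlgClosed Ω] (xl : Spec (.of Ω) ⟶ V) (O : (pullback a f).Opens)
    (hO : ∀ l : Spec (.of Ω) ⟶ pullback a f, l ≫ pullback.fst a f = xl →
      l (default : ↥(Spec (CommRingCat.of Ω))) ∈ O) :
    ∃ Vo : V.Opens, xl (default : ↥(Spec (CommRingCat.of Ω))) ∈ Vo ∧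
      ∀ q : ↥(pullback a f), pullback.fst a f q ∈ Vo → q ∈ O := by
  haveI : IsFinite (pullback.fst a f) :=
    MorphismProperty.pullback_fst (P := @IsFinite) a f inferInstance
  let Z : Set ↥V := (pullback.fst a f) '' (O : Set ↥(pullback a f))ᶜ
  have hZcl : IsClosed Z := (pullback.fst a f).isClosedMap _ O.isOpen.isClosed_compl
  refine ⟨⟨Zᶜ, hZcl.isOpen_compl⟩, ?_, ?_⟩
  · rintro ⟨q, hqO, hq⟩
    obtain ⟨l, hl1, hl2⟩ := exists_lift_of_finite (pullback.fst a f) xl q hq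
    apply hqO
    rw [← hl2]
    exact hO l hl1
  · intro q hq
    by_contra hqO
    exact hq ⟨q, hqO, rfl⟩

end Groth.Agent.H2.FinStalk
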