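import Mathlib
import Groth.Prelude.Def_EtBase
import Groth.Agent.Lib.Helper2.FinStalkC
import Groth.Agent.Lib.Helper7.Sup1
import Groth.Agent.Lib.Helper7.PropB1

set_option autoImplicit false
set_option linter.style.haveILetI false
set_option linter.unusedVariables false
universe u
open CategoryTheory CategoryTheory.Limits AlgebraicGeometry MorphismProperty TopologicalSpace Opposite

namespace Groth.Agent.H2.FinStalk

variable {X Y : Scheme.{u}} (f : X ⟶ Y) {Ω : Type u} [Field Ω] [IsSepClosed Ω]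

/-- The geometric point of `X ×_Y V` given by a lift `ξ` of `η` and a geometric point of `V`. -/
noncomputable def liftPt (η : Spec (.of Ω) ⟶ Y) (ξ : Spec (.of Ω) ⟶ X) (hξ : ξ ≫ f = η)
    (V : Y.Etale) (x : (Scheme.pointSmallEtale η).fiber.obj V) :
    (Scheme.pointSmallEtale ξ).fiber.obj ((EtCoh.bc f).obj V) :=
  Over.homMk (pullback.lift x.left ξ (by rw [hξ]; exact Over.w x))
    (pullback.lift_snd _ _ _)

lemma liftPt_left (η : Spec (.of Ω) ⟶ Y) (ξ : Spec (.of Ω) ⟶ X) (hξ : ξ ≫ f = η)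
    (V : Y.Etale) (x : (Scheme.pointSmallEtale η).fiber.obj V) :
    (liftPt f η ξ hξ V x).left = pullback.lift x.left ξ (by rw [hξ]; exact Over.w x) := rfl

set_option backward.isDefEq.respectTransparency.types false in
lemma liftPt_map (η : Spec (.of Ω) ⟶ Y) (ξ : Spec (.of Ω) ⟶ X) (hξ : ξ ≫ f = η)
    {V V' : Y.Etale} (g : V' ⟶ V) (x : (Scheme.pointSmallEtale η).fiber.obj V') :
    (Scheme.pointSmallEtale ξ).fiber.map ((EtCoh.bc f).map g) (liftPt f η ξ hξ V' x) =
      liftPt f η ξ hξ V ((Scheme.pointSmallEtale η).fiber.map g x) := by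
  apply Over.OverMorphism.ext
  have e0 : ((EtCoh.bc f).map g).left ≫ pullback.fst V.hom f = pullback.fst V'.hom f ≫ g.left :=
    (EtCoh.isPullback_bc_map f g).w
  have e1 : ((EtCoh.bc f).map g).left ≫ pullback.snd V.hom f = pullback.snd V'.hom f := by
    dsimp [EtCoh.bc]
    exact pullback.lift_snd _ _ _
  apply pullback.hom_ext
  · calc ((liftPt f η ξ hξ V' x).left ≫ ((EtCoh.bc f).map g).left) ≫ pullback.fst V.hom f
        = (liftPt f η ξ hξ V' x).left ≫ (((EtCoh.bc f).map g).left ≫ pullback.fst V.hom f) :=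
          Category.assoc _ _ _
      _ = (liftPt f η ξ hξ V' x).left ≫ (pullback.fst V'.hom f ≫ g.left) :=
          congrArg (fun m => (liftPt f η ξ hξ V' x).left ≫ m) e0
      _ = ((liftPt f η ξ hξ V' x).left ≫ pullback.fst V'.hom f) ≫ g.left :=
          (Category.assoc _ _ _).symm
      _ = x.left ≫ g.left := congrArg (fun m => m ≫ g.left) (pullback.lift_fst _ _ _)
      _ = (liftPt f η ξ hξ V ((Scheme.pointSmallEtale η).fiber.map g x)).left ≫
            pullback.fst V.hom f := (pullback.lift_fst _ _ _).symm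
  · calc ((liftPt f η ξ hξ V' x).left ≫ ((EtCoh.bc f).map g).left) ≫ pullback.snd V.hom f
        = (liftPt f η ξ hξ V' x).left ≫ (((EtCoh.bc f).map g).left ≫ pullback.snd V.hom f) :=
          Category.assoc _ _ _
      _ = (liftPt f η ξ hξ V' x).left ≫ pullback.snd V'.hom f :=
          congrArg (fun m => (liftPt f η ξ hξ V' x).left ≫ m) e1
      _ = ξ := pullback.lift_snd _ _ _
      _ = (liftPt f η ξ hξ V ((Scheme.pointSmallEtale η).fiber.map g x)).left ≫
            pullback.snd V.hom f := (pullback.lift_snd _ _ _).symm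

/-- The projection from the stalk of `f_* F` at `η` to the stalk of `F` at a lift `ξ` of `η`. -/
noncomputable def proj (F : EtCoh.Ab X) (η : Spec (.of Ω) ⟶ Y) (ξ : Spec (.of Ω) ⟶ X)
    (hξ : ξ ≫ f = η) :
    (EtCoh.stalk η).obj ((EtCoh.push f).obj F) ⟶ (EtCoh.stalk ξ).obj F :=
  (Scheme.pointSmallEtale η).presheafFiberDesc (P := ((EtCoh.push f).obj F).obj)
    (fun V x => (Scheme.pointSmallEtale ξ).toPresheafFiber ((EtCoh.bc f).obj V)
      (liftPt f η ξ hξ V x) F.obj)
    (by
      intro V' V g x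
      have := (Scheme.pointSmallEtale ξ).toPresheafFiber_w ((EtCoh.bc f).map g)
        (liftPt f η ξ hξ V' x) F.obj
      rw [liftPt_map] at this
      exact this)

lemma germ_proj (F : EtCoh.Ab X) (η : Spec (.of Ω) ⟶ Y) (ξ : Spec (.of Ω) ⟶ X)
    (hξ : ξ ≫ f = η) (V : Y.Etale) (x : (Scheme.pointSmallEtale η).fiber.obj V) :
    (Scheme.pointSmallEtale η).toPresheafFiber V x ((EtCoh.push f).obj F).obj ≫ proj f F η ξ hξ =
      (Scheme.pointSmallEtale ξ).toPresheafFiber ((EtCoh.bc f).obj V) (liftPt f η ξ hξ V x) F.obj :=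
  (Scheme.pointSmallEtale η).toPresheafFiber_presheafFiberDesc _ _ V x

lemma germ_proj_apply (F : EtCoh.Ab X) (η : Spec (.of Ω) ⟶ Y) (ξ : Spec (.of Ω) ⟶ X)
    (hξ : ξ ≫ f = η) (V : Y.Etale) (x : (Scheme.pointSmallEtale η).fiber.obj V)
    (s : F.obj.obj (op ((EtCoh.bc f).obj V))) :
    proj f F η ξ hξ
      ((Scheme.pointSmallEtale η).toPresheafFiber V x ((EtCoh.push f).obj F).obj s) =
      (Scheme.pointSmallEtale ξ).toPresheafFiber ((EtCoh.bc f).obj V) (liftPt f η ξ hξ V x) F.obj s :=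
  ConcreteCategory.congr_hom (germ_proj f F η ξ hξ V x) s

end Groth.Agent.H2.FinStalk

namespace Groth.Agent.H2.FinStalk

variable {Y : Scheme.{u}}

/-- An open subscheme of an étale `Y`-scheme, as an object of the small étale site. -/
noncomputable def openObj (V : Y.Etale) (Vo : V.left.Opens) : Y.Etale :=
  haveI : AlgebraicGeometry.Etale V.hom := V.prop
  MorphismProperty.Over.mk ⊤ (Vo.ι ≫ V.hom) inferInstance

/-- The inclusion of an open subscheme of an étale `Y`-scheme. -/
noncomputable def openIncl (V : Y.Etale) (Vo : V.left.Opens) : openObj V Vo ⟶ V :=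
  MorphismProperty.Over.homMk Vo.ι rfl

lemma openIncl_left (V : Y.Etale) (Vo : V.left.Opens) : (openIncl V Vo).left = Vo.ι := rfl

variable {Ω : Type u} [Field Ω] [IsSepClosed Ω]

/-- A geometric point of `V` whose image lies in the open `Vo` lifts to `Vo`. -/
theorem exists_fiber_openObj (η : Spec (.of Ω) ⟶ Y) (V : Y.Etale) (Vo : V.left.Opens)
    (x : (Scheme.pointSmallEtale η).fiber.obj V)
    (hx : x.left (default : ↥(Spec (CommRingCat.of Ω))) ∈ Vo) :
    ∃ xo : (Scheme.pointSmallEtale η).fiber.obj (openObj V Vo),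
      (Scheme.pointSmallEtale η).fiber.map (openIncl V Vo) xo = x := by
  obtain ⟨xl, hxl⟩ : ∃ xl : Spec (.of Ω) ⟶ V.left, xl = x.left := ⟨_, rfl⟩
  have hxlw : xl ≫ V.hom = η := hxl ▸ Over.w x
  have hxrange : Set.range xl ⊆ Set.range Vo.ι := by
    intro p hp
    obtain ⟨a, rfl⟩ := hp
    have ha : a = (default : ↥(Spec (CommRingCat.of Ω))) := Subsingleton.elim _ _
    have hmem : xl a ∈ Vo := by rw [ha, hxl]; exact hx
    exact ⟨⟨_, hmem⟩, rfl⟩
  obtain ⟨l, hl⟩ : ∃ l : Spec (.of Ω) ⟶ (Vo : Scheme.{u}), l ≫ Vo.ι = xl :=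
    ⟨IsOpenImmersion.lift Vo.ι xl hxrange, IsOpenImmersion.lift_fac _ _ _⟩
  have hw : l ≫ (Vo.ι ≫ V.hom) = η := by
    rw [reassoc_of% hl, hxlw]
  have key : ∃ xo : Over.mk η ⟶ (Scheme.Etale.forget Y).obj (openObj V Vo), xo.left = l :=
    ⟨Over.homMk l hw, rfl⟩
  obtain ⟨xo, hxo⟩ := key
  refine ⟨xo, ?_⟩
  apply Over.OverMorphism.ext
  change xo.left ≫ Vo.ι = x.left
  exact (congrArg (fun m => m ≫ Vo.ι) hxo).trans (hl.trans hxl)

end Groth.Agent.H2.FinStalk

namespace Groth.Agent.H2.FinStalk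

variable {X Y : Scheme.{u}} (f : X ⟶ Y) [IsFinite f] {Ω : Type u} [Field Ω] [IsAlgClosed Ω]

set_option backward.isDefEq.respectTransparency.types false in
/-- Injectivity part of the stalk formula for finite morphisms. -/
theorem proj_injective (F : EtCoh.Ab X) (η : Spec (.of Ω) ⟶ Y)
    (z : ToType ((EtCoh.stalk η).obj ((EtCoh.push f).obj F)))
    (hz : ∀ (ξ : Spec (.of Ω) ⟶ X) (hξ : ξ ≫ f = η), proj f F η ξ hξ z = 0) : z = 0 := by
  obtain ⟨V, x, s, rfl⟩ := (Scheme.pointSmallEtale η).toPresheafFiber_jointly_surjective z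
  -- `s` vanishes near every geometric point of the fibre
  have hvan : ∀ (ξ : Spec (.of Ω) ⟶ X) (hξ : ξ ≫ f = η),
      (liftPt f η ξ hξ V x).left (default : ↥(Spec (CommRingCat.of Ω))) ∈
        Groth.Agent.H7.Sup.vanOpen F ((EtCoh.bc f).obj V) s := by
    intro ξ hξ
    have h1 : (Scheme.pointSmallEtale ξ).toPresheafFiber ((EtCoh.bc f).obj V)
        (liftPt f η ξ hξ V x) F.obj s = 0 :=
      (germ_proj_apply f F η ξ hξ V x s).symm.trans (hz ξ hξ)
    have h2 : (Scheme.pointSmallEtale ξ).toPresheafFiber ((EtCoh.bc f).obj V)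
        (liftPt f η ξ hξ V x) F.obj s =
        (Scheme.pointSmallEtale ξ).toPresheafFiber ((EtCoh.bc f).obj V)
        (liftPt f η ξ hξ V x) F.obj 0 := by
      rw [h1, map_zero]
    obtain ⟨W, g, w, hw, hs⟩ := ((Scheme.pointSmallEtale ξ).toPresheafFiber_eq_iff' _ _ _ _).mp h2
    rw [map_zero] at hs
    refine (Groth.Agent.H7.Sup.mem_vanOpen F).2 ⟨W, g, hs,
      w.left (default : ↥(Spec (CommRingCat.of Ω))), ?_⟩
    rw [← hw]
    rfl
  -- shrink `V`
  obtain ⟨Vo, hVo1, hVo2⟩ := exists_open_nhd f V.hom x.left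
    (Groth.Agent.H7.Sup.vanOpen F ((EtCoh.bc f).obj V) s) (by
      intro l hl1
      have hξ : (l ≫ pullback.snd V.hom f) ≫ f = η :=
        calc (l ≫ pullback.snd V.hom f) ≫ f = l ≫ (pullback.snd V.hom f ≫ f) := Category.assoc _ _ _
          _ = l ≫ (pullback.fst V.hom f ≫ V.hom) :=
              congrArg (fun m => l ≫ m) pullback.condition.symm
          _ = (l ≫ pullback.fst V.hom f) ≫ V.hom := (Category.assoc _ _ _).symm
          _ = x.left ≫ V.hom := congrArg (fun m => m ≫ V.hom) hl1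
          _ = η := Over.w x
      have h1 : (liftPt f η (l ≫ pullback.snd V.hom f) hξ V x).left = l := by
        apply pullback.hom_ext
        · exact (pullback.lift_fst _ _ _).trans hl1.symm
        · exact pullback.lift_snd _ _ _
      have h2 := hvan (l ≫ pullback.snd V.hom f) hξ
      have h3 : (liftPt f η (l ≫ pullback.snd V.hom f) hξ V x).left
          (default : ↥(Spec (CommRingCat.of Ω))) = l (default : ↥(Spec (CommRingCat.of Ω))) :=
        congrArg (fun m : Spec (CommRingCat.of Ω) ⟶ ((EtCoh.bc f).obj V).left =>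
          m (default : ↥(Spec (CommRingCat.of Ω)))) h1
      exact h3 ▸ h2)
  obtain ⟨xo, hxo⟩ := exists_fiber_openObj η V Vo x hVo1
  have hzero : F.obj.map ((EtCoh.bc f).map (openIncl V Vo)).op s = 0 := by
    rw [Groth.Agent.H7.Sup.map_eq_zero_iff]
    rintro _ ⟨q, rfl⟩
    apply hVo2
    have e0 : ((EtCoh.bc f).map (openIncl V Vo)).left ≫ pullback.fst V.hom f =
        pullback.fst (openObj V Vo).hom f ≫ (openIncl V Vo).left :=
      (EtCoh.isPullback_bc_map f (openIncl V Vo)).w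
    have h2 : (pullback.fst V.hom f) (((EtCoh.bc f).map (openIncl V Vo)).left q) =
        Vo.ι ((pullback.fst (openObj V Vo).hom f) q) :=
      congrArg (fun m : ((EtCoh.bc f).obj (openObj V Vo)).left ⟶ V.left => m q) e0
    rw [h2]
    exact ((pullback.fst (openObj V Vo).hom f) q).2
  have hw := (Scheme.pointSmallEtale η).toPresheafFiber_w_apply (openIncl V Vo) xo
    ((EtCoh.push f).obj F).obj s
  rw [hxo] at hw
  refine hw.symm.trans ?_
  have h0 : ((EtCoh.push f).obj F).obj.map (openIncl V Vo).op s = 0 := hzero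
  rw [h0, map_zero]
  rfl

end Groth.Agent.H2.FinStalk
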