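import Mathlib
import Groth.Agent.Lib.Helper2.FinStalkD

set_option autoImplicit false
set_option linter.style.haveILetI false
set_option linter.unusedVariables false
universe w u
open CategoryTheory CategoryTheory.Limits AlgebraicGeometry MorphismProperty TopologicalSpace Opposite

namespace Groth.Agent.H2.SmEtSheaf

variable {X : Scheme.{u}}

/-- The Zariski topology on the category of étale `X`-schemes. -/
abbrev JZar (X : Scheme.{u}) : GrothendieckTopology X.Etale :=
  X.smallGrothendieckTopology (P := @IsOpenImmersion)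

set_option backward.isDefEq.respectTransparency.types false in
lemma mem_JZar_iff {U : X.Etale} (S : Sieve U) :
    S ∈ JZar X U ↔ ∀ x : U.left, ∃ (Y : X.Etale) (f : Y ⟶ U) (y : Y.left),
      S f ∧ IsOpenImmersion f.left ∧ f.left y = x := by
  have e : JZar X = (X.smallPretopology (P := @IsOpenImmersion) (Q := @Etale)).toGrothendieck :=
    Scheme.smallGrothendieckTopology_eq_toGrothendieck_smallPretopology X
      (fun _ _ f hf => by haveI : IsOpenImmersion f := hf; infer_instance)
  rw [e]
  exact Scheme.mem_toGrothendieck_smallPretopology U S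

set_option backward.isDefEq.respectTransparency.types false in
lemma mem_Jet_iff {U : X.Etale} (S : Sieve U) :
    S ∈ X.smallEtaleTopology U ↔ ∀ x : U.left, ∃ (Y : X.Etale) (f : Y ⟶ U) (y : Y.left),
      S f ∧ f.left y = x := by
  have e : X.smallEtaleTopology =
      (X.smallPretopology (P := @Etale) (Q := @Etale)).toGrothendieck :=
    Scheme.smallGrothendieckTopology_eq_toGrothendieck_smallPretopology X le_rfl
  rw [e]
  constructor
  · intro h x
    obtain ⟨Y, f, y, h1, -, h2⟩ := (Scheme.mem_toGrothendieck_smallPretopology U S).1 h x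
    exact ⟨Y, f, y, h1, h2⟩
  · intro h
    refine (Scheme.mem_toGrothendieck_smallPretopology U S).2 (fun x => ?_)
    obtain ⟨Y, f, y, h1, h2⟩ := h x
    exact ⟨Y, f, y, h1, inferInstance, h2⟩

lemma JZar_le : JZar X ≤ X.smallEtaleTopology := by
  intro U S hS
  rw [mem_Jet_iff]
  intro x
  obtain ⟨Y, f, y, h1, -, h2⟩ := (mem_JZar_iff S).1 hS x
  exact ⟨Y, f, y, h1, h2⟩

variable (F : X.Etaleᵒᵖ ⥤ Type w)

/-- Forward direction. -/
theorem forward (h : Presieve.IsSheaf X.smallEtaleTopology F) :
    Presieve.IsSheaf (JZar X) F ∧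
      ∀ (U V : X.Etale) [IsAffine U.left] [IsAffine V.left] (f : V ⟶ U) [Surjective f.left],
        Presieve.IsSheafFor F (Presieve.singleton f) := by
  refine ⟨Presieve.isSheaf_of_le F JZar_le h, ?_⟩
  intro U V _ _ f hf
  apply h.isSheafFor
  rw [mem_Jet_iff]
  intro x
  obtain ⟨y, hy⟩ := hf.surj x
  exact ⟨V, f, y, Sieve.le_generate _ _ _ (Presieve.singleton_self f), hy⟩

variable {F}

/-- Sections over an empty scheme form a subsingleton for a Zariski sheaf. -/
lemma subsingleton_of_isEmpty (hZ : Presieve.IsSheaf (JZar X) F) (Z : X.Etale) [IsEmpty Z.left] :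
    Subsingleton (F.obj (op Z)) := by
  have hbot : (⊥ : Sieve Z) ∈ JZar X Z := by
    rw [mem_JZar_iff]
    intro x
    exact (IsEmpty.false x).elim
  refine ⟨fun s t => ?_⟩
  refine (hZ _ hbot).isSeparatedFor.ext ?_
  intro Y f hf
  exact hf.elim

/-- Zariski-local equality of sections. -/
lemma zar_ext (hZ : Presieve.IsSheaf (JZar X) F) {U : X.Etale} (s t : F.obj (op U))
    (h : ∀ x : U.left, ∃ (Y : X.Etale) (f : Y ⟶ U) (y : Y.left),
      IsOpenImmersion f.left ∧ f.left y = x ∧ F.map f.op s = F.map f.op t) : s = t := by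
  let S : Sieve U :=
    { arrows := fun Y f => F.map f.op s = F.map f.op t
      downward_closed := by
        intro Y Z f hf g
        rw [op_comp, F.map_comp]
        change F.map g.op (F.map f.op s) = F.map g.op (F.map f.op t)
        rw [hf] }
  have hS : S ∈ JZar X U := by
    rw [mem_JZar_iff]
    intro x
    obtain ⟨Y, f, y, h1, h2, h3⟩ := h x
    exact ⟨Y, f, y, h3, h1, h2⟩
  exact (hZ _ hS).isSeparatedFor.ext (fun Y f hf => hf)

end Groth.Agent.H2.SmEtSheaf
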