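import Mathlib
import Groth.Agent.Lib.Helper2.LCModelC
import Groth.Agent.Lib.Helper2.SmEtSheafA
import Groth.Agent.Lib.Helper7.GalCov2

set_option autoImplicit false
set_option linter.style.haveILetI false
set_option linter.unusedSectionVars false
universe u
open CategoryTheory CategoryTheory.Limits Opposite TopologicalSpace AlgebraicGeometry

namespace Groth.Agent.H2.LCModel

section overSite

variable {C : Type (u + 1)} [Category.{u} C] {J : GrothendieckTopology C} (R : TopReal J)

set_option backward.isDefEq.respectTransparency.types false in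
/-- A topological realization induces one on every slice site. -/
def TopReal.over (U : C) : TopReal (J.over U) where
  pt Y := R.pt Y.left
  top Y := R.top Y.left
  map g := R.map g.left
  map_id Y v := R.map_id Y.left v
  map_comp f g x := R.map_comp f.left g.left x
  continuous g := R.continuous g.left
  isOpenMap g := R.isOpenMap g.left
  exists_mem {Y} S hS v := by
    rw [GrothendieckTopology.mem_over_iff] at hS
    obtain ⟨W, f, w, hf, hw⟩ := R.exists_mem _ hS v
    rw [Sieve.overEquiv_iff] at hf
    exact ⟨Over.mk (f ≫ Y.hom), Over.homMk f, w, hf, hw⟩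
  exists_sq {V W W'} f f' w w' hww := by
    obtain ⟨Z, h, h', z, hsq, hz, hz'⟩ := R.exists_sq f.left f'.left w w' hww
    refine ⟨Over.mk (h ≫ W.hom), Over.homMk h rfl, Over.homMk h' ?_, z, ?_, hz, hz'⟩
    · change h' ≫ W'.hom = h ≫ W.hom
      rw [← Over.w f, ← Over.w f', reassoc_of% hsq]
    · apply Over.OverMorphism.ext
      exact hsq
  exists_refine Y 𝒰 h𝒰 hcov := by
    obtain ⟨S₀, hS₀, h⟩ := R.exists_refine Y.left 𝒰 h𝒰 hcov
    refine ⟨(Sieve.overEquiv Y).symm S₀, ?_, ?_⟩
    · rw [GrothendieckTopology.mem_over_iff, OrderIso.apply_symm_apply]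
      exact hS₀
    · intro W f hf
      rw [Sieve.overEquiv_symm_iff] at hf
      exact h f.left hf

end overSite

section etale

variable (X : Scheme.{u})

open Groth.Agent.H2.SmEtSheaf Groth.Agent.H2.FinStalk Groth.Agent.H7.GalCov

/-- The fibre product of two morphisms of étale `X`-schemes, as an étale `X`-scheme. -/
noncomputable def pbObj {V W W' : X.Etale} (f : W ⟶ V) (f' : W' ⟶ V) : X.Etale :=
  haveI : Etale W.hom := W.prop
  haveI : Etale f'.left := etale_left f'
  MorphismProperty.Over.mk ⊤ (pullback.fst f.left f'.left ≫ W.hom) inferInstance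

/-- First projection. -/
noncomputable def pbFst {V W W' : X.Etale} (f : W ⟶ V) (f' : W' ⟶ V) : pbObj X f f' ⟶ W :=
  MorphismProperty.Over.homMk (pullback.fst f.left f'.left) rfl

/-- Second projection. -/
noncomputable def pbSnd {V W W' : X.Etale} (f : W ⟶ V) (f' : W' ⟶ V) : pbObj X f f' ⟶ W' :=
  MorphismProperty.Over.homMk (pullback.snd f.left f'.left) (by
    change pullback.snd f.left f'.left ≫ W'.hom = pullback.fst f.left f'.left ≫ W.hom
    rw [← MorphismProperty.Over.w f, ← MorphismProperty.Over.w f', pullback.condition_assoc])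

lemma pb_condition {V W W' : X.Etale} (f : W ⟶ V) (f' : W' ⟶ V) :
    pbFst X f f' ≫ f = pbSnd X f f' ≫ f' := by
  apply MorphismProperty.Over.Hom.ext
  exact pullback.condition

end etale

end Groth.Agent.H2.LCModel
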