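import Mathlib
import Groth.Agent.Lib.Helper2.LCModelD

set_option autoImplicit false
set_option linter.style.haveILetI false
set_option linter.unusedSectionVars false
universe u
open CategoryTheory CategoryTheory.Limits Opposite TopologicalSpace AlgebraicGeometry

namespace Groth.Agent.H2.LCModel

variable (X : Scheme.{u})

open Groth.Agent.H2.SmEtSheaf Groth.Agent.H2.FinStalk Groth.Agent.H7.GalCov

/-- The sieve of morphisms whose image is contained in a member of a family of subsets. -/
def refineSieve (V : X.Etale) (𝒰 : Set (Set ↥V.left)) : Sieve V where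
  arrows W f := ∃ O ∈ 𝒰, Set.range f.left ⊆ O
  downward_closed := by
    rintro W W' f ⟨O, hO, hf⟩ g
    refine ⟨O, hO, ?_⟩
    rintro _ ⟨w, rfl⟩
    apply hf
    refine ⟨g.left w, ?_⟩
    rfl

set_option backward.isDefEq.respectTransparency.types false in
/-- The topological realization of the small étale site. -/
noncomputable def etReal : TopReal X.smallEtaleTopology where
  pt V := ↥V.left
  top V := inferInstance
  map f := f.left
  map_id V v := rfl
  map_comp f g x := rfl
  continuous f := f.left.continuous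
  isOpenMap f := by
    haveI := etale_left f
    exact f.left.isOpenMap
  exists_mem S hS v := by
    obtain ⟨Y, f, y, hf, hy⟩ := (mem_Jet_iff S).1 hS v
    exact ⟨Y, f, y, hf, hy⟩
  exists_sq {V W W'} f f' w w' hww := by
    obtain ⟨z, hz, hz'⟩ := Scheme.Pullback.exists_preimage_pullback w w' hww
    exact ⟨pbObj X f f', pbFst X f f', pbSnd X f f', z, pb_condition X f f', hz, hz'⟩
  exists_refine V 𝒰 h𝒰 hcov := by
    refine ⟨refineSieve X V 𝒰, ?_, fun f hf => hf⟩
    rw [mem_Jet_iff]
    intro x
    have hx : x ∈ ⋃₀ 𝒰 := by rw [hcov]; trivial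
    obtain ⟨O, hO, hxO⟩ := hx
    let Vo : V.left.Opens := ⟨O, h𝒰 O hO⟩
    refine ⟨openObj V Vo, openIncl V Vo, ⟨x, hxO⟩, ⟨O, hO, ?_⟩, rfl⟩
    rintro _ ⟨y, rfl⟩
    exact y.2

end Groth.Agent.H2.LCModel
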