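import Mathlib
import Groth.Agent.Lib.Helper2.LCModelC

set_option autoImplicit false
set_option linter.style.haveILetI false
set_option linter.unusedSectionVars false
universe u
open CategoryTheory Opposite TopologicalSpace

namespace Groth.Agent.H2.LCModel

variable {C : Type (u + 1)} [Category.{u} C] {J : GrothendieckTopology C} {R : TopReal J}
variable {𝒜 : Type (u + 2)} [Category.{u + 1} 𝒜] {FA : 𝒜 → 𝒜 → Type (u + 1)}
  {CA : 𝒜 → Type (u + 1)} [∀ X Y, FunLike (FA X Y) (CA X) (CA Y)] [ConcreteCategory 𝒜 FA]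
  [Limits.HasLimits 𝒜] [Limits.PreservesLimits (forget 𝒜)] [(forget 𝒜).ReflectsIsomorphisms]
  [HasWeakSheafify J 𝒜] [J.WEqualsLocallyBijective 𝒜]
variable {M : 𝒜} (D : LCData R M)

/-- The locally constant function attached to a section of the constant sheaf. -/
noncomputable def LCData.fn {V : C} (s : ToType (((constantSheaf J 𝒜).obj M).obj.obj (op V))) :
    LocallyConstant (R.pt V) (ToType M) :=
  D.ev V (D.toSheaf.hom.app (op V) s)

lemma LCData.fn_bijective (V : C) : Function.Bijective (D.fn (V := V)) := by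
  haveI : IsIso D.toSheaf.hom := by
    have : IsIso ((sheafToPresheaf J 𝒜).map D.toSheaf) := inferInstance
    exact this
  haveI : IsIso (D.toSheaf.hom.app (op V)) := inferInstance
  exact (D.ev_bij V).comp
    ((ConcreteCategory.isIso_iff_bijective (D.toSheaf.hom.app (op V))).1 inferInstance)

lemma LCData.fn_map {V W : C} (f : V ⟶ W)
    (s : ToType (((constantSheaf J 𝒜).obj M).obj.obj (op W))) (v : R.pt V) :
    D.fn (((constantSheaf J 𝒜).obj M).obj.map f.op s) v = D.fn s (R.map f v) := by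
  unfold LCData.fn
  have h := NatTrans.naturality_apply D.toSheaf.hom f.op s
  rw [h]
  exact D.ev_map f _ v

/-- Naturality of `fn` in the value object. -/
lemma fn_naturality {M N : 𝒜} (DM : LCData R M) (DN : LCData R N) (h : M ⟶ N)
    (ψ : DM.L ⟶ DN.L) (hψ : DM.φ ≫ ψ = (Functor.const Cᵒᵖ).map h ≫ DN.φ)
    (hev : ∀ (V : C) (s : ToType (DM.L.obj (op V))) (v : R.pt V),
      DN.ev V (ψ.app (op V) s) v = h (DM.ev V s v))
    {V : C} (s : ToType (((constantSheaf J 𝒜).obj M).obj.obj (op V))) (v : R.pt V) :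
    DN.fn (((constantSheaf J 𝒜).map h).hom.app (op V) s) v = h (DM.fn s v) := by
  unfold LCData.fn
  have h1 := toSheaf_naturality DM DN h ψ hψ
  have h2 : DN.toSheaf.hom.app (op V) (((constantSheaf J 𝒜).map h).hom.app (op V) s) =
      ψ.app (op V) (DM.toSheaf.hom.app (op V) s) := by
    have h3 := congrArg (fun t : (constantSheaf J 𝒜).obj M ⟶ DN.sheaf => t.hom.app (op V)) h1
    have h4 := ConcreteCategory.congr_hom h3 s
    have e1 : ((constantSheaf J 𝒜).map h ≫ DN.toSheaf).hom.app (op V) =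
      ((constantSheaf J 𝒜).map h).hom.app (op V) ≫ DN.toSheaf.hom.app (op V) := rfl
    have e2 : (DM.toSheaf ≫ (⟨ψ⟩ : DM.sheaf ⟶ DN.sheaf)).hom.app (op V) =
      DM.toSheaf.hom.app (op V) ≫ ψ.app (op V) := rfl
    rw [e1, e2, ConcreteCategory.comp_apply, ConcreteCategory.comp_apply] at h4
    exact h4
  rw [h2]
  exact hev V _ v

end Groth.Agent.H2.LCModel

namespace Groth.Agent.H2.LCModel

variable {C : Type (u + 1)} [Category.{u} C] {J : GrothendieckTopology C} (R : TopReal J)

section groups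

lemma lcAb_hψ {M N : AddCommGrpCat.{u + 1}} (h : M ⟶ N) :
    (lcAb R M).φ ≫ lcAbMap R h = (Functor.const Cᵒᵖ).map h ≫ (lcAb R N).φ := by
  ext V m
  rfl

/-- `fn` for abelian groups is compatible with maps of constant sheaves. -/
theorem lcAb_fn_naturality {M N : AddCommGrpCat.{u + 1}} (h : M ⟶ N) {V : C}
    (s : ToType (((constantSheaf J AddCommGrpCat.{u + 1}).obj M).obj.obj (op V))) (v : R.pt V) :
    (lcAb R N).fn (((constantSheaf J AddCommGrpCat.{u + 1}).map h).hom.app (op V) s) v =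
      h ((lcAb R M).fn s v) :=
  fn_naturality (lcAb R M) (lcAb R N) h (lcAbMap R h) (lcAb_hψ R h) (fun _ _ _ => rfl) s v

/-- `fn` as a group homomorphism. -/
noncomputable def lcAbFn (M : AddCommGrpCat.{u + 1}) (V : C) :
    ((constantSheaf J AddCommGrpCat.{u + 1}).obj M).obj.obj (op V) →+
      LocallyConstant (R.pt V) M :=
  ((lcAb R M).toSheaf.hom.app (op V)).hom

lemma lcAbFn_apply (M : AddCommGrpCat.{u + 1}) (V : C)
    (s : ((constantSheaf J AddCommGrpCat.{u + 1}).obj M).obj.obj (op V)) :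
    lcAbFn R M V s = (lcAb R M).fn s := rfl

end groups

section modules

variable (Λ : Type (u + 1)) [CommRing Λ]

lemma lcMod_hψ {M N : ModuleCat.{u + 1} Λ} (h : M ⟶ N) :
    (lcMod R Λ M).φ ≫ lcModMap R Λ h = (Functor.const Cᵒᵖ).map h ≫ (lcMod R Λ N).φ := by
  ext V m
  rfl

/-- `fn` for modules is compatible with maps of constant sheaves. -/
theorem lcMod_fn_naturality {M N : ModuleCat.{u + 1} Λ} (h : M ⟶ N) {V : C}
    (s : ToType (((constantSheaf J (ModuleCat.{u + 1} Λ)).obj M).obj.obj (op V))) (v : R.pt V) :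
    (lcMod R Λ N).fn (((constantSheaf J (ModuleCat.{u + 1} Λ)).map h).hom.app (op V) s) v =
      h ((lcMod R Λ M).fn s v) :=
  fn_naturality (lcMod R Λ M) (lcMod R Λ N) h (lcModMap R Λ h) (lcMod_hψ R Λ h)
    (fun _ _ _ => rfl) s v

/-- `fn` as a linear map. -/
noncomputable def lcModFn (M : ModuleCat.{u + 1} Λ) (V : C) :
    ((constantSheaf J (ModuleCat.{u + 1} Λ)).obj M).obj.obj (op V) →ₗ[Λ]
      LocallyConstant (R.pt V) M :=
  ((lcMod R Λ M).toSheaf.hom.app (op V)).hom

lemma lcModFn_apply (M : ModuleCat.{u + 1} Λ) (V : C)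
    (s : ((constantSheaf J (ModuleCat.{u + 1} Λ)).obj M).obj.obj (op V)) :
    lcModFn R Λ M V s = (lcMod R Λ M).fn s := rfl

end modules

end Groth.Agent.H2.LCModel
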