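import Mathlib
import Groth.Agent.Lib.Helper2.LCModelE
import Groth.Agent.Lib.Helper2.LCModelF
import Groth.Prelude.Def_EtMod2

set_option autoImplicit false
set_option linter.style.haveILetI false
set_option linter.unusedSectionVars false
universe u
open CategoryTheory CategoryTheory.Limits Opposite TopologicalSpace AlgebraicGeometry

namespace Groth.Agent.H2.LCModel

section point

universe w' w v v' u' u''

variable {C : Type u''} [Category.{v} C] {J : GrothendieckTopology C}
  (Φ : GrothendieckTopology.Point.{w} J)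
  {A : Type u'} [Category.{v'} A] [HasColimitsOfSize.{w, w} A]
  {FC : A → A → Type*} {CC : A → Type w'}
  [∀ (X Y : A), FunLike (FC X Y) (CC X) (CC Y)]
  [ConcreteCategory.{w'} A FC]
  [PreservesFilteredColimitsOfSize.{w, w} (forget A)] [LocallySmall.{w} C]
  (P : Cᵒᵖ ⥤ A)

/-- Every germ has a representative on a neighbourhood refining a given one. -/
lemma exists_rep_refine (X₀ : C) (x₀ : Φ.fiber.obj X₀) (g : ToType (Φ.presheafFiber.obj P)) :
    ∃ (X : C) (x : Φ.fiber.obj X) (φ : X ⟶ X₀), Φ.fiber.map φ x = x₀ ∧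
      ∃ z : ToType (P.obj (op X)), Φ.toPresheafFiber X x P z = g := by
  obtain ⟨Y, y, z₀, hz₀⟩ := Φ.toPresheafFiber_jointly_surjective (P := P) g
  haveI := Φ.isCofiltered
  let a : Φ.fiber.Elements := ⟨Y, y⟩
  let b : Φ.fiber.Elements := ⟨X₀, x₀⟩
  let m := IsCofiltered.min a b
  let f₁ : m ⟶ a := IsCofiltered.minToLeft a b
  let f₂ : m ⟶ b := IsCofiltered.minToRight a b
  refine ⟨m.1, m.2, f₂.1, f₂.2, P.map f₁.1.op z₀, ?_⟩
  have h := Φ.toPresheafFiber_w_apply f₁.1 m.2 P z₀
  rw [h]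
  have h2 : Φ.fiber.map f₁.1 m.2 = y := f₁.2
  rw [h2]
  exact hz₀

end point

section etale

variable {X : Scheme.{u}} {Ω : Type u} [Field Ω] [IsSepClosed Ω]

/-- A geometric point over the generic point of an irreducible scheme lifts to every nonempty
étale `X`-scheme. -/
theorem exists_geomPt_of_nonempty [IrreducibleSpace ↥X] (ξ : Spec (CommRingCat.of Ω) ⟶ X)
    (hξ : ξ.base default = genericPoint ↥X) (V : X.Etale) (hV : Nonempty ↥V.left) :
    Nonempty ((Scheme.pointSmallEtale ξ).fiber.obj V) := by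
  haveI : Etale V.hom := V.prop
  obtain ⟨v₀⟩ := hV
  have hopen : IsOpen (Set.range V.hom) := V.hom.isOpenMap.isOpen_range
  have hgen : genericPoint ↥X ∈ Set.range V.hom :=
    ((genericPoint_spec ↥X).mem_open_set_iff hopen).2 ⟨V.hom v₀, trivial, ⟨v₀, rfl⟩⟩
  obtain ⟨y, hy⟩ := hgen
  obtain ⟨l, hl, -⟩ := Scheme.exists_fac_of_etale_of_isSepClosed V.hom ξ y (hy.trans hξ.symm)
  exact ⟨Over.homMk l hl⟩

end etale

end Groth.Agent.H2.LCModel
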