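import Mathlib
import Groth.Agent.Lib.Helper2.LCModelF
import Groth.Agent.Lib.Helper2.LCModelD

set_option autoImplicit false
set_option linter.style.haveILetI false
set_option linter.unusedSectionVars false
universe u
open CategoryTheory CategoryTheory.Limits Opposite TopologicalSpace

namespace Groth.Agent.H2.LocConst

open Groth.Agent.H2.LCModel

variable {C : Type (u + 1)} [Category.{u} C] {J : GrothendieckTopology C} (R : TopReal J)
variable (Λ : Type (u + 1)) [CommRing Λ]

/-- Restriction of a presheaf of modules to a slice. -/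
abbrev overPre (P : Cᵒᵖ ⥤ ModuleCat.{u + 1} Λ) (U : C) : (Over U)ᵒᵖ ⥤ ModuleCat.{u + 1} Λ :=
  (Over.forget U).op ⋙ P

/-- A trivialization of a presheaf of modules over `U`: an isomorphism of its restriction to the
slice over `U` with the presheaf of locally constant `M`-valued functions. -/
abbrev Triv (P : Cᵒᵖ ⥤ ModuleCat.{u + 1} Λ) (U : C) (M : ModuleCat.{u + 1} Λ) :=
  overPre Λ P U ≅ lcModPre (R.over U) Λ M

variable {R Λ}

set_option backward.isDefEq.respectTransparency.types false in
/-- Restriction of a trivialization along a morphism. -/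
noncomputable def Triv.restrict {P : Cᵒᵖ ⥤ ModuleCat.{u + 1} Λ} {U : C} {M : ModuleCat.{u + 1} Λ}
    (e : Triv R Λ P U M) {W : C} (f : W ⟶ U) : Triv R Λ P W M :=
  NatIso.ofComponents (fun V => e.app (op ((Over.map f).obj V.unop))) (by
    intro V V' g
    exact e.hom.naturality ((Over.map f).map g.unop).op)

set_option backward.isDefEq.respectTransparency.types false in
lemma Triv.restrict_hom_app {P : Cᵒᵖ ⥤ ModuleCat.{u + 1} Λ} {U : C} {M : ModuleCat.{u + 1} Λ}
    (e : Triv R Λ P U M) {W : C} (f : W ⟶ U) (V : Over W) :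
    (e.restrict f).hom.app (op V) = e.hom.app (op ((Over.map f).obj V)) := rfl

variable [HasWeakSheafify J (ModuleCat.{u + 1} Λ)] [J.WEqualsLocallyBijective (ModuleCat.{u + 1} Λ)]

/-- A trivialization from an isomorphism with a constant sheaf on the slice. -/
noncomputable def Triv.ofIso {F : Sheaf J (ModuleCat.{u + 1} Λ)} {U : C} {M : ModuleCat.{u + 1} Λ}
    [HasWeakSheafify (J.over U) (ModuleCat.{u + 1} Λ)]
    [(J.over U).WEqualsLocallyBijective (ModuleCat.{u + 1} Λ)]
    (α : F.over U ≅ (constantSheaf (J.over U) (ModuleCat.{u + 1} Λ)).obj M) : Triv R Λ F.obj U M :=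
  (sheafToPresheaf _ _).mapIso (α ≪≫ (lcMod (R.over U) Λ M).iso)

/-- The isomorphism with a constant sheaf on the slice given by a trivialization. -/
noncomputable def Triv.toIso {F : Sheaf J (ModuleCat.{u + 1} Λ)} {U : C} {M : ModuleCat.{u + 1} Λ}
    [HasWeakSheafify (J.over U) (ModuleCat.{u + 1} Λ)]
    [(J.over U).WEqualsLocallyBijective (ModuleCat.{u + 1} Λ)]
    (e : Triv R Λ F.obj U M) :
    F.over U ≅ (constantSheaf (J.over U) (ModuleCat.{u + 1} Λ)).obj M :=
  (show F.over U ≅ (lcMod (R.over U) Λ M).sheaf from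
    { hom := ⟨e.hom⟩
      inv := ⟨e.inv⟩
      hom_inv_id := by apply Sheaf.hom_ext; exact e.hom_inv_id
      inv_hom_id := by apply Sheaf.hom_ext; exact e.inv_hom_id }) ≪≫ (lcMod (R.over U) Λ M).iso.symm

end Groth.Agent.H2.LocConst
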