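import Mathlib
import Groth.Agent.Lib.Helper2.LocConstA

set_option autoImplicit false
set_option linter.style.haveILetI false
set_option linter.unusedSectionVars false
universe u
open CategoryTheory CategoryTheory.Limits Opposite TopologicalSpace

namespace Groth.Agent.H2.LocConst

open Groth.Agent.H2.LCModel

variable {C : Type (u + 1)} [Category.{u} C] {J : GrothendieckTopology C} (R : TopReal J)
variable (Λ : Type (u + 1)) [CommRing Λ]

/-- Apply a morphism of presheaves of locally constant functions to a section. -/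
noncomputable def app {M N : ModuleCat.{u + 1} Λ} (θ : lcModPre R Λ M ⟶ lcModPre R Λ N) (V : C)
    (s : LocallyConstant (R.pt V) M) : LocallyConstant (R.pt V) N :=
  (θ.app (op V)).hom s

lemma app_comap {M N : ModuleCat.{u + 1} Λ} (θ : lcModPre R Λ M ⟶ lcModPre R Λ N) {V W : C}
    (k : V ⟶ W) (s : LocallyConstant (R.pt W) M) :
    app R Λ θ V (s.comap (R.cmap k)) = (app R Λ θ W s).comap (R.cmap k) := by
  have h := θ.naturality k.op
  have h2 := ConcreteCategory.congr_hom h s
  exact h2

lemma app_add {M N : ModuleCat.{u + 1} Λ} (θ : lcModPre R Λ M ⟶ lcModPre R Λ N) (V : C)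
    (s t : LocallyConstant (R.pt V) M) : app R Λ θ V (s + t) = app R Λ θ V s + app R Λ θ V t :=
  map_add (θ.app (op V)).hom s t

lemma app_smul {M N : ModuleCat.{u + 1} Λ} (θ : lcModPre R Λ M ⟶ lcModPre R Λ N) (V : C)
    (c : Λ) (s : LocallyConstant (R.pt V) M) : app R Λ θ V (c • s) = c • app R Λ θ V s :=
  map_smul (θ.app (op V)).hom c s

/-- **Local structure of morphisms between constant sheaves**: a morphism between presheaves of
locally constant functions with finitely generated source is, near every point, induced by a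
linear map of the value modules. -/
theorem exists_local_linear {M N : ModuleCat.{u + 1} Λ} [Module.Finite Λ M]
    (θ : lcModPre R Λ M ⟶ lcModPre R Λ N) (W : C) (w : R.pt W) :
    ∃ (U : C) (f : U ⟶ W) (y : R.pt U) (h : M →ₗ[Λ] N), R.map f y = w ∧
      ∀ (V : C) (_ : V ⟶ U) (s : LocallyConstant (R.pt V) M) (v : R.pt V),
        app R Λ θ V s v = h (s v) := by
  classical
  obtain ⟨n, m, hm⟩ := Module.Finite.exists_fin (R := Λ) (M := M)
  let T : M → LocallyConstant (R.pt W) N := fun x => app R Λ θ W (LocallyConstant.const _ x)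
  have hTadd : ∀ x y, T (x + y) = T x + T y := by
    intro x y
    have : (LocallyConstant.const (R.pt W) (x + y) : LocallyConstant (R.pt W) M) =
        LocallyConstant.const _ x + LocallyConstant.const _ y := by
      ext; rfl
    simp only [T, this, app_add]
  have hTsmul : ∀ (c : Λ) x, T (c • x) = c • T x := by
    intro c x
    have : (LocallyConstant.const (R.pt W) (c • x) : LocallyConstant (R.pt W) M) =
        c • LocallyConstant.const _ x := by
      ext; rfl
    simp only [T, this, app_smul]
  let O : R.pt W → Set (R.pt W) := fun w' => ⋂ i : Fin n, (T (m i)) ⁻¹' {T (m i) w'}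
  have hO : ∀ w', IsOpen (O w') := fun w' =>
    isOpen_iInter_of_finite (fun i => (T (m i)).isLocallyConstant.isOpen_fiber _)
  have hmemO : ∀ w', w' ∈ O w' := fun w' => Set.mem_iInter.2 (fun i => rfl)
  obtain ⟨S, hS, hSref⟩ := R.exists_refine W (Set.range O) (by rintro _ ⟨w', rfl⟩; exact hO w')
    (by
      ext w'
      simp only [Set.mem_sUnion, Set.mem_range, exists_exists_eq_and, Set.mem_univ, iff_true]
      exact ⟨w', hmemO w'⟩)
  obtain ⟨U, f, y, hf, hy⟩ := R.exists_mem S hS w
  obtain ⟨_, ⟨w', rfl⟩, hrange⟩ := hSref f hf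
  have hw : w ∈ O w' := hrange ⟨y, hy⟩
  let h : M →ₗ[Λ] N :=
    { toFun := fun x => T x w
      map_add' := fun x y => by rw [hTadd]; rfl
      map_smul' := fun c x => by rw [hTsmul]; rfl }
  -- Claim 1
  have claim1 : ∀ (x : M) (o : R.pt W), o ∈ O w' → T x o = h x := by
    intro x
    have hx : x ∈ Submodule.span Λ (Set.range m) := by rw [hm]; trivial
    induction hx using Submodule.span_induction with
    | mem x hx =>
      obtain ⟨i, rfl⟩ := hx
      intro o ho
      have h1 : T (m i) o = T (m i) w' := Set.mem_iInter.1 ho i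
      have h2 : T (m i) w = T (m i) w' := Set.mem_iInter.1 hw i
      exact h1.trans h2.symm
    | zero =>
      intro o _
      have h0 : T 0 = 0 := by
        have := hTsmul 0 0
        simpa using this
      rw [h0, map_zero]
      rfl
    | add x y _ _ hx hy =>
      intro o ho
      rw [hTadd, map_add, ← hx o ho, ← hy o ho]
      rfl
    | smul c x _ hx =>
      intro o ho
      rw [hTsmul, map_smul, ← hx o ho]
      rfl
  refine ⟨U, f, y, h, hy, ?_⟩
  intro V g s v
  -- refine `V` so that `s` becomes constant
  obtain ⟨SV, hSV, hSVref⟩ := R.exists_refine V (Set.range fun x : M => s ⁻¹' {x})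
    (by rintro _ ⟨x, rfl⟩; exact s.isLocallyConstant.isOpen_fiber x)
    (by
      ext v'
      simp only [Set.mem_sUnion, Set.mem_range, exists_exists_eq_and, Set.mem_preimage,
        Set.mem_singleton_iff, exists_eq', Set.mem_univ])
  obtain ⟨V₁, k, v₁, hk, hv₁⟩ := R.exists_mem SV hSV v
  obtain ⟨_, ⟨x, rfl⟩, hkr⟩ := hSVref k hk
  have hx : s v = x := by
    have := hkr ⟨v₁, hv₁⟩
    exact this
  have hconst : s.comap (R.cmap k) = (LocallyConstant.const (R.pt W) x).comap
      (R.cmap (k ≫ g ≫ f)) := by
    ext v'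
    have := hkr ⟨v', rfl⟩
    exact this
  have e1 : app R Λ θ V s v = (app R Λ θ V s).comap (R.cmap k) v₁ := by
    change _ = app R Λ θ V s (R.map k v₁)
    rw [hv₁]
  rw [e1, ← app_comap, hconst, app_comap]
  change T x (R.map (k ≫ g ≫ f) v₁) = h (s v)
  rw [hx]
  apply claim1
  apply hrange
  refine ⟨R.map g (R.map k v₁), ?_⟩
  rw [R.map_comp, R.map_comp]

end Groth.Agent.H2.LocConst
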