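import Mathlib
import Groth.Agent.Lib.Helper2.LocConstB
import Groth.Agent.Lib.Helper2.LCModelG

set_option autoImplicit false
set_option linter.style.haveILetI false
set_option linter.unusedSectionVars false
universe u
open CategoryTheory CategoryTheory.Limits Opposite TopologicalSpace AlgebraicGeometry

namespace Groth.Agent.H2.LocConst

open Groth.Agent.H2.LCModel

variable {X : Scheme.{u}}

/-- The product of two étale `X`-schemes. -/
noncomputable def prodObj (A B : X.Etale) : X.Etale :=
  haveI : Etale A.hom := A.prop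
  haveI : Etale B.hom := B.prop
  MorphismProperty.Over.mk ⊤ (pullback.fst A.hom B.hom ≫ A.hom) inferInstance

/-- First projection. -/
noncomputable def prodFst (A B : X.Etale) : prodObj A B ⟶ A :=
  MorphismProperty.Over.homMk (pullback.fst A.hom B.hom) rfl

/-- Second projection. -/
noncomputable def prodSnd (A B : X.Etale) : prodObj A B ⟶ B :=
  MorphismProperty.Over.homMk (pullback.snd A.hom B.hom) pullback.condition.symm

lemma exists_point_prod (A B : X.Etale) (a : ↥A.left) (b : ↥B.left) (h : A.hom a = B.hom b) :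
    ∃ w : ↥(prodObj A B).left, (prodFst A B).left w = a ∧ (prodSnd A B).left w = b :=
  Scheme.Pullback.exists_preimage_pullback a b h

variable (Λ : Type (u + 1)) [CommRing Λ]

set_option backward.isDefEq.respectTransparency.types false in
set_option maxHeartbeats 800000 in
/-- Local structure of a morphism of trivialized sheaves. -/
theorem exists_local_of_triv {F G : EtModW.Mod Λ X} (φ : F ⟶ G) (W₀ : X.Etale)
    (M N : ModuleCat.{u + 1} Λ) [Module.Finite Λ M]
    (eF : Triv (etReal X) Λ F.obj W₀ M) (eG : Triv (etReal X) Λ G.obj W₀ N) (w₀ : ↥W₀.left) :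
    ∃ (U : X.Etale) (y : ↥U.left) (f : U ⟶ W₀) (h : M ⟶ N), f.left y = w₀ ∧
      Functor.whiskerLeft (Over.forget U).op φ.hom ≫ (eG.restrict f).hom =
        (eF.restrict f).hom ≫ lcModMap ((etReal X).over U) Λ h := by
  let R := etReal X
  let θ : lcModPre (R.over W₀) Λ M ⟶ lcModPre (R.over W₀) Λ N :=
    eF.inv ≫ Functor.whiskerLeft (Over.forget W₀).op φ.hom ≫ eG.hom
  obtain ⟨U', f, y, h, hy, hθ⟩ := exists_local_linear (R.over W₀) Λ θ (Over.mk (𝟙 W₀)) w₀
  have hfl : f.left = U'.hom := by
    have := Over.w f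
    simpa using this
  refine ⟨U'.left, y, U'.hom, ModuleCat.ofHom h, ?_, ?_⟩
  · rw [← hfl]; exact hy
  · ext V' : 2
    -- the object of `Over W₀` attached to `V'`
    let Z : Over W₀ := (Over.map U'.hom).obj V'.unop
    let g : Z ⟶ U' := Over.homMk V'.unop.hom rfl
    have key : θ.app (op Z) = ((lcModMap (R.over W₀) Λ (ModuleCat.ofHom h)).app (op Z)) := by
      ext s : 2
      apply LocallyConstant.ext
      intro v
      exact hθ Z g s v
    have hθZ : θ.app (op Z) = eF.inv.app (op Z) ≫ φ.hom.app (op Z.left) ≫ eG.hom.app (op Z) := rfl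
    have e1 : (Functor.whiskerLeft (Over.forget U'.left).op φ.hom ≫ (eG.restrict U'.hom).hom).app V' =
        φ.hom.app (op Z.left) ≫ eG.hom.app (op Z) := rfl
    have e2 : ((eF.restrict U'.hom).hom ≫ lcModMap (R.over U'.left) Λ (ModuleCat.ofHom h)).app V' =
        eF.hom.app (op Z) ≫ (lcModMap (R.over W₀) Λ (ModuleCat.ofHom h)).app (op Z) := rfl
    rw [e1, e2, ← key, hθZ]
    have e3 : eF.hom.app (op Z) ≫ eF.inv.app (op Z) = 𝟙 _ := by
      rw [← NatTrans.comp_app, eF.hom_inv_id]; rfl
    rw [reassoc_of% e3]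
    rfl

end Groth.Agent.H2.LocConst
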