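import Mathlib
import Groth.Agent.Lib.Helper2.LocConstC

set_option autoImplicit false
set_option linter.style.haveILetI false
set_option linter.unusedSectionVars false
universe u
open CategoryTheory CategoryTheory.Limits Opposite TopologicalSpace AlgebraicGeometry

namespace Groth.Agent.H2.LocConst

open Groth.Agent.H2.LCModel

section generic

variable {C : Type (u + 1)} [Category.{u} C] {J : GrothendieckTopology C} {R : TopReal J}
variable {Λ : Type (u + 1)} [CommRing Λ]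
variable [HasWeakSheafify J (ModuleCat.{u + 1} Λ)] [J.WEqualsLocallyBijective (ModuleCat.{u + 1} Λ)]

/-- A morphism of trivialized sheaves which is induced by a linear map corresponds to the map of
constant sheaves. -/
theorem Triv.toIso_comm {F G : Sheaf J (ModuleCat.{u + 1} Λ)} (φ : F ⟶ G) {U : C}
    {M N : ModuleCat.{u + 1} Λ}
    [HasWeakSheafify (J.over U) (ModuleCat.{u + 1} Λ)]
    [(J.over U).WEqualsLocallyBijective (ModuleCat.{u + 1} Λ)]
    (eF : Triv R Λ F.obj U M) (eG : Triv R Λ G.obj U N) (h : M ⟶ N)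
    (heq : Functor.whiskerLeft (Over.forget U).op φ.hom ≫ eG.hom =
      eF.hom ≫ lcModMap (R.over U) Λ h) :
    (J.overPullback (ModuleCat.{u + 1} Λ) U).map φ ≫ eG.toIso.hom =
      eF.toIso.hom ≫ (constantSheaf (J.over U) (ModuleCat.{u + 1} Λ)).map h := by
  let DM := lcMod (R.over U) Λ M
  let DN := lcMod (R.over U) Λ N
  have hnat : DM.iso.inv ≫ (constantSheaf (J.over U) (ModuleCat.{u + 1} Λ)).map h =
      (⟨lcModMap (R.over U) Λ h⟩ : DM.sheaf ⟶ DN.sheaf) ≫ DN.iso.inv := by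
    have h1 := toSheaf_naturality DM DN h (lcModMap (R.over U) Λ h) (lcMod_hψ (R.over U) Λ h)
    rw [Iso.inv_comp_eq, ← Category.assoc, Iso.eq_comp_inv]
    exact h1
  let aF : F.over U ⟶ DM.sheaf := ⟨eF.hom⟩
  let aG : G.over U ⟶ DN.sheaf := ⟨eG.hom⟩
  have e1 : eF.toIso.hom = aF ≫ DM.iso.inv := rfl
  have e2 : eG.toIso.hom = aG ≫ DN.iso.inv := rfl
  have e3 : (J.overPullback (ModuleCat.{u + 1} Λ) U).map φ ≫ aG =
      aF ≫ (⟨lcModMap (R.over U) Λ h⟩ : DM.sheaf ⟶ DN.sheaf) := by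
    apply Sheaf.hom_ext
    exact heq
  rw [e1, e2, Category.assoc, hnat, ← Category.assoc, ← Category.assoc, e3]

end generic

variable {X : Scheme.{u}} (Λ : Type (u + 1)) [CommRing Λ]

set_option backward.isDefEq.respectTransparency.types false in
theorem S6655_point (F G : EtModW.Mod Λ X) (φ : F ⟶ G) (hF : EtModW.IsFTLocConst Λ F)
    (hG : EtModW.IsFTLocConst Λ G) (x : ↥X) :
    ∃ (U : X.Etale) (_ : ∃ y : ↥U.left, U.hom y = x),
      ∃ (M N : Type (u + 1)) (_ : AddCommGroup M) (_ : AddCommGroup N)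
      (_ : Module Λ M) (_ : Module Λ N) (h : M →ₗ[Λ] N)
      (α : EtModW.restr Λ F U ≅ (constantSheaf (X.smallEtaleTopology.over U)
        (ModuleCat.{u + 1} Λ)).obj (ModuleCat.of Λ M))
      (β : EtModW.restr Λ G U ≅ (constantSheaf (X.smallEtaleTopology.over U)
        (ModuleCat.{u + 1} Λ)).obj (ModuleCat.of Λ N)),
      (X.smallEtaleTopology.overPullback (ModuleCat.{u + 1} Λ) U).map φ ≫ β.hom =
        α.hom ≫ (constantSheaf (X.smallEtaleTopology.over U) (ModuleCat.{u + 1} Λ)).map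
          (ModuleCat.ofHom h) := by
  obtain ⟨ιF, A, hA, hAtriv⟩ := hF
  obtain ⟨ιG, B, hB, hBtriv⟩ := hG
  obtain ⟨j, a, ha⟩ := hA x
  obtain ⟨k, b, hb⟩ := hB x
  obtain ⟨M, iM1, iM2, iM3, ⟨αF⟩⟩ := hAtriv j
  obtain ⟨N, iN1, iN2, iN3, ⟨βG⟩⟩ := hBtriv k
  let W₀ := prodObj (A j) (B k)
  obtain ⟨w₀, hw1, hw2⟩ := exists_point_prod (A j) (B k) a b (ha.trans hb.symm)
  let eF : Triv (etReal X) Λ F.obj W₀ (ModuleCat.of Λ M) :=
    (Triv.ofIso αF).restrict (prodFst (A j) (B k))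
  let eG : Triv (etReal X) Λ G.obj W₀ (ModuleCat.of Λ N) :=
    (Triv.ofIso βG).restrict (prodSnd (A j) (B k))
  obtain ⟨U, y, f, h, hy, heq⟩ := exists_local_of_triv Λ φ W₀ (ModuleCat.of Λ M)
    (ModuleCat.of Λ N) eF eG w₀
  refine ⟨U, ⟨y, ?_⟩, M, N, iM1, iN1, iM2, iN2, h.hom, (eF.restrict f).toIso,
    (eG.restrict f).toIso, ?_⟩
  · have h1 : U.hom = f.left ≫ W₀.hom := (MorphismProperty.Over.w f).symm
    have h2 : W₀.hom = (prodFst (A j) (B k)).left ≫ (A j).hom :=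
      (MorphismProperty.Over.w (prodFst (A j) (B k))).symm
    rw [h1, h2, Scheme.Hom.comp_apply, Scheme.Hom.comp_apply, hy, hw1]
    exact ha
  · exact Triv.toIso_comm φ (eF.restrict f) (eG.restrict f) h heq

end Groth.Agent.H2.LocConst
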