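import Mathlib
import Groth.Agent.Lib.Helper2.TensLCA
import Groth.Agent.Lib.Helper2.LocConstD

set_option autoImplicit false
set_option linter.style.haveILetI false
set_option linter.unusedSectionVars false
universe u
open CategoryTheory CategoryTheory.Limits Opposite AlgebraicGeometry MonoidalCategory TensorProduct

namespace Groth.Agent.H2.TensLC

open Groth.Agent.H2.LCModel Groth.Agent.H2.LocConst

variable (Λ : Type (u + 1)) [CommRing Λ] {X : Scheme.{u}}

set_option backward.isDefEq.respectTransparency.types false in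
theorem tensor_point (F G : EtModW.Mod Λ X)
    (hF : EtModW.IsFTLocConst Λ F) (hG : EtModW.IsFTLocConst Λ G) (x : ↥X) :
    ∃ (U : X.Etale) (_ : ∃ y : ↥U.left, U.hom y = x),
      ∃ (E : Type (u + 1)) (_ : AddCommGroup E) (_ : Module Λ E) (_ : Module.Finite Λ E),
        Nonempty (EtModW.restr Λ (((EtModD.tensorBi Λ X).obj F).obj G) U ≅
          (constantSheaf (X.smallEtaleTopology.over U)
          (ModuleCat.{u + 1} Λ)).obj (ModuleCat.of Λ E)) := by
  obtain ⟨ιF, A, hA, hAtriv⟩ := hF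
  obtain ⟨ιG, B, hB, hBtriv⟩ := hG
  obtain ⟨j, a, ha⟩ := hA x
  obtain ⟨k, b, hb⟩ := hB x
  obtain ⟨M', iM1, iM2, iM3, ⟨α'⟩⟩ := hAtriv j
  obtain ⟨M'', iN1, iN2, iN3, ⟨α''⟩⟩ := hBtriv k
  let W₀ := prodObj (A j) (B k)
  obtain ⟨w₀, hw1, hw2⟩ := exists_point_prod (A j) (B k) a b (ha.trans hb.symm)
  let e' : Triv (etReal X) Λ F.obj W₀ (ModuleCat.of Λ M') :=
    (Triv.ofIso α').restrict (prodFst (A j) (B k))
  let e'' : Triv (etReal X) Λ G.obj W₀ (ModuleCat.of Λ M'') :=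
    (Triv.ofIso α'').restrict (prodSnd (A j) (B k))
  refine ⟨W₀, ⟨w₀, ?_⟩, M' ⊗[Λ] M'', inferInstance, inferInstance, inferInstance, ?_⟩
  · have h2 : W₀.hom = (prodFst (A j) (B k)).left ≫ (A j).hom :=
      (MorphismProperty.Over.w (prodFst (A j) (B k))).symm
    rw [h2, Scheme.Hom.comp_apply, hw1]
    exact ha
  · exact nonempty_tensor_over_iso X.smallEtaleTopology Λ F G W₀ (ModuleCat.of Λ M')
      (ModuleCat.of Λ M'') e'.toIso e''.toIso

theorem S6643_main (F G : EtModW.Mod Λ X)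
    (hF : EtModW.IsFTLocConst Λ F) (hG : EtModW.IsFTLocConst Λ G) :
    EtModW.IsFTLocConst Λ (((EtModD.tensorBi Λ X).obj F).obj G) := by
  have hp := tensor_point Λ F G hF hG
  choose U hU E iE1 iE2 iE3 hE using hp
  refine ⟨↥X, U, ?_, fun x => ⟨E x, iE1 x, iE2 x, iE3 x, hE x⟩⟩
  intro x
  obtain ⟨y, hy⟩ := hU x
  exact ⟨x, y, hy⟩

end Groth.Agent.H2.TensLC
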