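import Mathlib
import Groth.Prelude.Def_EtModD2
import Groth.Agent.Lib.Helper2.LanTensB
import Groth.Agent.Lib.Helper2.TensLCB
import Groth.Agent.Lib.Helper2.PullOverB

set_option autoImplicit false
set_option linter.style.haveILetI false
set_option linter.unusedSectionVars false
universe u

open CategoryTheory CategoryTheory.Limits Opposite MonoidalCategory AlgebraicGeometry

namespace Groth.Agent.H2.TensCons

variable (Λ : Type (u + 1)) [CommRing Λ]

lemma isFTLocConst_of_iso {X : Scheme.{u}} {F F' : EtModW.Mod Λ X} (e : F ≅ F')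
    (hF : EtModW.IsFTLocConst Λ F) : EtModW.IsFTLocConst Λ F' := by
  obtain ⟨ι, U, hU, h⟩ := hF
  refine ⟨ι, U, hU, fun i => ?_⟩
  obtain ⟨M, i1, i2, i3, ⟨α⟩⟩ := h i
  exact ⟨M, i1, i2, i3, ⟨(X.smallEtaleTopology.overPullback (ModuleCat.{u + 1} Λ) (U i)).mapIso
    e.symm ≪≫ α⟩⟩

set_option backward.isDefEq.respectTransparency.types false in
/-- Direct images of sheaves of modules compose. -/
noncomputable def pushCompIso {X T Z : Scheme.{u}} (p : Z ⟶ T) (g : T ⟶ X) :
    EtModW.push Λ p ⋙ EtModW.push Λ g ≅ EtModW.push Λ (p ≫ g) :=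
  Functor.sheafPushforwardContinuousComp' (F := EtCoh.bc g) (G := EtCoh.bc p)
    (FG := EtCoh.bc (p ≫ g))
    ((MorphismProperty.Over.pullbackComp (P := EtCoh.etaleMP) (Q := ⊤) p g).symm :
      EtCoh.bc g ⋙ EtCoh.bc p ≅ EtCoh.bc (p ≫ g))
    (ModuleCat.{u + 1} Λ) X.smallEtaleTopology T.smallEtaleTopology Z.smallEtaleTopology

/-- Inverse images of sheaves of modules compose. -/
noncomputable def pullCompIso {X T Z : Scheme.{u}} (p : Z ⟶ T) (g : T ⟶ X) :
    EtModW.pull Λ (p ≫ g) ≅ EtModW.pull Λ g ⋙ EtModW.pull Λ p :=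
  ((EtCoh.bc (p ≫ g)).sheafAdjunctionContinuous (ModuleCat.{u + 1} Λ)
      X.smallEtaleTopology Z.smallEtaleTopology).leftAdjointUniq
    ((((EtCoh.bc g).sheafAdjunctionContinuous (ModuleCat.{u + 1} Λ)
        X.smallEtaleTopology T.smallEtaleTopology).comp
      ((EtCoh.bc p).sheafAdjunctionContinuous (ModuleCat.{u + 1} Λ)
        T.smallEtaleTopology Z.smallEtaleTopology)).ofNatIsoRight (pushCompIso Λ p g))

lemma isFTLocConst_pull_of_comp {X T Z : Scheme.{u}} (p : Z ⟶ T) (g : T ⟶ X) (h : Z ⟶ X)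
    (e : h = p ≫ g) (F : EtModW.Mod Λ X) (hF : EtModW.IsFTLocConst Λ ((EtModW.pull Λ g).obj F)) :
    EtModW.IsFTLocConst Λ ((EtModW.pull Λ h).obj F) := by
  subst e
  exact isFTLocConst_of_iso Λ ((pullCompIso Λ p g).app F).symm
    ((Groth.Agent.H2.PullOver.S6642_main p).2.2 Λ _ hF)

/-- Inverse image commutes with tensor products, for finite-type locally constant outputs. -/
lemma isFTLocConst_pull_tensor {X Z : Scheme.{u}} (h : Z ⟶ X) (F G : EtModW.Mod Λ X)
    (hF : EtModW.IsFTLocConst Λ ((EtModW.pull Λ h).obj F))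
    (hG : EtModW.IsFTLocConst Λ ((EtModW.pull Λ h).obj G)) :
    EtModW.IsFTLocConst Λ ((EtModW.pull Λ h).obj (((EtModD.tensorBi Λ X).obj F).obj G)) := by
  obtain ⟨e⟩ := Groth.Agent.H2.LanTens.nonempty_pull_tensor_iso (EtCoh.bc h)
    X.smallEtaleTopology Z.smallEtaleTopology Λ F G
  exact isFTLocConst_of_iso Λ e.symm (Groth.Agent.H2.TensLC.S6643_main Λ _ _ hF hG)

end Groth.Agent.H2.TensCons

namespace Groth.Agent.H2.TensCons

variable (Λ : Type (u + 1)) [CommRing Λ]

lemma range_fst_comp {X T T' : Scheme.{u}} (g : T ⟶ X) (g' : T' ⟶ X) :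
    Set.range (pullback.fst g g' ≫ g) = Set.range g ∩ Set.range g' := by
  have h1 : Set.range (pullback.fst g g') = g ⁻¹' Set.range g' := Scheme.Pullback.range_fst g g'
  ext x
  constructor
  · rintro ⟨z, rfl⟩
    refine ⟨⟨pullback.fst g g' z, by rw [Scheme.Hom.comp_apply]⟩, ?_⟩
    have : pullback.fst g g' z ∈ g ⁻¹' Set.range g' := h1 ▸ Set.mem_range_self z
    rw [Scheme.Hom.comp_apply]
    exact this
  · rintro ⟨⟨t, rfl⟩, ht⟩
    have : t ∈ Set.range (pullback.fst g g') := h1 ▸ ht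
    obtain ⟨z, rfl⟩ := this
    exact ⟨z, by rw [Scheme.Hom.comp_apply]⟩

theorem adaptedStrata_tensor {X : Scheme.{u}} (F G : EtModW.Mod Λ X) (S : Set X)
    (hF : EtModW.AdaptedStrata Λ F S) (hG : EtModW.AdaptedStrata Λ G S) :
    EtModW.AdaptedStrata Λ (((EtModD.tensorBi Λ X).obj F).obj G) S := by
  obtain ⟨n, T, g, hgi, hgc, hgd, hgu, hgF⟩ := hF
  obtain ⟨m, T', g', hgi', hgc', hgd', hgu', hgG⟩ := hG
  let e : Fin (n * m) ≃ Fin n × Fin m := finProdFinEquiv.symm
  refine ⟨n * m, fun k => pullback (g (e k).1) (g' (e k).2),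
    fun k => pullback.fst (g (e k).1) (g' (e k).2) ≫ g (e k).1, ?_, ?_, ?_, ?_, ?_⟩
  · intro k
    haveI := hgi (e k).1
    haveI := hgi' (e k).2
    infer_instance
  · intro k
    rw [range_fst_comp, Set.preimage_inter]
    exact (hgc (e k).1).inter (hgc' (e k).2)
  · intro k k' hkk'
    simp only [range_fst_comp]
    have hne : e k ≠ e k' := fun h => hkk' (e.injective h)
    by_cases h1 : (e k).1 = (e k').1
    · have h2 : (e k).2 ≠ (e k').2 := fun h2 => hne (Prod.ext h1 h2)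
      exact (hgd' h2).mono Set.inter_subset_right Set.inter_subset_right
    · exact (hgd h1).mono Set.inter_subset_left Set.inter_subset_left
  · simp only [range_fst_comp]
    ext x
    simp only [Set.mem_iUnion, Set.mem_inter_iff]
    constructor
    · rintro ⟨k, hk1, -⟩
      rw [← hgu]
      exact Set.mem_iUnion.2 ⟨_, hk1⟩
    · intro hx
      have hx1 : x ∈ ⋃ i, Set.range (g i) := hgu ▸ hx
      have hx2 : x ∈ ⋃ j, Set.range (g' j) := hgu' ▸ hx
      obtain ⟨i, hi⟩ := Set.mem_iUnion.1 hx1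
      obtain ⟨j, hj⟩ := Set.mem_iUnion.1 hx2
      refine ⟨e.symm (i, j), ?_, ?_⟩
      · rw [Equiv.apply_symm_apply]; exact hi
      · rw [Equiv.apply_symm_apply]; exact hj
  · intro k
    apply isFTLocConst_pull_tensor
    · exact isFTLocConst_pull_of_comp Λ (pullback.fst _ _) (g (e k).1) _ rfl F (hgF _)
    · exact isFTLocConst_pull_of_comp Λ (pullback.snd _ _) (g' (e k).2) _ pullback.condition G
        (hgG _)

theorem S6644_main {X : Scheme.{u}} (F G : EtModW.Mod Λ X)
    (hF : EtModW.IsConstructible Λ F) (hG : EtModW.IsConstructible Λ G) :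
    EtModW.IsConstructible Λ (((EtModD.tensorBi Λ X).obj F).obj G) :=
  fun U hU => adaptedStrata_tensor Λ F G _ (hF U hU) (hG U hU)

end Groth.Agent.H2.TensCons
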