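import Mathlib
import Groth.Prelude.Def_EtModD2
import Groth.Prelude.Def_SixF2
import Groth.Agent.Lib.Helper2.TensConsA
import Groth.Agent.Lib.Helper2.StrataC

set_option autoImplicit false
set_option linter.style.haveILetI false
set_option linter.unusedSectionVars false
universe u w₁ w₂ v₁ v₂ u₁ u₂

open CategoryTheory CategoryTheory.Limits Opposite AlgebraicGeometry

namespace Groth.Agent.H2.HDPull

section General

variable {C₁ : Type u₁} [Category.{v₁} C₁] [Abelian C₁] [HasDerivedCategory.{w₁} C₁]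
  {C₂ : Type u₂} [Category.{v₂} C₂] [Abelian C₂] [HasDerivedCategory.{w₂} C₂]
  (F : C₁ ⥤ C₂) [F.Additive] [PreservesFiniteLimits F] [PreservesFiniteColimits F]

/-- An exact functor commutes with the homology of complexes. -/
noncomputable def complexHomologyIso (X : CochainComplex C₁ ℤ) (i : ℤ) :
    ((F.mapHomologicalComplex (ComplexShape.up ℤ)).obj X).homology i ≅ F.obj (X.homology i) :=
  (X.sc i).mapHomologyIso F

/-- Cohomology objects in the derived category commute with exact functors. -/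
theorem nonempty_homology_mapDerivedCategory_iso (K : DerivedCategory C₁) (i : ℤ) :
    Nonempty ((DerivedCategory.homologyFunctor C₂ i).obj (F.mapDerivedCategory.obj K) ≅
      F.obj ((DerivedCategory.homologyFunctor C₁ i).obj K)) := by
  let X := DerivedCategory.Q.objPreimage K
  let e : DerivedCategory.Q.obj X ≅ K := DerivedCategory.Q.objObjPreimageIso K
  exact ⟨(DerivedCategory.homologyFunctor C₂ i).mapIso (F.mapDerivedCategory.mapIso e.symm) ≪≫
    (DerivedCategory.homologyFunctor C₂ i).mapIso (F.mapDerivedCategoryFactors.app X) ≪≫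
    (DerivedCategory.homologyFunctorFactors C₂ i).app _ ≪≫
    complexHomologyIso F X i ≪≫
    F.mapIso ((DerivedCategory.homologyFunctorFactors C₁ i).app X).symm ≪≫
    F.mapIso ((DerivedCategory.homologyFunctor C₁ i).mapIso e)⟩

end General

end Groth.Agent.H2.HDPull

namespace Groth.Agent.H2.HDPull

open Groth.Agent.H2.TensCons Groth.Agent.H2.Strata

variable (Λ : Type (u + 1)) [CommRing Λ]

lemma adaptedStrata_of_iso {X : Scheme.{u}} {F F' : EtModW.Mod Λ X} (e : F ≅ F') (S : Set X)
    (h : EtModW.AdaptedStrata Λ F S) : EtModW.AdaptedStrata Λ F' S := by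
  obtain ⟨n, T, g, h1, h2, h3, h4, h5⟩ := h
  exact ⟨n, T, g, h1, h2, h3, h4,
    fun i => isFTLocConst_of_iso Λ ((EtModW.pull Λ (g i)).mapIso e) (h5 i)⟩

lemma isConstructible_of_iso {X : Scheme.{u}} {F F' : EtModW.Mod Λ X} (e : F ≅ F')
    (h : EtModW.IsConstructible Λ F) : EtModW.IsConstructible Λ F' :=
  fun U hU => adaptedStrata_of_iso Λ e _ (h U hU)

lemma isFTLC_pull_of_comp' {X Y T T' : Scheme.{u}} (f : X ⟶ Y) (g : T ⟶ Y) (g' : T' ⟶ X)
    (p : T' ⟶ T) (w : g' ≫ f = p ≫ g) (F : EtModW.Mod Λ Y)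
    (hF : EtModW.IsFTLocConst Λ ((EtModW.pull Λ g).obj F)) :
    EtModW.IsFTLocConst Λ ((EtModW.pull Λ g').obj ((EtModW.pull Λ f).obj F)) := by
  have h2 : EtModW.IsFTLocConst Λ ((EtModW.pull Λ (g' ≫ f)).obj F) :=
    isFTLocConst_pull_of_comp Λ p g (g' ≫ f) w F hF
  exact isFTLocConst_of_iso Λ ((pullCompIso Λ g' f).app F) h2

/-- The inverse image of a constructible sheaf of modules is constructible. -/
theorem isConstructible_pull {X Y : Scheme.{u}} (f : X ⟶ Y) (F : EtModW.Mod Λ Y)
    (hF : EtModW.IsConstructible Λ F) : EtModW.IsConstructible Λ ((EtModW.pull Λ f).obj F) := by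
  intro U hU
  exact hasStrata_pullback f
    (fun T g => EtModW.IsFTLocConst Λ ((EtModW.pull Λ g).obj F))
    (fun T g => EtModW.IsFTLocConst Λ ((EtModW.pull Λ g).obj ((EtModW.pull Λ f).obj F)))
    (fun T T' g g' p w hQ => isFTLC_pull_of_comp' Λ f g g' p w F hQ)
    (fun V hV => hF V hV) U hU

attribute [local instance] HasDerivedCategory.standard

theorem S6689_main {X Y : Scheme.{u}}
    (f : X ⟶ Y) [PreservesFiniteLimits (EtModW.pull Λ f)] (K : EtModD.D Λ Y)
    (hK : ∀ i : ℤ, EtModW.IsConstructible Λ (EtModD.HD K i)) (i : ℤ) :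
    EtModW.IsConstructible Λ (EtModD.HD ((EtModW.pull Λ f).mapDerivedCategory.obj K) i) := by
  obtain ⟨e⟩ := nonempty_homology_mapDerivedCategory_iso (EtModW.pull Λ f) K i
  exact isConstructible_of_iso Λ e.symm (isConstructible_pull Λ f _ (hK i))

end Groth.Agent.H2.HDPull
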