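import Mathlib.Algebra.Homology.DerivedCategory.RightDerivedFunctorPlus
import Mathlib.CategoryTheory.Abelian.Injective.Extend

/-!
# The unit of the right derived functor on `D⁺` at a single object
-/

universe w w' v v' u u'

open CategoryTheory CategoryTheory.Limits

namespace Groth.Agent.H2.RDer

variable {A : Type u} [Category.{v} A] [Abelian A] [HasDerivedCategory.{w} A]
  {B : Type u'} [Category.{v'} B] [Abelian B] [HasDerivedCategory.{w'} B]
  (F : A ⥤ B) [F.Additive]

/-- A bounded below complex as an object of the bounded below homotopy category. -/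
noncomputable def plusObj (K : CochainComplex A ℤ) (a : ℤ) [K.IsStrictlyGE a] :
    HomotopyCategory.Plus A :=
  (HomotopyCategory.Plus.quotient A).obj ⟨K, ⟨a, inferInstance⟩⟩

/-- A morphism of bounded below complexes as a morphism in the bounded below homotopy category. -/
noncomputable def plusMap {K L : CochainComplex A ℤ} (a b : ℤ) [K.IsStrictlyGE a]
    [L.IsStrictlyGE b] (f : K ⟶ L) : plusObj K a ⟶ plusObj L b :=
  (HomotopyCategory.Plus.quotient A).map (ObjectProperty.homMk f)

lemma plusMap_hom {K L : CochainComplex A ℤ} (a b : ℤ) [K.IsStrictlyGE a]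
    [L.IsStrictlyGE b] (f : K ⟶ L) :
    (plusMap a b f).hom = (HomotopyCategory.quotient A (ComplexShape.up ℤ)).map f := rfl

lemma isIso_Qh_plusMap_iff {K L : CochainComplex A ℤ} (a b : ℤ) [K.IsStrictlyGE a]
    [L.IsStrictlyGE b] (f : K ⟶ L) :
    IsIso (DerivedCategory.Plus.Qh.map (plusMap a b f)) ↔ QuasiIso f := by
  rw [← isIso_iff_of_reflects_iso _ DerivedCategory.Plus.ι]
  change IsIso (DerivedCategory.Qh.map ((HomotopyCategory.quotient A (ComplexShape.up ℤ)).map f)) ↔ _
  rw [← DerivedCategory.isIso_Q_map_iff_quasiIso]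
  exact NatIso.isIso_map_iff (DerivedCategory.quotientCompQhIso A) f

lemma single_eq_plusObj (X : A) :
    (HomotopyCategory.Plus.singleFunctor A 0).obj X =
      plusObj ((CochainComplex.singleFunctor A 0).obj X) 0 := rfl

lemma mapHomotopyCategoryPlus_plusMap {K L : CochainComplex A ℤ} (a b : ℤ) [K.IsStrictlyGE a]
    [L.IsStrictlyGE b] (f : K ⟶ L) :
    F.mapHomotopyCategoryPlus.map (plusMap a b f) =
      plusMap a b ((F.mapHomologicalComplex (ComplexShape.up ℤ)).map f) := rfl

variable [EnoughInjectives A]

/-- The unit of the right derived functor is an isomorphism on a bounded below complex of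
injectives. -/
lemma isIso_unit_plusObj (J : CochainComplex A ℤ) (a : ℤ) [J.IsStrictlyGE a]
    [∀ n, Injective (J.X n)] :
    IsIso (F.rightDerivedFunctorPlusUnit.app (plusObj J a)) := by
  haveI : ∀ n, Injective ((plusObj J a).obj.as.X n) := fun n =>
    inferInstanceAs (Injective (J.X n))
  infer_instance

/-- The unit of the right derived functor at `X[0]` is an isomorphism iff `F` maps an injective
resolution of `X` to a quasi-isomorphism. -/
theorem isIso_unit_single_iff (X : A) (R : InjectiveResolution X) :
    IsIso (F.rightDerivedFunctorPlusUnit.app ((HomotopyCategory.Plus.singleFunctor A 0).obj X)) ↔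
      QuasiIso ((F.mapHomologicalComplex (ComplexShape.up ℤ)).map R.ι') := by
  rw [single_eq_plusObj]
  have nat := F.rightDerivedFunctorPlusUnit.naturality (plusMap 0 0 R.ι')
  haveI h1 : IsIso (F.rightDerivedFunctorPlusUnit.app (plusObj R.cochainComplex 0)) :=
    isIso_unit_plusObj F R.cochainComplex 0
  haveI h2 : IsIso (DerivedCategory.Plus.Qh.map (plusMap 0 0 R.ι')) :=
    (isIso_Qh_plusMap_iff 0 0 R.ι').2 inferInstance
  haveI h3 : IsIso ((DerivedCategory.Plus.Qh ⋙ F.rightDerivedFunctorPlus).map
      (plusMap 0 0 R.ι')) := by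
    rw [Functor.comp_map]
    infer_instance
  rw [← isIso_Qh_plusMap_iff 0 0, ← mapHomotopyCategoryPlus_plusMap]
  change _ ↔ IsIso ((F.mapHomotopyCategoryPlus ⋙ DerivedCategory.Plus.Qh).map (plusMap 0 0 R.ι'))
  constructor
  · intro h
    have : IsIso ((F.mapHomotopyCategoryPlus ⋙ DerivedCategory.Plus.Qh).map (plusMap 0 0 R.ι') ≫
        F.rightDerivedFunctorPlusUnit.app (plusObj R.cochainComplex 0)) := by
      rw [nat]
      infer_instance
    exact IsIso.of_isIso_comp_right _ (F.rightDerivedFunctorPlusUnit.app (plusObj R.cochainComplex 0))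
  · intro h
    have : IsIso (F.rightDerivedFunctorPlusUnit.app
        (plusObj ((CochainComplex.singleFunctor A 0).obj X) 0) ≫
        (DerivedCategory.Plus.Qh ⋙ F.rightDerivedFunctorPlus).map (plusMap 0 0 R.ι')) := by
      rw [← nat]
      infer_instance
    exact IsIso.of_isIso_comp_right _
      ((DerivedCategory.Plus.Qh ⋙ F.rightDerivedFunctorPlus).map (plusMap 0 0 R.ι'))

end Groth.Agent.H2.RDer
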