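import Groth.Agent.Lib.Helper2.AdjPlus1
import Groth.Agent.Lib.Helper2.RDer1
import Mathlib.CategoryTheory.Functor.Derived.Adjunction
import Mathlib.CategoryTheory.Functor.Derived.PointwiseLeftDerived

/-!
# The derived adjunction on bounded below derived categories
-/

universe w v u

open CategoryTheory CategoryTheory.Limits

namespace Groth.Agent.H2.AdjPlus

variable {A B : Type u} [Category.{v} A] [Category.{v} B]
  [Abelian A] [Abelian B] [HasDerivedCategory.{w} A] [HasDerivedCategory.{w} B]

section

variable (L : A ⥤ B) [L.Additive] [PreservesFiniteLimits L] [PreservesFiniteColimits L]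

lemma inverts : (HomotopyCategory.Plus.quasiIso A).IsInvertedBy
    (L.mapHomotopyCategoryPlus ⋙ DerivedCategory.Plus.Qh) := by
  intro X Y f hf
  obtain ⟨X, rfl⟩ := HomotopyCategory.Plus.quotient_obj_surjective X
  obtain ⟨Y, rfl⟩ := HomotopyCategory.Plus.quotient_obj_surjective Y
  obtain ⟨g, rfl⟩ := (HomotopyCategory.Plus.quotient A).map_surjective f
  have hq : QuasiIso g.hom := (HomotopyCategory.quotient_map_mem_quasiIso_iff g.hom).1 hf
  obtain ⟨a, ha⟩ := X.property
  obtain ⟨b, hb⟩ := Y.property
  have : QuasiIso ((L.mapHomologicalComplex (ComplexShape.up ℤ)).map g.hom) := inferInstance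
  exact (RDer.isIso_Qh_plusMap_iff a b ((L.mapHomologicalComplex _).map g.hom)).2 this

end

variable [EnoughInjectives A] [EnoughInjectives B] {L : A ⥤ B} {R : B ⥤ A} (adj : L ⊣ R)
  [L.Additive] [R.Additive] [PreservesFiniteLimits L] [PreservesFiniteColimits L]

include adj in
theorem nonempty_adj : Nonempty (L.rightDerivedFunctorPlus ⊣ R.rightDerivedFunctorPlus) := by
  have hinv := inverts L
  haveI : IsIso L.rightDerivedFunctorPlusUnit :=
    Functor.isIso_of_isRightDerivedFunctor_of_inverts _ _ hinv
  let e : DerivedCategory.Plus.Qh ⋙ L.rightDerivedFunctorPlus ≅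
      L.mapHomotopyCategoryPlus ⋙ DerivedCategory.Plus.Qh :=
    (asIso L.rightDerivedFunctorPlusUnit).symm
  haveI h1 : L.rightDerivedFunctorPlus.IsLeftDerivedFunctor e.hom
      (HomotopyCategory.Plus.quasiIso A) :=
    Functor.isLeftDerivedFunctor_of_inverts _ _ e
  let e' : DerivedCategory.Plus.Qh ⋙ (L.rightDerivedFunctorPlus ⋙ R.rightDerivedFunctorPlus) ≅
      (L.mapHomotopyCategoryPlus ⋙ DerivedCategory.Plus.Qh) ⋙ R.rightDerivedFunctorPlus :=
    (Functor.associator _ _ _).symm ≪≫ Functor.isoWhiskerRight e R.rightDerivedFunctorPlus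
  haveI h2 : (L.rightDerivedFunctorPlus ⋙ R.rightDerivedFunctorPlus).IsLeftDerivedFunctor
      ((Functor.associator _ _ _).inv ≫ Functor.whiskerRight e.hom R.rightDerivedFunctorPlus)
      (HomotopyCategory.Plus.quasiIso A) :=
    Functor.isLeftDerivedFunctor_of_inverts _ _ e'
  haveI h3 : (R.rightDerivedFunctorPlus ⋙ L.rightDerivedFunctorPlus).IsRightDerivedFunctor
      (Functor.whiskerRight R.rightDerivedFunctorPlusUnit L.rightDerivedFunctorPlus ≫
        (Functor.associator _ _ _).hom) (HomotopyCategory.Plus.quasiIso B) := by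
    refine (HomotopyCategory.Plus.localizerMorphism_derives _).isRightDerivedFunctor_of_isIso _ ?_
    intro Y
    simp only [NatTrans.comp_app, Functor.whiskerRight_app, Functor.associator_hom_app,
      Category.comp_id]
    have : IsIso (R.rightDerivedFunctorPlusUnit.app
        ((HomotopyCategory.Plus.localizerMorphism B).functor.obj Y)) := by
      change IsIso (R.rightDerivedFunctorPlusUnit.app
        ((InjectiveObject.ι B).mapHomotopyCategoryPlus.obj Y))
      infer_instance
    infer_instance
  exact ⟨(adjPlus adj).derived (HomotopyCategory.Plus.quasiIso A)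
    (HomotopyCategory.Plus.quasiIso B) e.hom R.rightDerivedFunctorPlusUnit⟩

end Groth.Agent.H2.AdjPlus
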