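import Mathlib
import Groth.Prelude.Def_EtMod2
import Groth.Prelude.Def_ARSys
import Groth.Agent.Lib.Helper2.ARPullA
import Groth.Agent.Lib.Helper2.HDPullA
import Groth.Agent.Lib.Helper7.ModPull1

set_option autoImplicit false
set_option linter.style.haveILetI false
set_option linter.unusedSectionVars false
universe w v v' u u'

open CategoryTheory CategoryTheory.Limits Opposite AlgebraicGeometry

namespace Groth.Agent.H2.ARPull

section Adj

variable {C : Type u} [Category.{v} C] {D : Type u'} [Category.{v'} D]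
variable {A : Type w} [CommRing A]
variable [Preadditive C] [Linear A C] [Preadditive D] [Linear A D]

/-- The left adjoint of a linear functor is linear. -/
lemma linear_of_adjunction {L : C ⥤ D} {R : D ⥤ C} (adj : L ⊣ R) [L.Additive] [R.Additive]
    [R.Linear A] : L.Linear A where
  map_smul {X Y} φ a := by
    apply (adj.homEquiv X (L.obj Y)).injective
    rw [adj.homEquiv_unit, adj.homEquiv_unit, adj.unit_naturality, R.map_smul,
      Linear.comp_smul, adj.unit_naturality, Linear.smul_comp]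

end Adj

variable (Λ : Type (u + 1)) [CommRing Λ]

instance push_linear {X Y : Scheme.{u}} (f : X ⟶ Y) : (EtModW.push Λ f).Linear Λ where
  map_smul _ _ := rfl

noncomputable instance pull_additive {X Y : Scheme.{u}} (f : X ⟶ Y) :
    (EtModW.pull Λ f).Additive :=
  ((EtCoh.bc f).sheafAdjunctionContinuous (ModuleCat.{u + 1} Λ)
    Y.smallEtaleTopology X.smallEtaleTopology).left_adjoint_additive

instance pull_linear {X Y : Scheme.{u}} (f : X ⟶ Y) : (EtModW.pull Λ f).Linear Λ :=
  linear_of_adjunction ((EtCoh.bc f).sheafAdjunctionContinuous (ModuleCat.{u + 1} Λ)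
    Y.smallEtaleTopology X.smallEtaleTopology)

theorem S13614_main [IsNoetherianRing Λ] (I : Ideal Λ)
    {X X' : Scheme.{u}} (f : X' ⟶ X)
    (F : ARSys.PS (EtModW.Mod Λ X))
    (hF : (ARSys.TermKilled I F ∧ ∃ (Y : ARSys.PS (EtModW.Mod Λ X)) (v : Y ⟶ F),
      ARSys.IsAdic I Y ∧ (∀ n : ℕ, EtModW.IsConstructible Λ (Y.obj (op n))) ∧ ARSys.IsARIso v)) :
    (ARSys.TermKilled I (F ⋙ EtModW.pull Λ f) ∧
      ∃ (Y : ARSys.PS (EtModW.Mod Λ X')) (v : Y ⟶ (F ⋙ EtModW.pull Λ f)),
        ARSys.IsAdic I Y ∧ (∀ n : ℕ, EtModW.IsConstructible Λ (Y.obj (op n))) ∧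
        ARSys.IsARIso v) := by
  obtain ⟨h1, Y, v, hY, hYc, hv⟩ := hF
  haveI := Groth.Agent.H7.ModPull.pullMod_preservesFiniteLimits Λ f
  haveI := Groth.Agent.H7.ModPull.pullMod_preservesFiniteColimits Λ f
  refine ⟨termKilled_comp _ I h1, Y ⋙ EtModW.pull Λ f, Functor.whiskerRight v _,
    isAdic_comp _ I hY, fun n => ?_, isARIso_whiskerRight _ v hv⟩
  exact Groth.Agent.H2.HDPull.isConstructible_pull Λ f _ (hYc n)

end Groth.Agent.H2.ARPull
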