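import Mathlib

/-!
Algebra for the Adams–Riemann–Roch theorem for elementary projections: generic identities for
`B[T]/∏(T - u_i)`.
-/

set_option autoImplicit false

namespace Groth.Agent.H2.ARR

open Polynomial Finset

section Basic

variable {B : Type*} [CommRing B] {n : ℕ}

/-- elementary symmetric functions of a finite family -/
def es (u : Fin n → B) (i : ℕ) : B := ∑ S ∈ powersetCard i (univ : Finset (Fin n)), ∏ k ∈ S, u k

/-- signed elementary symmetric functions -/
def acoef (u : Fin n → B) (i : ℕ) : B := (-1) ^ i * es u i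

/-- `∏ (X - u_i)` -/
noncomputable def pol (u : Fin n → B) : B[X] := ∏ i, (X - C (u i))

theorem es_zero (u : Fin n → B) : es u 0 = 1 := by simp [es]

theorem acoef_zero (u : Fin n → B) : acoef u 0 = 1 := by simp [acoef, es_zero]

theorem es_vanish (u : Fin n → B) {i : ℕ} (hi : n < i) : es u i = 0 := by
  rw [es, powersetCard_eq_empty.mpr (by simpa using hi), sum_empty]

theorem acoef_vanish (u : Fin n → B) {i : ℕ} (hi : n < i) : acoef u i = 0 := by
  rw [acoef, es_vanish u hi, mul_zero]

theorem pol_monic (u : Fin n → B) : (pol u).Monic :=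
  monic_prod_of_monic _ _ fun i _ => monic_X_sub_C _

theorem natDegree_pol [Nontrivial B] (u : Fin n → B) : (pol u).natDegree = n := by
  rw [pol, natDegree_prod_of_monic _ _ fun i _ => monic_X_sub_C _]
  simp

theorem pol_eq_sum (u : Fin n → B) :
    pol u = ∑ i ∈ range (n + 1), C (acoef u i) * X ^ (n - i) := by
  have h := Multiset.prod_X_sub_X_eq_sum_esymm ((univ : Finset (Fin n)).val.map u)
  rw [Multiset.map_map, Multiset.card_map, card_val, card_univ, Fintype.card_fin] at h
  have h2 : pol u = (Multiset.map ((fun t => X - C t) ∘ u) (univ : Finset (Fin n)).val).prod := rfl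
  rw [h2, h]
  apply Finset.sum_congr rfl
  intro i _
  rw [acoef, es, Finset.esymm_map_val, C_mul, C_pow, C_neg, C_1, mul_assoc]

variable {B' : Type*} [CommRing B'] (φ : B →+* B')

theorem es_map (u : Fin n → B) (i : ℕ) : φ (es u i) = es (φ ∘ u) i := by
  simp [es, map_sum, map_prod]

theorem acoef_map (u : Fin n → B) (i : ℕ) : φ (acoef u i) = acoef (φ ∘ u) i := by
  rw [acoef, acoef, map_mul, map_pow, map_neg, map_one, es_map]

theorem pol_map (u : Fin n → B) : (pol u).map φ = pol (φ ∘ u) := by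
  simp [pol, Polynomial.map_prod]

/-- `∏_k Σ_{a<j} X^a u_k^{j-1-a}` -/
noncomputable def theta (u : Fin n → B) (j : ℕ) : B[X] :=
  ∏ k, ∑ a ∈ range j, X ^ a * C (u k) ^ (j - 1 - a)

theorem theta_map (u : Fin n → B) (j : ℕ) : (theta u j).map φ = theta (φ ∘ u) j := by
  simp [theta, Polynomial.map_prod, Polynomial.map_sum]

theorem eval_theta (u : Fin n → B) (j : ℕ) (x : B) :
    (theta u j).eval x = ∏ k, ∑ a ∈ range j, x ^ a * (u k) ^ (j - 1 - a) := by
  simp [theta, eval_prod, eval_finsetSum]

/-- the complete homogeneous symmetric functions, as coefficients of `1/Σ a_i X^i` -/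
noncomputable def hs (u : Fin n → B) (m : ℕ) : B :=
  PowerSeries.coeff m ((PowerSeries.mk (acoef u)).invOfUnit 1)

theorem hs_conv (u : Fin n → B) (k : ℕ) :
    ∑ i ∈ range (k + 1), acoef u i * hs u (k - i) = if k = 0 then 1 else 0 := by
  have h0 : PowerSeries.constantCoeff (PowerSeries.mk (acoef u)) = ((1 : Bˣ) : B) := by
    rw [← PowerSeries.coeff_zero_eq_constantCoeff_apply, PowerSeries.coeff_mk, acoef_zero]; rfl
  have h := congrArg (PowerSeries.coeff k) (PowerSeries.mul_invOfUnit _ (1 : Bˣ) h0)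
  rw [PowerSeries.coeff_mul, PowerSeries.coeff_one,
    Finset.Nat.sum_antidiagonal_eq_sum_range_succ
      (fun i j => PowerSeries.coeff i (PowerSeries.mk (acoef u)) *
        PowerSeries.coeff j ((PowerSeries.mk (acoef u)).invOfUnit 1))] at h
  rw [← h]
  apply Finset.sum_congr rfl
  intro i _
  rw [PowerSeries.coeff_mk, hs]

theorem conv_unique {a σ σ' : ℕ → B} (ha0 : a 0 = 1)
    (h : ∀ k, ∑ i ∈ range (k + 1), a i * σ (k - i) = if k = 0 then 1 else 0)
    (h' : ∀ k, ∑ i ∈ range (k + 1), a i * σ' (k - i) = if k = 0 then 1 else 0) (k : ℕ) :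
    σ k = σ' k := by
  induction k using Nat.strong_induction_on with
  | _ k ih =>
    have h1 := (h k).trans (h' k).symm
    rw [Finset.sum_range_succ', Finset.sum_range_succ'] at h1
    simp only [ha0, one_mul, Nat.sub_zero] at h1
    have h2 : ∑ i ∈ range k, a (i + 1) * σ (k - (i + 1)) =
        ∑ i ∈ range k, a (i + 1) * σ' (k - (i + 1)) := by
      apply Finset.sum_congr rfl
      intro i hi
      rw [mem_range] at hi
      rw [ih (k - (i + 1)) (by omega)]
    rw [h2] at h1
    exact add_left_cancel h1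

theorem hs_map (u : Fin n → B) (m : ℕ) : φ (hs u m) = hs (φ ∘ u) m := by
  refine conv_unique (a := acoef (φ ∘ u)) (σ := fun m => φ (hs u m)) (acoef_zero _) ?_
    (hs_conv (φ ∘ u)) m
  intro k
  have := congrArg φ (hs_conv u k)
  rw [map_sum] at this
  simp only [map_mul, acoef_map] at this
  rw [this]
  split_ifs <;> simp

end Basic

section AR

variable {B : Type*} [CommRing B] {n : ℕ} (u : Fin n → B)

theorem root_rel : ∑ i ∈ range (n + 1),
    acoef u i • (AdjoinRoot.root (pol u)) ^ (n - i) = 0 := by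
  have h : Polynomial.eval₂ (AdjoinRoot.of (pol u)) (AdjoinRoot.root (pol u))
      (∑ i ∈ range (n + 1), C (acoef u i) * X ^ (n - i)) = 0 := by
    rw [← pol_eq_sum]
    exact AdjoinRoot.eval₂_root (pol u)
  rw [Polynomial.eval₂_finsetSum] at h
  rw [← h]
  apply Finset.sum_congr rfl
  intro i _
  rw [Polynomial.eval₂_mul, Polynomial.eval₂_C, Polynomial.eval₂_pow, Polynomial.eval₂_X,
    Algebra.smul_def, AdjoinRoot.algebraMap_eq]

/-- linear functionals on `B[T]/(pol u)` are determined by the values on `1, ℓ, …, ℓ^{n-1}` -/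
theorem fn_ext [Nontrivial B] {M : Type*} [AddCommMonoid M] [Module B M]
    (f g : AdjoinRoot (pol u) →ₗ[B] M)
    (h : ∀ m, m < n → f (AdjoinRoot.root (pol u) ^ m) = g (AdjoinRoot.root (pol u) ^ m)) :
    f = g := by
  refine (AdjoinRoot.powerBasis' (pol_monic u)).basis.ext fun i => ?_
  rw [PowerBasis.basis_eq_pow, AdjoinRoot.powerBasis'_gen]
  refine h i ?_
  have hd : (AdjoinRoot.powerBasis' (pol_monic u)).dim = n := by
    rw [AdjoinRoot.powerBasis'_dim, natDegree_pol]
  have := i.2
  omega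

theorem exists_fn [Nontrivial B] (σ : ℕ → B) :
    ∃ fn : AdjoinRoot (pol u) →ₗ[B] B, ∀ m, m < n → fn (AdjoinRoot.root (pol u) ^ m) = σ m := by
  refine ⟨(AdjoinRoot.powerBasis' (pol_monic u)).basis.constr B fun i => σ i, fun m hm => ?_⟩
  have hd : (AdjoinRoot.powerBasis' (pol_monic u)).dim = n := by
    rw [AdjoinRoot.powerBasis'_dim, natDegree_pol]
  have := (AdjoinRoot.powerBasis' (pol_monic u)).basis.constr_basis B (fun i => σ i)
    ⟨m, by rw [hd]; exact hm⟩
  rw [PowerBasis.basis_eq_pow, AdjoinRoot.powerBasis'_gen] at this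
  exact this

theorem exists_repr [Nontrivial B] (y : AdjoinRoot (pol u)) :
    ∃ c : ℕ → B, y = ∑ m ∈ range n, c m • AdjoinRoot.root (pol u) ^ m := by
  have hd : (AdjoinRoot.powerBasis' (pol_monic u)).dim = n := by
    rw [AdjoinRoot.powerBasis'_dim, natDegree_pol]
  have h := ((AdjoinRoot.powerBasis' (pol_monic u)).basis.sum_repr y).symm
  refine ⟨fun m => if hm : m < (AdjoinRoot.powerBasis' (pol_monic u)).dim then
    (AdjoinRoot.powerBasis' (pol_monic u)).basis.repr y ⟨m, hm⟩ else 0, ?_⟩
  have hr : range n = range (AdjoinRoot.powerBasis' (pol_monic u)).dim := by rw [hd]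
  rw [hr, ← Fin.sum_univ_eq_sum_range
    (fun m => (if hm : m < (AdjoinRoot.powerBasis' (pol_monic u)).dim then
      (AdjoinRoot.powerBasis' (pol_monic u)).basis.repr y ⟨m, hm⟩ else 0) •
        AdjoinRoot.root (pol u) ^ m)]
  nth_rewrite 1 [h]
  apply Finset.sum_congr rfl
  intro i _
  rw [dif_pos i.2, PowerBasis.basis_eq_pow, AdjoinRoot.powerBasis'_gen]

end AR

end Groth.Agent.H2.ARR
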