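import Groth.Agent.Lib.Helper2.ARR1

/-!
ARR, part 2: the element `W₀`, naturality, and the field case via Lagrange interpolation.
-/

set_option autoImplicit false

namespace Groth.Agent.H2.ARR

open Polynomial Finset

section W0

variable {B : Type*} [CommRing B] {n : ℕ} (u : Fin n → B)

theorem dvd_prod_sub {A ι : Type*} [CommRing A] (s : Finset ι) (c : ι → A) (x : A) :
    x ∣ ∏ i ∈ s, c i - ∏ i ∈ s, (c i - x) := by
  classical
  induction s using Finset.induction_on with
  | empty => simp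
  | insert a s ha ih =>
    rw [prod_insert ha, prod_insert ha]
    obtain ⟨q, hq⟩ := ih
    refine ⟨c a * q + ∏ i ∈ s, (c i - x), ?_⟩
    linear_combination (c a) * hq

theorem exists_W0 (g : B[X]) : ∃ W₀ : AdjoinRoot (pol u),
    W₀ * AdjoinRoot.mk (pol u) g = AdjoinRoot.of (pol u) (∏ k, g.eval (u k)) := by
  have h0 : ∏ k, (AdjoinRoot.of (pol u) (g.eval (u k)) - AdjoinRoot.mk (pol u) g) = 0 := by
    have h1 : ∀ k, AdjoinRoot.of (pol u) (g.eval (u k)) - AdjoinRoot.mk (pol u) g =
        AdjoinRoot.mk (pol u) (C (g.eval (u k)) - g) := by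
      intro k; rw [map_sub, AdjoinRoot.mk_C]
    rw [Finset.prod_congr rfl fun k _ => h1 k, ← map_prod, AdjoinRoot.mk_eq_zero]
    refine Finset.prod_dvd_prod_of_dvd _ _ fun k _ => ?_
    have h2 : X - C (u k) ∣ g - C (g.eval (u k)) := Polynomial.X_sub_C_dvd_sub_C_eval
    have h3 : C (g.eval (u k)) - g = -(g - C (g.eval (u k))) := by ring
    rw [h3, dvd_neg]
    exact h2
  obtain ⟨q, hq⟩ := dvd_prod_sub univ (fun k => AdjoinRoot.of (pol u) (g.eval (u k)))
    (AdjoinRoot.mk (pol u) g)
  rw [h0, sub_zero] at hq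
  exact ⟨q, by rw [mul_comm, ← hq, map_prod]⟩

end W0

section Nat

variable {B B' : Type*} [CommRing B] [CommRing B'] (φ : B →+* B') {n : ℕ} (u : Fin n → B)

/-- base change of `B[T]/(pol u)` -/
noncomputable def amap : AdjoinRoot (pol u) →+* AdjoinRoot (pol (φ ∘ u)) :=
  AdjoinRoot.map φ (pol u) (pol (φ ∘ u)) (by rw [pol_map])

theorem amap_root : amap φ u (AdjoinRoot.root (pol u)) = AdjoinRoot.root (pol (φ ∘ u)) :=
  AdjoinRoot.map_root ..

theorem amap_of (b : B) : amap φ u (AdjoinRoot.of (pol u) b) = AdjoinRoot.of (pol (φ ∘ u)) (φ b) :=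
  AdjoinRoot.map_of ..

theorem amap_mk (g : B[X]) :
    amap φ u (AdjoinRoot.mk (pol u) g) = AdjoinRoot.mk (pol (φ ∘ u)) (g.map φ) := by
  rw [amap, AdjoinRoot.map, AdjoinRoot.lift_mk, ← Polynomial.eval₂_map, ← AdjoinRoot.aeval_eq,
    Polynomial.aeval_def, AdjoinRoot.algebraMap_eq]

theorem fn_map [Nontrivial B] (fn : AdjoinRoot (pol u) →ₗ[B] B)
    (fn' : AdjoinRoot (pol (φ ∘ u)) →ₗ[B'] B') (σ : ℕ → B)
    (h : ∀ m, m < n → fn (AdjoinRoot.root (pol u) ^ m) = σ m)
    (h' : ∀ m, m < n → fn' (AdjoinRoot.root (pol (φ ∘ u)) ^ m) = φ (σ m))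
    (y : AdjoinRoot (pol u)) : fn' (amap φ u y) = φ (fn y) := by
  obtain ⟨c, rfl⟩ := exists_repr u y
  rw [map_sum, map_sum, map_sum, map_sum]
  apply Finset.sum_congr rfl
  intro m hm
  rw [mem_range] at hm
  have e1 : amap φ u (c m • AdjoinRoot.root (pol u) ^ m) =
      φ (c m) • AdjoinRoot.root (pol (φ ∘ u)) ^ m := by
    rw [Algebra.smul_def, AdjoinRoot.algebraMap_eq, map_mul, amap_of, map_pow, amap_root,
      Algebra.smul_def, AdjoinRoot.algebraMap_eq]
  rw [e1, map_smul, h' m hm, map_smul, h m hm, smul_eq_mul, smul_eq_mul, map_mul]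

end Nat

section Field

variable {F : Type*} [Field F] {n : ℕ} (v : Fin n → F)

/-- `∏_{k ≠ i} (v_i - v_k)` -/
noncomputable def D (i : Fin n) : F := ∏ k ∈ univ.erase i, (v i - v k)

/-- `Σ_i v_i^M / D_i` -/
noncomputable def S (M : ℕ) : F := ∑ i, v i ^ M / D v i

theorem D_ne_zero (hv : Function.Injective v) (i : Fin n) : D v i ≠ 0 := by
  rw [D, prod_ne_zero_iff]
  intro k hk
  exact sub_ne_zero.mpr (fun h => (mem_erase.mp hk).1 (hv h).symm)

theorem S_small (hv : Function.Injective v) {M : ℕ} (hM : M < n) :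
    S v M = if M = n - 1 then 1 else 0 := by
  have h := Lagrange.coeff_eq_sum (s := (univ : Finset (Fin n))) (v := v) hv.injOn (P := X ^ M) (by
    rw [degree_X_pow, card_univ, Fintype.card_fin]; exact_mod_cast hM)
  rw [card_univ, Fintype.card_fin, coeff_X_pow] at h
  simp only [eval_pow, eval_X] at h
  rw [S]
  simp only [D]
  rw [← h]
  by_cases hc : M = n - 1
  · rw [if_pos hc, if_pos hc.symm]
  · rw [if_neg hc, if_neg (fun h => hc h.symm)]

theorem eval_pol_self (i : Fin n) : (pol v).eval (v i) = 0 := by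
  rw [pol, eval_prod]
  exact prod_eq_zero (mem_univ i) (by simp)

theorem sum_acoef_pow (i : Fin n) : ∑ t ∈ range (n + 1), acoef v t * v i ^ (n - t) = 0 := by
  have := eval_pol_self v i
  rw [pol_eq_sum, eval_finsetSum] at this
  simpa [eval_mul, eval_pow] using this

theorem S_rec {M : ℕ} (hM : n ≤ M) : ∑ t ∈ range (n + 1), acoef v t * S v (M - t) = 0 := by
  simp only [S, mul_sum]
  rw [sum_comm]
  apply sum_eq_zero
  intro i _
  have : ∀ t ∈ range (n + 1), acoef v t * (v i ^ (M - t) / D v i) =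
      v i ^ (M - n) / D v i * (acoef v t * v i ^ (n - t)) := by
    intro t ht
    rw [mem_range] at ht
    have : M - t = (M - n) + (n - t) := by omega
    rw [this, pow_add]; ring
  rw [sum_congr rfl this, ← mul_sum, sum_acoef_pow, mul_zero]

theorem S_eq (hv : Function.Injective v) (hn : 1 ≤ n) (σ : ℕ → F)
    (hconv : ∀ k, ∑ i ∈ range (k + 1), acoef v i * σ (k - i) = if k = 0 then 1 else 0) (m : ℕ) :
    S v (n - 1 + m) = σ m := by
  induction m using Nat.strong_induction_on with
  | _ m ih =>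
    rcases Nat.eq_zero_or_pos m with rfl | hm
    · rw [add_zero, S_small v hv (by omega), if_pos rfl]
      have := hconv 0
      simpa [acoef_zero] using this.symm
    · have h1 := S_rec v (M := n - 1 + m) (by omega)
      have h2 := hconv m
      rw [if_neg (by omega)] at h2
      rw [sum_range_succ'] at h1 h2
      simp only [acoef_zero, one_mul, Nat.sub_zero] at h1 h2
      have h3 : ∑ t ∈ range n, acoef v (t + 1) * S v (n - 1 + m - (t + 1)) =
          ∑ t ∈ range m, acoef v (t + 1) * σ (m - (t + 1)) := by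
        have e1 : ∀ t ∈ range n, acoef v (t + 1) * S v (n - 1 + m - (t + 1)) =
            if t < m then acoef v (t + 1) * σ (m - (t + 1)) else 0 := by
          intro t ht
          rw [mem_range] at ht
          by_cases htm : t < m
          · rw [if_pos htm, show n - 1 + m - (t + 1) = n - 1 + (m - (t + 1)) by omega,
              ih (m - (t + 1)) (by omega)]
          · rw [if_neg htm, S_small v hv (by omega), if_neg (by omega), mul_zero]
        have e2 : ∀ t ∈ range m, acoef v (t + 1) * σ (m - (t + 1)) =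
            if t < n then acoef v (t + 1) * σ (m - (t + 1)) else 0 := by
          intro t _
          by_cases htn : t < n
          · rw [if_pos htn]
          · rw [if_neg htn, acoef_vanish v (by omega), zero_mul]
        rw [sum_congr rfl e1, sum_congr rfl e2, ← sum_filter, ← sum_filter]
        apply sum_congr
        · ext t
          simp only [mem_filter, mem_range]
          tauto
        · intro _ _; rfl
      rw [h3] at h1
      have := h1.trans h2.symm
      exact add_left_cancel this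

/-- the Lagrange form of the functional -/
noncomputable def ev (k : Fin n) : AdjoinRoot (pol v) →+* F :=
  AdjoinRoot.lift (RingHom.id F) (v k) (by rw [eval₂_id]; exact eval_pol_self v k)

theorem ev_root (k : Fin n) : ev v k (AdjoinRoot.root (pol v)) = v k := AdjoinRoot.lift_root ..

theorem ev_of (k : Fin n) (c : F) : ev v k (AdjoinRoot.of (pol v) c) = c := AdjoinRoot.lift_of ..

theorem ev_mk (k : Fin n) (g : F[X]) : ev v k (AdjoinRoot.mk (pol v) g) = g.eval (v k) := by
  rw [ev, AdjoinRoot.lift_mk, eval₂_id]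

/-- the Lagrange functional -/
noncomputable def lag : AdjoinRoot (pol v) →ₗ[F] F where
  toFun y := ∑ k, ev v k (AdjoinRoot.root (pol v) ^ (n - 1) * y) / D v k
  map_add' x y := by
    rw [← sum_add_distrib]
    apply sum_congr rfl
    intro k _
    rw [mul_add, map_add, add_div]
  map_smul' c y := by
    rw [RingHom.id_apply, smul_eq_mul, mul_sum]
    apply sum_congr rfl
    intro k _
    rw [Algebra.smul_def, AdjoinRoot.algebraMap_eq, mul_left_comm, map_mul, ev_of, mul_div_assoc]

theorem lag_apply (y : AdjoinRoot (pol v)) :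
    lag v y = ∑ k, ev v k (AdjoinRoot.root (pol v) ^ (n - 1) * y) / D v k := rfl

theorem fn_eq_lag (hv : Function.Injective v) (hn : 1 ≤ n) (σ : ℕ → F)
    (hconv : ∀ k, ∑ i ∈ range (k + 1), acoef v i * σ (k - i) = if k = 0 then 1 else 0)
    (fn : AdjoinRoot (pol v) →ₗ[F] F)
    (hfn : ∀ m, m < n → fn (AdjoinRoot.root (pol v) ^ m) = σ m) : fn = lag v := by
  refine fn_ext v fn (lag v) fun m hm => ?_
  rw [hfn m hm, lag_apply, ← S_eq v hv hn σ hconv m, S]
  apply sum_congr rfl
  intro k _
  rw [← pow_add, map_pow, ev_root]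

theorem theta_mul_D (j : ℕ) (hj : 1 ≤ j) (k : Fin n) :
    (theta v j).eval (v k) * D v k = (j : F) * v k ^ (j - 1) * D (fun i => v i ^ j) k := by
  rw [eval_theta, ← Finset.mul_prod_erase univ _ (mem_univ k), D, D, mul_assoc, ← prod_mul_distrib]
  congr 1
  · have : ∀ a ∈ range j, v k ^ a * v k ^ (j - 1 - a) = v k ^ (j - 1) := by
      intro a ha
      rw [mem_range] at ha
      rw [← pow_add]; congr 1; omega
    rw [sum_congr rfl this, sum_const, card_range, nsmul_eq_mul]
  · apply prod_congr rfl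
    intro m _
    exact geom_sum₂_mul (v k) (v m) j

theorem field_main (hn : 1 ≤ n) (j : ℕ) (hj : 1 ≤ j)
    (hinj : Function.Injective fun i => v i ^ j)
    (σ σ' : ℕ → F)
    (hσ : ∀ k, ∑ i ∈ range (k + 1), acoef v i * σ (k - i) = if k = 0 then 1 else 0)
    (hσ' : ∀ k, ∑ i ∈ range (k + 1), acoef (fun i => v i ^ j) i * σ' (k - i) =
      if k = 0 then 1 else 0)
    (fn : AdjoinRoot (pol v) →ₗ[F] F)
    (hfn : ∀ m, m < n → fn (AdjoinRoot.root (pol v) ^ m) = σ m)
    (W₀ : AdjoinRoot (pol v)) (ρ : F)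
    (hW : W₀ * AdjoinRoot.mk (pol v) (theta v j) = AdjoinRoot.of (pol v) ρ) (i : ℕ) :
    fn ((j : AdjoinRoot (pol v)) * W₀ * AdjoinRoot.root (pol v) ^ ((j - 1) * n + i * j)) =
      ρ * σ' i := by
  have hv : Function.Injective v := by
    intro a b hab
    exact hinj (by simp only [hab])
  rw [fn_eq_lag v hv hn σ hσ fn hfn, lag_apply, ← S_eq (fun i => v i ^ j) hinj hn σ' hσ' i, S,
    mul_sum]
  apply sum_congr rfl
  intro k _
  have hE : ev v k W₀ * (theta v j).eval (v k) = ρ := by
    have := congrArg (ev v k) hW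
    rwa [map_mul, ev_mk, ev_of] at this
  have hD := D_ne_zero v hv k
  have hD' := D_ne_zero (fun i => v i ^ j) hinj k
  rw [← mul_div_assoc, div_eq_div_iff hD hD']
  simp only [map_mul, map_pow, ev_root, map_natCast]
  rw [← hE]
  have hpow : v k ^ (n - 1) * v k ^ ((j - 1) * n + i * j) =
      v k ^ (j - 1) * (v k ^ j) ^ (n - 1 + i) := by
    rw [← pow_add, ← pow_mul, ← pow_add]
    congr 1
    obtain ⟨j', rfl⟩ : ∃ j', j = j' + 1 := ⟨j - 1, by omega⟩
    obtain ⟨n', rfl⟩ : ∃ n', n = n' + 1 := ⟨n - 1, by omega⟩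
    simp only [Nat.add_sub_cancel]
    ring
  calc v k ^ (n - 1) * ((j : F) * ev v k W₀ * v k ^ ((j - 1) * n + i * j)) *
        D (fun i => v i ^ j) k
      = ev v k W₀ * ((j : F) * (v k ^ (n - 1) * v k ^ ((j - 1) * n + i * j)) *
          D (fun i => v i ^ j) k) := by ring
    _ = ev v k W₀ * ((j : F) * (v k ^ (j - 1) * (v k ^ j) ^ (n - 1 + i)) *
          D (fun i => v i ^ j) k) := by rw [hpow]
    _ = ev v k W₀ * ((theta v j).eval (v k) * D v k) * (v k ^ j) ^ (n - 1 + i) := by
        rw [theta_mul_D v j hj k]; ring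
    _ = ev v k W₀ * (theta v j).eval (v k) * (v k ^ j) ^ (n - 1 + i) * D v k := by ring

end Field

end Groth.Agent.H2.ARR
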