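import Groth.Agent.Lib.Helper2.ARR2

/-!
ARR, part 3: the generic ring and the core identity over an arbitrary ring.
-/

set_option autoImplicit false

namespace Groth.Agent.H2.ARR

open Polynomial Finset

section EvB

variable {B : Type*} [CommRing B] {n : ℕ} (u : Fin n → B)

theorem eval_pol_selfB (i : Fin n) : (pol u).eval (u i) = 0 := by
  rw [pol, eval_prod]
  exact prod_eq_zero (mem_univ i) (by simp)

/-- evaluation at a root -/
noncomputable def evB (k : Fin n) : AdjoinRoot (pol u) →+* B :=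
  AdjoinRoot.lift (RingHom.id B) (u k) (by rw [eval₂_id]; exact eval_pol_selfB u k)

theorem evB_mk (k : Fin n) (g : B[X]) : evB u k (AdjoinRoot.mk (pol u) g) = g.eval (u k) := by
  rw [evB, AdjoinRoot.lift_mk, eval₂_id]

end EvB

section Generic

variable (n : ℕ)

/-- the generic roots -/
noncomputable def xs : Fin n → MvPolynomial (Fin n) ℤ := fun i => MvPolynomial.X i

theorem xs_pow_injective (j : ℕ) (hj : 1 ≤ j) :
    Function.Injective fun i => algebraMap (MvPolynomial (Fin n) ℤ)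
      (FractionRing (MvPolynomial (Fin n) ℤ)) (xs n i) ^ j := by
  intro a b hab
  simp only [← map_pow] at hab
  have h1 := IsFractionRing.injective (MvPolynomial (Fin n) ℤ)
    (FractionRing (MvPolynomial (Fin n) ℤ)) hab
  simp only [xs, MvPolynomial.X_pow_eq_monomial] at h1
  have h2 := MvPolynomial.monomial_left_injective (R := ℤ) (σ := Fin n) one_ne_zero h1
  exact Finsupp.single_left_injective (by omega) h2

theorem generic_main (hn : 1 ≤ n) (j : ℕ) (hj : 1 ≤ j)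
    (fn : AdjoinRoot (pol (xs n)) →ₗ[MvPolynomial (Fin n) ℤ] MvPolynomial (Fin n) ℤ)
    (hfn : ∀ m, m < n → fn (AdjoinRoot.root (pol (xs n)) ^ m) = hs (xs n) m)
    (W₀ : AdjoinRoot (pol (xs n))) (ρ : MvPolynomial (Fin n) ℤ)
    (hW : W₀ * AdjoinRoot.mk (pol (xs n)) (theta (xs n) j) = AdjoinRoot.of (pol (xs n)) ρ)
    (i : ℕ) :
    fn ((j : AdjoinRoot (pol (xs n))) * W₀ *
      AdjoinRoot.root (pol (xs n)) ^ ((j - 1) * n + i * j)) =
      ρ * hs (fun k => xs n k ^ j) i := by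
  set φ : MvPolynomial (Fin n) ℤ →+* FractionRing (MvPolynomial (Fin n) ℤ) :=
    algebraMap _ _ with hφ
  have hφinj : Function.Injective φ := IsFractionRing.injective _ _
  obtain ⟨fn', hfn'⟩ := exists_fn (φ ∘ xs n) (fun m => φ (hs (xs n) m))
  have hnat := fn_map φ (xs n) fn fn' (hs (xs n)) hfn hfn'
  have hW' : amap φ (xs n) W₀ * AdjoinRoot.mk (pol (φ ∘ xs n)) (theta (φ ∘ xs n) j) =
      AdjoinRoot.of (pol (φ ∘ xs n)) (φ ρ) := by
    have := congrArg (amap φ (xs n)) hW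
    rwa [map_mul, amap_mk, amap_of, theta_map] at this
  have hmain := field_main (φ ∘ xs n) hn j hj (xs_pow_injective n j hj)
    (fun m => hs (φ ∘ xs n) m) (fun m => hs (fun k => (φ ∘ xs n) k ^ j) m)
    (hs_conv _) (hs_conv _) fn' (fun m hm => by rw [hfn' m hm, hs_map]) (amap φ (xs n) W₀) (φ ρ)
    hW' i
  apply hφinj
  have hamap : amap φ (xs n) ((j : AdjoinRoot (pol (xs n))) * W₀ *
      AdjoinRoot.root (pol (xs n)) ^ ((j - 1) * n + i * j)) =
      (j : AdjoinRoot (pol (φ ∘ xs n))) * amap φ (xs n) W₀ *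
        AdjoinRoot.root (pol (φ ∘ xs n)) ^ ((j - 1) * n + i * j) := by
    rw [map_mul, map_mul, map_natCast, map_pow, amap_root]
  rw [← hnat, hamap, hmain, map_mul φ, hs_map]
  congr 2
  funext k
  simp only [Function.comp_apply, map_pow]

end Generic

section Core

variable {B : Type*} [CommRing B] {n : ℕ}

theorem core_of_hom (hn : 1 ≤ n) (φ : MvPolynomial (Fin n) ℤ →+* B) (j : ℕ) (hj : 1 ≤ j)
    (fn : AdjoinRoot (pol (φ ∘ xs n)) →ₗ[B] B)
    (hfn : ∀ m, m < n → fn (AdjoinRoot.root (pol (φ ∘ xs n)) ^ m) = hs (φ ∘ xs n) m)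
    (W : AdjoinRoot (pol (φ ∘ xs n)))
    (hW : W * AdjoinRoot.mk (pol (φ ∘ xs n)) (theta (φ ∘ xs n) j) = 1) (i : ℕ) :
    fn ((j : AdjoinRoot (pol (φ ∘ xs n))) * W *
      AdjoinRoot.root (pol (φ ∘ xs n)) ^ ((j - 1) * n + i * j)) =
      hs (fun k => (φ ∘ xs n) k ^ j) i := by
  obtain ⟨W₀, hW₀⟩ := exists_W0 (xs n) (theta (xs n) j)
  set ρ : MvPolynomial (Fin n) ℤ := ∏ k, (theta (xs n) j).eval (xs n k) with hρ
  obtain ⟨fnZ, hfnZ⟩ := exists_fn (xs n) (hs (xs n))
  have hgen := generic_main n hn j hj fnZ hfnZ W₀ ρ hW₀ i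
  have hnat := fn_map φ (xs n) fnZ fn (hs (xs n)) hfnZ
    (fun m hm => by rw [hfn m hm, hs_map])
  have hW' : amap φ (xs n) W₀ * AdjoinRoot.mk (pol (φ ∘ xs n)) (theta (φ ∘ xs n) j) =
      AdjoinRoot.of (pol (φ ∘ xs n)) (φ ρ) := by
    have := congrArg (amap φ (xs n)) hW₀
    rwa [map_mul, amap_mk, amap_of, theta_map] at this
  have hW₀' : amap φ (xs n) W₀ = AdjoinRoot.of (pol (φ ∘ xs n)) (φ ρ) * W := by
    calc amap φ (xs n) W₀
        = amap φ (xs n) W₀ * (W * AdjoinRoot.mk (pol (φ ∘ xs n)) (theta (φ ∘ xs n) j)) := by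
          rw [hW, mul_one]
      _ = amap φ (xs n) W₀ * AdjoinRoot.mk (pol (φ ∘ xs n)) (theta (φ ∘ xs n) j) * W := by ring
      _ = _ := by rw [hW']
  -- `φ ρ` is a unit
  have hunit : IsUnit (φ ρ) := by
    rw [hρ, map_prod]
    refine IsUnit.prod_univ_iff.mpr ?_
    intro k
    have h1 := congrArg (evB (φ ∘ xs n) k) hW
    rw [map_mul, evB_mk, map_one] at h1
    have h2 : φ ((theta (xs n) j).eval (xs n k)) =
        (theta (φ ∘ xs n) j).eval ((φ ∘ xs n) k) := by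
      rw [← theta_map, Polynomial.eval_map]
      exact (Polynomial.eval₂_hom φ (xs n k)).symm
    rw [h2]
    exact IsUnit.of_mul_eq_one _ (by rw [mul_comm]; exact h1)
  have hamap : amap φ (xs n) ((j : AdjoinRoot (pol (xs n))) * W₀ *
      AdjoinRoot.root (pol (xs n)) ^ ((j - 1) * n + i * j)) =
      (j : AdjoinRoot (pol (φ ∘ xs n))) * amap φ (xs n) W₀ *
        AdjoinRoot.root (pol (φ ∘ xs n)) ^ ((j - 1) * n + i * j) := by
    rw [map_mul, map_mul, map_natCast, map_pow, amap_root]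
  have h3 := congrArg φ hgen
  rw [← hnat, hamap, hW₀', map_mul φ, hs_map] at h3
  have h4 : (j : AdjoinRoot (pol (φ ∘ xs n))) * (AdjoinRoot.of (pol (φ ∘ xs n)) (φ ρ) * W) *
      AdjoinRoot.root (pol (φ ∘ xs n)) ^ ((j - 1) * n + i * j) =
      φ ρ • ((j : AdjoinRoot (pol (φ ∘ xs n))) * W *
        AdjoinRoot.root (pol (φ ∘ xs n)) ^ ((j - 1) * n + i * j)) := by
    rw [Algebra.smul_def, AdjoinRoot.algebraMap_eq]; ring
  rw [h4, map_smul, smul_eq_mul] at h3
  have h5 := hunit.mul_left_cancel h3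
  rw [h5]
  congr 1
  funext k
  simp only [Function.comp_apply, map_pow]

theorem core (hn : 1 ≤ n) (u : Fin n → B) (j : ℕ) (hj : 1 ≤ j)
    (fn : AdjoinRoot (pol u) →ₗ[B] B)
    (hfn : ∀ m, m < n → fn (AdjoinRoot.root (pol u) ^ m) = hs u m)
    (W : AdjoinRoot (pol u))
    (hW : W * AdjoinRoot.mk (pol u) (theta u j) = 1) (i : ℕ) :
    fn ((j : AdjoinRoot (pol u)) * W * AdjoinRoot.root (pol u) ^ ((j - 1) * n + i * j)) =
      hs (fun k => u k ^ j) i := by
  obtain ⟨φ, hφ⟩ : ∃ φ : MvPolynomial (Fin n) ℤ →+* B, φ ∘ xs n = u :=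
    ⟨(MvPolynomial.aeval u : MvPolynomial (Fin n) ℤ →ₐ[ℤ] B).toRingHom, by
      funext k
      simp [xs]⟩
  subst hφ
  exact core_of_hom hn φ j hj fn hfn W hW i

end Core

end Groth.Agent.H2.ARR
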