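import Groth.Agent.Lib.Helper2.LamPush
import Groth.Prelude.Def_W4bkmilneecrracsp2Inv

set_option autoImplicit false

namespace Groth.Agent.H2.Lam

open PowerSeries Finset LambdaRing

universe u

section Poly

variable {L : Type u} [CommRing L]

/-- `Π (1 + u X)` as a polynomial. -/
noncomputable def linPoly (s : Multiset L) : Polynomial L :=
  (s.map fun u => (1 + Polynomial.C u * Polynomial.X : Polynomial L)).prod

theorem linPoly_zero : linPoly (0 : Multiset L) = 1 := by simp [linPoly]

theorem linPoly_cons (a : L) (s : Multiset L) :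
    linPoly (a ::ₘ s) = (1 + Polynomial.C a * Polynomial.X) * linPoly s := by
  simp [linPoly]

theorem natDegree_lin_le (a : L) :
    (1 + Polynomial.C a * Polynomial.X : Polynomial L).natDegree ≤ 1 := by
  refine (Polynomial.natDegree_add_le _ _).trans (max_le (by simp) ?_)
  exact (Polynomial.natDegree_C_mul_le _ _).trans Polynomial.natDegree_X_le

theorem natDegree_linPoly_le (s : Multiset L) : (linPoly s).natDegree ≤ Multiset.card s := by
  induction s using Multiset.induction_on with
  | empty => simp [linPoly_zero]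
  | cons a s ih =>
    rw [linPoly_cons, Multiset.card_cons]
    refine (Polynomial.natDegree_mul_le).trans ?_
    have := natDegree_lin_le a
    omega

theorem linPoly_coe (s : Multiset L) :
    ((linPoly s : Polynomial L) : L⟦X⟧) = (s.map fun u => (1 + C u * X : L⟦X⟧)).prod := by
  induction s using Multiset.induction_on with
  | empty => simp [linPoly_zero]
  | cons a s ih =>
    rw [linPoly_cons, Polynomial.coe_mul, ih, Multiset.map_cons, Multiset.prod_cons]
    simp

theorem reflect_linPoly (s : Multiset L) (ι : L → L) (h : ∀ u ∈ s, ι u * u = 1) :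
    Polynomial.reflect (Multiset.card s) (linPoly s) =
      Polynomial.C s.prod * linPoly (s.map ι) := by
  induction s using Multiset.induction_on with
  | empty => simp [linPoly_zero]
  | cons a s ih =>
    have ha : ι a * a = 1 := h a (Multiset.mem_cons_self a s)
    have hs : ∀ u ∈ s, ι u * u = 1 := fun u hu => h u (Multiset.mem_cons_of_mem hu)
    have h1 : Polynomial.reflect 1 (1 + Polynomial.C a * Polynomial.X : Polynomial L) =
        Polynomial.X + Polynomial.C a := by
      rw [Polynomial.reflect_add, Polynomial.reflect_one, pow_one, Polynomial.reflect_C_mul]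
      have := Polynomial.reflect_monomial (R := L) 1 1
      rw [pow_one] at this
      rw [this]
      simp
    rw [linPoly_cons, Multiset.card_cons, add_comm (Multiset.card s) 1,
      Polynomial.reflect_mul _ _ (natDegree_lin_le a) (natDegree_linPoly_le s), h1, ih hs,
      Multiset.map_cons, linPoly_cons, Multiset.prod_cons, Polynomial.C_mul]
    have : (Polynomial.X + Polynomial.C a : Polynomial L) =
        Polynomial.C a * (1 + Polynomial.C (ι a) * Polynomial.X) := by
      rw [mul_add, mul_one, ← mul_assoc, ← Polynomial.C_mul, mul_comm a, ha]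
      simp [add_comm]
    rw [this]
    ring

theorem coeff_linPoly_top (s : Multiset L) : (linPoly s).coeff (Multiset.card s) = s.prod := by
  induction s using Multiset.induction_on with
  | empty => simp [linPoly_zero]
  | cons a s ih =>
    rw [linPoly_cons, Multiset.card_cons, add_mul, one_mul, Polynomial.coeff_add, mul_assoc,
      Polynomial.coeff_C_mul, Polynomial.coeff_X_mul, ih,
      Polynomial.coeff_eq_zero_of_natDegree_lt (by
        have := natDegree_linPoly_le s
        omega), zero_add, Multiset.prod_cons]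

end Poly

section Lines

variable {L : Type u} [CommRing L] [LambdaOps L] (P : PosStructure L)

theorem lam_sum_lines {s : Multiset L} (hs : ∀ u ∈ s, P.IsLine u) (i : ℕ) :
    LambdaOps.lam i s.sum = (linPoly s).coeff i := by
  rw [← coeff_lamSeries, lamSeries_sum_lines P hs, ← linPoly_coe, Polynomial.coeff_coe]

theorem lam_sum_lines_of_lt {s : Multiset L} (hs : ∀ u ∈ s, P.IsLine u) {i : ℕ}
    (hi : Multiset.card s < i) : LambdaOps.lam i s.sum = 0 := by
  rw [lam_sum_lines P hs]
  exact Polynomial.coeff_eq_zero_of_natDegree_lt ((natDegree_linPoly_le s).trans_lt hi)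

theorem lam_top_sum_lines {s : Multiset L} (hs : ∀ u ∈ s, P.IsLine u) :
    LambdaOps.lam (Multiset.card s) s.sum = s.prod := by
  rw [lam_sum_lines P hs, coeff_linPoly_top]

/-- duality for sums of invertible line elements -/
theorem lam_sum_lines_dual {s : Multiset L} (hs : ∀ u ∈ s, P.IsLine u) (ι : L → L)
    (hι : ∀ u ∈ s, ι u * u = 1) (hι' : ∀ u ∈ s, P.IsLine (ι u)) {i : ℕ}
    (hi : i ≤ Multiset.card s) :
    LambdaOps.lam i s.sum =
      LambdaOps.lam (Multiset.card s - i) (s.map ι).sum * LambdaOps.lam (Multiset.card s) s.sum := by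
  have hs' : ∀ v ∈ s.map ι, P.IsLine v := by
    intro v hv
    obtain ⟨u, hu, rfl⟩ := Multiset.mem_map.mp hv
    exact hι' u hu
  rw [lam_top_sum_lines P hs, lam_sum_lines P hs, lam_sum_lines P hs']
  have h := congrArg (fun p => Polynomial.coeff p (Multiset.card s - i)) (reflect_linPoly s ι hι)
  simp only [Polynomial.coeff_reflect, Polynomial.coeff_C_mul] at h
  rw [Polynomial.revAt_le (Nat.sub_le _ _), Nat.sub_sub_self hi] at h
  rw [h, mul_comm]

end Lines

section Inv

variable {K : Type u} [CommRing K] [LambdaOps K] {P : PosStructure K} {inv : K → K}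

theorem inv_zero (hV : IsInvolution P inv) : inv 0 = 0 := by
  have := hV.map_add 0 0
  rw [add_zero] at this
  exact left_eq_add.mp this

theorem inv_multiset_sum (hV : IsInvolution P inv) (s : Multiset K) :
    inv s.sum = (s.map inv).sum := by
  induction s using Multiset.induction_on with
  | empty => simp [inv_zero hV]
  | cons a s ih => simp [hV.map_add, ih]

/-- The basic facts for the dual of a positive element. -/
theorem inv_pos_facts (hS : HasInvSplitting P inv) {e : K}
    (he : e ∈ P.pos) :
    (∀ i, (P.aug e).toNat < i → LambdaOps.lam i (inv e) = 0) ∧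
    (∀ i, i ≤ (P.aug e).toNat → LambdaOps.lam i e =
      LambdaOps.lam ((P.aug e).toNat - i) (inv e) * LambdaOps.lam (P.aug e).toNat e) ∧
    (∀ i, i ≤ (P.aug e).toNat → LambdaOps.lam i (inv e) =
      LambdaOps.lam ((P.aug e).toNat - i) e * LambdaOps.lam (P.aug e).toNat (inv e)) ∧
    P.aug (LambdaOps.lam (P.aug e).toNat (inv e)) = 1 := by
  obtain ⟨L, inv', f, hf, hV', hcompat, s, hs, hsum⟩ := hS e he
  have hcard : (P.aug e).toNat = Multiset.card s := by
    have := aug_sum_lines L.posStr hs
    rw [hsum, hf.aug_comp] at this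
    rw [this]; simp
  have hs' : ∀ v ∈ s.map inv', L.posStr.IsLine v := by
    intro v hv
    obtain ⟨u, hu, rfl⟩ := Multiset.mem_map.mp hv
    exact hV'.inv_line u (hs u hu)
  have hsum' : (s.map inv').sum = f (inv e) := by
    rw [hcompat, ← hsum, inv_multiset_sum hV']
  have hcard' : Multiset.card (s.map inv') = Multiset.card s := Multiset.card_map _ _
  have hι : ∀ u ∈ s, inv' u * u = 1 := fun u hu => hV'.inv_mul_self u (hs u hu)
  have hι2 : ∀ v ∈ s.map inv', inv' v * v = 1 := by
    intro v hv
    obtain ⟨u, hu, rfl⟩ := Multiset.mem_map.mp hv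
    rw [hV'.inv_inv, mul_comm]
    exact hι u hu
  have hι2' : ∀ v ∈ s.map inv', L.posStr.IsLine (inv' v) := by
    intro v hv
    obtain ⟨u, hu, rfl⟩ := Multiset.mem_map.mp hv
    rw [hV'.inv_inv]
    exact hs u hu
  have hback : (s.map inv').map inv' = s := by
    rw [Multiset.map_map]
    conv_rhs => rw [← Multiset.map_id s]
    exact Multiset.map_congr rfl (fun u _ => hV'.inv_inv u)
  refine ⟨?_, ?_, ?_, ?_⟩
  · intro i hi
    apply hf.injective
    rw [hf.isLambdaHom, ← hsum', map_zero]
    exact lam_sum_lines_of_lt L.posStr hs' (by rw [hcard']; omega)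
  · intro i hi
    apply hf.injective
    rw [map_mul, hf.isLambdaHom, hf.isLambdaHom, hf.isLambdaHom, ← hsum', ← hsum, hcard]
    exact lam_sum_lines_dual L.posStr hs inv' hι (fun u hu => hV'.inv_line u (hs u hu))
      (by omega)
  · intro i hi
    apply hf.injective
    rw [map_mul, hf.isLambdaHom, hf.isLambdaHom, hf.isLambdaHom, ← hsum', ← hsum, hcard]
    have := lam_sum_lines_dual L.posStr hs' inv' hι2 hι2' (i := i) (by rw [hcard']; omega)
    rw [hback, hcard'] at this
    exact this
  · rw [← hf.aug_comp, hf.isLambdaHom, ← hsum', hcard, ← hcard', lam_top_sum_lines L.posStr hs',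
      map_multiset_prod, Multiset.map_map]
    have : ∀ u ∈ s, (L.posStr.aug ∘ inv') u = 1 := fun u hu => (hV'.inv_line u (hs u hu)).2
    rw [Multiset.map_congr rfl this, Multiset.map_const', Multiset.prod_replicate, one_pow]

omit [LambdaOps K] in
theorem alt_reflect (m : ℕ) (a : ℕ → K) :
    (-1 : K) ^ m * ∑ i ∈ range (m + 1), (-1 : K) ^ i * a (m - i) =
      ∑ j ∈ range (m + 1), (-1 : K) ^ j * a j := by
  rw [← Finset.sum_range_reflect (fun j => (-1 : K) ^ j * a j) (m + 1), Finset.mul_sum]
  apply Finset.sum_congr rfl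
  intro i hi
  rw [mem_range] at hi
  have e1 : m + 1 - 1 - i = m - i := by omega
  have : (-1 : K) ^ (m - i) = (-1) ^ m * (-1) ^ i := by
    have hn : m = (m - i) + i := by omega
    conv_rhs => rw [hn, pow_add, mul_assoc, ← pow_add, ← two_mul, pow_mul]
    simp
  rw [e1, this]; ring

theorem gamma_top_inv (hS : HasInvSplitting P inv) {e : K} (he : e ∈ P.pos) :
    gamma (P.aug e).toNat (e - ((P.aug e).toNat : K)) =
      (∑ i ∈ range ((P.aug e).toNat + 1), (-1 : K) ^ i * LambdaOps.lam i (inv e)) *
        LambdaOps.lam (P.aug e).toNat e := by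
  obtain ⟨-, hb, -, -⟩ := inv_pos_facts hS he
  have hpos := P.aug_pos e he
  have hx : ∀ i, (P.aug e).toNat < i → LambdaOps.lam i e = 0 :=
    fun i hi => P.lam_eq_zero e he i (by omega)
  rw [gamma_top_eq (lamSeries_one P) hx, ← alt_reflect, Finset.sum_mul, ← mul_assoc, ← pow_add,
    ← two_mul, pow_mul, neg_one_sq, one_pow, one_mul]
  apply Finset.sum_congr rfl
  intro i hi
  rw [mem_range] at hi
  rw [hb ((P.aug e).toNat - i) (Nat.sub_le _ _), Nat.sub_sub_self (by omega)]
  ring

theorem gamma_top_inv' (hS : HasInvSplitting P inv) {q : K} (hq : q ∈ P.pos) :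
    gamma (P.aug q).toNat (inv q - ((P.aug q).toNat : K)) =
      LambdaOps.lam (P.aug q).toNat (inv q) *
        ∑ i ∈ range ((P.aug q).toNat + 1), (-1 : K) ^ i * LambdaOps.lam i q := by
  obtain ⟨ha, -, hc, -⟩ := inv_pos_facts hS hq
  rw [gamma_top_eq (lamSeries_one P) ha, ← alt_reflect (a := fun i => LambdaOps.lam i q),
    Finset.mul_sum, Finset.mul_sum, Finset.mul_sum]
  apply Finset.sum_congr rfl
  intro i hi
  rw [mem_range] at hi
  rw [hc i (by omega)]
  ring

theorem gamma_top_inv_sub_mem (hS : HasInvSplitting P inv) {q : K}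
    (hq : q ∈ P.pos) :
    gamma (P.aug q).toNat (inv q - ((P.aug q).toNat : K)) -
        (∑ i ∈ range ((P.aug q).toNat + 1), (-1 : K) ^ i * LambdaOps.lam i q) ∈
      gammaFiltration P ((P.aug q).toNat + 1) := by
  obtain ⟨-, -, -, hd⟩ := inv_pos_facts hS hq
  rw [gamma_top_inv' hS hq]
  have e : LambdaOps.lam (P.aug q).toNat (inv q) *
      (∑ i ∈ range ((P.aug q).toNat + 1), (-1 : K) ^ i * LambdaOps.lam i q) -
      (∑ i ∈ range ((P.aug q).toNat + 1), (-1 : K) ^ i * LambdaOps.lam i q) =
      (LambdaOps.lam (P.aug q).toNat (inv q) - 1) *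
      (∑ i ∈ range ((P.aug q).toNat + 1), (-1 : K) ^ i * LambdaOps.lam i q) := by ring
  rw [e]
  have h1 : P.aug (LambdaOps.lam (P.aug q).toNat (inv q) - 1) = 0 := by
    rw [map_sub, hd, map_one, sub_self]
  have h := mul_mem_filt P (mem_one_of_aug_eq_zero P h1) (lamAlt_mem P hq)
  rw [Nat.add_comm 1] at h
  exact h

end Inv

end Groth.Agent.H2.Lam
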