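import Groth.Agent.Lib.Helper2.LamSymK
import Groth.Agent.Lib.Helper2.LamInv
import Groth.Prelude.Def_KRR

set_option autoImplicit false

namespace Groth.Agent.H2.Lam

open Finset LambdaRing MvPolynomial

universe v

theorem E_bottPoly (j m : ℕ) : E m (KRR.bottPoly j m) = KRR.bottSym j m := by
  have h : (esymmAlgEquiv (Fin m) ℤ (Fintype.card_fin m)) (KRR.bottPoly j m) =
      ⟨KRR.bottSym j m, KRR.bottSym_isSymmetric j m⟩ := by
    rw [KRR.bottPoly, AlgEquiv.apply_symm_apply]
  have h2 := congrArg Subtype.val h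
  rw [esymmAlgEquiv_apply, esymmAlgHom_apply] at h2
  exact h2

section
variable {L : Type v} [CommRing L] [LambdaOps L] (P : PosStructure L)

theorem lam_fin_lines {m : ℕ} (v : Fin m → L) (hv : ∀ k, P.IsLine (v k)) (i : ℕ) :
    LambdaOps.lam i (∑ k, v k) = aeval v (esymm (Fin m) ℤ i) := by
  rw [aeval_esymm_eq, ← coeff_lamSeries, lamSeries_finset_sum,
    Finset.prod_congr rfl (fun k _ => lamSeries_of_line P (hv k)), coeff_prod_one_add_C_mul_X]

theorem lamAlt_fin_lines {m : ℕ} (v : Fin m → L) (hv : ∀ k, P.IsLine (v k)) :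
    KRR.lamAlt P (∑ k, v k) = ∏ k, (1 - v k) := by
  have haug : (P.aug (∑ k, v k)).toNat = m := by
    rw [map_sum, Finset.sum_congr rfl (fun k _ => (hv k).2)]; simp
  rw [KRR.lamAlt, haug]
  have h1 : ∏ k, (1 - v k) = ∏ k, (1 + (-v k)) := by
    apply Finset.prod_congr rfl; intro k _; ring
  rw [h1, Finset.prod_one_add, Finset.sum_powerset, Finset.card_univ, Fintype.card_fin]
  apply Finset.sum_congr rfl
  intro i _
  rw [lam_fin_lines P v hv, aeval_esymm_eq, Finset.mul_sum]
  apply Finset.sum_congr rfl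
  intro t ht
  rw [Finset.prod_neg, (Finset.mem_powersetCard.1 ht).2]

end


section
variable {K : Type v} [CommRing K] [LambdaOps K] {P : PosStructure K}
variable {K' : Type v} [CommRing K'] [LambdaOps K'] {P' : PosStructure K'}

theorem map_lamAlt {f : K →+* K'} (hf : IsExtension P P' f) (x : K) :
    f (KRR.lamAlt P x) = KRR.lamAlt P' (f x) := by
  rw [KRR.lamAlt, KRR.lamAlt, map_sum, hf.aug_comp]
  apply Finset.sum_congr rfl
  intro i _
  rw [map_mul, map_pow, map_neg, map_one, hf.isLambdaHom]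

theorem adams_lamAlt (hK : HasSplitting K P) {e : K} (he : e ∈ P.pos) (j : ℕ) :
    adams P j (KRR.lamAlt P e) = KRR.lamAlt P e * KRR.bott P j e := by
  obtain ⟨L, f, hf, hL, s, hs, hsum⟩ := exists_split hK he
  obtain ⟨n, v, rfl⟩ := exists_fin_fun s
  have hv : ∀ k, L.posStr.IsLine (v k) := fun k =>
    hs (v k) (Multiset.mem_map.mpr ⟨k, Finset.mem_univ_val k, rfl⟩)
  have hm : (P.aug e).toNat = n := by
    have := aug_sum_lines L.posStr hs
    rw [hsum, hf.aug_comp, Multiset.card_map] at this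
    rw [this]; simp
  have hsum' : ∑ k, v k = f e := hsum
  apply hf.injective
  rw [map_mul, isExtension_map_adams hf, map_lamAlt hf, ← hsum', lamAlt_fin_lines L.posStr v hv,
    ← adamsRingHom_apply hL, map_prod]
  have hb : f (KRR.bott P j e) = ∏ k, ∑ a ∈ Finset.range j, v k ^ a := by
    rw [KRR.bott]
    subst hm
    have h1 : f (aeval (fun i : Fin (P.aug e).toNat => LambdaOps.lam ((i : ℕ) + 1) e)
        (KRR.bottPoly j (P.aug e).toNat)) =
        aeval (fun i : Fin (P.aug e).toNat => f (LambdaOps.lam ((i : ℕ) + 1) e))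
          (KRR.bottPoly j (P.aug e).toNat) := by
      have := comp_aeval (R := ℤ)
        (f := fun i : Fin (P.aug e).toNat => LambdaOps.lam ((i : ℕ) + 1) e) (f.toIntAlgHom)
      exact DFunLike.congr_fun this _
    have h2 : (fun i : Fin (P.aug e).toNat => f (LambdaOps.lam ((i : ℕ) + 1) e)) =
        fun i : Fin (P.aug e).toNat => aeval v (esymm (Fin (P.aug e).toNat) ℤ ((i : ℕ) + 1)) := by
      funext i
      rw [hf.isLambdaHom, ← hsum', lam_fin_lines L.posStr v hv]
    have h3 : aeval (fun i : Fin (P.aug e).toNat =>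
        aeval v (esymm (Fin (P.aug e).toNat) ℤ ((i : ℕ) + 1))) (KRR.bottPoly j (P.aug e).toNat) =
        aeval v (E (P.aug e).toNat (KRR.bottPoly j (P.aug e).toNat)) := by
      have := comp_aeval (R := ℤ)
        (f := fun i : Fin (P.aug e).toNat => esymm (Fin (P.aug e).toNat) ℤ ((i : ℕ) + 1))
        (aeval (R := ℤ) v)
      exact (DFunLike.congr_fun this _).symm
    rw [h1, h2, h3, E_bottPoly, KRR.bottSym, map_prod]
    apply Finset.prod_congr rfl
    intro k _
    rw [map_sum]
    apply Finset.sum_congr rfl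
    intro a _
    rw [map_pow, aeval_X]
  rw [hb, ← Finset.prod_mul_distrib]
  apply Finset.prod_congr rfl
  intro k _
  rw [map_sub, map_one, adamsRingHom_apply, adams_of_line L.posStr (hv k), mul_neg_geom_sum]

end

end Groth.Agent.H2.Lam
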