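import Groth.Agent.Lib.Helper2.LamSplit2

set_option autoImplicit false

namespace Groth.Agent.H2.Lam

open PowerSeries Finset LambdaRing

universe u

variable {K : Type u} [CommRing K] [LambdaOps K] {P : PosStructure K}

theorem map_aug_lamSeries_of_pos (hK : HasSplitting K P) {e : K} (he : e ∈ P.pos) :
    PowerSeries.map P.aug (lamSeries e) = (1 + X) ^ (P.aug e).toNat := by
  ext i
  rw [coeff_map, coeff_lamSeries, aug_lam_of_pos hK he, coeff_one_add_X_pow]

theorem map_aug_lamNeg_of_pos (hK : HasSplitting K P) {e : K} (he : e ∈ P.pos) :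
    PowerSeries.map P.aug (lamNeg e) = (1 - X) ^ (P.aug e).toNat := by
  have h : rescale (P.aug (-1 : K)) (PowerSeries.map P.aug (lamSeries e)) =
      PowerSeries.map P.aug (lamNeg e) := rescale_map P.aug (-1) (lamSeries e)
  rw [← h, map_aug_lamSeries_of_pos hK he, map_pow, map_add, map_one, rescale_X, map_neg, map_one,
    map_neg, map_one]
  ring

theorem map_aug_sigmaS_of_pos (hK : HasSplitting K P) {e : K} (he : e ∈ P.pos) :
    PowerSeries.map P.aug (sigmaS e) = (invOneSubPow ℤ (P.aug e).toNat).val := by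
  have h1 : PowerSeries.map P.aug (sigmaS e) * (1 - X) ^ (P.aug e).toNat = 1 := by
    rw [← map_aug_lamNeg_of_pos hK he, ← map_mul, sigmaS_mul_lamNeg, map_one]
  have h2 : (1 - X : ℤ⟦X⟧) ^ (P.aug e).toNat * (invOneSubPow ℤ (P.aug e).toNat).val = 1 := by
    have := (invOneSubPow ℤ (P.aug e).toNat).inv_val
    rwa [invOneSubPow_inv_eq_one_sub_pow] at this
  calc PowerSeries.map P.aug (sigmaS e)
      = PowerSeries.map P.aug (sigmaS e) *
          ((1 - X : ℤ⟦X⟧) ^ (P.aug e).toNat * (invOneSubPow ℤ (P.aug e).toNat).val) := by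
        rw [h2, mul_one]
    _ = _ := by rw [← mul_assoc, h1, one_mul]

theorem aug_sigma_of_pos (hK : HasSplitting K P) {e : K} (he : e ∈ P.pos) (r : ℕ)
    (hr : P.aug e = r + 1) (j : ℕ) :
    P.aug (coeff j (sigmaS e)) = ((r + j).choose j : ℤ) := by
  have h : (P.aug e).toNat = r + 1 := by rw [hr]; simp
  rw [← coeff_map, map_aug_sigmaS_of_pos hK he, h, invOneSubPow_val_succ_eq_mk_add_choose, coeff_mk,
    Nat.choose_symm_add]

end Groth.Agent.H2.Lam
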