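import Groth.Agent.Lib.Helper2.LamRec
import Groth.Agent.Lib.Helper2.LamSigma
import Groth.Prelude.Def_KRR

set_option autoImplicit false

namespace Groth.Agent.H2.Lam

open Finset LambdaRing PowerSeries

universe v

variable {K : Type v} [CommRing K] [LambdaOps K] (P : PosStructure K)

theorem sigma_eq (i : ℕ) (x : K) : KRR.sigma i x = coeff i (sigmaS x) := rfl

/-- the coefficients `a_i = (-1)^i λ^i(e)` -/
def aCoef (e : K) (i : ℕ) : K := (-1 : K) ^ i * LambdaOps.lam i e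

theorem aCoef_zero (e : K) : aCoef e 0 = 1 := by simp [aCoef, LambdaOps.lam_zero]

theorem aCoef_eq_coeff (e : K) (i : ℕ) : aCoef e i = coeff i (lamNeg e) := by
  rw [coeff_lamNeg, aCoef]

theorem aCoef_conv (e : K) (k : ℕ) :
    ∑ i ∈ range (k + 1), aCoef e i * KRR.sigma (k - i) e = if k = 0 then 1 else 0 := by
  have h := congrArg (coeff k) (lamNeg_mul_sigmaS e)
  rw [coeff_mul, coeff_one,
    Finset.Nat.sum_antidiagonal_eq_sum_range_succ (fun i j => coeff i (lamNeg e) * coeff j (sigmaS e))]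
    at h
  rw [← h]
  apply Finset.sum_congr rfl
  intro i _
  rw [aCoef_eq_coeff, sigma_eq]

variable {P}

theorem aCoef_vanish {e : K} (he : e ∈ P.pos) (i : ℕ) (hi : (P.aug e).toNat < i) : aCoef e i = 0 := by
  have hpos := P.aug_pos e he
  rw [aCoef, P.lam_eq_zero e he i (by omega), mul_zero]

theorem aCoef_isUnit {e : K} (he : e ∈ P.pos) : IsUnit (aCoef e (P.aug e).toNat) := by
  rw [aCoef]
  exact (IsUnit.pow _ (isUnit_one.neg)).mul (P.isUnit_lam e he)

theorem extPoly_eq (e : K) :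
    KRR.extPoly P e = ∑ i ∈ range ((P.aug e).toNat + 1),
      Polynomial.C (aCoef e i) * Polynomial.X ^ ((P.aug e).toNat - i) := rfl

theorem root_rel (e : K) :
    ∑ i ∈ range ((P.aug e).toNat + 1),
      aCoef e i • (AdjoinRoot.root (KRR.extPoly P e)) ^ ((P.aug e).toNat - i) = 0 := by
  have h : Polynomial.eval₂ (AdjoinRoot.of (KRR.extPoly P e)) (AdjoinRoot.root (KRR.extPoly P e))
      (∑ i ∈ range ((P.aug e).toNat + 1),
        Polynomial.C (aCoef e i) * Polynomial.X ^ ((P.aug e).toNat - i)) = 0 :=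
    AdjoinRoot.eval₂_root (KRR.extPoly P e)
  rw [Polynomial.eval₂_finsetSum] at h
  rw [← h]
  apply Finset.sum_congr rfl
  intro i _
  rw [Polynomial.eval₂_mul, Polynomial.eval₂_C, Polynomial.eval₂_pow, Polynomial.eval₂_X,
    Algebra.smul_def, AdjoinRoot.algebraMap_eq]

/-- S3779 -/
theorem ext_functional (e : K) (he : e ∈ P.pos) (r : ℕ) (hr : P.aug e = r + 1)
    (f : AdjoinRoot (KRR.extPoly P e) →ₗ[K] K)
    (hf : ∀ i : ℕ, i ≤ r → f (AdjoinRoot.root (KRR.extPoly P e) ^ i) = KRR.sigma i e) :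
    (∀ i : ℕ, f (AdjoinRoot.root (KRR.extPoly P e) ^ i) = KRR.sigma i e) ∧
    ∀ (linv : AdjoinRoot (KRR.extPoly P e)), linv * AdjoinRoot.root (KRR.extPoly P e) = 1 →
      ∀ n : ℕ, 1 ≤ n → n ≤ r → f (linv ^ n) = 0 := by
  have hm : (P.aug e).toNat = r + 1 := by rw [hr]; simp
  have hf' : ∀ i, i < (P.aug e).toNat →
      f (AdjoinRoot.root (KRR.extPoly P e) ^ i) = KRR.sigma i e := fun i hi => hf i (by omega)
  refine ⟨?_, ?_⟩
  · exact f_pow_eq (AdjoinRoot.root (KRR.extPoly P e)) (P.aug e).toNat (by omega) (aCoef e)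
      (fun k => KRR.sigma k e) (aCoef_zero e) (aCoef_vanish he) (root_rel e) (aCoef_conv e) f hf'
  · intro linv hlinv n hn1 hnr
    exact f_inv_pow_eq_zero (AdjoinRoot.root (KRR.extPoly P e)) (P.aug e).toNat (by omega) (aCoef e)
      (fun k => KRR.sigma k e) (aCoef_zero e) (aCoef_vanish he) (root_rel e) (aCoef_conv e) f hf'
      linv hlinv (aCoef_isUnit he) n hn1 (by omega)

end Groth.Agent.H2.Lam
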