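import Groth.Agent.Lib.Helper2.ARR3
import Groth.Agent.Lib.Helper2.LamBott
import Groth.Agent.Lib.Helper2.LamKe

/-!
ARR, part 4: λ-ring facts (scaling by a line element, the Bott class under ring maps,
invertibility of the Bott class after inverting `j`).
-/

set_option autoImplicit false

namespace Groth.Agent.H2.ARR

open LambdaRing Groth.Agent.H2.Lam Finset

universe v

section Scale

variable {L : Type v} [CommRing L] [LambdaOps L] {PL : PosStructure L}

theorem es_mul_right {A : Type*} [CommRing A] {n : ℕ} (t : Fin n → A) (c : A) (i : ℕ) :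
    es (fun k => t k * c) i = es t i * c ^ i := by
  rw [es, es, Finset.sum_mul]
  apply Finset.sum_congr rfl
  intro S hS
  rw [Finset.prod_mul_distrib, Finset.prod_const, (Finset.mem_powersetCard.mp hS).2]

theorem lam_fin_lines' {n : ℕ} (v : Fin n → L) (hv : ∀ k, PL.IsLine (v k)) (i : ℕ) :
    LambdaOps.lam i (∑ k, v k) = es v i := by
  rw [lam_fin_lines PL v hv, aeval_esymm_eq]; rfl

theorem lam_line_mul_pos (hL : HasSplitting L PL) {ℓ : L} (hℓ : PL.IsLine ℓ) {a : L}
    (ha : a ∈ PL.pos) (i : ℕ) : LambdaOps.lam i (ℓ * a) = ℓ ^ i * LambdaOps.lam i a := by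
  obtain ⟨L', g, hg, -, s, hs, hsum⟩ := exists_split hL ha
  obtain ⟨n, v, rfl⟩ := exists_fin_fun s
  have hv : ∀ k, L'.posStr.IsLine (v k) := fun k =>
    hs (v k) (Multiset.mem_map.mpr ⟨k, Finset.mem_univ_val k, rfl⟩)
  have hsum' : ∑ k, v k = g a := hsum
  apply hg.injective
  have hgl := isExtension_isLine hg hℓ
  rw [hg.isLambdaHom, map_mul, map_mul, map_pow, hg.isLambdaHom, ← hsum', Finset.mul_sum,
    lam_fin_lines' (PL := L'.posStr) v hv,
    lam_fin_lines' (PL := L'.posStr) (fun k => g ℓ * v k)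
      (fun k => isLine_mul L'.posStr hgl (hv k))]
  have : (fun k => g ℓ * v k) = fun k => v k * g ℓ := by funext k; ring
  rw [this, es_mul_right, mul_comm]

theorem lamSeries_line_mul_pos (hL : HasSplitting L PL) {ℓ : L} (hℓ : PL.IsLine ℓ) {a : L}
    (ha : a ∈ PL.pos) : lamSeries (ℓ * a) = PowerSeries.rescale ℓ (lamSeries a) := by
  ext i
  rw [coeff_lamSeries, PowerSeries.coeff_rescale, coeff_lamSeries, lam_line_mul_pos hL hℓ ha]

theorem lamSeries_line_mul (hL : HasSplitting L PL) {ℓ : L} (hℓ : PL.IsLine ℓ) (y : L) :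
    lamSeries (ℓ * y) = PowerSeries.rescale ℓ (lamSeries y) := by
  obtain ⟨a, b, ha, hb, rfl⟩ := PL.exists_sub y
  have h1 : lamSeries (ℓ * (a - b)) * lamSeries (ℓ * b) = lamSeries (ℓ * a) := by
    rw [← lamSeries_add]; congr 1; ring
  have h2 : PowerSeries.rescale ℓ (lamSeries (a - b)) * lamSeries (ℓ * b) = lamSeries (ℓ * a) := by
    rw [lamSeries_line_mul_pos hL hℓ hb, lamSeries_line_mul_pos hL hℓ ha, ← map_mul,
      lamSeries_sub]
  exact (isUnit_lamSeries (ℓ * b)).mul_right_cancel (h1.trans h2.symm)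

theorem lam_line_mul (hL : HasSplitting L PL) {ℓ : L} (hℓ : PL.IsLine ℓ) (y : L) (i : ℕ) :
    LambdaOps.lam i (ℓ * y) = ℓ ^ i * LambdaOps.lam i y := by
  rw [← coeff_lamSeries, lamSeries_line_mul hL hℓ, PowerSeries.coeff_rescale, coeff_lamSeries]

variable {K : Type v} [CommRing K] [LambdaOps K]

theorem lam_mul_linv (hL : HasSplitting L PL) (f : K →+* L) (hf : IsLambdaHom f) {ℓ linv : L}
    (hℓ : PL.IsLine ℓ) (hlinv : linv * ℓ = 1) (e : K) (i : ℕ) :
    LambdaOps.lam i (f e * linv) = f (LambdaOps.lam i e) * linv ^ i := by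
  have h := lam_line_mul hL hℓ (f e * linv) i
  have h1 : ℓ * (f e * linv) = f e := by
    calc ℓ * (f e * linv) = f e * (linv * ℓ) := by ring
      _ = f e := by rw [hlinv, mul_one]
  rw [h1, ← hf] at h
  rw [h]
  calc LambdaOps.lam i (f e * linv)
      = (linv * ℓ) ^ i * LambdaOps.lam i (f e * linv) := by rw [hlinv, one_pow, one_mul]
    _ = ℓ ^ i * LambdaOps.lam i (f e * linv) * linv ^ i := by rw [mul_pow]; ring

end Scale

section Bott

variable {L : Type v} [CommRing L] [LambdaOps L] (PL : PosStructure L)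

theorem map_bott {A : Type*} [CommRing A] (Ψ : L →+* A) (j : ℕ) (x : L) (n : ℕ)
    (hn : (PL.aug x).toNat = n) (t : Fin n → A) (c : A)
    (h : ∀ i, Ψ (LambdaOps.lam i x) = es t i * c ^ i) :
    Ψ (KRR.bott PL j x) = ∏ k, ∑ a ∈ range j, (t k * c) ^ a := by
  subst hn
  rw [KRR.bott]
  have h1 : Ψ (MvPolynomial.aeval (fun i : Fin (PL.aug x).toNat => LambdaOps.lam ((i : ℕ) + 1) x)
      (KRR.bottPoly j (PL.aug x).toNat)) =
      MvPolynomial.aeval (fun i : Fin (PL.aug x).toNat => Ψ (LambdaOps.lam ((i : ℕ) + 1) x))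
        (KRR.bottPoly j (PL.aug x).toNat) := by
    have := MvPolynomial.comp_aeval (R := ℤ)
      (f := fun i : Fin (PL.aug x).toNat => LambdaOps.lam ((i : ℕ) + 1) x) (Ψ.toIntAlgHom)
    exact DFunLike.congr_fun this _
  have h2 : (fun i : Fin (PL.aug x).toNat => Ψ (LambdaOps.lam ((i : ℕ) + 1) x)) =
      fun i : Fin (PL.aug x).toNat => MvPolynomial.aeval (fun k => t k * c)
        (MvPolynomial.esymm (Fin (PL.aug x).toNat) ℤ ((i : ℕ) + 1)) := by
    funext i
    rw [h, aeval_esymm_eq, ← es_mul_right]; rfl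
  have h3 : MvPolynomial.aeval (fun i : Fin (PL.aug x).toNat =>
      MvPolynomial.aeval (fun k => t k * c)
        (MvPolynomial.esymm (Fin (PL.aug x).toNat) ℤ ((i : ℕ) + 1)))
        (KRR.bottPoly j (PL.aug x).toNat) =
      MvPolynomial.aeval (fun k => t k * c)
        (E (PL.aug x).toNat (KRR.bottPoly j (PL.aug x).toNat)) := by
    have := MvPolynomial.comp_aeval (R := ℤ)
      (f := fun i : Fin (PL.aug x).toNat =>
        MvPolynomial.esymm (Fin (PL.aug x).toNat) ℤ ((i : ℕ) + 1))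
      (MvPolynomial.aeval (R := ℤ) (fun k => t k * c))
    exact (DFunLike.congr_fun this _).symm
  rw [h1, h2, h3, E_bottPoly, KRR.bottSym, map_prod]
  apply Finset.prod_congr rfl
  intro k _
  rw [map_sum]
  apply Finset.sum_congr rfl
  intro a _
  rw [map_pow, MvPolynomial.aeval_X]

end Bott

end Groth.Agent.H2.ARR
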