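import Groth.Agent.Lib.Helper2.LamGamma

set_option autoImplicit false

namespace Groth.Agent.H2.Lam

open PowerSeries Finset LambdaRing

universe u
variable {K : Type u} [CommRing K] [LambdaOps K]

theorem gamma_zero (x : K) : gamma 0 x = 1 := by simp [gamma]

theorem gamma_one (x : K) : gamma 1 x = x := by
  simp [gamma, Finset.sum_range_succ, LambdaOps.lam_one]

variable (P : PosStructure K)

/-- The generators of the `n`-th step of the γ-filtration. -/
def filtGen (n : ℕ) : Set K :=
  {y | ∃ (l : List (ℕ × K)), (∀ p ∈ l, P.aug p.2 = 0) ∧ n ≤ (l.map Prod.fst).sum ∧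
        y = (l.map fun p => gamma p.1 p.2).prod}

theorem gammaFiltration_zero : gammaFiltration P 0 = ⊤ := by simp [gammaFiltration]

theorem gammaFiltration_of_pos {n : ℕ} (hn : n ≠ 0) :
    gammaFiltration P n = AddSubgroup.closure (filtGen P n) := by
  rw [gammaFiltration, if_neg hn]; rfl

theorem filtGen_anti {m n : ℕ} (h : m ≤ n) : filtGen P n ⊆ filtGen P m := by
  rintro y ⟨l, h1, h2, h3⟩
  exact ⟨l, h1, h.trans h2, h3⟩

theorem gammaFiltration_anti {m n : ℕ} (h : m ≤ n) : gammaFiltration P n ≤ gammaFiltration P m := by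
  rcases Nat.eq_zero_or_pos m with rfl | hm
  · rw [gammaFiltration_zero]; exact le_top
  · rw [gammaFiltration_of_pos P (by omega : n ≠ 0), gammaFiltration_of_pos P hm.ne']
    exact AddSubgroup.closure_mono (filtGen_anti P h)

theorem filtGen_mul {m n : ℕ} {y z : K} (hy : y ∈ filtGen P m) (hz : z ∈ filtGen P n) :
    y * z ∈ filtGen P (m + n) := by
  obtain ⟨l, h1, h2, rfl⟩ := hy
  obtain ⟨l', h1', h2', rfl⟩ := hz
  refine ⟨l ++ l', ?_, ?_, ?_⟩
  · intro p hp
    rcases List.mem_append.mp hp with h | h
    · exact h1 p h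
    · exact h1' p h
  · rw [List.map_append, List.sum_append]; omega
  · rw [List.map_append, List.prod_append]

theorem subset_gammaFiltration (n : ℕ) : filtGen P n ⊆ gammaFiltration P n := by
  rcases Nat.eq_zero_or_pos n with rfl | hn
  · rw [gammaFiltration_zero]; exact fun _ _ => trivial
  · rw [gammaFiltration_of_pos P hn.ne']; exact AddSubgroup.subset_closure

/-- `γ^r(x)` lies in `F^r` when `ε(x) = 0`. -/
theorem gamma_mem {x : K} (hx : P.aug x = 0) (r : ℕ) : gamma r x ∈ gammaFiltration P r :=
  subset_gammaFiltration P r ⟨[(r, x)], by simpa using hx, by simp, by simp⟩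

theorem mem_one_of_aug_eq_zero {x : K} (hx : P.aug x = 0) : x ∈ gammaFiltration P 1 := by
  have := gamma_mem P hx 1
  rwa [gamma_one] at this

theorem mul_mem_left (n : ℕ) (a : K) {x : K} (hx : x ∈ gammaFiltration P n) :
    a * x ∈ gammaFiltration P n := by
  rcases Nat.eq_zero_or_pos n with rfl | hn
  · rw [gammaFiltration_zero]; trivial
  · rw [gammaFiltration_of_pos P hn.ne'] at hx ⊢
    induction hx using AddSubgroup.closure_induction with
    | mem y hy =>
      have h0 : P.aug (a - (P.aug a : K)) = 0 := by simp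
      have hy1 : (a - (P.aug a : K)) * y ∈ filtGen P (1 + n) := by
        refine filtGen_mul P ?_ hy
        exact ⟨[(1, a - (P.aug a : K))], by simp, by simp, by simp [gamma_one]⟩
      have e : a * y = (a - (P.aug a : K)) * y + (P.aug a) • y := by
        rw [zsmul_eq_mul]; ring
      rw [e]
      exact add_mem (AddSubgroup.subset_closure (filtGen_anti P (by omega) hy1))
        (zsmul_mem (AddSubgroup.subset_closure hy) _)
    | zero => rw [mul_zero]; exact zero_mem _
    | add x y _ _ hx hy => rw [mul_add]; exact add_mem hx hy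
    | neg x _ hx => rw [mul_neg]; exact neg_mem hx

theorem mul_mem_right (n : ℕ) (a : K) {x : K} (hx : x ∈ gammaFiltration P n) :
    x * a ∈ gammaFiltration P n := by
  rw [mul_comm]; exact mul_mem_left P n a hx

theorem mul_mem_filt {m n : ℕ} {x y : K} (hx : x ∈ gammaFiltration P m)
    (hy : y ∈ gammaFiltration P n) : x * y ∈ gammaFiltration P (m + n) := by
  rcases Nat.eq_zero_or_pos m with rfl | hm
  · rw [zero_add]; exact mul_mem_left P n x hy
  rcases Nat.eq_zero_or_pos n with rfl | hn
  · rw [add_zero]; exact mul_mem_right P m y hx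
  rw [gammaFiltration_of_pos P hm.ne'] at hx
  rw [gammaFiltration_of_pos P hn.ne'] at hy
  rw [gammaFiltration_of_pos P (by omega : m + n ≠ 0)]
  induction hx using AddSubgroup.closure_induction with
  | mem x hx =>
    induction hy using AddSubgroup.closure_induction with
    | mem y hy => exact AddSubgroup.subset_closure (filtGen_mul P hx hy)
    | zero => rw [mul_zero]; exact zero_mem _
    | add y z _ _ hy hz => rw [mul_add]; exact add_mem hy hz
    | neg y _ hy => rw [mul_neg]; exact neg_mem hy
  | zero => rw [zero_mul]; exact zero_mem _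
  | add x z _ _ hx hz => rw [add_mul]; exact add_mem hx hz
  | neg x _ hx => rw [neg_mul]; exact neg_mem hx

theorem pow_mem_filt {n : ℕ} {x : K} (hx : x ∈ gammaFiltration P n) (k : ℕ) :
    x ^ k ∈ gammaFiltration P (k * n) := by
  induction k with
  | zero => rw [Nat.zero_mul, gammaFiltration_zero]; trivial
  | succ k ih =>
    rw [pow_succ, Nat.succ_mul]
    exact mul_mem_filt P ih hx

end Groth.Agent.H2.Lam
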