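import Groth.Agent.Lib.Helper2.ARR4
import Groth.Agent.Lib.Helper2.LamFilt

/-!
ARR, part 5: invertibility of the Bott class after inverting `j`.
-/

set_option autoImplicit false

namespace Groth.Agent.H2.ARR

open LambdaRing Groth.Agent.H2.Lam Finset
open scoped TensorProduct

universe v

section Part1

variable {K : Type v} [CommRing K] [LambdaOps K] {P : PosStructure K}
variable {L : Type v} [CommRing L] [LambdaOps L] {PL : PosStructure L}

theorem es_one (n i : ℕ) : es (fun _ : Fin n => (1 : ℤ)) i = n.choose i := by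
  simp [es, Finset.card_powersetCard]

theorem aug_linv {ℓ linv : L} (hℓ : PL.IsLine ℓ) (hlinv : linv * ℓ = 1) : PL.aug linv = 1 := by
  have := congrArg PL.aug hlinv
  rwa [map_mul, hℓ.2, mul_one, map_one] at this

theorem aug_bott (hK : HasSplitting K P) (hL : HasSplitting L PL) (f : K →+* L)
    (hf : IsExtension P PL f) {ℓ linv : L} (hℓ : PL.IsLine ℓ) (hlinv : linv * ℓ = 1) {e : K}
    (he : e ∈ P.pos) (j : ℕ) :
    PL.aug (KRR.bott PL j (f e * linv)) = (j : ℤ) ^ (P.aug e).toNat := by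
  have hauglinv := aug_linv hℓ hlinv
  have hn : (PL.aug (f e * linv)).toNat = (P.aug e).toNat := by
    rw [map_mul, hauglinv, mul_one, hf.aug_comp]
  have := map_bott PL PL.aug j (f e * linv) _ hn (fun _ => 1) 1 (fun i => by
    rw [lam_mul_linv hL f hf.isLambdaHom hℓ hlinv, map_mul, map_pow, hauglinv, one_pow, mul_one,
      mul_one, hf.aug_comp, aug_lam_of_pos hK he, es_one])
  rw [this]
  simp

theorem isUnit_natCast_tensor (R : Type) [CommRing R] (j : ℕ) (hjR : IsUnit ((j : ℕ) : R)) :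
    IsUnit ((j : ℕ) : R ⊗[ℤ] L) := by
  rw [Algebra.TensorProduct.natCast_def]
  exact hjR.map (Algebra.TensorProduct.includeLeftRingHom (R := ℤ) (A := R) (B := L))

theorem isUnit_tensor_bott (R : Type) [CommRing R] (hK : HasSplitting K P) (hL : HasSplitting L PL)
    (f : K →+* L) (hf : IsExtension P PL f) {ℓ linv : L} (hℓ : PL.IsLine ℓ)
    (hlinv : linv * ℓ = 1) {e : K} (he : e ∈ P.pos) (j : ℕ) (hjR : IsUnit ((j : ℕ) : R)) (N : ℕ)
    (hN : gammaFiltration PL N = ⊥) :
    IsUnit ((1 : R) ⊗ₜ[ℤ] KRR.bott PL j (f e * linv)) := by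
  set b := KRR.bott PL j (f e * linv) with hb
  set n := (P.aug e).toNat with hn
  set z : L := b - (j : L) ^ n with hz
  have haug : PL.aug z = 0 := by
    rw [hz, map_sub, hb, aug_bott hK hL f hf hℓ hlinv he j, map_pow, map_natCast, sub_self]
  have hz1 : z ∈ gammaFiltration PL 1 := mem_one_of_aug_eq_zero PL haug
  have hzN : z ^ N = 0 := by
    have := pow_mem_filt PL hz1 N
    rw [mul_one, hN] at this
    exact (AddSubgroup.mem_bot).mp this
  have hnil : IsNilpotent ((1 : R) ⊗ₜ[ℤ] z) :=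
    ⟨N, by rw [Algebra.TensorProduct.tmul_pow, hzN, TensorProduct.tmul_zero]⟩
  have hu : IsUnit ((1 : R) ⊗ₜ[ℤ] ((j : L) ^ n)) := by
    have h1 : (1 : R) ⊗ₜ[ℤ] ((j : L) ^ n) = ((j : ℕ) : R ⊗[ℤ] L) ^ n := by
      rw [Algebra.TensorProduct.natCast_def', Algebra.TensorProduct.tmul_pow, one_pow]
    rw [h1]
    exact (isUnit_natCast_tensor R j hjR).pow n
  have hsplit : (1 : R) ⊗ₜ[ℤ] b = (1 : R) ⊗ₜ[ℤ] ((j : L) ^ n) + (1 : R) ⊗ₜ[ℤ] z := by
    rw [← TensorProduct.tmul_add, hz]; congr 1; ring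
  rw [hsplit]
  exact hnil.isUnit_add_left_of_commute hu (Commute.all _ _)

end Part1

end Groth.Agent.H2.ARR
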