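import Groth.Agent.Lib.Helper2.LamSplit

set_option autoImplicit false

namespace Groth.Agent.H2.Lam

open PowerSeries Finset LambdaRing

universe u

variable {K : Type u} [CommRing K] [LambdaOps K] {P : PosStructure K}

theorem map_aug_lamSeries_sum_lines {s : Multiset K} (hs : ∀ u ∈ s, P.IsLine u) :
    PowerSeries.map P.aug (lamSeries s.sum) = (1 + X) ^ (Multiset.card s) := by
  rw [lamSeries_sum_lines P hs, map_multiset_prod, Multiset.map_map]
  have : ∀ u ∈ s, ((PowerSeries.map P.aug) ∘ fun u => (1 + C u * X : K⟦X⟧)) u = (1 + X : ℤ⟦X⟧) := by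
    intro u hu
    simp only [Function.comp_apply, map_add, map_one, map_mul, map_C, map_X, (hs u hu).2]
    simp
  rw [Multiset.map_congr rfl this, Multiset.map_const', Multiset.prod_replicate]

theorem aug_lam_of_pos (hK : HasSplitting K P) {e : K} (he : e ∈ P.pos) (i : ℕ) :
    P.aug (LambdaOps.lam i e) = ((P.aug e).toNat.choose i : ℤ) := by
  obtain ⟨L, f, hf, -, s, hs, hsum⟩ := exists_split hK he
  have hcard : (P.aug e).toNat = Multiset.card s := by
    have := aug_sum_lines L.posStr hs
    rw [hsum, hf.aug_comp] at this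
    rw [this]; simp
  rw [hcard, ← hf.aug_comp, hf.isLambdaHom, ← hsum, ← coeff_lamSeries, ← coeff_map,
    map_aug_lamSeries_sum_lines hs, coeff_one_add_X_pow]

theorem adams_mul_pos (hK : HasSplitting K P) (j : ℕ) {e e' : K} (he : e ∈ P.pos)
    (he' : e' ∈ P.pos) : adams P j (e * e') = adams P j e * adams P j e' := by
  obtain ⟨L, f, hf, -, ⟨s, hs, hsum⟩, ⟨s', hs', hsum'⟩⟩ := exists_split₂ hK he he'
  apply hf.injective
  rw [isExtension_map_adams hf, map_mul, map_mul, isExtension_map_adams hf,
    isExtension_map_adams hf, ← hsum, ← hsum', adams_sum_mul_sum L.posStr hs hs']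

theorem adams_mul (hK : HasSplitting K P) (j : ℕ) (x y : K) :
    adams P j (x * y) = adams P j x * adams P j y := by
  obtain ⟨e₁, e₂, h₁, h₂, rfl⟩ := P.exists_sub x
  obtain ⟨e₃, e₄, h₃, h₄, rfl⟩ := P.exists_sub y
  have e : (e₁ - e₂) * (e₃ - e₄) = e₁ * e₃ - e₁ * e₄ - e₂ * e₃ + e₂ * e₄ := by ring
  rw [e, adams_add, adams_sub, adams_sub, adams_sub, adams_sub, adams_mul_pos hK j h₁ h₃,
    adams_mul_pos hK j h₁ h₄, adams_mul_pos hK j h₂ h₃, adams_mul_pos hK j h₂ h₄]
  ring

theorem adams_one (P : PosStructure K) (j : ℕ) : adams P j (1 : K) = 1 := by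
  rw [adams_of_line P (isLine_one P), one_pow]

/-- The Adams operation as a ring homomorphism. -/
noncomputable def adamsRingHom (hK : HasSplitting K P) (j : ℕ) : K →+* K where
  toFun := adams P j
  map_one' := adams_one P j
  map_mul' := adams_mul hK j
  map_zero' := adams_zero' P j
  map_add' := adams_add P j

theorem adamsRingHom_apply (hK : HasSplitting K P) (j : ℕ) (x : K) :
    adamsRingHom hK j x = adams P j x := rfl

theorem adams_adams (hK : HasSplitting K P) (i j : ℕ) (x : K) :
    adams P i (adams P j x) = adams P (i * j) x := by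
  obtain ⟨e₁, e₂, h₁, h₂, rfl⟩ := P.exists_sub x
  have key : ∀ e ∈ P.pos, adams P i (adams P j e) = adams P (i * j) e := by
    intro e he
    obtain ⟨L, f, hf, -, s, hs, hsum⟩ := exists_split hK he
    apply hf.injective
    rw [isExtension_map_adams hf, isExtension_map_adams hf, isExtension_map_adams hf, ← hsum,
      adams_adams_sum_lines L.posStr hs]
  rw [adams_sub, adams_sub, adams_sub, key e₁ h₁, key e₂ h₂]

theorem adams_pow (hK : HasSplitting K P) (j : ℕ) (x : K) (n : ℕ) :
    adams P j (x ^ n) = adams P j x ^ n :=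
  map_pow (adamsRingHom hK j) x n

theorem adams_natCast (P : PosStructure K) (j : ℕ) (n : ℕ) : adams P j (n : K) = n := by
  induction n with
  | zero => simp [adams_zero']
  | succ n ih => rw [Nat.cast_succ, adams_add, ih, adams_one]

theorem adams_intCast (P : PosStructure K) (j : ℕ) (n : ℤ) : adams P j (n : K) = n := by
  cases n with
  | ofNat n => simpa using adams_natCast P j n
  | negSucc n =>
    rw [Int.cast_negSucc, adams_neg, adams_natCast]

end Groth.Agent.H2.Lam
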