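import Groth.Agent.Lib.Helper2.ARR5
import Groth.Agent.Lib.Helper2.LamSplit2

/-!
ARR, part 6: the coefficient identities relating `K`, a splitting extension `K'` and `R ⊗ K'`.
-/

set_option autoImplicit false

namespace Groth.Agent.H2.ARR

open LambdaRing Groth.Agent.H2.Lam Finset
open scoped TensorProduct

universe v

section Coef

variable {K : Type v} [CommRing K] [LambdaOps K] {P : PosStructure K}
variable {K' : Type v} [CommRing K'] [LambdaOps K'] {P' : PosStructure K'}
variable {B : Type*} [CommRing B]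

/-- images of the coefficients of `λ_{-t}(e)` -/
theorem map_aCoef (g : K →+* K') (hg : IsExtension P P' g) (incl : K' →+* B) {n : ℕ}
    (v : Fin n → K') (hv : ∀ k, P'.IsLine (v k)) {e : K} (hsum : ∑ k, v k = g e) (i : ℕ) :
    (incl.comp g) (aCoef e i) = acoef (incl ∘ v) i := by
  rw [aCoef, acoef, map_mul, map_pow, map_neg, map_one, RingHom.comp_apply, hg.isLambdaHom,
    ← hsum, lam_fin_lines' (PL := P') v hv, es_map]

theorem map_lam (g : K →+* K') (hg : IsExtension P P' g) (incl : K' →+* B) {n : ℕ}
    (v : Fin n → K') (hv : ∀ k, P'.IsLine (v k)) {e : K} (hsum : ∑ k, v k = g e) (i : ℕ) :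
    (incl.comp g) (LambdaOps.lam i e) = es (incl ∘ v) i := by
  rw [RingHom.comp_apply, hg.isLambdaHom, ← hsum, lam_fin_lines' (PL := P') v hv, es_map]

theorem aug_eq_card (g : K →+* K') (hg : IsExtension P P' g) {n : ℕ}
    (v : Fin n → K') (hv : ∀ k, P'.IsLine (v k)) {e : K} (hsum : ∑ k, v k = g e) :
    (P.aug e).toNat = n := by
  have h : P'.aug (g e) = n := by
    rw [← hsum, map_sum, Finset.sum_congr rfl (fun k _ => (hv k).2)]; simp
  rw [hg.aug_comp] at h
  rw [h]; simp

theorem map_extPoly (g : K →+* K') (hg : IsExtension P P' g) (incl : K' →+* B) {n : ℕ}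
    (v : Fin n → K') (hv : ∀ k, P'.IsLine (v k)) {e : K} (hsum : ∑ k, v k = g e) :
    (KRR.extPoly P e).map (incl.comp g) = pol (incl ∘ v) := by
  rw [extPoly_eq, aug_eq_card g hg v hv hsum, pol_eq_sum, Polynomial.map_sum]
  apply Finset.sum_congr rfl
  intro i _
  rw [Polynomial.map_mul, Polynomial.map_C, Polynomial.map_pow, Polynomial.map_X,
    map_aCoef g hg incl v hv hsum]

theorem hs_eq_sigma (g : K →+* K') (hg : IsExtension P P' g) (incl : K' →+* B) {n : ℕ}
    (v : Fin n → K') (hv : ∀ k, P'.IsLine (v k)) {e : K} (hsum : ∑ k, v k = g e) (i : ℕ) :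
    hs (incl ∘ v) i = (incl.comp g) (KRR.sigma i e) := by
  refine conv_unique (a := acoef (incl ∘ v)) (σ' := fun i => (incl.comp g) (KRR.sigma i e))
    (acoef_zero _) (hs_conv _) ?_ i
  intro k
  have := congrArg (incl.comp g) (aCoef_conv e k)
  rw [map_sum] at this
  simp only [map_mul, map_aCoef g hg incl v hv hsum] at this
  rw [this]
  split_ifs <;> simp

theorem adams_acoef (hK' : HasSplitting K' P') {n : ℕ} (v : Fin n → K')
    (hv : ∀ k, P'.IsLine (v k)) (j i : ℕ) :
    adams P' j (acoef v i) = acoef (fun k => v k ^ j) i := by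
  rw [← adamsRingHom_apply hK', acoef_map]
  congr 1
  funext k
  simp only [Function.comp_apply, adamsRingHom_apply, adams_of_line P' (hv k)]

theorem hs_pow_eq_adams_sigma (hK : HasSplitting K P) (hK' : HasSplitting K' P') (g : K →+* K')
    (hg : IsExtension P P' g) (incl : K' →+* B) {n : ℕ}
    (v : Fin n → K') (hv : ∀ k, P'.IsLine (v k)) {e : K} (hsum : ∑ k, v k = g e) (j i : ℕ) :
    hs (fun k => (incl ∘ v) k ^ j) i = (incl.comp g) (adams P j (KRR.sigma i e)) := by
  refine conv_unique (a := acoef (fun k => (incl ∘ v) k ^ j))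
    (σ' := fun i => (incl.comp g) (adams P j (KRR.sigma i e))) (acoef_zero _) (hs_conv _) ?_ i
  intro k
  have h1 := congrArg (fun x => (incl.comp g) (adams P j x)) (aCoef_conv e k)
  beta_reduce at h1
  rw [← adamsRingHom_apply hK, map_sum, map_sum] at h1
  have h2 : ∀ t, (incl.comp g) ((adamsRingHom hK j) (aCoef e t)) =
      acoef (fun k => (incl ∘ v) k ^ j) t := by
    intro t
    have h3 : g (aCoef e t) = acoef v t := by
      have := map_aCoef g hg (RingHom.id K') v hv hsum t
      simpa using this
    rw [adamsRingHom_apply, RingHom.comp_apply, isExtension_map_adams hg, h3,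
      adams_acoef hK' v hv, acoef_map]
    congr 1
    funext k
    simp only [Function.comp_apply, map_pow]
  simp only [map_mul, h2] at h1
  simp only [adamsRingHom_apply] at h1
  rw [h1]
  split_ifs
  · rw [adams_one, map_one]
  · rw [adams_zero', map_zero]

end Coef

end Groth.Agent.H2.ARR
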