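import Groth.Agent.Lib.Helper2.ARR6

/-!
ARR, part 7: the Adams–Riemann–Roch identity for the elementary projection.
-/

set_option autoImplicit false

namespace Groth.Agent.H2.ARR

open LambdaRing Groth.Agent.H2.Lam Finset
open scoped TensorProduct

universe v

theorem ke_induction {K : Type*} [CommRing K] {p : Polynomial K} {C : AdjoinRoot p → Prop}
    (hadd : ∀ x y, C x → C y → C (x + y))
    (hmon : ∀ (c : K) (i : ℕ), C (AdjoinRoot.of p c * AdjoinRoot.root p ^ i))
    (x : AdjoinRoot p) : C x := by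
  induction x using AdjoinRoot.induction_on with
  | ih q =>
    induction q using Polynomial.induction_on' with
    | add q r hq hr => rw [map_add]; exact hadd _ _ hq hr
    | monomial i c =>
      rw [← Polynomial.C_mul_X_pow_eq_monomial, map_mul, map_pow, AdjoinRoot.mk_C, AdjoinRoot.mk_X]
      exact hmon c i

section Part2

variable (R : Type) [CommRing R]
variable {K : Type v} [CommRing K] [LambdaOps K] {P : PosStructure K}
variable {K' : Type v} [CommRing K'] [LambdaOps K'] {P' : PosStructure K'}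

/-- inclusion `K' → R ⊗ K'` -/
noncomputable def inclR : K' →+* R ⊗[ℤ] K' :=
  (Algebra.TensorProduct.includeRight (R := ℤ) (A := R) (B := K')).toRingHom

theorem inclR_apply (x : K') : inclR R x = (1 : R) ⊗ₜ[ℤ] x := rfl

variable (g : K →+* K') (hg : IsExtension P P' g) {n : ℕ} (v : Fin n → K')
  (hv : ∀ k, P'.IsLine (v k)) {e : K} (hsum : ∑ k, v k = g e)

/-- `K_e → (R ⊗ K')[T]/(pol u)` -/
noncomputable def psiK : AdjoinRoot (KRR.extPoly P e) →+* AdjoinRoot (pol (inclR R ∘ v)) :=
  AdjoinRoot.lift ((AdjoinRoot.of (pol (inclR R ∘ v))).comp ((inclR R).comp g))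
    (AdjoinRoot.root _) (by
      rw [← Polynomial.eval₂_map, map_extPoly g hg (inclR R) v hv hsum]
      exact AdjoinRoot.eval₂_root _)

theorem psiK_of (c : K) : psiK R g hg v hv hsum (AdjoinRoot.of _ c) =
    AdjoinRoot.of (pol (inclR R ∘ v)) (inclR R (g c)) := by
  rw [psiK, AdjoinRoot.lift_of]; rfl

theorem psiK_root : psiK R g hg v hv hsum (AdjoinRoot.root _) =
    AdjoinRoot.root (pol (inclR R ∘ v)) := by
  rw [psiK, AdjoinRoot.lift_root]

/-- `R ⊗ K_e → (R ⊗ K')[T]/(pol u)` -/
noncomputable def Psi : R ⊗[ℤ] AdjoinRoot (KRR.extPoly P e) →+* AdjoinRoot (pol (inclR R ∘ v)) :=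
  (Algebra.TensorProduct.productMap
    (((AdjoinRoot.of (pol (inclR R ∘ v))).comp
      (Algebra.TensorProduct.includeLeftRingHom (R := ℤ) (A := R) (B := K'))).toIntAlgHom)
    ((psiK R g hg v hv hsum).toIntAlgHom)).toRingHom

theorem Psi_tmul (a : R) (x : AdjoinRoot (KRR.extPoly P e)) :
    Psi R g hg v hv hsum (a ⊗ₜ[ℤ] x) =
      AdjoinRoot.of (pol (inclR R ∘ v)) (a ⊗ₜ[ℤ] (1 : K')) * psiK R g hg v hv hsum x := rfl

end Part2

end Groth.Agent.H2.ARR
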