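import Groth.Agent.Lib.Helper2.ARR7

/-!
ARR, part 8: the main computation.
-/

set_option autoImplicit false

namespace Groth.Agent.H2.ARR

open LambdaRing Groth.Agent.H2.Lam Finset
open scoped TensorProduct

universe v

section Part2

variable (R : Type) [CommRing R]
variable {K : Type v} [CommRing K] [LambdaOps K] {P : PosStructure K}
variable {K' : Type v} [CommRing K'] [LambdaOps K'] {P' : PosStructure K'}
variable (g : K →+* K') (hg : IsExtension P P' g) {n : ℕ} (v : Fin n → K')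
  (hv : ∀ k, P'.IsLine (v k)) {e : K} (hsum : ∑ k, v k = g e)

theorem geom_rev {A : Type*} [CommRing A] (ℓ linv t : A) (hlinv : linv * ℓ = 1) (j : ℕ) :
    ∑ a ∈ range j, ℓ ^ a * t ^ (j - 1 - a) = ℓ ^ (j - 1) * ∑ b ∈ range j, (t * linv) ^ b := by
  rw [Finset.mul_sum, ← Finset.sum_range_reflect]
  apply Finset.sum_congr rfl
  intro b hb
  rw [mem_range] at hb
  have h1 : j - 1 - (j - 1 - b) = b := by omega
  have h2 : ℓ ^ (j - 1) = ℓ ^ (j - 1 - b) * ℓ ^ b := by rw [← pow_add]; congr 1; omega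
  rw [h1, h2, mul_pow]
  calc ℓ ^ (j - 1 - b) * t ^ b = ℓ ^ (j - 1 - b) * t ^ b * (linv * ℓ) ^ b := by
        rw [hlinv, one_pow, mul_one]
    _ = ℓ ^ (j - 1 - b) * ℓ ^ b * (t ^ b * linv ^ b) := by rw [mul_pow]; ring

variable [instE : LambdaOps (AdjoinRoot (KRR.extPoly P e))]
  (Pe : PosStructure (AdjoinRoot (KRR.extPoly P e)))

include hg hv hsum in
theorem part2 [Module.Flat ℤ R] (hK : HasSplitting K P) (hK' : HasSplitting K' P') (hn1 : 1 ≤ n)
    (hext : IsExtension P Pe (AdjoinRoot.of (KRR.extPoly P e)))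
    (hline : Pe.IsLine (AdjoinRoot.root (KRR.extPoly P e)))
    (hsplit : HasSplitting (AdjoinRoot (KRR.extPoly P e)) Pe)
    (f : AdjoinRoot (KRR.extPoly P e) →ₗ[K] K)
    (hf : ∀ i : ℕ, f (AdjoinRoot.root (KRR.extPoly P e) ^ i) = KRR.sigma i e)
    (linv : AdjoinRoot (KRR.extPoly P e)) (hlinv : linv * AdjoinRoot.root (KRR.extPoly P e) = 1)
    (j : ℕ) (hj : 1 ≤ j)
    (w : R ⊗[ℤ] AdjoinRoot (KRR.extPoly P e))
    (hw : w * ((1 : R) ⊗ₜ[ℤ] KRR.bott Pe j (AdjoinRoot.of (KRR.extPoly P e) e * linv)) = 1)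
    (x : AdjoinRoot (KRR.extPoly P e)) :
    (1 : R) ⊗ₜ[ℤ] adams P j (f x) =
      LinearMap.lTensor R f.toAddMonoidHom.toIntLinearMap
        ((j : R ⊗[ℤ] AdjoinRoot (KRR.extPoly P e)) * w * ((1 : R) ⊗ₜ[ℤ] adams Pe j x)) := by
  set ι : R ⊗[ℤ] K →ₗ[ℤ] R ⊗[ℤ] K' := LinearMap.lTensor R g.toAddMonoidHom.toIntLinearMap with hι
  have hιinj : Function.Injective ι :=
    Module.Flat.lTensor_preserves_injective_linearMap _ hg.injective
  have hιt : ∀ (a : R) (c : K), ι (a ⊗ₜ[ℤ] c) = a ⊗ₜ[ℤ] g c := fun a c => rfl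
  apply hιinj
  rcases subsingleton_or_nontrivial (R ⊗[ℤ] K') with hsub | hnt
  · exact Subsingleton.elim _ _
  set u : Fin n → R ⊗[ℤ] K' := inclR R ∘ v with hu
  obtain ⟨fn', hfn'⟩ := exists_fn u (hs u)
  have hfn'_all : ∀ m, fn' (AdjoinRoot.root (pol u) ^ m) = hs u m :=
    f_pow_eq (AdjoinRoot.root (pol u)) n hn1 (acoef u) (hs u) (acoef_zero u)
      (fun i hi => acoef_vanish u hi) (root_rel u) (hs_conv u) fn' hfn'
  set Ψ := Psi R g hg v hv hsum with hΨ
  set ψ := psiK R g hg v hv hsum with hψ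
  -- the functional on monomials
  have hfmon : ∀ (c : K) (i : ℕ), f (AdjoinRoot.of (KRR.extPoly P e) c *
      AdjoinRoot.root (KRR.extPoly P e) ^ i) = c * KRR.sigma i e := by
    intro c i
    rw [← AdjoinRoot.algebraMap_eq, ← Algebra.smul_def, map_smul, hf, smul_eq_mul]
  have hΨmon : ∀ (a : R) (c : K) (i : ℕ), Ψ (a ⊗ₜ[ℤ] (AdjoinRoot.of (KRR.extPoly P e) c *
      AdjoinRoot.root (KRR.extPoly P e) ^ i)) =
      AdjoinRoot.of (pol u) (a ⊗ₜ[ℤ] g c) * AdjoinRoot.root (pol u) ^ i := by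
    intro a c i
    rw [hΨ, Psi_tmul, map_mul, map_pow, psiK_of, psiK_root, ← mul_assoc, ← map_mul, inclR_apply,
      Algebra.TensorProduct.tmul_mul_tmul, mul_one, one_mul]
  have hfn'lin : ∀ (b : R ⊗[ℤ] K') (y : AdjoinRoot (pol u)),
      fn' (AdjoinRoot.of (pol u) b * y) = b * fn' y := by
    intro b y
    rw [← AdjoinRoot.algebraMap_eq, ← Algebra.smul_def, map_smul, smul_eq_mul]
  -- compatibility of the functionals
  have C1a : ∀ (a : R) (c : K) (i : ℕ),
      fn' (Ψ (a ⊗ₜ[ℤ] (AdjoinRoot.of (KRR.extPoly P e) c *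
        AdjoinRoot.root (KRR.extPoly P e) ^ i))) =
      ι (LinearMap.lTensor R f.toAddMonoidHom.toIntLinearMap
        (a ⊗ₜ[ℤ] (AdjoinRoot.of (KRR.extPoly P e) c *
          AdjoinRoot.root (KRR.extPoly P e) ^ i))) := by
    intro a c i
    rw [hΨmon, hfn'lin, hfn'_all, LinearMap.lTensor_tmul]
    have h1 : (f.toAddMonoidHom.toIntLinearMap) (AdjoinRoot.of (KRR.extPoly P e) c *
        AdjoinRoot.root (KRR.extPoly P e) ^ i) = c * KRR.sigma i e := hfmon c i
    rw [h1, hιt, map_mul, hs_eq_sigma g hg (inclR R) v hv hsum, RingHom.comp_apply, inclR_apply,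
      Algebra.TensorProduct.tmul_mul_tmul, mul_one]
  have C1 : ∀ y : R ⊗[ℤ] AdjoinRoot (KRR.extPoly P e),
      fn' (Ψ y) = ι (LinearMap.lTensor R f.toAddMonoidHom.toIntLinearMap y) := by
    intro y
    induction y using TensorProduct.induction_on with
    | zero => simp
    | tmul a x =>
      induction x using ke_induction with
      | hadd x y hx hy =>
        rw [TensorProduct.tmul_add, map_add, map_add, map_add, map_add, hx, hy]
      | hmon c i => exact C1a a c i
    | add y z hy hz => rw [map_add, map_add, map_add, map_add, hy, hz]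
  rw [← C1]
  -- reduce to monomials
  induction x using ke_induction with
  | hadd x y hx hy =>
    rw [map_add, adams_add, TensorProduct.tmul_add, map_add, hx, hy, adams_add,
      TensorProduct.tmul_add, mul_add, map_add, map_add]
  | hmon c i =>
    -- left side
    have hL : ι ((1 : R) ⊗ₜ[ℤ] adams P j (f (AdjoinRoot.of (KRR.extPoly P e) c *
        AdjoinRoot.root (KRR.extPoly P e) ^ i))) =
        ((1 : R) ⊗ₜ[ℤ] g (adams P j c)) * hs (fun k => u k ^ j) i := by
      rw [hfmon, adams_mul hK, hιt, map_mul,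
        hs_pow_eq_adams_sigma hK hK' g hg (inclR R) v hv hsum, RingHom.comp_apply, inclR_apply,
        Algebra.TensorProduct.tmul_mul_tmul, mul_one]
    rw [hL]
    -- the Adams operation on the monomial
    have hA : adams Pe j (AdjoinRoot.of (KRR.extPoly P e) c *
        AdjoinRoot.root (KRR.extPoly P e) ^ i) =
        AdjoinRoot.of (KRR.extPoly P e) (adams P j c) *
          AdjoinRoot.root (KRR.extPoly P e) ^ (i * j) := by
      rw [adams_mul hsplit, adams_pow hsplit, adams_of_line Pe hline, ← isExtension_map_adams hext,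
        ← pow_mul, mul_comm j i]
    rw [hA]
    -- apply Ψ
    have hΨ1 : Ψ ((j : R ⊗[ℤ] AdjoinRoot (KRR.extPoly P e)) * w *
        ((1 : R) ⊗ₜ[ℤ] (AdjoinRoot.of (KRR.extPoly P e) (adams P j c) *
          AdjoinRoot.root (KRR.extPoly P e) ^ (i * j)))) =
        AdjoinRoot.of (pol u) ((1 : R) ⊗ₜ[ℤ] g (adams P j c)) *
          ((j : AdjoinRoot (pol u)) * Ψ w * AdjoinRoot.root (pol u) ^ (i * j)) := by
      rw [map_mul, map_mul, map_natCast, hΨmon]
      ring
    rw [hΨ1, hfn'lin]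
    congr 1
    -- the core identity
    set linv' := ψ linv with hlinv'
    have hlinv'' : linv' * AdjoinRoot.root (pol u) = 1 := by
      have := congrArg ψ hlinv
      rwa [map_mul, map_one, hψ, psiK_root] at this
    have hψΨ : ∀ y, Ψ ((1 : R) ⊗ₜ[ℤ] y) = ψ y := by
      intro y
      rw [hΨ, Psi_tmul, ← Algebra.TensorProduct.one_def, map_one, one_mul]
    -- the image of the Bott class
    have hbott : ψ (KRR.bott Pe j (AdjoinRoot.of (KRR.extPoly P e) e * linv)) =
        ∏ k, ∑ a ∈ range j, (AdjoinRoot.of (pol u) (u k) * linv') ^ a := by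
      have haug : (Pe.aug (AdjoinRoot.of (KRR.extPoly P e) e * linv)).toNat = n := by
        rw [map_mul, aug_linv hline hlinv, mul_one, hext.aug_comp]
        exact aug_eq_card g hg v hv hsum
      refine map_bott Pe ψ j _ n haug (fun k => AdjoinRoot.of (pol u) (u k)) linv' ?_
      intro t
      rw [lam_mul_linv hsplit _ hext.isLambdaHom hline hlinv, map_mul, map_pow, hψ, psiK_of,
        ← RingHom.comp_apply (inclR R) g, map_lam g hg (inclR R) v hv hsum, es_map]
      rfl
    have htheta : AdjoinRoot.mk (pol u) (theta u j) =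
        AdjoinRoot.root (pol u) ^ ((j - 1) * n) *
          ψ (KRR.bott Pe j (AdjoinRoot.of (KRR.extPoly P e) e * linv)) := by
      rw [hbott, theta, map_prod]
      have : ∀ k ∈ (univ : Finset (Fin n)),
          AdjoinRoot.mk (pol u) (∑ a ∈ range j, Polynomial.X ^ a *
            Polynomial.C (u k) ^ (j - 1 - a)) =
          AdjoinRoot.root (pol u) ^ (j - 1) *
            ∑ a ∈ range j, (AdjoinRoot.of (pol u) (u k) * linv') ^ a := by
        intro k _
        rw [← geom_rev _ linv' _ hlinv'' j, map_sum]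
        apply Finset.sum_congr rfl
        intro a _
        rw [map_mul, map_pow, map_pow, AdjoinRoot.mk_X, AdjoinRoot.mk_C]
      rw [Finset.prod_congr rfl this, Finset.prod_mul_distrib, Finset.prod_const, card_univ,
        Fintype.card_fin, ← pow_mul]
    have hW : (Ψ w * linv' ^ ((j - 1) * n)) * AdjoinRoot.mk (pol u) (theta u j) = 1 := by
      rw [htheta, ← hψΨ]
      have h1 := congrArg Ψ hw
      rw [map_mul, map_one] at h1
      calc Ψ w * linv' ^ ((j - 1) * n) * (AdjoinRoot.root (pol u) ^ ((j - 1) * n) *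
            Ψ ((1 : R) ⊗ₜ[ℤ] KRR.bott Pe j (AdjoinRoot.of (KRR.extPoly P e) e * linv)))
          = (linv' * AdjoinRoot.root (pol u)) ^ ((j - 1) * n) *
            (Ψ w * Ψ ((1 : R) ⊗ₜ[ℤ] KRR.bott Pe j (AdjoinRoot.of (KRR.extPoly P e) e * linv))) := by
            rw [mul_pow]; ring
        _ = 1 := by rw [hlinv'', one_pow, one_mul, h1]
    have hcore := core hn1 u j hj fn' hfn' (Ψ w * linv' ^ ((j - 1) * n)) hW i
    rw [← hcore]
    congr 1
    symm
    calc (j : AdjoinRoot (pol u)) * Ψ w * AdjoinRoot.root (pol u) ^ (i * j)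
        = (j : AdjoinRoot (pol u)) * Ψ w * AdjoinRoot.root (pol u) ^ (i * j) *
            (linv' * AdjoinRoot.root (pol u)) ^ ((j - 1) * n) := by
          rw [hlinv'', one_pow, mul_one]
      _ = (j : AdjoinRoot (pol u)) * (Ψ w * linv' ^ ((j - 1) * n)) *
            AdjoinRoot.root (pol u) ^ ((j - 1) * n + i * j) := by
          rw [mul_pow, pow_add]; ring

end Part2

end Groth.Agent.H2.ARR
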