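import Groth.Agent.Lib.Helper2.ARR8

/-!
ARR, part 9: assembling the Adams–Riemann–Roch theorem for the elementary projection.
-/

set_option autoImplicit false

namespace Groth.Agent.H2.ARR

open LambdaRing Groth.Agent.H2.Lam Finset
open scoped TensorProduct

universe v

theorem flatLoc (j : ℕ) : Module.Flat ℤ (Localization.Away (j : ℤ)) := by
  have h : @Module.Flat ℤ (Localization.Away (j : ℤ)) _ _ Algebra.toModule :=
    IsLocalization.flat (Localization.Away (j : ℤ)) (Submonoid.powers (j : ℤ))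
  have e : (AddCommGroup.toIntModule (Localization.Away (j : ℤ))) = Algebra.toModule :=
    Subsingleton.elim _ _
  rw [e]; exact h

theorem isUnitLoc (j : ℕ) : IsUnit ((j : ℕ) : Localization.Away (j : ℤ)) := by
  have h3 : IsUnit (algebraMap ℤ (Localization.Away (j : ℤ)) (j : ℤ)) :=
    IsLocalization.map_units (Localization.Away (j : ℤ))
      (⟨(j : ℤ), Submonoid.mem_powers _⟩ : Submonoid.powers (j : ℤ))
  rwa [map_natCast] at h3

theorem main (R : Type) [CommRing R] [Module.Flat ℤ R] (K : Type v) [CommRing K]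
    [LambdaRing.LambdaOps K] (P : LambdaRing.PosStructure K) (hK : LambdaRing.HasSplitting K P)
    (e : K) (he : e ∈ P.pos) (r : ℕ) (hr : P.aug e = r + 1)
    (inst : LambdaRing.LambdaOps (AdjoinRoot (KRR.extPoly P e)))
    (Pe : @LambdaRing.PosStructure _ _ inst)
    (hext : @LambdaRing.IsExtension K _ _ _ _ inst P Pe (AdjoinRoot.of (KRR.extPoly P e)))
    (hline : @LambdaRing.PosStructure.IsLine _ _ inst Pe (AdjoinRoot.root (KRR.extPoly P e)))
    (hsplit : @LambdaRing.HasSplitting _ _ inst Pe) (N : ℕ)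
    (hN : @LambdaRing.gammaFiltration _ _ inst Pe N = ⊥)
    (f : AdjoinRoot (KRR.extPoly P e) →ₗ[K] K)
    (hf : ∀ i : ℕ, i ≤ r → f (AdjoinRoot.root (KRR.extPoly P e) ^ i) = KRR.sigma i e)
    (linv : AdjoinRoot (KRR.extPoly P e)) (hlinv : linv * AdjoinRoot.root (KRR.extPoly P e) = 1)
    (j : ℕ) (hj : 1 ≤ j) (hjR : IsUnit ((j : ℕ) : R)) :
    (∃ w : TensorProduct ℤ R (AdjoinRoot (KRR.extPoly P e)),
      w * ((1 : R) ⊗ₜ[ℤ] @KRR.bott _ _ inst Pe j (AdjoinRoot.of (KRR.extPoly P e) e * linv)) = 1) ∧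
    ∀ w : TensorProduct ℤ R (AdjoinRoot (KRR.extPoly P e)),
      w * ((1 : R) ⊗ₜ[ℤ] @KRR.bott _ _ inst Pe j (AdjoinRoot.of (KRR.extPoly P e) e * linv)) = 1 →
      ∀ x : AdjoinRoot (KRR.extPoly P e),
        (1 : R) ⊗ₜ[ℤ] LambdaRing.adams P j (f x) =
          LinearMap.lTensor R f.toAddMonoidHom.toIntLinearMap
            ((j : TensorProduct ℤ R (AdjoinRoot (KRR.extPoly P e))) * w *
              ((1 : R) ⊗ₜ[ℤ] @LambdaRing.adams _ _ inst Pe j x)) := by
  refine ⟨?_, ?_⟩
  · have hu := isUnit_tensor_bott (PL := Pe) R hK hsplit (AdjoinRoot.of (KRR.extPoly P e)) hext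
      hline hlinv he j hjR N hN
    exact hu.exists_left_inv
  · intro w hw x
    obtain ⟨L', g, hg, hK', s, hs, hsum⟩ := exists_split hK he
    obtain ⟨n, v, rfl⟩ := exists_fin_fun s
    have hv : ∀ k, L'.posStr.IsLine (v k) := fun k =>
      hs (v k) (Multiset.mem_map.mpr ⟨k, Finset.mem_univ_val k, rfl⟩)
    have hsum' : ∑ k, v k = g e := hsum
    have hn : (P.aug e).toNat = n := aug_eq_card g hg v hv hsum'
    have hn1 : 1 ≤ n := by
      rw [hr] at hn
      have : ((r : ℤ) + 1).toNat = r + 1 := by omega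
      omega
    have hfall := (ext_functional e he r hr f hf).1
    exact part2 (instE := inst) R g hg v hv hsum' Pe hK hK' hn1 hext hline hsplit f hfall linv
      hlinv j hj w hw x

end Groth.Agent.H2.ARR
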