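import Groth.Prelude.Def_ARSys
import Mathlib.CategoryTheory.Abelian.Refinements
import Mathlib.Algebra.Homology.ShortComplex.ShortExact
import Mathlib.Algebra.Homology.ShortComplex.ExactFunctor
import Mathlib.CategoryTheory.Limits.FunctorCategory.Finite

set_option autoImplicit false
universe w v u
open CategoryTheory CategoryTheory.Limits Opposite

namespace Groth.Agent.H2.AR

open ARSys

variable {C : Type u} [Category.{v} C]

/-- All maps of a projective system between two given indices agree with `tr`. -/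
lemma map_eq_tr (X : PS C) {n m : ℕ} (f : (op m : ℕᵒᵖ) ⟶ op n) :
    X.map f = tr X (leOfHom f.unop) := by
  congr 1

@[reassoc]
lemma tr_comp (X : PS C) {n m k : ℕ} (h : n ≤ m) (h' : m ≤ k) :
    tr X h' ≫ tr X h = tr X (h.trans h') := by
  rw [tr, tr, ← X.map_comp]
  congr 1

lemma tr_self (X : PS C) (n : ℕ) : tr X (le_refl n) = 𝟙 _ := by
  rw [tr]
  have : (homOfLE (le_refl n)).op = 𝟙 (op n : ℕᵒᵖ) := Subsingleton.elim _ _
  rw [this, X.map_id]

@[reassoc]
lemma naturality_tr {X Y : PS C} (u : X ⟶ Y) {n m : ℕ} (h : n ≤ m) :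
    u.app (op m) ≫ tr Y h = tr X h ≫ u.app (op n) :=
  (u.naturality _).symm

/-- The canonical map `X[r] ⟶ X`. -/
def shiftNat (X : PS C) (r : ℕ) : (shift C r).obj X ⟶ X where
  app n := shiftMap X r n.unop
  naturality := by
    intro n m f
    dsimp [shift, shiftMap, tr]
    rw [← X.map_comp, ← X.map_comp]
    congr 1

@[simp]
lemma shiftNat_app (X : PS C) (r n : ℕ) : (shiftNat X r).app (op n) = shiftMap X r n := rfl

lemma shift_obj_obj (X : PS C) (r n : ℕ) :
    ((shift C r).obj X).obj (op n) = X.obj (op (n + r)) := rfl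

lemma shift_obj_tr (X : PS C) (r : ℕ) {n m : ℕ} (h : n ≤ m) :
    tr ((shift C r).obj X) h = tr X (Nat.add_le_add_right h r) := by
  dsimp [shift, tr]
  congr 1

lemma shift_map_app {X Y : PS C} (u : X ⟶ Y) (r n : ℕ) :
    ((shift C r).map u).app (op n) = u.app (op (n + r)) := rfl

/-- Components of a map out of a translated system, with clean types. -/
def shiftApp {X Y : PS C} {r : ℕ} (f : (shift C r).obj X ⟶ Y) (n : ℕ) :
    X.obj (op (n + r)) ⟶ Y.obj (op n) := f.app (op n)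

lemma shiftApp_eq {X Y : PS C} {r : ℕ} (f : (shift C r).obj X ⟶ Y) (n : ℕ) :
    f.app (op n) = shiftApp f n := rfl

@[reassoc]
lemma shiftApp_naturality {X Y : PS C} {r : ℕ} (f : (shift C r).obj X ⟶ Y) {n m : ℕ}
    (h : n ≤ m) :
    shiftApp f m ≫ tr Y h = tr X (Nat.add_le_add_right h r) ≫ shiftApp f n := by
  have := naturality_tr f h
  rw [shift_obj_tr] at this
  exact this

/-- Components of a map into a translated system, with clean types. -/
def toShiftApp {X Y : PS C} {r : ℕ} (f : Y ⟶ (shift C r).obj X) (n : ℕ) :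
    Y.obj (op n) ⟶ X.obj (op (n + r)) := f.app (op n)

@[reassoc]
lemma toShiftApp_naturality {X Y : PS C} {r : ℕ} (f : Y ⟶ (shift C r).obj X) {n m : ℕ}
    (h : n ≤ m) :
    toShiftApp f m ≫ tr X (Nat.add_le_add_right h r) = tr Y h ≫ toShiftApp f n := by
  have := naturality_tr f h
  rw [shift_obj_tr] at this
  exact this

section Zero

variable [HasZeroMorphisms C]

lemma isARNull_def (X : PS C) :
    IsARNull X ↔ ∃ r : ℕ, ∀ n : ℕ, tr X (Nat.le_add_right n r) = 0 := Iff.rfl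

lemma isARNull_iff (X : PS C) :
    IsARNull X ↔ ∃ r : ℕ, ∀ (n m : ℕ) (h : n + r ≤ m),
      tr X ((Nat.le_add_right n r).trans h) = 0 := by
  constructor
  · rintro ⟨r, hr⟩
    refine ⟨r, fun n m h => ?_⟩
    rw [← tr_comp X (Nat.le_add_right n r) h]
    have : tr X (Nat.le_add_right n r) = 0 := hr n
    rw [this, comp_zero]
  · rintro ⟨r, hr⟩
    exact ⟨r, fun n => hr n (n + r) le_rfl⟩

lemma IsARNull.tr_eq_zero {X : PS C} {r : ℕ} (hr : ∀ n : ℕ, shiftMap X r n = 0)
    {n m : ℕ} (h : n + r ≤ m) : tr X ((Nat.le_add_right n r).trans h) = 0 := by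
  rw [← tr_comp X (Nat.le_add_right n r) h]
  have : tr X (Nat.le_add_right n r) = 0 := hr n
  rw [this, comp_zero]

lemma IsARNull.tr_eq_zero' {X : PS C} {r : ℕ} (hr : ∀ n : ℕ, shiftMap X r n = 0)
    {n m : ℕ} (h : n + r ≤ m) (h' : n ≤ m) : tr X h' = 0 :=
  IsARNull.tr_eq_zero hr h

end Zero

section Abelian

variable [Abelian C]

/-- Short exact sequences of systems are short exact termwise. -/
lemma shortExact_app {S : ShortComplex (PS C)} (hS : S.ShortExact) (n : ℕᵒᵖ) :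
    (S.map ((evaluation ℕᵒᵖ C).obj n)).ShortExact :=
  hS.map_of_exact _

lemma exact_app {S : ShortComplex (PS C)} (hS : S.Exact) (n : ℕᵒᵖ) :
    (S.map ((evaluation ℕᵒᵖ C).obj n)).Exact :=
  hS.map _

lemma mono_f_app {S : ShortComplex (PS C)} (hS : S.ShortExact) (n : ℕᵒᵖ) :
    Mono (S.f.app n) := (shortExact_app hS n).mono_f

lemma epi_g_app {S : ShortComplex (PS C)} (hS : S.ShortExact) (n : ℕᵒᵖ) :
    Epi (S.g.app n) := (shortExact_app hS n).epi_g

@[reassoc]
lemma zero_app (S : ShortComplex (PS C)) (n : ℕᵒᵖ) : S.f.app n ≫ S.g.app n = 0 := by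
  rw [← NatTrans.comp_app, S.zero]; rfl

lemma exists_lift_of_shortExact {S : ShortComplex (PS C)} (hS : S.ShortExact) (n : ℕᵒᵖ)
    {A : C} (k : A ⟶ S.X₂.obj n) (hk : k ≫ S.g.app n = 0) :
    ∃ l : A ⟶ S.X₁.obj n, l ≫ S.f.app n = k := by
  have h := shortExact_app hS n
  have : Mono (S.map ((evaluation ℕᵒᵖ C).obj n)).f := h.mono_f
  exact ⟨h.exact.lift k hk, h.exact.lift_f k hk⟩

lemma exists_desc_of_shortExact {S : ShortComplex (PS C)} (hS : S.ShortExact) (n : ℕᵒᵖ)
    {A : C} (k : S.X₂.obj n ⟶ A) (hk : S.f.app n ≫ k = 0) :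
    ∃ d : S.X₃.obj n ⟶ A, S.g.app n ≫ d = k := by
  have h := shortExact_app hS n
  have : Epi (S.map ((evaluation ℕᵒᵖ C).obj n)).g := h.epi_g
  exact ⟨h.exact.desc k hk, h.exact.g_desc k hk⟩

lemma exact_app_refine {S : ShortComplex (PS C)} (hS : S.Exact) (n : ℕᵒᵖ)
    {A : C} (x : A ⟶ S.X₂.obj n) (hx : x ≫ S.g.app n = 0) :
    ∃ (A' : C) (π : A' ⟶ A) (_ : Epi π) (x₁ : A' ⟶ S.X₁.obj n), π ≫ x = x₁ ≫ S.f.app n :=
  (exact_app hS n).exact_up_to_refinements x hx

end Abelian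

end Groth.Agent.H2.AR
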