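import Groth.Agent.Lib.Helper2.ARSysAdic4

set_option autoImplicit false
universe w v u
open CategoryTheory CategoryTheory.Limits Opposite

namespace Groth.Agent.H2.AR

open ARSys

variable {C : Type u} [Category.{v} C] [Abelian C] {A : Type w} [CommRing A] [Linear A C]

set_option linter.unusedSectionVars false

/-- Key property of systems that are adic up to translation: an element of `X_{M+ρ}` dying in
`X_{n+ρ}` has image in `X_M` lying in `J^{n+1} X_M`. -/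
lemma imLE_Φ_of_quasiInverse {J : Ideal A} {X Y : PS C} (hY : IsAdic J Y) (u : Y ⟶ X) {ρ : ℕ}
    (V : (shift C ρ).obj X ⟶ Y) (hV1 : V ≫ u = shiftNat X ρ)
    (hV2 : (shift C ρ).map u ≫ V = shiftNat Y ρ) {n M : ℕ} (hnM : n ≤ M)
    (d : QData C (J ^ (n + 1))) {B : C} (z : B ⟶ X.obj (op (M + ρ)))
    (hz : z ≫ tr X (Nat.add_le_add_right hnM ρ) = 0) :
    ImLE (z ≫ tr X (Nat.le_add_right M ρ)) (d.Φ (X.obj (op M))) := by
  have h1 : ∀ k : ℕ, shiftApp V k ≫ u.app (op k) = tr X (Nat.le_add_right k ρ) := fun k =>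
    congrArg (fun t => t.app (op k)) hV1
  have h2 : ∀ k : ℕ, u.app (op (k + ρ)) ≫ shiftApp V k = tr Y (Nat.le_add_right k ρ) :=
    fun k => congrArg (fun t => t.app (op k)) hV2
  have hepi : Epi (shiftApp V M) := by
    have : Epi (u.app (op (M + ρ)) ≫ shiftApp V M) := by
      rw [h2 M]; exact isAdic_epi_tr hY _
    exact epi_of_epi (u.app (op (M + ρ))) _
  have h3 : (z ≫ shiftApp V M) ≫ tr Y hnM = 0 := by
    rw [Category.assoc, shiftApp_naturality V hnM, reassoc_of% hz, zero_comp]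
  have h4 : ImLE (z ≫ shiftApp V M) (d.Φ _) := (d.comp_eq_zero_iff (hY.2 n M hnM) _).1 h3
  obtain ⟨B₂, π₂, hπ₂, z', hz', hz''⟩ := d.imLE_Φ_lift (shiftApp V M) h4
  have h5 : (π₂ ≫ z - z') ≫ tr X (Nat.le_add_right M ρ) = 0 := by
    rw [← h1 M, ← Category.assoc, Preadditive.sub_comp, Category.assoc, hz'', sub_self,
      zero_comp]
  rw [Preadditive.sub_comp, sub_eq_zero, Category.assoc] at h5
  apply ImLE.of_epi_comp π₂
  rw [h5]
  exact d.imLE_Φ_postcomp _ hz'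

/-- `S3156`. -/
theorem isMLAR_X₁_of_shortExact (J : Ideal A) (hJ : J.FG ∨ HasCoproducts.{w} C)
    {S : ShortComplex (PS C)} (hS : S.ShortExact) (k₂ : TermKilled J S.X₂)
    (h₂ : IsMLAR S.X₂) (h₃ : IsARAdic J S.X₃) : IsMLAR S.X₁ := by
  obtain ⟨-, Y, u, hY, hu⟩ := h₃
  obtain ⟨ρ, V, hV1, hV2, -⟩ := exists_quasiInverse' u hu
  obtain ⟨r₂, hr₂⟩ := (isMLAR_iff _).1 h₂
  refine (isMLAR_iff _).2 ⟨ρ + r₂, fun n k M hk hM => ?_⟩
  obtain ⟨d⟩ := nonempty_qData (C := C) hJ (n + 1)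
  have hn'k : n + ρ + r₂ ≤ k := by omega
  have hn'm : n + ρ ≤ M + ρ := by omega
  -- Step 2: uniform Mittag-Leffler for `X₂` at level `n + ρ`
  obtain ⟨B₁, π₁, hπ₁, y, hy⟩ :=
    (hr₂ (n + ρ) k (M + ρ) hn'k hn'm).precomp (S.f.app (op k))
  -- Step 3
  have h3 : (y ≫ S.g.app (op (M + ρ))) ≫ tr S.X₃ hn'm = 0 := by
    rw [Category.assoc, naturality_tr S.g hn'm, ← reassoc_of% hy,
      ← naturality_tr S.g ((Nat.le_add_right (n + ρ) r₂).trans hn'k), zero_app_assoc,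
      zero_comp, comp_zero]
  -- Step 5
  have h5 := imLE_Φ_of_quasiInverse hY u V hV1 hV2 hM d _ h3
  rw [Category.assoc, naturality_tr S.g (Nat.le_add_right M ρ), ← Category.assoc] at h5
  -- Step 6
  obtain ⟨B₂, π₂, hπ₂, z₂, x₁', hz₂, hzx⟩ := exists_sub_of_imLE_Φ d hS M _ h5
  have hz0 : z₂ ≫ tr S.X₂ hM = 0 :=
    d.imLE_Φ_comp_eq_zero (homKilledBy_of_target (k₂ n) _) hz₂
  have : Mono (S.f.app (op n)) := mono_f_app hS _
  refine ⟨B₂, π₂ ≫ π₁, epi_comp _ _, x₁', ?_⟩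
  rw [← cancel_mono (S.f.app (op n)), Category.assoc, Category.assoc, Category.assoc,
    ← naturality_tr S.f hM, ← naturality_tr S.f ((Nat.le_add_right n (ρ + r₂)).trans hk)]
  have e1 : x₁' ≫ S.f.app (op M) = π₂ ≫ y ≫ tr S.X₂ (Nat.le_add_right M ρ) - z₂ := by
    rw [hzx]; abel
  rw [reassoc_of% e1, Preadditive.sub_comp, hz0, sub_zero, Category.assoc, Category.assoc,
    tr_comp]
  have e2 : tr S.X₂ ((Nat.le_add_right n (ρ + r₂)).trans hk) =
      tr S.X₂ ((Nat.le_add_right (n + ρ) r₂).trans hn'k) ≫ tr S.X₂ (Nat.le_add_right n ρ) := by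
    rw [tr_comp]
  have e3 : tr S.X₂ (hM.trans (Nat.le_add_right M ρ)) =
      tr S.X₂ hn'm ≫ tr S.X₂ (Nat.le_add_right n ρ) := by
    rw [tr_comp]
  rw [e2, e3, reassoc_of% hy]

end Groth.Agent.H2.AR
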