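import Groth.Agent.Lib.Helper2.ARSysLin

set_option autoImplicit false
universe w v u
open CategoryTheory CategoryTheory.Limits Opposite

namespace Groth.Agent.H2.AR

open ARSys

variable {C : Type u} [Category.{v} C] [Abelian C]

set_option linter.unusedSectionVars false

lemma imageSubobject_le_iff_factors {A B : C} (f : A ⟶ B) (S : Subobject B) :
    imageSubobject f ≤ S ↔ S.Factors f := by
  constructor
  · intro h
    have h1 : (imageSubobject f).Factors f := by
      have := imageSubobject_factors_comp_self (f := f) (𝟙 A)
      rwa [Category.id_comp] at this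
    exact Subobject.factors_of_le f h h1
  · intro h
    exact imageSubobject_le f (S.factorThru f h) (S.factorThru_arrow f h)

lemma Fsub_factors_iff (X : PS C) (q n : ℕ) {A : C} (x : A ⟶ X.obj (op n)) :
    (Fsub X q n).Factors x ↔ ∀ (k : ℕ) (hk : k ≤ n), k < q → x ≫ tr X hk = 0 := by
  cases q with
  | zero =>
    simp only [Fsub]
    constructor
    · intro _ k hk hkq
      omega
    · intro _
      exact Subobject.top_factors x
  | succ j =>
    by_cases hj : j ≤ n
    · have h1 : Fsub X (j + 1) n = kernelSubobject (tr X hj) := by
        simp only [Fsub, dif_pos hj]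
      rw [h1, kernelSubobject_factors_iff]
      constructor
      · intro h k hk hkq
        have hkj : k ≤ j := by omega
        rw [← tr_comp X hkj hj, reassoc_of% h, zero_comp]
      · intro h
        exact h j hj (Nat.lt_succ_self j)
    · have h1 : Fsub X (j + 1) n = ⊥ := by
        simp only [Fsub, dif_neg hj]
      rw [h1, Subobject.bot_factors_iff_zero]
      constructor
      · rintro rfl k hk hkq
        rw [zero_comp]
      · intro h
        have := h n le_rfl (by omega)
        rwa [tr_self, Category.comp_id] at this

lemma Fsub_arrow_comp_tr (X : PS C) (q n : ℕ) (k : ℕ) (hk : k ≤ n) (hkq : k < q) :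
    (Fsub X q n).arrow ≫ tr X hk = 0 := by
  have h : (Fsub X q n).Factors (Fsub X q n).arrow := Subobject.factors_self _
  exact (Fsub_factors_iff X q n _).1 h k hk hkq

end Groth.Agent.H2.AR
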