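import Groth.Agent.Lib.Helper2.ARSysSerre
import Groth.Agent.Lib.Helper2.ARSysF

set_option autoImplicit false
universe w v u
open CategoryTheory CategoryTheory.Limits Opposite

namespace Groth.Agent.H2.AR

open ARSys

variable {C : Type u} [Category.{v} C] [Abelian C] {A : Type w} [CommRing A] [Linear A C]

set_option linter.unusedSectionVars false

lemma isAdic_epi_tr {J : Ideal A} {X : PS C} (hX : IsAdic J X) {n m : ℕ} (h : n ≤ m) :
    Epi (tr X h) := isQuot_epi (hX.2 n m h)

lemma isAdic_isStrict {J : Ideal A} {X : PS C} (hX : IsAdic J X) : IsStrict X :=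
  fun _ _ h => isAdic_epi_tr hX h

/-- `S13607`: maps from a translate of an adic system into a termwise killed system factor
uniquely through the canonical translation map. -/
theorem exists_unique_factor_shift (J : Ideal A) (X Y : PS C) (hX : IsAdic J X)
    (hY : TermKilled J Y) (r : ℕ) (f : (shift C r).obj X ⟶ Y) :
    ∃! g : X ⟶ Y, f = shiftNat X r ≫ g := by
  have hq : ∀ n : ℕ, IsQuot (J ^ (n + 1)) (tr X (Nat.le_add_right n r)) :=
    fun n => hX.2 n (n + r) _
  have hepi : ∀ n : ℕ, Epi (tr X (Nat.le_add_right n r)) := fun n => isQuot_epi (hq n)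
  have hex : ∀ n : ℕ, ∃ g : X.obj (op n) ⟶ Y.obj (op n),
      tr X (Nat.le_add_right n r) ≫ g = shiftApp f n := fun n =>
    isQuot_exists_desc_of_killedBy (hq n) _ (hY n)
  choose g hg using hex
  have hnat : ∀ (n m : ℕ) (h : n ≤ m), g m ≫ tr Y h = tr X h ≫ g n := by
    intro n m h
    have := hepi m
    rw [← cancel_epi (tr X (Nat.le_add_right m r)), reassoc_of% (hg m),
      shiftApp_naturality f h, ← hg n, tr_comp_assoc, tr_comp_assoc]
  refine ⟨{ app := fun n => g n.unop
            naturality := ?_ }, ?_, ?_⟩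
  · intro n m φ
    have hmn : m.unop ≤ n.unop := leOfHom φ.unop
    rw [map_eq_tr X φ, map_eq_tr Y φ]
    exact (hnat m.unop n.unop hmn).symm
  · ext ⟨n⟩
    exact (hg n).symm
  · intro g' hg'
    ext ⟨n⟩
    have := hepi n
    rw [← cancel_epi (tr X (Nat.le_add_right n r))]
    change tr X (Nat.le_add_right n r) ≫ g'.app (op n) = tr X (Nat.le_add_right n r) ≫ g n
    rw [hg n]
    exact (congrArg (fun t => t.app (op n)) hg').symm

/-- `S3178`. -/
theorem exists_isARIso_of_shift (J : Ideal A) (X Y : PS C) (kX : TermKilled J X)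
    (hY : IsAdic J Y) (r : ℕ) (v : (shift C r).obj Y ⟶ X) (hv : IsARIso v) :
    ∃ u : Y ⟶ X, IsARIso u := by
  obtain ⟨g, hg, -⟩ := exists_unique_factor_shift J Y X hY kX r v
  refine ⟨g, ?_⟩
  rw [hg] at hv
  exact IsARIso.of_precomp (isARIso_shiftNat Y r) hv

/-- `S3152`: a quotient of an adic system by a strict subsystem is adic. -/
theorem isAdic_of_shortExact_strict (J : Ideal A) {S : ShortComplex (PS C)} (hS : S.ShortExact)
    (h₁ : IsStrict S.X₁) (h₂ : IsAdic J S.X₂) : IsAdic J S.X₃ := by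
  have hepig : ∀ n : ℕ, Epi (S.g.app (op n)) := fun n => epi_g_app hS _
  refine ⟨fun n => ?_, fun n m h => ?_⟩
  · have := hepig n
    exact killedBy_of_epi (h₂.1 n) (S.g.app (op n))
  · have hq := h₂.2 n m h
    have he1 : Epi (tr S.X₂ h) := isQuot_epi hq
    have he2 := hepig n
    have he3 := hepig m
    have he4 : Epi (tr S.X₁ h) := h₁ n m h
    rw [isQuot_iff_epi]
    refine ⟨?_, ?_, fun Y φ hφ => ?_⟩
    · exact killedBy_of_epi (h₂.1 n) (S.g.app (op n))
    · have : Epi (S.g.app (op m) ≫ tr S.X₃ h) := by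
        rw [naturality_tr S.g h]; exact epi_comp _ _
      exact epi_of_epi (S.g.app (op m)) _
    · obtain ⟨ψ', hψ'⟩ := isQuot_exists_desc hq (S.g.app (op m) ≫ φ)
        (homKilledBy_comp_left hφ _)
      have h0 : S.f.app (op n) ≫ ψ' = 0 := by
        rw [← cancel_epi (tr S.X₁ h), comp_zero, ← naturality_tr_assoc S.f h, hψ',
          zero_app_assoc, zero_comp]
      obtain ⟨ψ, hψ⟩ := exists_desc_of_shortExact hS _ ψ' h0
      refine ⟨ψ, ?_⟩
      rw [← cancel_epi (S.g.app (op m)), naturality_tr_assoc S.g h, hψ, hψ']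

end Groth.Agent.H2.AR
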