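import Groth.Agent.Lib.Helper2.ARSysAdic

set_option autoImplicit false
universe w v u
open CategoryTheory CategoryTheory.Limits Opposite

namespace Groth.Agent.H2.AR

open ARSys

variable {C : Type u} [Category.{v} C] [Abelian C] {A : Type w} [CommRing A] [Linear A C]

set_option linter.unusedSectionVars false

/-- The kernel of `Y ⟶ X₂ ⟶ X₃` is isomorphic up to translation to `X₁`
when `Y ⟶ X₂` is an isomorphism up to translation. -/
lemma isARIso_kernel_to_X₁ {S : ShortComplex (PS C)} (hS : S.ShortExact) {Y : PS C}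
    (u : Y ⟶ S.X₂) (hu : IsARIso u) (t : kernel (u ≫ S.g) ⟶ S.X₁)
    (ht : t ≫ S.f = kernel.ι (u ≫ S.g) ≫ u) : IsARIso t := by
  rw [isARIso_iff]
  obtain ⟨⟨k, hk⟩, ⟨c, hc⟩⟩ := (isARIso_iff u).1 hu
  have ht' : ∀ n : ℕ, t.app (op n) ≫ S.f.app (op n) =
      (kernel.ι (u ≫ S.g)).app (op n) ≫ u.app (op n) := fun n =>
    congrArg (fun s => s.app (op n)) ht
  constructor
  · refine ⟨k, fun n B x hx => ?_⟩
    have h1 : (x ≫ (kernel.ι (u ≫ S.g)).app (op (n + k))) ≫ u.app (op (n + k)) = 0 := by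
      rw [Category.assoc, ← ht', reassoc_of% hx, zero_comp]
    have h2 := hk n B _ h1
    rw [← cancel_mono ((kernel.ι (u ≫ S.g)).app (op n)), zero_comp, Category.assoc,
      ← naturality_tr, ← Category.assoc]
    exact h2
  · refine ⟨c, fun n => ?_⟩
    have : Mono (S.f.app (op n)) := mono_f_app hS _
    apply ImLE.of_postcomp_mono (S.f.app (op n))
    rw [← naturality_tr S.f (Nat.le_add_right n c)]
    obtain ⟨B, π, hπ, y, hy⟩ := (hc n).precomp (S.f.app (op (n + c)))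
    have h0 : y ≫ (u ≫ S.g).app (op n) = 0 := by
      rw [NatTrans.comp_app, ← reassoc_of% hy, ← naturality_tr S.g (Nat.le_add_right n c),
        zero_app_assoc, zero_comp, comp_zero]
    obtain ⟨κ, hκ⟩ := exists_lift_kernel_app (u ≫ S.g) (op n) y h0
    refine ⟨B, π, hπ, κ, ?_⟩
    rw [hy, ← hκ, Category.assoc, ← ht']

/-- `S3155`. -/
theorem isARAdic_X₃_of_shortExact (J : Ideal A) {S : ShortComplex (PS C)} (hS : S.ShortExact)
    (k₃ : TermKilled J S.X₃) (h₁ : IsMLAR S.X₁) (h₂ : IsARAdic J S.X₂) : IsARAdic J S.X₃ := by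
  obtain ⟨-, Y, u, hY, hu⟩ := h₂
  obtain ⟨-, ⟨c, hc⟩⟩ := (isARIso_iff u).1 hu
  have hK0 : (kernel.ι (u ≫ S.g) ≫ u) ≫ S.g = 0 := by
    rw [Category.assoc]; exact kernel.condition (u ≫ S.g)
  let t : kernel (u ≫ S.g) ⟶ S.X₁ := hS.fIsKernel.lift (KernelFork.ofι _ hK0)
  have ht : t ≫ S.f = kernel.ι (u ≫ S.g) ≫ u := hS.fIsKernel.fac _ WalkingParallelPair.zero
  have htiso : IsARIso t := isARIso_kernel_to_X₁ hS u hu t ht
  have hKML : IsMLAR (kernel (u ≫ S.g)) := (isMLAR_iff_of_isARIso t htiso).2 h₁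
  obtain ⟨r, hr⟩ := (isMLAR_iff _).1 hKML
  -- the strict subsystem `K'` of `K`
  let j := imageSysι (kernel (u ≫ S.g)) r
  let ι := kernel.ι (u ≫ S.g)
  have hmono : Mono (j ≫ ι) := mono_comp _ _
  let S' : ShortComplex (PS C) := ShortComplex.mk (j ≫ ι) (cokernel.π (j ≫ ι))
    (cokernel.condition _)
  have hS' : S'.ShortExact :=
    { exact := ShortComplex.exact_cokernel (j ≫ ι)
      mono_f := hmono
      epi_g := inferInstanceAs (Epi (cokernel.π (j ≫ ι))) }
  have hadic : IsAdic J (cokernel (j ≫ ι)) :=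
    isAdic_of_shortExact_strict J hS' (isStrict_imageSys _ r hr) hY
  have hw0 : (j ≫ ι) ≫ (u ≫ S.g) = 0 := by
    rw [Category.assoc, kernel.condition, comp_zero]
  let wbar : cokernel (j ≫ ι) ⟶ S.X₃ := cokernel.desc (j ≫ ι) (u ≫ S.g) hw0
  have hwbar : ∀ n : ℕ, (cokernel.π (j ≫ ι)).app (op n) ≫ wbar.app (op n) =
      u.app (op n) ≫ S.g.app (op n) := fun n => by
    rw [← NatTrans.comp_app, cokernel.π_desc]; rfl
  refine ⟨k₃, cokernel (j ≫ ι), wbar, hadic, ?_⟩
  rw [isARIso_iff]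
  constructor
  · refine ⟨r, fun n B x hx => ?_⟩
    obtain ⟨B', p, hp, y, hy⟩ :=
      surjective_up_to_refinements_of_epi ((cokernel.π (j ≫ ι)).app (op (n + r))) x
    have h0 : y ≫ (u ≫ S.g).app (op (n + r)) = 0 := by
      rw [NatTrans.comp_app, ← hwbar, ← reassoc_of% hy, hx, comp_zero]
    obtain ⟨κ, hκ⟩ := exists_lift_kernel_app (u ≫ S.g) (op (n + r)) y h0
    obtain ⟨B'', p', hp', z, hz⟩ :=
      (imLE_tr_imageSysι (kernel (u ≫ S.g)) r n).precomp κ
    rw [← cancel_epi p, ← cancel_epi p', comp_zero, comp_zero, reassoc_of% hy,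
      naturality_tr (cokernel.π (j ≫ ι)) (Nat.le_add_right n r), ← hκ, Category.assoc,
      naturality_tr_assoc (kernel.ι (u ≫ S.g)) (Nat.le_add_right n r),
      reassoc_of% hz]
    have h5 : j.app (op n) ≫ ι.app (op n) ≫ (cokernel.π (j ≫ ι)).app (op n) = 0 := by
      rw [← NatTrans.comp_app, ← NatTrans.comp_app, ← Category.assoc, cokernel.condition]; rfl
    rw [h5, comp_zero]
  · refine ⟨c, fun n => ?_⟩
    have : Epi (S.g.app (op (n + c))) := epi_g_app hS _
    apply ImLE.of_epi_comp (S.g.app (op (n + c)))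
    rw [naturality_tr S.g (Nat.le_add_right n c)]
    refine ((hc n).postcomp (S.g.app (op n))).trans ?_
    rw [← hwbar]
    exact ImLE.comp_self _ _

end Groth.Agent.H2.AR
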