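import Groth.Agent.Lib.Helper2.ARSysQuot

set_option autoImplicit false
universe w v u
open CategoryTheory CategoryTheory.Limits Opposite

namespace Groth.Agent.H2.AR

open ARSys

variable {C : Type u} [Category.{v} C] [Abelian C] {A : Type w} [CommRing A] [Linear A C]

set_option linter.unusedSectionVars false

/-- Lifting an element of `X₂` whose image in `X₃` lies in `I X₃`: it is congruent modulo `I X₂`
to an element of `X₁`. -/
lemma exists_sub_of_imLE_Φ {I : Ideal A} (d : QData C I) {S : ShortComplex (PS C)}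
    (hS : S.ShortExact) (m : ℕ) {B : C} (x : B ⟶ S.X₂.obj (op m))
    (hx : ImLE (x ≫ S.g.app (op m)) (d.Φ (S.X₃.obj (op m)))) :
    ∃ (B' : C) (π : B' ⟶ B) (_ : Epi π) (z : B' ⟶ S.X₂.obj (op m))
      (x₁ : B' ⟶ S.X₁.obj (op m)), ImLE z (d.Φ (S.X₂.obj (op m))) ∧
        π ≫ x = z + x₁ ≫ S.f.app (op m) := by
  have : Epi (S.g.app (op m)) := epi_g_app hS _
  obtain ⟨B₂, π₂, hπ₂, z, hz, hz'⟩ := d.imLE_Φ_lift (S.g.app (op m)) hx
  have h0 : (π₂ ≫ x - z) ≫ S.g.app (op m) = 0 := by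
    rw [Preadditive.sub_comp, Category.assoc, hz', sub_self]
  obtain ⟨B₃, π₃, hπ₃, x₁, hx₁⟩ := exact_app_refine hS.exact (op m) _ h0
  refine ⟨B₃, π₃ ≫ π₂, epi_comp _ _, π₃ ≫ z, x₁, hz.precomp _, ?_⟩
  rw [← hx₁, Preadditive.comp_sub, Category.assoc]
  abel

/-- `S3153`. -/
theorem isStrict_X₁_of_shortExact (J : Ideal A) (hJ : J.FG ∨ HasCoproducts.{w} C)
    {S : ShortComplex (PS C)} (hS : S.ShortExact) (k₂ : TermKilled J S.X₂)
    (h₂ : IsStrict S.X₂) (h₃ : IsAdic J S.X₃) : IsStrict S.X₁ := by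
  intro n m h
  obtain ⟨d⟩ := nonempty_qData (C := C) hJ (n + 1)
  rw [epi_iff_forall_imLE]
  intro B x'
  have he : Epi (tr S.X₂ h) := h₂ n m h
  obtain ⟨B₁, π₁, hπ₁, x, hx⟩ := surjective_up_to_refinements_of_epi (tr S.X₂ h)
    (x' ≫ S.f.app (op n))
  have h1 : (x ≫ S.g.app (op m)) ≫ tr S.X₃ h = 0 := by
    rw [Category.assoc, naturality_tr S.g h, ← reassoc_of% hx, zero_app,
      comp_zero, comp_zero]
  have h2 : ImLE (x ≫ S.g.app (op m)) (d.Φ (S.X₃.obj (op m))) :=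
    (d.comp_eq_zero_iff (h₃.2 n m h) _).1 h1
  obtain ⟨B₂, π₂, hπ₂, z, x₁, hz, hzx⟩ := exists_sub_of_imLE_Φ d hS m x h2
  have hz0 : z ≫ tr S.X₂ h = 0 :=
    d.imLE_Φ_comp_eq_zero (homKilledBy_of_target (k₂ n) _) hz
  have : Mono (S.f.app (op n)) := mono_f_app hS _
  refine ⟨B₂, π₂ ≫ π₁, epi_comp _ _, x₁, ?_⟩
  rw [← cancel_mono (S.f.app (op n)), Category.assoc, Category.assoc, hx, ← Category.assoc π₂,
    hzx, Preadditive.add_comp, hz0, zero_add, Category.assoc, Category.assoc,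
    naturality_tr S.f h]

end Groth.Agent.H2.AR

namespace Groth.Agent.H2.AR

open ARSys

variable {C : Type u} [Category.{v} C] [Abelian C] {A : Type w} [CommRing A] [Linear A C]

set_option linter.unusedSectionVars false

/-- In a short exact sequence of systems, transition maps of the middle term are epi when those
of the outer terms are. -/
lemma epi_tr_X₂ {S : ShortComplex (PS C)} (hS : S.ShortExact) {n m : ℕ} (h : n ≤ m)
    (h₁ : Epi (tr S.X₁ h)) (h₃ : Epi (tr S.X₃ h)) : Epi (tr S.X₂ h) := by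
  rw [epi_iff_forall_imLE]
  intro B y
  have : Epi (S.g.app (op m)) := epi_g_app hS _
  have h1 : ImLE (y ≫ S.g.app (op n)) (tr S.X₂ h ≫ S.g.app (op n)) := by
    rw [← naturality_tr S.g h]
    exact imLE_of_epi _ _
  obtain ⟨B', π, hπ, c', x, hx⟩ := exists_add_of_exact_app hS.exact (op n) h1
  apply ImLE.of_epi_comp π
  rw [hx]
  apply ImLE.add
  · exact ImLE.comp_self _ _
  · have h2 : ImLE x (tr S.X₁ h) := imLE_of_epi _ _
    refine (h2.postcomp (S.f.app (op n))).trans ?_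
    rw [← naturality_tr S.f h]
    exact ImLE.comp_self _ _

/-- `S3154`. -/
theorem isAdic_X₂_of_shortExact (J : Ideal A) (hJ : J.FG ∨ HasCoproducts.{w} C)
    {S : ShortComplex (PS C)} (hS : S.ShortExact) (k₂ : TermKilled J S.X₂)
    (h₁ : IsAdic J S.X₁) (h₃ : IsAdic J S.X₃) : IsAdic J S.X₂ := by
  refine ⟨k₂, fun n m h => ?_⟩
  obtain ⟨d⟩ := nonempty_qData (C := C) hJ (n + 1)
  rw [d.isQuot_iff]
  refine ⟨k₂ n, epi_tr_X₂ hS h (isAdic_epi_tr h₁ h) (isAdic_epi_tr h₃ h), fun B x hx => ?_⟩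
  have h1 : (x ≫ S.g.app (op m)) ≫ tr S.X₃ h = 0 := by
    rw [Category.assoc, naturality_tr S.g h, reassoc_of% hx, zero_comp]
  have h2 : ImLE (x ≫ S.g.app (op m)) (d.Φ (S.X₃.obj (op m))) :=
    (d.comp_eq_zero_iff (h₃.2 n m h) _).1 h1
  obtain ⟨B₂, π₂, hπ₂, z, x₁, hz, hzx⟩ := exists_sub_of_imLE_Φ d hS m x h2
  have hz0 : z ≫ tr S.X₂ h = 0 :=
    d.imLE_Φ_comp_eq_zero (homKilledBy_of_target (k₂ n) _) hz
  have : Mono (S.f.app (op n)) := mono_f_app hS _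
  have hx₁ : x₁ ≫ tr S.X₁ h = 0 := by
    rw [← cancel_mono (S.f.app (op n)), zero_comp, Category.assoc, ← naturality_tr S.f h]
    have h3 : x₁ ≫ S.f.app (op m) = π₂ ≫ x - z := by rw [hzx]; abel
    rw [reassoc_of% h3, Preadditive.sub_comp, Category.assoc, hx, hz0, comp_zero, sub_zero]
  have h4 : ImLE x₁ (d.Φ (S.X₁.obj (op m))) := (d.comp_eq_zero_iff (h₁.2 n m h) _).1 hx₁
  apply ImLE.of_epi_comp π₂
  rw [hzx]
  exact hz.add (d.imLE_Φ_postcomp _ h4)

end Groth.Agent.H2.AR
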