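import Groth.Agent.Lib.Helper2.ARSysAdic3

set_option autoImplicit false
universe w v u
open CategoryTheory CategoryTheory.Limits Opposite

namespace Groth.Agent.H2.AR

open ARSys

variable {C : Type u} [Category.{v} C] [Abelian C] {A : Type w} [CommRing A] [Linear A C]

set_option linter.unusedSectionVars false

/-- A termwise quotient map `X[r] ⟶ Y` (modulo `J^{n+1}`) onto an adic system, for a termwise
killed `X`, is an isomorphism up to translation. -/
lemma isARIso_of_termwise_quot (J : Ideal A) (hJ : J.FG ∨ HasCoproducts.{w} C) (X : PS C)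
    (kX : TermKilled J X) (r : ℕ) (Y : PS C) (q : (shift C r).obj X ⟶ Y)
    (hq : ∀ n : ℕ, IsQuot (J ^ (n + 1)) (q.app (op n))) : IsARIso q := by
  have hepi : Epi q := by
    rw [NatTrans.epi_iff_epi_app]
    rintro ⟨n⟩
    exact isQuot_epi (hq n)
  apply isARIso_of_epi
  rw [isARNull_kernel_iff]
  refine ⟨r, fun n B x hx => ?_⟩
  obtain ⟨d⟩ := nonempty_qData (C := C) hJ (n + r + 1)
  have h1 : ImLE x (d.Φ _) := (d.comp_eq_zero_iff (hq (n + r)) x).1 hx
  rw [shift_obj_tr]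
  exact d.imLE_Φ_comp_eq_zero (homKilledBy_of_target (kX (n + r)) _) h1

/-- `S3157`. -/
theorem isARAdic_iff_exists_termwise_quot (J : Ideal A) (hJ : J.FG ∨ HasCoproducts.{w} C)
    (X : PS C) (hX : IsStrict X) (kX : TermKilled J X) :
    IsARAdic J X ↔ ∃ (r : ℕ) (Y : PS C) (q : (shift C r).obj X ⟶ Y),
      (∀ n : ℕ, IsQuot (J ^ (n + 1)) (q.app (op n))) ∧ IsAdic J Y := by
  constructor
  · rintro ⟨-, Y, u, hY, hu⟩
    obtain ⟨ρ, V, hV1, hV2, -⟩ := exists_quasiInverse' u hu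
    have h1 : ∀ n : ℕ, shiftApp V n ≫ u.app (op n) = tr X (Nat.le_add_right n ρ) := fun n =>
      congrArg (fun t => t.app (op n)) hV1
    have h2 : ∀ n : ℕ, u.app (op (n + ρ)) ≫ shiftApp V n = tr Y (Nat.le_add_right n ρ) :=
      fun n => congrArg (fun t => t.app (op n)) hV2
    refine ⟨ρ, Y, V, fun n => ?_, hY⟩
    obtain ⟨d⟩ := nonempty_qData (C := C) hJ (n + 1)
    have hepi : ∀ k : ℕ, Epi (shiftApp V k) := fun k => by
      have : Epi (u.app (op (k + ρ)) ≫ shiftApp V k) := by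
        rw [h2 k]; exact isAdic_epi_tr hY _
      exact epi_of_epi (u.app (op (k + ρ))) _
    change IsQuot (J ^ (n + 1)) (shiftApp V n)
    rw [d.isQuot_iff]
    refine ⟨hY.1 n, hepi n, fun B x hx => ?_⟩
    have hstrict : Epi (tr X (Nat.le_add_right (n + ρ) ρ)) := hX _ _ _
    obtain ⟨B₁, π₁, hπ₁, xt, hxt⟩ := surjective_up_to_refinements_of_epi
      (tr X (Nat.le_add_right (n + ρ) ρ)) x
    have h3 : (xt ≫ shiftApp V (n + ρ)) ≫ tr Y (Nat.le_add_right n ρ) = 0 := by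
      rw [Category.assoc, shiftApp_naturality V (Nat.le_add_right n ρ), ← reassoc_of% hxt, hx,
        comp_zero]
    have h4 : ImLE (xt ≫ shiftApp V (n + ρ)) (d.Φ _) :=
      (d.comp_eq_zero_iff (hY.2 n (n + ρ) _) _).1 h3
    have := hepi (n + ρ)
    obtain ⟨B₂, π₂, hπ₂, z, hz, hz'⟩ := d.imLE_Φ_lift (shiftApp V (n + ρ)) h4
    have h5 : (π₂ ≫ xt - z) ≫ tr X (Nat.le_add_right (n + ρ) ρ) = 0 := by
      rw [← h1 (n + ρ), ← Category.assoc, Preadditive.sub_comp, Category.assoc, hz', sub_self,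
        zero_comp]
    rw [Preadditive.sub_comp, sub_eq_zero, Category.assoc, ← hxt] at h5
    apply ImLE.of_epi_comp π₁
    apply ImLE.of_epi_comp π₂
    rw [h5]
    exact d.imLE_Φ_postcomp _ hz
  · rintro ⟨r, Y, q, hq, hY⟩
    refine ⟨kX, ?_⟩
    have hqiso : IsARIso q := isARIso_of_termwise_quot J hJ X kX r Y q hq
    obtain ⟨ρ, V, hV1, hV2, hV⟩ := exists_quasiInverse' q hqiso
    have h6 : IsARIso (V ≫ shiftNat X r) := IsARIso.comp hV (isARIso_shiftNat X r)
    obtain ⟨u, hu⟩ := exists_isARIso_of_shift J X Y kX hY ρ _ h6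
    exact ⟨Y, u, hY, hu⟩

end Groth.Agent.H2.AR
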