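import Groth.Agent.Lib.Helper2.ARSysAdic5
import Mathlib.CategoryTheory.Functor.OfSequence

set_option autoImplicit false
universe w v u
open CategoryTheory CategoryTheory.Limits Opposite

namespace Groth.Agent.H2.AR

open ARSys

variable {C : Type u} [Category.{v} C] [Abelian C] {A : Type w} [CommRing A] [Linear A C]

set_option linter.unusedSectionVars false

/-- `x` is an element of `I X`: every morphism out of `X` killed by `I` kills `x`. -/
def InIdeal (I : Ideal A) {B X : C} (x : B ⟶ X) : Prop :=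
  ∀ (Y : C) (φ : X ⟶ Y), HomKilledBy I φ → x ≫ φ = 0

lemma subLEIdeal_iff (I : Ideal A) {X : C} (S : Subobject X) :
    SubLEIdeal I S ↔ InIdeal I S.arrow := Iff.rfl

lemma inIdeal_iff {I : Ideal A} (d : QData C I) {B X : C} (x : B ⟶ X) :
    InIdeal I x ↔ ImLE x (d.Φ X) := by
  constructor
  · intro h
    rw [imLE_iff_comp_cokernel]
    exact h _ _ (isQuot_homKilledBy (d.isQuot_cokernel X))
  · intro h Y φ hφ
    exact d.imLE_Φ_comp_eq_zero hφ h

lemma inIdeal_mono {I I' : Ideal A} (h : I ≤ I') {B X : C} {x : B ⟶ X} (hx : InIdeal I x) :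
    InIdeal I' x := fun Y φ hφ => hx Y φ (homKilledBy_mono_ideal h hφ)

lemma inIdeal_precomp {I : Ideal A} {B B' X : C} {x : B ⟶ X} (hx : InIdeal I x) (c : B' ⟶ B) :
    InIdeal I (c ≫ x) := fun Y φ hφ => by rw [Category.assoc, hx Y φ hφ, comp_zero]

lemma inIdeal_postcomp {I : Ideal A} {B X X' : C} {x : B ⟶ X} (hx : InIdeal I x) (f : X ⟶ X') :
    InIdeal I (x ≫ f) := fun Y φ hφ => by
  rw [Category.assoc]; exact hx Y (f ≫ φ) (homKilledBy_comp_left hφ f)

lemma inIdeal_of_epi_comp {I : Ideal A} {B B' X : C} {x : B ⟶ X} (π : B' ⟶ B) [Epi π]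
    (hx : InIdeal I (π ≫ x)) : InIdeal I x := fun Y φ hφ => by
  rw [← cancel_epi π, comp_zero, ← Category.assoc]; exact hx Y φ hφ

lemma inIdeal_add {I : Ideal A} {B X : C} {x y : B ⟶ X} (hx : InIdeal I x) (hy : InIdeal I y) :
    InIdeal I (x + y) := fun Y φ hφ => by
  rw [Preadditive.add_comp, hx Y φ hφ, hy Y φ hφ, add_zero]

lemma inIdeal_sub {I : Ideal A} {B X : C} {x y : B ⟶ X} (hx : InIdeal I x) (hy : InIdeal I y) :
    InIdeal I (x - y) := fun Y φ hφ => by
  rw [Preadditive.sub_comp, hx Y φ hφ, hy Y φ hφ, sub_zero]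

lemma inIdeal_zero (I : Ideal A) {B X : C} : InIdeal I (0 : B ⟶ X) := fun _ _ _ => zero_comp

lemma inIdeal_top {B X : C} (x : B ⟶ X) : InIdeal (⊤ : Ideal A) x := fun Y φ hφ => by
  have := hφ 1 Submodule.mem_top
  rw [one_smul] at this
  rw [this, comp_zero]

lemma inIdeal_of_imLE {I : Ideal A} {B B' X : C} {x : B ⟶ X} {y : B' ⟶ X} (h : ImLE x y)
    (hy : InIdeal I y) : InIdeal I x := fun Y φ hφ => h.comp_eq_zero (hy Y φ hφ)

lemma inIdeal_comp_eq_zero {I : Ideal A} {B X Y : C} {x : B ⟶ X} (hx : InIdeal I x)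
    {φ : X ⟶ Y} (hφ : HomKilledBy I φ) : x ≫ φ = 0 := hx Y φ hφ

lemma inIdeal_lift {I : Ideal A} (d : QData C I) {X Y : C} (f : X ⟶ Y) [Epi f] {B : C}
    {y : B ⟶ Y} (hy : InIdeal I y) :
    ∃ (B' : C) (π : B' ⟶ B) (_ : Epi π) (x : B' ⟶ X), InIdeal I x ∧ π ≫ y = x ≫ f := by
  obtain ⟨B', π, hπ, x, hx, hxy⟩ := d.imLE_Φ_lift f ((inIdeal_iff d y).1 hy)
  exact ⟨B', π, hπ, x, (inIdeal_iff d x).2 hx, hxy⟩

lemma isQuot_iff_inIdeal {I : Ideal A} (d : QData C I) {X Q : C} (p : X ⟶ Q) :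
    IsQuot I p ↔ KilledBy I Q ∧ Epi p ∧
      ∀ (B : C) (x : B ⟶ X), x ≫ p = 0 → InIdeal I x := by
  rw [d.isQuot_iff]
  simp only [inIdeal_iff d]

lemma isQuot_comp_eq_zero_iff {I : Ideal A} (d : QData C I) {X Q : C} {p : X ⟶ Q}
    (hp : IsQuot I p) {B : C} (x : B ⟶ X) : x ≫ p = 0 ↔ InIdeal I x := by
  rw [inIdeal_iff d]; exact d.comp_eq_zero_iff hp x

section QuotSys

variable (J : Ideal A) (X : PS C) (d : ∀ n : ℕ, QData C (J ^ (n + 1)))

/-- The terms `X_n / J^{n+1} X_n`. -/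
noncomputable def quotObj (n : ℕ) : C := cokernel ((d n).Φ (X.obj (op n)))

/-- The projections `X_n ⟶ X_n / J^{n+1} X_n`. -/
noncomputable def quotπ (n : ℕ) : X.obj (op n) ⟶ quotObj J X d n := cokernel.π _

lemma isQuot_quotπ (n : ℕ) : IsQuot (J ^ (n + 1)) (quotπ J X d n) := (d n).isQuot_cokernel _

instance epi_quotπ (n : ℕ) : Epi (quotπ J X d n) :=
  isQuot_epi (isQuot_quotπ J X d n)

lemma quotSys_aux (n : ℕ) :
    HomKilledBy (J ^ (n + 1 + 1)) (tr X (Nat.le_add_right n 1) ≫ quotπ J X d n) :=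
  homKilledBy_mono_ideal (Ideal.pow_le_pow_right (Nat.le_add_right (n + 1) 1))
    (homKilledBy_comp_left (isQuot_homKilledBy (isQuot_quotπ J X d n)) _)

/-- The transition maps of the quotient system. -/
noncomputable def quotTr (n : ℕ) : quotObj J X d (n + 1) ⟶ quotObj J X d n :=
  cokernel.desc _ (tr X (Nat.le_add_right n 1) ≫ quotπ J X d n)
    (((d (n + 1)).homKilledBy_iff _).1 (quotSys_aux J X d n))

@[reassoc]
lemma quotπ_quotTr (n : ℕ) :
    quotπ J X d (n + 1) ≫ quotTr J X d n = tr X (Nat.le_add_right n 1) ≫ quotπ J X d n :=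
  cokernel.π_desc _ _ _

/-- The system `(X_n / J^{n+1} X_n)_n`. -/
noncomputable def quotSys : PS C := Functor.ofOpSequence (quotTr J X d)

/-- The projection `X ⟶ (X_n / J^{n+1} X_n)_n`. -/
noncomputable def quotSysπ : X ⟶ quotSys J X d :=
  NatTrans.ofOpSequence (fun n => quotπ J X d n) (fun n => by
    have h1 : (quotSys J X d).map (homOfLE (Nat.le_add_right n 1)).op = quotTr J X d n :=
      Functor.ofOpSequence_map_homOfLE_succ _ n
    rw [h1]
    exact (quotπ_quotTr J X d n).symm)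

lemma quotSysπ_app (n : ℕ) : (quotSysπ J X d).app (op n) = quotπ J X d n := rfl

lemma isQuot_quotSysπ_app (n : ℕ) : IsQuot (J ^ (n + 1)) ((quotSysπ J X d).app (op n)) :=
  isQuot_quotπ J X d n

end QuotSys

/-- The quotient system of a strict system is adic provided kernels of transition maps are
small. -/
theorem isAdic_quotSys (J : Ideal A) (X : PS C) (d : ∀ n : ℕ, QData C (J ^ (n + 1)))
    (hX : IsStrict X)
    (hker : ∀ (n m : ℕ) (h : n ≤ m) (B : C) (x : B ⟶ X.obj (op m)), x ≫ tr X h = 0 →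
      InIdeal (J ^ (n + 1)) x) : IsAdic J (quotSys J X d) := by
  refine ⟨fun n => (isQuot_quotπ J X d n).1, fun n m h => ?_⟩
  have hq : ∀ k : ℕ, Epi ((quotSysπ J X d).app (op k)) := fun k => by
    rw [quotSysπ_app]; exact epi_quotπ J X d k
  rw [isQuot_iff_inIdeal (d n)]
  refine ⟨(isQuot_quotπ J X d n).1, ?_, fun B y hy => ?_⟩
  · have : Epi ((quotSysπ J X d).app (op m) ≫ tr (quotSys J X d) h) := by
      rw [naturality_tr (quotSysπ J X d) h]
      have := hX n m h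
      have := hq n
      exact epi_comp _ _
    exact epi_of_epi ((quotSysπ J X d).app (op m)) _
  · have := hq m
    obtain ⟨B₁, π₁, hπ₁, x, hx⟩ :=
      surjective_up_to_refinements_of_epi ((quotSysπ J X d).app (op m)) y
    have h1 : (x ≫ tr X h) ≫ (quotSysπ J X d).app (op n) = 0 := by
      rw [Category.assoc, ← naturality_tr (quotSysπ J X d) h, ← reassoc_of% hx, hy, comp_zero]
    have h2 : InIdeal (J ^ (n + 1)) (x ≫ tr X h) :=
      (isQuot_comp_eq_zero_iff (d n) (isQuot_quotSysπ_app J X d n) _).1 h1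
    have := hX n m h
    obtain ⟨B₂, π₂, hπ₂, x', hx', hxx'⟩ := inIdeal_lift (d n) (tr X h) h2
    have h3 : (π₂ ≫ x - x') ≫ tr X h = 0 := by
      rw [Preadditive.sub_comp, Category.assoc, hxx', sub_self]
    have h4 := hker n m h _ _ h3
    have h5 : InIdeal (J ^ (n + 1)) (π₂ ≫ x) := by
      have := inIdeal_add h4 hx'
      rwa [sub_add_cancel] at this
    apply inIdeal_of_epi_comp π₁
    apply inIdeal_of_epi_comp π₂
    rw [hx, ← Category.assoc]
    exact inIdeal_postcomp h5 _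

end Groth.Agent.H2.AR
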