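import Groth.Agent.Lib.Helper2.ARSys0
import Mathlib.CategoryTheory.Abelian.Exact

set_option autoImplicit false
universe w v u
open CategoryTheory CategoryTheory.Limits Opposite

namespace Groth.Agent.H2.AR

variable {C : Type u} [Category.{v} C] [Abelian C]

set_option linter.unusedSectionVars false

/-- `a` lands in the image of `b`, up to refinement. -/
def ImLE {A B X : C} (a : A ⟶ X) (b : B ⟶ X) : Prop :=
  ∃ (A' : C) (π : A' ⟶ A) (_ : Epi π) (c : A' ⟶ B), π ≫ a = c ≫ b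

namespace ImLE

variable {A B D X Y : C}

lemma of_fac {a : A ⟶ X} {b : B ⟶ X} (c : A ⟶ B) (h : a = c ≫ b) : ImLE a b :=
  ⟨A, 𝟙 A, inferInstance, c, by rw [Category.id_comp, h]⟩

lemma refl (a : A ⟶ X) : ImLE a a := of_fac (𝟙 A) (Category.id_comp a).symm

lemma comp_self (c : A ⟶ B) (b : B ⟶ X) : ImLE (c ≫ b) b := of_fac c rfl

lemma trans {a : A ⟶ X} {b : B ⟶ X} {d : D ⟶ X} (h₁ : ImLE a b) (h₂ : ImLE b d) : ImLE a d := by
  obtain ⟨A', π, hπ, c, hc⟩ := h₁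
  obtain ⟨B', ρ, hρ, e, he⟩ := h₂
  obtain ⟨A'', π', hπ', c', hc'⟩ := surjective_up_to_refinements_of_epi ρ c
  refine ⟨A'', π' ≫ π, epi_comp _ _, c' ≫ e, ?_⟩
  rw [Category.assoc, hc, reassoc_of% hc', he, Category.assoc]

lemma precomp {a : A ⟶ X} {b : B ⟶ X} (h : ImLE a b) (c : D ⟶ A) : ImLE (c ≫ a) b :=
  (comp_self c a).trans h

lemma postcomp {a : A ⟶ X} {b : B ⟶ X} (h : ImLE a b) (f : X ⟶ Y) : ImLE (a ≫ f) (b ≫ f) := by
  obtain ⟨A', π, hπ, c, hc⟩ := h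
  exact ⟨A', π, hπ, c, by rw [reassoc_of% hc]⟩

lemma of_epi_comp {a : A ⟶ X} {b : B ⟶ X} (e : D ⟶ A) [Epi e] (h : ImLE (e ≫ a) b) :
    ImLE a b := by
  obtain ⟨A', π, hπ, c, hc⟩ := h
  exact ⟨A', π ≫ e, epi_comp _ _, c, by rw [Category.assoc, hc]⟩

lemma epi_comp_right (a : A ⟶ X) (e : D ⟶ B) [Epi e] (b : B ⟶ X) (h : ImLE a b) :
    ImLE a (e ≫ b) := by
  obtain ⟨A', π, hπ, c, hc⟩ := h
  obtain ⟨A'', π', hπ', c', hc'⟩ := surjective_up_to_refinements_of_epi e c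
  exact ⟨A'', π' ≫ π, epi_comp _ _, c', by rw [Category.assoc, hc, reassoc_of% hc']⟩

lemma of_postcomp_mono {a : A ⟶ X} {b : B ⟶ X} (m : X ⟶ Y) [Mono m]
    (h : ImLE (a ≫ m) (b ≫ m)) : ImLE a b := by
  obtain ⟨A', π, hπ, c, hc⟩ := h
  exact ⟨A', π, hπ, c, by rw [← cancel_mono m, Category.assoc, hc, Category.assoc]⟩

lemma comp_eq_zero {a : A ⟶ X} {b : B ⟶ X} (h : ImLE a b) {f : X ⟶ Y} (hf : b ≫ f = 0) :
    a ≫ f = 0 := by
  obtain ⟨A', π, hπ, c, hc⟩ := h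
  rw [← cancel_epi π, reassoc_of% hc, hf, comp_zero, comp_zero]

lemma zero_left (b : B ⟶ X) : ImLE (0 : A ⟶ X) b := of_fac 0 zero_comp.symm

lemma eq_zero_of_zero {a : A ⟶ X} (h : ImLE a (0 : B ⟶ X)) : a = 0 := by
  have := h.comp_eq_zero (f := 𝟙 X) (by simp)
  simpa using this

lemma add {a a' : A ⟶ X} {b : B ⟶ X} (h : ImLE a b) (h' : ImLE a' b) : ImLE (a + a') b := by
  obtain ⟨A₁, π₁, hπ₁, c₁, hc₁⟩ := h
  obtain ⟨A₂, π₂, hπ₂, c₂, hc₂⟩ := h'
  refine ⟨pullback π₁ π₂, pullback.fst π₁ π₂ ≫ π₁, epi_comp _ _,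
    pullback.fst π₁ π₂ ≫ c₁ + pullback.snd π₁ π₂ ≫ c₂, ?_⟩
  rw [Preadditive.comp_add, Preadditive.add_comp, Category.assoc, Category.assoc, hc₁,
    Category.assoc, Category.assoc, ← hc₂, pullback.condition_assoc]

lemma neg {a : A ⟶ X} {b : B ⟶ X} (h : ImLE a b) : ImLE (-a) b := by
  obtain ⟨A₁, π₁, hπ₁, c₁, hc₁⟩ := h
  exact ⟨A₁, π₁, hπ₁, -c₁, by rw [Preadditive.comp_neg, hc₁, Preadditive.neg_comp]⟩

lemma sub {a a' : A ⟶ X} {b : B ⟶ X} (h : ImLE a b) (h' : ImLE a' b) : ImLE (a - a') b := by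
  rw [sub_eq_add_neg]; exact h.add h'.neg

end ImLE

lemma imLE_iff_comp_cokernel {A B X : C} (a : A ⟶ X) (b : B ⟶ X) :
    ImLE a b ↔ a ≫ cokernel.π b = 0 :=
  (CokernelCofork.IsColimit.comp_π_eq_zero_iff_up_to_refinements
    (cokernelIsCokernel b) a).symm

lemma epi_iff_imLE {B X : C} (b : B ⟶ X) : Epi b ↔ ImLE (𝟙 X) b := by
  constructor
  · intro h
    obtain ⟨A', π, hπ, c, hc⟩ := surjective_up_to_refinements_of_epi b (𝟙 X)
    exact ⟨A', π, hπ, c, hc⟩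
  · rintro ⟨A', π, hπ, c, hc⟩
    rw [Category.comp_id] at hc
    exact epi_of_epi_fac hc.symm

lemma epi_iff_forall_imLE {B X : C} (b : B ⟶ X) :
    Epi b ↔ ∀ (A : C) (a : A ⟶ X), ImLE a b := by
  constructor
  · intro h A a
    obtain ⟨A', π, hπ, c, hc⟩ := surjective_up_to_refinements_of_epi b a
    exact ⟨A', π, hπ, c, hc⟩
  · intro h
    exact (epi_iff_imLE b).2 (h _ _)

lemma imLE_of_epi {A B X : C} (a : A ⟶ X) (b : B ⟶ X) [Epi b] : ImLE a b :=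
  (epi_iff_forall_imLE b).1 inferInstance A a

lemma imageSubobject_epi_comp {A' A X : C} (π : A' ⟶ A) [Epi π] (a : A ⟶ X) :
    imageSubobject (π ≫ a) = imageSubobject a := by
  have h1 : Epi (Subobject.ofLE _ _ (imageSubobject_comp_le π a)) := inferInstance
  have h2 : IsIso (Subobject.ofLE _ _ (imageSubobject_comp_le π a)) := isIso_of_mono_of_epi _
  refine le_antisymm (imageSubobject_comp_le π a) ?_
  exact Subobject.le_of_comm (inv (Subobject.ofLE _ _ (imageSubobject_comp_le π a)))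
    (by rw [IsIso.inv_comp_eq, Subobject.ofLE_arrow])

lemma imLE_iff_imageSubobject_le {A B X : C} (a : A ⟶ X) (b : B ⟶ X) :
    ImLE a b ↔ imageSubobject a ≤ imageSubobject b := by
  constructor
  · rintro ⟨A', π, hπ, c, hc⟩
    rw [← imageSubobject_epi_comp π a, hc]
    exact imageSubobject_comp_le c b
  · intro h
    obtain ⟨A', π, hπ, x, hx⟩ := surjective_up_to_refinements_of_epi
      (factorThruImageSubobject b) (factorThruImageSubobject a ≫ Subobject.ofLE _ _ h)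
    refine ⟨A', π, hπ, x, ?_⟩
    calc π ≫ a = π ≫ factorThruImageSubobject a ≫ (imageSubobject a).arrow := by
          rw [imageSubobject_arrow_comp]
      _ = π ≫ factorThruImageSubobject a ≫ Subobject.ofLE _ _ h ≫ (imageSubobject b).arrow := by
          rw [Subobject.ofLE_arrow]
      _ = x ≫ factorThruImageSubobject b ≫ (imageSubobject b).arrow := by
          rw [reassoc_of% hx]
      _ = x ≫ b := by rw [imageSubobject_arrow_comp]

lemma imageSubobject_eq_iff {A B X : C} (a : A ⟶ X) (b : B ⟶ X) :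
    imageSubobject a = imageSubobject b ↔ ImLE a b ∧ ImLE b a := by
  rw [imLE_iff_imageSubobject_le, imLE_iff_imageSubobject_le]
  exact ⟨fun h => ⟨h.le, h.ge⟩, fun h => le_antisymm h.1 h.2⟩

lemma imLE_mono_iff {A B X : C} (a : A ⟶ X) (b : B ⟶ X) [Mono b] :
    ImLE a b ↔ ∃ c : A ⟶ B, c ≫ b = a := by
  constructor
  · intro h
    have h0 := (imLE_iff_comp_cokernel a b).1 h
    exact ⟨Abelian.monoLift b a h0, Abelian.monoLift_comp b a h0⟩
  · rintro ⟨c, rfl⟩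
    exact ImLE.comp_self c b

/-- Exactness in terms of `ImLE`. -/
lemma exact_iff_imLE (S : ShortComplex C) :
    S.Exact ↔ ∀ ⦃A : C⦄ (x : A ⟶ S.X₂), x ≫ S.g = 0 → ImLE x S.f :=
  S.exact_iff_exact_up_to_refinements

lemma imLE_kernel_ι {A X Y : C} (f : X ⟶ Y) (a : A ⟶ X) (h : a ≫ f = 0) :
    ImLE a (kernel.ι f) :=
  ImLE.of_fac (kernel.lift f a h) (kernel.lift_ι f a h).symm

lemma imLE_kernel_ι_iff {A X Y : C} (f : X ⟶ Y) (a : A ⟶ X) :
    ImLE a (kernel.ι f) ↔ a ≫ f = 0 :=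
  ⟨fun h => h.comp_eq_zero (kernel.condition f), imLE_kernel_ι f a⟩

end Groth.Agent.H2.AR
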