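import Groth.Agent.Lib.Helper2.ARSysML

set_option autoImplicit false
universe w v u
open CategoryTheory CategoryTheory.Limits Opposite

namespace Groth.Agent.H2.AR

open ARSys

variable {C : Type u} [Category.{v} C] [Abelian C]

set_option linter.unusedSectionVars false

/-- A relation-induced morphism: if `t` lands in the image of `f` and `s` kills the kernel of `f`,
then `s ∘ f⁻¹ ∘ t` makes sense. -/
lemma exists_induced {P Q T R : C} (f : P ⟶ Q) (t : T ⟶ Q) (s : P ⟶ R) (ht : ImLE t f)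
    (hs : ∀ (A : C) (x : A ⟶ P), x ≫ f = 0 → x ≫ s = 0) :
    ∃ v : T ⟶ R, ∀ (A : C) (a : A ⟶ T) (x : A ⟶ P), a ≫ t = x ≫ f → a ≫ v = x ≫ s := by
  obtain ⟨A', π, hπ, x, hx⟩ := ht
  have h0 : kernel.ι π ≫ x ≫ s = 0 := by
    rw [← Category.assoc]
    apply hs
    rw [Category.assoc, ← hx, kernel.condition_assoc, zero_comp]
  let v : T ⟶ R := (Abelian.epiIsCokernelOfKernel _ (kernelIsKernel π)).desc
    (CokernelCofork.ofπ (x ≫ s) h0)
  have hv : π ≫ v = x ≫ s :=
    (Abelian.epiIsCokernelOfKernel _ (kernelIsKernel π)).fac (CokernelCofork.ofπ (x ≫ s) h0)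
      WalkingParallelPair.one
  refine ⟨v, fun A a x' hx' => ?_⟩
  have : Epi (pullback.fst a π) := inferInstance
  rw [← cancel_epi (pullback.fst a π), pullback.condition_assoc, hv]
  have h1 : (pullback.fst a π ≫ x' - pullback.snd a π ≫ x) ≫ f = 0 := by
    rw [Preadditive.sub_comp, Category.assoc, Category.assoc, ← hx', ← hx,
      pullback.condition_assoc, sub_self]
  have h2 := hs _ _ h1
  rw [Preadditive.sub_comp, sub_eq_zero, Category.assoc, Category.assoc] at h2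
  exact h2.symm

/-- An isomorphism up to translation has an inverse up to translation. -/
theorem exists_quasiInverse {X Y : PS C} (u : X ⟶ Y) (hu : IsARIso u) :
    ∃ (r : ℕ) (v : ∀ n : ℕ, Y.obj (op (n + r)) ⟶ X.obj (op n)),
      (∀ n, v n ≫ u.app (op n) = tr Y (Nat.le_add_right n r)) ∧
      (∀ n, u.app (op (n + r)) ≫ v n = tr X (Nat.le_add_right n r)) ∧
      (∀ (n m : ℕ) (h : n ≤ m), tr Y (Nat.add_le_add_right h r) ≫ v n = v m ≫ tr X h) := by
  obtain ⟨⟨r₁, h₁⟩, ⟨r₂, h₂⟩⟩ := (isARIso_iff u).1 hu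
  have hle : ∀ n : ℕ, n + r₁ ≤ n + (r₁ + r₂) := fun n => by omega
  have key : ∀ n : ℕ, ∃ v : Y.obj (op (n + (r₁ + r₂))) ⟶ X.obj (op n),
      ∀ (A : C) (a : A ⟶ Y.obj (op (n + (r₁ + r₂)))) (x : A ⟶ X.obj (op (n + r₁))),
        a ≫ tr Y (hle n) = x ≫ u.app (op (n + r₁)) → a ≫ v = x ≫ tr X (Nat.le_add_right n r₁) := by
    intro n
    refine exists_induced (u.app (op (n + r₁))) (tr Y (hle n)) (tr X (Nat.le_add_right n r₁))
      ?_ (h₁ n)
    have h3 : n + r₁ + r₂ ≤ n + (r₁ + r₂) := by omega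
    rw [← tr_comp Y (Nat.le_add_right (n + r₁) r₂) h3]
    exact (h₂ (n + r₁)).precomp _
  choose v hv using key
  have href : ∀ n : ℕ, ∃ (A : C) (π : A ⟶ Y.obj (op (n + (r₁ + r₂)))) (_ : Epi π)
      (x : A ⟶ X.obj (op (n + r₁))), π ≫ tr Y (hle n) = x ≫ u.app (op (n + r₁)) := by
    intro n
    have h3 : n + r₁ + r₂ ≤ n + (r₁ + r₂) := by omega
    have h4 : ImLE (tr Y (hle n)) (u.app (op (n + r₁))) := by
      rw [← tr_comp Y (Nat.le_add_right (n + r₁) r₂) h3]
      exact (h₂ (n + r₁)).precomp _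
    exact h4
  refine ⟨r₁ + r₂, v, fun n => ?_, fun n => ?_, fun n m h => ?_⟩
  · obtain ⟨A, π, hπ, x, hx⟩ := href n
    rw [← cancel_epi π, ← Category.assoc, hv n A π x hx, Category.assoc,
      ← naturality_tr u (Nat.le_add_right n r₁), ← reassoc_of% hx, tr_comp]
  · have h5 := hv n _ (u.app (op (n + (r₁ + r₂)))) (tr X (hle n)) (naturality_tr u (hle n))
    rw [h5, tr_comp]
  · obtain ⟨A, π, hπ, x, hx⟩ := href m
    have hnm1 : n + r₁ ≤ m + r₁ := by omega
    rw [← cancel_epi π, reassoc_of% (hv m A π x hx), tr_comp]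
    have h6 := hv n A (π ≫ tr Y (Nat.add_le_add_right h (r₁ + r₂))) (x ≫ tr X hnm1) (by
      rw [Category.assoc, tr_comp, Category.assoc, ← naturality_tr u hnm1, ← reassoc_of% hx,
        tr_comp])
    rw [Category.assoc] at h6
    rw [h6, Category.assoc, tr_comp]

end Groth.Agent.H2.AR
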