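import Groth.Agent.Lib.Helper2.ARSysIm
import Mathlib.CategoryTheory.Limits.FunctorCategory.EpiMono

set_option autoImplicit false
universe w v u
open CategoryTheory CategoryTheory.Limits Opposite

namespace Groth.Agent.H2.AR

open ARSys

variable {C : Type u} [Category.{v} C] [Abelian C]

set_option linter.unusedSectionVars false

section KerCoker

variable {X Y : PS C} (u : X ⟶ Y)

instance mono_kernel_ι_app (n : ℕᵒᵖ) : Mono ((kernel.ι u).app n) :=
  (NatTrans.mono_iff_mono_app (kernel.ι u)).1 inferInstance n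

instance epi_cokernel_π_app (n : ℕᵒᵖ) : Epi ((cokernel.π u).app n) :=
  (NatTrans.epi_iff_epi_app (cokernel.π u)).1 inferInstance n

@[reassoc]
lemma kernel_ι_app_comp (n : ℕᵒᵖ) : (kernel.ι u).app n ≫ u.app n = 0 := by
  rw [← NatTrans.comp_app, kernel.condition]; rfl

@[reassoc]
lemma comp_cokernel_π_app (n : ℕᵒᵖ) : u.app n ≫ (cokernel.π u).app n = 0 := by
  rw [← NatTrans.comp_app, cokernel.condition]; rfl

lemma exists_lift_kernel_app (n : ℕᵒᵖ) {A : C} (x : A ⟶ X.obj n) (hx : x ≫ u.app n = 0) :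
    ∃ l : A ⟶ (kernel u).obj n, l ≫ (kernel.ι u).app n = x := by
  have hex : (ShortComplex.mk (kernel.ι u) u (kernel.condition u)).Exact :=
    ShortComplex.exact_of_f_is_kernel _ (kernelIsKernel u)
  have h := exact_app hex n
  have : Mono (ShortComplex.map (ShortComplex.mk (kernel.ι u) u (kernel.condition u))
      ((evaluation ℕᵒᵖ C).obj n)).f := mono_kernel_ι_app u n
  exact ⟨h.lift x hx, h.lift_f x hx⟩

lemma exists_desc_cokernel_app (n : ℕᵒᵖ) {A : C} (y : Y.obj n ⟶ A) (hy : u.app n ≫ y = 0) :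
    ∃ d : (cokernel u).obj n ⟶ A, (cokernel.π u).app n ≫ d = y := by
  have hex : (ShortComplex.mk u (cokernel.π u) (cokernel.condition u)).Exact :=
    ShortComplex.exact_of_g_is_cokernel _ (cokernelIsCokernel u)
  have h := exact_app hex n
  have : Epi (ShortComplex.map (ShortComplex.mk u (cokernel.π u) (cokernel.condition u))
      ((evaluation ℕᵒᵖ C).obj n)).g := epi_cokernel_π_app u n
  exact ⟨h.desc y hy, h.g_desc y hy⟩

lemma comp_cokernel_π_app_eq_zero_iff (n : ℕᵒᵖ) {A : C} (y : A ⟶ Y.obj n) :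
    y ≫ (cokernel.π u).app n = 0 ↔ ImLE y (u.app n) := by
  constructor
  · intro h
    have hex : (ShortComplex.mk u (cokernel.π u) (cokernel.condition u)).Exact :=
      ShortComplex.exact_of_g_is_cokernel _ (cokernelIsCokernel u)
    exact exact_app_refine hex n y h
  · intro h
    exact h.comp_eq_zero (comp_cokernel_π_app u n)

/-- The kernel of `u` is null up to translation iff elements killed by `u` die after
translation by `r`. -/
lemma isARNull_kernel_iff :
    IsARNull (kernel u) ↔ ∃ r : ℕ, ∀ (n : ℕ) (A : C) (x : A ⟶ X.obj (op (n + r))),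
      x ≫ u.app (op (n + r)) = 0 → x ≫ tr X (Nat.le_add_right n r) = 0 := by
  rw [isARNull_def]
  constructor
  · rintro ⟨r, hr⟩
    refine ⟨r, fun n A x hx => ?_⟩
    obtain ⟨l, rfl⟩ := exists_lift_kernel_app u _ x hx
    rw [Category.assoc, naturality_tr, hr n, zero_comp, comp_zero]
  · rintro ⟨r, hr⟩
    refine ⟨r, fun n => ?_⟩
    rw [← cancel_mono ((kernel.ι u).app (op n)), zero_comp, ← naturality_tr]
    exact hr n _ _ (kernel_ι_app_comp u _)

/-- The cokernel of `u` is null up to translation iff the image of `Y_{n+r} ⟶ Y_n` is contained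
in the image of `u_n`. -/
lemma isARNull_cokernel_iff :
    IsARNull (cokernel u) ↔ ∃ r : ℕ, ∀ n : ℕ,
      ImLE (tr Y (Nat.le_add_right n r)) (u.app (op n)) := by
  rw [isARNull_def]
  constructor
  · rintro ⟨r, hr⟩
    refine ⟨r, fun n => ?_⟩
    rw [← comp_cokernel_π_app_eq_zero_iff, ← naturality_tr, hr n, comp_zero]
  · rintro ⟨r, hr⟩
    refine ⟨r, fun n => ?_⟩
    rw [← cancel_epi ((cokernel.π u).app (op (n + r))), comp_zero, naturality_tr,
      comp_cokernel_π_app_eq_zero_iff]
    exact hr n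

lemma isARIso_iff :
    IsARIso u ↔ (∃ r : ℕ, ∀ (n : ℕ) (A : C) (x : A ⟶ X.obj (op (n + r))),
      x ≫ u.app (op (n + r)) = 0 → x ≫ tr X (Nat.le_add_right n r) = 0) ∧
      ∃ r : ℕ, ∀ n : ℕ, ImLE (tr Y (Nat.le_add_right n r)) (u.app (op n)) := by
  rw [IsARIso, isARNull_kernel_iff, isARNull_cokernel_iff]

end KerCoker

end Groth.Agent.H2.AR
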