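import Groth.Agent.Lib.Helper2.ARSysInv

set_option autoImplicit false
universe w v u
open CategoryTheory CategoryTheory.Limits Opposite

namespace Groth.Agent.H2.AR

open ARSys

variable {C : Type u} [Category.{v} C]

set_option linter.unusedSectionVars false

section Lin

variable {A : Type w} [CommRing A] [Preadditive C] [Linear A C]

lemma homKilledBy_comp_left {I : Ideal A} {X Y Z : C} {φ : Y ⟶ Z} (h : HomKilledBy I φ)
    (ψ : X ⟶ Y) : HomKilledBy I (ψ ≫ φ) := fun a ha => by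
  rw [← Linear.comp_smul, h a ha, comp_zero]

lemma homKilledBy_comp_right {I : Ideal A} {X Y Z : C} {φ : X ⟶ Y} (h : HomKilledBy I φ)
    (ψ : Y ⟶ Z) : HomKilledBy I (φ ≫ ψ) := fun a ha => by
  rw [← Linear.smul_comp, h a ha, zero_comp]

lemma homKilledBy_of_target {I : Ideal A} {X Y : C} (h : KilledBy I Y) (φ : X ⟶ Y) :
    HomKilledBy I φ := fun a ha => by
  have : a • φ = φ ≫ (a • 𝟙 Y) := by rw [Linear.comp_smul, Category.comp_id]
  rw [this, h a ha, comp_zero]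

lemma homKilledBy_of_source {I : Ideal A} {X Y : C} (h : KilledBy I X) (φ : X ⟶ Y) :
    HomKilledBy I φ := fun a ha => by
  have : a • φ = (a • 𝟙 X) ≫ φ := by rw [Linear.smul_comp, Category.id_comp]
  rw [this, h a ha, zero_comp]

lemma killedBy_mono_ideal {I I' : Ideal A} (hI : I ≤ I') {X : C} (h : KilledBy I' X) :
    KilledBy I X := fun a ha => h a (hI ha)

lemma homKilledBy_mono_ideal {I I' : Ideal A} (hI : I ≤ I') {X Y : C} {φ : X ⟶ Y}
    (h : HomKilledBy I' φ) : HomKilledBy I φ := fun a ha => h a (hI ha)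

lemma killedBy_of_epi {I : Ideal A} {X Y : C} (h : KilledBy I X) (p : X ⟶ Y) [Epi p] :
    KilledBy I Y := fun a ha => by
  rw [← cancel_epi p, comp_zero, Linear.comp_smul, Category.comp_id]
  exact homKilledBy_of_source h p a ha

lemma killedBy_of_mono {I : Ideal A} {X Y : C} (h : KilledBy I Y) (i : X ⟶ Y) [Mono i] :
    KilledBy I X := fun a ha => by
  rw [← cancel_mono i, zero_comp, Linear.smul_comp, Category.id_comp]
  exact homKilledBy_of_target h i a ha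

lemma smul_id_comp (a : A) {X Y : C} (φ : X ⟶ Y) : (a • 𝟙 X) ≫ φ = φ ≫ (a • 𝟙 Y) := by
  rw [Linear.smul_comp, Linear.comp_smul, Category.id_comp, Category.comp_id]

section IsQuot

variable {I : Ideal A} {X Q : C} {p : X ⟶ Q}

lemma isQuot_killedBy (h : IsQuot I p) : KilledBy I Q := h.1

lemma isQuot_homKilledBy (h : IsQuot I p) : HomKilledBy I p := homKilledBy_of_target h.1 p

lemma isQuot_epi (h : IsQuot I p) : Epi p := by
  constructor
  intro Z g₁ g₂ hg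
  obtain ⟨ψ, -, hψ⟩ := h.2 Z (p ≫ g₁) (homKilledBy_comp_right (isQuot_homKilledBy h) g₁)
  rw [hψ g₁ rfl, hψ g₂ hg.symm]

lemma isQuot_exists_desc (h : IsQuot I p) {Y : C} (φ : X ⟶ Y) (hφ : HomKilledBy I φ) :
    ∃ ψ : Q ⟶ Y, p ≫ ψ = φ := (h.2 Y φ hφ).exists

lemma isQuot_exists_desc_of_killedBy (h : IsQuot I p) {Y : C} (φ : X ⟶ Y) (hY : KilledBy I Y) :
    ∃ ψ : Q ⟶ Y, p ≫ ψ = φ := isQuot_exists_desc h φ (homKilledBy_of_target hY φ)

/-- Characterisation: `p` is a quotient map mod `I` iff it is epi, has killed target and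
every killed morphism factors. -/
lemma isQuot_iff_epi : IsQuot I p ↔ KilledBy I Q ∧ Epi p ∧
    ∀ (Y : C) (φ : X ⟶ Y), HomKilledBy I φ → ∃ ψ : Q ⟶ Y, p ≫ ψ = φ := by
  constructor
  · intro h
    exact ⟨h.1, isQuot_epi h, fun Y φ hφ => isQuot_exists_desc h φ hφ⟩
  · rintro ⟨h1, h2, h3⟩
    refine ⟨h1, fun Y φ hφ => ?_⟩
    obtain ⟨ψ, hψ⟩ := h3 Y φ hφ
    exact ⟨ψ, hψ, fun ψ' hψ' => by rw [← cancel_epi p, hψ, hψ']⟩

/-- Two quotient maps modulo the same ideal are uniquely isomorphic. -/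
lemma isQuot_exists_iso (h : IsQuot I p) {Q' : C} {p' : X ⟶ Q'} (h' : IsQuot I p') :
    ∃ e : Q ≅ Q', p ≫ e.hom = p' := by
  obtain ⟨a, ha⟩ := isQuot_exists_desc h p' (isQuot_homKilledBy h')
  obtain ⟨b, hb⟩ := isQuot_exists_desc h' p (isQuot_homKilledBy h)
  have := isQuot_epi h
  have := isQuot_epi h'
  refine ⟨⟨a, b, ?_, ?_⟩, ha⟩
  · rw [← cancel_epi p, reassoc_of% ha, hb, Category.comp_id]
  · rw [← cancel_epi p', reassoc_of% hb, ha, Category.comp_id]

lemma isQuot_of_iso (h : IsQuot I p) {Q' : C} (e : Q ≅ Q') : IsQuot I (p ≫ e.hom) := by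
  have := isQuot_epi h
  rw [isQuot_iff_epi]
  refine ⟨killedBy_of_epi h.1 e.hom, epi_comp _ _, fun Y φ hφ => ?_⟩
  obtain ⟨ψ, hψ⟩ := isQuot_exists_desc h φ hφ
  exact ⟨e.inv ≫ ψ, by rw [Category.assoc, e.hom_inv_id_assoc, hψ]⟩

lemma isQuot_of_iso_left (h : IsQuot I p) {X' : C} (e : X' ≅ X) : IsQuot I (e.hom ≫ p) := by
  have := isQuot_epi h
  rw [isQuot_iff_epi]
  refine ⟨h.1, epi_comp _ _, fun Y φ hφ => ?_⟩
  obtain ⟨ψ, hψ⟩ := isQuot_exists_desc h (e.inv ≫ φ) (homKilledBy_comp_left hφ _)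
  exact ⟨ψ, by rw [Category.assoc, hψ, e.hom_inv_id_assoc]⟩

end IsQuot

end Lin

end Groth.Agent.H2.AR
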