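import Groth.Agent.Lib.Helper2.ARSysKer

set_option autoImplicit false
universe w v u
open CategoryTheory CategoryTheory.Limits Opposite

namespace Groth.Agent.H2.AR

open ARSys

variable {C : Type u} [Category.{v} C] [Abelian C]

set_option linter.unusedSectionVars false

/-- `r` is a uniform Mittag-Leffler bound for `X`. -/
def MLBound (X : PS C) (r : ℕ) : Prop :=
  ∀ (n k m : ℕ) (hk : n + r ≤ k) (hm : n ≤ m),
    ImLE (tr X ((Nat.le_add_right n r).trans hk)) (tr X hm)

lemma isMLAR_iff (X : PS C) : IsMLAR X ↔ ∃ r : ℕ, MLBound X r := by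
  constructor
  · rintro ⟨r, hr⟩
    refine ⟨r, fun n k m hk hm => ?_⟩
    rw [← tr_comp X (Nat.le_add_right n r) hk]
    apply ImLE.precomp
    by_cases hmr : m ≤ n + r
    · rw [← tr_comp X hm hmr]
      exact ImLE.comp_self _ _
    · have h1 : r ≤ m - n := by omega
      have h2 := hr (m - n) h1 n
      have h3 : imageSubobject (tr X (Nat.le_add_right n (m - n))) =
        imageSubobject (tr X (Nat.le_add_right n r)) := h2
      have h4 := ((imageSubobject_eq_iff _ _).1 h3).2
      have h5 : m ≤ n + (m - n) := by omega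
      rw [← tr_comp X hm h5] at h4
      exact h4.trans (ImLE.comp_self _ _)
  · rintro ⟨r, hr⟩
    refine ⟨r, fun s hs n => ?_⟩
    change imageSubobject (tr X (Nat.le_add_right n s)) =
        imageSubobject (tr X (Nat.le_add_right n r))
    rw [imageSubobject_eq_iff]
    constructor
    · have h1 : n + r ≤ n + s := by omega
      rw [← tr_comp X (Nat.le_add_right n r) h1]
      exact ImLE.comp_self _ _
    · exact hr n (n + r) (n + s) le_rfl _

lemma MLBound.mono {X : PS C} {r r' : ℕ} (h : MLBound X r) (hr : r ≤ r') : MLBound X r' :=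
  fun n k m hk hm => h n k m (by omega) hm

section ImageSys

variable (X : PS C) (r : ℕ)

/-- The system of images of `X_{n+r} ⟶ X_n`. -/
noncomputable def imageSys : PS C := Limits.image (shiftNat X r)

/-- The inclusion of the image system. -/
noncomputable def imageSysι : imageSys X r ⟶ X := Limits.image.ι (shiftNat X r)

/-- The projection to the image system. -/
noncomputable def imageSysπ : (shift C r).obj X ⟶ imageSys X r :=
  factorThruImage (shiftNat X r)

instance : Mono (imageSysι X r) := inferInstanceAs (Mono (Limits.image.ι (shiftNat X r)))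

instance : Epi (imageSysπ X r) := inferInstanceAs (Epi (factorThruImage (shiftNat X r)))

instance (n : ℕᵒᵖ) : Mono ((imageSysι X r).app n) :=
  (NatTrans.mono_iff_mono_app (imageSysι X r)).1 inferInstance n

/-- Components of `imageSysπ` with a clean source type. -/
noncomputable def imageSysπApp (n : ℕ) : X.obj (op (n + r)) ⟶ (imageSys X r).obj (op n) :=
  (imageSysπ X r).app (op n)

instance (n : ℕ) : Epi (imageSysπApp X r n) :=
  (NatTrans.epi_iff_epi_app (imageSysπ X r)).1 inferInstance (op n)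

lemma imageSys_fac (n : ℕ) :
    imageSysπApp X r n ≫ (imageSysι X r).app (op n) = tr X (Nat.le_add_right n r) := by
  have h : imageSysπ X r ≫ imageSysι X r = shiftNat X r := image.fac (shiftNat X r)
  exact congrArg (fun t => t.app (op n)) h

lemma imLE_tr_imageSysι (n : ℕ) :
    ImLE (tr X (Nat.le_add_right n r)) ((imageSysι X r).app (op n)) := by
  rw [← imageSys_fac]
  exact ImLE.comp_self _ _

lemma imLE_imageSysι_tr (n : ℕ) :
    ImLE ((imageSysι X r).app (op n)) (tr X (Nat.le_add_right n r)) := by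
  rw [← imageSys_fac]
  exact ImLE.epi_comp_right _ _ _ (ImLE.refl _)

lemma isARNull_kernel_of_mono {X Y : PS C} (u : X ⟶ Y) [Mono u] : IsARNull (kernel u) := by
  rw [isARNull_kernel_iff]
  refine ⟨0, fun n A x hx => ?_⟩
  have : Mono (u.app (op (n + 0))) := (NatTrans.mono_iff_mono_app u).1 inferInstance _
  have hx' : x = 0 := by
    rw [← cancel_mono (u.app (op (n + 0))), zero_comp]; exact hx
  rw [hx', zero_comp]

lemma isARIso_imageSysι : IsARIso (imageSysι X r) := by
  refine ⟨isARNull_kernel_of_mono _, ?_⟩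
  rw [isARNull_cokernel_iff]
  exact ⟨r, fun n => imLE_tr_imageSysι X r n⟩

lemma isStrict_imageSys (h : MLBound X r) : IsStrict (imageSys X r) := by
  intro n m hnm
  rw [epi_iff_imLE]
  apply ImLE.of_postcomp_mono ((imageSysι X r).app (op n))
  rw [Category.id_comp, ← naturality_tr]
  refine (imLE_imageSysι_tr X r n).trans ?_
  have h1 : n + r ≤ m + r := by omega
  have h2 := h n (n + r) (m + r) le_rfl (hnm.trans (Nat.le_add_right m r))
  refine h2.trans ?_
  rw [← tr_comp X hnm (Nat.le_add_right m r), ← imageSys_fac, Category.assoc]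
  exact ImLE.comp_self _ _

end ImageSys

lemma exists_add_of_exact_app {S : ShortComplex (PS C)} (hS : S.Exact) (n : ℕᵒᵖ) {A B : C}
    {a : A ⟶ S.X₂.obj n} {c : B ⟶ S.X₂.obj n}
    (h : ImLE (a ≫ S.g.app n) (c ≫ S.g.app n)) :
    ∃ (A' : C) (π : A' ⟶ A) (_ : Epi π) (c' : A' ⟶ B) (x : A' ⟶ S.X₁.obj n),
      π ≫ a = c' ≫ c + x ≫ S.f.app n := by
  obtain ⟨A₁, π₁, hπ₁, c₁, hc₁⟩ := h
  have h0 : (π₁ ≫ a - c₁ ≫ c) ≫ S.g.app n = 0 := by
    rw [Preadditive.sub_comp, Category.assoc, Category.assoc, hc₁, sub_self]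
  obtain ⟨A₂, π₂, hπ₂, x, hx⟩ := exact_app_refine hS n _ h0
  refine ⟨A₂, π₂ ≫ π₁, epi_comp _ _, π₂ ≫ c₁, x, ?_⟩
  rw [← hx, Preadditive.comp_sub, Category.assoc, Category.assoc]
  abel

theorem isMLAR_of_shortExact {S : ShortComplex (PS C)} (hS : S.ShortExact)
    (h₁ : IsMLAR S.X₁) (h₃ : IsMLAR S.X₃) : IsMLAR S.X₂ := by
  obtain ⟨r₁, hr₁⟩ := (isMLAR_iff _).1 h₁
  obtain ⟨r₃, hr₃⟩ := (isMLAR_iff _).1 h₃
  refine (isMLAR_iff _).2 ⟨r₁ + r₃, fun n k m hk hm => ?_⟩
  -- split `tr (n ≤ k)` through level `n + r₁`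
  have hk1 : n + r₁ ≤ k := by omega
  have hm' : n + r₁ ≤ max m (n + r₁) := le_max_right _ _
  have hmm : m ≤ max m (n + r₁) := le_max_left _ _
  -- it suffices to reach level `M = max m (n + r₁)`
  suffices hsuff : ImLE (tr S.X₂ ((Nat.le_add_right n (r₁ + r₃)).trans hk))
      (tr S.X₂ (hm.trans hmm)) by
    refine hsuff.trans ?_
    rw [← tr_comp S.X₂ hm hmm]
    exact ImLE.comp_self _ _
  set M := max m (n + r₁) with hM
  have hnM : n ≤ M := hm.trans hmm
  rw [← tr_comp S.X₂ (Nat.le_add_right n r₁) hk1]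
  -- Step 1: the image in `X₃` at level `n + r₁`
  have h1 : ImLE (tr S.X₂ hk1 ≫ S.g.app (op (n + r₁)))
      (tr S.X₂ hm' ≫ S.g.app (op (n + r₁))) := by
    rw [← naturality_tr S.g hk1, ← naturality_tr S.g hm']
    have : Epi (S.g.app (op M)) := epi_g_app hS _
    apply ImLE.epi_comp_right
    apply ImLE.precomp
    exact hr₃ (n + r₁) k M (by omega) hm'
  obtain ⟨A', π, hπ, c', x, hx⟩ := exists_add_of_exact_app hS.exact (op (n + r₁)) h1
  apply ImLE.of_epi_comp π
  rw [reassoc_of% hx, Preadditive.add_comp, Category.assoc, Category.assoc,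
    tr_comp S.X₂ (Nat.le_add_right n r₁) hm',
    naturality_tr S.f (Nat.le_add_right n r₁)]
  apply ImLE.add
  · exact ImLE.comp_self _ _
  · rw [← Category.assoc]
    have h2 : ImLE (x ≫ tr S.X₁ (Nat.le_add_right n r₁)) (tr S.X₁ hnM) :=
      (hr₁ n (n + r₁) M le_rfl hnM).precomp x
    refine (h2.postcomp (S.f.app (op n))).trans ?_
    rw [← naturality_tr S.f hnM]
    exact ImLE.comp_self _ _

/-- `S8631`-type statement: strict source and null cokernel give a uniform ML bound. -/
lemma mlBound_of_strict {X Y : PS C} (u : Y ⟶ X) (hY : IsStrict Y) {r : ℕ}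
    (hr : ∀ n : ℕ, ImLE (tr X (Nat.le_add_right n r)) (u.app (op n))) : MLBound X r := by
  intro n k m hk hm
  rw [← tr_comp X (Nat.le_add_right n r) hk]
  apply ImLE.precomp
  refine (hr n).trans ?_
  have : Epi (tr Y hm) := hY _ _ _
  apply ImLE.of_epi_comp (tr Y hm)
  rw [← naturality_tr]
  exact ImLE.comp_self _ _

theorem isMLAR_iff_exists_strict (X : PS C) :
    IsMLAR X ↔ ∃ (Y : PS C) (u : Y ⟶ X), IsStrict Y ∧ IsARIso u := by
  constructor
  · intro h
    obtain ⟨r, hr⟩ := (isMLAR_iff X).1 h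
    exact ⟨imageSys X r, imageSysι X r, isStrict_imageSys X r hr, isARIso_imageSysι X r⟩
  · rintro ⟨Y, u, hY, hu⟩
    obtain ⟨r, hr⟩ := (isARNull_cokernel_iff u).1 hu.2
    exact (isMLAR_iff X).2 ⟨r, mlBound_of_strict u hY hr⟩

end Groth.Agent.H2.AR
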