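import Groth.Agent.Lib.Helper2.ARSysAdic2
import Mathlib.RingTheory.Finiteness.Ideal

set_option autoImplicit false
universe w v u
open CategoryTheory CategoryTheory.Limits Opposite

namespace Groth.Agent.H2.AR

open ARSys

variable {C : Type u} [Category.{v} C] [Abelian C] {A : Type w} [CommRing A] [Linear A C]

set_option linter.unusedSectionVars false

variable (C) in
/-- Data presenting an ideal by a family of generators over which `C` has coproducts. -/
structure QData (I : Ideal A) where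
  ι : Type w
  a : ι → A
  span_eq : Ideal.span (Set.range a) = I
  hasCoprod : ∀ X : C, HasCoproduct (fun _ : ι => X)

lemma nonempty_qData_of_fg {I : Ideal A} (hI : I.FG) : Nonempty (QData C I) := by
  obtain ⟨s, hs⟩ := hI
  exact ⟨{ ι := {x // x ∈ s}
           a := Subtype.val
           span_eq := by
            rw [← hs]
            congr 1
            ext x
            simp
           hasCoprod := fun X => inferInstance }⟩

lemma nonempty_qData_of_hasCoproducts (I : Ideal A) (h : HasCoproducts.{w} C) :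
    Nonempty (QData C I) :=
  ⟨{ ι := I
     a := Subtype.val
     span_eq := by
      rw [Subtype.range_coe_subtype]
      exact Ideal.span_eq I
     hasCoprod := fun X => inferInstance }⟩

lemma nonempty_qData {J : Ideal A} (hJ : J.FG ∨ HasCoproducts.{w} C) (n : ℕ) :
    Nonempty (QData C (J ^ n)) := by
  rcases hJ with h | h
  · exact nonempty_qData_of_fg (h.pow)
  · exact nonempty_qData_of_hasCoproducts _ h

namespace QData

variable {I : Ideal A} (d : QData C I)

/-- The object `X^{(ι)}`. -/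
noncomputable def sum (X : C) : C :=
  haveI := d.hasCoprod X
  ∐ (fun _ : d.ι => X)

/-- The inclusions into `X^{(ι)}`. -/
noncomputable def inc (X : C) (i : d.ι) : X ⟶ d.sum X :=
  haveI := d.hasCoprod X
  Sigma.ι (fun _ : d.ι => X) i

/-- The map `X^{(ι)} ⟶ X` whose image is `I X`. -/
noncomputable def Φ (X : C) : d.sum X ⟶ X :=
  haveI := d.hasCoprod X
  Sigma.desc (fun i => d.a i • 𝟙 X)

/-- Functoriality of `X^{(ι)}`. -/
noncomputable def sumMap {X Y : C} (f : X ⟶ Y) : d.sum X ⟶ d.sum Y :=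
  haveI := d.hasCoprod X
  haveI := d.hasCoprod Y
  Limits.Sigma.map (fun _ : d.ι => f)

@[reassoc (attr := simp)]
lemma inc_Φ (X : C) (i : d.ι) : d.inc X i ≫ d.Φ X = d.a i • 𝟙 X := by
  have := d.hasCoprod X
  exact Limits.Sigma.ι_desc _ _

@[reassoc (attr := simp)]
lemma inc_sumMap {X Y : C} (f : X ⟶ Y) (i : d.ι) : d.inc X i ≫ d.sumMap f = f ≫ d.inc Y i := by
  have := d.hasCoprod X
  have := d.hasCoprod Y
  exact Limits.Sigma.ι_map _ _

lemma sum_hom_ext {X Y : C} {f g : d.sum X ⟶ Y} (h : ∀ i, d.inc X i ≫ f = d.inc X i ≫ g) :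
    f = g := by
  have := d.hasCoprod X
  exact Limits.Sigma.hom_ext _ _ h

@[reassoc]
lemma sumMap_Φ {X Y : C} (f : X ⟶ Y) : d.sumMap f ≫ d.Φ Y = d.Φ X ≫ f := by
  apply d.sum_hom_ext
  intro i
  rw [inc_sumMap_assoc, inc_Φ, inc_Φ_assoc, smul_id_comp]

instance {X Y : C} (f : X ⟶ Y) [Epi f] : Epi (d.sumMap f) := by
  have := d.hasCoprod X
  have := d.hasCoprod Y
  have : ∀ i : d.ι, Epi ((fun _ : d.ι => f) i) := fun _ => inferInstance
  exact Limits.Sigma.map_epi (fun _ : d.ι => f)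

lemma a_mem (i : d.ι) : d.a i ∈ I := by
  have := Ideal.subset_span (s := Set.range d.a) ⟨i, rfl⟩
  rwa [d.span_eq] at this

lemma homKilledBy_iff {X Y : C} (φ : X ⟶ Y) : HomKilledBy I φ ↔ d.Φ X ≫ φ = 0 := by
  constructor
  · intro h
    apply d.sum_hom_ext
    intro i
    rw [inc_Φ_assoc, comp_zero, Linear.smul_comp, Category.id_comp]
    exact h _ (d.a_mem i)
  · intro h a ha
    rw [← d.span_eq] at ha
    induction ha using Submodule.span_induction with
    | mem x hx =>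
      obtain ⟨i, rfl⟩ := hx
      have := d.inc X i ≫= h
      rw [inc_Φ_assoc, comp_zero, Linear.smul_comp, Category.id_comp] at this
      exact this
    | zero => exact zero_smul _ _
    | add x y _ _ hx hy => rw [add_smul, hx, hy, add_zero]
    | smul c x _ hx => rw [smul_eq_mul, mul_smul, hx, smul_zero]

lemma killedBy_iff (X : C) : KilledBy I X ↔ d.Φ X = 0 := by
  have := d.homKilledBy_iff (𝟙 X)
  rw [Category.comp_id] at this
  exact this

lemma isQuot_cokernel (X : C) : IsQuot I (cokernel.π (d.Φ X)) := by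
  have h1 : HomKilledBy I (cokernel.π (d.Φ X)) := (d.homKilledBy_iff _).2 (cokernel.condition _)
  rw [isQuot_iff_epi]
  refine ⟨fun a ha => ?_, inferInstance, fun Y φ hφ => ?_⟩
  · rw [← cancel_epi (cokernel.π (d.Φ X)), comp_zero, Linear.comp_smul, Category.comp_id]
    exact h1 a ha
  · exact ⟨cokernel.desc _ φ ((d.homKilledBy_iff φ).1 hφ), cokernel.π_desc _ _ _⟩

include d in
lemma exists_isQuot (X : C) : ∃ (Q : C) (p : X ⟶ Q), IsQuot I p :=
  ⟨_, _, d.isQuot_cokernel X⟩

/-- The kernel of a quotient map modulo `I` is `I X`. -/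
lemma comp_eq_zero_iff {X Q : C} {p : X ⟶ Q} (hp : IsQuot I p) {B : C} (x : B ⟶ X) :
    x ≫ p = 0 ↔ ImLE x (d.Φ X) := by
  obtain ⟨e, he⟩ := isQuot_exists_iso (d.isQuot_cokernel X) hp
  rw [imLE_iff_comp_cokernel, ← he, ← Category.assoc]
  constructor
  · intro h
    rw [← cancel_mono e.hom, zero_comp]
    exact h
  · intro h
    rw [h, zero_comp]

/-- A map kills `I X` iff it is killed by `I`. -/
lemma imLE_Φ_comp_eq_zero {X Y : C} {φ : X ⟶ Y} (hφ : HomKilledBy I φ) {B : C} {x : B ⟶ X}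
    (hx : ImLE x (d.Φ X)) : x ≫ φ = 0 :=
  hx.comp_eq_zero ((d.homKilledBy_iff φ).1 hφ)

/-- Characterisation of quotient maps: epi, killed target, kernel inside `I X`. -/
lemma isQuot_iff {X Q : C} (p : X ⟶ Q) :
    IsQuot I p ↔ KilledBy I Q ∧ Epi p ∧
      ∀ (B : C) (x : B ⟶ X), x ≫ p = 0 → ImLE x (d.Φ X) := by
  constructor
  · intro h
    exact ⟨h.1, isQuot_epi h, fun B x hx => (d.comp_eq_zero_iff h x).1 hx⟩
  · rintro ⟨h1, h2, h3⟩
    rw [isQuot_iff_epi]
    refine ⟨h1, h2, fun Y φ hφ => ?_⟩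
    have h0 : kernel.ι p ≫ φ = 0 :=
      d.imLE_Φ_comp_eq_zero hφ (h3 _ _ (kernel.condition p))
    exact ⟨(Abelian.epiIsCokernelOfKernel _ (kernelIsKernel p)).desc (CokernelCofork.ofπ φ h0),
      (Abelian.epiIsCokernelOfKernel _ (kernelIsKernel p)).fac (CokernelCofork.ofπ φ h0)
        WalkingParallelPair.one⟩

/-- Elements of `I X` lift along epimorphisms. -/
lemma imLE_Φ_lift {X Y : C} (f : X ⟶ Y) [Epi f] {B : C} {y : B ⟶ Y} (hy : ImLE y (d.Φ Y)) :
    ∃ (B' : C) (π : B' ⟶ B) (_ : Epi π) (x : B' ⟶ X), ImLE x (d.Φ X) ∧ π ≫ y = x ≫ f := by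
  obtain ⟨B₁, π₁, hπ₁, z, hz⟩ := hy
  obtain ⟨B₂, π₂, hπ₂, z', hz'⟩ := surjective_up_to_refinements_of_epi (d.sumMap f) z
  refine ⟨B₂, π₂ ≫ π₁, epi_comp _ _, z' ≫ d.Φ X, ImLE.comp_self _ _, ?_⟩
  rw [Category.assoc, hz, reassoc_of% hz', sumMap_Φ, Category.assoc]

lemma imLE_Φ_postcomp {X Y : C} (f : X ⟶ Y) {B : C} {x : B ⟶ X} (hx : ImLE x (d.Φ X)) :
    ImLE (x ≫ f) (d.Φ Y) := by
  refine (hx.postcomp f).trans ?_
  rw [← sumMap_Φ]
  exact ImLE.comp_self _ _

end QData

end Groth.Agent.H2.AR
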