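import Groth.Agent.Lib.Helper2.ARSysLin
import Mathlib.CategoryTheory.Abelian.SerreClass.MorphismProperty

set_option autoImplicit false
universe w v u
open CategoryTheory CategoryTheory.Limits Opposite

namespace Groth.Agent.H2.AR

open ARSys

variable {C : Type u} [Category.{v} C] [Abelian C]

set_option linter.unusedSectionVars false

theorem isARNull_iff_of_shortExact {S : ShortComplex (PS C)} (hS : S.ShortExact) :
    IsARNull S.X₂ ↔ (IsARNull S.X₁ ∧ IsARNull S.X₃) := by
  simp only [isARNull_def]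
  constructor
  · rintro ⟨r, hr⟩
    refine ⟨⟨r, fun n => ?_⟩, ⟨r, fun n => ?_⟩⟩
    · have : Mono (S.f.app (op n)) := mono_f_app hS _
      rw [← cancel_mono (S.f.app (op n)), zero_comp,
        ← naturality_tr S.f (Nat.le_add_right n r), hr n, comp_zero]
    · have : Epi (S.g.app (op (n + r))) := epi_g_app hS _
      rw [← cancel_epi (S.g.app (op (n + r))), comp_zero,
        naturality_tr S.g (Nat.le_add_right n r), hr n, zero_comp]
  · rintro ⟨⟨r₁, h₁⟩, ⟨r₃, h₃⟩⟩
    rw [← isARNull_def, isARNull_iff]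
    refine ⟨r₁ + r₃, fun n m h => ?_⟩
    have hle1 : n + r₁ ≤ m := by omega
    rw [← tr_comp S.X₂ (Nat.le_add_right n r₁) hle1]
    have hg : tr S.X₂ hle1 ≫ S.g.app (op (n + r₁)) = 0 := by
      rw [← naturality_tr S.g hle1,
        IsARNull.tr_eq_zero' h₃ (n := n + r₁) (m := m) (by omega) hle1, comp_zero]
    obtain ⟨l, hl⟩ := exists_lift_of_shortExact hS _ _ hg
    rw [← hl, Category.assoc, naturality_tr S.f (Nat.le_add_right n r₁),
      h₁ n, zero_comp, comp_zero]

variable (C) in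
/-- The class of systems that are null up to translation. -/
def arNull : ObjectProperty (PS C) := fun X => IsARNull X

lemma isARNull_of_isZero {X : PS C} (hX : IsZero X) : IsARNull X := by
  refine ⟨0, fun n => ?_⟩
  have : IsZero (X.obj (op n)) := (Functor.isZero_iff X).1 hX _
  exact this.eq_of_tgt _ _

instance : (arNull C).IsSerreClass where
  exists_zero := by
    obtain ⟨Z, hZ⟩ := HasZeroObject.zero (C := PS C)
    exact ⟨Z, hZ, isARNull_of_isZero hZ⟩
  prop_of_mono {X Y} f _ hY := by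
    obtain ⟨r, hr⟩ := (isARNull_def Y).1 hY
    refine (isARNull_def X).2 ⟨r, fun n => ?_⟩
    have : Mono (f.app (op n)) := (NatTrans.mono_iff_mono_app f).1 inferInstance _
    rw [← cancel_mono (f.app (op n)), zero_comp, ← naturality_tr f, hr n, comp_zero]
  prop_of_epi {X Y} f _ hX := by
    obtain ⟨r, hr⟩ := (isARNull_def X).1 hX
    refine (isARNull_def Y).2 ⟨r, fun n => ?_⟩
    have : Epi (f.app (op (n + r))) := (NatTrans.epi_iff_epi_app f).1 inferInstance _
    rw [← cancel_epi (f.app (op (n + r))), comp_zero, naturality_tr f, hr n, zero_comp]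
  prop_X₂_of_shortExact hS h₁ h₃ := (isARNull_iff_of_shortExact hS).2 ⟨h₁, h₃⟩

lemma isARIso_iff_isoModSerre {X Y : PS C} (u : X ⟶ Y) :
    IsARIso u ↔ (arNull C).isoModSerre u := Iff.rfl

lemma IsARIso.comp {X Y Z : PS C} {u : X ⟶ Y} {v : Y ⟶ Z} (hu : IsARIso u) (hv : IsARIso v) :
    IsARIso (u ≫ v) :=
  (arNull C).isoModSerre.comp_mem u v hu hv

lemma IsARIso.of_postcomp {X Y Z : PS C} {u : X ⟶ Y} {v : Y ⟶ Z} (hv : IsARIso v)
    (huv : IsARIso (u ≫ v)) : IsARIso u :=
  (arNull C).isoModSerre.of_postcomp (W' := (arNull C).isoModSerre) u v hv huv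

lemma IsARIso.of_precomp {X Y Z : PS C} {u : X ⟶ Y} {v : Y ⟶ Z} (hu : IsARIso u)
    (huv : IsARIso (u ≫ v)) : IsARIso v :=
  (arNull C).isoModSerre.of_precomp (W' := (arNull C).isoModSerre) u v hu huv

lemma IsARIso.of_isIso {X Y : PS C} (u : X ⟶ Y) [IsIso u] : IsARIso u :=
  (arNull C).isoModSerre_of_isIso u

lemma isARIso_of_mono {X Y : PS C} (u : X ⟶ Y) [Mono u] (h : IsARNull (cokernel u)) :
    IsARIso u := ⟨isARNull_kernel_of_mono u, h⟩

lemma isARNull_cokernel_of_epi {X Y : PS C} (u : X ⟶ Y) [Epi u] : IsARNull (cokernel u) := by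
  rw [isARNull_cokernel_iff]
  refine ⟨0, fun n => ?_⟩
  have : Epi (u.app (op n)) := (NatTrans.epi_iff_epi_app u).1 inferInstance _
  exact imLE_of_epi _ _

lemma isARIso_of_epi {X Y : PS C} (u : X ⟶ Y) [Epi u] (h : IsARNull (kernel u)) :
    IsARIso u := ⟨h, isARNull_cokernel_of_epi u⟩

lemma isARIso_shiftNat (X : PS C) (r : ℕ) : IsARIso (shiftNat X r) := by
  rw [isARIso_iff]
  constructor
  · refine ⟨r, fun n A x hx => ?_⟩
    have h1 : x ≫ tr X (Nat.le_add_right (n + r) r) = 0 := hx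
    rw [shift_obj_tr]
    exact h1
  · exact ⟨r, fun n => ImLE.refl _⟩

/-- The uniform Mittag-Leffler condition is invariant under isomorphisms up to translation. -/
theorem isMLAR_iff_of_isARIso {P Q : PS C} (u : P ⟶ Q) (hu : IsARIso u) :
    IsMLAR P ↔ IsMLAR Q := by
  obtain ⟨ρ, v, h1, h2, h3⟩ := exists_quasiInverse u hu
  constructor
  · intro hP
    obtain ⟨r, hr⟩ := (isMLAR_iff P).1 hP
    refine (isMLAR_iff Q).2 ⟨ρ + r, fun n k m hk hm => ?_⟩
    -- tr Q (n ≤ k) = tr Q (n + r + ρ ≤ k) ≫ v (n + r) ≫ tr P (n ≤ n + r) ≫ u n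
    have hk1 : n + r + ρ ≤ k := by omega
    have e1 : tr Q ((Nat.le_add_right n (ρ + r)).trans hk) =
        tr Q hk1 ≫ v (n + r) ≫ tr P (Nat.le_add_right n r) ≫ u.app (op n) := by
      rw [← naturality_tr u (Nat.le_add_right n r), ← Category.assoc (v (n + r)), h1 (n + r),
        tr_comp_assoc, tr_comp]
    rw [e1, ← Category.assoc, ← Category.assoc]
    have h4 : ImLE ((tr Q hk1 ≫ v (n + r)) ≫ tr P (Nat.le_add_right n r)) (tr P hm) :=
      (hr n (n + r) m le_rfl hm).precomp _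
    refine (h4.postcomp (u.app (op n))).trans ?_
    rw [← naturality_tr u hm]
    exact ImLE.comp_self _ _
  · intro hQ
    obtain ⟨r, hr⟩ := (isMLAR_iff Q).1 hQ
    refine (isMLAR_iff P).2 ⟨ρ + r, fun n k m hk hm => ?_⟩
    have hk1 : n + ρ + r ≤ k := by omega
    -- it suffices to reach level `m + ρ`, then apply `v m`
    -- tr P (n ≤ k) = u k ≫ tr Q (n + ρ ≤ k) ≫ v n
    have hnk : n + ρ ≤ k := by omega
    have e1 : tr P ((Nat.le_add_right n (ρ + r)).trans hk) =
        u.app (op k) ≫ tr Q hnk ≫ v n := by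
      rw [naturality_tr_assoc u hnk, h2 n, tr_comp]
    rw [e1]
    have hnm : n + ρ ≤ m + ρ := by omega
    have h4 : ImLE (tr Q hnk) (tr Q hnm) := by
      have := hr (n + ρ) k (m + ρ) hk1 hnm
      exact this
    have h5 : ImLE (tr Q hnk ≫ v n) (tr Q hnm ≫ v n) := h4.postcomp (v n)
    have h6 : tr Q hnm ≫ v n = v m ≫ tr P hm := h3 n m hm
    rw [h6] at h5
    exact (h5.precomp _).trans (ImLE.comp_self _ _)

end Groth.Agent.H2.AR

namespace Groth.Agent.H2.AR

open ARSys

variable {C : Type u} [Category.{v} C] [Abelian C]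

set_option linter.unusedSectionVars false

/-- Packaged quasi-inverse as a morphism of systems. -/
theorem exists_quasiInverse' {X Y : PS C} (u : X ⟶ Y) (hu : IsARIso u) :
    ∃ (r : ℕ) (v : (shift C r).obj Y ⟶ X), v ≫ u = shiftNat Y r ∧
      (shift C r).map u ≫ v = shiftNat X r ∧ IsARIso v := by
  obtain ⟨r, v, h1, h2, h3⟩ := exists_quasiInverse u hu
  let V : (shift C r).obj Y ⟶ X :=
    { app := fun n => v n.unop
      naturality := by
        rintro ⟨n⟩ ⟨m⟩ f
        have hmn : m ≤ n := leOfHom f.unop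
        rw [map_eq_tr X f, map_eq_tr _ f, shift_obj_tr]
        exact h3 m n hmn }
  have hV1 : V ≫ u = shiftNat Y r := by
    ext ⟨n⟩
    exact h1 n
  have hV2 : (shift C r).map u ≫ V = shiftNat X r := by
    ext ⟨n⟩
    exact h2 n
  refine ⟨r, V, hV1, hV2, ?_⟩
  have h4 : IsARIso (V ≫ u) := by rw [hV1]; exact isARIso_shiftNat Y r
  exact IsARIso.of_postcomp hu h4

end Groth.Agent.H2.AR
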