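import Mathlib
import Groth.Prelude.Def_EtAcyc

universe u

open CategoryTheory CategoryTheory.Limits AlgebraicGeometry Opposite

namespace Groth.Agent.H2.BcId

variable (T : Scheme.{u})

set_option backward.isDefEq.respectTransparency.types false in
/-- Base change along the identity is isomorphic to the identity functor. -/
noncomputable def bcId : EtCoh.bc (𝟙 T) ≅ 𝟭 T.Etale :=
  NatIso.ofComponents
    (fun A => MorphismProperty.Over.isoMk
      (@asIso _ _ _ _ (pullback.fst A.hom (𝟙 T)) (pullback_fst_iso_of_right_iso A.hom (𝟙 T)))
      (by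
        have := pullback.condition (f := A.hom) (g := 𝟙 T)
        rw [Category.comp_id] at this
        exact this))
    (by
      intro A B g
      apply MorphismProperty.Over.Hom.ext
      change pullback.lift (pullback.fst A.hom (𝟙 T) ≫ g.left) (pullback.snd A.hom (𝟙 T)) _ ≫
        pullback.fst B.hom (𝟙 T) = pullback.fst A.hom (𝟙 T) ≫ g.left
      exact pullback.lift_fst _ _ _)

/-- Direct image along the identity (abelian sheaves). -/
noncomputable def pushId : EtCoh.push (𝟙 T) ≅ 𝟭 (EtCoh.Ab T) :=
  Functor.sheafPushforwardContinuousId' (bcId T) AddCommGrpCat.{u + 1} T.smallEtaleTopology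

/-- Direct image along the identity (sheaves of sets). -/
noncomputable def pushShId : EtDesc.pushSh (𝟙 T) ≅ 𝟭 (EtDesc.Sh T) :=
  Functor.sheafPushforwardContinuousId' (bcId T) (Type (u + 1)) T.smallEtaleTopology

end Groth.Agent.H2.BcId
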