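import Mathlib
import Groth.Agent.Lib.Helper2.ExtInd3

universe w w' v v' u u'

open CategoryTheory CategoryTheory.Limits

namespace Groth.Agent.H2.ExtInd

open Abelian

variable {C : Type u} [Category.{v} C] [Abelian C] [HasExt.{w} C] [EnoughInjectives C]
variable {D : Type u'} [Category.{v'} D] [Abelian D] [HasExt.{w'} D] [EnoughInjectives D]

omit [EnoughInjectives D] in
/-- `mapExactFunctor` for the identity functor. -/
theorem mapExactFunctor_id {X Y : C} {n : ℕ} (e : Ext.{w} X Y n) :
    e.mapExactFunctor (𝟭 C) = e := by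
  refine ext_induction (C := C) (P := fun {X Y n} e => e.mapExactFunctor (𝟭 C) = e) ?_ ?_ ?_ e
  · intro X Y f
    rw [Ext.mapExactFunctor_mk₀]
    rfl
  · intro S hS
    rw [Ext.mapExactFunctor_extClass]
    rfl
  · intro X Y Z a b c α β h hα hβ
    rw [Ext.mapExactFunctor_comp, hα, hβ]

omit [EnoughInjectives C] [EnoughInjectives D] [Abelian C] [HasExt.{w} C] in
lemma conj_bijective {F F' : C ⥤ D} (α : F ≅ F') (X Y : C) (n : ℕ) :
    Function.Bijective (conj α (X := X) (Y := Y) (n := n)) :=
  (precomp_bijective (α.inv.app X) n).comp (postcomp_bijective (α.hom.app Y) n)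

omit [EnoughInjectives D] in
lemma mapExactFunctor_comp_bijective (F : C ⥤ D) [F.Additive] [PreservesFiniteLimits F]
    [PreservesFiniteColimits F] (G : D ⥤ C) [G.Additive] [PreservesFiniteLimits G]
    [PreservesFiniteColimits G] (η : F ⋙ G ≅ 𝟭 C) (X Y : C) (n : ℕ) :
    Function.Bijective (fun e : Ext.{w} X Y n => (e.mapExactFunctor F).mapExactFunctor G) := by
  have h : (fun e : Ext.{w} X Y n => (e.mapExactFunctor F).mapExactFunctor G) =
      conj η.symm (X := X) (Y := Y) (n := n) := by
    funext e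
    rw [← mapExactFunctor_comp_functor, mapExactFunctor_natIso (𝟭 C) (F ⋙ G) η.symm e,
      mapExactFunctor_id]
  rw [h]
  exact conj_bijective η.symm X Y n

/-- An exact functor with an exact quasi-inverse induces bijections on `Ext`. -/
theorem mapExactFunctor_bijective_of_inverse (F : C ⥤ D) [F.Additive] [PreservesFiniteLimits F]
    [PreservesFiniteColimits F] (G : D ⥤ C) [G.Additive] [PreservesFiniteLimits G]
    [PreservesFiniteColimits G] (η : F ⋙ G ≅ 𝟭 C) (ζ : G ⋙ F ≅ 𝟭 D) (X Y : C) (n : ℕ) :
    Function.Bijective (fun e : Ext.{w} X Y n => e.mapExactFunctor F) := by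
  have h1 := mapExactFunctor_comp_bijective F G η X Y n
  have h2 := mapExactFunctor_comp_bijective G F ζ (F.obj X) (F.obj Y) n
  have hGinj : Function.Injective
      (fun e : Ext.{w'} (F.obj X) (F.obj Y) n => e.mapExactFunctor G) := by
    intro a b hab
    exact h2.1 (congrArg (fun z => z.mapExactFunctor F) hab)
  refine ⟨?_, ?_⟩
  · intro a b hab
    exact h1.1 (congrArg (fun z => z.mapExactFunctor G) hab)
  · intro y
    obtain ⟨x, hx⟩ := h1.2 (y.mapExactFunctor G)
    exact ⟨x, hGinj hx⟩

end Groth.Agent.H2.ExtInd
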