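import Mathlib
import Groth.Prelude.Def_EtAcyc
import Groth.Agent.Lib.Helper2.HpullA
import Groth.Agent.Lib.Helper2.ExtInd3

universe u

open CategoryTheory CategoryTheory.Limits AlgebraicGeometry Opposite

namespace Groth.Agent.H2.HpullA

open Abelian Groth.Agent.H2.ExtInd

variable {X Y Z : Scheme.{u}} (f : X ⟶ Y) (g : Y ⟶ Z)
  [PreservesFiniteLimits (EtCoh.pull f)] [PreservesFiniteLimits (EtCoh.pull g)]
  [PreservesFiniteLimits (EtCoh.pull (f ≫ g))]

/-- Pullback on cohomology along a composite is, up to a bijection, the composite of the pullbacks. -/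
theorem Hpull_comp (G : EtCoh.Ab Z) (n : ℕ) :
    ∃ Θ : EtCoh.H X ((EtCoh.pull f).obj ((EtCoh.pull g).obj G)) n →
        EtCoh.H X ((EtCoh.pull (f ≫ g)).obj G) n,
      Function.Bijective Θ ∧ ∀ e : EtCoh.H Z G n,
        EtCore.Hpull (f ≫ g) G n e = Θ (EtCore.Hpull f ((EtCoh.pull g).obj G) n (EtCore.Hpull g G n e)) := by
  haveI : PreservesFiniteLimits (EtCoh.pull g ⋙ EtCoh.pull f) := inferInstance
  let κ := EtCore.pullComp f g
  let cfg := (EtCore.pullConst (f ≫ g) ℤ).inv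
  let cf := (EtCore.pullConst f ℤ).inv
  let cg := (EtCore.pullConst g ℤ).inv
  let w := cf ≫ (EtCoh.pull f).map cg
  let v := cfg ≫ κ.hom.app (EtCoh.const Z ℤ)
  haveI : IsIso w := inferInstance
  haveI : IsIso v := inferInstance
  refine ⟨fun z => (Ext.mk₀ (v ≫ inv w)).comp (z.comp (Ext.mk₀ (κ.inv.app G)) (add_zero n)) (zero_add n),
    ?_, ?_⟩
  · exact (precomp_bijective (v ≫ inv w) n).comp (postcomp_bijective (κ.inv.app G) n)
  · intro e
    rw [Hpull_apply, Hpull_apply, Hpull_apply]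
    rw [mapExactFunctor_natIso (EtCoh.pull g ⋙ EtCoh.pull f) (EtCoh.pull (f ≫ g)) κ.symm e,
      mapExactFunctor_comp_functor]
    unfold conj
    rw [Ext.mapExactFunctor_comp, Ext.mapExactFunctor_mk₀]
    simp only [Iso.symm_inv, Iso.symm_hom]
    rw [Ext.mk₀_comp_mk₀_assoc, Ext.mk₀_comp_mk₀_assoc]
    -- both sides: mk₀ (..) . (E . mk₀ κ.inv)
    have hE : ∀ (E : Ext ((EtCoh.pull f).obj ((EtCoh.pull g).obj (EtCoh.const Z ℤ)))
        ((EtCoh.pull f).obj ((EtCoh.pull g).obj G)) n),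
        ((Ext.mk₀ (cf ≫ (EtCoh.pull f).map cg)).comp E (zero_add n)).comp (Ext.mk₀ (κ.inv.app G)) (add_zero n) =
        (Ext.mk₀ (cf ≫ (EtCoh.pull f).map cg)).comp (E.comp (Ext.mk₀ (κ.inv.app G)) (add_zero n)) (zero_add n) :=
      fun E => Ext.comp_assoc _ _ _ (zero_add n) (add_zero n) (by omega)
    rw [hE, Ext.mk₀_comp_mk₀_assoc]
    congr 2
    change cfg ≫ κ.hom.app _ = (v ≫ inv w) ≫ w
    rw [Category.assoc, IsIso.inv_hom_id, Category.comp_id]

end Groth.Agent.H2.HpullA
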