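import Mathlib
import Groth.Prelude.Def_EtAcyc
import Groth.Agent.Lib.Helper2.HpullD
import Groth.Agent.Lib.Helper2.ExtInd4
import Groth.Agent.Lib.Helper2.BcId
import Groth.Agent.Lib.Helper7.ES1

universe u

open CategoryTheory CategoryTheory.Limits AlgebraicGeometry Opposite

namespace Groth.Agent.H2.HpullA

open Abelian Groth.Agent.H2.ExtInd Groth.Agent.H2.BcId

/-- Inverse image along the identity. -/
noncomputable def pullId (T : Scheme.{u}) : EtCoh.pull (𝟙 T) ≅ 𝟭 (EtCoh.Ab T) :=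
  Adjunction.leftAdjointUniq (EtCoh.pullPushAdj (𝟙 T))
    ((Adjunction.id (C := EtCoh.Ab T)).ofNatIsoRight (pushId T).symm)

variable {T' T : Scheme.{u}} (ε : T' ⟶ T) [IsIso ε]

/-- `ε^{-1}` followed by `(ε⁻¹)^{-1}` is the identity. -/
noncomputable def pullPullInv : EtCoh.pull ε ⋙ EtCoh.pull (inv ε) ≅ 𝟭 (EtCoh.Ab T) :=
  (EtCore.pullComp (inv ε) ε).symm ≪≫ EtCore.pullCongr (IsIso.inv_hom_id ε) ≪≫ pullId T

noncomputable def pullInvPull : EtCoh.pull (inv ε) ⋙ EtCoh.pull ε ≅ 𝟭 (EtCoh.Ab T') :=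
  (EtCore.pullComp ε (inv ε)).symm ≪≫ EtCore.pullCongr (IsIso.hom_inv_id ε) ≪≫ pullId T'

set_option linter.style.haveILetI false in
/-- Pullback on cohomology along an isomorphism is bijective. -/
theorem Hpull_bijective_of_isIso [PreservesFiniteLimits (EtCoh.pull ε)] (G : EtCoh.Ab T) (n : ℕ) :
    Function.Bijective (EtCore.Hpull ε G n) := by
  haveI : PreservesFiniteLimits (EtCoh.pull (inv ε)) := Groth.Agent.H7.GT.S101_main _
  have h1 := mapExactFunctor_bijective_of_inverse (EtCoh.pull ε) (EtCoh.pull (inv ε))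
    (pullPullInv ε) (pullInvPull ε) (EtCoh.const T ℤ) G n
  have h2 := precomp_bijective (Y := (EtCoh.pull ε).obj G) (EtCore.pullConst ε ℤ).inv n
  have h3 : ⇑(EtCore.Hpull ε G n) = (fun e => (Ext.mk₀ (EtCore.pullConst ε ℤ).inv).comp e (zero_add n)) ∘
      (fun e : Ext (EtCoh.const T ℤ) G n => e.mapExactFunctor (EtCoh.pull ε)) := by
    funext e
    exact Hpull_apply ε G n e
  rw [h3]
  exact h2.comp h1

end Groth.Agent.H2.HpullA
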