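import Mathlib
import Groth.Prelude.Def_EtAcyc
import Groth.Agent.Lib.Helper7.ST1
import Groth.Agent.Lib.Helper7.ST5

universe u

open CategoryTheory CategoryTheory.Limits AlgebraicGeometry Opposite

namespace Groth.Agent.H2.LTors

variable {X Y : Scheme.{u}}

/-- Stalkwise `L`-torsion. -/
def StalkLTorsion (L : Set ℕ) (F : EtCoh.Ab X) : Prop :=
  ∀ (Ω : Type u) [Field Ω] [IsSepClosed Ω] (ξ : Spec (CommRingCat.of Ω) ⟶ X)
    (z : ToType ((EtCoh.stalk ξ).obj F)), ∃ m : ℕ, EtAcyc.PrimesIn L m ∧ m • z = 0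

set_option linter.style.haveILetI false in
set_option backward.isDefEq.respectTransparency.types false in
theorem stalkLTorsion_of_isLTorsion (L : Set ℕ) (F : EtCoh.Ab X) (hF : EtAcyc.IsLTorsion L F) :
    StalkLTorsion L F := by
  intro Ω _ _ ξ z
  obtain ⟨U, u, s, rfl⟩ := (Scheme.pointSmallEtale ξ).toPresheafFiber_jointly_surjective (P := F.obj) z
  obtain ⟨ul, hul⟩ : ∃ ul : Spec (.of Ω) ⟶ U.left, ul = u.left := ⟨_, rfl⟩
  have hulw : ul ≫ U.hom = ξ := hul ▸ Over.w u
  obtain ⟨V, g, m, ⟨v, hv⟩, hm, h0⟩ := hF U s (ul.base default)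
  haveI : AlgebraicGeometry.Etale g.left := by
    have h1 : AlgebraicGeometry.Etale (g.left ≫ U.hom) := by
      rw [show g.left ≫ U.hom = V.hom from Over.w g.hom]
      exact V.prop
    haveI : AlgebraicGeometry.Etale U.hom := U.prop
    exact AlgebraicGeometry.Etale.of_comp g.left U.hom
  obtain ⟨l, hl, -⟩ := Scheme.exists_fac_of_etale_of_isSepClosed g.left ul v hv
  have hlw : l ≫ V.hom = ξ := by
    rw [← show g.left ≫ U.hom = V.hom from Over.w g.hom, reassoc_of% hl, hulw]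
  obtain ⟨y, hy⟩ : ∃ y : (Scheme.pointSmallEtale ξ).fiber.obj V, y.left = l := ⟨Over.homMk l hlw, rfl⟩
  have hyu : (Scheme.pointSmallEtale ξ).fiber.map g y = u := by
    apply Over.OverMorphism.ext
    change y.left ≫ g.left = u.left
    exact (congrArg (fun t => t ≫ g.left) hy).trans (hl.trans hul)
  refine ⟨m, hm, ?_⟩
  have hw := ConcreteCategory.congr_hom ((Scheme.pointSmallEtale ξ).toPresheafFiber_w g y F.obj) s
  rw [hyu] at hw
  rw [← hw, ConcreteCategory.comp_apply]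
  have e1 : m • ((Scheme.pointSmallEtale ξ).toPresheafFiber V y F.obj) ((F.obj.map g.op) s) =
      ((Scheme.pointSmallEtale ξ).toPresheafFiber V y F.obj) (m • (F.obj.map g.op) s) :=
    (map_nsmul ((Scheme.pointSmallEtale ξ).toPresheafFiber V y F.obj).hom m _).symm
  exact e1.trans ((congrArg (fun t => ((Scheme.pointSmallEtale ξ).toPresheafFiber V y F.obj) t) h0).trans
    (map_zero ((Scheme.pointSmallEtale ξ).toPresheafFiber V y F.obj).hom))

end Groth.Agent.H2.LTors

namespace Groth.Agent.H2.LTors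

variable {X Y : Scheme.{u}}

set_option backward.isDefEq.respectTransparency.types false in
theorem isLTorsion_of_stalkLTorsion (L : Set ℕ) (F : EtCoh.Ab X) (h : StalkLTorsion L F) :
    EtAcyc.IsLTorsion L F := by
  intro U s x
  obtain ⟨ξU, hξU⟩ : ∃ ξU : Spec (CommRingCat.of (SeparableClosure (U.left.residueField x))) ⟶ U.left,
      ξU.base default = x := ⟨_, Groth.Agent.H7.ST.geomξ_default U.left x⟩
  obtain ⟨u, hu⟩ : ∃ u : (Scheme.pointSmallEtale (ξU ≫ U.hom)).fiber.obj U, u.left = ξU :=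
    ⟨Over.homMk ξU rfl, rfl⟩
  obtain ⟨m, hm, hz⟩ := h _ (ξU ≫ U.hom)
    ((Scheme.pointSmallEtale (ξU ≫ U.hom)).toPresheafFiber U u F.obj s)
  have e1 : ((Scheme.pointSmallEtale (ξU ≫ U.hom)).toPresheafFiber U u F.obj) (m • s) =
      ((Scheme.pointSmallEtale (ξU ≫ U.hom)).toPresheafFiber U u F.obj) 0 :=
    ((map_nsmul ((Scheme.pointSmallEtale (ξU ≫ U.hom)).toPresheafFiber U u F.obj).hom m s).trans hz).trans
      (map_zero ((Scheme.pointSmallEtale (ξU ≫ U.hom)).toPresheafFiber U u F.obj).hom).symm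
  obtain ⟨V, g, y, hy, hV⟩ :=
    ((Scheme.pointSmallEtale (ξU ≫ U.hom)).toPresheafFiber_eq_iff' U u (m • s) 0).1 e1
  obtain ⟨yl, hyl⟩ : ∃ yl : Spec (CommRingCat.of (SeparableClosure (U.left.residueField x))) ⟶ V.left,
      yl = y.left := ⟨_, rfl⟩
  refine ⟨V, g, m, ⟨yl.base default, ?_⟩, hm, ?_⟩
  · have e2 : yl ≫ g.left = ξU := by
      have := congrArg (fun t => Over.Hom.left t) hy
      exact (congrArg (fun t => t ≫ g.left) hyl).trans (this.trans hu)
    rw [← Scheme.Hom.comp_apply, e2, hξU]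
  · have e3 : F.obj.map g.op (m • s) = m • F.obj.map g.op s := map_nsmul (F.obj.map g.op).hom m s
    rw [← e3, hV, map_zero]

/-- `L`-torsion is stable under inverse image. -/
theorem isLTorsion_pull (f : X ⟶ Y) (L : Set ℕ) (F : EtCoh.Ab Y) (hF : EtAcyc.IsLTorsion L F) :
    EtAcyc.IsLTorsion L ((EtCoh.pull f).obj F) := by
  apply isLTorsion_of_stalkLTorsion
  intro Ω _ _ ξ z
  have h := stalkLTorsion_of_isLTorsion L F hF Ω (ξ ≫ f)
  obtain ⟨m, hm, hz⟩ := h (((Groth.Agent.H7.ST.stalkPullIso f ξ).app F).hom z)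
  refine ⟨m, hm, ?_⟩
  have hinj : Function.Injective (((Groth.Agent.H7.ST.stalkPullIso f ξ).app F).hom) :=
    ((ConcreteCategory.isIso_iff_bijective _).mp inferInstance).1
  apply hinj
  rw [map_zero]
  exact (map_nsmul ((Groth.Agent.H7.ST.stalkPullIso f ξ).app F).hom.hom m z).trans hz

end Groth.Agent.H2.LTors
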