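import Mathlib
import Groth.Prelude.Def_EtAcyc
import Groth.Agent.Lib.Helper2.HpullE
import Groth.Agent.Lib.Helper2.LTorsA

universe u

open CategoryTheory CategoryTheory.Limits AlgebraicGeometry Opposite

namespace Groth.Agent.H2.AcycComp

open Groth.Agent.H2.HpullA Groth.Agent.H2.LTors Groth.Agent.H7.ES

/-- `Hpull_comp` for a morphism equal to a composite. -/
theorem Hpull_comp' {X Y Z : Scheme.{u}} (f : X ⟶ Y) (g : Y ⟶ Z) (k : X ⟶ Z) (hk : k = f ≫ g)
    (G : EtCoh.Ab Z) (n : ℕ) :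
    ∃ Θ : EtCoh.H X ((EtCoh.pull f).obj ((EtCoh.pull g).obj G)) n →
        EtCoh.H X ((EtCoh.pull k).obj G) n,
      Function.Bijective Θ ∧ ∀ e : EtCoh.H Z G n,
        EtCore.Hpull k G n e = Θ (EtCore.Hpull f ((EtCoh.pull g).obj G) n (EtCore.Hpull g G n e)) := by
  subst hk
  exact Hpull_comp f g G n

/-- Two-out-of-three for the comparison condition. -/
theorem compN_iff {P' P Q W : Scheme.{u}} (b : P' ⟶ Q) (a : Q ⟶ W) (c : P ⟶ W) (ε : P' ⟶ P) [IsIso ε]
    (hε : ε ≫ c = b ≫ a) (L : Set ℕ) (n : ℕ) (hb : EtAcyc.CompN b L n) :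
    EtAcyc.CompN a L n ↔ EtAcyc.CompN c L n := by
  have key : ∀ (F : EtCoh.Ab W), EtAcyc.IsLTorsion L F → ∀ q : ℕ,
      ((Function.Bijective (EtCore.Hpull b ((EtCoh.pull a).obj F) q) →
        (Function.Bijective (EtCore.Hpull a F q) ↔ Function.Bijective (EtCore.Hpull c F q))) ∧
      (Function.Injective (EtCore.Hpull b ((EtCoh.pull a).obj F) q) →
        (Function.Injective (EtCore.Hpull a F q) ↔ Function.Injective (EtCore.Hpull c F q)))) := by
    intro F _ q
    obtain ⟨Θ₂, hΘ₂, h2⟩ := Hpull_comp' b a (b ≫ a) rfl F q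
    obtain ⟨Θ₁, hΘ₁, h1⟩ := Hpull_comp' ε c (b ≫ a) hε.symm F q
    have hE := Hpull_bijective_of_isIso ε ((EtCoh.pull c).obj F) q
    have heq : (Θ₂ ∘ (EtCore.Hpull b ((EtCoh.pull a).obj F) q)) ∘ (EtCore.Hpull a F q) =
        (Θ₁ ∘ (EtCore.Hpull ε ((EtCoh.pull c).obj F) q)) ∘ (EtCore.Hpull c F q) := by
      funext e
      exact (h2 e).symm.trans (h1 e)
    have hR : Function.Bijective (Θ₁ ∘ (EtCore.Hpull ε ((EtCoh.pull c).obj F) q)) := hΘ₁.comp hE
    constructor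
    · intro hB
      have hLft : Function.Bijective (Θ₂ ∘ (EtCore.Hpull b ((EtCoh.pull a).obj F) q)) := hΘ₂.comp hB
      rw [← Function.Bijective.of_comp_iff' hLft, ← Function.Bijective.of_comp_iff' hR, heq]
    · intro hB
      have hLft : Function.Injective (Θ₂ ∘ (EtCore.Hpull b ((EtCoh.pull a).obj F) q)) :=
        hΘ₂.1.comp hB
      rw [← Function.Injective.of_comp_iff hLft, ← Function.Injective.of_comp_iff hR.1, heq]
  constructor
  · intro ha F hF _
    have hA := ha F hF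
    have hB := hb ((EtCoh.pull a).obj F) (isLTorsion_pull a L F hF)
    refine ⟨fun q hq => ((key F hF q).1 (hB.1 q hq)).1 (hA.1 q hq), ?_⟩
    exact ((key F hF (n + 1)).2 hB.2).1 hA.2
  · intro hc F hF _
    have hC := hc F hF
    have hB := hb ((EtCoh.pull a).obj F) (isLTorsion_pull a L F hF)
    refine ⟨fun q hq => ((key F hF q).1 (hB.1 q hq)).2 (hC.1 q hq), ?_⟩
    exact ((key F hF (n + 1)).2 hB.2).2 hC.2

end Groth.Agent.H2.AcycComp
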