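import Mathlib
import Groth.Prelude.Def_EtAcyc
import Groth.Agent.Lib.Helper2.AcycCompA

universe u

open CategoryTheory CategoryTheory.Limits AlgebraicGeometry Opposite

namespace Groth.Agent.H2.AcycComp

set_option backward.isDefEq.respectTransparency.types false in
theorem isAcyclicN_comp_iff {X Y Z : Scheme.{u}} (g : X ⟶ Y) (h : Y ⟶ Z) (L : Set ℕ) (n : ℕ)
    (hg : EtAcyc.IsAcyclicN g L n) :
    EtAcyc.IsAcyclicN h L n ↔ EtAcyc.IsAcyclicN (g ≫ h) L n := by
  refine forall_congr' (fun V => ?_)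
  exact compN_iff (b := EtAcyc.prj g ((EtCoh.bc h).obj V)) (a := EtAcyc.prj h V)
    (c := EtAcyc.prj (g ≫ h) V) (ε := (pullbackLeftPullbackSndIso V.hom h g).hom)
    (pullbackLeftPullbackSndIso_hom_fst V.hom h g) L n (hg _)

end Groth.Agent.H2.AcycComp
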