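import Mathlib

universe v₁ v₂ v₃ u₁ u₂ u₃

open CategoryTheory

namespace Groth.Agent.H2.UnitComp

variable {C : Type u₁} [Category.{v₁} C] {D : Type u₂} [Category.{v₂} D] {E : Type u₃} [Category.{v₃} E]

/-- The unit of an adjunction whose right adjoint is a composite, compared to the composite of units. -/
theorem isIso_unit_iff {L₁ : C ⥤ D} {R₁ : D ⥤ C} {L₂ : D ⥤ E} {R₂ : E ⥤ D} {L : C ⥤ E} {R : E ⥤ C}
    (adj₁ : L₁ ⊣ R₁) (adj₂ : L₂ ⊣ R₂) (adj : L ⊣ R) (iso : R₂ ⋙ R₁ ≅ R) (x : C) :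
    IsIso (adj.unit.app x) ↔ IsIso (adj₁.unit.app x ≫ R₁.map (adj₂.unit.app (L₁.obj x))) := by
  let adj' := (adj₁.comp adj₂).ofNatIsoRight iso
  have h1 := Adjunction.unit_leftAdjointUniq_hom_app adj adj' x
  have h2 : adj'.unit.app x =
      (adj₁.unit.app x ≫ R₁.map (adj₂.unit.app (L₁.obj x))) ≫ iso.hom.app _ := by
    simp [adj', Adjunction.ofNatIsoRight, Adjunction.comp]
  rw [h2] at h1
  constructor
  · intro hA
    have : IsIso ((adj₁.unit.app x ≫ R₁.map (adj₂.unit.app (L₁.obj x))) ≫ iso.hom.app _) := by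
      rw [← h1]; infer_instance
    exact IsIso.of_isIso_comp_right _ (iso.hom.app _)
  · intro hB
    have : IsIso (adj.unit.app x ≫ R.map ((Adjunction.leftAdjointUniq adj adj').hom.app x)) := by
      rw [h1]; infer_instance
    exact IsIso.of_isIso_comp_right _ (R.map ((Adjunction.leftAdjointUniq adj adj').hom.app x))

end Groth.Agent.H2.UnitComp
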