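import Mathlib
import Groth.Prelude.Def_EtAcyc
import Groth.Agent.Lib.Helper2.BcId
import Groth.Agent.Lib.Helper2.UnitComp

universe u

open CategoryTheory CategoryTheory.Limits AlgebraicGeometry Opposite

namespace Groth.Agent.H2.AcycComp

open Groth.Agent.H2.BcId

/-- Unit of the inverse/direct image adjunction for a composite (sheaves of sets). -/
theorem isIso_unitSh_comp_iff {Z X Y : Scheme.{u}} (g : Z ⟶ X) (f : X ⟶ Y) (k : Z ⟶ Y)
    (hk : k = g ≫ f) (F : EtDesc.Sh Y) :
    IsIso ((EtDesc.adjSh k).unit.app F) ↔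
      IsIso ((EtDesc.adjSh f).unit.app F ≫
        (EtDesc.pushSh f).map ((EtDesc.adjSh g).unit.app ((EtDesc.pullSh f).obj F))) := by
  subst hk
  exact Groth.Agent.H2.UnitComp.isIso_unit_iff (EtDesc.adjSh f) (EtDesc.adjSh g)
    (EtDesc.adjSh (g ≫ f)) (EtDesc.pushCompSh f g) F

variable {T' T : Scheme.{u}} (ε : T' ⟶ T) [IsIso ε]

/-- Direct image along an isomorphism is an equivalence. -/
noncomputable def pushShEquiv : EtDesc.Sh T' ≌ EtDesc.Sh T :=
  CategoryTheory.Equivalence.mk (EtDesc.pushSh ε) (EtDesc.pushSh (inv ε))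
    ((pushShId T').symm ≪≫ eqToIso (by rw [IsIso.hom_inv_id]) ≪≫ (EtDesc.pushCompSh (inv ε) ε).symm)
    (EtDesc.pushCompSh ε (inv ε) ≪≫ eqToIso (by rw [IsIso.inv_hom_id]) ≪≫ pushShId T)

set_option linter.style.haveILetI false in
theorem isIso_unitSh_of_isIso (G : EtDesc.Sh T) : IsIso ((EtDesc.adjSh ε).unit.app G) := by
  haveI : (EtDesc.pushSh ε).IsEquivalence := (pushShEquiv ε).isEquivalence_functor
  haveI : (EtDesc.pullSh ε).IsEquivalence := (EtDesc.adjSh ε).isEquivalence_left_of_isEquivalence_right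
  infer_instance

end Groth.Agent.H2.AcycComp
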