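import Mathlib
import Groth.Prelude.Def_EtAcyc
import Groth.Agent.Lib.Helper2.AcycCompB
import Groth.Agent.Lib.Helper2.AcycCompC

universe u

open CategoryTheory CategoryTheory.Limits AlgebraicGeometry Opposite

namespace Groth.Agent.H2.AcycComp

lemma isIso_comp_iff_left {C : Type*} [Category C] {A B D : C} (p : A ⟶ B) (q : B ⟶ D) [IsIso q] :
    IsIso (p ≫ q) ↔ IsIso p :=
  ⟨fun _ => IsIso.of_isIso_comp_right p q, fun _ => inferInstance⟩

/-- Two-out-of-three for units (sheaves of sets). -/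
theorem unit_iff {P' P Q W : Scheme.{u}} (b : P' ⟶ Q) (a : Q ⟶ W) (c : P ⟶ W) (ε : P' ⟶ P) [IsIso ε]
    (hε : ε ≫ c = b ≫ a) (hb : ∀ G : EtDesc.Sh Q, IsIso ((EtDesc.adjSh b).unit.app G))
    (F : EtDesc.Sh W) :
    IsIso ((EtDesc.adjSh a).unit.app F) ↔ IsIso ((EtDesc.adjSh c).unit.app F) := by
  have h1 := isIso_unitSh_comp_iff b a (b ≫ a) rfl F
  have h2 := isIso_unitSh_comp_iff ε c (b ≫ a) hε.symm F
  haveI := hb ((EtDesc.pullSh a).obj F)
  haveI := isIso_unitSh_of_isIso ε ((EtDesc.pullSh c).obj F)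
  rw [isIso_comp_iff_left] at h1 h2
  exact h1.symm.trans h2

set_option backward.isDefEq.respectTransparency.types false in
theorem isZeroAcyclic_comp_iff {X Y Z : Scheme.{u}} (g : X ⟶ Y) (h : Y ⟶ Z)
    (hg : EtAcyc.IsZeroAcyclic g) :
    EtAcyc.IsZeroAcyclic h ↔ EtAcyc.IsZeroAcyclic (g ≫ h) := by
  refine forall_congr' (fun V => forall_congr' (fun F => ?_))
  exact unit_iff (b := EtAcyc.prj g ((EtCoh.bc h).obj V)) (a := EtAcyc.prj h V)
    (c := EtAcyc.prj (g ≫ h) V) (ε := (pullbackLeftPullbackSndIso V.hom h g).hom)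
    (pullbackLeftPullbackSndIso_hom_fst V.hom h g) (hg _) F

theorem S3513_main {X Y Z : Scheme.{u}} (g : X ⟶ Y) (h : Y ⟶ Z) (L : Set ℕ) (n : ℕ) :
    (EtAcyc.IsAcyclicN g L n → (EtAcyc.IsAcyclicN h L n ↔ EtAcyc.IsAcyclicN (g ≫ h) L n)) ∧
      (EtAcyc.IsZeroAcyclic g → (EtAcyc.IsZeroAcyclic h ↔ EtAcyc.IsZeroAcyclic (g ≫ h))) :=
  ⟨isAcyclicN_comp_iff g h L n, isZeroAcyclic_comp_iff g h⟩

end Groth.Agent.H2.AcycComp
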