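import Mathlib

/-!
# Computing with `Hom(-,F)`-acyclic left resolutions

If `P → M` is a left resolution (quasi-isomorphism `P ⟶ single₀ M`) in an abelian category with
`Ext`, with `Ext^{>0}(P_n, F) = 0` and `Ext^{>0}(M, F) = 0`, then the complex `Hom(P_•, F)` is exact
in positive degrees.
-/

universe w v u

open CategoryTheory CategoryTheory.Limits CategoryTheory.Abelian

namespace Groth.Agent.H2.AcycRes

variable {A : Type u} [Category.{v} A] [Abelian A] [HasExt.{w} A]

/-- Vanishing of higher Ext into `F`. -/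
def Acyc (F X : A) : Prop := ∀ p : ℕ, Subsingleton (Ext X F (p + 1))

lemma Acyc.of_iso {F X Y : A} (e : X ≅ Y) (h : Acyc F X) : Acyc F Y := by
  intro p
  have := h p
  refine ⟨fun a b => ?_⟩
  have h1 : (Ext.mk₀ e.hom).comp a (zero_add _) = (Ext.mk₀ e.hom).comp b (zero_add _) :=
    Subsingleton.elim _ _
  have h2 := congrArg (fun z => (Ext.mk₀ e.inv).comp z (zero_add (p + 1))) h1
  simpa [← Ext.comp_assoc_of_second_deg_zero] using h2

lemma Acyc.of_shortExact {F : A} {S : ShortComplex A} (hS : S.ShortExact)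
    (h2 : Acyc F S.X₂) (h3 : Acyc F S.X₃) : Acyc F S.X₁ := by
  intro p
  have := h2 p
  have := h3 (p + 1)
  refine ⟨fun a b => ?_⟩
  have key : ∀ x : Ext S.X₁ F (p + 1), x = 0 := by
    intro x
    have h0 : hS.extClass.comp x (show 1 + (p + 1) = p + 1 + 1 by omega) = 0 :=
      Subsingleton.elim _ _
    obtain ⟨x₂, hx₂⟩ := Ext.contravariant_sequence_exact₁ hS F x _ h0
    rw [← hx₂, Subsingleton.elim x₂ 0, Ext.comp_zero]
  rw [key a, key b]

lemma exists_extension {F : A} {S : ShortComplex A} (hS : S.ShortExact)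
    (h3 : Acyc F S.X₃) (ψ : S.X₁ ⟶ F) : ∃ χ : S.X₂ ⟶ F, S.f ≫ χ = ψ := by
  have := h3 0
  have h0 : hS.extClass.comp (Ext.mk₀ ψ) (show 1 + 0 = 0 + 1 by omega) = 0 :=
    Subsingleton.elim _ _
  obtain ⟨x₂, hx₂⟩ := Ext.contravariant_sequence_exact₁ hS F (Ext.mk₀ ψ) _ h0
  obtain ⟨χ, rfl⟩ := (Ext.mk₀_bijective _ _).2 x₂
  refine ⟨χ, ?_⟩
  rw [Ext.mk₀_comp_mk₀] at hx₂
  exact (Ext.mk₀_bijective _ _).1 hx₂

variable (P : ChainComplex A ℕ)

/-- The short complex `opcycles (n+1) → P_n → opcycles n`. -/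
noncomputable def opSC (n : ℕ) : ShortComplex A :=
  ShortComplex.mk (P.fromOpcycles (n + 1) n) (P.pOpcycles n) (by
    rw [← cancel_epi (P.pOpcycles (n + 1)), HomologicalComplex.p_fromOpcycles_assoc,
      HomologicalComplex.d_pOpcycles, comp_zero])

lemma opSC_shortExact (n : ℕ) (h : P.ExactAt (n + 1)) : (opSC P n).ShortExact := by
  have hmono : Mono (P.fromOpcycles (n + 1) n) := by
    refine Preadditive.mono_of_isZero_kernel' _ (P.homologyIsKernel (n + 1) n (by simp)) ?_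
    exact h.isZero_homology
  have hepi : Epi (P.pOpcycles n) := inferInstance
  have hex : (opSC P n).Exact := by
    let S' : ShortComplex A := ShortComplex.mk (P.d (n + 1) n) (P.pOpcycles n) (by simp)
    have hS' : S'.Exact :=
      S'.exact_of_g_is_cokernel (P.opcyclesIsCokernel (n + 1) n (by simp))
    let φ : S' ⟶ opSC P n :=
      { τ₁ := P.pOpcycles (n + 1)
        τ₂ := 𝟙 _
        τ₃ := 𝟙 _
        comm₁₂ := by simp [S', opSC]
        comm₂₃ := by simp [S', opSC] }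
    have : Epi φ.τ₁ := inferInstanceAs (Epi (P.pOpcycles (n + 1)))
    have : IsIso φ.τ₂ := inferInstanceAs (IsIso (𝟙 (P.X n)))
    have : Mono φ.τ₃ := inferInstanceAs (Mono (𝟙 (P.opcycles n)))
    exact (ShortComplex.exact_iff_of_epi_of_isIso_of_mono φ).1 hS'
  exact { exact := hex, mono_f := hmono, epi_g := hepi }

variable {P} {M : A} (ε : P ⟶ (ChainComplex.single₀ A).obj M) [QuasiIso ε]

omit [HasExt.{w} A] in
include ε in
lemma exactAt_succ (n : ℕ) : P.ExactAt (n + 1) := by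
  rw [← quasiIsoAt_iff_exactAt' ε (n + 1) (ChainComplex.exactAt_succ_single_obj _ _)]
  infer_instance

/-- `opcycles 0` of a resolution of `M` is `M`. -/
noncomputable def opcyclesZeroIso : P.opcycles 0 ≅ M :=
  P.isoHomologyι₀.symm ≪≫ isoOfQuasiIsoAt ε 0 ≪≫
    HomologicalComplex.singleObjHomologySelfIso _ _ _

include ε in
lemma acyc_opcycles {F : A} (hP : ∀ n, Acyc F (P.X n)) (hM : Acyc F M) (n : ℕ) :
    Acyc F (P.opcycles n) := by
  induction n with
  | zero => exact hM.of_iso (opcyclesZeroIso ε).symm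
  | succ n ih =>
    exact Acyc.of_shortExact (opSC_shortExact P n (exactAt_succ ε n)) (hP n) ih

include ε in
/-- Main result: positive-degree cocycles of `Hom(P_•, F)` are coboundaries. -/
theorem exists_cobound {F : A} (hP : ∀ n, Acyc F (P.X n)) (hM : Acyc F M) (q : ℕ)
    (φ : P.X (q + 1) ⟶ F) (hφ : P.d (q + 2) (q + 1) ≫ φ = 0) :
    ∃ χ : P.X q ⟶ F, P.d (q + 1) q ≫ χ = φ := by
  let ψ : P.opcycles (q + 1) ⟶ F := P.descOpcycles φ (q + 2) (by simp) hφ
  obtain ⟨χ, hχ⟩ := exists_extension (opSC_shortExact P q (exactAt_succ ε q))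
    (acyc_opcycles ε hP hM q) ψ
  refine ⟨χ, ?_⟩
  have h1 : P.pOpcycles (q + 1) ≫ P.fromOpcycles (q + 1) q ≫ χ = P.pOpcycles (q + 1) ≫ ψ := by
    rw [show P.fromOpcycles (q + 1) q ≫ χ = ψ from hχ]
  rw [HomologicalComplex.p_fromOpcycles_assoc] at h1
  rw [h1]
  exact P.p_descOpcycles φ (q + 2) (by simp) hφ

end Groth.Agent.H2.AcycRes
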