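import Mathlib

/-!
# Extra degeneracies for Čech-like augmented simplicial sets (helper2)

An augmented simplicial set `T` whose `n`-simplices are exactly the `(n+1)`-tuples of
`0`-simplices with the same augmentation, and whose augmentation is surjective,
has an extra degeneracy.
-/

namespace Groth.Agent.H2.CechRes

open CategoryTheory Limits Opposite Simplicial SimplicialObject

universe u

variable (T : SimplicialObject.Augmented (Type u))

/-- the `i`-th vertex of an `n`-simplex -/
def vert (n : ℕ) (i : Fin (n + 1)) : T.left _⦋n⦌ → T.left _⦋0⦌ :=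
  fun σ => T.left.map (SimplexCategory.const ⦋0⦌ ⦋n⦌ i).op σ

/-- the augmentation on `n`-simplices -/
def aug (n : ℕ) : T.left _⦋n⦌ → T.right := fun σ => T.hom.app (op ⦋n⦌) σ

lemma vert_map {m n : ℕ} (θ : (⦋m⦌ : SimplexCategory) ⟶ ⦋n⦌) (i : Fin (m + 1))
    (σ : T.left _⦋n⦌) :
    vert T m i (T.left.map θ.op σ) = vert T n (θ.toOrderHom i) σ := by
  have h : T.left.map θ.op ≫ T.left.map (SimplexCategory.const ⦋0⦌ ⦋m⦌ i).op =
      T.left.map (SimplexCategory.const ⦋0⦌ ⦋n⦌ (θ.toOrderHom i)).op := by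
    rw [← T.left.map_comp, ← op_comp, SimplexCategory.const_comp]
  exact ConcreteCategory.congr_hom h σ

lemma aug_map {m n : ℕ} (θ : (⦋m⦌ : SimplexCategory) ⟶ ⦋n⦌) (σ : T.left _⦋n⦌) :
    aug T m (T.left.map θ.op σ) = aug T n σ := by
  have h := T.hom.naturality θ.op
  exact ConcreteCategory.congr_hom h σ

lemma aug_vert (n : ℕ) (i : Fin (n + 1)) (σ : T.left _⦋n⦌) :
    aug T 0 (vert T n i σ) = aug T n σ := aug_map T _ σ

lemma vert_zero (σ : T.left _⦋0⦌) : vert T 0 0 σ = σ := by
  have h : T.left.map (SimplexCategory.const ⦋0⦌ ⦋0⦌ 0).op = 𝟙 _ := by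
    rw [SimplexCategory.const_eq_id, op_id, T.left.map_id]
  exact ConcreteCategory.congr_hom h σ

lemma vert_δ {n : ℕ} (i : Fin (n + 2)) (j : Fin (n + 1)) (σ : T.left _⦋n + 1⦌) :
    vert T n j (T.left.δ i σ) = vert T (n + 1) (i.succAbove j) σ :=
  vert_map T (SimplexCategory.δ i) j σ

lemma vert_σ {n : ℕ} (i : Fin (n + 1)) (j : Fin (n + 2)) (σ : T.left _⦋n⦌) :
    vert T (n + 1) j (T.left.σ i σ) = vert T n (i.predAbove j) σ :=
  vert_map T (SimplexCategory.σ i) j σ

variable {T}

/-- Čech-like augmented simplicial sets have an extra degeneracy. -/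
theorem nonempty_extraDegeneracy
    (h_inj : ∀ (n : ℕ) (σ τ : T.left _⦋n⦌), (∀ i, vert T n i σ = vert T n i τ) → σ = τ)
    (h_ex : ∀ (n : ℕ) (x : Fin (n + 1) → T.left _⦋0⦌), (∀ i j, aug T 0 (x i) = aug T 0 (x j)) →
      ∃ σ : T.left _⦋n⦌, ∀ i, vert T n i σ = x i)
    (h_surj : Function.Surjective (aug T 0)) :
    Nonempty (SimplicialObject.Augmented.ExtraDegeneracy T) := by
  classical
  choose sec hsec using h_surj
  -- the extra degeneracy on simplices
  have hs : ∀ (n : ℕ) (σ : T.left _⦋n⦌), ∃ τ : T.left _⦋n + 1⦌,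
      ∀ j : Fin (n + 2), vert T (n + 1) j τ =
        Fin.cases (sec (aug T n σ)) (fun i => vert T n i σ) j := by
    intro n σ
    apply h_ex
    intro i j
    have key : ∀ k : Fin (n + 2), aug T 0
        (Fin.cases (motive := fun _ => T.left _⦋0⦌) (sec (aug T n σ)) (fun i => vert T n i σ) k) =
          aug T n σ := by
      intro k
      induction k using Fin.cases with
      | zero => simp only [Fin.cases_zero]; exact hsec _
      | succ k => simp only [Fin.cases_succ]; exact aug_vert T n k σ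
    rw [key i, key j]
  choose s hs using hs
  have hs0 : ∀ (n : ℕ) (σ : T.left _⦋n⦌), vert T (n + 1) 0 (s n σ) = sec (aug T n σ) :=
    fun n σ => by rw [hs]; rfl
  have hsS : ∀ (n : ℕ) (σ : T.left _⦋n⦌) (i : Fin (n + 1)),
      vert T (n + 1) i.succ (s n σ) = vert T n i σ :=
    fun n σ i => by rw [hs]; rfl
  have haug_s : ∀ (n : ℕ) (σ : T.left _⦋n⦌), aug T (n + 1) (s n σ) = aug T n σ := by
    intro n σ
    rw [← aug_vert T (n + 1) 0 (s n σ), hs0, hsec]
  refine ⟨{ s' := ↾sec, s := fun n => ↾(s n), s'_comp_ε := ?_, s₀_comp_δ₁ := ?_, s_comp_δ₀ := ?_,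
            s_comp_δ := ?_, s_comp_σ := ?_ }⟩
  · ext k
    exact hsec k
  · ext σ
    apply h_inj 0
    intro i
    obtain rfl : i = 0 := by
      have : Subsingleton (Fin (0 + 1)) := (inferInstance : Subsingleton (Fin 1))
      exact Subsingleton.elim _ _
    change vert T 0 0 (T.left.δ 1 (s 0 σ)) = vert T 0 0 (sec (aug T 0 σ))
    rw [vert_δ, vert_zero]
    have : (1 : Fin 2).succAbove (0 : Fin 1) = 0 := rfl
    rw [this, hs0]
  · intro n
    ext σ
    apply h_inj n
    intro i
    change vert T n i (T.left.δ 0 (s n σ)) = vert T n i σ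
    rw [vert_δ, Fin.zero_succAbove, hsS]
  · intro n i
    ext σ
    apply h_inj (n + 1)
    intro j
    change vert T (n + 1) j (T.left.δ i.succ (s (n + 1) σ)) = vert T (n + 1) j (s n (T.left.δ i σ))
    rw [vert_δ]
    induction j using Fin.cases with
    | zero =>
      rw [Fin.succ_succAbove_zero, hs0, hs0]
      congr 1
      exact (aug_map T (SimplexCategory.δ i) σ).symm
    | succ j =>
      rw [Fin.succ_succAbove_succ, hsS, hsS, vert_δ]
  · intro n i
    ext σ
    apply h_inj (n + 2)
    intro j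
    change vert T (n + 2) j (T.left.σ i.succ (s n σ)) = vert T (n + 2) j (s (n + 1) (T.left.σ i σ))
    rw [vert_σ]
    induction j using Fin.cases with
    | zero =>
      rw [Fin.predAbove_right_zero, hs0, hs0]
      congr 1
      exact (aug_map T (SimplexCategory.σ i) σ).symm
    | succ j =>
      rw [Fin.succ_predAbove_succ, hsS, hsS, vert_σ]

end Groth.Agent.H2.CechRes
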