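import Mathlib
import Groth.Agent.Lib.Helper2.CechRes1

/-!
# Sections of the Čech nerve of a morphism of sheaves of sets (helper2)
-/

namespace Groth.Agent.H2.CechRes

open CategoryTheory Limits Opposite Simplicial SimplicialObject

universe u

variable {C : Type u} [SmallCategory C] {J : GrothendieckTopology C}
  {K' K : Sheaf J (Type u)} (f : K' ⟶ K)

/-- the wide pullback `K' ×_K ⋯ ×_K K'` (`n+1` factors) in sheaves of sets -/
noncomputable abbrev wp (n : ℕ) : Sheaf J (Type u) :=
  widePullback K (fun _ : Fin (n + 1) => K') (fun _ => f)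

/-- projections -/
noncomputable abbrev wpπ (n : ℕ) (i : Fin (n + 1)) : wp f n ⟶ K' :=
  WidePullback.π (fun _ : Fin (n + 1) => f) i

/-- base -/
noncomputable abbrev wpBase (n : ℕ) : wp f n ⟶ K :=
  WidePullback.base (fun _ : Fin (n + 1) => f)

/-- evaluation at `U` -/
noncomputable abbrev evU (U : C) : Sheaf J (Type u) ⥤ Type u :=
  sheafToPresheaf J (Type u) ⋙ (evaluation Cᵒᵖ (Type u)).obj (op U)

lemma wpBase_eq (n : ℕ) (i : Fin (n + 1)) (U : C) (σ : (wp f n).obj.obj (op U)) :
    (wpBase f n).hom.app (op U) σ = f.hom.app (op U) ((wpπ f n i).hom.app (op U) σ) := by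
  have h : wpπ f n i ≫ f = wpBase f n := WidePullback.π_arrow _ i
  rw [← h]
  rfl

/-- the limit cone of sections over `U` -/
noncomputable def wpIsLimit (n : ℕ) (U : C) :
    IsLimit ((evU (J := J) U).mapCone
      (limit.cone (WidePullbackShape.wideCospan K (fun _ : Fin (n + 1) => K') (fun _ => f)))) :=
  isLimitOfPreserves _ (limit.isLimit _)

lemma wp_ext (n : ℕ) (U : C) (σ τ : (wp f n).obj.obj (op U))
    (h : ∀ i, (wpπ f n i).hom.app (op U) σ = (wpπ f n i).hom.app (op U) τ) : σ = τ := by
  apply (Types.isLimitEquivSections (wpIsLimit f n U)).injective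
  apply Subtype.ext
  funext j
  rw [Types.isLimitEquivSections_apply, Types.isLimitEquivSections_apply]
  cases j with
  | none =>
    change (wpBase f n).hom.app (op U) σ = (wpBase f n).hom.app (op U) τ
    rw [wpBase_eq f n 0, wpBase_eq f n 0, h 0]
  | some i => exact h i

lemma wp_mk (n : ℕ) (U : C) (x : Fin (n + 1) → K'.obj.obj (op U)) (k : K.obj.obj (op U))
    (h : ∀ i, f.hom.app (op U) (x i) = k) :
    ∃ σ : (wp f n).obj.obj (op U), ∀ i, (wpπ f n i).hom.app (op U) σ = x i := by
  let F := WidePullbackShape.wideCospan K (fun _ : Fin (n + 1) => K') (fun _ => f) ⋙ evU (J := J) U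
  let s : ∀ j, F.obj j := fun j => match j with
    | none => k
    | some i => x i
  have hs : s ∈ F.sections := by
    intro j j' g
    obtain - | i := g
    · have : (WidePullbackShape.Hom.id j) = 𝟙 j := rfl
      rw [this, F.map_id]
      rfl
    · exact h i
  refine ⟨(Types.isLimitEquivSections (wpIsLimit f n U)).symm ⟨s, hs⟩, fun i => ?_⟩
  exact Types.isLimitEquivSections_symm_apply (wpIsLimit f n U) ⟨s, hs⟩ (some i)

end Groth.Agent.H2.CechRes
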