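import Mathlib
import Groth.Agent.Lib.Helper2.CechRes2

/-!
# The Čech nerve augmented to the image presheaf, sectionwise extra degeneracy (helper2)
-/

namespace Groth.Agent.H2.CechRes

open CategoryTheory Limits Opposite Simplicial SimplicialObject

universe u

variable {C : Type u} [SmallCategory C] {J : GrothendieckTopology C}
  {K' K : Sheaf J (Type u)} (f : K' ⟶ K)

/-- the image presheaf of `f` -/
noncomputable abbrev imgPsh : Cᵒᵖ ⥤ Type u := (Subfunctor.range f.hom).toFunctor

lemma range_base_le (n : SimplexCategoryᵒᵖ) :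
    Subfunctor.range ((Arrow.mk f).augmentedCechNerve.hom.app n).hom ≤ Subfunctor.range f.hom := by
  intro U x hx
  obtain ⟨σ, rfl⟩ := hx
  refine ⟨(WidePullback.π (fun _ : Fin (n.unop.len + 1) => f) 0).hom.app U σ, ?_⟩
  have h : WidePullback.π (fun _ : Fin (n.unop.len + 1) => f) 0 ≫ f =
    WidePullback.base (fun _ : Fin (n.unop.len + 1) => f) := WidePullback.π_arrow _ 0
  have h2 := congrArg (fun φ => φ.hom.app U σ) h
  exact h2

/-- the Čech nerve of `f` (presheaf level), augmented to the image presheaf of `f` -/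
noncomputable def augPsh : SimplicialObject.Augmented (Cᵒᵖ ⥤ Type u) where
  left := ((SimplicialObject.whiskering _ _).obj (sheafToPresheaf J (Type u))).obj
    (Arrow.mk f).cechNerve
  right := imgPsh f
  hom :=
    { app := fun n => Subfunctor.lift ((Arrow.mk f).augmentedCechNerve.hom.app n).hom
        (range_base_le f n)
      naturality := fun n m θ => by
        rw [← cancel_mono (Subfunctor.range f.hom).ι]
        have h := (Arrow.mk f).augmentedCechNerve.hom.naturality θ
        have h2 := congrArg (fun φ => φ.hom) h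
        exact h2 }

/-- the augmented simplicial set of sections over `U` -/
noncomputable abbrev augU (U : C) : SimplicialObject.Augmented (Type u) :=
  ((SimplicialObject.Augmented.whiskering _ _).obj ((evaluation Cᵒᵖ (Type u)).obj (op U))).obj
    (augPsh f)

lemma cechNerve_map_π {m n : ℕ} (θ : (⦋m⦌ : SimplexCategory) ⟶ ⦋n⦌) (j : Fin (m + 1)) :
    (Arrow.mk f).cechNerve.map θ.op ≫ wpπ f m j = wpπ f n (θ.toOrderHom j) :=
  WidePullback.lift_π (arrows := fun _ : Fin (m + 1) => f) _ _ _ j

lemma wpπ_vert (U : C) (n : ℕ) (i : Fin (n + 1)) (σ : (wp f n).obj.obj (op U)) :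
    (wpπ f 0 0).hom.app (op U) (vert (augU f U) n i σ) = (wpπ f n i).hom.app (op U) σ := by
  have h := cechNerve_map_π f (SimplexCategory.const ⦋0⦌ ⦋n⦌ i) 0
  rw [SimplexCategory.const_apply] at h
  rw [← h]
  rfl

lemma aug_val (U : C) (n : ℕ) (σ : (wp f n).obj.obj (op U)) :
    (aug (augU f U) n σ).1 = (wpBase f n).hom.app (op U) σ := rfl

/-- The augmented simplicial set of sections over `U` has an extra degeneracy. -/
theorem nonempty_extraDegeneracy_augU (U : C) :
    Nonempty (SimplicialObject.Augmented.ExtraDegeneracy (augU f U)) := by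
  apply nonempty_extraDegeneracy
  · intro n (σ : (wp f n).obj.obj (op U)) (τ : (wp f n).obj.obj (op U)) h
    apply wp_ext f n U
    intro i
    have h1 := wpπ_vert f U n i σ
    have h2 := wpπ_vert f U n i τ
    rw [← h1, ← h2, h i]
  · intro n x hx
    let x' : Fin (n + 1) → K'.obj.obj (op U) := fun i => (wpπ f 0 0).hom.app (op U) (x i)
    have hx' : ∀ i, f.hom.app (op U) (x' i) = (wpBase f 0).hom.app (op U) (x 0) := by
      intro i
      rw [← wpBase_eq f 0 0 U (x i), ← aug_val, ← aug_val, hx i 0]
    obtain ⟨σ, hσ⟩ := wp_mk f n U x' _ hx'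
    refine ⟨σ, fun i => ?_⟩
    apply wp_ext f 0 U
    intro j
    obtain rfl : j = 0 := by
      have : Subsingleton (Fin (0 + 1)) := (inferInstance : Subsingleton (Fin 1))
      exact Subsingleton.elim _ _
    rw [wpπ_vert f U n i σ, hσ]
  · rintro ⟨k, x', hx'⟩
    obtain ⟨σ, hσ⟩ := wp_mk f 0 U (fun _ => x') k (fun _ => hx')
    refine ⟨σ, Subtype.ext ?_⟩
    rw [aug_val, wpBase_eq f 0 0, hσ, hx']

end Groth.Agent.H2.CechRes
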