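import Mathlib

/-!
# The augmentation of the alternating face map complex and additive functors (helper2)
-/

namespace Groth.Agent.H2.CechRes

open CategoryTheory Limits Opposite Simplicial SimplicialObject AlgebraicTopology

universe v₁ v₂ u₁ u₂

section Eps

variable {𝒜 : Type u₁} [Category.{v₁} 𝒜] [Abelian 𝒜] {ℬ : Type u₂} [Category.{v₂} ℬ] [Abelian ℬ]
  (G : 𝒜 ⥤ ℬ) [G.Additive]

/-- The alternating face map complex commutes with additive functors. -/
noncomputable def altWhiskerIso (X : SimplicialObject 𝒜) :
    AlternatingFaceMapComplex.obj (((SimplicialObject.whiskering 𝒜 ℬ).obj G).obj X) ≅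
      (G.mapHomologicalComplex _).obj (AlternatingFaceMapComplex.obj X) :=
  HomologicalComplex.Hom.isoOfComponents (fun n => Iso.refl _) (by
    rintro i j (rfl : j + 1 = i)
    simp only [Iso.refl_hom,
      Functor.mapHomologicalComplex_obj_d, AlternatingFaceMapComplex.obj_d_eq,
      Functor.map_sum, Functor.map_zsmul]
    exact (Category.id_comp _).trans (Category.comp_id _).symm)

lemma ε_whiskering_comm (Y : SimplicialObject.Augmented 𝒜) :
    AlternatingFaceMapComplex.ε.app (((SimplicialObject.Augmented.whiskering 𝒜 ℬ).obj G).obj Y) =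
      (altWhiskerIso G Y.left).hom ≫
        (G.mapHomologicalComplex _).map (AlternatingFaceMapComplex.ε.app Y) ≫
          (HomologicalComplex.singleMapHomologicalComplex G (ComplexShape.down ℕ) 0).hom.app
            Y.right := by
  apply HomologicalComplex.to_single_hom_ext
  simp [altWhiskerIso, HomologicalComplex.singleObjXSelf, HomologicalComplex.singleObjXIsoOfEq]
  dsimp [SimplicialObject.Augmented.whiskering, SimplicialObject.Augmented.whiskeringObj]
  exact ((Category.comp_id _).trans ((Category.id_comp _).trans (Category.comp_id _)).symm)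

lemma quasiIso_ε_whiskering_iff [G.PreservesHomology] (Y : SimplicialObject.Augmented 𝒜) :
    QuasiIso (AlternatingFaceMapComplex.ε.app
        (((SimplicialObject.Augmented.whiskering 𝒜 ℬ).obj G).obj Y)) ↔
      QuasiIso ((G.mapHomologicalComplex _).map (AlternatingFaceMapComplex.ε.app Y)) := by
  refine quasiIso_iff_of_arrow_mk_iso _ _
    (Arrow.isoMk (altWhiskerIso G Y.left)
      ((HomologicalComplex.singleMapHomologicalComplex G (ComplexShape.down ℕ) 0).app
        Y.right).symm ?_)
  have e := ε_whiskering_comm G Y
  dsimp only [Arrow.mk_hom, Iso.symm_hom, Iso.app_inv]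
  erw [e]
  simp
  rfl

end Eps

section Eval

variable {C : Type u₁} [Category.{v₁} C] {ι : Type*} {c : ComplexShape ι}

/-- Quasi-isomorphisms of complexes of presheaves of abelian groups can be checked sectionwise. -/
lemma quasiIso_of_evaluation {L M : HomologicalComplex (C ⥤ AddCommGrpCat.{u₂}) c} (φ : L ⟶ M)
    (h : ∀ U : C, QuasiIso
      ((((evaluation C AddCommGrpCat.{u₂}).obj U).mapHomologicalComplex c).map φ)) :
    QuasiIso φ := by
  rw [quasiIso_iff]
  intro i
  rw [quasiIsoAt_iff]
  let φ' := (HomologicalComplex.shortComplexFunctor (C ⥤ AddCommGrpCat.{u₂}) c i).map φ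
  let γ : ShortComplex.LeftHomologyMapData φ' (L.sc i).leftHomologyData (M.sc i).leftHomologyData :=
    default
  rw [γ.quasiIso_iff]
  haveI : ∀ U, IsIso (γ.φH.app U) := by
    intro U
    have hU := (h U)
    rw [quasiIso_iff] at hU
    have hUi := hU i
    rw [quasiIsoAt_iff] at hUi
    exact ((γ.map ((evaluation C AddCommGrpCat.{u₂}).obj U)).quasiIso_iff).1 hUi
  exact NatIso.isIso_of_isIso_app _

end Eval

end Groth.Agent.H2.CechRes
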