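import Mathlib
import Groth.Agent.Lib.Helper2.CechRes3
import Groth.Agent.Lib.Helper2.CechRes4

/-!
# The free Čech nerve resolution (helper2)
-/

namespace Groth.Agent.H2.CechRes

open CategoryTheory Limits Opposite Simplicial SimplicialObject AlgebraicTopology

universe u

variable {C : Type u} [SmallCategory C] {J : GrothendieckTopology C}
  {K' K : Sheaf J (Type u)} (f : K' ⟶ K)

/-- free presheaf functor -/
noncomputable abbrev Ffree (C : Type u) [SmallCategory C] :
    (Cᵒᵖ ⥤ Type u) ⥤ (Cᵒᵖ ⥤ AddCommGrpCat.{u}) :=
  (Functor.whiskeringRight Cᵒᵖ (Type u) AddCommGrpCat.{u}).obj AddCommGrpCat.free.{u}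

/-- the free abelian presheaves on the Čech nerve, augmented to the free presheaf on the image -/
noncomputable abbrev Y' : SimplicialObject.Augmented (Cᵒᵖ ⥤ AddCommGrpCat.{u}) :=
  ((SimplicialObject.Augmented.whiskering _ _).obj (Ffree C)).obj (augPsh f)

lemma quasiIso_ε_Y'_eval (U : C) : QuasiIso (AlternatingFaceMapComplex.ε.app
    (((SimplicialObject.Augmented.whiskering _ _).obj
      ((evaluation Cᵒᵖ AddCommGrpCat.{u}).obj (op U))).obj (Y' f))) := by
  obtain ⟨ed⟩ := nonempty_extraDegeneracy_augU f U
  have h : QuasiIso (AlternatingFaceMapComplex.ε.app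
      (((SimplicialObject.Augmented.whiskering _ _).obj AddCommGrpCat.free.{u}).obj (augU f U))) :=
    HomotopyEquiv.quasiIso_hom (ed.map AddCommGrpCat.free.{u}).homotopyEquiv
  exact h

lemma quasiIso_ε_Y' : QuasiIso (AlternatingFaceMapComplex.ε.app (Y' f)) := by
  apply quasiIso_of_evaluation
  intro U
  induction U using Opposite.rec with | _ U => ?_
  rw [← quasiIso_ε_whiskering_iff]
  exact quasiIso_ε_Y'_eval f U

lemma quasiIso_ε_aY' : QuasiIso (AlternatingFaceMapComplex.ε.app
    (((SimplicialObject.Augmented.whiskering _ _).obj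
      (presheafToSheaf J AddCommGrpCat.{u})).obj (Y' f))) := by
  rw [quasiIso_ε_whiskering_iff]
  haveI := quasiIso_ε_Y' f
  infer_instance

/-- the free abelian presheaves on the augmented Čech nerve -/
noncomputable abbrev Y : SimplicialObject.Augmented (Cᵒᵖ ⥤ AddCommGrpCat.{u}) :=
  ((SimplicialObject.Augmented.whiskering _ _).obj
    (sheafToPresheaf J (Type u) ⋙ Ffree C)).obj (Arrow.mk f).augmentedCechNerve

/-- the comparison morphism -/
noncomputable def compar : Y' f ⟶ Y f where
  left := { app := fun n => 𝟙 _ }
  right := Functor.whiskerRight (Subfunctor.range f.hom).ι AddCommGrpCat.free.{u}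
  w := by
    ext n : 2
    funext U
    change 𝟙 _ ≫ (AddCommGrpCat.free.{u}.map (((Arrow.mk f).augmentedCechNerve.hom.app n).hom.app U) ≫ 𝟙 _) =
      (AddCommGrpCat.free.{u}.map ((Subfunctor.lift ((Arrow.mk f).augmentedCechNerve.hom.app n).hom
        (range_base_le f n)).app U) ≫ 𝟙 _) ≫
        AddCommGrpCat.free.{u}.map ((Subfunctor.range f.hom).ι.app U)
    rw [Category.id_comp, Category.comp_id, Category.comp_id, ← Functor.map_comp]
    rfl

lemma W_ι [Epi f] : J.W (Subfunctor.range f.hom).ι := by
  rw [J.W_iff_isLocallyBijective]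
  constructor
  · apply Presheaf.isLocallyInjective_of_injective
    intro U x y h
    exact Subtype.ext h
  · haveI : Sheaf.IsLocallySurjective f := (Sheaf.isLocallySurjective_iff_epi f).2 inferInstance
    exact Presheaf.isLocallySurjective_of_isLocallySurjective_fac J
      (Subfunctor.toRange_ι f.hom)

lemma isIso_a_compar_right [Epi f] :
    IsIso ((presheafToSheaf J AddCommGrpCat.{u}).map (compar f).right) := by
  rw [← J.W_iff]
  haveI : J.PreservesSheafification AddCommGrpCat.free.{u} :=
    Sheaf.preservesSheafification_of_adjunction J AddCommGrpCat.adj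
  exact J.W_of_preservesSheafification _ _ (W_ι f)

/-- For an epimorphism `f : K' ⟶ K` of sheaves of sets, the free abelian sheaves on the Čech nerve
of `f` resolve the free abelian sheaf on `K`. -/
theorem quasiIso_main [Epi f] :
    QuasiIso ((AlternatingFaceMapComplex.ε (C := Sheaf J AddCommGrpCat.{u})).app
      (((SimplicialObject.Augmented.whiskering _ _).obj
        (Sheaf.composeAndSheafify J AddCommGrpCat.free.{u})).obj
          (Arrow.mk f).augmentedCechNerve)) := by
  let a := presheafToSheaf J AddCommGrpCat.{u}
  let am := ((SimplicialObject.Augmented.whiskering _ _).obj a).map (compar f)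
  have nat := (AlternatingFaceMapComplex.ε (C := Sheaf J AddCommGrpCat.{u})).naturality am
  haveI : IsIso (compar f).left := by
    rw [NatTrans.isIso_iff_isIso_app]
    intro n
    exact IsIso.id _
  haveI : IsIso ((SimplicialObject.Augmented.drop ⋙
      alternatingFaceMapComplex (Sheaf J AddCommGrpCat.{u})).map am) := by
    have : IsIso (SimplicialObject.Augmented.drop.map am) := by
      change IsIso (Functor.whiskerRight (compar f).left a)
      infer_instance
    change IsIso ((alternatingFaceMapComplex (Sheaf J AddCommGrpCat.{u})).map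
      (SimplicialObject.Augmented.drop.map am))
    infer_instance
  haveI : IsIso ((SimplicialObject.Augmented.point ⋙
      ChainComplex.single₀ (Sheaf J AddCommGrpCat.{u})).map am) := by
    have : IsIso (SimplicialObject.Augmented.point.map am) := by
      change IsIso (a.map (compar f).right)
      exact isIso_a_compar_right f
    change IsIso ((ChainComplex.single₀ (Sheaf J AddCommGrpCat.{u})).map
      (SimplicialObject.Augmented.point.map am))
    infer_instance
  haveI := quasiIso_ε_aY' (J := J) f
  have h : QuasiIso ((AlternatingFaceMapComplex.ε (C := Sheaf J AddCommGrpCat.{u})).app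
      (((SimplicialObject.Augmented.whiskering _ _).obj a).obj (Y f))) := by
    have e : (AlternatingFaceMapComplex.ε (C := Sheaf J AddCommGrpCat.{u})).app
        (((SimplicialObject.Augmented.whiskering _ _).obj a).obj (Y f)) =
        inv ((SimplicialObject.Augmented.drop ⋙
          alternatingFaceMapComplex (Sheaf J AddCommGrpCat.{u})).map am) ≫
        (AlternatingFaceMapComplex.ε (C := Sheaf J AddCommGrpCat.{u})).app
          (((SimplicialObject.Augmented.whiskering _ _).obj a).obj (Y' f)) ≫
        (SimplicialObject.Augmented.point ⋙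
          ChainComplex.single₀ (Sheaf J AddCommGrpCat.{u})).map am := by
      rw [← nat, IsIso.inv_hom_id_assoc]
    rw [e]
    infer_instance
  exact h

end Groth.Agent.H2.CechRes
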