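import Mathlib
import Groth.Prelude.Def_CohCx
import Groth.Agent.Lib.Helper2.AcycRes1
import Groth.Agent.Lib.Helper2.CechRes5

/-!
# Čech complex of `F` along `K' ⟶ K` as `Hom(P_•, F)` (helper2)
-/

namespace Groth.Agent.H2.AcycRes

open CategoryTheory Limits Opposite Simplicial SimplicialObject AlgebraicTopology

universe u

variable {C : Type u} [SmallCategory C] {J : GrothendieckTopology C}
  (F : Sheaf J AddCommGrpCat.{u}) {K' K : Sheaf J (Type u)} (f : K' ⟶ K)

/-- The augmented simplicial object of free abelian sheaves on the Čech nerve. -/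
noncomputable abbrev augFree : SimplicialObject.Augmented (Sheaf J AddCommGrpCat.{u}) :=
  ((SimplicialObject.Augmented.whiskering _ _).obj
    (Sheaf.composeAndSheafify J AddCommGrpCat.free.{u})).obj (Arrow.mk f).augmentedCechNerve

/-- The chain complex `… → Z[K' ×_K K'] → Z[K']`. -/
noncomputable abbrev PP : ChainComplex (Sheaf J AddCommGrpCat.{u}) ℕ :=
  (alternatingFaceMapComplex (Sheaf J AddCommGrpCat.{u})).obj (Augmented.drop.obj (augFree f))

/-- the augmentation -/
noncomputable abbrev εε : PP f ⟶ (ChainComplex.single₀ _).obj (Augmented.point.obj (augFree f)) :=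
  (AlternatingFaceMapComplex.ε (C := Sheaf J AddCommGrpCat.{u})).app (augFree f)

instance [Epi f] : QuasiIso (εε f) := Groth.Agent.H2.CechRes.quasiIso_main f

/-- the cosimplicial abelian group `n ↦ H^0(K'_n, F)` -/
noncomputable def Xc : CosimplicialObject AddCommGrpCat.{u} :=
  (Arrow.mk f).cechNerve.rightOp ⋙ CohCx.HK0Functor J F

lemma cechNerveCx_eq : CohCx.cechNerveCx F f =
    (alternatingCofaceMapComplex AddCommGrpCat.{u}).obj (Xc F f) := rfl

lemma Xc_δ_apply (n : ℕ) (i : Fin (n + 2)) (φ : (PP f).X n ⟶ F) :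
    ((Xc F f).δ i).hom φ =
      ((Augmented.drop.obj (augFree f)).δ i ≫ φ : (PP f).X (n + 1) ⟶ F) := rfl

lemma cofaceCx_d_apply (X : CosimplicialObject AddCommGrpCat.{u}) (n : ℕ) (x : X.obj ⦋n⦌) :
    (((alternatingCofaceMapComplex AddCommGrpCat.{u}).obj X).d n (n + 1)).hom x =
      ∑ i : Fin (n + 2), (-1 : ℤ) ^ (i : ℕ) • (X.δ i).hom x := by
  have h1 : ((alternatingCofaceMapComplex AddCommGrpCat.{u}).obj X).d n (n + 1) =
      AlternatingCofaceMapComplex.objD X n :=
    CochainComplex.of_d (fun n => X.obj ⦋n⦌) (AlternatingCofaceMapComplex.objD X) n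
  rw [h1]
  dsimp only [AlternatingCofaceMapComplex.objD]
  have h3 : ∀ (A B : AddCommGrpCat.{u}) (s : Finset (Fin (n + 2))) (g : Fin (n + 2) → (A ⟶ B))
      (a : A), (∑ i ∈ s, g i).hom a = ∑ i ∈ s, (g i).hom a := by
    intro A B s g a
    induction s using Finset.induction_on with
    | empty => simp
    | insert i s hi ih =>
      rw [Finset.sum_insert hi, Finset.sum_insert hi, AddCommGrpCat.hom_add,
        AddMonoidHom.add_apply, ih]
  refine (h3 _ _ Finset.univ _ x).trans ?_
  rfl

lemma cechNerveCx_d_apply (n : ℕ) (φ : (PP f).X n ⟶ F) :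
    ((CohCx.cechNerveCx F f).d n (n + 1)).hom φ = ((PP f).d (n + 1) n ≫ φ : (PP f).X (n + 1) ⟶ F) := by
  refine (cofaceCx_d_apply (Xc F f) n φ).trans ?_
  have h2 : (PP f).d (n + 1) n = AlternatingFaceMapComplex.objD
      (Augmented.drop.obj (augFree f)) n :=
    ChainComplex.of_d (fun n => (Augmented.drop.obj (augFree f)).obj (op ⦋n⦌)) (AlternatingFaceMapComplex.objD (Augmented.drop.obj (augFree f))) n
  rw [h2]
  dsimp only [AlternatingFaceMapComplex.objD]
  rw [Preadditive.sum_comp]
  refine Finset.sum_congr rfl fun i _ => ?_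
  rw [Preadditive.zsmul_comp]
  rfl

lemma acyc_of_totallyAcyclic (hF : CohCx.IsTotallyAcyclic F) (L : Sheaf J (Type u)) :
    Acyc F ((Sheaf.composeAndSheafify J AddCommGrpCat.free.{u}).obj L) :=
  fun p => hF L p

theorem cech_vanishing (hF : CohCx.IsTotallyAcyclic F) [Epi f] (q : ℕ) :
    IsZero ((CohCx.cechNerveCx F f).homology (q + 1)) := by
  rw [← HomologicalComplex.exactAt_iff_isZero_homology,
    HomologicalComplex.exactAt_iff' _ q (q + 1) (q + 2) (by simp) (by simp),
    ShortComplex.ab_exact_iff]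
  intro φ hφ
  have hP : ∀ n, Acyc F ((PP f).X n) := fun n => acyc_of_totallyAcyclic F hF _
  have hM : Acyc F (Augmented.point.obj (augFree f)) := acyc_of_totallyAcyclic F hF _
  obtain ⟨χ, hχ⟩ := exists_cobound (εε f) hP hM q φ
    ((cechNerveCx_d_apply F f (q + 1) φ).symm.trans hφ)
  exact ⟨χ, (cechNerveCx_d_apply F f q χ).trans hχ⟩

end Groth.Agent.H2.AcycRes
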