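import Mathlib
import Groth.Prelude.Def_Adeq
import Groth.Agent.Lib.Helper2.AdeqKer

/-! # Cokernels of morphisms of presheaves of modules, pointwise; isos from pointwise bijections. -/

set_option autoImplicit false
universe v v₁ u₁ u
open CategoryTheory CategoryTheory.Limits

namespace Groth.Agent.H2.AdeqCok

variable {C : Type u₁} [Category.{v₁} C] {R : Cᵒᵖ ⥤ RingCat.{u}}
  {F G : PresheafOfModules.{v} R} (f : F ⟶ G)

theorem cokernel_π_app_surjective (X : Cᵒᵖ) : Function.Surjective ((cokernel.π f).app X) :=
  PresheafOfModules.surjective_of_epi (cokernel.π f) X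

theorem cokernel_π_app_comp (X : Cᵒᵖ) (x : F.obj X) :
    (cokernel.π f).app X (f.app X x) = 0 := by
  have h := cokernel.condition f
  have h2 := congrArg (fun t => (PresheafOfModules.Hom.app t X) x) h
  exact h2

theorem exists_of_cokernel_π_app_eq_zero (X : Cᵒᵖ) (y : G.obj X)
    (hy : (cokernel.π f).app X y = 0) : ∃ x : F.obj X, f.app X x = y := by
  have hS : (ShortComplex.mk f (cokernel.π f) (cokernel.condition f)).Exact :=
    ShortComplex.exact_of_g_is_cokernel _ (cokernelIsCokernel f)
  have hS' := hS.map (PresheafOfModules.evaluation.{v} R X)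
  rw [ShortComplex.moduleCat_exact_iff] at hS'
  obtain ⟨z, hz⟩ := hS' y hy
  exact ⟨z, hz⟩

/-- a morphism which is pointwise bijective is an isomorphism. -/
theorem isIso_of_bijective (h : ∀ X : Cᵒᵖ, Function.Bijective (f.app X)) : IsIso f := by
  haveI : Mono f := PresheafOfModules.mono_of_injective (fun X => (h X).1)
  haveI : Epi f := PresheafOfModules.epi_of_surjective (fun X => (h X).2)
  exact isIso_of_mono_of_epi f

end Groth.Agent.H2.AdeqCok
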