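import Mathlib
import Groth.Prelude.Def_Adeq
import Groth.Agent.Lib.Helper2.AdeqKer
import Groth.Agent.Lib.Helper2.AdeqCok

/-! # From pointwise exactness to an isomorphism `coker ≅ ker` in presheaves of modules. -/

set_option autoImplicit false
universe v v₁ u₁ u
open CategoryTheory CategoryTheory.Limits

namespace Groth.Agent.H2.AdeqExact

open Groth.Agent.H2.AdeqKer Groth.Agent.H2.AdeqCok

variable {C : Type u₁} [Category.{v₁} C] {R : Cᵒᵖ ⥤ RingCat.{u}}
  {F G H K : PresheafOfModules.{v} R} (φ : F ⟶ G) (β : G ⟶ H) (γ : H ⟶ K)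

/-- if `F → G → H → K` is a complex, exact at `G` and `H` pointwise, then `coker φ ≅ ker γ`. -/
theorem nonempty_cokernel_iso_kernel (h1 : φ ≫ β = 0) (h3 : β ≫ γ = 0)
    (h2 : ∀ (X : Cᵒᵖ) (x : G.obj X), β.app X x = 0 → ∃ f : F.obj X, φ.app X f = x)
    (h4 : ∀ (X : Cᵒᵖ) (y : H.obj X), γ.app X y = 0 → ∃ x : G.obj X, β.app X x = y) :
    Nonempty (cokernel φ ≅ kernel γ) := by
  let ψ : cokernel φ ⟶ H := cokernel.desc φ β h1
  have hψ : ψ ≫ γ = 0 := by
    rw [← cancel_epi (cokernel.π φ), ← Category.assoc, cokernel.π_desc, h3, comp_zero]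
  let a : cokernel φ ⟶ kernel γ := kernel.lift γ ψ hψ
  have ha : ∀ (X : Cᵒᵖ) (x : G.obj X),
      (kernel.ι γ).app X (a.app X ((cokernel.π φ).app X x)) = β.app X x := by
    intro X x
    have e1 : cokernel.π φ ≫ a ≫ kernel.ι γ = β := by
      rw [kernel.lift_ι, cokernel.π_desc]
    exact congrArg (fun t => (PresheafOfModules.Hom.app t X) x) e1
  haveI : IsIso a := by
    apply isIso_of_bijective
    intro X
    constructor
    · rw [injective_iff_map_eq_zero]
      intro cb hcb
      obtain ⟨x, rfl⟩ := cokernel_π_app_surjective φ X cb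
      have h5 : β.app X x = 0 := by
        rw [← ha X x, hcb, map_zero]
      obtain ⟨f, rfl⟩ := h2 X x h5
      exact cokernel_π_app_comp φ X f
    · intro k
      obtain ⟨x, hx⟩ := h4 X ((kernel.ι γ).app X k) (kernel_ι_app_comp γ X k)
      refine ⟨(cokernel.π φ).app X x, ?_⟩
      apply kernel_ι_app_injective γ X
      rw [ha X x, hx]
  exact ⟨asIso a⟩

end Groth.Agent.H2.AdeqExact
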