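import Mathlib

/-! # Module lemmas for the cokernel of a map from an adequate functor. -/

set_option autoImplicit false
universe u w
open TensorProduct

namespace Groth.Agent.H2.AdeqPush

variable {A : Type u} [CommRing A] (B : Type u) [AddCommGroup B] [Module A B]
  {M P P' : Type w} [AddCommGroup M] [Module A M] [AddCommGroup P] [Module A P]
  [AddCommGroup P'] [Module A P'] (g : P →ₗ[A] M) (κ : P →ₗ[A] P')

/-- the pushout of `M ← P → P'`. -/
abbrev Push : Type w := (M × P') ⧸ LinearMap.range (g.prod (-κ))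

/-- `M → M ⊔_P P'`. -/
def pushInl : M →ₗ[A] Push g κ := (LinearMap.range (g.prod (-κ))).mkQ ∘ₗ LinearMap.inl A M P'

/-- `P' → M ⊔_P P'`. -/
def pushInr : P' →ₗ[A] Push g κ := (LinearMap.range (g.prod (-κ))).mkQ ∘ₗ LinearMap.inr A M P'

theorem pushInl_comp : pushInl g κ ∘ₗ g = pushInr g κ ∘ₗ κ := by
  ext p
  simp only [pushInl, pushInr, LinearMap.coe_comp, Function.comp_apply, LinearMap.inl_apply,
    LinearMap.inr_apply, Submodule.mkQ_apply]
  rw [Submodule.Quotient.eq]
  refine ⟨p, ?_⟩
  simp

theorem exists_of_lTensor_pushInl_eq_zero (x : B ⊗[A] M)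
    (hx : (pushInl g κ).lTensor B x = 0) :
    ∃ p : B ⊗[A] P, g.lTensor B p = x ∧ κ.lTensor B p = 0 := by
  have hex : Function.Exact (g.prod (-κ)) (LinearMap.range (g.prod (-κ))).mkQ :=
    LinearMap.exact_map_mkQ_range _
  have hex' := lTensor_exact B hex (Submodule.mkQ_surjective _)
  have h1 : (LinearMap.range (g.prod (-κ))).mkQ.lTensor B ((LinearMap.inl A M P').lTensor B x) = 0 := by
    rw [← LinearMap.comp_apply, ← LinearMap.lTensor_comp]
    exact hx
  obtain ⟨p, hp⟩ := (hex' _).mp h1
  refine ⟨p, ?_, ?_⟩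
  · have := congrArg ((LinearMap.fst A M P').lTensor B) hp
    rw [← LinearMap.comp_apply, ← LinearMap.lTensor_comp, ← LinearMap.comp_apply,
      ← LinearMap.lTensor_comp, LinearMap.fst_prod, LinearMap.fst_comp_inl,
      LinearMap.lTensor_id, LinearMap.id_apply] at this
    exact this
  · have := congrArg ((LinearMap.snd A M P').lTensor B) hp
    rw [← LinearMap.comp_apply, ← LinearMap.lTensor_comp, ← LinearMap.comp_apply,
      ← LinearMap.lTensor_comp, LinearMap.snd_prod, LinearMap.snd_comp_inl,
      LinearMap.lTensor_zero, LinearMap.zero_apply, LinearMap.lTensor_neg,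
      LinearMap.neg_apply, neg_eq_zero] at this
    exact this

/-- the cokernel of `M → M ⊔_P P'`. -/
abbrev PushCok : Type w := Push g κ ⧸ LinearMap.range (pushInl g κ)

theorem exists_of_lTensor_mkQ_eq_zero (y : B ⊗[A] Push g κ)
    (hy : (LinearMap.range (pushInl g κ)).mkQ.lTensor B y = 0) :
    ∃ x : B ⊗[A] M, (pushInl g κ).lTensor B x = y := by
  have hex : Function.Exact (pushInl g κ) (LinearMap.range (pushInl g κ)).mkQ :=
    LinearMap.exact_map_mkQ_range _
  have hex' := lTensor_exact B hex (Submodule.mkQ_surjective _)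
  exact (hex' y).mp hy

section DirectSum

open DirectSum

variable {A : Type u} [CommRing A] (B : Type u) [AddCommGroup B] [Module A B]
  {I : Type w} [DecidableEq I] (Q : I → Type w) [∀ i, AddCommGroup (Q i)] [∀ i, Module A (Q i)]

theorem exists_finset_sum_lof_component (x : ⨁ i, Q i) :
    ∃ J : Finset I, ∀ J' : Finset I, J ⊆ J' →
      ∑ i ∈ J', DirectSum.lof A I Q i (DirectSum.component A I Q i x) = x := by
  classical
  induction x using DirectSum.induction_on with
  | zero => exact ⟨∅, fun J' _ => by simp⟩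
  | of i y =>
    refine ⟨{i}, fun J' hJ' => ?_⟩
    have hi : i ∈ J' := hJ' (Finset.mem_singleton_self i)
    rw [Finset.sum_eq_single_of_mem i hi]
    · change DirectSum.lof A I Q i (DirectSum.component A I Q i (DirectSum.lof A I Q i y)) = _
      rw [DirectSum.component.lof_self]
      rfl
    · intro j _ hji
      change DirectSum.lof A I Q j (DirectSum.component A I Q j (DirectSum.lof A I Q i y)) = 0
      rw [DirectSum.component.of, dif_neg (Ne.symm hji), map_zero]
  | add x y hx hy =>
    obtain ⟨Jx, hJx⟩ := hx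
    obtain ⟨Jy, hJy⟩ := hy
    refine ⟨Jx ∪ Jy, fun J' hJ' => ?_⟩
    simp only [map_add, Finset.sum_add_distrib]
    rw [hJx J' (Finset.union_subset_left hJ'), hJy J' (Finset.union_subset_right hJ')]

theorem exists_finset_sum_lTensor (p : B ⊗[A] (⨁ i, Q i)) :
    ∃ J : Finset I, ∀ J' : Finset I, J ⊆ J' →
      ∑ i ∈ J', ((DirectSum.lof A I Q i ∘ₗ DirectSum.component A I Q i).lTensor B) p = p := by
  induction p using TensorProduct.induction_on with
  | zero => exact ⟨∅, fun J' _ => by simp⟩
  | tmul b x =>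
    obtain ⟨J, hJ⟩ := exists_finset_sum_lof_component (A := A) Q x
    refine ⟨J, fun J' hJ' => ?_⟩
    simp only [LinearMap.lTensor_tmul, LinearMap.coe_comp, Function.comp_apply]
    rw [← TensorProduct.tmul_sum, hJ J' hJ']
  | add x y hx hy =>
    obtain ⟨Jx, hJx⟩ := hx
    obtain ⟨Jy, hJy⟩ := hy
    refine ⟨Jx ∪ Jy, fun J' hJ' => ?_⟩
    simp only [map_add, Finset.sum_add_distrib]
    rw [hJx J' (Finset.union_subset_left hJ'), hJy J' (Finset.union_subset_right hJ')]

end DirectSum

end Groth.Agent.H2.AdeqPush
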