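import Mathlib

/-! # Natural linear transformations out of a linearly presented functor (dual-number trick). -/

set_option autoImplicit false
universe u w
open TensorProduct

namespace Groth.Agent.H2.AdeqYoneda

variable {A : Type u} [CommRing A] {n m : ℕ} (a : Fin n → Fin m → A)

/-- the solutions of the linear system in `B`. -/
structure Sol (B : Type u) [CommRing B] [Algebra A B] : Type u where
  vec : Fin n → B
  rel : ∀ j, ∑ i, a i j • vec i = 0

variable {a}

def Sol.comp {B B' : Type u} [CommRing B] [CommRing B'] [Algebra A B] [Algebra A B']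
    (f : B →ₐ[A] B') (β : Sol a B) : Sol a B' :=
  ⟨fun i => f (β.vec i), fun j => by
    have := congrArg f (β.rel j)
    simpa [map_sum, map_smul] using this⟩

def Sol.smul {B : Type u} [CommRing B] [Algebra A B] (b : B) (β : Sol a B) : Sol a B :=
  ⟨fun i => b * β.vec i, fun j => by
    have := congrArg (fun t => b * t) (β.rel j)
    simpa [Finset.mul_sum, mul_smul_comm] using this⟩

variable (a)

/-- the columns of the matrix. -/
def cols : Submodule A (Fin n → A) := Submodule.span A (Set.range fun j : Fin m => fun i => a i j)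

abbrev Q : Type u := (Fin n → A) ⧸ cols a

def ebar (i : Fin n) : Q a := (cols a).mkQ (Pi.single i 1)

theorem sum_smul_ebar (j : Fin m) : ∑ i, a i j • ebar a i = 0 := by
  have h1 : (∑ i, a i j • (Pi.single i (1 : A) : Fin n → A)) = fun i => a i j := by
    ext k
    simp [Finset.sum_apply, Pi.single_apply]
  have h2 : ∑ i, a i j • ebar a i = (cols a).mkQ (fun i => a i j) := by
    rw [← h1, map_sum]
    simp [ebar]
  rw [h2]
  exact (Submodule.Quotient.mk_eq_zero _).mpr (Submodule.subset_span ⟨j, rfl⟩)

variable {a}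

/-- the linear map `Q → B` of a solution. -/
noncomputable def lam {B : Type u} [CommRing B] [Algebra A B] (β : Sol a B) : Q a →ₗ[A] B :=
  (cols a).liftQ (Fintype.linearCombination A β.vec) (by
    rw [cols, Submodule.span_le]
    rintro _ ⟨j, rfl⟩
    change Fintype.linearCombination A β.vec (fun i => a i j) = 0
    rw [Fintype.linearCombination_apply]
    exact β.rel j)

theorem lam_ebar {B : Type u} [CommRing B] [Algebra A B] (β : Sol a B) (i : Fin n) :
    lam β (ebar a i) = β.vec i := by
  change (cols a).liftQ _ _ (Submodule.Quotient.mk _) = _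
  rw [Submodule.liftQ_apply]
  simp [Fintype.linearCombination_apply, Pi.single_apply]

/-- every tensor in `Q ⊗ M` is a combination of the `ebar i`. -/
theorem exists_vec_of_tensor (M : Type w) [AddCommGroup M] [Module A M] (θ : Q a ⊗[A] M) :
    ∃ mv : Fin n → M, θ = ∑ i, ebar a i ⊗ₜ[A] mv i := by
  induction θ using TensorProduct.induction_on with
  | zero => exact ⟨0, by simp⟩
  | tmul q x =>
    obtain ⟨v, rfl⟩ := (cols a).mkQ_surjective q
    refine ⟨fun i => v i • x, ?_⟩
    have hv : v = ∑ i, v i • (Pi.single i (1 : A) : Fin n → A) := by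
      ext k
      simp [Finset.sum_apply, Pi.single_apply]
    conv_lhs => rw [hv]
    rw [map_sum, TensorProduct.sum_tmul]
    refine Finset.sum_congr rfl fun i _ => ?_
    rw [map_smul, TensorProduct.smul_tmul]
    rfl
  | add x y hx hy =>
    obtain ⟨mx, rfl⟩ := hx
    obtain ⟨my, rfl⟩ := hy
    refine ⟨mx + my, ?_⟩
    simp [TensorProduct.tmul_add, Finset.sum_add_distrib]

section Main

variable (M : Type w) [AddCommGroup M] [Module A M]

/-- the universal solution, in the square-zero extension `A ⊕ Q`. -/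
noncomputable def univSol (a : Fin n → Fin m → A) : Sol a (TrivSqZeroExt A (Q a)) where
  vec i := TrivSqZeroExt.inr (ebar a i)
  rel j := by
    have h := sum_smul_ebar a j
    have h2 : ∑ i, a i j • (TrivSqZeroExt.inr (ebar a i) : TrivSqZeroExt A (Q a)) =
        TrivSqZeroExt.inr (∑ i, a i j • ebar a i) := by
      rw [TrivSqZeroExt.inr_sum]
      refine Finset.sum_congr rfl fun i _ => ?_
      rw [TrivSqZeroExt.inr_smul]
    rw [h2, h, TrivSqZeroExt.inr_zero]

/-- the algebra map `A ⊕ Q → B[ε]` of a solution. -/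
noncomputable def psi {B : Type u} [CommRing B] [Algebra A B] (β : Sol a B) :
    TrivSqZeroExt A (Q a) →ₐ[A] TrivSqZeroExt B B :=
  TrivSqZeroExt.lift (Algebra.ofId A (TrivSqZeroExt B B))
    (((TrivSqZeroExt.inrHom B B).restrictScalars A).comp (lam β))
    (fun x y => by simp)
    (fun r x => by
      simp only [LinearMap.coe_comp, Function.comp_apply, map_smul]
      rw [Algebra.smul_def]
      rfl)
    (fun r x => by
      have h1 : (MulOpposite.op r • x : Q a) = r • x := op_smul_eq_smul r x
      rw [h1, mul_comm]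
      simp only [LinearMap.coe_comp, Function.comp_apply, map_smul]
      rw [Algebra.smul_def]
      rfl)

theorem psi_inr {B : Type u} [CommRing B] [Algebra A B] (β : Sol a B) (q : Q a) :
    psi β (TrivSqZeroExt.inr q) = TrivSqZeroExt.inr (lam β q) := by
  simp [psi]

theorem snd_psi {B : Type u} [CommRing B] [Algebra A B] (β : Sol a B)
    (x : TrivSqZeroExt A (Q a)) : (psi β x).snd = lam β x.snd := by
  rw [psi, TrivSqZeroExt.lift_def]
  simp [Algebra.ofId_apply, TrivSqZeroExt.algebraMap_eq_inl']

end Main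

section Main2

@[ext]
theorem Sol.ext' {B : Type u} [CommRing B] [Algebra A B] {β γ : Sol a B}
    (h : ∀ i, β.vec i = γ.vec i) : β = γ := by
  cases β; cases γ
  congr
  funext i
  exact h i

variable (a)

theorem exists_vec (M : Type w) [AddCommGroup M] [Module A M]
    (Φ : ∀ (B : Type u) [CommRing B] [Algebra A B], Sol a B → B ⊗[A] M)
    (hnat : ∀ (B B' : Type u) [CommRing B] [CommRing B'] [Algebra A B] [Algebra A B']
      (f : B →ₐ[A] B') (β : Sol a B), Φ B' (β.comp f) = f.toLinearMap.rTensor M (Φ B β))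
    (hsmul : ∀ (B : Type u) [CommRing B] [Algebra A B] (b : B) (β : Sol a B),
      Φ B (β.smul b) = b • Φ B β) :
    ∃ mv : Fin n → M, ∀ (B : Type u) [CommRing B] [Algebra A B] (β : Sol a B),
      Φ B β = ∑ i, β.vec i ⊗ₜ[A] mv i := by
  obtain ⟨mv, hmv⟩ := exists_vec_of_tensor M
    (((TrivSqZeroExt.sndHom A (Q a)).rTensor M) (Φ (TrivSqZeroExt A (Q a)) (univSol a)))
  refine ⟨mv, fun B _ _ β => ?_⟩
  let ιB : B →ₐ[A] TrivSqZeroExt B B := TrivSqZeroExt.inlAlgHom A B B
  let ε : TrivSqZeroExt B B := TrivSqZeroExt.inr 1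
  have e1 : (univSol a).comp (psi β) = (β.comp ιB).smul ε := by
    apply Sol.ext'
    intro i
    change psi β (TrivSqZeroExt.inr (ebar a i)) = ε * ιB (β.vec i)
    rw [psi_inr, lam_ebar]
    change _ = TrivSqZeroExt.inr 1 * TrivSqZeroExt.inl (β.vec i)
    rw [TrivSqZeroExt.inr_mul_inl]
    simp
  have h1 := hnat (TrivSqZeroExt A (Q a)) (TrivSqZeroExt B B) (psi β) (univSol a)
  have h2 := hnat B (TrivSqZeroExt B B) ιB β
  have h3 := hsmul (TrivSqZeroExt B B) ε (β.comp ιB)
  have h4 : (psi β).toLinearMap.rTensor M (Φ (TrivSqZeroExt A (Q a)) (univSol a)) =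
      ε • ιB.toLinearMap.rTensor M (Φ B β) := by rw [← h1, e1, h3, h2]
  let p : TrivSqZeroExt B B →ₗ[A] B := (TrivSqZeroExt.sndHom B B).restrictScalars A
  have h5 := congrArg (p.rTensor M) h4
  have hL : p.rTensor M ((psi β).toLinearMap.rTensor M
      (Φ (TrivSqZeroExt A (Q a)) (univSol a))) =
      (lam β).rTensor M (((TrivSqZeroExt.sndHom A (Q a)).rTensor M)
        (Φ (TrivSqZeroExt A (Q a)) (univSol a))) := by
    rw [← LinearMap.comp_apply, ← LinearMap.rTensor_comp,
      ← LinearMap.comp_apply (f := (lam β).rTensor M), ← LinearMap.rTensor_comp]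
    congr 2
    ext x
    exact snd_psi β x
  have hR : ∀ z : B ⊗[A] M, p.rTensor M (ε • ιB.toLinearMap.rTensor M z) = z := by
    intro z
    induction z using TensorProduct.induction_on with
    | zero => simp
    | tmul b x =>
      rw [LinearMap.rTensor_tmul, TensorProduct.smul_tmul', LinearMap.rTensor_tmul]
      congr 1
      change (TrivSqZeroExt.inr 1 * TrivSqZeroExt.inl b : TrivSqZeroExt B B).snd = b
      rw [TrivSqZeroExt.inr_mul_inl]
      simp
    | add x y hx hy => rw [map_add, smul_add, map_add, hx, hy]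
  rw [hL, hR, hmv] at h5
  rw [← h5, map_sum]
  refine Finset.sum_congr rfl fun i _ => ?_
  rw [LinearMap.rTensor_tmul, lam_ebar]

end Main2

end Groth.Agent.H2.AdeqYoneda
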