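import Mathlib
import Groth.Prelude.Def_Adeq
import Groth.Agent.Lib.Helper2.AdeqKer
import Groth.Agent.Lib.Helper2.AdeqYoneda

/-! # Linearly adequate functors: maps to `underline M` extend (Stacks 06V1). -/

set_option autoImplicit false
universe u
open CategoryTheory CategoryTheory.Limits TensorProduct Adeq

namespace Groth.Agent.H2.AdeqLin

open Groth.Agent.H2.AdeqYoneda Groth.Agent.H2.AdeqKer

variable {A : Type u} [CommRing A] {P P' : ModuleCat.{u + 1} A} {n m : ℕ}
  (bP : Module.Basis (Fin n) A P) (bP' : Module.Basis (Fin m) A P') (φ₀ : P ⟶ P')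

/-- the matrix of `φ₀`. -/
noncomputable def mat : Fin n → Fin m → A := fun i j => bP'.repr (φ₀.hom (bP i)) j

variable {B : Type u} [CommRing B] [Algebra A B]

/-- the element of `B ⊗ P` of a coordinate vector. -/
noncomputable def xiv (β : Fin n → B) : B ⊗[A] P := ∑ i, β i ⊗ₜ[A] bP i

theorem baseChange_xiv (β : Fin n → B) :
    φ₀.hom.baseChange B (xiv bP β) =
      ∑ j, (∑ i, mat bP bP' φ₀ i j • β i) ⊗ₜ[A] bP' j := by
  rw [xiv, map_sum]
  have h1 : ∀ i, φ₀.hom.baseChange B (β i ⊗ₜ[A] bP i) =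
      ∑ j, (mat bP bP' φ₀ i j • β i) ⊗ₜ[A] bP' j := by
    intro i
    rw [LinearMap.baseChange_tmul]
    conv_lhs => rw [← bP'.sum_repr (φ₀.hom (bP i))]
    rw [TensorProduct.tmul_sum]
    refine Finset.sum_congr rfl fun j _ => ?_
    rw [TensorProduct.tmul_smul, TensorProduct.smul_tmul']
    rfl
  simp_rw [h1]
  rw [Finset.sum_comm]
  refine Finset.sum_congr rfl fun j _ => ?_
  rw [TensorProduct.sum_tmul]

theorem baseChange_xiv_eq_zero_iff (β : Fin n → B) :
    φ₀.hom.baseChange B (xiv bP β) = 0 ↔ ∀ j, ∑ i, mat bP bP' φ₀ i j • β i = 0 := by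
  rw [baseChange_xiv]
  constructor
  · intro h j
    have h2 : ∑ j, (∑ i, mat bP bP' φ₀ i j • β i) • (bP'.baseChange B) j = 0 := by
      rw [← h]
      refine Finset.sum_congr rfl fun j _ => ?_
      rw [Module.Basis.baseChange_apply, TensorProduct.smul_tmul', smul_eq_mul, mul_one]
    have := (Fintype.linearIndependent_iff.mp (bP'.baseChange B).linearIndependent) _ h2 j
    exact this
  · intro h
    simp [h]

theorem exists_xiv (x : B ⊗[A] P) : ∃ β : Fin n → B, xiv bP β = x := by
  refine ⟨fun i => (bP.baseChange B).repr x i, ?_⟩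
  conv_rhs => rw [← (bP.baseChange B).sum_repr x]
  rw [xiv]
  refine Finset.sum_congr rfl fun i _ => ?_
  rw [Module.Basis.baseChange_apply, TensorProduct.smul_tmul', smul_eq_mul, mul_one]

section Presheaf

variable {bP bP' φ₀}

/-- element of the kernel functor attached to a solution. -/
noncomputable def kap (β : Sol (mat bP bP' φ₀) B) :
    (kernel ((underline A).map φ₀)).obj (pt (algOf A B)) :=
  Classical.choose (exists_of_app_eq_zero ((underline A).map φ₀) (pt (algOf A B))
    (xiv bP β.vec) ((baseChange_xiv_eq_zero_iff bP bP' φ₀ β.vec).mpr β.rel))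

theorem ι_kap (β : Sol (mat bP bP' φ₀) B) :
    ((kernel.ι ((underline A).map φ₀)).app (pt (algOf A B))).hom (kap β) = xiv bP β.vec :=
  Classical.choose_spec (exists_of_app_eq_zero ((underline A).map φ₀) (pt (algOf A B))
    (xiv bP β.vec) ((baseChange_xiv_eq_zero_iff bP bP' φ₀ β.vec).mpr β.rel))

theorem xiv_comp {B' : Type u} [CommRing B'] [Algebra A B'] (f : B →ₐ[A] B') (β : Fin n → B) :
    f.toLinearMap.rTensor P (xiv bP β) = xiv bP (fun i => f (β i)) := by
  rw [xiv, map_sum]
  rfl

theorem xiv_smul (b : B) (β : Fin n → B) : b • xiv bP β = xiv bP (fun i => b * β i) := by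
  rw [xiv, Finset.smul_sum]
  rfl

theorem map_kap {B' : Type u} [CommRing B'] [Algebra A B'] (f : B →ₐ[A] B')
    (β : Sol (mat bP bP' φ₀) B) :
    ((kernel ((underline A).map φ₀)).map
      (ptHom (CommAlgCat.ofHom f : algOf A B ⟶ algOf A B'))).hom (kap β) = kap (β.comp f) := by
  apply kernel_ι_app_injective ((underline A).map φ₀) (pt (algOf A B'))
  rw [PresheafOfModules.naturality_apply, ι_kap, ι_kap]
  exact xiv_comp f β.vec

theorem smul_kap (b : B) (β : Sol (mat bP bP' φ₀) B) :
    (b • kap β : (kernel ((underline A).map φ₀)).obj (pt (algOf A B))) = kap (β.smul b) := by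
  apply kernel_ι_app_injective ((underline A).map φ₀) (pt (algOf A B))
  rw [ι_kap]
  have h := ((kernel.ι ((underline A).map φ₀)).app (pt (algOf A B))).hom.map_smul b (kap β)
  rw [ι_kap] at h
  exact h.trans (xiv_smul b β.vec)

theorem eq_kap (x : (kernel ((underline A).map φ₀)).obj (pt (algOf A B))) :
    ∃ β : Sol (mat bP bP' φ₀) B, x = kap β := by
  obtain ⟨β₀, hβ₀⟩ := exists_xiv bP
    (((kernel.ι ((underline A).map φ₀)).app (pt (algOf A B))).hom x)
  have hrel : ∀ j, ∑ i, mat bP bP' φ₀ i j • β₀ i = 0 := by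
    rw [← baseChange_xiv_eq_zero_iff, hβ₀]
    exact kernel_ι_app_comp ((underline A).map φ₀) (pt (algOf A B)) x
  refine ⟨⟨β₀, hrel⟩, ?_⟩
  apply kernel_ι_app_injective ((underline A).map φ₀) (pt (algOf A B))
  rw [ι_kap]
  exact hβ₀.symm

end Presheaf

section Main

variable {M : ModuleCat.{u + 1} A}

theorem exists_lift_basis (bP : Module.Basis (Fin n) A P) (bP' : Module.Basis (Fin m) A P')
    (φ₀ : P ⟶ P') (φ : kernel ((underline A).map φ₀) ⟶ (underline A).obj M) :
    ∃ g : P ⟶ M, kernel.ι ((underline A).map φ₀) ≫ (underline A).map g = φ := by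
  obtain ⟨mv, hmv⟩ := exists_vec (mat bP bP' φ₀) M
    (fun B _ _ β => (φ.app (pt (algOf A B))).hom (kap β))
    (fun B B' _ _ _ _ f β => by
      dsimp only
      rw [← map_kap f β, PresheafOfModules.naturality_apply]
      rfl)
    (fun B _ _ b β => by
      dsimp only
      rw [← smul_kap b β]
      exact (φ.app (pt (algOf A B))).hom.map_smul b (kap β))
  refine ⟨ModuleCat.ofHom (bP.constr A mv), ?_⟩
  apply PresheafOfModules.hom_ext
  intro X
  ext x
  obtain ⟨β, hβ⟩ := eq_kap (bP := bP) (bP' := bP') (φ₀ := φ₀) (B := X.unop.unop)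
    (x : (kernel ((underline A).map φ₀)).obj (pt (algOf A X.unop.unop)))
  have h1 := hmv X.unop.unop β
  have hx : x = kap β := hβ
  rw [hx]
  change ((underline A).map (ModuleCat.ofHom (bP.constr A mv))).app (pt (algOf A X.unop.unop))
    (((kernel.ι ((underline A).map φ₀)).app (pt (algOf A X.unop.unop))).hom (kap β)) = _
  rw [ι_kap]
  refine Eq.trans ?_ h1.symm
  change (bP.constr A mv).baseChange X.unop.unop (xiv bP β.vec) = _
  rw [xiv, map_sum]
  refine Finset.sum_congr rfl fun i _ => ?_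
  rw [LinearMap.baseChange_tmul, Module.Basis.constr_basis]

theorem exists_lift [Module.Finite A P] [Module.Free A P] [Module.Finite A P'] [Module.Free A P']
    (φ₀ : P ⟶ P') (φ : kernel ((underline A).map φ₀) ⟶ (underline A).obj M) :
    ∃ g : P ⟶ M, kernel.ι ((underline A).map φ₀) ≫ (underline A).map g = φ :=
  exists_lift_basis ((Module.Free.chooseBasis A P).reindex (Fintype.equivFin _))
    ((Module.Free.chooseBasis A P').reindex (Fintype.equivFin _)) φ₀ φ

end Main

end Groth.Agent.H2.AdeqLin
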