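import Mathlib
import Groth.Prelude.Def_Adeq
import Groth.Agent.Lib.Helper2.AdeqLin
import Groth.Agent.Lib.Helper2.AdeqVanish

/-! # Adequate functors are quotients of sums of linearly adequate ones (Stacks 06UZ). -/

set_option autoImplicit false
universe u
open CategoryTheory CategoryTheory.Limits TensorProduct Adeq

namespace Groth.Agent.H2.AdeqSurj

open Groth.Agent.H2.AdeqYoneda Groth.Agent.H2.AdeqKer Groth.Agent.H2.AdeqLin

variable (A : Type u) [CommRing A]

/-- the standard free module of rank `n`, in the universe of the values. -/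
abbrev std (n : ℕ) : ModuleCat.{u + 1} A := ModuleCat.of A (ULift.{u + 1} (Fin n → A))

noncomputable def stdBasis (n : ℕ) : Module.Basis (Fin n) A (std A n) :=
  (Pi.basisFun A (Fin n)).map ULift.moduleEquiv.symm

instance (n : ℕ) : Module.Free A (std A n) := Module.Free.of_basis (stdBasis A n)
instance (n : ℕ) : Module.Finite A (std A n) := Module.Finite.of_basis (stdBasis A n)

variable {A}

/-- the map of standard free modules of a matrix. -/
noncomputable def matHom {n k : ℕ} (a : Fin n → Fin k → A) : std A n ⟶ std A k :=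
  ModuleCat.ofHom ((stdBasis A n).constr A (fun i => ∑ j, a i j • stdBasis A k j))

theorem mat_matHom {n k : ℕ} (a : Fin n → Fin k → A) :
    mat (stdBasis A n) (stdBasis A k) (matHom a) = a := by
  funext i j
  simp [mat, matHom, Module.Basis.constr_basis, Finsupp.single_apply]

/-- the map out of a standard free module of a vector. -/
noncomputable def vecHom {n : ℕ} {M : ModuleCat.{u + 1} A} (mv : Fin n → M) : std A n ⟶ M :=
  ModuleCat.ofHom ((stdBasis A n).constr A mv)

theorem matHom_comp_vecHom {n k : ℕ} (a : Fin n → Fin k → A) {M N : ModuleCat.{u + 1} A}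
    (φ : M ⟶ N) (mv : Fin n → M) (y : Fin k → N) (h : ∀ i, φ.hom (mv i) = ∑ j, a i j • y j) :
    vecHom mv ≫ φ = matHom a ≫ vecHom y := by
  ext : 1
  apply (stdBasis A n).ext
  intro i
  simp [vecHom, matHom, Module.Basis.constr_basis, h]

section Hit

variable {M N : ModuleCat.{u + 1} A} (φ : M ⟶ N)

/-- the map from a linearly adequate functor to the kernel functor. -/
noncomputable def toKer {n k : ℕ} (a : Fin n → Fin k → A) (mv : Fin n → M) (y : Fin k → N)
    (h : ∀ i, φ.hom (mv i) = ∑ j, a i j • y j) :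
    kernel ((underline A).map (matHom a)) ⟶ kernel ((underline A).map φ) :=
  kernel.lift _ (kernel.ι _ ≫ (underline A).map (vecHom mv)) (by
    rw [Category.assoc, ← Functor.map_comp, matHom_comp_vecHom a φ mv y h, Functor.map_comp,
      ← Category.assoc, kernel.condition, zero_comp])

theorem linAdequate_kernel_matHom {n k : ℕ} (a : Fin n → Fin k → A) :
    linAdequate A (kernel ((underline A).map (matHom a))) :=
  ⟨std A n, std A k, matHom a, inferInstance, inferInstance, inferInstance, inferInstance,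
    ⟨Iso.refl _⟩⟩

theorem exists_linAdequate_hit (B : Type u) [CommRing B] [Algebra A B]
    (ξ : (kernel ((underline A).map φ)).obj (pt (algOf A B))) :
    ∃ (L : MVF A) (ψ : L ⟶ kernel ((underline A).map φ)), linAdequate A L ∧
      ∃ z : L.obj (pt (algOf A B)), (ψ.app (pt (algOf A B))).hom z = ξ := by
  obtain ⟨l, b, mv, hx⟩ := TensorProduct.exists_sum_tmul_eq
    ((((kernel.ι ((underline A).map φ)).app (pt (algOf A B))).hom ξ : B ⊗[A] M))
  have hφ : ∑ j, b j ⊗ₜ[A] φ.hom (mv j) = 0 := by
    have h0 := kernel_ι_app_comp ((underline A).map φ) (pt (algOf A B)) ξ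
    have h1 : φ.hom.baseChange B
        ((((kernel.ι ((underline A).map φ)).app (pt (algOf A B))).hom ξ : B ⊗[A] M)) = 0 := h0
    rw [hx, map_sum] at h1
    simpa using h1
  obtain ⟨r, c, k, a, y, hy, ha⟩ :=
    Groth.Agent.H2.AdeqVanish.exists_extension_vanishesTrivially b (fun j => φ.hom (mv j)) hφ
  let e : Fin l ⊕ Fin r ≃ Fin (l + r) := finSumFinEquiv
  let b' : Fin (l + r) → B := fun i => Sum.elim b c (e.symm i)
  let mv' : Fin (l + r) → M := fun i => Sum.elim mv (fun _ => 0) (e.symm i)
  let a' : Fin (l + r) → Fin k → A := fun i j => a (e.symm i) j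
  have h1 : ∀ i, φ.hom (mv' i) = ∑ j, a' i j • y j := by
    intro i
    have := hy (e.symm i)
    rw [← this]
    dsimp only [mv']
    rcases e.symm i with s | s
    · rfl
    · simp
  have h2 : ∀ j, ∑ i, a' i j • b' i = 0 := by
    intro j
    rw [← ha j, ← e.symm.sum_comp]
  have h3 : ∑ i, b' i ⊗ₜ[A] mv' i =
      (((kernel.ι ((underline A).map φ)).app (pt (algOf A B))).hom ξ : B ⊗[A] M) := by
    rw [hx, ← e.sum_comp, Fintype.sum_sum_type]
    simp [b', mv']
  refine ⟨kernel ((underline A).map (matHom a')), toKer φ a' mv' y h1,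
    linAdequate_kernel_matHom a', ?_⟩
  let β : Sol (mat (stdBasis A (l + r)) (stdBasis A k) (matHom a')) B :=
    ⟨b', by rw [mat_matHom]; exact h2⟩
  refine ⟨kap β, ?_⟩
  apply kernel_ι_app_injective ((underline A).map φ) (pt (algOf A B))
  have h4 : toKer φ a' mv' y h1 ≫ kernel.ι ((underline A).map φ) =
      kernel.ι _ ≫ (underline A).map (vecHom mv') := kernel.lift_ι _ _ _
  have h5 := congrArg (fun t => (PresheafOfModules.Hom.app t (pt (algOf A B))).hom (kap β)) h4
  refine (h5 : _).trans ?_
  change ((underline A).map (vecHom mv')).app (pt (algOf A B))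
    (((kernel.ι ((underline A).map (matHom a'))).app (pt (algOf A B))).hom (kap β)) = _
  rw [ι_kap, ← h3]
  change (vecHom mv').hom.baseChange B (xiv (stdBasis A (l + r)) b') = _
  rw [xiv, map_sum]
  refine Finset.sum_congr rfl fun i _ => ?_
  rw [LinearMap.baseChange_tmul]
  simp [vecHom, Module.Basis.constr_basis]

end Hit

section Assemble

variable {M N : ModuleCat.{u + 1} A} (φ : M ⟶ N)

theorem exists_epi_cofan_kernel :
    ∃ (ι : Type (u + 1)) (L : ι → MVF A), (∀ i, linAdequate A (L i)) ∧
      ∃ (c : Cofan L) (_ : IsColimit c) (π : c.pt ⟶ kernel ((underline A).map φ)), Epi π := by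
  let I : Type (u + 1) := Σ B : Alg A, (kernel ((underline A).map φ)).obj (pt B)
  have key : ∀ i : I, ∃ (L : MVF A) (ψ : L ⟶ kernel ((underline A).map φ)), linAdequate A L ∧
      ∃ z : L.obj (pt i.1), (ψ.app (pt i.1)).hom z = i.2 :=
    fun i => exists_linAdequate_hit φ i.1 i.2
  choose L ψ hL z hz using key
  refine ⟨I, L, hL, Cofan.mk (∐ L) (Sigma.ι L), coproductIsCoproduct L, Sigma.desc ψ, ?_⟩
  apply PresheafOfModules.epi_of_surjective
  intro X ξ
  let i : I := ⟨X.unop.unop, ξ⟩
  refine ⟨((Sigma.ι L i).app X).hom (z i), ?_⟩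
  have h1 : Sigma.ι L i ≫ Sigma.desc ψ = ψ i := Sigma.ι_desc ψ i
  have h2 := congrArg (fun t => (PresheafOfModules.Hom.app t X).hom (z i)) h1
  exact (h2 : _).trans (hz i)

theorem exists_epi_cofan (F : MVF A) (hF : adequate A F) :
    ∃ (ι : Type (u + 1)) (L : ι → MVF A), (∀ i, linAdequate A (L i)) ∧
      ∃ (c : Cofan L) (_ : IsColimit c) (π : c.pt ⟶ F), Epi π := by
  obtain ⟨M, N, φ, ⟨e⟩⟩ := hF
  obtain ⟨I, L, hL, c, hc, π, hπ⟩ := exists_epi_cofan_kernel φ
  exact ⟨I, L, hL, c, hc, π ≫ e.inv, epi_comp _ _⟩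

end Assemble

end Groth.Agent.H2.AdeqSurj
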