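import Mathlib
import Groth.Prelude.Def_Adeq
import Groth.Agent.Lib.Helper2.AdeqKer
import Groth.Agent.Lib.Helper2.AdeqCok
import Groth.Agent.Lib.Helper2.AdeqPush
import Groth.Agent.Lib.Helper2.AdeqSurj
import Groth.Agent.Lib.Helper2.AdeqExact

/-! # The cokernel of a map from an adequate functor to `underline M` (Stacks 06V2). -/

set_option autoImplicit false
universe u
open CategoryTheory CategoryTheory.Limits TensorProduct Adeq

namespace Groth.Agent.H2.AdeqCoker

open Groth.Agent.H2.AdeqKer Groth.Agent.H2.AdeqCok Groth.Agent.H2.AdeqPush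

variable {A : Type u} [CommRing A]

section Core

variable {F : MVF A} {M : ModuleCat.{u + 1} A} (φ : F ⟶ (underline A).obj M)
  {I : Type (u + 1)} [DecidableEq I] {L : I → MVF A} (c : Cofan L) (hc : IsColimit c)
  (π : c.pt ⟶ F) [Epi π] (Pm Pm' : I → ModuleCat.{u + 1} A) (κ : ∀ i, Pm i ⟶ Pm' i)
  (e : ∀ i, L i ≅ kernel ((underline A).map (κ i)))
  (g : ∀ i, Pm i ⟶ M)
  (hg : ∀ i, kernel.ι ((underline A).map (κ i)) ≫ (underline A).map (g i) =
    (e i).inv ≫ c.inj i ≫ π ≫ φ)

/-- total map `⨁ Pᵢ → ⨁ P'ᵢ`. -/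
noncomputable def kapT : (DirectSum I fun i => Pm i) →ₗ[A] (DirectSum I fun i => Pm' i) :=
  DirectSum.lmap (fun i => (κ i).hom)

/-- total map `⨁ Pᵢ → M`. -/
noncomputable def gT : (DirectSum I fun i => Pm i) →ₗ[A] M :=
  DirectSum.toModule A I M (fun i => (g i).hom)

/-- the target module. -/
noncomputable abbrev Nmod : ModuleCat.{u + 1} A := ModuleCat.of A (Push (gT Pm g) (kapT Pm Pm' κ))

noncomputable abbrev qhom : M ⟶ Nmod Pm Pm' κ g := ModuleCat.ofHom (pushInl (gT Pm g) (kapT Pm Pm' κ))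

noncomputable abbrev Nmod' : ModuleCat.{u + 1} A :=
  ModuleCat.of A (PushCok (gT Pm g) (kapT Pm Pm' κ))

noncomputable abbrev rhom : Nmod Pm Pm' κ g ⟶ Nmod' Pm Pm' κ g :=
  ModuleCat.ofHom (LinearMap.range (pushInl (gT Pm g) (kapT Pm Pm' κ))).mkQ

include hc hg in
theorem comp_underline_q : φ ≫ (underline A).map (qhom Pm Pm' κ g) = 0 := by
  rw [← cancel_epi π]
  apply Cofan.IsColimit.hom_ext hc
  intro i
  rw [comp_zero, comp_zero]
  have h1 : c.inj i ≫ π ≫ φ = (e i).hom ≫ kernel.ι ((underline A).map (κ i)) ≫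
      (underline A).map (g i) := by
    rw [hg i, Iso.hom_inv_id_assoc]
  rw [← Category.assoc, ← Category.assoc, Category.assoc (c.inj i), h1]
  have h2 : g i ≫ qhom Pm Pm' κ g = κ i ≫ ModuleCat.ofHom
      (pushInr (gT Pm g) (kapT Pm Pm' κ) ∘ₗ DirectSum.lof A I (fun i => Pm' i) i) := by
    ext x
    change pushInl (gT Pm g) (kapT Pm Pm' κ) ((g i).hom x) =
      pushInr (gT Pm g) (kapT Pm Pm' κ) (DirectSum.lof A I (fun i => Pm' i) i ((κ i).hom x))
    have h3 := congrArg (fun t => t (DirectSum.lof A I (fun i => Pm i) i x))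
      (pushInl_comp (gT Pm g) (kapT Pm Pm' κ))
    simp only [LinearMap.coe_comp, Function.comp_apply] at h3
    rw [gT, DirectSum.toModule_lof, kapT, DirectSum.lmap_lof] at h3
    exact h3
  rw [Category.assoc, Category.assoc, ← Functor.map_comp, h2, Functor.map_comp,
    ← Category.assoc (kernel.ι _), kernel.condition, zero_comp, comp_zero]

end Core

section Core2

variable {F : MVF A} {M : ModuleCat.{u + 1} A} (φ : F ⟶ (underline A).obj M)
  {I : Type (u + 1)} [DecidableEq I] {L : I → MVF A} (c : Cofan L)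
  (π : c.pt ⟶ F) (Pm Pm' : I → ModuleCat.{u + 1} A) (κ : ∀ i, Pm i ⟶ Pm' i)
  (e : ∀ i, L i ≅ kernel ((underline A).map (κ i)))
  (g : ∀ i, Pm i ⟶ M)
  (hg : ∀ i, kernel.ι ((underline A).map (κ i)) ≫ (underline A).map (g i) =
    (e i).inv ≫ c.inj i ≫ π ≫ φ)

include hg in
theorem exists_of_underline_q_eq_zero (X : (Alg A)ᵒᵖᵒᵖ) (x : ((underline A).obj M).obj X)
    (hx : (((underline A).map (qhom Pm Pm' κ g)).app X).hom x = 0) :
    ∃ f : F.obj X, (φ.app X).hom f = x := by
  classical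
  have hx' : (pushInl (gT Pm g) (kapT Pm Pm' κ)).lTensor X.unop.unop
      (x : X.unop.unop ⊗[A] M) = 0 := hx
  obtain ⟨p, hp1, hp2⟩ := exists_of_lTensor_pushInl_eq_zero X.unop.unop _ _ _ hx'
  obtain ⟨J, hJ⟩ := exists_finset_sum_lTensor (A := A) X.unop.unop (fun i => Pm i) p
  -- the components
  have hker : ∀ i, (((underline A).map (κ i)).app X).hom
      ((DirectSum.component A I (fun i => Pm i) i).lTensor X.unop.unop p :
        X.unop.unop ⊗[A] Pm i) = 0 := by
    intro i
    change (κ i).hom.lTensor X.unop.unop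
      ((DirectSum.component A I (fun i => Pm i) i).lTensor X.unop.unop p) = 0
    rw [← LinearMap.comp_apply, ← LinearMap.lTensor_comp]
    have h1 : (κ i).hom ∘ₗ DirectSum.component A I (fun i => Pm i) i =
        DirectSum.component A I (fun i => Pm' i) i ∘ₗ kapT Pm Pm' κ := by
      ext y
      rfl
    rw [h1, LinearMap.lTensor_comp, LinearMap.comp_apply, hp2, map_zero]
  choose z hz using fun i => exists_of_app_eq_zero ((underline A).map (κ i)) X _ (hker i)
  refine ⟨∑ i ∈ J, (((e i).inv ≫ c.inj i ≫ π).app X).hom (z i), ?_⟩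
  rw [map_sum]
  have h2 : ∀ i, (φ.app X).hom ((((e i).inv ≫ c.inj i ≫ π).app X).hom (z i)) =
      ((gT Pm g ∘ₗ DirectSum.lof A I (fun i => Pm i) i ∘ₗ
        DirectSum.component A I (fun i => Pm i) i).lTensor X.unop.unop p :
          X.unop.unop ⊗[A] M) := by
    intro i
    have h3 := congrArg (fun t => (PresheafOfModules.Hom.app t X).hom (z i)) (hg i)
    have h4 : (φ.app X).hom ((((e i).inv ≫ c.inj i ≫ π).app X).hom (z i)) =
        (((underline A).map (g i)).app X).hom
          (((kernel.ι ((underline A).map (κ i))).app X).hom (z i)) := by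
      refine Eq.trans ?_ h3.symm
      rfl
    rw [h4, hz i]
    change (g i).hom.lTensor X.unop.unop _ = _
    rw [← LinearMap.comp_apply, ← LinearMap.lTensor_comp]
    congr 2
    ext y
    simp only [LinearMap.coe_comp, Function.comp_apply]
    rw [gT, DirectSum.toModule_lof]
  simp_rw [h2]
  have h5 : ∑ i ∈ J, ((gT Pm g ∘ₗ DirectSum.lof A I (fun i => Pm i) i ∘ₗ
        DirectSum.component A I (fun i => Pm i) i).lTensor X.unop.unop p :
          X.unop.unop ⊗[A] M) =
      (gT Pm g).lTensor X.unop.unop (∑ i ∈ J, ((DirectSum.lof A I (fun i => Pm i) i ∘ₗ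
        DirectSum.component A I (fun i => Pm i) i).lTensor X.unop.unop) p) := by
    rw [map_sum]
    refine Finset.sum_congr rfl fun i _ => ?_
    rw [← LinearMap.comp_apply, ← LinearMap.lTensor_comp]
  have h6 := h5.trans (congrArg ((gT Pm g).lTensor X.unop.unop) (hJ J (Finset.Subset.refl J)))
  exact h6.trans hp1

end Core2

section Core3

variable {F : MVF A} {M : ModuleCat.{u + 1} A} (φ : F ⟶ (underline A).obj M)
  {I : Type (u + 1)} [DecidableEq I] {L : I → MVF A} (c : Cofan L) (hc : IsColimit c)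
  (π : c.pt ⟶ F) [Epi π] (Pm Pm' : I → ModuleCat.{u + 1} A) (κ : ∀ i, Pm i ⟶ Pm' i)
  (e : ∀ i, L i ≅ kernel ((underline A).map (κ i)))
  (g : ∀ i, Pm i ⟶ M)
  (hg : ∀ i, kernel.ι ((underline A).map (κ i)) ≫ (underline A).map (g i) =
    (e i).inv ≫ c.inj i ≫ π ≫ φ)

include hc hg in
theorem core : ∃ (N : ModuleCat.{u + 1} A) (q : M ⟶ N), φ ≫ (underline A).map q = 0 ∧
    (∀ (X : (Alg A)ᵒᵖᵒᵖ) (x : ((underline A).obj M).obj X),
      (((underline A).map q).app X).hom x = 0 → ∃ f : F.obj X, (φ.app X).hom f = x) ∧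
    ∃ (N' : ModuleCat.{u + 1} A) (r : N ⟶ N'),
      Nonempty (cokernel φ ≅ kernel ((underline A).map r)) := by
  refine ⟨Nmod Pm Pm' κ g, qhom Pm Pm' κ g, comp_underline_q φ c hc π Pm Pm' κ e g hg,
    exists_of_underline_q_eq_zero φ c π Pm Pm' κ e g hg, Nmod' Pm Pm' κ g, rhom Pm Pm' κ g, ?_⟩
  apply Groth.Agent.H2.AdeqExact.nonempty_cokernel_iso_kernel φ
    ((underline A).map (qhom Pm Pm' κ g)) ((underline A).map (rhom Pm Pm' κ g))
    (comp_underline_q φ c hc π Pm Pm' κ e g hg)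
  · rw [← Functor.map_comp]
    have : qhom Pm Pm' κ g ≫ rhom Pm Pm' κ g = 0 := by
      ext x
      change (LinearMap.range (pushInl (gT Pm g) (kapT Pm Pm' κ))).mkQ
        (pushInl (gT Pm g) (kapT Pm Pm' κ) x) = 0
      rw [Submodule.mkQ_apply, Submodule.Quotient.mk_eq_zero]
      exact ⟨x, rfl⟩
    rw [this, Functor.map_zero]
  · exact exists_of_underline_q_eq_zero φ c π Pm Pm' κ e g hg
  · intro X y hy
    exact exists_of_lTensor_mkQ_eq_zero X.unop.unop _ _ y hy

end Core3

section Main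

/-- Stacks 06V2: the cokernel of a map from an adequate functor to `underline M`. -/
theorem exists_of_adequate {F : MVF A} (hF : adequate A F) {M : ModuleCat.{u + 1} A}
    (φ : F ⟶ (underline A).obj M) :
    ∃ (N : ModuleCat.{u + 1} A) (q : M ⟶ N), φ ≫ (underline A).map q = 0 ∧
    (∀ (X : (Alg A)ᵒᵖᵒᵖ) (x : ((underline A).obj M).obj X),
      (((underline A).map q).app X).hom x = 0 → ∃ f : F.obj X, (φ.app X).hom f = x) ∧
    ∃ (N' : ModuleCat.{u + 1} A) (r : N ⟶ N'),
      Nonempty (cokernel φ ≅ kernel ((underline A).map r)) := by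
  classical
  obtain ⟨I, L, hL, c, hc, π, hπ⟩ := Groth.Agent.H2.AdeqSurj.exists_epi_cofan F hF
  choose Pm Pm' κ h1 h2 h3 h4 he using hL
  let e : ∀ i, L i ≅ kernel ((underline A).map (κ i)) := fun i => (he i).some
  have hg : ∀ i, ∃ g : Pm i ⟶ M, kernel.ι ((underline A).map (κ i)) ≫ (underline A).map g =
      (e i).inv ≫ c.inj i ≫ π ≫ φ := fun i => by
    haveI := h1 i; haveI := h2 i; haveI := h3 i; haveI := h4 i
    exact Groth.Agent.H2.AdeqLin.exists_lift (κ i) _
  choose g hg using hg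
  exact core φ c hc π Pm Pm' κ e g hg

theorem adequate_cokernel_to_underline {F : MVF A} (hF : adequate A F) {M : ModuleCat.{u + 1} A}
    (φ : F ⟶ (underline A).obj M) : adequate A (cokernel φ) := by
  obtain ⟨N, q, -, -, N', r, ⟨i⟩⟩ := exists_of_adequate hF φ
  exact ⟨N, N', r, ⟨i⟩⟩

end Main

end Groth.Agent.H2.AdeqCoker
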