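import Mathlib
import Groth.Prelude.Def_Adeq
import Groth.Agent.Lib.Helper2.AdeqCoker

/-! # Kernels and cokernels of maps of adequate functors are adequate (Stacks 06V3/06V4). -/

set_option autoImplicit false
universe u
open CategoryTheory CategoryTheory.Limits TensorProduct Adeq

namespace Groth.Agent.H2.AdeqAb

open Groth.Agent.H2.AdeqKer Groth.Agent.H2.AdeqCok

variable {A : Type u} [CommRing A]

theorem comp_app_apply {F G H : MVF A} {f : F ⟶ G} {g : G ⟶ H} {h : F ⟶ H} (w : f ≫ g = h)
    (X : (Alg A)ᵒᵖᵒᵖ) (x : F.obj X) : g.app X (f.app X x) = h.app X x :=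
  congrArg (fun t => (PresheafOfModules.Hom.app t X) x) w

theorem comp_app_apply₂ {F G H G' : MVF A} {f : F ⟶ G} {g : G ⟶ H} {f' : F ⟶ G'} {g' : G' ⟶ H}
    (w : f ≫ g = f' ≫ g') (X : (Alg A)ᵒᵖᵒᵖ) (x : F.obj X) :
    g.app X (f.app X x) = g'.app X (f'.app X x) :=
  congrArg (fun t => (PresheafOfModules.Hom.app t X) x) w

theorem iso_kernel_app_injective {F G H : MVF A} (f : G ⟶ H) (e : F ≅ kernel f)
    (X : (Alg A)ᵒᵖᵒᵖ) : Function.Injective ((e.hom ≫ kernel.ι f).app X) := by
  intro x y hxy
  have h1 : (e.hom.app X) x = (e.hom.app X) y := kernel_ι_app_injective f X hxy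
  have h2 : ∀ z : F.obj X, (e.inv.app X) ((e.hom.app X) z) = z := fun z =>
    congrArg (fun t => (PresheafOfModules.Hom.app t X) z) e.hom_inv_id
  rw [← h2 x, h1, h2 y]

/-- Stacks 06V3 (cokernel part). -/
theorem adequate_cokernel {F G : MVF A} (φ : F ⟶ G) (hF : adequate A F) (hG : adequate A G) :
    adequate A (cokernel φ) := by
  obtain ⟨M, N, ψ, ⟨e⟩⟩ := hG
  have hj := iso_kernel_app_injective ((underline A).map ψ) e
  obtain ⟨N₁, q₁, h1, h2, -⟩ :=
    AdeqCoker.exists_of_adequate hF (φ ≫ e.hom ≫ kernel.ι ((underline A).map ψ))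
  have hφγ : φ ≫ (e.hom ≫ kernel.ι ((underline A).map ψ)) ≫ (underline A).map q₁ = 0 := by
    rw [← Category.assoc]; exact h1
  obtain ⟨N₂, q₂, h3, h4, -⟩ := AdeqCoker.exists_of_adequate (⟨M, N, ψ, ⟨e⟩⟩ : adequate A G)
    ((e.hom ≫ kernel.ι ((underline A).map ψ)) ≫ (underline A).map q₁)
  refine ⟨N₁, N₂, q₂, ?_⟩
  apply AdeqExact.nonempty_cokernel_iso_kernel φ _ ((underline A).map q₂) hφγ h3
  · intro X x hx
    obtain ⟨f, hf⟩ := h2 X (((e.hom ≫ kernel.ι ((underline A).map ψ)).app X).hom x) hx
    exact ⟨f, hj X hf⟩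
  · exact h4

section Ker

abbrev Pmod (M N : ModuleCat.{u + 1} A) : ModuleCat.{u + 1} A := ModuleCat.of A (M × N)

variable {M N : ModuleCat.{u + 1} A}

abbrev pinl : M ⟶ Pmod M N := ModuleCat.ofHom (LinearMap.inl A M N)
abbrev pinr : N ⟶ Pmod M N := ModuleCat.ofHom (LinearMap.inr A M N)
abbrev pfst : Pmod M N ⟶ M := ModuleCat.ofHom (LinearMap.fst A M N)
abbrev psnd : Pmod M N ⟶ N := ModuleCat.ofHom (LinearMap.snd A M N)

theorem pinl_pfst : (pinl : M ⟶ Pmod M N) ≫ pfst = 𝟙 M := by
  apply ModuleCat.hom_ext; apply LinearMap.ext; intro x; rfl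
theorem pinl_psnd : (pinl : M ⟶ Pmod M N) ≫ psnd = 0 := by
  apply ModuleCat.hom_ext; apply LinearMap.ext; intro x; rfl
theorem pinr_pfst : (pinr : N ⟶ Pmod M N) ≫ pfst = 0 := by
  apply ModuleCat.hom_ext; apply LinearMap.ext; intro x; rfl
theorem pinr_psnd : (pinr : N ⟶ Pmod M N) ≫ psnd = 𝟙 N := by
  apply ModuleCat.hom_ext; apply LinearMap.ext; intro x; rfl

variable {F G : MVF A} (φ : F ⟶ G)
  (jF : F ⟶ (underline A).obj M) (jG : G ⟶ (underline A).obj N)

/-- the graph embedding `F → underline (M × N)`. -/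
noncomputable def graph : F ⟶ (underline A).obj (Pmod M N) :=
  jF ≫ (underline A).map pinl + φ ≫ jG ≫ (underline A).map pinr

theorem graph_fst : graph φ jF jG ≫ (underline A).map pfst = jF := by
  rw [graph, Preadditive.add_comp, Category.assoc, ← Functor.map_comp, pinl_pfst,
    CategoryTheory.Functor.map_id, Category.comp_id, Category.assoc, Category.assoc, ← Functor.map_comp,
    pinr_pfst, Functor.map_zero, comp_zero, comp_zero, add_zero]

theorem graph_snd : graph φ jF jG ≫ (underline A).map psnd = φ ≫ jG := by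
  rw [graph, Preadditive.add_comp, Category.assoc, ← Functor.map_comp, pinl_psnd,
    Functor.map_zero, comp_zero, zero_add, Category.assoc, Category.assoc, ← Functor.map_comp,
    pinr_psnd, CategoryTheory.Functor.map_id, Category.comp_id]

theorem adequate_kernel_aux (hF : adequate A F)
    (hjF : ∀ X, Function.Injective (jF.app X)) (hjG : ∀ X, Function.Injective (jG.app X)) :
    adequate A (kernel φ) := by
  obtain ⟨K, q, h1, h2, -⟩ := AdeqCoker.exists_of_adequate hF (graph φ jF jG)
  let ρ : Pmod M N ⟶ Pmod K N := ModuleCat.ofHom (LinearMap.prod q.hom (LinearMap.snd A M N))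
  have hρ1 : ρ ≫ pfst = q := by
    apply ModuleCat.hom_ext; apply LinearMap.ext; intro x; rfl
  have hρ2 : ρ ≫ psnd = psnd := by
    apply ModuleCat.hom_ext; apply LinearMap.ext; intro x; rfl
  have hρ : ρ = q ≫ pinl + psnd ≫ pinr := by
    apply ModuleCat.hom_ext
    apply LinearMap.ext
    intro x
    refine Prod.ext ?_ ?_
    · exact (add_zero (q.hom x)).symm
    · exact (zero_add x.2).symm
  have hz : (kernel.ι φ ≫ graph φ jF jG) ≫ (underline A).map ρ = 0 := by
    rw [hρ, Functor.map_add, Functor.map_comp, Functor.map_comp, Preadditive.comp_add,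
      Category.assoc, ← Category.assoc (graph φ jF jG), h1, zero_comp, comp_zero, zero_add,
      Category.assoc, ← Category.assoc (graph φ jF jG), graph_snd, ← Category.assoc,
      ← Category.assoc, kernel.condition, zero_comp, zero_comp]
  refine ⟨Pmod M N, Pmod K N, ρ, ?_⟩
  let a : kernel φ ⟶ kernel ((underline A).map ρ) := kernel.lift _ _ hz
  have ha : a ≫ kernel.ι ((underline A).map ρ) = kernel.ι φ ≫ graph φ jF jG :=
    kernel.lift_ι _ _ hz
  haveI : IsIso a := by
    apply isIso_of_bijective
    intro X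
    constructor
    · rw [injective_iff_map_eq_zero]
      intro k hk
      have e0 : (kernel.ι ((underline A).map ρ)).app X (a.app X k) =
          (graph φ jF jG).app X ((kernel.ι φ).app X k) := comp_app_apply₂ ha X k
      have e1 : (graph φ jF jG).app X ((kernel.ι φ).app X k) = 0 := by
        rw [← e0, hk, map_zero]
      have e2 : ((underline A).map pfst).app X ((graph φ jF jG).app X ((kernel.ι φ).app X k)) =
          jF.app X ((kernel.ι φ).app X k) := comp_app_apply (graph_fst φ jF jG) X _
      have e3 : jF.app X ((kernel.ι φ).app X k) = 0 := by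
        rw [← e2, e1, map_zero]
      apply kernel_ι_app_injective φ X
      apply hjF X
      rw [e3, map_zero, map_zero]
    · intro y
      have hx0 : ((underline A).map ρ).app X ((kernel.ι ((underline A).map ρ)).app X y) = 0 :=
        kernel_ι_app_comp _ X y
      have e4 : ((underline A).map pfst).app X (((underline A).map ρ).app X
          ((kernel.ι ((underline A).map ρ)).app X y)) =
          ((underline A).map q).app X ((kernel.ι ((underline A).map ρ)).app X y) :=
        comp_app_apply (show (underline A).map ρ ≫ (underline A).map pfst = (underline A).map q by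
          rw [← Functor.map_comp, hρ1]) X _
      have hq : (((underline A).map q).app X).hom ((kernel.ι ((underline A).map ρ)).app X y) = 0 := by
        refine e4.symm.trans ?_
        rw [hx0, map_zero]
      obtain ⟨f, hf⟩ := h2 X _ hq
      have hf' : (graph φ jF jG).app X f = (kernel.ι ((underline A).map ρ)).app X y := hf
      have e5 : ((underline A).map psnd).app X (((underline A).map ρ).app X
          ((kernel.ι ((underline A).map ρ)).app X y)) =
          ((underline A).map psnd).app X ((kernel.ι ((underline A).map ρ)).app X y) :=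
        comp_app_apply (show (underline A).map ρ ≫ (underline A).map psnd =
          (underline A).map psnd by rw [← Functor.map_comp, hρ2]) X _
      have hs : ((underline A).map psnd).app X ((kernel.ι ((underline A).map ρ)).app X y) = 0 := by
        rw [← e5, hx0, map_zero]
      have e6 : ((underline A).map psnd).app X ((graph φ jF jG).app X f) =
          jG.app X (φ.app X f) := comp_app_apply₂ (graph_snd φ jF jG) X f
      have hφf : φ.app X f = 0 := by
        apply hjG X
        rw [map_zero, ← e6, hf', hs]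
      obtain ⟨k, hk⟩ := exists_of_app_eq_zero φ X f hφf
      refine ⟨k, kernel_ι_app_injective _ X ?_⟩
      have e7 : (kernel.ι ((underline A).map ρ)).app X (a.app X k) =
          (graph φ jF jG).app X ((kernel.ι φ).app X k) := comp_app_apply₂ ha X k
      rw [e7, hk, hf']
  exact ⟨asIso a⟩

end Ker

/-- Stacks 06V3 (kernel part). -/
theorem adequate_kernel {F G : MVF A} (φ : F ⟶ G) (hF : adequate A F) (hG : adequate A G) :
    adequate A (kernel φ) := by
  obtain ⟨M, M', ψF, ⟨eF⟩⟩ := hF
  obtain ⟨N, N', ψG, ⟨eG⟩⟩ := hG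
  exact adequate_kernel_aux φ (eF.hom ≫ kernel.ι _) (eG.hom ≫ kernel.ι _) ⟨M, M', ψF, ⟨eF⟩⟩
    (iso_kernel_app_injective _ eF) (iso_kernel_app_injective _ eG)

end Groth.Agent.H2.AdeqAb
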