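import Mathlib
import Groth.Prelude.Def_Adeq
import Groth.Agent.Lib.Helper2.AdeqAb

/-! # Restriction of adequate functors along a ring map is adequate (Stacks 06V7). -/

set_option autoImplicit false
universe u
open CategoryTheory CategoryTheory.Limits TensorProduct Adeq

namespace Groth.Agent.H2.AdeqRestr

open Groth.Agent.H2.AdeqKer Groth.Agent.H2.AdeqCok Groth.Agent.H2.AdeqAb

section Pointwise

variable {A : Type u} [CommRing A]

/-- a functor which sits pointwise as the kernel of `underline q` is adequate. -/
theorem adequate_of_pointwise {F : MVF A} {M N : ModuleCat.{u + 1} A}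
    (j : F ⟶ (underline A).obj M) (q : M ⟶ N) (hz : j ≫ (underline A).map q = 0)
    (hinj : ∀ X, Function.Injective (j.app X))
    (hex : ∀ (X : (Alg A)ᵒᵖᵒᵖ) (x : ((underline A).obj M).obj X),
      ((underline A).map q).app X x = 0 → ∃ f : F.obj X, j.app X f = x) :
    adequate A F := by
  refine ⟨M, N, q, ?_⟩
  let a : F ⟶ kernel ((underline A).map q) := kernel.lift _ j hz
  have ha : a ≫ kernel.ι ((underline A).map q) = j := kernel.lift_ι _ _ hz
  haveI : IsIso a := by
    apply isIso_of_bijective
    intro X
    constructor
    · intro x y hxy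
      apply hinj X
      rw [← comp_app_apply ha X x, ← comp_app_apply ha X y, hxy]
    · intro y
      obtain ⟨f, hf⟩ := hex X ((kernel.ι ((underline A).map q)).app X y)
        (kernel_ι_app_comp _ X y)
      refine ⟨f, kernel_ι_app_injective _ X ?_⟩
      rw [comp_app_apply ha X f, hf]
  exact ⟨asIso a⟩

end Pointwise

section Theta

variable (A A' : Type u) [CommRing A] [CommRing A'] [Algebra A A']

/-- the base change of an `A`-module to `A'`. -/
noncomputable abbrev bcMod (M : ModuleCat.{u + 1} A) : ModuleCat.{u + 1} A' :=
  ModuleCat.of A' (A' ⊗[A] M)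

noncomputable abbrev bcMap {M N : ModuleCat.{u + 1} A} (φ : M ⟶ N) : bcMod A A' M ⟶ bcMod A A' N :=
  ModuleCat.ofHom (φ.hom.baseChange A')

/-- the comparison equivalence at an `A'`-algebra. -/
noncomputable def thetaEquiv (M : ModuleCat.{u + 1} A) (B' : Alg A') :
    letI : Algebra A B' := ((algebraMap A' B').comp (algebraMap A A')).toAlgebra
    (B' ⊗[A] M) ≃ₗ[B'] B' ⊗[A'] (A' ⊗[A] M) :=
  letI : Algebra A B' := ((algebraMap A' B').comp (algebraMap A A')).toAlgebra
  haveI : IsScalarTower A A' B' := IsScalarTower.of_algebraMap_eq (fun _ => rfl)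
  (AlgebraTensorModule.cancelBaseChange A A' B' B' M).symm

/-- the comparison morphism `restr (underline M) ⟶ underline (A' ⊗ M)`. -/
noncomputable def theta (M : ModuleCat.{u + 1} A) :
    (restr A A').obj ((underline A).obj M) ⟶ (underline A').obj (bcMod A A' M) :=
  PresheafOfModules.homMk
    { app X := AddCommGrpCat.ofHom (thetaEquiv A A' M X.unop.unop).toLinearMap.toAddMonoidHom
      naturality {X Y} f := by
        ext x
        letI : Algebra A X.unop.unop :=
          ((algebraMap A' X.unop.unop).comp (algebraMap A A')).toAlgebra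
        letI : Algebra A Y.unop.unop :=
          ((algebraMap A' Y.unop.unop).comp (algebraMap A A')).toAlgebra
        change thetaEquiv A A' M Y.unop.unop
            ((((Alg.restr A A').map f.unop.unop).hom.toLinearMap.rTensor M) x) =
          (f.unop.unop.hom.toLinearMap.rTensor (A' ⊗[A] M)) (thetaEquiv A A' M X.unop.unop x)
        induction x using TensorProduct.induction_on with
        | zero => simp
        | tmul b m => rfl
        | add x y hx hy => simp only [map_add, hx, hy] }
    (by
      intro X r m
      exact (thetaEquiv A A' M X.unop.unop).map_smul r m)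

theorem theta_app_apply (M : ModuleCat.{u + 1} A) (X : (Alg A')ᵒᵖᵒᵖ)
    (x : ((restr A A').obj ((underline A).obj M)).obj X) :
    ((theta A A' M).app X).hom x = thetaEquiv A A' M X.unop.unop x := rfl

theorem theta_naturality {M N : ModuleCat.{u + 1} A} (φ : M ⟶ N) :
    (restr A A').map ((underline A).map φ) ≫ theta A A' N =
      theta A A' M ≫ (underline A').map (bcMap A A' φ) := by
  ext X x
  letI : Algebra A X.unop.unop :=
    ((algebraMap A' X.unop.unop).comp (algebraMap A A')).toAlgebra
  change thetaEquiv A A' N X.unop.unop ((φ.hom.baseChange X.unop.unop) x) =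
    ((bcMap A A' φ).hom.baseChange X.unop.unop) (thetaEquiv A A' M X.unop.unop x)
  induction x using TensorProduct.induction_on with
  | zero => simp
  | tmul b m => rfl
  | add x y hx hy => simp only [map_add, hx, hy]

theorem restr_map_zero (F G : MVF A) : (restr A A').map (0 : F ⟶ G) = 0 := by
  ext X x
  rfl

/-- Stacks 06V7 (restriction part). -/
theorem adequate_restr (F : MVF A) (hF : adequate A F) :
    adequate A' ((restr A A').obj F) := by
  obtain ⟨M, N, φ, ⟨e⟩⟩ := hF
  let j₀ : F ⟶ (underline A).obj M := e.hom ≫ kernel.ι _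
  have hj₀ : j₀ ≫ (underline A).map φ = 0 := by
    rw [Category.assoc, kernel.condition, comp_zero]
  let j : (restr A A').obj F ⟶ (underline A').obj (bcMod A A' M) :=
    (restr A A').map j₀ ≫ theta A A' M
  have hjapp : ∀ (X : (Alg A')ᵒᵖᵒᵖ) (f : ((restr A A').obj F).obj X),
      (j.app X).hom f = thetaEquiv A A' M X.unop.unop
        ((j₀.app (pt ((Alg.restr A A').obj X.unop.unop))).hom f) := fun X f => rfl
  apply adequate_of_pointwise j (bcMap A A' φ)
  · rw [Category.assoc, ← theta_naturality, ← Category.assoc, ← Functor.map_comp, hj₀,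
      restr_map_zero, zero_comp]
  · intro X x y hxy
    have h1 : (j.app X).hom x = (j.app X).hom y := hxy
    rw [hjapp, hjapp] at h1
    have h2 := (thetaEquiv A A' M X.unop.unop).injective h1
    exact iso_kernel_app_injective _ e _ h2
  · intro X x hx
    let rX : (Alg A)ᵒᵖᵒᵖ := pt ((Alg.restr A A').obj X.unop.unop)
    let y : ((underline A).obj M).obj rX := (thetaEquiv A A' M X.unop.unop).symm x
    have hxy : thetaEquiv A A' M X.unop.unop y = x :=
      (thetaEquiv A A' M X.unop.unop).apply_symm_apply x
    have hy : (((underline A).map φ).app rX).hom y = 0 := by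
      apply (thetaEquiv A A' N X.unop.unop).injective
      have h3 := comp_app_apply₂ (theta_naturality A A' φ) X y
      have h4 : thetaEquiv A A' N X.unop.unop ((((underline A).map φ).app rX).hom y) =
          (((underline A').map (bcMap A A' φ)).app X).hom (thetaEquiv A A' M X.unop.unop y) := h3
      rw [h4, hxy]
      exact Eq.trans hx (LinearEquiv.map_zero _).symm
    obtain ⟨k, hk⟩ := exists_of_app_eq_zero ((underline A).map φ) rX y hy
    refine ⟨(e.inv.app rX).hom k, ?_⟩
    have h5 : (j.app X).hom ((e.inv.app rX).hom k) = thetaEquiv A A' M X.unop.unop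
        ((j₀.app rX).hom ((e.inv.app rX).hom k)) := rfl
    refine h5.trans ?_
    have h6 : (j₀.app rX).hom ((e.inv.app rX).hom k) = y := by
      have h7 : e.inv ≫ j₀ = kernel.ι _ := by
        simp only [j₀, Iso.inv_hom_id_assoc]
      exact (comp_app_apply h7 rX k).trans hk
    rw [h6, hxy]

end Theta

end Groth.Agent.H2.AdeqRestr
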