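import Mathlib
import Groth.Prelude.Def_Adeq
import Groth.Agent.Lib.Helper2.AdeqRestr

/-! # The functor `B ↦ F'(A' ⊗ B)` of an adequate functor is adequate (Stacks 06V7). -/

set_option autoImplicit false
universe u
open CategoryTheory CategoryTheory.Limits TensorProduct Adeq

namespace Groth.Agent.H2.AdeqPushF

open Groth.Agent.H2.AdeqKer Groth.Agent.H2.AdeqCok Groth.Agent.H2.AdeqAb Groth.Agent.H2.AdeqRestr

section Unb

variable (A A' : Type u) [CommRing A] [CommRing A'] [Algebra A A']
  (B : Type u) [CommRing B] [Algebra A B] (C : Type u) [CommRing C] [Algebra A C]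
  (M : Type (u + 1)) [AddCommGroup M] [Module A' M] [Module A M] [IsScalarTower A A' M]
  (N : Type (u + 1)) [AddCommGroup N] [Module A' N] [Module A N] [IsScalarTower A A' N]

/-- `(A' ⊗ B) ⊗[A'] M ≃ B ⊗[A] M`. -/
noncomputable def pushEquiv : (A' ⊗[A] B) ⊗[A'] M ≃+ B ⊗[A] M :=
  ((TensorProduct.comm A' (A' ⊗[A] B) M).toAddEquiv.trans
    (AlgebraTensorModule.cancelBaseChange A A' A' M B).toAddEquiv).trans
      (TensorProduct.comm A M B).toAddEquiv

theorem pushEquiv_tmul (a' : A') (b : B) (m : M) :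
    pushEquiv A A' B M ((a' ⊗ₜ b) ⊗ₜ m) = b ⊗ₜ (a' • m) := rfl

theorem pushEquiv_symm_tmul (b : B) (m : M) :
    (pushEquiv A A' B M).symm (b ⊗ₜ m) = ((1 : A') ⊗ₜ b) ⊗ₜ m := rfl

variable {A A' B C M N}

theorem eq_of_symm {T : Type*} [AddCommGroup T] (f g : (A' ⊗[A] B) ⊗[A'] M →+ T)
    (h : ∀ (b : B) (m : M), f (((1 : A') ⊗ₜ b) ⊗ₜ m) = g (((1 : A') ⊗ₜ b) ⊗ₜ m))
    (x : (A' ⊗[A] B) ⊗[A'] M) : f x = g x := by
  obtain ⟨y, rfl⟩ := (pushEquiv A A' B M).symm.surjective x
  induction y using TensorProduct.induction_on with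
  | zero => rw [map_zero, map_zero, map_zero]
  | tmul b m => exact h b m
  | add y z hy hz => rw [map_add, map_add, map_add, hy, hz]

theorem pushEquiv_smul (r : B) (x : (A' ⊗[A] B) ⊗[A'] M) :
    pushEquiv A A' B M (((1 : A') ⊗ₜ[A] r) • x) = r • pushEquiv A A' B M x := by
  refine eq_of_symm
    ((pushEquiv A A' B M).toAddMonoidHom.comp
      (DistribSMul.toAddMonoidHom ((A' ⊗[A] B) ⊗[A'] M) ((1 : A') ⊗ₜ[A] r)))
    ((DistribSMul.toAddMonoidHom (B ⊗[A] M) r).comp (pushEquiv A A' B M).toAddMonoidHom)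
    (fun b m => ?_) x
  change pushEquiv A A' B M (((1 : A') ⊗ₜ[A] r) • (((1 : A') ⊗ₜ[A] b) ⊗ₜ[A'] m)) =
    r • pushEquiv A A' B M (((1 : A') ⊗ₜ[A] b) ⊗ₜ[A'] m)
  rw [TensorProduct.smul_tmul', smul_eq_mul, Algebra.TensorProduct.tmul_mul_tmul, pushEquiv_tmul,
    pushEquiv_tmul, TensorProduct.smul_tmul', smul_eq_mul, mul_one]

theorem pushEquiv_natB (f : B →ₐ[A] C) (x : (A' ⊗[A] B) ⊗[A'] M) :
    pushEquiv A A' C M
        ((((Algebra.TensorProduct.map (AlgHom.id A' A') f).toLinearMap).rTensor M) x) =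
      (f.toLinearMap.rTensor M) (pushEquiv A A' B M x) := by
  refine eq_of_symm
    ((pushEquiv A A' C M).toAddMonoidHom.comp
      (((Algebra.TensorProduct.map (AlgHom.id A' A') f).toLinearMap).rTensor M).toAddMonoidHom)
    ((f.toLinearMap.rTensor M).toAddMonoidHom.comp (pushEquiv A A' B M).toAddMonoidHom)
    (fun b m => ?_) x
  change pushEquiv A A' C M
      ((((Algebra.TensorProduct.map (AlgHom.id A' A') f).toLinearMap).rTensor M)
        (((1 : A') ⊗ₜ[A] b) ⊗ₜ[A'] m)) =
    (f.toLinearMap.rTensor M) (pushEquiv A A' B M (((1 : A') ⊗ₜ[A] b) ⊗ₜ[A'] m))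
  rw [LinearMap.rTensor_tmul, pushEquiv_tmul, LinearMap.rTensor_tmul]
  rfl

theorem pushEquiv_natM (φ : M →ₗ[A'] N) (φA : M →ₗ[A] N) (hφ : ∀ m, φA m = φ m)
    (x : (A' ⊗[A] B) ⊗[A'] M) :
    pushEquiv A A' B N ((φ.baseChange (A' ⊗[A] B)) x) =
      (φA.baseChange B) (pushEquiv A A' B M x) := by
  refine eq_of_symm
    ((pushEquiv A A' B N).toAddMonoidHom.comp (φ.baseChange (A' ⊗[A] B)).toAddMonoidHom)
    ((φA.baseChange B).toAddMonoidHom.comp (pushEquiv A A' B M).toAddMonoidHom)
    (fun b m => ?_) x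
  change pushEquiv A A' B N ((φ.baseChange (A' ⊗[A] B)) (((1 : A') ⊗ₜ[A] b) ⊗ₜ[A'] m)) =
    (φA.baseChange B) (pushEquiv A A' B M (((1 : A') ⊗ₜ[A] b) ⊗ₜ[A'] m))
  rw [LinearMap.baseChange_tmul, pushEquiv_tmul, pushEquiv_tmul, LinearMap.baseChange_tmul,
    one_smul, one_smul, hφ]

end Unb

section Theta

variable (A A' : Type u) [CommRing A] [CommRing A'] [Algebra A A']

/-- restriction of scalars of an `A'`-module to `A`. -/
noncomputable abbrev rsMod (M' : ModuleCat.{u + 1} A') : ModuleCat.{u + 1} A :=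
  (ModuleCat.restrictScalars (algebraMap A A')).obj M'

noncomputable abbrev rsMap {M' N' : ModuleCat.{u + 1} A'} (φ' : M' ⟶ N') :
    rsMod A A' M' ⟶ rsMod A A' N' :=
  (ModuleCat.restrictScalars (algebraMap A A')).map φ'

instance (M' : ModuleCat.{u + 1} A') : IsScalarTower A A' (rsMod A A' M') :=
  ⟨fun a a' m => by
    change (a • a') • (show M' from m) = algebraMap A A' a • (a' • (show M' from m))
    rw [Algebra.smul_def, mul_smul]⟩

/-- the comparison morphism `push (underline M') ⟶ underline (M'|_A)`. -/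
noncomputable def theta' (M' : ModuleCat.{u + 1} A') :
    (push A A').obj ((underline A').obj M') ⟶ (underline A).obj (rsMod A A' M') :=
  PresheafOfModules.homMk
    { app X := AddCommGrpCat.ofHom
        (pushEquiv A A' X.unop.unop (rsMod A A' M')).toAddMonoidHom
      naturality {X Y} f := by
        ext x
        have h := pushEquiv_natB (A := A) (A' := A') (M := rsMod A A' M') f.unop.unop.hom
          (show (A' ⊗[A] X.unop.unop) ⊗[A'] (rsMod A A' M') from x)
        exact h }
    (by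
      intro X r m
      have h := pushEquiv_smul (A := A) (A' := A') (B := X.unop.unop) (M := rsMod A A' M') r
        (show (A' ⊗[A] X.unop.unop) ⊗[A'] (rsMod A A' M') from m)
      exact h)

theorem theta'_naturality {M' N' : ModuleCat.{u + 1} A'} (φ' : M' ⟶ N') :
    (push A A').map ((underline A').map φ') ≫ theta' A A' N' =
      theta' A A' M' ≫ (underline A).map (rsMap A A' φ') := by
  ext X x
  have h := pushEquiv_natM (A := A) (A' := A') (B := X.unop.unop) (M := rsMod A A' M')
    (N := rsMod A A' N') (show ↑(rsMod A A' M') →ₗ[A'] ↑(rsMod A A' N') from φ'.hom)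
    (rsMap A A' φ').hom (fun m => rfl)
    (show (A' ⊗[A] X.unop.unop) ⊗[A'] (rsMod A A' M') from x)
  exact h

theorem push_map_zero (F G : MVF A') : (push A A').map (0 : F ⟶ G) = 0 := by
  ext X x
  rfl

/-- Stacks 06V7 (second part): `B ↦ F'(A' ⊗ B)` is adequate. -/
theorem adequate_push (F' : MVF A') (hF' : adequate A' F') :
    adequate A ((push A A').obj F') := by
  obtain ⟨M', N', φ', ⟨e⟩⟩ := hF'
  let j₀ : F' ⟶ (underline A').obj M' := e.hom ≫ kernel.ι _
  have hj₀ : j₀ ≫ (underline A').map φ' = 0 := by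
    rw [Category.assoc, kernel.condition, comp_zero]
  let j : (push A A').obj F' ⟶ (underline A).obj (rsMod A A' M') :=
    (push A A').map j₀ ≫ theta' A A' M'
  have hjapp : ∀ (X : (Alg A)ᵒᵖᵒᵖ) (f : ((push A A').obj F').obj X),
      (j.app X).hom f = pushEquiv A A' X.unop.unop (rsMod A A' M')
        ((j₀.app (pt ((Alg.baseChange A A').obj X.unop.unop))).hom f) := fun X f => rfl
  apply adequate_of_pointwise j (rsMap A A' φ')
  · rw [Category.assoc, ← theta'_naturality, ← Category.assoc, ← Functor.map_comp, hj₀,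
      push_map_zero, zero_comp]
  · intro X x y hxy
    have h1 : (j.app X).hom x = (j.app X).hom y := hxy
    rw [hjapp, hjapp] at h1
    have h2 := (pushEquiv A A' X.unop.unop (rsMod A A' M')).injective h1
    exact iso_kernel_app_injective _ e _ h2
  · intro X x hx
    let bX : (Alg A')ᵒᵖᵒᵖ := pt ((Alg.baseChange A A').obj X.unop.unop)
    let y : ((underline A').obj M').obj bX :=
      (pushEquiv A A' X.unop.unop (rsMod A A' M')).symm x
    have hxy : pushEquiv A A' X.unop.unop (rsMod A A' M') y = x :=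
      (pushEquiv A A' X.unop.unop (rsMod A A' M')).apply_symm_apply x
    have hy : (((underline A').map φ').app bX).hom y = 0 := by
      apply (pushEquiv A A' X.unop.unop (rsMod A A' N')).injective
      have h3 := comp_app_apply₂ (theta'_naturality A A' φ') X y
      have h4 : pushEquiv A A' X.unop.unop (rsMod A A' N')
            ((((underline A').map φ').app bX).hom y) =
          (((underline A).map (rsMap A A' φ')).app X).hom
            (pushEquiv A A' X.unop.unop (rsMod A A' M') y) := h3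
      rw [h4, hxy]
      exact Eq.trans hx (AddEquiv.map_zero _).symm
    obtain ⟨k, hk⟩ := exists_of_app_eq_zero ((underline A').map φ') bX y hy
    refine ⟨(e.inv.app bX).hom k, ?_⟩
    have h5 : (j.app X).hom ((e.inv.app bX).hom k) =
        pushEquiv A A' X.unop.unop (rsMod A A' M')
          ((j₀.app bX).hom ((e.inv.app bX).hom k)) := rfl
    refine h5.trans ?_
    have h6 : (j₀.app bX).hom ((e.inv.app bX).hom k) = y := by
      have h7 : e.inv ≫ j₀ = kernel.ι _ := by
        simp only [j₀, Iso.inv_hom_id_assoc]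
      exact (comp_app_apply h7 bX k).trans hk
    rw [h6, hxy]

end Theta

end Groth.Agent.H2.AdeqPushF
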