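import Mathlib
import Groth.Prelude.Def_Adeq
import Groth.Agent.Lib.Helper2.AdeqAb

/-! # Flat base change for adequate functors (Stacks 06V0 / 06UZ). -/

set_option autoImplicit false
universe u
open CategoryTheory CategoryTheory.Limits TensorProduct Adeq

namespace Groth.Agent.H2.AdeqFlat

open Groth.Agent.H2.AdeqKer Groth.Agent.H2.AdeqAb

section AL

variable {R S : Type*} [CommRing R] [CommRing S] [Algebra R S] [Module.Flat R S]
  {P T T' : Type*} [AddCommGroup P] [Module R P] [AddCommGroup T] [Module R T]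
  [AddCommGroup T'] [Module R T']
  (ι : P →ₗ[R] T) (ψ : T →ₗ[R] T') (hι : Function.Injective ι) (hex : Function.Exact ι ψ)
  {Q U U' : Type*} [AddCommGroup Q] [Module S Q] [AddCommGroup U] [Module S U]
  [AddCommGroup U'] [Module S U']
  (ι' : Q →ₗ[S] U) (ψ' : U →ₗ[S] U') (hι' : Function.Injective ι') (hex' : Function.Exact ι' ψ')
  (g : P → Q) (t : T → U) (t' : T' → U') (h1 : ∀ p, ι' (g p) = t (ι p))
  (h2 : ∀ x, ψ' (t x) = t' (ψ x))
  (G : S ⊗[R] P →+ Q) (hG : ∀ s p, G (s ⊗ₜ p) = s • g p)
  (Tt : S ⊗[R] T →+ U) (hTt : ∀ s x, Tt (s ⊗ₜ x) = s • t x) (hTb : Function.Bijective Tt)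
  (Tt' : S ⊗[R] T' →+ U') (hTt' : ∀ s x, Tt' (s ⊗ₜ x) = s • t' x) (hTi : Function.Injective Tt')

include h1 hG hTt in
theorem key1 (z : S ⊗[R] P) : ι' (G z) = Tt (ι.lTensor S z) := by
  induction z using TensorProduct.induction_on with
  | zero => simp
  | tmul s p => rw [hG, map_smul, h1, LinearMap.lTensor_tmul, hTt]
  | add x y hx hy => rw [map_add, map_add, map_add, map_add, hx, hy]

include h2 hTt hTt' in
theorem key2 (w : S ⊗[R] T) : ψ' (Tt w) = Tt' (ψ.lTensor S w) := by
  induction w using TensorProduct.induction_on with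
  | zero => simp
  | tmul s p => rw [hTt, map_smul, h2, LinearMap.lTensor_tmul, hTt']
  | add x y hx hy => rw [map_add, map_add, map_add, map_add, hx, hy]

include hι hex hι' hex' h1 h2 hG hTt hTb hTt' hTi in
theorem bijective_of_flat : Function.Bijective G := by
  have k1 := key1 ι ι' g t h1 G hG Tt hTt
  have k2 := key2 ψ ψ' t t' h2 Tt hTt Tt' hTt'
  constructor
  · rw [injective_iff_map_eq_zero]
    intro z hz
    have h3 : Tt (ι.lTensor S z) = 0 := by rw [← k1, hz, map_zero]
    have h4 : ι.lTensor S z = 0 := hTb.1 (by rw [h3, map_zero])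
    exact (Module.Flat.lTensor_preserves_injective_linearMap ι hι) (by rw [h4, map_zero])
  · intro q
    obtain ⟨w, hw⟩ := hTb.2 (ι' q)
    have h5 : Tt' (ψ.lTensor S w) = 0 := by
      rw [← k2, hw]
      exact (hex' _).mpr ⟨q, rfl⟩
    have h6 : ψ.lTensor S w = 0 := hTi (by rw [h5, map_zero])
    obtain ⟨z, hz⟩ := (Module.Flat.lTensor_exact S hex w).mp h6
    refine ⟨z, hι' ?_⟩
    rw [k1, hz, hw]

end AL

section Cancel

variable {A R S : Type*} [CommRing A] [CommRing R] [CommRing S] [Algebra A R] [Algebra A S]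
  [Algebra R S] [IsScalarTower A R S] (M : Type*) [AddCommGroup M] [Module A M]

/-- the canonical isomorphism `S ⊗_R (R ⊗_A M) ≅ S ⊗_A M` as an additive map. -/
noncomputable def cancelAdd : S ⊗[R] (R ⊗[A] M) →+ S ⊗[A] M :=
  (TensorProduct.AlgebraTensorModule.cancelBaseChange A R S S M).toLinearMap.toAddMonoidHom

theorem cancelAdd_tmul (φ : R →ₐ[A] S) (hφ : ∀ r, φ r = algebraMap R S r) (s : S)
    (x : R ⊗[A] M) :
    cancelAdd M (s ⊗ₜ x) = s • (φ.toLinearMap.rTensor M x) := by
  induction x using TensorProduct.induction_on with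
  | zero => simp
  | tmul r m =>
    change (r • s) ⊗ₜ[A] m = s • ((φ r) ⊗ₜ[A] m)
    rw [TensorProduct.smul_tmul', Algebra.smul_def, smul_eq_mul, mul_comm, hφ]
  | add x y hx hy => rw [TensorProduct.tmul_add, map_add, map_add, smul_add, hx, hy]

theorem cancelAdd_bijective : Function.Bijective (cancelAdd (A := A) (R := R) (S := S) M) :=
  (TensorProduct.AlgebraTensorModule.cancelBaseChange A R S S M).bijective

end Cancel

section App

variable {A : Type u} [CommRing A]

open ChangeOfRings in
theorem bc_tmul (F : MVF A) {B B' : Alg A} (f : B ⟶ B') (s : B') (x : F.obj (pt B)) :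
    (F.bc f).hom (s ⊗ₜ[B, f.hom.toRingHom] x) = s • (F.map (ptHom f)).hom x := rfl

/-- Stacks 06V0: flat base change for adequate functors. -/
theorem isIso_bc_of_flat (F : MVF A) (hF : adequate A F) {B B' : Alg A} (f : B ⟶ B')
    (hf : f.hom.toRingHom.Flat) : IsIso (F.bc f) := by
  obtain ⟨M, N, ψ₀, ⟨e⟩⟩ := hF
  letI : Algebra B B' := f.hom.toRingHom.toAlgebra
  haveI : IsScalarTower A B B' :=
    IsScalarTower.of_algebraMap_eq (fun a => (f.hom.commutes a).symm)
  haveI : Module.Flat B B' := hf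
  let j : F ⟶ (underline A).obj M := e.hom ≫ kernel.ι ((underline A).map ψ₀)
  have hj : j ≫ (underline A).map ψ₀ = 0 := by
    rw [Category.assoc, kernel.condition, comp_zero]
  have hjinj := iso_kernel_app_injective ((underline A).map ψ₀) e
  have hex : ∀ X : (Alg A)ᵒᵖᵒᵖ,
      Function.Exact (j.app X).hom (((underline A).map ψ₀).app X).hom := by
    intro X x
    constructor
    · intro hx
      obtain ⟨k, hk⟩ := exists_of_app_eq_zero ((underline A).map ψ₀) X x hx
      refine ⟨(e.inv.app X) k, ?_⟩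
      have h0 : e.inv ≫ j = kernel.ι ((underline A).map ψ₀) := by
        rw [← Category.assoc, Iso.inv_hom_id, Category.id_comp]
      exact (comp_app_apply h0 X k).trans hk
    · rintro ⟨p, rfl⟩
      exact comp_app_apply hj X p
  have key := bijective_of_flat (R := B) (S := B')
    (P := F.obj (pt B)) (T := B ⊗[A] M) (T' := B ⊗[A] N)
    (Q := F.obj (pt B')) (U := B' ⊗[A] M) (U' := B' ⊗[A] N)
    (ι := (j.app (pt B)).hom) (ψ := (((underline A).map ψ₀).app (pt B)).hom)
    (hjinj (pt B)) (hex (pt B))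
    (ι' := (j.app (pt B')).hom) (ψ' := (((underline A).map ψ₀).app (pt B')).hom)
    (hjinj (pt B')) (hex (pt B'))
    (g := fun p => (F.map (ptHom f)).hom p) (t := fun x => f.hom.toLinearMap.rTensor M x)
    (t' := fun x => f.hom.toLinearMap.rTensor N x)
    (fun p => PresheafOfModules.naturality_apply j (ptHom f) p)
    (fun x => PresheafOfModules.naturality_apply ((underline A).map ψ₀) (ptHom f) x)
    (G := { toFun := fun z => (F.bc f).hom z, map_zero' := map_zero _, map_add' := map_add _ })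
    (fun s p => rfl)
    (Tt := cancelAdd M) (cancelAdd_tmul M f.hom (fun r => rfl)) (cancelAdd_bijective M)
    (Tt' := cancelAdd N) (cancelAdd_tmul N f.hom (fun r => rfl)) (cancelAdd_bijective N).1
  exact (ConcreteCategory.isIso_iff_bijective (F.bc f)).mpr key

end App

end Groth.Agent.H2.AdeqFlat
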