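import Mathlib
import Groth.Prelude.Def_Adeq
import Groth.Agent.Lib.Helper2.AdeqFlat

/-! # Square-zero extensions as test algebras; decomposition of `H(B[ε])`. -/

set_option autoImplicit false
universe u
open CategoryTheory CategoryTheory.Limits TensorProduct Adeq

namespace Groth.Agent.H2.AdeqTsze

open Groth.Agent.H2.AdeqFlat

section Alg

variable {A : Type u} [CommRing A]
  {B : Type u} [CommRing B] [Algebra A B]
  {N : Type u} [AddCommGroup N] [Module B N] [Module Bᵐᵒᵖ N] [IsCentralScalar B N]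
  [Module A N] [IsScalarTower A B N] [IsScalarTower A Bᵐᵒᵖ N]
  {B' : Type u} [CommRing B'] [Algebra A B']
  {N' : Type u} [AddCommGroup N'] [Module B' N'] [Module B'ᵐᵒᵖ N'] [IsCentralScalar B' N']
  [Module A N'] [IsScalarTower A B' N'] [IsScalarTower A B'ᵐᵒᵖ N']

/-- the algebra map `B ⊕ N → B' ⊕ N'` induced by a semilinear pair. -/
noncomputable def tszeMap (h : B →ₐ[A] B') (ℓ : N →ₗ[A] N')
    (hℓ : ∀ (b : B) (x : N), ℓ (b • x) = h b • ℓ x) :
    TrivSqZeroExt B N →ₐ[A] TrivSqZeroExt B' N' :=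
  TrivSqZeroExt.lift ((TrivSqZeroExt.inlAlgHom A B' N').comp h)
    (((TrivSqZeroExt.inrHom B' N').restrictScalars A).comp ℓ)
    (fun x y => by
      change (TrivSqZeroExt.inr (ℓ x) : TrivSqZeroExt B' N') * TrivSqZeroExt.inr (ℓ y) = 0
      exact TrivSqZeroExt.inr_mul_inr _ _ _)
    (fun r x => by
      change (TrivSqZeroExt.inr (ℓ (r • x)) : TrivSqZeroExt B' N') =
        TrivSqZeroExt.inl (h r) * TrivSqZeroExt.inr (ℓ x)
      rw [hℓ, TrivSqZeroExt.inl_mul_inr])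
    (fun r x => by
      change (TrivSqZeroExt.inr (ℓ (MulOpposite.op r • x)) : TrivSqZeroExt B' N') =
        TrivSqZeroExt.inr (ℓ x) * TrivSqZeroExt.inl (h r)
      rw [TrivSqZeroExt.inr_mul_inl, op_smul_eq_smul, op_smul_eq_smul, hℓ])

theorem tszeMap_apply (h : B →ₐ[A] B') (ℓ : N →ₗ[A] N')
    (hℓ : ∀ (b : B) (x : N), ℓ (b • x) = h b • ℓ x) (x : TrivSqZeroExt B N) :
    tszeMap h ℓ hℓ x = TrivSqZeroExt.inl (h x.fst) + TrivSqZeroExt.inr (ℓ x.snd) := rfl

theorem tszeMap_inl (h : B →ₐ[A] B') (ℓ : N →ₗ[A] N')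
    (hℓ : ∀ (b : B) (x : N), ℓ (b • x) = h b • ℓ x) (b : B) :
    tszeMap h ℓ hℓ (TrivSqZeroExt.inl b) = TrivSqZeroExt.inl (h b) := by
  rw [tszeMap_apply, TrivSqZeroExt.fst_inl, TrivSqZeroExt.snd_inl, map_zero,
    TrivSqZeroExt.inr_zero, add_zero]

theorem tszeMap_inr (h : B →ₐ[A] B') (ℓ : N →ₗ[A] N')
    (hℓ : ∀ (b : B) (x : N), ℓ (b • x) = h b • ℓ x) (x : N) :
    tszeMap h ℓ hℓ (TrivSqZeroExt.inr x) = TrivSqZeroExt.inr (ℓ x) := by
  rw [tszeMap_apply, TrivSqZeroExt.fst_inr, TrivSqZeroExt.snd_inr, map_zero,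
    TrivSqZeroExt.inl_zero, zero_add]

variable (A B N) in
/-- the test algebra `B ⊕ N`. -/
abbrev Rt : Alg A := algOf A (TrivSqZeroExt B N)

variable (A B N) in
/-- the inclusion `B → B ⊕ N`. -/
noncomputable abbrev iN : algOf A B ⟶ Rt A B N :=
  CommAlgCat.ofHom (TrivSqZeroExt.inlAlgHom A B N)

/-- `tszeMap` as a morphism of `Alg A`. -/
noncomputable abbrev tM (h : B →ₐ[A] B') (ℓ : N →ₗ[A] N')
    (hℓ : ∀ (b : B) (x : N), ℓ (b • x) = h b • ℓ x) : Rt A B N ⟶ Rt A B' N' :=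
  CommAlgCat.ofHom (tszeMap h ℓ hℓ)

theorem iN_tM (h : B →ₐ[A] B') (ℓ : N →ₗ[A] N')
    (hℓ : ∀ (b : B) (x : N), ℓ (b • x) = h b • ℓ x) :
    iN A B N ≫ tM h ℓ hℓ = CommAlgCat.ofHom h ≫ iN A B' N' := by
  apply CommAlgCat.hom_ext
  apply AlgHom.ext
  intro x
  exact tszeMap_inl h ℓ hℓ x

end Alg

section MapFn

variable {A : Type u} [CommRing A] (H : MVF A)

/-- the transition map of a module-valued functor as a plain function. -/
noncomputable def mapFn {C C' : Alg A} (f : C ⟶ C') (y : H.obj (pt C)) : H.obj (pt C') :=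
  (H.map (ptHom f)).hom y

variable {C C' C'' : Alg A} (f : C ⟶ C')

theorem mapFn_add (y y' : H.obj (pt C)) : mapFn H f (y + y') = mapFn H f y + mapFn H f y' :=
  map_add (H.map (ptHom f)).hom y y'

theorem mapFn_zero : mapFn H f 0 = 0 := map_zero (H.map (ptHom f)).hom

theorem mapFn_sub (y y' : H.obj (pt C)) : mapFn H f (y - y') = mapFn H f y - mapFn H f y' :=
  map_sub (H.map (ptHom f)).hom y y'

theorem mapFn_smul (c : C) (y : H.obj (pt C)) : mapFn H f (c • y) = f.hom c • mapFn H f y :=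
  H.map_smul (ptHom f) c y

theorem mapFn_comp (g : C' ⟶ C'') (y : H.obj (pt C)) :
    mapFn H (f ≫ g) y = mapFn H g (mapFn H f y) :=
  H.map_comp_apply (ptHom f) (ptHom g) y

theorem mapFn_nat {H H' : MVF A} (φ : H ⟶ H') (y : H.obj (pt C)) :
    (φ.app (pt C')).hom (mapFn H f y) = mapFn H' f ((φ.app (pt C)).hom y) :=
  PresheafOfModules.naturality_apply φ (ptHom f) y

theorem exists_list_of_surjective (hs : Function.Surjective (H.bc f).hom) (w : H.obj (pt C')) :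
    ∃ l : List (C' × H.obj (pt C)), w = (l.map fun p => p.1 • mapFn H f p.2).sum := by
  letI : Algebra C C' := f.hom.toRingHom.toAlgebra
  have key : ∀ z : C' ⊗[C] H.obj (pt C), ∃ l : List (C' × H.obj (pt C)),
      (H.bc f).hom z = (l.map fun p => p.1 • mapFn H f p.2).sum := by
    intro z
    induction z using TensorProduct.induction_on with
    | zero => exact ⟨[], map_zero (H.bc f).hom⟩
    | tmul s g =>
      refine ⟨[(s, g)], ?_⟩
      simp only [List.map_cons, List.map_nil, List.sum_cons, List.sum_nil, add_zero]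
      rfl
    | add x y hx hy =>
      obtain ⟨lx, hlx⟩ := hx
      obtain ⟨ly, hly⟩ := hy
      refine ⟨lx ++ ly, ?_⟩
      rw [List.map_append, List.sum_append, ← hlx, ← hly]
      exact map_add (H.bc f).hom x y
  obtain ⟨z, rfl⟩ := hs w
  exact key z

open ChangeOfRings in
theorem exists_theta {R S : Type u} [CommRing R] [CommRing S] (f : R →+* S) (ρ : S →+ R)
    (hρ : ∀ r s, ρ (f r * s) = r * ρ s) (Y : ModuleCat.{u + 1} R) :
    ∃ θ : ((ModuleCat.extendScalars.{u, u, u + 1} f).obj Y) →+ Y,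
      ∀ (s : S) (y : Y), θ (s ⊗ₜ[R, f] y) = ρ s • y := by
  let F0 : S →+ Y →+ Y :=
    { toFun := fun s =>
        { toFun := fun y => ρ s • y, map_zero' := smul_zero _, map_add' := smul_add _ }
      map_zero' := by ext y; simp
      map_add' := fun s s' => by ext y; simp [add_smul] }
  refine ⟨TensorProduct.liftAddHom F0 (by
    intro r (s : S) y
    change ρ (f r * s) • y = ρ s • (r • y)
    rw [hρ, mul_comm, mul_smul]), fun s y => rfl⟩

open ChangeOfRings in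
theorem smul_add_smul_eq_zero (hi : Function.Injective (H.bc f).hom)
    (ρ : C' →+ C) (hρ : ∀ (r : C) (s : C'), ρ (f.hom r * s) = r * ρ s)
    (s₁ s₂ : C') (y₁ y₂ : H.obj (pt C))
    (h : s₁ • mapFn H f y₁ + s₂ • mapFn H f y₂ = 0) : ρ s₁ • y₁ + ρ s₂ • y₂ = 0 := by
  obtain ⟨θ, hθ⟩ := exists_theta f.hom.toRingHom ρ hρ (H.obj (pt C))
  have hz : (s₁ ⊗ₜ[C, f.hom.toRingHom] y₁ + s₂ ⊗ₜ[C, f.hom.toRingHom] y₂ :
      (ModuleCat.extendScalars.{u, u, u + 1} f.hom.toRingHom).obj (H.obj (pt C))) = 0 :=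
    hi ((map_add (H.bc f).hom _ _).trans (h.trans (map_zero (H.bc f).hom).symm))
  have h1 := (map_add θ _ _).symm.trans ((congrArg θ hz).trans (map_zero θ))
  exact (congrArg₂ (· + ·) (hθ s₁ y₁) (hθ s₂ y₂)).symm.trans h1

end MapFn

section TszeDecomp

variable {A : Type u} [CommRing A] (H : MVF A) (B : Type u) [CommRing B] [Algebra A B]

/-- `ε`. -/
abbrev eps : TrivSqZeroExt B B := TrivSqZeroExt.inr 1

def fstAdd : TrivSqZeroExt B B →+ B :=
  { toFun := TrivSqZeroExt.fst, map_zero' := TrivSqZeroExt.fst_zero,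
    map_add' := TrivSqZeroExt.fst_add }

def sndAdd : TrivSqZeroExt B B →+ B :=
  { toFun := TrivSqZeroExt.snd, map_zero' := TrivSqZeroExt.snd_zero,
    map_add' := TrivSqZeroExt.snd_add }

theorem fstAdd_mul (r : B) (s : TrivSqZeroExt B B) :
    fstAdd B (TrivSqZeroExt.inl r * s) = r * fstAdd B s := by
  change (TrivSqZeroExt.inl r * s).fst = r * s.fst
  rw [TrivSqZeroExt.fst_mul, TrivSqZeroExt.fst_inl]

theorem sndAdd_mul (r : B) (s : TrivSqZeroExt B B) :
    sndAdd B (TrivSqZeroExt.inl r * s) = r * sndAdd B s := by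
  change (TrivSqZeroExt.inl r * s).snd = r * s.snd
  rw [TrivSqZeroExt.snd_mul, TrivSqZeroExt.fst_inl, TrivSqZeroExt.snd_inl, smul_zero, add_zero,
    smul_eq_mul]

theorem eps_mul_inl (c : B) : eps B * TrivSqZeroExt.inl c = TrivSqZeroExt.inr c := by
  rw [eps, TrivSqZeroExt.inr_mul_inl, op_smul_eq_smul, smul_eq_mul, mul_one]

theorem mapFn_iN_smul {N : Type u} [AddCommGroup N] [Module B N] [Module Bᵐᵒᵖ N]
    [IsCentralScalar B N] [Module A N] [IsScalarTower A B N] [IsScalarTower A Bᵐᵒᵖ N]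
    (c : B) (y : H.obj (pt (algOf A B))) :
    mapFn H (iN A B N) (c • y) =
      (TrivSqZeroExt.inl c : TrivSqZeroExt B N) • mapFn H (iN A B N) y :=
  mapFn_smul H (iN A B N) c y

theorem decomp_unique (hi : Function.Injective (H.bc (iN A B B)).hom)
    (g₀ g₁ g₀' g₁' : H.obj (pt (algOf A B)))
    (h : mapFn H (iN A B B) g₀ + eps B • mapFn H (iN A B B) g₁ =
      mapFn H (iN A B B) g₀' + eps B • mapFn H (iN A B B) g₁') : g₀ = g₀' ∧ g₁ = g₁' := by
  have h' : (1 : TrivSqZeroExt B B) • mapFn H (iN A B B) (g₀ - g₀') +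
      eps B • mapFn H (iN A B B) (g₁ - g₁') = 0 := by
    simp only [mapFn_sub, smul_sub, one_smul]
    rw [← sub_eq_zero] at h
    rw [← h]
    abel
  have e1 := smul_add_smul_eq_zero H (iN A B B) hi (fstAdd B) (fun r s => fstAdd_mul B r s)
    1 (eps B) _ _ h'
  have e2 := smul_add_smul_eq_zero H (iN A B B) hi (sndAdd B) (fun r s => sndAdd_mul B r s)
    1 (eps B) _ _ h'
  have e1' : (1 : B) • (g₀ - g₀') + (0 : B) • (g₁ - g₁') = 0 := e1
  have e2' : (0 : B) • (g₀ - g₀') + (1 : B) • (g₁ - g₁') = 0 := e2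
  rw [one_smul, zero_smul, add_zero] at e1'
  rw [one_smul, zero_smul, zero_add] at e2'
  exact ⟨sub_eq_zero.mp e1', sub_eq_zero.mp e2'⟩

theorem decomp_exists (hs : Function.Surjective (H.bc (iN A B B)).hom)
    (w : H.obj (pt (Rt A B B))) :
    ∃ g₁ g₀ : H.obj (pt (algOf A B)),
      w = mapFn H (iN A B B) g₀ + eps B • mapFn H (iN A B B) g₁ := by
  obtain ⟨l, rfl⟩ := exists_list_of_surjective H (iN A B B) hs w
  induction l with
  | nil =>
    refine ⟨0, 0, ?_⟩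
    rw [mapFn_zero, smul_zero, add_zero]
    rfl
  | cons p l ih =>
    obtain ⟨g₁, g₀, hl⟩ := ih
    refine ⟨p.1.snd • p.2 + g₁, p.1.fst • p.2 + g₀, ?_⟩
    rw [List.map_cons, List.sum_cons, hl, mapFn_add, mapFn_add, mapFn_iN_smul, mapFn_iN_smul,
      smul_add, smul_smul, eps_mul_inl]
    have hp : p.1 = TrivSqZeroExt.inl p.1.fst + TrivSqZeroExt.inr p.1.snd :=
      (TrivSqZeroExt.inl_fst_add_inr_snd_eq p.1).symm
    conv_lhs => rw [hp]
    rw [add_smul]
    abel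

/-- the `ε`-coefficient. -/
noncomputable def dOp (hs : Function.Surjective (H.bc (iN A B B)).hom)
    (w : H.obj (pt (Rt A B B))) : H.obj (pt (algOf A B)) :=
  Classical.choose (decomp_exists H B hs w)

theorem dOp_spec (hs : Function.Surjective (H.bc (iN A B B)).hom) (w : H.obj (pt (Rt A B B))) :
    ∃ g₀, w = mapFn H (iN A B B) g₀ + eps B • mapFn H (iN A B B) (dOp H B hs w) :=
  Classical.choose_spec (decomp_exists H B hs w)

theorem dOp_eq (hb : Function.Bijective (H.bc (iN A B B)).hom) (w : H.obj (pt (Rt A B B)))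
    (g₀ g₁ : H.obj (pt (algOf A B)))
    (h : w = mapFn H (iN A B B) g₀ + eps B • mapFn H (iN A B B) g₁) :
    dOp H B hb.2 w = g₁ := by
  obtain ⟨g₀', h'⟩ := dOp_spec H B hb.2 w
  exact (decomp_unique H B hb.1 _ _ _ _ (h'.symm.trans h)).2

/-- `ε₁`. -/
abbrev eps₁ : TrivSqZeroExt B (B × B) := TrivSqZeroExt.inr (1, 0)

/-- `ε₂`. -/
abbrev eps₂ : TrivSqZeroExt B (B × B) := TrivSqZeroExt.inr (0, 1)

theorem eps₁_mul_inl (c : B) : eps₁ B * TrivSqZeroExt.inl c = TrivSqZeroExt.inr (c, 0) := by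
  rw [eps₁, TrivSqZeroExt.inr_mul_inl, op_smul_eq_smul, Prod.smul_mk, smul_eq_mul, mul_one,
    smul_zero]

theorem eps₂_mul_inl (c : B) : eps₂ B * TrivSqZeroExt.inl c = TrivSqZeroExt.inr (0, c) := by
  rw [eps₂, TrivSqZeroExt.inr_mul_inl, op_smul_eq_smul, Prod.smul_mk, smul_zero, smul_eq_mul,
    mul_one]

theorem decomp_exists₂ (hs : Function.Surjective (H.bc (iN A B (B × B))).hom)
    (w : H.obj (pt (Rt A B (B × B)))) :
    ∃ g₀ g₁ g₂ : H.obj (pt (algOf A B)),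
      w = mapFn H (iN A B (B × B)) g₀ + eps₁ B • mapFn H (iN A B (B × B)) g₁ +
        eps₂ B • mapFn H (iN A B (B × B)) g₂ := by
  obtain ⟨l, rfl⟩ := exists_list_of_surjective H (iN A B (B × B)) hs w
  induction l with
  | nil =>
    refine ⟨0, 0, 0, ?_⟩
    rw [mapFn_zero, smul_zero, smul_zero, add_zero, add_zero]
    rfl
  | cons p l ih =>
    obtain ⟨g₀, g₁, g₂, hl⟩ := ih
    refine ⟨p.1.fst • p.2 + g₀, p.1.snd.1 • p.2 + g₁, p.1.snd.2 • p.2 + g₂, ?_⟩
    rw [List.map_cons, List.sum_cons, hl, mapFn_add, mapFn_add, mapFn_add, mapFn_iN_smul,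
      mapFn_iN_smul, mapFn_iN_smul, smul_add, smul_add, smul_smul, smul_smul, eps₁_mul_inl,
      eps₂_mul_inl]
    have hp : p.1 = TrivSqZeroExt.inl p.1.fst + TrivSqZeroExt.inr (p.1.snd.1, 0) +
        TrivSqZeroExt.inr (0, p.1.snd.2) := by
      rw [add_assoc, ← TrivSqZeroExt.inr_add, Prod.mk_add_mk, add_zero, zero_add]
      exact (TrivSqZeroExt.inl_fst_add_inr_snd_eq p.1).symm
    conv_lhs => rw [hp]
    rw [add_smul, add_smul]
    abel

end TszeDecomp

section Push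

variable {A : Type u} [CommRing A] (H : MVF A)
  {B : Type u} [CommRing B] [Algebra A B]
  {N : Type u} [AddCommGroup N] [Module B N] [Module Bᵐᵒᵖ N] [IsCentralScalar B N]
  [Module A N] [IsScalarTower A B N] [IsScalarTower A Bᵐᵒᵖ N]
  {B' : Type u} [CommRing B'] [Algebra A B']
  {N' : Type u} [AddCommGroup N'] [Module B' N'] [Module B'ᵐᵒᵖ N'] [IsCentralScalar B' N']
  [Module A N'] [IsScalarTower A B' N'] [IsScalarTower A B'ᵐᵒᵖ N']

theorem mapFn_tM_smul (h : B →ₐ[A] B') (ℓ : N →ₗ[A] N')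
    (hℓ : ∀ (b : B) (x : N), ℓ (b • x) = h b • ℓ x) (x : TrivSqZeroExt B N)
    (y : H.obj (pt (algOf A B))) :
    mapFn H (tM h ℓ hℓ) (x • mapFn H (iN A B N) y) =
      (tszeMap h ℓ hℓ x) • mapFn H (iN A B' N') (mapFn H (CommAlgCat.ofHom h) y) := by
  rw [mapFn_smul, ← mapFn_comp H (iN A B N) (tM h ℓ hℓ), iN_tM, mapFn_comp]
  rfl

theorem mapFn_tM_iN (h : B →ₐ[A] B') (ℓ : N →ₗ[A] N')
    (hℓ : ∀ (b : B) (x : N), ℓ (b • x) = h b • ℓ x) (y : H.obj (pt (algOf A B))) :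
    mapFn H (tM h ℓ hℓ) (mapFn H (iN A B N) y) =
      mapFn H (iN A B' N') (mapFn H (CommAlgCat.ofHom h) y) := by
  rw [← mapFn_comp H (iN A B N) (tM h ℓ hℓ), iN_tM, mapFn_comp]

end Push

end Groth.Agent.H2.AdeqTsze
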