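import Mathlib
import Groth.Prelude.Def_Adeq
import Groth.Agent.Lib.Helper2.AdeqPushF
import Groth.Agent.Lib.Helper2.AdeqTsze

/-! # Descent of adequacy along a ring map (Stacks 06VF-type lemma). -/

set_option autoImplicit false
universe u
open CategoryTheory CategoryTheory.Limits TensorProduct Adeq

namespace Groth.Agent.H2.AdeqDesc

open Groth.Agent.H2.AdeqKer Groth.Agent.H2.AdeqCok Groth.Agent.H2.AdeqAb Groth.Agent.H2.AdeqRestr
  Groth.Agent.H2.AdeqPushF Groth.Agent.H2.AdeqTsze

variable (A A' : Type u) [CommRing A] [CommRing A'] [Algebra A A']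

/-- `F ↦ (B ↦ F(A' ⊗ B))` as an endofunctor. -/
noncomputable abbrev T : MVF A ⥤ MVF A := restr A A' ⋙ push A A'

/-- the endofunctor of algebras `B ↦ A' ⊗ B` (viewed as an `A`-algebra). -/
noncomputable abbrev TA : Alg A ⥤ Alg A := Alg.baseChange A A' ⋙ Alg.restr A A'

theorem unit_naturality {B C : Alg A} (f : B ⟶ C) :
    f ≫ Alg.unit A A' C = Alg.unit A A' B ≫ (TA A A').map f := by
  apply CommAlgCat.hom_ext
  refine DFunLike.ext _ _ fun x => ?_
  change (1 : A') ⊗ₜ[A] (f.hom x) =
    Algebra.TensorProduct.map (AlgHom.id A' A') f.hom ((1 : A') ⊗ₜ[A] x)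
  rw [Algebra.TensorProduct.map_tmul]
  rfl

/-- the unit `F ⟶ T F`. -/
noncomputable def eta (F : MVF A) : F ⟶ (T A A').obj F :=
  PresheafOfModules.homMk
    { app X := F.presheaf.map (ptHom (Alg.unit A A' X.unop.unop))
      naturality {X Y} f := by
        have h := unit_naturality A A' f.unop.unop
        have h' : f ≫ ptHom (Alg.unit A A' Y.unop.unop) =
            ptHom (Alg.unit A A' X.unop.unop) ≫ ptHom ((TA A A').map f.unop.unop) :=
          congrArg ptHom h
        change F.presheaf.map f ≫ F.presheaf.map (ptHom (Alg.unit A A' Y.unop.unop)) =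
          F.presheaf.map (ptHom (Alg.unit A A' X.unop.unop)) ≫
            F.presheaf.map (ptHom ((TA A A').map f.unop.unop))
        rw [← F.presheaf.map_comp, h', F.presheaf.map_comp] }
    (by
      intro X r m
      exact F.map_smul (ptHom (Alg.unit A A' X.unop.unop)) r m)

theorem eta_app_apply (F : MVF A) (B : Alg A) (y : F.obj (pt B)) :
    ((eta A A' F).app (pt B)).hom y = mapFn F (Alg.unit A A' B) y := rfl

theorem T_map_app_apply {F G : MVF A} (φ : F ⟶ G) (B : Alg A)
    (y : F.obj (pt ((TA A A').obj B))) :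
    (((T A A').map φ).app (pt B)).hom y = (φ.app (pt ((TA A A').obj B))).hom y := rfl

theorem T_obj_map_apply (F : MVF A) {B C : Alg A} (f : B ⟶ C)
    (y : F.obj (pt ((TA A A').obj B))) :
    mapFn ((T A A').obj F) f y = mapFn F ((TA A A').map f) y := rfl

/-- descent of adequacy. -/
theorem adequate_of_descent (F : MVF A) (h₁ : adequate A' ((restr A A').obj F))
    (hinj : ∀ B : Alg A, Function.Injective (mapFn F (Alg.unit A A' B)))
    (hex : ∀ (B : Alg A) (y : F.obj (pt ((TA A A').obj B))),
      mapFn F (Alg.unit A A' ((TA A A').obj B)) y =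
        mapFn F ((TA A A').map (Alg.unit A A' B)) y →
      ∃ x : F.obj (pt B), mapFn F (Alg.unit A A' B) x = y) :
    adequate A F := by
  have hT : adequate A ((T A A').obj F) := adequate_push A A' _ h₁
  have hTT : adequate A ((T A A').obj ((T A A').obj F)) :=
    adequate_push A A' _ (adequate_restr A A' _ hT)
  let d : (T A A').obj F ⟶ (T A A').obj ((T A A').obj F) :=
    eta A A' ((T A A').obj F) - (T A A').map (eta A A' F)
  have hK : adequate A (kernel d) := adequate_kernel d hT hTT
  have hd : ∀ (B : Alg A) (y : F.obj (pt ((TA A A').obj B))),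
      (d.app (pt B)).hom y =
        (mapFn F ((TA A A').map (Alg.unit A A' B)) y :
          F.obj (pt ((TA A A').obj ((TA A A').obj B)))) -
        (mapFn F (Alg.unit A A' ((TA A A').obj B)) y :
          F.obj (pt ((TA A A').obj ((TA A A').obj B)))) := fun B y => rfl
  have hz : eta A A' F ≫ d = 0 := by
    ext X x
    change (d.app (pt X.unop.unop)).hom (mapFn F (Alg.unit A A' X.unop.unop) x) = 0
    rw [hd, ← mapFn_comp, ← mapFn_comp, ← unit_naturality, sub_self]
    rfl
  let a : F ⟶ kernel d := kernel.lift d (eta A A' F) hz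
  have ha : a ≫ kernel.ι d = eta A A' F := kernel.lift_ι _ _ hz
  have : IsIso a := by
    apply isIso_of_bijective
    intro X
    constructor
    · intro x y hxy
      apply hinj X.unop.unop
      have h1 := comp_app_apply ha X x
      have h2 := comp_app_apply ha X y
      rw [hxy] at h1
      exact (h1.symm.trans h2 : ((eta A A' F).app X).hom x = ((eta A A' F).app X).hom y)
    · intro k
      have hk : (d.app X).hom (((kernel.ι d).app X).hom k) = 0 := kernel_ι_app_comp d X k
      have hk' : (d.app (pt X.unop.unop)).hom (((kernel.ι d).app X).hom k) = 0 := hk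
      have hk'' := sub_eq_zero.1 ((hd X.unop.unop _).symm.trans hk')
      obtain ⟨x, hx⟩ := hex X.unop.unop _ hk''.symm
      refine ⟨x, kernel_ι_app_injective d X ?_⟩
      exact (comp_app_apply ha X x).trans hx
  exact (adequate A).prop_of_iso (asIso a).symm hK

end Groth.Agent.H2.AdeqDesc
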