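import Mathlib
import Groth.Prelude.Def_Adeq2
import Groth.Agent.Lib.Helper2.AdeqDesc

/-! # Sheaf condition on a covering of an affine object gives the descent hypotheses. -/

set_option autoImplicit false
universe w u
open CategoryTheory CategoryTheory.Limits AlgebraicGeometry Opposite Adeq TensorProduct

namespace Groth.Agent.H2.Adeq2Cov

open Groth.Agent.H2.AdeqTsze Groth.Agent.H2.AdeqDesc

variable {R : CommRingCat.{u}}

/-- the ring map underlying a morphism of algebras. -/
abbrev rh {E E' : Alg R} (g : E ⟶ E') : CommRingCat.of E ⟶ CommRingCat.of E' :=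
  CommRingCat.ofHom g.hom.toRingHom

/-- the structure map of an algebra. -/
abbrev sm (E : Alg R) : R ⟶ CommRingCat.of E := CommRingCat.ofHom (algebraMap R E)

theorem rh_comp {E E' E'' : Alg R} (g : E ⟶ E') (g' : E' ⟶ E'') :
    rh (g ≫ g') = rh g ≫ rh g' := rfl

theorem sm_rh {E E' : Alg R} (g : E ⟶ E') : sm E ≫ rh g = sm E' := by
  have h : g.hom.toRingHom.comp (algebraMap R E) = algebraMap R E' :=
    AlgHom.comp_algebraMap g.hom
  show CommRingCat.ofHom (algebraMap R E) ≫ CommRingCat.ofHom g.hom.toRingHom =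
    CommRingCat.ofHom (algebraMap R E')
  rw [← CommRingCat.ofHom_comp, h]

variable {ι : Type w} (B : ι → Type u) [∀ k, CommRing (B k)] [∀ k, Algebra R (B k)]

section SchemeLevel

/-- `B_k → B_k ⊗ E`. -/
noncomputable abbrev incL (k : ι) (E : Alg R) :
    CommRingCat.of (B k) ⟶ CommRingCat.of ((TA R (B k)).obj E) :=
  CommRingCat.ofHom (Algebra.TensorProduct.includeLeftRingHom (R := R) (A := B k) (B := E))

/-- `Spec (B_k ⊗ E) → Spec B_k`. -/
noncomputable abbrev sL (k : ι) (E : Alg R) :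
    Spec (CommRingCat.of ((TA R (B k)).obj E)) ⟶ Spec (CommRingCat.of (B k)) :=
  Spec.map (incL B k E)

/-- `Spec (B_k ⊗ E) → Spec E`. -/
noncomputable abbrev sR (k : ι) (E : Alg R) :
    Spec (CommRingCat.of ((TA R (B k)).obj E)) ⟶ Spec (CommRingCat.of E) :=
  Spec.map (rh (Alg.unit R (B k) E))

theorem sq (k : ι) (E : Alg R) :
    IsPullback (sL B k E) (sR B k E) (Spec.map (CommRingCat.ofHom (algebraMap R (B k))))
      (Spec.map (sm E)) :=
  isPullback_SpecMap_of_isPushout _ _ _ _ (CommRingCat.isPushout_tensorProduct R (B k) E)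

theorem incL_map (k : ι) {C D : Alg R} (f : C ⟶ D) :
    incL B k C ≫ rh ((TA R (B k)).map f) = incL B k D := by
  ext b
  show Algebra.TensorProduct.map (AlgHom.id (B k) (B k)) f.hom (b ⊗ₜ[R] (1 : C)) =
    b ⊗ₜ[R] (1 : D)
  rw [Algebra.TensorProduct.map_tmul, map_one]
  rfl

theorem map_sL (k : ι) {C D : Alg R} (f : C ⟶ D) :
    Spec.map (rh ((TA R (B k)).map f)) ≫ sL B k C = sL B k D := by
  rw [← Spec.map_comp, incL_map]

theorem unit_map (k : ι) {C D : Alg R} (f : C ⟶ D) :
    rh (Alg.unit R (B k) C) ≫ rh ((TA R (B k)).map f) = rh f ≫ rh (Alg.unit R (B k) D) := by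
  rw [← rh_comp, ← rh_comp, unit_naturality]

theorem map_sR (k : ι) {C D : Alg R} (f : C ⟶ D) :
    Spec.map (rh ((TA R (B k)).map f)) ≫ sR B k C = sR B k D ≫ Spec.map (rh f) := by
  rw [← Spec.map_comp, ← Spec.map_comp, unit_map]

theorem exists_lift (k : ι) {C D : Alg R} (f : C ⟶ D) {Z : Scheme.{u}}
    (gk : Z ⟶ Spec (CommRingCat.of ((TA R (B k)).obj C)))
    (gD : Z ⟶ Spec (CommRingCat.of D))
    (hg : gk ≫ sR B k C = gD ≫ Spec.map (rh f)) :
    ∃ h : Z ⟶ Spec (CommRingCat.of ((TA R (B k)).obj D)),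
      h ≫ Spec.map (rh ((TA R (B k)).map f)) = gk ∧ h ≫ sR B k D = gD := by
  have w : (gk ≫ sL B k C) ≫ Spec.map (CommRingCat.ofHom (algebraMap R (B k))) =
      gD ≫ Spec.map (sm D) := by
    rw [Category.assoc, (sq B k C).w, ← Category.assoc, hg, Category.assoc, ← Spec.map_comp,
      sm_rh]
  refine ⟨(sq B k D).lift (gk ≫ sL B k C) gD w, ?_, (sq B k D).lift_snd _ _ w⟩
  apply (sq B k C).hom_ext
  · rw [Category.assoc, map_sL, (sq B k D).lift_fst]
  · rw [Category.assoc, map_sR, ← Category.assoc, (sq B k D).lift_snd, hg]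

end SchemeLevel

section OverLevel

variable {S : Scheme.{u}} (a : Spec R ⟶ S)

theorem map_left {E E' : Alg R} (g : E ⟶ E') :
    ((specOver a).map g.op).left = Spec.map (rh g) := rfl

theorem obj_hom (E : Alg R) : ((specOver a).obj (op E)).hom = Spec.map (sm E) ≫ a := rfl

theorem exists_lift_over (k l : ι) (C : Alg R) (Z : Over S)
    (gk : Z ⟶ (specOver a).obj (op ((TA R (B k)).obj C)))
    (gl : Z ⟶ (specOver a).obj (op ((TA R (B l)).obj C)))
    (hg : gk ≫ (specOver a).map (Alg.unit R (B k) C).op =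
      gl ≫ (specOver a).map (Alg.unit R (B l) C).op) :
    ∃ hW : Z ⟶ (specOver a).obj (op ((TA R (B k)).obj ((TA R (B l)).obj C))),
      hW ≫ (specOver a).map ((TA R (B k)).map (Alg.unit R (B l) C)).op = gk ∧
      hW ≫ (specOver a).map (Alg.unit R (B k) ((TA R (B l)).obj C)).op = gl := by
  have hg' : gk.left ≫ sR B k C = gl.left ≫ Spec.map (rh (Alg.unit R (B l) C)) :=
    congrArg CommaMorphism.left hg
  obtain ⟨h, h1, h2⟩ := exists_lift B k (Alg.unit R (B l) C) gk.left gl.left hg'
  have e1 : sR B k ((TA R (B l)).obj C) ≫ Spec.map (sm ((TA R (B l)).obj C)) ≫ a =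
      Spec.map (sm ((TA R (B k)).obj ((TA R (B l)).obj C))) ≫ a :=
    Over.w ((specOver a).map (Alg.unit R (B k) ((TA R (B l)).obj C)).op)
  have e2 : gl.left ≫ Spec.map (sm ((TA R (B l)).obj C)) ≫ a = Z.hom := Over.w gl
  have hw : h ≫ Spec.map (sm ((TA R (B k)).obj ((TA R (B l)).obj C))) ≫ a = Z.hom := by
    rw [← e1, ← Category.assoc, h2]
    exact e2
  refine ⟨Over.homMk h hw, ?_, ?_⟩
  · apply Over.OverMorphism.ext
    exact h1
  · apply Over.OverMorphism.ext
    exact h2

end OverLevel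

theorem compat_of_section {C : Type*} [Category C] (P : Cᵒᵖ ⥤ Type*) {X : C} {I : Type*}
    (Y : I → C) (π : ∀ i, Y i ⟶ X) (t : P.obj (op X)) :
    Presieve.Arrows.Compatible P π (fun i => P.map (π i).op t) := by
  intro i j Z gi gj h
  rw [← FunctorToTypes.map_comp_apply, ← FunctorToTypes.map_comp_apply, ← op_comp, ← op_comp, h]

section Sheaf

variable (K : Precoverage Scheme.{u}) [BigSite.OSh K] {S : Scheme.{u}} (a : Spec R ⟶ S)
  (M : BigSite.Mod K S)

/-- the underlying presheaf of sets. -/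
noncomputable abbrev PS : (Over S)ᵒᵖ ⥤ Type (u + 1) :=
  M.val.presheaf ⋙ forget AddCommGrpCat.{u + 1}

theorem isSheaf_PS : Presieve.IsSheaf (QuotSh.J K S) (PS K M) := by
  rw [← isSheaf_iff_isSheaf_of_type]
  exact (Presheaf.isSheaf_iff_isSheaf_forget _ _ (forget AddCommGrpCat.{u + 1})).1 M.isSheaf

theorem mapFn_eq {E E' : Alg R} (f : E ⟶ E') (y : ((toMVF K a).obj M).obj (pt E)) :
    mapFn ((toMVF K a).obj M) f y = (PS K M).map ((specOver a).map f.op).op y := rfl

theorem cover_mem [K.IsStableUnderBaseChange]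
    (hcov : Presieve.ofArrows (fun k => Spec (CommRingCat.of (B k)))
      (fun k => Spec.map (CommRingCat.ofHom (algebraMap R (B k)))) ∈ K.coverings (Spec R))
    (C : Alg R) :
    Sieve.generate (Presieve.ofArrows (fun k => (specOver a).obj (op ((TA R (B k)).obj C)))
      (fun k => (specOver a).map (Alg.unit R (B k) C).op)) ∈
        (QuotSh.J K S) ((specOver a).obj (op C)) := by
  show Sieve.ofArrows _ _ ∈ _
  rw [GrothendieckTopology.mem_over_iff, Sieve.overEquiv_ofArrows]
  exact Precoverage.generate_mem_toGrothendieck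
    (Precoverage.mem_coverings_of_isPullback _ hcov (Spec.map (sm C)) _ _
      (fun k => (sq B k C).flip))

theorem hinj [K.IsStableUnderBaseChange]
    (hcov : Presieve.ofArrows (fun k => Spec (CommRingCat.of (B k)))
      (fun k => Spec.map (CommRingCat.ofHom (algebraMap R (B k)))) ∈ K.coverings (Spec R))
    (C : Alg R) (x x' : ((toMVF K a).obj M).obj (pt C))
    (h : ∀ k, mapFn ((toMVF K a).obj M) (Alg.unit R (B k) C) x =
      mapFn ((toMVF K a).obj M) (Alg.unit R (B k) C) x') : x = x' := by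
  have hS := (isSheaf_PS K M).isSheafFor _ (cover_mem B K a hcov C)
  rw [Presieve.isSheafFor_arrows_iff] at hS
  obtain ⟨t, _, ht⟩ := hS
    (fun k => (PS K M).map ((specOver a).map (Alg.unit R (B k) C).op).op x)
    (compat_of_section (PS K M) _ _ x)
  exact (ht x (fun k => rfl)).trans (ht x' (fun k => (h k).symm)).symm

theorem hex [K.IsStableUnderBaseChange]
    (hcov : Presieve.ofArrows (fun k => Spec (CommRingCat.of (B k)))
      (fun k => Spec.map (CommRingCat.ofHom (algebraMap R (B k)))) ∈ K.coverings (Spec R))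
    (C : Alg R) (y : ∀ k, ((toMVF K a).obj M).obj (pt ((TA R (B k)).obj C)))
    (hy : ∀ k l, mapFn ((toMVF K a).obj M) ((TA R (B k)).map (Alg.unit R (B l) C)) (y k) =
      mapFn ((toMVF K a).obj M) (Alg.unit R (B k) ((TA R (B l)).obj C)) (y l)) :
    ∃ x : ((toMVF K a).obj M).obj (pt C),
      ∀ k, mapFn ((toMVF K a).obj M) (Alg.unit R (B k) C) x = y k := by
  have hS := (isSheaf_PS K M).isSheafFor _ (cover_mem B K a hcov C)
  rw [Presieve.isSheafFor_arrows_iff] at hS
  have hc : Presieve.Arrows.Compatible (PS K M)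
      (fun k => (specOver a).map (Alg.unit R (B k) C).op) y := by
    intro k l Z gk gl hg
    obtain ⟨hW, h1, h2⟩ := exists_lift_over B a k l C Z gk gl hg
    have e1 : (PS K M).map gk.op (y k) =
        (PS K M).map hW.op ((PS K M).map
          ((specOver a).map ((TA R (B k)).map (Alg.unit R (B l) C)).op).op (y k)) := by
      rw [← h1, op_comp, Functor.map_comp]
      rfl
    have e2 : (PS K M).map gl.op (y l) =
        (PS K M).map hW.op ((PS K M).map
          ((specOver a).map (Alg.unit R (B k) ((TA R (B l)).obj C)).op).op (y l)) := by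
      rw [← h2, op_comp, Functor.map_comp]
      rfl
    rw [e1, e2]
    exact congrArg _ (hy k l)
  obtain ⟨t, ht, _⟩ := hS y hc
  exact ⟨t, fun k => ht k⟩

end Sheaf

end Groth.Agent.H2.Adeq2Cov
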