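import Mathlib
import Groth.Prelude.Def_Adeq2

/-! # Refinement of a covering of an affine scheme by a finite affine covering. -/

set_option autoImplicit false
universe u
open CategoryTheory CategoryTheory.Limits AlgebraicGeometry Opposite

namespace Groth.Agent.H2.Adeq2Ref

theorem exists_refinement (P : MorphismProperty Scheme.{u}) [P.IsStableUnderBaseChange]
    [P.IsStableUnderComposition]
    (hopen : ∀ {X Y : Scheme.{u}} (f : X ⟶ Y), P f → IsOpenMap f)
    (himm : ∀ {X Y : Scheme.{u}} (f : X ⟶ Y), IsOpenImmersion f → P f)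
    {S : Scheme.{u}} {ι : Type u} (X : ι → Scheme.{u}) (f : ∀ i, X i ⟶ S)
    (hcov : Presieve.ofArrows X f ∈ (Scheme.precoverage P).coverings S)
    (R : CommRingCat.{u}) (a : Spec R ⟶ S) :
    ∃ (κ : Type (u + 1)) (_ : Finite κ) (B : κ → CommRingCat.{u}) (φ : ∀ k, R ⟶ B k)
      (i : κ → ι) (g : ∀ k, Spec (B k) ⟶ X (i k)),
      (∀ k, Spec.map (φ k) ≫ a = g k ≫ f (i k)) ∧
      Presieve.ofArrows (fun k => Spec (B k)) (fun k => Spec.map (φ k)) ∈
        (Scheme.precoverage P).coverings (Spec R) := by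
  have hcov' : Presieve.ofArrows X f ∈ Scheme.precoverage P S := hcov
  rw [Scheme.ofArrows_mem_precoverage_iff] at hcov'
  obtain ⟨hsurj, hP⟩ := hcov'
  have key : ∀ x : Spec R, ∃ (i : ι) (V : (pullback (f i) a).Opens), IsAffineOpen V ∧
      x ∈ (pullback.snd (f i) a) '' V.1 := by
    intro x
    obtain ⟨i, y, hy⟩ := hsurj (a x)
    obtain ⟨z, hz1, hz2⟩ :=
      Scheme.Pullback.exists_preimage_pullback (f := f i) (g := a) y x hy
    obtain ⟨V, hV, hzV, -⟩ := exists_isAffineOpen_mem_and_subset (x := z) (U := ⊤) trivial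
    exact ⟨i, V, hV, z, hzV, hz2⟩
  choose i V hV hx using key
  have hPsnd : ∀ x, P (pullback.snd (f (i x)) a) := fun x => P.pullback_snd _ _ (hP _)
  have hW : ∀ x, IsOpen ((pullback.snd (f (i x)) a) '' (V x).1) :=
    fun x => hopen _ (hPsnd x) _ (V x).isOpen
  obtain ⟨t, ht⟩ := isCompact_univ.elim_finite_subcover
    (fun x : Spec R => (pullback.snd (f (i x)) a) '' (V x).1) hW
    (fun p _ => Set.mem_iUnion.2 ⟨p, hx p⟩)
  refine ⟨ULift.{u + 1} {x // x ∈ t}, inferInstance,
    fun k => Γ(pullback (f (i k.down.1)) a, V k.down.1),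
    fun k => Spec.preimage ((hV k.down.1).fromSpec ≫ pullback.snd (f (i k.down.1)) a),
    fun k => i k.down.1,
    fun k => (hV k.down.1).fromSpec ≫ pullback.fst (f (i k.down.1)) a, ?_, ?_⟩
  · intro k
    rw [Spec.map_preimage, Category.assoc, Category.assoc, pullback.condition]
  · show _ ∈ Scheme.precoverage P (Spec R)
    rw [Scheme.ofArrows_mem_precoverage_iff]
    refine ⟨fun p => ?_, fun k => ?_⟩
    · have hp := ht (Set.mem_univ p)
      simp only [Set.mem_iUnion] at hp
      obtain ⟨x, hxt, z, hzV, hzp⟩ := hp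
      refine ⟨⟨⟨x, hxt⟩⟩, ?_⟩
      rw [Spec.map_preimage]
      have hz : z ∈ Set.range (hV x).fromSpec := by
        rw [(hV x).range_fromSpec]
        exact hzV
      obtain ⟨w, hw⟩ := hz
      refine ⟨w, ?_⟩
      rw [Scheme.Hom.comp_apply, hw]
      exact hzp
    · rw [Spec.map_preimage]
      exact P.comp_mem _ _ (himm _ inferInstance) (hPsnd k.down.1)

/-- the refinement property of a precoverage. -/
def Refines (K : Precoverage Scheme.{u}) : Prop :=
  ∀ {S : Scheme.{u}} {ι : Type u} (X : ι → Scheme.{u}) (f : ∀ i, X i ⟶ S),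
    Presieve.ofArrows X f ∈ K.coverings S → ∀ (R : CommRingCat.{u}) (a : Spec R ⟶ S),
    ∃ (κ : Type (u + 1)) (_ : Finite κ) (B : κ → CommRingCat.{u}) (φ : ∀ k, R ⟶ B k)
      (i : κ → ι) (g : ∀ k, Spec (B k) ⟶ X (i k)),
      (∀ k, Spec.map (φ k) ≫ a = g k ≫ f (i k)) ∧
      Presieve.ofArrows (fun k => Spec (B k)) (fun k => Spec.map (φ k)) ∈
        K.coverings (Spec R)

set_option backward.isDefEq.respectTransparency.types false in
theorem refines_fppf : Refines Scheme.fppfPrecoverage.{u} := by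
  intro S ι X f hcov R a
  exact exists_refinement (@Flat ⊓ @LocallyOfFinitePresentation)
    (fun f hf => by
      have : Flat f := hf.1
      have : LocallyOfFinitePresentation f := hf.2
      exact f.isOpenMap)
    (fun f hf => ⟨inferInstance, inferInstance⟩) X f hcov R a

theorem refines_zariski : Refines Scheme.zariskiPrecoverage.{u} := by
  intro S ι X f hcov R a
  exact exists_refinement @IsOpenImmersion
    (fun f hf => by
      have : IsOpenImmersion f := hf
      exact f.isOpenMap)
    (fun f hf => hf) X f hcov R a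

end Groth.Agent.H2.Adeq2Ref
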