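import Mathlib
import Groth.Prelude.Def_Adeq2
import Groth.Agent.Lib.Helper2.AdeqCok

/-! # Transport: `F_{M,B}` is the restriction of `F_{M,R}` along `R → B`. -/

set_option autoImplicit false
universe u
open CategoryTheory CategoryTheory.Limits AlgebraicGeometry Opposite Adeq

namespace Groth.Agent.H2.Adeq2Tr

variable {S : Scheme.{u}}
variable {R : CommRingCat.{u}} (B : Type u) [CommRing B] [Algebra R B] (a : Spec R ⟶ S)

/-- the composite `Spec B → Spec R → S`. -/
noncomputable abbrev aB : Spec (CommRingCat.of B) ⟶ S :=
  Spec.map (CommRingCat.ofHom (algebraMap R B)) ≫ a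

theorem hom_eq (C : Alg B) :
    Spec.map (CommRingCat.ofHom (algebraMap B C)) ≫
        Spec.map (CommRingCat.ofHom (algebraMap R B)) ≫ a =
      Spec.map (CommRingCat.ofHom ((algebraMap B C).comp (algebraMap R B))) ≫ a := by
  rw [← Category.assoc, ← Spec.map_comp, ← CommRingCat.ofHom_comp]

/-- the two objects of the big site are isomorphic (identity on the underlying scheme). -/
noncomputable def objIso (C : Alg B) :
    (specOver (aB B a)).obj (op C) ≅ (specOver a).obj (op ((Alg.restr R B).obj C)) :=
  Over.isoMk (Iso.refl (Spec (CommRingCat.of C)))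
    (by
      show 𝟙 (Spec (CommRingCat.of C)) ≫
          (Spec.map (CommRingCat.ofHom ((algebraMap B C).comp (algebraMap R B))) ≫ a) =
        Spec.map (CommRingCat.ofHom (algebraMap B C)) ≫
          Spec.map (CommRingCat.ofHom (algebraMap R B)) ≫ a
      rw [Category.id_comp]
      exact (hom_eq B a C).symm)

theorem objIso_inv_left (C : Alg B) :
    (objIso B a C).inv.left = 𝟙 (Spec (CommRingCat.of C)) := rfl

theorem objIso_hom_left (C : Alg B) :
    (objIso B a C).hom.left = 𝟙 (Spec (CommRingCat.of C)) := rfl

theorem map_left_eq {C C' : Alg B} (g : C ⟶ C') :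
    ((specOver (aB B a)).map g.op).left =
      Spec.map (CommRingCat.ofHom g.hom.toRingHom) := rfl

theorem map_left_eq' {C C' : Alg B} (g : C ⟶ C') :
    ((specOver a).map ((Alg.restr R B).map g).op).left =
      Spec.map (CommRingCat.ofHom g.hom.toRingHom) := rfl

theorem objIso_inv_naturality {C C' : Alg B} (g : C ⟶ C') :
    (objIso B a C').inv ≫ (specOver (aB B a)).map g.op =
      (specOver a).map ((Alg.restr R B).map g).op ≫ (objIso B a C).inv := by
  apply Over.OverMorphism.ext
  show (objIso B a C').inv.left ≫ ((specOver (aB B a)).map g.op).left =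
    ((specOver a).map ((Alg.restr R B).map g).op).left ≫ (objIso B a C).inv.left
  rw [objIso_inv_left, objIso_inv_left, map_left_eq, map_left_eq']
  exact (Category.id_comp _).trans (Category.comp_id _).symm

variable (K : Precoverage Scheme.{u}) [BigSite.OSh K] (M : BigSite.Mod K S)

/-- the comparison morphism. -/
noncomputable def theta :
    (toMVF K (aB B a)).obj M ⟶ (restr R B).obj ((toMVF K a).obj M) :=
  PresheafOfModules.homMk
    { app X := M.val.presheaf.map (objIso B a X.unop.unop).inv.op
      naturality {X Y} f := by
        have h := objIso_inv_naturality B a f.unop.unop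
        have h' : ((specOver (aB B a)).map f.unop).op ≫ (objIso B a Y.unop.unop).inv.op =
            (objIso B a X.unop.unop).inv.op ≫
              ((specOver a).map ((Alg.restr R B).map f.unop.unop).op).op :=
          congrArg Quiver.Hom.op h
        change M.val.presheaf.map ((specOver (aB B a)).map f.unop).op ≫
            M.val.presheaf.map (objIso B a Y.unop.unop).inv.op =
          M.val.presheaf.map (objIso B a X.unop.unop).inv.op ≫
            M.val.presheaf.map ((specOver a).map ((Alg.restr R B).map f.unop.unop).op).op
        rw [← M.val.presheaf.map_comp, h', M.val.presheaf.map_comp] }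
    (by
      intro X r m
      have h := M.val.map_smul (objIso B a X.unop.unop).inv.op
        (toSect K (aB B a) X.unop.unop r) m
      refine h.trans ?_
      congr 1)

theorem theta_app_apply (X : (Alg B)ᵒᵖᵒᵖ) (m : ((toMVF K (aB B a)).obj M).obj X) :
    ((theta B a K M).app X).hom m =
      (M.val.presheaf.map (objIso B a X.unop.unop).inv.op) m := rfl

theorem theta_bijective (X : (Alg B)ᵒᵖᵒᵖ) : Function.Bijective ((theta B a K M).app X) := by
  let E := M.val.presheaf.mapIso (objIso B a X.unop.unop).symm.op
  have hE : Function.Bijective (ConcreteCategory.hom E.hom) :=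
    ConcreteCategory.bijective_of_isIso E.hom
  exact hE

theorem isIso_theta : IsIso (theta B a K M) :=
  Groth.Agent.H2.AdeqCok.isIso_of_bijective _ (theta_bijective B a K M)

/-- the transport isomorphism. -/
noncomputable def transportIso :
    (toMVF K (aB B a)).obj M ≅ (restr R B).obj ((toMVF K a).obj M) :=
  haveI := isIso_theta B a K M
  asIso (theta B a K M)

theorem adequate_iff_restr {R B : CommRingCat.{u}} (φ : R ⟶ B) (a : Spec R ⟶ S) (b : Spec B ⟶ S)
    (hb : Spec.map φ ≫ a = b) (K : Precoverage Scheme.{u}) [BigSite.OSh K] (M : BigSite.Mod K S) :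
    adequate B ((toMVF K b).obj M) ↔
      adequate B ((@restr R _ B _ φ.hom.toAlgebra).obj ((toMVF K a).obj M)) := by
  subst hb
  letI : Algebra R B := φ.hom.toAlgebra
  have e : (toMVF K (Spec.map φ ≫ a)).obj M ≅ (restr R B).obj ((toMVF K a).obj M) :=
    transportIso (B := B) a K M
  exact ⟨fun h => (adequate B).prop_of_iso e h, fun h => (adequate B).prop_of_iso e.symm h⟩

end Groth.Agent.H2.Adeq2Tr
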