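import Mathlib
import Groth.Prelude.Def_Adeq
import Groth.Agent.Lib.Helper2.AdeqAb

/-! # Direct sums and colimits of adequate functors are adequate (Stacks 06V3). -/

set_option autoImplicit false
universe u
open CategoryTheory CategoryTheory.Limits TensorProduct Adeq

namespace Groth.Agent.H2.AdeqSum

open Groth.Agent.H2.AdeqKer Groth.Agent.H2.AdeqCok Groth.Agent.H2.AdeqPush Groth.Agent.H2.AdeqAb

variable {A : Type u} [CommRing A]

section Gen

variable {I : Type (u + 1)} {F : I → MVF A} (c : Cofan F) (hc : IsColimit c)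

include hc in
theorem iSup_range_inj (X : (Alg A)ᵒᵖᵒᵖ) :
    (⨆ i, LinearMap.range ((c.inj i).app X).hom) = ⊤ := by
  haveI : PreservesColimitsOfShape (Discrete I)
      (PresheafOfModules.evaluation.{u + 1} (ringOf A) X) :=
    PresheafOfModules.evaluation_preservesColimitsOfShape _ _ _
  have hcol := isColimitOfPreserves (PresheafOfModules.evaluation.{u + 1} (ringOf A) X) hc
  have h0 : (ModuleCat.ofHom (⨆ i, LinearMap.range ((c.inj i).app X).hom).mkQ :
      c.pt.obj X ⟶ ModuleCat.of _ (_ ⧸ (⨆ i, LinearMap.range ((c.inj i).app X).hom))) = 0 := by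
    apply hcol.hom_ext
    intro ⟨i⟩
    refine Eq.trans ?_ comp_zero.symm
    apply ModuleCat.hom_ext
    apply LinearMap.ext
    intro x
    change (⨆ i, LinearMap.range ((c.inj i).app X).hom).mkQ (((c.inj i).app X).hom x) = 0
    rw [Submodule.mkQ_apply, Submodule.Quotient.mk_eq_zero]
    exact (le_iSup (fun i => LinearMap.range ((c.inj i).app X).hom) i) ⟨x, rfl⟩
  have h1 : (⨆ i, LinearMap.range ((c.inj i).app X).hom).mkQ = 0 :=
    congrArg ModuleCat.Hom.hom h0
  rw [← Submodule.ker_mkQ (⨆ i, LinearMap.range ((c.inj i).app X).hom), h1, LinearMap.ker_zero]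

include hc in
theorem exists_finset_sum (X : (Alg A)ᵒᵖᵒᵖ) (t : c.pt.obj X) :
    ∃ (S : Finset I) (x : ∀ i, (F i).obj X), t = ∑ i ∈ S, ((c.inj i).app X).hom (x i) := by
  have ht : t ∈ ⨆ i, LinearMap.range ((c.inj i).app X).hom := by
    rw [iSup_range_inj c hc X]; trivial
  rw [Submodule.mem_iSup_iff_exists_finsupp] at ht
  obtain ⟨f, hf, rfl⟩ := ht
  choose x hx using hf
  refine ⟨f.support, x, ?_⟩
  rw [Finsupp.sum]
  exact Finset.sum_congr rfl fun i _ => (hx i).symm

end Gen

section Sum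

variable {I : Type (u + 1)} [DecidableEq I] (Mm Nm : I → ModuleCat.{u + 1} A)
  (ψ : ∀ i, Mm i ⟶ Nm i)

abbrev MT : ModuleCat.{u + 1} A := ModuleCat.of A (DirectSum I fun i => Mm i)

abbrev lofM (i : I) : Mm i ⟶ MT Mm := ModuleCat.ofHom (DirectSum.lof A I (fun i => Mm i) i)

abbrev compM (i : I) : MT Mm ⟶ Mm i :=
  ModuleCat.ofHom (DirectSum.component A I (fun i => Mm i) i)

abbrev PsiT : MT Mm ⟶ MT Nm := ModuleCat.ofHom (DirectSum.lmap fun i => (ψ i).hom)

theorem lofM_PsiT (i : I) : lofM Mm i ≫ PsiT Mm Nm ψ = ψ i ≫ lofM Nm i := by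
  apply ModuleCat.hom_ext; apply LinearMap.ext; intro x
  exact DirectSum.lmap_lof (fun i => (ψ i).hom) i x

theorem PsiT_compM (i : I) : PsiT Mm Nm ψ ≫ compM Nm i = compM Mm i ≫ ψ i := by
  apply ModuleCat.hom_ext; apply LinearMap.ext; intro x
  rfl

theorem lofM_compM_self (i : I) : lofM Mm i ≫ compM Mm i = 𝟙 (Mm i) := by
  apply ModuleCat.hom_ext; apply LinearMap.ext; intro x
  change DirectSum.component A I (fun i => Mm i) i (DirectSum.lof A I (fun i => Mm i) i x) = x
  rw [DirectSum.component.lof_self]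

theorem lofM_compM_ne {i k : I} (h : i ≠ k) : lofM Mm i ≫ compM Mm k = 0 := by
  apply ModuleCat.hom_ext; apply LinearMap.ext; intro x
  change DirectSum.component A I (fun i => Mm i) k (DirectSum.lof A I (fun i => Mm i) i x) = 0
  rw [DirectSum.component.of, dif_neg h]

variable {F : I → MVF A} (c : Cofan F) (hc : IsColimit c)
  (e : ∀ i, F i ≅ kernel ((underline A).map (ψ i)))

/-- the embedding `Fᵢ → underline Mᵢ`. -/
noncomputable abbrev jj (i : I) : F i ⟶ (underline A).obj (Mm i) :=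
  (e i).hom ≫ kernel.ι ((underline A).map (ψ i))

theorem jj_psi (i : I) : jj Mm Nm ψ e i ≫ (underline A).map (ψ i) = 0 := by
  rw [Category.assoc, kernel.condition, comp_zero]

/-- the total map `∐ Fᵢ → underline (⨁ Mᵢ)`. -/
noncomputable def Phi : c.pt ⟶ (underline A).obj (MT Mm) :=
  Cofan.IsColimit.desc hc (fun i => jj Mm Nm ψ e i ≫ (underline A).map (lofM Mm i))

theorem inj_Phi (i : I) : c.inj i ≫ Phi Mm Nm ψ c hc e =
    jj Mm Nm ψ e i ≫ (underline A).map (lofM Mm i) :=
  Cofan.IsColimit.fac hc _ i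

theorem Phi_PsiT : Phi Mm Nm ψ c hc e ≫ (underline A).map (PsiT Mm Nm ψ) = 0 := by
  apply Cofan.IsColimit.hom_ext hc
  intro i
  rw [comp_zero, ← Category.assoc, inj_Phi, Category.assoc, ← Functor.map_comp, lofM_PsiT,
    Functor.map_comp, ← Category.assoc, jj_psi, zero_comp]

theorem Phi_compM (i k : I) (X : (Alg A)ᵒᵖᵒᵖ) (x : (F i).obj X) :
    ((underline A).map (compM Mm k)).app X
      ((Phi Mm Nm ψ c hc e).app X ((c.inj i).app X x)) =
    ((underline A).map (lofM Mm i ≫ compM Mm k)).app X ((jj Mm Nm ψ e i).app X x) := by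
  have h : (c.inj i ≫ Phi Mm Nm ψ c hc e) ≫ (underline A).map (compM Mm k) =
      jj Mm Nm ψ e i ≫ (underline A).map (lofM Mm i ≫ compM Mm k) := by
    rw [inj_Phi, Category.assoc, ← Functor.map_comp]
  exact congrArg (fun t => (PresheafOfModules.Hom.app t X) x) h

theorem Phi_app_injective (X : (Alg A)ᵒᵖᵒᵖ) :
    Function.Injective ((Phi Mm Nm ψ c hc e).app X) := by
  rw [injective_iff_map_eq_zero]
  intro t ht
  obtain ⟨S, x, rfl⟩ := exists_finset_sum c hc X t
  have hx : ∀ k ∈ S, x k = 0 := by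
    intro k hk
    apply iso_kernel_app_injective ((underline A).map (ψ k)) (e k) X
    rw [map_zero]
    have h1 := congrArg (fun y => ((underline A).map (compM Mm k)).app X y) ht
    simp only [map_sum, map_zero] at h1
    rw [Finset.sum_eq_single_of_mem k hk] at h1
    · have h2 := Phi_compM Mm Nm ψ c hc e k k X (x k)
      rw [lofM_compM_self, CategoryTheory.Functor.map_id] at h2
      exact h2.symm.trans h1
    · intro i _ hik
      have h2 := Phi_compM Mm Nm ψ c hc e i k X (x i)
      rw [lofM_compM_ne Mm hik, Functor.map_zero] at h2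
      exact h2
  exact Finset.sum_eq_zero fun k hk => by rw [hx k hk, map_zero]

theorem exists_Phi_eq (X : (Alg A)ᵒᵖᵒᵖ) (y : ((underline A).obj (MT Mm)).obj X)
    (hy : ((underline A).map (PsiT Mm Nm ψ)).app X y = 0) :
    ∃ t : c.pt.obj X, (Phi Mm Nm ψ c hc e).app X t = y := by
  obtain ⟨J, hJ⟩ := exists_finset_sum_lTensor (A := A) X.unop.unop (fun i => Mm i)
    (y : X.unop.unop ⊗[A] (DirectSum I fun i => Mm i))
  have hker : ∀ i, ((underline A).map (ψ i)).app X
      (((underline A).map (compM Mm i)).app X y) = 0 := by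
    intro i
    have h1 : (underline A).map (PsiT Mm Nm ψ) ≫ (underline A).map (compM Nm i) =
        (underline A).map (compM Mm i) ≫ (underline A).map (ψ i) := by
      rw [← Functor.map_comp, ← Functor.map_comp, PsiT_compM]
    have h2 := comp_app_apply₂ h1 X y
    rw [← h2, hy, map_zero]
  choose z hz using fun i => exists_of_app_eq_zero ((underline A).map (ψ i)) X _ (hker i)
  refine ⟨∑ i ∈ J, (c.inj i).app X ((e i).inv.app X (z i)), ?_⟩
  rw [map_sum]
  have h3 : ∀ i, (Phi Mm Nm ψ c hc e).app X ((c.inj i).app X ((e i).inv.app X (z i))) =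
      ((DirectSum.lof A I (fun i => Mm i) i ∘ₗ
        DirectSum.component A I (fun i => Mm i) i).lTensor X.unop.unop)
        (y : X.unop.unop ⊗[A] (DirectSum I fun i => Mm i)) := by
    intro i
    have h4 : ((e i).inv ≫ c.inj i) ≫ Phi Mm Nm ψ c hc e =
        kernel.ι ((underline A).map (ψ i)) ≫ (underline A).map (lofM Mm i) := by
      rw [Category.assoc, inj_Phi, ← Category.assoc, ← Category.assoc, Iso.inv_hom_id,
        Category.id_comp]
    have h5 : (Phi Mm Nm ψ c hc e).app X ((c.inj i).app X ((e i).inv.app X (z i))) =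
        ((underline A).map (lofM Mm i)).app X
          ((kernel.ι ((underline A).map (ψ i))).app X (z i)) :=
      congrArg (fun t => (PresheafOfModules.Hom.app t X) (z i)) h4
    rw [h5, hz i]
    change (DirectSum.lof A I (fun i => Mm i) i).lTensor X.unop.unop
      ((DirectSum.component A I (fun i => Mm i) i).lTensor X.unop.unop _) = _
    rw [← LinearMap.comp_apply, ← LinearMap.lTensor_comp]
  rw [Finset.sum_congr rfl fun i _ => h3 i]
  exact hJ J (Finset.Subset.refl J)

include hc e in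
/-- a coproduct of kernels of `underline ψᵢ` is the kernel of `underline (⨁ ψᵢ)`. -/
theorem adequate_cofan_aux : adequate A c.pt := by
  refine ⟨MT Mm, MT Nm, PsiT Mm Nm ψ, ?_⟩
  let a : c.pt ⟶ kernel ((underline A).map (PsiT Mm Nm ψ)) :=
    kernel.lift _ (Phi Mm Nm ψ c hc e) (Phi_PsiT Mm Nm ψ c hc e)
  have ha : a ≫ kernel.ι _ = Phi Mm Nm ψ c hc e := kernel.lift_ι _ _ _
  haveI : IsIso a := by
    apply isIso_of_bijective
    intro X
    constructor
    · intro t t' htt'
      apply Phi_app_injective Mm Nm ψ c hc e X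
      have e1 := comp_app_apply ha X t
      have e2 := comp_app_apply ha X t'
      rw [← e1, ← e2, htt']
    · intro y
      obtain ⟨t, ht⟩ := exists_Phi_eq Mm Nm ψ c hc e X _ (kernel_ι_app_comp _ X y)
      refine ⟨t, kernel_ι_app_injective _ X ?_⟩
      rw [comp_app_apply ha X t, ht]
  exact ⟨asIso a⟩

end Sum

/-- a coproduct of adequate functors is adequate. -/
theorem adequate_cofan {I : Type (u + 1)} {F : I → MVF A} (hF : ∀ i, adequate A (F i))
    (c : Cofan F) (hc : IsColimit c) : adequate A c.pt := by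
  classical
  choose Mm Nm ψ he using hF
  exact adequate_cofan_aux Mm Nm ψ c hc (fun i => (he i).some)

/-- Stacks 06V3: colimits of adequate functors are adequate. -/
theorem adequate_colimit {J : Type (u + 1)} [SmallCategory J] (D : J ⥤ MVF A)
    (hD : ∀ j, adequate A (D.obj j)) : adequate A (colimit D) := by
  let c₁ : Cofan (fun f : Σ p : J × J, p.1 ⟶ p.2 => D.obj f.1.1) := Cofan.mk (∐ _) (Sigma.ι _)
  have hc₁ : IsColimit c₁ := coproductIsCoproduct _
  let c₂ : Cofan D.obj := Cofan.mk (∐ _) (Sigma.ι _)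
  have hc₂ : IsColimit c₂ := coproductIsCoproduct _
  let s : c₁.pt ⟶ c₂.pt := Sigma.desc (fun (f : Σ p : J × J, p.1 ⟶ p.2) => D.map f.2 ≫ Sigma.ι D.obj f.1.2)
  let t : c₁.pt ⟶ c₂.pt := Sigma.desc (fun (f : Σ p : J × J, p.1 ⟶ p.2) => Sigma.ι D.obj f.1.1)
  have hs : ∀ f : Σ p : J × J, p.1 ⟶ p.2,
      c₁.ι.app ⟨f⟩ ≫ s = D.map f.2 ≫ c₂.ι.app ⟨f.1.2⟩ := fun f => by
    simp [c₁, c₂, s]
  have ht : ∀ f : Σ p : J × J, p.1 ⟶ p.2,
      c₁.ι.app ⟨f⟩ ≫ t = c₂.ι.app ⟨f.1.1⟩ := fun f => by
    simp [c₁, c₂, t]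
  have h1 : adequate A c₁.pt := adequate_cofan (fun (f : Σ p : J × J, p.1 ⟶ p.2) => hD f.1.1) c₁ hc₁
  have h2 : adequate A c₂.pt := adequate_cofan hD c₂ hc₂
  have h3 : adequate A (cokernel (s - t)) := adequate_cokernel (s - t) h1 h2
  let ck : CokernelCofork (s - t) := CokernelCofork.ofπ (cokernel.π (s - t)) (cokernel.condition _)
  have hck : IsColimit ck := cokernelIsCokernel (s - t)
  have hcol := HasColimitOfHasCoproductsOfHasCoequalizers.buildIsColimit s t hs ht hc₁ hc₂ (Preadditive.isColimitCoforkOfCokernelCofork hck)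
  exact (adequate A).prop_of_iso
    ((colimit.isColimit D).coconePointUniqueUpToIso hcol).symm h3

end Groth.Agent.H2.AdeqSum
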