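import Mathlib

/-!
# Coinduced presheaves of modules and enough injectives

The right adjoint of the evaluation functor `PresheafOfModules R ⥤ ModuleCat (R.obj X₀)`,
constructed by hand, and enough injectives for presheaves of modules in large universes.
-/

set_option autoImplicit false

universe v v₁ u₁ u

open CategoryTheory Limits Opposite

namespace Groth.Agent.H2.PshModCoind

variable {C : Type u₁} [Category.{v₁} C] (R : Cᵒᵖ ⥤ RingCat.{u}) (X₀ : Cᵒᵖ)
  (N : ModuleCat.{max v v₁} (R.obj X₀))

/-- the carrier of the coinduced presheaf at `Y`: functions on `Y ⟶ X₀` -/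
def Carrier (Y : Cᵒᵖ) : Type (max v v₁) := (Y ⟶ X₀) → N

instance (Y : Cᵒᵖ) : AddCommGroup (Carrier R X₀ N Y) :=
  inferInstanceAs (AddCommGroup ((Y ⟶ X₀) → N))

instance (Y : Cᵒᵖ) : Module (R.obj Y) (Carrier R X₀ N Y) where
  smul r φ := fun f => ((R.map f).hom r) • (φ f)
  one_smul φ := by
    funext f
    change (R.map f).hom 1 • φ f = φ f
    rw [map_one, one_smul]
  mul_smul r s φ := by
    funext f
    change (R.map f).hom (r * s) • φ f = (R.map f).hom r • ((R.map f).hom s • φ f)
    rw [map_mul, mul_smul]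
  smul_zero r := by
    funext f
    change (R.map f).hom r • (0 : N) = 0
    exact smul_zero _
  smul_add r φ ψ := by
    funext f
    change (R.map f).hom r • (φ f + ψ f) = (R.map f).hom r • φ f + (R.map f).hom r • ψ f
    exact smul_add _ _ _
  add_smul r s φ := by
    funext f
    change (R.map f).hom (r + s) • φ f = (R.map f).hom r • φ f + (R.map f).hom s • φ f
    rw [map_add, add_smul]
  zero_smul φ := by
    funext f
    change (R.map f).hom 0 • φ f = 0
    rw [map_zero, zero_smul]

lemma smul_apply {Y : Cᵒᵖ} (r : R.obj Y) (φ : Carrier R X₀ N Y) (f : Y ⟶ X₀) :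
    (r • φ) f = (R.map f).hom r • φ f := rfl

/-- the underlying presheaf of abelian groups -/
def coindAb : Cᵒᵖ ⥤ Ab.{max v v₁} where
  obj Y := AddCommGrpCat.of (Carrier R X₀ N Y)
  map {Y Y'} g := AddCommGrpCat.ofHom
    { toFun := fun φ f' => φ (g ≫ f')
      map_zero' := rfl
      map_add' := fun _ _ => rfl }
  map_id Y := by
    refine ConcreteCategory.hom_ext _ _ (fun φ => ?_)
    funext f'
    change φ (𝟙 Y ≫ f') = φ f'
    rw [Category.id_comp]
  map_comp g g' := by
    refine ConcreteCategory.hom_ext _ _ (fun φ => ?_)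
    funext f'
    change φ ((g ≫ g') ≫ f') = φ (g ≫ g' ≫ f')
    rw [Category.assoc]

instance (Y : Cᵒᵖ) : Module (R.obj Y) ((coindAb R X₀ N).obj Y) :=
  inferInstanceAs (Module (R.obj Y) (Carrier R X₀ N Y))

/-- the coinduced presheaf of modules -/
noncomputable def coind : PresheafOfModules.{max v v₁} R :=
  PresheafOfModules.ofPresheaf (coindAb R X₀ N) (by
    intro Y Y' g r φ
    funext f'
    change (R.map (g ≫ f')).hom r • φ (g ≫ f') = (R.map f').hom ((R.map g).hom r) • φ (g ≫ f')
    rw [R.map_comp]
    rfl)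

end Groth.Agent.H2.PshModCoind
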