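import Mathlib
import Groth.Agent.Lib.Helper2.PshModCoind

/-!
# Coinduced presheaves of modules are injective; enough injectives
-/

set_option autoImplicit false

universe v v₁ u₁ u

open CategoryTheory Limits Opposite

namespace Groth.Agent.H2.PshModCoind

variable {C : Type u₁} [Category.{v₁} C] {R : Cᵒᵖ ⥤ RingCat.{u}}

section Res

variable (M : PresheafOfModules.{v} R)

/-- restriction maps with the plain codomain -/
noncomputable def res {Y Z : Cᵒᵖ} (f : Y ⟶ Z) (m : M.obj Y) : M.obj Z := M.restrictₛₗ f m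

lemma res_zero {Y Z : Cᵒᵖ} (f : Y ⟶ Z) : res M f 0 = 0 := map_zero (M.restrictₛₗ f)

lemma res_add {Y Z : Cᵒᵖ} (f : Y ⟶ Z) (m m' : M.obj Y) :
    res M f (m + m') = res M f m + res M f m' := map_add (M.restrictₛₗ f) m m'

lemma res_smul {Y Z : Cᵒᵖ} (f : Y ⟶ Z) (r : R.obj Y) (m : M.obj Y) :
    res M f (r • m) = (R.map f).hom r • res M f m := (M.restrictₛₗ f).map_smulₛₗ r m

lemma res_comp {Y Z W : Cᵒᵖ} (f : Y ⟶ Z) (g : Z ⟶ W) (m : M.obj Y) :
    res M (f ≫ g) m = res M g (res M f m) := M.map_comp_apply f g m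

lemma res_id {Y : Cᵒᵖ} (m : M.obj Y) : res M (𝟙 Y) m = m :=
  ConcreteCategory.congr_hom (M.presheaf.map_id Y) m

lemma res_naturality {M M' : PresheafOfModules.{v} R} (i : M ⟶ M') {Y Z : Cᵒᵖ} (f : Y ⟶ Z)
    (m : M.obj Y) : i.app Z (res M f m) = res M' f (i.app Y m) :=
  PresheafOfModules.naturality_apply i f m

end Res

variable {X₀ : Cᵒᵖ} {N : ModuleCat.{max v v₁} (R.obj X₀)}

/-- evaluation at the identity -/
noncomputable def evId : (coind R X₀ N).obj X₀ ⟶ N :=
  ModuleCat.ofHom
    { toFun := fun φ => (φ : Carrier R X₀ N X₀) (𝟙 X₀)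
      map_add' := fun _ _ => rfl
      map_smul' := fun r φ => by
        change (R.map (𝟙 X₀)).hom r • (φ : Carrier R X₀ N X₀) (𝟙 X₀) = _
        rw [R.map_id]
        rfl }

variable {M : PresheafOfModules.{max v v₁} R}

/-- the transpose of a linear map `M.obj X₀ ⟶ N` -/
noncomputable def tau (h : M.obj X₀ ⟶ N) : M ⟶ coind R X₀ N :=
  PresheafOfModules.homMk
    { app := fun Y => AddCommGrpCat.ofHom
        { toFun := fun m => ((fun f => h (res M f m)) : Carrier R X₀ N Y)
          map_zero' := by
            funext f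
            change h (res M f 0) = 0
            rw [res_zero, map_zero]
          map_add' := fun m m' => by
            funext f
            change h (res M f (m + m')) = h (res M f m) + h (res M f m')
            rw [res_add, map_add] }
      naturality := fun Y Y' g => by
        refine ConcreteCategory.hom_ext _ _ (fun m => ?_)
        funext f'
        change h (res M f' (res M g m)) = h (res M (g ≫ f') m)
        rw [res_comp] }
    (by
      intro Y r m
      funext f
      change h (res M f (r • m)) = (R.map f).hom r • h (res M f m)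
      rw [res_smul]
      exact h.hom.map_smul _ _)

lemma tau_app_evId (h : M.obj X₀ ⟶ N) : (tau h).app X₀ ≫ evId = h := by
  ext m
  change h (res M (𝟙 X₀) m) = h m
  rw [res_id]

lemma tau_eq (g : M ⟶ coind R X₀ N) : tau (g.app X₀ ≫ evId) = g := by
  ext Y m
  funext f
  change ((g.app X₀ (res M f m) : (coind R X₀ N).obj X₀) : Carrier R X₀ N X₀) (𝟙 X₀) = _
  rw [res_naturality]
  change ((g.app Y m : (coind R X₀ N).obj Y) : Carrier R X₀ N Y) (f ≫ 𝟙 X₀) = _
  rw [Category.comp_id]

lemma comp_tau {M' : PresheafOfModules.{max v v₁} R} (i : M' ⟶ M) (h : M.obj X₀ ⟶ N) :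
    i ≫ tau h = tau (i.app X₀ ≫ h) := by
  ext Y m
  funext f
  change h (res M f (i.app Y m)) = h (i.app X₀ (res M' f m))
  rw [res_naturality]

instance injective_coind [Injective N] : Injective (coind R X₀ N) where
  factors {M' M''} g i _ := by
    refine ⟨tau (Injective.factorThru (g.app X₀ ≫ evId) (i.app X₀)), ?_⟩
    rw [comp_tau, Injective.comp_factorThru, tau_eq]

end Groth.Agent.H2.PshModCoind
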