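import Mathlib
import Groth.Agent.Lib.Helper2.PshModCoind2

/-!
# Enough injectives for presheaves of modules (any universes)
-/

set_option autoImplicit false

universe v v₁ u₁ u

open CategoryTheory Limits Opposite

namespace Groth.Agent.H2.PshModCoind

variable {C : Type u₁} [Category.{v₁} C] (R : Cᵒᵖ ⥤ RingCat.{u})

theorem enoughInjectives_presheafOfModules
    [HasProductsOfShape Cᵒᵖ (PresheafOfModules.{max v v₁} R)]
    [∀ X : Cᵒᵖ, EnoughInjectives (ModuleCat.{max v v₁} (R.obj X))] :
    EnoughInjectives (PresheafOfModules.{max v v₁} R) where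
  presentation M := by
    let I : ∀ X : Cᵒᵖ, ModuleCat.{max v v₁} (R.obj X) := fun X => Injective.under (M.obj X)
    let J : Cᵒᵖ → PresheafOfModules.{max v v₁} R := fun X => coind R X (I X)
    let f : M ⟶ ∏ᶜ J := Pi.lift (fun X => tau (Injective.ι (M.obj X)))
    refine ⟨{ J := ∏ᶜ J, injective := inferInstance, f := f, mono := ?_ }⟩
    rw [PresheafOfModules.mono_iff_surjective]
    intro X
    rw [← ModuleCat.mono_iff_injective]
    have h : f.app X ≫ (Pi.π J X).app X ≫ evId = Injective.ι (M.obj X) := by
      rw [← Category.assoc, ← PresheafOfModules.comp_app, Pi.lift_π, tau_app_evId]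
    exact mono_of_mono_fac h

end Groth.Agent.H2.PshModCoind
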