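import Mathlib
import Groth.Agent.Lib.Helper2.PshModCoind3

/-!
# Injective presheaves of modules have surjective transition maps along epimorphisms
-/

set_option autoImplicit false

universe w v v₁ u₁ u

open CategoryTheory Limits Opposite

namespace Groth.Agent.H2.PshModCoind

variable {C : Type u₁} [Category.{v₁} C] (R : Cᵒᵖ ⥤ RingCat.{u})

theorem coind_res_surjective (X₀ : Cᵒᵖ) (N : ModuleCat.{max v v₁} (R.obj X₀)) {Y Y' : Cᵒᵖ}
    (g : Y ⟶ Y') [Epi g] : Function.Surjective (res (coind R X₀ N) g) := by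
  classical
  intro ψ
  let ψ' : Carrier R X₀ N Y' := ψ
  let φ : Carrier R X₀ N Y :=
    fun f => if h : ∃ f' : Y' ⟶ X₀, g ≫ f' = f then ψ' h.choose else 0
  refine ⟨φ, ?_⟩
  funext f'
  change φ (g ≫ f') = ψ' f'
  have h : ∃ f'' : Y' ⟶ X₀, g ≫ f'' = g ≫ f' := ⟨f', rfl⟩
  simp only [φ]
  rw [dif_pos h]
  congr 1
  exact (cancel_epi g).1 h.choose_spec

section Prod

variable {R}
variable {ι : Type w} (J : ι → PresheafOfModules.{v} R) [HasProduct J] (Z : Cᵒᵖ)
  [PreservesLimit (Discrete.functor J) (PresheafOfModules.evaluation R Z)]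
  [PreservesLimit (Discrete.functor J ⋙ PresheafOfModules.evaluation R Z)
    (forget (ModuleCat.{v} (R.obj Z)))]

theorem pi_ext (w w' : (∏ᶜ J).obj Z)
    (h : ∀ i, (Pi.π J i).app Z w = (Pi.π J i).app Z w') : w = w' := by
  have hc : IsLimit ((PresheafOfModules.evaluation R Z).mapCone
      (limit.cone (Discrete.functor J))) := isLimitOfPreserves _ (limit.isLimit _)
  apply Concrete.isLimit_ext _ hc
  rintro ⟨i⟩
  exact h i

theorem pi_exists (z : ∀ i, (J i).obj Z) :
    ∃ w : (∏ᶜ J).obj Z, ∀ i, (Pi.π J i).app Z w = z i := by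
  have hc := isLimitOfPreserves (forget (ModuleCat.{v} (R.obj Z)))
    (isLimitOfPreserves (PresheafOfModules.evaluation R Z) (limit.isLimit (Discrete.functor J)))
  let s : ((Discrete.functor J ⋙ PresheafOfModules.evaluation R Z) ⋙
      forget (ModuleCat.{v} (R.obj Z))).sections := ⟨fun j => z j.as, by
    rintro ⟨i⟩ ⟨j⟩ f
    obtain rfl : i = j := Discrete.eq_of_hom f
    obtain rfl : f = 𝟙 _ := Subsingleton.elim _ _
    simp⟩
  refine ⟨(Types.isLimitEquivSections hc).symm s, fun i => ?_⟩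
  exact Types.isLimitEquivSections_symm_apply hc s ⟨i⟩

end Prod

theorem res_surjective_of_injective
    [HasProductsOfShape Cᵒᵖ (PresheafOfModules.{max v v₁} R)]
    [∀ X : Cᵒᵖ, EnoughInjectives (ModuleCat.{max v v₁} (R.obj X))]
    [∀ (J : Cᵒᵖ → PresheafOfModules.{max v v₁} R) (Z : Cᵒᵖ),
      PreservesLimit (Discrete.functor J) (PresheafOfModules.evaluation R Z)]
    [∀ (J : Cᵒᵖ → PresheafOfModules.{max v v₁} R) (Z : Cᵒᵖ),
      PreservesLimit (Discrete.functor J ⋙ PresheafOfModules.evaluation R Z)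
        (forget (ModuleCat.{max v v₁} (R.obj Z)))]
    (I : PresheafOfModules.{max v v₁} R) [Injective I] {Y Y' : Cᵒᵖ} (g : Y ⟶ Y') [Epi g] :
    Function.Surjective (res I g) := by
  let Jm : ∀ X : Cᵒᵖ, ModuleCat.{max v v₁} (R.obj X) := fun X => Injective.under (I.obj X)
  let J : Cᵒᵖ → PresheafOfModules.{max v v₁} R := fun X => coind R X (Jm X)
  let f : I ⟶ ∏ᶜ J := Pi.lift (fun X => tau (Injective.ι (I.obj X)))
  have hf : Mono f := by
    rw [PresheafOfModules.mono_iff_surjective]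
    intro X
    rw [← ModuleCat.mono_iff_injective]
    have h : f.app X ≫ (Pi.π J X).app X ≫ evId = Injective.ι (I.obj X) := by
      rw [← Category.assoc, ← PresheafOfModules.comp_app, Pi.lift_π, tau_app_evId]
    exact mono_of_mono_fac h
  let r : ∏ᶜ J ⟶ I := Injective.factorThru (𝟙 I) f
  have hr : f ≫ r = 𝟙 I := Injective.comp_factorThru (𝟙 I) f
  intro y
  have hw : ∀ X : Cᵒᵖ, ∃ z : (J X).obj Y,
      res (J X) g z = (tau (Injective.ι (I.obj X)) : I ⟶ J X).app Y' y :=
    fun X => coind_res_surjective R X (Jm X) g _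
  choose z hz using hw
  obtain ⟨w, hw⟩ := pi_exists J Y z
  have key : res (∏ᶜ J) g w = f.app Y' y := by
    apply pi_ext J Y'
    intro X
    rw [res_naturality, hw, hz]
    have h1 : f ≫ Pi.π J X = tau (Injective.ι (I.obj X)) := Pi.lift_π _ _
    exact (congrArg (fun t => (PresheafOfModules.Hom.app t Y') y) h1).symm
  refine ⟨r.app Y w, ?_⟩
  rw [← res_naturality, key]
  exact congrArg (fun t => (PresheafOfModules.Hom.app t Y') y) hr

end Groth.Agent.H2.PshModCoind
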