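import Mathlib
import Groth.Prelude.Def_Adeq
import Groth.Agent.Lib.Helper2.AdeqDesc
import Groth.Agent.Lib.Helper2.AdeqSum
import Groth.Agent.Lib.Helper2.PshModCoind4

/-! # Descent of adequacy along a finite family of ring maps. -/

set_option autoImplicit false
universe u
open CategoryTheory CategoryTheory.Limits TensorProduct Adeq

namespace Groth.Agent.H2.AdeqDescFam

open Groth.Agent.H2.AdeqKer Groth.Agent.H2.AdeqCok Groth.Agent.H2.AdeqAb Groth.Agent.H2.AdeqRestr
  Groth.Agent.H2.AdeqPushF Groth.Agent.H2.AdeqTsze Groth.Agent.H2.AdeqDesc Groth.Agent.H2.AdeqSum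

variable {R : Type u} [CommRing R]

section Prod

variable {ι : Type (u + 1)} [Finite ι] (G : ι → MVF R)

theorem adequate_pi (hG : ∀ j, adequate R (G j)) : adequate R (∏ᶜ G) := by
  haveI : HasFiniteBiproducts (MVF R) := Abelian.hasFiniteBiproducts
  haveI : HasBiproductsOfShape ι (MVF R) := hasBiproductsOfShape_finite (MVF R)
  haveI : HasBiproduct G := HasBiproductsOfShape.has_biproduct G
  have h1 : adequate R (∐ G) :=
    adequate_cofan hG (Cofan.mk _ (Sigma.ι _)) (coproductIsCoproduct _)
  exact (adequate R).prop_of_iso ((biproduct.isoCoproduct G).symm ≪≫ biproduct.isoProduct G) h1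

theorem pi_ext' (Z : (Alg R)ᵒᵖᵒᵖ) (w w' : (∏ᶜ G).obj Z)
    (h : ∀ i, ((Pi.π G i).app Z).hom w = ((Pi.π G i).app Z).hom w') : w = w' := by
  haveI : PreservesLimit (Discrete.functor G)
      (PresheafOfModules.evaluation.{u + 1} (ringOf R) Z) :=
    PresheafOfModules.evaluation_preservesLimit _ _
  exact Groth.Agent.H2.PshModCoind.pi_ext G Z w w' h

theorem pi_exists' (Z : (Alg R)ᵒᵖᵒᵖ) (z : ∀ i, (G i).obj Z) :
    ∃ w : (∏ᶜ G).obj Z, ∀ i, ((Pi.π G i).app Z).hom w = z i := by
  haveI : PreservesLimit (Discrete.functor G)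
      (PresheafOfModules.evaluation.{u + 1} (ringOf R) Z) :=
    PresheafOfModules.evaluation_preservesLimit _ _
  exact Groth.Agent.H2.PshModCoind.pi_exists G Z z

end Prod

section Main

variable {ι : Type (u + 1)} [Finite ι] (B : ι → Type u) [∀ k, CommRing (B k)]
  [∀ k, Algebra R (B k)] (F : MVF R)

noncomputable abbrev Pobj : MVF R := ∏ᶜ fun k : ι => (T R (B k)).obj F

noncomputable abbrev Qobj : MVF R :=
  ∏ᶜ fun p : ι × ι => (T R (B p.2)).obj ((T R (B p.1)).obj F)

noncomputable def dmap : Pobj B F ⟶ Qobj B F :=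
  Pi.lift (fun p : ι × ι =>
    Pi.π (fun k : ι => (T R (B k)).obj F) p.1 ≫ eta R (B p.2) ((T R (B p.1)).obj F) -
      Pi.π (fun k : ι => (T R (B k)).obj F) p.2 ≫ (T R (B p.2)).map (eta R (B p.1) F))

noncomputable def amap : F ⟶ Pobj B F := Pi.lift (fun k => eta R (B k) F)

theorem amap_π_apply (k : ι) (C : Alg R) (x : F.obj (pt C)) :
    ((Pi.π (fun k : ι => (T R (B k)).obj F) k).app (pt C)).hom (((amap B F).app (pt C)).hom x) =
      mapFn F (Alg.unit R (B k) C) x := by
  have h : amap B F ≫ Pi.π (fun k : ι => (T R (B k)).obj F) k = eta R (B k) F := Pi.lift_π _ _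
  exact comp_app_apply h (pt C) x

theorem dmap_π_apply (p : ι × ι) (C : Alg R) (w : (Pobj B F).obj (pt C)) :
    ((Pi.π (fun p : ι × ι => (T R (B p.2)).obj ((T R (B p.1)).obj F)) p).app (pt C)).hom
        (((dmap B F).app (pt C)).hom w) =
      (mapFn F ((TA R (B p.1)).map (Alg.unit R (B p.2) C))
          (((Pi.π (fun k : ι => (T R (B k)).obj F) p.1).app (pt C)).hom w) :
        F.obj (pt ((TA R (B p.1)).obj ((TA R (B p.2)).obj C)))) -
      (mapFn F (Alg.unit R (B p.1) ((TA R (B p.2)).obj C))
          (((Pi.π (fun k : ι => (T R (B k)).obj F) p.2).app (pt C)).hom w) :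
        F.obj (pt ((TA R (B p.1)).obj ((TA R (B p.2)).obj C)))) := by
  have h : dmap B F ≫ Pi.π (fun p : ι × ι => (T R (B p.2)).obj ((T R (B p.1)).obj F)) p =
      Pi.π (fun k : ι => (T R (B k)).obj F) p.1 ≫ eta R (B p.2) ((T R (B p.1)).obj F) -
        Pi.π (fun k : ι => (T R (B k)).obj F) p.2 ≫ (T R (B p.2)).map (eta R (B p.1) F) :=
    Pi.lift_π _ _
  exact comp_app_apply h (pt C) w

/-- descent of adequacy along a finite family. -/
theorem adequate_of_descent_family
    (h₁ : ∀ k, adequate (B k) ((restr R (B k)).obj F))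
    (hinj : ∀ (C : Alg R) (x x' : F.obj (pt C)),
      (∀ k, mapFn F (Alg.unit R (B k) C) x = mapFn F (Alg.unit R (B k) C) x') → x = x')
    (hex : ∀ (C : Alg R) (y : ∀ k, F.obj (pt ((TA R (B k)).obj C))),
      (∀ k l, mapFn F ((TA R (B k)).map (Alg.unit R (B l) C)) (y k) =
        mapFn F (Alg.unit R (B k) ((TA R (B l)).obj C)) (y l)) →
      ∃ x : F.obj (pt C), ∀ k, mapFn F (Alg.unit R (B k) C) x = y k) :
    adequate R F := by
  have hT : ∀ k, adequate R ((T R (B k)).obj F) := fun k => adequate_push R (B k) _ (h₁ k)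
  have hTT : ∀ p : ι × ι, adequate R ((T R (B p.2)).obj ((T R (B p.1)).obj F)) := fun p =>
    adequate_push R (B p.2) _ (adequate_restr R (B p.2) _ (hT p.1))
  have hP : adequate R (Pobj B F) := adequate_pi _ hT
  have hQ : adequate R (Qobj B F) := adequate_pi _ hTT
  have hK : adequate R (kernel (dmap B F)) := adequate_kernel _ hP hQ
  have hz : amap B F ≫ dmap B F = 0 := by
    apply PresheafOfModules.hom_ext
    intro X
    apply ModuleCat.hom_ext
    apply LinearMap.ext
    intro x
    apply pi_ext'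
    intro p
    have hR : ((Pi.π (fun p : ι × ι => (T R (B p.2)).obj ((T R (B p.1)).obj F)) p).app X).hom
        (((0 : F ⟶ Qobj B F).app X).hom x) = 0 := by
      have h0 : ((0 : F ⟶ Qobj B F).app X).hom x = 0 := rfl
      rw [h0, map_zero]
    refine Eq.trans ?_ hR.symm
    have h1 := dmap_π_apply B F p X.unop.unop (((amap B F).app X).hom x)
    refine h1.trans ?_
    rw [amap_π_apply B F p.1 X.unop.unop x, amap_π_apply B F p.2 X.unop.unop x,
      ← mapFn_comp, ← mapFn_comp, ← unit_naturality, sub_self]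
    rfl
  let a : F ⟶ kernel (dmap B F) := kernel.lift _ (amap B F) hz
  have ha : a ≫ kernel.ι (dmap B F) = amap B F := kernel.lift_ι _ _ hz
  have : IsIso a := by
    apply isIso_of_bijective
    intro X
    constructor
    · intro x x' hxx'
      apply hinj X.unop.unop
      intro k
      rw [← amap_π_apply B F k X.unop.unop x, ← amap_π_apply B F k X.unop.unop x']
      have h1 := comp_app_apply ha X x
      have h2 := comp_app_apply ha X x'
      rw [hxx'] at h1
      have h3 : ((amap B F).app X).hom x = ((amap B F).app X).hom x' := h1.symm.trans h2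
      exact congrArg _ h3
    · intro κ
      let w : (Pobj B F).obj X := ((kernel.ι (dmap B F)).app X).hom κ
      have hw : ((dmap B F).app X).hom w = 0 := kernel_ι_app_comp _ X κ
      obtain ⟨x, hx⟩ := hex X.unop.unop
        (fun k => ((Pi.π (fun k : ι => (T R (B k)).obj F) k).app X).hom w) (by
          intro k l
          have h1 := dmap_π_apply B F (k, l) X.unop.unop w
          have h2 : ((dmap B F).app (pt X.unop.unop)).hom w = 0 := hw
          rw [h2, map_zero] at h1
          exact (sub_eq_zero.1 h1.symm))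
      refine ⟨x, kernel_ι_app_injective _ X ?_⟩
      refine (comp_app_apply ha X x).trans ?_
      apply pi_ext'
      intro k
      exact (amap_π_apply B F k X.unop.unop x).trans (hx k)
  exact (adequate R).prop_of_iso (asIso a).symm hK

end Main

end Groth.Agent.H2.AdeqDescFam
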