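import Mathlib
import Groth.Prelude.Def_Adeq2
import Groth.Agent.Lib.Helper2.Adeq2Tr
import Groth.Agent.Lib.Helper2.Adeq2Cov
import Groth.Agent.Lib.Helper2.Adeq2Ref
import Groth.Agent.Lib.Helper2.AdeqDescFam

/-! # Adequate modules on a big site restrict to adequate functors on every affine object. -/

set_option autoImplicit false
universe u
open CategoryTheory CategoryTheory.Limits AlgebraicGeometry Opposite Adeq

namespace Groth.Agent.H2.Adeq2Main

open Groth.Agent.H2.Adeq2Tr Groth.Agent.H2.Adeq2Cov Groth.Agent.H2.Adeq2Ref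
  Groth.Agent.H2.AdeqDescFam Groth.Agent.H2.AdeqRestr

theorem adequate_of_adequateMod (K : Precoverage Scheme.{u}) [BigSite.OSh K]
    [K.IsStableUnderBaseChange] (href : Refines K)
    (S : Scheme.{u}) (M : BigSite.Mod K S) (hM : adequateMod K S M) (R : CommRingCat.{u})
    (a : Spec R ⟶ S) : adequate R ((toMVF K a).obj M) := by
  obtain ⟨ι, R', a', hcov, hadq⟩ := hM
  obtain ⟨κ, hκ, B, φ, i, g, hg, hcovB⟩ := href _ a' hcov R a
  let _ : ∀ k : κ, Algebra R (B k) := fun k => (φ k).hom.toAlgebra
  apply adequate_of_descent_family (fun k => B k) ((toMVF K a).obj M)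
  · intro k
    have hb : Spec.map (Spec.preimage (g k)) ≫ a' (i k) = Spec.map (φ k) ≫ a := by
      rw [Spec.map_preimage]
      exact (hg k).symm
    have h1 : adequate (B k)
        ((@restr (R' (i k)) _ (B k) _ (Spec.preimage (g k)).hom.toAlgebra).obj
          ((toMVF K (a' (i k))).obj M)) :=
      @adequate_restr _ _ _ _ (Spec.preimage (g k)).hom.toAlgebra _ (hadq _)
    have h2 := (adequate_iff_restr (Spec.preimage (g k)) (a' (i k)) _ hb K M).2 h1
    exact (adequate_iff_restr (φ k) a _ rfl K M).1 h2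
  · exact hinj (fun k => B k) K a M hcovB
  · exact hex (fun k => B k) K a M hcovB

end Groth.Agent.H2.Adeq2Main
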