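import Mathlib
import Groth.Prelude.Def_Adeq2

set_option autoImplicit false
universe w u
open CategoryTheory CategoryTheory.Limits AlgebraicGeometry Opposite

namespace Groth.Agent.H2.AdeqFFPi

theorem flat_pi {R : Type u} [CommRing R] {κ : Type w} [Finite κ] (B : κ → Type u)
    [∀ k, CommRing (B k)] [∀ k, Algebra R (B k)] (h : ∀ k, Module.Flat R (B k)) :
    Module.Flat R (∀ k, B k) := by
  classical
  have := Fintype.ofFinite κ
  exact Module.Flat.of_linearEquiv (DFinsupp.linearEquivFunOnFintype (R := R) (M := B)).symm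

set_option backward.isDefEq.respectTransparency.types false in
theorem faithfullyFlat_pi_of_cover {R : CommRingCat.{u}} {κ : Type w} [Finite κ] (B : κ → Type u)
    [∀ k, CommRing (B k)] [∀ k, Algebra R (B k)]
    (hcov : Presieve.ofArrows (fun k => Spec (CommRingCat.of (B k)))
      (fun k => Spec.map (CommRingCat.ofHom (algebraMap R (B k)))) ∈
        Scheme.fppfPrecoverage.coverings (Spec R)) :
    Module.FaithfullyFlat R (∀ k, B k) := by
  have h' : Presieve.ofArrows (fun k => Spec (CommRingCat.of (B k)))
      (fun k => Spec.map (CommRingCat.ofHom (algebraMap R (B k)))) ∈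
        Scheme.precoverage (@Flat ⊓ @LocallyOfFinitePresentation) (Spec R) := hcov
  rw [Scheme.ofArrows_mem_precoverage_iff] at h'
  obtain ⟨hsurj, hP⟩ := h'
  have hflat : ∀ k, Module.Flat R (B k) := by
    intro k
    have h1 : Flat (Spec.map (CommRingCat.ofHom (algebraMap R (B k)))) := (hP k).1
    rw [Flat.SpecMap_iff] at h1
    exact (RingHom.flat_algebraMap_iff).1 h1
  have := flat_pi B hflat
  apply Module.FaithfullyFlat.of_comap_surjective
  intro p
  obtain ⟨k, q, hq⟩ := hsurj p
  refine ⟨PrimeSpectrum.comap (Pi.evalRingHom B k) q, ?_⟩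
  rw [← hq]
  rfl

end Groth.Agent.H2.AdeqFFPi
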