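import Mathlib

/-! # Faithfully flat descent for elements of `S ⊗ M` (any module `M`). -/

set_option autoImplicit false
open TensorProduct

namespace Groth.Agent.H2.FFModDesc

universe u v w
variable (R : Type u) [CommRing R] (S : Type v) [CommRing S] [Algebra R S]
  (M : Type w) [AddCommGroup M] [Module R M]

/-- `m ↦ 1 ⊗ m`. -/
noncomputable abbrev e : M →ₗ[R] S ⊗[R] M := TensorProduct.mk R S M 1

/-- `s ⊗ m ↦ (s ⊗ 1 - 1 ⊗ s) ⊗ m`. -/
noncomputable abbrev d : S ⊗[R] M →ₗ[R] (S ⊗[R] S) ⊗[R] M :=
  (Algebra.TensorProduct.includeLeftSubRight R S).rTensor M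

theorem d_e (m : M) : d R S M (e R S M m) = 0 := by
  simp [e, d, Algebra.TensorProduct.includeLeftSubRight_apply]

/-- the action map `S ⊗ X → X`. -/
noncomputable def act (X : Type*) [AddCommGroup X] [Module R X] [Module S X]
    [IsScalarTower R S X] : S ⊗[R] X →ₗ[R] X :=
  TensorProduct.lift ((Algebra.lsmul R R X : S →ₐ[R] Module.End R X).toLinearMap)

theorem act_tmul (X : Type*) [AddCommGroup X] [Module R X] [Module S X]
    [IsScalarTower R S X] (s : S) (x : X) : act R S X (s ⊗ₜ[R] x) = s • x := by
  simp [act]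

theorem key (z : S ⊗[R] (S ⊗[R] M)) :
    (TensorProduct.assoc R S S M) (act R S ((S ⊗[R] S) ⊗[R] M) ((d R S M).lTensor S z)) =
      (e R S M).lTensor S (act R S (S ⊗[R] M) z) - z := by
  induction z using TensorProduct.induction_on with
  | zero => simp
  | add x y hx hy => simp only [map_add, hx, hy]; abel
  | tmul b' x =>
    induction x using TensorProduct.induction_on with
    | zero => simp
    | add x y hx hy =>
      simp only [tmul_add, map_add, hx, hy]; abel
    | tmul b m =>
      simp only [LinearMap.lTensor_tmul, LinearMap.rTensor_tmul, act_tmul,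
        Algebra.TensorProduct.includeLeftSubRight_apply, TensorProduct.smul_tmul', sub_tmul,
        smul_sub, map_sub, TensorProduct.assoc_tmul, smul_eq_mul, mul_one, TensorProduct.mk_apply]

theorem exact_lTensor : Function.Exact ((e R S M).lTensor S) ((d R S M).lTensor S) := by
  intro z
  constructor
  · intro hz
    refine ⟨act R S (S ⊗[R] M) z, ?_⟩
    have h := key R S M z
    rw [hz, map_zero, map_zero] at h
    exact sub_eq_zero.1 h.symm
  · rintro ⟨y, rfl⟩
    rw [← LinearMap.comp_apply, ← LinearMap.lTensor_comp]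
    have h0 : (d R S M) ∘ₗ (e R S M) = 0 := LinearMap.ext (d_e R S M)
    rw [h0, LinearMap.lTensor_zero, LinearMap.zero_apply]

theorem exact [Module.FaithfullyFlat R S] : Function.Exact (e R S M) (d R S M) :=
  (Module.FaithfullyFlat.lTensor_exact_iff_exact R S _ _).1 (exact_lTensor R S M)

/-- faithfully flat descent for elements of `S ⊗ M`. -/
theorem exists_of_rTensor_eq [Module.FaithfullyFlat R S] (x : S ⊗[R] M)
    (h : (Algebra.TensorProduct.includeLeft : S →ₐ[R] S ⊗[R] S).toLinearMap.rTensor M x =
      (Algebra.TensorProduct.includeRight : S →ₐ[R] S ⊗[R] S).toLinearMap.rTensor M x) :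
    ∃ m : M, (1 : S) ⊗ₜ[R] m = x := by
  have hx : d R S M x = 0 := by
    rw [d, Algebra.TensorProduct.includeLeftSubRight, LinearMap.rTensor_sub, LinearMap.sub_apply, h,
      sub_self]
  obtain ⟨m, hm⟩ := (exact R S M x).1 hx
  exact ⟨m, hm⟩

end Groth.Agent.H2.FFModDesc
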