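import Mathlib
import Groth.Prelude.Def_Adeq
import Groth.Agent.Lib.Helper2.FFModDesc
import Groth.Agent.Lib.Helper2.AdeqKer
import Groth.Agent.Lib.Helper2.AdeqTsze
import Groth.Agent.Lib.Helper2.AdeqAb

/-! # Faithfully flat descent for adequate functors. -/

set_option autoImplicit false
universe u
open CategoryTheory CategoryTheory.Limits TensorProduct Adeq

namespace Groth.Agent.H2.AdeqFF

open Groth.Agent.H2.AdeqKer Groth.Agent.H2.AdeqTsze Groth.Agent.H2.AdeqAb

variable {A : Type u} [CommRing A]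

theorem mapFn_underline (M : ModuleCat.{u + 1} A) {C C' : Alg A} (f : C ⟶ C') (w : C ⊗[A] M) :
    mapFn ((underline A).obj M) f w = (f.hom.toLinearMap.rTensor M) w := rfl

theorem underline_map_app {M N : ModuleCat.{u + 1} A} (φ : M ⟶ N) (C : Alg A) (w : C ⊗[A] M) :
    (((underline A).map φ).app (pt C)).hom w = (φ.hom.baseChange C) w := rfl

variable (B : Type u) [CommRing B] [Algebra A B]

/-- the structure map as a morphism of algebras. -/
abbrev f₀ : algOf A A ⟶ algOf A B := CommAlgCat.ofHom (Algebra.ofId A B)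

abbrev i₁ : algOf A B ⟶ algOf A (B ⊗[A] B) :=
  CommAlgCat.ofHom (Algebra.TensorProduct.includeLeft : B →ₐ[A] B ⊗[A] B)

abbrev i₂ : algOf A B ⟶ algOf A (B ⊗[A] B) :=
  CommAlgCat.ofHom (Algebra.TensorProduct.includeRight : B →ₐ[A] B ⊗[A] B)

theorem rTensor_ofId (M : Type (u + 1)) [AddCommGroup M] [Module A M] (v : A ⊗[A] M) :
    (Algebra.ofId A B).toLinearMap.rTensor M v = (1 : B) ⊗ₜ[A] (TensorProduct.lid A M v) := by
  induction v using TensorProduct.induction_on with
  | zero => simp
  | add y₁ y₂ h₁ h₂ => rw [map_add, map_add, TensorProduct.tmul_add, h₁, h₂]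
  | tmul r m =>
    rw [LinearMap.rTensor_tmul, TensorProduct.lid_tmul, AlgHom.toLinearMap_apply,
      Algebra.ofId_apply, Algebra.algebraMap_eq_smul_one, TensorProduct.smul_tmul]

theorem rTensor_ofId_injective [Module.FaithfullyFlat A B] (M : Type (u + 1)) [AddCommGroup M]
    [Module A M] : Function.Injective ((Algebra.ofId A B).toLinearMap.rTensor M) := by
  intro v v' h
  rw [rTensor_ofId, rTensor_ofId] at h
  have h2 := Module.FaithfullyFlat.tensorProduct_mk_injective (A := A) (B := B) M h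
  exact (TensorProduct.lid A M).injective h2

theorem ff_descent (F : MVF A) (hF : adequate A F) [Module.FaithfullyFlat A B] :
    Function.Injective (mapFn F (f₀ B)) ∧
      ∀ y : F.obj (pt (algOf A B)), mapFn F (i₁ B) y = mapFn F (i₂ B) y →
        ∃ x : F.obj (pt (algOf A A)), mapFn F (f₀ B) x = y := by
  obtain ⟨M, N, φ, ⟨i⟩⟩ := hF
  let Φ := (underline A).map φ
  let ι : F ⟶ (underline A).obj M := i.hom ≫ kernel.ι Φ
  have hι : ∀ X, Function.Injective ((ι.app X).hom) := by
    intro X
    have : Mono ι := mono_comp _ _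
    exact PresheafOfModules.injective_of_mono ι X
  have hιΦ : ∀ X (x : F.obj X), (Φ.app X).hom ((ι.app X).hom x) = 0 := by
    intro X x
    exact kernel_ι_app_comp Φ X ((i.hom.app X).hom x)
  have hker : ∀ X (w : ((underline A).obj M).obj X), (Φ.app X).hom w = 0 →
      ∃ x : F.obj X, (ι.app X).hom x = w := by
    intro X w hw
    obtain ⟨z, hz⟩ := exists_of_app_eq_zero Φ X w hw
    refine ⟨(i.inv.app X).hom z, ?_⟩
    have e1 : i.inv ≫ ι = kernel.ι Φ := Iso.inv_hom_id_assoc i _
    exact (comp_app_apply e1 X z).trans hz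
  have hinjM : Function.Injective (mapFn ((underline A).obj M) (f₀ B)) :=
    rTensor_ofId_injective B M
  have hinjN : Function.Injective (mapFn ((underline A).obj N) (f₀ B)) :=
    rTensor_ofId_injective B N
  constructor
  · intro x x' h
    apply hι
    apply hinjM
    rw [← mapFn_nat, ← mapFn_nat, h]
  · intro y hy
    have hw : mapFn ((underline A).obj M) (i₁ B) ((ι.app _).hom y) =
        mapFn ((underline A).obj M) (i₂ B) ((ι.app _).hom y) := by
      rw [← mapFn_nat, ← mapFn_nat, hy]
    obtain ⟨m, hm⟩ := Groth.Agent.H2.FFModDesc.exists_of_rTensor_eq A B M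
      ((ι.app (pt (algOf A B))).hom y) hw
    let v : ((underline A).obj M).obj (pt (algOf A A)) := ((1 : A) ⊗ₜ[A] m : A ⊗[A] M)
    have hv : mapFn ((underline A).obj M) (f₀ B) v = (ι.app (pt (algOf A B))).hom y := by
      refine Eq.trans ?_ hm
      show (Algebra.ofId A B).toLinearMap.rTensor M ((1 : A) ⊗ₜ[A] m) = (1 : B) ⊗ₜ[A] m
      rw [LinearMap.rTensor_tmul, AlgHom.toLinearMap_apply, map_one]
    have hΦv : (Φ.app (pt (algOf A A))).hom v = 0 := by
      apply hinjN
      rw [← mapFn_nat, hv, hιΦ, mapFn_zero]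
    obtain ⟨x, hx⟩ := hker _ v hΦv
    refine ⟨x, hι _ ?_⟩
    rw [mapFn_nat, hx, hv]

end Groth.Agent.H2.AdeqFF
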