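import Mathlib
import Groth.Prelude.Def_Adeq
import Groth.Agent.Lib.Helper2.AdeqFF

/-! # Faithfully flat descent for adequate functors along a finite family of algebras. -/

set_option autoImplicit false
universe w v u
open CategoryTheory CategoryTheory.Limits TensorProduct Adeq

namespace Groth.Agent.H2.AdeqFFam

open Groth.Agent.H2.AdeqKer Groth.Agent.H2.AdeqTsze Groth.Agent.H2.AdeqAb Groth.Agent.H2.AdeqFF

section ModuleLevel

variable {A : Type u} [CommRing A] {κ : Type w} [Fintype κ] [DecidableEq κ]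
  (Bs : κ → Type u) [∀ k, CommRing (Bs k)] [∀ k, Algebra A (Bs k)]
  (M : Type v) [AddCommGroup M] [Module A M]

/-- evaluation `∏ B → B_k`. -/
abbrev ev (k : κ) : (∀ k, Bs k) →ₐ[A] Bs k := Pi.evalAlgHom A Bs k

/-- `B_k → ∏ B`. -/
abbrev sg (k : κ) : Bs k →ₗ[A] (∀ k, Bs k) := LinearMap.single A Bs k

omit [Fintype κ] in
theorem ev_sg_same (k : κ) (w : Bs k ⊗[A] M) :
    (ev Bs k).toLinearMap.rTensor M ((sg Bs k).rTensor M w) = w := by
  rw [← LinearMap.rTensor_comp_apply]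
  have h : (ev (A := A) Bs k).toLinearMap ∘ₗ sg (A := A) Bs k = LinearMap.id := by
    ext b
    simp [ev, sg]
  rw [h, LinearMap.rTensor_id, LinearMap.id_apply]

omit [Fintype κ] in
theorem ev_sg_ne {j k : κ} (h : j ≠ k) (w : Bs j ⊗[A] M) :
    (ev Bs k).toLinearMap.rTensor M ((sg Bs j).rTensor M w) = 0 := by
  rw [← LinearMap.rTensor_comp_apply]
  have h' : (ev (A := A) Bs k).toLinearMap ∘ₗ sg (A := A) Bs j = 0 := by
    ext b
    simp [ev, sg, Pi.single_eq_of_ne' h]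
  rw [h', LinearMap.rTensor_zero, LinearMap.zero_apply]

/-- the glued element of `(∏ B) ⊗ M`. -/
noncomputable def glue (y : ∀ k, Bs k ⊗[A] M) : (∀ k, Bs k) ⊗[A] M :=
  ∑ k, (sg Bs k).rTensor M (y k)

theorem ev_glue (y : ∀ k, Bs k ⊗[A] M) (k : κ) :
    (ev Bs k).toLinearMap.rTensor M (glue Bs M y) = y k := by
  rw [glue, map_sum, Finset.sum_eq_single k]
  · exact ev_sg_same Bs M k (y k)
  · intro j _ hj
    exact ev_sg_ne Bs M hj (y j)
  · intro h
    exact absurd (Finset.mem_univ k) h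

theorem one_tmul_eq_sum (m : M) :
    (1 : ∀ k, Bs k) ⊗ₜ[A] m = ∑ k, (sg Bs k).rTensor M ((1 : Bs k) ⊗ₜ[A] m) := by
  have h1 : (1 : ∀ k, Bs k) = ∑ k, Pi.single k (1 : Bs k) := by
    ext i
    simp
  conv_lhs => rw [h1]
  rw [TensorProduct.sum_tmul]
  rfl

theorem d1m [Module.FaithfullyFlat A (∀ k, Bs k)] (m m' : M)
    (h : ∀ k, (1 : Bs k) ⊗ₜ[A] m = (1 : Bs k) ⊗ₜ[A] m') : m = m' := by
  apply Module.FaithfullyFlat.tensorProduct_mk_injective (A := A) (B := ∀ k, Bs k) M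
  show (1 : ∀ k, Bs k) ⊗ₜ[A] m = (1 : ∀ k, Bs k) ⊗ₜ[A] m'
  rw [one_tmul_eq_sum, one_tmul_eq_sum]
  exact Finset.sum_congr rfl (fun k _ => by rw [h k])

/-- joint injectivity of the maps `(∏B ⊗ ∏B) ⊗ M → (B_k ⊗ B_l) ⊗ M`. -/
theorem double_ext (z z' : ((∀ k, Bs k) ⊗[A] (∀ k, Bs k)) ⊗[A] M)
    (h : ∀ k l, (Algebra.TensorProduct.map (ev Bs k) (ev Bs l)).toLinearMap.rTensor M z =
      (Algebra.TensorProduct.map (ev Bs k) (ev Bs l)).toLinearMap.rTensor M z') : z = z' := by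
  let T : ((∀ k, Bs k) ⊗[A] (∀ k, Bs k)) ⊗[A] M →ₗ[A]
      ((∀ k, Bs k) ⊗[A] (∀ k, Bs k)) ⊗[A] M :=
    ∑ k, ∑ l, (TensorProduct.map (sg Bs k) (sg Bs l)).rTensor M ∘ₗ
      (Algebra.TensorProduct.map (ev Bs k) (ev Bs l)).toLinearMap.rTensor M
  have hz : ∀ t, T t = ∑ k, ∑ l, (TensorProduct.map (sg Bs k) (sg Bs l)).rTensor M
      ((Algebra.TensorProduct.map (ev Bs k) (ev Bs l)).toLinearMap.rTensor M t) := by
    intro t
    simp only [T, LinearMap.sum_apply, LinearMap.comp_apply]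
  have hT : T = LinearMap.id := by
    apply TensorProduct.ext_threefold
    intro b b' m
    rw [hz, LinearMap.id_apply]
    have e : ∀ k l, (TensorProduct.map (sg Bs k) (sg Bs l)).rTensor M
        ((Algebra.TensorProduct.map (ev Bs k) (ev Bs l)).toLinearMap.rTensor M
          ((b ⊗ₜ[A] b') ⊗ₜ[A] m)) =
        ((Pi.single k (b k) : ∀ k, Bs k) ⊗ₜ[A] (Pi.single l (b' l) : ∀ k, Bs k)) ⊗ₜ[A] m := by
      intro k l
      rfl
    simp_rw [e]
    have hb : ∑ k, (Pi.single k (b k) : ∀ k, Bs k) = b := by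
      ext i
      simp
    have hb' : ∑ l, (Pi.single l (b' l) : ∀ k, Bs k) = b' := by
      ext i
      simp
    simp_rw [← TensorProduct.sum_tmul, ← TensorProduct.tmul_sum, ← TensorProduct.sum_tmul]
    rw [hb, hb']
  calc z = T z := by rw [hT, LinearMap.id_apply]
    _ = T z' := by
      rw [hz, hz]
      exact Finset.sum_congr rfl (fun k _ => Finset.sum_congr rfl (fun l _ => by rw [h k l]))
    _ = z' := by rw [hT, LinearMap.id_apply]

theorem d2m [Module.FaithfullyFlat A (∀ k, Bs k)] (y : ∀ k, Bs k ⊗[A] M)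
    (h : ∀ k l,
      (Algebra.TensorProduct.includeLeft : Bs k →ₐ[A] Bs k ⊗[A] Bs l).toLinearMap.rTensor M (y k) =
      (Algebra.TensorProduct.includeRight : Bs l →ₐ[A] Bs k ⊗[A] Bs l).toLinearMap.rTensor M
        (y l)) :
    ∃ m : M, ∀ k, (1 : Bs k) ⊗ₜ[A] m = y k := by
  have hY : (Algebra.TensorProduct.includeLeft :
        (∀ k, Bs k) →ₐ[A] (∀ k, Bs k) ⊗[A] (∀ k, Bs k)).toLinearMap.rTensor M (glue Bs M y) =
      (Algebra.TensorProduct.includeRight :
        (∀ k, Bs k) →ₐ[A] (∀ k, Bs k) ⊗[A] (∀ k, Bs k)).toLinearMap.rTensor M (glue Bs M y) := by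
    apply double_ext
    intro k l
    rw [← LinearMap.rTensor_comp_apply, ← LinearMap.rTensor_comp_apply,
      ← AlgHom.comp_toLinearMap, ← AlgHom.comp_toLinearMap,
      Algebra.TensorProduct.map_comp_includeLeft, Algebra.TensorProduct.map_comp_includeRight,
      AlgHom.comp_toLinearMap, AlgHom.comp_toLinearMap, LinearMap.rTensor_comp_apply,
      LinearMap.rTensor_comp_apply, ev_glue, ev_glue]
    exact h k l
  obtain ⟨m, hm⟩ := Groth.Agent.H2.FFModDesc.exists_of_rTensor_eq A (∀ k, Bs k) M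
    (glue Bs M y) hY
  refine ⟨m, fun k => ?_⟩
  have h2 := congrArg ((ev Bs k).toLinearMap.rTensor M) hm
  rw [ev_glue] at h2
  rw [← h2, LinearMap.rTensor_tmul, AlgHom.toLinearMap_apply, map_one]

end ModuleLevel

section Functor

variable {A : Type u} [CommRing A] {κ : Type w} [Fintype κ] [DecidableEq κ]
  (Bs : κ → Type u) [∀ k, CommRing (Bs k)] [∀ k, Algebra A (Bs k)]

/-- `B_k → B_k ⊗ B_l`. -/
abbrev j₁ (k l : κ) : algOf A (Bs k) ⟶ algOf A (Bs k ⊗[A] Bs l) :=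
  CommAlgCat.ofHom (Algebra.TensorProduct.includeLeft : Bs k →ₐ[A] Bs k ⊗[A] Bs l)

/-- `B_l → B_k ⊗ B_l`. -/
abbrev j₂ (k l : κ) : algOf A (Bs l) ⟶ algOf A (Bs k ⊗[A] Bs l) :=
  CommAlgCat.ofHom (Algebra.TensorProduct.includeRight : Bs l →ₐ[A] Bs k ⊗[A] Bs l)

theorem joint_inj [Module.FaithfullyFlat A (∀ k, Bs k)] (M : ModuleCat.{u + 1} A)
    (v v' : ((underline A).obj M).obj (pt (algOf A A)))
    (h : ∀ k, mapFn ((underline A).obj M) (f₀ (Bs k)) v =
      mapFn ((underline A).obj M) (f₀ (Bs k)) v') : v = v' := by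
  have h' : ∀ k, (1 : Bs k) ⊗ₜ[A] (TensorProduct.lid A M v) =
      (1 : Bs k) ⊗ₜ[A] (TensorProduct.lid A M v') := by
    intro k
    exact ((rTensor_ofId (Bs k) M v).symm.trans (h k)).trans (rTensor_ofId (Bs k) M v')
  exact (TensorProduct.lid A M).injective (d1m Bs M _ _ h')

theorem ff_descent_family (F : MVF A) (hF : adequate A F)
    [Module.FaithfullyFlat A (∀ k, Bs k)] :
    (∀ x x' : F.obj (pt (algOf A A)),
      (∀ k, mapFn F (f₀ (Bs k)) x = mapFn F (f₀ (Bs k)) x') → x = x') ∧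
    (∀ y : ∀ k, F.obj (pt (algOf A (Bs k))),
      (∀ k l, mapFn F (j₁ Bs k l) (y k) = mapFn F (j₂ Bs k l) (y l)) →
        ∃ x : F.obj (pt (algOf A A)), ∀ k, mapFn F (f₀ (Bs k)) x = y k) := by
  obtain ⟨M, N, φ, ⟨i⟩⟩ := hF
  let Φ := (underline A).map φ
  let ι : F ⟶ (underline A).obj M := i.hom ≫ kernel.ι Φ
  have hι : ∀ X, Function.Injective ((ι.app X).hom) := by
    intro X
    have : Mono ι := mono_comp _ _
    exact PresheafOfModules.injective_of_mono ι X
  have hιΦ : ∀ X (x : F.obj X), (Φ.app X).hom ((ι.app X).hom x) = 0 := by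
    intro X x
    exact kernel_ι_app_comp Φ X ((i.hom.app X).hom x)
  have hker : ∀ X (w : ((underline A).obj M).obj X), (Φ.app X).hom w = 0 →
      ∃ x : F.obj X, (ι.app X).hom x = w := by
    intro X w hw
    obtain ⟨z, hz⟩ := exists_of_app_eq_zero Φ X w hw
    refine ⟨(i.inv.app X).hom z, ?_⟩
    have e1 : i.inv ≫ ι = kernel.ι Φ := Iso.inv_hom_id_assoc i _
    exact (comp_app_apply e1 X z).trans hz
  constructor
  · intro x x' h
    apply hι
    apply joint_inj Bs M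
    intro k
    rw [← mapFn_nat, ← mapFn_nat, h k]
  · intro y hy
    have hw : ∀ k l,
        (Algebra.TensorProduct.includeLeft : Bs k →ₐ[A] Bs k ⊗[A] Bs l).toLinearMap.rTensor M
          ((ι.app (pt (algOf A (Bs k)))).hom (y k)) =
        (Algebra.TensorProduct.includeRight : Bs l →ₐ[A] Bs k ⊗[A] Bs l).toLinearMap.rTensor M
          ((ι.app (pt (algOf A (Bs l)))).hom (y l)) := by
      intro k l
      have h1 : mapFn ((underline A).obj M) (j₁ Bs k l) ((ι.app _).hom (y k)) =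
          mapFn ((underline A).obj M) (j₂ Bs k l) ((ι.app _).hom (y l)) := by
        rw [← mapFn_nat, ← mapFn_nat, hy k l]
      exact h1
    obtain ⟨m, hm⟩ := d2m Bs M (fun k => (ι.app (pt (algOf A (Bs k)))).hom (y k)) hw
    let v : ((underline A).obj M).obj (pt (algOf A A)) := ((1 : A) ⊗ₜ[A] m : A ⊗[A] M)
    have hv : ∀ k, mapFn ((underline A).obj M) (f₀ (Bs k)) v =
        (ι.app (pt (algOf A (Bs k)))).hom (y k) := by
      intro k
      refine Eq.trans ?_ (hm k)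
      show (Algebra.ofId A (Bs k)).toLinearMap.rTensor M ((1 : A) ⊗ₜ[A] m) = (1 : Bs k) ⊗ₜ[A] m
      rw [LinearMap.rTensor_tmul, AlgHom.toLinearMap_apply, map_one]
    have hΦv : (Φ.app (pt (algOf A A))).hom v = 0 := by
      apply joint_inj Bs N
      intro k
      rw [← mapFn_nat, hv, hιΦ, mapFn_zero]
    obtain ⟨x, hx⟩ := hker _ v hΦv
    refine ⟨x, fun k => hι _ ?_⟩
    rw [mapFn_nat, hx, hv]

end Functor

end Groth.Agent.H2.AdeqFFam
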