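import Mathlib

/-! # A locally bijective map to a separated presheaf is bijective on objects where the source
satisfies descent for a cofinal system of coverings. -/

set_option autoImplicit false
universe w v' v u
open CategoryTheory Opposite

namespace Groth.Agent.H2.LocBij

variable {C : Type u} [Category.{v} C] (J : GrothendieckTopology C)
  {P Q : Cᵒᵖ ⥤ Type v'} (η : P ⟶ Q)

/-- descent data for `P` over `U` refining the sieve `𝒮`, with members in the class `A`. -/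
structure Good (A : C → Prop) (U : C) (𝒮 : Sieve U) : Prop where
  ex : ∃ (κ : Type w) (V : κ → C) (π : ∀ k, V k ⟶ U) (W : κ → κ → C)
    (p₁ : ∀ k l, W k l ⟶ V k) (p₂ : ∀ k l, W k l ⟶ V l),
    (∀ k l, A (W k l)) ∧ (∀ k, 𝒮 (π k)) ∧ (∀ k l, p₁ k l ≫ π k = p₂ k l ≫ π l) ∧
    Sieve.ofArrows V π ∈ J U ∧
    (∀ x x' : P.obj (op U), (∀ k, P.map (π k).op x = P.map (π k).op x') → x = x') ∧
    (∀ y : ∀ k, P.obj (op (V k)),
      (∀ k l, P.map (p₁ k l).op (y k) = P.map (p₂ k l).op (y l)) →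
        ∃ x : P.obj (op U), ∀ k, P.map (π k).op x = y k)

theorem nat_apply {X Y : Cᵒᵖ} (f : X ⟶ Y) (x : P.obj X) :
    η.app Y (P.map f x) = Q.map f (η.app X x) :=
  NatTrans.naturality_apply η f x

theorem injective_of_good (A : C → Prop)
    (hLI : ∀ (U : C) (x x' : P.obj (op U)), η.app _ x = η.app _ x' →
      ∃ 𝒮 : Sieve U, 𝒮 ∈ J U ∧ ∀ ⦃V : C⦄ (f : V ⟶ U), 𝒮 f → P.map f.op x = P.map f.op x')
    (hgood : ∀ (U : C), A U → ∀ 𝒮 : Sieve U, 𝒮 ∈ J U → Good.{w} J (P := P) A U 𝒮)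
    (U : C) (hU : A U) : Function.Injective (η.app (op U)) := by
  intro x x' hx
  obtain ⟨𝒮, h𝒮, hloc⟩ := hLI U x x' hx
  obtain ⟨κ, V, π, W, p₁, p₂, -, hπ, -, -, hD1, -⟩ := (hgood U hU 𝒮 h𝒮).ex
  exact hD1 x x' (fun k => hloc (π k) (hπ k))

theorem bijective_of_good (A : C → Prop)
    (hLI : ∀ (U : C) (x x' : P.obj (op U)), η.app _ x = η.app _ x' →
      ∃ 𝒮 : Sieve U, 𝒮 ∈ J U ∧ ∀ ⦃V : C⦄ (f : V ⟶ U), 𝒮 f → P.map f.op x = P.map f.op x')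
    (hLS : ∀ (U : C) (y : Q.obj (op U)),
      ∃ 𝒮 : Sieve U, 𝒮 ∈ J U ∧ ∀ ⦃V : C⦄ (f : V ⟶ U), 𝒮 f → ∃ x, η.app _ x = Q.map f.op y)
    (hsep : ∀ (U : C) (𝒮 : Sieve U), 𝒮 ∈ J U → ∀ y y' : Q.obj (op U),
      (∀ ⦃V : C⦄ (f : V ⟶ U), 𝒮 f → Q.map f.op y = Q.map f.op y') → y = y')
    (hgood : ∀ (U : C), A U → ∀ 𝒮 : Sieve U, 𝒮 ∈ J U → Good.{w} J (P := P) A U 𝒮)
    (U : C) (hU : A U) : Function.Bijective (η.app (op U)) := by
  refine ⟨injective_of_good J η A hLI hgood U hU, ?_⟩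
  intro y
  obtain ⟨𝒮, h𝒮, hloc⟩ := hLS U y
  obtain ⟨κ, V, π, W, p₁, p₂, hW, hπ, hcomm, hcov, -, hD2⟩ := (hgood U hU 𝒮 h𝒮).ex
  choose x hx using fun k => hloc (π k) (hπ k)
  have hcompat : ∀ k l, P.map (p₁ k l).op (x k) = P.map (p₂ k l).op (x l) := by
    intro k l
    apply injective_of_good J η A hLI hgood (W k l) (hW k l)
    rw [nat_apply, nat_apply, hx k, hx l, ← Functor.map_comp_apply,
      ← Functor.map_comp_apply, ← op_comp, ← op_comp, hcomm k l]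
  obtain ⟨x₀, hx₀⟩ := hD2 x hcompat
  refine ⟨x₀, ?_⟩
  apply hsep U _ hcov
  rintro V' f ⟨Y, g, _, ⟨k⟩, rfl⟩
  rw [op_comp, Functor.map_comp_apply, Functor.map_comp_apply, ← nat_apply,
    hx₀ k, hx k]

end Groth.Agent.H2.LocBij
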