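import Mathlib
import Groth.Prelude.Def_Adeq2
import Groth.Agent.Lib.Helper2.Adeq2Cov
import Groth.Agent.Lib.Helper2.AdeqFFam
import Groth.Agent.Lib.Helper2.AdeqFFPi
import Groth.Agent.Lib.Helper2.LocBij

/-! # Descent data on affine objects of the big fppf site for presheaves of modules with
adequate associated functors. -/

set_option autoImplicit false
universe w u
open CategoryTheory CategoryTheory.Limits AlgebraicGeometry Opposite Adeq TensorProduct

namespace Groth.Agent.H2.Adeq2Good

open Groth.Agent.H2.AdeqTsze Groth.Agent.H2.Adeq2Cov Groth.Agent.H2.AdeqFF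
  Groth.Agent.H2.AdeqFFam Groth.Agent.H2.AdeqFFPi

/-- refinement of a covering family of an affine scheme by a finite affine family. -/
theorem exists_refinement_id (P : MorphismProperty Scheme.{u}) [P.IsStableUnderComposition]
    (hopen : ∀ {X Y : Scheme.{u}} (f : X ⟶ Y), P f → IsOpenMap f)
    (himm : ∀ {X Y : Scheme.{u}} (f : X ⟶ Y), IsOpenImmersion f → P f)
    {ι : Type w} (C : CommRingCat.{u}) (X : ι → Scheme.{u}) (f : ∀ i, X i ⟶ Spec C)
    (hcov : Presieve.ofArrows X f ∈ (Scheme.precoverage P).coverings (Spec C)) :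
    ∃ (κ : Type u) (_ : Fintype κ) (B : κ → CommRingCat.{u}) (φ : ∀ k, C ⟶ B k)
      (i : κ → ι) (g : ∀ k, Spec (B k) ⟶ X (i k)),
      (∀ k, Spec.map (φ k) = g k ≫ f (i k)) ∧
      Presieve.ofArrows (fun k => Spec (B k)) (fun k => Spec.map (φ k)) ∈
        (Scheme.precoverage P).coverings (Spec C) := by
  have hcov' : Presieve.ofArrows X f ∈ Scheme.precoverage P (Spec C) := hcov
  rw [Scheme.ofArrows_mem_precoverage_iff] at hcov'
  obtain ⟨hsurj, hP⟩ := hcov'
  have key : ∀ x : Spec C, ∃ (i : ι) (V : (X i).Opens), IsAffineOpen V ∧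
      x ∈ (f i) '' V.1 := by
    intro x
    obtain ⟨i, y, hy⟩ := hsurj x
    obtain ⟨V, hV, hyV, -⟩ := exists_isAffineOpen_mem_and_subset (x := y) (U := ⊤) trivial
    exact ⟨i, V, hV, y, hyV, hy⟩
  choose i V hV hx using key
  have hW : ∀ x, IsOpen ((f (i x)) '' (V x).1) :=
    fun x => hopen _ (hP _) _ (V x).isOpen
  obtain ⟨t, ht⟩ := isCompact_univ.elim_finite_subcover
    (fun x : Spec C => (f (i x)) '' (V x).1) hW
    (fun p _ => Set.mem_iUnion.2 ⟨p, hx p⟩)
  refine ⟨{x // x ∈ t}, inferInstance,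
    fun k => Γ(X (i k.1), V k.1),
    fun k => Spec.preimage ((hV k.1).fromSpec ≫ f (i k.1)),
    fun k => i k.1,
    fun k => (hV k.1).fromSpec, ?_, ?_⟩
  · intro k
    rw [Spec.map_preimage]
  · show _ ∈ Scheme.precoverage P (Spec C)
    rw [Scheme.ofArrows_mem_precoverage_iff]
    refine ⟨fun p => ?_, fun k => ?_⟩
    · have hp := ht (Set.mem_univ p)
      simp only [Set.mem_iUnion] at hp
      obtain ⟨x, hxt, z, hzV, hzp⟩ := hp
      refine ⟨⟨x, hxt⟩, ?_⟩
      rw [Spec.map_preimage]
      have hz : z ∈ Set.range (hV x).fromSpec := by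
        rw [(hV x).range_fromSpec]
        exact hzV
      obtain ⟨w, hw⟩ := hz
      refine ⟨w, ?_⟩
      rw [Scheme.Hom.comp_apply, hw]
      exact hzp
    · rw [Spec.map_preimage]
      exact P.comp_mem _ _ (himm _ inferInstance) (hP _)

set_option backward.isDefEq.respectTransparency.types false in
theorem lofp_containsIdentities :
    MorphismProperty.ContainsIdentities @LocallyOfFinitePresentation.{u} where
  id_mem X := (inferInstance : LocallyOfFinitePresentation (𝟙 X))

set_option backward.isDefEq.respectTransparency.types false in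
theorem fppf_hasIsos : Scheme.fppfPrecoverage.{u}.HasIsos := by
  have := lofp_containsIdentities.{u}
  exact inferInstanceAs (Scheme.precoverage (@Flat ⊓ @LocallyOfFinitePresentation)).HasIsos

set_option backward.isDefEq.respectTransparency.types false in
/-- every fppf covering sieve of an affine scheme contains a finite affine fppf covering. -/
theorem exists_finite_affine (C : CommRingCat.{u}) (T : Sieve (Spec C))
    (hT : T ∈ Scheme.fppfPrecoverage.{u}.toGrothendieck (Spec C)) :
    ∃ (κ : Type u) (_ : Fintype κ) (B : κ → CommRingCat.{u}) (φ : ∀ k, C ⟶ B k),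
      (∀ k, T (Spec.map (φ k))) ∧
      Presieve.ofArrows (fun k => Spec (B k)) (fun k => Spec.map (φ k)) ∈
        Scheme.fppfPrecoverage.{u}.coverings (Spec C) := by
  have := fppf_hasIsos.{u}
  rw [Precoverage.mem_toGrothendieck_iff_of_isStableUnderComposition] at hT
  obtain ⟨R, hR, hle⟩ := hT
  obtain ⟨ι, Y, f, rfl⟩ := R.exists_eq_ofArrows
  obtain ⟨κ, hκ, B, φ, i, g, hg, hcovB⟩ :=
    exists_refinement_id (@Flat ⊓ @LocallyOfFinitePresentation)
      (fun f hf => by
        have : Flat f := hf.1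
        have : LocallyOfFinitePresentation f := hf.2
        exact f.isOpenMap)
      (fun f hf => ⟨inferInstance, inferInstance⟩) C Y f hR
  refine ⟨κ, hκ, B, φ, fun k => ?_, hcovB⟩
  rw [hg k]
  exact T.downward_closed (hle _ _ (Presieve.ofArrows.mk (i k))) (g k)

section Over

variable {S : Scheme.{u}} {C : CommRingCat.{u}} (c : Spec C ⟶ S)

/-- the structure morphism `(Spec E → S) ⟶ (Spec C → S)` in `Over S`. -/
noncomputable def πm (E : Alg C) : (specOver c).obj (op E) ⟶ Over.mk c :=
  Over.homMk (Spec.map (sm E)) rfl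

theorem πm_left (E : Alg C) : (πm c E).left = Spec.map (sm E) := rfl

theorem πm_eq {E E' : Alg C} (g : E ⟶ E') : (specOver c).map g.op ≫ πm c E = πm c E' := by
  apply Over.OverMorphism.ext
  show Spec.map (rh g) ≫ Spec.map (sm E) = Spec.map (sm E')
  rw [← Spec.map_comp, sm_rh]

theorem sm_self : sm (algOf C C) = 𝟙 C := rfl

instance isIso_πm_self : IsIso (πm c (algOf C C)) := by
  have h : IsIso ((Over.forget S).map (πm c (algOf C C))) := by
    show IsIso (Spec.map (sm (algOf C C)))
    rw [sm_self]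
    infer_instance
  exact isIso_of_reflects_iso _ (Over.forget S)

end Over

section Good

variable {S : Scheme.{u}}
  (P : PresheafOfModules.{u + 1} (BigSite.ORing Scheme.fppfPrecoverage S).obj)

/-- the underlying presheaf of sets. -/
noncomputable abbrev PT : (Over S)ᵒᵖ ⥤ Type (u + 1) :=
  P.presheaf ⋙ forget AddCommGrpCat.{u + 1}

/-- affine objects of the big site. -/
def IsAff (U : Over S) : Prop := ∃ (C : CommRingCat.{u}) (c : Spec C ⟶ S), U = Over.mk c

theorem mapFn_eq {C : CommRingCat.{u}} (c : Spec C ⟶ S) {E E' : Alg C} (f : E ⟶ E')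
    (y : ((toMVFPre Scheme.fppfPrecoverage c).obj P).obj (pt E)) :
    mapFn ((toMVFPre Scheme.fppfPrecoverage c).obj P) f y =
      (PT P).map ((specOver c).map f.op).op y := rfl

theorem map_inv_map {U V : Over S} (e : U ⟶ V) [IsIso e] (t : (PT P).obj (op V)) :
    (PT P).map (inv e).op ((PT P).map e.op t) = t := by
  rw [← Functor.map_comp_apply, ← op_comp, IsIso.inv_hom_id, op_id,
    CategoryTheory.Functor.map_id]
  rfl

theorem map_map_inv {U V : Over S} (e : U ⟶ V) [IsIso e] (t : (PT P).obj (op U)) :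
    (PT P).map e.op ((PT P).map (inv e).op t) = t := by
  rw [← Functor.map_comp_apply, ← op_comp, IsIso.hom_inv_id, op_id,
    CategoryTheory.Functor.map_id]
  rfl

theorem good
    (h : ∀ (R : CommRingCat.{u}) (a : Spec R ⟶ S),
      adequate R ((toMVFPre Scheme.fppfPrecoverage a).obj P))
    (U : Over S) (hU : IsAff U) (𝒮 : Sieve U)
    (h𝒮 : 𝒮 ∈ QuotSh.J Scheme.fppfPrecoverage S U) :
    LocBij.Good.{u} (QuotSh.J Scheme.fppfPrecoverage S) (P := PT P) IsAff U 𝒮 := by
  obtain ⟨C, c, rfl⟩ := hU
  have h1 : Sieve.overEquiv (Over.mk c) 𝒮 ∈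
      Scheme.fppfPrecoverage.{u}.toGrothendieck (Spec C) :=
    (GrothendieckTopology.mem_over_iff _ 𝒮).1 h𝒮
  obtain ⟨κ, hκ, B, φ, hφ, hcovB⟩ := exists_finite_affine C _ h1
  let _ : ∀ k : κ, Algebra C (B k) := fun k => (φ k).hom.toAlgebra
  classical
  have hff : Module.FaithfullyFlat C (∀ k, B k) :=
    faithfullyFlat_pi_of_cover (fun k => B k) hcovB
  obtain ⟨hD1, hD2⟩ := ff_descent_family (fun k => (B k : Type u))
    ((toMVFPre Scheme.fppfPrecoverage c).obj P) (h C c)
  refine ⟨⟨κ, fun k => (specOver c).obj (op (algOf C (B k))),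
    fun k => πm c (algOf C (B k)),
    fun k l => (specOver c).obj (op (algOf C (B k ⊗[C] B l))),
    fun k l => (specOver c).map (j₁ (fun k => (B k : Type u)) k l).op,
    fun k l => (specOver c).map (j₂ (fun k => (B k : Type u)) k l).op,
    ?_, ?_, ?_, ?_, ?_, ?_⟩⟩
  · intro k l
    exact ⟨CommRingCat.of (B k ⊗[C] B l), _, rfl⟩
  · intro k
    exact (Sieve.overEquiv_iff 𝒮 (Spec.map (φ k))).1 (hφ k)
  · intro k l
    rw [πm_eq, πm_eq]
  · show Sieve.ofArrows _ _ ∈ _
    rw [GrothendieckTopology.mem_over_iff, Sieve.overEquiv_ofArrows]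
    exact Precoverage.generate_mem_toGrothendieck hcovB
  · intro x x' hxx
    have h2 : (PT P).map (πm c (algOf C C)).op x = (PT P).map (πm c (algOf C C)).op x' := by
      apply hD1
      intro k
      show (PT P).map ((specOver c).map (f₀ (B k)).op).op
          ((PT P).map (πm c (algOf C C)).op x) =
        (PT P).map ((specOver c).map (f₀ (B k)).op).op ((PT P).map (πm c (algOf C C)).op x')
      rw [← Functor.map_comp_apply, ← Functor.map_comp_apply, ← op_comp, πm_eq]
      exact hxx k
    rw [← map_inv_map P (πm c (algOf C C)) x, h2, map_inv_map]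
  · intro y hy
    obtain ⟨x₀, hx₀⟩ := hD2 y hy
    have key : ∀ t : (PT P).obj (op ((specOver c).obj (op (algOf C C)))),
        (∀ k, (PT P).map ((specOver c).map (f₀ (B k)).op).op t = y k) →
        ∀ k, (PT P).map (πm c (algOf C (B k))).op
          ((PT P).map (inv (πm c (algOf C C))).op t) = y k := by
      intro t ht k
      rw [← πm_eq c (f₀ (B k)), op_comp, Functor.map_comp_apply, map_map_inv]
      exact ht k
    exact ⟨_, key x₀ hx₀⟩

end Good

end Groth.Agent.H2.Adeq2Good
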