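import Mathlib
import Groth.Prelude.Def_Adeq2
import Groth.Agent.Lib.Helper2.Adeq2Good
import Groth.Agent.Lib.Helper2.AdeqCok

/-! # The sheafification of a presheaf of modules with adequate associated functors. -/

set_option autoImplicit false
universe u
open CategoryTheory CategoryTheory.Limits AlgebraicGeometry Opposite Adeq

namespace Groth.Agent.H2.Adeq2Shf

open Groth.Agent.H2.Adeq2Good Groth.Agent.H2.Adeq2Cov

variable {S : Scheme.{u}}
  (P : PresheafOfModules.{u + 1} (BigSite.ORing Scheme.fppfPrecoverage S).obj)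

/-- the sheafification map of the underlying presheaf of abelian groups. -/
noncomputable abbrev ηa :
    P.presheaf ⟶ sheafify (QuotSh.J Scheme.fppfPrecoverage S) P.presheaf :=
  CategoryTheory.toSheafify (QuotSh.J Scheme.fppfPrecoverage S) P.presheaf

theorem bijective_toSheafify
    (h : ∀ (R : CommRingCat.{u}) (a : Spec R ⟶ S),
      adequate R ((toMVFPre Scheme.fppfPrecoverage a).obj P))
    (C : CommRingCat.{u}) (c : Spec C ⟶ S) :
    Function.Bijective
      ((Functor.whiskerRight (ηa P) (forget AddCommGrpCat.{u + 1})).app (op (Over.mk c))) := by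
  apply LocBij.bijective_of_good.{u} (QuotSh.J Scheme.fppfPrecoverage S)
    (Functor.whiskerRight (ηa P) (forget AddCommGrpCat.{u + 1})) IsAff ?_ ?_ ?_ (good P h)
    (Over.mk c) ⟨C, c, rfl⟩
  · intro U x x' hx
    exact ⟨Presheaf.equalizerSieve (F := P.presheaf) x x',
      Presheaf.equalizerSieve_mem _ (ηa P) x x' hx, fun V f hf => hf⟩
  · intro U y
    exact ⟨Presheaf.imageSieve (ηa P) y, Presheaf.imageSieve_mem _ (ηa P) y,
      fun V f hf => hf⟩
  · intro U 𝒮 h𝒮 y y' hyy
    have hsh : Presieve.IsSheaf (QuotSh.J Scheme.fppfPrecoverage S)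
        (sheafify (QuotSh.J Scheme.fppfPrecoverage S) P.presheaf ⋙
          forget AddCommGrpCat.{u + 1}) := by
      rw [← isSheaf_iff_isSheaf_of_type]
      exact (Presheaf.isSheaf_iff_isSheaf_forget _ _ (forget AddCommGrpCat.{u + 1})).1
        ((presheafToSheaf (QuotSh.J Scheme.fppfPrecoverage S) _).obj P.presheaf).property
    exact (hsh 𝒮 h𝒮).isSeparatedFor.ext (fun V f hf => hyy f hf)

/-- the sheafified module. -/
noncomputable abbrev Msh : BigSite.Mod Scheme.fppfPrecoverage S :=
  (PresheafOfModules.sheafification (𝟙 (BigSite.ORing Scheme.fppfPrecoverage S).obj)).obj P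

/-- the unit of sheafification as a morphism of presheaves of modules over `O`. -/
noncomputable def unitHom : P ⟶ (Msh P).val :=
  PresheafOfModules.homMk (ηa P) (by
    intro X r m
    exact ((PresheafOfModules.toSheafify (𝟙 (BigSite.ORing Scheme.fppfPrecoverage S).obj)
      (ηa P)).app X).hom.map_smul r m)

theorem adequateMod_sheafification
    (h : ∀ (R : CommRingCat.{u}) (a : Spec R ⟶ S),
      adequate R ((toMVFPre Scheme.fppfPrecoverage a).obj P)) :
    adequateMod Scheme.fppfPrecoverage S (Msh P) := by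
  refine ⟨S.affineOpenCover.I₀, S.affineOpenCover.X, S.affineOpenCover.f, ?_, fun j => ?_⟩
  · show Presieve.ofArrows _ _ ∈ Scheme.precoverage (@Flat ⊓ @LocallyOfFinitePresentation) S
    rw [Scheme.ofArrows_mem_precoverage_iff]
    exact ⟨fun x => ⟨S.affineOpenCover.idx x, S.affineOpenCover.covers x⟩,
      fun j => ⟨inferInstance, inferInstance⟩⟩
  · have hiso : IsIso ((toMVFPre Scheme.fppfPrecoverage (S.affineOpenCover.f j)).map
        (unitHom P)) := by
      apply Groth.Agent.H2.AdeqCok.isIso_of_bijective
      intro X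
      exact bijective_toSheafify P h _ (Spec.map (sm X.unop.unop) ≫ S.affineOpenCover.f j)
    exact (adequate _).prop_of_iso (@asIso _ _ _ _ _ hiso) (h _ _)

end Groth.Agent.H2.Adeq2Shf
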