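import Mathlib
import Groth.Prelude.Def_Adeq2
import Groth.Agent.Lib.Helper2.Adeq2Shf
import Groth.Agent.Lib.Helper2.Adeq2Main
import Groth.Agent.Lib.Helper2.AdeqSum
import Groth.Agent.Lib.Helper2.AdeqAb

/-! # `F_{-,R}` commutes with colimits; cokernels and colimits of adequate big-site modules. -/

set_option autoImplicit false
universe w' w u
open CategoryTheory CategoryTheory.Limits AlgebraicGeometry Opposite Adeq

namespace Groth.Agent.H2.Adeq2Colim

open Groth.Agent.H2.Adeq2Shf Groth.Agent.H2.Adeq2Main Groth.Agent.H2.Adeq2Ref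

section Preserves

variable (K : Precoverage Scheme.{u}) [BigSite.OSh K] {S : Scheme.{u}} {R : CommRingCat.{u}}
  (a : Spec R ⟶ S)

/-- evaluation of `F_{P,R}` at an algebra is evaluation of `P` at the corresponding object with
scalars restricted along `toSect`. -/
noncomputable def evalIso (X : (Alg R)ᵒᵖᵒᵖ) :
    toMVFPre K a ⋙ PresheafOfModules.evaluation (ringOf R) X ≅
      PresheafOfModules.evaluation (BigSite.ORing K S).obj
        (op ((specOver a).obj (op X.unop.unop))) ⋙
        ModuleCat.restrictScalars (toSect K a X.unop.unop) :=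
  NatIso.ofComponents (fun P => Iso.refl _) (by intros; rfl)

noncomputable def isColimit_mapCocone {J : Type w} [Category.{w'} J]
    [HasColimitsOfShape J AddCommGrpCat.{u + 1}]
    (E : J ⥤ PresheafOfModules.{u + 1} (BigSite.ORing K S).obj) (c : Cocone E)
    (hc : IsColimit c) : IsColimit ((toMVFPre K a).mapCocone c) := by
  apply PresheafOfModules.evaluationJointlyReflectsColimits
  intro X
  have h1 : IsColimit ((PresheafOfModules.evaluation (BigSite.ORing K S).obj
      (op ((specOver a).obj (op X.unop.unop))) ⋙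
      ModuleCat.restrictScalars (toSect K a X.unop.unop)).mapCocone c) :=
    isColimitOfPreserves _ hc
  exact IsColimit.mapCoconeEquiv (evalIso K a X).symm h1

noncomputable instance preservesColimitsOfShape_toMVFPre {J : Type w} [Category.{w'} J]
    [HasColimitsOfShape J AddCommGrpCat.{u + 1}] :
    PreservesColimitsOfShape J (toMVFPre K a) where
  preservesColimit {E} := ⟨fun {c} hc => ⟨isColimit_mapCocone K a E c hc⟩⟩

end Preserves

section Main

variable {S : Scheme.{u}}

/-- the structure presheaf of rings. -/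
noncomputable abbrev Oo (S : Scheme.{u}) : (Over S)ᵒᵖ ⥤ RingCat.{u + 1} :=
  (BigSite.ORing Scheme.fppfPrecoverage S).obj

/-- sheafification. -/
noncomputable abbrev Lf (S : Scheme.{u}) :
    PresheafOfModules.{u + 1} (Oo S) ⥤ BigSite.Mod Scheme.fppfPrecoverage S :=
  PresheafOfModules.sheafification (𝟙 (Oo S))

/-- the forgetful functor. -/
noncomputable abbrev Rf (S : Scheme.{u}) :
    BigSite.Mod Scheme.fppfPrecoverage S ⥤ PresheafOfModules.{u + 1} (Oo S) :=
  SheafOfModules.forget (BigSite.ORing Scheme.fppfPrecoverage S) ⋙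
    PresheafOfModules.restrictScalars (𝟙 (Oo S))

/-- the adjunction. -/
noncomputable abbrev adj (S : Scheme.{u}) : Lf S ⊣ Rf S :=
  PresheafOfModules.sheafificationAdjunction (𝟙 (Oo S))

theorem adequate_Rf (M : BigSite.Mod Scheme.fppfPrecoverage S)
    (hM : adequateMod Scheme.fppfPrecoverage S M) (R : CommRingCat.{u}) (a : Spec R ⟶ S) :
    adequate R ((toMVFPre Scheme.fppfPrecoverage a).obj ((Rf S).obj M)) :=
  adequate_of_adequateMod Scheme.fppfPrecoverage refines_fppf S M hM R a

theorem adequateMod_cokernel {M N : BigSite.Mod Scheme.fppfPrecoverage S} (φ : M ⟶ N)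
    (hM : adequateMod Scheme.fppfPrecoverage S M) (hN : adequateMod Scheme.fppfPrecoverage S N) :
    adequateMod Scheme.fppfPrecoverage S (cokernel φ) := by
  have : PreservesColimitsOfSize.{0, 0} (Lf S) := (adj S).leftAdjoint_preservesColimits
  let e1 : (Lf S).obj (cokernel ((Rf S).map φ)) ≅ cokernel ((Lf S).map ((Rf S).map φ)) :=
    PreservesCokernel.iso (Lf S) ((Rf S).map φ)
  let e2 : cokernel ((Lf S).map ((Rf S).map φ)) ≅ cokernel φ :=
    cokernel.mapIso _ _ (asIso ((adj S).counit.app M)) (asIso ((adj S).counit.app N))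
      ((adj S).counit.naturality φ)
  refine (adequateMod Scheme.fppfPrecoverage S).prop_of_iso (e1 ≪≫ e2) ?_
  apply adequateMod_sheafification
  intro R a
  refine (adequate R).prop_of_iso
    (PreservesCokernel.iso (toMVFPre Scheme.fppfPrecoverage a) ((Rf S).map φ)).symm ?_
  exact Groth.Agent.H2.AdeqAb.adequate_cokernel _ (adequate_Rf M hM R a) (adequate_Rf N hN R a)

theorem adequateMod_colimit {J : Type (u + 1)} [SmallCategory J]
    (D : J ⥤ BigSite.Mod Scheme.fppfPrecoverage S)
    (hD : ∀ j, adequateMod Scheme.fppfPrecoverage S (D.obj j)) :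
    adequateMod Scheme.fppfPrecoverage S (colimit D) := by
  have : PreservesColimitsOfSize.{u + 1, u + 1} (Lf S) := (adj S).leftAdjoint_preservesColimits
  let e1 : (Lf S).obj (colimit (D ⋙ Rf S)) ≅ colimit ((D ⋙ Rf S) ⋙ Lf S) :=
    preservesColimitIso (Lf S) (D ⋙ Rf S)
  let e2 : colimit ((D ⋙ Rf S) ⋙ Lf S) ≅ colimit D :=
    HasColimit.isoOfNatIso (Functor.associator _ _ _ ≪≫
      Functor.isoWhiskerLeft D (asIso (adj S).counit) ≪≫ D.rightUnitor)
  refine (adequateMod Scheme.fppfPrecoverage S).prop_of_iso (e1 ≪≫ e2) ?_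
  apply adequateMod_sheafification
  intro R a
  refine (adequate R).prop_of_iso
    (preservesColimitIso (toMVFPre Scheme.fppfPrecoverage a) (D ⋙ Rf S)).symm ?_
  apply Groth.Agent.H2.AdeqSum.adequate_colimit
  intro j
  exact adequate_Rf (D.obj j) (hD j) R a

end Main

end Groth.Agent.H2.Adeq2Colim
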