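import Mathlib
import Groth.Prelude.Def_Adeq2
import Groth.Agent.Lib.Helper2.AdeqAb
import Groth.Agent.Lib.Helper2.AdeqKer
import Groth.Agent.Lib.Helper2.AdeqCok

/-! # `F_{-,R}` commutes with kernels; kernels of adequate big-site modules. -/

set_option autoImplicit false
universe u
open CategoryTheory CategoryTheory.Limits AlgebraicGeometry Opposite Adeq

namespace Groth.Agent.H2.Adeq2Ker

open Groth.Agent.H2.AdeqKer Groth.Agent.H2.AdeqCok Groth.Agent.H2.AdeqAb

variable (K : Precoverage Scheme.{u}) [BigSite.OSh K] {S : Scheme.{u}} {R : CommRingCat.{u}}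
  (a : Spec R ⟶ S)

theorem toMVFPre_map_app_apply {P Q : PresheafOfModules.{u + 1} (BigSite.ORing K S).obj}
    (ψ : P ⟶ Q) (X : (Alg R)ᵒᵖᵒᵖ) (x : ((toMVFPre K a).obj P).obj X) :
    (((toMVFPre K a).map ψ).app X).hom x =
      (ψ.app (op ((specOver a).obj (op X.unop.unop)))).hom x := rfl

theorem adequate_toMVFPre_kernel {P Q : PresheafOfModules.{u + 1} (BigSite.ORing K S).obj}
    (ψ : P ⟶ Q) (hP : adequate R ((toMVFPre K a).obj P))
    (hQ : adequate R ((toMVFPre K a).obj Q)) :
    adequate R ((toMVFPre K a).obj (kernel ψ)) := by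
  have hz : (toMVFPre K a).map (kernel.ι ψ) ≫ (toMVFPre K a).map ψ = 0 := by
    rw [← Functor.map_comp, kernel.condition, Functor.map_zero]
  let k : (toMVFPre K a).obj (kernel ψ) ⟶ kernel ((toMVFPre K a).map ψ) :=
    kernel.lift _ ((toMVFPre K a).map (kernel.ι ψ)) hz
  have hk : k ≫ kernel.ι ((toMVFPre K a).map ψ) = (toMVFPre K a).map (kernel.ι ψ) :=
    kernel.lift_ι _ _ hz
  have : IsIso k := by
    apply isIso_of_bijective
    intro X
    constructor
    · intro x x' hxx'
      have h1 := comp_app_apply hk X x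
      have h2 := comp_app_apply hk X x'
      rw [hxx'] at h1
      have h3 : (((toMVFPre K a).map (kernel.ι ψ)).app X).hom x =
          (((toMVFPre K a).map (kernel.ι ψ)).app X).hom x' := h1.symm.trans h2
      exact kernel_ι_app_injective ψ (op ((specOver a).obj (op X.unop.unop))) h3
    · intro κ
      have hw : (((toMVFPre K a).map ψ).app X).hom
          (((kernel.ι ((toMVFPre K a).map ψ)).app X).hom κ) = 0 :=
        kernel_ι_app_comp ((toMVFPre K a).map ψ) X κ
      obtain ⟨z, hz'⟩ := exists_of_app_eq_zero ψ (op ((specOver a).obj (op X.unop.unop)))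
        (((kernel.ι ((toMVFPre K a).map ψ)).app X).hom κ) hw
      refine ⟨z, kernel_ι_app_injective ((toMVFPre K a).map ψ) X ?_⟩
      exact (comp_app_apply hk X z).trans hz'
  exact (adequate R).prop_of_iso (asIso k).symm (adequate_kernel _ hP hQ)

theorem adequate_toMVF_kernel {M N : BigSite.Mod K S} (φ : M ⟶ N)
    (hM : adequate R ((toMVF K a).obj M)) (hN : adequate R ((toMVF K a).obj N)) :
    adequate R ((toMVF K a).obj (kernel φ)) := by
  have e := (toMVFPre K a).mapIso
    (PreservesKernel.iso (SheafOfModules.forget (BigSite.ORing K S)) φ)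
  exact (adequate R).prop_of_iso e.symm
    (adequate_toMVFPre_kernel K a ((SheafOfModules.forget (BigSite.ORing K S)).map φ) hM hN)

end Groth.Agent.H2.Adeq2Ker
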