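import Mathlib
import Groth.Agent.Lib.Helper2.AdeqCok

/-! # An epimorphism of sheaves of modules is locally surjective. -/

set_option autoImplicit false
universe v v' u u'
open CategoryTheory CategoryTheory.Limits Opposite

namespace Groth.Agent.H2.ModEpi

variable {C : Type u'} [Category.{v'} C] {J : GrothendieckTopology C}
  {R : Sheaf J RingCat.{u}}
  [HasWeakSheafify J AddCommGrpCat.{v}] [J.WEqualsLocallyBijective AddCommGrpCat.{v}]

/-- sheafification. -/
noncomputable abbrev Lf (R : Sheaf J RingCat.{u}) :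
    PresheafOfModules.{v} R.obj ⥤ SheafOfModules.{v} R :=
  PresheafOfModules.sheafification (𝟙 R.obj)

/-- the forgetful functor. -/
noncomputable abbrev Rf (R : Sheaf J RingCat.{u}) :
    SheafOfModules.{v} R ⥤ PresheafOfModules.{v} R.obj :=
  SheafOfModules.forget R ⋙ PresheafOfModules.restrictScalars (𝟙 R.obj)

/-- the adjunction. -/
noncomputable abbrev adj (R : Sheaf J RingCat.{u}) : Lf.{v} R ⊣ Rf.{v} R :=
  PresheafOfModules.sheafificationAdjunction (𝟙 R.obj)

theorem unit_comp_eq_zero {M N : SheafOfModules.{v} R} (φ : M ⟶ N) [Epi φ] :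
    cokernel.π ((Rf.{v} R).map φ) ≫ (adj.{v} R).unit.app (cokernel ((Rf.{v} R).map φ)) = 0 := by
  have h1 : (Lf.{v} R).map ((Rf.{v} R).map φ) ≫
      (Lf.{v} R).map (cokernel.π ((Rf.{v} R).map φ)) = 0 := by
    rw [← Functor.map_comp, cokernel.condition, Functor.map_zero]
  have hnat : (Lf.{v} R).map ((Rf.{v} R).map φ) ≫ (adj.{v} R).counit.app N =
      (adj.{v} R).counit.app M ≫ φ := (adj.{v} R).counit.naturality φ
  have h2 : Epi ((Lf.{v} R).map ((Rf.{v} R).map φ)) := by
    have e : (Lf.{v} R).map ((Rf.{v} R).map φ) =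
        ((adj.{v} R).counit.app M ≫ φ) ≫ inv ((adj.{v} R).counit.app N) := by
      rw [← hnat, Category.assoc, IsIso.hom_inv_id, Category.comp_id]
    rw [e]
    infer_instance
  have h3 : (Lf.{v} R).map (cokernel.π ((Rf.{v} R).map φ)) = 0 :=
    (cancel_epi ((Lf.{v} R).map ((Rf.{v} R).map φ))).1 (h1.trans comp_zero.symm)
  have h4 := (adj.{v} R).unit.naturality (cokernel.π ((Rf.{v} R).map φ))
  refine h4.trans ?_
  show _ ≫ (Rf.{v} R).map ((Lf.{v} R).map (cokernel.π ((Rf.{v} R).map φ))) = 0
  rw [h3, Functor.map_zero, comp_zero]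

theorem isLocallySurjective_of_epi {M N : SheafOfModules.{v} R} (φ : M ⟶ N) [Epi φ] :
    Presheaf.IsLocallySurjective J ((PresheafOfModules.toPresheaf R.obj).map φ.val) := by
  constructor
  intro U n
  have h0 := unit_comp_eq_zero φ
  have h1 := congrArg (fun t => (PresheafOfModules.toPresheaf R.obj).map t) h0
  simp only [Functor.map_comp, Functor.map_zero] at h1
  rw [PresheafOfModules.toPresheaf_map_sheafificationAdjunction_unit_app] at h1
  have h2 := congrArg (fun t => (t.app (op U)) n) h1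
  have h3 := Presheaf.equalizerSieve_mem J
    (toSheafify J (cokernel ((Rf.{v} R).map φ)).presheaf)
    (((PresheafOfModules.toPresheaf R.obj).map (cokernel.π ((Rf.{v} R).map φ))).app (op U) n) 0
    (by
      refine Eq.trans h2 ?_
      rw [map_zero]
      rfl)
  refine J.superset_covering ?_ h3
  intro V g hg
  have hg' : (cokernel.π ((Rf.{v} R).map φ)).app (op V) (N.val.map g.op n) = 0 := by
    have e1 : (cokernel ((Rf.{v} R).map φ)).presheaf.map g.op
        (((PresheafOfModules.toPresheaf R.obj).map (cokernel.π ((Rf.{v} R).map φ))).app (op U) n) =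
        (cokernel ((Rf.{v} R).map φ)).presheaf.map g.op 0 := hg
    rw [map_zero] at e1
    refine Eq.trans ?_ e1
    exact (PresheafOfModules.naturality_apply (cokernel.π ((Rf.{v} R).map φ)) g.op n)
  obtain ⟨m, hm⟩ := AdeqCok.exists_of_cokernel_π_app_eq_zero ((Rf.{v} R).map φ) (op V) _ hg'
  exact ⟨m, hm⟩

end Groth.Agent.H2.ModEpi
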