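import Mathlib
import Groth.Prelude.Def_Adeq2
import Groth.Agent.Lib.Helper2.ModEpi
import Groth.Agent.Lib.Helper2.Adeq2Ker
import Groth.Agent.Lib.Helper2.Adeq2Cov
import Groth.Agent.Lib.Helper2.Adeq2Good

/-! # Parasitic modules on the big fppf site: the middle term of an exact sequence. -/

set_option autoImplicit false
universe u
open CategoryTheory CategoryTheory.Limits AlgebraicGeometry Opposite Adeq

namespace Groth.Agent.H2.Adeq2Par

open Groth.Agent.H2.AdeqKer Groth.Agent.H2.AdeqCok Groth.Agent.H2.Adeq2Cov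
  Groth.Agent.H2.Adeq2Good

variable {S : Scheme.{u}}

/-- sections of a kernel (in sheaves of modules) : elements killed by the map lift. -/
theorem exists_kernel_section {M N : BigSite.Mod Scheme.fppfPrecoverage.{u} S} (g : M ⟶ N)
    (U : Over S) (x : BigSite.sectMod Scheme.fppfPrecoverage M U)
    (hx : g.val.app (op U) x = 0) :
    ∃ z : BigSite.sectMod Scheme.fppfPrecoverage (kernel g) U,
      (kernel.ι g).val.app (op U) z = x := by
  let F := SheafOfModules.forget (BigSite.ORing Scheme.fppfPrecoverage.{u} S)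
  obtain ⟨z', hz'⟩ := exists_of_app_eq_zero (F.map g) (op U) x hx
  let e := PreservesKernel.iso F g
  refine ⟨(e.inv.app (op U)) z', ?_⟩
  have h1 : e.inv ≫ F.map (kernel.ι g) = kernel.ι (F.map g) := by
    rw [Iso.inv_comp_eq]
    simp [e]
  have h2 := congrArg (fun t => (PresheafOfModules.Hom.app t (op U)) z') h1
  exact h2.trans hz'

set_option backward.isDefEq.respectTransparency.types false in
theorem parasitic_mid (C : ShortComplex (BigSite.Mod Scheme.fppfPrecoverage.{u} S))
    (hC : C.Exact) (p₁ : parasitic Scheme.fppfPrecoverage S C.X₁)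
    (p₃ : parasitic Scheme.fppfPrecoverage S C.X₃) :
    parasitic Scheme.fppfPrecoverage S C.X₂ := by
  intro U hU
  suffices h : ∀ x : BigSite.sectMod Scheme.fppfPrecoverage C.X₂ U, x = 0 from
    ⟨fun x y => (h x).trans (h y).symm⟩
  intro x
  have hgx : C.g.val.app (op U) x = 0 := (p₃ U hU).elim _ _
  obtain ⟨z, hz⟩ := exists_kernel_section C.g U x hgx
  let φ : C.X₁ ⟶ kernel C.g := kernel.lift C.g C.f C.zero
  have : Epi φ := (ShortComplex.exact_iff_epi_kernel_lift C).1 hC
  have hloc := (ModEpi.isLocallySurjective_of_epi φ).imageSieve_mem z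
  have := fppf_hasIsos.{u}
  rw [GrothendieckTopology.mem_over_iff,
    Precoverage.mem_toGrothendieck_iff_of_isStableUnderComposition] at hloc
  obtain ⟨R, hR, hle⟩ := hloc
  have hR' : R ∈ Scheme.precoverage (@Flat ⊓ @LocallyOfFinitePresentation) U.left := hR
  have hT' : (Sieve.overEquiv U).symm (Sieve.generate R) ∈ QuotSh.J Scheme.fppfPrecoverage S U := by
    rw [GrothendieckTopology.mem_over_iff, OrderIso.apply_symm_apply]
    exact Precoverage.generate_mem_toGrothendieck hR
  have hsep := ((isSheaf_PS Scheme.fppfPrecoverage C.X₂) _ hT').isSeparatedFor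
  refine hsep.ext (t₁ := x) (t₂ := (0 : BigSite.sectMod Scheme.fppfPrecoverage C.X₂ U)) ?_
  intro V h hh
  rw [Sieve.overEquiv_symm_iff] at hh
  obtain ⟨Y, g, f, hf, hgf⟩ := hh
  have hPf := hR'.2 hf
  have hflat : Flat (f ≫ U.hom) := by
    have : Flat f := hPf.1
    have : Flat U.hom := hU
    infer_instance
  let Yf : Over S := Over.mk (f ≫ U.hom)
  let ff : Yf ⟶ U := Over.homMk f rfl
  have hTf := hle _ _ hf
  rw [Sieve.overEquiv_iff] at hTf
  obtain ⟨m, hm⟩ := hTf
  have hm0 : m = 0 := (p₁ Yf hflat).elim _ _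
  have hzf : (kernel C.g).val.map ff.op z = 0 := by
    refine Eq.trans hm.symm ?_
    rw [hm0]
    exact map_zero _
  have hxf : C.X₂.val.map ff.op x = 0 := by
    rw [← hz]
    have nat := PresheafOfModules.naturality_apply (kernel.ι C.g).val ff.op z
    refine nat.symm.trans ?_
    rw [hzf]
    exact map_zero _
  let gg : V ⟶ Yf := Over.homMk g (by
    have := Over.w h
    show g ≫ f ≫ U.hom = V.hom
    rw [← Category.assoc, hgf]
    exact this)
  have hh' : h = gg ≫ ff := by
    apply Over.OverMorphism.ext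
    exact hgf.symm
  show C.X₂.val.map h.op x = C.X₂.val.map h.op 0
  rw [map_zero, hh', op_comp, PresheafOfModules.map_comp]
  show C.X₂.val.map gg.op (C.X₂.val.map ff.op x) = 0
  rw [hxf]
  exact map_zero _

end Groth.Agent.H2.Adeq2Par
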