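import Mathlib
import Groth.Prelude.Def_Adeq
import Groth.Agent.Lib.Helper2.AdeqFlat

/-! # Five lemma for the base change maps of module-valued functors. -/

set_option autoImplicit false
universe u
open CategoryTheory CategoryTheory.Limits TensorProduct Adeq

namespace Groth.Agent.H2.AdeqFive

open Groth.Agent.H2.AdeqKer Groth.Agent.H2.AdeqAb Groth.Agent.H2.AdeqFlat

section AL2

variable {R S : Type*} [CommRing R] [CommRing S] [Algebra R S] [Module.Flat R S]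
  {P₁ P₂ P₃ : Type*} [AddCommGroup P₁] [Module R P₁] [AddCommGroup P₂] [Module R P₂]
  [AddCommGroup P₃] [Module R P₃]
  (ι : P₁ →ₗ[R] P₂) (π : P₂ →ₗ[R] P₃) (hπ : Function.Surjective π) (hex : Function.Exact ι π)
  {Q₁ Q₂ Q₃ : Type*} [AddCommGroup Q₁] [Module S Q₁] [AddCommGroup Q₂] [Module S Q₂]
  [AddCommGroup Q₃] [Module S Q₃]
  (ι' : Q₁ →ₗ[S] Q₂) (π' : Q₂ →ₗ[S] Q₃) (hι' : Function.Injective ι')
  (hex' : Function.Exact ι' π')
  (g₁ : P₁ → Q₁) (g₂ : P₂ → Q₂) (g₃ : P₃ → Q₃)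
  (h1 : ∀ p, ι' (g₁ p) = g₂ (ι p)) (h2 : ∀ p, π' (g₂ p) = g₃ (π p))
  (G₁ : S ⊗[R] P₁ →+ Q₁) (hG₁ : ∀ s p, G₁ (s ⊗ₜ p) = s • g₁ p) (hb₁ : Function.Bijective G₁)
  (G₂ : S ⊗[R] P₂ →+ Q₂) (hG₂ : ∀ s p, G₂ (s ⊗ₜ p) = s • g₂ p)
  (G₃ : S ⊗[R] P₃ →+ Q₃) (hG₃ : ∀ s p, G₃ (s ⊗ₜ p) = s • g₃ p) (hb₃ : Function.Bijective G₃)

include hπ hex hι' hex' h1 h2 hG₁ hb₁ hG₂ hG₃ hb₃ in
theorem bijective_of_five : Function.Bijective G₂ := by
  have k1 := key1 ι ι' g₁ g₂ h1 G₁ hG₁ G₂ hG₂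
  have k2 := key2 π π' g₂ g₃ h2 G₂ hG₂ G₃ hG₃
  constructor
  · rw [injective_iff_map_eq_zero]
    intro z hz
    have h3 : G₃ (π.lTensor S z) = 0 := by rw [← k2, hz, map_zero]
    have h4 : π.lTensor S z = 0 := hb₃.1 (by rw [h3, map_zero])
    obtain ⟨w, rfl⟩ := (Module.Flat.lTensor_exact S hex z).mp h4
    have h5 : ι' (G₁ w) = 0 := by rw [k1, hz]
    have h6 : G₁ w = 0 := hι' (by rw [h5, map_zero])
    have h7 : w = 0 := hb₁.1 (by rw [h6, map_zero])
    rw [h7, map_zero]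
  · intro q
    obtain ⟨v, hv⟩ := hb₃.2 (π' q)
    obtain ⟨z₀, hz₀⟩ := LinearMap.lTensor_surjective S hπ v
    have h8 : π' (q - G₂ z₀) = 0 := by rw [map_sub, k2, hz₀, hv, sub_self]
    obtain ⟨q₁, hq₁⟩ := (hex' _).mp h8
    obtain ⟨w, hw⟩ := hb₁.2 q₁
    refine ⟨z₀ + ι.lTensor S w, ?_⟩
    rw [map_add, ← k1, hw, hq₁, add_sub_cancel]

end AL2

variable {A : Type u} [CommRing A]

theorem isIso_bc_of_exact {F₁ F₂ F₃ : MVF A} (f₁ : F₁ ⟶ F₂) (f₂ : F₂ ⟶ F₃)
    (hinj : ∀ X, Function.Injective (f₁.app X).hom)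
    (hsurj : ∀ X, Function.Surjective (f₂.app X).hom)
    (hex : ∀ X, Function.Exact (f₁.app X).hom (f₂.app X).hom)
    {B B' : Alg A} (f : B ⟶ B') (hf : f.hom.toRingHom.Flat)
    (h₁ : IsIso (F₁.bc f)) (h₃ : IsIso (F₃.bc f)) : IsIso (F₂.bc f) := by
  letI : Algebra B B' := f.hom.toRingHom.toAlgebra
  haveI : Module.Flat B B' := hf
  have key := bijective_of_five (R := B) (S := B')
    (P₁ := F₁.obj (pt B)) (P₂ := F₂.obj (pt B)) (P₃ := F₃.obj (pt B))
    (Q₁ := F₁.obj (pt B')) (Q₂ := F₂.obj (pt B')) (Q₃ := F₃.obj (pt B'))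
    (ι := (f₁.app (pt B)).hom) (π := (f₂.app (pt B)).hom) (hsurj (pt B)) (hex (pt B))
    (ι' := (f₁.app (pt B')).hom) (π' := (f₂.app (pt B')).hom) (hinj (pt B')) (hex (pt B'))
    (g₁ := fun p => (F₁.map (ptHom f)).hom p) (g₂ := fun p => (F₂.map (ptHom f)).hom p)
    (g₃ := fun p => (F₃.map (ptHom f)).hom p)
    (fun p => PresheafOfModules.naturality_apply f₁ (ptHom f) p)
    (fun p => PresheafOfModules.naturality_apply f₂ (ptHom f) p)
    (G₁ := { toFun := fun z => (F₁.bc f).hom z, map_zero' := map_zero _, map_add' := map_add _ })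
    (fun s p => rfl) ((ConcreteCategory.isIso_iff_bijective (F₁.bc f)).mp h₁)
    (G₂ := { toFun := fun z => (F₂.bc f).hom z, map_zero' := map_zero _, map_add' := map_add _ })
    (fun s p => rfl)
    (G₃ := { toFun := fun z => (F₃.bc f).hom z, map_zero' := map_zero _, map_add' := map_add _ })
    (fun s p => rfl) ((ConcreteCategory.isIso_iff_bijective (F₃.bc f)).mp h₃)
  exact (ConcreteCategory.isIso_iff_bijective (F₂.bc f)).mpr key

theorem shortExact_pointwise (S : ShortComplex (MVF A)) (hS : S.ShortExact)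
    (X : (Alg A)ᵒᵖᵒᵖ) :
    Function.Injective (S.f.app X).hom ∧ Function.Surjective (S.g.app X).hom ∧
      Function.Exact (S.f.app X).hom (S.g.app X).hom := by
  haveI := hS.mono_f
  haveI := hS.epi_g
  refine ⟨PresheafOfModules.injective_of_mono S.f X, PresheafOfModules.surjective_of_epi S.g X, ?_⟩
  intro x
  constructor
  · intro hx
    obtain ⟨k, hk⟩ := exists_of_app_eq_zero S.g X x hx
    have he : hS.exact.lift (kernel.ι S.g) (kernel.condition _) ≫ S.f = kernel.ι S.g :=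
      hS.exact.lift_f _ _
    exact ⟨((hS.exact.lift (kernel.ι S.g) (kernel.condition _)).app X) k,
      (comp_app_apply he X k).trans hk⟩
  · rintro ⟨p, rfl⟩
    exact comp_app_apply S.zero X p

/-- `underline M` is adequate. -/
theorem adequate_underline (M : ModuleCat.{u + 1} A) : adequate A ((underline A).obj M) := by
  refine ⟨M, M, 0, ⟨?_⟩⟩
  exact (kernelZeroIsoSource (X := (underline A).obj M) (Y := (underline A).obj M)).symm ≪≫
    kernelIsoOfEq (Functor.map_zero (underline A) M M).symm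

theorem adequate_of_linAdequate {F : MVF A} (h : linAdequate A F) : adequate A F := by
  obtain ⟨M, N, φ, -, -, -, -, hi⟩ := h
  exact ⟨M, N, φ, hi⟩

/-- flat base change holds for the middle term of a short exact sequence with adequate ends. -/
theorem isIso_bc_of_shortExact (S : ShortComplex (MVF A)) (hS : S.ShortExact)
    (h₁ : adequate A S.X₁) (h₃ : adequate A S.X₃) {B B' : Alg A} (f : B ⟶ B')
    (hf : f.hom.toRingHom.Flat) : IsIso (S.X₂.bc f) :=
  isIso_bc_of_exact S.f S.g (fun X => (shortExact_pointwise S hS X).1)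
    (fun X => (shortExact_pointwise S hS X).2.1) (fun X => (shortExact_pointwise S hS X).2.2)
    f hf (isIso_bc_of_flat _ h₁ f hf) (isIso_bc_of_flat _ h₃ f hf)

end Groth.Agent.H2.AdeqFive
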