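import Mathlib
import Groth.Prelude.Def_Adeq
import Groth.Agent.Lib.Helper2.AdeqLin
import Groth.Agent.Lib.Helper2.AdeqTsze

/-! # Algebra maps out of the first-order universal algebra `A ⊕ Q` (for Stacks 06V1). -/

set_option autoImplicit false
universe u
open CategoryTheory CategoryTheory.Limits TensorProduct Adeq

namespace Groth.Agent.H2.AdeqSplitA

open Groth.Agent.H2.AdeqYoneda Groth.Agent.H2.AdeqLin Groth.Agent.H2.AdeqKer
  Groth.Agent.H2.AdeqTsze

section SolAlg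

variable {A : Type u} [CommRing A] {n m : ℕ} {a : Fin n → Fin m → A}
  {B : Type u} [CommRing B] [Algebra A B] {B' : Type u} [CommRing B'] [Algebra A B']

/-- sum of solutions. -/
def solAdd (β β' : Sol a B) : Sol a B :=
  ⟨fun i => β.vec i + β'.vec i, fun j => by
    simp only [smul_add, Finset.sum_add_distrib, β.rel j, β'.rel j, add_zero]⟩

theorem lam_mk (β : Sol a B) (v : Fin n → A) :
    lam β ((cols a).mkQ v) = ∑ i, v i • β.vec i := by
  change (cols a).liftQ _ _ (Submodule.Quotient.mk v) = _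
  rw [Submodule.liftQ_apply, Fintype.linearCombination_apply]

theorem lam_comp (h : B →ₐ[A] B') (β : Sol a B) (q : Q a) :
    lam (β.comp h) q = h (lam β q) := by
  obtain ⟨v, rfl⟩ := (cols a).mkQ_surjective q
  rw [lam_mk, lam_mk, map_sum]
  refine Finset.sum_congr rfl fun i _ => ?_
  rw [map_smul]
  rfl

theorem lam_smul (b : B) (β : Sol a B) (q : Q a) : lam (β.smul b) q = b * lam β q := by
  obtain ⟨v, rfl⟩ := (cols a).mkQ_surjective q
  rw [lam_mk, lam_mk, Finset.mul_sum]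
  refine Finset.sum_congr rfl fun i _ => ?_
  change v i • (b * β.vec i) = b * (v i • β.vec i)
  rw [mul_smul_comm]

theorem lam_add (β β' : Sol a B) (q : Q a) : lam (solAdd β β') q = lam β q + lam β' q := by
  obtain ⟨v, rfl⟩ := (cols a).mkQ_surjective q
  rw [lam_mk, lam_mk, lam_mk, ← Finset.sum_add_distrib]
  refine Finset.sum_congr rfl fun i _ => ?_
  change v i • (β.vec i + β'.vec i) = _
  rw [smul_add]

/-- the algebra map `A ⊕ Q → B[ε]` of a solution. -/
noncomputable abbrev psiT (β : Sol a B) : TrivSqZeroExt A (Q a) →ₐ[A] TrivSqZeroExt B B :=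
  tszeMap (Algebra.ofId A B) (lam β) (fun r x => by
    rw [map_smul, Algebra.smul_def]
    rfl)

/-- the algebra map `A ⊕ Q → B ⊕ (B × B)` of a pair of solutions. -/
noncomputable abbrev psiT₂ (β β' : Sol a B) :
    TrivSqZeroExt A (Q a) →ₐ[A] TrivSqZeroExt B (B × B) :=
  tszeMap (Algebra.ofId A B) ((lam β).prod (lam β')) (fun r x => by
    rw [map_smul]
    exact Prod.ext (Algebra.smul_def r _) (Algebra.smul_def r _))

/-- `B[ε] → B'[ε]`. -/
noncomputable abbrev liftB (h : B →ₐ[A] B') : TrivSqZeroExt B B →ₐ[A] TrivSqZeroExt B' B' :=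
  tszeMap h h.toLinearMap (fun b x => by
    rw [smul_eq_mul, AlgHom.toLinearMap_apply, map_mul]
    rfl)

/-- `ε ↦ bε`. -/
noncomputable abbrev scaleB (b : B) : TrivSqZeroExt B B →ₐ[A] TrivSqZeroExt B B :=
  tszeMap (AlgHom.id A B) ((b • (LinearMap.id : B →ₗ[B] B)).restrictScalars A) (fun c x => by
    change b • (c • x) = c • (b • x)
    rw [smul_comm])

/-- `B ⊕ (B × B) → B[ε]` induced by a linear form. -/
noncomputable abbrev prB (ℓ : B × B →ₗ[B] B) :
    TrivSqZeroExt B (B × B) →ₐ[A] TrivSqZeroExt B B :=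
  tszeMap (AlgHom.id A B) (ℓ.restrictScalars A) (fun c x => ℓ.map_smul c x)

theorem psiT_comp (h : B →ₐ[A] B') (β : Sol a B) :
    psiT (β.comp h) = (liftB h).comp (psiT β) := by
  apply AlgHom.ext
  intro x
  simp only [psiT, psiT₂, liftB, scaleB, prB, AlgHom.comp_apply, tszeMap_apply,
    TrivSqZeroExt.fst_add, TrivSqZeroExt.fst_inl, TrivSqZeroExt.fst_inr,
    TrivSqZeroExt.snd_add, TrivSqZeroExt.snd_inl, TrivSqZeroExt.snd_inr, add_zero, zero_add,
    AlgHom.toLinearMap_apply, Algebra.ofId_apply, AlgHom.commutes, lam_comp]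

theorem psiT_smul (b : B) (β : Sol a B) :
    psiT (β.smul b) = (scaleB b).comp (psiT β) := by
  apply AlgHom.ext
  intro x
  simp only [psiT, psiT₂, liftB, scaleB, prB, AlgHom.comp_apply, tszeMap_apply,
    TrivSqZeroExt.fst_add, TrivSqZeroExt.fst_inl, TrivSqZeroExt.fst_inr,
    TrivSqZeroExt.snd_add, TrivSqZeroExt.snd_inl, TrivSqZeroExt.snd_inr, add_zero, zero_add,
    AlgHom.coe_id, id_eq, lam_smul, LinearMap.coe_restrictScalars, LinearMap.smul_apply,
    LinearMap.id_coe, smul_eq_mul]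

theorem psiT₂_pr (β β' : Sol a B) (ℓ : B × B →ₗ[B] B) (γ : Sol a B)
    (hγ : ∀ q, lam γ q = ℓ (lam β q, lam β' q)) :
    psiT γ = (prB ℓ).comp (psiT₂ β β') := by
  apply AlgHom.ext
  intro x
  simp only [psiT, psiT₂, liftB, scaleB, prB, AlgHom.comp_apply, tszeMap_apply,
    TrivSqZeroExt.fst_add, TrivSqZeroExt.fst_inl, TrivSqZeroExt.fst_inr,
    TrivSqZeroExt.snd_add, TrivSqZeroExt.snd_inl, TrivSqZeroExt.snd_inr, add_zero, zero_add,
    AlgHom.coe_id, id_eq, hγ, LinearMap.coe_restrictScalars, LinearMap.prod_apply, Pi.prod]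
  rfl

theorem liftB_eps (h : B →ₐ[A] B') : liftB h (eps B) = eps B' := by
  rw [liftB, eps, tszeMap_inr, AlgHom.toLinearMap_apply, map_one]

theorem scaleB_eps (b : B) : scaleB (A := A) b (eps B) = eps B * TrivSqZeroExt.inl b := by
  rw [scaleB, eps, tszeMap_inr, eps_mul_inl]
  change TrivSqZeroExt.inr (b • (1 : B)) = _
  rw [smul_eq_mul, mul_one]

theorem prB_eps₁ (ℓ : B × B →ₗ[B] B) :
    prB (A := A) ℓ (eps₁ B) = TrivSqZeroExt.inr (ℓ (1, 0)) := by
  rw [prB, eps₁, tszeMap_inr]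
  rfl

theorem prB_eps₂ (ℓ : B × B →ₗ[B] B) :
    prB (A := A) ℓ (eps₂ B) = TrivSqZeroExt.inr (ℓ (0, 1)) := by
  rw [prB, eps₂, tszeMap_inr]
  rfl

/-- the universal solution composed with `psiT β` is `ε • β`. -/
theorem univSol_comp_psiT (β : Sol a B) :
    (univSol a).comp (psiT β) =
      (β.comp (TrivSqZeroExt.inlAlgHom A B B)).smul (eps B) := by
  apply Sol.ext'
  intro i
  change psiT β (TrivSqZeroExt.inr (ebar a i)) = eps B * TrivSqZeroExt.inl (β.vec i)
  rw [psiT, tszeMap_inr, lam_ebar, eps_mul_inl]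

end SolAlg

section MapFnMore

variable {A : Type u} [CommRing A] (H : MVF A)

theorem mapFn_id {C : Alg A} (y : H.obj (pt C)) : mapFn H (𝟙 C) y = y := by
  unfold mapFn
  rw [show ptHom (𝟙 C) = 𝟙 (pt C) from rfl, H.map_id]
  rfl

variable {B : Type u} [CommRing B] [Algebra A B] {B' : Type u} [CommRing B'] [Algebra A B']

theorem mapFn_liftB_decomp (h : B →ₐ[A] B') (g₀ g₁ : H.obj (pt (algOf A B))) :
    mapFn H (CommAlgCat.ofHom (liftB h) : Rt A B B ⟶ Rt A B' B')
        (mapFn H (iN A B B) g₀ + eps B • mapFn H (iN A B B) g₁) =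
      mapFn H (iN A B' B') (mapFn H (CommAlgCat.ofHom h) g₀) +
        eps B' • mapFn H (iN A B' B') (mapFn H (CommAlgCat.ofHom h) g₁) := by
  rw [mapFn_add, mapFn_tM_iN, mapFn_tM_smul]
  congr 2
  exact liftB_eps h

theorem mapFn_scaleB_decomp (b : B) (g₀ g₁ : H.obj (pt (algOf A B))) :
    mapFn H (CommAlgCat.ofHom (scaleB b) : Rt A B B ⟶ Rt A B B)
        (mapFn H (iN A B B) g₀ + eps B • mapFn H (iN A B B) g₁) =
      mapFn H (iN A B B) g₀ + eps B • mapFn H (iN A B B) (b • g₁) := by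
  rw [mapFn_add, mapFn_tM_iN, mapFn_tM_smul, mapFn_iN_smul, smul_smul]
  have h1 : (CommAlgCat.ofHom (AlgHom.id A B) : algOf A B ⟶ algOf A B) = 𝟙 _ := rfl
  rw [h1, mapFn_id, mapFn_id]
  congr 2
  exact scaleB_eps b

theorem mapFn_prB_decomp (ℓ : B × B →ₗ[B] B) (g₀ g₁ g₂ : H.obj (pt (algOf A B))) :
    mapFn H (CommAlgCat.ofHom (prB ℓ) : Rt A B (B × B) ⟶ Rt A B B)
        (mapFn H (iN A B (B × B)) g₀ + eps₁ B • mapFn H (iN A B (B × B)) g₁ +
          eps₂ B • mapFn H (iN A B (B × B)) g₂) =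
      mapFn H (iN A B B) g₀ +
        (TrivSqZeroExt.inr (ℓ (1, 0)) : TrivSqZeroExt B B) • mapFn H (iN A B B) g₁ +
        (TrivSqZeroExt.inr (ℓ (0, 1)) : TrivSqZeroExt B B) • mapFn H (iN A B B) g₂ := by
  rw [mapFn_add, mapFn_add, mapFn_tM_iN, mapFn_tM_smul, mapFn_tM_smul]
  have h1 : (CommAlgCat.ofHom (AlgHom.id A B) : algOf A B ⟶ algOf A B) = 𝟙 _ := rfl
  rw [h1, mapFn_id, mapFn_id, mapFn_id]
  congr 3
  · exact prB_eps₁ ℓ
  · exact prB_eps₂ ℓ

end MapFnMore

end Groth.Agent.H2.AdeqSplitA
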