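import Mathlib
import Groth.Prelude.Def_Adeq
import Groth.Agent.Lib.Helper2.AdeqSplitA
import Groth.Agent.Lib.Helper2.AdeqFive
import Groth.Agent.Lib.Helper2.AdeqSum

/-! # Extensions of a linearly adequate functor by `underline M` split (Stacks 06V1). -/

set_option autoImplicit false
universe u
open CategoryTheory CategoryTheory.Limits TensorProduct Adeq

namespace Groth.Agent.H2.AdeqSplit

open Groth.Agent.H2.AdeqYoneda Groth.Agent.H2.AdeqLin Groth.Agent.H2.AdeqKer
  Groth.Agent.H2.AdeqTsze Groth.Agent.H2.AdeqSplitA Groth.Agent.H2.AdeqFlat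
  Groth.Agent.H2.AdeqFive Groth.Agent.H2.AdeqAb Groth.Agent.H2.AdeqSum

variable {A : Type u} [CommRing A]

section Flat

variable (B : Type u) [CommRing B] [Algebra A B]
  (N : Type u) [AddCommGroup N] [Module B N] [Module Bᵐᵒᵖ N] [IsCentralScalar B N]
  [Module A N] [IsScalarTower A B N] [IsScalarTower A Bᵐᵒᵖ N] [Module.Free B N]

theorem flat_iN : (iN A B N).hom.toRingHom.Flat := by
  haveI : Module.Free B (TrivSqZeroExt B N) := inferInstanceAs (Module.Free B (B × N))
  show (algebraMap B (TrivSqZeroExt B N)).Flat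
  exact RingHom.flat_algebraMap_iff.mpr inferInstance

end Flat

section Kap

variable {P P' : ModuleCat.{u + 1} A} {n m : ℕ} {bP : Module.Basis (Fin n) A P}
  {bP' : Module.Basis (Fin m) A P'} {κ : P ⟶ P'} {B : Type u} [CommRing B] [Algebra A B]

theorem repr_xiv (β : Fin n → B) (i : Fin n) :
    (bP.baseChange B).repr (xiv bP β) i = β i := by
  have h : xiv bP β = ∑ i, β i • (bP.baseChange B) i := by
    rw [xiv]
    refine Finset.sum_congr rfl fun i _ => ?_
    rw [Module.Basis.baseChange_apply, TensorProduct.smul_tmul', smul_eq_mul, mul_one]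
  rw [h, Module.Basis.repr_sum_self]

theorem kap_injective (β γ : Sol (mat bP bP' κ) B) (h : kap β = kap γ) : β = γ := by
  apply Sol.ext'
  intro i
  have h1 : xiv bP β.vec = xiv bP γ.vec := by rw [← ι_kap β, ← ι_kap γ, h]
  rw [← repr_xiv (bP := bP) β.vec i, h1, repr_xiv]

theorem xiv_add (β β' : Fin n → B) :
    xiv bP (fun i => β i + β' i) = xiv bP β + xiv bP β' := by
  rw [xiv, xiv, xiv, ← Finset.sum_add_distrib]
  exact Finset.sum_congr rfl fun i _ => TensorProduct.add_tmul _ _ _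

theorem kap_add (β β' : Sol (mat bP bP' κ) B) : kap (solAdd β β') = kap β + kap β' := by
  apply kernel_ι_app_injective ((underline A).map κ) (pt (algOf A B))
  rw [ι_kap, map_add, ι_kap, ι_kap]
  exact xiv_add β.vec β'.vec

end Kap

section Sec

variable {P P' : ModuleCat.{u + 1} A} {n m : ℕ} (bP : Module.Basis (Fin n) A P)
  (bP' : Module.Basis (Fin m) A P') (κ : P ⟶ P')
  (G : MVF A) (gK : G ⟶ kernel ((underline A).map κ))
  (hGbc : ∀ ⦃C C' : Alg A⦄ (f : C ⟶ C'), f.hom.toRingHom.Flat → IsIso (G.bc f))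
  (η : G.obj (pt (Rt A A (Q (mat bP bP' κ)))))
  (hη : (gK.app (pt (Rt A A (Q (mat bP bP' κ))))).hom η = kap (univSol (mat bP bP' κ)))

include hGbc in
theorem hbG (B : Type u) [CommRing B] [Algebra A B] :
    Function.Bijective (G.bc (iN A B B)).hom :=
  (ConcreteCategory.isIso_iff_bijective _).mp (hGbc _ (flat_iN B B))

variable {bP bP' κ} in
/-- `psiT` as a morphism of `Alg A`. -/
noncomputable abbrev psiH {B : Type u} [CommRing B] [Algebra A B] (β : Sol (mat bP bP' κ) B) :
    Rt A A (Q (mat bP bP' κ)) ⟶ Rt A B B :=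
  CommAlgCat.ofHom (psiT β)

/-- the section on solutions. -/
noncomputable def secβ (B : Type u) [CommRing B] [Algebra A B] (β : Sol (mat bP bP' κ) B) :
    G.obj (pt (algOf A B)) :=
  dOp G B (hbG G hGbc B).2 (mapFn G (psiH β) η)

theorem secβ_spec (B : Type u) [CommRing B] [Algebra A B] (β : Sol (mat bP bP' κ) B) :
    ∃ g₀, mapFn G (psiH β) η = mapFn G (iN A B B) g₀ +
      eps B • mapFn G (iN A B B) (secβ bP bP' κ G hGbc η B β) :=
  dOp_spec G B (hbG G hGbc B).2 (mapFn G (psiH β) η)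

theorem secβ_comp {B B' : Type u} [CommRing B] [Algebra A B] [CommRing B'] [Algebra A B']
    (h : B →ₐ[A] B') (β : Sol (mat bP bP' κ) B) :
    mapFn G (CommAlgCat.ofHom h) (secβ bP bP' κ G hGbc η B β) =
      secβ bP bP' κ G hGbc η B' (β.comp h) := by
  obtain ⟨g₀, hg₀⟩ := secβ_spec bP bP' κ G hGbc η B β
  symm
  refine dOp_eq G B' (hbG G hGbc B') _ (mapFn G (CommAlgCat.ofHom h) g₀) _ ?_
  have e : (psiH (β.comp h) : Rt A A (Q (mat bP bP' κ)) ⟶ Rt A B' B') =
      psiH β ≫ (CommAlgCat.ofHom (liftB h) : Rt A B B ⟶ Rt A B' B') := by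
    show CommAlgCat.ofHom (psiT (β.comp h)) = _
    rw [psiT_comp]
    rfl
  rw [e, mapFn_comp, hg₀, mapFn_liftB_decomp]

theorem secβ_smul {B : Type u} [CommRing B] [Algebra A B] (b : B)
    (β : Sol (mat bP bP' κ) B) :
    secβ bP bP' κ G hGbc η B (β.smul b) = b • secβ bP bP' κ G hGbc η B β := by
  obtain ⟨g₀, hg₀⟩ := secβ_spec bP bP' κ G hGbc η B β
  refine dOp_eq G B (hbG G hGbc B) _ g₀ _ ?_
  have e : (psiH (β.smul b) : Rt A A (Q (mat bP bP' κ)) ⟶ Rt A B B) =
      psiH β ≫ (CommAlgCat.ofHom (scaleB b) : Rt A B B ⟶ Rt A B B) := by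
    show CommAlgCat.ofHom (psiT (β.smul b)) = _
    rw [psiT_smul]
    rfl
  rw [e, mapFn_comp, hg₀, mapFn_scaleB_decomp]

theorem secβ_add {B : Type u} [CommRing B] [Algebra A B] (β β' : Sol (mat bP bP' κ) B) :
    secβ bP bP' κ G hGbc η B (solAdd β β') =
      secβ bP bP' κ G hGbc η B β + secβ bP bP' κ G hGbc η B β' := by
  have hs₂ : Function.Surjective (G.bc (iN A B (B × B))).hom :=
    ((ConcreteCategory.isIso_iff_bijective _).mp (hGbc _ (flat_iN B (B × B)))).2
  obtain ⟨w₀, w₁, w₂, hw⟩ := decomp_exists₂ G B hs₂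
    (mapFn G (CommAlgCat.ofHom (psiT₂ β β') :
      Rt A A (Q (mat bP bP' κ)) ⟶ Rt A B (B × B)) η)
  have key : ∀ (ℓ : B × B →ₗ[B] B) (γ : Sol (mat bP bP' κ) B)
      (_ : ∀ q, lam γ q = ℓ (lam β q, lam β' q)),
      secβ bP bP' κ G hGbc η B γ = ℓ (1, 0) • w₁ + ℓ (0, 1) • w₂ := by
    intro ℓ γ hγ
    refine dOp_eq G B (hbG G hGbc B) _ w₀ _ ?_
    have e : (psiH γ : Rt A A (Q (mat bP bP' κ)) ⟶ Rt A B B) =
        (CommAlgCat.ofHom (psiT₂ β β') : Rt A A (Q (mat bP bP' κ)) ⟶ Rt A B (B × B)) ≫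
          (CommAlgCat.ofHom (prB ℓ) : Rt A B (B × B) ⟶ Rt A B B) := by
      show CommAlgCat.ofHom (psiT γ) = _
      rw [psiT₂_pr β β' ℓ γ hγ]
      rfl
    rw [e, mapFn_comp, hw, mapFn_prB_decomp, mapFn_add, mapFn_iN_smul, mapFn_iN_smul, smul_add,
      smul_smul, smul_smul, eps_mul_inl, eps_mul_inl, add_assoc]
  have k1 := key (LinearMap.fst B B B) β (fun q => rfl)
  have k2 := key (LinearMap.snd B B B) β' (fun q => rfl)
  have k3 := key (LinearMap.fst B B B + LinearMap.snd B B B) (solAdd β β')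
    (fun q => lam_add β β' q)
  simp only [LinearMap.fst_apply, LinearMap.snd_apply, LinearMap.add_apply, one_smul, zero_smul,
    add_zero, zero_add] at k1 k2 k3
  rw [k1, k2, k3]

include hη in
theorem gK_secβ {B : Type u} [CommRing B] [Algebra A B] (β : Sol (mat bP bP' κ) B) :
    (gK.app (pt (algOf A B))).hom (secβ bP bP' κ G hGbc η B β) = kap β := by
  obtain ⟨g₀, hg₀⟩ := secβ_spec bP bP' κ G hGbc η B β
  have hbK : Function.Bijective ((kernel ((underline A).map κ)).bc (iN A B B)).hom :=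
    (ConcreteCategory.isIso_iff_bijective _).mp
      (isIso_bc_of_flat _ ⟨P, P', κ, ⟨Iso.refl _⟩⟩ _ (flat_iN B B))
  have h1 := congrArg (fun t => (gK.app (pt (Rt A B B))).hom t) hg₀
  have hL : (gK.app (pt (Rt A B B))).hom (mapFn G (psiH β) η) =
      eps B • mapFn (kernel ((underline A).map κ)) (iN A B B) (kap β) := by
    rw [mapFn_nat, hη]
    have e1 : mapFn (kernel ((underline A).map κ)) (psiH β) (kap (univSol (mat bP bP' κ))) =
        kap ((univSol (mat bP bP' κ)).comp (psiT β)) := map_kap (psiT β) (univSol _)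
    rw [e1, univSol_comp_psiT, ← smul_kap]
    congr 1
    exact (map_kap (TrivSqZeroExt.inlAlgHom A B B) β).symm
  have hR : (gK.app (pt (Rt A B B))).hom (mapFn G (iN A B B) g₀ +
        eps B • mapFn G (iN A B B) (secβ bP bP' κ G hGbc η B β)) =
      mapFn (kernel ((underline A).map κ)) (iN A B B) ((gK.app (pt (algOf A B))).hom g₀) +
        eps B • mapFn (kernel ((underline A).map κ)) (iN A B B)
          ((gK.app (pt (algOf A B))).hom (secβ bP bP' κ G hGbc η B β)) := by
    rw [map_add, ← mapFn_nat, ← mapFn_nat]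
    congr 1
    exact (gK.app (pt (Rt A B B))).hom.map_smul (eps B) _
  have h2 : mapFn (kernel ((underline A).map κ)) (iN A B B) 0 +
        eps B • mapFn (kernel ((underline A).map κ)) (iN A B B) (kap β) =
      mapFn (kernel ((underline A).map κ)) (iN A B B) ((gK.app (pt (algOf A B))).hom g₀) +
        eps B • mapFn (kernel ((underline A).map κ)) (iN A B B)
          ((gK.app (pt (algOf A B))).hom (secβ bP bP' κ G hGbc η B β)) := by
    rw [mapFn_zero, zero_add, ← hL, ← hR]
    exact h1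
  exact ((decomp_unique (kernel ((underline A).map κ)) B hbK.1 _ _ _ _ h2).2).symm

/-- the section on elements. -/
noncomputable def sec (B : Type u) [CommRing B] [Algebra A B]
    (k : (kernel ((underline A).map κ)).obj (pt (algOf A B))) : G.obj (pt (algOf A B)) :=
  secβ bP bP' κ G hGbc η B (Classical.choose (eq_kap (bP := bP) (bP' := bP') (φ₀ := κ) k))

theorem sec_kap {B : Type u} [CommRing B] [Algebra A B] (β : Sol (mat bP bP' κ) B) :
    sec bP bP' κ G hGbc η B (kap β) = secβ bP bP' κ G hGbc η B β := by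
  unfold sec
  congr 1
  exact kap_injective _ _ (Classical.choose_spec (eq_kap (kap β))).symm

theorem sec_add {B : Type u} [CommRing B] [Algebra A B]
    (k k' : (kernel ((underline A).map κ)).obj (pt (algOf A B))) :
    sec bP bP' κ G hGbc η B (k + k') =
      sec bP bP' κ G hGbc η B k + sec bP bP' κ G hGbc η B k' := by
  obtain ⟨β, rfl⟩ := eq_kap (bP := bP) (bP' := bP') (φ₀ := κ) k
  obtain ⟨β', rfl⟩ := eq_kap (bP := bP) (bP' := bP') (φ₀ := κ) k'
  rw [← kap_add, sec_kap, sec_kap, sec_kap, secβ_add]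

theorem sec_smul {B : Type u} [CommRing B] [Algebra A B] (b : B)
    (k : (kernel ((underline A).map κ)).obj (pt (algOf A B))) :
    sec bP bP' κ G hGbc η B (b • k) = b • sec bP bP' κ G hGbc η B k := by
  obtain ⟨β, rfl⟩ := eq_kap (bP := bP) (bP' := bP') (φ₀ := κ) k
  rw [smul_kap, sec_kap, sec_kap, secβ_smul]

theorem sec_nat {B B' : Type u} [CommRing B] [Algebra A B] [CommRing B'] [Algebra A B']
    (h : B →ₐ[A] B') (k : (kernel ((underline A).map κ)).obj (pt (algOf A B))) :
    mapFn G (CommAlgCat.ofHom h) (sec bP bP' κ G hGbc η B k) =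
      sec bP bP' κ G hGbc η B' (mapFn (kernel ((underline A).map κ)) (CommAlgCat.ofHom h) k) := by
  obtain ⟨β, rfl⟩ := eq_kap (bP := bP) (bP' := bP') (φ₀ := κ) k
  have e1 : mapFn (kernel ((underline A).map κ)) (CommAlgCat.ofHom h) (kap β) =
      kap (β.comp h) := map_kap h β
  rw [sec_kap, secβ_comp, e1, sec_kap]

include hη in
theorem gK_sec {B : Type u} [CommRing B] [Algebra A B]
    (k : (kernel ((underline A).map κ)).obj (pt (algOf A B))) :
    (gK.app (pt (algOf A B))).hom (sec bP bP' κ G hGbc η B k) = k := by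
  obtain ⟨β, rfl⟩ := eq_kap (bP := bP) (bP' := bP') (φ₀ := κ) k
  rw [sec_kap, gK_secβ bP bP' κ G gK hGbc η hη]

/-- the section as a morphism of module-valued functors. -/
noncomputable def secHom : kernel ((underline A).map κ) ⟶ G where
  app X := ModuleCat.ofHom (X := (kernel ((underline A).map κ)).obj X) (Y := G.obj X)
    { toFun := fun k => sec bP bP' κ G hGbc η X.unop.unop k
      map_add' := fun k k' => sec_add bP bP' κ G hGbc η k k'
      map_smul' := fun b k => sec_smul bP bP' κ G hGbc η b k }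
  naturality {X Y} f := by
    ext k
    exact (sec_nat bP bP' κ G hGbc η f.unop.unop.hom k).symm

include hη in
theorem secHom_comp : secHom bP bP' κ G hGbc η ≫ gK = 𝟙 _ := by
  apply PresheafOfModules.hom_ext
  intro X
  ext k
  exact gK_sec bP bP' κ G gK hGbc η hη (B := X.unop.unop) k

end Sec

theorem exists_section {P P' : ModuleCat.{u + 1} A} {n m : ℕ} (bP : Module.Basis (Fin n) A P)
    (bP' : Module.Basis (Fin m) A P') (κ : P ⟶ P')
    (G : MVF A) (gK : G ⟶ kernel ((underline A).map κ))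
    (hGbc : ∀ ⦃C C' : Alg A⦄ (f : C ⟶ C'), f.hom.toRingHom.Flat → IsIso (G.bc f))
    (hsurj : ∀ X, Function.Surjective (gK.app X).hom) :
    ∃ s : kernel ((underline A).map κ) ⟶ G, s ≫ gK = 𝟙 _ := by
  obtain ⟨η, hη⟩ := hsurj (pt (Rt A A (Q (mat bP bP' κ)))) (kap (univSol (mat bP bP' κ)))
  exact ⟨secHom bP bP' κ G hGbc η, secHom_comp bP bP' κ G gK hGbc η hη⟩

/-- the middle term of a split short exact sequence with adequate ends is adequate. -/
theorem adequate_of_splitting (S : ShortComplex (MVF A)) (σ : S.Splitting)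
    (h₁ : adequate A S.X₁) (h₃ : adequate A S.X₃) : adequate A S.X₂ := by
  let F : ULift.{u + 1} Bool → MVF A := fun j => cond j.down S.X₁ S.X₃
  let c : Cofan F := Cofan.mk S.X₂ (fun j => match j with
    | ⟨true⟩ => S.f
    | ⟨false⟩ => σ.s)
  have hc : IsColimit c := Cofan.IsColimit.mk c
    (fun t => σ.r ≫ t.inj ⟨true⟩ + S.g ≫ t.inj ⟨false⟩)
    (fun t j => by
      obtain ⟨b⟩ := j
      cases b
      · show σ.s ≫ (σ.r ≫ t.inj ⟨true⟩ + S.g ≫ t.inj ⟨false⟩) = t.inj ⟨false⟩
        rw [Preadditive.comp_add, ← Category.assoc, σ.s_r, zero_comp, zero_add, ← Category.assoc,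
          σ.s_g, Category.id_comp]
      · show S.f ≫ (σ.r ≫ t.inj ⟨true⟩ + S.g ≫ t.inj ⟨false⟩) = t.inj ⟨true⟩
        rw [Preadditive.comp_add, ← Category.assoc, σ.f_r, Category.id_comp, ← Category.assoc,
          S.zero, zero_comp, add_zero])
    (fun t m hm => by
      have h1 : S.f ≫ m = t.inj ⟨true⟩ := hm ⟨true⟩
      have h2 : σ.s ≫ m = t.inj ⟨false⟩ := hm ⟨false⟩
      rw [← h1, ← h2, ← Category.assoc, ← Category.assoc, ← Preadditive.add_comp, σ.id,
        Category.id_comp])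
  exact adequate_cofan (fun j => match j with
    | ⟨true⟩ => h₁
    | ⟨false⟩ => h₃) c hc

/-- Stacks 06V1. -/
theorem split_of_linAdequate (S : ShortComplex (MVF A)) (hS : S.ShortExact)
    (M : ModuleCat.{u + 1} A) (e : S.X₁ ≅ (underline A).obj M) (hL : linAdequate A S.X₃) :
    Nonempty S.Splitting ∧ adequate A S.X₂ := by
  have h₁ : adequate A S.X₁ := (adequate A).prop_of_iso e.symm (adequate_underline M)
  have h₃ : adequate A S.X₃ := adequate_of_linAdequate hL
  obtain ⟨P, P', κ, hP1, hP2, hP3, hP4, ⟨eL⟩⟩ := hL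
  haveI := hP1
  haveI := hP2
  haveI := hP3
  haveI := hP4
  have hGbc : ∀ ⦃C C' : Alg A⦄ (f : C ⟶ C'), f.hom.toRingHom.Flat → IsIso (S.X₂.bc f) :=
    fun C C' f hf => isIso_bc_of_shortExact S hS h₁ h₃ f hf
  haveI := hS.epi_g
  have hsurj : ∀ X, Function.Surjective ((S.g ≫ eL.hom).app X).hom := fun X =>
    PresheafOfModules.surjective_of_epi (S.g ≫ eL.hom) X
  obtain ⟨s, hs⟩ := exists_section
    ((Module.Free.chooseBasis A P).reindex (Fintype.equivFin _))
    ((Module.Free.chooseBasis A P').reindex (Fintype.equivFin _)) κ S.X₂ (S.g ≫ eL.hom)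
    hGbc hsurj
  have h4 : s ≫ S.g = eL.inv := by
    rw [← cancel_mono eL.hom, Category.assoc, Iso.inv_hom_id]
    exact hs
  have ht : (eL.hom ≫ s) ≫ S.g = 𝟙 S.X₃ := by
    rw [Category.assoc, h4, Iso.hom_inv_id]
  let σ := ShortComplex.Splitting.ofExactOfSection S hS.exact _ ht hS.mono_f
  exact ⟨⟨σ⟩, adequate_of_splitting S σ h₁ h₃⟩

end Groth.Agent.H2.AdeqSplit
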