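import Mathlib
import Groth.Prelude.Def_Adeq
import Groth.Agent.Lib.Helper2.AdeqSplit

/-! # Lifting maps out of a linearly adequate functor along a surjection (projectivity-like). -/

set_option autoImplicit false
universe u
open CategoryTheory CategoryTheory.Limits TensorProduct Adeq

namespace Groth.Agent.H2.AdeqLift

open Groth.Agent.H2.AdeqYoneda Groth.Agent.H2.AdeqLin Groth.Agent.H2.AdeqKer
  Groth.Agent.H2.AdeqTsze Groth.Agent.H2.AdeqSplitA Groth.Agent.H2.AdeqFlat
  Groth.Agent.H2.AdeqFive Groth.Agent.H2.AdeqAb Groth.Agent.H2.AdeqSum Groth.Agent.H2.AdeqSplit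

variable {A : Type u} [CommRing A]

section Sec

variable {P P' : ModuleCat.{u + 1} A} {n m : ℕ} (bP : Module.Basis (Fin n) A P)
  (bP' : Module.Basis (Fin m) A P') (κ : P ⟶ P')
  (G : MVF A)
  (hGbc : ∀ ⦃C C' : Alg A⦄ (f : C ⟶ C'), f.hom.toRingHom.Flat → IsIso (G.bc f))
  (η : G.obj (pt (Rt A A (Q (mat bP bP' κ)))))
  (H : MVF A)
  (hHbc : ∀ ⦃C C' : Alg A⦄ (f : C ⟶ C'), f.hom.toRingHom.Flat → IsIso (H.bc f))
  (g : G ⟶ H) (l : kernel ((underline A).map κ) ⟶ H)
  (hη : (g.app (pt (Rt A A (Q (mat bP bP' κ))))).hom η =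
    (l.app (pt (Rt A A (Q (mat bP bP' κ))))).hom (kap (univSol (mat bP bP' κ))))

include hHbc hη in
theorem g_secβ {B : Type u} [CommRing B] [Algebra A B] (β : Sol (mat bP bP' κ) B) :
    (g.app (pt (algOf A B))).hom (secβ bP bP' κ G hGbc η B β) =
      (l.app (pt (algOf A B))).hom (kap β) := by
  obtain ⟨g₀, hg₀⟩ := secβ_spec bP bP' κ G hGbc η B β
  have hbH : Function.Bijective (H.bc (iN A B B)).hom :=
    (ConcreteCategory.isIso_iff_bijective _).mp (hHbc _ (flat_iN B B))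
  have h1 := congrArg (fun t => (g.app (pt (Rt A B B))).hom t) hg₀
  have hL : (g.app (pt (Rt A B B))).hom (mapFn G (psiH β) η) =
      eps B • mapFn H (iN A B B) ((l.app (pt (algOf A B))).hom (kap β)) := by
    rw [mapFn_nat, hη, ← mapFn_nat]
    have e1 : mapFn (kernel ((underline A).map κ)) (psiH β) (kap (univSol (mat bP bP' κ))) =
        kap ((univSol (mat bP bP' κ)).comp (psiT β)) := map_kap (psiT β) (univSol _)
    rw [e1, univSol_comp_psiT, ← smul_kap, ← mapFn_nat]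
    have e2 : mapFn (kernel ((underline A).map κ)) (iN A B B) (kap β) =
        kap (β.comp (TrivSqZeroExt.inlAlgHom A B B)) := map_kap (TrivSqZeroExt.inlAlgHom A B B) β
    rw [e2]
    exact (l.app (pt (Rt A B B))).hom.map_smul (eps B) _
  have hR : (g.app (pt (Rt A B B))).hom (mapFn G (iN A B B) g₀ +
        eps B • mapFn G (iN A B B) (secβ bP bP' κ G hGbc η B β)) =
      mapFn H (iN A B B) ((g.app (pt (algOf A B))).hom g₀) +
        eps B • mapFn H (iN A B B)
          ((g.app (pt (algOf A B))).hom (secβ bP bP' κ G hGbc η B β)) := by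
    rw [map_add, ← mapFn_nat, ← mapFn_nat]
    congr 1
    exact (g.app (pt (Rt A B B))).hom.map_smul (eps B) _
  have h2 : mapFn H (iN A B B) 0 +
        eps B • mapFn H (iN A B B) ((l.app (pt (algOf A B))).hom (kap β)) =
      mapFn H (iN A B B) ((g.app (pt (algOf A B))).hom g₀) +
        eps B • mapFn H (iN A B B)
          ((g.app (pt (algOf A B))).hom (secβ bP bP' κ G hGbc η B β)) := by
    rw [mapFn_zero, zero_add, ← hL, ← hR]
    exact h1
  exact ((decomp_unique H B hbH.1 _ _ _ _ h2).2).symm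

include hHbc hη in
theorem g_sec {B : Type u} [CommRing B] [Algebra A B]
    (k : (kernel ((underline A).map κ)).obj (pt (algOf A B))) :
    (g.app (pt (algOf A B))).hom (sec bP bP' κ G hGbc η B k) =
      (l.app (pt (algOf A B))).hom k := by
  obtain ⟨β, rfl⟩ := eq_kap (bP := bP) (bP' := bP') (φ₀ := κ) k
  rw [sec_kap, g_secβ bP bP' κ G hGbc η H hHbc g l hη]

include hHbc hη in
theorem secHom_comp_g : secHom bP bP' κ G hGbc η ≫ g = l := by
  apply PresheafOfModules.hom_ext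
  intro X
  ext k
  exact g_sec bP bP' κ G hGbc η H hHbc g l hη (B := X.unop.unop) k

end Sec

theorem exists_lift_kernel {P P' : ModuleCat.{u + 1} A} {n m : ℕ}
    (bP : Module.Basis (Fin n) A P) (bP' : Module.Basis (Fin m) A P') (κ : P ⟶ P')
    (G H : MVF A)
    (hGbc : ∀ ⦃C C' : Alg A⦄ (f : C ⟶ C'), f.hom.toRingHom.Flat → IsIso (G.bc f))
    (hHbc : ∀ ⦃C C' : Alg A⦄ (f : C ⟶ C'), f.hom.toRingHom.Flat → IsIso (H.bc f))
    (g : G ⟶ H) (hsurj : ∀ X, Function.Surjective (g.app X).hom)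
    (l : kernel ((underline A).map κ) ⟶ H) :
    ∃ t : kernel ((underline A).map κ) ⟶ G, t ≫ g = l := by
  obtain ⟨η, hη⟩ := hsurj (pt (Rt A A (Q (mat bP bP' κ))))
    ((l.app (pt (Rt A A (Q (mat bP bP' κ))))).hom (kap (univSol (mat bP bP' κ))))
  exact ⟨secHom bP bP' κ G hGbc η, secHom_comp_g bP bP' κ G hGbc η H hHbc g l hη⟩

/-- maps out of a linearly adequate functor lift along pointwise surjections between functors
satisfying flat base change. -/
theorem exists_lift_linAdequate {L : MVF A} (hL : linAdequate A L) (G H : MVF A)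
    (hGbc : ∀ ⦃C C' : Alg A⦄ (f : C ⟶ C'), f.hom.toRingHom.Flat → IsIso (G.bc f))
    (hHbc : ∀ ⦃C C' : Alg A⦄ (f : C ⟶ C'), f.hom.toRingHom.Flat → IsIso (H.bc f))
    (g : G ⟶ H) (hsurj : ∀ X, Function.Surjective (g.app X).hom) (l : L ⟶ H) :
    ∃ t : L ⟶ G, t ≫ g = l := by
  obtain ⟨P, P', κ, hP1, hP2, hP3, hP4, ⟨eL⟩⟩ := hL
  haveI := hP1
  haveI := hP2
  haveI := hP3
  haveI := hP4
  obtain ⟨t, ht⟩ := exists_lift_kernel
    ((Module.Free.chooseBasis A P).reindex (Fintype.equivFin _))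
    ((Module.Free.chooseBasis A P').reindex (Fintype.equivFin _)) κ G H hGbc hHbc g hsurj
    (eL.inv ≫ l)
  exact ⟨eL.hom ≫ t, by rw [Category.assoc, ht, Iso.hom_inv_id_assoc]⟩

end Groth.Agent.H2.AdeqLift
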