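import Mathlib
import Groth.Prelude.Def_Adeq
import Groth.Agent.Lib.Helper2.AdeqLift

/-! # Extensions of adequate functors are adequate (Stacks 06V5). -/

set_option autoImplicit false
universe u
open CategoryTheory CategoryTheory.Limits TensorProduct Adeq

namespace Groth.Agent.H2.AdeqExt

open Groth.Agent.H2.AdeqKer Groth.Agent.H2.AdeqCok Groth.Agent.H2.AdeqFlat
  Groth.Agent.H2.AdeqFive Groth.Agent.H2.AdeqAb Groth.Agent.H2.AdeqSum Groth.Agent.H2.AdeqSplit
  Groth.Agent.H2.AdeqLift Groth.Agent.H2.AdeqSurj Groth.Agent.H2.AdeqExact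

variable {A : Type u} [CommRing A]

theorem biprod_total_apply {F G : MVF A} (X : (Alg A)ᵒᵖᵒᵖ) (x : (F ⊞ G).obj X) :
    x = (biprod.inl : F ⟶ F ⊞ G).app X ((biprod.fst : F ⊞ G ⟶ F).app X x) +
      (biprod.inr : G ⟶ F ⊞ G).app X ((biprod.snd : F ⊞ G ⟶ G).app X x) :=
  (congrArg (fun t => (PresheafOfModules.Hom.app t X) x) (biprod.total (X := F) (Y := G))).symm

theorem desc_apply {F G H : MVF A} (f : F ⟶ H) (g : G ⟶ H) (X : (Alg A)ᵒᵖᵒᵖ)
    (a : F.obj X) (b : G.obj X) :
    (biprod.desc f g).app X ((biprod.inl : F ⟶ F ⊞ G).app X a +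
      (biprod.inr : G ⟶ F ⊞ G).app X b) = f.app X a + g.app X b := by
  rw [map_add, comp_app_apply (biprod.inl_desc f g) X a, comp_app_apply (biprod.inr_desc f g) X b]

/-- Stacks 06V5: adequate functors are closed under extensions. -/
theorem adequate_of_shortExact (S : ShortComplex (MVF A)) (hS : S.ShortExact)
    (h₁ : adequate A S.X₁) (h₃ : adequate A S.X₃) : adequate A S.X₂ := by
  classical
  have hGbc : ∀ ⦃C C' : Alg A⦄ (f : C ⟶ C'), f.hom.toRingHom.Flat → IsIso (S.X₂.bc f) :=
    fun C C' f hf => isIso_bc_of_shortExact S hS h₁ h₃ f hf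
  have hHbc : ∀ ⦃C C' : Alg A⦄ (f : C ⟶ C'), f.hom.toRingHom.Flat → IsIso (S.X₃.bc f) :=
    fun C C' f hf => isIso_bc_of_flat _ h₃ f hf
  have hpt := shortExact_pointwise S hS
  obtain ⟨I, L, hL, c, hc, π, hπ⟩ := exists_epi_cofan S.X₃ h₃
  haveI := hπ
  have hπs : ∀ X, Function.Surjective (π.app X) := fun X =>
    PresheafOfModules.surjective_of_epi π X
  choose ti hti using fun i => exists_lift_linAdequate (hL i) S.X₂ S.X₃ hGbc hHbc S.g
    (fun X => (hpt X).2.1) (c.inj i ≫ π)
  let t : c.pt ⟶ S.X₂ := Cofan.IsColimit.desc hc ti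
  have ht : t ≫ S.g = π := by
    apply Cofan.IsColimit.hom_ext hc
    intro i
    rw [← Category.assoc, Cofan.IsColimit.fac hc, hti]
  have hC : adequate A c.pt := adequate_cofan (fun i => adequate_of_linAdequate (hL i)) c hc
  have hK : adequate A (kernel π) := adequate_kernel π hC h₃
  haveI := hS.mono_f
  let τ : kernel π ⟶ S.X₁ := hS.exact.lift (kernel.ι π ≫ t)
    (by rw [Category.assoc, ht, kernel.condition])
  have hτ : τ ≫ S.f = kernel.ι π ≫ t := hS.exact.lift_f _ _
  have hE : adequate A (S.X₁ ⊞ c.pt) :=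
    adequate_of_splitting _ (ShortComplex.Splitting.ofHasBinaryBiproduct S.X₁ c.pt) h₁ hC
  let ρ : kernel π ⟶ S.X₁ ⊞ c.pt := biprod.lift (-τ) (kernel.ι π)
  let p : S.X₁ ⊞ c.pt ⟶ S.X₂ := biprod.desc S.f t
  have hρp : ρ ≫ p = 0 := by
    rw [biprod.lift_desc, Preadditive.neg_comp, hτ, neg_add_cancel]
  have hcok : adequate A (cokernel ρ) := adequate_cokernel ρ hK hE
  have hiso : Nonempty (cokernel ρ ≅ kernel (0 : S.X₂ ⟶ S.X₂)) := by
    apply nonempty_cokernel_iso_kernel ρ p 0 hρp comp_zero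
    · intro X x hx
      have hx1 := biprod_total_apply X x
      set a := (biprod.fst : S.X₁ ⊞ c.pt ⟶ S.X₁).app X x with ha
      set b := (biprod.snd : S.X₁ ⊞ c.pt ⟶ c.pt).app X x with hb
      have h1 : S.f.app X a + t.app X b = 0 := by
        rw [← desc_apply S.f t X a b, ← hx1]
        exact hx
      have h2 : π.app X b = 0 := by
        have e1 : S.g.app X (S.f.app X a) = 0 := comp_app_apply S.zero X a
        have e2 : S.g.app X (t.app X b) = π.app X b := comp_app_apply ht X b
        have e3 := congrArg (fun z => S.g.app X z) h1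
        simp only [map_add, map_zero] at e3
        rw [e1, e2, zero_add] at e3
        exact e3
      obtain ⟨k, hk⟩ := exists_of_app_eq_zero π X b h2
      have h3 : S.f.app X (τ.app X k) = t.app X b := by
        rw [← hk]
        exact comp_app_apply₂ hτ X k
      have h4 : τ.app X k + a = 0 := by
        apply (hpt X).1
        rw [map_zero]
        have : (S.f.app X).hom (τ.app X k + a) = S.f.app X (τ.app X k) + S.f.app X a :=
          map_add _ _ _
        rw [this, h3, add_comm]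
        exact h1
      refine ⟨k, ?_⟩
      have h5 := biprod_total_apply X (ρ.app X k)
      have h6 : (biprod.fst : S.X₁ ⊞ c.pt ⟶ S.X₁).app X (ρ.app X k) = -(τ.app X k) :=
        comp_app_apply (biprod.lift_fst (-τ) (kernel.ι π)) X k
      have h7 : (biprod.snd : S.X₁ ⊞ c.pt ⟶ c.pt).app X (ρ.app X k) = b := by
        rw [← hk]
        exact comp_app_apply (biprod.lift_snd (-τ) (kernel.ι π)) X k
      rw [h5, h6, h7, hx1]
      congr 2
      exact (eq_neg_of_add_eq_zero_right h4).symm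
    · intro X y _
      obtain ⟨b, hb⟩ := hπs X (S.g.app X y)
      have h1 : S.g.app X (y - t.app X b) = 0 := by
        rw [map_sub, comp_app_apply ht X b, hb, sub_self]
      obtain ⟨a, ha⟩ := ((hpt X).2.2 _).mp h1
      refine ⟨(biprod.inl : S.X₁ ⟶ S.X₁ ⊞ c.pt).app X a +
        (biprod.inr : c.pt ⟶ S.X₁ ⊞ c.pt).app X b, ?_⟩
      rw [desc_apply]
      have : S.f.app X a = y - t.app X b := ha
      rw [this, sub_add_cancel]
  obtain ⟨i⟩ := hiso
  exact (adequate A).prop_of_iso (i ≪≫ kernelZeroIsoSource) hcok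

end Groth.Agent.H2.AdeqExt
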