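import Mathlib
import Groth.Agent.Lib.Helper2.FFModDesc

/-! # Faithfully flat descent: exactness of the Amitsur complex in degree one. -/

set_option autoImplicit false
open TensorProduct

namespace Groth.Agent.H2.FFModH1

open Groth.Agent.H2.FFModDesc

universe u v w
variable (R : Type u) [CommRing R] (S : Type v) [CommRing S] [Algebra R S]
  (M : Type w) [AddCommGroup M] [Module R M]

/-- `a ⊗ b ↦ (a ⊗ b) ⊗ 1`. -/
noncomputable abbrev δ₂ : S ⊗[R] S →ₐ[R] (S ⊗[R] S) ⊗[R] S :=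
  Algebra.TensorProduct.includeLeft

/-- `a ⊗ b ↦ (a ⊗ 1) ⊗ b`. -/
noncomputable abbrev δ₁ : S ⊗[R] S →ₐ[R] (S ⊗[R] S) ⊗[R] S :=
  Algebra.TensorProduct.map Algebra.TensorProduct.includeLeft (AlgHom.id R S)

/-- `a ⊗ b ↦ (1 ⊗ a) ⊗ b`. -/
noncomputable abbrev δ₀ : S ⊗[R] S →ₐ[R] (S ⊗[R] S) ⊗[R] S :=
  Algebra.TensorProduct.map Algebra.TensorProduct.includeRight (AlgHom.id R S)

/-- the differential in degree one. -/
noncomputable abbrev d1 : (S ⊗[R] S) ⊗[R] M →ₗ[R] ((S ⊗[R] S) ⊗[R] S) ⊗[R] M :=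
  ((δ₂ R S).toLinearMap - (δ₁ R S).toLinearMap + (δ₀ R S).toLinearMap).rTensor M

/-- reassociation `((S ⊗ S) ⊗ S) ⊗ M → S ⊗ ((S ⊗ S) ⊗ M)`. -/
noncomputable abbrev θ : ((S ⊗[R] S) ⊗[R] S) ⊗[R] M →ₗ[R] S ⊗[R] ((S ⊗[R] S) ⊗[R] M) :=
  (TensorProduct.assoc R S (S ⊗[R] S) M).toLinearMap ∘ₗ
    ((TensorProduct.assoc R S S S).toLinearMap.rTensor M)

theorem key1 (z : S ⊗[R] ((S ⊗[R] S) ⊗[R] M)) :
    θ R S M (act R S (((S ⊗[R] S) ⊗[R] S) ⊗[R] M) ((d1 R S M).lTensor S z)) =
      (d R S M).lTensor S ((TensorProduct.assoc R S S M) (act R S ((S ⊗[R] S) ⊗[R] M) z)) + z := by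
  induction z using TensorProduct.induction_on with
  | zero => simp
  | add x y hx hy => simp only [map_add, hx, hy]; abel
  | tmul s x =>
    induction x using TensorProduct.induction_on with
    | zero => simp
    | add x y hx hy => simp only [tmul_add, map_add, hx, hy]; abel
    | tmul t m =>
      induction t using TensorProduct.induction_on with
      | zero => simp
      | add x y hx hy => simp only [add_tmul, tmul_add, map_add, hx, hy]; abel
      | tmul a b =>
        simp only [LinearMap.lTensor_tmul, LinearMap.rTensor_tmul, act_tmul,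
          Algebra.TensorProduct.includeLeftSubRight_apply, TensorProduct.smul_tmul', sub_tmul,
          add_tmul, smul_sub, map_sub, map_add, TensorProduct.assoc_tmul, smul_eq_mul,
          mul_one, LinearMap.add_apply, LinearMap.sub_apply, AlgHom.toLinearMap_apply,
          Algebra.TensorProduct.includeLeft_apply, Algebra.TensorProduct.includeRight_apply,
          Algebra.TensorProduct.map_tmul, AlgHom.coe_id, id_eq, LinearMap.comp_apply,
          LinearEquiv.coe_coe, tmul_sub, tmul_add]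

theorem d1_comp_d : (d1 R S M) ∘ₗ (d R S M) = 0 := by
  have h : ((δ₂ R S).toLinearMap - (δ₁ R S).toLinearMap + (δ₀ R S).toLinearMap) ∘ₗ
      (Algebra.TensorProduct.includeLeftSubRight R S) = 0 := by
    ext s
    simp only [LinearMap.comp_apply, LinearMap.add_apply, LinearMap.sub_apply,
      AlgHom.toLinearMap_apply, Algebra.TensorProduct.includeLeftSubRight_apply, map_sub,
      Algebra.TensorProduct.includeLeft_apply, Algebra.TensorProduct.map_tmul,
      Algebra.TensorProduct.includeRight_apply, AlgHom.coe_id, id_eq, LinearMap.zero_apply]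
    abel
  rw [d1, d, ← LinearMap.rTensor_comp, h, LinearMap.rTensor_zero]

theorem exact_abs {N1 N2 N3 : Type*} [AddCommGroup N1] [AddCommGroup N2] [AddCommGroup N3]
    [Module R N1] [Module R N2] [Module R N3] (f : N1 →ₗ[R] N2) (g : N2 →ₗ[R] N3)
    (hgf : g ∘ₗ f = 0) (σ : S ⊗[R] N2 →ₗ[R] S ⊗[R] N1) (τ : S ⊗[R] N3 →ₗ[R] S ⊗[R] N2)
    (h : ∀ z, τ (g.lTensor S z) = f.lTensor S (σ z) + z) [Module.FaithfullyFlat R S] :
    Function.Exact f g := by
  apply (Module.FaithfullyFlat.lTensor_exact_iff_exact R S f g).1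
  intro z
  constructor
  · intro hz
    refine ⟨-(σ z), ?_⟩
    have h' := h z
    rw [hz, map_zero] at h'
    rw [map_neg]
    exact (neg_eq_of_add_eq_zero_right h'.symm)
  · rintro ⟨y, rfl⟩
    rw [← LinearMap.comp_apply, ← LinearMap.lTensor_comp, hgf, LinearMap.lTensor_zero,
      LinearMap.zero_apply]

set_option maxHeartbeats 1000000 in
theorem exact [Module.FaithfullyFlat R S] : Function.Exact (d R S M) (d1 R S M) := by
  refine exact_abs R S (N1 := S ⊗[R] M) (N2 := (S ⊗[R] S) ⊗[R] M)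
    (N3 := ((S ⊗[R] S) ⊗[R] S) ⊗[R] M) (d R S M) (d1 R S M) (d1_comp_d R S M)
    ((TensorProduct.assoc R S S M).toLinearMap ∘ₗ act R S ((S ⊗[R] S) ⊗[R] M))
    (θ R S M ∘ₗ act R S (((S ⊗[R] S) ⊗[R] S) ⊗[R] M)) ?_
  intro z
  exact key1 R S M z

theorem exists_of_d1_eq_zero [Module.FaithfullyFlat R S] (z : (S ⊗[R] S) ⊗[R] M)
    (h : d1 R S M z = 0) : ∃ w : S ⊗[R] M, d R S M w = z :=
  (exact R S M z).1 h

/-- vanishing of the first Amitsur cohomology. -/
theorem exists_of_cocycle [Module.FaithfullyFlat R S] (z : (S ⊗[R] S) ⊗[R] M)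
    (h : (δ₂ R S).toLinearMap.rTensor M z - (δ₁ R S).toLinearMap.rTensor M z +
      (δ₀ R S).toLinearMap.rTensor M z = 0) :
    ∃ w : S ⊗[R] M,
      (Algebra.TensorProduct.includeLeft : S →ₐ[R] S ⊗[R] S).toLinearMap.rTensor M w -
        (Algebra.TensorProduct.includeRight : S →ₐ[R] S ⊗[R] S).toLinearMap.rTensor M w = z := by
  have hz : d1 R S M z = 0 := by
    rw [d1, LinearMap.rTensor_add, LinearMap.rTensor_sub]
    exact h
  obtain ⟨w, hw⟩ := (exact R S M z).1 hz
  refine ⟨w, ?_⟩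
  rw [← hw, d, Algebra.TensorProduct.includeLeftSubRight, LinearMap.rTensor_sub,
    LinearMap.sub_apply]

end Groth.Agent.H2.FFModH1
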