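import Mathlib
import Groth.Agent.Lib.Helper2.FFModH1
import Groth.Agent.Lib.Helper2.AdeqFFam

/-! # Vanishing of the first Čech cohomology of `M̲` for a finite faithfully flat family. -/

set_option autoImplicit false
universe w v u
open TensorProduct

namespace Groth.Agent.H2.FFModH1Fam

open Groth.Agent.H2.AdeqFFam Groth.Agent.H2.FFModH1

variable {A : Type u} [CommRing A] {κ : Type w} [Fintype κ] [DecidableEq κ]
  (Bs : κ → Type u) [∀ k, CommRing (Bs k)] [∀ k, Algebra A (Bs k)]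
  (M : Type v) [AddCommGroup M] [Module A M]

/-- double evaluation. -/
noncomputable abbrev ev2 (k l : κ) : (∀ k, Bs k) ⊗[A] (∀ k, Bs k) →ₐ[A] Bs k ⊗[A] Bs l :=
  Algebra.TensorProduct.map (ev Bs k) (ev Bs l)

/-- triple evaluation. -/
noncomputable abbrev ev3 (k l n : κ) :
    ((∀ k, Bs k) ⊗[A] (∀ k, Bs k)) ⊗[A] (∀ k, Bs k) →ₐ[A] (Bs k ⊗[A] Bs l) ⊗[A] Bs n :=
  Algebra.TensorProduct.map (ev2 (A := A) Bs k l) (ev Bs n)

/-- the three coface maps on the components. -/
noncomputable abbrev p₁₂ (k l n : κ) : Bs k ⊗[A] Bs l →ₐ[A] (Bs k ⊗[A] Bs l) ⊗[A] Bs n :=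
  Algebra.TensorProduct.includeLeft

noncomputable abbrev p₁₃ (k l n : κ) : Bs k ⊗[A] Bs n →ₐ[A] (Bs k ⊗[A] Bs l) ⊗[A] Bs n :=
  Algebra.TensorProduct.map Algebra.TensorProduct.includeLeft (AlgHom.id A (Bs n))

noncomputable abbrev p₂₃ (k l n : κ) : Bs l ⊗[A] Bs n →ₐ[A] (Bs k ⊗[A] Bs l) ⊗[A] Bs n :=
  Algebra.TensorProduct.map Algebra.TensorProduct.includeRight (AlgHom.id A (Bs n))

omit [Fintype κ] [DecidableEq κ] in
theorem ev3_δ₂ (k l n : κ) :
    (ev3 (A := A) Bs k l n).comp (δ₂ A (∀ k, Bs k)) = (p₁₂ (A := A) Bs k l n).comp (ev2 (A := A) Bs k l) :=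
  Algebra.TensorProduct.map_comp_includeLeft _ _

omit [Fintype κ] [DecidableEq κ] in
theorem ev3_δ₁ (k l n : κ) :
    (ev3 (A := A) Bs k l n).comp (δ₁ A (∀ k, Bs k)) = (p₁₃ (A := A) Bs k l n).comp (ev2 (A := A) Bs k n) :=
  Algebra.TensorProduct.ext (AlgHom.ext fun _ => rfl) (AlgHom.ext fun _ => rfl)

omit [Fintype κ] [DecidableEq κ] in
theorem ev3_δ₀ (k l n : κ) :
    (ev3 (A := A) Bs k l n).comp (δ₀ A (∀ k, Bs k)) = (p₂₃ (A := A) Bs k l n).comp (ev2 (A := A) Bs l n) :=
  Algebra.TensorProduct.ext (AlgHom.ext fun _ => rfl) (AlgHom.ext fun _ => rfl)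

omit [Fintype κ] [DecidableEq κ] in
theorem ev2_left (k l : κ) :
    (ev2 (A := A) Bs k l).comp Algebra.TensorProduct.includeLeft =
      (Algebra.TensorProduct.includeLeft : Bs k →ₐ[A] Bs k ⊗[A] Bs l).comp (ev Bs k) :=
  Algebra.TensorProduct.map_comp_includeLeft _ _

omit [Fintype κ] [DecidableEq κ] in
theorem ev2_right (k l : κ) :
    (ev2 (A := A) Bs k l).comp Algebra.TensorProduct.includeRight =
      (Algebra.TensorProduct.includeRight : Bs l →ₐ[A] Bs k ⊗[A] Bs l).comp (ev Bs l) :=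
  Algebra.TensorProduct.map_comp_includeRight _ _

omit [DecidableEq κ] in
theorem sum_single (b : ∀ k, Bs k) [DecidableEq κ] :
    ∑ k, (Pi.single k (b k) : ∀ k, Bs k) = b := by
  ext i
  simp

/-- joint injectivity of the triple evaluations. -/
theorem triple_ext
    (z z' : (((∀ k, Bs k) ⊗[A] (∀ k, Bs k)) ⊗[A] (∀ k, Bs k)) ⊗[A] M)
    (h : ∀ k l n, (ev3 (A := A) Bs k l n).toLinearMap.rTensor M z =
      (ev3 (A := A) Bs k l n).toLinearMap.rTensor M z') : z = z' := by
  let T : (((∀ k, Bs k) ⊗[A] (∀ k, Bs k)) ⊗[A] (∀ k, Bs k)) ⊗[A] M →ₗ[A]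
      (((∀ k, Bs k) ⊗[A] (∀ k, Bs k)) ⊗[A] (∀ k, Bs k)) ⊗[A] M :=
    ∑ k, ∑ l, ∑ n,
      (TensorProduct.map (TensorProduct.map (sg Bs k) (sg Bs l)) (sg Bs n)).rTensor M ∘ₗ
        (ev3 (A := A) Bs k l n).toLinearMap.rTensor M
  have hz : ∀ t, T t = ∑ k, ∑ l, ∑ n,
      (TensorProduct.map (TensorProduct.map (sg Bs k) (sg Bs l)) (sg Bs n)).rTensor M
        ((ev3 (A := A) Bs k l n).toLinearMap.rTensor M t) := by
    intro t
    simp only [T, LinearMap.sum_apply, LinearMap.comp_apply]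
  have hT : T = LinearMap.id := by
    apply TensorProduct.ext_fourfold
    intro b b' b'' m
    rw [hz, LinearMap.id_apply]
    have e : ∀ k l n,
        (TensorProduct.map (TensorProduct.map (sg Bs k) (sg Bs l)) (sg Bs n)).rTensor M
          ((ev3 (A := A) Bs k l n).toLinearMap.rTensor M (((b ⊗ₜ[A] b') ⊗ₜ[A] b'') ⊗ₜ[A] m)) =
        (((Pi.single k (b k) : ∀ k, Bs k) ⊗ₜ[A] (Pi.single l (b' l) : ∀ k, Bs k)) ⊗ₜ[A]
          (Pi.single n (b'' n) : ∀ k, Bs k)) ⊗ₜ[A] m := by
      intro k l n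
      rfl
    simp_rw [e]
    simp only [← TensorProduct.sum_tmul, ← TensorProduct.tmul_sum]
    rw [sum_single, sum_single, sum_single]
  calc z = T z := by rw [hT, LinearMap.id_apply]
    _ = T z' := by
      rw [hz, hz]
      exact Finset.sum_congr rfl (fun k _ => Finset.sum_congr rfl (fun l _ =>
        Finset.sum_congr rfl (fun n _ => by rw [h k l n])))
    _ = z' := by rw [hT, LinearMap.id_apply]

/-- gluing a family of elements of `(B_k ⊗ B_l) ⊗ M`. -/
noncomputable def glue2 (z : ∀ k l, (Bs k ⊗[A] Bs l) ⊗[A] M) :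
    ((∀ k, Bs k) ⊗[A] (∀ k, Bs k)) ⊗[A] M :=
  ∑ k, ∑ l, (TensorProduct.map (sg Bs k) (sg Bs l)).rTensor M (z k l)

theorem ev2_glue2 (z : ∀ k l, (Bs k ⊗[A] Bs l) ⊗[A] M) (k l : κ) :
    (ev2 (A := A) Bs k l).toLinearMap.rTensor M (glue2 Bs M z) = z k l := by
  have key : ∀ k' l', (ev2 (A := A) Bs k l).toLinearMap.rTensor M
      ((TensorProduct.map (sg Bs k') (sg Bs l')).rTensor M (z k' l')) =
      if k' = k ∧ l' = l then (z k l) else 0 := by
    intro k' l'
    rw [← LinearMap.rTensor_comp_apply]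
    have hc : (ev2 (A := A) Bs k l).toLinearMap ∘ₗ (TensorProduct.map (sg Bs k') (sg Bs l')) =
        TensorProduct.map ((ev (A := A) Bs k).toLinearMap ∘ₗ sg Bs k')
          ((ev (A := A) Bs l).toLinearMap ∘ₗ sg Bs l') := by
      apply TensorProduct.ext'
      intro x y
      rfl
    rw [hc]
    by_cases hk : k' = k
    · by_cases hl : l' = l
      · subst hk
        subst hl
        have h1 : (ev (A := A) Bs k').toLinearMap ∘ₗ sg (A := A) Bs k' = LinearMap.id := by
          ext b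
          simp
        have h2 : (ev (A := A) Bs l').toLinearMap ∘ₗ sg (A := A) Bs l' = LinearMap.id := by
          ext b
          simp
        rw [h1, h2, TensorProduct.map_id, LinearMap.rTensor_id, LinearMap.id_apply]
        simp
      · have h2 : (ev (A := A) Bs l).toLinearMap ∘ₗ sg (A := A) Bs l' = 0 := by
          ext b
          simp [Pi.single_eq_of_ne (Ne.symm hl)]
        rw [h2, TensorProduct.map_zero_right, LinearMap.rTensor_zero, LinearMap.zero_apply]
        simp [hl]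
    · have h1 : (ev (A := A) Bs k).toLinearMap ∘ₗ sg (A := A) Bs k' = 0 := by
        ext b
        simp [Pi.single_eq_of_ne (Ne.symm hk)]
      rw [h1, TensorProduct.map_zero_left, LinearMap.rTensor_zero, LinearMap.zero_apply]
      simp [hk]
  rw [glue2, map_sum]
  simp_rw [map_sum, key]
  rw [Finset.sum_eq_single k]
  · rw [Finset.sum_eq_single l]
    · simp
    · intro l' _ hl'
      simp [hl']
    · intro h
      exact absurd (Finset.mem_univ l) h
  · intro k' _ hk'
    apply Finset.sum_eq_zero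
    intro l' _
    simp [hk']
  · intro h
    exact absurd (Finset.mem_univ k) h

omit [Fintype κ] [DecidableEq κ] in
theorem ev3_d1 (k l n : κ) (t : ((∀ k, Bs k) ⊗[A] (∀ k, Bs k)) ⊗[A] M) :
    (ev3 (A := A) Bs k l n).toLinearMap.rTensor M (d1 A (∀ k, Bs k) M t) =
      (p₁₂ (A := A) Bs k l n).toLinearMap.rTensor M
          ((ev2 (A := A) Bs k l).toLinearMap.rTensor M t) -
        (p₁₃ (A := A) Bs k l n).toLinearMap.rTensor M
          ((ev2 (A := A) Bs k n).toLinearMap.rTensor M t) +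
        (p₂₃ (A := A) Bs k l n).toLinearMap.rTensor M
          ((ev2 (A := A) Bs l n).toLinearMap.rTensor M t) := by
  induction t using TensorProduct.induction_on with
  | zero => simp
  | add x y hx hy =>
    simp only [map_add, hx, hy]
    abel
  | tmul x m =>
    have h2 := AlgHom.congr_fun (ev3_δ₂ (A := A) Bs k l n) x
    have h1 := AlgHom.congr_fun (ev3_δ₁ (A := A) Bs k l n) x
    have h0 := AlgHom.congr_fun (ev3_δ₀ (A := A) Bs k l n) x
    simp only [AlgHom.comp_apply] at h2 h1 h0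
    simp only [LinearMap.rTensor_tmul, LinearMap.add_apply,
      LinearMap.sub_apply, AlgHom.toLinearMap_apply, map_add, map_sub, h2, h1, h0, sub_tmul,
      add_tmul]

omit [Fintype κ] [DecidableEq κ] in
theorem ev2_d (k l : κ) (t : (∀ k, Bs k) ⊗[A] M) :
    (ev2 (A := A) Bs k l).toLinearMap.rTensor M (Groth.Agent.H2.FFModDesc.d A (∀ k, Bs k) M t) =
      (Algebra.TensorProduct.includeLeft : Bs k →ₐ[A] Bs k ⊗[A] Bs l).toLinearMap.rTensor M
          ((ev (A := A) Bs k).toLinearMap.rTensor M t) -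
        (Algebra.TensorProduct.includeRight : Bs l →ₐ[A] Bs k ⊗[A] Bs l).toLinearMap.rTensor M
          ((ev (A := A) Bs l).toLinearMap.rTensor M t) := by
  induction t using TensorProduct.induction_on with
  | zero => simp
  | add x y hx hy =>
    simp only [map_add, hx, hy]
    abel
  | tmul x m =>
    have hl := AlgHom.congr_fun (ev2_left (A := A) Bs k l) x
    have hr := AlgHom.congr_fun (ev2_right (A := A) Bs k l) x
    simp only [AlgHom.comp_apply] at hl hr
    simp only [LinearMap.rTensor_tmul, AlgHom.toLinearMap_apply,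
      Algebra.TensorProduct.includeLeftSubRight_apply, map_sub, sub_tmul]
    rw [← hl, ← hr]
    rfl

/-- vanishing of the first Čech cohomology for a finite faithfully flat family. -/
theorem h1_family [Module.FaithfullyFlat A (∀ k, Bs k)]
    (z : ∀ k l, (Bs k ⊗[A] Bs l) ⊗[A] M)
    (hz : ∀ k l n, (p₁₂ (A := A) Bs k l n).toLinearMap.rTensor M (z k l) -
      (p₁₃ (A := A) Bs k l n).toLinearMap.rTensor M (z k n) +
      (p₂₃ (A := A) Bs k l n).toLinearMap.rTensor M (z l n) = 0) :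
    ∃ w : ∀ k, Bs k ⊗[A] M, ∀ k l, z k l =
      (Algebra.TensorProduct.includeLeft : Bs k →ₐ[A] Bs k ⊗[A] Bs l).toLinearMap.rTensor M (w k) -
      (Algebra.TensorProduct.includeRight : Bs l →ₐ[A] Bs k ⊗[A] Bs l).toLinearMap.rTensor M
        (w l) := by
  have hZ : d1 A (∀ k, Bs k) M (glue2 Bs M z) = 0 := by
    apply triple_ext
    intro k l n
    rw [LinearMap.map_zero, ev3_d1, ev2_glue2, ev2_glue2, ev2_glue2]
    exact hz k l n
  obtain ⟨W, hW⟩ := exists_of_d1_eq_zero A (∀ k, Bs k) M (glue2 Bs M z) hZ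
  refine ⟨fun k => (ev Bs k).toLinearMap.rTensor M W, fun k l => ?_⟩
  have h2 := congrArg ((ev2 (A := A) Bs k l).toLinearMap.rTensor M) hW
  rw [ev2_glue2, ev2_d] at h2
  exact h2.symm

end Groth.Agent.H2.FFModH1Fam
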