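import Mathlib
import Groth.Prelude.Def_Adeq
import Groth.Agent.Lib.Helper2.AdeqFFam
import Groth.Agent.Lib.Helper2.FFModH1Fam

/-! # Vanishing of the first Čech cohomology of an adequate functor for a finite faithfully flat
family of algebras. -/

set_option autoImplicit false
universe w u
open CategoryTheory CategoryTheory.Limits TensorProduct Adeq

namespace Groth.Agent.H2.AdeqH1

open Groth.Agent.H2.AdeqKer Groth.Agent.H2.AdeqTsze Groth.Agent.H2.AdeqAb Groth.Agent.H2.AdeqFF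
  Groth.Agent.H2.AdeqFFam Groth.Agent.H2.FFModH1Fam

variable {A : Type u} [CommRing A] {κ : Type w} [Fintype κ] [DecidableEq κ]
  (Bs : κ → Type u) [∀ k, CommRing (Bs k)] [∀ k, Algebra A (Bs k)]

/-- `B_k ⊗ B_l → (B_k ⊗ B_l) ⊗ B_n`. -/
noncomputable abbrev q₁₂ (k l n : κ) :
    algOf A (Bs k ⊗[A] Bs l) ⟶ algOf A ((Bs k ⊗[A] Bs l) ⊗[A] Bs n) :=
  CommAlgCat.ofHom (p₁₂ (A := A) Bs k l n)

/-- `B_k ⊗ B_n → (B_k ⊗ B_l) ⊗ B_n`. -/
noncomputable abbrev q₁₃ (k l n : κ) :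
    algOf A (Bs k ⊗[A] Bs n) ⟶ algOf A ((Bs k ⊗[A] Bs l) ⊗[A] Bs n) :=
  CommAlgCat.ofHom (p₁₃ (A := A) Bs k l n)

/-- `B_l ⊗ B_n → (B_k ⊗ B_l) ⊗ B_n`. -/
noncomputable abbrev q₂₃ (k l n : κ) :
    algOf A (Bs l ⊗[A] Bs n) ⟶ algOf A ((Bs k ⊗[A] Bs l) ⊗[A] Bs n) :=
  CommAlgCat.ofHom (p₂₃ (A := A) Bs k l n)

theorem h1_family_functor (F : MVF A) (hF : adequate A F)
    [Module.FaithfullyFlat A (∀ k, Bs k)]
    (c : ∀ k l, F.obj (pt (algOf A (Bs k ⊗[A] Bs l))))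
    (hc : ∀ k l n, mapFn F (q₁₂ Bs k l n) (c k l) - mapFn F (q₁₃ Bs k l n) (c k n) +
      mapFn F (q₂₃ Bs k l n) (c l n) = 0) :
    ∃ m : ∀ k, F.obj (pt (algOf A (Bs k))),
      ∀ k l, c k l = mapFn F (j₁ Bs k l) (m k) - mapFn F (j₂ Bs k l) (m l) := by
  obtain ⟨M, N, φ, ⟨i⟩⟩ := hF
  let Φ := (underline A).map φ
  let ι : F ⟶ (underline A).obj M := i.hom ≫ kernel.ι Φ
  have hι : ∀ X, Function.Injective ((ι.app X).hom) := by
    intro X
    have : Mono ι := mono_comp _ _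
    exact PresheafOfModules.injective_of_mono ι X
  have hιΦ : ∀ X (x : F.obj X), (Φ.app X).hom ((ι.app X).hom x) = 0 := by
    intro X x
    exact kernel_ι_app_comp Φ X ((i.hom.app X).hom x)
  have hker : ∀ X (w : ((underline A).obj M).obj X), (Φ.app X).hom w = 0 →
      ∃ x : F.obj X, (ι.app X).hom x = w := by
    intro X w hw
    obtain ⟨z, hz⟩ := exists_of_app_eq_zero Φ X w hw
    refine ⟨(i.inv.app X).hom z, ?_⟩
    have e1 : i.inv ≫ ι = kernel.ι Φ := Iso.inv_hom_id_assoc i _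
    exact (comp_app_apply e1 X z).trans hz
  -- the cocycle in `M`
  let z : ∀ k l, (Bs k ⊗[A] Bs l) ⊗[A] M := fun k l => (ι.app (pt (algOf A (Bs k ⊗[A] Bs l)))).hom (c k l)
  have hz : ∀ k l n, (p₁₂ (A := A) Bs k l n).toLinearMap.rTensor M (z k l) -
      (p₁₃ (A := A) Bs k l n).toLinearMap.rTensor M (z k n) +
      (p₂₃ (A := A) Bs k l n).toLinearMap.rTensor M (z l n) = 0 := by
    intro k l n
    have h1 := congrArg (fun t => (ι.app (pt (algOf A ((Bs k ⊗[A] Bs l) ⊗[A] Bs n)))).hom t)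
      (hc k l n)
    simp only [map_add, map_sub, map_zero] at h1
    rw [mapFn_nat, mapFn_nat, mapFn_nat] at h1
    exact h1
  obtain ⟨w, hw⟩ := h1_family Bs M z hz
  -- `Φ (w k)` is a descent datum
  have hΦw : ∀ k l,
      (Algebra.TensorProduct.includeLeft : Bs k →ₐ[A] Bs k ⊗[A] Bs l).toLinearMap.rTensor N
        ((Φ.app (pt (algOf A (Bs k)))).hom (w k)) =
      (Algebra.TensorProduct.includeRight : Bs l →ₐ[A] Bs k ⊗[A] Bs l).toLinearMap.rTensor N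
        ((Φ.app (pt (algOf A (Bs l)))).hom (w l)) := by
    intro k l
    have h0 : (Φ.app (pt (algOf A (Bs k ⊗[A] Bs l)))).hom
        (mapFn ((underline A).obj M) (j₁ Bs k l) (w k) -
          mapFn ((underline A).obj M) (j₂ Bs k l) (w l)) = 0 :=
      (congrArg (fun t => (Φ.app (pt (algOf A (Bs k ⊗[A] Bs l)))).hom t) (hw k l)).symm.trans
        (hιΦ _ (c k l))
    rw [map_sub] at h0
    have h3 := sub_eq_zero.mp h0
    have e1 := mapFn_nat (j₁ Bs k l) Φ (w k)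
    have e2 := mapFn_nat (j₂ Bs k l) Φ (w l)
    exact (e1.symm.trans h3).trans e2
  obtain ⟨ν, hν⟩ := d2m Bs N (fun k => (Φ.app (pt (algOf A (Bs k)))).hom (w k)) hΦw
  -- `ν` lies in the range of `φ`
  have hQ : (LinearMap.range φ.hom).mkQ ν = 0 := by
    refine d1m (A := A) Bs (N ⧸ LinearMap.range φ.hom) _ _ (fun k => ?_)
    rw [TensorProduct.tmul_zero]
    have e : (1 : Bs k) ⊗ₜ[A] ((LinearMap.range φ.hom).mkQ ν) =
        ((LinearMap.range φ.hom).mkQ.baseChange (Bs k)) ((φ.hom.baseChange (Bs k)) (w k)) := by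
      rw [← LinearMap.baseChange_tmul]
      exact congrArg ((LinearMap.range φ.hom).mkQ.baseChange (Bs k)) (hν k)
    rw [e, ← LinearMap.comp_apply, ← LinearMap.baseChange_comp, LinearMap.range_mkQ_comp,
      LinearMap.baseChange_zero, LinearMap.zero_apply]
  obtain ⟨μ₀, hμ₀⟩ : ν ∈ LinearMap.range φ.hom := (Submodule.Quotient.mk_eq_zero _).mp hQ
  -- correct `w`
  let w' : ∀ k, ((underline A).obj M).obj (pt (algOf A (Bs k))) :=
    fun k => w k - ((1 : Bs k) ⊗ₜ[A] μ₀ : Bs k ⊗[A] M)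
  have hΦw' : ∀ k, (Φ.app (pt (algOf A (Bs k)))).hom (w' k) = 0 := by
    intro k
    have h1 : (Φ.app (pt (algOf A (Bs k)))).hom ((1 : Bs k) ⊗ₜ[A] μ₀ : Bs k ⊗[A] M) =
        (1 : Bs k) ⊗ₜ[A] ν := by
      rw [← hμ₀]
      exact LinearMap.baseChange_tmul _ _ _
    have h2 : (Φ.app (pt (algOf A (Bs k)))).hom (w' k) =
        (Φ.app (pt (algOf A (Bs k)))).hom (w k) -
          (Φ.app (pt (algOf A (Bs k)))).hom ((1 : Bs k) ⊗ₜ[A] μ₀ : Bs k ⊗[A] M) :=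
      map_sub (Φ.app (pt (algOf A (Bs k)))).hom (w k) _
    exact h2.trans (sub_eq_zero.mpr ((hν k).symm.trans h1.symm))
  choose m hm using fun k => hker _ (w' k) (hΦw' k)
  refine ⟨m, fun k l => ?_⟩
  apply hι
  rw [map_sub, mapFn_nat, mapFn_nat, hm, hm]
  refine (hw k l).trans ?_
  have e1 : mapFn ((underline A).obj M) (j₁ Bs k l) (w' k) =
      (Algebra.TensorProduct.includeLeft : Bs k →ₐ[A] Bs k ⊗[A] Bs l).toLinearMap.rTensor M (w k) -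
        ((1 : Bs k ⊗[A] Bs l) ⊗ₜ[A] μ₀ : (Bs k ⊗[A] Bs l) ⊗[A] M) := by
    show (Algebra.TensorProduct.includeLeft : Bs k →ₐ[A] Bs k ⊗[A] Bs l).toLinearMap.rTensor M
      (w k - ((1 : Bs k) ⊗ₜ[A] μ₀ : Bs k ⊗[A] M)) = _
    rw [map_sub, LinearMap.rTensor_tmul, AlgHom.toLinearMap_apply, map_one]
  have e2 : mapFn ((underline A).obj M) (j₂ Bs k l) (w' l) =
      (Algebra.TensorProduct.includeRight : Bs l →ₐ[A] Bs k ⊗[A] Bs l).toLinearMap.rTensor M (w l) -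
        ((1 : Bs k ⊗[A] Bs l) ⊗ₜ[A] μ₀ : (Bs k ⊗[A] Bs l) ⊗[A] M) := by
    show (Algebra.TensorProduct.includeRight : Bs l →ₐ[A] Bs k ⊗[A] Bs l).toLinearMap.rTensor M
      (w l - ((1 : Bs l) ⊗ₜ[A] μ₀ : Bs l ⊗[A] M)) = _
    rw [map_sub, LinearMap.rTensor_tmul, AlgHom.toLinearMap_apply, map_one]
  rw [e1, e2]
  exact (sub_sub_sub_cancel_right _ _ _).symm

omit [Fintype κ] [DecidableEq κ] in
theorem comp₁ (k l n : κ) :
    j₁ (A := A) Bs k l ≫ q₁₂ (A := A) Bs k l n = j₁ (A := A) Bs k n ≫ q₁₃ (A := A) Bs k l n :=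
  CommAlgCat.hom_ext (AlgHom.ext fun _ => rfl)

omit [Fintype κ] [DecidableEq κ] in
theorem comp₂ (k l n : κ) :
    j₂ (A := A) Bs k l ≫ q₁₂ (A := A) Bs k l n = j₁ (A := A) Bs l n ≫ q₂₃ (A := A) Bs k l n :=
  CommAlgCat.hom_ext (AlgHom.ext fun _ => rfl)

omit [Fintype κ] [DecidableEq κ] in
theorem comp₃ (k l n : κ) :
    j₂ (A := A) Bs k n ≫ q₁₃ (A := A) Bs k l n = j₂ (A := A) Bs l n ≫ q₂₃ (A := A) Bs k l n :=
  CommAlgCat.hom_ext (AlgHom.ext fun _ => rfl)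

/-- In a left exact sequence `0 → F₁ → F₂ → F₃` of module-valued functors with `F₁` adequate, a
compatible family of sections of `F₃` over a finite faithfully flat family which lifts to `F₂`
locally lifts to a compatible family. -/
theorem exists_compatible_lifts {F₁ F₂ F₃ : MVF A} (f : F₁ ⟶ F₂) (g : F₂ ⟶ F₃)
    (hinj : ∀ (X : (Alg A)ᵒᵖᵒᵖ) (u u' : F₁.obj X), (f.app X).hom u = (f.app X).hom u' → u = u')
    (hex : ∀ (X : (Alg A)ᵒᵖᵒᵖ) (v : F₂.obj X), (g.app X).hom v = 0 →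
      ∃ u : F₁.obj X, (f.app X).hom u = v)
    (hzero : ∀ (X : (Alg A)ᵒᵖᵒᵖ) (u : F₁.obj X), (g.app X).hom ((f.app X).hom u) = 0)
    (h₁ : adequate A F₁) [Module.FaithfullyFlat A (∀ k, Bs k)]
    (x : ∀ k, F₃.obj (pt (algOf A (Bs k))))
    (hx : ∀ k l, mapFn F₃ (j₁ Bs k l) (x k) = mapFn F₃ (j₂ Bs k l) (x l))
    (y : ∀ k, F₂.obj (pt (algOf A (Bs k))))
    (hy : ∀ k, (g.app (pt (algOf A (Bs k)))).hom (y k) = x k) :
    ∃ y' : ∀ k, F₂.obj (pt (algOf A (Bs k))),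
      (∀ k, (g.app (pt (algOf A (Bs k)))).hom (y' k) = x k) ∧
      ∀ k l, mapFn F₂ (j₁ Bs k l) (y' k) = mapFn F₂ (j₂ Bs k l) (y' l) := by
  have hgc : ∀ k l, (g.app (pt (algOf A (Bs k ⊗[A] Bs l)))).hom
      (mapFn F₂ (j₁ Bs k l) (y k) - mapFn F₂ (j₂ Bs k l) (y l)) = 0 := by
    intro k l
    rw [map_sub, mapFn_nat, mapFn_nat, hy, hy, hx k l, sub_self]
  choose m hm using fun k l => hex _ _ (hgc k l)
  have hcoc : ∀ k l n, mapFn F₁ (q₁₂ Bs k l n) (m k l) - mapFn F₁ (q₁₃ Bs k l n) (m k n) +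
      mapFn F₁ (q₂₃ Bs k l n) (m l n) = 0 := by
    intro k l n
    apply hinj
    rw [map_zero, map_add, map_sub, mapFn_nat, mapFn_nat, mapFn_nat, hm, hm, hm,
      mapFn_sub, mapFn_sub, mapFn_sub, ← mapFn_comp, ← mapFn_comp, ← mapFn_comp,
      ← mapFn_comp, ← mapFn_comp, ← mapFn_comp, comp₁ Bs k l n, comp₂ Bs k l n, comp₃ Bs k l n]
    abel
  obtain ⟨μ, hμ⟩ := h1_family_functor Bs F₁ h₁ m hcoc
  refine ⟨fun k => y k - (f.app (pt (algOf A (Bs k)))).hom (μ k), fun k => ?_, fun k l => ?_⟩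
  · rw [map_sub, hzero, sub_zero, hy]
  · rw [mapFn_sub, mapFn_sub, ← mapFn_nat, ← mapFn_nat]
    have h := hm k l
    rw [hμ k l, map_sub] at h
    exact sub_eq_sub_iff_sub_eq_sub.mp h.symm

end Groth.Agent.H2.AdeqH1
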