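import Mathlib
import Groth.Prelude.Def_Adeq2
import Groth.Agent.Lib.Helper2.AdeqH1
import Groth.Agent.Lib.Helper2.AdeqExt
import Groth.Agent.Lib.Helper2.Adeq2Par
import Groth.Agent.Lib.Helper2.Adeq2Main
import Groth.Agent.Lib.Helper2.Adeq2Ref

/-! # Extensions of adequate modules on the big fppf site are adequate. -/

set_option autoImplicit false
universe w u
open CategoryTheory CategoryTheory.Limits AlgebraicGeometry Opposite Adeq TensorProduct

namespace Groth.Agent.H2.Adeq2Ext

open Groth.Agent.H2.AdeqKer Groth.Agent.H2.AdeqTsze Groth.Agent.H2.AdeqAb Groth.Agent.H2.AdeqFF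
  Groth.Agent.H2.AdeqFFam Groth.Agent.H2.Adeq2Cov Groth.Agent.H2.Adeq2Good Groth.Agent.H2.AdeqH1
  Groth.Agent.H2.AdeqFFPi Groth.Agent.H2.Adeq2Par Groth.Agent.H2.Adeq2Main
  Groth.Agent.H2.Adeq2Ref

section Pointwise

variable {A : Type u} [CommRing A]

/-- a short complex of module-valued functors which is pointwise short exact is short exact. -/
theorem shortExact_of_pointwise (T : ShortComplex (MVF A))
    (hinj : ∀ (X : (Alg A)ᵒᵖᵒᵖ) (u u' : T.X₁.obj X),
      (T.f.app X).hom u = (T.f.app X).hom u' → u = u')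
    (hsurj : ∀ (X : (Alg A)ᵒᵖᵒᵖ) (v : T.X₃.obj X), ∃ y : T.X₂.obj X, (T.g.app X).hom y = v)
    (hex : ∀ (X : (Alg A)ᵒᵖᵒᵖ) (v : T.X₂.obj X), (T.g.app X).hom v = 0 →
      ∃ u : T.X₁.obj X, (T.f.app X).hom u = v) :
    T.ShortExact := by
  have : Mono T.f := PresheafOfModules.mono_of_injective (fun X u u' h => hinj X u u' h)
  have : Epi T.g := PresheafOfModules.epi_of_surjective (fun X v => hsurj X v)
  have hE : T.Exact := by
    rw [ShortComplex.exact_iff_epi_kernel_lift]
    apply PresheafOfModules.epi_of_surjective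
    intro X κ
    obtain ⟨u, hu⟩ := hex X ((kernel.ι T.g).app X κ) (kernel_ι_app_comp T.g X κ)
    refine ⟨u, kernel_ι_app_injective T.g X ?_⟩
    exact (comp_app_apply (kernel.lift_ι T.g T.f T.zero) X u).trans hu
  exact { exact := hE }

end Pointwise

section Sections

variable {S : Scheme.{u}} (C : ShortComplex (BigSite.Mod Scheme.fppfPrecoverage.{u} S))

theorem f_injective (hC : C.ShortExact) (U : Over S)
    (u u' : BigSite.sectMod Scheme.fppfPrecoverage C.X₁ U)
    (h : (C.f.val.app (op U)).hom u = (C.f.val.app (op U)).hom u') : u = u' := by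
  have := hC.mono_f
  have : Mono ((SheafOfModules.forget (BigSite.ORing Scheme.fppfPrecoverage.{u} S)).map C.f) :=
    inferInstance
  exact PresheafOfModules.injective_of_mono
    ((SheafOfModules.forget (BigSite.ORing Scheme.fppfPrecoverage.{u} S)).map C.f) (op U) h

theorem g_f_zero (U : Over S) (u : BigSite.sectMod Scheme.fppfPrecoverage C.X₁ U) :
    (C.g.val.app (op U)).hom ((C.f.val.app (op U)).hom u) = 0 := by
  have h : (SheafOfModules.forget (BigSite.ORing Scheme.fppfPrecoverage.{u} S)).map C.f ≫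
      (SheafOfModules.forget (BigSite.ORing Scheme.fppfPrecoverage.{u} S)).map C.g = 0 := by
    rw [← Functor.map_comp, C.zero, Functor.map_zero]
  exact congrArg (fun t => (PresheafOfModules.Hom.app t (op U)).hom u) h

theorem exact_mid (hC : C.ShortExact) (U : Over S)
    (x : BigSite.sectMod Scheme.fppfPrecoverage C.X₂ U)
    (hx : (C.g.val.app (op U)).hom x = 0) :
    ∃ u : BigSite.sectMod Scheme.fppfPrecoverage C.X₁ U, (C.f.val.app (op U)).hom u = x := by
  have := hC.mono_f
  obtain ⟨z, hz⟩ := exists_kernel_section C.g U x hx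
  let ℓ : kernel C.g ⟶ C.X₁ := hC.exact.lift (kernel.ι C.g) (kernel.condition _)
  have he : ℓ ≫ C.f = kernel.ι C.g := hC.exact.lift_f _ _
  refine ⟨(ℓ.val.app (op U)).hom z, ?_⟩
  have h2 := congrArg (fun t => (SheafOfModules.Hom.val t).app (op U) z) he
  exact h2.trans hz

end Sections

section Glue

variable (K : Precoverage Scheme.{u}) [BigSite.OSh K] {S : Scheme.{u}} {R : CommRingCat.{u}}
  (a : Spec R ⟶ S) (M : BigSite.Mod K S)
  {κ : Type w} [Fintype κ] [DecidableEq κ]
  (B : κ → Type u) [∀ k, CommRing (B k)] [∀ k, Algebra R (B k)]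

/-- restriction of a section over `Spec R → S` to `Spec E → S`. -/
noncomputable def resπ (E : Alg R) (x : (PS K M).obj (op (Over.mk a))) :
    ((toMVF K a).obj M).obj (pt E) :=
  (PS K M).map (πm a E).op x

theorem mapFn_resπ {E E' : Alg R} (f : E ⟶ E') (x : (PS K M).obj (op (Over.mk a))) :
    mapFn ((toMVF K a).obj M) f (resπ K a M E x) = resπ K a M E' x := by
  show (PS K M).map ((specOver a).map f.op).op ((PS K M).map (πm a E).op x) =
    (PS K M).map (πm a E').op x
  rw [← Functor.map_comp_apply, ← op_comp, πm_eq]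

theorem resπ_nat {M N : BigSite.Mod K S} (φ : M ⟶ N) (E : Alg R)
    (x : (PS K M).obj (op (Over.mk a))) :
    (((toMVF K a).map φ).app (pt E)).hom (resπ K a M E x) =
      resπ K a N E ((φ.val.app (op (Over.mk a))).hom x) :=
  PresheafOfModules.naturality_apply φ.val (πm a E).op x

omit [Fintype κ] [DecidableEq κ] [BigSite.OSh K] in
theorem cover_mem_base
    (hcov : Presieve.ofArrows (fun k => Spec (CommRingCat.of (B k)))
      (fun k => Spec.map (CommRingCat.ofHom (algebraMap R (B k)))) ∈ K.coverings (Spec R)) :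
    Sieve.generate (Presieve.ofArrows (fun k => (specOver a).obj (op (algOf R (B k))))
      (fun k => πm a (algOf R (B k)))) ∈ (QuotSh.J K S) (Over.mk a) := by
  show Sieve.ofArrows _ _ ∈ _
  rw [GrothendieckTopology.mem_over_iff, Sieve.overEquiv_ofArrows]
  exact Precoverage.generate_mem_toGrothendieck hcov

theorem sq' (k l : κ) :
    IsPullback (Spec.map (rh (j₁ (A := R) B k l))) (Spec.map (rh (j₂ (A := R) B k l)))
      (Spec.map (sm (algOf R (B k)))) (Spec.map (sm (algOf R (B l)))) :=
  isPullback_SpecMap_of_isPushout _ _ _ _ (CommRingCat.isPushout_tensorProduct R (B k) (B l))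

theorem exists_lift_over' (k l : κ) (Z : Over S)
    (gk : Z ⟶ (specOver a).obj (op (algOf R (B k))))
    (gl : Z ⟶ (specOver a).obj (op (algOf R (B l))))
    (hg : gk ≫ πm a (algOf R (B k)) = gl ≫ πm a (algOf R (B l))) :
    ∃ hW : Z ⟶ (specOver a).obj (op (algOf R (B k ⊗[R] B l))),
      hW ≫ (specOver a).map (j₁ (A := R) B k l).op = gk ∧
      hW ≫ (specOver a).map (j₂ (A := R) B k l).op = gl := by
  have hg' : gk.left ≫ Spec.map (sm (algOf R (B k))) =
      gl.left ≫ Spec.map (sm (algOf R (B l))) := congrArg CommaMorphism.left hg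
  let h := (sq' B k l).lift gk.left gl.left hg'
  have h1 : h ≫ Spec.map (rh (j₁ (A := R) B k l)) = gk.left := (sq' B k l).lift_fst _ _ _
  have h2 : h ≫ Spec.map (rh (j₂ (A := R) B k l)) = gl.left := (sq' B k l).lift_snd _ _ _
  have e1 : Spec.map (rh (j₁ (A := R) B k l)) ≫ Spec.map (sm (algOf R (B k))) ≫ a =
      Spec.map (sm (algOf R (B k ⊗[R] B l))) ≫ a :=
    Over.w ((specOver a).map (j₁ (A := R) B k l).op)
  have e2 : gk.left ≫ Spec.map (sm (algOf R (B k))) ≫ a = Z.hom := Over.w gk
  have hw : h ≫ Spec.map (sm (algOf R (B k ⊗[R] B l))) ≫ a = Z.hom := by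
    rw [← e1, ← Category.assoc, h1]
    exact e2
  refine ⟨Over.homMk h hw, ?_, ?_⟩
  · apply Over.OverMorphism.ext
    exact h1
  · apply Over.OverMorphism.ext
    exact h2

omit [Fintype κ] [DecidableEq κ] in
theorem ginj
    (hcov : Presieve.ofArrows (fun k => Spec (CommRingCat.of (B k)))
      (fun k => Spec.map (CommRingCat.ofHom (algebraMap R (B k)))) ∈ K.coverings (Spec R))
    (x x' : (PS K M).obj (op (Over.mk a)))
    (h : ∀ k, resπ K a M (algOf R (B k)) x = resπ K a M (algOf R (B k)) x') : x = x' := by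
  have hS := (isSheaf_PS K M).isSheafFor _ (cover_mem_base K a B hcov)
  rw [Presieve.isSheafFor_arrows_iff] at hS
  obtain ⟨t, _, ht⟩ := hS (fun k => (PS K M).map (πm a (algOf R (B k))).op x)
    (compat_of_section (PS K M) _ _ x)
  exact (ht x (fun k => rfl)).trans (ht x' (fun k => (h k).symm)).symm

theorem gex
    (hcov : Presieve.ofArrows (fun k => Spec (CommRingCat.of (B k)))
      (fun k => Spec.map (CommRingCat.ofHom (algebraMap R (B k)))) ∈ K.coverings (Spec R))
    (y : ∀ k, ((toMVF K a).obj M).obj (pt (algOf R (B k))))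
    (hy : ∀ k l, mapFn ((toMVF K a).obj M) (j₁ (A := R) B k l) (y k) =
      mapFn ((toMVF K a).obj M) (j₂ (A := R) B k l) (y l)) :
    ∃ x : (PS K M).obj (op (Over.mk a)), ∀ k, resπ K a M (algOf R (B k)) x = y k := by
  have hS := (isSheaf_PS K M).isSheafFor _ (cover_mem_base K a B hcov)
  rw [Presieve.isSheafFor_arrows_iff] at hS
  have hc : Presieve.Arrows.Compatible (PS K M) (fun k => πm a (algOf R (B k))) y := by
    intro k l Z gk gl hg
    obtain ⟨hW, h1, h2⟩ := exists_lift_over' a B k l Z gk gl hg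
    have e1 : (PS K M).map gk.op (y k) =
        (PS K M).map hW.op ((PS K M).map ((specOver a).map (j₁ (A := R) B k l).op).op (y k)) := by
      rw [← h1, op_comp, Functor.map_comp]
      rfl
    have e2 : (PS K M).map gl.op (y l) =
        (PS K M).map hW.op ((PS K M).map ((specOver a).map (j₂ (A := R) B k l).op).op (y l)) := by
      rw [← h2, op_comp, Functor.map_comp]
      rfl
    rw [e1, e2]
    exact congrArg _ (hy k l)
  obtain ⟨t, ht, _⟩ := hS y hc
  exact ⟨t, fun k => ht k⟩

end Glue

section Main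

variable {S : Scheme.{u}} (C : ShortComplex (BigSite.Mod Scheme.fppfPrecoverage.{u} S))

set_option backward.isDefEq.respectTransparency.types false in
/-- surjectivity of `M₂ → M₃` on sections over affine objects. -/
theorem surj_base (hC : C.ShortExact) (h₁ : adequateMod Scheme.fppfPrecoverage S C.X₁)
    (R : CommRingCat.{u}) (a : Spec R ⟶ S)
    (x : BigSite.sectMod Scheme.fppfPrecoverage C.X₃ (Over.mk a)) :
    ∃ y : BigSite.sectMod Scheme.fppfPrecoverage C.X₂ (Over.mk a),
      (C.g.val.app (op (Over.mk a))).hom y = x := by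
  classical
  have := hC.epi_g
  have hloc := (ModEpi.isLocallySurjective_of_epi C.g).imageSieve_mem x
  have h1 := (GrothendieckTopology.mem_over_iff _ _).1 hloc
  obtain ⟨κ, hκ, B, φ, hφ, hcovB⟩ := exists_finite_affine R _ h1
  let _ : ∀ k : κ, Algebra R (B k) := fun k => (φ k).hom.toAlgebra
  have hff : Module.FaithfullyFlat R (∀ k, B k) :=
    faithfullyFlat_pi_of_cover (fun k => B k) hcovB
  have hloc' : ∀ k, ∃ y : ((toMVF Scheme.fppfPrecoverage a).obj C.X₂).obj (pt (algOf R (B k))),
      (((toMVF Scheme.fppfPrecoverage a).map C.g).app (pt (algOf R (B k)))).hom y =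
        resπ Scheme.fppfPrecoverage a C.X₃ (algOf R (B k)) x := by
    intro k
    obtain ⟨t, ht⟩ := (Sieve.overEquiv_iff (Y := Over.mk a)
      (Presheaf.imageSieve ((PresheafOfModules.toPresheaf
        (BigSite.ORing Scheme.fppfPrecoverage S).obj).map C.g.val) x) (Spec.map (φ k))).1 (hφ k)
    exact ⟨t, ht⟩
  choose y hy using hloc'
  have hx : ∀ k l, mapFn ((toMVF Scheme.fppfPrecoverage a).obj C.X₃)
      (j₁ (A := R) (fun k => (B k : Type u)) k l)
        (resπ Scheme.fppfPrecoverage a C.X₃ (algOf R (B k)) x) =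
      mapFn ((toMVF Scheme.fppfPrecoverage a).obj C.X₃)
        (j₂ (A := R) (fun k => (B k : Type u)) k l)
        (resπ Scheme.fppfPrecoverage a C.X₃ (algOf R (B l)) x) := by
    intro k l
    rw [mapFn_resπ, mapFn_resπ]
  obtain ⟨y', hy'1, hy'2⟩ := exists_compatible_lifts (A := R) (fun k => (B k : Type u))
    ((toMVF Scheme.fppfPrecoverage a).map C.f) ((toMVF Scheme.fppfPrecoverage a).map C.g)
    (fun X u u' h => f_injective C hC ((specOver a).obj (op X.unop.unop)) u u' h)
    (fun X v hv => exact_mid C hC ((specOver a).obj (op X.unop.unop)) v hv)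
    (fun X u => g_f_zero C ((specOver a).obj (op X.unop.unop)) u)
    (adequate_of_adequateMod Scheme.fppfPrecoverage refines_fppf S C.X₁ h₁ R a)
    (fun k => resπ Scheme.fppfPrecoverage a C.X₃ (algOf R (B k)) x) hx y hy
  obtain ⟨ŷ, hŷ⟩ := gex Scheme.fppfPrecoverage a C.X₂ (fun k => (B k : Type u)) hcovB y' hy'2
  refine ⟨ŷ, ?_⟩
  apply ginj Scheme.fppfPrecoverage a C.X₃ (fun k => (B k : Type u)) hcovB
  intro k
  rw [← resπ_nat, hŷ k]
  exact hy'1 k

set_option backward.isDefEq.respectTransparency.types false in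
theorem adequate_mid (hC : C.ShortExact) (h₁ : adequateMod Scheme.fppfPrecoverage S C.X₁)
    (h₃ : adequateMod Scheme.fppfPrecoverage S C.X₃) (R : CommRingCat.{u}) (a : Spec R ⟶ S) :
    adequate R ((toMVF Scheme.fppfPrecoverage a).obj C.X₂) := by
  let T : ShortComplex (MVF R) := C.map (toMVF Scheme.fppfPrecoverage a)
  have hT : T.ShortExact := by
    apply shortExact_of_pointwise
    · intro X u u' h
      exact f_injective C hC ((specOver a).obj (op X.unop.unop)) u u' h
    · intro X v
      obtain ⟨y, hy⟩ := surj_base C hC h₁ (CommRingCat.of X.unop.unop)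
        (Spec.map (sm X.unop.unop) ≫ a) v
      exact ⟨y, hy⟩
    · intro X v hv
      exact exact_mid C hC ((specOver a).obj (op X.unop.unop)) v hv
  exact Groth.Agent.H2.AdeqExt.adequate_of_shortExact T hT
    (adequate_of_adequateMod Scheme.fppfPrecoverage refines_fppf S C.X₁ h₁ R a)
    (adequate_of_adequateMod Scheme.fppfPrecoverage refines_fppf S C.X₃ h₃ R a)

set_option backward.isDefEq.respectTransparency.types false in
theorem adequateMod_mid (hC : C.ShortExact) (h₁ : adequateMod Scheme.fppfPrecoverage S C.X₁)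
    (h₃ : adequateMod Scheme.fppfPrecoverage S C.X₃) :
    adequateMod Scheme.fppfPrecoverage S C.X₂ := by
  refine ⟨S.affineOpenCover.I₀, S.affineOpenCover.X, S.affineOpenCover.f, ?_,
    fun j => adequate_mid C hC h₁ h₃ _ _⟩
  show Presieve.ofArrows _ _ ∈ Scheme.precoverage (@Flat ⊓ @LocallyOfFinitePresentation) S
  rw [Scheme.ofArrows_mem_precoverage_iff]
  exact ⟨fun x => ⟨S.affineOpenCover.idx x, S.affineOpenCover.covers x⟩,
    fun j => ⟨inferInstance, inferInstance⟩⟩

end Main

end Groth.Agent.H2.Adeq2Ext
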