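import Mathlib

/-! # Presheaves on `Over S` as presheaves on the base category (sigma construction), and
transfer of the sheaf property in both directions. -/

set_option autoImplicit false
universe w v u
open CategoryTheory Opposite

namespace Groth.Agent.H2.SigSheaf

variable {C : Type u} [Category.{v} C] {S : C} (P : (Over S)ᵒᵖ ⥤ Type w)

/-- the morphism over `S` with underlying map `g`. -/
abbrev hm {X Y : Over S} (g : X.left ⟶ Y.left) (h : g ≫ Y.hom = X.hom) : X ⟶ Y :=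
  Over.homMk g h

theorem hm_comp {X Y Z : Over S} (g' : X.left ⟶ Y.left) (g : Y.left ⟶ Z.left)
    (h' : g' ≫ Y.hom = X.hom) (h : g ≫ Z.hom = Y.hom) :
    hm g' h' ≫ hm g h = hm (g' ≫ g) (by rw [Category.assoc, h, h']) := by
  apply Over.OverMorphism.ext
  rfl

theorem hm_id (X : Over S) : hm (X := X) (Y := X) (𝟙 X.left) (Category.id_comp _) = 𝟙 X := by
  apply Over.OverMorphism.ext
  rfl

theorem hm_left {X Y : Over S} (f : X ⟶ Y) : hm f.left (Over.w f) = f := by
  apply Over.OverMorphism.ext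
  rfl

/-- restriction. -/
def res {X Y : Over S} (g : X.left ⟶ Y.left) (h : g ≫ Y.hom = X.hom)
    (x : P.obj (op Y)) : P.obj (op X) := P.map (hm g h).op x

theorem res_res {X Y Z : Over S} (g' : X.left ⟶ Y.left) (g : Y.left ⟶ Z.left)
    (h' : g' ≫ Y.hom = X.hom) (h : g ≫ Z.hom = Y.hom) (x : P.obj (op Z)) :
    res P g' h' (res P g h x) = res P (g' ≫ g) (by rw [Category.assoc, h, h']) x := by
  unfold res
  rw [← Functor.map_comp_apply, ← op_comp, hm_comp]

theorem res_id (X : Over S) (x : P.obj (op X)) :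
    res P (X := X) (Y := X) (𝟙 X.left) (Category.id_comp _) x = x := by
  unfold res
  rw [hm_id, op_id, CategoryTheory.Functor.map_id]
  rfl

theorem map_eq_res {X Y : Over S} (f : X ⟶ Y) (x : P.obj (op Y)) :
    P.map f.op x = res P f.left (Over.w f) x := by
  unfold res
  rw [hm_left]

/-- the sigma type. -/
abbrev Sig (T : C) : Type (max v w) := Σ a : T ⟶ S, P.obj (op (Over.mk a))

variable {P} in
theorem Sig.ext' {T : C} {p q : Sig P T} (h₁ : p.1 = q.1)
    (h₂ : res P (X := Over.mk q.1) (Y := Over.mk p.1) (𝟙 T)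
      ((Category.id_comp _).trans h₁) p.2 = q.2) : p = q := by
  obtain ⟨a, x⟩ := p
  obtain ⟨b, y⟩ := q
  dsimp only at h₁
  subst h₁
  have := res_id P (Over.mk a) x
  dsimp only at h₂
  rw [← h₂]
  exact congrArg _ this.symm

variable {P} in
theorem Sig.eq_iff {T : C} {p q : Sig P T} :
    p = q ↔ ∃ h₁ : p.1 = q.1, res P (X := Over.mk q.1) (Y := Over.mk p.1) (𝟙 T)
      ((Category.id_comp _).trans h₁) p.2 = q.2 := by
  constructor
  · rintro rfl
    exact ⟨rfl, res_id P (Over.mk p.1) p.2⟩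
  · rintro ⟨h₁, h₂⟩
    exact Sig.ext' h₁ h₂

/-- the action of morphisms. -/
def sigMap {T' T : C} (g : T' ⟶ T) (p : Sig P T) : Sig P T' :=
  ⟨g ≫ p.1, res P (X := Over.mk (g ≫ p.1)) (Y := Over.mk p.1) g rfl p.2⟩

theorem sigMap_mk {T' T : C} (g : T' ⟶ T) (a : T ⟶ S) (x : P.obj (op (Over.mk a)))
    (a' : T' ⟶ S) (h : g ≫ a = a') :
    sigMap P g ⟨a, x⟩ = ⟨a', res P (X := Over.mk a') (Y := Over.mk a) g h x⟩ := by
  subst h
  rfl

/-- the presheaf on the base category. -/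
def sig : Cᵒᵖ ⥤ Type (max v w) where
  obj T := Sig P T.unop
  map g := ↾(sigMap P g.unop)
  map_id T := by
    refine ConcreteCategory.hom_ext _ _ (fun p => ?_)
    obtain ⟨a, x⟩ := p
    show sigMap P (𝟙 _) ⟨a, x⟩ = ⟨a, x⟩
    rw [sigMap_mk P _ a x a (Category.id_comp a)]
    exact congrArg _ (res_id P (Over.mk a) x)
  map_comp g g' := by
    refine ConcreteCategory.hom_ext _ _ (fun p => ?_)
    obtain ⟨a, x⟩ := p
    show sigMap P (g'.unop ≫ g.unop) ⟨a, x⟩ = sigMap P g'.unop (sigMap P g.unop ⟨a, x⟩)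
    rw [sigMap_mk P g.unop a x _ rfl, sigMap_mk P g'.unop _ _ _ rfl,
      sigMap_mk P (g'.unop ≫ g.unop) a x (g'.unop ≫ g.unop ≫ a) (Category.assoc _ _ _)]
    exact congrArg _ (res_res P (X := Over.mk (g'.unop ≫ g.unop ≫ a))
      (Y := Over.mk (g.unop ≫ a)) (Z := Over.mk a) g'.unop g.unop rfl rfl x).symm

theorem sig_map_apply {T' T : C} (g : T' ⟶ T) (p : Sig P T) :
    (sig P).map g.op p = sigMap P g p := rfl

theorem fam_congr {X : Over S} {R : Presieve X} (x : Presieve.FamilyOfElements P R)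
    {Y : Over S} {f f' : Y ⟶ X} (h : f = f') (hf : R f) (hf' : R f') : x f hf = x f' hf' := by
  subst h
  rfl

/-- **Lemma A**: a sheaf property of `sig P` gives the sheaf property of `P` over `S`. -/
theorem isSheaf_over_of_isSheaf_sig (J : GrothendieckTopology C)
    (hS : Presieve.IsSeparated J (yoneda.obj S)) (h : Presieve.IsSheaf J (sig P)) :
    Presieve.IsSheaf (J.over S) P := by
  intro X T hT
  rw [GrothendieckTopology.mem_over_iff] at hT
  have hsig := h _ hT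
  have hsep := hS _ hT
  intro x hx
  have hmem : ∀ {Y : C} (g : Y ⟶ X.left), (Sieve.overEquiv X T).arrows g →
      T.arrows (hm (X := Over.mk (g ≫ X.hom)) (Y := X) g rfl) :=
    fun g hg => (Sieve.overEquiv_iff _ _).1 hg
  have hmem' : ∀ {Z : Over S} (f : Z ⟶ X), T.arrows f → (Sieve.overEquiv X T).arrows f.left := by
    intro Z f hf
    rw [Sieve.overEquiv_iff]
    have e : (Over.homMk f.left : Over.mk (f.left ≫ X.hom) ⟶ X) =
        hm (X := Over.mk (f.left ≫ X.hom)) (Y := Z) (𝟙 _) ((Category.id_comp _).trans (Over.w f).symm) ≫ f := by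
      apply Over.OverMorphism.ext
      exact (Category.id_comp _).symm
    rw [e]
    exact T.downward_closed hf _
  let x' : Presieve.FamilyOfElements (sig P) (Sieve.overEquiv X T).arrows := fun Y g hg =>
    (⟨g ≫ X.hom, x _ (hmem g hg)⟩ : Sig P Y)
  have hx' : x'.Compatible := by
    intro Y₁ Y₂ Z k₁ k₂ g₁ g₂ h₁ h₂ hk
    show sigMap P k₁ ⟨g₁ ≫ X.hom, x _ (hmem g₁ h₁)⟩ = sigMap P k₂ ⟨g₂ ≫ X.hom, x _ (hmem g₂ h₂)⟩
    have e : k₁ ≫ g₁ ≫ X.hom = k₂ ≫ g₂ ≫ X.hom := by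
      rw [← Category.assoc, hk, Category.assoc]
    rw [sigMap_mk P k₁ _ _ (k₂ ≫ g₂ ≫ X.hom) e, sigMap_mk P k₂ _ _ (k₂ ≫ g₂ ≫ X.hom) rfl]
    refine congrArg _ ?_
    exact hx (hm (X := Over.mk (k₂ ≫ g₂ ≫ X.hom)) (Y := Over.mk (g₁ ≫ X.hom)) k₁ e)
      (hm (X := Over.mk (k₂ ≫ g₂ ≫ X.hom)) (Y := Over.mk (g₂ ≫ X.hom)) k₂ rfl)
      (hmem g₁ h₁) (hmem g₂ h₂) (by apply Over.OverMorphism.ext; exact hk)
  obtain ⟨t, ht, htu⟩ := hsig x' hx'
  obtain ⟨a, y⟩ := t
  have ha : a = X.hom := by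
    refine hsep.ext (t₁ := a) (t₂ := X.hom) ?_
    intro Y g hg
    exact congrArg Sigma.fst (ht g hg)
  subst ha
  have hy : ∀ {Y : C} (g : Y ⟶ X.left) (hg : (Sieve.overEquiv X T).arrows g),
      res P (X := Over.mk (g ≫ X.hom)) (Y := X) g rfl y = x _ (hmem g hg) := by
    intro Y g hg
    have e := ht g hg
    have e' : (⟨g ≫ X.hom, res P (X := Over.mk (g ≫ X.hom)) (Y := X) g rfl y⟩ : Sig P Y) =
        ⟨g ≫ X.hom, x _ (hmem g hg)⟩ := e
    exact eq_of_heq (Sigma.mk.inj e').2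
  refine ⟨y, ?_, ?_⟩
  · intro Z f hf
    have hf' := hmem' f hf
    have e1 := hy f.left hf'
    have e2 : f = hm (X := Z) (Y := Over.mk (f.left ≫ X.hom)) (𝟙 _)
        ((Category.id_comp _).trans (Over.w f)) ≫
        hm (X := Over.mk (f.left ≫ X.hom)) (Y := X) f.left rfl := by
      apply Over.OverMorphism.ext
      exact (Category.id_comp _).symm
    have e3 : P.map f.op y = P.map (hm (X := Z) (Y := Over.mk (f.left ≫ X.hom)) (𝟙 _)
        ((Category.id_comp _).trans (Over.w f))).op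
          (res P (X := Over.mk (f.left ≫ X.hom)) (Y := X) f.left rfl y) := by
      unfold res
      rw [← Functor.map_comp_apply, ← op_comp, ← e2]
    rw [e3, e1]
    have e4 := Presieve.FamilyOfElements.comp_of_compatible T hx (hmem f.left hf')
      (hm (X := Z) (Y := Over.mk (f.left ≫ X.hom)) (𝟙 _) ((Category.id_comp _).trans (Over.w f)))
    rw [← e4]
    exact fam_congr P x e2.symm _ _
  · intro y₁ hy₁
    have hamal : x'.IsAmalgamation (⟨X.hom, y₁⟩ : Sig P X.left) := by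
      intro Y g hg
      show sigMap P g ⟨X.hom, y₁⟩ = ⟨g ≫ X.hom, x _ (hmem g hg)⟩
      rw [sigMap_mk P g _ _ (g ≫ X.hom) rfl]
      refine congrArg _ ?_
      exact hy₁ _ (hmem g hg)
    have e := htu _ hamal
    exact eq_of_heq (Sigma.mk.inj e).2

theorem res_congr {X Y : Over S} {g g' : X.left ⟶ Y.left} (hg : g = g')
    (h : g ≫ Y.hom = X.hom) (h' : g' ≫ Y.hom = X.hom) (x : P.obj (op Y)) :
    res P g h x = res P g' h' x := by
  subst hg
  rfl

theorem res_res' {X Y Z : Over S} (g' : X.left ⟶ Y.left) (g : Y.left ⟶ Z.left)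
    (h' : g' ≫ Y.hom = X.hom) (h : g ≫ Z.hom = Y.hom) (x : P.obj (op Z))
    {g'' : X.left ⟶ Z.left} (h'' : g'' ≫ Z.hom = X.hom) (hg : g' ≫ g = g'') :
    res P g' h' (res P g h x) = res P g'' h'' x := by
  subst hg
  exact res_res P g' g h' h x

theorem sigMap_eq_iff {T' T₁ T₂ : C} (k₁ : T' ⟶ T₁) (k₂ : T' ⟶ T₂) (p₁ : Sig P T₁)
    (p₂ : Sig P T₂) :
    sigMap P k₁ p₁ = sigMap P k₂ p₂ ↔ ∃ h : k₁ ≫ p₁.1 = k₂ ≫ p₂.1,
      res P (X := Over.mk (k₂ ≫ p₂.1)) (Y := Over.mk p₁.1) k₁ h p₁.2 =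
        res P (X := Over.mk (k₂ ≫ p₂.1)) (Y := Over.mk p₂.1) k₂ rfl p₂.2 := by
  constructor
  · intro hh
    obtain ⟨h₁, h₂⟩ := Sig.eq_iff.1 hh
    refine ⟨h₁, ?_⟩
    refine Eq.trans ?_ h₂
    exact (res_res' P (X := Over.mk (k₂ ≫ p₂.1)) (Y := Over.mk (k₁ ≫ p₁.1)) (Z := Over.mk p₁.1)
      (𝟙 T') k₁ ((Category.id_comp _).trans h₁) rfl p₁.2 h₁ (Category.id_comp _)).symm
  · rintro ⟨h₁, h₂⟩
    refine Sig.eq_iff.2 ⟨h₁, ?_⟩
    refine Eq.trans ?_ h₂
    exact res_res' P (X := Over.mk (k₂ ≫ p₂.1)) (Y := Over.mk (k₁ ≫ p₁.1)) (Z := Over.mk p₁.1)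
      (𝟙 T') k₁ ((Category.id_comp _).trans h₁) rfl p₁.2 h₁ (Category.id_comp _)

/-- **Lemma B**: the sheaf property of `P` over `S` gives the sheaf property of `sig P`, if the
base object is a sheaf. -/
theorem isSheaf_sig_of_isSheaf_over (J : GrothendieckTopology C)
    (hS : Presieve.IsSheaf J (yoneda.obj S)) (h : Presieve.IsSheaf (J.over S) P) :
    Presieve.IsSheaf J (sig P) := by
  intro Y T₀ hT₀ x' hx'
  let af : Presieve.FamilyOfElements (yoneda.obj S) T₀.arrows := fun Z g hg => (x' g hg).1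
  have haf : af.Compatible := by
    intro Y₁ Y₂ Z k₁ k₂ g₁ g₂ h₁ h₂ hk
    exact congrArg Sigma.fst (hx' k₁ k₂ h₁ h₂ hk)
  obtain ⟨a, ha, hau⟩ := hS _ hT₀ af haf
  have ha' : ∀ {Z : C} (g : Z ⟶ Y) (hg : T₀.arrows g), g ≫ a = (x' g hg).1 :=
    fun g hg => ha g hg
  have hT : (Sieve.overEquiv (Over.mk a)).symm T₀ ∈ J.over S (Over.mk a) := by
    rw [GrothendieckTopology.mem_over_iff, OrderIso.apply_symm_apply]
    exact hT₀
  have hw : ∀ {Z : Over S} (h : Z ⟶ Over.mk a) (hh : T₀.arrows h.left),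
      𝟙 Z.left ≫ (Over.mk (x' h.left hh).1).hom = Z.hom :=
    fun h hh => (Category.id_comp _).trans ((ha' h.left hh).symm.trans (Over.w h))
  let x : Presieve.FamilyOfElements P ((Sieve.overEquiv (Over.mk a)).symm T₀).arrows :=
    fun Z h hh => res P (X := Z) (Y := Over.mk (x' h.left hh).1) (𝟙 _) (hw h hh) (x' h.left hh).2
  have hx : x.Compatible := by
    intro Z₁ Z₂ W k₁ k₂ h₁ h₂ hh₁ hh₂ hk
    have hk' : k₁.left ≫ h₁.left = k₂.left ≫ h₂.left := congrArg (fun t => t.left) hk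
    obtain ⟨e, e'⟩ := (sigMap_eq_iff P k₁.left k₂.left _ _).1 (hx' k₁.left k₂.left hh₁ hh₂ hk')
    have w0 : 𝟙 W.left ≫ (Over.mk (k₂.left ≫ (x' h₂.left hh₂).1)).hom = W.hom := by
      refine (Category.id_comp _).trans ?_
      show k₂.left ≫ (x' h₂.left hh₂).1 = W.hom
      rw [← ha' h₂.left hh₂]
      show k₂.left ≫ h₂.left ≫ (Over.mk a).hom = W.hom
      rw [Over.w h₂, Over.w k₂]
    have w1 : k₁.left ≫ (Over.mk (x' h₁.left hh₁).1).hom = W.hom := by
      show k₁.left ≫ (x' h₁.left hh₁).1 = W.hom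
      rw [← ha' h₁.left hh₁]
      show k₁.left ≫ h₁.left ≫ (Over.mk a).hom = W.hom
      rw [Over.w h₁, Over.w k₁]
    have w2 : k₂.left ≫ (Over.mk (x' h₂.left hh₂).1).hom = W.hom :=
      (Category.id_comp _).symm.trans w0
    calc P.map k₁.op (x h₁ hh₁)
        = res P k₁.left (Over.w k₁) (res P (X := Z₁) (Y := Over.mk (x' h₁.left hh₁).1) (𝟙 _)
            (hw h₁ hh₁) (x' h₁.left hh₁).2) := map_eq_res P k₁ _
      _ = res P (X := W) (Y := Over.mk (x' h₁.left hh₁).1) k₁.left w1 (x' h₁.left hh₁).2 :=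
          res_res' P _ _ _ _ _ _ (Category.comp_id _)
      _ = res P (X := W) (Y := Over.mk (k₂.left ≫ (x' h₂.left hh₂).1)) (𝟙 _) w0
            (res P (X := Over.mk (k₂.left ≫ (x' h₂.left hh₂).1))
              (Y := Over.mk (x' h₁.left hh₁).1) k₁.left e (x' h₁.left hh₁).2) :=
          (res_res' P (X := W) (Y := Over.mk (k₂.left ≫ (x' h₂.left hh₂).1))
            (Z := Over.mk (x' h₁.left hh₁).1) (𝟙 _) k₁.left w0 e (x' h₁.left hh₁).2 w1
            (Category.id_comp _)).symm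
      _ = res P (X := W) (Y := Over.mk (k₂.left ≫ (x' h₂.left hh₂).1)) (𝟙 _) w0
            (res P (X := Over.mk (k₂.left ≫ (x' h₂.left hh₂).1))
              (Y := Over.mk (x' h₂.left hh₂).1) k₂.left rfl (x' h₂.left hh₂).2) :=
          congrArg _ e'
      _ = res P (X := W) (Y := Over.mk (x' h₂.left hh₂).1) k₂.left w2 (x' h₂.left hh₂).2 :=
          res_res' P _ _ _ _ _ _ (Category.id_comp _)
      _ = res P k₂.left (Over.w k₂) (res P (X := Z₂) (Y := Over.mk (x' h₂.left hh₂).1) (𝟙 _)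
            (hw h₂ hh₂) (x' h₂.left hh₂).2) :=
          (res_res' P (X := W) (Y := Z₂) (Z := Over.mk (x' h₂.left hh₂).1) k₂.left (𝟙 _)
            (Over.w k₂) (hw h₂ hh₂) (x' h₂.left hh₂).2 w2 (Category.comp_id _)).symm
      _ = P.map k₂.op (x h₂ hh₂) := (map_eq_res P k₂ _).symm
  obtain ⟨y, hy, hyu⟩ := h _ hT x hx
  refine ⟨(⟨a, y⟩ : Sig P Y), ?_, ?_⟩
  · intro Z g hg
    show sigMap P g ⟨a, y⟩ = x' g hg
    rw [sigMap_mk P g a y (x' g hg).1 (ha' g hg)]
    have e1 := hy (hm (X := Over.mk (x' g hg).1) (Y := Over.mk a) g (ha' g hg)) hg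
    have e2 : x (hm (X := Over.mk (x' g hg).1) (Y := Over.mk a) g (ha' g hg)) hg =
        (x' g hg).2 := res_id P (Over.mk (x' g hg).1) (x' g hg).2
    have e3 : res P (X := Over.mk (x' g hg).1) (Y := Over.mk a) g (ha' g hg) y = (x' g hg).2 :=
      e1.trans e2
    rw [e3]
    rfl
  · intro t' ht'
    obtain ⟨b, y'⟩ := t'
    have hb : b = a := by
      apply hau
      intro Z g hg
      exact congrArg Sigma.fst (ht' g hg)
    subst hb
    have hy' : x.IsAmalgamation y' := by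
      intro Z h hh
      have e1 : sigMap P h.left ⟨b, y'⟩ = x' h.left hh := ht' h.left hh
      rw [sigMap_mk P h.left b y' _ rfl] at e1
      obtain ⟨e2, e3⟩ := Sig.eq_iff.1 e1
      calc P.map h.op y' = res P h.left (Over.w h) y' := map_eq_res P h _
        _ = res P (X := Z) (Y := Over.mk (x' h.left hh).1) (𝟙 _) (hw h hh)
              (res P (X := Over.mk (x' h.left hh).1) (Y := Over.mk (h.left ≫ b)) (𝟙 _)
                ((Category.id_comp _).trans e2)
                (res P (X := Over.mk (h.left ≫ b)) (Y := Over.mk b) h.left rfl y')) := by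
            have s1 : res P (X := Over.mk (x' h.left hh).1) (Y := Over.mk (h.left ≫ b)) (𝟙 _)
                ((Category.id_comp _).trans e2)
                (res P (X := Over.mk (h.left ≫ b)) (Y := Over.mk b) h.left rfl y') =
                res P (X := Over.mk (x' h.left hh).1) (Y := Over.mk b) h.left e2 y' :=
              res_res' P _ _ _ _ _ _ (Category.id_comp _)
            exact ((congrArg (res P (X := Z) (Y := Over.mk (x' h.left hh).1) (𝟙 _) (hw h hh))
              s1).trans (res_res' P _ _ _ _ _ _ (Category.id_comp _))).symm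
        _ = x h hh := congrArg _ e3
    rw [hyu y' hy']

end Groth.Agent.H2.SigSheaf
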