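import Mathlib
import Groth.Prelude.Def_Adeq2
import Groth.Agent.Lib.Helper2.SigSheaf
import Groth.Agent.Lib.Helper2.AdeqFF
import Groth.Agent.Lib.Helper2.Adeq2Cov
import Groth.Agent.Lib.Helper2.Adeq2Ref
import Groth.Agent.Lib.Helper2.Adeq2Main

/-! # Adequate modules are sheaves for the fpqc topology. -/

set_option autoImplicit false
universe u
open CategoryTheory CategoryTheory.Limits AlgebraicGeometry Opposite Adeq TensorProduct

namespace Groth.Agent.H2.Adeq2Fpqc

open Groth.Agent.H2.SigSheaf Groth.Agent.H2.Adeq2Cov Groth.Agent.H2.AdeqTsze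
  Groth.Agent.H2.Adeq2Ref Groth.Agent.H2.AdeqFF

variable (K : Precoverage Scheme.{u}) [BigSite.OSh K] [K.IsStableUnderBaseChange]
  {S : Scheme.{u}} (M : BigSite.Mod K S)

theorem faithfullyFlat_of_specMap {R R' : CommRingCat.{u}} (f : R ⟶ R') (hf : Flat (Spec.map f))
    (hs : Surjective (Spec.map f)) :
    letI : Algebra R R' := f.hom.toAlgebra
    Module.FaithfullyFlat R R' := by
  letI : Algebra R R' := f.hom.toAlgebra
  have h1 : Module.Flat R R' := by
    rw [Flat.SpecMap_iff] at hf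
    exact (RingHom.flat_algebraMap_iff).1 hf
  apply Module.FaithfullyFlat.of_comap_surjective
  intro p
  obtain ⟨q, hq⟩ := hs.surj p
  exact ⟨q, hq⟩

set_option maxHeartbeats 1000000 in
set_option backward.isDefEq.respectTransparency.types false in
/-- **Lemma C**: the sheaf condition of the sigma presheaf for a single faithfully flat map of
affine schemes. -/
theorem isSheafFor_sig_singleton (href : Refines K) (hM : adequateMod K S M)
    {R R' : CommRingCat.{u}} (f : R ⟶ R') (hf : Flat (Spec.map f))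
    (hs : Surjective (Spec.map f)) :
    Presieve.IsSheafFor (sig (PS K M)) (Presieve.singleton (Spec.map f)) := by
  rw [Presieve.isSheafFor_singleton]
  intro p hp
  obtain ⟨b, x⟩ := p
  have hgen : Sieve.generate (Presieve.singleton (Spec.map f)) ∈
      Scheme.fpqcTopology (Spec R) :=
    Scheme.Hom.generate_singleton_mem_propQCTopology (P := @Flat) (Spec.map f) hf
  have hyS := (GrothendieckTopology.Subcanonical.isSheaf_of_isRepresentable
    (J := Scheme.fpqcTopology) (yoneda.obj S)).isSheafFor _ hgen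
  rw [Presieve.isSheafFor_singleton] at hyS
  obtain ⟨a, ha, hau⟩ := hyS b (fun p₁ p₂ h => congrArg Sigma.fst (hp p₁ p₂ h))
  have ha' : Spec.map f ≫ a = b := ha
  subst ha'
  letI : Algebra R R' := f.hom.toAlgebra
  have hff : Module.FaithfullyFlat R R' := faithfullyFlat_of_specMap f hf hs
  have hF : adequate R ((toMVF K a).obj M) :=
    Groth.Agent.H2.Adeq2Main.adequate_of_adequateMod K href S M hM R a
  obtain ⟨hinj, hex⟩ := ff_descent (A := R) R' ((toMVF K a).obj M) hF
  have hsm1 : sm (algOf R R') = f := rfl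
  have hcond : Spec.map (rh (i₁ (A := R) R')) ≫ Spec.map f =
      Spec.map (rh (i₂ (A := R) R')) ≫ Spec.map f := by
    rw [← Spec.map_comp, ← Spec.map_comp]
    congr 1
    exact (sm_rh (i₁ (A := R) R')).trans (sm_rh (i₂ (A := R) R')).symm
  obtain ⟨e, e'⟩ := (sigMap_eq_iff (PS K M) _ _ _ _).1 (hp _ _ hcond)
  have hw2 : 𝟙 _ ≫ (Over.mk (Spec.map (rh (i₂ (A := R) R')) ≫ Spec.map f ≫ a)).hom =
      ((specOver a).obj (op (algOf R (R' ⊗[R] R')))).hom := by
    refine (Category.id_comp _).trans ?_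
    show Spec.map (rh (i₂ (A := R) R')) ≫ Spec.map f ≫ a =
      Spec.map (sm (algOf R (R' ⊗[R] R'))) ≫ a
    rw [← Category.assoc, ← Spec.map_comp]
    congr 2
    exact sm_rh (i₂ (A := R) R')
  have heq : mapFn ((toMVF K a).obj M) (i₁ (A := R) R') x =
      mapFn ((toMVF K a).obj M) (i₂ (A := R) R') x := by
    rw [mapFn_eq, mapFn_eq, map_eq_res, map_eq_res]
    have e'' := congrArg (res (PS K M) (X := (specOver a).obj (op (algOf R (R' ⊗[R] R'))))
      (Y := Over.mk (Spec.map (rh (i₂ (A := R) R')) ≫ Spec.map f ≫ a)) (𝟙 _) hw2) e'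
    refine Eq.trans ?_ (e''.trans ?_)
    · exact (res_res' (PS K M) (X := (specOver a).obj (op (algOf R (R' ⊗[R] R'))))
        (Y := Over.mk (Spec.map (rh (i₂ (A := R) R')) ≫ Spec.map f ≫ a))
        (Z := Over.mk (Spec.map f ≫ a)) (𝟙 _) (Spec.map (rh (i₁ (A := R) R'))) hw2 e x
        (Over.w ((specOver a).map (i₁ (A := R) R').op)) (Category.id_comp _)).symm
    · exact res_res' (PS K M) (X := (specOver a).obj (op (algOf R (R' ⊗[R] R'))))
        (Y := Over.mk (Spec.map (rh (i₂ (A := R) R')) ≫ Spec.map f ≫ a))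
        (Z := Over.mk (Spec.map f ≫ a)) (𝟙 _) (Spec.map (rh (i₂ (A := R) R'))) hw2 rfl x
        (Over.w ((specOver a).map (i₂ (A := R) R').op)) (Category.id_comp _)
  obtain ⟨y, hy⟩ := hex x heq
  have hw0 : 𝟙 (Spec R) ≫ ((specOver a).obj (op (algOf R R))).hom = (Over.mk a).hom := by
    show 𝟙 (Spec R) ≫ Spec.map (𝟙 R) ≫ a = a
    rw [Spec.map_id, Category.id_comp, Category.id_comp]
  have hw0' : 𝟙 (Spec R) ≫ (Over.mk a).hom = ((specOver a).obj (op (algOf R R))).hom := by
    show 𝟙 (Spec R) ≫ a = Spec.map (𝟙 R) ≫ a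
    rw [Spec.map_id]
  refine ⟨(⟨a, res (PS K M) (X := Over.mk a) (Y := (specOver a).obj (op (algOf R R)))
    (𝟙 (Spec R)) hw0 y⟩ : Sig (PS K M) (Spec R)), ?_, ?_⟩
  · show sigMap (PS K M) (Spec.map f) ⟨a, _⟩ = ⟨Spec.map f ≫ a, x⟩
    rw [sigMap_mk (PS K M) (Spec.map f) a _ _ rfl]
    refine congrArg _ ?_
    rw [← hy, mapFn_eq, map_eq_res]
    exact res_res' (PS K M) (X := Over.mk (Spec.map f ≫ a)) (Y := Over.mk a)
      (Z := (specOver a).obj (op (algOf R R))) (Spec.map f) (𝟙 (Spec R)) rfl hw0 y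
      (Over.w ((specOver a).map (f₀ (A := R) R').op)) (Category.comp_id _)
  · intro t ht
    obtain ⟨a₂, y₂⟩ := t
    have ha₂ : a = a₂ := (hau a₂ (congrArg Sigma.fst ht)).symm
    subst ha₂
    have e1 : sigMap (PS K M) (Spec.map f) ⟨a, y₂⟩ = ⟨Spec.map f ≫ a, x⟩ := ht
    rw [sigMap_mk (PS K M) (Spec.map f) a y₂ _ rfl] at e1
    have e2 : res (PS K M) (X := Over.mk (Spec.map f ≫ a)) (Y := Over.mk a) (Spec.map f) rfl y₂ = x :=
      eq_of_heq (Sigma.mk.inj e1).2
    have e3 : mapFn ((toMVF K a).obj M) (f₀ (A := R) R')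
        (res (PS K M) (X := (specOver a).obj (op (algOf R R))) (Y := Over.mk a) (𝟙 _) hw0' y₂) = x := by
      rw [mapFn_eq, map_eq_res]
      exact (res_res' (PS K M) (X := Over.mk (Spec.map f ≫ a))
        (Y := (specOver a).obj (op (algOf R R))) (Z := Over.mk a) (Spec.map f) (𝟙 (Spec R))
        (Over.w ((specOver a).map (f₀ (A := R) R').op)) hw0' y₂ rfl (Category.comp_id _)).trans e2
    have e4 := hinj (e3.trans hy.symm)
    refine congrArg _ ?_
    rw [← e4]
    exact ((res_res' (PS K M) (X := Over.mk a) (Y := (specOver a).obj (op (algOf R R)))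
      (Z := Over.mk a) (𝟙 (Spec R)) (𝟙 (Spec R)) hw0 hw0' y₂ (Category.id_comp _)
      (Category.id_comp _)).trans (res_id (PS K M) (Over.mk a) y₂)).symm

omit [K.IsStableUnderBaseChange] [BigSite.OSh K] in
theorem zariski_over_le (hz : Scheme.zariskiPrecoverage.{u} ≤ K) (S : Scheme.{u}) :
    Scheme.zariskiTopology.{u}.over S ≤ K.toGrothendieck.over S := by
  intro X T hT
  rw [GrothendieckTopology.mem_over_iff] at hT ⊢
  exact Precoverage.toGrothendieck_mono hz _ hT

set_option backward.isDefEq.respectTransparency.types false in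
/-- adequate modules are sheaves for the fpqc topology. -/
theorem isSheaf_fpqc (href : Refines K) (hz : Scheme.zariskiPrecoverage.{u} ≤ K)
    (hM : adequateMod K S M) :
    Presheaf.IsSheaf (QuotSh.J Scheme.fpqcPrecoverage S)
      ((BigSite.toAbMod K S).obj M).obj := by
  rw [Presheaf.isSheaf_iff_isSheaf_forget _ _ (forget AddCommGrpCat.{u + 1}),
    isSheaf_iff_isSheaf_of_type]
  show Presieve.IsSheaf (Scheme.fpqcTopology.{u}.over S) (PS K M)
  apply isSheaf_over_of_isSheaf_sig (PS K M) Scheme.fpqcTopology.{u}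
  · exact (GrothendieckTopology.Subcanonical.isSheaf_of_isRepresentable
      (J := Scheme.fpqcTopology.{u}) (yoneda.obj S)).isSeparated
  · rw [Scheme.fpqcTopology_eq_propQCTopology, isSheaf_type_propQCTopology_iff]
    refine ⟨?_, ?_⟩
    · apply isSheaf_sig_of_isSheaf_over (PS K M) Scheme.zariskiTopology.{u}
      · exact GrothendieckTopology.Subcanonical.isSheaf_of_isRepresentable
          (J := Scheme.zariskiTopology.{u}) (yoneda.obj S)
      · exact Presieve.isSheaf_of_le _ (zariski_over_le K hz S) (isSheaf_PS K M)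
    · intro R R' f hf hs
      exact isSheafFor_sig_singleton K M href hM f hf hs

end Groth.Agent.H2.Adeq2Fpqc
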