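import Mathlib
import Groth.Prelude.Def_Adeq2
import Groth.Agent.Lib.Helper2.AdeqCok

/-! # Transport: `F_{f^*M, R}` for `b : Spec R → T` is `F_{M,R}` for `b ≫ f`. -/

set_option autoImplicit false
universe u
open CategoryTheory CategoryTheory.Limits AlgebraicGeometry Opposite Adeq

namespace Groth.Agent.H2.Adeq2Pull

variable {S T : Scheme.{u}} (f : T ⟶ S) {R : CommRingCat.{u}} (b : Spec R ⟶ T)

theorem hom_eq (C : Alg R) :
    Spec.map (CommRingCat.ofHom (algebraMap R C)) ≫ b ≫ f =
      (Spec.map (CommRingCat.ofHom (algebraMap R C)) ≫ b) ≫ f :=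
  (Category.assoc _ _ _).symm

/-- the two objects of the big site of `S` are isomorphic (identity on the underlying scheme). -/
noncomputable def objIso (C : Alg R) :
    (specOver (b ≫ f)).obj (op C) ≅ (Over.map f).obj ((specOver b).obj (op C)) :=
  Over.isoMk (Iso.refl (Spec (CommRingCat.of C)))
    (by
      show 𝟙 (Spec (CommRingCat.of C)) ≫
          ((Spec.map (CommRingCat.ofHom (algebraMap R C)) ≫ b) ≫ f) =
        Spec.map (CommRingCat.ofHom (algebraMap R C)) ≫ b ≫ f
      rw [Category.id_comp]
      exact (hom_eq f b C).symm)

theorem objIso_hom_left (C : Alg R) :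
    (objIso f b C).hom.left = 𝟙 (Spec (CommRingCat.of C)) := rfl

theorem map_left_eq {C C' : Alg R} (g : C ⟶ C') :
    ((specOver (b ≫ f)).map g.op).left =
      Spec.map (CommRingCat.ofHom g.hom.toRingHom) := rfl

theorem map_left_eq' {C C' : Alg R} (g : C ⟶ C') :
    ((Over.map f).map ((specOver b).map g.op)).left =
      Spec.map (CommRingCat.ofHom g.hom.toRingHom) := rfl

theorem objIso_hom_naturality {C C' : Alg R} (g : C ⟶ C') :
    (objIso f b C').hom ≫ (Over.map f).map ((specOver b).map g.op) =
      (specOver (b ≫ f)).map g.op ≫ (objIso f b C).hom := by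
  apply Over.OverMorphism.ext
  show (objIso f b C').hom.left ≫ ((Over.map f).map ((specOver b).map g.op)).left =
    ((specOver (b ≫ f)).map g.op).left ≫ (objIso f b C).hom.left
  rw [objIso_hom_left, objIso_hom_left, map_left_eq, map_left_eq']
  exact (Category.id_comp _).trans (Category.comp_id _).symm

variable (K : Precoverage Scheme.{u}) [BigSite.OSh K] (M : BigSite.Mod K S)

/-- the comparison morphism. -/
noncomputable def theta :
    (toMVF K b).obj ((BigSite.pullMod K f).obj M) ⟶ (toMVF K (b ≫ f)).obj M :=
  PresheafOfModules.homMk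
    { app X := M.val.presheaf.map (objIso f b X.unop.unop).hom.op
      naturality {X Y} g := by
        have h := objIso_hom_naturality f b g.unop.unop
        have h' : ((Over.map f).map ((specOver b).map g.unop)).op ≫
              (objIso f b Y.unop.unop).hom.op =
            (objIso f b X.unop.unop).hom.op ≫ ((specOver (b ≫ f)).map g.unop).op :=
          congrArg Quiver.Hom.op h
        change M.val.presheaf.map ((Over.map f).map ((specOver b).map g.unop)).op ≫
            M.val.presheaf.map (objIso f b Y.unop.unop).hom.op =
          M.val.presheaf.map (objIso f b X.unop.unop).hom.op ≫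
            M.val.presheaf.map ((specOver (b ≫ f)).map g.unop).op
        rw [← M.val.presheaf.map_comp, h', M.val.presheaf.map_comp] }
    (by
      intro X r m
      have h := M.val.map_smul (objIso f b X.unop.unop).hom.op
        (toSect K b X.unop.unop r : (BigSite.ORing K S).obj.obj
          (op ((Over.map f).obj ((specOver b).obj (op X.unop.unop))))) m
      refine h.trans ?_
      congr 1)

theorem theta_bijective (X : (Alg R)ᵒᵖᵒᵖ) : Function.Bijective ((theta f b K M).app X) := by
  let E := M.val.presheaf.mapIso (objIso f b X.unop.unop).op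
  have hE : Function.Bijective (ConcreteCategory.hom E.hom) :=
    ConcreteCategory.bijective_of_isIso E.hom
  exact hE

theorem isIso_theta : IsIso (theta f b K M) :=
  Groth.Agent.H2.AdeqCok.isIso_of_bijective _ (theta_bijective f b K M)

/-- the transport isomorphism. -/
noncomputable def pullIso :
    (toMVF K b).obj ((BigSite.pullMod K f).obj M) ≅ (toMVF K (b ≫ f)).obj M :=
  haveI := isIso_theta f b K M
  asIso (theta f b K M)

end Groth.Agent.H2.Adeq2Pull
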