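import Mathlib
import Groth.Prelude.Def_Adeq2
import Groth.Agent.Lib.Helper2.Adeq2Cov

/-! # Geometry of the base change of affine objects along a morphism, with affine charts. -/

set_option autoImplicit false
universe u
open CategoryTheory CategoryTheory.Limits AlgebraicGeometry Opposite Adeq TensorProduct

namespace Groth.Agent.H2.Adeq2PushGeom

open Groth.Agent.H2.Adeq2Cov

variable {S T : Scheme.{u}} (f : T ⟶ S) {R : CommRingCat.{u}} (a : Spec R ⟶ S)

/-- `Spec B → Spec R → S`. -/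
noncomputable abbrev vB (B : Alg R) : Spec (CommRingCat.of B) ⟶ S := Spec.map (sm B) ≫ a

/-- `P_B → Y₀`. -/
noncomputable def qB (B : Alg R) : pullback (vB a B) f ⟶ pullback a f :=
  pullback.lift (pullback.fst (vB a B) f ≫ Spec.map (sm B)) (pullback.snd (vB a B) f)
    (by rw [Category.assoc]; exact pullback.condition)

theorem qB_fst (B : Alg R) :
    qB f a B ≫ pullback.fst a f = pullback.fst (vB a B) f ≫ Spec.map (sm B) :=
  pullback.lift_fst _ _ _

theorem qB_snd (B : Alg R) : qB f a B ≫ pullback.snd a f = pullback.snd (vB a B) f :=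
  pullback.lift_snd _ _ _

theorem isPullback_qB (B : Alg R) :
    IsPullback (qB f a B) (pullback.fst (vB a B) f) (pullback.fst a f) (Spec.map (sm B)) := by
  have hbig : IsPullback (qB f a B ≫ pullback.snd a f) (pullback.fst (vB a B) f) f
      (Spec.map (sm B) ≫ a) := by
    rw [qB_snd]
    exact (IsPullback.of_hasPullback (vB a B) f).flip
  exact IsPullback.of_right hbig (qB_fst f a B) (IsPullback.of_hasPullback a f).flip

section Chart

variable (C : Type u) [CommRing C] [Algebra R C]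

/-- `C → C ⊗ B`. -/
noncomputable abbrev iL (B : Alg R) : CommRingCat.of C ⟶ CommRingCat.of (C ⊗[R] B) :=
  CommRingCat.ofHom (Algebra.TensorProduct.includeLeftRingHom (R := R) (A := C) (B := B))

/-- `B → C ⊗ B`. -/
noncomputable abbrev iR (B : Alg R) : CommRingCat.of B ⟶ CommRingCat.of (C ⊗[R] B) :=
  CommRingCat.ofHom (Algebra.TensorProduct.includeRight (R := R) (A := C) (B := B)).toRingHom

/-- `Spec (C ⊗ B) → Spec C`. -/
noncomputable abbrev tL (B : Alg R) :
    Spec (CommRingCat.of (C ⊗[R] B)) ⟶ Spec (CommRingCat.of C) := Spec.map (iL C B)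

/-- `Spec (C ⊗ B) → Spec B`. -/
noncomputable abbrev tR (B : Alg R) :
    Spec (CommRingCat.of (C ⊗[R] B)) ⟶ Spec (CommRingCat.of B) := Spec.map (iR C B)

theorem tsq (B : Alg R) :
    IsPullback (tL C B) (tR C B) (Spec.map (CommRingCat.ofHom (algebraMap R C)))
      (Spec.map (sm B)) :=
  isPullback_SpecMap_of_isPushout _ _ _ _ (CommRingCat.isPushout_tensorProduct R C B)

/-- `C ⊗ B → C ⊗ B'`. -/
noncomputable abbrev tmap {B B' : Alg R} (g : B ⟶ B') :
    CommRingCat.of (C ⊗[R] B) ⟶ CommRingCat.of (C ⊗[R] B') :=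
  CommRingCat.ofHom (Algebra.TensorProduct.map (AlgHom.id C C) g.hom).toRingHom

theorem iL_tmap {B B' : Alg R} (g : B ⟶ B') : iL C B ≫ tmap C g = iL C B' := by
  ext c
  show Algebra.TensorProduct.map (AlgHom.id C C) g.hom (c ⊗ₜ[R] (1 : B)) = c ⊗ₜ[R] (1 : B')
  rw [Algebra.TensorProduct.map_tmul, map_one]
  rfl

theorem iR_tmap {B B' : Alg R} (g : B ⟶ B') : iR C B ≫ tmap C g = rh g ≫ iR C B' := by
  ext b
  show Algebra.TensorProduct.map (AlgHom.id C C) g.hom ((1 : C) ⊗ₜ[R] b) =
    (1 : C) ⊗ₜ[R] g.hom b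
  rw [Algebra.TensorProduct.map_tmul, map_one]

theorem tmap_tL {B B' : Alg R} (g : B ⟶ B') : Spec.map (tmap C g) ≫ tL C B = tL C B' := by
  rw [← Spec.map_comp, iL_tmap]

theorem tmap_tR {B B' : Alg R} (g : B ⟶ B') :
    Spec.map (tmap C g) ≫ tR C B = tR C B' ≫ Spec.map (rh g) := by
  rw [← Spec.map_comp, ← Spec.map_comp, iR_tmap]

variable (ι : Spec (CommRingCat.of C) ⟶ pullback a f)
  (hι : ι ≫ pullback.fst a f = Spec.map (CommRingCat.ofHom (algebraMap R C)))

include hι in
theorem ρ_aux (B : Alg R) :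
    (tL C B ≫ ι) ≫ pullback.fst a f = tR C B ≫ Spec.map (sm B) := by
  rw [Category.assoc, hι]
  exact (tsq C B).w

/-- `Spec (C ⊗ B) → P_B`. -/
noncomputable def ρ (B : Alg R) : Spec (CommRingCat.of (C ⊗[R] B)) ⟶ pullback (vB a B) f :=
  (isPullback_qB f a B).lift (tL C B ≫ ι) (tR C B) (ρ_aux f a C ι hι B)

theorem ρ_q (B : Alg R) : ρ f a C ι hι B ≫ qB f a B = tL C B ≫ ι :=
  IsPullback.lift_fst _ _ _ _

theorem ρ_fst (B : Alg R) : ρ f a C ι hι B ≫ pullback.fst (vB a B) f = tR C B :=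
  IsPullback.lift_snd _ _ _ _

theorem ρ_snd (B : Alg R) :
    ρ f a C ι hι B ≫ pullback.snd (vB a B) f = tL C B ≫ ι ≫ pullback.snd a f := by
  rw [← qB_snd, ← Category.assoc, ρ_q, Category.assoc]

theorem isPullback_ρ (B : Alg R) : IsPullback (tL C B) (ρ f a C ι hι B) ι (qB f a B) := by
  refine IsPullback.of_bot ?_ (ρ_q f a C ι hι B).symm (isPullback_qB f a B)
  rw [ρ_fst, hι]
  exact tsq C B

/-- the map `P_{B'} → P_B`. -/
noncomputable abbrev pmap {B B' : Alg R} (g : B ⟶ B') :
    pullback (vB a B') f ⟶ pullback (vB a B) f :=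
  ((Over.pullback f).map ((specOver a).map g.op)).left

theorem pmap_fst {B B' : Alg R} (g : B ⟶ B') :
    pmap f a g ≫ pullback.fst (vB a B) f = pullback.fst (vB a B') f ≫ Spec.map (rh g) :=
  pullback.lift_fst _ _ _

theorem pmap_snd {B B' : Alg R} (g : B ⟶ B') :
    pmap f a g ≫ pullback.snd (vB a B) f = pullback.snd (vB a B') f :=
  pullback.lift_snd _ _ _

theorem ρ_natural {B B' : Alg R} (g : B ⟶ B') :
    Spec.map (tmap C g) ≫ ρ f a C ι hι B = ρ f a C ι hι B' ≫ pmap f a g := by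
  apply pullback.hom_ext
  · rw [Category.assoc, ρ_fst, Category.assoc, pmap_fst, ← Category.assoc, ρ_fst, tmap_tR]
  · rw [Category.assoc, ρ_snd, Category.assoc, pmap_snd, ρ_snd, ← Category.assoc, tmap_tL]

/-- the structure morphism of the chart to `T`. -/
noncomputable abbrev cC : Spec (CommRingCat.of C) ⟶ T := ι ≫ pullback.snd a f

/-- the base change algebra `C ⊗ B` over `C`. -/
noncomputable abbrev bcA (B : Alg R) : Alg C := (Alg.baseChange R C).obj B

theorem sm_bcA (B : Alg R) : sm (R := CommRingCat.of C) (bcA C B) = iL C B := rfl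

/-- the chart object over `T`. -/
noncomputable abbrev Zc (B : Alg R) : Over T := (specOver (cC f a C ι)).obj (op (bcA C B))

/-- the base-changed object over `T`. -/
noncomputable abbrev Zb (B : Alg R) : Over T :=
  (Over.pullback f).obj ((specOver a).obj (op B))

/-- the chart morphism in `Over T`. -/
noncomputable def ρo (B : Alg R) : Zc f a C ι B ⟶ Zb f a B :=
  Over.homMk (ρ f a C ι hι B) (by
    show ρ f a C ι hι B ≫ pullback.snd (vB a B) f =
      Spec.map (sm (R := CommRingCat.of C) (bcA C B)) ≫ ι ≫ pullback.snd a f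
    exact ρ_snd f a C ι hι B)

theorem ρo_left (B : Alg R) : (ρo f a C ι hι B).left = ρ f a C ι hι B := rfl

theorem ρo_natural {B B' : Alg R} (g : B ⟶ B') :
    (specOver (cC f a C ι)).map ((Alg.baseChange R C).map g).op ≫ ρo f a C ι hι B =
      ρo f a C ι hι B' ≫ (Over.pullback f).map ((specOver a).map g.op) := by
  apply Over.OverMorphism.ext
  show Spec.map (tmap C g) ≫ ρ f a C ι hι B = ρ f a C ι hι B' ≫ pmap f a g
  exact ρ_natural f a C ι hι g

end Chart

section Cover

variable {κ : Type*} (Cs : κ → Type u) [∀ k, CommRing (Cs k)] [∀ k, Algebra R (Cs k)]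
  (ιs : ∀ k, Spec (CommRingCat.of (Cs k)) ⟶ pullback a f)
  (hιs : ∀ k, ιs k ≫ pullback.fst a f = Spec.map (CommRingCat.ofHom (algebraMap R (Cs k))))

theorem cover_mem (K : Precoverage Scheme.{u}) [K.IsStableUnderBaseChange]
    (hcov : Presieve.ofArrows (fun k => Spec (CommRingCat.of (Cs k))) ιs ∈
      K.coverings (pullback a f)) (B : Alg R) :
    Sieve.ofArrows (fun k => Zc f a (Cs k) (ιs k) B)
      (fun k => ρo f a (Cs k) (ιs k) (hιs k) B) ∈ (QuotSh.J K T) (Zb f a B) := by
  rw [GrothendieckTopology.mem_over_iff, Sieve.overEquiv_ofArrows]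
  exact Precoverage.generate_mem_toGrothendieck
    (Precoverage.mem_coverings_of_isPullback _ hcov (qB f a B) _ _
      (fun k => (isPullback_ρ f a (Cs k) (ιs k) (hιs k) B).flip))

end Cover

end Groth.Agent.H2.Adeq2PushGeom
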