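import Mathlib
import Groth.Prelude.Def_Adeq2
import Groth.Agent.Lib.Helper2.Adeq2PushGeom

/-! # Morphisms of module-valued functors attached to charts of a base change. -/

set_option autoImplicit false
universe u
open CategoryTheory CategoryTheory.Limits AlgebraicGeometry Opposite Adeq TensorProduct

namespace Groth.Agent.H2.Adeq2PushMor

open Groth.Agent.H2.Adeq2Cov Groth.Agent.H2.Adeq2PushGeom

theorem gamma_spec {B₁ B₂ : CommRingCat.{u}} (g : B₁ ⟶ B₂) (r : B₁) :
    (Spec.map g).appTop.hom ((Scheme.ΓSpecIso B₁).inv.hom r) =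
      (Scheme.ΓSpecIso B₂).inv.hom (g.hom r) := by
  change ((Scheme.ΓSpecIso B₁).inv ≫ (Spec.map g).appTop) r = (g ≫ (Scheme.ΓSpecIso B₂).inv) r
  rw [Scheme.ΓSpecIso_inv_naturality]

variable (K : Precoverage Scheme.{u}) [BigSite.OSh K]
variable {S T : Scheme.{u}} (f : T ⟶ S) {R : CommRingCat.{u}} (a : Spec R ⟶ S)

section Rmap

variable (C : Type u) [CommRing C] [Algebra R C]
variable (ι : Spec (CommRingCat.of C) ⟶ pullback a f)
  (hι : ι ≫ pullback.fst a f = Spec.map (CommRingCat.ofHom (algebraMap R C)))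

theorem scalar_eq (B : Alg R) (r : B) :
    (BigSite.ORing K T).obj.map (ρo f a C ι hι B).op
      ((Sheaf.toPushforwardOverPullback (BigSite.ORingAbs K) f).hom.app
        (op ((specOver a).obj (op B))) (toSect K a B r)) =
    toSect K (R := CommRingCat.of C) (cC f a C ι) (bcA C B) ((1 : C) ⊗ₜ[R] r) := by
  apply ULift.ext
  change (ρ f a C ι hι B).appTop.hom ((pullback.fst (vB a B) f).appTop.hom
      ((Scheme.ΓSpecIso (CommRingCat.of B)).inv.hom r)) =
    (Scheme.ΓSpecIso (CommRingCat.of (C ⊗[R] B))).inv.hom ((1 : C) ⊗ₜ[R] r)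
  have h1 : (ρ f a C ι hι B).appTop.hom ((pullback.fst (vB a B) f).appTop.hom
      ((Scheme.ΓSpecIso (CommRingCat.of B)).inv.hom r)) =
      (ρ f a C ι hι B ≫ pullback.fst (vB a B) f).appTop.hom
        ((Scheme.ΓSpecIso (CommRingCat.of B)).inv.hom r) := by
    rw [Scheme.Hom.comp_appTop]
    rfl
  rw [h1, ρ_fst]
  exact gamma_spec (iR C B) r

variable (M : BigSite.Mod K T)

/-- the functor attached to a chart. -/
noncomputable abbrev Hc : MVF R :=
  (push R C).obj ((toMVF K (R := CommRingCat.of C) (cC f a C ι)).obj M)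

/-- the functor of the pushforward. -/
noncomputable abbrev Gf : MVF R := (toMVF K a).obj ((BigSite.pushMod K f).obj M)

/-- restriction to a chart. -/
noncomputable def rmap : Gf K f a M ⟶ Hc K f a C ι M :=
  PresheafOfModules.homMk
    { app X := M.val.presheaf.map (ρo f a C ι hι X.unop.unop).op
      naturality {X Y} g := by
        have h := ρo_natural f a C ι hι g.unop.unop
        have h' : (ρo f a C ι hι X.unop.unop).op ≫
              ((specOver (cC f a C ι)).map ((Alg.baseChange R C).map g.unop.unop).op).op =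
            ((Over.pullback f).map ((specOver a).map g.unop)).op ≫
              (ρo f a C ι hι Y.unop.unop).op :=
          congrArg Quiver.Hom.op h
        change M.val.presheaf.map ((Over.pullback f).map ((specOver a).map g.unop)).op ≫
            M.val.presheaf.map (ρo f a C ι hι Y.unop.unop).op =
          M.val.presheaf.map (ρo f a C ι hι X.unop.unop).op ≫
            M.val.presheaf.map
              ((specOver (cC f a C ι)).map ((Alg.baseChange R C).map g.unop.unop).op).op
        rw [← M.val.presheaf.map_comp, ← h', M.val.presheaf.map_comp] }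
    (by
      intro X r m
      have h := M.val.map_smul (ρo f a C ι hι X.unop.unop).op
        ((Sheaf.toPushforwardOverPullback (BigSite.ORingAbs K) f).hom.app
          (op ((specOver a).obj (op X.unop.unop))) (toSect K a X.unop.unop r)) m
      refine h.trans ?_
      rw [scalar_eq]
      rfl)

theorem rmap_app_apply (X : (Alg R)ᵒᵖᵒᵖ) (x : (Gf K f a M).obj X) :
    ((rmap K f a C ι hι M).app X).hom x =
      (M.val.presheaf.map (ρo f a C ι hι X.unop.unop).op).hom x := rfl

end Rmap

section Smap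

variable (C C' : Type u) [CommRing C] [Algebra R C] [CommRing C'] [Algebra R C']
  (ψ : C →ₐ[R] C')
variable (ι : Spec (CommRingCat.of C) ⟶ pullback a f)
  (ι' : Spec (CommRingCat.of C') ⟶ pullback a f)
  (hψ : Spec.map (CommRingCat.ofHom ψ.toRingHom) ≫ ι = ι')

/-- `ψ ⊗ id`. -/
noncomputable abbrev ψB (B : Alg R) :
    CommRingCat.of (C ⊗[R] B) ⟶ CommRingCat.of (C' ⊗[R] B) :=
  CommRingCat.ofHom (Algebra.TensorProduct.map ψ (AlgHom.id R B)).toRingHom

theorem iL_ψB (B : Alg R) :
    iL C B ≫ ψB C C' ψ B = CommRingCat.ofHom ψ.toRingHom ≫ iL C' B := by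
  ext c
  show Algebra.TensorProduct.map ψ (AlgHom.id R B) (c ⊗ₜ[R] (1 : B)) = ψ c ⊗ₜ[R] (1 : B)
  rw [Algebra.TensorProduct.map_tmul]
  rfl

theorem iR_ψB (B : Alg R) : iR C B ≫ ψB C C' ψ B = iR C' B := by
  ext b
  show Algebra.TensorProduct.map ψ (AlgHom.id R B) ((1 : C) ⊗ₜ[R] b) = (1 : C') ⊗ₜ[R] b
  rw [Algebra.TensorProduct.map_tmul, map_one]
  rfl

theorem ψB_tL (B : Alg R) :
    Spec.map (ψB C C' ψ B) ≫ tL C B =
      tL C' B ≫ Spec.map (CommRingCat.ofHom ψ.toRingHom) := by
  rw [← Spec.map_comp, ← Spec.map_comp, iL_ψB]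

theorem ψB_tR (B : Alg R) : Spec.map (ψB C C' ψ B) ≫ tR C B = tR C' B := by
  rw [← Spec.map_comp, iR_ψB]

theorem ψB_tmap {B B' : Alg R} (g : B ⟶ B') :
    ψB C C' ψ B ≫ tmap C' g = tmap C g ≫ ψB C C' ψ B' := by
  apply CommRingCat.hom_ext
  apply RingHom.ext
  intro x
  show Algebra.TensorProduct.map (AlgHom.id C' C') g.hom
      (Algebra.TensorProduct.map ψ (AlgHom.id R B) x) =
    Algebra.TensorProduct.map ψ (AlgHom.id R B')
      (Algebra.TensorProduct.map (AlgHom.id C C) g.hom x)
  induction x using TensorProduct.induction_on with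
  | zero => simp
  | tmul c b => simp
  | add x y hx hy => simp only [map_add, hx, hy]

include hψ in
theorem σo_aux (B : Alg R) :
    Spec.map (ψB C C' ψ B) ≫ Spec.map (sm (R := CommRingCat.of C) (bcA C B)) ≫
        ι ≫ pullback.snd a f =
      Spec.map (sm (R := CommRingCat.of C') (bcA C' B)) ≫ ι' ≫ pullback.snd a f := by
  rw [sm_bcA, sm_bcA, ← Category.assoc, ψB_tL, Category.assoc, ← hψ, Category.assoc]

/-- the transition morphism between chart objects. -/
noncomputable def σo (B : Alg R) : Zc f a C' ι' B ⟶ Zc f a C ι B :=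
  Over.homMk (Spec.map (ψB C C' ψ B)) (σo_aux f a C C' ψ ι ι' hψ B)

theorem σo_natural {B B' : Alg R} (g : B ⟶ B') :
    (specOver (cC f a C' ι')).map ((Alg.baseChange R C').map g).op ≫
        σo f a C C' ψ ι ι' hψ B =
      σo f a C C' ψ ι ι' hψ B' ≫
        (specOver (cC f a C ι)).map ((Alg.baseChange R C).map g).op := by
  apply Over.OverMorphism.ext
  show Spec.map (tmap C' g) ≫ Spec.map (ψB C C' ψ B) =
    Spec.map (ψB C C' ψ B') ≫ Spec.map (tmap C g)
  rw [← Spec.map_comp, ← Spec.map_comp, ψB_tmap]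

theorem σo_ρo
    (hι : ι ≫ pullback.fst a f = Spec.map (CommRingCat.ofHom (algebraMap R C)))
    (hι' : ι' ≫ pullback.fst a f = Spec.map (CommRingCat.ofHom (algebraMap R C')))
    (B : Alg R) :
    σo f a C C' ψ ι ι' hψ B ≫ ρo f a C ι hι B = ρo f a C' ι' hι' B := by
  apply Over.OverMorphism.ext
  show Spec.map (ψB C C' ψ B) ≫ ρ f a C ι hι B = ρ f a C' ι' hι' B
  apply pullback.hom_ext
  · rw [Category.assoc, ρ_fst, ρ_fst, ψB_tR]
  · rw [Category.assoc, ρ_snd, ρ_snd, ← Category.assoc, ψB_tL, Category.assoc, ← hψ,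
      Category.assoc]

theorem scalar_eq' (B : Alg R) (r : B) :
    (BigSite.ORing K T).obj.map (σo f a C C' ψ ι ι' hψ B).op
      (toSect K (R := CommRingCat.of C) (cC f a C ι) (bcA C B) ((1 : C) ⊗ₜ[R] r)) =
    toSect K (R := CommRingCat.of C') (cC f a C' ι') (bcA C' B) ((1 : C') ⊗ₜ[R] r) := by
  apply ULift.ext
  change (Spec.map (ψB C C' ψ B)).appTop.hom
      ((Scheme.ΓSpecIso (CommRingCat.of (C ⊗[R] B))).inv.hom ((1 : C) ⊗ₜ[R] r)) =
    (Scheme.ΓSpecIso (CommRingCat.of (C' ⊗[R] B))).inv.hom ((1 : C') ⊗ₜ[R] r)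
  rw [gamma_spec]
  congr 1
  show Algebra.TensorProduct.map ψ (AlgHom.id R B) ((1 : C) ⊗ₜ[R] r) = (1 : C') ⊗ₜ[R] r
  rw [Algebra.TensorProduct.map_tmul, map_one]
  rfl

variable (M : BigSite.Mod K T)

/-- the transition morphism between the functors attached to charts. -/
noncomputable def smap : Hc K f a C ι M ⟶ Hc K f a C' ι' M :=
  PresheafOfModules.homMk
    { app X := M.val.presheaf.map (σo f a C C' ψ ι ι' hψ X.unop.unop).op
      naturality {X Y} g := by
        have h := σo_natural f a C C' ψ ι ι' hψ g.unop.unop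
        have h' : (σo f a C C' ψ ι ι' hψ X.unop.unop).op ≫
              ((specOver (cC f a C' ι')).map ((Alg.baseChange R C').map g.unop.unop).op).op =
            ((specOver (cC f a C ι)).map ((Alg.baseChange R C).map g.unop.unop).op).op ≫
              (σo f a C C' ψ ι ι' hψ Y.unop.unop).op :=
          congrArg Quiver.Hom.op h
        change M.val.presheaf.map
              ((specOver (cC f a C ι)).map ((Alg.baseChange R C).map g.unop.unop).op).op ≫
            M.val.presheaf.map (σo f a C C' ψ ι ι' hψ Y.unop.unop).op =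
          M.val.presheaf.map (σo f a C C' ψ ι ι' hψ X.unop.unop).op ≫
            M.val.presheaf.map
              ((specOver (cC f a C' ι')).map ((Alg.baseChange R C').map g.unop.unop).op).op
        rw [← M.val.presheaf.map_comp, ← h', M.val.presheaf.map_comp] }
    (by
      intro X r m
      have h := M.val.map_smul (σo f a C C' ψ ι ι' hψ X.unop.unop).op
        (toSect K (R := CommRingCat.of C) (cC f a C ι) (bcA C X.unop.unop)
          ((1 : C) ⊗ₜ[R] r)) m
      refine h.trans ?_
      rw [scalar_eq']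
      rfl)

theorem smap_app_apply (X : (Alg R)ᵒᵖᵒᵖ) (x : (Hc K f a C ι M).obj X) :
    ((smap K f a C C' ψ ι ι' hψ M).app X).hom x =
      (M.val.presheaf.map (σo f a C C' ψ ι ι' hψ X.unop.unop).op).hom x := rfl

end Smap

end Groth.Agent.H2.Adeq2PushMor
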