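import Mathlib
import Groth.Prelude.Def_Adeq2
import Groth.Agent.Lib.Helper2.Adeq2PushMor

/-! # Sheaf-theoretic descent for the functor of a pushforward along charts. -/

set_option autoImplicit false
universe u
open CategoryTheory CategoryTheory.Limits AlgebraicGeometry Opposite Adeq TensorProduct

namespace Groth.Agent.H2.Adeq2PushDesc

open Groth.Agent.H2.Adeq2Cov Groth.Agent.H2.Adeq2PushGeom Groth.Agent.H2.Adeq2PushMor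

variable {S T : Scheme.{u}} (f : T ⟶ S) {R : CommRingCat.{u}} (a : Spec R ⟶ S)

theorem ψB_tL_assoc (C C' : Type u) [CommRing C] [Algebra R C] [CommRing C'] [Algebra R C']
    (ψ : C →ₐ[R] C') (B : Alg R) {W : Scheme.{u}} (h : Spec (CommRingCat.of C) ⟶ W) :
    Spec.map (ψB C C' ψ B) ≫ tL C B ≫ h =
      tL C' B ≫ Spec.map (CommRingCat.ofHom ψ.toRingHom) ≫ h := by
  rw [← Category.assoc, ψB_tL, Category.assoc]

section Overlap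

variable (C₁ C₂ : Type u) [CommRing C₁] [Algebra R C₁] [CommRing C₂] [Algebra R C₂]
variable (ι₁ : Spec (CommRingCat.of C₁) ⟶ pullback a f)
  (ι₂ : Spec (CommRingCat.of C₂) ⟶ pullback a f)
  (hι₁ : ι₁ ≫ pullback.fst a f = Spec.map (CommRingCat.ofHom (algebraMap R C₁)))
  (hι₂ : ι₂ ≫ pullback.fst a f = Spec.map (CommRingCat.ofHom (algebraMap R C₂)))
variable (C' : Type u) [CommRing C'] [Algebra R C']
  (ι' : Spec (CommRingCat.of C') ⟶ pullback a f)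
  (hι' : ι' ≫ pullback.fst a f = Spec.map (CommRingCat.ofHom (algebraMap R C')))
  (ψ₁ : C₁ →ₐ[R] C') (ψ₂ : C₂ →ₐ[R] C')
  (hψ₁ : Spec.map (CommRingCat.ofHom ψ₁.toRingHom) ≫ ι₁ = ι')
  (hψ₂ : Spec.map (CommRingCat.ofHom ψ₂.toRingHom) ≫ ι₂ = ι')

variable (B : Alg R) {Z₀ : Scheme.{u}} (u₁ : Z₀ ⟶ Spec (CommRingCat.of (C₁ ⊗[R] B)))
  (u₂ : Z₀ ⟶ Spec (CommRingCat.of (C₂ ⊗[R] B)))
  (hu : u₁ ≫ ρ f a C₁ ι₁ hι₁ B = u₂ ≫ ρ f a C₂ ι₂ hι₂ B)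

/-- the map to `Y₀`. -/
noncomputable abbrev vmap : Z₀ ⟶ pullback a f := u₁ ≫ tL C₁ B ≫ ι₁

include hu in
theorem vmap_eq : vmap f a C₁ ι₁ B u₁ = u₂ ≫ tL C₂ B ≫ ι₂ := by
  have h2 : (u₁ ≫ ρ f a C₁ ι₁ hι₁ B) ≫ qB f a B = (u₂ ≫ ρ f a C₂ ι₂ hι₂ B) ≫ qB f a B := by
    rw [hu]
  rw [Category.assoc, Category.assoc, ρ_q, ρ_q] at h2
  exact h2

include hu in
theorem tR_eq : u₁ ≫ tR C₁ B = u₂ ≫ tR C₂ B := by
  have h2 : (u₁ ≫ ρ f a C₁ ι₁ hι₁ B) ≫ pullback.fst (vB a B) f =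
      (u₂ ≫ ρ f a C₂ ι₂ hι₂ B) ≫ pullback.fst (vB a B) f := by
    rw [hu]
  rw [Category.assoc, Category.assoc, ρ_fst, ρ_fst] at h2
  exact h2

include hι₁ hι' in
theorem wl_aux :
    pullback.snd (vmap f a C₁ ι₁ B u₁) ι' ≫ Spec.map (CommRingCat.ofHom (algebraMap R C')) =
      (pullback.fst (vmap f a C₁ ι₁ B u₁) ι' ≫ u₁ ≫ tR C₁ B) ≫ Spec.map (sm B) := by
  rw [← hι', ← Category.assoc, ← pullback.condition]
  simp only [Category.assoc]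
  rw [hι₁, (tsq C₁ B).w]

/-- the lift to the overlap chart. -/
noncomputable def wl :
    pullback (vmap f a C₁ ι₁ B u₁) ι' ⟶ Spec (CommRingCat.of (C' ⊗[R] B)) :=
  (tsq C' B).lift (pullback.snd (vmap f a C₁ ι₁ B u₁) ι')
    (pullback.fst (vmap f a C₁ ι₁ B u₁) ι' ≫ u₁ ≫ tR C₁ B)
    (wl_aux f a C₁ ι₁ hι₁ C' ι' hι' B u₁)

theorem wl_tL : wl f a C₁ ι₁ hι₁ C' ι' hι' B u₁ ≫ tL C' B =
    pullback.snd (vmap f a C₁ ι₁ B u₁) ι' :=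
  IsPullback.lift_fst _ _ _ _

theorem wl_tR : wl f a C₁ ι₁ hι₁ C' ι' hι' B u₁ ≫ tR C' B =
    pullback.fst (vmap f a C₁ ι₁ B u₁) ι' ≫ u₁ ≫ tR C₁ B :=
  IsPullback.lift_snd _ _ _ _

include hψ₁ in
theorem wl_σ₁ [Mono ι₁] :
    wl f a C₁ ι₁ hι₁ C' ι' hι' B u₁ ≫ Spec.map (ψB C₁ C' ψ₁ B) =
      pullback.fst (vmap f a C₁ ι₁ B u₁) ι' ≫ u₁ := by
  apply (tsq C₁ B).hom_ext
  · rw [← cancel_mono ι₁]
    simp only [Category.assoc]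
    rw [ψB_tL_assoc, hψ₁, ← Category.assoc, wl_tL]
    exact pullback.condition.symm
  · simp only [Category.assoc]
    rw [ψB_tR, wl_tR]

include hψ₂ hu in
theorem wl_σ₂ [Mono ι₂] :
    wl f a C₁ ι₁ hι₁ C' ι' hι' B u₁ ≫ Spec.map (ψB C₂ C' ψ₂ B) =
      pullback.fst (vmap f a C₁ ι₁ B u₁) ι' ≫ u₂ := by
  apply (tsq C₂ B).hom_ext
  · rw [← cancel_mono ι₂]
    simp only [Category.assoc]
    rw [ψB_tL_assoc, hψ₂, ← Category.assoc, wl_tL,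
      ← vmap_eq f a C₁ C₂ ι₁ ι₂ hι₁ hι₂ B u₁ u₂ hu]
    exact pullback.condition.symm
  · simp only [Category.assoc]
    rw [ψB_tR, wl_tR, tR_eq f a C₁ C₂ ι₁ ι₂ hι₁ hι₂ B u₁ u₂ hu]

theorem wl_hom :
    wl f a C₁ ι₁ hι₁ C' ι' hι' B u₁ ≫ tL C' B ≫ ι' ≫ pullback.snd a f =
      pullback.fst (vmap f a C₁ ι₁ B u₁) ι' ≫ u₁ ≫ tL C₁ B ≫ ι₁ ≫ pullback.snd a f := by
  rw [← Category.assoc, wl_tL, ← Category.assoc, ← pullback.condition]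
  simp only [Category.assoc]

end Overlap

section Compat

variable (K : Precoverage Scheme.{u}) [BigSite.OSh K] [K.IsStableUnderBaseChange]
  (M : BigSite.Mod K T)
variable (C₁ C₂ : Type u) [CommRing C₁] [Algebra R C₁] [CommRing C₂] [Algebra R C₂]
variable (ι₁ : Spec (CommRingCat.of C₁) ⟶ pullback a f)
  (ι₂ : Spec (CommRingCat.of C₂) ⟶ pullback a f)
  (hι₁ : ι₁ ≫ pullback.fst a f = Spec.map (CommRingCat.ofHom (algebraMap R C₁)))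
  (hι₂ : ι₂ ≫ pullback.fst a f = Spec.map (CommRingCat.ofHom (algebraMap R C₂)))
  [Mono ι₁] [Mono ι₂]
variable {μ : Type*} (C' : μ → Type u) [∀ m, CommRing (C' m)] [∀ m, Algebra R (C' m)]
  (ι' : ∀ m, Spec (CommRingCat.of (C' m)) ⟶ pullback a f)
  (hι' : ∀ m, ι' m ≫ pullback.fst a f = Spec.map (CommRingCat.ofHom (algebraMap R (C' m))))
  [∀ m, IsOpenImmersion (ι' m)]
  (ψ₁ : ∀ m, C₁ →ₐ[R] C' m) (ψ₂ : ∀ m, C₂ →ₐ[R] C' m)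
  (hψ₁ : ∀ m, Spec.map (CommRingCat.ofHom (ψ₁ m).toRingHom) ≫ ι₁ = ι' m)
  (hψ₂ : ∀ m, Spec.map (CommRingCat.ofHom (ψ₂ m).toRingHom) ≫ ι₂ = ι' m)

include hψ₁ hψ₂ hι' in
theorem compat_of_overlap
    (hov : ∀ y : ↥(pullback a f), y ∈ Set.range ι₁ → y ∈ Set.range ι₂ →
      ∃ m, y ∈ Set.range (ι' m))
    (hzar : Scheme.zariskiPrecoverage ≤ K) (B : Alg R)
    (y₁ : (PS K M).obj (op (Zc f a C₁ ι₁ B))) (y₂ : (PS K M).obj (op (Zc f a C₂ ι₂ B)))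
    (hy : ∀ m, (PS K M).map (σo f a C₁ (C' m) (ψ₁ m) ι₁ (ι' m) (hψ₁ m) B).op y₁ =
      (PS K M).map (σo f a C₂ (C' m) (ψ₂ m) ι₂ (ι' m) (hψ₂ m) B).op y₂)
    {Z : Over T} (g₁ : Z ⟶ Zc f a C₁ ι₁ B) (g₂ : Z ⟶ Zc f a C₂ ι₂ B)
    (hg : g₁ ≫ ρo f a C₁ ι₁ hι₁ B = g₂ ≫ ρo f a C₂ ι₂ hι₂ B) :
    (PS K M).map g₁.op y₁ = (PS K M).map g₂.op y₂ := by
  let u₁ : Z.left ⟶ Spec (CommRingCat.of (C₁ ⊗[R] B)) := g₁.left
  let u₂ : Z.left ⟶ Spec (CommRingCat.of (C₂ ⊗[R] B)) := g₂.left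
  have hu : u₁ ≫ ρ f a C₁ ι₁ hι₁ B = u₂ ≫ ρ f a C₂ ι₂ hι₂ B :=
    congrArg CommaMorphism.left hg
  have hcov : Presieve.ofArrows (fun m => pullback (vmap f a C₁ ι₁ B u₁) (ι' m))
      (fun m => pullback.fst (vmap f a C₁ ι₁ B u₁) (ι' m)) ∈ K.coverings Z.left := by
    apply hzar
    show _ ∈ Scheme.precoverage @IsOpenImmersion Z.left
    rw [Scheme.ofArrows_mem_precoverage_iff]
    refine ⟨fun z => ?_, fun m => inferInstance⟩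
    have h1 : (vmap f a C₁ ι₁ B u₁) z ∈ Set.range ι₁ :=
      ⟨(u₁ ≫ tL C₁ B) z, by rw [← Scheme.Hom.comp_apply, Category.assoc]⟩
    have h2 : (vmap f a C₁ ι₁ B u₁) z ∈ Set.range ι₂ := by
      rw [vmap_eq f a C₁ C₂ ι₁ ι₂ hι₁ hι₂ B u₁ u₂ hu]
      exact ⟨(u₂ ≫ tL C₂ B) z, by rw [← Scheme.Hom.comp_apply, Category.assoc]⟩
    obtain ⟨m, hm⟩ := hov _ h1 h2
    refine ⟨m, ?_⟩
    rw [Scheme.Pullback.range_fst]
    exact hm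
  let Zo : μ → Over T := fun m => Over.mk (pullback.fst (vmap f a C₁ ι₁ B u₁) (ι' m) ≫ Z.hom)
  let h : ∀ m, Zo m ⟶ Z := fun m => Over.homMk (pullback.fst (vmap f a C₁ ι₁ B u₁) (ι' m)) rfl
  have hmem : Sieve.ofArrows Zo h ∈ (QuotSh.J K T) Z := by
    rw [GrothendieckTopology.mem_over_iff, Sieve.overEquiv_ofArrows]
    exact Precoverage.generate_mem_toGrothendieck hcov
  apply ((isSheaf_PS K M) _ hmem).isSeparatedFor.ext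
  rintro V' g ⟨Y, g', _, ⟨m⟩, rfl⟩
  have hw_hom : wl f a C₁ ι₁ hι₁ (C' m) (ι' m) (hι' m) B u₁ ≫
      (Zc f a (C' m) (ι' m) B).hom = (Zo m).hom := by
    show wl f a C₁ ι₁ hι₁ (C' m) (ι' m) (hι' m) B u₁ ≫
        Spec.map (sm (R := CommRingCat.of (C' m)) (bcA (C' m) B)) ≫ ι' m ≫ pullback.snd a f =
      pullback.fst (vmap f a C₁ ι₁ B u₁) (ι' m) ≫ Z.hom
    rw [sm_bcA, wl_hom]
    have hZ : u₁ ≫ tL C₁ B ≫ ι₁ ≫ pullback.snd a f = Z.hom := Over.w g₁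
    rw [hZ]
  let w : Zo m ⟶ Zc f a (C' m) (ι' m) B :=
    Over.homMk (wl f a C₁ ι₁ hι₁ (C' m) (ι' m) (hι' m) B u₁) hw_hom
  have e1 : w ≫ σo f a C₁ (C' m) (ψ₁ m) ι₁ (ι' m) (hψ₁ m) B = h m ≫ g₁ := by
    apply Over.OverMorphism.ext
    exact wl_σ₁ f a C₁ ι₁ hι₁ (C' m) (ι' m) (hι' m) (ψ₁ m) (hψ₁ m) B u₁
  have e2 : w ≫ σo f a C₂ (C' m) (ψ₂ m) ι₂ (ι' m) (hψ₂ m) B = h m ≫ g₂ := by
    apply Over.OverMorphism.ext
    exact wl_σ₂ f a C₁ C₂ ι₁ ι₂ hι₁ hι₂ (C' m) (ι' m) (hι' m) (ψ₂ m) (hψ₂ m) B u₁ u₂ hu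
  have k1 : (PS K M).map (h m).op ((PS K M).map g₁.op y₁) =
      (PS K M).map (h m).op ((PS K M).map g₂.op y₂) := by
    rw [← Functor.map_comp_apply, ← Functor.map_comp_apply, ← op_comp, ← op_comp, ← e1, ← e2,
      op_comp, op_comp, Functor.map_comp_apply, Functor.map_comp_apply, hy m]
  rw [op_comp, Functor.map_comp_apply, Functor.map_comp_apply, k1]

end Compat

section Family

variable (K : Precoverage Scheme.{u}) [BigSite.OSh K] [K.IsStableUnderBaseChange]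
  (M : BigSite.Mod K T)
variable {κ : Type*} (Cs : κ → Type u) [∀ k, CommRing (Cs k)] [∀ k, Algebra R (Cs k)]
  (ιs : ∀ k, Spec (CommRingCat.of (Cs k)) ⟶ pullback a f)
  (hιs : ∀ k, ιs k ≫ pullback.fst a f = Spec.map (CommRingCat.ofHom (algebraMap R (Cs k))))
  (hcov : Presieve.ofArrows (fun k => Spec (CommRingCat.of (Cs k))) ιs ∈
    K.coverings (pullback a f))

include hcov in
theorem hinj (B : Alg R) (x x' : (PS K M).obj (op (Zb f a B)))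
    (h : ∀ k, (PS K M).map (ρo f a (Cs k) (ιs k) (hιs k) B).op x =
      (PS K M).map (ρo f a (Cs k) (ιs k) (hιs k) B).op x') : x = x' := by
  have hS := (isSheaf_PS K M).isSheafFor _ (cover_mem f a Cs ιs hιs K hcov B)
  rw [Presieve.isSheafFor_arrows_iff] at hS
  obtain ⟨t, _, ht⟩ := hS
    (fun k => (PS K M).map (ρo f a (Cs k) (ιs k) (hιs k) B).op x)
    (compat_of_section (PS K M) _ _ x)
  exact (ht x (fun k => rfl)).trans (ht x' (fun k => (h k).symm)).symm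

include hcov in
theorem hex (B : Alg R) (y : ∀ k, (PS K M).obj (op (Zc f a (Cs k) (ιs k) B)))
    (hy : ∀ (k l : κ) (Z : Over T) (g₁ : Z ⟶ Zc f a (Cs k) (ιs k) B)
      (g₂ : Z ⟶ Zc f a (Cs l) (ιs l) B),
      g₁ ≫ ρo f a (Cs k) (ιs k) (hιs k) B = g₂ ≫ ρo f a (Cs l) (ιs l) (hιs l) B →
        (PS K M).map g₁.op (y k) = (PS K M).map g₂.op (y l)) :
    ∃ x : (PS K M).obj (op (Zb f a B)),
      ∀ k, (PS K M).map (ρo f a (Cs k) (ιs k) (hιs k) B).op x = y k := by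
  have hS := (isSheaf_PS K M).isSheafFor _ (cover_mem f a Cs ιs hιs K hcov B)
  rw [Presieve.isSheafFor_arrows_iff] at hS
  obtain ⟨t, ht, _⟩ := hS y (fun k l Z g₁ g₂ hg => hy k l Z g₁ g₂ hg)
  exact ⟨t, ht⟩

end Family

end Groth.Agent.H2.Adeq2PushDesc
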