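import Mathlib
import Groth.Prelude.Def_Adeq
import Groth.Agent.Lib.Helper2.AdeqDescFam

/-! # Gluing adequacy: a functor which is pointwise the equalizer of maps between finite
products of adequate functors is adequate. -/

set_option autoImplicit false
universe u
open CategoryTheory CategoryTheory.Limits Adeq

namespace Groth.Agent.H2.AdeqGlue

open Groth.Agent.H2.AdeqKer Groth.Agent.H2.AdeqCok Groth.Agent.H2.AdeqAb
  Groth.Agent.H2.AdeqDescFam

variable {R : Type u} [CommRing R] {κ ν : Type (u + 1)} [Finite κ] [Finite ν]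
  (G : MVF R) (H : κ → MVF R) (H' : ν → MVF R) (r : ∀ k, G ⟶ H k) (src tgt : ν → κ)
  (s : ∀ n, H (src n) ⟶ H' n) (t : ∀ n, H (tgt n) ⟶ H' n)

/-- the difference map. -/
noncomputable def dmap : (∏ᶜ H) ⟶ (∏ᶜ H') :=
  Pi.lift (fun n : ν => Pi.π H (src n) ≫ s n - Pi.π H (tgt n) ≫ t n)

/-- the restriction map. -/
noncomputable def amap : G ⟶ ∏ᶜ H := Pi.lift r

theorem amap_π_apply (k : κ) (X : (Alg R)ᵒᵖᵒᵖ) (x : G.obj X) :
    ((Pi.π H k).app X).hom (((amap G H r).app X).hom x) = ((r k).app X).hom x := by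
  have h : amap G H r ≫ Pi.π H k = r k := Pi.lift_π _ _
  exact comp_app_apply h X x

theorem dmap_π_apply (n : ν) (X : (Alg R)ᵒᵖᵒᵖ) (w : (∏ᶜ H).obj X) :
    ((Pi.π H' n).app X).hom (((dmap H H' src tgt s t).app X).hom w) =
      ((s n).app X).hom (((Pi.π H (src n)).app X).hom w) -
        ((t n).app X).hom (((Pi.π H (tgt n)).app X).hom w) := by
  have h : dmap H H' src tgt s t ≫ Pi.π H' n =
      Pi.π H (src n) ≫ s n - Pi.π H (tgt n) ≫ t n := Pi.lift_π _ _
  exact comp_app_apply h X w

theorem adequate_of_glue (hH : ∀ k, adequate R (H k)) (hH' : ∀ n, adequate R (H' n))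
    (hcomm : ∀ (n : ν) (X : (Alg R)ᵒᵖᵒᵖ) (x : G.obj X),
      ((s n).app X).hom (((r (src n)).app X).hom x) =
        ((t n).app X).hom (((r (tgt n)).app X).hom x))
    (hinj : ∀ (X : (Alg R)ᵒᵖᵒᵖ) (x x' : G.obj X),
      (∀ k, ((r k).app X).hom x = ((r k).app X).hom x') → x = x')
    (hex : ∀ (X : (Alg R)ᵒᵖᵒᵖ) (y : ∀ k, (H k).obj X),
      (∀ n, ((s n).app X).hom (y (src n)) = ((t n).app X).hom (y (tgt n))) →
        ∃ x : G.obj X, ∀ k, ((r k).app X).hom x = y k) :
    adequate R G := by
  have hP : adequate R (∏ᶜ H) := adequate_pi _ hH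
  have hQ : adequate R (∏ᶜ H') := adequate_pi _ hH'
  have hK : adequate R (kernel (dmap H H' src tgt s t)) := adequate_kernel _ hP hQ
  have hz : amap G H r ≫ dmap H H' src tgt s t = 0 := by
    apply PresheafOfModules.hom_ext
    intro X
    apply ModuleCat.hom_ext
    apply LinearMap.ext
    intro x
    apply pi_ext'
    intro n
    have hR : ((Pi.π H' n).app X).hom (((0 : G ⟶ ∏ᶜ H').app X).hom x) = 0 := by
      have h0 : ((0 : G ⟶ ∏ᶜ H').app X).hom x = 0 := rfl
      rw [h0, map_zero]
    refine Eq.trans ?_ hR.symm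
    have h1 := dmap_π_apply H H' src tgt s t n X (((amap G H r).app X).hom x)
    refine h1.trans ?_
    rw [amap_π_apply G H r (src n) X x, amap_π_apply G H r (tgt n) X x, hcomm n X x, sub_self]
  let a : G ⟶ kernel (dmap H H' src tgt s t) := kernel.lift _ (amap G H r) hz
  have ha : a ≫ kernel.ι (dmap H H' src tgt s t) = amap G H r := kernel.lift_ι _ _ hz
  have : IsIso a := by
    apply isIso_of_bijective
    intro X
    constructor
    · intro x x' hxx'
      apply hinj X
      intro k
      rw [← amap_π_apply G H r k X x, ← amap_π_apply G H r k X x']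
      have h1 := comp_app_apply ha X x
      have h2 := comp_app_apply ha X x'
      rw [hxx'] at h1
      have h3 : ((amap G H r).app X).hom x = ((amap G H r).app X).hom x' := h1.symm.trans h2
      exact congrArg _ h3
    · intro z
      let w : (∏ᶜ H).obj X := ((kernel.ι (dmap H H' src tgt s t)).app X).hom z
      have hw : ((dmap H H' src tgt s t).app X).hom w = 0 := kernel_ι_app_comp _ X z
      obtain ⟨x, hx⟩ := hex X (fun k => ((Pi.π H k).app X).hom w) (by
        intro n
        have h1 := dmap_π_apply H H' src tgt s t n X w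
        rw [hw, map_zero] at h1
        exact (sub_eq_zero.1 h1.symm))
      refine ⟨x, kernel_ι_app_injective _ X ?_⟩
      refine (comp_app_apply ha X x).trans ?_
      apply pi_ext'
      intro k
      exact (amap_π_apply G H r k X x).trans (hx k)
  exact (adequate R).prop_of_iso (asIso a).symm hK

end Groth.Agent.H2.AdeqGlue
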