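import Mathlib
import Groth.Prelude.Def_Adeq2
import Groth.Agent.Lib.Helper2.Adeq2PushDesc
import Groth.Agent.Lib.Helper2.AdeqGlue
import Groth.Agent.Lib.Helper2.Adeq2Main

/-! # The pushforward of an adequate module along a quasi-compact quasi-separated morphism. -/

set_option autoImplicit false
universe u
open CategoryTheory CategoryTheory.Limits AlgebraicGeometry Opposite Adeq TensorProduct

namespace Groth.Agent.H2.Adeq2Push

open Groth.Agent.H2.Adeq2Cov Groth.Agent.H2.Adeq2PushGeom Groth.Agent.H2.Adeq2PushMor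
  Groth.Agent.H2.Adeq2PushDesc Groth.Agent.H2.AdeqGlue

theorem exists_affine_charts (Y : Scheme.{u}) [CompactSpace Y] [QuasiSeparatedSpace Y] :
    ∃ (κ : Type u) (_ : Fintype κ) (V : κ → Y.Opens), (∀ k, IsAffineOpen (V k)) ∧
      (∀ y : Y, ∃ k, y ∈ V k) ∧
      ∀ k l, ∃ (ν : Type u) (_ : Fintype ν) (V' : ν → Y.Opens), (∀ m, IsAffineOpen (V' m)) ∧
        (∀ m, V' m ≤ V k) ∧ (∀ m, V' m ≤ V l) ∧
        ∀ y : Y, y ∈ V k → y ∈ V l → ∃ m, y ∈ V' m := by
  have key : ∀ y : Y, ∃ W : Y.Opens, IsAffineOpen W ∧ y ∈ W := fun y => by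
    obtain ⟨W, hW, hyW, -⟩ := exists_isAffineOpen_mem_and_subset (x := y) (U := ⊤) trivial
    exact ⟨W, hW, hyW⟩
  choose W hW hyW using key
  obtain ⟨t, ht⟩ := isCompact_univ.elim_finite_subcover (fun y : Y => (W y : Set Y))
    (fun y => (W y).isOpen) (fun p _ => Set.mem_iUnion.2 ⟨p, hyW p⟩)
  refine ⟨{y // y ∈ t}, inferInstance, fun k => W k.1, fun k => hW k.1, ?_, ?_⟩
  · intro y
    have hp := ht (Set.mem_univ y)
    simp only [Set.mem_iUnion] at hp
    obtain ⟨x, hxt, hy⟩ := hp
    exact ⟨⟨x, hxt⟩, hy⟩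
  · intro k l
    have hc : IsCompact ((W k.1 : Set Y) ∩ (W l.1 : Set Y)) :=
      QuasiSeparatedSpace.inter_isCompact _ _ (W k.1).isOpen (hW k.1).isCompact
        (W l.1).isOpen (hW l.1).isCompact
    have key2 : ∀ y : {y : Y // y ∈ (W k.1 : Set Y) ∩ (W l.1 : Set Y)},
        ∃ W' : Y.Opens, IsAffineOpen W' ∧ y.1 ∈ W' ∧ W'.1 ⊆ (W k.1 ⊓ W l.1 : Y.Opens) :=
      fun y => exists_isAffineOpen_mem_and_subset (x := y.1) (U := W k.1 ⊓ W l.1) y.2
    choose W' hW' hyW' hsub using key2
    obtain ⟨t', ht'⟩ := hc.elim_finite_subcover (fun y => (W' y : Set Y))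
      (fun y => (W' y).isOpen) (fun p hp => Set.mem_iUnion.2 ⟨⟨p, hp⟩, hyW' ⟨p, hp⟩⟩)
    refine ⟨{y // y ∈ t'}, inferInstance, fun m => W' m.1, fun m => hW' m.1, fun m => ?_,
      fun m => ?_, ?_⟩
    · exact fun x hx => (hsub m.1 hx).1
    · exact fun x hx => (hsub m.1 hx).2
    · intro y hyk hyl
      have hp := ht' ⟨hyk, hyl⟩
      simp only [Set.mem_iUnion] at hp
      obtain ⟨x, hxt, hy⟩ := hp
      exact ⟨⟨x, hxt⟩, hy⟩

variable {S T : Scheme.{u}} (f : T ⟶ S) {R : CommRingCat.{u}} (a : Spec R ⟶ S)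

/-- an affine chart of `Y₀ = Spec R ×_S T`. -/
structure Chart where
  /-- the ring -/
  C : Type u
  /-- its ring structure -/
  [ring : CommRing C]
  /-- its algebra structure -/
  [alg : Algebra R C]
  /-- the chart map -/
  ι : Spec (CommRingCat.of C) ⟶ pullback a f
  /-- compatibility -/
  hι : ι ≫ pullback.fst a f = Spec.map (CommRingCat.ofHom (algebraMap R C))
  /-- open immersion -/
  imm : IsOpenImmersion ι

attribute [instance] Chart.ring Chart.alg Chart.imm

variable {f a}

/-- the structure map of the ring of an affine open. -/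
noncomputable def φV {V : (pullback a f).Opens} (hV : IsAffineOpen V) :
    R ⟶ Γ(pullback a f, V) :=
  Spec.preimage (hV.fromSpec ≫ pullback.fst a f)

theorem map_φV {V : (pullback a f).Opens} (hV : IsAffineOpen V) :
    Spec.map (φV hV) = hV.fromSpec ≫ pullback.fst a f :=
  Spec.map_preimage _

theorem φV_res {V V' : (pullback a f).Opens} (hV : IsAffineOpen V) (hV' : IsAffineOpen V')
    (h : V' ≤ V) : φV hV ≫ (pullback a f).presheaf.map (homOfLE h).op = φV hV' := by
  apply Spec.map_injective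
  rw [Spec.map_comp, map_φV, map_φV, ← Category.assoc, IsAffineOpen.map_fromSpec]

/-- the chart of an affine open. -/
noncomputable def Chart.ofAffineOpen {V : (pullback a f).Opens} (hV : IsAffineOpen V) :
    Chart f a :=
  letI : Algebra R Γ(pullback a f, V) := (φV hV).hom.toAlgebra
  { C := Γ(pullback a f, V)
    ι := hV.fromSpec
    hι := (map_φV hV).symm
    imm := inferInstanceAs (IsOpenImmersion hV.fromSpec) }

theorem Chart.range_ofAffineOpen {V : (pullback a f).Opens} (hV : IsAffineOpen V) :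
    Set.range (Chart.ofAffineOpen hV).ι = V :=
  hV.range_fromSpec

/-- restriction between rings of affine opens, as a map of algebras. -/
noncomputable def Chart.res {V V' : (pullback a f).Opens} (hV : IsAffineOpen V)
    (hV' : IsAffineOpen V') (h : V' ≤ V) :
    (Chart.ofAffineOpen hV).C →ₐ[R] (Chart.ofAffineOpen hV').C :=
  { ((pullback a f).presheaf.map (homOfLE h).op).hom with
    commutes' := fun r => by
      have h1 := φV_res hV hV' h
      exact congrArg (fun t => t.hom r) h1 }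

theorem Chart.res_ι {V V' : (pullback a f).Opens} (hV : IsAffineOpen V)
    (hV' : IsAffineOpen V') (h : V' ≤ V) :
    Spec.map (CommRingCat.ofHom (Chart.res hV hV' h).toRingHom) ≫ (Chart.ofAffineOpen hV).ι =
      (Chart.ofAffineOpen hV').ι :=
  IsAffineOpen.map_fromSpec hV hV' (homOfLE h).op

variable (f a)

theorem smap_rmap_apply (K : Precoverage Scheme.{u}) [BigSite.OSh K] (M : BigSite.Mod K T)
    (C C' : Type u) [CommRing C] [Algebra R C] [CommRing C'] [Algebra R C']
    (ψ : C →ₐ[R] C') (ι : Spec (CommRingCat.of C) ⟶ pullback a f)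
    (ι' : Spec (CommRingCat.of C') ⟶ pullback a f)
    (hψ : Spec.map (CommRingCat.ofHom ψ.toRingHom) ≫ ι = ι')
    (hι : ι ≫ pullback.fst a f = Spec.map (CommRingCat.ofHom (algebraMap R C)))
    (hι' : ι' ≫ pullback.fst a f = Spec.map (CommRingCat.ofHom (algebraMap R C')))
    (X : (Alg R)ᵒᵖᵒᵖ) (x : (Gf K f a M).obj X) :
    ((smap K f a C C' ψ ι ι' hψ M).app X).hom (((rmap K f a C ι hι M).app X).hom x) =
      ((rmap K f a C' ι' hι' M).app X).hom x := by
  have key : ∀ t : (PS K M).obj (op (Zb f a X.unop.unop)),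
      (PS K M).map (σo f a C C' ψ ι ι' hψ X.unop.unop).op
        ((PS K M).map (ρo f a C ι hι X.unop.unop).op t) =
      (PS K M).map (ρo f a C' ι' hι' X.unop.unop).op t := by
    intro t
    rw [← Functor.map_comp_apply, ← op_comp, σo_ρo f a C C' ψ ι ι' hψ hι hι']
  exact key x

set_option backward.isDefEq.respectTransparency.types false in
theorem adequate_pushMod_obj [QuasiCompact f] [QuasiSeparated f]
    (M : BigSite.Mod Scheme.fppfPrecoverage T)
    (hM : adequateMod Scheme.fppfPrecoverage T M) :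
    adequate R ((toMVF Scheme.fppfPrecoverage a).obj
      ((BigSite.pushMod Scheme.fppfPrecoverage f).obj M)) := by
  have : CompactSpace ↑(pullback a f) := inferInstance
  have : QuasiSeparatedSpace ↑(pullback a f) :=
    quasiSeparatedSpace_of_quasiSeparated (pullback.fst a f)
  obtain ⟨κ, hκ, V, hV, hVcov, hov⟩ := exists_affine_charts (pullback a f)
  choose ν hν V' hV' hle₁ hle₂ hVcov' using hov
  let c : κ → Chart f a := fun k => Chart.ofAffineOpen (hV k)
  let c' : ∀ k l, ν k l → Chart f a := fun k l m => Chart.ofAffineOpen (hV' k l m)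
  have hcov : Presieve.ofArrows (fun k => Spec (CommRingCat.of (c k).C)) (fun k => (c k).ι) ∈
      Scheme.fppfPrecoverage.coverings (pullback a f) := by
    apply Scheme.zariskiPrecoverage_le_fppfPrecoverage
    show _ ∈ Scheme.precoverage @IsOpenImmersion (pullback a f)
    rw [Scheme.ofArrows_mem_precoverage_iff]
    refine ⟨fun y => ?_, fun k => (c k).imm⟩
    obtain ⟨k, hk⟩ := hVcov y
    refine ⟨k, ?_⟩
    rw [Chart.range_ofAffineOpen]
    exact hk
  have hadq : ∀ ch : Chart f a,
      adequate R (Hc Scheme.fppfPrecoverage f a ch.C ch.ι M) := fun ch =>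
    Groth.Agent.H2.AdeqPushF.adequate_push R ch.C _
      (Groth.Agent.H2.Adeq2Main.adequate_of_adequateMod Scheme.fppfPrecoverage
        Groth.Agent.H2.Adeq2Ref.refines_fppf T M hM (CommRingCat.of ch.C) (cC f a ch.C ch.ι))
  refine adequate_of_glue (κ := ULift.{u + 1} κ) (ν := ULift.{u + 1} (Σ k l, ν k l))
    (Gf Scheme.fppfPrecoverage f a M)
    (fun k => Hc Scheme.fppfPrecoverage f a (c k.down).C (c k.down).ι M)
    (fun n => Hc Scheme.fppfPrecoverage f a (c' n.down.1 n.down.2.1 n.down.2.2).C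
      (c' n.down.1 n.down.2.1 n.down.2.2).ι M)
    (fun k => rmap Scheme.fppfPrecoverage f a (c k.down).C (c k.down).ι (c k.down).hι M)
    (fun n => ⟨n.down.1⟩) (fun n => ⟨n.down.2.1⟩)
    (fun n => smap Scheme.fppfPrecoverage f a (c n.down.1).C
      (c' n.down.1 n.down.2.1 n.down.2.2).C
      (Chart.res (hV n.down.1) (hV' n.down.1 n.down.2.1 n.down.2.2)
        (hle₁ n.down.1 n.down.2.1 n.down.2.2))
      (c n.down.1).ι (c' n.down.1 n.down.2.1 n.down.2.2).ι
      (Chart.res_ι (hV n.down.1) (hV' n.down.1 n.down.2.1 n.down.2.2)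
        (hle₁ n.down.1 n.down.2.1 n.down.2.2)) M)
    (fun n => smap Scheme.fppfPrecoverage f a (c n.down.2.1).C
      (c' n.down.1 n.down.2.1 n.down.2.2).C
      (Chart.res (hV n.down.2.1) (hV' n.down.1 n.down.2.1 n.down.2.2)
        (hle₂ n.down.1 n.down.2.1 n.down.2.2))
      (c n.down.2.1).ι (c' n.down.1 n.down.2.1 n.down.2.2).ι
      (Chart.res_ι (hV n.down.2.1) (hV' n.down.1 n.down.2.1 n.down.2.2)
        (hle₂ n.down.1 n.down.2.1 n.down.2.2)) M)
    (fun k => hadq _) (fun n => hadq _) ?_ ?_ ?_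
  · intro n X x
    exact (smap_rmap_apply f a Scheme.fppfPrecoverage M _ _ _ _ _ _ (c n.down.1).hι
      (c' n.down.1 n.down.2.1 n.down.2.2).hι X x).trans
      (smap_rmap_apply f a Scheme.fppfPrecoverage M _ _ _ _ _ _ (c n.down.2.1).hι
        (c' n.down.1 n.down.2.1 n.down.2.2).hι X x).symm
  · intro X x x' h
    exact hinj f a Scheme.fppfPrecoverage M (fun k => (c k).C) (fun k => (c k).ι)
      (fun k => (c k).hι) hcov X.unop.unop x x' (fun k => h ⟨k⟩)
  · intro X y hy
    obtain ⟨x, hx⟩ := hex f a Scheme.fppfPrecoverage M (fun k => (c k).C) (fun k => (c k).ι)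
      (fun k => (c k).hι) hcov X.unop.unop (fun k => y ⟨k⟩)
      (fun k l Z g₁ g₂ hg =>
        compat_of_overlap f a Scheme.fppfPrecoverage M (c k).C (c l).C (c k).ι (c l).ι
          (c k).hι (c l).hι (fun m => (c' k l m).C) (fun m => (c' k l m).ι)
          (fun m => (c' k l m).hι)
          (fun m => Chart.res (hV k) (hV' k l m) (hle₁ k l m))
          (fun m => Chart.res (hV l) (hV' k l m) (hle₂ k l m))
          (fun m => Chart.res_ι (hV k) (hV' k l m) (hle₁ k l m))
          (fun m => Chart.res_ι (hV l) (hV' k l m) (hle₂ k l m))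
          (fun y' h1 h2 => by
            rw [Chart.range_ofAffineOpen] at h1 h2
            obtain ⟨m, hm⟩ := hVcov' k l y' h1 h2
            refine ⟨m, ?_⟩
            rw [Chart.range_ofAffineOpen]
            exact hm)
          Scheme.zariskiPrecoverage_le_fppfPrecoverage X.unop.unop (y ⟨k⟩) (y ⟨l⟩)
          (fun m => hy ⟨⟨k, l, m⟩⟩) g₁ g₂ hg)
    exact ⟨x, fun k => hx k.down⟩

end Groth.Agent.H2.Adeq2Push
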