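import Mathlib
import Groth.Prelude.Def_Adeq2
import Groth.Agent.Lib.Helper2.Adeq2Ext
import Groth.Agent.Lib.Helper2.AdeqFlat

/-! # Parasitic adequate modules on the big fppf site: equivalent conditions. -/

set_option autoImplicit false
universe u
open CategoryTheory CategoryTheory.Limits AlgebraicGeometry Opposite Adeq TensorProduct

namespace Groth.Agent.H2.Adeq2TFAE

open Groth.Agent.H2.AdeqTsze Groth.Agent.H2.AdeqFF Groth.Agent.H2.Adeq2Cov
  Groth.Agent.H2.Adeq2Good Groth.Agent.H2.Adeq2Ext Groth.Agent.H2.Adeq2Main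
  Groth.Agent.H2.Adeq2Ref Groth.Agent.H2.AdeqFlat

section Functor

variable {A : Type u} [CommRing A]

/-- flat base change kills an adequate functor vanishing on the source. -/
theorem subsingleton_of_flat (F : MVF A) (hF : adequate A F) {B B' : Alg A} (f : B ⟶ B')
    (hf : f.hom.toRingHom.Flat) (h0 : Subsingleton (F.obj (pt B))) :
    Subsingleton (F.obj (pt B')) := by
  have hiso := isIso_bc_of_flat F hF f hf
  have hs : Function.Surjective (F.bc f).hom :=
    ((ConcreteCategory.isIso_iff_bijective (F.bc f)).mp hiso).2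
  have h0' : ∀ w : F.obj (pt B'), w = 0 := by
    intro w
    obtain ⟨l, hl⟩ := exists_list_of_surjective F f hs w
    rw [hl]
    apply List.sum_eq_zero
    intro t ht
    obtain ⟨p, -, rfl⟩ := List.mem_map.mp ht
    rw [Subsingleton.elim p.2 0, mapFn_zero, smul_zero]
  exact ⟨fun w w' => (h0' w).trans (h0' w').symm⟩

end Functor

variable {S : Scheme.{u}} (M : BigSite.Mod Scheme.fppfPrecoverage.{u} S)

theorem subsingleton_of_iso {X Y : Over S} (e : X ≅ Y)
    (h : Subsingleton (BigSite.sectMod Scheme.fppfPrecoverage M Y)) :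
    Subsingleton (BigSite.sectMod Scheme.fppfPrecoverage M X) := by
  refine ⟨fun x x' => ?_⟩
  have hx : ∀ t : (PS Scheme.fppfPrecoverage M).obj (op X),
      (PS Scheme.fppfPrecoverage M).map e.hom.op
        ((PS Scheme.fppfPrecoverage M).map e.inv.op t) = t := by
    intro t
    rw [← Functor.map_comp_apply, ← op_comp, e.hom_inv_id, op_id,
      CategoryTheory.Functor.map_id]
    rfl
  have h1 := hx x
  have h2 := hx x'
  have h3 : (PS Scheme.fppfPrecoverage M).map e.inv.op x =
      (PS Scheme.fppfPrecoverage M).map e.inv.op x' := h.elim _ _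
  rw [h3] at h1
  exact h1.symm.trans h2

set_option backward.isDefEq.respectTransparency.types false in
theorem key_affine (hM : adequateMod Scheme.fppfPrecoverage S M) {ι : Type u} (U : ι → S.Opens)
    (hU : ∀ i, IsAffineOpen (U i)) (hcov : (⨆ i, U i) = ⊤)
    (h0 : ∀ i, Subsingleton (BigSite.sectMod Scheme.fppfPrecoverage M (Over.mk (U i).ι)))
    (C : CommRingCat.{u}) (c : Spec C ⟶ S) (hc : Flat c) :
    Subsingleton (BigSite.sectMod Scheme.fppfPrecoverage M (Over.mk c)) := by
  have hcovU : Presieve.ofArrows (fun i => ((U i : S.Opens) : Scheme.{u})) (fun i => (U i).ι) ∈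
      Scheme.fppfPrecoverage.{u}.coverings S := by
    show Presieve.ofArrows _ _ ∈ Scheme.precoverage (@Flat ⊓ @LocallyOfFinitePresentation) S
    rw [Scheme.ofArrows_mem_precoverage_iff]
    refine ⟨fun x => ?_, fun i => ⟨inferInstance, inferInstance⟩⟩
    have hx : x ∈ (⨆ i, U i : S.Opens) := by
      rw [hcov]
      trivial
    obtain ⟨i, hi⟩ := TopologicalSpace.Opens.mem_iSup.mp hx
    refine ⟨i, ?_⟩
    rw [Scheme.Opens.range_ι]
    exact hi
  obtain ⟨κ, hκ, B, φ, i, g, hg, hcovB⟩ := refines_fppf _ _ hcovU C c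
  let _ : ∀ k : κ, Algebra C (B k) := fun k => (φ k).hom.toAlgebra
  have hcovB' : Presieve.ofArrows (fun k => Spec (B k)) (fun k => Spec.map (φ k)) ∈
      Scheme.precoverage (@Flat ⊓ @LocallyOfFinitePresentation) (Spec C) := hcovB
  rw [Scheme.ofArrows_mem_precoverage_iff] at hcovB'
  have hsub : ∀ k, Subsingleton
      (((toMVF Scheme.fppfPrecoverage c).obj M).obj (pt (algOf C (B k)))) := by
    intro k
    have hUi := hU (i k)
    obtain ⟨ψ, hψ⟩ : ∃ ψ : Γ(S, U (i k)) ⟶ B k, Spec.map ψ = g k ≫ hUi.isoSpec.hom :=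
      ⟨Spec.preimage _, Spec.map_preimage _⟩
    have e : Spec.map ψ ≫ hUi.fromSpec = Spec.map (φ k) ≫ c := by
      rw [hψ, Category.assoc, IsAffineOpen.isoSpec_hom_fromSpec, hg k]
    have h1 : Flat (Spec.map ψ ≫ hUi.fromSpec) := by
      rw [e]
      have : Flat (Spec.map (φ k)) := (hcovB'.2 k).1
      infer_instance
    have h2 : Flat (Spec.map ψ) :=
      MorphismProperty.of_postcomp @Flat (W' := @IsOpenImmersion) (Spec.map ψ) hUi.fromSpec
        inferInstance h1
    have hψflat : ψ.hom.Flat := Flat.SpecMap_iff.mp h2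
    let _ : Algebra Γ(S, U (i k)) (B k) := ψ.hom.toAlgebra
    have hF := adequate_of_adequateMod Scheme.fppfPrecoverage refines_fppf S M hM
      Γ(S, U (i k)) hUi.fromSpec
    have hFR : Subsingleton (((toMVF Scheme.fppfPrecoverage hUi.fromSpec).obj M).obj
        (pt (algOf Γ(S, U (i k)) Γ(S, U (i k))))) := by
      let e₁ : (specOver hUi.fromSpec).obj (op (algOf Γ(S, U (i k)) Γ(S, U (i k)))) ≅
          Over.mk hUi.fromSpec := asIso (πm hUi.fromSpec (algOf Γ(S, U (i k)) Γ(S, U (i k))))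
      let e₂ : Over.mk hUi.fromSpec ≅ Over.mk (U (i k)).ι :=
        Over.isoMk hUi.isoSpec.symm (IsAffineOpen.isoSpec_inv_ι hUi)
      exact subsingleton_of_iso M (e₁ ≪≫ e₂) (h0 (i k))
    have hFB := subsingleton_of_flat _ hF (f₀ (A := Γ(S, U (i k))) (B k)) hψflat hFR
    show Subsingleton (BigSite.sectMod Scheme.fppfPrecoverage M (Over.mk (Spec.map (φ k) ≫ c)))
    rw [← e]
    exact hFB
  refine ⟨fun x x' => ?_⟩
  exact ginj Scheme.fppfPrecoverage c M (fun k => (B k : Type u)) hcovB x x'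
    (fun k => (hsub k).elim _ _)

set_option backward.isDefEq.respectTransparency.types false in
theorem parasitic_of_affine_cover (hM : adequateMod Scheme.fppfPrecoverage S M) {ι : Type u}
    (U : ι → S.Opens) (hU : ∀ i, IsAffineOpen (U i)) (hcov : (⨆ i, U i) = ⊤)
    (h0 : ∀ i, Subsingleton (BigSite.sectMod Scheme.fppfPrecoverage M (Over.mk (U i).ι))) :
    parasitic Scheme.fppfPrecoverage S M := by
  intro V hV
  refine ⟨fun x x' => ?_⟩
  let 𝒰 := V.left.affineOpenCover
  have hmem : Sieve.generate (Presieve.ofArrows (fun j => Over.mk (𝒰.f j ≫ V.hom))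
      (fun j => (Over.homMk (𝒰.f j) rfl : Over.mk (𝒰.f j ≫ V.hom) ⟶ V))) ∈
        QuotSh.J Scheme.fppfPrecoverage S V := by
    show Sieve.ofArrows _ _ ∈ _
    rw [GrothendieckTopology.mem_over_iff, Sieve.overEquiv_ofArrows]
    apply Precoverage.generate_mem_toGrothendieck
    show Presieve.ofArrows _ _ ∈
      Scheme.precoverage (@Flat ⊓ @LocallyOfFinitePresentation) V.left
    rw [Scheme.ofArrows_mem_precoverage_iff]
    exact ⟨fun x => ⟨𝒰.idx x, 𝒰.covers x⟩, fun j =>
      ⟨(inferInstance : Flat (𝒰.f j)), (inferInstance : LocallyOfFinitePresentation (𝒰.f j))⟩⟩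
  have hsep := ((isSheaf_PS Scheme.fppfPrecoverage M).isSheafFor _ hmem).isSeparatedFor
  refine hsep.ext (t₁ := x) (t₂ := x') ?_
  intro Y f hf
  obtain ⟨j⟩ := hf
  have hflat : Flat (𝒰.f j ≫ V.hom) := by
    have : Flat V.hom := hV
    infer_instance
  exact (key_affine M hM U hU hcov h0 (𝒰.X j) (𝒰.f j ≫ V.hom) hflat).elim _ _

set_option backward.isDefEq.respectTransparency.types false in
theorem tfae (hM : adequateMod Scheme.fppfPrecoverage S M) :
    List.TFAE [Adeq.parasitic Scheme.fppfPrecoverage S M,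
      Adeq.parasiticFor Scheme.fppfPrecoverage S M,
      ∀ U : S.Opens, Subsingleton
        (BigSite.sectMod Scheme.fppfPrecoverage M ((BigSite.zarIncl S).obj U)),
      ∃ (ι : Type u) (U : ι → S.Opens), (∀ i, IsAffineOpen (U i)) ∧ (⨆ i, U i) = ⊤ ∧
        ∀ i, Subsingleton
          (BigSite.sectMod Scheme.fppfPrecoverage M ((BigSite.zarIncl S).obj (U i)))] := by
  tfae_have 1 → 2 := by
    intro p₁ P hP V g hg
    have hP' : P ∈ Scheme.precoverage (@Flat ⊓ @LocallyOfFinitePresentation) S := hP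
    exact p₁ (Over.mk g) (hP'.2 hg).1
  tfae_have 2 → 3 := by
    intro p₂ U
    have hR : Presieve.ofArrows (fun W : S.Opens => (W : Scheme.{u})) (fun W => W.ι) ∈
        Scheme.fppfPrecoverage.{u}.coverings S := by
      show Presieve.ofArrows _ _ ∈ Scheme.precoverage (@Flat ⊓ @LocallyOfFinitePresentation) S
      rw [Scheme.ofArrows_mem_precoverage_iff]
      refine ⟨fun x => ⟨⊤, ?_⟩, fun W => ⟨inferInstance, inferInstance⟩⟩
      rw [Scheme.Opens.range_ι]
      trivial
    exact p₂ hR U.ι (Presieve.ofArrows.mk U)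
  tfae_have 3 → 4 := by
    intro p₃
    exact ⟨S.affineOpens, fun i => i.1, fun i => i.2, AlgebraicGeometry.iSup_affineOpens_eq_top S,
      fun i => p₃ i.1⟩
  tfae_have 4 → 1 := by
    rintro ⟨ι, U, hU, hcov, h0⟩
    exact parasitic_of_affine_cover M hM U hU hcov (fun i => h0 i)
  tfae_finish

end Groth.Agent.H2.Adeq2TFAE
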