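import Mathlib
import Groth.Prelude.Def_W4stkadequateTF
import Groth.Agent.Lib.Helper2.AdeqSplitA
import Groth.Agent.Lib.Helper2.AdeqFive

/-! # Tangent functors of module-valued functors: functoriality and diagram chases. -/

set_option autoImplicit false
universe u
open CategoryTheory CategoryTheory.Limits Adeq AdeqTF

namespace Groth.Agent.H2.AdeqTan

open Groth.Agent.H2.AdeqTsze Groth.Agent.H2.AdeqSplitA Groth.Agent.H2.AdeqFive

section Groups

variable {F1 F2 F3 G1 G2 G3 H1 H2 H3 : Type*} [AddCommGroup F1] [AddCommGroup F2]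
  [AddCommGroup F3] [AddCommGroup G1] [AddCommGroup G2] [AddCommGroup G3] [AddCommGroup H1]
  [AddCommGroup H2] [AddCommGroup H3]
  (aF : F1 →+ F2) (bF : F2 →+ F3) (aG : G1 →+ G2) (bG : G2 →+ G3) (aH : H1 →+ H2) (bH : H2 →+ H3)
  (φ1 : F1 →+ G1) (φ2 : F2 →+ G2) (φ3 : F3 →+ G3) (ψ1 : G1 →+ H1) (ψ2 : G2 →+ H2) (ψ3 : G3 →+ H3)

include φ1 in
theorem nine_bot
    (c2 : ∀ x, φ3 (bF x) = bG (φ2 x))
    (c3 : ∀ x, ψ2 (aG x) = aH (ψ1 x)) (c4 : ∀ x, ψ3 (bG x) = bH (ψ2 x))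
    (hψ1 : Function.Surjective ψ1) (hψ2 : Function.Surjective ψ2) (hψ3 : Function.Surjective ψ3)
    (hz2 : ∀ x, ψ2 (φ2 x) = 0)
    (hex3 : ∀ y, ψ3 y = 0 → ∃ x, φ3 x = y)
    (hFs : Function.Surjective bF) (hGs : Function.Surjective bG) (hGk : bG.ker = aG.range) :
    Function.Surjective bH ∧ bH.ker = aH.range := by
  constructor
  · intro h3
    obtain ⟨g3, rfl⟩ := hψ3 h3
    obtain ⟨g2, rfl⟩ := hGs g3
    exact ⟨ψ2 g2, (c4 g2).symm⟩
  · apply le_antisymm
    · intro x hx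
      have hx0 : bH x = 0 := hx
      obtain ⟨y, rfl⟩ := hψ2 x
      have h1 : ψ3 (bG y) = 0 := by rw [c4, hx0]
      obtain ⟨z, hz⟩ := hex3 _ h1
      obtain ⟨z', rfl⟩ := hFs z
      have h2 : y - φ2 z' ∈ bG.ker := by
        change bG (y - φ2 z') = 0
        rw [map_sub, ← c2, hz, sub_self]
      rw [hGk] at h2
      obtain ⟨w, hw⟩ := h2
      refine ⟨ψ1 w, ?_⟩
      rw [← c3, hw, map_sub, hz2, sub_zero]
    · rintro _ ⟨x, rfl⟩
      obtain ⟨g1, rfl⟩ := hψ1 x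
      change bH (aH (ψ1 g1)) = 0
      rw [← c3, ← c4]
      have h1 : aG g1 ∈ bG.ker := by
        rw [hGk]
        exact ⟨g1, rfl⟩
      have h2 : bG (aG g1) = 0 := h1
      rw [h2, map_zero]

theorem nine_mid
    (c1 : ∀ x, φ2 (aF x) = aG (φ1 x)) (c2 : ∀ x, φ3 (bF x) = bG (φ2 x))
    (c3 : ∀ x, ψ2 (aG x) = aH (ψ1 x)) (c4 : ∀ x, ψ3 (bG x) = bH (ψ2 x))
    (hψ1 : Function.Surjective ψ1) (hψ2 : Function.Surjective ψ2)
    (hφ3 : Function.Injective φ3)
    (hex2 : ∀ y, ψ2 y = 0 → ∃ x, φ2 x = y)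
    (hex3 : ∀ y, ψ3 y = 0 → ∃ x, φ3 x = y)
    (hGz : ∀ x, bG (aG x) = 0)
    (hFs : Function.Surjective bF) (hFk : bF.ker = aF.range)
    (hHs : Function.Surjective bH) (hHk : bH.ker = aH.range) :
    Function.Surjective bG ∧ bG.ker = aG.range := by
  constructor
  · intro y
    obtain ⟨h, hh⟩ := hHs (ψ3 y)
    obtain ⟨g, rfl⟩ := hψ2 h
    have h1 : ψ3 (y - bG g) = 0 := by rw [map_sub, c4, hh, sub_self]
    obtain ⟨f3, hf3⟩ := hex3 _ h1
    obtain ⟨f, rfl⟩ := hFs f3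
    refine ⟨g + φ2 f, ?_⟩
    rw [map_add, ← c2, hf3, add_sub_cancel]
  · apply le_antisymm
    · intro y hy
      have hy0 : bG y = 0 := hy
      have h1 : ψ2 y ∈ bH.ker := by
        change bH (ψ2 y) = 0
        rw [← c4, hy0, map_zero]
      rw [hHk] at h1
      obtain ⟨h1', hh1⟩ := h1
      obtain ⟨g1, rfl⟩ := hψ1 h1'
      have h2 : ψ2 (y - aG g1) = 0 := by rw [map_sub, c3, hh1, sub_self]
      obtain ⟨f, hf⟩ := hex2 _ h2
      have h3 : φ3 (bF f) = 0 := by rw [c2, hf, map_sub, hy0, hGz, sub_zero]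
      have h4 : bF f = 0 := hφ3 (by rw [h3, map_zero])
      have h5 : f ∈ bF.ker := h4
      rw [hFk] at h5
      obtain ⟨f1, rfl⟩ := h5
      refine ⟨g1 + φ1 f1, ?_⟩
      rw [map_add, ← c1, hf, add_sub_cancel]
    · rintro _ ⟨x, rfl⟩
      exact hGz x

end Groups

variable {A : Type u} [CommRing A] (B : Adeq.Alg A)

section AlgLevel

theorem inl_fst (N : ModuleCat.{u} B) : AdeqTF.inl B N ≫ AdeqTF.fst B N = 𝟙 B := by
  apply CommAlgCat.hom_ext
  refine AlgHom.ext fun x => ?_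
  rfl

theorem map_id (N : ModuleCat.{u} B) : AdeqTF.map B (𝟙 N) = 𝟙 (AdeqTF.ext B N) := by
  apply CommAlgCat.hom_ext
  refine AlgHom.ext fun x => ?_
  change TrivSqZeroExt.map (𝟙 N : N ⟶ N).hom x = x
  apply TrivSqZeroExt.ext
  · exact TrivSqZeroExt.fst_map _ x
  · exact TrivSqZeroExt.snd_map _ x

theorem map_comp {N N' N'' : ModuleCat.{u} B} (f : N ⟶ N') (g : N' ⟶ N'') :
    AdeqTF.map B (f ≫ g) = AdeqTF.map B f ≫ AdeqTF.map B g := by
  apply CommAlgCat.hom_ext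
  refine AlgHom.ext fun x => ?_
  change TrivSqZeroExt.map (f ≫ g).hom x = TrivSqZeroExt.map g.hom (TrivSqZeroExt.map f.hom x)
  apply TrivSqZeroExt.ext
  · rw [TrivSqZeroExt.fst_map, TrivSqZeroExt.fst_map, TrivSqZeroExt.fst_map]
  · rw [TrivSqZeroExt.snd_map, TrivSqZeroExt.snd_map, TrivSqZeroExt.snd_map]
    rfl

theorem map_zero (N N' : ModuleCat.{u} B) :
    AdeqTF.map B (0 : N ⟶ N') = AdeqTF.fst B N ≫ AdeqTF.inl B N' := by
  apply CommAlgCat.hom_ext
  refine AlgHom.ext fun x => ?_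
  change TrivSqZeroExt.map (0 : N ⟶ N').hom x = TrivSqZeroExt.inl (TrivSqZeroExt.fst x)
  apply TrivSqZeroExt.ext
  · rw [TrivSqZeroExt.fst_map, TrivSqZeroExt.fst_inl]
  · rw [TrivSqZeroExt.snd_map, TrivSqZeroExt.snd_inl]
    rfl

end AlgLevel

section Tangent

variable {B}
variable (F : MVF A)

theorem mem_tangent {N : ModuleCat.{u} B} (x : F.obj (pt (AdeqTF.ext B N))) :
    x ∈ tangent B N F ↔ mapFn F (AdeqTF.fst B N) x = 0 := Iff.rfl

theorem tangentMap_coe {N N' : ModuleCat.{u} B} (g : N ⟶ N') (x : tangent B N F) :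
    ((tangentMap B F g x : tangent B N' F) : F.obj (pt (AdeqTF.ext B N'))) =
      mapFn F (AdeqTF.map B g) x.1 := rfl

theorem tangentMap_id (N : ModuleCat.{u} B) (x : tangent B N F) :
    tangentMap B F (𝟙 N) x = x := by
  apply Subtype.ext
  rw [tangentMap_coe, map_id, mapFn_id]

theorem tangentMap_comp {N N' N'' : ModuleCat.{u} B} (f : N ⟶ N') (g : N' ⟶ N'')
    (x : tangent B N F) :
    tangentMap B F (f ≫ g) x = tangentMap B F g (tangentMap B F f x) := by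
  apply Subtype.ext
  rw [tangentMap_coe, tangentMap_coe, tangentMap_coe, map_comp, mapFn_comp]

theorem tangentMap_zero (N N' : ModuleCat.{u} B) (x : tangent B N F) :
    tangentMap B F (0 : N ⟶ N') x = 0 := by
  apply Subtype.ext
  rw [tangentMap_coe, map_zero, mapFn_comp]
  have h := (mem_tangent F x.1).1 x.2
  rw [h, mapFn_zero]
  rfl

theorem tangentMap_comp_zero {N N' N'' : ModuleCat.{u} B} (f : N ⟶ N') (g : N' ⟶ N'')
    (w : f ≫ g = 0) (x : tangent B N F) :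
    tangentMap B F g (tangentMap B F f x) = 0 := by
  rw [← tangentMap_comp, w, tangentMap_zero]

variable {F} {G H : MVF A}

/-- the map on tangent modules induced by a morphism of module-valued functors. -/
noncomputable def tanHom (N : ModuleCat.{u} B) (φ : F ⟶ G) : tangent B N F →+ tangent B N G :=
  ((φ.app (pt (AdeqTF.ext B N))).hom.toAddMonoidHom.comp (tangent B N F).subtype).codRestrict
    (tangent B N G) (fun x => by
      rw [mem_tangent]
      change mapFn G (AdeqTF.fst B N) ((φ.app (pt (AdeqTF.ext B N))).hom x.1) = 0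
      rw [← mapFn_nat, (mem_tangent F x.1).1 x.2, _root_.map_zero])

theorem tanHom_coe (N : ModuleCat.{u} B) (φ : F ⟶ G) (x : tangent B N F) :
    ((tanHom N φ x : tangent B N G) : G.obj (pt (AdeqTF.ext B N))) =
      (φ.app (pt (AdeqTF.ext B N))).hom x.1 := rfl

theorem tanHom_tangentMap {N N' : ModuleCat.{u} B} (g : N ⟶ N') (φ : F ⟶ G)
    (x : tangent B N F) :
    tanHom N' φ (tangentMap B F g x) = tangentMap B G g (tanHom N φ x) := by
  apply Subtype.ext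
  rw [tanHom_coe, tangentMap_coe, tangentMap_coe, tanHom_coe, mapFn_nat]

theorem tanHom_injective (N : ModuleCat.{u} B) (φ : F ⟶ G)
    (hφ : ∀ X, Function.Injective (φ.app X).hom) : Function.Injective (tanHom N φ) := by
  intro x y hxy
  apply Subtype.ext
  apply hφ
  have := congrArg Subtype.val hxy
  exact this

theorem tanHom_surjective (N : ModuleCat.{u} B) (ψ : G ⟶ H)
    (hψ : ∀ X, Function.Surjective (ψ.app X).hom) : Function.Surjective (tanHom N ψ) := by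
  intro x
  obtain ⟨y, hy⟩ := hψ _ x.1
  have hx := (mem_tangent H x.1).1 x.2
  let y' : G.obj (pt (AdeqTF.ext B N)) :=
    y - mapFn G (AdeqTF.inl B N) (mapFn G (AdeqTF.fst B N) y)
  have hy' : y' ∈ tangent B N G := by
    rw [mem_tangent]
    change mapFn G (AdeqTF.fst B N) (y - mapFn G (AdeqTF.inl B N) (mapFn G (AdeqTF.fst B N) y)) = 0
    rw [mapFn_sub, ← mapFn_comp G (AdeqTF.inl B N) (AdeqTF.fst B N), inl_fst, mapFn_id, sub_self]
  refine ⟨⟨y', hy'⟩, ?_⟩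
  apply Subtype.ext
  rw [tanHom_coe]
  change (ψ.app _).hom (y - mapFn G (AdeqTF.inl B N) (mapFn G (AdeqTF.fst B N) y)) = x.1
  rw [map_sub, mapFn_nat, mapFn_nat, hy, hx, mapFn_zero, sub_zero]

theorem tanHom_exact (N : ModuleCat.{u} B) (φ : F ⟶ G) (ψ : G ⟶ H)
    (hφ : ∀ X, Function.Injective (φ.app X).hom)
    (hex : ∀ X, Function.Exact (φ.app X).hom (ψ.app X).hom)
    (y : tangent B N G) (hy : tanHom N ψ y = 0) : ∃ x, tanHom N φ x = y := by
  have h1 : (ψ.app (pt (AdeqTF.ext B N))).hom y.1 = 0 := congrArg Subtype.val hy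
  obtain ⟨x, hx⟩ := (hex _ y.1).1 h1
  have hx' : x ∈ tangent B N F := by
    rw [mem_tangent]
    apply hφ
    rw [mapFn_nat, hx, (mem_tangent G y.1).1 y.2, _root_.map_zero]
  exact ⟨⟨x, hx'⟩, Subtype.ext hx⟩

theorem tanHom_comp_zero (N : ModuleCat.{u} B) (φ : F ⟶ G) (ψ : G ⟶ H)
    (hex : ∀ X, Function.Exact (φ.app X).hom (ψ.app X).hom) (x : tangent B N F) :
    tanHom N ψ (tanHom N φ x) = 0 := by
  apply Subtype.ext
  rw [tanHom_coe, tanHom_coe]
  exact (hex _ _).2 ⟨x.1, rfl⟩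

end Tangent

end Groth.Agent.H2.AdeqTan
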