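import Mathlib
import Groth.Prelude.Def_W4stkadequateTF
import Groth.Agent.Lib.Helper2.AdeqTan
import Groth.Agent.Lib.Helper2.PshModCoind4

/-! # Injective module-valued functors: surjectivity along surjective algebra maps. -/

set_option autoImplicit false
universe u
open CategoryTheory CategoryTheory.Limits Adeq AdeqTF

namespace Groth.Agent.H2.AdeqInj

open Groth.Agent.H2.AdeqTsze Groth.Agent.H2.AdeqSplitA Groth.Agent.H2.AdeqTan

variable {A : Type u} [CommRing A]

theorem mapFn_surjective_of_injective (I : MVF A) [Injective I] {D D' : Alg A} (ψ : D ⟶ D')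
    (hψ : Function.Surjective ψ.hom) : Function.Surjective (mapFn I ψ) := by
  haveI : Epi ψ := ConcreteCategory.epi_of_surjective ψ hψ
  haveI : Epi (ptHom ψ) := inferInstance
  haveI : ∀ X : ((Alg A)ᵒᵖ)ᵒᵖ, EnoughInjectives (ModuleCat.{u + 1} ((ringOf A).obj X)) :=
    fun X => inferInstance
  haveI : ∀ (J : (Alg A)ᵒᵖᵒᵖ → PresheafOfModules.{u + 1} (ringOf A)) (Z : (Alg A)ᵒᵖᵒᵖ),
      PreservesLimit (Discrete.functor J) (PresheafOfModules.evaluation.{u + 1} (ringOf A) Z) :=
    fun J Z => PresheafOfModules.evaluation_preservesLimit _ _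
  have h := Groth.Agent.H2.PshModCoind.res_surjective_of_injective.{u + 1, u, u + 1, u}
    (ringOf A) I (ptHom ψ)
  intro y
  obtain ⟨x, hx⟩ := h y
  exact ⟨x, hx⟩

theorem map_surjective (B : Alg A) {N N' : ModuleCat.{u} B} (g : N ⟶ N')
    (hg : Function.Surjective g.hom) : Function.Surjective (AdeqTF.map B g).hom := by
  intro x
  obtain ⟨n, hn⟩ := hg (TrivSqZeroExt.snd x)
  refine ⟨TrivSqZeroExt.inl (TrivSqZeroExt.fst x) + TrivSqZeroExt.inr n, ?_⟩
  change TrivSqZeroExt.map g.hom (TrivSqZeroExt.inl (TrivSqZeroExt.fst x) +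
    TrivSqZeroExt.inr n) = x
  apply TrivSqZeroExt.ext
  · rw [TrivSqZeroExt.fst_map]
    simp
  · rw [TrivSqZeroExt.snd_map]
    simp [hn]

theorem tangentMap_surjective_of_injective (I : MVF A) [Injective I] (B : Alg A)
    {N N' : ModuleCat.{u} B} (g : N ⟶ N') (hg : Function.Surjective g.hom) :
    Function.Surjective (tangentMap B I g) := by
  intro x
  obtain ⟨y, hy⟩ := mapFn_surjective_of_injective I (AdeqTF.map B g) (map_surjective B g hg) x.1
  have hy' : y ∈ tangent B N I := by
    rw [mem_tangent, ← AdeqTF.map_fst B g, mapFn_comp, hy]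
    exact (mem_tangent I x.1).1 x.2
  exact ⟨⟨y, hy'⟩, Subtype.ext hy⟩

end Groth.Agent.H2.AdeqInj
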