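import Mathlib
import Groth.Prelude.Def_Adeq
import Groth.Agent.Lib.Helper2.AdeqSurj

/-! # A small family of standard linearly adequate functors generating all adequate functors. -/

set_option autoImplicit false
universe u
open CategoryTheory CategoryTheory.Limits TensorProduct Adeq

namespace Groth.Agent.H2.AdeqStd

open Groth.Agent.H2.AdeqYoneda Groth.Agent.H2.AdeqKer Groth.Agent.H2.AdeqLin
  Groth.Agent.H2.AdeqSurj

variable (A : Type u) [CommRing A]

/-- the index set of the standard linearly adequate functors. -/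
structure StdIdx : Type u where
  n : ℕ
  k : ℕ
  a : Fin n → Fin k → A

variable {A}

/-- the standard linearly adequate functor of a matrix. -/
noncomputable def stdL (s : StdIdx A) : MVF A := kernel ((underline A).map (matHom s.a))

theorem linAdequate_stdL (s : StdIdx A) : linAdequate A (stdL s) :=
  linAdequate_kernel_matHom s.a

section Hit

variable {M N : ModuleCat.{u + 1} A} (φ : M ⟶ N)

theorem exists_std_hit (B : Type u) [CommRing B] [Algebra A B]
    (ξ : (kernel ((underline A).map φ)).obj (pt (algOf A B))) :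
    ∃ (s : StdIdx A) (ψ : stdL s ⟶ kernel ((underline A).map φ))
      (z : (stdL s).obj (pt (algOf A B))), (ψ.app (pt (algOf A B))).hom z = ξ := by
  obtain ⟨l, b, mv, hx⟩ := TensorProduct.exists_sum_tmul_eq
    ((((kernel.ι ((underline A).map φ)).app (pt (algOf A B))).hom ξ : B ⊗[A] M))
  have hφ : ∑ j, b j ⊗ₜ[A] φ.hom (mv j) = 0 := by
    have h0 := kernel_ι_app_comp ((underline A).map φ) (pt (algOf A B)) ξ
    have h1 : φ.hom.baseChange B
        ((((kernel.ι ((underline A).map φ)).app (pt (algOf A B))).hom ξ : B ⊗[A] M)) = 0 := h0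
    rw [hx, map_sum] at h1
    simpa using h1
  obtain ⟨r, c, k, a, y, hy, ha⟩ :=
    Groth.Agent.H2.AdeqVanish.exists_extension_vanishesTrivially b (fun j => φ.hom (mv j)) hφ
  let e : Fin l ⊕ Fin r ≃ Fin (l + r) := finSumFinEquiv
  let b' : Fin (l + r) → B := fun i => Sum.elim b c (e.symm i)
  let mv' : Fin (l + r) → M := fun i => Sum.elim mv (fun _ => 0) (e.symm i)
  let a' : Fin (l + r) → Fin k → A := fun i j => a (e.symm i) j
  have h1 : ∀ i, φ.hom (mv' i) = ∑ j, a' i j • y j := by
    intro i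
    have := hy (e.symm i)
    rw [← this]
    dsimp only [mv']
    rcases e.symm i with s | s
    · rfl
    · simp
  have h2 : ∀ j, ∑ i, a' i j • b' i = 0 := by
    intro j
    rw [← ha j, ← e.symm.sum_comp]
  have h3 : ∑ i, b' i ⊗ₜ[A] mv' i =
      (((kernel.ι ((underline A).map φ)).app (pt (algOf A B))).hom ξ : B ⊗[A] M) := by
    rw [hx, ← e.sum_comp, Fintype.sum_sum_type]
    simp [b', mv']
  let β : Sol (mat (stdBasis A (l + r)) (stdBasis A k) (matHom a')) B :=
    ⟨b', by rw [mat_matHom]; exact h2⟩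
  refine ⟨⟨l + r, k, a'⟩, toKer φ a' mv' y h1, kap β, ?_⟩
  apply kernel_ι_app_injective ((underline A).map φ) (pt (algOf A B))
  have h4 : toKer φ a' mv' y h1 ≫ kernel.ι ((underline A).map φ) =
      kernel.ι _ ≫ (underline A).map (vecHom mv') := kernel.lift_ι _ _ _
  have h5 := congrArg (fun t => (PresheafOfModules.Hom.app t (pt (algOf A B))).hom (kap β)) h4
  refine (h5 : _).trans ?_
  change ((underline A).map (vecHom mv')).app (pt (algOf A B))
    (((kernel.ι ((underline A).map (matHom a'))).app (pt (algOf A B))).hom (kap β)) = _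
  rw [ι_kap, ← h3]
  change (vecHom mv').hom.baseChange B (xiv (stdBasis A (l + r)) b') = _
  rw [xiv, map_sum]
  refine Finset.sum_congr rfl fun i _ => ?_
  rw [LinearMap.baseChange_tmul]
  simp [vecHom, Module.Basis.constr_basis]

theorem exists_epi_cofan_std_kernel :
    ∃ (ι : Type (u + 1)) (idx : ι → StdIdx A) (c : Cofan (fun i => stdL (idx i)))
      (_ : IsColimit c) (π : c.pt ⟶ kernel ((underline A).map φ)), Epi π := by
  let I : Type (u + 1) := Σ B : Alg A, (kernel ((underline A).map φ)).obj (pt B)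
  have key : ∀ i : I, ∃ (s : StdIdx A) (ψ : stdL s ⟶ kernel ((underline A).map φ))
      (z : (stdL s).obj (pt i.1)), (ψ.app (pt i.1)).hom z = i.2 :=
    fun i => exists_std_hit φ i.1 i.2
  choose idx ψ z hz using key
  refine ⟨I, idx, Cofan.mk (∐ fun i => stdL (idx i)) (Sigma.ι fun i => stdL (idx i)),
    coproductIsCoproduct _, Sigma.desc ψ, ?_⟩
  apply PresheafOfModules.epi_of_surjective
  intro X ξ
  let i : I := ⟨X.unop.unop, ξ⟩
  refine ⟨((Sigma.ι (fun i => stdL (idx i)) i).app X).hom (z i), ?_⟩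
  have h1 : Sigma.ι (fun i => stdL (idx i)) i ≫ Sigma.desc ψ = ψ i := Sigma.ι_desc ψ i
  have h2 := congrArg (fun t => (PresheafOfModules.Hom.app t X).hom (z i)) h1
  exact (h2 : _).trans (hz i)

end Hit

theorem exists_epi_cofan_std (F : MVF A) (hF : adequate A F) :
    ∃ (ι : Type (u + 1)) (idx : ι → StdIdx A) (c : Cofan (fun i => stdL (idx i)))
      (_ : IsColimit c) (π : c.pt ⟶ F), Epi π := by
  obtain ⟨M, N, φ, ⟨e⟩⟩ := hF
  obtain ⟨I, idx, c, hc, π, hπ⟩ := exists_epi_cofan_std_kernel φ
  exact ⟨I, idx, c, hc, π ≫ e.inv, epi_comp _ _⟩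

end Groth.Agent.H2.AdeqStd
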