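import Mathlib
import Groth.Prelude.Def_Adeq
import Groth.Agent.Lib.Helper2.AdeqStd
import Groth.Agent.Lib.Helper2.AdeqExt

/-! # The coreflector of adequate functors (Stacks 06V6 (3)). -/

set_option autoImplicit false
universe u
open CategoryTheory CategoryTheory.Limits TensorProduct Adeq

namespace Groth.Agent.H2.AdeqQ

open Groth.Agent.H2.AdeqKer Groth.Agent.H2.AdeqCok Groth.Agent.H2.AdeqAb Groth.Agent.H2.AdeqSum
  Groth.Agent.H2.AdeqSplit Groth.Agent.H2.AdeqStd Groth.Agent.H2.AdeqExt Groth.Agent.H2.AdeqFive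

variable {A : Type u} [CommRing A]

theorem adequate_stdL (s : StdIdx A) : adequate A (stdL s) :=
  adequate_of_linAdequate (linAdequate_stdL s)

theorem adequate_biprod {G H : MVF A} (hG : adequate A G) (hH : adequate A H) :
    adequate A (G ⊞ H) := by
  let S : ShortComplex (MVF A) :=
    ShortComplex.mk (biprod.inl : G ⟶ G ⊞ H) biprod.snd biprod.inl_snd
  exact adequate_of_splitting S (ShortComplex.Splitting.ofHasBinaryBiproduct G H) hG hH

section Q

variable (F : MVF A)

/-- index set: standard functors mapping to `F`. -/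
abbrev IF : Type (u + 1) := Σ s : StdIdx A, (stdL s ⟶ F)

noncomputable abbrev C0 : MVF A := ∐ fun i : IF F => stdL i.1

noncomputable def eps0 : C0 F ⟶ F := Sigma.desc (fun i : IF F => i.2)

abbrev I2 : Type (u + 1) := Σ s : StdIdx A, {k : stdL s ⟶ C0 F // k ≫ eps0 F = 0}

noncomputable abbrev T : MVF A := ∐ fun i : I2 F => stdL i.1

noncomputable def sig : T F ⟶ C0 F := Sigma.desc (fun i : I2 F => i.2.1)

theorem sig_eps0 : sig F ≫ eps0 F = 0 := by
  apply Sigma.hom_ext
  intro i
  rw [sig, Sigma.ι_desc_assoc, comp_zero]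
  exact i.2.2

noncomputable def QF : MVF A := cokernel (sig F)

noncomputable def piQ : C0 F ⟶ QF F := cokernel.π (sig F)

noncomputable def epsQ : QF F ⟶ F := cokernel.desc (sig F) (eps0 F) (sig_eps0 F)

theorem piQ_epsQ : piQ F ≫ epsQ F = eps0 F := cokernel.π_desc _ _ _

theorem sig_piQ : sig F ≫ piQ F = 0 := cokernel.condition _

theorem adequate_C0 : adequate A (C0 F) :=
  adequate_cofan (fun i : IF F => adequate_stdL i.1) (Cofan.mk _ (Sigma.ι _))
    (coproductIsCoproduct _)

theorem adequate_T : adequate A (T F) :=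
  adequate_cofan (fun i : I2 F => adequate_stdL i.1) (Cofan.mk _ (Sigma.ι _))
    (coproductIsCoproduct _)

theorem adequate_QF : adequate A (QF F) :=
  adequate_cokernel (sig F) (adequate_T F) (adequate_C0 F)

theorem comp_piQ_eq_zero {K : MVF A} (hK : adequate A K) (k : K ⟶ C0 F)
    (hk : k ≫ eps0 F = 0) : k ≫ piQ F = 0 := by
  obtain ⟨ι, idx, c, hc, ρ, hρ⟩ := exists_epi_cofan_std K hK
  have := hρ
  rw [← cancel_epi ρ, comp_zero]
  apply Cofan.IsColimit.hom_ext hc
  intro j
  rw [comp_zero]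
  let i2 : I2 F := ⟨idx j, ⟨c.inj j ≫ ρ ≫ k, by
    rw [Category.assoc, Category.assoc, hk, comp_zero, comp_zero]⟩⟩
  have h1 : Sigma.ι (fun i : I2 F => stdL i.1) i2 ≫ sig F = c.inj j ≫ ρ ≫ k :=
    Sigma.ι_desc _ _
  have h2 : c.inj j ≫ ρ ≫ k ≫ piQ F = (c.inj j ≫ ρ ≫ k) ≫ piQ F := by
    simp only [Category.assoc]
  rw [h2, ← h1, Category.assoc, sig_piQ, comp_zero]

theorem exists_lift {G : MVF A} (hG : adequate A G) (h : G ⟶ F) :
    ∃ h' : G ⟶ QF F, h' ≫ epsQ F = h := by
  obtain ⟨ι, idx, c, hc, ρ, hρ⟩ := exists_epi_cofan_std G hG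
  have := hρ
  let μ : c.pt ⟶ C0 F := Cofan.IsColimit.desc hc
    (fun j => Sigma.ι (fun i : IF F => stdL i.1) ⟨idx j, c.inj j ≫ ρ ≫ h⟩)
  have hμ : μ ≫ eps0 F = ρ ≫ h := by
    apply Cofan.IsColimit.hom_ext hc
    intro j
    rw [← Category.assoc, Cofan.IsColimit.fac, eps0]
    exact Sigma.ι_desc _ _
  have hcpt : adequate A c.pt := adequate_cofan (fun j => adequate_stdL (idx j)) c hc
  have hker : kernel.ι ρ ≫ μ ≫ piQ F = 0 := by
    rw [← Category.assoc]
    apply comp_piQ_eq_zero F (adequate_kernel ρ hcpt hG)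
    rw [Category.assoc, hμ, ← Category.assoc, kernel.condition, zero_comp]
  refine ⟨Abelian.epiDesc ρ (μ ≫ piQ F) hker, ?_⟩
  rw [← cancel_epi ρ, ← Category.assoc, Abelian.comp_epiDesc, Category.assoc, piQ_epsQ, hμ]

theorem eq_zero_of_comp_epsQ {G : MVF A} (hG : adequate A G) (d : G ⟶ QF F)
    (hd : d ≫ epsQ F = 0) : d = 0 := by
  let Φ : G ⊞ C0 F ⟶ QF F := biprod.desc d (-piQ F)
  have hK : adequate A (kernel Φ) :=
    adequate_kernel Φ (adequate_biprod hG (adequate_C0 F)) (adequate_QF F)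
  let r : kernel Φ ⟶ G := kernel.ι Φ ≫ biprod.fst
  let k : kernel Φ ⟶ C0 F := kernel.ι Φ ≫ biprod.snd
  have hrk : r ≫ d = k ≫ piQ F := by
    have h1 : Φ = biprod.fst ≫ d - biprod.snd ≫ piQ F := by
      apply biprod.hom_ext' <;> simp [Φ]
    have h0 : kernel.ι Φ ≫ (biprod.fst ≫ d - biprod.snd ≫ piQ F) = 0 := by
      rw [← h1]
      exact kernel.condition Φ
    rw [Preadditive.comp_sub, sub_eq_zero] at h0
    simpa [r, k] using h0
  have hk : k ≫ eps0 F = 0 := by
    rw [← piQ_epsQ, ← Category.assoc, ← hrk, Category.assoc, hd, comp_zero]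
  have hkp := comp_piQ_eq_zero F hK k hk
  have hr : Epi r := by
    apply PresheafOfModules.epi_of_surjective
    intro X g
    obtain ⟨y, hy⟩ := cokernel_π_app_surjective (sig F) X (d.app X g)
    let z : (G ⊞ C0 F).obj X := (biprod.inl : G ⟶ G ⊞ C0 F).app X g +
      (biprod.inr : C0 F ⟶ G ⊞ C0 F).app X y
    have hz : Φ.app X z = 0 := by
      have h3 : Φ.app X z = d.app X g + (-piQ F).app X y := desc_apply d (-piQ F) X g y
      rw [h3]
      have h4 : (-piQ F).app X y = -((piQ F).app X y) := rfl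
      rw [h4]
      have h5 : (piQ F).app X y = d.app X g := hy
      rw [h5, add_neg_cancel]
    obtain ⟨w, hw⟩ := exists_of_app_eq_zero Φ X z hz
    refine ⟨w, ?_⟩
    have h6 : r.app X w = (biprod.fst : G ⊞ C0 F ⟶ G).app X ((kernel.ι Φ).app X w) := rfl
    rw [h6, hw]
    change (biprod.fst : G ⊞ C0 F ⟶ G).app X ((biprod.inl : G ⟶ G ⊞ C0 F).app X g +
      (biprod.inr : C0 F ⟶ G ⊞ C0 F).app X y) = g
    rw [map_add, comp_app_apply (biprod.inl_fst) X g, comp_app_apply (biprod.inr_fst) X y]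
    simp
  have := hr
  rw [← cancel_epi r, comp_zero, hrk, hkp]

theorem lift_unique {G : MVF A} (hG : adequate A G) (d₁ d₂ : G ⟶ QF F)
    (hd : d₁ ≫ epsQ F = d₂ ≫ epsQ F) : d₁ = d₂ := by
  rw [← sub_eq_zero]
  apply eq_zero_of_comp_epsQ F hG
  rw [Preadditive.sub_comp, hd, sub_self]

/-- the terminal costructured arrow. -/
noncomputable def termArrow : CostructuredArrow (adequate A).ι F :=
  CostructuredArrow.mk (Y := (⟨QF F, adequate_QF F⟩ : Adequate A)) (epsQ F)

noncomputable def isTerminalTermArrow : IsTerminal (termArrow F) := by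
  refine IsTerminal.ofUniqueHom (fun Y => ?_) (fun Y m => ?_)
  · exact CostructuredArrow.homMk
      (ObjectProperty.homMk (exists_lift F Y.left.property Y.hom).choose)
      (exists_lift F Y.left.property Y.hom).choose_spec
  · apply CostructuredArrow.hom_ext
    apply ObjectProperty.hom_ext
    refine lift_unique F Y.left.property _ _ ?_
    have h1 : m.left.hom ≫ epsQ F = Y.hom := CostructuredArrow.w m
    exact h1.trans ((exists_lift F Y.left.property Y.hom).choose_spec).symm

end Q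

theorem isLeftAdjoint_ι : (adequate A).ι.IsLeftAdjoint := by
  have : ∀ F : MVF A, HasTerminal (CostructuredArrow (adequate A).ι F) :=
    fun F => (isTerminalTermArrow F).hasTerminal
  exact isLeftAdjoint_of_costructuredArrowTerminals _

instance preservesMono_ι : (adequate A).ι.PreservesMonomorphisms where
  preserves {X Y} f hf := by
    have hK : adequate A (kernel f.hom) := adequate_kernel f.hom X.property Y.property
    let K : Adequate A := ⟨kernel f.hom, hK⟩
    let k₁ : K ⟶ X := ObjectProperty.homMk (kernel.ι f.hom)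
    let k₂ : K ⟶ X := ObjectProperty.homMk 0
    have h12 : k₁ ≫ f = k₂ ≫ f := by
      apply ObjectProperty.hom_ext
      change kernel.ι f.hom ≫ f.hom = 0 ≫ f.hom
      rw [kernel.condition, zero_comp]
    have h3 : k₁ = k₂ := (cancel_mono f).1 h12
    have h4 : kernel.ι f.hom = 0 := congrArg (fun t => t.hom) h3
    change Mono f.hom
    exact Preadditive.mono_of_kernel_zero h4

end Groth.Agent.H2.AdeqQ
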