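import Mathlib
import Groth.Prelude.Def_Adeq
import Groth.Agent.Lib.Helper2.AdeqFlat

/-! # Additive maps commuting with units are linear (Stacks 06UY). -/

set_option autoImplicit false
universe u
open CategoryTheory CategoryTheory.Limits TensorProduct Adeq

namespace Groth.Agent.H2.AdeqUnits

open Groth.Agent.H2.AdeqFlat

section Inj

variable {R S : Type u} [CommRing R] [CommRing S] (f : R →+* S) (ρ : S →+ R)
  (hρ : ∀ r s, ρ (f r * s) = r * ρ s) (hρ1 : ρ 1 = 1)

include hρ hρ1 in
open ChangeOfRings in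
theorem eq_zero_of_one_tmul_eq_zero (Y : ModuleCat.{u + 1} R) (y : Y)
    (h : ((1 : S) ⊗ₜ[R, f] y : (ModuleCat.extendScalars.{u, u, u + 1} f).obj Y) = 0) : y = 0 := by
  let F0 : S →+ Y →+ Y :=
    { toFun := fun s =>
        { toFun := fun y => ρ s • y, map_zero' := smul_zero _, map_add' := smul_add _ }
      map_zero' := by ext y; simp
      map_add' := fun s s' => by ext y; simp [add_smul] }
  let θ : ((ModuleCat.extendScalars.{u, u, u + 1} f).obj Y) →+ Y := TensorProduct.liftAddHom F0 (by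
    intro r (s : S) y
    change ρ (f r * s) • y = ρ s • (r • y)
    rw [hρ, mul_comm, mul_smul])
  have h1 : θ ((1 : S) ⊗ₜ[R, f] y) = ρ 1 • y := rfl
  have h2 : ρ 1 • y = 0 := h1.symm.trans ((congrArg θ h).trans (map_zero θ))
  rw [hρ1, one_smul] at h2
  exact h2

end Inj

variable {A : Type u} [CommRing A]

/-- Stacks 06UY. -/
theorem linear_of_units (F G : MVF A)
    (φ : ∀ B : Alg A, F.obj (pt B) → G.obj (pt B))
    (hnat : ∀ ⦃B B' : Alg A⦄ (f : B ⟶ B') (x : F.obj (pt B)),
      φ B' (F.map (ptHom f) x) = G.map (ptHom f) (φ B x))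
    (hadd : ∀ (B : Alg A) (x y : F.obj (pt B)), φ B (x + y) = φ B x + φ B y)
    (hunit : ∀ (B : Alg A) (v : (B : Type u)ˣ) (x : F.obj (pt B)),
      φ B ((v : B) • x) = (v : B) • φ B x)
    (hG : ∀ ⦃B B' : Alg A⦄ (f : B ⟶ B'), f.hom.toRingHom.Flat → IsIso (G.bc f))
    (B : Alg A) (b : B) (x : F.obj (pt B)) : φ B (b • x) = b • φ B x := by
  classical
  rcases subsingleton_or_nontrivial B with hB | hB
  · haveI : Subsingleton (G.obj (pt B)) := Module.subsingleton B _
    exact Subsingleton.elim _ _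
  let q : Polynomial B := Polynomial.C b * Polynomial.X + Polynomial.C 1
  have hq : q.degree < ((2 : ℕ) : WithBot ℕ) := by
    exact_mod_cast (Polynomial.degree_linear_lt : (Polynomial.C b * Polynomial.X +
      Polynomial.C (1 : B)).degree < 2)
  let p : Polynomial B := Polynomial.X ^ 2 - q
  have hp : p.Monic := Polynomial.monic_X_pow_sub hq
  let i : B ⟶ algOf A (AdjoinRoot p) :=
    CommAlgCat.ofHom (IsScalarTower.toAlgHom A B (AdjoinRoot p))
  have hfree : Module.Free B (AdjoinRoot p) :=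
    Module.Free.of_basis (AdjoinRoot.powerBasis' hp).basis
  have hflat : Module.Flat B (AdjoinRoot p) := inferInstance
  have hfl : i.hom.toRingHom.Flat := by
    show (algebraMap B (AdjoinRoot p)).Flat
    exact RingHom.flat_algebraMap_iff.mpr hflat
  have hr : AdjoinRoot.root p ^ 2 - (AdjoinRoot.of p b * AdjoinRoot.root p + 1) = 0 := by
    have h0 := AdjoinRoot.eval₂_root p
    simpa [p, q, Polynomial.eval₂_sub, Polynomial.eval₂_add, Polynomial.eval₂_mul] using h0
  have huv : AdjoinRoot.root p * (AdjoinRoot.root p - AdjoinRoot.of p b) = 1 := by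
    linear_combination hr
  let U : (AdjoinRoot p)ˣ :=
    Units.mkOfMulEqOne (AdjoinRoot.root p) (AdjoinRoot.root p - AdjoinRoot.of p b) huv
  let V : (AdjoinRoot p)ˣ :=
    Units.mkOfMulEqOne (AdjoinRoot.root p - AdjoinRoot.of p b) (AdjoinRoot.root p)
      (by rw [mul_comm]; exact huv)
  have hUV : AdjoinRoot.of p b = (U : AdjoinRoot p) - (V : AdjoinRoot p) := by
    change AdjoinRoot.of p b = AdjoinRoot.root p - (AdjoinRoot.root p - AdjoinRoot.of p b)
    ring
  -- the retraction
  let ρl : AdjoinRoot p →ₗ[B] B := (Polynomial.lcoeff B 0).comp (AdjoinRoot.modByMonicHom hp)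
  let ρ : AdjoinRoot p →+ B := ρl.toAddMonoidHom
  have hρ : ∀ (c : B) (s : AdjoinRoot p), ρ (i.hom.toRingHom c * s) = c * ρ s := by
    intro c s
    have h0 : i.hom.toRingHom c * s = c • s := (Algebra.smul_def c s).symm
    rw [h0]
    exact ρl.map_smul c s
  have hρ1 : ρ 1 = 1 := by
    change Polynomial.coeff (AdjoinRoot.modByMonicHom hp 1) 0 = 1
    have h1 : (1 : AdjoinRoot p) = AdjoinRoot.mk p 1 := (map_one _).symm
    rw [h1, AdjoinRoot.modByMonicHom_mk, (Polynomial.modByMonic_eq_self_iff hp).mpr ?_,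
      Polynomial.coeff_one_zero]
    have h2 : (Polynomial.X ^ 2 : Polynomial B).degree = ((2 : ℕ) : WithBot ℕ) :=
      Polynomial.degree_X_pow 2
    rw [Polynomial.degree_one, show p = Polynomial.X ^ 2 - q from rfl,
      Polynomial.degree_sub_eq_left_of_degree_lt (by rw [h2]; exact hq), h2]
    norm_num
  have hGi : ∀ y : G.obj (pt B), (G.map (ptHom i)).hom y = 0 → y = 0 := by
    intro y hy
    haveI := hG i hfl
    have hbij := (ConcreteCategory.isIso_iff_bijective (G.bc i)).mp this
    apply eq_zero_of_one_tmul_eq_zero i.hom.toRingHom ρ hρ hρ1 (G.obj (pt B)) y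
    apply hbij.1
    exact ((bc_tmul G i 1 y).trans (by rw [hy, smul_zero]; rfl)).trans (map_zero (G.bc i).hom).symm
  have hsub : ∀ (C : Alg A) (a c : F.obj (pt C)), φ C (a - c) = φ C a - φ C c := by
    intro C a c
    have h0 := hadd C (a - c) c
    rw [sub_add_cancel] at h0
    rw [h0, add_sub_cancel_right]
  have e1 : (F.map (ptHom i)).hom (b • x) =
      (AdjoinRoot.of p b : AdjoinRoot p) • ((F.map (ptHom i)).hom x :
        F.obj (pt (algOf A (AdjoinRoot p)))) := (F.map (ptHom i)).hom.map_smul b x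
  have e2 : (G.map (ptHom i)).hom (b • φ B x) =
      (AdjoinRoot.of p b : AdjoinRoot p) • ((G.map (ptHom i)).hom (φ B x) :
        G.obj (pt (algOf A (AdjoinRoot p)))) := (G.map (ptHom i)).hom.map_smul b (φ B x)
  have e3 : ∀ ξ : F.obj (pt (algOf A (AdjoinRoot p))),
      φ (algOf A (AdjoinRoot p)) ((AdjoinRoot.of p b : AdjoinRoot p) • ξ) =
        (AdjoinRoot.of p b : AdjoinRoot p) • φ (algOf A (AdjoinRoot p)) ξ := by
    intro ξ
    rw [hUV, sub_smul, sub_smul, hsub]
    exact congrArg₂ (· - ·) (hunit (algOf A (AdjoinRoot p)) U ξ)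
      (hunit (algOf A (AdjoinRoot p)) V ξ)
  have h5 : (G.map (ptHom i)).hom (φ B (b • x) - b • φ B x) = 0 := by
    rw [map_sub, e2, sub_eq_zero]
    have h6 := hnat i (b • x)
    have h7 := hnat i x
    refine h6.symm.trans ?_
    refine (congrArg (φ (algOf A (AdjoinRoot p))) e1).trans ?_
    refine (e3 _).trans ?_
    exact congrArg (fun z => (AdjoinRoot.of p b : AdjoinRoot p) • z) h7
  exact sub_eq_zero.mp (hGi _ h5)

end Groth.Agent.H2.AdeqUnits
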