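import Mathlib
import Groth.Agent.Lib.Helper2.LCModelF
import Groth.Agent.Lib.Helper2.LCModelD

set_option autoImplicit false
set_option linter.style.haveILetI false
set_option linter.unusedSectionVars false
universe u
open CategoryTheory CategoryTheory.Limits Opposite TopologicalSpace

namespace Groth.Agent.H2.LocConstAb

open Groth.Agent.H2.LCModel

variable {C : Type (u + 1)} [Category.{u} C] {J : GrothendieckTopology C} (R : TopReal J)

/-- Restriction of a presheaf of abelian groups to a slice. -/
abbrev overPre (P : Cᵒᵖ ⥤ AddCommGrpCat.{u + 1}) (U : C) : (Over U)ᵒᵖ ⥤ AddCommGrpCat.{u + 1} :=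
  (Over.forget U).op ⋙ P

/-- A trivialization of a presheaf of abelian groups over `U`. -/
abbrev Triv (P : Cᵒᵖ ⥤ AddCommGrpCat.{u + 1}) (U : C) (M : AddCommGrpCat.{u + 1}) :=
  overPre P U ≅ lcAbPre (R.over U) M

variable {R}

set_option backward.isDefEq.respectTransparency.types false in
/-- Restriction of a trivialization along a morphism. -/
noncomputable def Triv.restrict {P : Cᵒᵖ ⥤ AddCommGrpCat.{u + 1}} {U : C}
    {M : AddCommGrpCat.{u + 1}}
    (e : Triv R P U M) {W : C} (f : W ⟶ U) : Triv R P W M :=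
  NatIso.ofComponents (fun V => e.app (op ((Over.map f).obj V.unop))) (by
    intro V V' g
    exact e.hom.naturality ((Over.map f).map g.unop).op)

variable [HasWeakSheafify J AddCommGrpCat.{u + 1}] [J.WEqualsLocallyBijective AddCommGrpCat.{u + 1}]

/-- A trivialization from an isomorphism with a constant sheaf on the slice. -/
noncomputable def Triv.ofIso {F : Sheaf J AddCommGrpCat.{u + 1}} {U : C}
    {M : AddCommGrpCat.{u + 1}}
    [HasWeakSheafify (J.over U) AddCommGrpCat.{u + 1}]
    [(J.over U).WEqualsLocallyBijective AddCommGrpCat.{u + 1}]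
    (α : F.over U ≅ (constantSheaf (J.over U) AddCommGrpCat.{u + 1}).obj M) : Triv R F.obj U M :=
  (sheafToPresheaf _ _).mapIso (α ≪≫ (lcAb (R.over U) M).iso)

/-- The isomorphism with a constant sheaf on the slice given by a trivialization. -/
noncomputable def Triv.toIso {F : Sheaf J AddCommGrpCat.{u + 1}} {U : C}
    {M : AddCommGrpCat.{u + 1}}
    [HasWeakSheafify (J.over U) AddCommGrpCat.{u + 1}]
    [(J.over U).WEqualsLocallyBijective AddCommGrpCat.{u + 1}]
    (e : Triv R F.obj U M) :
    F.over U ≅ (constantSheaf (J.over U) AddCommGrpCat.{u + 1}).obj M :=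
  (show F.over U ≅ (lcAb (R.over U) M).sheaf from
    { hom := ⟨e.hom⟩
      inv := ⟨e.inv⟩
      hom_inv_id := by apply Sheaf.hom_ext; exact e.hom_inv_id
      inv_hom_id := by apply Sheaf.hom_ext; exact e.inv_hom_id }) ≪≫ (lcAb (R.over U) M).iso.symm

end Groth.Agent.H2.LocConstAb

namespace Groth.Agent.H2.LocConstAb

open Groth.Agent.H2.LCModel

variable {C : Type (u + 1)} [Category.{u} C] {J : GrothendieckTopology C} (R : TopReal J)

/-- Apply a morphism of presheaves of locally constant functions to a section. -/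
noncomputable def app {M N : AddCommGrpCat.{u + 1}} (θ : lcAbPre R M ⟶ lcAbPre R N) (V : C)
    (s : LocallyConstant (R.pt V) M) : LocallyConstant (R.pt V) N :=
  (θ.app (op V)).hom s

lemma app_comap {M N : AddCommGrpCat.{u + 1}} (θ : lcAbPre R M ⟶ lcAbPre R N) {V W : C}
    (k : V ⟶ W) (s : LocallyConstant (R.pt W) M) :
    app R θ V (s.comap (R.cmap k)) = (app R θ W s).comap (R.cmap k) := by
  have h := θ.naturality k.op
  have h2 := ConcreteCategory.congr_hom h s
  exact h2

lemma app_add {M N : AddCommGrpCat.{u + 1}} (θ : lcAbPre R M ⟶ lcAbPre R N) (V : C)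
    (s t : LocallyConstant (R.pt V) M) : app R θ V (s + t) = app R θ V s + app R θ V t :=
  map_add (θ.app (op V)).hom s t

/-- **Local structure of morphisms between constant sheaves** (finite source group). -/
theorem exists_local_hom {M N : AddCommGrpCat.{u + 1}} [Finite M]
    (θ : lcAbPre R M ⟶ lcAbPre R N) (W : C) (w : R.pt W) :
    ∃ (U : C) (f : U ⟶ W) (y : R.pt U) (h : M →+ N), R.map f y = w ∧
      ∀ (V : C) (_ : V ⟶ U) (s : LocallyConstant (R.pt V) M) (v : R.pt V),
        app R θ V s v = h (s v) := by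
  classical
  let T : M → LocallyConstant (R.pt W) N := fun x => app R θ W (LocallyConstant.const _ x)
  have hTadd : ∀ x y, T (x + y) = T x + T y := by
    intro x y
    have : (LocallyConstant.const (R.pt W) (x + y) : LocallyConstant (R.pt W) M) =
        LocallyConstant.const _ x + LocallyConstant.const _ y := by
      ext; rfl
    simp only [T, this, app_add]
  let O : R.pt W → Set (R.pt W) := fun w' => ⋂ x : M, (T x) ⁻¹' {T x w'}
  have hO : ∀ w', IsOpen (O w') := fun w' =>
    isOpen_iInter_of_finite (fun x => (T x).isLocallyConstant.isOpen_fiber _)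
  have hmemO : ∀ w', w' ∈ O w' := fun w' => Set.mem_iInter.2 (fun i => rfl)
  obtain ⟨S, hS, hSref⟩ := R.exists_refine W (Set.range O) (by rintro _ ⟨w', rfl⟩; exact hO w')
    (by
      ext w'
      simp only [Set.mem_sUnion, Set.mem_range, exists_exists_eq_and, Set.mem_univ, iff_true]
      exact ⟨w', hmemO w'⟩)
  obtain ⟨U, f, y, hf, hy⟩ := R.exists_mem S hS w
  obtain ⟨_, ⟨w', rfl⟩, hrange⟩ := hSref f hf
  have hw : w ∈ O w' := hrange ⟨y, hy⟩
  let h : M →+ N :=
    { toFun := fun x => T x w
      map_zero' := by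
        have := hTadd 0 0
        simp only [add_zero] at this
        have h0 : T 0 = 0 := by
          have h1 : T 0 + T 0 = T 0 + 0 := by rw [← this, add_zero]
          exact add_left_cancel h1
        rw [h0]; rfl
      map_add' := fun x y => by rw [hTadd]; rfl }
  have claim1 : ∀ (x : M) (o : R.pt W), o ∈ O w' → T x o = h x := by
    intro x o ho
    have h1 : T x o = T x w' := Set.mem_iInter.1 ho x
    have h2 : T x w = T x w' := Set.mem_iInter.1 hw x
    exact h1.trans h2.symm
  refine ⟨U, f, y, h, hy, ?_⟩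
  intro V g s v
  obtain ⟨SV, hSV, hSVref⟩ := R.exists_refine V (Set.range fun x : M => s ⁻¹' {x})
    (by rintro _ ⟨x, rfl⟩; exact s.isLocallyConstant.isOpen_fiber x)
    (by
      ext v'
      simp only [Set.mem_sUnion, Set.mem_range, exists_exists_eq_and, Set.mem_preimage,
        Set.mem_singleton_iff, exists_eq', Set.mem_univ])
  obtain ⟨V₁, k, v₁, hk, hv₁⟩ := R.exists_mem SV hSV v
  obtain ⟨_, ⟨x, rfl⟩, hkr⟩ := hSVref k hk
  have hx : s v = x := by
    have := hkr ⟨v₁, hv₁⟩
    exact this
  have hconst : s.comap (R.cmap k) = (LocallyConstant.const (R.pt W) x).comap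
      (R.cmap (k ≫ g ≫ f)) := by
    ext v'
    have := hkr ⟨v', rfl⟩
    exact this
  have e1 : app R θ V s v = (app R θ V s).comap (R.cmap k) v₁ := by
    change _ = app R θ V s (R.map k v₁)
    rw [hv₁]
  rw [e1, ← app_comap, hconst, app_comap]
  change T x (R.map (k ≫ g ≫ f) v₁) = h (s v)
  rw [hx]
  apply claim1
  apply hrange
  refine ⟨R.map g (R.map k v₁), ?_⟩
  rw [R.map_comp, R.map_comp]

end Groth.Agent.H2.LocConstAb
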