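import Mathlib
import Groth.Agent.Lib.Helper2.LCModelD

set_option autoImplicit false
set_option linter.style.haveILetI false
set_option linter.unusedSectionVars false
universe u v' u' w'

open CategoryTheory CategoryTheory.Limits Opposite TopologicalSpace

namespace Groth.Agent.H2.StalkLC

open Groth.Agent.H2.LCModel

variable {C : Type (u + 1)} [Category.{u} C] {J : GrothendieckTopology C} (R : TopReal J)
  (Φ : GrothendieckTopology.Point.{u} J)

/-- A realization of the fibre functor of a point inside a topological realization of a site. -/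
structure PtReal where
  ρ : ∀ V : C, Φ.fiber.obj V → R.pt V
  nat : ∀ {V W : C} (f : V ⟶ W) (v : Φ.fiber.obj V), ρ W (Φ.fiber.map f v) = R.map f (ρ V v)
  refine : ∀ (V : C) (v : Φ.fiber.obj V) (O : Set (R.pt V)), IsOpen O → ρ V v ∈ O →
    ∃ (V' : C) (f : V' ⟶ V) (v' : Φ.fiber.obj V'), Φ.fiber.map f v' = v ∧
      Set.range (R.map f) ⊆ O

variable {R Φ} (r : PtReal R Φ)

variable {A : Type u'} [Category.{v'} A] [HasColimitsOfSize.{u, u} A]
  {FC : A → A → Type*} {CC : A → Type w'}
  [∀ (X Y : A), FunLike (FC X Y) (CC X) (CC Y)]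
  [ConcreteCategory.{w'} A FC]
  [PreservesFilteredColimitsOfSize.{u, u} (forget A)]

/-- Local trivialization data for a presheaf over `U`: sections over `V → U` are locally
constant functions on the realization of `V`. -/
structure LCTriv (P : Cᵒᵖ ⥤ A) (U : C) (M₀ : Type*) where
  κ : ∀ V : Over U, ToType (P.obj (op V.left)) → LocallyConstant (R.pt V.left) M₀
  bij : ∀ V : Over U, Function.Bijective (κ V)
  nat : ∀ {V W : Over U} (f : W ⟶ V) (z : ToType (P.obj (op V.left))),
    κ W (P.map f.left.op z) = (κ V z).comap (R.cmap f.left)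

variable {P : Cᵒᵖ ⥤ A} {U : C} {M₀ : Type*} (t : LCTriv (R := R) P U M₀) (y : Φ.fiber.obj U)

/-- The section over `U` corresponding to the constant function `m`. -/
noncomputable def LCTriv.constSec (m : M₀) : ToType (P.obj (op U)) :=
  (Equiv.ofBijective _ (t.bij (Over.mk (𝟙 U)))).symm (LocallyConstant.const _ m)

lemma LCTriv.κ_constSec (m : M₀) :
    t.κ (Over.mk (𝟙 U)) (t.constSec m) = LocallyConstant.const _ m :=
  (Equiv.ofBijective _ (t.bij (Over.mk (𝟙 U)))).apply_symm_apply _

lemma LCTriv.κ_map_constSec (m : M₀) {V : C} (f : V ⟶ U) :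
    t.κ (Over.mk f) (P.map f.op (t.constSec m)) = LocallyConstant.const _ m := by
  have h := t.nat (V := Over.mk (𝟙 U)) (W := Over.mk f) (Over.homMk f) (t.constSec m)
  rw [t.κ_constSec] at h
  exact h

/-- The comparison map from the value of a local trivialization to the stalk. -/
noncomputable def theta (m : M₀) : ToType (Φ.presheafFiber.obj P) :=
  Φ.toPresheafFiber U y P (t.constSec m)

include r in
theorem theta_injective : Function.Injective (theta t y) := by
  intro m m' h
  obtain ⟨Y, f, y', hy', hf⟩ := (Φ.toPresheafFiber_eq_iff' U y _ _).1 h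
  have h1 := t.κ_map_constSec m f
  have h2 := t.κ_map_constSec m' f
  rw [hf, h2] at h1
  have := congrArg (fun s : LocallyConstant (R.pt Y) M₀ => s (r.ρ Y y')) h1
  exact this.symm

include r in
theorem theta_surjective : Function.Surjective (theta t y) := by
  intro p
  obtain ⟨V, v, z, rfl⟩ := Φ.toPresheafFiber_jointly_surjective p
  -- a common refinement of `(V, v)` and `(U, y)`
  let eV : Φ.fiber.Elements := Φ.fiber.elementsMk V v
  let eU : Φ.fiber.Elements := Φ.fiber.elementsMk U y
  let eW := IsCofiltered.min eV eU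
  let a : eW.1 ⟶ V := (IsCofiltered.minToLeft eV eU).1
  let b : eW.1 ⟶ U := (IsCofiltered.minToRight eV eU).1
  have ha : Φ.fiber.map a eW.2 = v := (IsCofiltered.minToLeft eV eU).2
  have hb : Φ.fiber.map b eW.2 = y := (IsCofiltered.minToRight eV eU).2
  let W := eW.1
  let w : Φ.fiber.obj W := eW.2
  let z' : ToType (P.obj (op W)) := P.map a.op z
  let s : LocallyConstant (R.pt W) M₀ := t.κ (Over.mk b) z'
  let m : M₀ := s (r.ρ W w)
  obtain ⟨W₂, f, w₂, hw₂, hrange⟩ := r.refine W w (s ⁻¹' {m}) (s.isLocallyConstant.isOpen_fiber m) rfl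
  refine ⟨m, ?_⟩
  -- the two sections agree on `W₂`
  have h1 : t.κ (Over.mk (f ≫ b)) (P.map f.op z') = LocallyConstant.const _ m := by
    have h := t.nat (V := Over.mk b) (W := Over.mk (f ≫ b)) (Over.homMk f) z'
    refine h.trans ?_
    ext x
    exact hrange ⟨x, rfl⟩
  have h2 := t.κ_map_constSec m (f ≫ b)
  have heq : P.map f.op z' = P.map (f ≫ b).op (t.constSec m) :=
    (t.bij (Over.mk (f ≫ b))).1 (h1.trans h2.symm)
  have hfb : Φ.fiber.map (f ≫ b) w₂ = y := by
    rw [Φ.fiber.map_comp]
    change Φ.fiber.map b (Φ.fiber.map f w₂) = y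
    rw [hw₂]
    exact hb
  have hfa : Φ.fiber.map (f ≫ a) w₂ = v := by
    rw [Φ.fiber.map_comp]
    change Φ.fiber.map a (Φ.fiber.map f w₂) = v
    rw [hw₂]
    exact ha
  have e1 : Φ.toPresheafFiber V v P z = Φ.toPresheafFiber W₂ w₂ P (P.map (f ≫ a).op z) := by
    have := Φ.toPresheafFiber_w_apply (f ≫ a) w₂ P z
    rw [hfa] at this
    exact this.symm
  have e2 : Φ.toPresheafFiber U y P (t.constSec m) =
      Φ.toPresheafFiber W₂ w₂ P (P.map (f ≫ b).op (t.constSec m)) := by
    have := Φ.toPresheafFiber_w_apply (f ≫ b) w₂ P (t.constSec m)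
    rw [hfb] at this
    exact this.symm
  change Φ.toPresheafFiber U y P (t.constSec m) = _
  rw [e1, e2, ← heq]
  congr 1
  change P.map f.op (P.map a.op z) = _
  rw [op_comp, P.map_comp, ConcreteCategory.comp_apply]

include r in
theorem theta_bijective : Function.Bijective (theta t y) :=
  ⟨theta_injective r t y, theta_surjective r t y⟩

end Groth.Agent.H2.StalkLC
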