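import Mathlib
import Groth.Prelude.Def_EtMod2
import Groth.Agent.Lib.Helper2.StalkLCA
import Groth.Agent.Lib.Helper2.LCModelE
import Groth.Agent.Lib.Helper2.LocConstA
import Groth.Agent.Lib.Helper2.LocConstAbA
import Groth.Agent.Lib.Helper2.FinStalkD
import Groth.Agent.Lib.Helper7.ST1

set_option autoImplicit false
set_option linter.style.haveILetI false
set_option linter.unusedSectionVars false
universe u

open CategoryTheory CategoryTheory.Limits Opposite TopologicalSpace AlgebraicGeometry

namespace Groth.Agent.H2.StalkLC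

open Groth.Agent.H2.LCModel Groth.Agent.H2.FinStalk

section pt
variable (X : Scheme.{u}) {Ω : Type u} [Field Ω] [IsSepClosed Ω] (ξ : Spec (CommRingCat.of Ω) ⟶ X)

/-- The realization of a geometric point inside the topological realization of the small étale
site. -/
noncomputable def etPtReal : PtReal (etReal X) (Scheme.pointSmallEtale ξ) where
  ρ V v := v.left (default : ↥(Spec (CommRingCat.of Ω)))
  nat f v := rfl
  refine V v O hO hv := by
    obtain ⟨xo, hxo⟩ := exists_fiber_openObj ξ V ⟨O, hO⟩ v hv
    refine ⟨openObj V ⟨O, hO⟩, openIncl V ⟨O, hO⟩, xo, hxo, ?_⟩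
    rintro _ ⟨z, rfl⟩
    exact z.2
end pt

section generic

variable {C : Type (u + 1)} [Category.{u} C] {J : GrothendieckTopology C} (R : TopReal J)

instance forget_mod_pfc (Λ : Type (u + 1)) [CommRing Λ] :
    PreservesFilteredColimitsOfSize.{u, u} (forget (ModuleCat.{u + 1} Λ)) :=
  haveI : PreservesFilteredColimitsOfSize.{u + 1, u + 1} (forget (ModuleCat.{u + 1} Λ)) :=
    inferInstance
  preservesFilteredColimitsOfSize_of_univLE.{u + 1, u + 1, u, u} _

instance forget_ab_pfc :
    PreservesFilteredColimitsOfSize.{u, u} (forget AddCommGrpCat.{u + 1}) :=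
  haveI : PreservesFilteredColimitsOfSize.{u + 1, u + 1} (forget AddCommGrpCat.{u + 1}) :=
    inferInstance
  preservesFilteredColimitsOfSize_of_univLE.{u + 1, u + 1, u, u} _

variable (Λ : Type (u + 1)) [CommRing Λ]

set_option backward.isDefEq.respectTransparency.types false in
/-- Local trivialization data from a trivialization of a presheaf of modules. -/
noncomputable def lcTrivMod {P : Cᵒᵖ ⥤ ModuleCat.{u + 1} Λ} {U : C} {M : ModuleCat.{u + 1} Λ}
    (e : LocConst.Triv R Λ P U M) : LCTriv (R := R) P U M where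
  κ V z := (e.hom.app (op V)).hom z
  bij V := by
    have := (ConcreteCategory.isIso_iff_bijective (e.hom.app (op V))).1 inferInstance
    exact this
  nat {V W} f z := by
    have h := congrArg (fun φ => φ.hom z) (e.hom.naturality f.op)
    exact h

set_option backward.isDefEq.respectTransparency.types false in
lemma lcTrivMod_constSec {P : Cᵒᵖ ⥤ ModuleCat.{u + 1} Λ} {U : C} {M : ModuleCat.{u + 1} Λ}
    (e : LocConst.Triv R Λ P U M) (m : M) :
    (lcTrivMod R Λ e).constSec m =
      (e.inv.app (op (Over.mk (𝟙 U)))).hom (LocallyConstant.const _ m) := by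
  unfold LCTriv.constSec
  rw [Equiv.symm_apply_eq]
  change _ = (e.hom.app (op (Over.mk (𝟙 U)))).hom ((e.inv.app (op (Over.mk (𝟙 U)))).hom _)
  have h : e.inv.app (op (Over.mk (𝟙 U))) ≫ e.hom.app (op (Over.mk (𝟙 U))) = 𝟙 _ := by
    rw [← NatTrans.comp_app, e.inv_hom_id]; rfl
  have h2 := congrArg (fun φ => φ.hom (LocallyConstant.const _ m)) h
  exact h2.symm

variable {Φ : GrothendieckTopology.Point.{u} J} (r : PtReal R Φ)

set_option backward.isDefEq.respectTransparency.types false in
include r in
/-- The stalk of a presheaf of modules trivialized over `U` at a point lifting to `U` is the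
value module. -/
theorem exists_linear_bijective_of_triv {P : Cᵒᵖ ⥤ ModuleCat.{u + 1} Λ} {U : C}
    {M : ModuleCat.{u + 1} Λ} (e : LocConst.Triv R Λ P U M) (y : Φ.fiber.obj U) :
    ∃ Θ : M →ₗ[Λ] (Φ.presheafFiber.obj P : ModuleCat.{u + 1} Λ), Function.Bijective Θ := by
  refine ⟨(Φ.toPresheafFiber U y P).hom ∘ₗ (e.inv.app (op (Over.mk (𝟙 U)))).hom ∘ₗ
    LocallyConstant.constₗ Λ, ?_⟩
  have hb := theta_bijective r (lcTrivMod R Λ e) y
  convert hb using 1
  funext m
  unfold theta
  rw [lcTrivMod_constSec]
  rfl

set_option backward.isDefEq.respectTransparency.types false in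
/-- Local trivialization data from a trivialization of a presheaf of abelian groups. -/
noncomputable def lcTrivAb {P : Cᵒᵖ ⥤ AddCommGrpCat.{u + 1}} {U : C} {M : AddCommGrpCat.{u + 1}}
    (e : LocConstAb.Triv R P U M) : LCTriv (R := R) P U M where
  κ V z := (e.hom.app (op V)).hom z
  bij V := by
    have := (ConcreteCategory.isIso_iff_bijective (e.hom.app (op V))).1 inferInstance
    exact this
  nat {V W} f z := by
    have h := congrArg (fun φ => φ.hom z) (e.hom.naturality f.op)
    exact h

set_option backward.isDefEq.respectTransparency.types false in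
lemma lcTrivAb_constSec {P : Cᵒᵖ ⥤ AddCommGrpCat.{u + 1}} {U : C} {M : AddCommGrpCat.{u + 1}}
    (e : LocConstAb.Triv R P U M) (m : M) :
    (lcTrivAb R e).constSec m =
      (e.inv.app (op (Over.mk (𝟙 U)))).hom (LocallyConstant.const _ m) := by
  unfold LCTriv.constSec
  rw [Equiv.symm_apply_eq]
  change _ = (e.hom.app (op (Over.mk (𝟙 U)))).hom ((e.inv.app (op (Over.mk (𝟙 U)))).hom _)
  have h : e.inv.app (op (Over.mk (𝟙 U))) ≫ e.hom.app (op (Over.mk (𝟙 U))) = 𝟙 _ := by
    rw [← NatTrans.comp_app, e.inv_hom_id]; rfl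
  have h2 := congrArg (fun φ => φ.hom (LocallyConstant.const _ m)) h
  exact h2.symm

set_option backward.isDefEq.respectTransparency.types false in
include r in
/-- The stalk of a presheaf of abelian groups trivialized over `U` at a point lifting to `U` is
in bijection with the value group. -/
theorem exists_bijective_of_trivAb {P : Cᵒᵖ ⥤ AddCommGrpCat.{u + 1}} {U : C}
    {M : AddCommGrpCat.{u + 1}} (e : LocConstAb.Triv R P U M) (y : Φ.fiber.obj U) :
    ∃ Θ : M → (Φ.presheafFiber.obj P : AddCommGrpCat.{u + 1}), Function.Bijective Θ :=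
  ⟨_, theta_bijective r (lcTrivAb R e) y⟩

end generic

end Groth.Agent.H2.StalkLC
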