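import Mathlib
import Groth.Prelude.Def_EtMod2
import Groth.Prelude.Def_PBC
import Groth.Agent.Lib.Helper2.StalkLCB
import Groth.Agent.Lib.Helper2.LocConstD

set_option autoImplicit false
set_option linter.style.haveILetI false
set_option linter.unusedSectionVars false
universe u

open CategoryTheory CategoryTheory.Limits Opposite TopologicalSpace AlgebraicGeometry

namespace Groth.Agent.H2.StalkLC

lemma residueFieldMap_bijective {T X : Scheme.{u}} (g : T ⟶ X) [SurjectiveOnStalks g] (t : T) :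
    Function.Bijective (g.residueFieldMap t).hom := by
  refine ⟨(g.residueFieldMap t).hom.injective, ?_⟩
  have h1 : Function.Surjective (g.stalkMap t ≫ T.residue t).hom := by
    rw [CommRingCat.hom_comp]
    exact (T.residue_surjective t).comp (g.stalkMap_surjective t)
  rw [← Scheme.residue_residueFieldMap, CommRingCat.hom_comp] at h1
  rw [RingHom.coe_comp] at h1
  exact Function.Surjective.of_comp h1

set_option backward.isDefEq.respectTransparency.types false in
lemma exists_fac_of_surjectiveOnStalks {T X : Scheme.{u}} (g : T ⟶ X) [SurjectiveOnStalks g]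
    {Ω : Type u} [Field Ω] (s : Spec (.of Ω) ⟶ X) (t : T) (ht : g t = s default) :
    ∃ l : Spec (.of Ω) ⟶ T, l ≫ g = s ∧ l default = t := by
  obtain ⟨⟨s, a⟩, rfl⟩ := (Scheme.SpecToEquivOfField Ω X).symm.surjective s
  obtain rfl : g t = s := by simp [ht, Scheme.SpecToEquivOfField]
  let e := RingEquiv.ofBijective _ (residueFieldMap_bijective g t)
  let b : T.residueField t ⟶ .of Ω := CommRingCat.ofHom (a.hom.comp e.symm.toRingHom)
  have : g.residueFieldMap t ≫ b = a := by
    ext x
    change a.hom (e.symm (e x)) = _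
    rw [RingEquiv.symm_apply_apply]
  refine ⟨Spec.map b ≫ T.fromSpecResidueField t, ?_, ?_⟩
  · simp [Scheme.SpecToEquivOfField, ← this]
  · dsimp
    apply Scheme.fromSpecResidueField_apply

open Groth.Agent.H2.LCModel

section Mod

variable (Λ : Type (u + 1)) [CommRing Λ]

instance hasLimitsOfSize_mod_small : HasLimitsOfSize.{u, u} (ModuleCat.{u + 1} Λ) :=
  hasLimitsOfSizeShrink.{u, u, u + 1, u + 1} _

/-- Stalk of the inverse image, for sheaves of modules. -/
noncomputable def stalkPullIsoMod {X Y : Scheme.{u}} (f : X ⟶ Y) {Ω : Type u} [Field Ω]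
    [IsSepClosed Ω] (ξ : Spec (CommRingCat.of Ω) ⟶ X) :
    EtModW.pull Λ f ⋙ EtModW.stalk Λ ξ ≅ EtModW.stalk Λ (ξ ≫ f) :=
  ((Scheme.pointSmallEtale ξ).sheafFiberComapIso (EtCoh.bc f) (EtCoh.coverPreserving_bc f)
      (ModuleCat.{u + 1} Λ)).symm ≪≫
    Groth.Agent.H7.ST.sheafFiberIsoOfIso (Groth.Agent.H7.ST.comapPointIso f ξ)

set_option backward.isDefEq.respectTransparency.types false in
/-- Stalks of finite type locally constant sheaves are finitely generated. -/
theorem finite_stalk_of_isFTLocConst {X : Scheme.{u}} (F : EtModW.Mod Λ X)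
    (hF : EtModW.IsFTLocConst Λ F) {Ω : Type u} [Field Ω] [IsSepClosed Ω]
    (ξ : Spec (CommRingCat.of Ω) ⟶ X) :
    Module.Finite Λ ((EtModW.stalk Λ ξ).obj F) := by
  obtain ⟨ι, U, hcov, h⟩ := hF
  obtain ⟨i, y, hy⟩ := hcov (ξ default)
  obtain ⟨t, -⟩ := Scheme.pointSmallEtaleFiberObjToPreimage_surjective ξ rfl (U i) ⟨y, hy⟩
  obtain ⟨M, i1, i2, i3, ⟨α⟩⟩ := h i
  let e : LocConst.Triv (etReal X) Λ F.obj (U i) (ModuleCat.of Λ M) := LocConst.Triv.ofIso α
  obtain ⟨Θ, hΘ⟩ := exists_linear_bijective_of_triv (etReal X) Λ (etPtReal X ξ) e t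
  exact Module.Finite.of_surjective Θ hΘ.2

/-- Stalks of constructible sheaves of modules are finitely generated. -/
theorem finite_stalk_of_isConstructible {X : Scheme.{u}} (F : EtModW.Mod Λ X)
    (hF : EtModW.IsConstructible Λ F) {Ω : Type u} [Field Ω] [IsSepClosed Ω]
    (ξ : Spec (CommRingCat.of Ω) ⟶ X) :
    Module.Finite Λ ((EtModW.stalk Λ ξ).obj F) := by
  obtain ⟨U, hU, hxU, -⟩ := exists_isAffineOpen_mem_and_subset (x := ξ default)
    (U := (⊤ : X.Opens)) trivial
  obtain ⟨n, T, g, himm, hcons, hdisj, hcov, hflc⟩ := hF U hU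
  have hx : ξ default ∈ ⋃ i, Set.range (g i) := by rw [hcov]; exact hxU
  obtain ⟨i, t, ht⟩ := Set.mem_iUnion.1 hx
  haveI := himm i
  obtain ⟨l, hl, -⟩ := exists_fac_of_surjectiveOnStalks (g i) ξ t ht
  subst hl
  haveI : Module.Finite Λ ↑((EtModW.pull Λ (g i) ⋙ EtModW.stalk Λ l).obj F) :=
    finite_stalk_of_isFTLocConst Λ _ (hflc i) l
  let e := (stalkPullIsoMod Λ (g i) l).app F
  exact Module.Finite.equiv e.toLinearEquiv

section linear

variable {X : Scheme.{u}} (Φ : GrothendieckTopology.Point.{u} X.smallEtaleTopology)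

instance sheafFiber_additive : (Φ.sheafFiber (A := ModuleCat.{u + 1} Λ)).Additive := by
  haveI : PreservesBinaryBiproducts (Φ.sheafFiber (A := ModuleCat.{u + 1} Λ)) :=
    preservesBinaryBiproducts_of_preservesBinaryCoproducts _
  exact Functor.additive_of_preservesBinaryBiproducts _

instance sheafFiber_linear : (Φ.sheafFiber (A := ModuleCat.{u + 1} Λ)).Linear Λ where
  map_smul {F G} φ r := by
    change Φ.presheafFiber.map (r • φ).hom = r • Φ.presheafFiber.map φ.hom
    apply Φ.presheafFiber_hom_ext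
    intro X x
    rw [Φ.toPresheafFiber_naturality, Linear.comp_smul, Φ.toPresheafFiber_naturality,
      ← Linear.smul_comp]
    rfl

instance ab5_mod_small : AB5OfSize.{u, u} (ModuleCat.{u + 1} Λ) :=
  AB5OfSize_of_univLE.{u, u, u + 1, u + 1} (ModuleCat.{u + 1} Λ)

end linear

end Mod

end Groth.Agent.H2.StalkLC
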