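import Mathlib
import Groth.Prelude.Def_EtMod2
import Groth.Prelude.Def_PBC
import Groth.Agent.Lib.Helper2.StalkLCC
import Groth.Agent.Lib.Helper2.LocConstAbA

set_option autoImplicit false
set_option linter.style.haveILetI false
set_option linter.unusedSectionVars false
universe u

open CategoryTheory CategoryTheory.Limits Opposite TopologicalSpace AlgebraicGeometry

namespace Groth.Agent.H2.StalkLC

open Groth.Agent.H2.LCModel

/-- The range of a geometric point is a singleton. -/
lemma range_geomPt {X : Scheme.{u}} {Ω : Type u} [Field Ω]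
    (ξ : Spec (CommRingCat.of Ω) ⟶ X) : Set.range ξ = {ξ default} := by
  ext x
  constructor
  · rintro ⟨a, rfl⟩
    rw [Subsingleton.elim a default]
    rfl
  · rintro rfl
    exact ⟨default, rfl⟩

lemma range_geomPt_eq_iff {X : Scheme.{u}} {Ω : Type u} [Field Ω]
    (ξ : Spec (CommRingCat.of Ω) ⟶ X) (x : X) : Set.range ξ = {x} ↔ ξ default = x := by
  rw [range_geomPt]
  exact Set.singleton_eq_singleton_iff

/-- Every point carries a geometric point. -/
lemma exists_geomPt {X : Scheme.{u}} (x : X) :
    ∃ (Ω : Type u) (_ : Field Ω) (_ : IsSepClosed Ω) (ξ : Spec (CommRingCat.of Ω) ⟶ X),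
      ξ default = x := by
  refine ⟨SeparableClosure (X.residueField x), inferInstance, inferInstance,
    (Scheme.SpecToEquivOfField (SeparableClosure (X.residueField x)) _).2
      ⟨x, CommRingCat.ofHom (algebraMap (X.residueField x) _)⟩, ?_⟩
  simp [Scheme.SpecToEquivOfField]

set_option backward.isDefEq.respectTransparency.types false in
/-- The stalk of an abelian sheaf trivialized over `U` at a geometric point lifting to `U`
vanishes iff the value group does. -/
theorem isZero_stalk_iff_of_iso {X : Scheme.{u}} (F : EtCoh.Ab X) (U : X.Etale)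
    (M : AddCommGrpCat.{u + 1})
    (α : EtCoh.restr F U ≅
      (constantSheaf (X.smallEtaleTopology.over U) AddCommGrpCat.{u + 1}).obj M)
    {Ω : Type u} [Field Ω] [IsSepClosed Ω]
    (ξ : Spec (CommRingCat.of Ω) ⟶ X) (y : U.left) (hy : U.hom y = ξ default) :
    IsZero ((EtCoh.stalk ξ).obj F) ↔ Subsingleton M := by
  obtain ⟨t, -⟩ := Scheme.pointSmallEtaleFiberObjToPreimage_surjective ξ rfl U ⟨y, hy⟩
  let e : LocConstAb.Triv (etReal X) F.obj U M := LocConstAb.Triv.ofIso α
  obtain ⟨Θ, hΘ⟩ := exists_bijective_of_trivAb (etReal X) (etPtReal X ξ) e t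
  constructor
  · intro h
    haveI : Subsingleton ↑((Scheme.pointSmallEtale ξ).presheafFiber.obj F.obj) :=
      AddCommGrpCat.subsingleton_of_isZero h
    exact hΘ.1.subsingleton
  · intro h
    haveI : Subsingleton ↑((EtCoh.stalk ξ).obj F) := hΘ.2.subsingleton
    exact AddCommGrpCat.isZero_of_subsingleton _

set_option backward.isDefEq.respectTransparency.types false in
/-- The support of a finite locally constant sheaf is open and closed. -/
theorem isClopen_supp_of_isFLC {T : Scheme.{u}} (G : EtCoh.Ab T)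
    (hG : EtCoh.IsFiniteLocallyConstant G) : IsClopen (EtPBC.supp G) := by
  obtain ⟨ι, U, hcov, h⟩ := hG
  choose M i1 i2 α using h
  have key : ∀ (j : ι) (y : (U j).left),
      (U j).hom y ∈ EtPBC.supp G ↔ ¬ Subsingleton (M j) := by
    intro j y
    constructor
    · rintro ⟨Ω, _, _, ξ, hξ, hnz⟩ hsub
      rw [range_geomPt_eq_iff] at hξ
      apply hnz
      rw [isZero_stalk_iff_of_iso G (U j) _ (α j).some ξ y hξ.symm]
      change Subsingleton (ULift.{u + 1} (M j))
      infer_instance
    · intro hns
      obtain ⟨Ω, _, _, ξ, hξ⟩ := exists_geomPt ((U j).hom y)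
      refine ⟨Ω, inferInstance, inferInstance, ξ, (range_geomPt_eq_iff ξ _).2 hξ, ?_⟩
      rw [isZero_stalk_iff_of_iso G (U j) _ (α j).some ξ y hξ.symm]
      intro hsub
      apply hns
      change Subsingleton (ULift.{u + 1} (M j)) at hsub
      exact Equiv.ulift.symm.subsingleton
  have hop : ∀ j, IsOpen (Set.range (U j).hom) := fun j => by
    haveI : Etale (U j).hom := (U j).prop
    exact (U j).hom.isOpenMap.isOpen_range
  have h1 : EtPBC.supp G = ⋃ (j : {j // ¬ Subsingleton (M j)}), Set.range (U j.1).hom := by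
    ext t
    constructor
    · intro ht
      obtain ⟨j, y, rfl⟩ := hcov t
      exact Set.mem_iUnion.2 ⟨⟨j, (key j y).1 ht⟩, y, rfl⟩
    · intro ht
      obtain ⟨⟨j, hj⟩, y, rfl⟩ := Set.mem_iUnion.1 ht
      exact (key j y).2 hj
  have h2 : (EtPBC.supp G)ᶜ = ⋃ (j : {j // Subsingleton (M j)}), Set.range (U j.1).hom := by
    ext t
    constructor
    · intro ht
      obtain ⟨j, y, rfl⟩ := hcov t
      refine Set.mem_iUnion.2 ⟨⟨j, ?_⟩, y, rfl⟩
      by_contra hns
      exact ht ((key j y).2 hns)
    · intro ht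
      obtain ⟨⟨j, hj⟩, y, rfl⟩ := Set.mem_iUnion.1 ht
      intro hmem
      exact (key j y).1 hmem hj
  constructor
  · rw [← isOpen_compl_iff, h2]
    exact isOpen_iUnion fun j => hop j.1
  · rw [h1]
    exact isOpen_iUnion fun j => hop j.1

end Groth.Agent.H2.StalkLC
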