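import Mathlib
import Groth.Prelude.Def_EtBase
import Groth.Agent.Lib.Helper7.SepCl2
import Groth.Agent.Lib.Helper7.ST1
import Groth.Agent.Lib.Helper2.StalkLCE

set_option autoImplicit false
set_option linter.style.haveILetI false
set_option linter.unusedSectionVars false
universe u

open CategoryTheory CategoryTheory.Limits Opposite AlgebraicGeometry

namespace Groth.Agent.H2.GeomIndep

open Groth.Agent.H7.SepCl Groth.Agent.H2.StalkLC

section Sec

variable {X : Scheme.{u}} {Ω : Type u} [Field Ω] [IsSepClosed Ω] (ξ : Spec (CommRingCat.of Ω) ⟶ X)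
  (σ : X ⟶ Spec (CommRingCat.of Ω)) (hσ : σ ≫ ξ = 𝟙 X) (hξ : ξ ≫ σ = 𝟙 _)
  {Ω' : Type u} [Field Ω'] [IsSepClosed Ω'] (ζ : Spec (CommRingCat.of Ω') ⟶ X)

include hσ hξ in
/-- On the spectrum of a separably closed field, global sections of a presheaf of abelian
groups are the stalk at any geometric point. -/
theorem bijective_toPresheafFiber_ab (P : X.Etaleᵒᵖ ⥤ AddCommGrpCat.{u + 1}) :
    Function.Bijective ((Scheme.pointSmallEtale ζ).toPresheafFiber (EtCoh.top X) (basePt ζ) P) := by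
  constructor
  · intro z₁ z₂ h
    obtain ⟨Y, g, q, hq, hg⟩ :=
      ((Scheme.pointSmallEtale ζ).toPresheafFiber_eq_iff' (P := P) (EtCoh.top X) (basePt ζ)
        z₁ z₂).1 h
    obtain ⟨f, hf⟩ := exists_from_top' ξ σ hσ hξ ζ Y q
    have hfg : f ≫ g = 𝟙 _ := (EtCore.topIsTerminal X).hom_ext _ _
    have h1 : ∀ z : P.obj (op (EtCoh.top X)), P.map f.op (P.map g.op z) = z := by
      intro z
      have : P.map g.op ≫ P.map f.op = 𝟙 _ := by
        rw [← P.map_comp, ← op_comp, hfg, op_id, P.map_id]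
      exact ConcreteCategory.congr_hom this z
    rw [← h1 z₁, ← h1 z₂, hg]
  · intro p
    obtain ⟨U, u, z, rfl⟩ :=
      (Scheme.pointSmallEtale ζ).toPresheafFiber_jointly_surjective (P := P) p
    obtain ⟨f, hf⟩ := exists_from_top' ξ σ hσ hξ ζ U u
    refine ⟨P.map f.op z, ?_⟩
    have hw := (Scheme.pointSmallEtale ζ).toPresheafFiber_w f (basePt ζ) P
    rw [hf] at hw
    exact ConcreteCategory.congr_hom hw z

end Sec

lemma card_stalk_congr {X : Scheme.{u}} (F : EtCoh.Ab X) {Ω : Type u} [Field Ω] [IsSepClosed Ω]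
    {ξ₁ ξ₂ : Spec (CommRingCat.of Ω) ⟶ X} (h : ξ₁ = ξ₂) :
    Nat.card ((EtCoh.stalk ξ₁).obj F) = Nat.card ((EtCoh.stalk ξ₂).obj F) := by
  subst h; rfl

/-- On the spectrum of a separably closed field all geometric stalks have the same
cardinality. -/
theorem card_stalk_spec {Ω : Type u} [Field Ω] [IsSepClosed Ω]
    (H : EtCoh.Ab (Spec (CommRingCat.of Ω)))
    {Ω' : Type u} [Field Ω'] [IsSepClosed Ω'] (ζ : Spec (CommRingCat.of Ω') ⟶ Spec (CommRingCat.of Ω)) :
    Nat.card ((EtCoh.stalk ζ).obj H) =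
      Nat.card (H.obj.obj (op (EtCoh.top (Spec (CommRingCat.of Ω))))) :=
  (Nat.card_eq_of_bijective _ (bijective_toPresheafFiber_ab (X := Spec (CommRingCat.of Ω))
    (𝟙 _) (𝟙 _) (Category.id_comp _) (Category.id_comp _) ζ H.obj)).symm

/-- The cardinality of the stalk is unchanged when the geometric point is enlarged. -/
theorem card_stalk_comp {X : Scheme.{u}} (F : EtCoh.Ab X) {Ω : Type u} [Field Ω] [IsSepClosed Ω]
    (ξ : Spec (CommRingCat.of Ω) ⟶ X) {Ω' : Type u} [Field Ω'] [IsSepClosed Ω']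
    (π : Spec (CommRingCat.of Ω') ⟶ Spec (CommRingCat.of Ω)) :
    Nat.card ((EtCoh.stalk (π ≫ ξ)).obj F) = Nat.card ((EtCoh.stalk ξ).obj F) := by
  let H := (EtCoh.pull ξ).obj F
  have e1 : Nat.card ((EtCoh.stalk (π ≫ ξ)).obj F) = Nat.card ((EtCoh.stalk π).obj H) :=
    Nat.card_congr
      ((Groth.Agent.H7.ST.stalkPullIso ξ π).app F).symm.addCommGroupIsoToAddEquiv.toEquiv
  have e2 : Nat.card ((EtCoh.stalk (𝟙 _ ≫ ξ)).obj F) =
      Nat.card ((EtCoh.stalk (𝟙 (Spec (CommRingCat.of Ω)))).obj H) :=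
    Nat.card_congr
      ((Groth.Agent.H7.ST.stalkPullIso ξ (𝟙 _)).app F).symm.addCommGroupIsoToAddEquiv.toEquiv
  rw [e1, card_stalk_spec H π, ← card_stalk_spec H (𝟙 _), ← e2]
  exact card_stalk_congr F (Category.id_comp ξ)

/-- **Independence of the geometric point**: two geometric points over the same point of `X`
have stalks of the same cardinality. -/
theorem card_stalk_eq_of_same_point {X : Scheme.{u}} (F : EtCoh.Ab X)
    {Ω₁ : Type u} [Field Ω₁] [IsSepClosed Ω₁] (ξ₁ : Spec (CommRingCat.of Ω₁) ⟶ X)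
    {Ω₂ : Type u} [Field Ω₂] [IsSepClosed Ω₂] (ξ₂ : Spec (CommRingCat.of Ω₂) ⟶ X)
    (h : ξ₁ default = ξ₂ default) :
    Nat.card ((EtCoh.stalk ξ₁).obj F) = Nat.card ((EtCoh.stalk ξ₂).obj F) := by
  obtain ⟨z, -, -⟩ := Scheme.Pullback.exists_preimage_pullback (f := ξ₁) (g := ξ₂) default default h
  obtain ⟨Ω₃, _, _, l, -⟩ := exists_geomPt z
  have hc : (l ≫ pullback.fst ξ₁ ξ₂) ≫ ξ₁ = (l ≫ pullback.snd ξ₁ ξ₂) ≫ ξ₂ := by
    rw [Category.assoc, Category.assoc, pullback.condition]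
  rw [← card_stalk_comp F ξ₁ (l ≫ pullback.fst ξ₁ ξ₂), ← card_stalk_comp F ξ₂ (l ≫ pullback.snd ξ₁ ξ₂)]
  exact card_stalk_congr F hc

end Groth.Agent.H2.GeomIndep
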