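import Mathlib
import Groth.Agent.Lib.Helper2.StalkLCB

set_option autoImplicit false
set_option linter.style.haveILetI false
set_option linter.unusedSectionVars false
universe u

open CategoryTheory CategoryTheory.Limits Opposite

namespace Groth.Agent.H2.PtSec

open Groth.Agent.H2.StalkLC

variable {C : Type (u + 1)} [Category.{u} C] {J : GrothendieckTopology C}
  (Φ : GrothendieckTopology.Point.{u} J) (P : Cᵒᵖ ⥤ AddCommGrpCat.{u + 1})

/-- The stalk, as a type. -/
abbrev Stk : Type (u + 1) := ↑(Φ.presheafFiber.obj P)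

/-- The germ map. -/
noncomputable def germ (X : C) (x : Φ.fiber.obj X) :
    P.obj (op X) →+ (Stk Φ P) :=
  (Φ.toPresheafFiber X x P).hom

lemma germ_map {X Y : C} (f : X ⟶ Y) (x : Φ.fiber.obj X) (z : P.obj (op Y)) :
    germ Φ P X x ((P.map f.op).hom z) = germ Φ P Y (Φ.fiber.map f x) z :=
  ConcreteCategory.congr_hom (Φ.toPresheafFiber_w f x P) z

lemma germ_eq_iff (X : C) (x : Φ.fiber.obj X) (z₁ z₂ : P.obj (op X)) :
    germ Φ P X x z₁ = germ Φ P X x z₂ ↔
      ∃ (Y : C) (f : Y ⟶ X) (y : Φ.fiber.obj Y), Φ.fiber.map f y = x ∧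
        (P.map f.op).hom z₁ = (P.map f.op).hom z₂ :=
  Φ.toPresheafFiber_eq_iff' (P := P) X x z₁ z₂

lemma exists_germ_eq (a : (Stk Φ P)) :
    ∃ (X : C) (x : Φ.fiber.obj X) (z : P.obj (op X)), germ Φ P X x z = a :=
  Φ.toPresheafFiber_jointly_surjective (P := P) a

/-- Finitely many germs are represented on a common neighbourhood. -/
theorem exists_rep_finset (S : Finset (Stk Φ P)) :
    ∃ (X : C) (x : Φ.fiber.obj X)
      (s : (Stk Φ P) → P.obj (op X)),
      ∀ a ∈ S, germ Φ P X x (s a) = a := by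
  classical
  induction S using Finset.induction_on with
  | empty =>
    obtain ⟨⟨X, x⟩⟩ : Nonempty Φ.fiber.Elements := IsCofiltered.nonempty
    exact ⟨X, x, fun _ => 0, fun a ha => (Finset.notMem_empty a ha).elim⟩
  | insert a S ha ih =>
    obtain ⟨X, x, s, hs⟩ := ih
    obtain ⟨Xa, xa, za, hza⟩ := exists_germ_eq Φ P a
    let m : Φ.fiber.Elements := IsCofiltered.min (⟨X, x⟩ : Φ.fiber.Elements) ⟨Xa, xa⟩
    let fL : m ⟶ (⟨X, x⟩ : Φ.fiber.Elements) := IsCofiltered.minToLeft _ _
    let fR : m ⟶ (⟨Xa, xa⟩ : Φ.fiber.Elements) := IsCofiltered.minToRight _ _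
    refine ⟨m.1, m.2, fun b => if b = a then (P.map fR.1.op).hom za
      else (P.map fL.1.op).hom (s b), ?_⟩
    intro b hb
    by_cases hba : b = a
    · subst hba
      simp only [if_true]
      rw [germ_map, fR.2]
      exact hza
    · simp only [if_neg hba]
      rw [germ_map, fL.2]
      exact hs b ((Finset.mem_insert.1 hb).resolve_left hba)

/-- **Additive section of the germ map** on a neighbourhood, for a finite stalk. -/
theorem exists_additive_section [Finite (Stk Φ P)] :
    ∃ (X : C) (x : Φ.fiber.obj X)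
      (s : (Stk Φ P) →+ P.obj (op X)),
      ∀ a, germ Φ P X x (s a) = a := by
  classical
  haveI := Fintype.ofFinite (Stk Φ P)
  obtain ⟨X, x, s₁, hs₁⟩ := exists_rep_finset Φ P Finset.univ
  have hs₁' : ∀ a, germ Φ P X x (s₁ a) = a := fun a => hs₁ a (Finset.mem_univ a)
  have key : ∀ S : Finset ((Stk Φ P) ×
      (Stk Φ P)),
      ∃ (X' : C) (h : X' ⟶ X) (x' : Φ.fiber.obj X'), Φ.fiber.map h x' = x ∧
        ∀ p ∈ S, (P.map h.op).hom (s₁ (p.1 + p.2)) =
          (P.map h.op).hom (s₁ p.1) + (P.map h.op).hom (s₁ p.2) := by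
    intro S
    induction S using Finset.induction_on with
    | empty => exact ⟨X, 𝟙 X, x, by simp, fun p hp => (Finset.notMem_empty p hp).elim⟩
    | insert p S hp ih =>
      obtain ⟨X', h, x', hx', hS⟩ := ih
      have hg : germ Φ P X' x' ((P.map h.op).hom (s₁ (p.1 + p.2))) =
          germ Φ P X' x' ((P.map h.op).hom (s₁ p.1) + (P.map h.op).hom (s₁ p.2)) := by
        rw [map_add, germ_map, germ_map, germ_map, hx', hs₁', hs₁', hs₁']
      obtain ⟨Y, f, y, hy, hf⟩ := (germ_eq_iff Φ P X' x' _ _).1 hg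
      have hcomp : ∀ z : P.obj (op X), (P.map (f ≫ h).op).hom z =
          (P.map f.op).hom ((P.map h.op).hom z) := by
        intro z
        have : P.map (f ≫ h).op = P.map h.op ≫ P.map f.op := by
          rw [op_comp, P.map_comp]
        rw [this]
        rfl
      refine ⟨Y, f ≫ h, y, ?_, ?_⟩
      · rw [Functor.map_comp_apply, hy, hx']
      · intro q hq
        rw [hcomp, hcomp, hcomp]
        rcases Finset.mem_insert.1 hq with rfl | hq'
        · rw [hf, map_add]
        · rw [hS q hq', map_add]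
  obtain ⟨X', h, x', hx', hS⟩ := key Finset.univ
  refine ⟨X', x', AddMonoidHom.mk' (fun a => (P.map h.op).hom (s₁ a))
    (fun a b => hS (a, b) (Finset.mem_univ _)), ?_⟩
  intro a
  change germ Φ P X' x' ((P.map h.op).hom (s₁ a)) = a
  rw [germ_map, hx', hs₁']

end Groth.Agent.H2.PtSec
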