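import Mathlib

set_option autoImplicit false
set_option linter.style.haveILetI false
set_option linter.unusedSectionVars false
universe u

open Topology TopologicalSpace

namespace Groth.Agent.H2.SpecTop

variable {X : Type*} [TopologicalSpace X]

/-- Opens of a prespectral space are open in the constructible topology. -/
lemma isOpen_ct_of_isOpen [PrespectralSpace X] {U : Set X} (hU : IsOpen U) :
    IsOpen[constructibleTopology X] U := by
  obtain ⟨S, hS, rfl⟩ := (PrespectralSpace.isTopologicalBasis (X := X)).open_eq_sUnion hU
  refine @isOpen_sUnion X (constructibleTopology X) S (fun V hV => ?_)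
  obtain ⟨h1, h2⟩ := hS hV
  exact h2.isOpen_constructibleTopology_of_isOpen h1

/-- Constructible sets are clopen in the constructible topology. -/
lemma isOpen_ct_of_isConstructible [CompactSpace X] {s : Set X} (hs : IsConstructible s) :
    IsOpen[constructibleTopology X] s ∧ IsOpen[constructibleTopology X] sᶜ := by
  induction hs using IsConstructible.empty_union_induction with
  | open_retrocompact U hUopen hUcomp =>
    have hc : IsCompact U := hUcomp.isCompact
    refine ⟨hc.isOpen_constructibleTopology_of_isOpen hUopen, ?_⟩
    exact IsCompact.isOpen_constructibleTopology_of_isClosed (by rwa [compl_compl])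
      hUopen.isClosed_compl
  | union s hs t ht hs' ht' =>
    refine ⟨@IsOpen.union X _ _ (constructibleTopology X) hs'.1 ht'.1, ?_⟩
    rw [Set.compl_union]
    exact @IsOpen.inter X (constructibleTopology X) _ _ hs'.2 ht'.2
  | compl s hs hs' =>
    exact ⟨hs'.2, by rw [compl_compl]; exact hs'.1⟩

/-- The identity from the constructible topology to the original topology is continuous. -/
lemma continuous_ofTopology [PrespectralSpace X] :
    Continuous (WithTopology.ofTopology : WithConstructibleTopology X → X) := by
  refine ⟨fun U hU => ?_⟩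
  rw [WithConstructibleTopology.isOpen_iff]
  exact isOpen_ct_of_isOpen hU

variable [CompactSpace X] [QuasiSober X] [PrespectralSpace X] [QuasiSeparatedSpace X]

/-- Constructible subsets of a spectral space are compact. -/
lemma isCompact_of_isConstructible {s : Set X} (hs : IsConstructible s) : IsCompact s := by
  have hcl : IsClosed ((WithTopology.ofTopology : WithConstructibleTopology X → X) ⁻¹' s) := by
    rw [WithConstructibleTopology.isClosed_iff]
    exact @IsClosed.mk X (constructibleTopology X) _ (isOpen_ct_of_isConstructible hs).2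
  have := hcl.isCompact.image (continuous_ofTopology (X := X))
  rwa [Set.image_preimage_eq _ (WithTopology.ofTopology_surjective _)] at this

/-- A cover of a spectral space by constructible subsets has a finite subcover. -/
lemma exists_finite_subcover_of_isConstructible {ι : Type*} (C : ι → Set X)
    (hC : ∀ i, IsConstructible (C i)) (hcov : (⋃ i, C i) = Set.univ) :
    ∃ t : Finset ι, (⋃ i ∈ t, C i) = Set.univ := by
  let e : WithConstructibleTopology X → X := WithTopology.ofTopology
  have hopen : ∀ i, IsOpen (e ⁻¹' C i) := by
    intro i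
    rw [WithConstructibleTopology.isOpen_iff]
    exact (isOpen_ct_of_isConstructible (hC i)).1
  obtain ⟨t, ht⟩ := isCompact_univ.elim_finite_subcover (fun i => e ⁻¹' C i) hopen (by
    intro y _
    have : e y ∈ ⋃ i, C i := hcov ▸ Set.mem_univ _
    obtain ⟨i, hi⟩ := Set.mem_iUnion.1 this
    exact Set.mem_iUnion.2 ⟨i, hi⟩)
  refine ⟨t, Set.eq_univ_of_forall (fun x => ?_)⟩
  have := ht (Set.mem_univ (WithTopology.toTopology _ x))
  obtain ⟨i, hi, hx⟩ := Set.mem_iUnion₂.1 this
  exact Set.mem_iUnion₂.2 ⟨i, hi, hx⟩

end Groth.Agent.H2.SpecTop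

namespace Groth.Agent.H2.SpecTop

variable {T X : Type*} [TopologicalSpace T] [TopologicalSpace X]

/-- A compact open subset of the source of an embedding into a prespectral space is the preimage
of a compact open. -/
lemma exists_compact_open_preimage [PrespectralSpace X] {g : T → X} (hg : IsInducing g)
    {U : Set T} (hU : IsOpen U) (hc : IsCompact U) :
    ∃ O : Set X, IsOpen O ∧ IsCompact O ∧ g ⁻¹' O = U := by
  obtain ⟨O₀, hO₀, rfl⟩ := hg.isOpen_iff.1 hU
  have key : ∀ u : ↥(g ⁻¹' O₀), ∃ V : Set X, (IsOpen V ∧ IsCompact V) ∧ g u.1 ∈ V ∧ V ⊆ O₀ := by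
    intro u
    obtain ⟨V, hV, huV, hVO⟩ := (PrespectralSpace.isTopologicalBasis (X := X)).exists_subset_of_mem_open
      u.2 hO₀
    exact ⟨V, hV, huV, hVO⟩
  choose V hV huV hVO using key
  obtain ⟨t, ht⟩ := hc.elim_finite_subcover (fun u : ↥(g ⁻¹' O₀) => g ⁻¹' V u)
    (fun u => (hV u).1.preimage hg.continuous)
    (fun x hx => Set.mem_iUnion.2 ⟨⟨x, hx⟩, huV ⟨x, hx⟩⟩)
  refine ⟨⋃ u ∈ t, V u, isOpen_biUnion (fun u _ => (hV u).1),
    t.finite_toSet.isCompact_biUnion (fun u _ => (hV u).2), ?_⟩
  apply Set.Subset.antisymm
  · intro x hx
    obtain ⟨u, -, hxu⟩ := Set.mem_iUnion₂.1 hx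
    exact hVO u hxu
  · intro x hx
    obtain ⟨u, hu, hxu⟩ := Set.mem_iUnion₂.1 (ht hx)
    exact Set.mem_iUnion₂.2 ⟨u, hu, hxu⟩

/-- The image of a constructible set under an embedding with constructible range of a compact
space into a prespectral quasi-separated space is constructible. -/
lemma isConstructible_image_of_isEmbedding [CompactSpace T] [PrespectralSpace X]
    [QuasiSeparatedSpace X] {g : T → X} (hg : IsEmbedding g)
    (hr : IsConstructible (Set.range g)) {s : Set T} (hs : IsConstructible s) :
    IsConstructible (g '' s) := by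
  induction hs using IsConstructible.empty_union_induction with
  | open_retrocompact U hUopen hUcomp =>
    obtain ⟨O, hO, hOc, rfl⟩ := exists_compact_open_preimage hg.isInducing hUopen hUcomp.isCompact
    rw [Set.image_preimage_eq_inter_range]
    exact (hOc.isConstructible hO).inter hr
  | union s hs t ht hs' ht' =>
    rw [Set.image_union]
    exact hs'.union ht'
  | compl s hs hs' =>
    rw [← Set.range_sdiff_image hg.injective]
    exact hr.sdiff hs'

end Groth.Agent.H2.SpecTop
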