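import Mathlib
import Groth.Agent.Lib.Helper2.LocConstAbA
import Groth.Agent.Lib.Helper2.LocConstC

set_option autoImplicit false
set_option linter.style.haveILetI false
set_option linter.unusedSectionVars false
universe u
open CategoryTheory CategoryTheory.Limits Opposite TopologicalSpace AlgebraicGeometry

namespace Groth.Agent.H2.LocConstAb

open Groth.Agent.H2.LCModel

section generic

variable {C : Type (u + 1)} [Category.{u} C] {J : GrothendieckTopology C} (R : TopReal J)

/-- If the presheaves of locally constant functions with values in two finite groups are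
isomorphic on a site with a point, then the groups are isomorphic. -/
theorem nonempty_addEquiv_of_iso {M N : AddCommGrpCat.{u + 1}} [Finite M] [Finite N]
    (θ : lcAbPre R M ≅ lcAbPre R N) (W : C) (w : R.pt W) : Nonempty (M ≃+ N) := by
  obtain ⟨U₁, f₁, y₁, h, -, hh⟩ := exists_local_hom R θ.hom W w
  obtain ⟨U₂, f₂, y₂, h', -, hh'⟩ := exists_local_hom R θ.inv U₁ y₁
  have e1 : ∀ s : LocallyConstant (R.pt U₂) M, app R θ.inv U₂ (app R θ.hom U₂ s) = s := by
    intro s
    have h0 : θ.hom.app (op U₂) ≫ θ.inv.app (op U₂) = 𝟙 _ := by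
      rw [← NatTrans.comp_app, θ.hom_inv_id]; rfl
    change (θ.hom.app (op U₂) ≫ θ.inv.app (op U₂)).hom s = s
    rw [h0]; rfl
  have e2 : ∀ s : LocallyConstant (R.pt U₂) N, app R θ.hom U₂ (app R θ.inv U₂ s) = s := by
    intro s
    have h0 : θ.inv.app (op U₂) ≫ θ.hom.app (op U₂) = 𝟙 _ := by
      rw [← NatTrans.comp_app, θ.inv_hom_id]; rfl
    change (θ.inv.app (op U₂) ≫ θ.hom.app (op U₂)).hom s = s
    rw [h0]; rfl
  refine ⟨{ toFun := h, invFun := h', left_inv := ?_, right_inv := ?_, map_add' := h.map_add }⟩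
  · intro m
    have h1 := congrArg (fun s : LocallyConstant (R.pt U₂) M => s y₂)
      (e1 (LocallyConstant.const _ m))
    rw [hh' U₂ (𝟙 _), hh U₂ f₂] at h1
    exact h1
  · intro n
    have h1 := congrArg (fun s : LocallyConstant (R.pt U₂) N => s y₂)
      (e2 (LocallyConstant.const _ n))
    rw [hh U₂ f₂, hh' U₂ (𝟙 _)] at h1
    exact h1

end generic

variable {X : Scheme.{u}}

open Groth.Agent.H2.LocConst

set_option backward.isDefEq.respectTransparency.types false in
/-- Two trivializations of a sheaf at étale neighbourhoods of the same point have isomorphic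
value groups. -/
theorem nonempty_addEquiv_of_common_point (F : EtCoh.Ab X) (A B : X.Etale)
    (M N : AddCommGrpCat.{u + 1}) [Finite M] [Finite N]
    (αA : EtCoh.restr F A ≅ (constantSheaf (X.smallEtaleTopology.over A)
      AddCommGrpCat.{u + 1}).obj M)
    (αB : EtCoh.restr F B ≅ (constantSheaf (X.smallEtaleTopology.over B)
      AddCommGrpCat.{u + 1}).obj N)
    (a : ↥A.left) (b : ↥B.left) (hab : A.hom a = B.hom b) : Nonempty (M ≃+ N) := by
  let W₀ := prodObj A B
  obtain ⟨w₀, -, -⟩ := exists_point_prod A B a b hab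
  let eA : Triv (etReal X) F.obj W₀ M := (Triv.ofIso αA).restrict (prodFst A B)
  let eB : Triv (etReal X) F.obj W₀ N := (Triv.ofIso αB).restrict (prodSnd A B)
  exact nonempty_addEquiv_of_iso ((etReal X).over W₀) (eA.symm ≪≫ eB) (Over.mk (𝟙 W₀)) w₀

end Groth.Agent.H2.LocConstAb
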