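import Mathlib
import Groth.Agent.Lib.Helper2.LocConstAbB
import Groth.Prelude.Def_EtRestW

set_option autoImplicit false
set_option linter.style.haveILetI false
set_option linter.unusedSectionVars false
universe u
open CategoryTheory CategoryTheory.Limits Opposite TopologicalSpace AlgebraicGeometry

namespace Groth.Agent.H2.LocConstAb

open Groth.Agent.H2.LCModel Groth.Agent.H2.LocConst

variable {X : Scheme.{u}}


set_option backward.isDefEq.respectTransparency.types false in
set_option maxHeartbeats 800000 in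
/-- Local structure of a morphism of trivialized sheaves. -/
theorem exists_local_of_triv {F G : EtCoh.Ab X} (φ : F ⟶ G) (W₀ : X.Etale)
    (M N : AddCommGrpCat.{u + 1}) [Finite M]
    (eF : Triv (etReal X) F.obj W₀ M) (eG : Triv (etReal X) G.obj W₀ N) (w₀ : ↥W₀.left) :
    ∃ (U : X.Etale) (y : ↥U.left) (f : U ⟶ W₀) (h : M ⟶ N), f.left y = w₀ ∧
      Functor.whiskerLeft (Over.forget U).op φ.hom ≫ (eG.restrict f).hom =
        (eF.restrict f).hom ≫ lcAbMap ((etReal X).over U) h := by
  let R := etReal X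
  let θ : lcAbPre (R.over W₀) M ⟶ lcAbPre (R.over W₀) N :=
    eF.inv ≫ Functor.whiskerLeft (Over.forget W₀).op φ.hom ≫ eG.hom
  obtain ⟨U', f, y, h, hy, hθ⟩ := exists_local_hom (R.over W₀) θ (Over.mk (𝟙 W₀)) w₀
  have hfl : f.left = U'.hom := by
    have := Over.w f
    simpa using this
  refine ⟨U'.left, y, U'.hom, AddCommGrpCat.ofHom h, ?_, ?_⟩
  · rw [← hfl]; exact hy
  · ext V' : 2
    -- the object of `Over W₀` attached to `V'`
    let Z : Over W₀ := (Over.map U'.hom).obj V'.unop
    let g : Z ⟶ U' := Over.homMk V'.unop.hom rfl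
    have key : θ.app (op Z) = ((lcAbMap (R.over W₀) (AddCommGrpCat.ofHom h)).app (op Z)) := by
      ext s : 2
      apply LocallyConstant.ext
      intro v
      exact hθ Z g s v
    have hθZ : θ.app (op Z) = eF.inv.app (op Z) ≫ φ.hom.app (op Z.left) ≫ eG.hom.app (op Z) := rfl
    have e1 : (Functor.whiskerLeft (Over.forget U'.left).op φ.hom ≫ (eG.restrict U'.hom).hom).app V' =
        φ.hom.app (op Z.left) ≫ eG.hom.app (op Z) := rfl
    have e2 : ((eF.restrict U'.hom).hom ≫ lcAbMap (R.over U'.left) (AddCommGrpCat.ofHom h)).app V' =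
        eF.hom.app (op Z) ≫ (lcAbMap (R.over W₀) (AddCommGrpCat.ofHom h)).app (op Z) := rfl
    rw [e1, e2, ← key, hθZ]
    have e3 : eF.hom.app (op Z) ≫ eF.inv.app (op Z) = 𝟙 _ := by
      rw [← NatTrans.comp_app, eF.hom_inv_id]; rfl
    rw [reassoc_of% e3]
    rfl

end Groth.Agent.H2.LocConstAb
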