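import Mathlib
import Groth.Agent.Lib.Helper2.LocConstAbD

set_option autoImplicit false
set_option linter.style.haveILetI false
set_option linter.unusedSectionVars false
universe u
open CategoryTheory CategoryTheory.Limits Opposite TopologicalSpace AlgebraicGeometry

namespace Groth.Agent.H2.LocConstAb

open Groth.Agent.H2.LCModel Groth.Agent.H2.LocConst

section generic

variable {C : Type (u + 1)} [Category.{u} C] {J : GrothendieckTopology C} {R : TopReal J}
variable [HasWeakSheafify J AddCommGrpCat.{u + 1}] [J.WEqualsLocallyBijective AddCommGrpCat.{u + 1}]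

/-- A morphism of trivialized sheaves which is induced by a group homomorphism corresponds to the
map of constant sheaves. -/
theorem Triv.toIso_comm {F G : Sheaf J AddCommGrpCat.{u + 1}} (φ : F ⟶ G) {U : C}
    {M N : AddCommGrpCat.{u + 1}}
    [HasWeakSheafify (J.over U) AddCommGrpCat.{u + 1}]
    [(J.over U).WEqualsLocallyBijective AddCommGrpCat.{u + 1}]
    (eF : Triv R F.obj U M) (eG : Triv R G.obj U N) (h : M ⟶ N)
    (heq : Functor.whiskerLeft (Over.forget U).op φ.hom ≫ eG.hom =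
      eF.hom ≫ lcAbMap (R.over U) h) :
    (J.overPullback AddCommGrpCat.{u + 1} U).map φ ≫ eG.toIso.hom =
      eF.toIso.hom ≫ (constantSheaf (J.over U) AddCommGrpCat.{u + 1}).map h := by
  let DM := lcAb (R.over U) M
  let DN := lcAb (R.over U) N
  have hnat : DM.iso.inv ≫ (constantSheaf (J.over U) AddCommGrpCat.{u + 1}).map h =
      (⟨lcAbMap (R.over U) h⟩ : DM.sheaf ⟶ DN.sheaf) ≫ DN.iso.inv := by
    have h1 := toSheaf_naturality DM DN h (lcAbMap (R.over U) h) (lcAb_hψ (R.over U) h)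
    rw [Iso.inv_comp_eq, ← Category.assoc, Iso.eq_comp_inv]
    exact h1
  let aF : F.over U ⟶ DM.sheaf := ⟨eF.hom⟩
  let aG : G.over U ⟶ DN.sheaf := ⟨eG.hom⟩
  have e1 : eF.toIso.hom = aF ≫ DM.iso.inv := rfl
  have e2 : eG.toIso.hom = aG ≫ DN.iso.inv := rfl
  have e3 : (J.overPullback AddCommGrpCat.{u + 1} U).map φ ≫ aG =
      aF ≫ (⟨lcAbMap (R.over U) h⟩ : DM.sheaf ⟶ DN.sheaf) := by
    apply Sheaf.hom_ext
    exact heq
  rw [e1, e2, Category.assoc, hnat, ← Category.assoc, ← Category.assoc, e3]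

end generic

variable {X : Scheme.{u}}

set_option backward.isDefEq.respectTransparency.types false in
theorem S6647_point (F G : EtCoh.Ab X) (φ : F ⟶ G) (hF : EtCoh.IsFiniteLocallyConstant F)
    (hG : EtRest.IsLocallyConstant G) (x : ↥X) :
    ∃ (U : X.Etale) (_ : ∃ y : ↥U.left, U.hom y = x),
      ∃ (M N : Type (u + 1)) (_ : AddCommGroup M) (_ : AddCommGroup N) (h : M →+ N)
      (α : EtCoh.restr F U ≅ (constantSheaf (X.smallEtaleTopology.over U)
        AddCommGrpCat.{u + 1}).obj (AddCommGrpCat.of M))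
      (β : EtCoh.restr G U ≅ (constantSheaf (X.smallEtaleTopology.over U)
        AddCommGrpCat.{u + 1}).obj (AddCommGrpCat.of N)),
      (X.smallEtaleTopology.overPullback AddCommGrpCat.{u + 1} U).map φ ≫ β.hom =
        α.hom ≫ (constantSheaf (X.smallEtaleTopology.over U) AddCommGrpCat.{u + 1}).map
          (AddCommGrpCat.ofHom h) := by
  obtain ⟨ιF, A, hA, hAtriv⟩ := hF
  obtain ⟨ιG, B, hB, hBtriv⟩ := hG
  obtain ⟨j, a, ha⟩ := hA x
  obtain ⟨k, b, hb⟩ := hB x
  obtain ⟨M, iM1, iM2, ⟨αF⟩⟩ := hAtriv j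
  obtain ⟨N, iN1, ⟨βG⟩⟩ := hBtriv k
  let W₀ := prodObj (A j) (B k)
  obtain ⟨w₀, hw1, hw2⟩ := exists_point_prod (A j) (B k) a b (ha.trans hb.symm)
  let eF : Triv (etReal X) F.obj W₀ (AddCommGrpCat.of (ULift.{u + 1} M)) :=
    (Triv.ofIso αF).restrict (prodFst (A j) (B k))
  let eG : Triv (etReal X) G.obj W₀ (AddCommGrpCat.of N) :=
    (Triv.ofIso βG).restrict (prodSnd (A j) (B k))
  obtain ⟨U, y, f, h, hy, heq⟩ := exists_local_of_triv φ W₀ (AddCommGrpCat.of (ULift.{u + 1} M))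
    (AddCommGrpCat.of N) eF eG w₀
  refine ⟨U, ⟨y, ?_⟩, ULift.{u + 1} M, N, inferInstance, iN1, h.hom, (eF.restrict f).toIso,
    (eG.restrict f).toIso, ?_⟩
  · have h1 : U.hom = f.left ≫ W₀.hom := (MorphismProperty.Over.w f).symm
    have h2 : W₀.hom = (prodFst (A j) (B k)).left ≫ (A j).hom :=
      (MorphismProperty.Over.w (prodFst (A j) (B k))).symm
    rw [h1, h2, Scheme.Hom.comp_apply, Scheme.Hom.comp_apply, hy, hw1]
    exact ha
  · exact Triv.toIso_comm φ (eF.restrict f) (eG.restrict f) h heq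

end Groth.Agent.H2.LocConstAb
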