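import Mathlib
import Groth.Agent.Lib.Helper2.LocConstAbE

set_option autoImplicit false
set_option linter.style.haveILetI false
set_option linter.unusedSectionVars false
universe u
open CategoryTheory CategoryTheory.Limits Opposite TopologicalSpace AlgebraicGeometry

namespace Groth.Agent.H2.SerreAb

open Groth.Agent.H2.LCModel Groth.Agent.H2.LocConstAb Groth.Agent.H2.LocConst

/-- A finite abelian group in a large universe has a model in `Type`. -/
lemma exists_small_model (E : Type (u + 1)) [AddCommGroup E] [Finite E] :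
    ∃ (E₀ : Type) (_ : AddCommGroup E₀) (_ : Finite E₀), Nonempty (ULift.{u + 1} E₀ ≃+ E) := by
  haveI : Small.{0} E := Countable.toSmall _
  exact ⟨Shrink.{0, u+1} E, inferInstance, Finite.of_equiv E (equivShrink.{0} E),
    ⟨AddEquiv.ulift.trans (Shrink.addEquiv.{0} (α := E))⟩⟩

variable {X : Scheme.{u}}

noncomputable instance overPullback_preservesFiniteColimits (U : X.Etale) :
    PreservesFiniteColimits (X.smallEtaleTopology.overPullback AddCommGrpCat.{u + 1} U) := by
  have adj := (Over.forget U).sheafAdjunctionCocontinuous AddCommGrpCat.{u + 1}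
    (X.smallEtaleTopology.over U) X.smallEtaleTopology
  haveI := adj.leftAdjoint_preservesColimits
  infer_instance

noncomputable instance const_preservesFiniteLimits (U : X.Etale) : PreservesFiniteLimits
    (constantSheaf (X.smallEtaleTopology.over U) AddCommGrpCat.{u + 1}) :=
  inferInstanceAs (PreservesFiniteLimits (Functor.const _ ⋙ presheafToSheaf _ _))

noncomputable instance const_preservesFiniteColimits (U : X.Etale) : PreservesFiniteColimits
    (constantSheaf (X.smallEtaleTopology.over U) AddCommGrpCat.{u + 1}) :=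
  inferInstanceAs (PreservesFiniteColimits (Functor.const _ ⋙ presheafToSheaf _ _))

instance overPullback_additive (U : X.Etale) :
    (X.smallEtaleTopology.overPullback AddCommGrpCat.{u + 1} U).Additive where

instance const_additive (U : X.Etale) :
    (constantSheaf (X.smallEtaleTopology.over U) AddCommGrpCat.{u + 1}).Additive := by
  haveI := preservesBinaryBiproducts_of_preservesBinaryCoproducts
    (constantSheaf (X.smallEtaleTopology.over U) AddCommGrpCat.{u + 1})
  exact Functor.additive_of_preservesBinaryBiproducts _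

set_option backward.isDefEq.respectTransparency.types false in
/-- Local structure of a morphism of finite locally constant sheaves. -/
theorem point_fin (F G : EtCoh.Ab X) (φ : F ⟶ G) (hF : EtCoh.IsFiniteLocallyConstant F)
    (hG : EtCoh.IsFiniteLocallyConstant G) (x : ↥X) :
    ∃ (U : X.Etale) (_ : ∃ y : ↥U.left, U.hom y = x),
      ∃ (M N : Type (u + 1)) (_ : AddCommGroup M) (_ : AddCommGroup N) (_ : Finite M)
      (_ : Finite N) (h : M →+ N)
      (α : EtCoh.restr F U ≅ (constantSheaf (X.smallEtaleTopology.over U)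
        AddCommGrpCat.{u + 1}).obj (AddCommGrpCat.of M))
      (β : EtCoh.restr G U ≅ (constantSheaf (X.smallEtaleTopology.over U)
        AddCommGrpCat.{u + 1}).obj (AddCommGrpCat.of N)),
      (X.smallEtaleTopology.overPullback AddCommGrpCat.{u + 1} U).map φ ≫ β.hom =
        α.hom ≫ (constantSheaf (X.smallEtaleTopology.over U) AddCommGrpCat.{u + 1}).map
          (AddCommGrpCat.ofHom h) := by
  obtain ⟨ιF, A, hA, hAtriv⟩ := hF
  obtain ⟨ιG, B, hB, hBtriv⟩ := hG
  obtain ⟨j, a, ha⟩ := hA x
  obtain ⟨k, b, hb⟩ := hB x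
  obtain ⟨M, iM1, iM2, ⟨αF⟩⟩ := hAtriv j
  obtain ⟨N, iN1, iN2, ⟨βG⟩⟩ := hBtriv k
  let W₀ := prodObj (A j) (B k)
  obtain ⟨w₀, hw1, hw2⟩ := exists_point_prod (A j) (B k) a b (ha.trans hb.symm)
  let eF : Triv (etReal X) F.obj W₀ (AddCommGrpCat.of (ULift.{u + 1} M)) :=
    (Triv.ofIso αF).restrict (prodFst (A j) (B k))
  let eG : Triv (etReal X) G.obj W₀ (AddCommGrpCat.of (ULift.{u + 1} N)) :=
    (Triv.ofIso βG).restrict (prodSnd (A j) (B k))
  obtain ⟨U, y, f, h, hy, heq⟩ := exists_local_of_triv φ W₀ (AddCommGrpCat.of (ULift.{u + 1} M))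
    (AddCommGrpCat.of (ULift.{u + 1} N)) eF eG w₀
  refine ⟨U, ⟨y, ?_⟩, ULift.{u + 1} M, ULift.{u + 1} N, inferInstance, inferInstance,
    inferInstance, inferInstance, h.hom, (eF.restrict f).toIso, (eG.restrict f).toIso, ?_⟩
  · have h1 : U.hom = f.left ≫ W₀.hom := (MorphismProperty.Over.w f).symm
    have h2 : W₀.hom = (prodFst (A j) (B k)).left ≫ (A j).hom :=
      (MorphismProperty.Over.w (prodFst (A j) (B k))).symm
    rw [h1, h2, Scheme.Hom.comp_apply, Scheme.Hom.comp_apply, hy, hw1]
    exact ha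
  · exact Triv.toIso_comm φ (eF.restrict f) (eG.restrict f) h heq

theorem kernel_cokernel (F G : EtCoh.Ab X) (φ : F ⟶ G)
    (hF : EtCoh.IsFiniteLocallyConstant F) (hG : EtCoh.IsFiniteLocallyConstant G) :
    EtCoh.IsFiniteLocallyConstant (kernel φ) ∧ EtCoh.IsFiniteLocallyConstant (cokernel φ) := by
  have hp := point_fin F G φ hF hG
  choose U hU M N iM iN iM2 iN2 h α β hcomm using hp
  have hcov : EtCoh.Covers U := by
    intro x
    obtain ⟨y, hy⟩ := hU x
    exact ⟨x, y, hy⟩
  constructor
  · refine ⟨↥X, U, hcov, fun x => ?_⟩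
    let r := X.smallEtaleTopology.overPullback AddCommGrpCat.{u + 1} (U x)
    let c := constantSheaf (X.smallEtaleTopology.over (U x)) AddCommGrpCat.{u + 1}
    obtain ⟨E₀, i1, i2, ⟨e⟩⟩ := exists_small_model.{u} ↥(h x).ker
    refine ⟨E₀, i1, i2, ⟨?_⟩⟩
    exact PreservesKernel.iso r φ ≪≫
      kernel.mapIso (r.map φ) (c.map (AddCommGrpCat.ofHom (h x))) (α x) (β x) (hcomm x) ≪≫
      (PreservesKernel.iso c (AddCommGrpCat.ofHom (h x))).symm ≪≫
      c.mapIso (AddCommGrpCat.kernelIsoKer (AddCommGrpCat.ofHom (h x)) ≪≫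
        e.symm.toAddCommGrpIso)
  · refine ⟨↥X, U, hcov, fun x => ?_⟩
    let r := X.smallEtaleTopology.overPullback AddCommGrpCat.{u + 1} (U x)
    let c := constantSheaf (X.smallEtaleTopology.over (U x)) AddCommGrpCat.{u + 1}
    obtain ⟨E₀, i1, i2, ⟨e⟩⟩ := exists_small_model.{u} ((N x) ⧸ (h x).range)
    refine ⟨E₀, i1, i2, ⟨?_⟩⟩
    exact PreservesCokernel.iso r φ ≪≫
      cokernel.mapIso (r.map φ) (c.map (AddCommGrpCat.ofHom (h x))) (α x) (β x) (hcomm x) ≪≫
      (PreservesCokernel.iso c (AddCommGrpCat.ofHom (h x))).symm ≪≫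
      c.mapIso (AddCommGrpCat.cokernelIsoQuotient (AddCommGrpCat.ofHom (h x)) ≪≫
        e.symm.toAddCommGrpIso)

end Groth.Agent.H2.SerreAb
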