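import Mathlib
import Groth.Agent.Lib.Helper2.SerreAbC
import Groth.Agent.Lib.Helper2.LocConstAbA

set_option autoImplicit false
set_option linter.style.haveILetI false
set_option linter.unusedSectionVars false
universe u
open CategoryTheory CategoryTheory.Limits Opposite TopologicalSpace

namespace Groth.Agent.H2.SerreAb

open Groth.Agent.H2.LCModel Groth.Agent.H2.LocConstAb

variable {C : Type (u + 1)} [Category.{u} C] {J : GrothendieckTopology C} {R : TopReal J}

set_option backward.isDefEq.respectTransparency.types false in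
/-- The section-level form of a trivialization. -/
noncomputable def sec {P : Cᵒᵖ ⥤ AddCommGrpCat.{u + 1}} {U : C} {M : AddCommGrpCat.{u + 1}}
    (e : Triv R P U M) {V : C} (f : V ⟶ U) :
    P.obj (op V) ≃+ LocallyConstant (R.pt V) M :=
  (e.app (op (Over.mk f))).addCommGroupIsoToAddEquiv

set_option backward.isDefEq.respectTransparency.types false in
lemma sec_map {P : Cᵒᵖ ⥤ AddCommGrpCat.{u + 1}} {U : C} {M : AddCommGrpCat.{u + 1}}
    (e : Triv R P U M) {V V' : C} (f : V ⟶ U) (k : V' ⟶ V) (s : P.obj (op V)) :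
    sec e (k ≫ f) ((P.map k.op).hom s) = (sec e f s).comap (R.cmap k) := by
  have h := e.hom.naturality (Over.homMk k rfl : Over.mk (k ≫ f) ⟶ Over.mk f).op
  have h2 := congrArg (fun t => t.hom s) h
  exact h2

set_option backward.isDefEq.respectTransparency.types false in
lemma sec_restrict {P : Cᵒᵖ ⥤ AddCommGrpCat.{u + 1}} {U : C} {M : AddCommGrpCat.{u + 1}}
    (e : Triv R P U M) {W V : C} (f : W ⟶ U) (g : V ⟶ W) (s : P.obj (op V)) :
    sec (e.restrict f) g s = sec e (g ≫ f) s := rfl


variable [HasSheafify J AddCommGrpCat.{u + 1}] [J.WEqualsLocallyBijective AddCommGrpCat.{u + 1}]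

set_option backward.isDefEq.respectTransparency.types false in
lemma fn_toIso_hom {F : Sheaf J AddCommGrpCat.{u + 1}} {U : C} {M : AddCommGrpCat.{u + 1}}
    [HasSheafify (J.over U) AddCommGrpCat.{u + 1}]
    [(J.over U).WEqualsLocallyBijective AddCommGrpCat.{u + 1}]
    (e : Triv R F.obj U M) (z : F.obj.obj (op U)) :
    (lcAb (R.over U) M).fn ((e.toIso.hom.hom.app (op (Over.mk (𝟙 U)))).hom z) =
      sec e (𝟙 U) z := by
  let D := lcAb (R.over U) M
  have h1 : D.iso.inv ≫ D.toSheaf = 𝟙 _ := D.iso.inv_hom_id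
  have h2 := congrArg (fun w : D.sheaf ⟶ D.sheaf =>
    (w.hom.app (op (Over.mk (𝟙 U)))).hom ((e.hom.app (op (Over.mk (𝟙 U)))).hom z)) h1
  exact h2

set_option backward.isDefEq.respectTransparency.types false in
lemma toIso_inv_un {F : Sheaf J AddCommGrpCat.{u + 1}} {U : C} {M : AddCommGrpCat.{u + 1}}
    [HasSheafify (J.over U) AddCommGrpCat.{u + 1}]
    [(J.over U).WEqualsLocallyBijective AddCommGrpCat.{u + 1}]
    (e : Triv R F.obj U M) (d : M) :
    (e.toIso.inv.hom.app (op (Over.mk (𝟙 U)))).hom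
      (un (J := J.over U) Over.mkIdTerminal M d) =
      (sec e (𝟙 U)).symm (LocallyConstant.const _ d) := by
  let D := lcAb (R.over U) M
  have h1 := fn_un (R.over U) (Over.mkIdTerminal (X := U)) M d
  change (e.inv.app (op (Over.mk (𝟙 U)))).hom
    (D.fn (un (J := J.over U) Over.mkIdTerminal M d)) = _
  rw [h1]
  rfl

end Groth.Agent.H2.SerreAb
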