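import Mathlib
import Groth.Agent.Lib.Helper2.LCModelF

set_option autoImplicit false
set_option linter.style.haveILetI false
set_option linter.unusedSectionVars false
universe u
open CategoryTheory CategoryTheory.Limits Opposite TopologicalSpace

namespace Groth.Agent.H2.Serre

open Groth.Agent.H2.LCModel

variable {C : Type (u + 1)} [Category.{u} C] {J : GrothendieckTopology C} (R : TopReal J)
variable (Λ : Type (u + 1)) [CommRing Λ]
variable [HasSheafify J (ModuleCat.{u + 1} Λ)] [J.WEqualsLocallyBijective (ModuleCat.{u + 1} Λ)]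
variable {T : C} (hT : IsTerminal T)

/-- The constant section with value `m` over the terminal object. -/
noncomputable def un (M : ModuleCat.{u + 1} Λ) (m : M) :
    ((constantSheaf J (ModuleCat.{u + 1} Λ)).obj M).obj.obj (op T) :=
  ((constantSheafAdj J (ModuleCat.{u + 1} Λ) hT).unit.app M).hom m

lemma un_eq (M : ModuleCat.{u + 1} Λ) (m : M) :
    un Λ hT M m = ((toSheafify J ((Functor.const Cᵒᵖ).obj M)).app (op T)).hom m := by
  unfold un
  have : (constantSheafAdj J (ModuleCat.{u + 1} Λ) hT).unit.app M =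
      (toSheafify J ((Functor.const Cᵒᵖ).obj M)).app (op T) := by
    simp [constantSheafAdj, Adjunction.comp_unit_app]
  rw [this]
  rfl

lemma fn_un (M : ModuleCat.{u + 1} Λ) (m : M) :
    (lcMod R Λ M).fn (un Λ hT M m) = LocallyConstant.const _ m := by
  rw [un_eq]
  unfold LCData.fn
  have h := congrArg (fun t => (t.app (op T)).hom m) (lcMod R Λ M).toSheafify_toSheaf
  exact h


/-- Morphisms out of a constant sheaf are determined by their values on constant sections over
the terminal object. -/
lemma hom_ext_un {M : ModuleCat.{u + 1} Λ} {G : Sheaf J (ModuleCat.{u + 1} Λ)}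
    (f g : (constantSheaf J (ModuleCat.{u + 1} Λ)).obj M ⟶ G)
    (h : ∀ m : M, (f.hom.app (op T)).hom (un Λ hT M m) = (g.hom.app (op T)).hom (un Λ hT M m)) :
    f = g := by
  apply ((constantSheafAdj J (ModuleCat.{u + 1} Λ) hT).homEquiv M G).injective
  rw [Adjunction.homEquiv_unit, Adjunction.homEquiv_unit]
  ext m
  exact h m

/-- The morphism out of a constant sheaf attached to a linear map into global sections. -/
noncomputable def lift {M : ModuleCat.{u + 1} Λ} {G : Sheaf J (ModuleCat.{u + 1} Λ)}
    (ℓ : M ⟶ G.obj.obj (op T)) : (constantSheaf J (ModuleCat.{u + 1} Λ)).obj M ⟶ G :=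
  ((constantSheafAdj J (ModuleCat.{u + 1} Λ) hT).homEquiv M G).symm ℓ

lemma lift_un {M : ModuleCat.{u + 1} Λ} {G : Sheaf J (ModuleCat.{u + 1} Λ)}
    (ℓ : M ⟶ G.obj.obj (op T)) (m : M) :
    ((lift Λ hT ℓ).hom.app (op T)).hom (un Λ hT M m) = ℓ.hom m := by
  have h := ((constantSheafAdj J (ModuleCat.{u + 1} Λ) hT).homEquiv M G).apply_symm_apply ℓ
  rw [Adjunction.homEquiv_unit] at h
  have h2 := congrArg (fun t : M ⟶ G.obj.obj (op T) => t.hom m) h
  exact h2

lemma map_un {M N : ModuleCat.{u + 1} Λ} (h : M ⟶ N) (m : M) :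
    (((constantSheaf J (ModuleCat.{u + 1} Λ)).map h).hom.app (op T)).hom (un Λ hT M m) =
      un Λ hT N (h.hom m) := by
  have h1 := (constantSheafAdj J (ModuleCat.{u + 1} Λ) hT).unit.naturality h
  have h2 := congrArg (fun t : M ⟶ _ => t.hom m) h1
  exact h2.symm

end Groth.Agent.H2.Serre
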