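import Mathlib
import Groth.Agent.Lib.Helper2.SerreB

set_option autoImplicit false
set_option linter.style.haveILetI false
set_option linter.unusedSectionVars false
universe u
open CategoryTheory CategoryTheory.Limits Opposite TopologicalSpace

namespace Groth.Agent.H2.Serre

open Groth.Agent.H2.LCModel

variable {C : Type (u + 1)} [Category.{u} C] {J : GrothendieckTopology C}
variable (Λ : Type (u + 1)) [CommRing Λ]
variable [HasSheafify J (ModuleCat.{u + 1} Λ)]

noncomputable instance sections_preservesLimits (V : C) :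
    PreservesLimits ((sheafSections J (ModuleCat.{u + 1} Λ)).obj (op V)) :=
  inferInstanceAs (PreservesLimits (sheafToPresheaf J (ModuleCat.{u + 1} Λ) ⋙
    (evaluation Cᵒᵖ (ModuleCat.{u + 1} Λ)).obj (op V)))

instance sections_additive (V : C) :
    ((sheafSections J (ModuleCat.{u + 1} Λ)).obj (op V)).Additive where

noncomputable instance cst_preservesFiniteLimits : PreservesFiniteLimits
    (constantSheaf J (ModuleCat.{u + 1} Λ)) :=
  inferInstanceAs (PreservesFiniteLimits (Functor.const _ ⋙ presheafToSheaf _ _))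

noncomputable instance cst_preservesFiniteColimits : PreservesFiniteColimits
    (constantSheaf J (ModuleCat.{u + 1} Λ)) :=
  inferInstanceAs (PreservesFiniteColimits (Functor.const _ ⋙ presheafToSheaf _ _))

instance cst_additive : (constantSheaf J (ModuleCat.{u + 1} Λ)).Additive := by
  haveI := preservesBinaryBiproducts_of_preservesBinaryCoproducts
    (constantSheaf J (ModuleCat.{u + 1} Λ))
  exact Functor.additive_of_preservesBinaryBiproducts _

variable {Λ}

/-- Monomorphisms of sheaves of modules are injective on sections. -/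
lemma injective_of_mono_sec {F G : Sheaf J (ModuleCat.{u + 1} Λ)} (a : F ⟶ G) [Mono a] (V : C) :
    Function.Injective (a.hom.app (op V)).hom := by
  haveI : Mono a.hom := inferInstance
  haveI : Mono (a.hom.app (op V)) := (NatTrans.mono_iff_mono_app a.hom).1 inferInstance (op V)
  exact (ModuleCat.mono_iff_injective _).1 inferInstance

/-- Exactness on sections in the middle of a short exact sequence of sheaves. -/
lemma exists_of_shortExact {S : ShortComplex (Sheaf J (ModuleCat.{u + 1} Λ))} (hS : S.ShortExact)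
    (V : C) (t : S.X₂.obj.obj (op V)) (ht : (S.g.hom.app (op V)).hom t = 0) :
    ∃ t' : S.X₁.obj.obj (op V), (S.f.hom.app (op V)).hom t' = t := by
  have := hS.mono_f
  have h := hS.exact.map_of_mono_of_preservesKernel
    ((sheafSections J (ModuleCat.{u + 1} Λ)).obj (op V)) inferInstance inferInstance
  exact (ShortComplex.moduleCat_exact_iff _).1 h t ht


variable (R : TopReal J) [J.WEqualsLocallyBijective (ModuleCat.{u + 1} Λ)]
variable {T : C} (hT : IsTerminal T)

set_option maxHeartbeats 1600000 in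
/-- **Extensions of constant sheaves** which admit lifts of generators over the terminal object
with constant relation sections are constant. -/
theorem extension_const (y : R.pt T)
    (S : ShortComplex (Sheaf J (ModuleCat.{u + 1} Λ))) (hS : S.ShortExact)
    (M' M'' : ModuleCat.{u + 1} Λ) [Module.Finite Λ M']
    (a' : S.X₁ ≅ (constantSheaf J (ModuleCat.{u + 1} Λ)).obj M')
    (a'' : S.X₃ ≅ (constantSheaf J (ModuleCat.{u + 1} Λ)).obj M'')
    (n : ℕ) (m : Fin n → M'') (hm : Submodule.span Λ (Set.range m) = ⊤)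
    (e : Fin n → S.X₂.obj.obj (op T))
    (he : ∀ i, (a''.hom.hom.app (op T)).hom ((S.g.hom.app (op T)).hom (e i)) = un Λ hT M'' (m i))
    (hrel : ∀ ρ : Fin n → Λ, ∑ i, ρ i • m i = 0 → ∃ d : M',
      ∑ i, ρ i • e i = (S.f.hom.app (op T)).hom ((a'.inv.hom.app (op T)).hom (un Λ hT M' d))) :
    ∃ (E : Type (u + 1)) (_ : AddCommGroup E) (_ : Module Λ E) (_ : Module.Finite Λ E),
      Nonempty (S.X₂ ≅ (constantSheaf J (ModuleCat.{u + 1} Λ)).obj (ModuleCat.of Λ E)) := by
  classical
  have := hS.mono_f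
  have := hS.epi_g
  let D'' := lcMod R Λ M''
  let D' := lcMod R Λ M'
  -- the linear map `ι : M' → Γ(T, X₂)`
  let unL : ∀ N : ModuleCat.{u + 1} Λ, N →ₗ[Λ]
      ((constantSheaf J (ModuleCat.{u + 1} Λ)).obj N).obj.obj (op T) := fun N =>
    ((constantSheafAdj J (ModuleCat.{u + 1} Λ) hT).unit.app N).hom
  have unL_apply : ∀ (N : ModuleCat.{u + 1} Λ) (x : N), unL N x = un Λ hT N x := fun _ _ => rfl
  let ι : M' →ₗ[Λ] S.X₂.obj.obj (op T) :=
    (S.f.hom.app (op T)).hom ∘ₗ (a'.inv.hom.app (op T)).hom ∘ₗ unL M'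
  have ι_apply : ∀ d, ι d = (S.f.hom.app (op T)).hom ((a'.inv.hom.app (op T)).hom (un Λ hT M' d)) :=
    fun _ => rfl
  let E : Submodule Λ (S.X₂.obj.obj (op T)) := LinearMap.range ι ⊔ Submodule.span Λ (Set.range e)
  haveI hEfin : Module.Finite Λ E := by
    apply Module.Finite.of_fg
    apply Submodule.FG.sup
    · rw [LinearMap.range_eq_map]
      exact Submodule.FG.map _ Module.Finite.fg_top
    · exact Submodule.fg_span (Set.finite_range e)
  -- `q : Γ(T, X₂) → LC(|T|, M'')`
  let q : S.X₂.obj.obj (op T) →ₗ[Λ] LocallyConstant (R.pt T) M'' :=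
    lcModFn R Λ M'' T ∘ₗ (a''.hom.hom.app (op T)).hom ∘ₗ (S.g.hom.app (op T)).hom
  let π₀ : S.X₂.obj.obj (op T) →ₗ[Λ] M'' := LocallyConstant.evalₗ Λ y ∘ₗ q
  have hgf : ∀ t, (S.g.hom.app (op T)).hom ((S.f.hom.app (op T)).hom t) = 0 := by
    intro t
    have h0 : S.f ≫ S.g = 0 := S.zero
    have h1 := congrArg (fun w : S.X₁ ⟶ S.X₃ => (w.hom.app (op T)).hom t) h0
    exact h1
  have hqι : ∀ d, q (ι d) = 0 := by
    intro d
    change lcModFn R Λ M'' T ((a''.hom.hom.app (op T)).hom
      ((S.g.hom.app (op T)).hom (ι d))) = 0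
    rw [ι_apply, hgf, map_zero, map_zero]
  have hqe : ∀ i, q (e i) = LocallyConstant.const _ (m i) := by
    intro i
    change lcModFn R Λ M'' T ((a''.hom.hom.app (op T)).hom
      ((S.g.hom.app (op T)).hom (e i))) = _
    rw [he i, lcModFn_apply, fn_un]
  -- Claim (i)
  let P : Submodule Λ (S.X₂.obj.obj (op T)) :=
    { carrier := {x | q x = LocallyConstant.const _ (π₀ x)}
      add_mem' := by
        intro a b ha hb
        change q (a + b) = LocallyConstant.const _ (π₀ (a + b))
        rw [map_add, map_add, ha, hb]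
        ext; rfl
      zero_mem' := by
        change q 0 = LocallyConstant.const _ (π₀ 0)
        rw [map_zero, map_zero]
        ext; rfl
      smul_mem' := by
        intro c a ha
        change q (c • a) = LocallyConstant.const _ (π₀ (c • a))
        rw [map_smul, map_smul, ha]
        ext; rfl }
  have hEP : E ≤ P := by
    apply sup_le
    · rintro _ ⟨d, rfl⟩
      change q (ι d) = LocallyConstant.const _ (π₀ (ι d))
      have : π₀ (ι d) = 0 := by
        change (q (ι d)) y = 0
        rw [hqι]; rfl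
      rw [this, hqι]
      ext; rfl
    · apply Submodule.span_le.2
      rintro _ ⟨i, rfl⟩
      change q (e i) = LocallyConstant.const _ (π₀ (e i))
      have : π₀ (e i) = m i := by
        change (q (e i)) y = m i
        rw [hqe]; rfl
      rw [this, hqe]
  have claim1 : ∀ x : E, q x.1 = LocallyConstant.const _ (π₀ x.1) := fun x => hEP x.2
  -- the maps `ιE` and `πE`
  let ιE : M' →ₗ[Λ] E := ι.codRestrict E (fun d => Submodule.mem_sup_left ⟨d, rfl⟩)
  let πE : E →ₗ[Λ] M'' := π₀ ∘ₗ E.subtype
  have hπe : ∀ i, π₀ (e i) = m i := by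
    intro i
    change (q (e i)) y = m i
    rw [hqe]; rfl
  have hπι : ∀ d, π₀ (ι d) = 0 := by
    intro d
    change (q (ι d)) y = 0
    rw [hqι]; rfl
  -- exactness
  have hιinj : Function.Injective ιE := by
    intro d₁ d₂ h12
    have h1 : ι d₁ = ι d₂ := congrArg Subtype.val h12
    rw [ι_apply, ι_apply] at h1
    have h2 := injective_of_mono_sec (J := J) S.f T h1
    have h3 : un (J := J) Λ hT M' d₁ = un Λ hT M' d₂ := by
      have hbij : Function.Injective (a'.inv.hom.app (op T)).hom := by
        have : IsIso (a'.inv.hom.app (op T)) := by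
          have : IsIso a'.inv.hom := by
            have : IsIso ((sheafToPresheaf J _).map a'.inv) := inferInstance
            exact this
          infer_instance
        exact ((ConcreteCategory.isIso_iff_bijective (a'.inv.hom.app (op T))).1 this).1
      exact hbij h2
    have h4 : D'.fn (un Λ hT M' d₁) y = D'.fn (un Λ hT M' d₂) y := by rw [h3]
    rw [fn_un, fn_un] at h4
    exact h4
  have hπsurj : Function.Surjective πE := by
    rw [← LinearMap.range_eq_top, eq_top_iff, ← hm]
    apply Submodule.span_le.2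
    rintro _ ⟨i, rfl⟩
    exact ⟨⟨e i, Submodule.mem_sup_right (Submodule.subset_span ⟨i, rfl⟩)⟩, hπe i⟩
  have hexact : Function.Exact ιE πE := by
    intro x
    constructor
    · intro hx
      obtain ⟨x, hxE⟩ := x
      obtain ⟨a, ⟨d₀, rfl⟩, b, hb, rfl⟩ := Submodule.mem_sup.1 hxE
      obtain ⟨ρ, rfl⟩ := (Submodule.mem_span_range_iff_exists_fun Λ).1 hb
      have h0 : π₀ (ι d₀ + ∑ i, ρ i • e i) = 0 := hx
      rw [map_add, hπι, zero_add, map_sum] at h0
      simp only [map_smul, hπe] at h0
      obtain ⟨d, hd⟩ := hrel ρ h0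
      refine ⟨d₀ + d, ?_⟩
      apply Subtype.ext
      change ι (d₀ + d) = ι d₀ + ∑ i, ρ i • e i
      rw [map_add, hd, ι_apply d]
    · rintro ⟨d, rfl⟩
      exact hπι d
  -- the morphism `ε`
  let ℓ : ModuleCat.of Λ E ⟶ S.X₂.obj.obj (op T) := ModuleCat.ofHom E.subtype
  let ε : (constantSheaf J (ModuleCat.{u + 1} Λ)).obj (ModuleCat.of Λ E) ⟶ S.X₂ := lift Λ hT ℓ
  have hε : ∀ x : E, (ε.hom.app (op T)).hom (un Λ hT (ModuleCat.of Λ E) x) = x.1 :=
    fun x => lift_un Λ hT ℓ x
  -- the short complex of constant sheaves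
  let S₀ : ShortComplex (ModuleCat.{u + 1} Λ) :=
    ShortComplex.mk (ModuleCat.ofHom ιE) (ModuleCat.ofHom πE) (by
      ext d
      exact hπι d)
  have hS₀ : S₀.ShortExact := by
    refine ShortComplex.ShortExact.mk' ?_ ?_ ?_
    · rw [ShortComplex.moduleCat_exact_iff]
      intro x hx
      exact (hexact x).1 hx
    · exact (ModuleCat.mono_iff_injective _).2 hιinj
    · exact (ModuleCat.epi_iff_surjective _).2 hπsurj
  have hS₁ : (S₀.map (constantSheaf J (ModuleCat.{u + 1} Λ))).ShortExact :=
    hS₀.map_of_exact _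
  have sq1 : a'.inv ≫ S.f = (constantSheaf J (ModuleCat.{u + 1} Λ)).map (ModuleCat.ofHom ιE) ≫ ε := by
    apply hom_ext_un Λ hT
    intro d
    change (S.f.hom.app (op T)).hom ((a'.inv.hom.app (op T)).hom (un Λ hT M' d)) =
      (ε.hom.app (op T)).hom ((((constantSheaf J (ModuleCat.{u + 1} Λ)).map
        (ModuleCat.ofHom ιE)).hom.app (op T)).hom (un Λ hT M' d))
    rw [map_un, hε]
    rfl
  have sq2 : ε ≫ S.g = (constantSheaf J (ModuleCat.{u + 1} Λ)).map (ModuleCat.ofHom πE) ≫ a''.inv := by
    apply hom_ext_un Λ hT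
    intro x
    change (S.g.hom.app (op T)).hom ((ε.hom.app (op T)).hom (un Λ hT (ModuleCat.of Λ E) x)) =
      (a''.inv.hom.app (op T)).hom ((((constantSheaf J (ModuleCat.{u + 1} Λ)).map
        (ModuleCat.ofHom πE)).hom.app (op T)).hom (un Λ hT (ModuleCat.of Λ E) x))
    rw [map_un, hε]
    have h1 : (a''.hom.hom.app (op T)).hom ((S.g.hom.app (op T)).hom x.1) =
        un Λ hT M'' (πE x) := by
      apply (D''.fn_bijective T).1
      rw [fn_un]
      exact claim1 x
    have h2 : (a''.inv.hom.app (op T)).hom ((a''.hom.hom.app (op T)).hom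
        ((S.g.hom.app (op T)).hom x.1)) = (S.g.hom.app (op T)).hom x.1 := by
      have h3 : a''.hom ≫ a''.inv = 𝟙 _ := a''.hom_inv_id
      have h4 := congrArg (fun w : S.X₃ ⟶ S.X₃ =>
        (w.hom.app (op T)).hom ((S.g.hom.app (op T)).hom x.1)) h3
      exact h4
    rw [← h2, h1]
    rfl
  let φ : S₀.map (constantSheaf J (ModuleCat.{u + 1} Λ)) ⟶ S :=
    { τ₁ := a'.inv
      τ₂ := ε
      τ₃ := a''.inv
      comm₁₂ := sq1
      comm₂₃ := sq2 }
  haveI : IsIso φ.τ₁ := inferInstanceAs (IsIso a'.inv)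
  haveI : IsIso φ.τ₃ := inferInstanceAs (IsIso a''.inv)
  have hiso : IsIso φ.τ₂ := ShortComplex.isIso₂_of_shortExact_of_isIso₁₃ φ hS₁ hS
  haveI : IsIso ε := hiso
  exact ⟨E, inferInstance, inferInstance, hEfin, ⟨(asIso ε).symm⟩⟩

end Groth.Agent.H2.Serre
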