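import Mathlib
import Groth.Agent.Lib.Helper2.SerreC
import Groth.Agent.Lib.Helper2.LocConstA

set_option autoImplicit false
set_option linter.style.haveILetI false
set_option linter.unusedSectionVars false
universe u
open CategoryTheory CategoryTheory.Limits Opposite TopologicalSpace

namespace Groth.Agent.H2.Serre

open Groth.Agent.H2.LCModel Groth.Agent.H2.LocConst

variable {C : Type (u + 1)} [Category.{u} C] {J : GrothendieckTopology C} {R : TopReal J}
variable {Λ : Type (u + 1)} [CommRing Λ]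

set_option backward.isDefEq.respectTransparency.types false in
/-- The section-level form of a trivialization. -/
noncomputable def sec {P : Cᵒᵖ ⥤ ModuleCat.{u + 1} Λ} {U : C} {M : ModuleCat.{u + 1} Λ}
    (e : Triv R Λ P U M) {V : C} (f : V ⟶ U) :
    P.obj (op V) ≃ₗ[Λ] LocallyConstant (R.pt V) M :=
  (e.app (op (Over.mk f))).toLinearEquiv

set_option backward.isDefEq.respectTransparency.types false in
lemma sec_map {P : Cᵒᵖ ⥤ ModuleCat.{u + 1} Λ} {U : C} {M : ModuleCat.{u + 1} Λ}
    (e : Triv R Λ P U M) {V V' : C} (f : V ⟶ U) (k : V' ⟶ V) (s : P.obj (op V)) :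
    sec e (k ≫ f) ((P.map k.op).hom s) = (sec e f s).comap (R.cmap k) := by
  have h := e.hom.naturality (Over.homMk k rfl : Over.mk (k ≫ f) ⟶ Over.mk f).op
  have h2 := congrArg (fun t => t.hom s) h
  exact h2

set_option backward.isDefEq.respectTransparency.types false in
lemma sec_restrict {P : Cᵒᵖ ⥤ ModuleCat.{u + 1} Λ} {U : C} {M : ModuleCat.{u + 1} Λ}
    (e : Triv R Λ P U M) {W V : C} (f : W ⟶ U) (g : V ⟶ W) (s : P.obj (op V)) :
    sec (e.restrict f) g s = sec e (g ≫ f) s := rfl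


variable [HasSheafify J (ModuleCat.{u + 1} Λ)] [J.WEqualsLocallyBijective (ModuleCat.{u + 1} Λ)]

set_option backward.isDefEq.respectTransparency.types false in
lemma fn_toIso_hom {F : Sheaf J (ModuleCat.{u + 1} Λ)} {U : C} {M : ModuleCat.{u + 1} Λ}
    [HasSheafify (J.over U) (ModuleCat.{u + 1} Λ)]
    [(J.over U).WEqualsLocallyBijective (ModuleCat.{u + 1} Λ)]
    (e : Triv R Λ F.obj U M) (z : F.obj.obj (op U)) :
    (lcMod (R.over U) Λ M).fn ((e.toIso.hom.hom.app (op (Over.mk (𝟙 U)))).hom z) =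
      sec e (𝟙 U) z := by
  let D := lcMod (R.over U) Λ M
  have h1 : D.iso.inv ≫ D.toSheaf = 𝟙 _ := D.iso.inv_hom_id
  have h2 := congrArg (fun w : D.sheaf ⟶ D.sheaf =>
    (w.hom.app (op (Over.mk (𝟙 U)))).hom ((e.hom.app (op (Over.mk (𝟙 U)))).hom z)) h1
  exact h2

set_option backward.isDefEq.respectTransparency.types false in
lemma toIso_inv_un {F : Sheaf J (ModuleCat.{u + 1} Λ)} {U : C} {M : ModuleCat.{u + 1} Λ}
    [HasSheafify (J.over U) (ModuleCat.{u + 1} Λ)]
    [(J.over U).WEqualsLocallyBijective (ModuleCat.{u + 1} Λ)]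
    (e : Triv R Λ F.obj U M) (d : M) :
    (e.toIso.inv.hom.app (op (Over.mk (𝟙 U)))).hom
      (un (J := J.over U) Λ Over.mkIdTerminal M d) =
      (sec e (𝟙 U)).symm (LocallyConstant.const _ d) := by
  let D := lcMod (R.over U) Λ M
  have h1 := fn_un (R.over U) Λ (Over.mkIdTerminal (X := U)) M d
  change (e.inv.app (op (Over.mk (𝟙 U)))).hom
    (D.fn (un (J := J.over U) Λ Over.mkIdTerminal M d)) = _
  rw [h1]
  rfl

end Groth.Agent.H2.Serre
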