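import Mathlib
import Groth.Agent.Lib.Helper2.SerreAbD
import Groth.Agent.Lib.Helper2.SerreE

set_option autoImplicit false
set_option linter.style.haveILetI false
set_option linter.unusedSectionVars false
universe u
open CategoryTheory CategoryTheory.Limits Opposite TopologicalSpace

namespace Groth.Agent.H2.SerreAb

open Groth.Agent.H2.LCModel Groth.Agent.H2.LocConstAb

variable {C : Type (u + 1)} [Category.{u} C] {J : GrothendieckTopology C}

variable (R : TopReal J)
variable [HasSheafify J AddCommGrpCat.{u + 1}] [J.WEqualsLocallyBijective AddCommGrpCat.{u + 1}]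
variable [∀ U : C, HasSheafify (J.over U) AddCommGrpCat.{u + 1}]
  [∀ U : C, (J.over U).WEqualsLocallyBijective AddCommGrpCat.{u + 1}]
  [∀ U : C, PreservesFiniteColimits (J.overPullback AddCommGrpCat.{u + 1} U)]

instance overPullback_additive' (U : C) : (J.overPullback AddCommGrpCat.{u + 1} U).Additive where

set_option backward.isDefEq.respectTransparency.types false in
set_option maxHeartbeats 1600000 in
/-- **Extensions of locally constant sheaves of finite type are locally constant of finite type**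
(local form at a point of an object where both ends are trivialized). -/
theorem exists_triv_extension
    (S : ShortComplex (Sheaf J AddCommGrpCat.{u + 1})) (hS : S.ShortExact)
    (W₀ : C) (w₀ : R.pt W₀) (M' M'' : AddCommGrpCat.{u + 1}) [Finite M']
    [Finite M'']
    (e' : Triv R S.X₁.obj W₀ M') (e'' : Triv R S.X₃.obj W₀ M'') :
    ∃ (U : C) (f : U ⟶ W₀) (y : R.pt U), R.map f y = w₀ ∧
      ∃ (E : Type (u + 1)) (_ : AddCommGroup E) (_ : Finite E),
        Nonempty (S.X₂.over U ≅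
          (constantSheaf (J.over U) AddCommGrpCat.{u + 1}).obj (AddCommGrpCat.of E)) := by
  classical
  have := hS.mono_f
  have := hS.epi_g
  obtain ⟨n, m, hm⟩ := Module.Finite.exists_fin (R := ℤ) (M := M'')
  let t : Fin n → S.X₃.obj.obj (op W₀) := fun i =>
    (sec e'' (𝟙 W₀)).symm (LocallyConstant.const _ (m i))
  haveI : Presheaf.IsLocallySurjective J S.g.hom :=
    (Sheaf.isLocallySurjective_iff_epi' (φ := S.g)).2 inferInstance
  have hcov : ∀ i, Presheaf.imageSieve S.g.hom (t i) ∈ J W₀ :=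
    fun i => Presheaf.imageSieve_mem J S.g.hom (t i)
  have hcov' := Groth.Agent.H2.Serre.iInf_mem_of_fin (J := J) n _ hcov
  obtain ⟨U₁, k₁, y₁, hk₁, hy₁⟩ := R.exists_mem _ hcov' w₀
  have hk₁' : ∀ i, ∃ x : S.X₂.obj.obj (op U₁),
      (S.g.hom.app (op U₁)).hom x = (S.X₃.obj.map k₁.op).hom (t i) := by
    intro i
    have h1 : (⨅ i, Presheaf.imageSieve S.g.hom (t i)) ≤ Presheaf.imageSieve S.g.hom (t i) :=
      iInf_le _ i
    obtain ⟨x, hx⟩ := h1 _ hk₁
    exact ⟨x, hx⟩
  choose e₁ he₁ using hk₁'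
  -- relations
  let lc : (Fin n → ℤ) →ₗ[ℤ] M'' := Fintype.linearCombination ℤ m
  have lc_apply : ∀ ρ : Fin n → ℤ, lc ρ = ∑ i, ρ i • m i := fun ρ =>
    Fintype.linearCombination_apply ℤ m ρ
  have hK : (LinearMap.ker lc).FG := IsNoetherian.noetherian _
  obtain ⟨r, ρ, hρ⟩ := Submodule.fg_iff_exists_fin_generating_family.1 hK
  have hρmem : ∀ k, ρ k ∈ LinearMap.ker lc := fun k => by
    rw [← hρ]; exact Submodule.subset_span ⟨k, rfl⟩
  let c : Fin r → S.X₂.obj.obj (op U₁) := fun k => ∑ i, ρ k i • e₁ i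
  -- `sec e'' k₁` of `t i` restricted
  have hsec_t : ∀ i, sec e'' k₁ ((S.X₃.obj.map k₁.op).hom (t i)) =
      LocallyConstant.const _ (m i) := by
    intro i
    have h1 := sec_map e'' (𝟙 W₀) k₁ (t i)
    rw [Category.comp_id] at h1
    rw [h1]
    change ((sec e'' (𝟙 W₀)) ((sec e'' (𝟙 W₀)).symm (LocallyConstant.const _ (m i)))).comap _ = _
    rw [AddEquiv.apply_symm_apply]
    rfl
  have hgc : ∀ k, (S.g.hom.app (op U₁)).hom (c k) = 0 := by
    intro k
    apply (sec e'' k₁).injective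
    rw [map_zero]
    have h1 : (S.g.hom.app (op U₁)).hom (c k) =
        ∑ i, ρ k i • (S.X₃.obj.map k₁.op).hom (t i) := by
      change (S.g.hom.app (op U₁)).hom (∑ i, ρ k i • e₁ i) = _
      rw [map_sum]
      refine Finset.sum_congr rfl (fun i _ => ?_)
      rw [map_zsmul, he₁]
    rw [h1, map_sum]
    have h2 : ∀ i, sec e'' k₁ (ρ k i • (S.X₃.obj.map k₁.op).hom (t i)) =
        ρ k i • LocallyConstant.const _ (m i) := by
      intro i
      rw [map_zsmul, hsec_t]
    rw [Finset.sum_congr rfl (fun i _ => h2 i)]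
    have h0 : lc (ρ k) = 0 := hρmem k
    rw [lc_apply] at h0
    ext v
    have h3 : (LocallyConstant.evalAddMonoidHom v) (∑ i, ρ k i • LocallyConstant.const (R.pt U₁) (m i)) =
        ∑ i, ρ k i • m i := by
      rw [map_sum]
      refine Finset.sum_congr rfl (fun i _ => ?_)
      rw [map_zsmul]
      rfl
    exact h3.trans h0
  choose c' hc' using fun k => exists_of_shortExact hS U₁ (c k) (hgc k)
  let uu : Fin r → LocallyConstant (R.pt U₁) M' := fun k => sec e' k₁ (c' k)
  let O : R.pt U₁ → Set (R.pt U₁) := fun y' => ⋂ k : Fin r, (uu k) ⁻¹' {uu k y'}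
  have hO : ∀ y', IsOpen (O y') := fun y' =>
    isOpen_iInter_of_finite (fun k => (uu k).isLocallyConstant.isOpen_fiber _)
  have hmemO : ∀ y', y' ∈ O y' := fun y' => Set.mem_iInter.2 (fun i => rfl)
  obtain ⟨S₂, hS₂, href⟩ := R.exists_refine U₁ (Set.range O)
    (by rintro _ ⟨y', rfl⟩; exact hO y')
    (by
      ext y'
      simp only [Set.mem_sUnion, Set.mem_range, exists_exists_eq_and, Set.mem_univ, iff_true]
      exact ⟨y', hmemO y'⟩)
  obtain ⟨U₂, k₂, y₂, hk₂, hy₂⟩ := R.exists_mem S₂ hS₂ y₁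
  obtain ⟨_, ⟨y', rfl⟩, hrange⟩ := href k₂ hk₂
  have hy₁O : y₁ ∈ O y' := hrange ⟨y₂, hy₂⟩
  let d : Fin r → M' := fun k => uu k y₁
  have hconst : ∀ k, (uu k).comap (R.cmap k₂) = LocallyConstant.const _ (d k) := by
    intro k
    ext v
    have h1 : R.map k₂ v ∈ O y' := hrange ⟨v, rfl⟩
    have h2 : uu k (R.map k₂ v) = uu k y' := Set.mem_iInter.1 h1 k
    have h3 : uu k y₁ = uu k y' := Set.mem_iInter.1 hy₁O k
    exact h2.trans h3.symm
  let f₂ : U₂ ⟶ W₀ := k₂ ≫ k₁
  refine ⟨U₂, f₂, y₂, by rw [R.map_comp, hy₂, hy₁], ?_⟩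
  let eU' := e'.restrict f₂
  let eU'' := e''.restrict f₂
  let rU := J.overPullback AddCommGrpCat.{u + 1} U₂
  have hS' : (S.map rU).ShortExact := hS.map_of_exact rU
  let e₂ : Fin n → S.X₂.obj.obj (op U₂) := fun i => (S.X₂.obj.map k₂.op).hom (e₁ i)
  -- `g (e₂ i)`
  have hge₂ : ∀ i, (S.g.hom.app (op U₂)).hom (e₂ i) = (S.X₃.obj.map f₂.op).hom (t i) := by
    intro i
    have h1 := NatTrans.naturality_apply S.g.hom k₂.op (e₁ i)
    have h2 : (S.g.hom.app (op U₂)).hom (e₂ i) =
        (S.X₃.obj.map k₂.op).hom ((S.g.hom.app (op U₁)).hom (e₁ i)) := h1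
    rw [h2, he₁]
    have h3 : S.X₃.obj.map f₂.op = S.X₃.obj.map k₁.op ≫ S.X₃.obj.map k₂.op := by
      rw [← Functor.map_comp]; rfl
    rw [h3]
    rfl
  refine extension_const (R.over U₂) Over.mkIdTerminal y₂ (S.map rU) hS' M' M'' eU'.toIso
    eU''.toIso n m hm e₂ ?_ ?_
  · intro i
    apply ((lcAb (R.over U₂) M'').fn_bijective (Over.mk (𝟙 U₂))).1
    rw [fn_un]
    have h1 := fn_toIso_hom eU'' ((S.g.hom.app (op U₂)).hom (e₂ i))
    refine h1.trans ?_
    rw [sec_restrict, hge₂]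
    have h2 := sec_map e'' (𝟙 W₀) (𝟙 U₂ ≫ f₂) (t i)
    rw [Category.comp_id] at h2
    have h3 : (S.X₃.obj.map (𝟙 U₂ ≫ f₂).op) = S.X₃.obj.map f₂.op := by rw [Category.id_comp]
    rw [h3] at h2
    rw [h2]
    change ((sec e'' (𝟙 W₀)) ((sec e'' (𝟙 W₀)).symm (LocallyConstant.const _ (m i)))).comap _ = _
    rw [AddEquiv.apply_symm_apply]
    rfl
  · intro ρ' hρ'
    have hmem : ρ' ∈ LinearMap.ker lc := by
      change lc ρ' = 0
      rw [lc_apply]; exact hρ'
    rw [← hρ] at hmem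
    obtain ⟨μ, hμ⟩ := (Submodule.mem_span_range_iff_exists_fun ℤ).1 hmem
    refine ⟨∑ k, μ k • d k, ?_⟩
    have hinv := toIso_inv_un eU' (∑ k, μ k • d k)
    change ∑ i, ρ' i • e₂ i = (S.f.hom.app (op U₂)).hom
      ((eU'.toIso.inv.hom.app (op (Over.mk (𝟙 U₂)))).hom
        (un Over.mkIdTerminal M' (∑ k, μ k • d k)))
    refine Eq.trans ?_ (congrArg (fun w => (S.f.hom.app (op U₂)).hom w) hinv).symm
    change ∑ i, ρ' i • e₂ i = (S.f.hom.app (op U₂)).hom
      ((sec eU' (𝟙 U₂)).symm (LocallyConstant.const _ (∑ k, μ k • d k)))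
    let z : S.X₁.obj.obj (op U₂) := ∑ k, μ k • (S.X₁.obj.map k₂.op).hom (c' k)
    have hz1 : (sec eU' (𝟙 U₂)) z = LocallyConstant.const _ (∑ k, μ k • d k) := by
      rw [sec_restrict, map_sum]
      have h1 : ∀ k, sec e' (𝟙 U₂ ≫ f₂) ((S.X₁.obj.map k₂.op).hom (c' k)) =
          LocallyConstant.const _ (d k) := by
        intro k
        have h2 := sec_map e' k₁ k₂ (c' k)
        have h3 : 𝟙 U₂ ≫ f₂ = k₂ ≫ k₁ := Category.id_comp _
        rw [h3, h2]
        exact hconst k
      simp only [map_zsmul, h1]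
      ext v
      have h3 : (LocallyConstant.evalAddMonoidHom v)
          (∑ x, μ x • LocallyConstant.const (R.pt U₂) (d x)) = ∑ k, μ k • d k := by
        rw [map_sum]
        refine Finset.sum_congr rfl (fun k _ => ?_)
        rw [map_zsmul]
        rfl
      exact h3
    have hz2 : (sec eU' (𝟙 U₂)).symm (LocallyConstant.const _ (∑ k, μ k • d k)) = z := by
      rw [← hz1, AddEquiv.symm_apply_apply]
    rw [hz2]
    -- `f z`
    have hfz : (S.f.hom.app (op U₂)).hom z =
        ∑ k, μ k • (S.X₂.obj.map k₂.op).hom (c k) := by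
      rw [map_sum]
      refine Finset.sum_congr rfl (fun k _ => ?_)
      rw [map_zsmul]
      have h1 := NatTrans.naturality_apply S.f.hom k₂.op (c' k)
      have h2 : (S.f.hom.app (op U₂)).hom ((S.X₁.obj.map k₂.op).hom (c' k)) =
          (S.X₂.obj.map k₂.op).hom ((S.f.hom.app (op U₁)).hom (c' k)) := h1
      rw [h2, hc']
    rw [hfz]
    -- expand
    have hck : ∀ k, (S.X₂.obj.map k₂.op).hom (c k) = ∑ i, ρ k i • e₂ i := by
      intro k
      rw [map_sum]
      refine Finset.sum_congr rfl (fun i _ => ?_)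
      rw [map_zsmul]
    simp only [hck, Finset.smul_sum, smul_smul]
    rw [Finset.sum_comm]
    refine Finset.sum_congr rfl (fun i _ => ?_)
    rw [← Finset.sum_smul]
    congr 1
    have h1 := congrFun hμ i
    simp only [Finset.sum_apply, Pi.smul_apply, smul_eq_mul] at h1
    exact h1.symm

end Groth.Agent.H2.SerreAb
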