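import Mathlib
import Groth.Agent.Lib.Helper2.SerreAbA
import Groth.Agent.Lib.Helper2.SerreAbE

set_option autoImplicit false
set_option linter.style.haveILetI false
set_option linter.unusedSectionVars false
universe u
open CategoryTheory CategoryTheory.Limits Opposite TopologicalSpace AlgebraicGeometry

namespace Groth.Agent.H2.SerreAb

open Groth.Agent.H2.LCModel Groth.Agent.H2.LocConstAb Groth.Agent.H2.LocConst

variable {X : Scheme.{u}}

set_option backward.isDefEq.respectTransparency.types false in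
theorem extension_point (S : ShortComplex (EtCoh.Ab X))
    (hS : S.ShortExact) (h₁ : EtCoh.IsFiniteLocallyConstant S.X₁)
    (h₃ : EtCoh.IsFiniteLocallyConstant S.X₃) (x : ↥X) :
    ∃ (U : X.Etale) (_ : ∃ y : ↥U.left, U.hom y = x),
      ∃ (E : Type) (_ : AddCommGroup E) (_ : Finite E),
        Nonempty (EtCoh.restr S.X₂ U ≅ (constantSheaf (X.smallEtaleTopology.over U)
          AddCommGrpCat.{u + 1}).obj (AddCommGrpCat.of (ULift.{u + 1} E))) := by
  obtain ⟨ιF, A, hA, hAtriv⟩ := h₁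
  obtain ⟨ιG, B, hB, hBtriv⟩ := h₃
  obtain ⟨j, a, ha⟩ := hA x
  obtain ⟨k, b, hb⟩ := hB x
  obtain ⟨M', iM1, iM2, ⟨α'⟩⟩ := hAtriv j
  obtain ⟨M'', iN1, iN2, ⟨α''⟩⟩ := hBtriv k
  let W₀ := prodObj (A j) (B k)
  obtain ⟨w₀, hw1, hw2⟩ := exists_point_prod (A j) (B k) a b (ha.trans hb.symm)
  let e' : Triv (etReal X) S.X₁.obj W₀ (AddCommGrpCat.of (ULift.{u + 1} M')) :=
    (Triv.ofIso α').restrict (prodFst (A j) (B k))
  let e'' : Triv (etReal X) S.X₃.obj W₀ (AddCommGrpCat.of (ULift.{u + 1} M'')) :=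
    (Triv.ofIso α'').restrict (prodSnd (A j) (B k))
  haveI : Finite ↑(AddCommGrpCat.of (ULift.{u + 1} M')) :=
    inferInstanceAs (Finite (ULift.{u + 1} M'))
  haveI : Finite ↑(AddCommGrpCat.of (ULift.{u + 1} M'')) :=
    inferInstanceAs (Finite (ULift.{u + 1} M''))
  obtain ⟨U, f, y, hy, E, iE1, iE2, ⟨hE⟩⟩ := exists_triv_extension (etReal X) S hS W₀ w₀
    (AddCommGrpCat.of (ULift.{u + 1} M')) (AddCommGrpCat.of (ULift.{u + 1} M'')) e' e''
  obtain ⟨E₀, i1, i2, ⟨e⟩⟩ := exists_small_model.{u} E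
  refine ⟨U, ⟨y, ?_⟩, E₀, i1, i2, ⟨hE ≪≫
    (constantSheaf (X.smallEtaleTopology.over U) AddCommGrpCat.{u + 1}).mapIso
      e.symm.toAddCommGrpIso⟩⟩
  have h1 : U.hom = f.left ≫ W₀.hom := (MorphismProperty.Over.w f).symm
  have h2 : W₀.hom = (prodFst (A j) (B k)).left ≫ (A j).hom :=
    (MorphismProperty.Over.w (prodFst (A j) (B k))).symm
  have hy' : f.left y = w₀ := hy
  rw [h1, h2, Scheme.Hom.comp_apply, Scheme.Hom.comp_apply, hy', hw1]
  exact ha

theorem S6645_main (X : Scheme.{u}) :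
    (∀ (F G : EtCoh.Ab X) (φ : F ⟶ G), EtCoh.IsFiniteLocallyConstant F →
      EtCoh.IsFiniteLocallyConstant G →
      EtCoh.IsFiniteLocallyConstant (kernel φ) ∧ EtCoh.IsFiniteLocallyConstant (cokernel φ)) ∧
    ObjectProperty.IsClosedUnderExtensions
      (fun F : EtCoh.Ab X => EtCoh.IsFiniteLocallyConstant F) := by
  refine ⟨fun F G φ hF hG => kernel_cokernel F G φ hF hG, ⟨?_⟩⟩
  intro S hS h₁ h₃
  have hp := extension_point S hS h₁ h₃
  choose U hU E iE1 iE2 hE using hp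
  refine ⟨↥X, U, ?_, fun x => ⟨E x, iE1 x, iE2 x, hE x⟩⟩
  intro x
  obtain ⟨y, hy⟩ := hU x
  exact ⟨x, y, hy⟩

end Groth.Agent.H2.SerreAb
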