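import Mathlib
import Groth.Prelude.Def_PBC
import Groth.Agent.Lib.Helper2.StrataC
import Groth.Agent.Lib.Helper2.TensConsA
import Groth.Agent.Lib.Helper2.SerreAbF
import Groth.Agent.Lib.Helper7.GT2

set_option autoImplicit false
set_option linter.style.haveILetI false
set_option linter.unusedSectionVars false
universe u

open CategoryTheory CategoryTheory.Limits Opposite AlgebraicGeometry TopologicalSpace

namespace Groth.Agent.H2.Strata

/-- Common refinement of two stratifications. -/
theorem hasStrata_inter {X : Scheme.{u}} (Q Q' Q'' : ∀ (T : Scheme.{u}), (T ⟶ X) → Prop)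
    (h : ∀ (T T' : Scheme.{u}) (g : T ⟶ X) (g' : T' ⟶ X), Q T g → Q' T' g' →
      Q'' (pullback g g') (pullback.fst g g' ≫ g)) (S : Set X)
    (hF : HasStrata Q S) (hG : HasStrata Q' S) : HasStrata Q'' S := by
  obtain ⟨n, T, g, hgi, hgc, hgd, hgu, hgF⟩ := hF
  obtain ⟨m, T', g', hgi', hgc', hgd', hgu', hgG⟩ := hG
  let e : Fin (n * m) ≃ Fin n × Fin m := finProdFinEquiv.symm
  refine ⟨n * m, fun k => pullback (g (e k).1) (g' (e k).2),
    fun k => pullback.fst (g (e k).1) (g' (e k).2) ≫ g (e k).1, ?_, ?_, ?_, ?_, ?_⟩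
  · intro k
    haveI := hgi (e k).1
    haveI := hgi' (e k).2
    infer_instance
  · intro k
    rw [Groth.Agent.H2.TensCons.range_fst_comp, Set.preimage_inter]
    exact (hgc (e k).1).inter (hgc' (e k).2)
  · intro k k' hkk'
    simp only [Groth.Agent.H2.TensCons.range_fst_comp]
    have hne : e k ≠ e k' := fun h => hkk' (e.injective h)
    by_cases h1 : (e k).1 = (e k').1
    · have h2 : (e k).2 ≠ (e k').2 := fun h2 => hne (Prod.ext h1 h2)
      exact (hgd' h2).mono Set.inter_subset_right Set.inter_subset_right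
    · exact (hgd h1).mono Set.inter_subset_left Set.inter_subset_left
  · simp only [Groth.Agent.H2.TensCons.range_fst_comp]
    ext x
    simp only [Set.mem_iUnion, Set.mem_inter_iff]
    constructor
    · rintro ⟨k, hk1, -⟩
      rw [← hgu]
      exact Set.mem_iUnion.2 ⟨_, hk1⟩
    · intro hx
      have hx1 : x ∈ ⋃ i, Set.range (g i) := hgu ▸ hx
      have hx2 : x ∈ ⋃ j, Set.range (g' j) := hgu' ▸ hx
      obtain ⟨i, hi⟩ := Set.mem_iUnion.1 hx1
      obtain ⟨j, hj⟩ := Set.mem_iUnion.1 hx2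
      refine ⟨e.symm (i, j), ?_, ?_⟩
      · rw [Equiv.apply_symm_apply]; exact hi
      · rw [Equiv.apply_symm_apply]; exact hj
  · intro k
    exact h _ _ _ _ (hgF _) (hgG _)

lemma isFLC_pull_of_comp'' {X T Z : Scheme.{u}} (p : Z ⟶ T) (g : T ⟶ X) (h : Z ⟶ X)
    (e : h = p ≫ g) (F : EtCoh.Ab X)
    (hF : EtCoh.IsFiniteLocallyConstant ((EtCoh.pull g).obj F)) :
    EtCoh.IsFiniteLocallyConstant ((EtCoh.pull h).obj F) := by
  subst e
  exact isFiniteLocallyConstant_of_iso ((pullCompIsoAb p g).app F).symm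
    ((Groth.Agent.H2.PullOver.S6642_main p).2.1 _ hF)

/-- A sheaf which is finite locally constant wherever two constructible sheaves both are, is
constructible. -/
theorem isConstructible_of_binary {X : Scheme.{u}} (F G H : EtCoh.Ab X)
    (hH : ∀ (T : Scheme.{u}) (h : T ⟶ X),
      EtCoh.IsFiniteLocallyConstant ((EtCoh.pull h).obj F) →
      EtCoh.IsFiniteLocallyConstant ((EtCoh.pull h).obj G) →
      EtCoh.IsFiniteLocallyConstant ((EtCoh.pull h).obj H))
    (hF : EtPBC.IsConstructible F) (hG : EtPBC.IsConstructible G) :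
    EtPBC.IsConstructible H := by
  intro U hU
  refine hasStrata_inter
    (fun T g => ∀ [EtCoh.BCCont g], EtCoh.IsFiniteLocallyConstant ((EtCoh.pull g).obj F))
    (fun T g => ∀ [EtCoh.BCCont g], EtCoh.IsFiniteLocallyConstant ((EtCoh.pull g).obj G))
    (fun T g => ∀ [EtCoh.BCCont g], EtCoh.IsFiniteLocallyConstant ((EtCoh.pull g).obj H))
    ?_ _ (hF U hU) (hG U hU)
  intro T T' g g' h1 h2 _
  apply hH
  · exact isFLC_pull_of_comp'' (pullback.fst _ _) g _ rfl F h1
  · exact isFLC_pull_of_comp'' (pullback.snd _ _) g' _ pullback.condition G h2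

theorem S0131_main {X : Scheme.{u}} {F G : EtCoh.Ab X} (φ : F ⟶ G)
    (hF : EtPBC.IsConstructible F) (hG : EtPBC.IsConstructible G) :
    EtPBC.IsConstructible (kernel φ) ∧ EtPBC.IsConstructible (cokernel φ) := by
  constructor
  · refine isConstructible_of_binary F G _ ?_ hF hG
    intro T h h1 h2
    haveI := Groth.Agent.H7.GT.S101_main h
    exact isFiniteLocallyConstant_of_iso (PreservesKernel.iso (EtCoh.pull h) φ).symm
      ((Groth.Agent.H2.SerreAb.S6645_main T).1 _ _ ((EtCoh.pull h).map φ) h1 h2).1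
  · refine isConstructible_of_binary F G _ ?_ hF hG
    intro T h h1 h2
    exact isFiniteLocallyConstant_of_iso (PreservesCokernel.iso (EtCoh.pull h) φ).symm
      ((Groth.Agent.H2.SerreAb.S6645_main T).1 _ _ ((EtCoh.pull h).map φ) h1 h2).2

theorem S0132_main {X : Scheme.{u}} (S : ShortComplex (EtCoh.Ab X)) (hS : S.ShortExact)
    (h1 : EtPBC.IsConstructible S.X₁) (h3 : EtPBC.IsConstructible S.X₃) :
    EtPBC.IsConstructible S.X₂ := by
  refine isConstructible_of_binary S.X₁ S.X₃ _ ?_ h1 h3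
  intro T h h1 h2
  haveI := Groth.Agent.H7.GT.S101_main h
  haveI := (Groth.Agent.H2.SerreAb.S6645_main T).2
  exact ObjectProperty.prop_X₂_of_shortExact
    (fun F : EtCoh.Ab T => EtCoh.IsFiniteLocallyConstant F) (hS.map_of_exact (EtCoh.pull h)) h1 h2

end Groth.Agent.H2.Strata
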