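import Mathlib
import Groth.Prelude.Def_PBC
import Groth.Agent.Lib.Helper2.StrataD

set_option autoImplicit false
set_option linter.style.haveILetI false
set_option linter.unusedSectionVars false
universe u

open CategoryTheory CategoryTheory.Limits Opposite AlgebraicGeometry TopologicalSpace

namespace Groth.Agent.H2.Strata

/-- A finite cover of an affine open by basic opens mapping into affine opens of the target
taken from a given family `P` of affine opens covering the target. -/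
lemma exists_basicOpen_cover' {X Y : Scheme.{u}} (f : X ⟶ Y) (P : Y.Opens → Prop)
    (hP : ∀ y : Y, ∃ V : Y.Opens, IsAffineOpen V ∧ P V ∧ y ∈ V)
    (U : X.Opens) (hU : IsAffineOpen U) :
    ∃ (m : ℕ) (h : Fin m → Γ(X, U)) (V : Fin m → Y.Opens), (∀ k, IsAffineOpen (V k)) ∧
      (∀ k, P (V k)) ∧
      (∀ k, X.basicOpen (h k) ≤ f ⁻¹ᵁ (V k)) ∧ (⋃ k, (X.basicOpen (h k) : Set X)) = U := by
  have key : ∀ x : U, ∃ (V : Y.Opens) (h : Γ(X, U)), IsAffineOpen V ∧ P V ∧
      X.basicOpen h ≤ f ⁻¹ᵁ V ∧ x.1 ∈ X.basicOpen h := by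
    intro x
    obtain ⟨V, hV, hPV, hxV⟩ := hP (f x.1)
    obtain ⟨h, h1, h2⟩ := hU.exists_basicOpen_le (V := f ⁻¹ᵁ V) ⟨x.1, hxV⟩ x.2
    exact ⟨V, h, hV, hPV, h1, h2⟩
  choose V h hV hPV hle hmem using key
  obtain ⟨t, ht⟩ := hU.isCompact.elim_finite_subcover (fun x : U => (X.basicOpen (h x) : Set X))
    (fun x => (X.basicOpen (h x)).isOpen) (fun x hx => Set.mem_iUnion.2 ⟨⟨x, hx⟩, hmem ⟨x, hx⟩⟩)
  let e := t.equivFin
  refine ⟨t.card, fun k => h (e.symm k).1, fun k => V (e.symm k).1, fun k => hV _, fun k => hPV _,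
    fun k => hle _, ?_⟩
  apply Set.Subset.antisymm
  · refine Set.iUnion_subset (fun k => ?_)
    exact X.basicOpen_le _
  · intro x hx
    obtain ⟨y, hy, hxy⟩ := Set.mem_iUnion₂.1 (ht hx)
    refine Set.mem_iUnion.2 ⟨e ⟨y, hy⟩, ?_⟩
    change x ∈ (X.basicOpen (h (e.symm (e ⟨y, hy⟩)).1) : Set X)
    rw [Equiv.symm_apply_apply]
    exact hxy

variable {X Y : Scheme.{u}}

set_option maxHeartbeats 800000 in
/-- Stratifications of a covering family `P` of affine opens of `Y` pull back to stratifications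
of all the affine opens of `X`. -/
theorem hasStrata_pullback' (f : X ⟶ Y) (P : Y.Opens → Prop)
    (hP : ∀ y : Y, ∃ V : Y.Opens, IsAffineOpen V ∧ P V ∧ y ∈ V)
    (Q : ∀ (T : Scheme.{u}), (T ⟶ Y) → Prop)
    (Q' : ∀ (T : Scheme.{u}), (T ⟶ X) → Prop)
    (hQ : ∀ (T T' : Scheme.{u}) (g : T ⟶ Y) (g' : T' ⟶ X) (p : T' ⟶ T),
      g' ≫ f = p ≫ g → Q T g → Q' T' g')
    (hY : ∀ V : Y.Opens, IsAffineOpen V → P V → HasStrata Q (V : Set Y))
    (U : X.Opens) (hU : IsAffineOpen U) : HasStrata Q' (U : Set X) := by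
  classical
  obtain ⟨m, h, V, hV, hPV, hle, hcov⟩ := exists_basicOpen_cover' f P hP U hU
  let D : Fin m → X.Opens := fun k => X.basicOpen (h k)
  have hDU : ∀ k, D k ≤ U := fun k => X.basicOpen_le (h k)
  have hDc : ∀ k, IsCompact (D k : Set X) := fun k => (hU.basicOpen (h k)).isCompact
  -- the closed complement of the earlier opens
  let O : Fin m → X.Opens := fun k => ⨆ k' : {k' : Fin m // k' < k}, D k'.1
  let Zc : Fin m → Closeds X := fun k => ⟨(O k : Set X)ᶜ, (O k).isOpen.isClosed_compl⟩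
  have hZc : ∀ k x, x ∈ (Zc k : Set X) ↔ ∀ k' < k, x ∉ (D k' : Set X) := by
    intro k x
    change x ∈ (O k : Set X)ᶜ ↔ _
    simp only [O, Set.mem_compl_iff, SetLike.mem_coe, Opens.mem_iSup, Subtype.exists, not_exists]
  have hex := fun k => exists_immersion_range (D k) (Zc k)
  choose E e he_imm he_range using hex
  have hmemE : ∀ k x, x ∈ Set.range (e k) ↔ x ∈ (D k : Set X) ∧ ∀ k' < k, x ∉ (D k' : Set X) := by
    intro k x
    rw [he_range, Set.mem_inter_iff, hZc]
  -- strata downstairs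
  have hstr := fun k => hY (V k) (hV k) (hPV k)
  choose n T g hgi hgc hgd hgu hgQ using hstr
  -- the strata upstairs
  refine HasStrata.of_finite (ι := Σ k : Fin m, Fin (n k))
    (fun ki => pullback (g ki.1 ki.2) (e ki.1 ≫ f))
    (fun ki => pullback.snd (g ki.1 ki.2) (e ki.1 ≫ f) ≫ e ki.1) ?_ ?_ ?_ ?_ ?_
  · rintro ⟨k, i⟩
    haveI := hgi k i
    haveI := he_imm k
    infer_instance
  · rintro ⟨k, i⟩
    rw [range_snd_comp', he_range]
    have hset : (Subtype.val : ↥(U : Set X) → X) ⁻¹' ((D k : Set X) ∩ (Zc k : Set X) ∩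
        f ⁻¹' Set.range (g k i)) =
        ((⋃ k' : {k' : Fin m // k' < k},
          (Subtype.val : ↥(U : Set X) → X) ⁻¹' (D k'.1 : Set X)))ᶜ ∩
        (Subtype.val : ↥(U : Set X) → X) ⁻¹' ((D k : Set X) ∩ f ⁻¹' Set.range (g k i)) := by
      ext x
      simp only [Set.mem_preimage, Set.mem_inter_iff, Set.mem_compl_iff, Set.mem_iUnion,
        Subtype.exists, not_exists, hZc]
      constructor
      · rintro ⟨⟨h1, h2⟩, h3⟩
        exact ⟨fun k' hk' hx' => h2 k' hk' hx', h1, h3⟩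
      · rintro ⟨h2, h1, h3⟩
        exact ⟨⟨h1, fun k' hk' hx' => h2 k' hk' hx'⟩, h3⟩
    rw [hset]
    refine Topology.IsConstructible.inter (Topology.IsConstructible.compl ?_) ?_
    · exact Topology.IsConstructible.iUnion (fun k' =>
        isConstructible_val_preimage_of_isCompact hU (D k'.1) (hDU _) (hDc _))
    · exact isConstructible_val_preimage_inter f hU (h k) (hV k) (hle k) _ (hgc k i)
  · rintro ⟨k, i⟩ ⟨k', i'⟩ hne
    simp only [range_snd_comp']
    rw [Set.disjoint_left]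
    rintro x ⟨hx1, hx2⟩ ⟨hx1', hx2'⟩
    rw [hmemE] at hx1 hx1'
    have hkk' : k = k' := by
      rcases lt_trichotomy k k' with hlt | heq | hgt
      · exact (hx1'.2 k hlt hx1.1).elim
      · exact heq
      · exact (hx1.2 k' hgt hx1'.1).elim
    subst hkk'
    have hii' : i ≠ i' := fun hi => hne (by rw [hi])
    exact Set.disjoint_left.1 (hgd k hii') hx2 hx2'
  · apply Set.Subset.antisymm
    · refine Set.iUnion_subset ?_
      rintro ⟨k, i⟩
      rw [range_snd_comp']
      intro x hx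
      exact hDU k ((hmemE k x).1 hx.1).1
    · intro x hx
      have hne : {k : Fin m | x ∈ (D k : Set X)}.Nonempty := by
        rw [← hcov] at hx
        obtain ⟨k, hk⟩ := Set.mem_iUnion.1 hx
        exact ⟨k, hk⟩
      obtain ⟨k, hk, hmin⟩ := wellFounded_lt.has_min _ hne
      have hxE : x ∈ Set.range (e k) := (hmemE k x).2 ⟨hk, fun k' hk' hx' => hmin k' hx' hk'⟩
      have hfx : f x ∈ (V k : Set Y) := hle k hk
      rw [← hgu k] at hfx
      obtain ⟨i, hi⟩ := Set.mem_iUnion.1 hfx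
      refine Set.mem_iUnion.2 ⟨⟨k, i⟩, ?_⟩
      rw [range_snd_comp']
      exact ⟨hxE, hi⟩
  · rintro ⟨k, i⟩
    refine hQ _ _ (g k i) _ (pullback.fst (g k i) (e k ≫ f)) ?_ (hgQ k i)
    rw [Category.assoc]
    exact pullback.condition.symm

end Groth.Agent.H2.Strata
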