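import Mathlib
import Groth.Prelude.Def_PBC
import Groth.Agent.Lib.Helper2.StrataE

set_option autoImplicit false
set_option linter.style.haveILetI false
set_option linter.unusedSectionVars false
universe u

open CategoryTheory CategoryTheory.Limits Opposite AlgebraicGeometry TopologicalSpace

namespace Groth.Agent.H2.Strata

variable {X Z : Scheme.{u}}

lemma range_comp_eq_image {T : Scheme.{u}} (g : T ⟶ Z) (j : Z ⟶ X) :
    Set.range (g ≫ j) = j '' Set.range g := by
  ext x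
  constructor
  · rintro ⟨t, rfl⟩
    exact ⟨g t, ⟨t, rfl⟩, by rw [Scheme.Hom.comp_apply]⟩
  · rintro ⟨_, ⟨t, rfl⟩, rfl⟩
    exact ⟨t, by rw [Scheme.Hom.comp_apply]⟩

/-- Strata on the preimage of `V` under an open immersion whose range contains `V` push forward
to strata on `V`. -/
theorem hasStrata_of_isOpenImmersion (j : Z ⟶ X) [IsOpenImmersion j] (V : X.Opens)
    (hV : (V : Set X) ⊆ Set.range j)
    (Q' : ∀ (T : Scheme.{u}), (T ⟶ Z) → Prop) (Q : ∀ (T : Scheme.{u}), (T ⟶ X) → Prop)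
    (hQ : ∀ (T : Scheme.{u}) (g : T ⟶ Z), Q' T g → Q T (g ≫ j))
    (h : HasStrata Q' ((j ⁻¹ᵁ V : Z.Opens) : Set Z)) : HasStrata Q (V : Set X) := by
  obtain ⟨n, T, g, hgi, hgc, hgd, hgu, hgQ⟩ := h
  have hinj : Function.Injective j := j.isOpenEmbedding.injective
  refine ⟨n, T, fun i => g i ≫ j, ?_, ?_, ?_, ?_, fun i => hQ _ _ (hgQ i)⟩
  · intro i
    haveI := hgi i
    infer_instance
  · intro i
    -- the homeomorphism `j⁻¹ V ≃ V`
    let φ : ↥((j ⁻¹ᵁ V : Z.Opens) : Set Z) → ↥(V : Set X) := fun z => ⟨j z.1, z.2⟩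
    have hφ : Topology.IsOpenEmbedding φ :=
      j.isOpenEmbedding.restrictPreimage (V : Set X)
    have hsurj : Function.Surjective φ := by
      rintro ⟨x, hx⟩
      obtain ⟨z, rfl⟩ := hV hx
      exact ⟨⟨z, hx⟩, rfl⟩
    have himg : (Subtype.val : ↥(V : Set X) → X) ⁻¹' Set.range (g i ≫ j) =
        φ '' ((Subtype.val : ↥((j ⁻¹ᵁ V : Z.Opens) : Set Z) → Z) ⁻¹' Set.range (g i)) := by
      ext ⟨x, hx⟩
      rw [range_comp_eq_image]
      constructor
      · rintro ⟨z, hz, rfl⟩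
        exact ⟨⟨z, hx⟩, hz, rfl⟩
      · rintro ⟨⟨z, hz⟩, hz', hzx⟩
        exact ⟨z, hz', congrArg Subtype.val hzx⟩
    rw [himg]
    refine (hgc i).image_of_isOpenEmbedding hφ ?_
    rw [hsurj.range_eq]
    exact IsRetrocompact.univ
  · intro i i' hne
    rw [range_comp_eq_image, range_comp_eq_image]
    exact (Set.disjoint_image_iff hinj).2 (hgd hne)
  · simp only [range_comp_eq_image]
    rw [← Set.image_iUnion, hgu]
    ext x
    constructor
    · rintro ⟨z, hz, rfl⟩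
      exact hz
    · intro hx
      obtain ⟨z, rfl⟩ := hV hx
      exact ⟨z, hx, rfl⟩

end Groth.Agent.H2.Strata

namespace Groth.Agent.H2.Strata

theorem S0129_main {X : Scheme.{u}} (F : EtCoh.Ab X) {ι : Type u} (U : ι → X.Opens)
    (hU : ⨆ i, U i = ⊤)
    (h : ∀ i, EtPBC.IsConstructible ((EtCoh.pull (U i).ι).obj F)) :
    EtPBC.IsConstructible F := by
  intro W hW
  let Qf : ∀ (T : Scheme.{u}), (T ⟶ X) → Prop :=
    fun T g => ∀ [EtCoh.BCCont g], EtCoh.IsFiniteLocallyConstant ((EtCoh.pull g).obj F)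
  refine hasStrata_pullback' (𝟙 X) (fun V => ∃ i, V ≤ U i) ?hP Qf Qf ?hQ ?hY W hW
  case hP =>
    intro y
    have hy : y ∈ (⨆ i, U i) := hU ▸ trivial
    obtain ⟨i, hi⟩ := Opens.mem_iSup.1 hy
    obtain ⟨_, ⟨V, hV : IsAffineOpen V, rfl⟩, hyV, hVU⟩ :=
      X.isBasis_affineOpens.exists_subset_of_mem_open hi (U i).isOpen
    exact ⟨V, hV, ⟨i, hVU⟩, hyV⟩
  case hQ =>
    intro T T' g g' p w hg _
    exact isFLC_pull_of_comp'' p g g' (by simpa using w) F hg
  case hY =>
    rintro V hV ⟨i, hVi⟩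
    have hV' : IsAffineOpen ((U i).ι ⁻¹ᵁ V) := by
      apply (U i).ι.isAffineOpen_iff_of_isOpenImmersion.mp
      rw [Scheme.Hom.image_preimage_eq_opensRange_inf, Scheme.Opens.opensRange_ι,
        inf_eq_right.2 hVi]
      exact hV
    refine hasStrata_of_isOpenImmersion (U i).ι V
      (by rw [Scheme.Opens.range_ι]; exact hVi)
      (fun T g => ∀ [EtCoh.BCCont g],
        EtCoh.IsFiniteLocallyConstant ((EtCoh.pull g).obj ((EtCoh.pull (U i).ι).obj F)))
      Qf ?_ (h i _ hV')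
    intro T g hg _
    exact isFiniteLocallyConstant_of_iso ((pullCompIsoAb g (U i).ι).app F).symm hg

end Groth.Agent.H2.Strata
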