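import Mathlib
import Groth.Prelude.Def_PBC
import Groth.Agent.Lib.Helper2.StrataF

set_option autoImplicit false
set_option linter.style.haveILetI false
set_option linter.unusedSectionVars false
universe u

open CategoryTheory CategoryTheory.Limits Opposite AlgebraicGeometry TopologicalSpace

namespace Groth.Agent.H2.Strata

variable {X : Scheme.{u}}

/-- Strata of a set restrict to strata of an open subset. -/
theorem HasStrata.restrict_open (Q : ∀ (T : Scheme.{u}), (T ⟶ X) → Prop)
    (hQ : ∀ (T T' : Scheme.{u}) (g : T ⟶ X) (g' : T' ⟶ X) (p : T' ⟶ T),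
      g' = p ≫ g → Q T g → Q T' g')
    (S : Set X) (O : X.Opens) (hOS : (O : Set X) ⊆ S) (h : HasStrata Q S) :
    HasStrata Q (O : Set X) := by
  obtain ⟨n, T, g, hgi, hgc, hgd, hgu, hgQ⟩ := h
  refine ⟨n, fun i => pullback (g i) O.ι, fun i => pullback.fst (g i) O.ι ≫ g i, ?_, ?_, ?_, ?_, ?_⟩
  · intro i
    haveI := hgi i
    infer_instance
  · intro i
    rw [Groth.Agent.H2.TensCons.range_fst_comp, Scheme.Opens.range_ι]
    let ψ : ↥(O : Set X) → ↥S := fun x => ⟨x.1, hOS x.2⟩
    have hψc : Continuous ψ := Continuous.subtype_mk continuous_subtype_val _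
    have hψ : Topology.IsOpenEmbedding ψ := by
      refine Topology.IsOpenEmbedding.of_continuous_injective_isOpenMap hψc ?_ ?_
      · intro a b hab
        exact Subtype.ext (congrArg (fun z : ↥S => z.1) hab)
      · intro A hA
        obtain ⟨B, hB, rfl⟩ := isOpen_induced_iff.1 hA
        have : ψ '' ((Subtype.val : ↥(O : Set X) → X) ⁻¹' B) =
            (Subtype.val : ↥S → X) ⁻¹' (B ∩ (O : Set X)) := by
          ext ⟨x, hx⟩
          constructor
          · rintro ⟨⟨y, hy⟩, hyB, hxy⟩
            have : y = x := congrArg (fun z : ↥S => z.1) hxy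
            subst this
            exact ⟨hyB, hy⟩
          · rintro ⟨hxB, hxO⟩
            exact ⟨⟨x, hxO⟩, hxB, rfl⟩
        rw [this]
        exact (hB.inter O.isOpen).preimage continuous_subtype_val
    have hpre : (Subtype.val : ↥(O : Set X) → X) ⁻¹' (Set.range (g i) ∩ (O : Set X)) =
        ψ ⁻¹' ((Subtype.val : ↥S → X) ⁻¹' Set.range (g i)) := by
      ext ⟨x, hx⟩
      simp only [Set.mem_preimage, Set.mem_inter_iff, ψ]
      exact ⟨fun h => h.1, fun h => ⟨h, hx⟩⟩
    rw [hpre]
    exact (hgc i).preimage_of_isOpenEmbedding hψ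
  · intro i i' hne
    simp only [Groth.Agent.H2.TensCons.range_fst_comp]
    exact (hgd hne).mono Set.inter_subset_left Set.inter_subset_left
  · simp only [Groth.Agent.H2.TensCons.range_fst_comp, Scheme.Opens.range_ι]
    rw [← Set.iUnion_inter, hgu]
    exact Set.inter_eq_right.2 hOS
  · intro i
    exact hQ _ _ (g i) _ (pullback.fst (g i) O.ι) rfl (hgQ i)

end Groth.Agent.H2.Strata

namespace Groth.Agent.H2.Strata

variable {X : Scheme.{u}}

lemma range_fst_comp_eq {T E : Scheme.{u}} (g : T ⟶ X) (e : E ⟶ X) :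
    Set.range (pullback.fst g e ≫ g) = Set.range e ∩ Set.range g := by
  rw [Groth.Agent.H2.TensCons.range_fst_comp, Set.inter_comm]

set_option maxHeartbeats 800000 in
/-- Gluing strata along a finite cover of a quasi-separated open by affine opens. -/
theorem hasStrata_of_finite_cover (W : X.Opens) [QuasiSeparatedSpace ↥(W : Set X)]
    (m : ℕ) (D : Fin m → X.Opens) (hDa : ∀ k, IsAffineOpen (D k))
    (hcov : (⋃ k, (D k : Set X)) = W)
    (Q : ∀ (T : Scheme.{u}), (T ⟶ X) → Prop)
    (hQ : ∀ (T T' : Scheme.{u}) (g : T ⟶ X) (g' : T' ⟶ X) (p : T' ⟶ T),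
      g' = p ≫ g → Q T g → Q T' g')
    (hD : ∀ k, HasStrata Q (D k : Set X)) : HasStrata Q (W : Set X) := by
  classical
  have hDW : ∀ k, D k ≤ W := by
    intro k x hx
    have : x ∈ (W : Set X) := by
      rw [← hcov]
      exact Set.mem_iUnion.2 ⟨k, hx⟩
    exact this
  have hDc : ∀ k, IsCompact (D k : Set X) := fun k => (hDa k).isCompact
  have hDcons : ∀ k, Topology.IsConstructible
      ((Subtype.val : ↥(W : Set X) → X) ⁻¹' (D k : Set X)) := by
    intro k
    refine IsCompact.isConstructible ?_ ((D k).isOpen.preimage continuous_subtype_val)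
    rw [Subtype.isCompact_iff, Set.image_preimage_eq_inter_range, Subtype.range_coe]
    have : (D k : Set X) ∩ (W : Set X) = D k := Set.inter_eq_left.2 (hDW k)
    rw [this]
    exact hDc k
  let O : Fin m → X.Opens := fun k => ⨆ k' : {k' : Fin m // k' < k}, D k'.1
  let Zc : Fin m → Closeds X := fun k => ⟨(O k : Set X)ᶜ, (O k).isOpen.isClosed_compl⟩
  have hZc : ∀ k x, x ∈ (Zc k : Set X) ↔ ∀ k' < k, x ∉ (D k' : Set X) := by
    intro k x
    change x ∈ (O k : Set X)ᶜ ↔ _
    simp only [O, Set.mem_compl_iff, SetLike.mem_coe, Opens.mem_iSup, Subtype.exists, not_exists]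
  have hex := fun k => exists_immersion_range (D k) (Zc k)
  choose E e he_imm he_range using hex
  have hmemE : ∀ k x, x ∈ Set.range (e k) ↔ x ∈ (D k : Set X) ∧ ∀ k' < k, x ∉ (D k' : Set X) := by
    intro k x
    rw [he_range, Set.mem_inter_iff, hZc]
  choose n T g hgi hgc hgd hgu hgQ using hD
  have hgD : ∀ k i, Set.range (g k i) ⊆ (D k : Set X) := by
    intro k i
    rw [← hgu k]
    exact Set.subset_iUnion (fun i => Set.range (g k i)) i
  refine HasStrata.of_finite (ι := Σ k : Fin m, Fin (n k))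
    (fun ki => pullback (g ki.1 ki.2) (e ki.1))
    (fun ki => pullback.fst (g ki.1 ki.2) (e ki.1) ≫ g ki.1 ki.2) ?_ ?_ ?_ ?_ ?_
  · rintro ⟨k, i⟩
    haveI := hgi k i
    haveI := he_imm k
    infer_instance
  · rintro ⟨k, i⟩
    rw [range_fst_comp_eq, he_range]
    have hset : (Subtype.val : ↥(W : Set X) → X) ⁻¹' ((D k : Set X) ∩ (Zc k : Set X) ∩
        Set.range (g k i)) =
        ((⋃ k' : {k' : Fin m // k' < k},
          (Subtype.val : ↥(W : Set X) → X) ⁻¹' (D k'.1 : Set X)))ᶜ ∩
        (Subtype.val : ↥(W : Set X) → X) ⁻¹' (Set.range (g k i)) := by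
      ext x
      simp only [Set.mem_preimage, Set.mem_inter_iff, Set.mem_compl_iff, Set.mem_iUnion,
        Subtype.exists, not_exists, hZc]
      constructor
      · rintro ⟨⟨h1, h2⟩, h3⟩
        exact ⟨fun k' hk' hx' => h2 k' hk' hx', h3⟩
      · rintro ⟨h2, h3⟩
        exact ⟨⟨hgD k i h3, fun k' hk' hx' => h2 k' hk' hx'⟩, h3⟩
    rw [hset]
    refine Topology.IsConstructible.inter (Topology.IsConstructible.compl ?_) ?_
    · exact Topology.IsConstructible.iUnion (fun k' => hDcons k'.1)
    · -- image under the open embedding `D k → W`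
      let φ : ↥(D k : Set X) → ↥(W : Set X) := fun x => ⟨x.1, hDW k x.2⟩
      have hφc : Continuous φ := Continuous.subtype_mk continuous_subtype_val _
      have hφr : Set.range φ = (Subtype.val : ↥(W : Set X) → X) ⁻¹' (D k : Set X) := by
        ext ⟨x, hx⟩
        constructor
        · rintro ⟨⟨y, hy⟩, hxy⟩
          have : y = x := congrArg (fun z : ↥(W : Set X) => z.1) hxy
          subst this
          exact hy
        · intro hxD
          exact ⟨⟨x, hxD⟩, rfl⟩
      have hφ : Topology.IsOpenEmbedding φ := by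
        refine Topology.IsOpenEmbedding.of_continuous_injective_isOpenMap hφc ?_ ?_
        · intro a b hab
          exact Subtype.ext (congrArg (fun z : ↥(W : Set X) => z.1) hab)
        · intro A hA
          obtain ⟨B, hB, rfl⟩ := isOpen_induced_iff.1 hA
          have : φ '' ((Subtype.val : ↥(D k : Set X) → X) ⁻¹' B) =
              (Subtype.val : ↥(W : Set X) → X) ⁻¹' (B ∩ (D k : Set X)) := by
            ext ⟨x, hx⟩
            constructor
            · rintro ⟨⟨y, hy⟩, hyB, hxy⟩
              have : y = x := congrArg (fun z : ↥(W : Set X) => z.1) hxy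
              subst this
              exact ⟨hyB, hy⟩
            · rintro ⟨hxB, hxO⟩
              exact ⟨⟨x, hxO⟩, hxB, rfl⟩
          rw [this]
          exact (hB.inter (D k).isOpen).preimage continuous_subtype_val
      have himg : (Subtype.val : ↥(W : Set X) → X) ⁻¹' (Set.range (g k i)) =
          φ '' ((Subtype.val : ↥(D k : Set X) → X) ⁻¹' Set.range (g k i)) := by
        ext ⟨x, hx⟩
        constructor
        · intro hxr
          exact ⟨⟨x, hgD k i hxr⟩, hxr, rfl⟩
        · rintro ⟨⟨y, hy⟩, hyr, hxy⟩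
          have : y = x := congrArg (fun z : ↥(W : Set X) => z.1) hxy
          subst this
          exact hyr
      rw [himg]
      refine (hgc k i).image_of_isOpenEmbedding hφ ?_
      rw [hφr]
      have hcomp : IsCompact ((Subtype.val : ↥(W : Set X) → X) ⁻¹' (D k : Set X)) := by
        rw [Subtype.isCompact_iff, Set.image_preimage_eq_inter_range, Subtype.range_coe]
        have : (D k : Set X) ∩ (W : Set X) = D k := Set.inter_eq_left.2 (hDW k)
        rw [this]
        exact hDc k
      exact hcomp.isRetrocompact ((D k).isOpen.preimage continuous_subtype_val)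
  · rintro ⟨k, i⟩ ⟨k', i'⟩ hne
    simp only [range_fst_comp_eq]
    rw [Set.disjoint_left]
    rintro x ⟨hx1, hx2⟩ ⟨hx1', hx2'⟩
    rw [hmemE] at hx1 hx1'
    have hkk' : k = k' := by
      rcases lt_trichotomy k k' with hlt | heq | hgt
      · exact (hx1'.2 k hlt hx1.1).elim
      · exact heq
      · exact (hx1.2 k' hgt hx1'.1).elim
    subst hkk'
    have hii' : i ≠ i' := fun hi => hne (by rw [hi])
    exact Set.disjoint_left.1 (hgd k hii') hx2 hx2'
  · apply Set.Subset.antisymm
    · refine Set.iUnion_subset ?_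
      rintro ⟨k, i⟩
      rw [range_fst_comp_eq]
      intro x hx
      exact hDW k ((hmemE k x).1 hx.1).1
    · intro x hx
      have hne : {k : Fin m | x ∈ (D k : Set X)}.Nonempty := by
        rw [← hcov] at hx
        obtain ⟨k, hk⟩ := Set.mem_iUnion.1 hx
        exact ⟨k, hk⟩
      obtain ⟨k, hk, hmin⟩ := wellFounded_lt.has_min _ hne
      have hxE : x ∈ Set.range (e k) := (hmemE k x).2 ⟨hk, fun k' hk' hx' => hmin k' hx' hk'⟩
      have hk' : x ∈ (D k : Set X) := hk
      rw [← hgu k] at hk'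
      obtain ⟨i, hi⟩ := Set.mem_iUnion.1 hk'
      refine Set.mem_iUnion.2 ⟨⟨k, i⟩, ?_⟩
      rw [range_fst_comp_eq]
      exact ⟨hxE, hi⟩
  · rintro ⟨k, i⟩
    exact hQ _ _ (g k i) _ (pullback.fst (g k i) (e k)) rfl (hgQ k i)

end Groth.Agent.H2.Strata

namespace Groth.Agent.H2.Strata

lemma exists_finite_affine_cover (X : Scheme.{u}) [CompactSpace X] :
    ∃ (m : ℕ) (D : Fin m → X.Opens), (∀ k, IsAffineOpen (D k)) ∧
      (⋃ k, (D k : Set X)) = Set.univ := by
  have key : ∀ x : X, ∃ V : X.Opens, IsAffineOpen V ∧ x ∈ V := by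
    intro x
    obtain ⟨_, ⟨V, hV : IsAffineOpen V, rfl⟩, hxV, -⟩ :=
      X.isBasis_affineOpens.exists_subset_of_mem_open (Set.mem_univ x) isOpen_univ
    exact ⟨V, hV, hxV⟩
  choose V hV hmem using key
  obtain ⟨t, ht⟩ := isCompact_univ.elim_finite_subcover (fun x : X => (V x : Set X))
    (fun x => (V x).isOpen) (fun x _ => Set.mem_iUnion.2 ⟨x, hmem x⟩)
  let e := t.equivFin
  refine ⟨t.card, fun k => V (e.symm k).1, fun k => hV _, ?_⟩
  apply Set.eq_univ_of_univ_subset
  intro x hx
  obtain ⟨y, hy, hxy⟩ := Set.mem_iUnion₂.1 (ht hx)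
  refine Set.mem_iUnion.2 ⟨e ⟨y, hy⟩, ?_⟩
  change x ∈ (V (e.symm (e ⟨y, hy⟩)).1 : Set X)
  rw [Equiv.symm_apply_apply]
  exact hxy

theorem S0128_main (X : Scheme.{u}) [CompactSpace X] [QuasiSeparatedSpace X]
    (F : EtCoh.Ab X) :
    EtPBC.IsConstructible F ↔ EtPBC.AdaptedStrata F (Set.univ : Set X) := by
  let Qf : ∀ (T : Scheme.{u}), (T ⟶ X) → Prop :=
    fun T g => ∀ [EtCoh.BCCont g], EtCoh.IsFiniteLocallyConstant ((EtCoh.pull g).obj F)
  have hQ : ∀ (T T' : Scheme.{u}) (g : T ⟶ X) (g' : T' ⟶ X) (p : T' ⟶ T),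
      g' = p ≫ g → Qf T g → Qf T' g' :=
    fun T T' g g' p w hg _ => isFLC_pull_of_comp'' p g g' w F hg
  constructor
  · intro hF
    obtain ⟨m, D, hDa, hcov⟩ := exists_finite_affine_cover X
    haveI : QuasiSeparatedSpace ↥((⊤ : X.Opens) : Set X) :=
      (isOpen_univ.isOpenEmbedding_subtypeVal).quasiSeparatedSpace
    exact hasStrata_of_finite_cover (⊤ : X.Opens) m D hDa hcov Qf hQ (fun k => hF (D k) (hDa k))
  · intro h U hU
    exact HasStrata.restrict_open Qf hQ Set.univ U (Set.subset_univ _) h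

end Groth.Agent.H2.Strata
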