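import Mathlib
import Groth.Agent.Lib.Helper2.StrataG
import Groth.Agent.Lib.Helper2.SpecTopA

set_option autoImplicit false
set_option linter.style.haveILetI false
set_option linter.unusedSectionVars false
universe u

open CategoryTheory CategoryTheory.Limits Opposite AlgebraicGeometry TopologicalSpace Topology

namespace Groth.Agent.H2.Strata

variable {X : Scheme.{u}}

/-- A finite disjoint union of ranges of immersions satisfying `Q`, each constructible in `X`. -/
def GoodSet (Q : ∀ (T : Scheme.{u}), (T ⟶ X) → Prop) (R : Set X) : Prop :=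
  ∃ (n : ℕ) (T : Fin n → Scheme.{u}) (g : ∀ i, T i ⟶ X),
    (∀ i, IsImmersion (g i)) ∧ (∀ i, IsConstructible (Set.range (g i))) ∧
    Pairwise (fun i j => Disjoint (Set.range (g i)) (Set.range (g j))) ∧
    (⋃ i, Set.range (g i)) = R ∧ ∀ i, Q (T i) (g i)

variable {Q : ∀ (T : Scheme.{u}), (T ⟶ X) → Prop}

lemma GoodSet.of_finite {R : Set X}
    {ι : Type} [Finite ι] (T : ι → Scheme.{u}) (g : ∀ i, T i ⟶ X)
    (h1 : ∀ i, IsImmersion (g i))
    (h2 : ∀ i, IsConstructible (Set.range (g i)))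
    (h3 : Pairwise (fun i j => Disjoint (Set.range (g i)) (Set.range (g j))))
    (h4 : (⋃ i, Set.range (g i)) = R) (h5 : ∀ i, Q (T i) (g i)) : GoodSet Q R := by
  obtain ⟨n, ⟨e⟩⟩ := Finite.exists_equiv_fin ι
  refine ⟨n, fun k => T (e.symm k), fun k => g (e.symm k), fun k => h1 _, fun k => h2 _, ?_, ?_,
    fun k => h5 _⟩
  · intro k k' hkk'
    exact h3 (fun h => hkk' (e.symm.injective h))
  · rw [← h4]
    exact e.symm.surjective.iUnion_comp (fun i => Set.range (g i))

lemma GoodSet.empty : GoodSet Q (∅ : Set X) :=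
  ⟨0, fun i => i.elim0, fun i => i.elim0, fun i => i.elim0, fun i => i.elim0,
    fun i => i.elim0, by simp, fun i => i.elim0⟩

lemma GoodSet.congr {R R' : Set X} (h : GoodSet Q R) (e : R = R') : GoodSet Q R' := e ▸ h

/-- Restriction of a good set to the range of an immersion with constructible range. -/
lemma GoodSet.inter_range
    (hQ : ∀ (T T' : Scheme.{u}) (g : T ⟶ X) (g' : T' ⟶ X) (p : T' ⟶ T),
      g' = p ≫ g → Q T g → Q T' g')
    {R : Set X} (h : GoodSet Q R) {E : Scheme.{u}} (e : E ⟶ X) [IsImmersion e]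
    (he : IsConstructible (Set.range e)) : GoodSet Q (R ∩ Set.range e) := by
  obtain ⟨n, T, g, hgi, hgc, hgd, hgu, hgQ⟩ := h
  refine ⟨n, fun i => pullback (g i) e, fun i => pullback.fst (g i) e ≫ g i, ?_, ?_, ?_, ?_, ?_⟩
  · intro i
    haveI := hgi i
    infer_instance
  · intro i
    rw [Groth.Agent.H2.TensCons.range_fst_comp]
    exact (hgc i).inter he
  · intro i i' hne
    simp only [Groth.Agent.H2.TensCons.range_fst_comp]
    exact (hgd hne).mono Set.inter_subset_left Set.inter_subset_left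
  · simp only [Groth.Agent.H2.TensCons.range_fst_comp]
    rw [← Set.iUnion_inter, hgu]
  · intro i
    exact hQ _ _ (g i) _ (pullback.fst (g i) e) rfl (hgQ i)

/-- Disjoint union of good sets. -/
lemma GoodSet.union_disjoint {R₁ R₂ : Set X} (h1 : GoodSet Q R₁) (h2 : GoodSet Q R₂)
    (hd : Disjoint R₁ R₂) : GoodSet Q (R₁ ∪ R₂) := by
  obtain ⟨n, T, g, hgi, hgc, hgd, hgu, hgQ⟩ := h1
  obtain ⟨m, T', g', hgi', hgc', hgd', hgu', hgQ'⟩ := h2
  refine GoodSet.of_finite (ι := Fin n ⊕ Fin m) (fun k => Sum.elim T T' k)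
    (fun k => match k with | Sum.inl i => g i | Sum.inr j => g' j) ?_ ?_ ?_ ?_ ?_
  · rintro (i | j)
    · exact hgi i
    · exact hgi' j
  · rintro (i | j)
    · exact hgc i
    · exact hgc' j
  · rintro (i | j) (i' | j') hne
    · exact hgd (fun h => hne (by rw [h]))
    · refine hd.mono ?_ ?_
      · rw [← hgu]; exact Set.subset_iUnion (fun i => Set.range (g i)) i
      · rw [← hgu']; exact Set.subset_iUnion (fun j => Set.range (g' j)) j'
    · refine hd.symm.mono ?_ ?_
      · rw [← hgu']; exact Set.subset_iUnion (fun j => Set.range (g' j)) j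
      · rw [← hgu]; exact Set.subset_iUnion (fun i => Set.range (g i)) i'
    · exact hgd' (fun h => hne (by rw [h]))
  · rw [← hgu, ← hgu']
    ext x
    simp only [Set.mem_iUnion, Set.mem_union, Sum.exists]
    exact Iff.rfl
  · rintro (i | j)
    · exact hgQ i
    · exact hgQ' j

end Groth.Agent.H2.Strata

namespace Groth.Agent.H2.Strata

variable {X : Scheme.{u}} {Q : ∀ (T : Scheme.{u}), (T ⟶ X) → Prop}

/-- Nice locally closed sets: constructible, and closed in a constructible open. -/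
def Nice (C : Set X) : Prop :=
  IsConstructible C ∧ ∃ O : X.Opens, IsConstructible (O : Set X) ∧ C ⊆ (O : Set X) ∧
    IsOpen ((O : Set X) \ C)

/-- Removing a nice locally closed set from a good set. -/
lemma GoodSet.sdiff
    (hQ : ∀ (T T' : Scheme.{u}) (g : T ⟶ X) (g' : T' ⟶ X) (p : T' ⟶ T),
      g' = p ≫ g → Q T g → Q T' g')
    {R : Set X} (h : GoodSet Q R) {C : Set X} (hC : Nice C) : GoodSet Q (R \ C) := by
  obtain ⟨hCc, O, hO, hCO, hopen⟩ := hC
  obtain ⟨E₁, e₁, he₁, hr₁⟩ := exists_immersion_range (⊤ : X.Opens)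
    ⟨(O : Set X)ᶜ, O.isOpen.isClosed_compl⟩
  have hr₁' : Set.range e₁ = (O : Set X)ᶜ := by
    rw [hr₁]
    simp
  let O' : X.Opens := ⟨(O : Set X) \ C, hopen⟩
  have h1 := h.inter_range hQ e₁ (by rw [hr₁']; exact hO.compl)
  have h2 := h.inter_range hQ O'.ι (by rw [Scheme.Opens.range_ι]; exact hO.sdiff hCc)
  rw [hr₁'] at h1
  rw [Scheme.Opens.range_ι] at h2
  refine (h1.union_disjoint h2 ?_).congr ?_
  · rw [Set.disjoint_left]
    rintro x ⟨-, hx1⟩ ⟨-, hx2⟩
    exact hx1 hx2.1
  · ext x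
    simp only [Set.mem_union, Set.mem_inter_iff, Set.mem_compl_iff, Set.mem_sdiff]
    constructor
    · rintro (⟨hR, hxO⟩ | ⟨hR, hx2⟩)
      · exact ⟨hR, fun hxC => hxO (hCO hxC)⟩
      · exact ⟨hR, hx2.2⟩
    · rintro ⟨hR, hxC⟩
      by_cases hxO : x ∈ (O : Set X)
      · exact Or.inr ⟨hR, hxO, hxC⟩
      · exact Or.inl ⟨hR, hxO⟩

/-- Finite unions of nice good sets are good. -/
lemma GoodSet.union_family
    (hQ : ∀ (T T' : Scheme.{u}) (g : T ⟶ X) (g' : T' ⟶ X) (p : T' ⟶ T),
      g' = p ≫ g → Q T g → Q T' g') :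
    ∀ (r : ℕ) (R : Set X) (_ : GoodSet Q R) (C : Fin r → Set X) (_ : ∀ k, GoodSet Q (C k))
      (_ : ∀ k, Nice (C k)), GoodSet Q (R ∪ ⋃ k, C k) := by
  intro r
  induction r with
  | zero =>
    intro R hR C _ _
    refine hR.congr ?_
    simp
  | succ r ih =>
    intro R hR C hC hN
    have h0 : GoodSet Q (R ∪ C 0) := by
      refine ((hR.sdiff hQ (hN 0)).union_disjoint (hC 0) ?_).congr ?_
      · exact Set.disjoint_sdiff_left
      · exact Set.sdiff_union_self
    refine (ih (R ∪ C 0) h0 (fun k => C k.succ) (fun k => hC _) (fun k => hN _)).congr ?_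
    ext x
    simp only [Set.mem_union, Set.mem_iUnion]
    constructor
    · rintro ((hx | hx) | ⟨k, hx⟩)
      · exact Or.inl hx
      · exact Or.inr ⟨0, hx⟩
      · exact Or.inr ⟨k.succ, hx⟩
    · rintro (hx | ⟨k, hx⟩)
      · exact Or.inl (Or.inl hx)
      · refine Fin.cases ?_ ?_ k hx
        · intro hx
          exact Or.inl (Or.inr hx)
        · intro k' hx
          exact Or.inr ⟨k', hx⟩

end Groth.Agent.H2.Strata
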