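import Mathlib
import Groth.Prelude.Def_PBC
import Groth.Agent.Lib.Helper2.GoodSetA

set_option autoImplicit false
set_option linter.style.haveILetI false
set_option linter.unusedSectionVars false
universe u

open CategoryTheory CategoryTheory.Limits Opposite AlgebraicGeometry TopologicalSpace Topology

namespace Groth.Agent.H2.SpecTop

/-- A compact locally closed subset of a prespectral space is closed in a compact open. -/
lemma exists_compact_open_of_isLocallyClosed {X : Type*} [TopologicalSpace X] [PrespectralSpace X]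
    {C : Set X} (hC : IsLocallyClosed C) (hc : IsCompact C) :
    ∃ O : Set X, IsOpen O ∧ IsCompact O ∧ C ⊆ O ∧ IsOpen (O \ C) := by
  obtain ⟨U, Z, hU, hZ, rfl⟩ := hC
  obtain ⟨O, hOc, hO, hCO, hOU⟩ :=
    PrespectralSpace.exists_isCompact_and_isOpen_between hc hU Set.inter_subset_left
  refine ⟨O, hO, hOc, hCO, ?_⟩
  have : O \ (U ∩ Z) = O ∩ Zᶜ := by
    ext x
    simp only [Set.mem_sdiff, Set.mem_inter_iff, Set.mem_compl_iff, not_and]
    exact ⟨fun ⟨h1, h2⟩ => ⟨h1, h2 (hOU h1)⟩, fun ⟨h1, h2⟩ => ⟨h1, fun _ => h2⟩⟩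
  rw [this]
  exact hO.inter hZ.isOpen_compl

end Groth.Agent.H2.SpecTop

namespace Groth.Agent.H2.Strata

variable {X : Scheme.{u}}

/-- The source of an immersion with constructible range into a qcqs scheme is quasi-compact. -/
lemma compactSpace_of_isConstructible_range [CompactSpace X] [QuasiSeparatedSpace X]
    {T : Scheme.{u}} (g : T ⟶ X) [IsImmersion g] (hc : IsConstructible (Set.range g)) :
    CompactSpace T := by
  have h1 : IsCompact (Set.range g) := Groth.Agent.H2.SpecTop.isCompact_of_isConstructible hc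
  rw [← Set.image_univ] at h1
  exact ⟨(g.isEmbedding.isInducing.isCompact_iff).2 h1⟩

lemma quasiSeparatedSpace_of_isImmersion [QuasiSeparatedSpace X]
    {T : Scheme.{u}} (g : T ⟶ X) [IsImmersion g] : QuasiSeparatedSpace T :=
  quasiSeparatedSpace_of_quasiSeparated g

lemma nice_range [CompactSpace X] [QuasiSeparatedSpace X]
    {T : Scheme.{u}} (g : T ⟶ X) [IsImmersion g] (hc : IsConstructible (Set.range g)) :
    Nice (Set.range g) := by
  have h1 : IsCompact (Set.range g) := Groth.Agent.H2.SpecTop.isCompact_of_isConstructible hc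
  obtain ⟨O, hO, hOc, hCO, hopen⟩ :=
    Groth.Agent.H2.SpecTop.exists_compact_open_of_isLocallyClosed
      (IsImmersion.isLocallyClosed_range (f := g)) h1
  exact ⟨hc, ⟨O, hO⟩, hOc.isConstructible hO, hCO, hopen⟩

end Groth.Agent.H2.Strata

namespace Groth.Agent.H2.Strata

variable {X : Scheme.{u}}

/-- Ambient constructibility from constructibility in the `univ` subtype. -/
lemma isConstructible_of_val_preimage_univ {Y : Type*} [TopologicalSpace Y] {R : Set Y}
    (h : IsConstructible ((Subtype.val : ↥(Set.univ : Set Y) → Y) ⁻¹' R)) : IsConstructible R := by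
  have h1 := h.image_of_isOpenEmbedding (isOpen_univ.isOpenEmbedding_subtypeVal)
    (by rw [Subtype.range_coe]; exact IsRetrocompact.univ)
  rwa [Subtype.image_preimage_coe, Set.univ_inter] at h1

lemma val_preimage_univ_of_isConstructible {Y : Type*} [TopologicalSpace Y] {R : Set Y}
    (h : IsConstructible R) :
    IsConstructible ((Subtype.val : ↥(Set.univ : Set Y) → Y) ⁻¹' R) :=
  h.preimage_of_isOpenEmbedding (isOpen_univ.isOpenEmbedding_subtypeVal)

/-- A good decomposition of `univ` is a stratification of `univ`. -/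
lemma GoodSet.hasStrata_univ {Q : ∀ (T : Scheme.{u}), (T ⟶ X) → Prop}
    (h : GoodSet Q (Set.univ : Set X)) : HasStrata Q (Set.univ : Set X) := by
  obtain ⟨n, T, g, h1, h2, h3, h4, h5⟩ := h
  exact ⟨n, T, g, h1, fun i => val_preimage_univ_of_isConstructible (h2 i), h3, h4, h5⟩

/-- Strata of the source of an immersion with constructible range push forward to a good
decomposition of the range. -/
lemma goodSet_range_of_hasStrata [CompactSpace X] [QuasiSeparatedSpace X]
    {T : Scheme.{u}} (g : T ⟶ X) [IsImmersion g] (hc : IsConstructible (Set.range g))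
    (Q' : ∀ (S : Scheme.{u}), (S ⟶ T) → Prop) (Q : ∀ (S : Scheme.{u}), (S ⟶ X) → Prop)
    (hQ : ∀ (S : Scheme.{u}) (h : S ⟶ T), Q' S h → Q S (h ≫ g))
    (hT : HasStrata Q' (Set.univ : Set T)) : GoodSet Q (Set.range g) := by
  haveI := compactSpace_of_isConstructible_range g hc
  obtain ⟨n, S, h, h1, h2, h3, h4, h5⟩ := hT
  have hinj : Function.Injective g := g.isEmbedding.injective
  refine ⟨n, S, fun l => h l ≫ g, ?_, ?_, ?_, ?_, fun l => hQ _ _ (h5 l)⟩
  · intro l
    haveI := h1 l
    infer_instance
  · intro l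
    rw [range_comp_eq_image]
    exact Groth.Agent.H2.SpecTop.isConstructible_image_of_isEmbedding g.isEmbedding hc
      (isConstructible_of_val_preimage_univ (h2 l))
  · intro l l' hne
    rw [range_comp_eq_image, range_comp_eq_image]
    exact (Set.disjoint_image_iff hinj).2 (h3 hne)
  · simp only [range_comp_eq_image]
    rw [← Set.image_iUnion, h4, Set.image_univ]

theorem S0130_main (X : Scheme.{u}) [CompactSpace X] [QuasiSeparatedSpace X]
    (F : EtCoh.Ab X) {ι : Type u} (T : ι → Scheme.{u}) (g : ∀ i, T i ⟶ X) [∀ i, IsImmersion (g i)]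
    (hc : ∀ i, Topology.IsConstructible (Set.range (g i)))
    (hcov : (⋃ i, Set.range (g i)) = Set.univ)
    (h : ∀ i, EtPBC.IsConstructible ((EtCoh.pull (g i)).obj F)) :
    EtPBC.IsConstructible F := by
  classical
  let Qf : ∀ (S : Scheme.{u}), (S ⟶ X) → Prop :=
    fun S k => ∀ [EtCoh.BCCont k], EtCoh.IsFiniteLocallyConstant ((EtCoh.pull k).obj F)
  have hQ : ∀ (S S' : Scheme.{u}) (k : S ⟶ X) (k' : S' ⟶ X) (p : S' ⟶ S),
      k' = p ≫ k → Qf S k → Qf S' k' :=
    fun S S' k k' p w hk _ => isFLC_pull_of_comp'' p k k' w F hk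
  -- each stratum is good and nice
  have hgood : ∀ i, GoodSet Qf (Set.range (g i)) := by
    intro i
    haveI := compactSpace_of_isConstructible_range (g i) (hc i)
    haveI := quasiSeparatedSpace_of_isImmersion (g i)
    refine goodSet_range_of_hasStrata (g i) (hc i)
      (fun S k => ∀ [EtCoh.BCCont k],
        EtCoh.IsFiniteLocallyConstant ((EtCoh.pull k).obj ((EtCoh.pull (g i)).obj F)))
      Qf ?_ ((S0128_main (T i) _).1 (h i))
    intro S k hk _
    exact isFiniteLocallyConstant_of_iso ((pullCompIsoAb k (g i)).app F).symm hk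
  -- finite subcover
  obtain ⟨t, ht⟩ := Groth.Agent.H2.SpecTop.exists_finite_subcover_of_isConstructible
    (fun i => Set.range (g i)) hc hcov
  let e := t.equivFin
  have hall := GoodSet.union_family hQ t.card ∅ GoodSet.empty
    (fun k => Set.range (g (e.symm k).1)) (fun k => hgood _)
    (fun k => nice_range (g _) (hc _))
  have huniv : (∅ ∪ ⋃ k, Set.range (g (e.symm k).1) : Set X) = Set.univ := by
    rw [Set.empty_union]
    apply Set.eq_univ_of_forall
    intro x
    have hx : x ∈ ⋃ i ∈ t, Set.range (g i) := ht ▸ Set.mem_univ x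
    obtain ⟨i, hi, hxi⟩ := Set.mem_iUnion₂.1 hx
    refine Set.mem_iUnion.2 ⟨e ⟨i, hi⟩, ?_⟩
    change x ∈ Set.range (g (e.symm (e ⟨i, hi⟩)).1)
    rw [Equiv.symm_apply_apply]
    exact hxi
  have hstr : HasStrata Qf (Set.univ : Set X) := (hall.congr huniv).hasStrata_univ
  intro U hU
  exact HasStrata.restrict_open Qf hQ Set.univ U (Set.subset_univ _) hstr

end Groth.Agent.H2.Strata
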