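import Mathlib
import Groth.Prelude.Def_EtMod2
import Groth.Prelude.Def_PBC
import Groth.Agent.Lib.Helper2.StalkLCE
import Groth.Agent.Lib.Helper2.StrataC
import Groth.Agent.Lib.Helper2.GoodSetB
import Groth.Agent.Lib.Helper2.SpecTopA

set_option autoImplicit false
set_option linter.style.haveILetI false
set_option linter.unusedSectionVars false
universe u

open CategoryTheory CategoryTheory.Limits Opposite TopologicalSpace AlgebraicGeometry Topology

namespace Groth.Agent.H2.StalkLC

/-- Membership in the support of an inverse image. -/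
theorem mem_supp_pull_iff {T X : Scheme.{u}} (g : T ⟶ X) [SurjectiveOnStalks g]
    (F : EtCoh.Ab X) (t : T) :
    t ∈ EtPBC.supp ((EtCoh.pull g).obj F) ↔ g t ∈ EtPBC.supp F := by
  constructor
  · rintro ⟨Ω, _, _, l, hl, hnz⟩
    rw [range_geomPt_eq_iff] at hl
    refine ⟨Ω, inferInstance, inferInstance, l ≫ g,
      (range_geomPt_eq_iff _ _).2 (by rw [← hl]; rfl), ?_⟩
    intro hz
    apply hnz
    exact IsZero.of_iso hz ((Groth.Agent.H7.ST.stalkPullIso g l).app F)
  · rintro ⟨Ω, _, _, ξ, hξ, hnz⟩
    rw [range_geomPt_eq_iff] at hξ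
    obtain ⟨l, hl, hlt⟩ := exists_fac_of_surjectiveOnStalks g ξ t hξ.symm
    subst hl
    refine ⟨Ω, inferInstance, inferInstance, l, (range_geomPt_eq_iff _ _).2 hlt, ?_⟩
    intro hz
    apply hnz
    exact IsZero.of_iso hz ((Groth.Agent.H7.ST.stalkPullIso g l).app F).symm

/-- The support of a sheaf with an adapted stratification of a qcqs scheme is constructible. -/
theorem isConstructible_supp_of_adaptedStrata {X : Scheme.{u}} [CompactSpace X]
    [QuasiSeparatedSpace X] (F : EtCoh.Ab X) (h : EtPBC.AdaptedStrata F (Set.univ : Set X)) :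
    IsConstructible (EtPBC.supp F) := by
  obtain ⟨n, T, g, himm, hcons, hdisj, hcov, hflc⟩ := h
  have hr : ∀ i, IsConstructible (Set.range (g i)) := fun i =>
    Groth.Agent.H2.Strata.isConstructible_of_val_preimage_univ (hcons i)
  have hsupp : EtPBC.supp F = ⋃ i, (g i) '' EtPBC.supp ((EtCoh.pull (g i)).obj F) := by
    ext x
    constructor
    · intro hx
      have hx' : x ∈ ⋃ i, Set.range (g i) := by rw [hcov]; trivial
      obtain ⟨i, t, rfl⟩ := Set.mem_iUnion.1 hx'
      haveI := himm i
      exact Set.mem_iUnion.2 ⟨i, t, (mem_supp_pull_iff (g i) F t).2 hx, rfl⟩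
    · intro hx
      obtain ⟨i, t, ht, rfl⟩ := Set.mem_iUnion.1 hx
      haveI := himm i
      exact (mem_supp_pull_iff (g i) F t).1 ht
  rw [hsupp]
  refine IsConstructible.iUnion fun i => ?_
  haveI := himm i
  haveI : CompactSpace (T i) := Groth.Agent.H2.Strata.compactSpace_of_isConstructible_range (g i) (hr i)
  haveI : QuasiSeparatedSpace (T i) := Groth.Agent.H2.Strata.quasiSeparatedSpace_of_isImmersion (g i)
  have hclopen := isClopen_supp_of_isFLC _ (hflc i)
  have hc : IsConstructible (EtPBC.supp ((EtCoh.pull (g i)).obj F)) :=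
    (hclopen.1.isCompact).isConstructible hclopen.2
  exact Groth.Agent.H2.SpecTop.isConstructible_image_of_isEmbedding (g i).isEmbedding (hr i) hc

theorem S8526_main {X : Scheme.{u}} (F : EtCoh.Ab X) (hF : EtPBC.IsConstructible F) :
    Topology.IsLocallyConstructible (EtPBC.supp F) := by
  intro x
  obtain ⟨U, hU, hxU, -⟩ := exists_isAffineOpen_mem_and_subset (x := x)
    (U := (⊤ : X.Opens)) trivial
  refine ⟨U, U.2.mem_nhds hxU, U.2, ?_⟩
  have hF' := Groth.Agent.H2.Strata.S0127_main U.ι F hF
  haveI : IsAffine U.toScheme := hU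
  have hstr := hF' ⊤ (isAffineOpen_top _)
  have hc := isConstructible_supp_of_adaptedStrata _ hstr
  have heq : ((Subtype.val : ↥(U : Set X) → X) ⁻¹' EtPBC.supp F) =
      EtPBC.supp ((EtCoh.pull U.ι).obj F) := by
    ext t
    exact (mem_supp_pull_iff U.ι F t).symm
  rw [heq]
  exact hc

end Groth.Agent.H2.StalkLC
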