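import Mathlib
import Groth.Prelude.Def_EtMod2
import Groth.Prelude.Def_PBC
import Groth.Agent.Lib.Helper2.StalkLCF

set_option autoImplicit false
set_option linter.style.haveILetI false
set_option linter.unusedSectionVars false
universe u

open CategoryTheory CategoryTheory.Limits Opposite TopologicalSpace AlgebraicGeometry Topology

namespace Groth.Agent.H2.StalkCard

open Groth.Agent.H2.LCModel Groth.Agent.H2.StalkLC

/-- The set of points over which some geometric stalk has exactly `n` elements. -/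
def cardSet {X : Scheme.{u}} (F : EtCoh.Ab X) (n : ℕ) : Set X :=
  {x : X | ∃ (Ω : Type u) (_ : Field Ω) (_ : IsSepClosed Ω) (ξ : Spec (CommRingCat.of Ω) ⟶ X),
    Set.range ξ = {x} ∧ Nat.card ((EtCoh.stalk ξ).obj F) = n}

set_option backward.isDefEq.respectTransparency.types false in
/-- The stalk of an abelian sheaf trivialized over `U` at a geometric point lifting to `U`
has the cardinality of the value group. -/
theorem card_stalk_of_iso {X : Scheme.{u}} (F : EtCoh.Ab X) (U : X.Etale)
    (M : AddCommGrpCat.{u + 1})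
    (α : EtCoh.restr F U ≅
      (constantSheaf (X.smallEtaleTopology.over U) AddCommGrpCat.{u + 1}).obj M)
    {Ω : Type u} [Field Ω] [IsSepClosed Ω]
    (ξ : Spec (CommRingCat.of Ω) ⟶ X) (y : U.left) (hy : U.hom y = ξ default) :
    Nat.card ((EtCoh.stalk ξ).obj F) = Nat.card M := by
  obtain ⟨t, -⟩ := Scheme.pointSmallEtaleFiberObjToPreimage_surjective ξ rfl U ⟨y, hy⟩
  let e : LocConstAb.Triv (etReal X) F.obj U M := LocConstAb.Triv.ofIso α
  obtain ⟨Θ, hΘ⟩ := exists_bijective_of_trivAb (etReal X) (etPtReal X ξ) e t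
  exact (Nat.card_eq_of_bijective Θ hΘ).symm

set_option backward.isDefEq.respectTransparency.types false in
/-- For a finite locally constant sheaf the locus where the stalks have `n` elements is open and
closed. -/
theorem isClopen_cardSet_of_isFLC {T : Scheme.{u}} (G : EtCoh.Ab T)
    (hG : EtCoh.IsFiniteLocallyConstant G) (n : ℕ) : IsClopen (cardSet G n) := by
  obtain ⟨ι, U, hcov, h⟩ := hG
  choose M i1 i2 α using h
  have hcard : ∀ j, Nat.card (AddCommGrpCat.of (ULift.{u + 1} (M j))) = Nat.card (M j) :=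
    fun j => Nat.card_congr Equiv.ulift
  have key : ∀ (j : ι) (y : (U j).left),
      (U j).hom y ∈ cardSet G n ↔ Nat.card (M j) = n := by
    intro j y
    constructor
    · rintro ⟨Ω, _, _, ξ, hξ, hn⟩
      rw [range_geomPt_eq_iff] at hξ
      rw [card_stalk_of_iso G (U j) _ (α j).some ξ y hξ.symm, hcard] at hn
      exact hn
    · intro hn
      obtain ⟨Ω, _, _, ξ, hξ⟩ := exists_geomPt ((U j).hom y)
      refine ⟨Ω, inferInstance, inferInstance, ξ, (range_geomPt_eq_iff ξ _).2 hξ, ?_⟩
      rw [card_stalk_of_iso G (U j) _ (α j).some ξ y hξ.symm, hcard]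
      exact hn
  have hop : ∀ j, IsOpen (Set.range (U j).hom) := fun j => by
    haveI : Etale (U j).hom := (U j).prop
    exact (U j).hom.isOpenMap.isOpen_range
  have h1 : cardSet G n = ⋃ (j : {j // Nat.card (M j) = n}), Set.range (U j.1).hom := by
    ext t
    constructor
    · intro ht
      obtain ⟨j, y, rfl⟩ := hcov t
      exact Set.mem_iUnion.2 ⟨⟨j, (key j y).1 ht⟩, y, rfl⟩
    · intro ht
      obtain ⟨⟨j, hj⟩, y, rfl⟩ := Set.mem_iUnion.1 ht
      exact (key j y).2 hj
  have h2 : (cardSet G n)ᶜ = ⋃ (j : {j // ¬ Nat.card (M j) = n}), Set.range (U j.1).hom := by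
    ext t
    constructor
    · intro ht
      obtain ⟨j, y, rfl⟩ := hcov t
      refine Set.mem_iUnion.2 ⟨⟨j, ?_⟩, y, rfl⟩
      intro hns
      exact ht ((key j y).2 hns)
    · intro ht
      obtain ⟨⟨j, hj⟩, y, rfl⟩ := Set.mem_iUnion.1 ht
      intro hmem
      exact hj ((key j y).1 hmem)
  constructor
  · rw [← isOpen_compl_iff, h2]
    exact isOpen_iUnion fun j => hop j.1
  · rw [h1]
    exact isOpen_iUnion fun j => hop j.1

/-- Membership in the cardinality locus of an inverse image. -/
theorem mem_cardSet_pull_iff {T X : Scheme.{u}} (g : T ⟶ X) [SurjectiveOnStalks g]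
    (F : EtCoh.Ab X) (t : T) (n : ℕ) :
    t ∈ cardSet ((EtCoh.pull g).obj F) n ↔ g t ∈ cardSet F n := by
  constructor
  · rintro ⟨Ω, _, _, l, hl, hn⟩
    rw [range_geomPt_eq_iff] at hl
    refine ⟨Ω, inferInstance, inferInstance, l ≫ g,
      (range_geomPt_eq_iff _ _).2 (by rw [← hl]; rfl), ?_⟩
    rw [← hn]
    exact Nat.card_congr
      ((Groth.Agent.H7.ST.stalkPullIso g l).app F).symm.addCommGroupIsoToAddEquiv.toEquiv
  · rintro ⟨Ω, _, _, ξ, hξ, hn⟩
    rw [range_geomPt_eq_iff] at hξ
    obtain ⟨l, hl, hlt⟩ := exists_fac_of_surjectiveOnStalks g ξ t hξ.symm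
    subst hl
    refine ⟨Ω, inferInstance, inferInstance, l, (range_geomPt_eq_iff _ _).2 hlt, ?_⟩
    rw [← hn]
    exact Nat.card_congr
      ((Groth.Agent.H7.ST.stalkPullIso g l).app F).addCommGroupIsoToAddEquiv.toEquiv

/-- The cardinality locus of a sheaf with an adapted stratification of a qcqs scheme is
constructible. -/
theorem isConstructible_cardSet_of_adaptedStrata {X : Scheme.{u}} [CompactSpace X]
    [QuasiSeparatedSpace X] (F : EtCoh.Ab X) (h : EtPBC.AdaptedStrata F (Set.univ : Set X))
    (m : ℕ) : IsConstructible (cardSet F m) := by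
  obtain ⟨n, T, g, himm, hcons, hdisj, hcov, hflc⟩ := h
  have hr : ∀ i, IsConstructible (Set.range (g i)) := fun i =>
    Groth.Agent.H2.Strata.isConstructible_of_val_preimage_univ (hcons i)
  have hsupp : cardSet F m = ⋃ i, (g i) '' cardSet ((EtCoh.pull (g i)).obj F) m := by
    ext x
    constructor
    · intro hx
      have hx' : x ∈ ⋃ i, Set.range (g i) := by rw [hcov]; trivial
      obtain ⟨i, t, rfl⟩ := Set.mem_iUnion.1 hx'
      haveI := himm i
      exact Set.mem_iUnion.2 ⟨i, t, (mem_cardSet_pull_iff (g i) F t m).2 hx, rfl⟩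
    · intro hx
      obtain ⟨i, t, ht, rfl⟩ := Set.mem_iUnion.1 hx
      haveI := himm i
      exact (mem_cardSet_pull_iff (g i) F t m).1 ht
  rw [hsupp]
  refine IsConstructible.iUnion fun i => ?_
  haveI := himm i
  haveI : CompactSpace (T i) :=
    Groth.Agent.H2.Strata.compactSpace_of_isConstructible_range (g i) (hr i)
  haveI : QuasiSeparatedSpace (T i) :=
    Groth.Agent.H2.Strata.quasiSeparatedSpace_of_isImmersion (g i)
  have hclopen := isClopen_cardSet_of_isFLC _ (hflc i) m
  have hc : IsConstructible (cardSet ((EtCoh.pull (g i)).obj F) m) :=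
    (hclopen.1.isCompact).isConstructible hclopen.2
  exact Groth.Agent.H2.SpecTop.isConstructible_image_of_isEmbedding (g i).isEmbedding (hr i) hc

theorem S3116_mp {X : Scheme.{u}} (F : EtCoh.Ab X) (hF : EtPBC.IsConstructible F) (m : ℕ) :
    Topology.IsLocallyConstructible (cardSet F m) := by
  intro x
  obtain ⟨U, hU, hxU, -⟩ := exists_isAffineOpen_mem_and_subset (x := x)
    (U := (⊤ : X.Opens)) trivial
  refine ⟨U, U.2.mem_nhds hxU, U.2, ?_⟩
  have hF' := Groth.Agent.H2.Strata.S0127_main U.ι F hF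
  haveI : IsAffine U.toScheme := hU
  have hstr := hF' ⊤ (isAffineOpen_top _)
  have hc := isConstructible_cardSet_of_adaptedStrata _ hstr m
  have heq : ((Subtype.val : ↥(U : Set X) → X) ⁻¹' cardSet F m) =
      cardSet ((EtCoh.pull U.ι).obj F) m := by
    ext t
    exact (mem_cardSet_pull_iff U.ι F t m).symm
  rw [heq]
  exact hc

end Groth.Agent.H2.StalkCard
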