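import Mathlib
import Groth.Prelude.Def_EtMod2
import Groth.Prelude.Def_PBC
import Groth.Agent.Lib.Helper2.StalkLCF
import Groth.Agent.Lib.Helper2.StrataD

set_option autoImplicit false
set_option linter.style.haveILetI false
set_option linter.unusedSectionVars false
universe u

open CategoryTheory CategoryTheory.Limits Opposite TopologicalSpace AlgebraicGeometry Topology

namespace Groth.Agent.H2.StalkLC

/-- Surjectivity on a stalk is the vanishing of the stalk of the cokernel. -/
theorem surjective_stalk_map_iff {X : Scheme.{u}} {F G : EtCoh.Ab X} (φ : F ⟶ G)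
    {Ω : Type u} [Field Ω] [IsSepClosed Ω] (ξ : Spec (CommRingCat.of Ω) ⟶ X) :
    Function.Surjective ((EtCoh.stalk ξ).map φ) ↔ IsZero ((EtCoh.stalk ξ).obj (cokernel φ)) := by
  haveI : PreservesFiniteColimits (EtCoh.stalk ξ) := inferInstance
  rw [← AddCommGrpCat.epi_iff_surjective, Preadditive.epi_iff_isZero_cokernel]
  exact (PreservesCokernel.iso (EtCoh.stalk ξ) φ).isZero_iff.symm

theorem S0182_main (X : Scheme.{u}) [CompactSpace X] [QuasiSeparatedSpace X]
    {F G : EtCoh.Ab X} (φ : F ⟶ G) (hF : EtPBC.IsConstructible F) (hG : EtPBC.IsConstructible G) :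
    Topology.IsConstructible {x : X | ∀ (Ω : Type u) [Field Ω] [IsSepClosed Ω]
      (ξ : Spec (CommRingCat.of Ω) ⟶ X), Set.range ξ = {x} →
        Function.Surjective ((EtCoh.stalk ξ).map φ)} := by
  have hcok := (Groth.Agent.H2.Strata.S0131_main φ hF hG).2
  have hc : IsConstructible (EtPBC.supp (cokernel φ)) :=
    (S8526_main _ hcok).isConstructible
  convert hc.compl using 1
  ext x
  simp only [Set.mem_ofPred_eq, Set.mem_compl_iff, EtPBC.supp]
  constructor
  · rintro h ⟨Ω, i1, i2, ξ, hξ, hnz⟩
    exact hnz ((surjective_stalk_map_iff φ ξ).1 (h Ω ξ hξ))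
  · intro h Ω _ _ ξ hξ
    rw [surjective_stalk_map_iff]
    by_contra hnz
    exact h ⟨Ω, inferInstance, inferInstance, ξ, hξ, hnz⟩

end Groth.Agent.H2.StalkLC
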