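import Mathlib
import Groth.Prelude.Def_EtBase
import Groth.Prelude.Def_PBC
import Groth.Agent.Lib.Helper2.StalkLCG
import Groth.Agent.Lib.Helper2.StalkCardA
import Groth.Agent.Lib.Helper2.GeomIndepA
import Groth.Agent.Lib.Helper2.PtSecA
import Groth.Agent.Lib.Helper7.GT1
import Groth.Agent.Lib.Helper7.ST4
import Groth.Agent.Lib.Helper7.ST6

set_option autoImplicit false
set_option linter.style.haveILetI false
set_option linter.unusedSectionVars false
set_option linter.unusedVariables false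
universe u

open CategoryTheory CategoryTheory.Limits Opposite AlgebraicGeometry

namespace Groth.Agent.H2.Gen

open Groth.Agent.H2.StalkLC Groth.Agent.H2.LCModel Groth.Agent.H2.PtSec

variable {X : Scheme.{u}}

set_option backward.isDefEq.respectTransparency.types false in
/-- Stalks of finite locally constant sheaves are finite. -/
theorem finite_stalk_of_isFLC (F : EtCoh.Ab X)
    (hF : EtCoh.IsFiniteLocallyConstant F) {Ω : Type u} [Field Ω] [IsSepClosed Ω]
    (ξ : Spec (CommRingCat.of Ω) ⟶ X) : Finite ((EtCoh.stalk ξ).obj F) := by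
  obtain ⟨ι, U, hcov, h⟩ := hF
  obtain ⟨i, y, hy⟩ := hcov (ξ default)
  obtain ⟨M, i1, i2, ⟨α⟩⟩ := h i
  obtain ⟨t, -⟩ := Scheme.pointSmallEtaleFiberObjToPreimage_surjective ξ rfl (U i) ⟨y, hy⟩
  let e : LocConstAb.Triv (etReal X) F.obj (U i) (AddCommGrpCat.of (ULift.{u + 1} M)) :=
    LocConstAb.Triv.ofIso α
  obtain ⟨Θ, hΘ⟩ := exists_bijective_of_trivAb (etReal X) (etPtReal X ξ) e t
  haveI : Finite ↑(AddCommGrpCat.of (ULift.{u + 1} M)) :=
    inferInstanceAs (Finite (ULift.{u + 1} M))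
  exact Finite.of_surjective Θ hΘ.2

/-- Stalks of constructible sheaves are finite. -/
theorem finite_stalk_of_isConstructible (F : EtCoh.Ab X) (hF : EtPBC.IsConstructible F)
    {Ω : Type u} [Field Ω] [IsSepClosed Ω] (ξ : Spec (CommRingCat.of Ω) ⟶ X) :
    Finite ((EtCoh.stalk ξ).obj F) := by
  obtain ⟨U, hU, hxU, -⟩ := exists_isAffineOpen_mem_and_subset (x := ξ default)
    (U := (⊤ : X.Opens)) trivial
  obtain ⟨n, T, g, himm, hcons, hdisj, hcov, hflc⟩ := hF U hU
  have hx : ξ default ∈ ⋃ i, Set.range (g i) := by rw [hcov]; exact hxU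
  obtain ⟨i, t, ht⟩ := Set.mem_iUnion.1 hx
  haveI := himm i
  haveI := Groth.Agent.H7.GT.S101_main (g i)
  obtain ⟨l, hl, -⟩ := exists_fac_of_surjectiveOnStalks (g i) ξ t ht
  subst hl
  haveI : Finite ↑((EtCoh.pull (g i) ⋙ EtCoh.stalk l).obj F) :=
    finite_stalk_of_isFLC _ (hflc i) l
  exact Finite.of_equiv _
    ((Groth.Agent.H7.ST.stalkPullIso (g i) l).app F).addCommGroupIsoToAddEquiv.toEquiv

/-- A stalk vanishes iff it has one element. -/
theorem isZero_stalk_iff_card (C : EtCoh.Ab X) {Ω : Type u} [Field Ω] [IsSepClosed Ω]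
    (ξ : Spec (CommRingCat.of Ω) ⟶ X) :
    IsZero ((EtCoh.stalk ξ).obj C) ↔ Nat.card ((EtCoh.stalk ξ).obj C) = 1 := by
  constructor
  · intro h
    haveI := AddCommGrpCat.subsingleton_of_isZero h
    exact Nat.card_eq_one_iff_unique.2 ⟨inferInstance, ⟨0⟩⟩
  · intro h
    obtain ⟨hs, _⟩ := Nat.card_eq_one_iff_unique.1 h
    exact AddCommGrpCat.isZero_of_subsingleton _

theorem isZero_stalk_of_same_point (C : EtCoh.Ab X)
    {Ω₁ : Type u} [Field Ω₁] [IsSepClosed Ω₁] (ξ₁ : Spec (CommRingCat.of Ω₁) ⟶ X)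
    {Ω₂ : Type u} [Field Ω₂] [IsSepClosed Ω₂] (ξ₂ : Spec (CommRingCat.of Ω₂) ⟶ X)
    (h : ξ₁ default = ξ₂ default) :
    IsZero ((EtCoh.stalk ξ₁).obj C) ↔ IsZero ((EtCoh.stalk ξ₂).obj C) := by
  rw [isZero_stalk_iff_card, isZero_stalk_iff_card,
    Groth.Agent.H2.GeomIndep.card_stalk_eq_of_same_point C ξ₁ ξ₂ h]

/-- Surjectivity on the stalk depends only on the underlying point. -/
theorem surjective_stalk_of_same_point {F G : EtCoh.Ab X} (φ : F ⟶ G)
    {Ω₁ : Type u} [Field Ω₁] [IsSepClosed Ω₁] (ξ₁ : Spec (CommRingCat.of Ω₁) ⟶ X)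
    {Ω₂ : Type u} [Field Ω₂] [IsSepClosed Ω₂] (ξ₂ : Spec (CommRingCat.of Ω₂) ⟶ X)
    (h : ξ₁ default = ξ₂ default) :
    Function.Surjective ((EtCoh.stalk ξ₁).map φ) ↔ Function.Surjective ((EtCoh.stalk ξ₂).map φ) := by
  rw [surjective_stalk_map_iff, surjective_stalk_map_iff]
  exact isZero_stalk_of_same_point _ ξ₁ ξ₂ h

/-! ### Sheaves killed by an integer -/

/-- Multiplication by `n` on sections. -/
lemma nsmul_hom_app {F G : EtCoh.Ab X} (f : F ⟶ G) (n : ℕ) (U : X.Etale)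
    (z : F.obj.obj (op U)) :
    ((n • f).hom.app (op U)).hom z = n • (f.hom.app (op U)).hom z := by
  induction n with
  | zero =>
    rw [zero_nsmul, zero_nsmul]
    rfl
  | succ k ih =>
    rw [succ_nsmul, succ_nsmul, ← ih]
    rfl

/-- `F` is killed by `n`, categorically. -/
def Kil (n : ℕ) (F : EtCoh.Ab X) : Prop := n • 𝟙 F = 0

lemma killedBy_of_kil {n : ℕ} {F : EtCoh.Ab X} (h : Kil n F) : EtCoh.KilledBy n F := by
  intro U s
  have h1 := nsmul_hom_app (𝟙 F) n U s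
  rw [h] at h1
  exact h1.symm

lemma kil_of_killedBy {n : ℕ} {F : EtCoh.Ab X} (h : EtCoh.KilledBy n F) : Kil n F := by
  apply Sheaf.hom_ext
  ext U z
  obtain ⟨U⟩ := U
  have h1 := nsmul_hom_app (𝟙 F) n U z
  refine h1.trans ?_
  exact h U z

lemma kil_of_mono {n : ℕ} {K P : EtCoh.Ab X} (i : K ⟶ P) [Mono i] (h : Kil n P) : Kil n K := by
  unfold Kil at *
  rw [← cancel_mono i, Preadditive.nsmul_comp, Category.id_comp, zero_comp]
  have : n • i = i ≫ (n • 𝟙 P) := by rw [Preadditive.comp_nsmul, Category.comp_id]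
  rw [this, h, comp_zero]

lemma kil_of_iso {n : ℕ} {K P : EtCoh.Ab X} (e : K ≅ P) (h : Kil n P) : Kil n K :=
  kil_of_mono e.hom h

lemma kil_biproduct {n : ℕ} {J : Type*} [Finite J] (G : J → EtCoh.Ab X) [HasBiproduct G]
    (h : ∀ j, Kil n (G j)) : Kil n (⨁ G) := by
  unfold Kil at *
  apply biproduct.hom_ext'
  intro j
  rw [Preadditive.comp_nsmul, Category.comp_id, comp_zero]
  have : n • biproduct.ι G j = (n • 𝟙 (G j)) ≫ biproduct.ι G j := by
    rw [Preadditive.nsmul_comp, Category.id_comp]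
  rw [this, h j, zero_comp]

/-- The image of a killed object under an additive functor is killed. -/
lemma nsmul_id_map {C D : Type*} [Category C] [Category D] [Preadditive C] [Preadditive D]
    (L : C ⥤ D) [L.Additive] {A : C} {n : ℕ} (h : n • 𝟙 A = 0) : n • 𝟙 (L.obj A) = 0 := by
  rw [← L.map_id, ← L.map_nsmul, h, L.map_zero]

/-- Stalks of a sheaf killed by `n` are killed by `n`. -/
lemma nsmul_stalk_eq_zero {n : ℕ} {F : EtCoh.Ab X} (h : EtCoh.KilledBy n F)
    {Ω : Type u} [Field Ω] [IsSepClosed Ω] (ξ : Spec (CommRingCat.of Ω) ⟶ X)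
    (a : (EtCoh.stalk ξ).obj F) : n • a = 0 := by
  obtain ⟨U, t, z, rfl⟩ := exists_germ_eq (Scheme.pointSmallEtale ξ) F.obj a
  have h1 := (map_nsmul (germ (Scheme.pointSmallEtale ξ) F.obj U t) n z).symm
  rw [h U z, map_zero] at h1
  exact h1

/-- A sheaf all of whose stalks are killed by `n` is killed by `n`. -/
theorem kil_of_stalks {n : ℕ} {F : EtCoh.Ab X}
    (h : ∀ {Ω : Type u} [Field Ω] [IsSepClosed Ω] (ξ : Spec (CommRingCat.of Ω) ⟶ X)
      (a : (EtCoh.stalk ξ).obj F), n • a = 0) : Kil n F := by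
  unfold Kil
  refine Groth.Agent.H7.ST.sheaf_hom_ext_of_stalks (Groth.Agent.H7.ST.hPX X) _ _ ?_
  rintro ⟨_, ⟨s⟩⟩
  apply GrothendieckTopology.Point.presheafFiber_hom_ext
  intro U t
  rw [GrothendieckTopology.Point.toPresheafFiber_naturality,
    GrothendieckTopology.Point.toPresheafFiber_naturality]
  ext z
  change germ _ F.obj U t (((n • 𝟙 F).hom.app (op U)).hom z) =
    germ _ F.obj U t (((0 : F ⟶ F).hom.app (op U)).hom z)
  rw [nsmul_hom_app]
  have h0 : ((0 : F ⟶ F).hom.app (op U)).hom z = 0 := rfl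
  rw [h0, map_zero, map_nsmul]
  exact h _ _

end Groth.Agent.H2.Gen
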