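import Mathlib

set_option autoImplicit false
set_option linter.style.haveILetI false
set_option linter.unusedSectionVars false
universe u

open CategoryTheory Topology

namespace Groth.Agent.H2.Gen

variable {X : Type*} [TopologicalSpace X]

/-- Constructible subsets of a quasi-compact space are open and closed for the constructible
topology. -/
theorem isOpen_constructibleTopology_of_isConstructible [CompactSpace X] {s : Set X}
    (hs : IsConstructible s) :
    IsOpen[constructibleTopology X] s ∧ IsOpen[constructibleTopology X] sᶜ := by
  induction hs using IsConstructible.empty_union_induction with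
  | open_retrocompact U hUo hUc =>
    have hc : IsCompact U := hUc.isCompact
    refine ⟨hc.isOpen_constructibleTopology_of_isOpen hUo, ?_⟩
    exact IsCompact.isOpen_constructibleTopology_of_isClosed (by rwa [compl_compl])
      hUo.isClosed_compl
  | union s hs t ht h1 h2 =>
    refine ⟨@IsOpen.union X s t (constructibleTopology X) h1.1 h2.1, ?_⟩
    rw [Set.compl_union]
    exact @IsOpen.inter X (constructibleTopology X) sᶜ tᶜ h1.2 h2.2
  | compl s hs h =>
    refine ⟨h.2, ?_⟩
    rw [compl_compl]
    exact h.1

/-- A cover of a spectral space by constructible subsets has a finite subcover. -/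
theorem exists_finset_cover_of_isConstructible [CompactSpace X] [QuasiSober X]
    [PrespectralSpace X] [QuasiSeparatedSpace X] {ι : Type*} (E : ι → Set X)
    (hE : ∀ i, IsConstructible (E i)) (hcov : ∀ x, ∃ i, x ∈ E i) :
    ∃ s : Finset ι, ∀ x, ∃ i ∈ s, x ∈ E i := by
  have hop : ∀ i, IsOpen ((WithTopology.ofTopology (t := constructibleTopology X)) ⁻¹' (E i)) := by
    intro i
    rw [WithTopology.isOpen_iff]
    exact (isOpen_constructibleTopology_of_isConstructible (hE i)).1
  have hc : (Set.univ : Set (WithConstructibleTopology X)) ⊆
      ⋃ i, (WithTopology.ofTopology (t := constructibleTopology X)) ⁻¹' (E i) := by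
    intro y _
    obtain ⟨i, hi⟩ := hcov (WithTopology.ofTopology y)
    exact Set.mem_iUnion.2 ⟨i, hi⟩
  obtain ⟨s, hs⟩ := isCompact_univ.elim_finite_subcover _ hop hc
  refine ⟨s, fun x => ?_⟩
  have hx := hs (Set.mem_univ (WithTopology.toTopology (constructibleTopology X) x))
  simp only [Set.mem_iUnion, Set.mem_preimage] at hx
  obtain ⟨i, hi, hxi⟩ := hx
  exact ⟨i, hi, hxi⟩

end Groth.Agent.H2.Gen
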