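import Mathlib

set_option autoImplicit false
set_option linter.style.haveILetI false
set_option linter.unusedVariables false
set_option linter.unusedSectionVars false
universe u
open CategoryTheory CategoryTheory.Limits AlgebraicGeometry MorphismProperty TopologicalSpace Opposite

namespace Groth.Agent.H2.EtStrat

variable {X Y : Scheme.{u}}

/-- Étale morphisms are locally quasi-finite. -/
theorem locallyQuasiFinite_of_etale (f : X ⟶ Y) [Etale f] : LocallyQuasiFinite f := by
  rw [HasRingHomProperty.iff_appLE (P := @LocallyQuasiFinite)]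
  intro U V e
  have h : RingHom.Etale (f.appLE U.1 V.1 e).hom :=
    HasRingHomProperty.appLE (P := @Etale) f inferInstance U V e
  letI := (f.appLE U.1 V.1 e).hom.toAlgebra
  haveI : Algebra.Etale Γ(Y, U.1) Γ(X, V.1) := h
  change Algebra.QuasiFinite Γ(Y, U.1) Γ(X, V.1)
  infer_instance

/-- The graph of a lift `σ` of `p` through `f`, as a section of the base change. -/
noncomputable def graph (f : X ⟶ Y) {V : Scheme.{u}} (p : V ⟶ Y) (σ : V ⟶ X) (hσ : σ ≫ f = p) :
    V ⟶ pullback p f :=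
  pullback.lift (𝟙 V) σ (by rw [Category.id_comp, hσ])

@[reassoc (attr := simp)]
lemma graph_fst (f : X ⟶ Y) {V : Scheme.{u}} (p : V ⟶ Y) (σ : V ⟶ X) (hσ : σ ≫ f = p) :
    graph f p σ hσ ≫ pullback.fst p f = 𝟙 V := pullback.lift_fst _ _ _

@[reassoc (attr := simp)]
lemma graph_snd (f : X ⟶ Y) {V : Scheme.{u}} (p : V ⟶ Y) (σ : V ⟶ X) (hσ : σ ≫ f = p) :
    graph f p σ hσ ≫ pullback.snd p f = σ := pullback.lift_snd _ _ _

lemma isClosedImmersion_graph (f : X ⟶ Y) [IsSeparated f] {V : Scheme.{u}} (p : V ⟶ Y)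
    (σ : V ⟶ X) (hσ : σ ≫ f = p) : IsClosedImmersion (graph f p σ hσ) := by
  subst hσ
  exact inferInstanceAs (IsClosedImmersion (pullback.lift (𝟙 _) σ (Category.id_comp (σ ≫ f))))

lemma isOpenImmersion_graph (f : X ⟶ Y) [Etale f] {V : Scheme.{u}} (p : V ⟶ Y)
    (σ : V ⟶ X) (hσ : σ ≫ f = p) : IsOpenImmersion (graph f p σ hσ) := by
  haveI : Mono (graph f p σ hσ) := (SplitMono.mk _ (graph_fst f p σ hσ)).mono
  haveI : Etale (graph f p σ hσ ≫ pullback.fst p f) := by
    rw [graph_fst]; infer_instance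
  haveI : Etale (graph f p σ hσ) := Etale.of_comp _ (pullback.fst p f)
  exact IsOpenImmersion.of_flat_of_mono _

/-- A point of the base change lying on the graph. -/
lemma eq_graph_of_snd_eq (f : X ⟶ Y) {V K : Scheme.{u}} (p : V ⟶ Y) (σ : V ⟶ X) (hσ : σ ≫ f = p)
    (t : K ⟶ pullback p f) (h : t ≫ pullback.fst p f ≫ σ = t ≫ pullback.snd p f) :
    t = (t ≫ pullback.fst p f) ≫ graph f p σ hσ := by
  apply pullback.hom_ext
  · simp
  · simp [h]

/-- **Sections lemma**: if finitely many sections of `p` jointly cover the image of `a`, then the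
base change `p'` of `p` is a closed map. -/
theorem isClosedMap_of_sections {W V W' V' : Scheme.{u}} (p : W ⟶ V) {m : ℕ}
    (τ : Fin m → (V ⟶ W)) (hτ : ∀ k, τ k ≫ p = 𝟙 V) (a : W' ⟶ W) (p' : W' ⟶ V') (b : V' ⟶ V)
    (sq : IsPullback a p' p b) (hcov : ∀ w' : W', ∃ k v, τ k v = a w') : IsClosedMap p' := by
  let τ' : Fin m → (V' ⟶ W') := fun k =>
    sq.lift (b ≫ τ k) (𝟙 V') (by rw [Category.assoc, hτ, Category.comp_id, Category.id_comp])
  have hτ'a : ∀ k, τ' k ≫ a = b ≫ τ k := fun k => sq.lift_fst _ _ _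
  have hτ'p : ∀ k, τ' k ≫ p' = 𝟙 V' := fun k => sq.lift_snd _ _ _
  have hpb : ∀ k, IsPullback (τ' k) b a (τ k) := by
    intro k
    refine IsPullback.of_right ?_ (hτ'a k) sq.flip
    rw [hτ'p, hτ]
    exact IsPullback.of_horiz_isIso ⟨by simp⟩
  have hrange : ∀ k, Set.range (τ' k) = a ⁻¹' Set.range (τ k) := by
    intro k
    have := Scheme.image_preimage_eq_of_isPullback (hpb k).flip Set.univ
    simpa [Set.image_univ] using this
  intro Z hZ
  have hZeq : p' '' Z = ⋃ k, (τ' k) ⁻¹' Z := by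
    ext v'
    simp only [Set.mem_image, Set.mem_iUnion, Set.mem_preimage]
    constructor
    · rintro ⟨z, hz, rfl⟩
      obtain ⟨k, v, hv⟩ := hcov z
      have hzr : z ∈ Set.range (τ' k) := by
        rw [hrange k]; exact ⟨v, hv⟩
      obtain ⟨v', rfl⟩ := hzr
      refine ⟨k, ?_⟩
      have : p' (τ' k v') = v' := by
        have := congrArg (fun q => q.base v') (hτ'p k)
        simpa using this
      rw [this]; exact hz
    · rintro ⟨k, hk⟩
      refine ⟨τ' k v', hk, ?_⟩
      have := congrArg (fun q => q.base v') (hτ'p k)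
      simpa using this
  rw [hZeq]
  exact isClosed_iUnion_of_finite fun k => hZ.preimage (τ' k).continuous

theorem universallyClosed_of_sections {W V W' V' : Scheme.{u}} (p : W ⟶ V) {m : ℕ}
    (τ : Fin m → (V ⟶ W)) (hτ : ∀ k, τ k ≫ p = 𝟙 V) (a : W' ⟶ W) (p' : W' ⟶ V') (b : V' ⟶ V)
    (sq : IsPullback a p' p b) (hcov : ∀ w' : W', ∃ k v, τ k v = a w') : UniversallyClosed p' := by
  refine ⟨fun W'' V'' i₁ i₂ f'' h => ?_⟩
  have sq' : IsPullback (i₁ ≫ a) f'' p (i₂ ≫ b) := h.flip.paste_horiz sq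
  exact isClosedMap_of_sections p τ hτ (i₁ ≫ a) f'' (i₂ ≫ b) sq' (fun w'' => hcov (i₁ w''))

end Groth.Agent.H2.EtStrat
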