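import Mathlib
import Groth.Agent.Lib.Helper2.EtStratA

set_option autoImplicit false
set_option linter.style.haveILetI false
set_option linter.unusedVariables false
set_option linter.unusedSectionVars false
universe u
open CategoryTheory CategoryTheory.Limits AlgebraicGeometry MorphismProperty TopologicalSpace Opposite

namespace Groth.Agent.H2.EtStrat

variable {X Y : Scheme.{u}}

/-- **Finiteness from a splitting**: if over the étale `V ⟶ Y` the sections `σ k` exhaust the
base change of `f` over the image of `g`, then the base change of `f` along `g` is finite. -/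
theorem isFinite_snd_of_sections (f : X ⟶ Y) [Etale f] [IsSeparated f] [QuasiCompact f]
    {V : Scheme.{u}} (p : V ⟶ Y) [Etale p] [QuasiCompact p] {m : ℕ} (σ : Fin m → (V ⟶ X))
    (hσ : ∀ k, σ k ≫ f = p) {T : Scheme.{u}} (g : T ⟶ Y)
    (hsub : Set.range g ⊆ Set.range p)
    (hdis : ∀ z : ↥(pullback p f), p (pullback.fst p f z) ∈ Set.range g →
      ∃ k v, graph f p (σ k) (hσ k) v = z) :
    IsFinite (pullback.snd f g) := by
  -- the cover of `T`
  let b : pullback p g ⟶ V := pullback.fst p g
  let q : pullback p g ⟶ T := pullback.snd p g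
  haveI hqs : Surjective q := by
    refine ⟨fun t => ?_⟩
    obtain ⟨v, hv⟩ := hsub ⟨t, rfl⟩
    obtain ⟨w, -, hw⟩ := Scheme.Pullback.exists_preimage_pullback (f := p) (g := g) v t hv
    exact ⟨w, hw⟩
  let pW : pullback p f ⟶ V := pullback.fst p f
  let a : pullback pW b ⟶ pullback p f := pullback.fst pW b
  let p' : pullback pW b ⟶ pullback p g := pullback.snd pW b
  have sq : IsPullback a p' pW b := IsPullback.of_hasPullback pW b
  have huc : UniversallyClosed p' := by
    refine universallyClosed_of_sections pW (fun k => graph f p (σ k) (hσ k))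
      (fun k => graph_fst f p (σ k) (hσ k)) a p' b sq ?_
    intro w'
    apply hdis
    refine ⟨q (p' w'), ?_⟩
    have h1 : (p' ≫ q ≫ g) w' = (a ≫ pW ≫ p) w' := by
      have : p' ≫ q ≫ g = a ≫ pW ≫ p := by
        have e1 : q ≫ g = b ≫ p := (pullback.condition (f := p) (g := g)).symm
        rw [e1, ← Category.assoc, ← sq.w, Category.assoc]
      rw [this]
    simpa using h1
  -- the base change square
  have hcond : (a ≫ pullback.snd p f) ≫ f = (p' ≫ q) ≫ g := by
    have e1 : q ≫ g = b ≫ p := (pullback.condition (f := p) (g := g)).symm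
    rw [Category.assoc, Category.assoc, e1, ← pullback.condition, ← Category.assoc,
      ← Category.assoc, sq.w]
  let c : pullback pW b ⟶ pullback f g := pullback.lift (a ≫ pullback.snd p f) (p' ≫ q) hcond
  have hbig : IsPullback (a ≫ pullback.snd p f) p' f (b ≫ p) :=
    sq.paste_horiz (IsPullback.of_hasPullback p f).flip
  have hpb : IsPullback c p' (pullback.snd f g) q := by
    refine IsPullback.of_right (h₁₂ := pullback.fst f g) (v₁₃ := f) (h₂₂ := g) ?_
      (pullback.lift_snd _ _ _) (IsPullback.of_hasPullback f g)
    have e1 : q ≫ g = b ≫ p := (pullback.condition (f := p) (g := g)).symm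
    have e2 : c ≫ pullback.fst f g = a ≫ pullback.snd p f := pullback.lift_fst _ _ _
    rw [e1, e2]
    exact hbig
  haveI : Flat q := inferInstanceAs (Flat (pullback.snd p g))
  haveI : QuasiCompact q := inferInstanceAs (QuasiCompact (pullback.snd p g))
  have hdesc : UniversallyClosed (pullback.snd f g) :=
    MorphismProperty.of_isPullback_of_descendsAlong (P := @UniversallyClosed)
      (Q := @Surjective ⊓ @Flat ⊓ @QuasiCompact) hpb.flip ⟨⟨hqs, inferInstance⟩, inferInstance⟩ huc
  haveI : IsProper (pullback.snd f g) := { }
  haveI : LocallyQuasiFinite (pullback.snd f g) := locallyQuasiFinite_of_etale _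
  exact IsFinite.of_isProper_of_locallyQuasiFinite _

end Groth.Agent.H2.EtStrat
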