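import Mathlib
import Groth.Agent.Lib.Helper2.EtStratB

set_option autoImplicit false
set_option linter.style.haveILetI false
set_option linter.unusedVariables false
set_option linter.unusedSectionVars false
universe u
open CategoryTheory CategoryTheory.Limits AlgebraicGeometry MorphismProperty TopologicalSpace Opposite

namespace Groth.Agent.H2.EtStrat

variable {X Y : Scheme.{u}}

/-- Stage `m` of the section-counting tower of `f`: an étale quasi-compact `Y`-scheme with `m`
lifts to `X` which are pairwise distinct on every nonempty test scheme. -/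
structure Tower (f : X ⟶ Y) (m : ℕ) where
  V : Scheme.{u}
  p : V ⟶ Y
  etale : Etale p
  qc : QuasiCompact p
  σ : Fin m → (V ⟶ X)
  hσ : ∀ k, σ k ≫ f = p
  disj : ∀ i k, i ≠ k → ∀ (K : Scheme.{u}) (t : K ⟶ V), Nonempty K → t ≫ σ i ≠ t ≫ σ k

variable (f : X ⟶ Y) [Etale f] [IsSeparated f] [QuasiCompact f]

namespace Tower

variable {f} {m : ℕ} (D : Tower f m)

lemma isClosed_iUnion_range :
    IsClosed (⋃ k, Set.range (graph f D.p (D.σ k) (D.hσ k))) :=
  isClosed_iUnion_of_finite fun k =>
    haveI := isClosedImmersion_graph f D.p (D.σ k) (D.hσ k)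
    (graph f D.p (D.σ k) (D.hσ k)).isClosedEmbedding.isClosed_range

lemma isOpen_iUnion_range :
    IsOpen (⋃ k, Set.range (graph f D.p (D.σ k) (D.hσ k))) :=
  isOpen_iUnion fun k =>
    haveI := isOpenImmersion_graph f D.p (D.σ k) (D.hσ k)
    (graph f D.p (D.σ k) (D.hσ k)).isOpenEmbedding.isOpen_range

/-- The complement of the graphs. -/
noncomputable def compl : (pullback D.p f).Opens :=
  ⟨(⋃ k, Set.range (graph f D.p (D.σ k) (D.hσ k)))ᶜ, D.isClosed_iUnion_range.isOpen_compl⟩

lemma mem_compl_iff (z : ↥(pullback D.p f)) :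
    z ∈ D.compl ↔ ¬ ∃ k v, graph f D.p (D.σ k) (D.hσ k) v = z := by
  change z ∈ (⋃ k, Set.range (graph f D.p (D.σ k) (D.hσ k)))ᶜ ↔ _
  simp [Set.mem_compl_iff]

instance : IsClosedImmersion D.compl.ι := by
  apply IsClosedImmersion.of_isPreimmersion
  rw [Scheme.Opens.range_ι]
  change IsClosed ((⋃ k, Set.range (graph f D.p (D.σ k) (D.hσ k)))ᶜ)
  exact D.isOpen_iUnion_range.isClosed_compl

/-- The next sections. -/
noncomputable def nextσ : Fin (m + 1) → (D.compl.toScheme ⟶ X) :=
  Fin.lastCases (D.compl.ι ≫ pullback.snd D.p f)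
    (fun k => D.compl.ι ≫ pullback.fst D.p f ≫ D.σ k)

lemma nextσ_last : D.nextσ (Fin.last m) = D.compl.ι ≫ pullback.snd D.p f := by
  simp [nextσ]

lemma nextσ_castSucc (k : Fin m) :
    D.nextσ k.castSucc = D.compl.ι ≫ pullback.fst D.p f ≫ D.σ k := by
  simp [nextσ]

lemma nextσ_comp (k : Fin (m + 1)) :
    D.nextσ k ≫ f = D.compl.ι ≫ pullback.fst D.p f ≫ D.p := by
  refine Fin.lastCases ?_ (fun k => ?_) k
  · rw [nextσ_last, Category.assoc, ← pullback.condition]
  · rw [nextσ_castSucc, Category.assoc, Category.assoc, D.hσ]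

lemma next_disj_aux (k : Fin m) (K : Scheme.{u}) (t : K ⟶ D.compl.toScheme) (hK : Nonempty K) :
    t ≫ D.nextσ k.castSucc ≠ t ≫ D.nextσ (Fin.last m) := by
  intro h
  rw [nextσ_last, nextσ_castSucc] at h
  have h' : (t ≫ D.compl.ι) ≫ pullback.fst D.p f ≫ D.σ k =
      (t ≫ D.compl.ι) ≫ pullback.snd D.p f := by
    simpa [Category.assoc] using h
  have hg := eq_graph_of_snd_eq f D.p (D.σ k) (D.hσ k) (t ≫ D.compl.ι) h'
  obtain ⟨e⟩ := hK
  have hmem : D.compl.ι (t e) ∈ D.compl := (t e).2
  rw [mem_compl_iff] at hmem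
  apply hmem
  refine ⟨k, ((t ≫ D.compl.ι) ≫ pullback.fst D.p f) e, ?_⟩
  have := congrArg (fun q => q.base e) hg
  simpa using this.symm

/-- The next stage of the tower. -/
noncomputable def next : Tower f (m + 1) where
  V := D.compl.toScheme
  p := D.compl.ι ≫ pullback.fst D.p f ≫ D.p
  etale := by
    haveI := D.etale
    infer_instance
  qc := by
    haveI := D.qc
    infer_instance
  σ := D.nextσ
  hσ := D.nextσ_comp
  disj := by
    intro i k hik K t hK
    induction i using Fin.lastCases with
    | last =>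
      induction k using Fin.lastCases with
      | last => exact absurd rfl hik
      | cast k => exact (D.next_disj_aux k K t hK).symm
    | cast i =>
      induction k using Fin.lastCases with
      | last => exact D.next_disj_aux i K t hK
      | cast k =>
        rw [nextσ_castSucc, nextσ_castSucc]
        have hne : i ≠ k := fun h => hik (by rw [h])
        have := D.disj i k hne K (t ≫ D.compl.ι ≫ pullback.fst D.p f) hK
        simpa [Category.assoc] using this

lemma next_p : D.next.p = D.compl.ι ≫ pullback.fst D.p f ≫ D.p := rfl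

lemma range_next_p_subset : Set.range D.next.p ⊆ Set.range D.p := by
  rintro _ ⟨w, rfl⟩
  exact ⟨(D.compl.ι ≫ pullback.fst D.p f) w, rfl⟩

/-- A point of the base change whose image is not in the range of the next stage lies on one of
the graphs. -/
lemma exists_graph_of_not_mem (z : ↥(pullback D.p f))
    (hz : D.p (pullback.fst D.p f z) ∉ Set.range D.next.p) :
    ∃ k v, graph f D.p (D.σ k) (D.hσ k) v = z := by
  by_contra hcon
  have hmem : z ∈ D.compl := (D.mem_compl_iff z).mpr hcon
  apply hz
  exact ⟨⟨z, hmem⟩, rfl⟩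

end Tower

/-- The zeroth stage. -/
noncomputable def Tower.zero : Tower f 0 where
  V := Y
  p := 𝟙 Y
  etale := inferInstance
  qc := inferInstance
  σ := Fin.elim0
  hσ := fun k => k.elim0
  disj := fun i => i.elim0

/-- The tower. -/
noncomputable def tower : (m : ℕ) → Tower f m
  | 0 => Tower.zero f
  | (m + 1) => (tower m).next

lemma tower_succ (m : ℕ) : tower f (m + 1) = (tower f m).next := rfl

lemma range_tower_zero : Set.range (tower f 0).p = Set.univ := by
  change Set.range (𝟙 Y : Y ⟶ Y) = Set.univ
  simp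

lemma range_tower_anti {m n : ℕ} (h : m ≤ n) :
    Set.range (tower f n).p ⊆ Set.range (tower f m).p := by
  induction n, h using Nat.le_induction with
  | base => exact subset_rfl
  | succ n hmn ih => exact ((tower f n).range_next_p_subset).trans ih

/-- Finiteness over the level sets. -/
theorem isFinite_of_level (m : ℕ) {T : Scheme.{u}} (g : T ⟶ Y)
    (hsub : Set.range g ⊆ Set.range (tower f m).p)
    (hdis : Disjoint (Set.range g) (Set.range (tower f (m + 1)).p)) :
    IsFinite (pullback.snd f g) := by
  haveI := (tower f m).etale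
  haveI := (tower f m).qc
  refine isFinite_snd_of_sections f (tower f m).p (tower f m).σ (tower f m).hσ g hsub ?_
  intro z hz
  apply (tower f m).exists_graph_of_not_mem z
  intro hz'
  exact (Set.disjoint_left.mp hdis hz) hz'

end Groth.Agent.H2.EtStrat
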