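import Mathlib

set_option autoImplicit false
set_option linter.style.haveILetI false
set_option linter.unusedVariables false
set_option linter.unusedSectionVars false
universe u
open CategoryTheory CategoryTheory.Limits AlgebraicGeometry MorphismProperty TopologicalSpace Opposite

namespace Groth.Agent.H2.EtStrat

/-- Ring homomorphisms from a standard étale algebra to a field, with prescribed restriction
to the base, are bounded in number by the degree of the defining polynomial. -/
theorem std_bound {R S : Type u} [CommRing R] [CommRing S] [Algebra R S]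
    [Algebra.IsStandardEtale R S] :
    ∃ d : ℕ, ∀ (K : Type u) [Field K] (ψ : R →+* K) (ι : Type) [Fintype ι] (χ : ι → (S →+* K)),
      Function.Injective χ → (∀ i, (χ i).comp (algebraMap R S) = ψ) → Fintype.card ι ≤ d := by
  obtain ⟨P⟩ := Algebra.IsStandardEtale.nonempty_standardEtalePresentation (R := R) (S := S)
  refine ⟨P.f.natDegree, ?_⟩
  intro K _ ψ ι _ χ hinj hχ
  classical
  letI : Algebra R K := ψ.toAlgebra
  let a : ι → (S →ₐ[R] K) := fun i =>
    { toRingHom := χ i
      commutes' := fun r => by
        have := congrArg (fun q => q r) (hχ i)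
        exact this }
  have ha : ∀ i s, a i s = χ i s := fun i s => rfl
  have hne : P.f.map ψ ≠ 0 := (P.monic_f.map ψ).ne_zero
  have hroot : ∀ i, χ i P.x ∈ (P.f.map ψ).roots.toFinset := by
    intro i
    rw [Multiset.mem_toFinset, Polynomial.mem_roots hne, Polynomial.IsRoot, Polynomial.eval_map]
    have h1 : Polynomial.aeval (a i P.x) P.f = a i (Polynomial.aeval P.x P.f) :=
      Polynomial.aeval_algHom_apply (a i) P.x P.f
    rw [P.hasMap.1, map_zero, Polynomial.aeval_def] at h1
    exact h1
  have hinj' : Function.Injective (fun i => χ i P.x) := by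
    intro i k hik
    apply hinj
    have : a i = a k := P.hom_ext (by simpa [ha] using hik)
    ext s
    have := congrArg (fun q => q s) this
    simpa [ha] using this
  have h1 : Fintype.card ι ≤ (P.f.map ψ).roots.toFinset.card := by
    have := Finset.card_le_card_of_injOn (s := (Finset.univ : Finset ι))
      (t := (P.f.map ψ).roots.toFinset) (fun i => χ i P.x) (fun i _ => hroot i)
      (fun i _ k _ h => hinj' h)
    simpa using this
  calc Fintype.card ι ≤ (P.f.map ψ).roots.toFinset.card := h1
    _ ≤ Multiset.card (P.f.map ψ).roots := Multiset.toFinset_card_le _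
    _ ≤ (P.f.map ψ).natDegree := Polynomial.card_roots' _
    _ ≤ P.f.natDegree := Polynomial.natDegree_map_le

variable {X Y : Scheme.{u}}

/-- An affine chart of `f` with a bound on the number of liftings of field-valued points. -/
structure Chart (f : X ⟶ Y) where
  A : CommRingCat.{u}
  B : CommRingCat.{u}
  φ : A ⟶ B
  cX : Spec B ⟶ X
  cY : Spec A ⟶ Y
  openX : IsOpenImmersion cX
  monoY : Mono cY
  comm : cX ≫ f = Spec.map φ ≫ cY
  d : ℕ
  bound : ∀ (K : Type u) [Field K] (ψ : A →+* K) (ι : Type) [Fintype ι] (χ : ι → (B →+* K)),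
    Function.Injective χ → (∀ i, (χ i).comp φ.hom = ψ) → Fintype.card ι ≤ d

theorem Chart.count {f : X ⟶ Y} (C : Chart f) (K : Type u) [Field K] (ι : Type) [Fintype ι]
    (s : ι → (Spec (.of K) ⟶ X)) (hinj : Function.Injective s)
    (hs : ∀ i k, s i ≫ f = s k ≫ f) (hr : ∀ i, Set.range (s i) ⊆ Set.range C.cX) :
    Fintype.card ι ≤ C.d := by
  haveI := C.openX
  haveI := C.monoY
  rcases isEmpty_or_nonempty ι with hι | ⟨⟨i₀⟩⟩
  · simp
  let l : ι → (Spec (.of K) ⟶ Spec C.B) := fun i => IsOpenImmersion.lift C.cX (s i) (hr i)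
  have hl : ∀ i, l i ≫ C.cX = s i := fun i => IsOpenImmersion.lift_fac _ _ _
  let χ : ι → (C.B ⟶ .of K) := fun i => Spec.preimage (l i)
  have hχ : ∀ i, Spec.map (χ i) = l i := fun i => Spec.map_preimage _
  have hcomm : ∀ i k, C.φ ≫ χ i = C.φ ≫ χ k := by
    intro i k
    apply Spec.map_injective
    rw [Spec.map_comp, Spec.map_comp, hχ, hχ, ← cancel_mono C.cY, Category.assoc, Category.assoc,
      ← C.comm, ← Category.assoc, ← Category.assoc, hl, hl]
    exact hs i k
  refine C.bound K (C.φ ≫ χ i₀).hom ι (fun i => (χ i).hom) ?_ ?_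
  · intro i k hik
    apply hinj
    have h1 : χ i = χ k := CommRingCat.hom_ext hik
    rw [← hl i, ← hl k, ← hχ i, ← hχ k, h1]
  · intro i
    have := congrArg CommRingCat.Hom.hom (hcomm i i₀)
    simpa using this

end Groth.Agent.H2.EtStrat
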