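import Mathlib
import Groth.Agent.Lib.Helper2.EtStratD

set_option autoImplicit false
set_option linter.style.haveILetI false
set_option linter.unusedVariables false
set_option linter.unusedSectionVars false
universe u
open CategoryTheory CategoryTheory.Limits AlgebraicGeometry MorphismProperty TopologicalSpace Opposite

namespace Groth.Agent.H2.EtStrat

variable {X Y : Scheme.{u}}

theorem exists_chart (f : X ⟶ Y) [Etale f] (x : X) : ∃ C : Chart f, x ∈ Set.range C.cX := by
  obtain ⟨_, ⟨V, hV, rfl⟩, hxV, -⟩ := Y.isBasis_affineOpens.exists_subset_of_mem_open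
    (Set.mem_univ (f x)) isOpen_univ
  obtain ⟨_, ⟨U, hU, rfl⟩, hxU, hUV : U ≤ f ⁻¹ᵁ V⟩ :=
    X.isBasis_affineOpens.exists_subset_of_mem_open hxV (f ⁻¹ᵁ V).2
  have hφ : RingHom.Etale (f.appLE V U hUV).hom :=
    HasRingHomProperty.appLE (P := @Etale) f inferInstance ⟨V, hV⟩ ⟨U, hU⟩ hUV
  algebraize [(f.appLE V U hUV).hom]
  let Q := hU.primeIdealOf ⟨x, hxU⟩
  haveI : Algebra.IsEtaleAt Γ(Y, V) Q.asIdeal :=
    Algebra.FormallyEtale.comp Γ(Y, V) Γ(X, U) (Localization.AtPrime Q.asIdeal)
  obtain ⟨h, hhQ, hstd⟩ := Algebra.IsEtaleAt.exists_isStandardEtale (R := Γ(Y, V)) Q.asIdeal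
  obtain ⟨d, hd⟩ := std_bound (R := Γ(Y, V)) (S := Localization.Away h)
  have hφeq : CommRingCat.ofHom (algebraMap Γ(Y, V) (Localization.Away h)) =
      f.appLE V U hUV ≫ CommRingCat.ofHom (algebraMap Γ(X, U) (Localization.Away h)) := by
    apply CommRingCat.hom_ext
    exact IsScalarTower.algebraMap_eq Γ(Y, V) Γ(X, U) (Localization.Away h)
  refine ⟨{ A := Γ(Y, V), B := .of (Localization.Away h),
            φ := CommRingCat.ofHom (algebraMap Γ(Y, V) (Localization.Away h)),
            cX := Spec.map (CommRingCat.ofHom (algebraMap Γ(X, U) (Localization.Away h))) ≫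
              hU.fromSpec,
            cY := hV.fromSpec, openX := inferInstance, monoY := inferInstance,
            comm := ?_, d := d, bound := ?_ }, ?_⟩
  · rw [Category.assoc, ← IsAffineOpen.SpecMap_appLE_fromSpec f hV hU hUV, ← Category.assoc,
      ← Spec.map_comp, hφeq]
  · intro K _ ψ ι _ χ hinj hχ
    exact hd K ψ ι χ hinj hχ
  · have hQ : Q ∈ Set.range (PrimeSpectrum.comap (algebraMap Γ(X, U) (Localization.Away h))) := by
      rw [PrimeSpectrum.localization_away_comap_range (S := Localization.Away h) h]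
      exact hhQ
    obtain ⟨q, hq⟩ := hQ
    refine ⟨q, ?_⟩
    rw [Scheme.Hom.comp_apply]
    have : (Spec.map (CommRingCat.ofHom (algebraMap Γ(X, U) (Localization.Away h)))) q = Q := hq
    rw [this]
    exact hU.fromSpec_primeIdealOf ⟨x, hxU⟩

/-- **Uniform bound** on the number of liftings of a field-valued point through an étale
morphism with quasi-compact source. -/
theorem exists_bound (f : X ⟶ Y) [Etale f] [CompactSpace X] :
    ∃ N : ℕ, ∀ (K : Type u) [Field K] (m : ℕ) (s : Fin m → (Spec (.of K) ⟶ X)),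
      Function.Injective s → (∀ i k, s i ≫ f = s k ≫ f) → m ≤ N := by
  classical
  choose C hC using exists_chart f
  have hopen : ∀ x, IsOpen (Set.range (C x).cX) := fun x =>
    haveI := (C x).openX
    (C x).cX.isOpenEmbedding.isOpen_range
  obtain ⟨t, ht⟩ := isCompact_univ.elim_finite_subcover (fun x => Set.range (C x).cX) hopen
    (fun x _ => Set.mem_iUnion.mpr ⟨x, hC x⟩)
  refine ⟨∑ x ∈ t, (C x).d, ?_⟩
  intro K _ m s hinj hs
  have hpt : ∀ i, ∃ x ∈ t, (s i) default ∈ Set.range (C x).cX := by
    intro i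
    have := ht (Set.mem_univ ((s i) default))
    simpa using this
  choose c hct hc using hpt
  have hrange : ∀ i, Set.range (s i) ⊆ Set.range (C (c i)).cX := by
    rintro i _ ⟨z, rfl⟩
    have : z = default := Subsingleton.elim _ _
    rw [this]; exact hc i
  have hfib : ∀ x ∈ t, (Finset.univ.filter (fun i => c i = x)).card ≤ (C x).d := by
    intro x hx
    have := (C x).count K {i : Fin m // c i = x} (fun i => s i.1)
      (fun a b hab => Subtype.ext (hinj hab)) (fun a b => hs a.1 b.1)
      (fun a => by have := hrange a.1; rwa [a.2] at this)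
    rw [Fintype.card_subtype] at this
    exact this
  calc m = (Finset.univ : Finset (Fin m)).card := by simp
    _ = ∑ x ∈ t, (Finset.univ.filter (fun i => c i = x)).card :=
        Finset.card_eq_sum_card_fiberwise (fun i _ => hct i)
    _ ≤ ∑ x ∈ t, (C x).d := Finset.sum_le_sum hfib

end Groth.Agent.H2.EtStrat
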