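import Mathlib
import Groth.Agent.Lib.Helper2.EtStratC
import Groth.Agent.Lib.Helper2.EtStratE

set_option autoImplicit false
set_option linter.style.haveILetI false
set_option linter.unusedVariables false
set_option linter.unusedSectionVars false
universe u
open CategoryTheory CategoryTheory.Limits AlgebraicGeometry MorphismProperty TopologicalSpace Opposite

namespace Groth.Agent.H2.EtStrat

/-- A finite stratification of `X` by constructible locally closed subsets over each of which
(with any scheme structure) `j` becomes finite. -/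
def Strat {U X : Scheme.{u}} (j : U ⟶ X) : Prop :=
  ∃ (ι : Type) (_ : Finite ι) (O : ι → X.Opens) (Z : ι → Closeds X),
    (∀ i, Topology.IsConstructible ((O i : Set X) ∩ (Z i : Set X))) ∧
    (∀ i i', i ≠ i' →
      Disjoint ((O i : Set X) ∩ (Z i : Set X)) ((O i' : Set X) ∩ (Z i' : Set X))) ∧
    (∀ x : X, ∃ i, x ∈ (O i : Set X) ∩ (Z i : Set X)) ∧
    ∀ i (T : Scheme.{u}) (g : T ⟶ X), Set.range g ⊆ (O i : Set X) ∩ (Z i : Set X) →
      IsFinite (pullback.snd j g)

variable {X Y : Scheme.{u}} (f : X ⟶ Y) [Etale f] [IsSeparated f] [QuasiCompact f]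

theorem exists_isEmpty_tower [CompactSpace X] : ∃ N : ℕ, IsEmpty (tower f (N + 1)).V := by
  obtain ⟨N, hN⟩ := exists_bound f
  refine ⟨N, ⟨fun v => ?_⟩⟩
  let D := tower f (N + 1)
  let t : Spec (D.V.residueField v) ⟶ D.V := D.V.fromSpecResidueField v
  have h := hN (D.V.residueField v) (N + 1) (fun k => t ≫ D.σ k) ?_ ?_
  · omega
  · intro i k hik
    by_contra hne
    exact D.disj i k hne _ t inferInstance hik
  · intro i k
    simp only [Category.assoc, D.hσ]

theorem strat_of_isSeparated [CompactSpace Y] [QuasiSeparatedSpace Y] : Strat f := by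
  haveI : CompactSpace X := QuasiCompact.compactSpace_of_compactSpace f
  obtain ⟨N, hN⟩ := exists_isEmpty_tower f
  let R : ℕ → Set Y := fun m => Set.range (tower f m).p
  have hRo : ∀ m, IsOpen (R m) := fun m =>
    haveI := (tower f m).etale
    (tower f m).p.isOpenMap.isOpen_range
  have hRc : ∀ m, IsCompact (R m) := fun m => by
    haveI := (tower f m).qc
    haveI : CompactSpace (tower f m).V := QuasiCompact.compactSpace_of_compactSpace (tower f m).p
    exact isCompact_range (tower f m).p.continuous
  have hRcons : ∀ m, Topology.IsConstructible (R m) := fun m => (hRc m).isConstructible (hRo m)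
  have hR0 : R 0 = Set.univ := range_tower_zero f
  have hRN : R (N + 1) = ∅ := by
    rw [Set.range_eq_empty_iff]; exact hN
  have hanti : ∀ {m n : ℕ}, m ≤ n → R n ⊆ R m := fun h => range_tower_anti f h
  refine ⟨Fin (N + 1), inferInstance, fun m => ⟨R m, hRo m⟩,
    fun m => ⟨(R (m + 1))ᶜ, (hRo (m + 1)).isClosed_compl⟩, ?_, ?_, ?_, ?_⟩
  · intro m
    exact (hRcons m).inter (hRcons (m + 1)).compl
  · intro m m' hmm'
    rw [Set.disjoint_left]
    rintro x ⟨hx1, hx2⟩ ⟨hx3, hx4⟩
    have hne : (m : ℕ) ≠ m' := fun h => hmm' (Fin.ext h)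
    rcases lt_or_gt_of_ne hne with hlt | hlt
    · exact hx2 (hanti (Nat.succ_le_of_lt hlt) hx3)
    · exact hx4 (hanti (Nat.succ_le_of_lt hlt) hx1)
  · intro x
    classical
    have hex : ∃ k, x ∉ R (k + 1) := ⟨N, by rw [hRN]; exact Set.notMem_empty x⟩
    let k := Nat.find hex
    have hk : x ∉ R (k + 1) := Nat.find_spec hex
    have hkN : k ≤ N := Nat.find_min' hex (by rw [hRN]; exact Set.notMem_empty x)
    have hxk : x ∈ R k := by
      rcases Nat.eq_zero_or_pos k with h0 | hpos
      · rw [h0, hR0]; exact Set.mem_univ x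
      · have := Nat.find_min hex (m := k - 1) (by omega)
        rw [not_not] at this
        have e : k - 1 + 1 = k := by omega
        rwa [e] at this
    exact ⟨⟨k, by omega⟩, hxk, hk⟩
  · intro m T g hg
    refine isFinite_of_level f m g (fun y hy => (hg hy).1) ?_
    rw [Set.disjoint_left]
    intro y hy hy'
    exact (hg hy).2 hy'

end Groth.Agent.H2.EtStrat
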