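import Mathlib

set_option autoImplicit false
set_option linter.style.haveILetI false
set_option linter.unusedVariables false
set_option linter.unusedSectionVars false
universe u
open CategoryTheory CategoryTheory.Limits AlgebraicGeometry MorphismProperty TopologicalSpace Opposite

namespace Groth.Agent.H2.EtStrat

/-- Gluing finiteness along a cover by two opens with finite intersection. -/
theorem isFinite_of_cover {Z T : Scheme.{u}} (h : Z ⟶ T) (Ω₁ Ω₂ : Z.Opens) (hcov : Ω₁ ⊔ Ω₂ = ⊤)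
    (h1 : IsFinite (Ω₁.ι ≫ h)) (h2 : IsFinite (Ω₂.ι ≫ h))
    (h12 : IsFinite ((Ω₁ ⊓ Ω₂).ι ≫ h)) : IsFinite h := by
  -- the intersection is closed in `Ω₂`
  let w₂ : (Ω₁ ⊓ Ω₂).toScheme ⟶ Ω₂.toScheme := Z.homOfLE inf_le_right
  haveI : IsFinite (w₂ ≫ (Ω₂.ι ≫ h)) := by
    rw [← Category.assoc, Z.homOfLE_ι]; exact h12
  haveI : IsFinite w₂ := IsFinite.of_comp w₂ (Ω₂.ι ≫ h)
  have hcl : IsClosed (Ω₂.ι ⁻¹' (Ω₁ : Set Z)) := by
    have h1 : IsClosed (Set.range w₂) := w₂.isClosedMap.isClosed_range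
    have h2 : Set.range w₂ = Ω₂.ι ⁻¹' (Ω₁ : Set Z) := by
      have := congrArg (fun O : Ω₂.toScheme.Opens => (O : Set Ω₂.toScheme))
        (Z.opensRange_homOfLE (inf_le_right : Ω₁ ⊓ Ω₂ ≤ Ω₂))
      simp only [Scheme.Hom.coe_opensRange] at this
      rw [this]
      ext x
      simp only [Scheme.Hom.coe_preimage, Set.mem_preimage, SetLike.mem_coe,
        TopologicalSpace.Opens.coe_inf, Set.mem_inter_iff]
      constructor
      · exact fun hx => hx.1
      · exact fun hx => ⟨hx, x.2⟩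
    rw [← h2]; exact h1
  -- hence `Ω₁` is closed
  have hΩ₁cl : IsClosed (Ω₁ : Set Z) := by
    rw [← isOpen_compl_iff]
    have : ((Ω₁ : Set Z))ᶜ = Ω₂.ι '' (Ω₂.ι ⁻¹' (Ω₁ : Set Z))ᶜ := by
      ext z
      constructor
      · intro hz
        have hz2 : z ∈ Ω₂ := by
          have : z ∈ Ω₁ ⊔ Ω₂ := by rw [hcov]; trivial
          rcases this with h | h
          · exact absurd h hz
          · exact h
        exact ⟨⟨z, hz2⟩, hz, rfl⟩
      · rintro ⟨x, hx, rfl⟩
        exact hx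
    rw [this]
    exact Ω₂.ι.isOpenEmbedding.isOpenMap _ hcl.isOpen_compl
  let B : Z.Opens := ⟨((Ω₁ : Set Z))ᶜ, hΩ₁cl.isOpen_compl⟩
  have hB2 : B ≤ Ω₂ := by
    intro z hz
    have : z ∈ Ω₁ ⊔ Ω₂ := by rw [hcov]; trivial
    rcases this with h | h
    · exact absurd h hz
    · exact h
  let b : B.toScheme ⟶ Ω₂.toScheme := Z.homOfLE hB2
  haveI : IsClosedImmersion b := by
    apply IsClosedImmersion.of_isPreimmersion
    have := congrArg (fun O : Ω₂.toScheme.Opens => (O : Set Ω₂.toScheme))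
      (Z.opensRange_homOfLE hB2)
    simp only [Scheme.Hom.coe_opensRange] at this
    rw [this]
    have : IsClosed ((Ω₂.ι ⁻¹' (Ω₁ : Set Z))ᶜ) := (Ω₁.2.preimage Ω₂.ι.continuous).isClosed_compl
    exact this
  haveI : IsFinite (B.ι ≫ h) := by
    have : B.ι ≫ h = b ≫ (Ω₂.ι ≫ h) := by
      rw [← Category.assoc, Z.homOfLE_ι]
    rw [this]
    infer_instance
  -- `Z` is the coproduct of `Ω₁` and `B`
  have hcompl : IsCompl Ω₁.ι.opensRange B.ι.opensRange := by
    rw [Scheme.Opens.opensRange_ι, Scheme.Opens.opensRange_ι]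
    constructor
    · rw [disjoint_iff]
      ext z
      simp only [TopologicalSpace.Opens.coe_inf, Set.mem_inter_iff, SetLike.mem_coe,
        TopologicalSpace.Opens.coe_bot, Set.mem_empty_iff_false, iff_false, not_and]
      exact fun hz hz' => hz' hz
    · rw [codisjoint_iff]
      ext z
      simp only [TopologicalSpace.Opens.coe_sup, Set.mem_union, SetLike.mem_coe,
        TopologicalSpace.Opens.coe_top, Set.mem_univ, iff_true]
      by_cases hz : z ∈ Ω₁
      · exact Or.inl hz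
      · exact Or.inr hz
  obtain ⟨hc⟩ := nonempty_isColimit_binaryCofanMk_of_isCompl Ω₁.ι B.ι hcompl
  let e : Ω₁.toScheme ⨿ B.toScheme ≅ Z :=
    (coprodIsCoprod Ω₁.toScheme B.toScheme).coconePointUniqueUpToIso hc
  have he1 : coprod.inl ≫ e.hom = Ω₁.ι :=
    (coprodIsCoprod Ω₁.toScheme B.toScheme).comp_coconePointUniqueUpToIso_hom hc ⟨WalkingPair.left⟩
  have he2 : coprod.inr ≫ e.hom = B.ι :=
    (coprodIsCoprod Ω₁.toScheme B.toScheme).comp_coconePointUniqueUpToIso_hom hc ⟨WalkingPair.right⟩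
  have heh : e.hom ≫ h = coprod.desc (Ω₁.ι ≫ h) (B.ι ≫ h) := by
    apply coprod.hom_ext
    · rw [← Category.assoc, he1, coprod.inl_desc]
    · rw [← Category.assoc, he2, coprod.inr_desc]
  haveI : IsFinite (e.hom ≫ h) := by
    rw [heh]; infer_instance
  exact (MorphismProperty.cancel_left_of_respectsIso @IsFinite e.hom h).mp inferInstance

end Groth.Agent.H2.EtStrat
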