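import Mathlib
import Groth.Agent.Lib.Helper2.EtStratG

set_option autoImplicit false
set_option linter.style.haveILetI false
set_option linter.unusedVariables false
set_option linter.unusedSectionVars false
universe u
open CategoryTheory CategoryTheory.Limits AlgebraicGeometry MorphismProperty TopologicalSpace Opposite

namespace Groth.Agent.H2.EtStrat

variable {U X : Scheme.{u}}

/-- `j` restricted to the open `O` becomes finite over every scheme mapping into `P`. -/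
def FinOn (j : U ⟶ X) (O : U.Opens) (P : Set X) : Prop :=
  ∀ (T : Scheme.{u}) (g : T ⟶ X), Set.range g ⊆ P →
    IsFinite ((pullback.fst j g ⁻¹ᵁ O).ι ≫ pullback.snd j g)

lemma isPullback_restrict (j : U ⟶ X) (O : U.Opens) {T : Scheme.{u}} (g : T ⟶ X) :
    IsPullback (pullback.fst j g ∣_ O) ((pullback.fst j g ⁻¹ᵁ O).ι ≫ pullback.snd j g)
      (O.ι ≫ j) g :=
  (isPullback_morphismRestrict (pullback.fst j g) O).paste_vert (IsPullback.of_hasPullback j g)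

lemma isFinite_restrict_iff (j : U ⟶ X) (O : U.Opens) {T : Scheme.{u}} (g : T ⟶ X) :
    IsFinite ((pullback.fst j g ⁻¹ᵁ O).ι ≫ pullback.snd j g) ↔
      IsFinite (pullback.snd (O.ι ≫ j) g) := by
  have hp := isPullback_restrict j O g
  have : (pullback.fst j g ⁻¹ᵁ O).ι ≫ pullback.snd j g =
      hp.isoPullback.hom ≫ pullback.snd (O.ι ≫ j) g := (hp.isoPullback_hom_snd).symm
  rw [this]
  exact MorphismProperty.cancel_left_of_respectsIso @IsFinite _ _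

lemma finOn_iff (j : U ⟶ X) (O : U.Opens) (P : Set X) :
    FinOn j O P ↔ ∀ (T : Scheme.{u}) (g : T ⟶ X), Set.range g ⊆ P →
      IsFinite (pullback.snd (O.ι ≫ j) g) :=
  forall_congr' fun T => forall_congr' fun g => imp_congr_right fun _ =>
    isFinite_restrict_iff j O g

lemma FinOn.mono {j : U ⟶ X} {O : U.Opens} {P P' : Set X} (h : FinOn j O P) (hP : P' ⊆ P) :
    FinOn j O P' := fun T g hg => h T g (hg.trans hP)

/-- Relative gluing. -/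
theorem isFinite_sup {Z T : Scheme.{u}} (h : Z ⟶ T) (Ω₁ Ω₂ : Z.Opens)
    (h1 : IsFinite (Ω₁.ι ≫ h)) (h2 : IsFinite (Ω₂.ι ≫ h))
    (h12 : IsFinite ((Ω₁ ⊓ Ω₂).ι ≫ h)) : IsFinite ((Ω₁ ⊔ Ω₂).ι ≫ h) := by
  let Ω := Ω₁ ⊔ Ω₂
  have key : ∀ (O : Z.Opens) (hO : O ≤ Ω), IsFinite (O.ι ≫ h) →
      IsFinite ((Ω.ι ⁻¹ᵁ O).ι ≫ (Ω.ι ≫ h)) := by
    intro O hO hfin
    have e : (Ω.ι ⁻¹ᵁ O).ι ≫ (Ω.ι ≫ h) = (Scheme.Opens.isoOfLE hO).hom ≫ (O.ι ≫ h) := by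
      rw [← Category.assoc, ← Scheme.Opens.isoOfLE_hom_ι hO, Category.assoc]
    rw [e]
    infer_instance
  refine isFinite_of_cover (Ω.ι ≫ h) (Ω.ι ⁻¹ᵁ Ω₁) (Ω.ι ⁻¹ᵁ Ω₂) ?_
    (key Ω₁ le_sup_left h1) (key Ω₂ le_sup_right h2) ?_
  · ext x
    simp only [TopologicalSpace.Opens.coe_sup, Scheme.Hom.coe_preimage, Set.mem_union,
      Set.mem_preimage, SetLike.mem_coe, TopologicalSpace.Opens.coe_top, Set.mem_univ, iff_true]
    exact x.2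
  · have : Ω.ι ⁻¹ᵁ Ω₁ ⊓ Ω.ι ⁻¹ᵁ Ω₂ = Ω.ι ⁻¹ᵁ (Ω₁ ⊓ Ω₂) := rfl
    rw [this]
    exact key (Ω₁ ⊓ Ω₂) (inf_le_left.trans le_sup_left) h12

theorem FinOn.sup {j : U ⟶ X} {O₁ O₂ : U.Opens} {P : Set X} (h1 : FinOn j O₁ P)
    (h2 : FinOn j O₂ P) (h12 : FinOn j (O₁ ⊓ O₂) P) : FinOn j (O₁ ⊔ O₂) P := by
  intro T g hg
  have e1 : pullback.fst j g ⁻¹ᵁ (O₁ ⊔ O₂) = pullback.fst j g ⁻¹ᵁ O₁ ⊔ pullback.fst j g ⁻¹ᵁ O₂ :=
    rfl
  have e2 : pullback.fst j g ⁻¹ᵁ (O₁ ⊓ O₂) = pullback.fst j g ⁻¹ᵁ O₁ ⊓ pullback.fst j g ⁻¹ᵁ O₂ :=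
    rfl
  rw [e1]
  refine isFinite_sup _ _ _ (h1 T g hg) (h2 T g hg) ?_
  rw [← e2]
  exact h12 T g hg

/-- Locally closed subsets. -/
def LC (P : Set X) : Prop := ∃ (O : X.Opens) (Z : Closeds X), P = (O : Set X) ∩ (Z : Set X)

lemma LC.inter {P Q : Set X} (hP : LC P) (hQ : LC Q) : LC (P ∩ Q) := by
  obtain ⟨O, Z, rfl⟩ := hP
  obtain ⟨O', Z', rfl⟩ := hQ
  refine ⟨O ⊓ O', Z ⊓ Z', ?_⟩
  ext x
  simp only [Set.mem_inter_iff, SetLike.mem_coe, TopologicalSpace.Opens.coe_inf,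
    TopologicalSpace.Closeds.coe_inf]
  tauto

/-- A stratification adapted to `j` on `O`. -/
def StratOn (j : U ⟶ X) (O : U.Opens) : Prop :=
  ∃ (ι : Type) (_ : Finite ι) (P : ι → Set X), (∀ i, LC (P i)) ∧
    (∀ i, Topology.IsConstructible (P i)) ∧ (∀ i i', i ≠ i' → Disjoint (P i) (P i')) ∧
    (∀ x : X, ∃ i, x ∈ P i) ∧ ∀ i, FinOn j O (P i)

theorem StratOn.sup {j : U ⟶ X} {O₁ O₂ : U.Opens} (h1 : StratOn j O₁) (h2 : StratOn j O₂)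
    (h12 : StratOn j (O₁ ⊓ O₂)) : StratOn j (O₁ ⊔ O₂) := by
  obtain ⟨ι₁, _, P₁, lc₁, c₁, d₁, cov₁, f₁⟩ := h1
  obtain ⟨ι₂, _, P₂, lc₂, c₂, d₂, cov₂, f₂⟩ := h2
  obtain ⟨ι₃, _, P₃, lc₃, c₃, d₃, cov₃, f₃⟩ := h12
  refine ⟨ι₁ × ι₂ × ι₃, inferInstance, fun t => P₁ t.1 ∩ (P₂ t.2.1 ∩ P₃ t.2.2), ?_, ?_, ?_, ?_, ?_⟩
  · intro t
    exact (lc₁ t.1).inter ((lc₂ t.2.1).inter (lc₃ t.2.2))
  · intro t
    exact (c₁ t.1).inter ((c₂ t.2.1).inter (c₃ t.2.2))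
  · rintro ⟨a, b, c⟩ ⟨a', b', c'⟩ hne
    rw [Set.disjoint_left]
    rintro x ⟨hx1, hx2, hx3⟩ ⟨hy1, hy2, hy3⟩
    by_cases ha : a = a'
    · by_cases hb : b = b'
      · by_cases hc : c = c'
        · exact hne (by rw [ha, hb, hc])
        · exact Set.disjoint_left.mp (d₃ c c' hc) hx3 hy3
      · exact Set.disjoint_left.mp (d₂ b b' hb) hx2 hy2
    · exact Set.disjoint_left.mp (d₁ a a' ha) hx1 hy1
  · intro x
    obtain ⟨a, ha⟩ := cov₁ x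
    obtain ⟨b, hb⟩ := cov₂ x
    obtain ⟨c, hc⟩ := cov₃ x
    exact ⟨⟨a, b, c⟩, ha, hb, hc⟩
  · rintro ⟨a, b, c⟩
    exact FinOn.sup ((f₁ a).mono Set.inter_subset_left)
      ((f₂ b).mono (Set.inter_subset_right.trans Set.inter_subset_left))
      ((f₃ c).mono (Set.inter_subset_right.trans Set.inter_subset_right))

end Groth.Agent.H2.EtStrat
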