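import Mathlib

set_option autoImplicit false
set_option linter.style.haveILetI false
set_option linter.unusedSectionVars false
universe u

open CategoryTheory CategoryTheory.Limits Opposite AlgebraicGeometry TopologicalSpace

namespace Groth.Agent.H2.RedImm

/-- The closed subscheme of a radical ideal sheaf is reduced. -/
theorem isReduced_subscheme_of_isRadical {X : Scheme.{u}} (I : X.IdealSheafData)
    (h : ∀ U : X.affineOpens, (I.ideal U).IsRadical) : AlgebraicGeometry.IsReduced I.subscheme := by
  have : ∀ U, AlgebraicGeometry.IsReduced (I.subschemeCover.openCover.X U) := fun U => by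
    have := (Ideal.isRadical_iff_quotient_reduced _).mp (h U)
    exact (affine_isReduced_iff (.of (Γ(X, (U : X.affineOpens).1) ⧸ I.ideal U))).mpr this
  exact AlgebraicGeometry.IsReduced.of_openCover (X := I.subscheme) I.subschemeCover.openCover

theorem isReduced_subscheme_vanishingIdeal {X : Scheme.{u}} (Z : TopologicalSpace.Closeds X) :
    AlgebraicGeometry.IsReduced (Scheme.IdealSheafData.vanishingIdeal Z).subscheme := by
  apply isReduced_subscheme_of_isRadical
  intro U
  rw [Scheme.IdealSheafData.vanishingIdeal_ideal]
  exact PrimeSpectrum.isRadical_vanishingIdeal _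

/-- A surjective immersion into a reduced scheme is an isomorphism. -/
theorem isIso_of_isImmersion_of_surjective {Z' Z : Scheme.{u}} (f : Z' ⟶ Z) [IsImmersion f]
    [Surjective f] [AlgebraicGeometry.IsReduced Z] : IsIso f := by
  have hι : f.liftCoborder ≫ f.coborderRange.ι = f := f.liftCoborder_ι
  have htop : f.coborderRange = ⊤ := by
    rw [eq_top_iff]
    intro x _
    obtain ⟨z, rfl⟩ := f.surjective x
    have : (f.liftCoborder ≫ f.coborderRange.ι) z = f z := by rw [hι]
    rw [← this]
    exact (f.liftCoborder z).2
  haveI : IsIso f.coborderRange.ι := by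
    rw [htop]
    exact (inferInstance : IsIso (Scheme.topIso Z).hom)
  haveI : Surjective f.liftCoborder := by
    refine ⟨fun y => ?_⟩
    obtain ⟨z, hz⟩ := f.surjective (f.coborderRange.ι y)
    refine ⟨z, ?_⟩
    apply f.coborderRange.ι.injective
    rw [← Scheme.Hom.comp_apply, hι, hz]
  haveI : AlgebraicGeometry.IsReduced f.coborderRange.toScheme :=
    isReduced_of_isOpenImmersion f.coborderRange.ι
  haveI : IsIso f.liftCoborder := isIso_of_isClosedImmersion_of_surjective _
  rw [← hι]
  infer_instance

/-- A morphism from a reduced scheme whose image lies in the range of an immersion factors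
through it. -/
theorem exists_fac_of_reduced {T X Z : Scheme.{u}} (g : T ⟶ X) [IsImmersion g] (h : Z ⟶ X)
    [AlgebraicGeometry.IsReduced Z] (hr : Set.range h ⊆ Set.range g) :
    ∃ l : Z ⟶ T, l ≫ g = h := by
  haveI hs : Surjective (pullback.fst h g) := by
    refine ⟨fun x => ?_⟩
    obtain ⟨z, hz⟩ := hr ⟨x, rfl⟩
    obtain ⟨w, hw, -⟩ := Scheme.Pullback.exists_preimage_pullback (f := h) (g := g) x z hz.symm
    exact ⟨w, hw⟩
  haveI : IsIso (pullback.fst h g) := isIso_of_isImmersion_of_surjective _
  refine ⟨inv (pullback.fst h g) ≫ pullback.snd h g, ?_⟩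
  rw [Category.assoc, ← pullback.condition, IsIso.inv_hom_id_assoc]

/-- Every locally closed subset `O ∩ Z` is the range of an immersion from a reduced scheme. -/
theorem exists_reduced_immersion_range {X : Scheme.{u}} (O : X.Opens) (Z : Closeds X) :
    ∃ (T : Scheme.{u}) (e : T ⟶ X), IsImmersion e ∧ AlgebraicGeometry.IsReduced T ∧
      Set.range e = (O : Set X) ∩ Z := by
  let I := Scheme.IdealSheafData.vanishingIdeal Z
  haveI : AlgebraicGeometry.IsReduced I.subscheme := isReduced_subscheme_vanishingIdeal Z
  haveI : AlgebraicGeometry.IsReduced (pullback O.ι I.subschemeι) :=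
    isReduced_of_isOpenImmersion (pullback.snd O.ι I.subschemeι)
  refine ⟨pullback O.ι I.subschemeι, pullback.fst _ _ ≫ O.ι, inferInstance, inferInstance, ?_⟩
  rw [Scheme.Pullback.range_fst_comp, Scheme.Opens.range_ι, I.range_subschemeι,
    Scheme.IdealSheafData.coe_support_vanishingIdeal]

/-- Closed version: a closed subset is the range of a closed immersion from a reduced scheme. -/
theorem exists_reduced_closedImmersion_range {X : Scheme.{u}} (Z : Closeds X) :
    ∃ (T : Scheme.{u}) (e : T ⟶ X), IsClosedImmersion e ∧ AlgebraicGeometry.IsReduced T ∧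
      Set.range e = (Z : Set X) := by
  let I := Scheme.IdealSheafData.vanishingIdeal Z
  haveI : AlgebraicGeometry.IsReduced I.subscheme := isReduced_subscheme_vanishingIdeal Z
  refine ⟨I.subscheme, I.subschemeι, inferInstance, inferInstance, ?_⟩
  rw [I.range_subschemeι, Scheme.IdealSheafData.coe_support_vanishingIdeal]

end Groth.Agent.H2.RedImm
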