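import Mathlib
import Groth.Agent.Lib.Helper2.EtStratF
import Groth.Agent.Lib.Helper2.EtStratH
import Groth.Agent.Lib.Helper2.RedImmA

set_option autoImplicit false
set_option linter.style.haveILetI false
set_option linter.unusedVariables false
set_option linter.unusedSectionVars false
universe u
open CategoryTheory CategoryTheory.Limits AlgebraicGeometry MorphismProperty TopologicalSpace Opposite

namespace Groth.Agent.H2.EtStrat

variable {U X : Scheme.{u}}

theorem StratOn.of_strat (j : U ⟶ X) (O : U.Opens) (h : Strat (O.ι ≫ j)) : StratOn j O := by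
  obtain ⟨ι, hι, Op, Z, hc, hd, hcov, hfin⟩ := h
  refine ⟨ι, hι, fun i => (Op i : Set X) ∩ (Z i : Set X), fun i => ⟨Op i, Z i, rfl⟩, hc, hd, hcov,
    fun i => (finOn_iff j O _).mpr (hfin i)⟩

variable (j : U ⟶ X) [Etale j] [CompactSpace X] [QuasiSeparatedSpace X]

/-- Compact opens inside an affine open. -/
theorem stratOn_of_le_affine (O A : U.Opens) (hA : IsAffineOpen A) (hO : O ≤ A)
    (hc : IsCompact (O : Set U)) : StratOn j O := by
  apply StratOn.of_strat
  haveI : IsAffine A.toScheme := hA
  haveI : CompactSpace O.toScheme := isCompact_iff_compactSpace.mp hc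
  have e : O.ι ≫ j = U.homOfLE hO ≫ (A.ι ≫ j) := by
    rw [← Category.assoc, U.homOfLE_ι]
  haveI : IsSeparated (O.ι ≫ j) := by
    rw [e]; infer_instance
  exact strat_of_isSeparated (O.ι ≫ j)

theorem stratOn_bot : StratOn j ⊥ := by
  apply StratOn.of_strat
  haveI : IsEmpty (⊥ : U.Opens).toScheme := ⟨fun x => x.2⟩
  exact strat_of_isSeparated ((⊥ : U.Opens).ι ≫ j)

theorem stratOn_finset [QuasiSeparatedSpace U] (t : Finset U.affineOpens) :
    StratOn j (⨆ V ∈ t, (V : U.Opens)) ∧ IsCompact ((⨆ V ∈ t, (V : U.Opens) : U.Opens) : Set U) := by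
  classical
  induction t using Finset.induction_on with
  | empty =>
    simp only [Finset.notMem_empty, not_false_eq_true, iSup_neg, iSup_bot]
    exact ⟨stratOn_bot j, by simp⟩
  | insert a t ha ih =>
    rw [Finset.iSup_insert]
    obtain ⟨ih1, ih2⟩ := ih
    have hac : IsCompact ((a : U.Opens) : Set U) := a.2.isCompact
    refine ⟨StratOn.sup ?_ ih1 ?_, ?_⟩
    · exact stratOn_of_le_affine j a a a.2 le_rfl hac
    · refine stratOn_of_le_affine j _ a a.2 inf_le_left ?_
      exact QuasiSeparatedSpace.inter_isCompact _ _ a.1.2 hac (Opens.isOpen _) ih2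
    · exact hac.union ih2

theorem stratOn_top [CompactSpace U] [QuasiSeparatedSpace U] : StratOn j ⊤ := by
  classical
  obtain ⟨t, ht⟩ := isCompact_univ.elim_finite_subcover
    (fun V : U.affineOpens => ((V : U.Opens) : Set U)) (fun V => V.1.2) (by
      intro x _
      have : x ∈ (⨆ V : U.affineOpens, (V : U.Opens) : U.Opens) := by
        rw [iSup_affineOpens_eq_top U]; trivial
      simpa using this)
  have h := (stratOn_finset j t).1
  have e : (⨆ V ∈ t, (V : U.Opens)) = (⊤ : U.Opens) := by
    rw [eq_top_iff]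
    intro x _
    have := ht (Set.mem_univ x)
    simpa using this
  rwa [e] at h

/-- **S0169**: stratification of an étale morphism of qcqs schemes into finite pieces. -/
theorem S0169_main [CompactSpace U] [QuasiSeparatedSpace U] :
    ∃ (n : ℕ) (T : Fin n → Scheme.{u}) (g : ∀ i, T i ⟶ X),
      (∀ i, IsImmersion (g i)) ∧ (∀ i, Topology.IsConstructible (Set.range (g i))) ∧
      Pairwise (fun i i' => Disjoint (Set.range (g i)) (Set.range (g i'))) ∧
      (⋃ i, Set.range (g i)) = Set.univ ∧ ∀ i, IsFinite (pullback.snd j (g i)) := by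
  obtain ⟨ι, hι, P, lc, hc, hd, hcov, hfin⟩ := stratOn_top j
  haveI := Fintype.ofFinite ι
  let e : Fin (Fintype.card ι) ≃ ι := (Fintype.equivFin ι).symm
  have hex : ∀ i : ι, ∃ (T : Scheme.{u}) (g : T ⟶ X), IsImmersion g ∧ Set.range g = P i := by
    intro i
    obtain ⟨O, Z, hP⟩ := lc i
    obtain ⟨T, g, hg, -, hr⟩ := RedImm.exists_reduced_immersion_range O Z
    exact ⟨T, g, hg, hr.trans hP.symm⟩
  choose T g hg hr using hex
  refine ⟨Fintype.card ι, fun k => T (e k), fun k => g (e k), fun k => hg (e k), ?_, ?_, ?_, ?_⟩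
  · intro k; rw [hr]; exact hc (e k)
  · intro k k' hkk'
    change Disjoint (Set.range (g (e k))) (Set.range (g (e k')))
    rw [hr, hr]
    exact hd _ _ (fun h => hkk' (e.injective h))
  · rw [Set.eq_univ_iff_forall]
    intro x
    obtain ⟨i, hi⟩ := hcov x
    refine Set.mem_iUnion.mpr ⟨e.symm i, ?_⟩
    rw [hr, e.apply_symm_apply]; exact hi
  · intro k
    have h := hfin (e k) (T (e k)) (g (e k)) (by rw [hr])
    have htop : pullback.fst j (g (e k)) ⁻¹ᵁ (⊤ : U.Opens) = ⊤ := rfl
    rw [htop] at h
    haveI : IsIso (⊤ : (pullback j (g (e k))).Opens).ι :=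
      (Scheme.topIso (pullback j (g (e k)))).isIso_hom
    exact (MorphismProperty.cancel_left_of_respectsIso @IsFinite
      (⊤ : (pullback j (g (e k))).Opens).ι _).mp h

end Groth.Agent.H2.EtStrat
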