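import Mathlib
import Groth.Prelude.Def_EtBase
import Groth.Prelude.Def_EtShriek2
import Groth.Agent.Lib.Helper7.CI13
import Groth.Agent.Lib.Helper7.ES4
import Groth.Agent.Lib.Helper7.ES11
import Groth.Agent.Lib.Helper7.ES13
import Groth.Agent.Lib.Helper2.FLCLocB
import Groth.Agent.Lib.Helper2.StrataD

set_option autoImplicit false
set_option linter.style.haveILetI false
set_option linter.unusedSectionVars false
set_option linter.unusedVariables false
universe u

open CategoryTheory CategoryTheory.Limits Opposite AlgebraicGeometry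

namespace Groth.Agent.H2.ExtFLC

open Groth.Agent.H7 Groth.Agent.H2.Strata

/-- A sheaf of abelian groups all of whose groups of sections vanish is zero. -/
lemma isZero_sheaf_of_sections {C : Type*} [Category C] {J : GrothendieckTopology C}
    (F : Sheaf J AddCommGrpCat.{u + 1}) (h : ∀ V : C, IsZero (F.obj.obj (op V))) : IsZero F := by
  rw [IsZero.iff_id_eq_zero]
  apply Sheaf.hom_ext
  refine NatTrans.ext (funext fun V => ?_)
  exact (h V.unop).eq_of_src _ _

set_option backward.isDefEq.respectTransparency.types false in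
/-- The zero sheaf is finite locally constant. -/
theorem isFLC_of_isZero {Y : Scheme.{u}} (H : EtCoh.Ab Y) (h : IsZero H) :
    EtCoh.IsFiniteLocallyConstant H := by
  refine ⟨PUnit.{u + 1}, fun _ => EtCoh.top Y, ?_, fun _ => ⟨PUnit, inferInstance, inferInstance, ⟨?_⟩⟩⟩
  · intro y; exact ⟨PUnit.unit, y, rfl⟩
  · refine IsZero.iso ?_ ?_
    · apply isZero_sheaf_of_sections
      intro V
      exact (CI.isZero_sheaf_iff H).mp h V.left
    · have hT : IsTerminal (Over.mk (𝟙 (EtCoh.top Y))) := Over.mkIdTerminal
      haveI : (constantSheaf (Y.smallEtaleTopology.over (EtCoh.top Y))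
          AddCommGrpCat.{u + 1}).Additive :=
        (constantSheafAdj _ AddCommGrpCat.{u + 1} hT).left_adjoint_additive
      apply Functor.map_isZero
      apply AddCommGrpCat.isZero_of_subsingleton

variable {W U X : Scheme.{u}}

section Comp

variable (j : U ⟶ X) (a : W ⟶ U) (j' : W ⟶ X) (w : a ≫ j = j')
  [AlgebraicGeometry.Etale j] [AlgebraicGeometry.Etale a] [AlgebraicGeometry.Etale j']

/-- Restriction along a composite of étale morphisms. -/
noncomputable def restrComp :
    EtShriek.restrAlong j' ≅ EtShriek.restrAlong j ⋙ EtShriek.restrAlong a :=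
  (ES.pullIsoRestr j').symm ≪≫ (ES.thetaIso j a j' w).symm ≪≫
    Functor.isoWhiskerRight (ES.pullIsoRestr j) (EtCoh.pull a) ≪≫
    Functor.isoWhiskerLeft (EtShriek.restrAlong j) (ES.pullIsoRestr a)

/-- Extension by zero along a composite of étale morphisms. -/
noncomputable def extZeroComp :
    EtShriek.extZero j' ≅ EtShriek.extZero a ⋙ EtShriek.extZero j :=
  (EtShriek.extZeroAdj j').leftAdjointUniq
    (((EtShriek.extZeroAdj a).comp (EtShriek.extZeroAdj j)).ofNatIsoRight (restrComp j a j' w).symm)

end Comp

/-- Restriction of a finite locally constant sheaf along an étale morphism. -/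
lemma isFLC_restrAlong (j : U ⟶ X) [AlgebraicGeometry.Etale j] (F : EtCoh.Ab X)
    (hF : EtCoh.IsFiniteLocallyConstant F) :
    EtCoh.IsFiniteLocallyConstant ((EtShriek.restrAlong j).obj F) :=
  isFiniteLocallyConstant_of_iso ((ES.pullIsoRestr j).app F)
    ((Groth.Agent.H2.PullOver.S6642_main j).2.1 _ hF)

/-- Extension by zero along a surjective open immersion preserves finite local constancy. -/
theorem isFLC_extZero_of_surjective (e : U ⟶ X) [IsOpenImmersion e]
    (he : Function.Surjective e.base) (K : EtCoh.Ab U) (hK : EtCoh.IsFiniteLocallyConstant K) :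
    EtCoh.IsFiniteLocallyConstant ((EtShriek.extZero e).obj K) := by
  haveI := ES.isIso_extZeroAdj_unit e K
  refine FLCLocEt.isFLC_of_etaleCover _ (fun _ : PUnit.{u + 1} => U) (fun _ => e)
    (fun x => ⟨PUnit.unit, he x⟩) (fun _ => ?_)
  exact isFiniteLocallyConstant_of_iso (asIso ((EtShriek.extZeroAdj e).unit.app K)) hK

/-- For a clopen immersion, direct image and extension by zero agree (objectwise). -/
theorem nonempty_push_iso_extZero (a : U ⟶ X) [IsOpenImmersion a] [IsClosedImmersion a]
    (a' : W ⟶ X) [IsOpenImmersion a'] [IsClosedImmersion a']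
    (hc : Set.range a'.base = (Set.range a.base)ᶜ) (H : EtCoh.Ab U) :
    Nonempty ((EtShriek.extZero a).obj H ≅ (EtCoh.push a).obj H) := by
  let F := (EtShriek.extZero a).obj H
  obtain ⟨w0, hS⟩ := CI.shortExact_extZero_push a a' hc F
  have hc' : Set.range a.base = (Set.range a'.base)ᶜ := by rw [hc, compl_compl]
  have h0 : IsZero ((EtShriek.restrAlong a').obj F) :=
    (CI.isZero_pull_extZero a' a hc' H).of_iso ((ES.pullIsoRestr a').app F).symm
  haveI : (EtShriek.restrAlong a').Additive := { }
  haveI : (EtShriek.extZero a').Additive := (EtShriek.extZeroAdj a').left_adjoint_additive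
  have h1 : IsZero ((EtShriek.extZero a').obj ((EtShriek.restrAlong a').obj F)) :=
    (EtShriek.extZero a').map_isZero h0
  have hiso : IsIso ((EtCoh.pullPushAdj a).unit.app F) := hS.isIso_g_iff.2 h1
  haveI := ES.isIso_extZeroAdj_unit a H
  let e1 : F ≅ (EtCoh.push a).obj ((EtCoh.pull a).obj F) := @asIso _ _ _ _ _ hiso
  let e2 : (EtCoh.pull a).obj F ≅ H :=
    (ES.pullIsoRestr a).app F ≪≫ (asIso ((EtShriek.extZeroAdj a).unit.app H)).symm
  exact ⟨e1 ≪≫ (EtCoh.push a).mapIso e2⟩

end Groth.Agent.H2.ExtFLC
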