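import Mathlib

set_option autoImplicit false
set_option linter.style.haveILetI false
set_option linter.unusedSectionVars false
set_option linter.unusedVariables false
universe u

open Topology TopologicalSpace Set

namespace Groth.Agent.H2.ConsType

variable {X : Type*} [TopologicalSpace X]

/-- `S` is saturated for the equivalence relation "same membership in every member of `L`". -/
def Sat (L : List (Set X)) (S : Set X) : Prop :=
  ∀ x y, (∀ O ∈ L, x ∈ O ↔ y ∈ O) → x ∈ S → y ∈ S

lemma Sat.mono {L L' : List (Set X)} {S : Set X} (h : ∀ O ∈ L, O ∈ L') (hS : Sat L S) :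
    Sat L' S :=
  fun x y hxy hx => hS x y (fun O hO => hxy O (h O hO)) hx

/-- A constructible set is saturated for finitely many retrocompact opens. -/
theorem exists_sat_of_isConstructible {S : Set X} (hS : IsConstructible S) :
    ∃ L : List (Set X), (∀ O ∈ L, IsOpen O ∧ IsRetrocompact O) ∧ Sat L S := by
  induction hS using IsConstructible.empty_union_induction with
  | open_retrocompact U hUopen hUcomp =>
    refine ⟨[U], ?_, ?_⟩
    · intro O hO
      rw [List.mem_singleton] at hO
      subst hO
      exact ⟨hUopen, hUcomp⟩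
    · intro x y hxy hx
      exact (hxy U (List.mem_singleton.2 rfl)).1 hx
  | union s hs t ht hs' ht' =>
    obtain ⟨L, hL, hLs⟩ := hs'
    obtain ⟨L', hL', hLt⟩ := ht'
    refine ⟨L ++ L', ?_, ?_⟩
    · intro O hO
      rcases List.mem_append.1 hO with h | h
      · exact hL O h
      · exact hL' O h
    · intro x y hxy hx
      rcases hx with hx | hx
      · exact Or.inl (hLs x y (fun O hO => hxy O (List.mem_append.2 (Or.inl hO))) hx)
      · exact Or.inr (hLt x y (fun O hO => hxy O (List.mem_append.2 (Or.inr hO))) hx)
  | compl s hs hs' =>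
    obtain ⟨L, hL, hLs⟩ := hs'
    refine ⟨L, hL, ?_⟩
    intro x y hxy hx hy
    exact hx (hLs y x (fun O hO => (hxy O hO).symm) hy)

/-- A finite family of constructible sets is saturated for a common finite list of retrocompact
opens. -/
theorem exists_sat_family {N : ℕ} (S : Fin N → Set X) (hS : ∀ b, IsConstructible (S b)) :
    ∃ L : List (Set X), (∀ O ∈ L, IsOpen O ∧ IsRetrocompact O) ∧ ∀ b, Sat L (S b) := by
  choose L hL hLS using fun b => exists_sat_of_isConstructible (hS b)
  refine ⟨(List.ofFn L).flatten, ?_, ?_⟩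
  · intro O hO
    obtain ⟨l, hl, hOl⟩ := List.mem_flatten.1 hO
    obtain ⟨b, rfl⟩ := (List.mem_ofFn' _ _).1 hl
    exact hL b O hOl
  · intro b
    refine (hLS b).mono ?_
    intro O hO
    exact List.mem_flatten.2 ⟨L b, (List.mem_ofFn' _ _).2 ⟨b, rfl⟩, hO⟩

/-- The chain of opens attached to a finite list of compact opens: successive differences consist
of points of the same type. -/
theorem exists_chain_of_list [CompactSpace X] [QuasiSeparatedSpace X] (L : List (Set X))
    (hL : ∀ O ∈ L, IsOpen O ∧ IsCompact O) :
    ∃ (n : ℕ) (V : ℕ → Set X), V 0 = ∅ ∧ V n = univ ∧ (∀ k, IsOpen (V k) ∧ IsCompact (V k)) ∧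
      (∀ k, V k ⊆ V (k + 1)) ∧
      ∀ k, ∀ x ∈ V (k + 1) \ V k, ∀ y ∈ V (k + 1) \ V k, ∀ O ∈ L, (x ∈ O ↔ y ∈ O) := by
  induction L with
  | nil =>
    refine ⟨1, fun k => if k = 0 then ∅ else univ, by simp, by simp, ?_, ?_, ?_⟩
    · intro k
      by_cases hk : k = 0
      · simp [hk]
      · simp only [hk, if_false]
        exact ⟨isOpen_univ, isCompact_univ⟩
    · intro k
      by_cases hk : k = 0
      · simp [hk]
      · simp [hk]
    · intro k x hx y hy O hO
      exact absurd hO (List.not_mem_nil)
  | cons O L ih =>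
    obtain ⟨n, V, h0, hn, hV, hmono, hdiff⟩ := ih (fun O' hO' => hL O' (List.mem_cons_of_mem _ hO'))
    obtain ⟨hOo, hOc⟩ := hL O (List.mem_cons_self)
    have hmono' : ∀ k l, k ≤ l → V k ⊆ V l := by
      intro k l hkl
      induction l, hkl using Nat.le_induction with
      | base => exact subset_rfl
      | succ l _ ih' => exact ih'.trans (hmono l)
    refine ⟨n + n, fun k => if k ≤ n then V k ∩ O else O ∪ V (k - n), ?_, ?_, ?_, ?_, ?_⟩
    · simp [h0]
    · by_cases hn0 : n = 0
      · subst hn0
        simp only [Nat.add_zero, le_refl, if_true]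
        rw [h0] at hn
        rw [← hn, h0]
        simp
      · have : ¬ (n + n ≤ n) := by omega
        simp only [this, if_false]
        have : n + n - n = n := by omega
        rw [this, hn]
        simp
    · intro k
      by_cases hk : k ≤ n
      · simp only [hk, if_true]
        exact ⟨(hV k).1.inter hOo,
          QuasiSeparatedSpace.inter_isCompact _ _ (hV k).1 (hV k).2 hOo hOc⟩
      · simp only [hk, if_false]
        exact ⟨hOo.union (hV _).1, hOc.union (hV _).2⟩
    · intro k
      by_cases hk : k + 1 ≤ n
      · have hk' : k ≤ n := by omega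
        simp only [hk, hk', if_true]
        exact inter_subset_inter_left _ (hmono k)
      · by_cases hk' : k ≤ n
        · have hkn : k = n := by omega
          subst hkn
          simp only [hk, le_refl, if_true, if_false]
          have : k + 1 - k = 1 := by omega
          rw [this]
          exact inter_subset_right.trans subset_union_left
        · simp only [hk, hk', if_false]
          have : k + 1 - n = (k - n) + 1 := by omega
          rw [this]
          exact union_subset_union_right _ (hmono _)
    · intro k x hx y hy O' hO'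
      by_cases hk : k + 1 ≤ n
      · have hk' : k ≤ n := by omega
        simp only [hk, hk', if_true] at hx hy
        have hx' : x ∈ V (k + 1) \ V k := ⟨hx.1.1, fun h => hx.2 ⟨h, hx.1.2⟩⟩
        have hy' : y ∈ V (k + 1) \ V k := ⟨hy.1.1, fun h => hy.2 ⟨h, hy.1.2⟩⟩
        rcases List.mem_cons.1 hO' with rfl | h
        · exact ⟨fun _ => hy.1.2, fun _ => hx.1.2⟩
        · exact hdiff k x hx' y hy' O' h
      · by_cases hk' : k ≤ n
        · have hkn : k = n := by omega
          subst hkn
          simp only [hk, le_refl, if_true, if_false] at hx hy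
          have h1 : k + 1 - k = 1 := by omega
          rw [h1, hn] at hx hy
          -- x ∈ (O ∪ V 1) \ (univ ∩ O)
          have hxO : x ∉ O := fun h => hx.2 ⟨trivial, h⟩
          have hyO : y ∉ O := fun h => hy.2 ⟨trivial, h⟩
          have hx1 : x ∈ V 1 := hx.1.resolve_left hxO
          have hy1 : y ∈ V 1 := hy.1.resolve_left hyO
          have hx' : x ∈ V (0 + 1) \ V 0 := ⟨hx1, by rw [h0]; exact Set.notMem_empty x⟩
          have hy' : y ∈ V (0 + 1) \ V 0 := ⟨hy1, by rw [h0]; exact Set.notMem_empty y⟩
          rcases List.mem_cons.1 hO' with rfl | h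
          · exact ⟨fun h => absurd h hxO, fun h => absurd h hyO⟩
          · exact hdiff 0 x hx' y hy' O' h
        · simp only [hk, hk', if_false] at hx hy
          have h1 : k + 1 - n = (k - n) + 1 := by omega
          rw [h1] at hx hy
          have hxO : x ∉ O := fun h => hx.2 (Or.inl h)
          have hyO : y ∉ O := fun h => hy.2 (Or.inl h)
          have hx' : x ∈ V (k - n + 1) \ V (k - n) :=
            ⟨hx.1.resolve_left hxO, fun h => hx.2 (Or.inr h)⟩
          have hy' : y ∈ V (k - n + 1) \ V (k - n) :=
            ⟨hy.1.resolve_left hyO, fun h => hy.2 (Or.inr h)⟩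
          rcases List.mem_cons.1 hO' with rfl | h
          · exact ⟨fun h => absurd h hxO, fun h => absurd h hyO⟩
          · exact hdiff _ x hx' y hy' O' h

/-- **Chain of quasi-compact opens adapted to a finite family of constructible sets.** -/
theorem exists_chain [CompactSpace X] [QuasiSeparatedSpace X] {N : ℕ} (S : Fin N → Set X)
    (hS : ∀ b, IsConstructible (S b)) :
    ∃ (n : ℕ) (V : ℕ → Set X), V 0 = ∅ ∧ V n = univ ∧ (∀ k, IsOpen (V k) ∧ IsCompact (V k)) ∧
      (∀ k, V k ⊆ V (k + 1)) ∧
      ∀ k, ∀ x ∈ V (k + 1) \ V k, ∀ y ∈ V (k + 1) \ V k, ∀ b, x ∈ S b → y ∈ S b := by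
  obtain ⟨L, hL, hLS⟩ := exists_sat_family S hS
  obtain ⟨n, V, h0, hn, hV, hmono, hdiff⟩ := exists_chain_of_list L
    (fun O hO => ⟨(hL O hO).1, (hL O hO).2.isCompact⟩)
  exact ⟨n, V, h0, hn, hV, hmono, fun k x hx y hy b hxb =>
    hLS b x y (fun O hO => hdiff k x hx y hy O hO) hxb⟩

end Groth.Agent.H2.ConsType
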