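import Mathlib
import Groth.Prelude.Def_EtBase
import Groth.Prelude.Def_EtShriek2
import Groth.Agent.Lib.Helper7.CI13
import Groth.Agent.Lib.Helper7.ES11
import Groth.Agent.Lib.Helper7.ES13

set_option autoImplicit false
set_option linter.style.haveILetI false
set_option linter.unusedSectionVars false
set_option linter.unusedVariables false
universe u

open CategoryTheory CategoryTheory.Limits Opposite AlgebraicGeometry

namespace Groth.Agent.H2.Filt

open Groth.Agent.H7

variable {W U U' X : Scheme.{u}}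

/-- `j_! j⁻¹ F`. -/
noncomputable def Ej (j : U ⟶ X) [IsOpenImmersion j] (F : EtCoh.Ab X) : EtCoh.Ab X :=
  (EtShriek.extZero j).obj ((EtShriek.restrAlong j).obj F)

section Comp

variable (j : U ⟶ X) (a : U' ⟶ U) (j' : U' ⟶ X) (w : a ≫ j = j')
  [IsOpenImmersion j] [IsOpenImmersion a] [IsOpenImmersion j']

/-- Restriction along a composite. -/
noncomputable def restrComp :
    EtShriek.restrAlong j' ≅ EtShriek.restrAlong j ⋙ EtShriek.restrAlong a :=
  (ES.pullIsoRestr j').symm ≪≫ (ES.thetaIso j a j' w).symm ≪≫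
    Functor.isoWhiskerRight (ES.pullIsoRestr j) (EtCoh.pull a) ≪≫
    Functor.isoWhiskerLeft (EtShriek.restrAlong j) (ES.pullIsoRestr a)

/-- Extension by zero along a composite. -/
noncomputable def extZeroComp :
    EtShriek.extZero j' ≅ EtShriek.extZero a ⋙ EtShriek.extZero j :=
  (EtShriek.extZeroAdj j').leftAdjointUniq
    (((EtShriek.extZeroAdj a).comp (EtShriek.extZeroAdj j)).ofNatIsoRight (restrComp j a j' w).symm)

/-- `j'_! j'⁻¹ F ≅ j_! a_! a⁻¹ j⁻¹ F`. -/
noncomputable def EjIso (F : EtCoh.Ab X) :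
    Ej j' F ≅ (EtShriek.extZero j).obj ((EtShriek.extZero a).obj
      ((EtShriek.restrAlong a).obj ((EtShriek.restrAlong j).obj F))) :=
  (extZeroComp j a j' w).app _ ≪≫
    (EtShriek.extZero j).mapIso ((EtShriek.extZero a).mapIso ((restrComp j a j' w).app F))

end Comp

section Step

variable (j : U ⟶ X) (a : U' ⟶ U) (j' : U' ⟶ X) (w : a ≫ j = j')
  [IsOpenImmersion j] [IsOpenImmersion a] [IsOpenImmersion j']
  (c : W ⟶ U) [IsClosedImmersion c] (hc : Set.range a.base = (Set.range c.base)ᶜ)

include w hc in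
/-- One step of the filtration. -/
theorem step (F : EtCoh.Ab X) :
    ∃ (ι : Ej j' F ⟶ Ej j F)
      (π : Ej j F ⟶ (EtShriek.extZero j).obj ((EtCoh.push c).obj
        ((EtCoh.pull c).obj ((EtShriek.restrAlong j).obj F))))
      (hz : ι ≫ π = 0), (ShortComplex.mk ι π hz).ShortExact := by
  let H := (EtShriek.restrAlong j).obj F
  obtain ⟨w0, hS⟩ := CI.shortExact_extZero_push c a hc H
  haveI : PreservesColimitsOfSize.{0, 0} (EtShriek.extZero j) :=
    (EtShriek.extZeroAdj j).leftAdjoint_preservesColimits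
  haveI : PreservesFiniteColimits (EtShriek.extZero j) :=
    PreservesColimitsOfSize.preservesFiniteColimits _
  haveI : (EtShriek.restrAlong j).Additive := { }
  haveI : (EtShriek.extZero j).Additive := (EtShriek.extZeroAdj j).left_adjoint_additive
  have hS' := hS.map_of_exact (EtShriek.extZero j)
  let e := EjIso j a j' w F
  let S₀ := (ShortComplex.mk _ _ w0).map (EtShriek.extZero j)
  have hz : (e.hom ≫ S₀.f) ≫ S₀.g = 0 :=
    (Category.assoc _ _ _).trans ((congrArg (fun m => e.hom ≫ m) S₀.zero).trans comp_zero)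
  refine ⟨e.hom ≫ S₀.f, S₀.g, hz, ?_⟩
  refine ShortComplex.shortExact_of_iso ?_ hS'
  exact (ShortComplex.isoMk (S₁ := ShortComplex.mk (e.hom ≫ S₀.f) S₀.g hz) (S₂ := S₀)
    e (Iso.refl _) (Iso.refl _) (Category.comp_id _).symm
    ((Category.id_comp _).trans (Category.comp_id _).symm)).symm

end Step

end Groth.Agent.H2.Filt
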