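import Mathlib
import Groth.Prelude.Def_PBC
import Groth.Prelude.Def_EtShriek2
import Groth.Agent.Lib.Helper2.FiltA
import Groth.Agent.Lib.Helper2.RedImmA
import Groth.Agent.Lib.Helper2.ConsTypeA
import Groth.Agent.Lib.Helper2.StrataG
import Groth.Agent.Lib.Helper7.ST7
import Groth.Agent.Lib.Helper7.CI11

set_option autoImplicit false
set_option linter.style.haveILetI false
set_option linter.unusedSectionVars false
set_option linter.unusedVariables false
universe u

open CategoryTheory CategoryTheory.Limits Opposite AlgebraicGeometry TopologicalSpace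

namespace Groth.Agent.H2.Filt

open Groth.Agent.H7 Groth.Agent.H2.Strata

/-- All abelian étale sheaves on an empty scheme are zero. -/
lemma isZero_of_isEmpty {Y : Scheme.{u}} [IsEmpty Y] (G : EtCoh.Ab Y) : IsZero G := by
  rw [CI.isZero_sheaf_iff]
  intro V
  haveI : IsEmpty V.left := ⟨fun v => (‹IsEmpty Y›).false (V.hom.base v)⟩
  haveI := ST.sections_subsingleton_of_isEmpty G V
  exact AddCommGrpCat.isZero_of_subsingleton _

lemma isFLC_of_isEmpty {Y : Scheme.{u}} [IsEmpty Y] (G : EtCoh.Ab Y) :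
    EtCoh.IsFiniteLocallyConstant G :=
  ⟨PEmpty, PEmpty.elim, fun y => (IsEmpty.false y).elim, fun i => i.elim⟩

variable {U X : Scheme.{u}}

lemma isZero_Ej_of_isEmpty (j : U ⟶ X) [IsOpenImmersion j] [IsEmpty U] (F : EtCoh.Ab X) :
    IsZero (Ej j F) := by
  haveI : (EtShriek.restrAlong j).Additive := { }
  haveI : (EtShriek.extZero j).Additive := (EtShriek.extZeroAdj j).left_adjoint_additive
  exact (EtShriek.extZero j).map_isZero (isZero_of_isEmpty _)

lemma nonempty_Ej_iso (j : U ⟶ X) [IsOpenImmersion j] (hj : Set.range j.base = Set.univ)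
    (F : EtCoh.Ab X) : Nonempty (Ej j F ≅ F) := by
  obtain ⟨W, c, hc, hred, hr⟩ := RedImm.exists_reduced_closedImmersion_range (⊥ : Closeds X)
  haveI := hc
  have hr' : Set.range c.base = ∅ := hr
  haveI hW : IsEmpty W := ⟨fun w => by
    have : c.base w ∈ Set.range c.base := ⟨w, rfl⟩
    rw [hr'] at this
    exact this⟩
  have hZU : Set.range j.base = (Set.range c.base)ᶜ := by rw [hj, hr']; simp
  obtain ⟨w0, hS⟩ := CI.shortExact_extZero_push c j hZU F
  have h3 : IsZero ((EtCoh.push c).obj ((EtCoh.pull c).obj F)) :=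
    (EtCoh.push c).map_isZero (isZero_of_isEmpty _)
  have hiso : IsIso ((EtShriek.extZeroAdj j).counit.app F) := hS.isIso_f_iff.2 h3
  exact ⟨@asIso _ _ _ _ _ hiso⟩

theorem S8561_main {X : Scheme.{u}} [CompactSpace X] [QuasiSeparatedSpace X] (F : EtCoh.Ab X)
    (hF : EtPBC.IsConstructible F) :
    ∃ (n : ℕ) (E : Fin (n + 1) → EtCoh.Ab X) (ι : ∀ k : Fin n, E k.castSucc ⟶ E k.succ),
      IsZero (E 0) ∧ Nonempty (E (Fin.last n) ≅ F) ∧
      ∀ k : Fin n, ∃ (U W : Scheme.{u}) (j : U ⟶ X) (_ : IsOpenImmersion j) (c : W ⟶ U)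
        (_ : IsClosedImmersion c) (G : EtCoh.Ab W)
        (π : E k.succ ⟶ (EtShriek.extZero j).obj ((EtCoh.push c).obj G)) (hz : ι k ≫ π = 0),
        Topology.IsConstructible (Set.range (c ≫ j)) ∧ EtCoh.IsFiniteLocallyConstant G ∧
        (ShortComplex.mk (ι k) π hz).ShortExact := by
  obtain ⟨N, T, g, hgi, hgc, hgd, hgu, hgF⟩ := (S0128_main X F).1 hF
  have hcons : ∀ b, Topology.IsConstructible (Set.range (g b)) := by
    intro b
    have hval : Topology.IsOpenEmbedding (Subtype.val : ↥(Set.univ : Set X) → X) :=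
      isOpen_univ.isOpenEmbedding_subtypeVal
    refine (Topology.isConstructible_preimage_iff_of_isOpenEmbedding hval ?_ ?_).1 (hgc b)
    · rw [Subtype.range_coe]; exact IsRetrocompact.univ
    · rw [Subtype.range_coe]; exact Set.subset_univ _
  obtain ⟨n, V, h0, hn, hV, hmono, hdiff⟩ :=
    ConsType.exists_chain (fun b => Set.range (g b)) hcons
  let Vo : ℕ → X.Opens := fun k => ⟨V k, (hV k).1⟩
  have hle : ∀ k, Vo k ≤ Vo (k + 1) := fun k => hmono k
  -- goodness of the differences
  have hgood : ∀ (k : ℕ) (W : Scheme.{u}) (h : W ⟶ X) [IsImmersion h]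
      [AlgebraicGeometry.IsReduced W], Set.range h ⊆ V (k + 1) \ V k →
      EtCoh.IsFiniteLocallyConstant ((EtCoh.pull h).obj F) := by
    intro k W h _ _ hr
    by_cases hW : IsEmpty W
    · exact isFLC_of_isEmpty _
    · rw [not_isEmpty_iff] at hW
      obtain ⟨w⟩ := hW
      have hx : h w ∈ V (k + 1) \ V k := hr ⟨w, rfl⟩
      have hxu : h w ∈ ⋃ i, Set.range (g i) := by rw [hgu]; trivial
      obtain ⟨b, hb⟩ := Set.mem_iUnion.1 hxu
      have hrb : Set.range h ⊆ Set.range (g b) := by
        rintro _ ⟨w', rfl⟩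
        exact hdiff k (h w) hx (h w') (hr ⟨w', rfl⟩) b hb
      haveI := hgi b
      obtain ⟨l, hl⟩ := RedImm.exists_fac_of_reduced (g b) h hrb
      exact isFLC_pull_of_comp'' l (g b) h hl.symm F (hgF b)
  -- the steps
  have hstep : ∀ k : ℕ, ∃ (ι : Ej (Vo k).ι F ⟶ Ej (Vo (k + 1)).ι F) (W : Scheme.{u})
      (c : W ⟶ (Vo (k + 1)).toScheme) (_ : IsClosedImmersion c) (G : EtCoh.Ab W)
      (π : Ej (Vo (k + 1)).ι F ⟶ (EtShriek.extZero (Vo (k + 1)).ι).obj ((EtCoh.push c).obj G))
      (hz : ι ≫ π = 0),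
      Topology.IsConstructible (Set.range (c ≫ (Vo (k + 1)).ι)) ∧
      EtCoh.IsFiniteLocallyConstant G ∧ (ShortComplex.mk ι π hz).ShortExact := by
    intro k
    let j := (Vo (k + 1)).ι
    let a : (Vo k).toScheme ⟶ (Vo (k + 1)).toScheme := X.homOfLE (hle k)
    have w : a ≫ j = (Vo k).ι := X.homOfLE_ι (hle k)
    let Z : Closeds (Vo (k + 1)).toScheme :=
      ⟨(Set.range a.base)ᶜ, a.isOpenEmbedding.isOpen_range.isClosed_compl⟩
    obtain ⟨W, c, hc, hred, hr⟩ := RedImm.exists_reduced_closedImmersion_range Z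
    haveI := hc
    haveI := hred
    have hr' : Set.range c.base = (Set.range a.base)ᶜ := hr
    have hc' : Set.range a.base = (Set.range c.base)ᶜ := by rw [hr', compl_compl]
    obtain ⟨ι, π, hz, hS⟩ := step j a (Vo k).ι w c hc' F
    have hrange : Set.range (c ≫ j) = V (k + 1) \ V k := by
      have h1 : Set.range (c ≫ j) = j '' Set.range c := by
        rw [Scheme.Hom.comp_base, TopCat.coe_comp, Set.range_comp]
      have h2 : j '' Set.range a = V k := by
        have : Set.range (a ≫ j) = j '' Set.range a := by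
          rw [Scheme.Hom.comp_base, TopCat.coe_comp, Set.range_comp]
        rw [← this, w]
        exact (Vo k).range_ι
      have h3 : Set.range j = V (k + 1) := (Vo (k + 1)).range_ι
      rw [h1]
      change j '' Set.range c.base = _
      rw [hr', Set.image_compl_eq_range_sdiff_image j.injective]
      rw [h2, h3]
    refine ⟨ι, W, c, hc, _, π, hz, ?_, ?_, hS⟩
    · rw [hrange]
      exact ((hV (k + 1)).2.isConstructible (hV (k + 1)).1).sdiff
        ((hV k).2.isConstructible (hV k).1)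
    · have hflc := hgood k W (c ≫ j) (le_of_eq hrange)
      refine isFiniteLocallyConstant_of_iso ?_ hflc
      exact (pullCompIsoAb c j).app F ≪≫ (EtCoh.pull c).mapIso ((ES.pullIsoRestr j).app F)
  choose ι W c hc G π hz h1 h2 h3 using hstep
  refine ⟨n, fun k => Ej (Vo k.val).ι F, fun k => ι k.val, ?_, ?_, ?_⟩
  · haveI : IsEmpty (Vo 0).toScheme := ⟨fun x => by
      have := x.2
      change x.1 ∈ V 0 at this
      rw [h0] at this
      exact this⟩
    show IsZero (Ej (Vo 0).ι F)
    exact isZero_Ej_of_isEmpty _ F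
  · refine nonempty_Ej_iso _ ?_ F
    change Set.range (Vo n).ι.base = Set.univ
    rw [← hn]
    exact (Vo n).range_ι
  · intro k
    exact ⟨_, W k.val, (Vo (k.val + 1)).ι, inferInstance, c k.val, hc k.val, G k.val, π k.val,
      hz k.val, h1 k.val, h2 k.val, h3 k.val⟩

end Groth.Agent.H2.Filt
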