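import Mathlib
import Groth.Prelude.Def_EtBase
import Groth.Prelude.Def_EtShriek2
import Groth.Agent.Lib.Helper2.ExtFLCA
import Groth.Agent.Lib.Helper2.FiltB
import Groth.Agent.Lib.Helper2.SerreAbF

set_option autoImplicit false
set_option linter.style.haveILetI false
set_option linter.unusedSectionVars false
set_option linter.unusedVariables false
universe u

open CategoryTheory CategoryTheory.Limits Opposite AlgebraicGeometry

namespace Groth.Agent.H2.ExtFLC

open Groth.Agent.H7 Groth.Agent.H2.Strata

/-- **Extension by zero along a completely split étale morphism** preserves finite local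
constancy. -/
theorem isFLC_extZero_of_split : ∀ (n : ℕ) {Z W : Scheme.{u}} (f : Z ⟶ W)
    [AlgebraicGeometry.Etale f] (τ : Fin n → (W ⟶ Z)) (hτ : ∀ k, τ k ≫ f = 𝟙 W)
    (hop : ∀ k, IsOpenImmersion (τ k)) (hcl : ∀ k, IsClosedImmersion (τ k))
    (hdisj : ∀ i k, i ≠ k → Disjoint (Set.range (τ i).base) (Set.range (τ k).base))
    (hcov : ∀ z : Z, ∃ k w, (τ k).base w = z) (G : EtCoh.Ab Z)
    (hG : EtCoh.IsFiniteLocallyConstant G),
    EtCoh.IsFiniteLocallyConstant ((EtShriek.extZero f).obj G) := by
  intro n
  induction n with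
  | zero =>
    intro Z W f _ τ hτ hop hcl hdisj hcov G hG
    haveI : IsEmpty Z := ⟨fun z => (hcov z).choose.elim0⟩
    haveI : (EtShriek.restrAlong f).Additive := { }
    haveI : (EtShriek.extZero f).Additive := (EtShriek.extZeroAdj f).left_adjoint_additive
    exact isFLC_of_isZero _ ((EtShriek.extZero f).map_isZero (Filt.isZero_of_isEmpty G))
  | succ n ih =>
    intro Z W f _ τ hτ hop hcl hdisj hcov G hG
    let a : W ⟶ Z := τ 0
    haveI : IsOpenImmersion a := hop 0
    haveI : IsClosedImmersion a := hcl 0
    have hacl : IsClosed (Set.range a.base) := a.isClosedEmbedding.isClosed_range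
    have haop : IsOpen (Set.range a.base) := a.isOpenEmbedding.isOpen_range
    let Z' : Z.Opens := ⟨(Set.range a.base)ᶜ, hacl.isOpen_compl⟩
    let a' : Z'.toScheme ⟶ Z := Z'.ι
    have hra' : Set.range a'.base = (Set.range a.base)ᶜ := Scheme.Opens.range_ι Z'
    haveI : IsClosedImmersion a' := by
      apply IsClosedImmersion.of_isPreimmersion
      rw [show Set.range a' = Set.range a'.base from rfl, hra']
      exact haop.isClosed_compl
    -- the exact sequence
    obtain ⟨w0, hS⟩ := CI.shortExact_extZero_push a a' hra' G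
    haveI : PreservesColimitsOfSize.{0, 0} (EtShriek.extZero f) :=
      (EtShriek.extZeroAdj f).leftAdjoint_preservesColimits
    haveI : PreservesFiniteColimits (EtShriek.extZero f) :=
      PreservesColimitsOfSize.preservesFiniteColimits _
    haveI : (EtShriek.restrAlong f).Additive := { }
    haveI : (EtShriek.extZero f).Additive := (EtShriek.extZeroAdj f).left_adjoint_additive
    have hS' := hS.map_of_exact (EtShriek.extZero f)
    -- first term
    have h1 : EtCoh.IsFiniteLocallyConstant ((EtShriek.extZero f).obj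
        ((EtShriek.extZero a').obj ((EtShriek.restrAlong a').obj G))) := by
      have hK : EtCoh.IsFiniteLocallyConstant ((EtShriek.restrAlong a').obj G) :=
        isFLC_restrAlong a' G hG
      have hsub : ∀ k : Fin n, Set.range (τ k.succ).base ⊆ Set.range a'.base := by
        intro k
        rw [hra']
        rintro _ ⟨x, rfl⟩ ⟨y, hy⟩
        exact Set.disjoint_left.mp (hdisj k.succ 0 (Fin.succ_ne_zero k)) ⟨x, rfl⟩ ⟨y, hy⟩
      let τ' : Fin n → (W ⟶ Z'.toScheme) := fun k =>
        IsOpenImmersion.lift a' (τ k.succ) (hsub k)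
      have hτ'a : ∀ k, τ' k ≫ a' = τ k.succ := fun k => IsOpenImmersion.lift_fac _ _ _
      have key := ih (a' ≫ f) τ' ?_ ?_ ?_ ?_ ?_ _ hK
      · exact isFiniteLocallyConstant_of_iso ((extZeroComp f a' (a' ≫ f) rfl).app _) key
      · intro k
        rw [← Category.assoc, hτ'a, hτ]
      · intro k
        haveI : IsOpenImmersion (τ' k ≫ a') := by rw [hτ'a]; exact hop _
        exact IsOpenImmersion.of_comp (τ' k) a'
      · intro k
        haveI : IsClosedImmersion (τ' k ≫ a') := by rw [hτ'a]; exact hcl _
        exact IsClosedImmersion.of_comp (τ' k) a'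
      · intro i k hik
        rw [Set.disjoint_left]
        rintro _ ⟨x, rfl⟩ ⟨y, hy⟩
        have hne : i.succ ≠ k.succ := fun h => hik (Fin.succ_injective _ h)
        refine Set.disjoint_left.mp (hdisj i.succ k.succ hne) ⟨x, rfl⟩ ⟨y, ?_⟩
        have e1 : (τ k.succ).base y = a'.base ((τ' k).base y) := by
          rw [← hτ'a k]; rfl
        have e2 : (τ i.succ).base x = a'.base ((τ' i).base x) := by
          rw [← hτ'a i]; rfl
        rw [e1, e2, hy]
      · intro z'
        obtain ⟨k, w, hw⟩ := hcov (a'.base z')
        have hk0 : k ≠ 0 := by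
          rintro rfl
          have : a'.base z' ∈ Set.range a'.base := ⟨z', rfl⟩
          rw [hra'] at this
          exact this ⟨w, hw⟩
        obtain ⟨l, rfl⟩ := Fin.exists_succ_eq.mpr hk0
        refine ⟨l, w, ?_⟩
        apply a'.isOpenEmbedding.injective
        have e1 : (τ l.succ).base w = a'.base ((τ' l).base w) := by
          rw [← hτ'a l]; rfl
        rw [← e1]; exact hw
    -- third term
    have h3 : EtCoh.IsFiniteLocallyConstant ((EtShriek.extZero f).obj
        ((EtCoh.push a).obj ((EtCoh.pull a).obj G))) := by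
      have hK : EtCoh.IsFiniteLocallyConstant ((EtCoh.pull a).obj G) :=
        (Groth.Agent.H2.PullOver.S6642_main a).2.1 _ hG
      obtain ⟨e⟩ := nonempty_push_iso_extZero a a' hra' ((EtCoh.pull a).obj G)
      have hid : EtCoh.IsFiniteLocallyConstant
          ((EtShriek.extZero (𝟙 W)).obj ((EtCoh.pull a).obj G)) :=
        isFLC_extZero_of_surjective (𝟙 W) (fun x => ⟨x, by simp⟩) _ hK
      have hcomp := isFiniteLocallyConstant_of_iso ((extZeroComp f a (𝟙 W) (hτ 0)).app _) hid
      exact isFiniteLocallyConstant_of_iso ((EtShriek.extZero f).mapIso e) hcomp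
    exact (SerreAb.S6645_main W).2.prop_X₂_of_shortExact hS' h1 h3

end Groth.Agent.H2.ExtFLC
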