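import Mathlib
import Groth.Prelude.Def_EtBase

set_option autoImplicit false
set_option linter.style.haveILetI false
set_option linter.unusedVariables false
set_option linter.unusedSectionVars false
universe u
open CategoryTheory CategoryTheory.Limits AlgebraicGeometry MorphismProperty TopologicalSpace Opposite

namespace Groth.Agent.H2.FEtPush

variable {X Y : Scheme.{u}} (f : X ⟶ Y) [Etale f]

/-- The étale `X`-scheme given by a lift `σ : W.left ⟶ X` of the structure map of `W`. -/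
noncomputable def secObj (W : Y.Etale) (σ : W.left ⟶ X) (hσ : σ ≫ f = W.hom) : X.Etale :=
  haveI : Etale W.hom := W.prop
  haveI : Etale (σ ≫ f) := by rw [hσ]; infer_instance
  MorphismProperty.Over.mk ⊤ σ (Etale.of_comp σ f)

lemma secObj_left (W : Y.Etale) (σ : W.left ⟶ X) (hσ : σ ≫ f = W.hom) :
    (secObj f W σ hσ).left = W.left := rfl

lemma secObj_hom (W : Y.Etale) (σ : W.left ⟶ X) (hσ : σ ≫ f = W.hom) :
    (secObj f W σ hσ).hom = σ := rfl

lemma comp_lift {W T : Y.Etale} (h : T ⟶ W) (σ : W.left ⟶ X) (hσ : σ ≫ f = W.hom) :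
    (h.left ≫ σ) ≫ f = T.hom := by
  rw [Category.assoc, hσ]
  exact MorphismProperty.Over.w h

/-- The morphism between lifts induced by a morphism of étale `Y`-schemes. -/
noncomputable def secMap {W T : Y.Etale} (h : T ⟶ W) (σ : W.left ⟶ X) (hσ : σ ≫ f = W.hom) :
    secObj f T (h.left ≫ σ) (comp_lift f h σ hσ) ⟶ secObj f W σ hσ :=
  MorphismProperty.Over.homMk h.left rfl

/-- The section of the base change defined by a lift. -/
noncomputable def tmapLeft (W : Y.Etale) (σ : W.left ⟶ X) (hσ : σ ≫ f = W.hom) :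
    W.left ⟶ ((EtCoh.bc f).obj W).left :=
  pullback.lift (𝟙 W.left) σ (by rw [Category.id_comp, hσ])

lemma tmapLeft_fst (W : Y.Etale) (σ : W.left ⟶ X) (hσ : σ ≫ f = W.hom) :
    tmapLeft f W σ hσ ≫ (pullback.fst W.hom f : ((EtCoh.bc f).obj W).left ⟶ W.left) = 𝟙 _ :=
  pullback.lift_fst _ _ _

lemma tmapLeft_snd (W : Y.Etale) (σ : W.left ⟶ X) (hσ : σ ≫ f = W.hom) :
    tmapLeft f W σ hσ ≫ (pullback.snd W.hom f : ((EtCoh.bc f).obj W).left ⟶ X) = σ :=
  pullback.lift_snd _ _ _

instance (W : Y.Etale) (σ : W.left ⟶ X) (hσ : σ ≫ f = W.hom) : Mono (tmapLeft f W σ hσ) :=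
  (SplitMono.mk _ (tmapLeft_fst f W σ hσ)).mono

/-- The section of the base change defined by a lift, as a morphism of étale `X`-schemes. -/
noncomputable def tmap (W : Y.Etale) (σ : W.left ⟶ X) (hσ : σ ≫ f = W.hom) :
    secObj f W σ hσ ⟶ (EtCoh.bc f).obj W :=
  MorphismProperty.Over.homMk (tmapLeft f W σ hσ) (tmapLeft_snd f W σ hσ)

lemma tmap_left (W : Y.Etale) (σ : W.left ⟶ X) (hσ : σ ≫ f = W.hom) :
    (tmap f W σ hσ).left = tmapLeft f W σ hσ := rfl

lemma bc_map_fst {W T : Y.Etale} (h : T ⟶ W) :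
    ((EtCoh.bc f).map h).left ≫ (pullback.fst W.hom f : ((EtCoh.bc f).obj W).left ⟶ W.left) =
      (pullback.fst T.hom f : ((EtCoh.bc f).obj T).left ⟶ T.left) ≫ h.left :=
  (EtCoh.isPullback_bc_map f h).w

lemma bc_map_snd {W T : Y.Etale} (h : T ⟶ W) :
    ((EtCoh.bc f).map h).left ≫ (pullback.snd W.hom f : ((EtCoh.bc f).obj W).left ⟶ X) =
      (pullback.snd T.hom f : ((EtCoh.bc f).obj T).left ⟶ X) :=
  MorphismProperty.Over.w ((EtCoh.bc f).map h)

lemma tmapLeft_naturality {W T : Y.Etale} (h : T ⟶ W) (σ : W.left ⟶ X) (hσ : σ ≫ f = W.hom) :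
    tmapLeft f T (h.left ≫ σ) (comp_lift f h σ hσ) ≫ ((EtCoh.bc f).map h).left =
      h.left ≫ tmapLeft f W σ hσ := by
  apply pullback.hom_ext
  · refine (Category.assoc _ _ _).trans ?_
    refine (congrArg (fun m => tmapLeft f T (h.left ≫ σ) (comp_lift f h σ hσ) ≫ m)
      (bc_map_fst f h)).trans ?_
    refine (Category.assoc _ _ _).symm.trans ?_
    refine (congrArg (fun m => m ≫ h.left) (tmapLeft_fst f T _ _)).trans ?_
    refine (Category.id_comp _).trans ?_
    refine Eq.symm ((Category.assoc _ _ _).trans ?_)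
    refine (congrArg (fun m => h.left ≫ m) (tmapLeft_fst f W σ hσ)).trans ?_
    exact Category.comp_id _
  · refine (Category.assoc _ _ _).trans ?_
    refine (congrArg (fun m => tmapLeft f T (h.left ≫ σ) (comp_lift f h σ hσ) ≫ m)
      (bc_map_snd f h)).trans ?_
    refine (tmapLeft_snd f T _ _).trans ?_
    refine Eq.symm ((Category.assoc _ _ _).trans ?_)
    exact congrArg (fun m => h.left ≫ m) (tmapLeft_snd f W σ hσ)

lemma tmap_naturality {W T : Y.Etale} (h : T ⟶ W) (σ : W.left ⟶ X) (hσ : σ ≫ f = W.hom) :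
    tmap f T (h.left ≫ σ) (comp_lift f h σ hσ) ≫ (EtCoh.bc f).map h =
      secMap f h σ hσ ≫ tmap f W σ hσ := by
  apply MorphismProperty.Over.Hom.ext
  exact tmapLeft_naturality f h σ hσ

/-- The naturality square of the sections is cartesian. -/
lemma isPullback_tmapLeft {W T : Y.Etale} (h : T ⟶ W) (σ : W.left ⟶ X) (hσ : σ ≫ f = W.hom) :
    IsPullback (tmapLeft f T (h.left ≫ σ) (comp_lift f h σ hσ)) h.left
      ((EtCoh.bc f).map h).left (tmapLeft f W σ hσ) := by
  have hr : IsPullback (pullback.fst T.hom f : ((EtCoh.bc f).obj T).left ⟶ T.left)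
      ((EtCoh.bc f).map h).left h.left
      (pullback.fst W.hom f : ((EtCoh.bc f).obj W).left ⟶ W.left) :=
    (EtCoh.isPullback_bc_map f h).flip
  refine IsPullback.of_right ?_ (tmapLeft_naturality f h σ hσ) hr
  rw [tmapLeft_fst, tmapLeft_fst]
  exact IsPullback.of_horiz_isIso ⟨by simp⟩

lemma range_tmapLeft {W T : Y.Etale} (h : T ⟶ W) (σ : W.left ⟶ X) (hσ : σ ≫ f = W.hom) :
    Set.range (tmapLeft f T (h.left ≫ σ) (comp_lift f h σ hσ)) =
      ((EtCoh.bc f).map h).left ⁻¹' Set.range (tmapLeft f W σ hσ) := by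
  have := Scheme.image_preimage_eq_of_isPullback (isPullback_tmapLeft f h σ hσ).flip Set.univ
  simpa [Set.image_univ] using this

end Groth.Agent.H2.FEtPush
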