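import Mathlib
import Groth.Prelude.Def_EtBase
import Groth.Agent.Lib.Helper2.FEtPushA
import Groth.Agent.Lib.Helper1.EtSplit

set_option autoImplicit false
set_option linter.style.haveILetI false
set_option linter.unusedVariables false
set_option linter.unusedSectionVars false
universe u
open CategoryTheory CategoryTheory.Limits AlgebraicGeometry MorphismProperty TopologicalSpace Opposite
open TensorProduct

namespace Groth.Agent.H2.FEtPush

/-- Abstract transfer: sections of the base change obtained from a coproduct decomposition. -/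
theorem split_of_sigma_iso {X Y : Scheme.{u}} (f : X ⟶ Y) [Etale f] (V : Y.Etale) {n : ℕ}
    {P₀ : Scheme.{u}} (p : P₀ ⟶ V.left) (q : P₀ ⟶ X) (hpb : IsPullback p q V.hom f)
    (e : (∐ fun _ : Fin n => V.left) ≅ P₀)
    (he : ∀ j, Sigma.ι (fun _ : Fin n => V.left) j ≫ e.hom ≫ p = 𝟙 _) :
    ∃ (σ : Fin n → (V.left ⟶ X)) (hσ : ∀ k, σ k ≫ f = V.hom),
      (∀ z : ((EtCoh.bc f).obj V).left, ∃ k w, tmapLeft f V (σ k) (hσ k) w = z) ∧
      (∀ i j, i ≠ j → Disjoint (Set.range (tmapLeft f V (σ i) (hσ i)))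
        (Set.range (tmapLeft f V (σ j) (hσ j)))) := by
  let s : ∀ j : Fin n, V.left ⟶ P₀ := fun j => Sigma.ι (fun _ : Fin n => V.left) j ≫ e.hom
  have hs : ∀ j, s j ≫ p = 𝟙 _ := fun j => by
    change (Sigma.ι (fun _ : Fin n => V.left) j ≫ e.hom) ≫ p = 𝟙 _
    rw [Category.assoc]; exact he j
  let σ : Fin n → (V.left ⟶ X) := fun j => s j ≫ q
  have hσ : ∀ k, σ k ≫ f = V.hom := fun k => by
    change (s k ≫ q) ≫ f = V.hom
    rw [Category.assoc, ← hpb.w, ← Category.assoc, hs, Category.id_comp]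
  let θ : P₀ ≅ pullback V.hom f := hpb.isoPullback
  have hθ : ∀ j, s j ≫ θ.hom = tmapLeft f V (σ j) (hσ j) := by
    intro j
    apply pullback.hom_ext
    · rw [Category.assoc, IsPullback.isoPullback_hom_fst, hs]
      exact (tmapLeft_fst f V (σ j) (hσ j)).symm
    · rw [Category.assoc, IsPullback.isoPullback_hom_snd]
      exact (tmapLeft_snd f V (σ j) (hσ j)).symm
  refine ⟨σ, hσ, ?_, ?_⟩
  · intro z
    let z' : ↥(∐ fun _ : Fin n => V.left) := e.inv (θ.inv z)
    have hz' : ∃ (k : Fin n) (w : V.left), (Sigma.ι (fun _ : Fin n => V.left) k) w = z' := by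
      obtain ⟨w, hw⟩ := (sigmaOpenCover (fun _ : Fin n => V.left)).covers z'
      exact ⟨_, w, hw⟩
    obtain ⟨k, w, hw⟩ := hz'
    refine ⟨k, w, ?_⟩
    rw [← hθ]
    change θ.hom (e.hom ((Sigma.ι (fun _ : Fin n => V.left) k) w)) = z
    rw [hw]
    change θ.hom (e.hom (e.inv (θ.inv z))) = z
    have h1 : e.hom (e.inv (θ.inv z)) = θ.inv z := by
      rw [← Scheme.Hom.comp_apply, e.inv_hom_id]; rfl
    have h2 : θ.hom (θ.inv z) = z := by
      rw [← Scheme.Hom.comp_apply, θ.inv_hom_id]; rfl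
    rw [h1, h2]
  · intro i j hij
    rw [Set.disjoint_left]
    rintro z ⟨w1, hw1⟩ ⟨w2, hw2⟩
    rw [← hθ] at hw1 hw2
    have hinj : ∀ a b : ↥(∐ fun _ : Fin n => V.left),
        θ.hom (e.hom a) = θ.hom (e.hom b) → a = b := by
      intro a b hab
      have h1 : ∀ c : ↥(∐ fun _ : Fin n => V.left), e.inv (θ.inv (θ.hom (e.hom c))) = c := by
        intro c
        have h2 : θ.inv (θ.hom (e.hom c)) = e.hom c := by
          rw [← Scheme.Hom.comp_apply, θ.hom_inv_id]; rfl
        rw [h2, ← Scheme.Hom.comp_apply, e.hom_inv_id]; rfl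
      rw [← h1 a, ← h1 b, hab]
    have h1 : (Sigma.ι (fun _ : Fin n => V.left) i) w1 =
        (Sigma.ι (fun _ : Fin n => V.left) j) w2 := by
      apply hinj
      exact hw1.trans hw2.symm
    have h2 := (sigmaι_eq_iff (fun _ : Fin n => V.left) i j w1 w2).mp h1
    exact hij (congrArg Sigma.fst h2)

/-- **Local splitting of finite étale morphisms**: every point of the base has an étale
neighbourhood over which the cover is a finite disjoint union of sections. -/
theorem exists_split {X Y : Scheme.{u}} (f : X ⟶ Y) [IsFinite f] [Etale f] (y : Y) :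
    ∃ (V : Y.Etale) (v : V.left) (n : ℕ) (σ : Fin n → (V.left ⟶ X))
      (hσ : ∀ k, σ k ≫ f = V.hom), V.hom v = y ∧
      (∀ z : ((EtCoh.bc f).obj V).left, ∃ k w, tmapLeft f V (σ k) (hσ k) w = z) ∧
      (∀ i j, i ≠ j → Disjoint (Set.range (tmapLeft f V (σ i) (hσ i)))
        (Set.range (tmapLeft f V (σ j) (hσ j)))) := by
  obtain ⟨U, hU, hyU, -⟩ := exists_isAffineOpen_mem_and_subset (x := y)
    (U := (⊤ : Y.Opens)) trivial
  have hU' : IsAffineOpen (f ⁻¹ᵁ U) := hU.preimage f
  let R : CommRingCat.{u} := Γ(Y, U)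
  let B : CommRingCat.{u} := Γ(X, f ⁻¹ᵁ U)
  let φ : R ⟶ B := f.app U
  letI : Algebra R B := φ.hom.toAlgebra
  have hfin : φ.hom.Finite := f.finite_app U hU
  have het : φ.hom.Etale := by
    have := f.etale_appLE hU hU' le_rfl
    rwa [← Scheme.Hom.app_eq_appLE] at this
  haveI : Algebra.Etale R B := het
  haveI : Module.Finite R B := hfin
  let P : PrimeSpectrum R := hU.primeIdealOf ⟨y, hyU⟩
  obtain ⟨T, _, _, _, q, _, hq, hsplit⟩ := Groth.Agent.H1.EtSplit.exists_etale_split R B P.asIdeal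
  haveI := hsplit
  obtain ⟨n, e, he⟩ := Groth.Agent.H1.EtSplit.exists_sigma_iso_pullback R B T
  let ψ : R ⟶ CommRingCat.of T := CommRingCat.ofHom (algebraMap R T)
  haveI : Etale (Spec.map ψ) :=
    (HasRingHomProperty.Spec_iff (P := @Etale)).2 (RingHom.etale_algebraMap.2 inferInstance)
  let V : Y.Etale := MorphismProperty.Over.mk ⊤ (Spec.map ψ ≫ hU.fromSpec) inferInstance
  have hsq : hU'.fromSpec ≫ f = Spec.map φ ≫ hU.fromSpec := by
    have := IsAffineOpen.SpecMap_appLE_fromSpec f hU hU' le_rfl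
    rw [← Scheme.Hom.app_eq_appLE] at this
    exact this.symm
  have h2 : IsPullback (Spec.map φ) hU'.fromSpec hU.fromSpec f :=
    IsOpenImmersion.isPullback (Spec.map φ) hU'.fromSpec hU.fromSpec f hsq (by
      rw [hU.opensRange_fromSpec, hU'.opensRange_fromSpec])
  have h1 : IsPullback (pullback.snd (Spec.map φ) (Spec.map ψ))
      (pullback.fst (Spec.map φ) (Spec.map ψ)) (Spec.map ψ) (Spec.map φ) :=
    (IsPullback.of_hasPullback (Spec.map φ) (Spec.map ψ)).flip
  have hpb : IsPullback (pullback.snd (Spec.map φ) (Spec.map ψ))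
      (pullback.fst (Spec.map φ) (Spec.map ψ) ≫ hU'.fromSpec) V.hom f := h1.paste_vert h2
  obtain ⟨σ, hσ, hcov, hdisj⟩ := split_of_sigma_iso f V _ _ hpb e he
  let v : V.left := (⟨q, inferInstance⟩ : PrimeSpectrum T)
  refine ⟨V, v, n, σ, hσ, ?_, hcov, hdisj⟩
  change hU.fromSpec ((Spec.map ψ) v) = y
  have hv : (Spec.map ψ) v = P := by
    apply PrimeSpectrum.ext
    exact hq
  rw [hv]
  exact hU.fromSpec_primeIdealOf ⟨y, hyU⟩

end Groth.Agent.H2.FEtPush
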