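import Mathlib
import Groth.Prelude.Def_EtBase
import Groth.Prelude.Def_EtShriek2
import Groth.Agent.Lib.Helper2.ExtFLCB
import Groth.Agent.Lib.Helper2.EtStratI
import Groth.Agent.Lib.Helper2.FEtPushE
import Groth.Agent.Lib.Helper2.GoodSetB
import Groth.Agent.Lib.Helper7.ES5

set_option autoImplicit false
set_option linter.style.haveILetI false
set_option linter.unusedSectionVars false
set_option linter.unusedVariables false
universe u

open CategoryTheory CategoryTheory.Limits Opposite AlgebraicGeometry

namespace Groth.Agent.H2.ExtFLC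

open Groth.Agent.H7 Groth.Agent.H2.Strata Groth.Agent.H2.FEtPush

set_option backward.isDefEq.respectTransparency.types false in
lemma isFLC_restr_extZero_of_split {Z T : Scheme.{u}} (f : Z ⟶ T) [IsFinite f]
    [AlgebraicGeometry.Etale f] (G : EtCoh.Ab Z) (hG : EtCoh.IsFiniteLocallyConstant G)
    (V : T.Etale) (n : ℕ) (σ : Fin n → (V.left ⟶ Z)) (hσ : ∀ k, σ k ≫ f = V.hom)
    (hcov : ∀ z : ((EtCoh.bc f).obj V).left, ∃ k w, tmapLeft f V (σ k) (hσ k) w = z)
    (hdisj : ∀ i j, i ≠ j → Disjoint (Set.range (tmapLeft f V (σ i) (hσ i)))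
      (Set.range (tmapLeft f V (σ j) (hσ j))))
    (p : V.left ⟶ T) (hp : p = V.hom) [AlgebraicGeometry.Etale p] :
    EtCoh.IsFiniteLocallyConstant ((EtShriek.restrAlong p).obj ((EtShriek.extZero f).obj G)) := by
  have hσ' : ∀ k, σ k ≫ f = p := fun k => by rw [hp]; exact hσ k
  obtain ⟨e⟩ := ES.S649_main f p (pullback.fst p f) (pullback.snd p f)
    (IsPullback.of_hasPullback p f)
  have hK : EtCoh.IsFiniteLocallyConstant ((EtCoh.pull (pullback.snd p f)).obj G) :=
    (Groth.Agent.H2.PullOver.S6642_main _).2.1 _ hG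
  have key : EtCoh.IsFiniteLocallyConstant ((EtShriek.extZero (pullback.fst p f)).obj
      ((EtCoh.pull (pullback.snd p f)).obj G)) := by
    refine isFLC_extZero_of_split n (pullback.fst p f)
      (fun k => EtStrat.graph f p (σ k) (hσ' k)) (fun k => EtStrat.graph_fst f p _ _)
      (fun k => EtStrat.isOpenImmersion_graph f p (σ k) (hσ' k))
      (fun k => EtStrat.isClosedImmersion_graph f p (σ k) (hσ' k))
      ?_ ?_ _ hK
    · subst hp
      exact fun i k hik => hdisj i k hik
    · subst hp
      exact fun z => hcov z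
  have h2 : EtCoh.IsFiniteLocallyConstant ((EtCoh.pull p).obj
      ((EtShriek.extZero f).obj G)) := isFiniteLocallyConstant_of_iso (e.app G) key
  exact isFiniteLocallyConstant_of_iso ((ES.pullIsoRestr p).app _) h2

/-- **Extension by zero along a finite étale morphism** preserves finite local constancy. -/
theorem isFLC_extZero_of_isFinite {Z T : Scheme.{u}} (f : Z ⟶ T) [IsFinite f]
    [AlgebraicGeometry.Etale f] (G : EtCoh.Ab Z) (hG : EtCoh.IsFiniteLocallyConstant G) :
    EtCoh.IsFiniteLocallyConstant ((EtShriek.extZero f).obj G) := by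
  choose V v n σ hσ hv hcov hdisj using exists_split f
  obtain ⟨w, hw⟩ : ∃ w : ∀ t : T, (V t).left ⟶ T, ∀ t, w t = (V t).hom := ⟨_, fun _ => rfl⟩
  haveI : ∀ t, AlgebraicGeometry.Etale (w t) := fun t => by rw [hw]; exact (V t).prop
  refine FLCLocEt.isFLC_of_etaleCover _ (fun t : T => (V t).left) w
    (fun t => ⟨t, v t, by rw [hw]; exact hv t⟩) (fun t => ?_)
  exact isFLC_restr_extZero_of_split f G hG (V t) (n t) (σ t) (hσ t) (hcov t) (hdisj t) (w t) (hw t)

/-- Finite locally constant sheaves are constructible. -/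
theorem isConstructible_of_isFLC {T : Scheme.{u}} (H : EtCoh.Ab T)
    (hH : EtCoh.IsFiniteLocallyConstant H) : EtPBC.IsConstructible H := by
  intro U hU
  refine ⟨1, fun _ => U.toScheme, fun _ => U.ι, fun _ => inferInstance, fun _ => ?_, ?_, ?_,
    fun _ _ => (Groth.Agent.H2.PullOver.S6642_main U.ι).2.1 _ hH⟩
  · have : (Subtype.val : ↥(U : Set T) → T) ⁻¹' Set.range U.ι = Set.univ := by
      rw [Scheme.Opens.range_ι]
      ext x
      simp only [Set.mem_preimage, SetLike.mem_coe, Set.mem_univ, iff_true]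
      exact x.2
    rw [this]
    exact Topology.IsConstructible.univ
  · intro i k hik
    exact absurd (Subsingleton.elim i k) hik
  · rw [Set.iUnion_const, Scheme.Opens.range_ι]

/-- **S13505**: extension by zero of a finite locally constant sheaf along an étale morphism of
qcqs schemes is constructible. -/
theorem S13505_main {U X : Scheme.{u}} [CompactSpace X] [QuasiSeparatedSpace X] [CompactSpace U]
    [QuasiSeparatedSpace U] (f : U ⟶ X) [AlgebraicGeometry.Etale f] [EtShriek.JCont f]
    (F : EtCoh.Ab U) (hF : EtCoh.IsFiniteLocallyConstant F) :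
    EtPBC.IsConstructible ((EtShriek.extZero f).obj F) := by
  obtain ⟨n, T, g, himm, hc, hd, hcov, hfin⟩ := EtStrat.S0169_main f
  haveI : ∀ i : ULift.{u} (Fin n), IsImmersion (g i.down) := fun i => himm i.down
  refine Groth.Agent.H2.Strata.S0130_main X _ (fun i : ULift.{u} (Fin n) => T i.down)
    (fun i => g i.down) (fun i => hc i.down) ?_ (fun i => ?_)
  · rw [Set.eq_univ_iff_forall]
    intro x
    have hx : x ∈ ⋃ i, Set.range (g i) := by rw [hcov]; trivial
    obtain ⟨i, hi⟩ := Set.mem_iUnion.mp hx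
    exact Set.mem_iUnion.mpr ⟨⟨i⟩, hi⟩
  · haveI := hfin i.down
    obtain ⟨e⟩ := ES.S649_main f (g i.down) (pullback.snd f (g i.down))
      (pullback.fst f (g i.down)) (IsPullback.of_hasPullback f (g i.down)).flip
    have hK : EtCoh.IsFiniteLocallyConstant ((EtCoh.pull (pullback.fst f (g i.down))).obj F) :=
      (Groth.Agent.H2.PullOver.S6642_main _).2.1 _ hF
    have key := isFLC_extZero_of_isFinite (pullback.snd f (g i.down)) _ hK
    exact isConstructible_of_isFLC _ (isFiniteLocallyConstant_of_iso (e.app F) key)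

end Groth.Agent.H2.ExtFLC
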