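import Mathlib
import Groth.Agent.Lib.Helper2.GoodSetB

set_option autoImplicit false
set_option linter.style.haveILetI false
set_option linter.unusedSectionVars false
universe u

open CategoryTheory CategoryTheory.Limits Opposite AlgebraicGeometry TopologicalSpace Topology

namespace Groth.Agent.H2.ConsClos

open Groth.Agent.H2.Strata

/-- In a Noetherian space every locally closed set is constructible. -/
lemma isConstructible_of_isLocallyClosed {Y : Type*} [TopologicalSpace Y] [NoetherianSpace Y]
    {s : Set Y} (hs : IsLocallyClosed s) : IsConstructible s := by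
  obtain ⟨A, B, hA, hB, rfl⟩ := hs
  exact ((NoetherianSpace.isCompact A).isConstructible hA).inter
    ((NoetherianSpace.isCompact Bᶜ).isConstructible hB.isOpen_compl).of_compl

variable {Y : Scheme.{u}}

/-- **Noetherian induction**: on a scheme with Noetherian underlying space, if every point `y` has a
nonempty open part of its closure which is the range of an immersion satisfying `Q`, then the whole
space is a finite disjoint union of ranges of immersions satisfying `Q`. -/
theorem goodSet_closeds_of_local [NoetherianSpace Y] (Q : ∀ (T : Scheme.{u}), (T ⟶ Y) → Prop)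
    (hQ : ∀ (T T' : Scheme.{u}) (g : T ⟶ Y) (g' : T' ⟶ Y) (p : T' ⟶ T),
      g' = p ≫ g → Q T g → Q T' g')
    (h : ∀ y : Y, ∃ (V : Y.Opens) (T : Scheme.{u}) (g : T ⟶ Y), IsImmersion g ∧ y ∈ V ∧
      Set.range g = (V : Set Y) ∩ closure {y} ∧ Q T g) :
    ∀ C : Closeds Y, GoodSet Q (C : Set Y) := by
  intro C
  induction C using WellFoundedLT.induction with
  | ind C ih =>
    by_cases hne : (C : Set Y) = ∅
    · rw [hne]; exact GoodSet.empty
    by_cases hirr : IsPreirreducible (C : Set Y)
    · -- irreducible case
      have hC : IsIrreducible (C : Set Y) := ⟨Set.nonempty_iff_ne_empty.2 hne, hirr⟩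
      obtain ⟨x, hx⟩ := QuasiSober.sober hC C.isClosed
      obtain ⟨V, T, g, hg, hxV, hrange, hQg⟩ := h x
      have hcl : closure ({x} : Set Y) = (C : Set Y) := hx
      rw [hcl] at hrange
      let C' : Closeds Y := ⟨(C : Set Y) \ (V : Set Y), C.isClosed.sdiff V.isOpen⟩
      have hxC : x ∈ (C : Set Y) := hcl ▸ subset_closure (Set.mem_singleton x)
      have hlt : C' < C := by
        refine lt_of_le_of_ne ?_ ?_
        · intro z hz; exact hz.1
        · intro he
          have : x ∈ (C' : Set Y) := by rw [he]; exact hxC
          exact this.2 hxV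
      have h1 : GoodSet Q ((C : Set Y) \ (V : Set Y)) := ih C' hlt
      have h2 : GoodSet Q ((V : Set Y) ∩ (C : Set Y)) := by
        refine ⟨1, fun _ => T, fun _ => g, fun _ => hg, fun _ => ?_, ?_, ?_, fun _ => hQg⟩
        · exact isConstructible_of_isLocallyClosed g.isLocallyClosed_range
        · intro i j hij
          exact absurd (Subsingleton.elim i j) hij
        · rw [← hrange]
          exact Set.iUnion_const _
      refine (h1.union_disjoint h2 ?_).congr ?_
      · rw [Set.disjoint_left]
        rintro z ⟨-, hz1⟩ ⟨hz2, -⟩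
        exact hz1 hz2
      · ext z
        simp only [Set.mem_union, Set.mem_sdiff, Set.mem_inter_iff]
        constructor
        · rintro (⟨hz, -⟩ | ⟨-, hz⟩) <;> exact hz
        · intro hz
          by_cases hzV : z ∈ (V : Set Y)
          · exact Or.inr ⟨hzV, hz⟩
          · exact Or.inl ⟨hz, hzV⟩
    · -- reducible case
      rw [isPreirreducible_iff_isClosed_union_isClosed] at hirr
      push_neg at hirr
      obtain ⟨z₁, z₂, hz₁, hz₂, hcov, hn1, hn2⟩ := hirr
      let C₁ : Closeds Y := ⟨(C : Set Y) ∩ z₁, C.isClosed.inter hz₁⟩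
      let C₂ : Closeds Y := ⟨(C : Set Y) ∩ z₂, C.isClosed.inter hz₂⟩
      have hlt1 : C₁ < C := by
        refine lt_of_le_of_ne (fun z hz => hz.1) ?_
        intro he
        apply hn1
        intro z hz
        have : z ∈ (C₁ : Set Y) := by rw [he]; exact hz
        exact this.2
      have hlt2 : C₂ < C := by
        refine lt_of_le_of_ne (fun z hz => hz.1) ?_
        intro he
        apply hn2
        intro z hz
        have : z ∈ (C₂ : Set Y) := by rw [he]; exact hz
        exact this.2
      have h1 : GoodSet Q ((C : Set Y) ∩ z₁) := ih C₁ hlt1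
      have h2 : GoodSet Q ((C : Set Y) ∩ z₂) := ih C₂ hlt2
      have hnice : Nice ((C : Set Y) ∩ z₁) := by
        refine ⟨isConstructible_of_isLocallyClosed (C.isClosed.inter hz₁).isLocallyClosed, ⊤,
          ?_, Set.subset_univ _, ?_⟩
        · exact IsConstructible.univ
        · change IsOpen (Set.univ \ ((C : Set Y) ∩ z₁))
          rw [← Set.compl_eq_univ_diff]
          exact (C.isClosed.inter hz₁).isOpen_compl
      refine ((h2.sdiff hQ hnice).union_disjoint h1 ?_).congr ?_
      · exact Set.disjoint_sdiff_left
      · ext z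
        simp only [Set.mem_union, Set.mem_sdiff, Set.mem_inter_iff]
        constructor
        · rintro (⟨⟨hz, -⟩, -⟩ | ⟨hz, -⟩) <;> exact hz
        · intro hz
          by_cases hz1 : z ∈ z₁
          · exact Or.inr ⟨hz, hz1⟩
          · rcases hcov hz with h' | h'
            · exact absurd h' hz1
            · exact Or.inl ⟨⟨hz, h'⟩, fun hh => hz1 hh.2⟩

end Groth.Agent.H2.ConsClos
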