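import Mathlib
import Groth.Agent.Lib.Helper2.ConsClosA

set_option autoImplicit false
set_option linter.style.haveILetI false
set_option linter.unusedSectionVars false
universe u

open CategoryTheory CategoryTheory.Limits Opposite AlgebraicGeometry TopologicalSpace Topology

namespace Groth.Agent.H2.ConsClos

open Groth.Agent.H2.Strata

theorem S8527_mp {X : Scheme.{u}} (F : EtCoh.Ab X) (hF : EtPBC.IsConstructible F) (x : X) :
    ∃ (V : X.Opens) (T : Scheme.{u}) (g : T ⟶ X), IsImmersion g ∧ x ∈ V ∧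
      Set.range g.base = (V : Set X) ∩ closure {x} ∧
      EtCoh.IsFiniteLocallyConstant ((EtCoh.pull g).obj F) := by
  obtain ⟨_, ⟨U, hU : IsAffineOpen U, rfl⟩, hxU, -⟩ :=
    X.isBasis_affineOpens.exists_subset_of_mem_open (Set.mem_univ x) isOpen_univ
  obtain ⟨n, T, g, hgi, hgc, hgd, hgu, hgQ⟩ := hF U hU
  have hx : x ∈ ⋃ i, Set.range (g i) := hgu ▸ hxU
  obtain ⟨i, hxi⟩ := Set.mem_iUnion.1 hx
  haveI := hgi i
  obtain ⟨A, B, hA, hB, hAB⟩ := (g i).isLocallyClosed_range
  obtain ⟨E, e, he, hre⟩ := exists_immersion_range (⊤ : X.Opens) ⟨closure {x}, isClosed_closure⟩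
  have hxAB : x ∈ A ∩ B := hAB ▸ hxi
  have hclB : closure ({x} : Set X) ⊆ B := hB.closure_subset_iff.2 (by simpa using hxAB.2)
  refine ⟨⟨A, hA⟩, pullback (g i) e, pullback.fst (g i) e ≫ g i, inferInstance, hxAB.1, ?_, ?_⟩
  · change Set.range (pullback.fst (g i) e ≫ g i) = _
    rw [Groth.Agent.H2.TensCons.range_fst_comp, hre]
    change Set.range (g i) ∩ (Set.univ ∩ closure {x}) = A ∩ closure {x}
    rw [Set.univ_inter]
    have hAB' : Set.range (g i) = A ∩ B := hAB
    rw [hAB', Set.inter_assoc, Set.inter_eq_right.2 hclB]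
  · exact isFLC_pull_of_comp'' (pullback.fst (g i) e) (g i) _ rfl F (hgQ i)

theorem S8527_mpr {X : Scheme.{u}} [IsLocallyNoetherian X] (F : EtCoh.Ab X)
    (h : ∀ x : X, ∃ (V : X.Opens) (T : Scheme.{u}) (g : T ⟶ X), IsImmersion g ∧ x ∈ V ∧
        Set.range g.base = (V : Set X) ∩ closure {x} ∧
        EtCoh.IsFiniteLocallyConstant ((EtCoh.pull g).obj F)) :
    EtPBC.IsConstructible F := by
  intro U hU
  haveI : IsNoetherianRing Γ(X, U) := IsLocallyNoetherian.component_noetherian ⟨U, hU⟩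
  haveI : NoetherianSpace U := noetherianSpace_of_isAffineOpen U hU
  let Q' : ∀ (T : Scheme.{u}), (T ⟶ (U : Scheme.{u})) → Prop := fun T g =>
    ∀ [EtCoh.BCCont g],
      EtCoh.IsFiniteLocallyConstant ((EtCoh.pull g).obj ((EtCoh.pull U.ι).obj F))
  let Qf : ∀ (T : Scheme.{u}), (T ⟶ X) → Prop := fun T g =>
    ∀ [EtCoh.BCCont g], EtCoh.IsFiniteLocallyConstant ((EtCoh.pull g).obj F)
  have hQ' : ∀ (T T' : Scheme.{u}) (g : T ⟶ (U : Scheme.{u})) (g' : T' ⟶ (U : Scheme.{u}))
      (p : T' ⟶ T), g' = p ≫ g → Q' T g → Q' T' g' :=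
    fun T T' g g' p w hg _ => isFLC_pull_of_comp'' p g g' w _ hg
  have hloc : ∀ y : (U : Scheme.{u}), ∃ (V : (U : Scheme.{u}).Opens) (T : Scheme.{u})
      (g : T ⟶ (U : Scheme.{u})), IsImmersion g ∧ y ∈ V ∧
      Set.range g = (V : Set (U : Scheme.{u})) ∩ closure {y} ∧ Q' T g := by
    intro y
    obtain ⟨V, T, g, hg, hxV, hr, hflc⟩ := h (U.ι y)
    refine ⟨U.ι ⁻¹ᵁ V, pullback g U.ι, pullback.snd g U.ι, inferInstance, hxV, ?_, ?_⟩
    · rw [Scheme.Pullback.range_snd]
      have hr' : Set.range g = (V : Set X) ∩ closure {U.ι y} := hr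
      rw [hr', Set.preimage_inter]
      congr 1
      rw [U.ι.isEmbedding.isInducing.closure_eq_preimage_closure_image, Set.image_singleton]
    · intro _
      exact isFLC_pull_of_comp U.ι g (pullback.snd g U.ι) (pullback.fst g U.ι)
        pullback.condition.symm F hflc
  have hgood := goodSet_closeds_of_local Q' hQ' hloc ⊤
  have hstr : HasStrata Q' (Set.univ : Set (U : Scheme.{u})) :=
    GoodSet.hasStrata_univ (by simpa using hgood)
  refine hasStrata_of_isOpenImmersion U.ι U (by rw [Scheme.Opens.range_ι]) Q' Qf ?_ ?_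
  · intro T g hg _
    exact isFiniteLocallyConstant_of_iso ((pullCompIsoAb g U.ι).app F).symm hg
  · have he : ((U.ι ⁻¹ᵁ U : (U : Scheme.{u}).Opens) : Set (U : Scheme.{u})) = Set.univ := by
      ext z
      simp
    rw [he]
    exact hstr

end Groth.Agent.H2.ConsClos
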