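import Mathlib
import Groth.Agent.Lib.Helper2.LCModelG
import Groth.Agent.Lib.Helper2.FinStalkD

set_option autoImplicit false
set_option linter.style.haveILetI false
set_option linter.unusedSectionVars false
universe u
open CategoryTheory CategoryTheory.Limits Opposite TopologicalSpace AlgebraicGeometry

namespace Groth.Agent.H2.ConstSub

open Groth.Agent.H2.LCModel Groth.Agent.H2.FinStalk

variable {X : Scheme.{u}}

/-- Monomorphisms of abelian étale sheaves are injective on sections. -/
lemma injective_of_mono_ab {F G : EtCoh.Ab X} (a : F ⟶ G) [Mono a] (V : X.Etale) :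
    Function.Injective (a.hom.app (op V)) := by
  haveI : Mono a.hom := inferInstance
  haveI : Mono (a.hom.app (op V)) := (NatTrans.mono_iff_mono_app a.hom).1 inferInstance (op V)
  exact (AddCommGrpCat.mono_iff_injective _).1 inferInstance

/-- A morphism of abelian étale sheaves which is bijective on sections is an isomorphism. -/
lemma isIso_of_bijective_ab {F G : EtCoh.Ab X} (a : F ⟶ G)
    (h : ∀ V : X.Etale, Function.Bijective (a.hom.app (op V))) : IsIso a := by
  haveI : ∀ V : X.Etaleᵒᵖ, IsIso (a.hom.app V) := fun V =>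
    (ConcreteCategory.isIso_iff_bijective _).2 (h V.unop)
  haveI : IsIso a.hom := NatIso.isIso_of_isIso_app _
  haveI : IsIso ((sheafToPresheaf _ _).map a) := ‹IsIso a.hom›
  exact isIso_of_reflects_iso a (sheafToPresheaf _ _)

variable {Ω : Type u} [Field Ω] [IsSepClosed Ω]

set_option backward.isDefEq.respectTransparency.types false in
theorem main_ab [IrreducibleSpace ↥X] (ξ : Spec (CommRingCat.of Ω) ⟶ X)
    (hξ : ξ.base default = genericPoint ↥X)
    (MA' MA : AddCommGrpCat.{u + 1}) (ι : MA' ⟶ MA) (G : EtCoh.Ab X)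
    (a : (constantSheaf X.smallEtaleTopology AddCommGrpCat.{u + 1}).obj MA' ⟶ G)
    (b : G ⟶ (constantSheaf X.smallEtaleTopology AddCommGrpCat.{u + 1}).obj MA) [Mono a] [Mono b]
    (hab : a ≫ b = (constantSheaf X.smallEtaleTopology AddCommGrpCat.{u + 1}).map ι)
    (hst : IsIso ((EtCoh.stalk ξ).map a)) : IsIso a := by
  classical
  let R := etReal X
  let D' := lcAb R MA'
  let D := lcAb R MA
  have hab_app : ∀ (V : X.Etale) (t : ((constantSheaf X.smallEtaleTopology
      AddCommGrpCat.{u + 1}).obj MA').obj.obj (op V)),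
      b.hom.app (op V) (a.hom.app (op V) t) =
        ((constantSheaf X.smallEtaleTopology AddCommGrpCat.{u + 1}).map ι).hom.app (op V) t := by
    intro V t
    rw [← hab]
    rfl
  -- key claim: values of sections of `G` lie in the image of `ι`
  have claim : ∀ (V : X.Etale) (s : G.obj.obj (op V)) (v : ↥V.left),
      D.fn (b.hom.app (op V) s) v ∈ Set.range ι := by
    intro V s v
    set g := D.fn (b.hom.app (op V) s) with hg
    set c := g v with hc
    let Vo : V.left.Opens := ⟨g ⁻¹' {c}, g.isLocallyConstant.isOpen_fiber c⟩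
    let V' := openObj V Vo
    let i : V' ⟶ V := openIncl V Vo
    let s' := G.obj.map i.op s
    have hs' : ∀ y : ↥V'.left, D.fn (b.hom.app (op V') s') y = c := by
      intro y
      have h1 : b.hom.app (op V') s' =
          ((constantSheaf X.smallEtaleTopology AddCommGrpCat.{u + 1}).obj MA).obj.map i.op
            (b.hom.app (op V) s) := NatTrans.naturality_apply b.hom i.op s
      rw [h1, D.fn_map i]
      exact y.2
    obtain ⟨pt⟩ := exists_geomPt_of_nonempty ξ hξ V' ⟨⟨v, rfl⟩⟩
    let Φ := Scheme.pointSmallEtale ξ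
    let γ := Φ.toPresheafFiber V' pt G.obj s'
    have hsurj : Function.Surjective ((EtCoh.stalk ξ).map a) :=
      ((ConcreteCategory.isIso_iff_bijective _).1 hst).2
    obtain ⟨τ, hτ⟩ := hsurj γ
    obtain ⟨W, q, φ, hφ, t', ht'⟩ := exists_rep_refine Φ
      ((constantSheaf X.smallEtaleTopology AddCommGrpCat.{u + 1}).obj MA').obj V' pt τ
    have e1 : Φ.toPresheafFiber W q G.obj (a.hom.app (op W) t') = γ := by
      have := Φ.toPresheafFiber_naturality_apply a.hom W q t'
      rw [← hτ, ← ht']
      exact this.symm
    have e2 : Φ.toPresheafFiber W q G.obj (G.obj.map φ.op s') = γ := by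
      have := Φ.toPresheafFiber_w_apply φ q G.obj s'
      rw [this, hφ]
    obtain ⟨Y, f, y, hy, hf⟩ := (Φ.toPresheafFiber_eq_iff' (P := G.obj) W q _ _).1 (e1.trans e2.symm)
    -- a point of `Y`
    let z : ↥Y.left := y.left (default : ↥(Spec (CommRingCat.of Ω)))
    have h3 := congrArg (fun r => D.fn (b.hom.app (op Y) r) z) hf
    simp only at h3
    have h4 : b.hom.app (op Y) (G.obj.map f.op (a.hom.app (op W) t')) =
        ((constantSheaf X.smallEtaleTopology AddCommGrpCat.{u + 1}).map ι).hom.app (op Y)
          (((constantSheaf X.smallEtaleTopology AddCommGrpCat.{u + 1}).obj MA').obj.map f.op t') := by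
      have := NatTrans.naturality_apply a.hom f.op t'
      rw [← this, hab_app]
    have h5 : b.hom.app (op Y) (G.obj.map f.op (G.obj.map φ.op s')) =
        ((constantSheaf X.smallEtaleTopology AddCommGrpCat.{u + 1}).obj MA).obj.map (f ≫ φ).op
          (b.hom.app (op V') s') := by
      have := NatTrans.naturality_apply b.hom (f ≫ φ).op s'
      rw [← this]
      congr 1
      rw [op_comp, G.obj.map_comp]
      rfl
    rw [h4, h5, lcAb_fn_naturality, D.fn_map, hs'] at h3
    exact ⟨_, h3⟩
  refine isIso_of_bijective_ab a (fun V => ⟨injective_of_mono_ab a V, ?_⟩)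
  intro s
  let g := D.fn (b.hom.app (op V) s)
  let F : MA → MA' := fun x => if h : x ∈ Set.range ι then h.choose else 0
  have hF : ∀ x ∈ Set.range ι, ι (F x) = x := by
    intro x hx
    simp only [F, dif_pos hx]
    exact hx.choose_spec
  obtain ⟨t, ht⟩ := (D'.fn_bijective V).2 (g.map F)
  refine ⟨t, ?_⟩
  apply injective_of_mono_ab b V
  apply (D.fn_bijective V).1
  apply LocallyConstant.ext
  intro v
  rw [hab_app, lcAb_fn_naturality, ht]
  exact hF _ (claim V s v)

end Groth.Agent.H2.ConstSub
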