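import Mathlib

set_option autoImplicit false
set_option linter.style.haveILetI false
set_option linter.unusedSectionVars false
universe u

open CategoryTheory CategoryTheory.Limits Opposite

namespace Groth.Agent.H2.SubFLC

variable {C : Type (u + 1)} [Category.{u} C] {J : GrothendieckTopology C}

/-- **Subsheaves are local**: a section of `F` which locally comes from the subsheaf `H` comes
from `H`. -/
theorem exists_preimage_of_locally {H F : Sheaf J AddCommGrpCat.{u + 1}} (ι : H ⟶ F)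
    (hι : ∀ V : C, Function.Injective (ι.hom.app (op V)))
    (W : C) (t : F.obj.obj (op W)) (S : Sieve W) (hS : S ∈ J W)
    (hloc : ∀ {Y : C} (f : Y ⟶ W), S f →
      ∃ h : H.obj.obj (op Y), ι.hom.app (op Y) h = F.obj.map f.op t) :
    ∃ h : H.obj.obj (op W), ι.hom.app (op W) h = t := by
  have hH : Presieve.IsSheaf J (H.obj ⋙ forget AddCommGrpCat.{u + 1}) :=
    (isSheaf_iff_isSheaf_of_type J _).1
      ((Presheaf.isSheaf_iff_isSheaf_forget J H.obj (forget AddCommGrpCat.{u + 1})).1 H.property)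
  have hF : Presieve.IsSheaf J (F.obj ⋙ forget AddCommGrpCat.{u + 1}) :=
    (isSheaf_iff_isSheaf_of_type J _).1
      ((Presheaf.isSheaf_iff_isSheaf_forget J F.obj (forget AddCommGrpCat.{u + 1})).1 F.property)
  -- compatible family
  let x : Presieve.FamilyOfElements (H.obj ⋙ forget AddCommGrpCat.{u + 1}) S.arrows :=
    fun Y f hf => (hloc f hf).choose
  have hx : ∀ {Y : C} (f : Y ⟶ W) (hf : S f), ι.hom.app (op Y) (x f hf) = F.obj.map f.op t :=
    fun f hf => (hloc f hf).choose_spec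
  have hcomp : x.Compatible := by
    intro Y₁ Y₂ Z g₁ g₂ f₁ f₂ h₁ h₂ e
    apply hι Z
    have e1 : ι.hom.app (op Z) (H.obj.map g₁.op (x f₁ h₁)) =
        F.obj.map g₁.op (ι.hom.app (op Y₁) (x f₁ h₁)) := NatTrans.naturality_apply ι.hom g₁.op _
    have e2 : ι.hom.app (op Z) (H.obj.map g₂.op (x f₂ h₂)) =
        F.obj.map g₂.op (ι.hom.app (op Y₂) (x f₂ h₂)) := NatTrans.naturality_apply ι.hom g₂.op _
    change ι.hom.app (op Z) (H.obj.map g₁.op (x f₁ h₁)) = ι.hom.app (op Z) (H.obj.map g₂.op (x f₂ h₂))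
    rw [e1, e2, hx f₁ h₁, hx f₂ h₂]
    have : ∀ {Y} (g : Z ⟶ Y) (f : Y ⟶ W), F.obj.map g.op (F.obj.map f.op t) =
        F.obj.map (g ≫ f).op t := by
      intro Y g f
      rw [op_comp, F.obj.map_comp]
      rfl
    rw [this, this, e]
  obtain ⟨h, hh, -⟩ := hH S hS x hcomp
  refine ⟨h, ?_⟩
  -- separatedness of `F`
  refine (hF S hS).isSeparatedFor.ext ?_
  intro Y f hf
  have e1 : ι.hom.app (op Y) (H.obj.map f.op h) = F.obj.map f.op (ι.hom.app (op W) h) :=
    NatTrans.naturality_apply ι.hom f.op h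
  change F.obj.map f.op (ι.hom.app (op W) h) = F.obj.map f.op t
  rw [← e1, ← hx f hf]
  congr 1
  exact hh f hf

end Groth.Agent.H2.SubFLC
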