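import Mathlib
import Groth.Agent.Lib.Helper2.SubFLCA
import Groth.Agent.Lib.Helper2.LocConstAbA

set_option autoImplicit false
set_option linter.style.haveILetI false
set_option linter.unusedSectionVars false
universe u

open CategoryTheory CategoryTheory.Limits Opposite

namespace Groth.Agent.H2.SubFLC

open Groth.Agent.H2.LCModel Groth.Agent.H2.LocConstAb

variable {C : Type (u + 1)} [Category.{u} C] {J : GrothendieckTopology C} (R : TopReal J)
variable {H F : Sheaf J AddCommGrpCat.{u + 1}} (ι : H ⟶ F)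
variable {U : C} {M : AddCommGrpCat.{u + 1}} (e : Triv R F.obj U M)

/-- The locally constant function attached to a section of the subsheaf. -/
noncomputable def Phi (V : Over U) : H.obj.obj (op V.left) →+ LocallyConstant (R.pt V.left) M :=
  (e.hom.app (op V)).hom.comp (ι.hom.app (op V.left)).hom

lemma Phi_apply (V : Over U) (h : H.obj.obj (op V.left)) :
    Phi R ι e V h = (e.hom.app (op V)).hom ((ι.hom.app (op V.left)).hom h) := rfl

lemma e_injective (V : Over U) : Function.Injective (e.hom.app (op V)).hom := by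
  intro a b hab
  have h1 := congrArg (e.inv.app (op V)).hom hab
  have h2 : ∀ z, (e.inv.app (op V)).hom ((e.hom.app (op V)).hom z) = z := by
    intro z
    have := e.hom_inv_id_app (op V)
    exact ConcreteCategory.congr_hom this z
  rwa [h2, h2] at h1

lemma Phi_injective (hι : ∀ V : C, Function.Injective (ι.hom.app (op V))) (V : Over U) :
    Function.Injective (Phi R ι e V) := by
  intro a b hab
  exact hι _ (e_injective R e V hab)

lemma Phi_map {V' V : Over U} (g : V' ⟶ V) (h : H.obj.obj (op V.left)) (v : R.pt V'.left) :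
    Phi R ι e V' (H.obj.map g.left.op h) v = Phi R ι e V h (R.map g.left v) := by
  have h1 : (ι.hom.app (op V'.left)).hom (H.obj.map g.left.op h) =
      F.obj.map g.left.op ((ι.hom.app (op V.left)).hom h) :=
    NatTrans.naturality_apply ι.hom g.left.op h
  have h2 := e.hom.naturality g.op
  have h3 := ConcreteCategory.congr_hom h2 ((ι.hom.app (op V.left)).hom h)
  rw [Phi_apply, h1]
  exact congrArg (fun s : LocallyConstant (R.pt V'.left) M => s v) h3

/-- The elements of `M` which are constant sections of the subsheaf over `V`. -/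
def Sset (V : Over U) : Set M := {m | ∃ h, Phi R ι e V h = LocallyConstant.const _ m}

lemma Sset_mono {V' V : Over U} (g : V' ⟶ V) : Sset R ι e V ⊆ Sset R ι e V' := by
  rintro m ⟨h, hh⟩
  refine ⟨H.obj.map g.left.op h, ?_⟩
  ext v
  rw [Phi_map, hh]
  rfl

lemma zero_mem_Sset (V : Over U) : (0 : M) ∈ Sset R ι e V := ⟨0, by rw [map_zero]; rfl⟩

lemma add_mem_Sset (V : Over U) {a b : M} (ha : a ∈ Sset R ι e V) (hb : b ∈ Sset R ι e V) :
    a + b ∈ Sset R ι e V := by
  obtain ⟨h, hh⟩ := ha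
  obtain ⟨k, hk⟩ := hb
  refine ⟨h + k, ?_⟩
  rw [map_add, hh, hk]
  rfl

lemma neg_mem_Sset (V : Over U) {a : M} (ha : a ∈ Sset R ι e V) : -a ∈ Sset R ι e V := by
  obtain ⟨h, hh⟩ := ha
  refine ⟨-h, ?_⟩
  rw [map_neg, hh]
  rfl

/-- Stability of `Sset` under nonempty refinements. -/
def Stable (V₀ : Over U) : Prop :=
  ∀ (V : Over U) (_ : V ⟶ V₀), Nonempty (R.pt V.left) → Sset R ι e V = Sset R ι e V₀

lemma exists_stable [Finite M] (hU : Nonempty (R.pt U)) :
    ∃ V₀ : Over U, Nonempty (R.pt V₀.left) ∧ Stable R ι e V₀ := by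
  classical
  let P : Set ℕ := {n | ∃ V : Over U, Nonempty (R.pt V.left) ∧ (Sset R ι e V).ncard = n}
  have hne : P.Nonempty := ⟨_, Over.mk (𝟙 U), hU, rfl⟩
  have hbdd : BddAbove P := by
    refine ⟨Nat.card M, ?_⟩
    rintro n ⟨V, -, rfl⟩
    exact Set.ncard_le_card _
  obtain ⟨V₀, hV₀, hN⟩ := Nat.sSup_mem hne hbdd
  refine ⟨V₀, hV₀, ?_⟩
  intro V g hV
  have h1 : Sset R ι e V₀ ⊆ Sset R ι e V := Sset_mono R ι e g
  have h2 : (Sset R ι e V).ncard ≤ (Sset R ι e V₀).ncard := by
    rw [hN]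
    exact le_csSup hbdd ⟨V, hV, rfl⟩
  exact (Set.eq_of_subset_of_ncard_le h1 h2 (Set.toFinite _)).symm

variable {R ι e}

/-- Values of sections of the subsheaf lie in the stable set. -/
lemma value_mem {V₀ : Over U} (hst : Stable R ι e V₀) (W : Over U) (g : W ⟶ V₀)
    (h : H.obj.obj (op W.left)) (w : R.pt W.left) : Phi R ι e W h w ∈ Sset R ι e V₀ := by
  set s := Phi R ι e W h with hs
  obtain ⟨S, hS, hSU⟩ := R.exists_refine W.left (Set.range fun m : M => s ⁻¹' {m})
    (by rintro _ ⟨m, rfl⟩; exact s.isLocallyConstant.isOpen_fiber m)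
    (by
      apply Set.eq_univ_of_forall
      intro x
      exact ⟨_, ⟨s x, rfl⟩, rfl⟩)
  obtain ⟨Y, f, y, hf, hy⟩ := R.exists_mem S hS w
  obtain ⟨_, ⟨m, rfl⟩, hm⟩ := hSU f hf
  have hmw : s w = m := by
    have : w ∈ s ⁻¹' {m} := hm ⟨y, hy⟩
    exact this
  let Y' : Over U := Over.mk (f ≫ W.hom)
  let g' : Y' ⟶ W := Over.homMk f rfl
  have hY : Nonempty (R.pt Y'.left) := ⟨y⟩
  rw [← hst Y' (g' ≫ g) hY, hmw]
  refine ⟨H.obj.map g'.left.op h, ?_⟩
  ext v
  rw [Phi_map]
  have : R.map g'.left v ∈ s ⁻¹' {m} := hm ⟨v, rfl⟩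
  exact this

/-- Locally constant functions with values in the stable set come from the subsheaf. -/
lemma exists_section (hι : ∀ V : C, Function.Injective (ι.hom.app (op V)))
    {V₀ : Over U} (hst : Stable R ι e V₀) (W : Over U) (g : W ⟶ V₀)
    (s : LocallyConstant (R.pt W.left) M) (hs : ∀ w, s w ∈ Sset R ι e V₀) :
    ∃ h, Phi R ι e W h = s := by
  let t : F.obj.obj (op W.left) := (e.inv.app (op W)).hom s
  have het : (e.hom.app (op W)).hom t = s := by
    have := e.inv_hom_id_app (op W)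
    exact ConcreteCategory.congr_hom this s
  obtain ⟨S, hS, hSU⟩ := R.exists_refine W.left (Set.range fun m : M => s ⁻¹' {m})
    (by rintro _ ⟨m, rfl⟩; exact s.isLocallyConstant.isOpen_fiber m)
    (by
      apply Set.eq_univ_of_forall
      intro x
      exact ⟨_, ⟨s x, rfl⟩, rfl⟩)
  obtain ⟨h, hh⟩ := exists_preimage_of_locally ι hι W.left t S hS (by
    intro Y f hf
    obtain ⟨_, ⟨m, rfl⟩, hm⟩ := hSU f hf
    -- a value in the stable set with `s ∘ f` constant
    obtain ⟨m', hm', hconst⟩ : ∃ m' ∈ Sset R ι e V₀, ∀ y : R.pt Y, s (R.map f y) = m' := by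
      by_cases hY : Nonempty (R.pt Y)
      · obtain ⟨y₀⟩ := hY
        refine ⟨s (R.map f y₀), hs _, ?_⟩
        intro y
        have h1 : s (R.map f y) = m := hm ⟨y, rfl⟩
        have h2 : s (R.map f y₀) = m := hm ⟨y₀, rfl⟩
        rw [h1, h2]
      · exact ⟨0, zero_mem_Sset R ι e V₀, fun y => (hY ⟨y⟩).elim⟩
    obtain ⟨k, hk⟩ := hm'
    let Y' : Over U := Over.mk (f ≫ W.hom)
    let g' : Y' ⟶ W := Over.homMk f rfl
    refine ⟨H.obj.map (g' ≫ g).left.op k, ?_⟩
    apply e_injective R e Y'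
    have h1 : (e.hom.app (op Y')).hom ((ι.hom.app (op Y)).hom (H.obj.map (g' ≫ g).left.op k)) =
        Phi R ι e Y' (H.obj.map (g' ≫ g).left.op k) := rfl
    have h2 := e.hom.naturality g'.op
    have h3 := ConcreteCategory.congr_hom h2 t
    rw [h1]
    refine LocallyConstant.ext (fun y => ?_)
    rw [Phi_map, hk]
    have h4 := congrArg (fun s : LocallyConstant (R.pt Y'.left) M => s y) h3
    refine Eq.trans ?_ h4.symm
    change m' = (show LocallyConstant (R.pt W.left) M from (e.hom.app (op W)).hom t) (R.map f y)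
    rw [het, hconst])
  exact ⟨h, by rw [Phi_apply]; exact (congrArg _ hh).trans het⟩

end Groth.Agent.H2.SubFLC
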