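import Mathlib
import Groth.Agent.Lib.Helper2.SubFLCB

set_option autoImplicit false
set_option linter.style.haveILetI false
set_option linter.unusedSectionVars false
universe u

open CategoryTheory CategoryTheory.Limits Opposite

namespace Groth.Agent.H2.SubFLC

open Groth.Agent.H2.LCModel Groth.Agent.H2.LocConstAb

variable {C : Type (u + 1)} [Category.{u} C] {J : GrothendieckTopology C} (R : TopReal J)
variable {H F : Sheaf J AddCommGrpCat.{u + 1}} (ι : H ⟶ F)
variable {U : C} {M : AddCommGrpCat.{u + 1}} (e : Triv R F.obj U M)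

/-- The stable subgroup of values. -/
def stableSubgroup (V₀ : Over U) : AddSubgroup M where
  carrier := Sset R ι e V₀
  add_mem' := add_mem_Sset R ι e V₀
  zero_mem' := zero_mem_Sset R ι e V₀
  neg_mem' := neg_mem_Sset R ι e V₀

variable {R ι e}

/-- The object of `Over U` attached to an object over `V₀.left`. -/
abbrev ovr (V₀ : Over U) (W : Over V₀.left) : Over U := (Over.map V₀.hom).obj W

/-- Its structure morphism to `V₀`. -/
abbrev ovrHom (V₀ : Over U) (W : Over V₀.left) : ovr V₀ W ⟶ V₀ := Over.homMk W.hom (by simp)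

/-- The comparison map on sections. -/
noncomputable def thetaFun {V₀ : Over U} (hst : Stable R ι e V₀) (W : Over V₀.left) :
    H.obj.obj (op W.left) →+ LocallyConstant (R.pt W.left) (stableSubgroup R ι e V₀) where
  toFun h :=
    ⟨fun w => ⟨Phi R ι e (ovr V₀ W) h w, value_mem hst (ovr V₀ W) (ovrHom V₀ W) h w⟩,
      IsLocallyConstant.desc _ (fun a : stableSubgroup R ι e V₀ => (a : M))
        (Phi R ι e (ovr V₀ W) h).isLocallyConstant Subtype.val_injective⟩
  map_zero' := by
    ext w
    change (Phi R ι e (ovr V₀ W) 0 w : M) = 0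
    rw [map_zero]
    rfl
  map_add' a b := by
    ext w
    change (Phi R ι e (ovr V₀ W) (a + b) w : M) = Phi R ι e (ovr V₀ W) a w + Phi R ι e (ovr V₀ W) b w
    rw [map_add]
    rfl

lemma thetaFun_apply {V₀ : Over U} (hst : Stable R ι e V₀) (W : Over V₀.left)
    (h : H.obj.obj (op W.left)) (w : R.pt W.left) :
    ((thetaFun hst W h w : stableSubgroup R ι e V₀) : M) = Phi R ι e (ovr V₀ W) h w := rfl

/-- The comparison natural transformation. -/
noncomputable def theta {V₀ : Over U} (hst : Stable R ι e V₀) :
    overPre H.obj V₀.left ⟶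
      lcAbPre (R.over V₀.left) (AddCommGrpCat.of (stableSubgroup R ι e V₀)) where
  app W := AddCommGrpCat.ofHom (thetaFun hst W.unop)
  naturality := by
    intro W W₂ k
    ext h
    refine LocallyConstant.ext (fun w => Subtype.ext ?_)
    change Phi R ι e (ovr V₀ W₂.unop) (H.obj.map k.unop.left.op h) w =
      Phi R ι e (ovr V₀ W.unop) h (R.map k.unop.left w)
    exact Phi_map R ι e ((Over.map V₀.hom).map k.unop) h w

lemma theta_bijective (hι : ∀ V : C, Function.Injective (ι.hom.app (op V)))
    {V₀ : Over U} (hst : Stable R ι e V₀) (W : Over V₀.left) :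
    Function.Bijective (thetaFun hst W) := by
  constructor
  · intro a b hab
    apply Phi_injective R ι e hι (ovr V₀ W)
    refine LocallyConstant.ext (fun w => ?_)
    have := congrArg (fun s : LocallyConstant (R.pt W.left) (stableSubgroup R ι e V₀) =>
      ((s w : stableSubgroup R ι e V₀) : M)) hab
    exact this
  · intro s
    obtain ⟨h, hh⟩ := exists_section hι hst (ovr V₀ W) (ovrHom V₀ W)
      (s.map (fun a : stableSubgroup R ι e V₀ => (a : M))) (fun w => (s w).2)
    refine ⟨h, ?_⟩
    refine LocallyConstant.ext (fun w => Subtype.ext ?_)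
    rw [thetaFun_apply, hh]
    rfl

/-- **The subsheaf is trivialised over a stable object**, with value the stable subgroup. -/
noncomputable def trivSub (hι : ∀ V : C, Function.Injective (ι.hom.app (op V)))
    {V₀ : Over U} (hst : Stable R ι e V₀) :
    Triv R H.obj V₀.left (AddCommGrpCat.of (stableSubgroup R ι e V₀)) :=
  haveI : ∀ W, IsIso ((theta hst).app W) := fun W =>
    (ConcreteCategory.isIso_iff_bijective _).2 (theta_bijective hι hst W.unop)
  haveI : IsIso (theta (R := R) (ι := ι) (e := e) hst) := NatIso.isIso_of_isIso_app _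
  asIso (theta hst)

end Groth.Agent.H2.SubFLC
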