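import Mathlib
import Groth.Agent.Lib.Helper2.SubFLCC
import Groth.Agent.Lib.Helper2.LocConstAbE
import Groth.Agent.Lib.Helper2.ConstSubA
import Groth.Agent.Lib.Helper2.PullOverB

set_option autoImplicit false
set_option linter.style.haveILetI false
set_option linter.unusedSectionVars false
universe u

open CategoryTheory CategoryTheory.Limits Opposite AlgebraicGeometry

namespace Groth.Agent.H2.SubFLC

open Groth.Agent.H2.LCModel Groth.Agent.H2.LocConstAb

variable {T : Scheme.{u}}

set_option backward.isDefEq.respectTransparency.types false in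
/-- **A subsheaf of a finite locally constant sheaf is constant on some nonempty étale scheme.** -/
theorem exists_etale_const_sub [Nonempty T] {H F : EtCoh.Ab T} (ι : H ⟶ F) [Mono ι]
    (hF : EtCoh.IsFiniteLocallyConstant F) :
    ∃ (V : T.Etale), Nonempty ↥V.left ∧ ∃ (A : Type) (_ : AddCommGroup A) (_ : Finite A),
      Nonempty (EtCoh.restr H V ≅
        (constantSheaf (T.smallEtaleTopology.over V) AddCommGrpCat.{u + 1}).obj
          (AddCommGrpCat.of (ULift.{u + 1} A))) := by
  classical
  obtain ⟨ι', U, hU, htriv⟩ := hF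
  obtain ⟨t⟩ := ‹Nonempty T›
  obtain ⟨i, y, -⟩ := hU t
  obtain ⟨M, iM1, iM2, ⟨α⟩⟩ := htriv i
  let R := etReal T
  let e : Triv R F.obj (U i) (AddCommGrpCat.of (ULift.{u + 1} M)) := Triv.ofIso α
  have hι : ∀ V : T.Etale, Function.Injective (ι.hom.app (op V)) :=
    fun V => Groth.Agent.H2.ConstSub.injective_of_mono_ab ι V
  haveI : Finite (AddCommGrpCat.of (ULift.{u + 1} M)) := inferInstanceAs (Finite (ULift.{u + 1} M))
  obtain ⟨V₀, hV₀, hst⟩ := exists_stable R ι e ⟨y⟩
  let A' : AddSubgroup (ULift.{u + 1} M) := stableSubgroup R ι e V₀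
  let e' : Triv R H.obj V₀.left (AddCommGrpCat.of A') := trivSub hι hst
  let A₀ : AddSubgroup M := A'.map (AddEquiv.ulift : ULift.{u + 1} M ≃+ M).toAddMonoidHom
  let φ : A' ≃+ ULift.{u + 1} A₀ :=
    (AddEquiv.addSubgroupMap (AddEquiv.ulift : ULift.{u + 1} M ≃+ M) A').trans AddEquiv.ulift.symm
  refine ⟨V₀.left, hV₀, A₀, inferInstance, inferInstance, ⟨e'.toIso ≪≫
    (constantSheaf (T.smallEtaleTopology.over V₀.left) AddCommGrpCat.{u + 1}).mapIso
      (AddEquiv.toAddCommGrpIso φ)⟩⟩

set_option backward.isDefEq.respectTransparency.types false in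
/-- If `G` is constant over an étale `V` whose base change along `j` covers the source of `j`,
then the inverse image of `G` along `j` is finite locally constant. -/
theorem isFLC_pull_of_restr_const {X Y : Scheme.{u}} (j : X ⟶ Y) (G : EtCoh.Ab Y) (V : Y.Etale)
    (hcov : ∀ x : X, j x ∈ Set.range V.hom)
    (A : Type) [AddCommGroup A] [Finite A]
    (α : EtCoh.restr G V ≅
      (constantSheaf (Y.smallEtaleTopology.over V) AddCommGrpCat.{u + 1}).obj
        (AddCommGrpCat.of (ULift.{u + 1} A))) :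
    EtCoh.IsFiniteLocallyConstant ((EtCoh.pull j).obj G) := by
  refine ⟨PUnit.{u + 1}, fun _ => (EtCoh.bc j).obj V, ?_, fun _ => ⟨A, inferInstance, inferInstance,
    Groth.Agent.H2.PullOver.nonempty_pull_over_iso (EtCoh.bc j) Y.smallEtaleTopology
      X.smallEtaleTopology AddCommGrpCat.{u + 1} V G (AddCommGrpCat.of (ULift.{u + 1} A)) α⟩⟩
  intro x
  obtain ⟨y, hy⟩ := hcov x
  obtain ⟨z, -, hz⟩ := Scheme.Pullback.exists_preimage_pullback (f := V.hom) (g := j) y x hy
  exact ⟨PUnit.unit, z, hz⟩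

end Groth.Agent.H2.SubFLC
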