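import Mathlib
import Groth.Agent.Lib.Helper2.SubFLCD
import Groth.Agent.Lib.Helper2.ConsClosB
import Groth.Agent.Lib.Helper7.GT1

set_option autoImplicit false
set_option linter.style.haveILetI false
set_option linter.unusedSectionVars false
universe u

open CategoryTheory CategoryTheory.Limits Opposite AlgebraicGeometry TopologicalSpace Topology

namespace Groth.Agent.H2.SubFLC

open Groth.Agent.H2.Strata Groth.Agent.H2.ConsClos

lemma isConstructible_of_iso {X : Scheme.{u}} {F F' : EtCoh.Ab X} (e : F ≅ F')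
    (hF : EtPBC.IsConstructible F) : EtPBC.IsConstructible F' := by
  intro U hU
  obtain ⟨n, T, g, h1, h2, h3, h4, h5⟩ := hF U hU
  exact ⟨n, T, g, h1, h2, h3, h4, fun i _ =>
    isFiniteLocallyConstant_of_iso ((EtCoh.pull (g i)).mapIso e) (h5 i)⟩

/-- **A subsheaf of a constructible abelian sheaf on a locally Noetherian scheme is
constructible.** -/
theorem isConstructible_of_mono {X : Scheme.{u}} [IsLocallyNoetherian X] {F G : EtCoh.Ab X}
    (ι : G ⟶ F) [Mono ι] (hF : EtPBC.IsConstructible F) : EtPBC.IsConstructible G := by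
  apply S8527_mpr
  intro x
  obtain ⟨V, T, g, hg, hxV, hrange, hflc⟩ := S8527_mp F hF x
  -- the point of `T` over `x`
  have hxr : x ∈ Set.range g.base := by
    rw [hrange]
    exact ⟨hxV, subset_closure (Set.mem_singleton x)⟩
  obtain ⟨tx, htx⟩ := hxr
  haveI : Nonempty T := ⟨tx⟩
  haveI := Groth.Agent.H7.GT.S101_main g
  haveI : Mono ((EtCoh.pull g).map ι) := inferInstance
  obtain ⟨V₀, ⟨v₀⟩, A, iA1, iA2, ⟨α⟩⟩ := exists_etale_const_sub ((EtCoh.pull g).map ι) hflc
  haveI : Etale V₀.hom := V₀.prop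
  let T' : T.Opens := ⟨Set.range V₀.hom, V₀.hom.isOpenMap.isOpen_range⟩
  have hflc' : EtCoh.IsFiniteLocallyConstant ((EtCoh.pull T'.ι).obj ((EtCoh.pull g).obj G)) := by
    refine isFLC_pull_of_restr_const T'.ι _ V₀ ?_ A α
    intro z
    exact z.2
  -- `T'` is the preimage of an open of `X`
  obtain ⟨O, hO, hOT⟩ := g.isEmbedding.isInducing.isOpen_iff.1 T'.isOpen
  have htxT' : tx ∈ (T' : Set T) := by
    -- `tx` specializes to every point of `T`
    have hsp : tx ⤳ V₀.hom v₀ := by
      rw [← g.isEmbedding.isInducing.specializes_iff]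
      have : g.base (V₀.hom v₀) ∈ Set.range g.base := ⟨_, rfl⟩
      rw [hrange] at this
      rw [htx]
      exact specializes_iff_mem_closure.2 this.2
    exact hsp.mem_open T'.isOpen ⟨v₀, rfl⟩
  refine ⟨⟨O, hO⟩ ⊓ V, T', T'.ι ≫ g, inferInstance, ?_, ?_, ?_⟩
  · refine ⟨?_, hxV⟩
    have : tx ∈ g.base ⁻¹' O := by rw [hOT]; exact htxT'
    rw [← htx]
    exact this
  · change Set.range (T'.ι ≫ g) = (O ∩ (V : Set X)) ∩ closure {x}
    rw [Scheme.Hom.comp_base, TopCat.coe_comp, Set.range_comp, Scheme.Opens.range_ι,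
      Set.inter_assoc, ← hrange]
    change g.base '' (T' : Set T) = _
    rw [← hOT, Set.image_preimage_eq_inter_range]
  · exact isFiniteLocallyConstant_of_iso ((pullCompIsoAb T'.ι g).app G).symm hflc'

theorem S0140_main (X : Scheme.{u}) [IsNoetherian X]
    {F G : EtCoh.Ab X} (ι : G ⟶ F) [Mono ι] (hF : EtPBC.IsConstructible F) :
    EtPBC.IsConstructible G :=
  isConstructible_of_mono ι hF

theorem S0141_main (X : Scheme.{u}) [IsNoetherian X]
    {F Q : EtCoh.Ab X} (π : F ⟶ Q) [Epi π] (hF : EtPBC.IsConstructible F) :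
    EtPBC.IsConstructible Q := by
  have hK : EtPBC.IsConstructible (kernel π) := isConstructible_of_mono (kernel.ι π) hF
  have hC := (S0131_main (kernel.ι π) hK hF).2
  have hcol := Abelian.epiIsCokernelOfKernel (KernelFork.ofι (kernel.ι π) (kernel.condition π))
    (kernelIsKernel π)
  exact isConstructible_of_iso
    ((colimit.isColimit (parallelPair (kernel.ι π) 0)).coconePointUniqueUpToIso hcol) hC

end Groth.Agent.H2.SubFLC
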