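import Mathlib
import Groth.Prelude.Def_EtBase
import Groth.Prelude.Def_PBC
import Groth.Agent.Lib.Helper2.StrataD
import Groth.Agent.Lib.Helper2.ExtFLCC
import Groth.Agent.Lib.Helper2.SubFLCE

set_option autoImplicit false
set_option linter.style.haveILetI false
set_option linter.unusedSectionVars false
set_option linter.unusedVariables false
universe u w

open CategoryTheory CategoryTheory.Limits Opposite AlgebraicGeometry

namespace Groth.Agent.H2.Gen

section Abstract

variable {C : Type*} [Category C] [Abelian C]

attribute [local instance] Abelian.hasFiniteBiproducts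

/-- The map from the summand indexed by `o` to the sum over the `some` part. -/
noncomputable def toSome {α : Type w} [Finite α] (G : Option α → C) :
    ∀ o, G o ⟶ ⨁ (fun a => G (some a))
  | none => 0
  | some a => biproduct.ι (fun a => G (some a)) a

/-- The split short exact sequence `G none → ⨁ G → ⨁ (G ∘ some)`. -/
noncomputable def optionSC {α : Type w} [Finite α] (G : Option α → C) : ShortComplex C :=
  ShortComplex.mk (biproduct.ι G none) (biproduct.desc (toSome G)) (by
    rw [biproduct.ι_desc]; rfl)

noncomputable def optionSplitting {α : Type w} [Finite α] (G : Option α → C) :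
    (optionSC G).Splitting where
  r := biproduct.π G none
  s := biproduct.desc (fun a => biproduct.ι G (some a))
  f_r := by
    change biproduct.ι G none ≫ biproduct.π G none = 𝟙 (G none)
    exact biproduct.ι_π_self G none
  s_g := by
    change biproduct.desc (fun a => biproduct.ι G (some a)) ≫ biproduct.desc (toSome G) =
      𝟙 (⨁ (fun a => G (some a)))
    apply biproduct.hom_ext'
    intro a
    rw [biproduct.ι_desc_assoc, biproduct.ι_desc, Category.comp_id]
    rfl
  id := by
    classical
    change biproduct.π G none ≫ biproduct.ι G none +
      biproduct.desc (toSome G) ≫ biproduct.desc (fun a => biproduct.ι G (some a)) = 𝟙 (⨁ G)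
    apply biproduct.hom_ext'
    intro o
    rw [Preadditive.comp_add, Category.comp_id, biproduct.ι_desc_assoc]
    cases o with
    | none =>
      rw [biproduct.ι_π_self_assoc]
      change biproduct.ι G none + (0 : G none ⟶ _) ≫ _ = _
      rw [zero_comp, add_zero]
    | some a =>
      rw [biproduct.ι_π_ne_assoc G (by simp : (some a : Option α) ≠ none), zero_comp, zero_add]
      change biproduct.ι (fun a => G (some a)) a ≫ _ = _
      rw [biproduct.ι_desc]

lemma optionSC_shortExact {α : Type w} [Finite α] (G : Option α → C) :
    (optionSC G).ShortExact :=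
  (optionSplitting G).shortExact

/-- A property of objects closed under isomorphisms and extensions and containing the zero
objects is closed under finite direct sums. -/
theorem prop_biproduct (P : C → Prop) (hiso : ∀ {A B : C}, (A ≅ B) → P A → P B)
    (hzero : ∀ A : C, IsZero A → P A)
    (hext : ∀ S : ShortComplex C, S.ShortExact → P S.X₁ → P S.X₃ → P S.X₂)
    (J : Type w) [Finite J] (G : J → C) (h : ∀ j, P (G j)) : P (⨁ G) := by
  revert G
  refine Finite.induction_empty_option
    (P := fun J : Type w => ∀ [Finite J] (G : J → C), (∀ j, P (G j)) → P (⨁ G)) ?_ ?_ ?_ J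
  · intro α β e ih _ G h
    haveI : Finite α := Finite.of_equiv β e.symm
    exact hiso (biproduct.whiskerEquiv (f := fun a => G (e a)) (g := G) e (fun j => Iso.refl _))
      (ih (fun a => G (e a)) (fun a => h (e a)))
  · intro _ G h
    apply hzero
    rw [IsZero.iff_id_eq_zero]
    apply biproduct.hom_ext'
    intro j
    exact j.elim
  · intro α _ ih _ G h
    refine hext (optionSC G) (optionSC_shortExact G) (show P (G none) from h none)
      (ih (fun a => G (some a)) (fun a => h (some a)))

end Abstract

/-- Finite direct sums of constructible abelian sheaves are constructible. -/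
theorem isConstructible_biproduct {X : Scheme.{u}} (J : Type w) [Finite J]
    (G : J → EtCoh.Ab X) (h : ∀ j, EtPBC.IsConstructible (G j)) :
    EtPBC.IsConstructible (⨁ G) :=
  prop_biproduct (fun F : EtCoh.Ab X => EtPBC.IsConstructible F)
    (fun e hA => Groth.Agent.H2.SubFLC.isConstructible_of_iso e hA)
    (fun A hA => Groth.Agent.H2.ExtFLC.isConstructible_of_isFLC A
      (Groth.Agent.H2.ExtFLC.isFLC_of_isZero A hA))
    (fun S hS h1 h3 => Groth.Agent.H2.Strata.S0132_main S hS h1 h3) J G h

end Groth.Agent.H2.Gen
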