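import Mathlib
import Groth.Prelude.Def_EtBase
import Groth.Prelude.Def_PBC
import Groth.Prelude.Def_EtShriek2
import Groth.Agent.Lib.Helper2.ExtFLCC
import Groth.Agent.Lib.Helper2.LocConstAbA
import Groth.Agent.Lib.Helper2.LCModelE
import Groth.Agent.Lib.Helper2.SubFLCE

set_option autoImplicit false
set_option linter.style.haveILetI false
set_option linter.unusedSectionVars false
set_option linter.unusedVariables false
universe u

open CategoryTheory CategoryTheory.Limits Opposite AlgebraicGeometry

namespace Groth.Agent.H2.ExtConst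

open Groth.Agent.H7 Groth.Agent.H2.Strata Groth.Agent.H2.LCModel Groth.Agent.H2.LocConstAb

/-- The terminal object of the small étale site. -/
noncomputable def topTerminal (Y : Scheme.{u}) : IsTerminal (EtCoh.top Y) :=
  IsTerminal.isTerminalOfObj (Scheme.Etale.forget Y) _ Over.mkIdTerminal

set_option backward.isDefEq.respectTransparency.types false in
/-- Constant sheaves with finite value are finite locally constant. -/
theorem isFLC_const (Y : Scheme.{u}) (M : Type) [AddCommGroup M] [Finite M] :
    EtCoh.IsFiniteLocallyConstant ((constantSheaf Y.smallEtaleTopology AddCommGrpCat.{u + 1}).obj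
      (AddCommGrpCat.of (ULift.{u + 1} M))) := by
  refine ⟨PUnit.{u + 1}, fun _ => EtCoh.top Y, fun y => ⟨PUnit.unit, y, rfl⟩,
    fun _ => ⟨M, inferInstance, inferInstance, ⟨?_⟩⟩⟩
  let M' : AddCommGrpCat.{u + 1} := AddCommGrpCat.of (ULift.{u + 1} M)
  let F := (constantSheaf Y.smallEtaleTopology AddCommGrpCat.{u + 1}).obj M'
  let e0 : F.obj ≅ lcAbPre (etReal Y) M' :=
    (sheafToPresheaf _ _).mapIso (lcAb (etReal Y) M').iso
  let e : Triv (etReal Y) F.obj (EtCoh.top Y) M' :=
    Functor.isoWhiskerLeft (Over.forget (EtCoh.top Y)).op e0 ≪≫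
      NatIso.ofComponents (fun V => Iso.refl _) (fun f => by
        simp only [Iso.refl_hom, Category.comp_id, Category.id_comp]
        rfl)
  exact Triv.toIso e

variable {X : Scheme.{u}} (U : X.Etale)

/-- `(U → U → X) ≅ U` in the small étale site of `X`. -/
noncomputable def compTopIso : (EtShriek.compEtale U.hom).obj (EtCoh.top U.left) ≅ U :=
  MorphismProperty.Over.isoMk (Iso.refl _) rfl

/-- Sections over `U`, computed in the two ways. -/
noncomputable def sectionsIso :
    X.smallEtaleTopology.overPullback AddCommGrpCat.{u + 1} U ⋙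
        (sheafSections (X.smallEtaleTopology.over U) AddCommGrpCat.{u + 1}).obj
          (op (Over.mk (𝟙 U))) ≅
      EtShriek.restrAlong U.hom ⋙
        (sheafSections U.left.smallEtaleTopology AddCommGrpCat.{u + 1}).obj
          (op (EtCoh.top U.left)) :=
  NatIso.ofComponents (fun K => K.obj.mapIso (compTopIso U).op) (fun {K K'} φ => by
    exact (φ.hom.naturality (compTopIso U).hom.op).symm)

/-- The two extensions by zero of constant sheaves agree. -/
noncomputable def constExtIso :
    constantSheaf (X.smallEtaleTopology.over U) AddCommGrpCat.{u + 1} ⋙ EtPBC.extZero U ≅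
      constantSheaf U.left.smallEtaleTopology AddCommGrpCat.{u + 1} ⋙
        EtShriek.extZero U.hom :=
  (((constantSheafAdj (X.smallEtaleTopology.over U) AddCommGrpCat.{u + 1}
      (Over.mkIdTerminal (X := U))).comp (EtPBC.extZeroAdj U)).ofNatIsoRight
    (sectionsIso U)).leftAdjointUniq
    ((constantSheafAdj U.left.smallEtaleTopology AddCommGrpCat.{u + 1}
      (topTerminal U.left)).comp (EtShriek.extZeroAdj U.hom))

theorem S0133_main [CompactSpace X] [QuasiSeparatedSpace X] [CompactSpace U.left]
    [QuasiSeparatedSpace U.left] (M : Type) [AddCommGroup M] [Finite M] :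
    EtPBC.IsConstructible (EtPBC.extZeroConst U M) := by
  have h := ExtFLC.S13505_main (U := U.left) (X := X) U.hom _ (isFLC_const U.left M)
  -- transport along the isomorphism
  have e := (constExtIso U).app (AddCommGrpCat.of (ULift.{u + 1} M))
  exact Groth.Agent.H2.SubFLC.isConstructible_of_iso e.symm h

end Groth.Agent.H2.ExtConst
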