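import Mathlib
import Groth.Prelude.Def_EtBase
import Groth.Prelude.Def_PBC
import Groth.Agent.Lib.Helper2.GenA
import Groth.Agent.Lib.Helper2.ExtConstA

set_option autoImplicit false
set_option linter.style.haveILetI false
set_option linter.unusedSectionVars false
set_option linter.unusedVariables false
universe u

open CategoryTheory CategoryTheory.Limits Opposite AlgebraicGeometry

namespace Groth.Agent.H2.Gen

open Groth.Agent.H2.StalkLC Groth.Agent.H2.LCModel Groth.Agent.H2.PtSec

variable {X : Scheme.{u}} (U : X.Etale)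

/-- The composite adjunction `M ↦ j_! M ⊣ F ↦ F(U)`. -/
noncomputable def adjC :
    constantSheaf (X.smallEtaleTopology.over U) AddCommGrpCat.{u + 1} ⋙ EtPBC.extZero U ⊣
      X.smallEtaleTopology.overPullback AddCommGrpCat.{u + 1} U ⋙
        (sheafSections (X.smallEtaleTopology.over U) AddCommGrpCat.{u + 1}).obj
          (op (Over.mk (𝟙 U))) :=
  (constantSheafAdj (X.smallEtaleTopology.over U) AddCommGrpCat.{u + 1}
    (Over.mkIdTerminal (X := U))).comp (EtPBC.extZeroAdj U)

/-- `ℤ/n` as an object of the coefficient category. -/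
abbrev Zn (n : ℕ) : AddCommGrpCat.{u + 1} := AddCommGrpCat.of (ULift.{u + 1} (ZMod n))

/-- The group homomorphism `ℤ/n → F(U)` attached to a section killed by `n`. -/
noncomputable def secHom (F : EtCoh.Ab X) (n : ℕ) (s : F.obj.obj (op U)) (hs : n • s = 0) :
    Zn.{u} n ⟶ F.obj.obj (op U) :=
  AddCommGrpCat.ofHom ((ZMod.lift n ⟨zmultiplesHom _ s, by simp [hs]⟩).comp
    AddEquiv.ulift.toAddMonoidHom)

lemma secHom_one (F : EtCoh.Ab X) (n : ℕ) (s : F.obj.obj (op U)) (hs : n • s = 0) :
    (secHom U F n s hs).hom (ULift.up 1) = s := by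
  have h := ZMod.lift_coe n (⟨zmultiplesHom _ s, by simp [hs]⟩ :
    {f : ℤ →+ ↑(F.obj.obj (op U)) // f n = 0}) 1
  simp only [Int.cast_one, zmultiplesHom_apply, one_smul] at h
  exact h

set_option backward.isDefEq.respectTransparency.types false in
/-- The morphism `j_! ℤ/n → F` attached to a section of `F` over `U` killed by `n`. -/
noncomputable def gen (F : EtCoh.Ab X) (n : ℕ) (s : F.obj.obj (op U)) (hs : n • s = 0) :
    EtPBC.extZeroConst U (ZMod n) ⟶ F :=
  ((adjC U).homEquiv (Zn.{u} n) F).symm (secHom U F n s hs)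

set_option backward.isDefEq.respectTransparency.types false in
/-- The tautological section of `j_! ℤ/n` over `U`. -/
noncomputable def unitSec (n : ℕ) : (EtPBC.extZeroConst U (ZMod n)).obj.obj (op U) :=
  ((adjC U).unit.app (Zn.{u} n)).hom (ULift.up 1)

set_option backward.isDefEq.respectTransparency.types false in
lemma gen_unitSec (F : EtCoh.Ab X) (n : ℕ) (s : F.obj.obj (op U)) (hs : n • s = 0) :
    ((gen U F n s hs).hom.app (op U)).hom (unitSec U n) = s := by
  have h : (adjC U).unit.app (Zn.{u} n) ≫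
      (X.smallEtaleTopology.overPullback AddCommGrpCat.{u + 1} U ⋙
        (sheafSections (X.smallEtaleTopology.over U) AddCommGrpCat.{u + 1}).obj
          (op (Over.mk (𝟙 U)))).map (gen U F n s hs) = secHom U F n s hs := by
    exact ((adjC U).homEquiv_unit (Zn.{u} n) F (gen U F n s hs)).symm.trans
      (Equiv.apply_symm_apply ((adjC U).homEquiv (Zn.{u} n) F) (secHom U F n s hs))
  have h2 := ConcreteCategory.congr_hom h (ULift.up 1)
  exact h2.trans (secHom_one U F n s hs)

/-- The germ of `s` lies in the image of the stalk map of `gen`. -/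
lemma germ_mem_range (F : EtCoh.Ab X) (n : ℕ) (s : F.obj.obj (op U)) (hs : n • s = 0)
    {Ω : Type u} [Field Ω] [IsSepClosed Ω] (ξ : Spec (CommRingCat.of Ω) ⟶ X)
    (t : (Scheme.pointSmallEtale ξ).fiber.obj U) :
    germ (Scheme.pointSmallEtale ξ) F.obj U t s ∈
      Set.range ((EtCoh.stalk ξ).map (gen U F n s hs)) := by
  refine ⟨germ (Scheme.pointSmallEtale ξ) (EtPBC.extZeroConst U (ZMod n)).obj U t (unitSec U n), ?_⟩
  have h := (Scheme.pointSmallEtale ξ).toPresheafFiber_naturality_apply (gen U F n s hs).hom U t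
    (unitSec U n)
  refine h.trans ?_
  exact congrArg _ (gen_unitSec U F n s hs)

/-- Étale neighbourhoods of a geometric point can be refined to affine ones. -/
lemma exists_affine_refinement {Ω : Type u} [Field Ω] [IsSepClosed Ω]
    (ξ : Spec (CommRingCat.of Ω) ⟶ X) (U : X.Etale)
    (t : (Scheme.pointSmallEtale ξ).fiber.obj U) :
    ∃ (U' : X.Etale) (j : U' ⟶ U) (t' : (Scheme.pointSmallEtale ξ).fiber.obj U'),
      IsAffine U'.left ∧ (Scheme.pointSmallEtale ξ).fiber.map j t' = t := by
  haveI : Etale U.hom := U.prop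
  let y : Spec (CommRingCat.of Ω) ⟶ U.left := CommaMorphism.left t
  have hy : y ≫ U.hom = ξ := Over.w t
  obtain ⟨R, j, hj, hmem, -⟩ := AlgebraicGeometry.Scheme.exists_affine_mem_range_and_range_subset (x := y default)
    (U := (⊤ : U.left.Opens)) trivial
  have hrange : Set.range y ⊆ Set.range j := by
    rintro _ ⟨a, rfl⟩
    rwa [Subsingleton.elim a default]
  let y' := IsOpenImmersion.lift j y hrange
  have hy' : y' ≫ j = y := IsOpenImmersion.lift_fac j y hrange
  let U' : X.Etale := MorphismProperty.Over.mk ⊤ (j ≫ U.hom) (inferInstanceAs (Etale (j ≫ U.hom)))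
  let jj : U' ⟶ U := MorphismProperty.Over.homMk j rfl
  refine ⟨U', jj, Over.homMk y' (by
    change y' ≫ (j ≫ U.hom) = ξ
    rw [← Category.assoc, hy', hy]), (inferInstanceAs (IsAffine (Spec R))), ?_⟩
  apply Over.OverMorphism.ext
  exact hy'

/-- Every element of a stalk killed by `n` is hit by a morphism from some `j_! ℤ/n` with affine
source. -/
theorem exists_gen_of_germ (F : EtCoh.Ab X) (n : ℕ) {Ω : Type u} [Field Ω] [IsSepClosed Ω]
    (ξ : Spec (CommRingCat.of Ω) ⟶ X) (a : (EtCoh.stalk ξ).obj F) (ha : n • a = 0) :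
    ∃ (U : X.Etale) (_ : IsAffine U.left) (s : F.obj.obj (op U)) (hs : n • s = 0),
      a ∈ Set.range ((EtCoh.stalk ξ).map (gen U F n s hs)) := by
  obtain ⟨U₀, t₀, z₀, rfl⟩ := exists_germ_eq (Scheme.pointSmallEtale ξ) F.obj a
  have h0 : germ (Scheme.pointSmallEtale ξ) F.obj U₀ t₀ (n • z₀) =
      germ (Scheme.pointSmallEtale ξ) F.obj U₀ t₀ 0 := by
    rw [map_nsmul, map_zero]
    exact ha
  obtain ⟨Y, f, y, hy, hf⟩ := (germ_eq_iff (Scheme.pointSmallEtale ξ) F.obj U₀ t₀ _ _).1 h0
  obtain ⟨U, j, t, hU, ht⟩ := exists_affine_refinement ξ Y y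
  let s := (F.obj.map j.op).hom ((F.obj.map f.op).hom z₀)
  have hs : n • s = 0 := by
    change n • (F.obj.map j.op).hom ((F.obj.map f.op).hom z₀) = 0
    rw [← map_nsmul, ← map_nsmul, hf, map_zero, map_zero]
  refine ⟨U, hU, s, hs, ?_⟩
  have hg : germ (Scheme.pointSmallEtale ξ) F.obj U t s =
      germ (Scheme.pointSmallEtale ξ) F.obj U₀ t₀ z₀ := by
    change germ (Scheme.pointSmallEtale ξ) F.obj U t
      ((F.obj.map j.op).hom ((F.obj.map f.op).hom z₀)) = _
    rw [germ_map, germ_map, ht, hy]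
  rw [← hg]
  exact germ_mem_range U F n s hs ξ t

/-! ### `j_! ℤ/n` is killed by `n` -/

lemma nsmul_hom_apply {A B : AddCommGrpCat.{u + 1}} (f : A ⟶ B) (k : ℕ) (x : A) :
    (k • f).hom x = k • f.hom x := by
  induction k with
  | zero => rw [zero_nsmul, zero_nsmul]; rfl
  | succ k ih => rw [succ_nsmul, succ_nsmul, ← ih]; rfl

lemma nsmul_id_Zn (n : ℕ) : n • 𝟙 (Zn.{u} n) = 0 := by
  apply AddCommGrpCat.hom_ext
  apply AddMonoidHom.ext
  intro x
  rw [nsmul_hom_apply]
  change n • x = 0
  apply ULift.ext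
  change n • x.down = 0
  rw [nsmul_eq_mul, ZMod.natCast_self, zero_mul]

lemma kil_extZeroConst (n : ℕ) : Kil n (EtPBC.extZeroConst U (ZMod n)) := by
  let L := constantSheaf (X.smallEtaleTopology.over U) AddCommGrpCat.{u + 1} ⋙ EtPBC.extZero U
  haveI : PreservesColimitsOfSize.{0, 0} L := (adjC U).leftAdjoint_preservesColimits
  haveI : PreservesBinaryBiproducts L := preservesBinaryBiproducts_of_preservesBinaryCoproducts L
  haveI : L.Additive := Functor.additive_of_preservesBinaryBiproducts L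
  exact nsmul_id_map L (nsmul_id_Zn n)

end Groth.Agent.H2.Gen
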