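import Mathlib
import Groth.Prelude.Def_EtBase
import Groth.Prelude.Def_PBC
import Groth.Agent.Lib.Helper2.GenA
import Groth.Agent.Lib.Helper2.GenB
import Groth.Agent.Lib.Helper2.GenC
import Groth.Agent.Lib.Helper2.GenD

set_option autoImplicit false
set_option linter.style.haveILetI false
set_option linter.unusedSectionVars false
set_option linter.unusedVariables false
universe u

open CategoryTheory CategoryTheory.Limits Opposite AlgebraicGeometry

namespace Groth.Agent.H2.Gen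

open Groth.Agent.H2.StalkLC Groth.Agent.H2.LCModel Groth.Agent.H2.PtSec

variable {X : Scheme.{u}}

/-- Sections over affine étale `X`-schemes killed by `n`. -/
structure Idx (F : EtCoh.Ab X) (n : ℕ) where
  U : X.Etale
  aff : IsAffine U.left
  s : F.obj.obj (op U)
  hs : n • s = 0

variable {F : EtCoh.Ab X} {n : ℕ}

/-- The morphism attached to an index. -/
noncomputable def Idx.gen (i : Idx F n) : EtPBC.extZeroConst i.U (ZMod n) ⟶ F :=
  Gen.gen i.U F n i.s i.hs

/-- The family of sheaves `j_! ℤ/n` over a finite set of indices. -/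
noncomputable abbrev fam (I : Finset (Idx F n)) : ↥I → EtCoh.Ab X :=
  fun i => EtPBC.extZeroConst i.1.U (ZMod n)

/-- The morphism from the finite direct sum. -/
noncomputable def Ψ (I : Finset (Idx F n)) : ⨁ (fam I) ⟶ F :=
  biproduct.desc (fun i => i.1.gen)

lemma Ψ_mono {I I' : Finset (Idx F n)} (h : I ⊆ I') :
    ∃ incl : ⨁ (fam I) ⟶ ⨁ (fam I'), incl ≫ Ψ I' = Ψ I := by
  refine ⟨biproduct.desc (fun i : ↥I =>
    (biproduct.ι (fam I') ⟨i.1, h i.2⟩ : fam I i ⟶ ⨁ (fam I'))), ?_⟩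
  apply biproduct.hom_ext'
  intro i
  rw [biproduct.ι_desc_assoc]
  unfold Ψ
  rw [biproduct.ι_desc, biproduct.ι_desc]

/-- The locus where `Ψ I` is surjective on stalks. -/
def E (I : Finset (Idx F n)) : Set X :=
  {x | ∀ (Ω : Type u) [Field Ω] [IsSepClosed Ω] (ξ : Spec (CommRingCat.of Ω) ⟶ X),
    Set.range ξ = {x} → Function.Surjective ((EtCoh.stalk ξ).map (Ψ I))}

lemma E_mono {I I' : Finset (Idx F n)} (h : I ⊆ I') : E I ⊆ E I' := by
  intro x hx Ω _ _ ξ hξ
  obtain ⟨incl, hincl⟩ := Ψ_mono h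
  have h1 := hx Ω ξ hξ
  rw [← hincl, Functor.map_comp] at h1
  intro b
  obtain ⟨a, ha⟩ := h1 b
  exact ⟨((EtCoh.stalk ξ).map incl) a, ha⟩

lemma isConstructible_E [CompactSpace X] [QuasiSeparatedSpace X]
    (hF : EtPBC.IsConstructible F) (hn : 0 < n) (I : Finset (Idx F n)) :
    Topology.IsConstructible (E I) := by
  haveI : NeZero n := ⟨hn.ne'⟩
  have h1 : EtPBC.IsConstructible (⨁ (fam I)) := isConstructible_biproduct _ _ (fun i => by
    haveI := i.1.aff
    exact Groth.Agent.H2.ExtConst.S0133_main i.1.U (ZMod n))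
  exact Groth.Agent.H2.StalkLC.S0182_main X (Ψ I) h1 hF

lemma exists_mem_E (hF : EtPBC.IsConstructible F) (hk : EtCoh.KilledBy n F) (x : X) :
    ∃ I : Finset (Idx F n), x ∈ E I := by
  classical
  obtain ⟨Ω, _, _, ξ, hξ⟩ := exists_geomPt x
  haveI := finite_stalk_of_isConstructible F hF ξ
  haveI := Fintype.ofFinite ((EtCoh.stalk ξ).obj F)
  have hex : ∀ a : (EtCoh.stalk ξ).obj F, ∃ i : Idx F n,
      a ∈ Set.range ((EtCoh.stalk ξ).map i.gen) := by
    intro a
    obtain ⟨U, hU, s, hs, ha⟩ := exists_gen_of_germ F n ξ a (nsmul_stalk_eq_zero hk ξ a)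
    exact ⟨⟨U, hU, s, hs⟩, ha⟩
  choose idx hidx using hex
  let I : Finset (Idx F n) := Finset.univ.image idx
  refine ⟨I, ?_⟩
  intro Ω' _ _ ξ' hξ'
  rw [range_geomPt_eq_iff] at hξ'
  rw [surjective_stalk_of_same_point (Ψ I) ξ' ξ (hξ'.trans hξ.symm)]
  intro a
  obtain ⟨b, hb⟩ := hidx a
  have hmem : idx a ∈ I := Finset.mem_image_of_mem _ (Finset.mem_univ a)
  have hfac : biproduct.ι (fam I) ⟨idx a, hmem⟩ ≫ Ψ I = (idx a).gen := biproduct.ι_desc _ _
  refine ⟨((EtCoh.stalk ξ).map (biproduct.ι (fam I) ⟨idx a, hmem⟩)) b, ?_⟩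
  have h2 : (EtCoh.stalk ξ).map (biproduct.ι (fam I) ⟨idx a, hmem⟩) ≫ (EtCoh.stalk ξ).map (Ψ I) =
      (EtCoh.stalk ξ).map (idx a).gen := by
    rw [← Functor.map_comp, hfac]
  exact ((ConcreteCategory.comp_apply _ _ _).symm.trans (ConcreteCategory.congr_hom h2 b)).trans hb

/-- **Finite generation**: a constructible sheaf killed by `n` on a qcqs scheme is a quotient of
a finite direct sum of sheaves `j_! ℤ/n` with affine étale `j`. -/
theorem exists_epi [CompactSpace X] [QuasiSeparatedSpace X]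
    (hF : EtPBC.IsConstructible F) (hn : 0 < n) (hk : EtCoh.KilledBy n F) :
    ∃ I : Finset (Idx F n), Epi (Ψ I) := by
  classical
  obtain ⟨S, hS⟩ := exists_finset_cover_of_isConstructible (fun I : Finset (Idx F n) => E I)
    (fun I => isConstructible_E hF hn I) (exists_mem_E hF hk)
  refine ⟨S.biUnion id, ?_⟩
  rw [Groth.Agent.H7.ST.ab_epi_iff]
  intro Ω _ _ ξ
  obtain ⟨I', hI', hx⟩ := hS (ξ default)
  have hsub : I' ⊆ S.biUnion id := Finset.subset_biUnion_of_mem id hI'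
  exact E_mono hsub hx Ω ξ (range_geomPt ξ)

theorem exists_epi_fin [CompactSpace X] [QuasiSeparatedSpace X]
    (hF : EtPBC.IsConstructible F) (hn : 0 < n) (hk : EtCoh.KilledBy n F) :
    ∃ (b : ℕ) (U : Fin b → X.Etale) (_ : ∀ i, IsAffine (U i).left)
      (p : (⨁ fun i => EtPBC.extZeroConst (U i) (ZMod n)) ⟶ F), Epi p := by
  obtain ⟨I, hI⟩ := exists_epi hF hn hk
  let e : Fin I.card ≃ ↥I := I.equivFin.symm
  refine ⟨I.card, fun k => (e k).1.U, fun k => (e k).1.aff, ?_⟩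
  let w : (⨁ fun k => EtPBC.extZeroConst (e k).1.U (ZMod n)) ≅ ⨁ (fam I) :=
    biproduct.whiskerEquiv (f := fun k => fam I (e k)) (g := fam I) e (fun k => Iso.refl _)
  exact ⟨w.hom ≫ Ψ I, epi_comp _ _⟩

end Groth.Agent.H2.Gen
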