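import Mathlib
import Groth.Prelude.Def_EtBase
import Groth.Prelude.Def_PBC
import Groth.Agent.Lib.Helper2.GenE
import Groth.Agent.Lib.Helper2.StrataG

set_option autoImplicit false
set_option linter.style.haveILetI false
set_option linter.unusedSectionVars false
set_option linter.unusedVariables false
universe u

open CategoryTheory CategoryTheory.Limits Opposite AlgebraicGeometry

namespace Groth.Agent.H2.Gen

open Groth.Agent.H2.StalkLC Groth.Agent.H2.LCModel Groth.Agent.H2.PtSec Groth.Agent.H2.StalkCard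

theorem S0138_main (X : Scheme.{u}) [CompactSpace X] [QuasiSeparatedSpace X]
    (n : ℕ) (hn : 0 < n) (F : EtCoh.Ab X) (hF : EtPBC.IsConstructible F)
    (hFn : EtCoh.KilledBy n F) :
    ∃ (a b : ℕ) (V : Fin a → X.Etale) (U : Fin b → X.Etale) (_ : ∀ j, IsAffine (V j).left)
      (_ : ∀ i, IsAffine (U i).left)
      (φ : (⨁ fun j => EtPBC.extZeroConst (V j) (ZMod n)) ⟶
        ⨁ fun i => EtPBC.extZeroConst (U i) (ZMod n)),
      Nonempty (F ≅ cokernel φ) := by
  haveI : NeZero n := ⟨hn.ne'⟩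
  obtain ⟨b, U, hU, p, hp⟩ := exists_epi_fin hF hn hFn
  have hP₀c : EtPBC.IsConstructible (⨁ fun i => EtPBC.extZeroConst (U i) (ZMod n)) :=
    isConstructible_biproduct _ _ (fun i => by
      haveI := hU i
      exact Groth.Agent.H2.ExtConst.S0133_main (U i) (ZMod n))
  have hP₀k : Kil n (⨁ fun i => EtPBC.extZeroConst (U i) (ZMod n)) :=
    kil_biproduct _ (fun i => kil_extZeroConst (U i) n)
  have hKc : EtPBC.IsConstructible (kernel p) := (Groth.Agent.H2.Strata.S0131_main p hP₀c hF).1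
  have hKk : EtCoh.KilledBy n (kernel p) := killedBy_of_kil (kil_of_mono (kernel.ι p) hP₀k)
  obtain ⟨a, V, hV, q, hq⟩ := exists_epi_fin hKc hn hKk
  refine ⟨a, b, V, U, hV, hU, q ≫ kernel.ι p, ⟨?_⟩⟩
  have e1 : cokernel (kernel.ι p) ≅ F :=
    (cokernelIsCokernel (kernel.ι p)).coconePointUniqueUpToIso
      (Abelian.epiIsCokernelOfKernel (Fork.ofι (kernel.ι p) _) (kernelIsKernel p))
  have e2 : cokernel (q ≫ kernel.ι p) ≅ cokernel (kernel.ι p) := cokernelEpiComp q (kernel.ι p)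
  exact e1.symm ≪≫ e2.symm

/-- A constructible abelian sheaf on a qcqs scheme is killed by a positive integer. -/
theorem exists_killedBy (X : Scheme.{u}) [CompactSpace X] [QuasiSeparatedSpace X]
    (F : EtCoh.Ab X) (hF : EtPBC.IsConstructible F) :
    ∃ N : ℕ, 0 < N ∧ EtCoh.KilledBy N F := by
  classical
  have hstr := (Groth.Agent.H2.Strata.S0128_main X F).1 hF
  have hcov : ∀ x : X, ∃ m : ℕ, x ∈ cardSet F (m + 1) := by
    intro x
    obtain ⟨Ω, _, _, ξ, hξ⟩ := exists_geomPt x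
    haveI := finite_stalk_of_isConstructible F hF ξ
    have hpos : 0 < Nat.card ((EtCoh.stalk ξ).obj F) := Nat.card_pos
    refine ⟨Nat.card ((EtCoh.stalk ξ).obj F) - 1, Ω, inferInstance, inferInstance, ξ,
      (range_geomPt_eq_iff ξ x).2 hξ, ?_⟩
    omega
  obtain ⟨S, hS⟩ := exists_finset_cover_of_isConstructible (fun m : ℕ => cardSet F (m + 1))
    (fun m => isConstructible_cardSet_of_adaptedStrata F hstr (m + 1)) hcov
  refine ⟨∏ m ∈ S, (m + 1), Finset.prod_pos (fun m _ => Nat.succ_pos m), ?_⟩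
  apply killedBy_of_kil
  apply kil_of_stalks
  intro Ω _ _ ξ a
  obtain ⟨m, hm, Ω', _, _, ξ', hξ', hcard⟩ := hS (ξ default)
  rw [range_geomPt_eq_iff] at hξ'
  have hc : Nat.card ((EtCoh.stalk ξ).obj F) = m + 1 := by
    rw [← hcard]
    exact Groth.Agent.H2.GeomIndep.card_stalk_eq_of_same_point F ξ ξ' hξ'.symm
  have h1 : (m + 1) • a = 0 := by
    rw [← hc]
    exact card_nsmul_eq_zero'
  obtain ⟨k, hk⟩ := Finset.dvd_prod_of_mem (fun m => m + 1) hm
  rw [hk, mul_nsmul, h1, nsmul_zero]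

theorem S3508_main (X : Scheme.{u}) [CompactSpace X] [QuasiSeparatedSpace X]
    (F : EtCoh.Ab X) :
    EtPBC.IsConstructible F ↔
      ∃ (a b : ℕ) (U : Fin a → X.Etale) (V : Fin b → X.Etale) (n : Fin a → ℕ) (m : Fin b → ℕ),
        (∀ i, 0 < n i ∧ IsAffine (U i).left) ∧ (∀ j, 0 < m j ∧ IsAffine (V j).left) ∧
        ∃ φ : (⨁ fun j => EtPBC.extZeroConst (V j) (ZMod (m j))) ⟶
            (⨁ fun i => EtPBC.extZeroConst (U i) (ZMod (n i))),
          Nonempty (F ≅ cokernel φ) := by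
  constructor
  · intro hF
    obtain ⟨N, hN, hk⟩ := exists_killedBy X F hF
    obtain ⟨a, b, V, U, hV, hU, φ, hφ⟩ := S0138_main X N hN F hF hk
    exact ⟨b, a, U, V, fun _ => N, fun _ => N, fun i => ⟨hN, hU i⟩, fun j => ⟨hN, hV j⟩, φ, hφ⟩
  · rintro ⟨a, b, U, V, n, m, hU, hV, φ, ⟨e⟩⟩
    have h1 : EtPBC.IsConstructible (⨁ fun j => EtPBC.extZeroConst (V j) (ZMod (m j))) :=
      isConstructible_biproduct _ _ (fun j => by
        haveI := (hV j).2
        haveI : NeZero (m j) := ⟨(hV j).1.ne'⟩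
        exact Groth.Agent.H2.ExtConst.S0133_main (V j) (ZMod (m j)))
    have h2 : EtPBC.IsConstructible (⨁ fun i => EtPBC.extZeroConst (U i) (ZMod (n i))) :=
      isConstructible_biproduct _ _ (fun i => by
        haveI := (hU i).2
        haveI : NeZero (n i) := ⟨(hU i).1.ne'⟩
        exact Groth.Agent.H2.ExtConst.S0133_main (U i) (ZMod (n i)))
    exact Groth.Agent.H2.SubFLC.isConstructible_of_iso e.symm
      (Groth.Agent.H2.Strata.S0131_main φ h1 h2).2

end Groth.Agent.H2.Gen
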