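import Mathlib
import Groth.Prelude.Def_EtBase
import Groth.Prelude.Def_PBC
import Groth.Agent.Lib.Helper2.GenF

set_option autoImplicit false
set_option linter.style.haveILetI false
set_option linter.unusedSectionVars false
set_option linter.unusedVariables false
universe u

open CategoryTheory CategoryTheory.Limits Opposite AlgebraicGeometry
open scoped ZeroObject

namespace Groth.Agent.H2.Colim

open Groth.Agent.H2.StalkLC Groth.Agent.H2.LCModel Groth.Agent.H2.PtSec Groth.Agent.H2.Gen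

variable (X : Scheme.{u})

/-- Presentation data for a constructible sheaf. -/
structure Pres where
  a : ℕ
  b : ℕ
  U : Fin a → X.Etale
  V : Fin b → X.Etale
  n : Fin a → ℕ
  m : Fin b → ℕ
  hU : ∀ i, 0 < n i ∧ IsAffine (U i).left
  hV : ∀ j, 0 < m j ∧ IsAffine (V j).left
  φ : (⨁ fun j => EtPBC.extZeroConst (V j) (ZMod (m j))) ⟶
    (⨁ fun i => EtPBC.extZeroConst (U i) (ZMod (n i)))

variable {X}

/-- The presented sheaf. -/
noncomputable def Pres.sheaf (p : Pres X) : EtCoh.Ab X := cokernel p.φ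

lemma Pres.isConstructible [CompactSpace X] [QuasiSeparatedSpace X] (p : Pres X) :
    EtPBC.IsConstructible p.sheaf :=
  (S3508_main X _).2 ⟨p.a, p.b, p.U, p.V, p.n, p.m, p.hU, p.hV, p.φ, ⟨Iso.refl _⟩⟩

lemma exists_pres [CompactSpace X] [QuasiSeparatedSpace X] (G : EtCoh.Ab X)
    (hG : EtPBC.IsConstructible G) : ∃ p : Pres X, Nonempty (G ≅ p.sheaf) := by
  obtain ⟨a, b, U, V, n, m, hU, hV, φ, ⟨e⟩⟩ := (S3508_main X G).1 hG
  exact ⟨⟨a, b, U, V, n, m, hU, hV, φ⟩, ⟨e⟩⟩

variable (F : EtCoh.Ab X)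

/-- Presented sheaves over `F`. -/
structure Obj where
  p : Pres X
  s : p.sheaf ⟶ F

variable {F}

/-- Morphisms over `F`. -/
@[ext]
structure Hom (j k : Obj F) where
  h : j.p.sheaf ⟶ k.p.sheaf
  w : h ≫ k.s = j.s

noncomputable instance : Category (Obj F) where
  Hom := Hom
  id j := ⟨𝟙 _, Category.id_comp _⟩
  comp f g := ⟨f.h ≫ g.h, by rw [Category.assoc, g.w, f.w]⟩
  id_comp f := Hom.ext (Category.id_comp _)
  comp_id f := Hom.ext (Category.comp_id _)
  assoc f g h := Hom.ext (Category.assoc _ _ _)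

lemma comp_h {j k l : Obj F} (f : j ⟶ k) (g : k ⟶ l) : (f ≫ g).h = f.h ≫ g.h := rfl

variable (F) in
/-- The diagram of presented sheaves over `F`. -/
noncomputable abbrev D : Obj F ⥤ EtCoh.Ab X where
  obj j := j.p.sheaf
  map f := f.h

variable (F) in
/-- The tautological cocone. -/
noncomputable def coconeι : D F ⟶ (Functor.const (Obj F)).obj F where
  app j := j.s
  naturality j k f := by
    change f.h ≫ k.s = j.s ≫ 𝟙 F
    rw [f.w, Category.comp_id]

variable (F) in
/-- The tautological cocone. -/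
noncomputable def coconeF : Cocone (D F) where
  pt := F
  ι := coconeι F

/-- Every constructible sheaf over `F` is isomorphic to an object of the diagram. -/
lemma exists_obj [CompactSpace X] [QuasiSeparatedSpace X] (G : EtCoh.Ab X)
    (hG : EtPBC.IsConstructible G) (g : G ⟶ F) :
    ∃ (j : Obj F) (e : G ≅ j.p.sheaf), e.hom ≫ j.s = g := by
  obtain ⟨p, ⟨e⟩⟩ := exists_pres G hG
  exact ⟨⟨p, e.inv ≫ g⟩, e, Iso.hom_inv_id_assoc e g⟩

lemma isConstructible_zero : EtPBC.IsConstructible (0 : EtCoh.Ab X) :=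
  Groth.Agent.H2.ExtFLC.isConstructible_of_isFLC _
    (Groth.Agent.H2.ExtFLC.isFLC_of_isZero _ (isZero_zero _))

lemma isConstructible_biprod (A B : EtCoh.Ab X) (hA : EtPBC.IsConstructible A)
    (hB : EtPBC.IsConstructible B) : EtPBC.IsConstructible (A ⊞ B) :=
  Groth.Agent.H2.Strata.S0132_main _
    (ShortComplex.Splitting.ofHasBinaryBiproduct A B).shortExact hA hB

instance isFiltered_obj [CompactSpace X] [QuasiSeparatedSpace X] : IsFiltered (Obj F) := by
  haveI : Nonempty (Obj F) := by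
    obtain ⟨j, -, -⟩ := exists_obj (F := F) 0 isConstructible_zero 0
    exact ⟨j⟩
  haveI : IsFilteredOrEmpty (Obj F) := by
    refine IsFilteredOrEmpty.mk ?_ ?_
    · intro j₁ j₂
      obtain ⟨k, e, he⟩ := exists_obj (F := F) (j₁.p.sheaf ⊞ j₂.p.sheaf)
        (isConstructible_biprod _ _ j₁.p.isConstructible j₂.p.isConstructible)
        (biprod.desc j₁.s j₂.s)
      refine ⟨k, ⟨biprod.inl ≫ e.hom, ?_⟩, ⟨biprod.inr ≫ e.hom, ?_⟩, trivial⟩
      · rw [Category.assoc, he, biprod.inl_desc]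
      · rw [Category.assoc, he, biprod.inr_desc]
    · intro j₁ j₂ f g
      have hz : (f.h - g.h) ≫ j₂.s = 0 := by
        rw [Preadditive.sub_comp, f.w, g.w, sub_self]
      obtain ⟨k, e, he⟩ := exists_obj (F := F) (cokernel (f.h - g.h))
        (Groth.Agent.H2.Strata.S0131_main (f.h - g.h) j₁.p.isConstructible
          j₂.p.isConstructible).2
        (cokernel.desc _ j₂.s hz)
      refine ⟨k, ⟨cokernel.π _ ≫ e.hom, ?_⟩, ?_⟩
      · rw [Category.assoc, he, cokernel.π_desc]
      · apply Hom.ext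
        rw [comp_h, comp_h]
        change f.h ≫ cokernel.π (f.h - g.h) ≫ e.hom = g.h ≫ cokernel.π (f.h - g.h) ≫ e.hom
        rw [← sub_eq_zero, ← Preadditive.sub_comp, cokernel.condition_assoc, zero_comp]
  exact { }

end Groth.Agent.H2.Colim
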