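import Groth.Agent.Lib.Helper2.AdicLimA

/-!
# The limit of an adic tower is adic (helper2)  — EGA 0_I 7.2.7
-/

universe u

namespace Groth.Agent.H2.AdicLim

open Finset

/-- Raw completeness/separatedness conditions give `IsAdicComplete`. -/
theorem isAdicComplete_of {A : Type*} [CommRing A] (J : Ideal A)
    (hsep : ∀ x, (∀ n, x ∈ J ^ n) → x = 0)
    (hcompl : ∀ y : ℕ → A, (∀ n, y (n + 1) - y n ∈ J ^ n) → ∃ L, ∀ n, L - y n ∈ J ^ n) :
    IsAdicComplete J A := by
  have htop : ∀ n, (J ^ n • ⊤ : Submodule A A) = J ^ n := fun n => by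
    rw [smul_eq_mul, Ideal.mul_top]
  haveI : IsHausdorff J A := ⟨fun x hx => hsep x fun n => by
    have := hx n
    rw [SModEq.zero, htop] at this
    exact this⟩
  haveI : IsPrecomplete J A := ⟨fun f hf => by
    obtain ⟨L, hL⟩ := hcompl f (fun n => by
      have := hf (Nat.le_succ n)
      rw [SModEq.sub_mem, htop] at this
      rw [← neg_sub]
      exact Ideal.neg_mem_iff _ |>.mpr this)
    refine ⟨L, fun n => ?_⟩
    rw [SModEq.sub_mem, htop, ← neg_sub]
    exact Ideal.neg_mem_iff _ |>.mpr (hL n)⟩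
  exact {}

section Adic

variable {R : ℕ → Type u} [∀ n, CommRing (R n)] (ρ : ∀ n, R (n + 1) →+* R n)

/-- The kernel of `R n → R 0`. -/
def K (n : ℕ) : Ideal (R n) := RingHom.ker (toZero ρ n)

/-- The kernel of `lim → R 0`. -/
def J : Ideal (limRing ρ) := RingHom.ker (proj ρ 0)

lemma K_succ_eq_comap (n : ℕ) : K ρ (n + 1) = (K ρ n).comap (ρ n) := by
  ext y
  simp only [K, RingHom.mem_ker, Ideal.mem_comap, toZero_succ]

lemma J_eq_comap (n : ℕ) : J ρ = (K ρ n).comap (proj ρ n) := by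
  ext x
  simp only [J, K, RingHom.mem_ker, Ideal.mem_comap, toZero_proj]

lemma K_zero : K ρ 0 = ⊥ := by
  ext y
  simp only [K, RingHom.mem_ker, Ideal.mem_bot]
  rfl

variable (hρ : ∀ n, Function.Surjective (ρ n))
  (hker : ∀ n, RingHom.ker (ρ n) = K ρ (n + 1) ^ (n + 1))

include hρ in
lemma map_K_succ (n : ℕ) : (K ρ (n + 1)).map (ρ n) = K ρ n := by
  rw [K_succ_eq_comap, Ideal.map_comap_of_surjective _ (hρ n)]

include hρ hker in
lemma K_pow (n : ℕ) : K ρ n ^ (n + 1) = ⊥ := by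
  rw [← map_K_succ ρ hρ n, ← Ideal.map_pow, ← hker n]
  exact (Ideal.map_eq_bot_iff_le_ker _).mpr le_rfl

include hρ in
lemma map_J (n : ℕ) : (J ρ).map (proj ρ n) = K ρ n := by
  rw [J_eq_comap ρ n, Ideal.map_comap_of_surjective _ (proj_surjective ρ hρ n)]

include hρ hker in
lemma J_pow_le_Fil (n : ℕ) : J ρ ^ n ≤ Fil ρ n := by
  cases n with
  | zero => rw [Fil_zero]; exact le_top
  | succ n =>
    intro x hx
    rw [mem_Fil_succ]
    have h : proj ρ n x ∈ (J ρ ^ (n + 1)).map (proj ρ n) := Ideal.mem_map_of_mem _ hx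
    rw [Ideal.map_pow, map_J ρ hρ, K_pow ρ hρ hker] at h
    exact h

include hρ hker in
lemma map_span_eq_K {ι : Type*} (a : ι → limRing ρ) (haJ : ∀ i, a i ∈ J ρ)
    (h1 : (Ideal.span (Set.range a)).map (proj ρ 1) = K ρ 1) (n : ℕ) :
    (Ideal.span (Set.range a)).map (proj ρ n) = K ρ n := by
  have hle : ∀ n, (Ideal.span (Set.range a)).map (proj ρ n) ≤ K ρ n := by
    intro n
    rw [← map_J ρ hρ n]
    exact Ideal.map_mono (Ideal.span_le.mpr (by rintro _ ⟨i, rfl⟩; exact haJ i))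
  induction n with
  | zero =>
    apply le_antisymm (hle 0)
    rw [K_zero]; exact bot_le
  | succ n ih =>
    rcases Nat.eq_zero_or_pos n with rfl | hn
    · exact h1
    · apply le_antisymm (hle _)
      have hcomp : (Ideal.span (Set.range a)).map (proj ρ n) =
          ((Ideal.span (Set.range a)).map (proj ρ (n + 1))).map (ρ n) := by
        rw [Ideal.map_map]
        congr 1
        ext x
        exact (proj_comp ρ n x).symm
      have hsq : K ρ (n + 1) ≤
          (Ideal.span (Set.range a)).map (proj ρ (n + 1)) ⊔ K ρ (n + 1) ^ 2 := by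
        intro y hy
        have hy' : ρ n y ∈ K ρ n := by
          rw [← map_K_succ ρ hρ n]; exact Ideal.mem_map_of_mem _ hy
        rw [← ih, hcomp] at hy'
        obtain ⟨w, hw, hwy⟩ := (Ideal.mem_map_iff_of_surjective (ρ n) (hρ n)).mp hy'
        have hyw : y - w ∈ RingHom.ker (ρ n) := by
          rw [RingHom.mem_ker, map_sub, hwy, sub_self]
        rw [hker n] at hyw
        have h2 : K ρ (n + 1) ^ (n + 1) ≤ K ρ (n + 1) ^ 2 := Ideal.pow_le_pow_right (by omega)
        have e : y = w + (y - w) := by ring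
        rw [e]
        exact Ideal.add_mem _ (Ideal.mem_sup_left hw) (Ideal.mem_sup_right (h2 hyw))
      have hj : ∀ j, 1 ≤ j → K ρ (n + 1) ≤
          (Ideal.span (Set.range a)).map (proj ρ (n + 1)) ⊔ K ρ (n + 1) ^ j := by
        intro j hj
        induction j, hj using Nat.le_induction with
        | base => rw [pow_one]; exact le_sup_right
        | succ j hj ihj =>
          refine hsq.trans (sup_le le_sup_left ?_)
          calc K ρ (n + 1) ^ 2 = K ρ (n + 1) * K ρ (n + 1) := pow_two _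
            _ ≤ ((Ideal.span (Set.range a)).map (proj ρ (n + 1)) ⊔ K ρ (n + 1) ^ j) *
                K ρ (n + 1) := Ideal.mul_mono_left ihj
            _ = (Ideal.span (Set.range a)).map (proj ρ (n + 1)) * K ρ (n + 1) ⊔
                K ρ (n + 1) ^ j * K ρ (n + 1) := Ideal.sup_mul _ _ _
            _ ≤ (Ideal.span (Set.range a)).map (proj ρ (n + 1)) ⊔ K ρ (n + 1) ^ (j + 1) :=
              sup_le_sup Ideal.mul_le_left (pow_succ _ j).ge
      have := hj (n + 1 + 1) (by omega)
      rwa [K_pow ρ hρ hker, sup_bot_eq] at this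

include hρ hker in
theorem Fil_le_span_pow {r : ℕ} (a : Fin r → limRing ρ) (haJ : ∀ i, a i ∈ J ρ)
    (h1 : (Ideal.span (Set.range a)).map (proj ρ 1) = K ρ 1) (k : ℕ) :
    Fil ρ k ≤ Ideal.span (Set.range a) ^ k := by
  have hIJ : Ideal.span (Set.range a) ≤ J ρ :=
    Ideal.span_le.mpr (by rintro _ ⟨i, rfl⟩; exact haJ i)
  induction k with
  | zero => rw [pow_zero, Ideal.one_eq_top]; exact le_top
  | succ k ih =>
    intro z hz
    have hstep : ∀ n, ∀ z, z ∈ Fil ρ (k + 1) ⊓ Fil ρ n → ∃ c : Fin r → limRing ρ,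
        (∀ i, c i ∈ Fil ρ k ⊓ Fil ρ (n - 1)) ∧
          z - ∑ i, c i * a i ∈ Fil ρ (k + 1) ⊓ Fil ρ (n + 1) := by
      intro n z hz
      by_cases hn : n ≤ k
      · refine ⟨fun _ => 0, fun i => Ideal.zero_mem _, ?_⟩
        simp only [zero_mul, Finset.sum_const_zero, sub_zero]
        exact ⟨hz.1, Fil_anti ρ (by omega) hz.1⟩
      · push Not at hn
        obtain ⟨n', rfl⟩ : ∃ n', n = n' + 1 := ⟨n - 1, by omega⟩
        have hz0 : proj ρ n' z = 0 := (mem_Fil_succ ρ).mp hz.2
        have hzker : proj ρ (n' + 1) z ∈ RingHom.ker (ρ n') := by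
          rw [RingHom.mem_ker, proj_comp, hz0]
        rw [hker n'] at hzker
        have hmap : K ρ (n' + 1) ^ (n' + 1) =
            (J ρ ^ n' * Ideal.span (Set.range a)).map (proj ρ (n' + 1)) := by
          rw [Ideal.map_mul, Ideal.map_pow, map_J ρ hρ, map_span_eq_K ρ hρ hker a haJ h1, pow_succ]
        rw [hmap] at hzker
        obtain ⟨w, hw, hwz⟩ :=
          (Ideal.mem_map_iff_of_surjective _ (proj_surjective ρ hρ _)).mp hzker
        have hw' : w ∈ J ρ ^ n' • Submodule.span (limRing ρ) (Set.range a) := hw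
        obtain ⟨c, hc, hcw⟩ := (Submodule.mem_ideal_smul_span_iff_exists_sum _ a w).mp hw'
        refine ⟨fun i => c i, fun i => ?_, ?_⟩
        · have h1 := J_pow_le_Fil ρ hρ hker n' (hc i)
          exact ⟨Fil_anti ρ (by omega) h1, by simpa using h1⟩
        · have hsum : ∑ i, c i * a i = w := by
            rw [← hcw]
            exact (Finsupp.sum_fintype c (fun i c => c • a i) (fun i => zero_smul _ _)).symm
          rw [hsum]
          refine ⟨Ideal.sub_mem _ hz.1 ?_, ?_⟩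
          · have hwJ : w ∈ J ρ ^ (n' + 1) := by
              rw [pow_succ]; exact Ideal.mul_mono_right hIJ hw
            exact Fil_anti ρ (by omega) (J_pow_le_Fil ρ hρ hker _ hwJ)
          · show z - w ∈ Fil ρ (n' + 1 + 1)
            rw [mem_Fil_succ, map_sub, hwz, sub_self]
    obtain ⟨L, hL, hzL⟩ := approx (Fil ρ) (Fil_anti ρ) (Fil_sep ρ) (Fil_compl ρ) (Fil ρ k)
      (fun y hy => by have := hy k; rwa [sup_idem] at this) a (fun _ => 1) (Fil ρ (k + 1))
      hstep (by rw [Fil_zero]; exact le_top) z hz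
    rw [hzL, pow_succ]
    exact Ideal.sum_mem _ fun i _ => Ideal.mul_mem_mul (ih (hL i)) (Ideal.subset_span ⟨i, rfl⟩)

include hρ hker in
/-- EGA 0_I 7.2.7: the limit of an adic tower is adic. -/
theorem main_alg (hfg : (K ρ 1).FG) :
    (J ρ).FG ∧ (∀ n, RingHom.ker (proj ρ n) = J ρ ^ (n + 1)) ∧
    (∀ x, (∀ n, x ∈ J ρ ^ n) → x = 0) ∧
    (∀ y : ℕ → limRing ρ, (∀ n, y (n + 1) - y n ∈ J ρ ^ n) → ∃ L, ∀ n, L - y n ∈ J ρ ^ n) := by
  obtain ⟨r, b, hb⟩ := Submodule.fg_iff_exists_fin_generating_family.mp hfg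
  have hbK : ∀ i, b i ∈ (J ρ).map (proj ρ 1) := fun i => by
    rw [map_J ρ hρ, ← hb]; exact Submodule.subset_span ⟨i, rfl⟩
  have hex : ∀ i, ∃ x, x ∈ J ρ ∧ proj ρ 1 x = b i := fun i =>
    (Ideal.mem_map_iff_of_surjective _ (proj_surjective ρ hρ 1)).mp (hbK i)
  choose a haJ hab using hex
  have h1 : (Ideal.span (Set.range a)).map (proj ρ 1) = K ρ 1 := by
    rw [Ideal.map_span, ← Set.range_comp]
    have : (⇑(proj ρ 1) ∘ a) = b := funext hab
    rw [this]
    exact hb
  have hIJ : Ideal.span (Set.range a) ≤ J ρ :=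
    Ideal.span_le.mpr (by rintro _ ⟨i, rfl⟩; exact haJ i)
  have hFil : ∀ k, Fil ρ k = J ρ ^ k := fun k =>
    le_antisymm ((Fil_le_span_pow ρ hρ hker a haJ h1 k).trans (Ideal.pow_right_mono hIJ k))
      (J_pow_le_Fil ρ hρ hker k)
  refine ⟨?_, fun n => ?_, fun x hx => ?_, fun y hy => ?_⟩
  · have : J ρ = Ideal.span (Set.range a) := by
      apply le_antisymm _ hIJ
      have := Fil_le_span_pow ρ hρ hker a haJ h1 1
      rw [pow_one, hFil 1, pow_one] at this
      exact this
    rw [this]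
    exact Submodule.fg_span (Set.finite_range a)
  · rw [← hFil, Fil_succ]
  · exact Fil_sep ρ x (fun n => by rw [hFil]; exact hx n)
  · obtain ⟨L, hL⟩ := Fil_compl ρ y (fun n => by rw [hFil]; exact hy n)
    exact ⟨L, fun n => by rw [← hFil]; exact hL n⟩

end Adic

end Groth.Agent.H2.AdicLim
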