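import Groth.Agent.Lib.Helper2.AdicLimA

/-!
# A ring complete and separated for a f.g. ideal with Noetherian quotient is Noetherian (helper2)
-/

universe u

namespace Groth.Agent.H2.AdicLim

open MvPolynomial

section Noeth

variable {A : Type u} [CommRing A] {r : ℕ} (a : Fin r → A)

lemma eval_monomial_one_mem (m : Fin r →₀ ℕ) :
    MvPolynomial.eval a (monomial m (1 : A)) ∈ Ideal.span (Set.range a) ^ m.degree :=
  (Ideal.mem_span_pow_iff_exists_isHomogeneous a _).mpr
    ⟨monomial m 1, isHomogeneous_monomial 1 rfl, rfl⟩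

lemma eval_mem_pow_succ (n : ℕ) (p : MvPolynomial (Fin r) A) (hp : p.IsHomogeneous n)
    (hπ : MvPolynomial.map (Ideal.Quotient.mk (Ideal.span (Set.range a))) p = 0) :
    MvPolynomial.eval a p ∈ Ideal.span (Set.range a) ^ (n + 1) := by
  have hcoeff : ∀ m, coeff m p ∈ Ideal.span (Set.range a) := by
    intro m
    have := congrArg (coeff m) hπ
    rw [coeff_map, coeff_zero] at this
    exact Ideal.Quotient.eq_zero_iff_mem.mp this
  have hsum : MvPolynomial.eval a p =
      ∑ m ∈ p.support, coeff m p * MvPolynomial.eval a (monomial m (1 : A)) := by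
    conv_lhs => rw [← p.support_sum_monomial_coeff]
    rw [map_sum]
    apply Finset.sum_congr rfl
    intro m _
    rw [eval_monomial, eval_monomial, one_mul]
  rw [hsum, pow_succ']
  apply Ideal.sum_mem
  intro m hm
  have hdeg : m.degree = n := by
    by_contra h
    exact (mem_support_iff.mp hm) (hp.coeff_eq_zero h)
  apply Ideal.mul_mem_mul (hcoeff m)
  rw [← hdeg]
  exact eval_monomial_one_mem a m

lemma exists_homogeneous_lift (J : Ideal A) (m : ℕ) (q : MvPolynomial (Fin r) (A ⧸ J))
    (hq : q.IsHomogeneous m) :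
    ∃ q' : MvPolynomial (Fin r) A, q'.IsHomogeneous m ∧
      MvPolynomial.map (Ideal.Quotient.mk J) q' = q := by
  classical
  obtain ⟨lift, hlift⟩ : ∃ lift : A ⧸ J → A, ∀ y, Ideal.Quotient.mk J (lift y) = y :=
    ⟨Function.surjInv Ideal.Quotient.mk_surjective, Function.surjInv_eq _⟩
  refine ⟨∑ s ∈ q.support, monomial s (lift (coeff s q)), ?_, ?_⟩
  · apply IsHomogeneous.sum
    intro s hs
    apply isHomogeneous_monomial
    by_contra h
    exact (mem_support_iff.mp hs) (hq.coeff_eq_zero h)
  · rw [map_sum]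
    conv_rhs => rw [← q.support_sum_monomial_coeff]
    apply Finset.sum_congr rfl
    intro s _
    rw [map_monomial, hlift]

attribute [local instance] MvPolynomial.gradedAlgebra

/-- A ring which is complete and separated for the `J`-adic filtration, `J` finitely generated, with
`A ⧸ J` Noetherian, is Noetherian. -/
theorem isNoetherianRing_of_adic (J : Ideal A) (hJfg : J.FG)
    (hsep : ∀ x, (∀ n, x ∈ J ^ n) → x = 0)
    (hcompl : ∀ y : ℕ → A, (∀ n, y (n + 1) - y n ∈ J ^ n) → ∃ L, ∀ n, L - y n ∈ J ^ n)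
    [IsNoetherianRing (A ⧸ J)] : IsNoetherianRing A := by
  classical
  obtain ⟨r, a, haJ⟩ := Submodule.fg_iff_exists_fin_generating_family.mp hJfg
  replace haJ : Ideal.span (Set.range a) = J := haJ
  rw [isNoetherianRing_iff_ideal_fg]
  intro 𝔞
  let π : MvPolynomial (Fin r) A →+* MvPolynomial (Fin r) (A ⧸ J) :=
    MvPolynomial.map (Ideal.Quotient.mk J)
  let S : Set (MvPolynomial (Fin r) (A ⧸ J)) := {g | ∃ (n : ℕ) (p : MvPolynomial (Fin r) A),
    p.IsHomogeneous n ∧ π p = g ∧ MvPolynomial.eval a p ∈ 𝔞 ⊔ J ^ (n + 1)}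
  have hfg : (Ideal.span S).FG := IsNoetherian.noetherian _
  obtain ⟨T, hTS, hT⟩ := (Submodule.fg_span_iff_fg_span_finset_subset S).mp hfg
  have hdata : ∀ h : T, ∃ (n : ℕ) (p : MvPolynomial (Fin r) A) (x j : A), p.IsHomogeneous n ∧
      π p = h.1 ∧ x ∈ 𝔞 ∧ j ∈ J ^ (n + 1) ∧ x + j = MvPolynomial.eval a p := by
    intro h
    obtain ⟨n, p, hp, hπ, hmem⟩ := hTS h.2
    obtain ⟨x, hx, j, hj, hxj⟩ := Submodule.mem_sup.mp hmem
    exact ⟨n, p, x, j, hp, hπ, hx, hj, hxj⟩
  choose dn dp dx dj hdp hdπ hdx hdj hdxj using hdata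
  have key : ∀ z ∈ 𝔞, ∃ L : T → A, (∀ i, L i ∈ (⊤ : Ideal A)) ∧ z = ∑ i, L i * dx i := by
    intro z hz
    refine approx (fun n => J ^ n) (fun m n h => Ideal.pow_le_pow_right h) hsep hcompl ⊤
      (fun _ _ => trivial) dx dn 𝔞 ?_ (by simp) z hz
    intro n z hz
    obtain ⟨p, hp, hpz⟩ := (Ideal.mem_span_pow_iff_exists_isHomogeneous a z).mp
      (by rw [haJ]; exact hz.2)
    have hgS : π p ∈ S := ⟨n, p, hp, rfl, by rw [hpz]; exact Ideal.mem_sup_left hz.1⟩
    have hgT : π p ∈ Ideal.span (Set.range (fun h : T => h.1)) := by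
      have hr : Set.range (fun h : T => h.1) = (T : Set _) := Subtype.range_coe
      rw [hr]
      have : π p ∈ Ideal.span S := Ideal.subset_span hgS
      rw [Ideal.span, hT] at this
      exact this
    obtain ⟨q, hq⟩ := Ideal.mem_span_range_iff_exists_fun.mp hgT
    have hgmem : π p ∈ homogeneousSubmodule (Fin r) (A ⧸ J) n :=
      (mem_homogeneousSubmodule _ _).mpr (hp.map _)
    have hhmem : ∀ h : T, h.1 ∈ homogeneousSubmodule (Fin r) (A ⧸ J) (dn h) := fun h => by
      rw [← hdπ h]; exact (mem_homogeneousSubmodule _ _).mpr ((hdp h).map _)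
    have e0 : (DirectSum.decompose (homogeneousSubmodule (Fin r) (A ⧸ J)) (π p) n :
        MvPolynomial (Fin r) (A ⧸ J)) = π p := DirectSum.decompose_of_mem_same _ hgmem
    have e1 : (DirectSum.decompose (homogeneousSubmodule (Fin r) (A ⧸ J))
        (∑ h, q h * h.1) n : MvPolynomial (Fin r) (A ⧸ J)) =
        ∑ h : T, (if dn h ≤ n then
          (DirectSum.decompose (homogeneousSubmodule (Fin r) (A ⧸ J)) (q h) (n - dn h) :
            MvPolynomial (Fin r) (A ⧸ J)) * h.1 else 0) := by
      rw [DirectSum.decompose_sum, DFinsupp.finsetSum_apply, AddSubmonoidClass.coe_finset_sum]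
      exact Finset.sum_congr rfl (fun h _ =>
        DirectSum.coe_decompose_mul_of_right_mem _ n (hhmem h))
    rw [hq, e0] at e1
    have hlift : ∀ h : T, ∃ q' : MvPolynomial (Fin r) A, q'.IsHomogeneous (n - dn h) ∧
        π q' = (DirectSum.decompose (homogeneousSubmodule (Fin r) (A ⧸ J)) (q h) (n - dn h) :
          MvPolynomial (Fin r) (A ⧸ J)) := fun h =>
      exists_homogeneous_lift J _ _ ((mem_homogeneousSubmodule _ _).mp (SetLike.coe_mem _))
    choose q' hq'h hq'π using hlift
    let c : T → A := fun h => if dn h ≤ n then MvPolynomial.eval a (q' h) else 0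
    have hevq : ∀ h, MvPolynomial.eval a (q' h) ∈ J ^ (n - dn h) := fun h => by
      rw [← haJ]
      exact (Ideal.mem_span_pow_iff_exists_isHomogeneous a _).mpr ⟨q' h, hq'h h, rfl⟩
    have hcmem : ∀ h, c h ∈ J ^ (n - dn h) := by
      intro h
      simp only [c]
      split_ifs with hle
      · exact hevq h
      · exact Ideal.zero_mem _
    refine ⟨c, fun h => ⟨trivial, hcmem h⟩, ?_, ?_⟩
    · exact Ideal.sub_mem _ hz.1 (Ideal.sum_mem _ fun h _ => Ideal.mul_mem_left _ _ (hdx h))
    · let p' : MvPolynomial (Fin r) A := p - ∑ h, (if dn h ≤ n then q' h * dp h else 0)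
      have hp'hom : p'.IsHomogeneous n := by
        apply hp.sub
        apply IsHomogeneous.sum
        intro h _
        split_ifs with hle
        · have := (hq'h h).mul (hdp h)
          rwa [Nat.sub_add_cancel hle] at this
        · exact isHomogeneous_zero _ _ _
      have hp'π : π p' = 0 := by
        simp only [p', map_sub, map_sum]
        rw [sub_eq_zero, e1]
        apply Finset.sum_congr rfl
        intro h _
        split_ifs with hle
        · rw [map_mul, hq'π, hdπ]
        · rw [map_zero]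
      have hev : MvPolynomial.eval a p' ∈ J ^ (n + 1) := by
        rw [← haJ]
        exact eval_mem_pow_succ a n p' hp'hom (by rw [haJ]; exact hp'π)
      have hterm : ∀ h, c h * dx h =
          MvPolynomial.eval a (if dn h ≤ n then q' h * dp h else 0) -
            (if dn h ≤ n then MvPolynomial.eval a (q' h) * dj h else 0) := by
        intro h
        simp only [c]
        split_ifs with hle
        · rw [map_mul, ← hdxj h]; ring
        · simp
      have hfinal : z - ∑ h, c h * dx h = MvPolynomial.eval a p' +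
          ∑ h, (if dn h ≤ n then MvPolynomial.eval a (q' h) * dj h else 0) := by
        rw [Finset.sum_congr rfl (fun h _ => hterm h), Finset.sum_sub_distrib]
        simp only [p', map_sub, map_sum, hpz]
        ring
      show z - ∑ h, c h * dx h ∈ J ^ (n + 1)
      rw [hfinal]
      refine Ideal.add_mem _ hev (Ideal.sum_mem _ fun h _ => ?_)
      split_ifs with hle
      · have h1 := Ideal.mul_mem_mul (hevq h) (hdj h)
        rw [← pow_add] at h1
        have e : n - dn h + (dn h + 1) = n + 1 := by omega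
        rwa [e] at h1
      · exact Ideal.zero_mem _
  have h𝔞 : 𝔞 = Ideal.span (Set.range dx) :=
    le_antisymm (fun z hz => by
      obtain ⟨L, -, hL⟩ := key z hz
      rw [hL]
      exact Ideal.sum_mem _ fun i _ => Ideal.mul_mem_left _ _ (Ideal.subset_span ⟨i, rfl⟩))
      (Ideal.span_le.mpr (by rintro _ ⟨i, rfl⟩; exact hdx i))
  rw [h𝔞]
  exact Submodule.fg_span (Set.finite_range dx)

end Noeth

end Groth.Agent.H2.AdicLim
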