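import Groth.Prelude.Def_FSch3
import Groth.Agent.Lib.Helper2.IdealComap
import Groth.Agent.Lib.Helper2.FSchSpf

/-!
# Adic morphisms of systems of thickenings (helper2)
-/

set_option autoImplicit false
universe u

open CategoryTheory CategoryTheory.Limits AlgebraicGeometry

namespace Groth.Agent.H2.FSchAdic

open Groth.Agent.H2.FSchAff

variable {𝔛 𝔜 : FSch.Sys.{u}}

theorem toX_succ (𝔛 : FSch.Sys.{u}) (m : ℕ) : 𝔛.toX (m + 1) = 𝔛.toX m ≫ 𝔛.ι m := rfl

theorem toX_zero (𝔛 : FSch.Sys.{u}) : 𝔛.toX 0 = 𝟙 _ := rfl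

/-- For an adic morphism the squares over level `0` are cartesian. -/
theorem isPullback_toX (f : 𝔛 ⟶ 𝔜) (hf : FSch.IsAdicHom f) (m : ℕ) :
    IsPullback (𝔛.toX m) ((f : FSch.Hom _ _).app 0) ((f : FSch.Hom _ _).app m) (𝔜.toX m) := by
  induction m with
  | zero => exact IsPullback.of_id_fst
  | succ m ih => exact ih.paste_horiz (hf m)

theorem isClosedImmersion_toX (h : 𝔛.IsFormal) (m : ℕ) : IsClosedImmersion (𝔛.toX m) := by
  induction m with
  | zero => rw [toX_zero]; infer_instance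
  | succ m ih =>
    rw [toX_succ]
    have := (h m).1
    infer_instance

theorem isFormal_of_isAdicHom (f : 𝔛 ⟶ 𝔜) (hf : FSch.IsAdicHom f) (h𝔜 : 𝔜.IsFormal) :
    𝔛.IsFormal := by
  intro n
  refine ⟨?_, ?_⟩
  · exact MorphismProperty.of_isPullback (P := @IsClosedImmersion) (hf n).flip (h𝔜 n).1
  · have : Surjective (𝔜.ι n) := ⟨(h𝔜 n).2⟩
    exact (MorphismProperty.of_isPullback (P := @Surjective) (hf n).flip this).surj

theorem isAdic_of_isAdicHom (f : 𝔛 ⟶ 𝔜) (hf : FSch.IsAdicHom f) (h𝔜 : 𝔜.IsFormal)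
    (h𝔜' : 𝔜.IsAdic) : 𝔛.IsAdic := by
  intro n
  have := (h𝔜 n).1
  have := isClosedImmersion_toX h𝔜 (n + 1)
  rw [← comap_ker_of_isPullback _ _ _ _ (hf n), h𝔜' n, comap_pow,
    comap_ker_of_isPullback _ _ _ _ (isPullback_toX f hf (n + 1))]

end Groth.Agent.H2.FSchAdic

namespace Groth.Agent.H2.FSchAdic

open Groth.Agent.H2.FSchAff

theorem isAdicHom_subSysι (𝔛 : FSch.Sys.{u}) (h𝔛 : 𝔛.IsFormal)
    (𝒜 : ∀ n, (𝔛.X n).IdealSheafData) (h : ∀ n, (𝒜 (n + 1)).comap (𝔛.ι n) = 𝒜 n) :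
    FSch.IsAdicHom (FSch.subSysι 𝔛 𝒜 (fun n ↦ (h n).le)) := by
  intro n
  have := (h𝔛 n).1
  have hle : 𝒜 (n + 1) ≤ (𝒜 n).map (𝔛.ι n) :=
    Scheme.IdealSheafData.le_map_iff_comap_le.mpr (h n).le
  change IsPullback (Scheme.IdealSheafData.subschemeMap (𝒜 n) (𝒜 (n + 1)) (𝔛.ι n) hle)
    (𝒜 n).subschemeι (𝒜 (n + 1)).subschemeι (𝔛.ι n)
  refine (isPullback_of_isClosedImmersion _ _ _ _ ?_ ?_).flip
  · exact (Scheme.IdealSheafData.subschemeMap_subschemeι _ _ _ hle).symm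
  · rw [Scheme.IdealSheafData.ker_subschemeι, Scheme.IdealSheafData.ker_subschemeι, h n]

theorem subSys_isLocNoethFormal (𝔛 : FSch.Sys.{u}) (h𝔛 : 𝔛.IsLocNoethFormal)
    (𝒜 : ∀ n, (𝔛.X n).IdealSheafData) (h : ∀ n, (𝒜 (n + 1)).comap (𝔛.ι n) = 𝒜 n) :
    (FSch.subSys 𝔛 𝒜 (fun n ↦ (h n).le)).IsLocNoethFormal := by
  have hA := isAdicHom_subSysι 𝔛 h𝔛.1 𝒜 h
  refine ⟨isFormal_of_isAdicHom _ hA h𝔛.1, isAdic_of_isAdicHom _ hA h𝔛.1 h𝔛.2.1, fun n => ?_⟩
  have := h𝔛.2.2 n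
  have : IsLocallyNoetherian (𝒜 n).subscheme :=
    LocallyOfFiniteType.isLocallyNoetherian (𝒜 n).subschemeι
  exact this

end Groth.Agent.H2.FSchAdic

namespace Groth.Agent.H2.FSchAdic

open Groth.Agent.H2.FSchAff

/-- A ring is Noetherian if it has a finitely generated nil ideal with Noetherian quotient. -/
theorem isNoetherianRing_of_quotient {B : Type*} [CommRing B] (N : Ideal B) (hN : N.FG)
    (hnil : N ≤ nilradical B) [IsNoetherianRing (B ⧸ N)] : IsNoetherianRing B := by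
  apply IsNoetherianRing.of_prime
  intro P hP
  have hNP : N ≤ P := hnil.trans (nilradical_le_prime P)
  have hfg : (P.map (Ideal.Quotient.mk N)).FG := IsNoetherian.noetherian _
  obtain ⟨s, hs⟩ := hfg
  have hsurj : Function.Surjective (Ideal.Quotient.mk N) := Ideal.Quotient.mk_surjective
  classical
  choose g hg using hsurj
  have hP : P = Ideal.span ((s.image g : Finset B) : Set B) ⊔ N := by
    have h1 : (Ideal.span ((s.image g : Finset B) : Set B)).map (Ideal.Quotient.mk N) =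
        P.map (Ideal.Quotient.mk N) := by
      rw [Ideal.map_span, ← hs]
      congr 1
      ext x
      simp only [Finset.coe_image, Set.mem_image, Finset.mem_coe]
      constructor
      · rintro ⟨_, ⟨y, hy, rfl⟩, rfl⟩
        rwa [hg]
      · intro hx
        exact ⟨g x, ⟨x, hx, rfl⟩, hg x⟩
    have h2 := congrArg (Ideal.comap (Ideal.Quotient.mk N)) h1
    rw [Ideal.comap_map_of_surjective _ Ideal.Quotient.mk_surjective,
      Ideal.comap_map_of_surjective _ Ideal.Quotient.mk_surjective] at h2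
    have h3 : Ideal.comap (Ideal.Quotient.mk N) ⊥ = N := by
      rw [← RingHom.ker_eq_comap_bot, Ideal.mk_ker]
    rw [h3] at h2
    rw [h2]
    exact (sup_eq_left.mpr hNP).symm
  rw [hP]
  exact Submodule.FG.sup ⟨_, rfl⟩ hN

/-- A scheme with a locally Noetherian closed subscheme cut out by a nilpotent ideal sheaf of
finite type is locally Noetherian. -/
theorem isLocallyNoetherian_of_closedImmersion {Z X : Scheme.{u}} (t : Z ⟶ X)
    [IsClosedImmersion t] [IsLocallyNoetherian Z] {ι : Type*} (S : ι → X.affineOpens)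
    (hS : (⨆ i, (S i : X.Opens)) = ⊤) (hfg : ∀ i, (t.ker.ideal (S i)).FG) (k : ℕ)
    (hk : t.ker ^ k = ⊥) : IsLocallyNoetherian X := by
  apply isLocallyNoetherian_of_affine_cover hS
  intro i
  have haff : IsAffineOpen (t ⁻¹ᵁ (S i).1) := (S i).2.preimage t
  have hN : IsNoetherianRing Γ(Z, t ⁻¹ᵁ (S i).1) :=
    IsLocallyNoetherian.component_noetherian ⟨_, haff⟩
  have hsurj : Function.Surjective (t.app (S i).1).hom := t.app_surjective (S i).1 (S i).2
  have hker : RingHom.ker (t.app (S i).1).hom = t.ker.ideal (S i) :=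
    (Scheme.Hom.ker_apply t (S i)).symm
  have : IsNoetherianRing (Γ(X, (S i).1) ⧸ t.ker.ideal (S i)) := by
    rw [← hker]
    exact isNoetherianRing_of_ringEquiv _ (RingHom.quotientKerEquivOfSurjective hsurj).symm
  apply isNoetherianRing_of_quotient (t.ker.ideal (S i)) (hfg i)
  intro x hx
  refine ⟨k, ?_⟩
  have h1 : x ^ k ∈ (t.ker ^ k).ideal (S i) := by
    rw [Scheme.IdealSheafData.ideal_pow]
    exact Ideal.pow_mem_pow hx k
  rw [hk] at h1
  exact h1

theorem ker_toX_eq_comap (𝔛 : FSch.Sys.{u}) (h : 𝔛.IsFormal) (n : ℕ) :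
    (𝔛.toX n).ker = (𝔛.toX (n + 1)).ker.comap (𝔛.ι n) := by
  have := (h n).1
  have := isClosedImmersion_toX h (n + 1)
  have hp : IsPullback (𝔛.toX n) (𝟙 _) (𝔛.ι n) (𝔛.toX (n + 1)) :=
    IsPullback.of_vert_isIso_mono ⟨by rw [Category.id_comp, toX_succ]⟩
  exact (comap_ker_of_isPullback _ _ _ _ hp).symm

theorem ker_toX_pow (𝔛 : FSch.Sys.{u}) (h : 𝔛.IsFormal) (h' : 𝔛.IsAdic) (n : ℕ) :
    (𝔛.toX n).ker ^ (n + 1) = ⊥ := by
  have := (h n).1
  rw [ker_toX_eq_comap 𝔛 h n, ← comap_pow, ← h' n]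
  have hp : IsPullback (𝟙 (𝔛.X n)) (𝟙 _) (𝔛.ι n) (𝔛.ι n) := IsKernelPair.id_of_mono _
  rw [comap_ker_of_isPullback _ _ _ _ hp]
  exact IsClosedImmersion.isIso_iff_ker_eq_bot.mp inferInstance

theorem isLocNoethFormal_of_isAdicHom {𝔛 𝔖 : FSch.Sys.{u}} (f : 𝔛 ⟶ 𝔖)
    (h𝔖 : 𝔖.IsLocNoethFormal) (hf : FSch.IsAdicHom f) [IsLocallyNoetherian (𝔛.X 0)] :
    𝔛.IsLocNoethFormal := by
  have hF := isFormal_of_isAdicHom f hf h𝔖.1
  have hA := isAdic_of_isAdicHom f hf h𝔖.1 h𝔖.2.1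
  refine ⟨hF, hA, fun n => ?_⟩
  have := isClosedImmersion_toX hF n
  have := isClosedImmersion_toX h𝔖.1 n
  have hK : (𝔛.toX n).ker = (𝔖.toX n).ker.comap ((f : FSch.Hom _ _).app n) :=
    (comap_ker_of_isPullback _ _ _ _ (isPullback_toX f hf n)).symm
  refine isLocallyNoetherian_of_closedImmersion (𝔛.toX n)
    (fun p : AffPair ((f : FSch.Hom _ _).app n) => p.1.1) (iSup_affPair _) (fun p => ?_) (n + 1)
    (ker_toX_pow 𝔛 hF hA n)
  rw [hK, ideal_comap _ _ p.1.1 p.1.2 p.2]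
  have := h𝔖.2.2 n
  have : IsNoetherianRing Γ(𝔖.X n, p.1.2.1) := IsLocallyNoetherian.component_noetherian p.1.2
  exact Ideal.FG.map (IsNoetherian.noetherian _) _

end Groth.Agent.H2.FSchAdic

namespace Groth.Agent.H2.FSchAdic

open Groth.Agent.H2.FSchAff

theorem isAdicHom_pullbackSnd {𝔛 𝔖 𝔖' : FSch.Sys.{u}} (f : 𝔛 ⟶ 𝔖) (g : 𝔖' ⟶ 𝔖)
    (hf : FSch.IsAdicHom f) : FSch.IsAdicHom (FSch.pullbackSnd f g) := by
  intro n
  have top : IsPullback (pullback.snd ((f : FSch.Hom _ _).app n) ((g : FSch.Hom _ _).app n))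
      (pullback.fst ((f : FSch.Hom _ _).app n) ((g : FSch.Hom _ _).app n))
      ((g : FSch.Hom _ _).app n) ((f : FSch.Hom _ _).app n) :=
    (IsPullback.of_hasPullback _ _).flip
  have big := top.paste_vert (hf n).flip
  have bot : IsPullback
      (pullback.snd ((f : FSch.Hom _ _).app (n + 1)) ((g : FSch.Hom _ _).app (n + 1)))
      (pullback.fst ((f : FSch.Hom _ _).app (n + 1)) ((g : FSch.Hom _ _).app (n + 1)))
      ((g : FSch.Hom _ _).app (n + 1)) ((f : FSch.Hom _ _).app (n + 1)) :=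
    (IsPullback.of_hasPullback _ _).flip
  have e1 : pullback.fst ((f : FSch.Hom _ _).app n) ((g : FSch.Hom _ _).app n) ≫ 𝔛.ι n =
      (FSch.pullbackSys f g).ι n ≫
        pullback.fst ((f : FSch.Hom _ _).app (n + 1)) ((g : FSch.Hom _ _).app (n + 1)) :=
    (pullback.lift_fst _ _ _).symm
  have e2 : pullback.snd ((f : FSch.Hom _ _).app n) ((g : FSch.Hom _ _).app n) ≫ 𝔖'.ι n =
      (FSch.pullbackSys f g).ι n ≫
        pullback.snd ((f : FSch.Hom _ _).app (n + 1)) ((g : FSch.Hom _ _).app (n + 1)) :=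
    (pullback.lift_snd _ _ _).symm
  rw [e1, (g : FSch.Hom _ _).comm n] at big
  exact (IsPullback.of_bot big e2 bot).flip

theorem pullbackSys_result {𝔛 𝔖 𝔖' : FSch.Sys.{u}} (f : 𝔛 ⟶ 𝔖) (g : 𝔖' ⟶ 𝔖)
    (h𝔖' : 𝔖'.IsLocNoethFormal) (hf : FSch.IsAdicHom f)
    [LocallyOfFiniteType ((f : FSch.Hom 𝔛 𝔖).app 0)] :
    (FSch.pullbackSys f g).IsLocNoethFormal ∧ FSch.IsAdicHom (FSch.pullbackSnd f g) ∧
      LocallyOfFiniteType ((FSch.pullbackSnd f g : FSch.Hom _ _).app 0) := by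
  have hA := isAdicHom_pullbackSnd f g hf
  have hL : LocallyOfFiniteType ((FSch.pullbackSnd f g : FSch.Hom _ _).app 0) := by
    change LocallyOfFiniteType (pullback.snd ((f : FSch.Hom 𝔛 𝔖).app 0) ((g : FSch.Hom _ _).app 0))
    infer_instance
  refine ⟨?_, hA, hL⟩
  have := h𝔖'.2.2 0
  have : IsLocallyNoetherian ((FSch.pullbackSys f g).X 0) :=
    LocallyOfFiniteType.isLocallyNoetherian ((FSch.pullbackSnd f g : FSch.Hom _ _).app 0)
  exact isLocNoethFormal_of_isAdicHom (FSch.pullbackSnd f g) h𝔖' hA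

end Groth.Agent.H2.FSchAdic

namespace Groth.Agent.H2.FSchAdic

open Groth.Agent.H2.FSchAff

/-- Nakayama for nilpotent ideals: a nilpotent ideal whose image modulo (part of) its square is
finitely generated is finitely generated. -/
theorem fg_of_map_fg {B C : Type*} [CommRing B] [CommRing C] (φ : B →+* C)
    (hφ : Function.Surjective φ) (K : Ideal B) (hker : RingHom.ker φ ≤ K ^ 2) (k : ℕ)
    (hk : K ^ k = ⊥) (h : (K.map φ).FG) : K.FG := by
  obtain ⟨s, hs⟩ := h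
  have hmem : ∀ c ∈ s, ∃ b ∈ K, φ b = c := fun c hc => by
    have : c ∈ K.map φ := hs ▸ Ideal.subset_span hc
    exact (Ideal.mem_map_iff_of_surjective φ hφ).mp this
  choose! g hgK hg using hmem
  classical
  have hIK : Ideal.span ((s.image g : Finset B) : Set B) ≤ K := by
    refine Ideal.span_le.mpr ?_
    intro b hb
    simp only [Finset.coe_image, Set.mem_image, Finset.mem_coe] at hb
    obtain ⟨c, hc, rfl⟩ := hb
    exact hgK c hc
  have hmap : (Ideal.span ((s.image g : Finset B) : Set B)).map φ = K.map φ := by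
    rw [Ideal.map_span, ← hs]
    congr 1
    ext x
    simp only [Finset.coe_image, Set.mem_image, Finset.mem_coe]
    constructor
    · rintro ⟨_, ⟨y, hy, rfl⟩, rfl⟩
      rwa [hg y hy]
    · intro hx
      exact ⟨g x, ⟨x, hx, rfl⟩, hg x hx⟩
  have hle : K ≤ Ideal.span ((s.image g : Finset B) : Set B) ⊔ K ^ 2 := by
    have h2 := congrArg (Ideal.comap φ) hmap
    rw [Ideal.comap_map_of_surjective _ hφ, Ideal.comap_map_of_surjective _ hφ] at h2
    calc K ≤ K ⊔ Ideal.comap φ ⊥ := le_sup_left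
      _ = Ideal.span ((s.image g : Finset B) : Set B) ⊔ Ideal.comap φ ⊥ := h2.symm
      _ ≤ Ideal.span ((s.image g : Finset B) : Set B) ⊔ K ^ 2 := sup_le_sup_left hker _
  have hj : ∀ j, 1 ≤ j → K ≤ Ideal.span ((s.image g : Finset B) : Set B) ⊔ K ^ j := by
    intro j hj
    induction j, hj using Nat.le_induction with
    | base => rw [pow_one]; exact le_sup_right
    | succ j hj ih =>
      refine hle.trans (sup_le le_sup_left ?_)
      calc K ^ 2 = K * K := pow_two K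
        _ ≤ (Ideal.span ((s.image g : Finset B) : Set B) ⊔ K ^ j) * K := Ideal.mul_mono_left ih
        _ = Ideal.span ((s.image g : Finset B) : Set B) * K ⊔ K ^ j * K := Ideal.sup_mul _ _ _
        _ ≤ Ideal.span ((s.image g : Finset B) : Set B) ⊔ K ^ (j + 1) :=
          sup_le_sup Ideal.mul_le_left (pow_succ K j).ge
  have hK : K = Ideal.span ((s.image g : Finset B) : Set B) := by
    apply le_antisymm _ hIK
    rcases Nat.eq_zero_or_pos k with rfl | hkpos
    · rw [pow_zero, Ideal.one_eq_top] at hk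
      intro x _
      have : x ∈ (⊤ : Ideal B) := trivial
      rw [hk] at this
      rw [(Ideal.mem_bot).mp this]
      exact Ideal.zero_mem _
    · have := hj k hkpos
      rwa [hk, sup_bot_eq] at this
  rw [hK]
  exact ⟨_, rfl⟩

theorem idealFT_ker_toX (𝔛 : FSch.Sys.{u}) (hF : 𝔛.IsFormal) (hA : 𝔛.IsAdic)
    (hft : FSch.IdealFT (𝔛.ι 0).ker) (n : ℕ) : FSch.IdealFT (𝔛.toX (n + 1)).ker := by
  induction n with
  | zero =>
    have : 𝔛.toX (0 + 1) = 𝔛.ι 0 := by rw [toX_succ, toX_zero, Category.id_comp]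
    rwa [this]
  | succ n ih =>
    intro U
    have := (hF (n + 1)).1
    have := isClosedImmersion_toX hF (n + 1 + 1)
    have hV := ih ⟨𝔛.ι (n + 1) ⁻¹ᵁ U.1, U.2.preimage _⟩
    rw [ker_toX_eq_comap 𝔛 hF (n + 1),
      ideal_comap (𝔛.ι (n + 1)) _ ⟨𝔛.ι (n + 1) ⁻¹ᵁ U.1, U.2.preimage _⟩ U le_rfl] at hV
    refine fg_of_map_fg _ ?_ _ ?_ (n + 1 + 1 + 1) ?_ hV
    · rw [← Scheme.Hom.app_eq_appLE]
      exact (𝔛.ι (n + 1)).app_surjective U.1 U.2
    · rw [← Scheme.Hom.app_eq_appLE, ← Scheme.Hom.ker_apply, hA (n + 1),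
        Scheme.IdealSheafData.ideal_pow]
      exact Ideal.pow_le_pow_right (by omega)
    · have := ker_toX_pow 𝔛 hF hA (n + 1 + 1)
      have h2 := congrArg (fun I => Scheme.IdealSheafData.ideal I U) this
      simpa using h2

theorem isLocallyNoetherian_level (𝔛 : FSch.Sys.{u}) (hF : 𝔛.IsFormal) (hA : 𝔛.IsAdic)
    [IsLocallyNoetherian (𝔛.X 0)] (hft : FSch.IdealFT (𝔛.ι 0).ker) (n : ℕ) :
    IsLocallyNoetherian (𝔛.X n) := by
  cases n with
  | zero => infer_instance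
  | succ n =>
    have := isClosedImmersion_toX hF (n + 1)
    exact isLocallyNoetherian_of_closedImmersion (𝔛.toX (n + 1))
      (fun U : (𝔛.X (n + 1)).affineOpens => U) (iSup_affineOpens_eq_top _)
      (fun U => idealFT_ker_toX 𝔛 hF hA hft n U) (n + 1 + 1) (ker_toX_pow 𝔛 hF hA (n + 1))

end Groth.Agent.H2.FSchAdic
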