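import Groth.Agent.Lib.Helper2.AdicLimB
import Groth.Agent.Lib.Helper2.AdicLimC
import Groth.Agent.Lib.Helper2.FSchAdic
import Groth.Agent.Lib.Helper1.ThickAff2

/-!
# A system of thickenings of an affine Noetherian scheme is a formal spectrum (helper2)
EGA I 10.6.3/10.6.4.
-/

universe u

open CategoryTheory AlgebraicGeometry

namespace Groth.Agent.H2.AdicLim

open Groth.Agent.H2.FSchAdic

/-- An isomorphism of systems from levelwise isomorphisms. -/
noncomputable def sysIsoOfLevelwise {𝔛 𝔜 : FSch.Sys.{u}} (e : ∀ n, 𝔛.X n ≅ 𝔜.X n)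
    (h : ∀ n, (e n).hom ≫ 𝔜.ι n = 𝔛.ι n ≫ (e (n + 1)).hom) : 𝔛 ≅ 𝔜 where
  hom := (⟨fun n => (e n).hom, h⟩ : FSch.Hom 𝔛 𝔜)
  inv := (⟨fun n => (e n).inv, fun n => by
    rw [Iso.inv_comp_eq, ← Category.assoc, Iso.eq_comp_inv]
    exact (h n).symm⟩ : FSch.Hom 𝔜 𝔛)
  hom_inv_id := FSch.Hom.ext (funext fun n => (e n).hom_inv_id)
  inv_hom_id := FSch.Hom.ext (funext fun n => (e n).inv_hom_id)

/-- An affine scheme is the spectrum of any ring isomorphic to its ring of global sections. -/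
noncomputable def specIsoOfRingEquiv {X : Scheme.{u}} [IsAffine X] {B : Type u} [CommRing B]
    (e : B ≃+* Γ(X, ⊤)) : X ≅ Spec (CommRingCat.of B) where
  hom := X.isoSpec.hom ≫ Spec.map (CommRingCat.ofHom e.toRingHom)
  inv := Spec.map (CommRingCat.ofHom e.symm.toRingHom) ≫ X.isoSpec.inv
  hom_inv_id := by
    have h : Spec.map (CommRingCat.ofHom e.toRingHom) ≫
        Spec.map (CommRingCat.ofHom e.symm.toRingHom) = 𝟙 _ := by
      rw [← Spec.map_comp, ← CommRingCat.ofHom_comp]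
      have : e.toRingHom.comp e.symm.toRingHom = RingHom.id _ := by ext; simp
      rw [this]
      simp
    rw [Category.assoc, reassoc_of% h]
    exact X.isoSpec.hom_inv_id
  inv_hom_id := by
    rw [Category.assoc, ← Category.assoc X.isoSpec.inv, Iso.inv_hom_id, Category.id_comp,
      ← Spec.map_comp, ← CommRingCat.ofHom_comp]
    have : e.symm.toRingHom.comp e.toRingHom = RingHom.id _ := by ext; simp
    rw [this]
    simp

theorem surjective_toX' (𝔛 : FSch.Sys.{u}) (h : 𝔛.IsFormal) (m : ℕ) :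
    Function.Surjective (𝔛.toX m) := by
  induction m with
  | zero => rw [toX_zero]; exact fun x => ⟨x, rfl⟩
  | succ m ih =>
    rw [toX_succ]
    intro y
    obtain ⟨x, rfl⟩ := (h m).2 y
    obtain ⟨z, rfl⟩ := ih x
    exact ⟨z, rfl⟩

theorem isAffine_level (𝔛 : FSch.Sys.{u}) (hF : 𝔛.IsFormal) (hA : 𝔛.IsAdic)
    [IsAffine (𝔛.X 0)] (n : ℕ) : IsAffine (𝔛.X n) := by
  have := isClosedImmersion_toX hF n
  exact Groth.Agent.H1.ThickAff.isAffine_of_ker_pow_eq_bot (n + 1) (𝔛.toX n)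
    (surjective_toX' 𝔛 hF n) (ker_toX_pow 𝔛 hF hA n)

/-- EGA I 10.6.3/10.6.4: an adic system of thickenings of an affine (locally) Noetherian scheme with
first kernel of finite type is the formal spectrum of an adic Noetherian ring. -/
theorem main (𝔛 : FSch.Sys.{u}) (hF : 𝔛.IsFormal) (hA : 𝔛.IsAdic)
    [IsAffine (𝔛.X 0)] [IsLocallyNoetherian (𝔛.X 0)] (hft : FSch.IdealFT (𝔛.ι 0).ker) :
    ∃ (A : Type u) (_ : CommRing A) (J : Ideal A),
      IsNoetherianRing A ∧ IsAdicComplete J A ∧ Nonempty (𝔛 ≅ FSch.spf A J) := by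
  have haff : ∀ n, IsAffine (𝔛.X n) := isAffine_level 𝔛 hF hA
  have hcl : ∀ n, IsClosedImmersion (𝔛.ι n) := fun n => (hF n).1
  have hclX : ∀ n, IsClosedImmersion (𝔛.toX n) := fun n => isClosedImmersion_toX hF n
  let R : ℕ → Type u := fun n => Γ(𝔛.X n, ⊤)
  let ρ : ∀ n, R (n + 1) →+* R n := fun n => (𝔛.ι n).appTop.hom
  have hρ : ∀ n, Function.Surjective (ρ n) := fun n =>
    (𝔛.ι n).app_surjective ⊤ (isAffineOpen_top _)
  have htz : ∀ n, toZero ρ n = (𝔛.toX n).appTop.hom := by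
    intro n
    induction n with
    | zero => rfl
    | succ n ih =>
      show (toZero ρ n).comp (ρ n) = _
      rw [ih, toX_succ, Scheme.Hom.comp_appTop, CommRingCat.hom_comp]
  have hKid : ∀ n, K ρ n = (𝔛.toX n).ker.ideal ⟨⊤, isAffineOpen_top _⟩ := fun n => by
    rw [Scheme.Hom.ker_apply]
    show RingHom.ker (toZero ρ n) = _
    rw [htz]
    rfl
  have hker : ∀ n, RingHom.ker (ρ n) = K ρ (n + 1) ^ (n + 1) := fun n => by
    rw [hKid, ← Pi.pow_apply, ← Scheme.IdealSheafData.ideal_pow, ← hA n, Scheme.Hom.ker_apply]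
    rfl
  have hfg : (K ρ 1).FG := by
    have h1 := hft ⟨⊤, isAffineOpen_top _⟩
    rw [Scheme.Hom.ker_apply] at h1
    have e : K ρ 1 = RingHom.ker (ρ 0) := by
      ext y
      simp only [K, RingHom.mem_ker]
      rfl
    rw [e]
    exact h1
  have : IsNoetherianRing (R 0) :=
    IsLocallyNoetherian.component_noetherian ⟨⊤, isAffineOpen_top _⟩
  obtain ⟨hJfg, hk, hsep, hcompl⟩ := main_alg ρ hρ hker hfg
  have : IsNoetherianRing (limRing ρ ⧸ J ρ) :=
    isNoetherianRing_of_ringEquiv (R 0)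
      (RingHom.quotientKerEquivOfSurjective (proj_surjective ρ hρ 0)).symm
  refine ⟨limRing ρ, inferInstance, J ρ, isNoetherianRing_of_adic (J ρ) hJfg hsep hcompl,
    isAdicComplete_of (J ρ) hsep hcompl, ⟨?_⟩⟩
  let e : ∀ n, (limRing ρ ⧸ J ρ ^ (n + 1)) ≃+* R n := fun n =>
    (Ideal.quotEquivOfEq (hk n).symm).trans
      (RingHom.quotientKerEquivOfSurjective (proj_surjective ρ hρ n))
  have he : ∀ n x, e n (Ideal.Quotient.mk _ x) = proj ρ n x := fun n x => rfl
  refine sysIsoOfLevelwise (fun n => specIsoOfRingEquiv (X := 𝔛.X n) (e n)) (fun n => ?_)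
  show ((𝔛.X n).isoSpec.hom ≫ Spec.map (CommRingCat.ofHom (e n).toRingHom)) ≫
      Spec.map (CommRingCat.ofHom
        (Ideal.Quotient.factor (Ideal.pow_le_pow_right (Nat.le_succ (n + 1))))) =
    𝔛.ι n ≫ ((𝔛.X (n + 1)).isoSpec.hom ≫ Spec.map (CommRingCat.ofHom (e (n + 1)).toRingHom))
  rw [← Scheme.isoSpec_hom_naturality_assoc, Category.assoc, ← Spec.map_comp, ← Spec.map_comp]
  congr 2
  ext x
  show e n (Ideal.Quotient.mk _ x) = ρ n (e (n + 1) (Ideal.Quotient.mk _ x))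
  rw [he, he, proj_comp]

end Groth.Agent.H2.AdicLim
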