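import Mathlib

/-!
# Regular elements and principal-adic completion with bounded torsion
-/

namespace Groth.Agent.H2.AdicReg

open Pointwise AdicCompletion

universe u

variable {A : Type u} [CommRing A] (a : A)

lemma mem_pow_smul_top_iff {M : Type*} [AddCommGroup M] [Module A M] (n : ℕ) (m : M) :
    m ∈ ((Ideal.span {a}) ^ n • ⊤ : Submodule A M) ↔ ∃ m', m = a ^ n • m' := by
  rw [Ideal.span_singleton_pow, Submodule.ideal_span_singleton_smul]
  constructor
  · rintro ⟨m', -, rfl⟩
    exact ⟨m', rfl⟩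
  · rintro ⟨m', rfl⟩
    exact Submodule.smul_mem_pointwise_smul _ _ _ Submodule.mem_top

lemma pow_smul_mem {M : Type*} [AddCommGroup M] [Module A M] {n k : ℕ} (hk : n ≤ k) (m : M) :
    a ^ k • m ∈ ((Ideal.span {a}) ^ n • ⊤ : Submodule A M) := by
  rw [mem_pow_smul_top_iff]
  refine ⟨a ^ (k - n) • m, ?_⟩
  rw [← mul_smul, ← pow_add]
  congr 2
  omega

lemma mk_eq_zero_iff {M : Type*} [AddCommGroup M] [Module A M]
    (f : AdicCauchySequence (Ideal.span {a}) M) :
    AdicCompletion.mk (Ideal.span {a}) M f = 0 ↔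
      ∀ n, f n ∈ ((Ideal.span {a}) ^ n • ⊤ : Submodule A M) := by
  constructor
  · intro h n
    have := congrArg (fun v => v.val n) h
    simpa [Submodule.Quotient.mk_eq_zero] using this
  · intro h
    ext n
    simpa [Submodule.Quotient.mk_eq_zero] using h n

section

variable {M M' : Type u} [AddCommGroup M] [Module A M] [AddCommGroup M'] [Module A M']
  (g : M →ₗ[A] M') (x : A)

/-- Artin–Rees-type statement. -/
lemma mem_of_smul_mem (hker : ∀ m, g m = 0 ↔ ∃ m', m = x • m') (hreg : IsSMulRegular M x)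
    (N : ℕ) (hbd : ∀ y : M', (∃ m : ℕ, a ^ m • y = 0) → a ^ N • y = 0) (n : ℕ) (v : M)
    (hv : x • v ∈ ((Ideal.span {a}) ^ (n + N) • ⊤ : Submodule A M)) :
    v ∈ ((Ideal.span {a}) ^ n • ⊤ : Submodule A M) := by
  rw [mem_pow_smul_top_iff] at hv ⊢
  obtain ⟨c, hc⟩ := hv
  have h1 : a ^ (n + N) • g c = 0 := by
    rw [← map_smul, ← hc, (hker _).mpr ⟨v, rfl⟩]
  have h2 : a ^ N • g c = 0 := hbd _ ⟨_, h1⟩
  rw [← map_smul, hker] at h2
  obtain ⟨d, hd⟩ := h2
  refine ⟨d, hreg ?_⟩
  change x • v = x • a ^ n • d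
  rw [hc, pow_add, mul_smul, hd, smul_comm]

theorem isSMulRegular_completion (hker : ∀ m, g m = 0 ↔ ∃ m', m = x • m')
    (hreg : IsSMulRegular M x)
    (N : ℕ) (hbd : ∀ y : M', (∃ m : ℕ, a ^ m • y = 0) → a ^ N • y = 0) :
    IsSMulRegular (AdicCompletion (Ideal.span {a}) M) x := by
  rw [isSMulRegular_iff_right_eq_zero_of_smul]
  intro v hv
  obtain ⟨f, rfl⟩ := AdicCompletion.mk_surjective _ _ v
  rw [← map_smul, mk_eq_zero_iff] at hv
  rw [mk_eq_zero_iff]
  intro n
  have h1 : f (n + N) ∈ ((Ideal.span {a}) ^ n • ⊤ : Submodule A M) :=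
    mem_of_smul_mem a g x hker hreg N hbd n _ (hv (n + N))
  have h2 : f n - f (n + N) ∈ ((Ideal.span {a}) ^ n • ⊤ : Submodule A M) :=
    (SModEq.sub_mem).mp (f.property (Nat.le_add_right n N))
  have := Submodule.add_mem _ h2 h1
  rwa [sub_add_cancel] at this

theorem map_eq_zero_iff (hsurj : Function.Surjective g)
    (hker : ∀ m, g m = 0 ↔ ∃ m', m = x • m') (hreg : IsSMulRegular M x)
    (N : ℕ) (hbd : ∀ y : M', (∃ m : ℕ, a ^ m • y = 0) → a ^ N • y = 0)
    (v : AdicCompletion (Ideal.span {a}) M) :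
    AdicCompletion.map (Ideal.span {a}) g v = 0 ↔ ∃ w : AdicCompletion (Ideal.span {a}) M,
      v = x • w := by
  constructor
  · intro hv
    obtain ⟨f, rfl⟩ := AdicCompletion.mk_surjective _ _ v
    rw [AdicCompletion.map_mk, mk_eq_zero_iff] at hv
    have h1 : ∀ n, ∃ w c : M, f n = x • w + a ^ n • c := by
      intro n
      have := hv n
      rw [mem_pow_smul_top_iff] at this
      obtain ⟨c', hc'⟩ := this
      obtain ⟨c, rfl⟩ := hsurj c'
      have h0 : g (f n - a ^ n • c) = 0 := by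
        rw [map_sub, map_smul]
        exact sub_eq_zero.mpr hc'
      obtain ⟨w, hw⟩ := (hker _).mp h0
      exact ⟨w, c, by rw [← hw]; abel⟩
    choose w c hwc using h1
    have hcauchy : ∀ n, w (n + N) ≡ w (n + 1 + N) [SMOD ((Ideal.span {a}) ^ n • ⊤ : Submodule A M)] := by
      intro n
      rw [SModEq.sub_mem]
      apply mem_of_smul_mem a g x hker hreg N hbd n
      have e1 : x • (w (n + N) - w (n + 1 + N)) =
          (f (n + N) - f (n + 1 + N)) - a ^ (n + N) • c (n + N)
            + a ^ (n + 1 + N) • c (n + 1 + N) := by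
        rw [hwc (n + N), hwc (n + 1 + N), smul_sub]
        abel
      rw [e1]
      refine Submodule.add_mem _ (Submodule.sub_mem _ ?_ ?_) ?_
      · exact (SModEq.sub_mem).mp (f.property (by omega : n + N ≤ n + 1 + N))
      · exact pow_smul_mem a le_rfl _
      · exact pow_smul_mem a (by omega) _
    let h : AdicCauchySequence (Ideal.span {a}) M :=
      AdicCauchySequence.mk (Ideal.span {a}) M (fun n => w (n + N)) hcauchy
    refine ⟨AdicCompletion.mk _ _ h, ?_⟩
    rw [← map_smul, ← sub_eq_zero, ← map_sub, mk_eq_zero_iff]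
    intro n
    have e2 : (f - x • h) n = (f n - f (n + N)) + a ^ (n + N) • c (n + N) := by
      change f n - x • w (n + N) = _
      have := hwc (n + N)
      rw [this]
      abel
    rw [e2]
    refine Submodule.add_mem _ ?_ (pow_smul_mem a (by omega) _)
    exact (SModEq.sub_mem).mp (f.property (Nat.le_add_right n N))
  · rintro ⟨w, rfl⟩
    rw [LinearMap.map_smul_of_tower]
    have hkill : ∀ y : M', x • y = 0 := by
      intro y
      obtain ⟨m, rfl⟩ := hsurj y
      rw [← map_smul]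
      exact (hker _).mpr ⟨m, rfl⟩
    ext n
    rw [AdicCompletion.val_smul_apply]
    obtain ⟨m', hm'⟩ := Submodule.Quotient.mk_surjective _
      ((AdicCompletion.map (Ideal.span {a}) g w).val n)
    rw [← hm', ← Submodule.Quotient.mk_smul, hkill]
    rfl

end

end Groth.Agent.H2.AdicReg
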