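import Mathlib
import Groth.Agent.Lib.Helper2.AdicReg

/-!
# Regular sequences and principal-adic completion with bounded torsion: the induction
-/

namespace Groth.Agent.H2.AdicReg

open Pointwise AdicCompletion RingTheory.Sequence

universe u

variable {A : Type u} [CommRing A] (a : A)

/-- The kernel of `Â → (A/J)^` is `J Â`. -/
def Good (J : Ideal A) : Prop :=
  ∀ v : AdicCompletion (Ideal.span {a}) A,
    AdicCompletion.map (Ideal.span {a}) J.mkQ v = 0 ↔
      v ∈ J.map (algebraMap A (AdicCompletion (Ideal.span {a}) A))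

lemma good_bot (J : Ideal A) (hJ : J = ⊥) : Good a J := by
  subst hJ
  intro v
  rw [Ideal.map_bot, Ideal.mem_bot]
  constructor
  · intro h
    let e : (A ⧸ (⊥ : Ideal A)) ≃ₗ[A] A := Submodule.quotEquivOfEqBot ⊥ rfl
    have h1 : (e : (A ⧸ (⊥ : Ideal A)) →ₗ[A] A).comp (⊥ : Ideal A).mkQ = LinearMap.id :=
      LinearMap.ext fun x => Submodule.quotEquivOfEqBot_apply_mk (⊥ : Submodule A A) rfl x
    have h2 := AdicCompletion.map_comp_apply (Ideal.span {a}) (⊥ : Ideal A).mkQ
      (e : (A ⧸ (⊥ : Ideal A)) →ₗ[A] A) v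
    rw [h1, AdicCompletion.map_id, h] at h2
    simpa using h2.symm
  · rintro rfl
    exact map_zero _

lemma ker_factor (J J' : Ideal A) (r : A) (hJ' : J' = J ⊔ Ideal.span {r}) (hle : J ≤ J')
    (m : A ⧸ J) : Submodule.factor hle m = 0 ↔ ∃ m', m = r • m' := by
  obtain ⟨b, rfl⟩ := Submodule.Quotient.mk_surjective _ m
  change Submodule.factor hle (Submodule.mkQ J b) = 0 ↔ _
  rw [Submodule.factor_mk, Submodule.mkQ_apply, Submodule.Quotient.mk_eq_zero, hJ']
  constructor
  · intro hb
    obtain ⟨j, hj, z, hz, rfl⟩ := Submodule.mem_sup.mp hb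
    obtain ⟨c, rfl⟩ := Ideal.mem_span_singleton'.mp hz
    refine ⟨Submodule.Quotient.mk c, ?_⟩
    rw [← Submodule.Quotient.mk_smul, Submodule.Quotient.eq]
    simpa [mul_comm] using hj
  · rintro ⟨m', hm'⟩
    obtain ⟨c, rfl⟩ := Submodule.Quotient.mk_surjective _ m'
    rw [← Submodule.Quotient.mk_smul, Submodule.Quotient.eq] at hm'
    have : b = (b - r • c) + c * r := by
      rw [smul_eq_mul]
      ring
    rw [this]
    exact Submodule.add_mem_sup hm' (Ideal.mem_span_singleton'.mpr ⟨c, rfl⟩)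

theorem good_step (J J' : Ideal A) (r : A) (hJ' : J' = J ⊔ Ideal.span {r})
    (hreg : IsSMulRegular (A ⧸ J) r) (N : ℕ)
    (hbd : ∀ y : A ⧸ J', (∃ m : ℕ, a ^ m • y = 0) → a ^ N • y = 0) (hJ : Good a J) :
    Good a J' ∧ IsSMulRegular (AdicCompletion (Ideal.span {a}) (A ⧸ J)) r := by
  have hle : J ≤ J' := hJ' ▸ le_sup_left
  have hker := ker_factor J J' r hJ' hle
  have hsurj : Function.Surjective (Submodule.factor hle) := by
    intro y
    obtain ⟨b, rfl⟩ := Submodule.Quotient.mk_surjective _ y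
    exact ⟨Submodule.Quotient.mk b, rfl⟩
  refine ⟨?_, isSMulRegular_completion a (Submodule.factor hle) r hker hreg N hbd⟩
  intro v
  have hcomp : AdicCompletion.map (Ideal.span {a}) J'.mkQ v =
      AdicCompletion.map (Ideal.span {a}) (Submodule.factor hle)
        (AdicCompletion.map (Ideal.span {a}) J.mkQ v) := by
    rw [AdicCompletion.map_comp_apply, Submodule.factor_comp_mk]
  rw [hcomp, map_eq_zero_iff a (Submodule.factor hle) r hsurj hker hreg N hbd, hJ', Ideal.map_sup,
    Ideal.map_span, Set.image_singleton]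
  have hπsurj : Function.Surjective (AdicCompletion.map (Ideal.span {a}) J.mkQ) :=
    AdicCompletion.map_surjective _ (Submodule.mkQ_surjective J)
  constructor
  · rintro ⟨w', hw'⟩
    obtain ⟨w, rfl⟩ := hπsurj w'
    have h0 : AdicCompletion.map (Ideal.span {a}) J.mkQ (v - r • w) = 0 := by
      rw [map_sub, LinearMap.map_smul_of_tower, hw', sub_self]
    have h1 := (hJ _).mp h0
    have : v = (v - r • w) + w * algebraMap A _ r := by
      rw [Algebra.smul_def]
      ring
    rw [this]
    exact Submodule.add_mem_sup h1 (Ideal.mem_span_singleton'.mpr ⟨w, rfl⟩)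
  · intro hv
    obtain ⟨j, hj, z, hz, rfl⟩ := Submodule.mem_sup.mp hv
    obtain ⟨c, rfl⟩ := Ideal.mem_span_singleton'.mp hz
    refine ⟨AdicCompletion.map (Ideal.span {a}) J.mkQ c, ?_⟩
    rw [map_add, (hJ j).mpr hj, zero_add, ← LinearMap.map_smul_of_tower, Algebra.smul_def,
      mul_comm]

end Groth.Agent.H2.AdicReg
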