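import Mathlib
import Groth.Agent.Lib.Helper2.AdicReg2

/-!
# Regular sequences and principal-adic completion with bounded torsion: the theorem
-/

namespace Groth.Agent.H2.AdicReg

open Pointwise AdicCompletion RingTheory.Sequence

universe u

theorem main (A : Type u) [CommRing A] (a : A) (rs : List A)
    (hreg : IsWeaklyRegular A rs)
    (hbd : ∀ i ≤ rs.length, ∃ N : ℕ, ∀ x : A ⧸ Ideal.ofList (rs.take i),
      (∃ m : ℕ, a ^ m • x = 0) → a ^ N • x = 0) :
    IsWeaklyRegular (AdicCompletion (Ideal.span {a}) A)
        (rs.map (algebraMap A (AdicCompletion (Ideal.span {a}) A))) ∧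
      Function.Surjective (AdicCompletion.map (Ideal.span {a}) (Ideal.ofList rs).mkQ) ∧
      LinearMap.ker (AdicCompletion.map (Ideal.span {a}) (Ideal.ofList rs).mkQ) =
        (Ideal.ofList rs).map (algebraMap A (AdicCompletion (Ideal.span {a}) A)) := by
  have hreg' : ∀ i (h : i < rs.length),
      IsSMulRegular (A ⧸ Ideal.ofList (rs.take i)) rs[i] := by
    intro i h
    have h1 := (isWeaklyRegular_iff A rs).mp hreg i h
    rw [isSMulRegular_quotient_iff_mem_of_smul_mem] at h1
    refine (isSMulRegular_quotient_iff_mem_of_smul_mem (Ideal.ofList (rs.take i)) rs[i]).mpr ?_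
    intro x hx
    have h2 : (Ideal.ofList (rs.take i) • ⊤ : Submodule A A) = Ideal.ofList (rs.take i) := by
      rw [smul_eq_mul, Ideal.mul_top]
    rw [h2] at h1
    exact h1 x hx
  have hsucc : ∀ i (h : i < rs.length), Ideal.ofList (rs.take (i + 1)) =
      Ideal.ofList (rs.take i) ⊔ Ideal.span {rs[i]} := by
    intro i h
    rw [List.take_succ_eq_append_getElem h, Ideal.ofList_append, Ideal.ofList_singleton]
  have hgood : ∀ i, i ≤ rs.length → Good a (Ideal.ofList (rs.take i)) := by
    intro i
    induction i with
    | zero =>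
      intro _
      exact good_bot a _ (by simp)
    | succ i ih =>
      intro hi
      obtain ⟨N, hN⟩ := hbd (i + 1) hi
      exact (good_step a _ _ rs[i] (hsucc i hi) (hreg' i hi) N hN (ih (by omega))).1
  have hregc : ∀ i (h : i < rs.length),
      IsSMulRegular (AdicCompletion (Ideal.span {a}) (A ⧸ Ideal.ofList (rs.take i))) rs[i] := by
    intro i hi
    obtain ⟨N, hN⟩ := hbd (i + 1) hi
    exact (good_step a _ _ rs[i] (hsucc i hi) (hreg' i hi) N hN (hgood i (by omega))).2
  refine ⟨?_, AdicCompletion.map_surjective _ (Submodule.mkQ_surjective _), ?_⟩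
  · rw [isWeaklyRegular_iff]
    intro i h
    have hi : i < rs.length := by simpa using h
    rw [isSMulRegular_quotient_iff_mem_of_smul_mem]
    have hK : (Ideal.ofList ((rs.map (algebraMap A (AdicCompletion (Ideal.span {a}) A))).take i) • ⊤ :
        Submodule (AdicCompletion (Ideal.span {a}) A) (AdicCompletion (Ideal.span {a}) A)) =
        (Ideal.ofList (rs.take i)).map (algebraMap A (AdicCompletion (Ideal.span {a}) A)) := by
      rw [smul_eq_mul, Ideal.mul_top, Ideal.map_ofList, List.map_take]
    rw [hK]
    intro v hv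
    rw [← hgood i hi.le] at hv ⊢
    rw [List.getElem_map, map_smul, algebraMap_smul] at hv
    exact (hregc i hi).right_eq_zero_of_smul hv
  · have := hgood rs.length le_rfl
    rw [List.take_length] at this
    ext v
    exact this v

end Groth.Agent.H2.AdicReg
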