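import Mathlib.Algebra.Homology.HomotopyCategory.Plus
import Mathlib.CategoryTheory.Adjunction.Basic

/-!
# An adjunction of additive functors induces an adjunction on bounded below homotopy categories
-/

universe v v' u u'

open CategoryTheory CategoryTheory.Limits

namespace Groth.Agent.H2.AdjPlus

variable {A : Type u} [Category.{v} A] [Abelian A] {B : Type u'} [Category.{v'} B] [Abelian B]
  {L : A ⥤ B} {R : B ⥤ A} (adj : L ⊣ R) [L.Additive] [R.Additive]

/-- the unit on complexes -/
@[simps]
def unitC (K : CochainComplex A ℤ) :
    K ⟶ (R.mapHomologicalComplex _).obj ((L.mapHomologicalComplex (ComplexShape.up ℤ)).obj K) where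
  f i := adj.unit.app (K.X i)
  comm' i j _ := (adj.unit.naturality (K.d i j)).symm

/-- the counit on complexes -/
@[simps]
def counitC (M : CochainComplex B ℤ) :
    (L.mapHomologicalComplex _).obj ((R.mapHomologicalComplex (ComplexShape.up ℤ)).obj M) ⟶ M where
  f i := adj.counit.app (M.X i)
  comm' i j _ := (adj.counit.naturality (M.d i j)).symm

lemma unitC_naturality {K K' : CochainComplex A ℤ} (f : K ⟶ K') :
    f ≫ unitC adj K' =
      unitC adj K ≫ (R.mapHomologicalComplex _).map ((L.mapHomologicalComplex _).map f) := by
  ext i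
  exact adj.unit.naturality (f.f i)

lemma counitC_naturality {M M' : CochainComplex B ℤ} (f : M ⟶ M') :
    (L.mapHomologicalComplex _).map ((R.mapHomologicalComplex _).map f) ≫ counitC adj M' =
      counitC adj M ≫ f := by
  ext i
  exact adj.counit.naturality (f.f i)

lemma left_triangleC (K : CochainComplex A ℤ) :
    (L.mapHomologicalComplex _).map (unitC adj K) ≫
      counitC adj ((L.mapHomologicalComplex _).obj K) = 𝟙 _ := by
  ext i
  exact adj.left_triangle_components (K.X i)

lemma right_triangleC (M : CochainComplex B ℤ) :
    unitC adj ((R.mapHomologicalComplex _).obj M) ≫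
      (R.mapHomologicalComplex _).map (counitC adj M) = 𝟙 _ := by
  ext i
  exact adj.right_triangle_components (M.X i)

end Groth.Agent.H2.AdjPlus

namespace Groth.Agent.H2.AdjPlus

variable {A : Type u} [Category.{v} A] [Abelian A] {B : Type u'} [Category.{v'} B] [Abelian B]
  {L : A ⥤ B} {R : B ⥤ A} (adj : L ⊣ R) [L.Additive] [R.Additive]

/-- the unit on the bounded below homotopy category, componentwise -/
noncomputable def unitApp (X : HomotopyCategory.Plus A) :
    X ⟶ R.mapHomotopyCategoryPlus.obj (L.mapHomotopyCategoryPlus.obj X) :=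
  ObjectProperty.homMk ((HomotopyCategory.quotient A _).map (unitC adj X.obj.as))

/-- the counit on the bounded below homotopy category, componentwise -/
noncomputable def counitApp (Y : HomotopyCategory.Plus B) :
    L.mapHomotopyCategoryPlus.obj (R.mapHomotopyCategoryPlus.obj Y) ⟶ Y :=
  ObjectProperty.homMk ((HomotopyCategory.quotient B _).map (counitC adj Y.obj.as))

lemma unit_nat_aux {K K' : CochainComplex A ℤ} (g : K ⟶ K') :
    (HomotopyCategory.quotient A (ComplexShape.up ℤ)).map g ≫
      (HomotopyCategory.quotient A _).map (unitC adj K') =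
    (HomotopyCategory.quotient A _).map (unitC adj K) ≫
      (R.mapHomotopyCategory _).map ((L.mapHomotopyCategory _).map
        ((HomotopyCategory.quotient A (ComplexShape.up ℤ)).map g)) := by
  have e1 := ((HomotopyCategory.quotient A (ComplexShape.up ℤ)).map_comp g (unitC adj K')).symm
  have e2 := congrArg (HomotopyCategory.quotient A (ComplexShape.up ℤ)).map
    (unitC_naturality adj g)
  have e3 := (HomotopyCategory.quotient A (ComplexShape.up ℤ)).map_comp (unitC adj K)
    ((R.mapHomologicalComplex _).map ((L.mapHomologicalComplex _).map g))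
  exact e1.trans (e2.trans e3)

lemma counit_nat_aux {M M' : CochainComplex B ℤ} (g : M ⟶ M') :
    (L.mapHomotopyCategory _).map ((R.mapHomotopyCategory _).map
        ((HomotopyCategory.quotient B (ComplexShape.up ℤ)).map g)) ≫
      (HomotopyCategory.quotient B _).map (counitC adj M') =
    (HomotopyCategory.quotient B _).map (counitC adj M) ≫
      (HomotopyCategory.quotient B (ComplexShape.up ℤ)).map g := by
  have e1 := ((HomotopyCategory.quotient B (ComplexShape.up ℤ)).map_comp
    ((L.mapHomologicalComplex _).map ((R.mapHomologicalComplex _).map g)) (counitC adj M')).symm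
  have e2 := congrArg (HomotopyCategory.quotient B (ComplexShape.up ℤ)).map
    (counitC_naturality adj g)
  have e3 := (HomotopyCategory.quotient B (ComplexShape.up ℤ)).map_comp (counitC adj M) g
  exact e1.trans (e2.trans e3)

lemma unitApp_naturality {X Y : HomotopyCategory.Plus A} (f : X ⟶ Y) :
    f ≫ unitApp adj Y =
      unitApp adj X ≫ R.mapHomotopyCategoryPlus.map (L.mapHomotopyCategoryPlus.map f) := by
  obtain ⟨⟨K⟩, hK⟩ := X
  obtain ⟨⟨K'⟩, hK'⟩ := Y
  obtain ⟨f⟩ := f
  obtain ⟨g, rfl⟩ := (HomotopyCategory.quotient A (ComplexShape.up ℤ)).map_surjective f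
  apply ObjectProperty.hom_ext
  exact unit_nat_aux adj g

lemma counitApp_naturality {X Y : HomotopyCategory.Plus B} (f : X ⟶ Y) :
    L.mapHomotopyCategoryPlus.map (R.mapHomotopyCategoryPlus.map f) ≫ counitApp adj Y =
      counitApp adj X ≫ f := by
  obtain ⟨⟨M⟩, hM⟩ := X
  obtain ⟨⟨M'⟩, hM'⟩ := Y
  obtain ⟨f⟩ := f
  obtain ⟨g, rfl⟩ := (HomotopyCategory.quotient B (ComplexShape.up ℤ)).map_surjective f
  apply ObjectProperty.hom_ext
  exact counit_nat_aux adj g

lemma left_aux (K : CochainComplex A ℤ) :
    (L.mapHomotopyCategory _).map ((HomotopyCategory.quotient A (ComplexShape.up ℤ)).map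
        (unitC adj K)) ≫
      (HomotopyCategory.quotient B _).map
        (counitC adj ((L.mapHomologicalComplex _).obj K)) = 𝟙 _ := by
  have e1 := ((HomotopyCategory.quotient B (ComplexShape.up ℤ)).map_comp
    ((L.mapHomologicalComplex _).map (unitC adj K))
    (counitC adj ((L.mapHomologicalComplex _).obj K))).symm
  have e2 := congrArg (HomotopyCategory.quotient B (ComplexShape.up ℤ)).map
    (left_triangleC adj K)
  have e3 := (HomotopyCategory.quotient B (ComplexShape.up ℤ)).map_id
    ((L.mapHomologicalComplex _).obj K)
  exact e1.trans (e2.trans e3)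

lemma right_aux (M : CochainComplex B ℤ) :
    (HomotopyCategory.quotient A (ComplexShape.up ℤ)).map
        (unitC adj ((R.mapHomologicalComplex _).obj M)) ≫
      (R.mapHomotopyCategory _).map ((HomotopyCategory.quotient B _).map
        (counitC adj M)) = 𝟙 _ := by
  have e1 := ((HomotopyCategory.quotient A (ComplexShape.up ℤ)).map_comp
    (unitC adj ((R.mapHomologicalComplex _).obj M))
    ((R.mapHomologicalComplex _).map (counitC adj M))).symm
  have e2 := congrArg (HomotopyCategory.quotient A (ComplexShape.up ℤ)).map
    (right_triangleC adj M)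
  have e3 := (HomotopyCategory.quotient A (ComplexShape.up ℤ)).map_id
    ((R.mapHomologicalComplex _).obj M)
  exact e1.trans (e2.trans e3)

/-- the induced adjunction on bounded below homotopy categories -/
noncomputable def adjPlus : L.mapHomotopyCategoryPlus ⊣ R.mapHomotopyCategoryPlus where
  unit :=
    { app := unitApp adj
      naturality := fun _ _ f => unitApp_naturality adj f }
  counit :=
    { app := counitApp adj
      naturality := fun _ _ f => counitApp_naturality adj f }
  left_triangle_components X := by
    obtain ⟨⟨K⟩, hK⟩ := X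
    apply ObjectProperty.hom_ext
    exact left_aux adj K
  right_triangle_components Y := by
    obtain ⟨⟨M⟩, hM⟩ := Y
    apply ObjectProperty.hom_ext
    exact right_aux adj M

lemma adjPlus_unit_app (X : HomotopyCategory.Plus A) :
    (adjPlus adj).unit.app X = unitApp adj X := rfl

lemma adjPlus_counit_app (Y : HomotopyCategory.Plus B) :
    (adjPlus adj).counit.app Y = counitApp adj Y := rfl

end Groth.Agent.H2.AdjPlus
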