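import Mathlib.CategoryTheory.Triangulated.Subcategory
import Mathlib.CategoryTheory.ObjectProperty.Orthogonal
import Mathlib.CategoryTheory.Adjunction.PartialAdjoint

/-!
# Right admissible triangulated subcategories
-/

universe v u

open CategoryTheory CategoryTheory.Limits Pretriangulated Opposite

namespace Groth.Agent.H2.AdmSub

variable {D : Type u} [Category.{v} D] [Preadditive D] [HasZeroObject D] [HasShift D ℤ]
  [∀ n : ℤ, (shiftFunctor D n).Additive] [Pretriangulated D]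
  (P : ObjectProperty D) [P.IsTriangulated]

/-- If composition with `f : A ⟶ X` is bijective on maps from objects of `P`, then the cone of `f`
is right orthogonal to `P`. -/
lemma rightOrthogonal_cone {A X B : D} (f : A ⟶ X) (g : X ⟶ B) (h : B ⟶ A⟦(1 : ℤ)⟧)
    (hT : Triangle.mk f g h ∈ distTriang D)
    (hbij : ∀ (A' : D), P A' → Function.Bijective (fun φ : A' ⟶ A => φ ≫ f)) :
    P.rightOrthogonal B := by
  intro A' ψ hA'
  -- injectivity after shifting
  have hinj : ∀ α : A' ⟶ A⟦(1 : ℤ)⟧, α ≫ f⟦(1 : ℤ)⟧' = 0 → α = 0 := by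
    intro α hα
    let e : (A'⟦(-1 : ℤ)⟧)⟦(1 : ℤ)⟧ ≅ A' := (shiftFunctorCompIsoId D (-1 : ℤ) 1 (by omega)).app A'
    obtain ⟨β, hβ⟩ := (shiftFunctor D (1 : ℤ)).map_surjective (e.hom ≫ α)
    have h0 : β ≫ f = 0 := by
      apply (shiftFunctor D (1 : ℤ)).map_injective
      rw [Functor.map_comp, hβ, Functor.map_zero, Category.assoc, hα, comp_zero]
    have h00 : β = 0 := (hbij _ (P.le_shift (-1 : ℤ) _ hA')).1 (by
      change β ≫ f = 0 ≫ f
      rw [h0, zero_comp])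
    rw [h00, Functor.map_zero] at hβ
    rw [← cancel_epi e.hom, comp_zero, ← hβ]
  have hhf : h ≫ f⟦(1 : ℤ)⟧' = 0 := comp_distTriang_mor_zero₃₁ _ hT
  have h1 : ψ ≫ h = 0 := hinj _ (by rw [Category.assoc, hhf, comp_zero])
  obtain ⟨ψ', hψ'⟩ : ∃ ψ' : A' ⟶ X, ψ = ψ' ≫ g := Triangle.coyoneda_exact₃ _ hT ψ h1
  obtain ⟨φ, hφ⟩ : ∃ φ : A' ⟶ A, φ ≫ f = ψ' := (hbij A' hA').2 ψ'
  have hfg : f ≫ g = 0 := comp_distTriang_mor_zero₁₂ _ hT
  rw [hψ', ← hφ, Category.assoc, hfg, comp_zero]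

/-- Conversely, if the cone is right orthogonal, composition with `f` is bijective on maps from
objects of `P`. -/
lemma bijective_of_rightOrthogonal {A X B : D} (f : A ⟶ X) (g : X ⟶ B) (h : B ⟶ A⟦(1 : ℤ)⟧)
    (hT : Triangle.mk f g h ∈ distTriang D) (hB : P.rightOrthogonal B)
    (A' : D) (hA' : P A') : Function.Bijective (fun φ : A' ⟶ A => φ ≫ f) := by
  constructor
  · intro φ φ' hφ
    have h0 : (φ - φ') ≫ f = 0 := by
      rw [Preadditive.sub_comp]
      exact sub_eq_zero.2 hφ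
    -- the inverse rotation of the triangle
    obtain ⟨t, g', hR⟩ : ∃ (t : B⟦(-1 : ℤ)⟧ ⟶ A) (g' : X ⟶ (B⟦(-1 : ℤ)⟧)⟦(1 : ℤ)⟧),
        Triangle.mk t f g' ∈ distTriang D := ⟨_, _, inv_rot_of_distTriang _ hT⟩
    obtain ⟨χ, hχ⟩ : ∃ χ : A' ⟶ B⟦(-1 : ℤ)⟧, φ - φ' = χ ≫ t :=
      Triangle.coyoneda_exact₂ _ hR (φ - φ') h0
    have hχ0 : χ = 0 := by
      let e : (A'⟦(1 : ℤ)⟧)⟦(-1 : ℤ)⟧ ≅ A' :=
        (shiftFunctorCompIsoId D (1 : ℤ) (-1) (by omega)).app A'
      obtain ⟨β, hβ⟩ := (shiftFunctor D (-1 : ℤ)).map_surjective (e.hom ≫ χ)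
      have : β = 0 := hB β (P.le_shift (1 : ℤ) _ hA')
      rw [this, Functor.map_zero] at hβ
      rw [← cancel_epi e.hom, comp_zero, ← hβ]
    rw [hχ0, zero_comp] at hχ
    exact sub_eq_zero.1 hχ
  · intro ψ
    have h0 : ψ ≫ g = 0 := hB (ψ ≫ g) hA'
    obtain ⟨φ, hφ⟩ : ∃ φ : A' ⟶ A, ψ = φ ≫ f := Triangle.coyoneda_exact₂ _ hT ψ h0
    exact ⟨φ, hφ.symm⟩

theorem isLeftAdjoint_ι_iff :
    P.ι.IsLeftAdjoint ↔ ∀ X : D, ∃ (A B : D) (f : A ⟶ X) (g : X ⟶ B)
      (h : B ⟶ (shiftFunctor D (1 : ℤ)).obj A),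
      Triangle.mk f g h ∈ distTriang D ∧ P A ∧ P.rightOrthogonal B := by
  constructor
  · intro hadj X
    let R := P.ι.rightAdjoint
    let adj : P.ι ⊣ R := Adjunction.ofIsLeftAdjoint P.ι
    obtain ⟨B, g, h, hT⟩ := distinguished_cocone_triangle (adj.counit.app X)
    refine ⟨(R.obj X).obj, B, adj.counit.app X, g, h, hT, (R.obj X).property, ?_⟩
    apply rightOrthogonal_cone P _ g h hT
    intro A' hA'
    have hb := (adj.homEquiv ⟨A', hA'⟩ X).symm.bijective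
    constructor
    · intro φ φ' hφ
      have : (adj.homEquiv ⟨A', hA'⟩ X).symm (ObjectProperty.homMk φ) =
          (adj.homEquiv ⟨A', hA'⟩ X).symm (ObjectProperty.homMk φ') := by
        rw [Adjunction.homEquiv_counit, Adjunction.homEquiv_counit]
        exact hφ
      have h2 := hb.1 this
      exact congrArg (fun a => a.hom) h2
    · intro ψ
      obtain ⟨φ, hφ⟩ := hb.2 ψ
      refine ⟨φ.hom, ?_⟩
      rw [Adjunction.homEquiv_counit] at hφ
      exact hφ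
  · intro hX
    apply Functor.isLeftAdjoint_of_rightAdjointObjIsDefined_eq_top
    ext X
    simp only [Pi.top_apply, Prop.top_eq_true, iff_true]
    rw [Functor.rightAdjointObjIsDefined_iff]
    obtain ⟨A, B, f, g, h, hT, hA, hB⟩ := hX X
    have hb := bijective_of_rightOrthogonal P f g h hT hB
    refine ⟨⟨A, hA⟩, ⟨{
      homEquiv := fun {A'} => Equiv.ofBijective (fun φ => φ.hom ≫ f) ?_
      homEquiv_comp := ?_ }⟩⟩
    · constructor
      · intro φ φ' hφ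
        exact ObjectProperty.hom_ext _ ((hb A'.obj A'.property).1 hφ)
      · intro ψ
        obtain ⟨φ, hφ⟩ := (hb A'.obj A'.property).2 ψ
        exact ⟨ObjectProperty.homMk φ, hφ⟩
    · intro A' A'' a φ
      change (a ≫ φ).hom ≫ f = a.hom ≫ φ.hom ≫ f
      rw [ObjectProperty.FullSubcategory.comp_hom, Category.assoc]

end Groth.Agent.H2.AdmSub
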