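import Groth.Agent.Lib.Helper2.AdmSub

/-!
# Objects admitting a decomposition with respect to a triangulated subcategory form a
triangulated subcategory
-/

universe v u

open CategoryTheory CategoryTheory.Limits Pretriangulated Opposite

namespace Groth.Agent.H2.AdmSub

variable {D : Type u} [Category.{v} D] [Preadditive D] [HasZeroObject D] [HasShift D ℤ]
  [∀ n : ℤ, (shiftFunctor D n).Additive] [Pretriangulated D]
  (P : ObjectProperty D) [P.IsTriangulated]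

/-- Composition with `f` is bijective on maps from objects of `P`. -/
def Rep {A X : D} (f : A ⟶ X) : Prop :=
  ∀ (A' : D), P A' → Function.Bijective (fun φ : A' ⟶ A => φ ≫ f)

variable {P}

lemma Rep.shift {A X : D} {f : A ⟶ X} (hf : Rep P f) (n : ℤ) : Rep P (f⟦n⟧') := by
  intro A' hA'
  let e : (A'⟦-n⟧)⟦n⟧ ≅ A' := (shiftFunctorCompIsoId D (-n) n (by omega)).app A'
  have hP : P (A'⟦-n⟧) := P.le_shift (-n) _ hA'
  constructor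
  · intro φ φ' hφ
    have hφ' : φ ≫ f⟦n⟧' = φ' ≫ f⟦n⟧' := hφ
    obtain ⟨β, hβ⟩ := (shiftFunctor D n).map_surjective (e.hom ≫ φ)
    obtain ⟨β', hβ'⟩ := (shiftFunctor D n).map_surjective (e.hom ≫ φ')
    have h1 : β ≫ f = β' ≫ f := by
      apply (shiftFunctor D n).map_injective
      rw [Functor.map_comp, Functor.map_comp, hβ, hβ', Category.assoc, Category.assoc, hφ']
    have h2 : β = β' := (hf _ hP).1 h1
    rw [← cancel_epi e.hom, ← hβ, ← hβ', h2]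
  · intro ψ
    obtain ⟨γ, hγ⟩ := (shiftFunctor D n).map_surjective (e.hom ≫ ψ)
    obtain ⟨β, hβ⟩ : ∃ β : A'⟦-n⟧ ⟶ A, β ≫ f = γ := (hf _ hP).2 γ
    refine ⟨e.inv ≫ β⟦n⟧', ?_⟩
    change (e.inv ≫ β⟦n⟧') ≫ f⟦n⟧' = ψ
    rw [Category.assoc, ← Functor.map_comp, hβ, hγ, Iso.inv_hom_id_assoc]

variable (P)

/-- The class of objects admitting a decomposition triangle. -/
def Dec : ObjectProperty D := fun X =>
  ∃ (A B : D) (f : A ⟶ X) (g : X ⟶ B) (h : B ⟶ (shiftFunctor D (1 : ℤ)).obj A),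
    Triangle.mk f g h ∈ distTriang D ∧ P A ∧ P.rightOrthogonal B

variable {P}

lemma dec_iff (X : D) : Dec P X ↔ ∃ (A : D) (f : A ⟶ X), P A ∧ Rep P f := by
  constructor
  · rintro ⟨A, B, f, g, h, hT, hA, hB⟩
    exact ⟨A, f, hA, bijective_of_rightOrthogonal P f g h hT hB⟩
  · rintro ⟨A, f, hA, hf⟩
    obtain ⟨B, g, h, hT⟩ := distinguished_cocone_triangle f
    exact ⟨A, B, f, g, h, hT, hA, rightOrthogonal_cone P f g h hT hf⟩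

instance : (Dec P).ContainsZero where
  exists_zero := by
    obtain ⟨Z, hZ, hPZ⟩ := ObjectProperty.ContainsZero.exists_zero (P := P)
    refine ⟨Z, hZ, (dec_iff Z).2 ⟨Z, 𝟙 Z, hPZ, ?_⟩⟩
    intro A' _
    constructor
    · intro φ φ' _
      exact hZ.eq_of_tgt _ _
    · intro ψ
      exact ⟨ψ, Category.comp_id _⟩

instance : (Dec P).IsStableUnderShift ℤ where
  isStableUnderShiftBy n := ObjectProperty.IsStableUnderShiftBy.mk (fun X hX => by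
    rw [ObjectProperty.prop_shift_iff]
    obtain ⟨A, f, hA, hf⟩ := (dec_iff X).1 hX
    exact (dec_iff _).2 ⟨A⟦n⟧, f⟦n⟧', P.le_shift n _ hA, hf.shift n⟩)

/-- The five lemma step. -/
lemma rep_of_triangleMorphism (TA TX : Triangle D) (hTA : TA ∈ distTriang D)
    (hTX : TX ∈ distTriang D) (φ : TA ⟶ TX) (h₁ : Rep P φ.hom₁) (h₃ : Rep P φ.hom₃) :
    Rep P φ.hom₂ := by
  intro A' hA'
  constructor
  · intro a a' haa'
    have h0 : (a - a') ≫ φ.hom₂ = 0 := by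
      rw [Preadditive.sub_comp]
      exact sub_eq_zero.2 haa'
    have h1 : ((a - a') ≫ TA.mor₂) ≫ φ.hom₃ = 0 := by
      rw [Category.assoc, φ.comm₂, ← Category.assoc, h0, zero_comp]
    have h2 : (a - a') ≫ TA.mor₂ = 0 := (h₃ A' hA').1 (by
      change ((a - a') ≫ TA.mor₂) ≫ φ.hom₃ = 0 ≫ φ.hom₃
      rw [h1, zero_comp])
    obtain ⟨b, hb⟩ := Triangle.coyoneda_exact₂ _ hTA (a - a') h2
    have h3 : (b ≫ φ.hom₁) ≫ TX.mor₁ = 0 := by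
      rw [Category.assoc, ← φ.comm₁, ← Category.assoc, ← hb, h0]
    -- the inverse rotations
    have hRA := inv_rot_of_distTriang _ hTA
    have hRX := inv_rot_of_distTriang _ hTX
    obtain ⟨tA, tX, htA, hex, hc⟩ : ∃ (tA : TA.obj₃⟦(-1 : ℤ)⟧ ⟶ TA.obj₁)
        (tX : TX.obj₃⟦(-1 : ℤ)⟧ ⟶ TX.obj₁), tA ≫ TA.mor₁ = 0 ∧
        (∀ g : A' ⟶ TX.obj₁, g ≫ TX.mor₁ = 0 → ∃ ξ : A' ⟶ TX.obj₃⟦(-1 : ℤ)⟧, g = ξ ≫ tX) ∧
        tA ≫ φ.hom₁ = φ.hom₃⟦(-1 : ℤ)⟧' ≫ tX :=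
      ⟨TA.invRotate.mor₁, TX.invRotate.mor₁, comp_distTriang_mor_zero₁₂ _ hRA,
        fun g hg => Triangle.coyoneda_exact₂ _ hRX g hg,
        ((Pretriangulated.invRotate D).map φ).comm₁⟩
    obtain ⟨ξ, hξ⟩ := hex (b ≫ φ.hom₁) h3
    obtain ⟨ξ₃, hξ₃⟩ : ∃ ξ₃ : A' ⟶ TA.obj₃⟦(-1 : ℤ)⟧, ξ₃ ≫ φ.hom₃⟦(-1 : ℤ)⟧' = ξ :=
      (h₃.shift (-1) A' hA').2 ξ
    have h4 : b = ξ₃ ≫ tA := (h₁ A' hA').1 (by
      change b ≫ φ.hom₁ = (ξ₃ ≫ tA) ≫ φ.hom₁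
      rw [Category.assoc, hc, ← Category.assoc, hξ₃, hξ])
    have h6 : a - a' = 0 := by
      rw [hb, h4, Category.assoc, htA, comp_zero]
    exact sub_eq_zero.1 h6
  · intro ψ
    obtain ⟨c, hc⟩ : ∃ c : A' ⟶ TA.obj₃, c ≫ φ.hom₃ = ψ ≫ TX.mor₂ := (h₃ A' hA').2 _
    have h1 : (c ≫ TA.mor₃) ≫ φ.hom₁⟦(1 : ℤ)⟧' = 0 := by
      rw [Category.assoc, φ.comm₃, ← Category.assoc, hc, Category.assoc,
        comp_distTriang_mor_zero₂₃ _ hTX, comp_zero]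
    have h2 : c ≫ TA.mor₃ = 0 := (h₁.shift 1 A' hA').1 (by
      change (c ≫ TA.mor₃) ≫ φ.hom₁⟦(1 : ℤ)⟧' = 0 ≫ φ.hom₁⟦(1 : ℤ)⟧'
      rw [h1, zero_comp])
    obtain ⟨b, hb⟩ := Triangle.coyoneda_exact₃ _ hTA c h2
    have h3 : (ψ - b ≫ φ.hom₂) ≫ TX.mor₂ = 0 := by
      rw [Preadditive.sub_comp, Category.assoc, ← φ.comm₂, ← Category.assoc, ← hb, hc, sub_self]
    obtain ⟨χ, hχ⟩ := Triangle.coyoneda_exact₂ _ hTX _ h3
    obtain ⟨a, ha⟩ : ∃ a : A' ⟶ TA.obj₁, a ≫ φ.hom₁ = χ := (h₁ A' hA').2 χ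
    refine ⟨b + a ≫ TA.mor₁, ?_⟩
    change (b + a ≫ TA.mor₁) ≫ φ.hom₂ = ψ
    rw [Preadditive.add_comp, Category.assoc, φ.comm₁, ← Category.assoc, ha, ← hχ]
    abel

instance : (Dec P).IsTriangulatedClosed₂ where
  ext₂' T hT h₁ h₃ := by
    apply ObjectProperty.le_isoClosure
    obtain ⟨A₁, f₁, hA₁, hf₁⟩ := (dec_iff _).1 h₁
    obtain ⟨A₃, f₃, hA₃, hf₃⟩ := (dec_iff _).1 h₃
    obtain ⟨a, ha⟩ : ∃ a : A₃ ⟶ A₁⟦(1 : ℤ)⟧, a ≫ f₁⟦(1 : ℤ)⟧' = f₃ ≫ T.mor₃ :=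
      (hf₁.shift 1 A₃ hA₃).2 _
    obtain ⟨A₂, hA₂, u, v, hTA⟩ := P.distinguished_cocone_triangle₂ a hA₁ hA₃
    obtain ⟨f₂, hc₁, hc₂⟩ := complete_distinguished_triangle_morphism₂ _ _ hTA hT f₁ f₃ ha
    let φ : Triangle.mk u v a ⟶ T :=
      { hom₁ := f₁
        hom₂ := f₂
        hom₃ := f₃
        comm₁ := hc₁
        comm₂ := hc₂
        comm₃ := ha }
    exact (dec_iff _).2 ⟨A₂, f₂, hA₂, rep_of_triangleMorphism _ _ hTA hT φ hf₁ hf₃⟩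

instance : (Dec P).IsTriangulated where

end Groth.Agent.H2.AdmSub
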