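import Mathlib

/-! # Affine charts of schemes over `Spec R` as objects of `CommAlgCat R`. -/

universe u
open CategoryTheory CategoryTheory.Limits AlgebraicGeometry TopologicalSpace Opposite

namespace Groth.Agent.H2.AffRep

variable {R : Type u} [CommRing R]

/-- `Spec A` as an object over `Spec R`. -/
noncomputable abbrev SpecO (A : CommAlgCat.{u} R) : Over (Spec (CommRingCat.of R)) :=
  Over.mk (Spec.map (CommRingCat.ofHom (algebraMap R A)))

/-- the structure map `R → Γ(T, V)` of an affine open of a scheme over `Spec R`. -/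
noncomputable def chartStr (T : Over (Spec (CommRingCat.of R))) (V : T.left.Opens)
    (hV : IsAffineOpen V) : R →+* Γ(T.left, V) :=
  (Spec.preimage (hV.fromSpec ≫ T.hom)).hom

/-- the sections over an affine open as an `R`-algebra. -/
noncomputable def chartAlg (T : Over (Spec (CommRingCat.of R))) (V : T.left.Opens)
    (hV : IsAffineOpen V) : CommAlgCat.{u} R :=
  @CommAlgCat.of R _ Γ(T.left, V) _ (chartStr T V hV).toAlgebra

/-- the underlying ring of the chart algebra is `Γ(T, V)`. -/
noncomputable def toΓ (T : Over (Spec (CommRingCat.of R))) (V : T.left.Opens)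
    (hV : IsAffineOpen V) : chartAlg T V hV ≃+* Γ(T.left, V) := RingEquiv.refl _

lemma algebraMap_chartAlg (T : Over (Spec (CommRingCat.of R))) (V : T.left.Opens)
    (hV : IsAffineOpen V) (r : R) :
    toΓ T V hV (algebraMap R (chartAlg T V hV) r) = chartStr T V hV r := rfl

lemma SpecMap_chartStr (T : Over (Spec (CommRingCat.of R))) (V : T.left.Opens)
    (hV : IsAffineOpen V) :
    Spec.map (CommRingCat.ofHom (chartStr T V hV)) = hV.fromSpec ≫ T.hom := by
  rw [chartStr]
  exact Spec.map_preimage _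

/-- the chart `Spec Γ(T, V) ⟶ T` over `Spec R`. -/
noncomputable def chart (T : Over (Spec (CommRingCat.of R))) (V : T.left.Opens)
    (hV : IsAffineOpen V) : SpecO (chartAlg T V hV) ⟶ T :=
  Over.homMk (hV.fromSpec : Spec Γ(T.left, V) ⟶ T.left) (SpecMap_chartStr T V hV).symm

lemma chart_left (T : Over (Spec (CommRingCat.of R))) (V : T.left.Opens)
    (hV : IsAffineOpen V) : (chart T V hV).left = hV.fromSpec := rfl

lemma chartStr_comp {T' T : Over (Spec (CommRingCat.of R))} (f : T' ⟶ T)
    {V : T.left.Opens} (hV : IsAffineOpen V) {V' : T'.left.Opens} (hV' : IsAffineOpen V')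
    (h : V' ≤ f.left ⁻¹ᵁ V) (r : R) :
    (f.left.appLE V V' h).hom (chartStr T V hV r) = chartStr T' V' hV' r := by
  have h1 : Spec.map (f.left.appLE V V' h) ≫ hV.fromSpec = hV'.fromSpec ≫ f.left :=
    hV.SpecMap_appLE_fromSpec f.left hV' h
  have h2 : Spec.map (CommRingCat.ofHom (chartStr T V hV) ≫ f.left.appLE V V' h) =
      Spec.map (CommRingCat.ofHom (chartStr T' V' hV')) := by
    rw [Spec.map_comp, SpecMap_chartStr, SpecMap_chartStr, ← Category.assoc, h1,
      Category.assoc, Over.w f]
  have h3 := Spec.map_injective h2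
  exact congrArg (fun ψ : CommRingCat.of R ⟶ Γ(T'.left, V') => ψ.hom r) h3

/-- the map of chart algebras induced by a morphism over `Spec R`. -/
noncomputable def chartMap {T' T : Over (Spec (CommRingCat.of R))} (f : T' ⟶ T)
    {V : T.left.Opens} (hV : IsAffineOpen V) {V' : T'.left.Opens} (hV' : IsAffineOpen V')
    (h : V' ≤ f.left ⁻¹ᵁ V) : chartAlg T V hV ⟶ chartAlg T' V' hV' :=
  CommAlgCat.ofHom (R := R) (X := chartAlg T V hV) (Y := chartAlg T' V' hV')
    { toRingHom := (f.left.appLE V V' h).hom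
      commutes' := fun r => chartStr_comp f hV hV' h r }

lemma chartMap_hom {T' T : Over (Spec (CommRingCat.of R))} (f : T' ⟶ T)
    {V : T.left.Opens} (hV : IsAffineOpen V) {V' : T'.left.Opens} (hV' : IsAffineOpen V')
    (h : V' ≤ f.left ⁻¹ᵁ V) (s : chartAlg T V hV) :
    toΓ T' V' hV' ((chartMap f hV hV' h).hom s) = (f.left.appLE V V' h).hom (toΓ T V hV s) := rfl

lemma chart_comp {T' T : Over (Spec (CommRingCat.of R))} (f : T' ⟶ T)
    {V : T.left.Opens} (hV : IsAffineOpen V) {V' : T'.left.Opens} (hV' : IsAffineOpen V')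
    (h : V' ≤ f.left ⁻¹ᵁ V) :
    (chart T' V' hV' ≫ f).left =
      Spec.map (CommRingCat.ofHom (chartMap f hV hV' h).hom.toRingHom) ≫ (chart T V hV).left :=
  (hV.SpecMap_appLE_fromSpec f.left hV' h).symm

end Groth.Agent.H2.AffRep
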