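import Groth.Agent.Lib.Helper2.AffRepA

/-! # Functors on `R`-algebras represented on affine schemes by a scheme over `Spec R`. -/

universe u
open CategoryTheory CategoryTheory.Limits AlgebraicGeometry TopologicalSpace Opposite

namespace Groth.Agent.H2.AffRep

variable {R : Type u} [CommRing R]

/-- a scheme `X` over `Spec R` representing the functor `F` on affine `R`-schemes. -/
structure Rep (F : CommAlgCat.{u, u} R ⥤ Type u) (X : Over (Spec (CommRingCat.of R))) where
  e : ∀ A : CommAlgCat.{u} R, (SpecO A ⟶ X) ≃ F.obj A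
  he : ∀ (A B : CommAlgCat.{u} R) (φ : A ⟶ B) (g : SpecO A ⟶ X) (g' : SpecO B ⟶ X),
    g'.left = Spec.map (CommRingCat.ofHom φ.hom.toRingHom) ≫ g.left →
      e B g' = F.map φ (e A g)

section loc
variable (B : CommAlgCat.{u} R) (V : (SpecO B).left.Opens) (hV : IsAffineOpen V)

/-- the ring map `B → Γ(Spec B, V)`. -/
noncomputable def locHom : B →+* Γ((SpecO B).left, V) :=
  ((Scheme.ΓSpecIso (CommRingCat.of B)).inv ≫
    (Spec (CommRingCat.of B)).presheaf.map (homOfLE (le_top : V ≤ ⊤)).op).hom

lemma fromSpec_eq :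
    hV.fromSpec = Spec.map (CommRingCat.ofHom (locHom B V)) := by
  have h1 := (isAffineOpen_top (Spec (CommRingCat.of B))).map_fromSpec hV
    (homOfLE (le_top : V ≤ ⊤)).op
  rw [IsAffineOpen.fromSpec_top, Scheme.isoSpec_Spec_inv, ← Spec.map_comp] at h1
  exact h1.symm

lemma locHom_algebraMap (r : R) :
    locHom B V (algebraMap R B r) = chartStr (SpecO B) V hV r := by
  have h2 : Spec.map (CommRingCat.ofHom (algebraMap R B) ≫ CommRingCat.ofHom (locHom B V)) =
      Spec.map (CommRingCat.ofHom (chartStr (SpecO B) V hV)) := by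
    rw [Spec.map_comp, SpecMap_chartStr, ← fromSpec_eq B V hV]
    rfl
  have h3 := Spec.map_injective h2
  exact congrArg (fun ψ : CommRingCat.of R ⟶ Γ((SpecO B).left, V) => ψ.hom r) h3

/-- the localisation map `B ⟶ Γ(Spec B, V)` of `R`-algebras. -/
noncomputable def locMap : B ⟶ chartAlg (SpecO B) V hV :=
  CommAlgCat.ofHom (R := R) (X := B) (Y := chartAlg (SpecO B) V hV)
    { toRingHom := locHom B V
      commutes' := fun r => locHom_algebraMap B V hV r }

lemma locMap_hom (b : B) : toΓ (SpecO B) V hV ((locMap B V hV).hom b) = locHom B V b := rfl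

lemma chart_left_eq :
    (chart (SpecO B) V hV).left =
      Spec.map (CommRingCat.ofHom (locMap B V hV).hom.toRingHom) :=
  fromSpec_eq B V hV

end loc

variable {F : CommAlgCat.{u, u} R ⥤ Type u} {X : Over (Spec (CommRingCat.of R))}

/-- the universal element over an affine open of `X`. -/
noncomputable def Rep.ξ (ρ : Rep F X) (U : X.left.Opens) (hU : IsAffineOpen U) :
    F.obj (chartAlg X U hU) := ρ.e _ (chart X U hU)

/-- **Compatibility**: the element of `g : Spec B → X` restricted to an affine open `V` mapping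
into an affine open `U` of `X` is the restriction of the universal element over `U`. -/
lemma Rep.map_ξ (ρ : Rep F X) {B : CommAlgCat.{u} R} (g : SpecO B ⟶ X)
    {U : X.left.Opens} (hU : IsAffineOpen U) {V : (SpecO B).left.Opens} (hV : IsAffineOpen V)
    (h : V ≤ g.left ⁻¹ᵁ U) :
    F.map (chartMap g hU hV h) (ρ.ξ U hU) = F.map (locMap B V hV) (ρ.e B g) := by
  have h1 := ρ.he _ _ (chartMap g hU hV h) (chart X U hU) (chart (SpecO B) V hV ≫ g)
    (chart_comp g hU hV h)
  have h2 := ρ.he _ _ (locMap B V hV) g (chart (SpecO B) V hV ≫ g) (by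
    rw [Over.comp_left, chart_left_eq])
  rw [Rep.ξ, ← h1, h2]

/-- restriction of the universal element to a smaller affine open. -/
lemma Rep.map_ξ_res (ρ : Rep F X) {U U' : X.left.Opens} (hU : IsAffineOpen U)
    (hU' : IsAffineOpen U') (h : U' ≤ U) :
    F.map (chartMap (𝟙 X) hU hU' h) (ρ.ξ U hU) = ρ.ξ U' hU' := by
  have h1 := ρ.he _ _ (chartMap (𝟙 X) hU hU' h) (chart X U hU) (chart X U' hU')
    (by
      have := chart_comp (𝟙 X) hU hU' h
      rwa [Category.comp_id] at this)
  exact h1.symm

end Groth.Agent.H2.AffRep
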