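import Groth.Agent.Lib.Helper2.AffRepB

/-! # Closed subfunctors of a functor represented on affine schemes: the vanishing ideals. -/

universe u
open CategoryTheory CategoryTheory.Limits AlgebraicGeometry TopologicalSpace Opposite

namespace Groth.Agent.H2.AffRep

variable {R : Type u} [CommRing R]
variable {F : CommAlgCat.{u, u} R ⥤ Type u}

/-- a predicate on the values of `F` cut out by ideals, compatibly with base change. -/
def IsClosedPred (F : CommAlgCat.{u, u} R ⥤ Type u)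
    (P : ∀ A : CommAlgCat.{u} R, F.obj A → Prop) : Prop :=
  ∀ (A : CommAlgCat.{u} R) (ξ : F.obj A), ∃ I : Ideal A,
    ∀ (B : CommAlgCat.{u} R) (φ : A ⟶ B), P B (F.map φ ξ) ↔ I ≤ RingHom.ker φ.hom

variable {P : ∀ A : CommAlgCat.{u} R, F.obj A → Prop} (hP : IsClosedPred F P)

/-- the vanishing ideal of an element. -/
noncomputable def vI (A : CommAlgCat.{u} R) (ξ : F.obj A) : Ideal A := (hP A ξ).choose

lemma vI_spec (A : CommAlgCat.{u} R) (ξ : F.obj A) (B : CommAlgCat.{u} R) (φ : A ⟶ B) :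
    P B (F.map φ ξ) ↔ vI hP A ξ ≤ RingHom.ker φ.hom := (hP A ξ).choose_spec B φ

lemma pred_iff_vI_eq_bot (A : CommAlgCat.{u} R) (ξ : F.obj A) : P A ξ ↔ vI hP A ξ = ⊥ := by
  have h := vI_spec hP A ξ A (𝟙 A)
  rw [F.map_id] at h
  change P A ξ ↔ _ at h
  rw [h, ← le_bot_iff]
  have : RingHom.ker (𝟙 A : A ⟶ A).hom = ⊥ := by
    ext x
    rw [RingHom.mem_ker, Ideal.mem_bot]
    rfl
  rw [this]

include hP in
lemma pred_map {A B : CommAlgCat.{u} R} (φ : A ⟶ B) (ξ : F.obj A) (h : P A ξ) :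
    P B (F.map φ ξ) := by
  rw [vI_spec hP, (pred_iff_vI_eq_bot hP A ξ).mp h]
  exact bot_le

/-- the quotient of an `R`-algebra by an ideal, as an object of `CommAlgCat`. -/
noncomputable abbrev quotAlg (B : CommAlgCat.{u} R) (J : Ideal B) : CommAlgCat.{u} R :=
  CommAlgCat.of R (B ⧸ J)

noncomputable abbrev quotMap (B : CommAlgCat.{u} R) (J : Ideal B) : B ⟶ quotAlg B J :=
  CommAlgCat.ofHom (Ideal.Quotient.mkₐ R J)

lemma ker_quotMap (B : CommAlgCat.{u} R) (J : Ideal B) : RingHom.ker (quotMap B J).hom = J := by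
  ext x
  rw [RingHom.mem_ker]
  exact Ideal.Quotient.eq_zero_iff_mem

/-- the vanishing ideal commutes with base change. -/
lemma vI_map {A B : CommAlgCat.{u} R} (φ : A ⟶ B) (ξ : F.obj A) :
    vI hP B (F.map φ ξ) = (vI hP A ξ).map φ.hom := by
  have key : ∀ (C : CommAlgCat.{u} R) (ψ : B ⟶ C),
      vI hP B (F.map φ ξ) ≤ RingHom.ker ψ.hom ↔ (vI hP A ξ).map φ.hom ≤ RingHom.ker ψ.hom := by
    intro C ψ
    rw [← vI_spec hP B (F.map φ ξ) C ψ]
    have h1 : F.map ψ (F.map φ ξ) = F.map (φ ≫ ψ) ξ := by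
      rw [F.map_comp]; rfl
    rw [h1, vI_spec hP A ξ C (φ ≫ ψ), Ideal.map_le_iff_le_comap]
    constructor
    · intro h x hx
      have := h hx
      rw [RingHom.mem_ker] at this
      rw [Ideal.mem_comap, RingHom.mem_ker]
      exact this
    · intro h x hx
      have := h hx
      rw [Ideal.mem_comap, RingHom.mem_ker] at this
      rw [RingHom.mem_ker]
      exact this
  apply le_antisymm
  · have := (key _ (quotMap B ((vI hP A ξ).map φ.hom))).mpr (by rw [ker_quotMap])
    rwa [ker_quotMap] at this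
  · have := (key _ (quotMap B (vI hP B (F.map φ ξ)))).mp (by rw [ker_quotMap])
    rwa [ker_quotMap] at this

end Groth.Agent.H2.AffRep
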