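import Groth.Agent.Lib.Helper2.AffRepC

/-! # Closed subfunctors of a functor represented on affine schemes are represented by closed
subschemes. -/

universe u
open CategoryTheory CategoryTheory.Limits AlgebraicGeometry TopologicalSpace Opposite

namespace Groth.Agent.H2.AffRep

variable {R : Type u} [CommRing R]
variable {F : CommAlgCat.{u, u} R ⥤ Type u} {X : Over (Spec (CommRingCat.of R))}

lemma id_appLE (T : Scheme.{u}) (U U' : T.Opens) (h : U' ≤ U) :
    (𝟙 T : T ⟶ T).appLE U U' h = T.presheaf.map (homOfLE h).op := by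
  rw [Scheme.Hom.appLE, Scheme.Hom.id_app]
  exact Category.id_comp _

/-- transport of ideals along ring equivalences. -/
lemma comap_symm_map {A A' B B' : Type*} [CommRing A] [CommRing A'] [CommRing B] [CommRing B']
    (e : A ≃+* A') (e' : B ≃+* B') (φ : A →+* B) (r : A' →+* B')
    (h : ∀ a, e' (φ a) = r (e a)) (I : Ideal A) :
    (I.comap (e.symm : A' →+* A)).map r = (I.map φ).comap (e'.symm : B' →+* B) := by
  have h1 : I.comap (e.symm : A' →+* A) = I.map (e : A →+* A') := Ideal.comap_symm e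
  have h2 : (I.map φ).comap (e'.symm : B' →+* B) = (I.map φ).map (e' : B →+* B') :=
    Ideal.comap_symm e'
  rw [h1, h2, Ideal.map_map, Ideal.map_map]
  congr 1
  ext a
  exact (h a).symm

variable (ρ : Rep F X) {P : ∀ A : CommAlgCat.{u} R, F.obj A → Prop} (hP : IsClosedPred F P)

/-- the ideal of the closed subfunctor on an affine open. -/
noncomputable def idl (U : X.left.affineOpens) : Ideal Γ(X.left, U.1) :=
  (vI hP (chartAlg X U.1 U.2) (ρ.ξ U.1 U.2)).comap
    ((toΓ X U.1 U.2).symm : Γ(X.left, U.1) →+* chartAlg X U.1 U.2)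

lemma mem_idl (U : X.left.affineOpens) (s : Γ(X.left, U.1)) :
    s ∈ idl ρ hP U ↔ (toΓ X U.1 U.2).symm s ∈ vI hP (chartAlg X U.1 U.2) (ρ.ξ U.1 U.2) :=
  Iff.rfl

lemma idl_map (U U' : X.left.affineOpens) (h : U'.1 ≤ U.1) :
    (idl ρ hP U).map (X.left.presheaf.map (homOfLE h).op).hom = idl ρ hP U' := by
  have h1 := vI_map hP (chartMap (𝟙 X) U.2 U'.2 h) (ρ.ξ U.1 U.2)
  rw [ρ.map_ξ_res U.2 U'.2 h] at h1
  rw [idl, idl, h1]
  apply comap_symm_map (toΓ X U.1 U.2) (toΓ X U'.1 U'.2)
  intro a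
  rw [← id_appLE X.left U.1 U'.1 h]
  exact chartMap_hom (𝟙 X) U.2 U'.2 h a

/-- the ideal sheaf of the closed subfunctor. -/
noncomputable def idealSheaf : X.left.IdealSheafData where
  ideal := idl ρ hP
  map_ideal_basicOpen U f := idl_map ρ hP U (X.left.affineBasicOpen f) (X.left.basicOpen_le f)

/-- sections of the structure sheaf vanishing on an affine cover vanish. -/
lemma eq_zero_of_affine_cover (T : Scheme.{u}) (W : T.Opens) (s : Γ(T, W))
    (h : ∀ x ∈ W, ∃ (V : T.Opens) (hV : V ≤ W), x ∈ V ∧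
      (T.presheaf.map (homOfLE hV).op).hom s = 0) : s = 0 := by
  choose V hV hxV hs using h
  apply TopCat.Sheaf.eq_of_locally_eq' T.sheaf (fun x : W => V x.1 x.2) W
    (fun x => homOfLE (hV x.1 x.2))
  · intro x hx
    exact Opens.mem_iSup.mpr ⟨⟨x, hx⟩, hxV x hx⟩
  · intro x
    exact (hs x.1 x.2).trans (map_zero _).symm

include hP in
/-- **Closed subfunctors are represented by closed subschemes.** -/
theorem exists_closedImmersion :
    ∃ (Z : Scheme.{u}) (ι : Z ⟶ X.left), IsClosedImmersion ι ∧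
      ∀ (B : CommAlgCat.{u} R) (g : SpecO B ⟶ X),
        (∃ h : (SpecO B).left ⟶ Z, h ≫ ι = g.left) ↔ P B (ρ.e B g) := by
  refine ⟨(idealSheaf ρ hP).subscheme, (idealSheaf ρ hP).subschemeι, inferInstance, ?_⟩
  intro B g
  constructor
  · rintro ⟨h, hg⟩
    rw [pred_iff_vI_eq_bot hP, eq_bot_iff]
    intro s hs
    rw [Ideal.mem_bot]
    -- it suffices that the image of `s` in `Γ(Spec B, ⊤)` vanishes
    have hinj : Function.Injective (Scheme.ΓSpecIso (CommRingCat.of B)).inv.hom :=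
      (ConcreteCategory.bijective_of_isIso (Scheme.ΓSpecIso (CommRingCat.of B)).inv).1
    apply hinj
    rw [map_zero]
    apply eq_zero_of_affine_cover (Spec (CommRingCat.of B)) ⊤
    intro x _
    obtain ⟨U, hU, hxU⟩ : ∃ U : X.left.Opens, IsAffineOpen U ∧ g.left x ∈ U := by
      obtain ⟨_, ⟨U, hUaff, rfl⟩, hxU, -⟩ := X.left.isBasis_affineOpens.exists_subset_of_mem_open
        (Set.mem_univ (g.left x)) isOpen_univ
      exact ⟨U, hUaff, hxU⟩
    obtain ⟨_, ⟨V0, hV0, rfl⟩, hxV, hVU⟩ :=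
      (Spec (CommRingCat.of B)).isBasis_affineOpens.exists_subset_of_mem_open
        (show x ∈ ((g.left ⁻¹ᵁ U : (Spec (CommRingCat.of B)).Opens) : Set _) from hxU)
        (g.left ⁻¹ᵁ U).2
    obtain ⟨V, hVeq⟩ : ∃ V : (Spec (CommRingCat.of B)).affineOpens, V.1 = V0 := ⟨⟨V0, hV0⟩, rfl⟩
    subst hVeq
    refine ⟨V.1, le_top, hxV, ?_⟩
    -- the restriction of `s` to `V` vanishes
    have hPV : P _ (F.map (locMap B V.1 V.2) (ρ.e B g)) := by
      rw [← ρ.map_ξ g hU V.2 hVU, vI_spec hP]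
      intro t ht
      rw [RingHom.mem_ker]
      apply (toΓ (SpecO B) V.1 V.2).injective
      rw [chartMap_hom, map_zero]
      have h1 : (toΓ X U hU t) ∈ (idealSheaf ρ hP).ideal ⟨U, hU⟩ := by
        change (toΓ X U hU).symm (toΓ X U hU t) ∈ _
        rw [RingEquiv.symm_apply_apply]
        exact ht
      rw [← (idealSheaf ρ hP).ker_subschemeι_app ⟨U, hU⟩, RingHom.mem_ker] at h1
      have h2 : g.left.appLE U V.1 hVU =
          (idealSheaf ρ hP).subschemeι.app U ≫ h.appLE _ V.1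
            (by rw [← Scheme.Hom.comp_preimage, hg]; exact hVU) := by
        rw [← Scheme.Hom.comp_appLE]
        congr 1
        exact hg.symm
      rw [h2, CommRingCat.comp_apply, h1, map_zero]
    rw [vI_spec hP] at hPV
    have h3 := hPV hs
    rw [RingHom.mem_ker] at h3
    have h4 := congrArg (toΓ (SpecO B) V.1 V.2) h3
    rw [locMap_hom, map_zero] at h4
    exact h4
  · intro hg
    have hle : (idealSheaf ρ hP).subschemeι.ker ≤ g.left.ker := by
      rw [Scheme.IdealSheafData.ker_subschemeι]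
      refine Scheme.IdealSheafData.le_ofIdeals_iff.mpr ?_
      intro U s hs
      rw [RingHom.mem_ker]
      apply eq_zero_of_affine_cover (Spec (CommRingCat.of B)) (g.left ⁻¹ᵁ U.1)
      intro x hx
      obtain ⟨_, ⟨V0, hV0, rfl⟩, hxV, hVU⟩ :=
        (Spec (CommRingCat.of B)).isBasis_affineOpens.exists_subset_of_mem_open
          (show x ∈ ((g.left ⁻¹ᵁ U.1 : (Spec (CommRingCat.of B)).Opens) : Set _) from hx)
          (g.left ⁻¹ᵁ U.1).2
      obtain ⟨V, hVeq⟩ : ∃ V : (Spec (CommRingCat.of B)).affineOpens, V.1 = V0 := ⟨⟨V0, hV0⟩, rfl⟩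
      subst hVeq
      refine ⟨V.1, hVU, hxV, ?_⟩
      have hPV : P _ (F.map (chartMap g U.2 V.2 hVU) (ρ.ξ U.1 U.2)) := by
        rw [ρ.map_ξ g U.2 V.2 hVU]
        exact pred_map hP _ _ hg
      rw [vI_spec hP] at hPV
      have h3 := hPV ((mem_idl ρ hP U s).mp hs)
      rw [RingHom.mem_ker] at h3
      have h4 := congrArg (toΓ (SpecO B) V.1 V.2) h3
      rw [chartMap_hom, map_zero, RingEquiv.apply_symm_apply] at h4
      exact h4
    exact ⟨IsClosedImmersion.lift _ g.left hle, IsClosedImmersion.lift_fac _ _ _⟩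

end Groth.Agent.H2.AffRep
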