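import Groth.Agent.Lib.Helper2.AffRepD

/-! # Yoneda on affine schemes: natural transformations between functors represented on affines
give morphisms of the representing schemes. -/

universe u
open CategoryTheory CategoryTheory.Limits AlgebraicGeometry TopologicalSpace Opposite

namespace Groth.Agent.H2.AffRep

variable {R : Type u} [CommRing R]

/-- the morphism `Spec B ⟶ Spec A` over `Spec R` of a map of `R`-algebras. -/
noncomputable def SpecOmap {A B : CommAlgCat.{u} R} (φ : A ⟶ B) : SpecO B ⟶ SpecO A :=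
  Over.homMk (Spec.map (CommRingCat.ofHom φ.hom.toRingHom)) (by
    change Spec.map _ ≫ Spec.map _ = Spec.map _
    rw [← Spec.map_comp]
    congr 1
    ext r
    exact φ.hom.commutes r)

lemma SpecOmap_left {A B : CommAlgCat.{u} R} (φ : A ⟶ B) :
    (SpecOmap φ).left = Spec.map (CommRingCat.ofHom φ.hom.toRingHom) := rfl

lemma chart_comp' {T' T : Over (Spec (CommRingCat.of R))} (f : T' ⟶ T)
    {V : T.left.Opens} (hV : IsAffineOpen V) {V' : T'.left.Opens} (hV' : IsAffineOpen V')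
    (h : V' ≤ f.left ⁻¹ᵁ V) :
    chart T' V' hV' ≫ f = SpecOmap (chartMap f hV hV' h) ≫ chart T V hV :=
  Over.OverMorphism.ext (chart_comp f hV hV' h)

lemma chart_res {T : Over (Spec (CommRingCat.of R))}
    {V : T.left.Opens} (hV : IsAffineOpen V) {V' : T.left.Opens} (hV' : IsAffineOpen V')
    (h : V' ≤ V) :
    chart T V' hV' = SpecOmap (chartMap (𝟙 T) hV hV' h) ≫ chart T V hV := by
  have := chart_comp' (𝟙 T) hV hV' h
  rwa [Category.comp_id] at this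

lemma chart_SpecO (B : CommAlgCat.{u} R) (V : (SpecO B).left.Opens) (hV : IsAffineOpen V) :
    chart (SpecO B) V hV = SpecOmap (locMap B V hV) :=
  Over.OverMorphism.ext (chart_left_eq B V hV)

variable {F F₁ F₂ : CommAlgCat.{u, u} R ⥤ Type u} {X X₁ X₂ : Over (Spec (CommRingCat.of R))}

lemma Rep.e_comp (ρ : Rep F X) {A B : CommAlgCat.{u} R} (φ : A ⟶ B) (g : SpecO A ⟶ X) :
    ρ.e B (SpecOmap φ ≫ g) = F.map φ (ρ.e A g) :=
  ρ.he A B φ g _ rfl

lemma Rep.symm_map (ρ : Rep F X) {A B : CommAlgCat.{u} R} (φ : A ⟶ B) (ξ : F.obj A) :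
    (ρ.e B).symm (F.map φ ξ) = SpecOmap φ ≫ (ρ.e A).symm ξ := by
  rw [Equiv.symm_apply_eq, ρ.e_comp, Equiv.apply_symm_apply]

/-- Morphisms out of a scheme agree if they agree on affine charts covering it. -/
lemma hom_ext_of_charts {T Y : Scheme.{u}} (f f' : T ⟶ Y)
    (h : ∀ x : T, ∃ (V : T.Opens) (hV : IsAffineOpen V), x ∈ V ∧
      hV.fromSpec ≫ f = hV.fromSpec ≫ f') : f = f' := by
  choose V hV hx heq using h
  have hcov : IsOpenCover V := by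
    rw [IsOpenCover, eq_top_iff]
    intro x _
    exact Opens.mem_iSup.mpr ⟨x, hx x⟩
  apply (T.openCoverOfIsOpenCover V hcov).hom_ext
  intro x
  change (V x).ι ≫ f = (V x).ι ≫ f'
  have h1 : (V x).ι = (hV x).isoSpec.hom ≫ (hV x).fromSpec := by
    rw [← (hV x).isoSpec_inv_ι, Iso.hom_inv_id_assoc]
  rw [h1, Category.assoc, Category.assoc, heq x]

/-- Morphisms over `Spec R` agree if they agree on all affine points. -/
lemma hom_ext_of_points (c c' : X₂ ⟶ X₁)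
    (h : ∀ (A : CommAlgCat.{u} R) (g : SpecO A ⟶ X₂), g ≫ c = g ≫ c') : c = c' := by
  apply Over.OverMorphism.ext
  apply hom_ext_of_charts
  intro x
  obtain ⟨_, ⟨U, hU, rfl⟩, hxU, -⟩ := X₂.left.isBasis_affineOpens.exists_subset_of_mem_open
    (Set.mem_univ x) isOpen_univ
  refine ⟨U, hU, hxU, ?_⟩
  have := congrArg (fun t => t.left) (h _ (chart X₂ U hU))
  exact this

section yoneda

variable (ρ₂ : Rep F₂ X₂) (ρ₁ : Rep F₁ X₁) (τ : F₂ ⟶ F₁)

/-- the morphism on an affine chart. -/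
noncomputable def yonedaChart (U : X₂.left.Opens) (hU : IsAffineOpen U) :
    SpecO (chartAlg X₂ U hU) ⟶ X₁ :=
  (ρ₁.e _).symm (τ.app _ (ρ₂.ξ U hU))

lemma τ_map {A B : CommAlgCat.{u} R} (φ : A ⟶ B) (ξ : F₂.obj A) :
    τ.app B (F₂.map φ ξ) = F₁.map φ (τ.app A ξ) :=
  NatTrans.naturality_apply τ φ ξ

lemma yonedaChart_res {U V : X₂.left.Opens} (hU : IsAffineOpen U) (hV : IsAffineOpen V)
    (h : U ≤ V) :
    yonedaChart ρ₂ ρ₁ τ U hU = SpecOmap (chartMap (𝟙 X₂) hV hU h) ≫ yonedaChart ρ₂ ρ₁ τ V hV := by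
  unfold yonedaChart
  rw [← ρ₁.symm_map, ← τ_map, ρ₂.map_ξ_res]

/-- general points: the point `g ≫ chart` in terms of the yoneda chart. -/
lemma yonedaChart_point {B : CommAlgCat.{u} R} {U : X₂.left.Opens} (hU : IsAffineOpen U)
    (φ : chartAlg X₂ U hU ⟶ B) :
    ρ₁.e B (SpecOmap φ ≫ yonedaChart ρ₂ ρ₁ τ U hU) =
      τ.app B (ρ₂.e B (SpecOmap φ ≫ chart X₂ U hU)) := by
  rw [ρ₁.e_comp, ρ₂.e_comp]
  unfold yonedaChart
  rw [Equiv.apply_symm_apply, τ_map]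
  rfl

lemma ι_eq_isoSpec {T : Scheme.{u}} {U : T.Opens} (hU : IsAffineOpen U) :
    U.ι = hU.isoSpec.hom ≫ hU.fromSpec := by
  rw [← hU.isoSpec_inv_ι, Iso.hom_inv_id_assoc]

lemma yonedaChart_w (U : X₂.left.Opens) (hU : IsAffineOpen U) :
    (hU.isoSpec.hom ≫ (yonedaChart ρ₂ ρ₁ τ U hU).left) ≫ X₁.hom = U.ι ≫ X₂.hom := by
  have h1 : (yonedaChart ρ₂ ρ₁ τ U hU).left ≫ X₁.hom = (SpecO (chartAlg X₂ U hU)).hom :=
    Over.w _
  have h2 : (SpecO (chartAlg X₂ U hU)).hom = hU.fromSpec ≫ X₂.hom := SpecMap_chartStr X₂ U hU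
  calc (hU.isoSpec.hom ≫ (yonedaChart ρ₂ ρ₁ τ U hU).left) ≫ X₁.hom
      = hU.isoSpec.hom ≫ ((yonedaChart ρ₂ ρ₁ τ U hU).left ≫ X₁.hom) := Category.assoc _ _ _
    _ = hU.isoSpec.hom ≫ (hU.fromSpec ≫ X₂.hom) :=
        congrArg (fun t => hU.isoSpec.hom ≫ t) (h1.trans h2)
    _ = U.ι ≫ X₂.hom := by rw [ι_eq_isoSpec hU, Category.assoc]

lemma yonedaChart_glue {U V : X₂.left.Opens} (hU : IsAffineOpen U) (hV : IsAffineOpen V)
    (h : U ≤ V) :
    X₂.left.homOfLE h ≫ hV.isoSpec.hom ≫ (yonedaChart ρ₂ ρ₁ τ V hV).left =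
      hU.isoSpec.hom ≫ (yonedaChart ρ₂ ρ₁ τ U hU).left := by
  rw [yonedaChart_res ρ₂ ρ₁ τ hU hV h, Over.comp_left, SpecOmap_left,
    IsAffineOpen.isoSpec_hom, IsAffineOpen.isoSpec_hom, ← Category.assoc,
    ← Scheme.Opens.toSpecΓ_SpecMap_presheaf_map U V h, Category.assoc]
  congr 2

/-- **Yoneda on affines**: a natural transformation induces a morphism. -/
theorem exists_hom_of_nat :
    ∃ c : X₂ ⟶ X₁, ∀ (A : CommAlgCat.{u} R) (g : SpecO A ⟶ X₂),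
      ρ₁.e A (g ≫ c) = τ.app A (ρ₂.e A g) := by
  let 𝒰 := X₂.left.directedAffineCover
  let γ : ∀ U : X₂.left.affineOpens, (U.1 : Scheme.{u}) ⟶ X₁.left := fun U =>
    (IsAffineOpen.isoSpec (U := U.1) U.2).hom ≫ (yonedaChart ρ₂ ρ₁ τ U.1 U.2).left
  have hγ : ∀ {U V : 𝒰.I₀} (hUV : U ⟶ V), 𝒰.trans hUV ≫ γ V = γ U := by
    intro U V hUV
    exact yonedaChart_glue ρ₂ ρ₁ τ U.2 V.2 (leOfHom hUV)
  have hw : ∀ U : 𝒰.I₀, γ U ≫ X₁.hom = 𝒰.f U ≫ X₂.hom := by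
    intro U
    exact yonedaChart_w ρ₂ ρ₁ τ U.1 U.2
  let c : X₂ ⟶ X₁ := 𝒰.glueMorphismsOverOfLocallyDirected γ hγ hw
  have hc : ∀ (U : X₂.left.Opens) (hU : IsAffineOpen U),
      chart X₂ U hU ≫ c = yonedaChart ρ₂ ρ₁ τ U hU := by
    intro U hU
    apply Over.OverMorphism.ext
    have h2 : 𝒰.f ⟨U, hU⟩ ≫ c.left = γ ⟨U, hU⟩ :=
      Scheme.OpenCover.map_glueMorphismsOverOfLocallyDirected_left 𝒰 γ hγ hw ⟨U, hU⟩
    have h3 : U.ι ≫ c.left = hU.isoSpec.hom ≫ (yonedaChart ρ₂ ρ₁ τ U hU).left := h2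
    have h4 : hU.isoSpec.inv ≫ (U.ι ≫ c.left) =
        hU.isoSpec.inv ≫ (hU.isoSpec.hom ≫ (yonedaChart ρ₂ ρ₁ τ U hU).left) :=
      congrArg (fun t => hU.isoSpec.inv ≫ t) h3
    exact ((Category.assoc _ _ _).trans h4).trans (Iso.inv_hom_id_assoc _ _)
  refine ⟨c, ?_⟩
  intro A g
  rw [← Equiv.eq_symm_apply]
  apply Over.OverMorphism.ext
  apply hom_ext_of_charts
  intro x
  obtain ⟨_, ⟨U, hU, rfl⟩, hxU, -⟩ := X₂.left.isBasis_affineOpens.exists_subset_of_mem_open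
    (Set.mem_univ (g.left x)) isOpen_univ
  obtain ⟨_, ⟨V, hV, rfl⟩, hxV, hVU⟩ :=
    (SpecO A).left.isBasis_affineOpens.exists_subset_of_mem_open
      (show x ∈ ((g.left ⁻¹ᵁ U : (SpecO A).left.Opens) : Set _) from hxU) (g.left ⁻¹ᵁ U).2
  refine ⟨V, hV, hxV, ?_⟩
  have key : chart (SpecO A) V hV ≫ (g ≫ c) =
      chart (SpecO A) V hV ≫ (ρ₁.e A).symm (τ.app A (ρ₂.e A g)) := by
    rw [← Category.assoc, chart_comp' g hU hV hVU, Category.assoc, hc U hU,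
      chart_SpecO, ← ρ₁.symm_map, Equiv.eq_symm_apply, yonedaChart_point, ← τ_map,
      ← ρ₂.e_comp, ← chart_SpecO, ← chart_comp' g hU hV hVU]
  exact congrArg (fun t => t.left) key

end yoneda

end Groth.Agent.H2.AffRep
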