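import Groth.Agent.Lib.Helper2.AffRepE

/-! # Representing schemes are unique; closed subfunctors are represented by closed subschemes
(as `Rep` structures). -/

universe u
open CategoryTheory CategoryTheory.Limits AlgebraicGeometry TopologicalSpace Opposite

namespace Groth.Agent.H2.AffRep

variable {R : Type u} [CommRing R]
variable {F F' : CommAlgCat.{u, u} R ⥤ Type u} {X X' : Over (Spec (CommRingCat.of R))}

/-- two schemes representing the same functor on affines are isomorphic. -/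
theorem Rep.exists_iso (ρ : Rep F X) (ρ' : Rep F X') :
    ∃ d : X ≅ X', ∀ (A : CommAlgCat.{u} R) (g : SpecO A ⟶ X), ρ'.e A (g ≫ d.hom) = ρ.e A g := by
  obtain ⟨d, hd⟩ := exists_hom_of_nat ρ ρ' (𝟙 F)
  obtain ⟨d', hd'⟩ := exists_hom_of_nat ρ' ρ (𝟙 F)
  refine ⟨⟨d, d', ?_, ?_⟩, fun A g => hd A g⟩
  · apply hom_ext_of_points
    intro A g
    apply (ρ.e A).injective
    rw [← Category.assoc, hd', Category.comp_id]
    exact hd A g
  · apply hom_ext_of_points
    intro A g
    apply (ρ'.e A).injective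
    rw [← Category.assoc, hd, Category.comp_id]
    exact hd' A g

variable {P : ∀ A : CommAlgCat.{u} R, F.obj A → Prop}

/-- A closed subfunctor (given as an injective natural transformation with image cut out by a
closed predicate) is represented by a closed subscheme. -/
theorem exists_rep_of_closed (ρ : Rep F X) (hP : IsClosedPred F P) (τ : F' ⟶ F)
    (hinj : ∀ A, Function.Injective (τ.app A))
    (hrange : ∀ A (ξ : F.obj A), P A ξ ↔ ∃ ξ', τ.app A ξ' = ξ) :
    ∃ (Z : Over (Spec (CommRingCat.of R))) (ι : Z ⟶ X) (ρZ : Rep F' Z),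
      IsClosedImmersion ι.left ∧
      ∀ (A : CommAlgCat.{u} R) (h : SpecO A ⟶ Z), τ.app A (ρZ.e A h) = ρ.e A (h ≫ ι) := by
  obtain ⟨Z₀, ι₀, hι₀, hfac⟩ := exists_closedImmersion ρ hP
  let Z : Over (Spec (CommRingCat.of R)) := Over.mk (ι₀ ≫ X.hom)
  let ι : Z ⟶ X := Over.homMk ι₀ rfl
  have hmono : ∀ {A : CommAlgCat.{u} R} (h h' : SpecO A ⟶ Z), h ≫ ι = h' ≫ ι → h = h' := by
    intro A h h' hh
    apply Over.OverMorphism.ext
    have h1 : h.left ≫ ι₀ = h'.left ≫ ι₀ := congrArg (fun t => t.left) hh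
    exact (cancel_mono ι₀).mp h1
  have hex : ∀ (A : CommAlgCat.{u} R) (h : SpecO A ⟶ Z), ∃ ξ', τ.app A ξ' = ρ.e A (h ≫ ι) := by
    intro A h
    exact (hrange A _).mp ((hfac A (h ≫ ι)).mp ⟨h.left, rfl⟩)
  let eZ : ∀ A : CommAlgCat.{u} R, (SpecO A ⟶ Z) → F'.obj A := fun A h => (hex A h).choose
  have heZ : ∀ A h, τ.app A (eZ A h) = ρ.e A (h ≫ ι) := fun A h => (hex A h).choose_spec
  have hbij : ∀ A, Function.Bijective (eZ A) := by
    intro A
    constructor
    · intro h h' hh
      apply hmono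
      apply (ρ.e A).injective
      rw [← heZ, ← heZ, hh]
    · intro ξ'
      have hPξ : P A (ρ.e A ((ρ.e A).symm (τ.app A ξ'))) := by
        rw [Equiv.apply_symm_apply]
        exact (hrange A _).mpr ⟨ξ', rfl⟩
      obtain ⟨h₀, hh₀⟩ := (hfac A _).mpr hPξ
      let h : SpecO A ⟶ Z := Over.homMk h₀ (by
        change h₀ ≫ ι₀ ≫ X.hom = _
        rw [← Category.assoc, hh₀]
        exact Over.w _)
      refine ⟨h, ?_⟩
      apply hinj A
      rw [heZ]
      have h2 : h ≫ ι = (ρ.e A).symm (τ.app A ξ') := Over.OverMorphism.ext hh₀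
      rw [h2, Equiv.apply_symm_apply]
  refine ⟨Z, ι, ⟨fun A => Equiv.ofBijective (eZ A) (hbij A), ?_⟩, hι₀, fun A h => heZ A h⟩
  intro A B φ h h' hh'
  apply hinj B
  change τ.app B (eZ B h') = τ.app B (F'.map φ (eZ A h))
  rw [heZ, τ_map, heZ]
  apply ρ.he
  rw [Over.comp_left, Over.comp_left, hh', Category.assoc]

end Groth.Agent.H2.AffRep
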