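import Groth.Agent.Lib.Helper2.AffRepF

/-! # Open subfunctors of a functor represented on affine schemes are represented by open
subschemes. -/

universe u
open CategoryTheory CategoryTheory.Limits AlgebraicGeometry TopologicalSpace Opposite

namespace Groth.Agent.H2.AffRep

variable {R : Type u} [CommRing R]
variable {F : CommAlgCat.{u, u} R ⥤ Type u} {X : Over (Spec (CommRingCat.of R))}

/-- a predicate on the values of `F` cut out by the complement of the zero locus of ideals,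
compatibly with base change. -/
def IsOpenPred (F : CommAlgCat.{u, u} R ⥤ Type u)
    (P : ∀ A : CommAlgCat.{u} R, F.obj A → Prop) : Prop :=
  ∀ (A : CommAlgCat.{u} R) (ξ : F.obj A), ∃ I : Ideal A,
    ∀ (B : CommAlgCat.{u} R) (φ : A ⟶ B), P B (F.map φ ξ) ↔ I.map φ.hom = ⊤

variable {P : ∀ A : CommAlgCat.{u} R, F.obj A → Prop} (hP : IsOpenPred F P)

/-- the ideal whose zero locus is the complement of the open locus of an element. -/
noncomputable def oI (A : CommAlgCat.{u} R) (ξ : F.obj A) : Ideal A := (hP A ξ).choose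

lemma oI_spec (A : CommAlgCat.{u} R) (ξ : F.obj A) (B : CommAlgCat.{u} R) (φ : A ⟶ B) :
    P B (F.map φ ξ) ↔ (oI hP A ξ).map φ.hom = ⊤ := (hP A ξ).choose_spec B φ

lemma opred_iff_oI_eq_top (A : CommAlgCat.{u} R) (ξ : F.obj A) : P A ξ ↔ oI hP A ξ = ⊤ := by
  have h := oI_spec hP A ξ A (𝟙 A)
  rw [F.map_id] at h
  change P A ξ ↔ _ at h
  rw [h]
  have : (oI hP A ξ).map (𝟙 A : A ⟶ A).hom = oI hP A ξ := by
    change (oI hP A ξ).map (AlgHom.id R A) = _
    exact Ideal.map_id _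
  rw [this]

include hP in
lemma opred_map {A B : CommAlgCat.{u} R} (φ : A ⟶ B) (ξ : F.obj A) (h : P A ξ) :
    P B (F.map φ ξ) := by
  rw [oI_spec hP, (opred_iff_oI_eq_top hP A ξ).mp h]
  exact Ideal.map_top _

/-- membership in the basic open of a restricted global section of `Spec B`. -/
lemma mem_basicOpen_locHom (B : CommAlgCat.{u} R) (V : (Spec (CommRingCat.of B)).Opens) (b : B)
    (y : Spec (CommRingCat.of B)) :
    y ∈ (Spec (CommRingCat.of B)).basicOpen (locHom B V b) ↔ y ∈ V ∧ b ∉ y.asIdeal := by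
  have h1 : locHom B V b = (Spec (CommRingCat.of B)).presheaf.map (homOfLE (le_top : V ≤ ⊤)).op
      ((Scheme.ΓSpecIso (CommRingCat.of B)).inv b) := rfl
  rw [h1]
  erw [Scheme.basicOpen_res]
  rw [basicOpen_eq_of_affine]
  rfl

include hP in
/-- **Locality** of an open predicate. -/
lemma opred_of_locally (B : CommAlgCat.{u} R) (ξ : F.obj B)
    (h : ∀ y : (SpecO B).left, ∃ (V : (SpecO B).left.Opens) (hV : IsAffineOpen V), y ∈ V ∧
      P _ (F.map (locMap B V hV) ξ)) : P B ξ := by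
  rw [opred_iff_oI_eq_top hP]
  by_contra hne
  obtain ⟨m, hm, hIm⟩ := Ideal.exists_le_maximal _ hne
  let y : Spec (CommRingCat.of B) := ⟨m, hm.isPrime⟩
  obtain ⟨V, hV, hyV, hPV⟩ := h y
  rw [oI_spec hP] at hPV
  have hspan : Ideal.span ((locHom B V) '' (oI hP B ξ : Set B)) = ⊤ := by
    rw [← Ideal.map_span, Ideal.span_eq] at *
    exact hPV
  have hcov := (hV.self_le_iSup_basicOpen_iff).mpr hspan
  have hy := hcov hyV
  rw [Opens.mem_iSup] at hy
  obtain ⟨⟨f, b, hb, rfl⟩, hyf⟩ := hy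
  have hyf' := (mem_basicOpen_locHom B V b y).mp hyf
  exact hyf'.2 (hIm hb)

variable (ρ : Rep F X)

/-- the open subscheme representing an open subfunctor. -/
noncomputable def openOf : X.left.Opens :=
  ⨆ (W : X.left.affineOpens) (f : oI hP (chartAlg X W.1 W.2) (ρ.ξ W.1 W.2)),
    X.left.basicOpen (toΓ X W.1 W.2 f.1)

lemma mem_openOf (x : X.left) :
    x ∈ openOf hP ρ ↔ ∃ (W : X.left.Opens) (hW : IsAffineOpen W)
      (f : chartAlg X W hW), f ∈ oI hP (chartAlg X W hW) (ρ.ξ W hW) ∧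
        x ∈ X.left.basicOpen (toΓ X W hW f) := by
  rw [openOf, Opens.mem_iSup]
  constructor
  · rintro ⟨W, hx⟩
    rw [Opens.mem_iSup] at hx
    obtain ⟨f, hx⟩ := hx
    exact ⟨W.1, W.2, f.1, f.2, hx⟩
  · rintro ⟨W, hW, f, hf, hx⟩
    refine ⟨⟨W, hW⟩, ?_⟩
    rw [Opens.mem_iSup]
    exact ⟨⟨f, hf⟩, hx⟩

/-- (★) the predicate on a small affine open of `Spec B` in terms of the universal ideal. -/
lemma opred_loc_iff {B : CommAlgCat.{u} R} (g : SpecO B ⟶ X)
    {W : X.left.Opens} (hW : IsAffineOpen W) {V : (SpecO B).left.Opens} (hV : IsAffineOpen V)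
    (h : V ≤ g.left ⁻¹ᵁ W) :
    P _ (F.map (locMap B V hV) (ρ.e B g)) ↔
      ∀ y ∈ V, ∃ f ∈ oI hP (chartAlg X W hW) (ρ.ξ W hW),
        g.left y ∈ X.left.basicOpen (toΓ X W hW f) := by
  rw [← ρ.map_ξ g hW hV h, oI_spec hP]
  set χ := chartMap g hW hV h with hχ
  set I := oI hP (chartAlg X W hW) (ρ.ξ W hW) with hI
  change Ideal.span ((g.left.appLE W V h).hom '' (I : Set (chartAlg X W hW))) = ⊤ ↔ _
  rw [← hV.self_le_iSup_basicOpen_iff]
  constructor
  · intro hcov y hy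
    have := hcov hy
    rw [Opens.mem_iSup] at this
    obtain ⟨⟨_, f, hf, rfl⟩, hyf⟩ := this
    refine ⟨f, hf, ?_⟩
    change y ∈ (SpecO B).left.basicOpen ((g.left.appLE W V h).hom (toΓ X W hW f)) at hyf
    erw [Scheme.basicOpen_appLE] at hyf
    exact hyf.2
  · intro hall y hy
    obtain ⟨f, hf, hyf⟩ := hall y hy
    rw [Opens.mem_iSup]
    refine ⟨⟨_, f, hf, rfl⟩, ?_⟩
    change y ∈ (SpecO B).left.basicOpen ((g.left.appLE W V h).hom (toΓ X W hW f))
    erw [Scheme.basicOpen_appLE]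
    exact ⟨hy, hyf⟩

/-- **Open subfunctors are represented by open subschemes.** -/
theorem mem_openOf_iff (B : CommAlgCat.{u} R) (g : SpecO B ⟶ X) :
    (∀ y, g.left y ∈ openOf hP ρ) ↔ P B (ρ.e B g) := by
  constructor
  · intro hall
    apply opred_of_locally hP
    intro y
    obtain ⟨W, hW, f, hf, hyf⟩ := (mem_openOf hP ρ _).mp (hall y)
    have hfW : X.left.basicOpen (toΓ X W hW f) ≤ W := X.left.basicOpen_le _
    obtain ⟨_, ⟨V, hV, rfl⟩, hyV, hVf⟩ :=
      (SpecO B).left.isBasis_affineOpens.exists_subset_of_mem_open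
        (show y ∈ ((g.left ⁻¹ᵁ (X.left.basicOpen (toΓ X W hW f)) : (SpecO B).left.Opens) :
          Set _) from hyf) (g.left ⁻¹ᵁ _).2
    have hVW : V ≤ g.left ⁻¹ᵁ W := fun z hz => hfW (hVf hz)
    refine ⟨V, hV, hyV, ?_⟩
    rw [opred_loc_iff hP ρ g hW hV hVW]
    intro z hz
    exact ⟨f, hf, hVf hz⟩
  · intro hPg y
    obtain ⟨_, ⟨W, hW, rfl⟩, hyW, -⟩ := X.left.isBasis_affineOpens.exists_subset_of_mem_open
      (Set.mem_univ (g.left y)) isOpen_univ
    obtain ⟨_, ⟨V, hV, rfl⟩, hyV, hVW⟩ :=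
      (SpecO B).left.isBasis_affineOpens.exists_subset_of_mem_open
        (show y ∈ ((g.left ⁻¹ᵁ W : (SpecO B).left.Opens) : Set _) from hyW) (g.left ⁻¹ᵁ W).2
    have h1 := opred_map hP (locMap B V hV) _ hPg
    rw [opred_loc_iff hP ρ g hW hV hVW] at h1
    obtain ⟨f, hf, hyf⟩ := h1 y hyV
    exact (mem_openOf hP ρ _).mpr ⟨W, hW, f, hf, hyf⟩

end Groth.Agent.H2.AffRep
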