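import Groth.Agent.Lib.Helper2.AffRepG

/-! # `Rep` structures on subschemes representing subfunctors; open subfunctors. -/

universe u
open CategoryTheory CategoryTheory.Limits AlgebraicGeometry TopologicalSpace Opposite

namespace Groth.Agent.H2.AffRep

variable {R : Type u} [CommRing R]
variable {F F' : CommAlgCat.{u, u} R ⥤ Type u} {X : Over (Spec (CommRingCat.of R))}
variable {P : ∀ A : CommAlgCat.{u} R, F.obj A → Prop}

/-- A subfunctor (given as an injective natural transformation with image `P`) is represented by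
a monomorphism `ι₀ : Z₀ ⟶ X` through which exactly the points satisfying `P` factor. -/
theorem exists_rep_of_mono (ρ : Rep F X) (τ : F' ⟶ F)
    (hinj : ∀ A, Function.Injective (τ.app A))
    (hrange : ∀ A (ξ : F.obj A), P A ξ ↔ ∃ ξ', τ.app A ξ' = ξ)
    {Z₀ : Scheme.{u}} (ι₀ : Z₀ ⟶ X.left) [Mono ι₀]
    (hfac : ∀ (B : CommAlgCat.{u} R) (g : SpecO B ⟶ X),
        (∃ h : (SpecO B).left ⟶ Z₀, h ≫ ι₀ = g.left) ↔ P B (ρ.e B g)) :
    ∃ ρZ : Rep F' (Over.mk (ι₀ ≫ X.hom)),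
      ∀ (A : CommAlgCat.{u} R) (h : SpecO A ⟶ Over.mk (ι₀ ≫ X.hom)),
        τ.app A (ρZ.e A h) = ρ.e A (h ≫ (Over.homMk ι₀ rfl : Over.mk (ι₀ ≫ X.hom) ⟶ X)) := by
  let Z : Over (Spec (CommRingCat.of R)) := Over.mk (ι₀ ≫ X.hom)
  let ι : Z ⟶ X := Over.homMk ι₀ rfl
  have hmono : ∀ {A : CommAlgCat.{u} R} (h h' : SpecO A ⟶ Z), h ≫ ι = h' ≫ ι → h = h' := by
    intro A h h' hh
    apply Over.OverMorphism.ext
    have h1 : h.left ≫ ι₀ = h'.left ≫ ι₀ := congrArg (fun t => t.left) hh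
    exact (cancel_mono ι₀).mp h1
  have hex : ∀ (A : CommAlgCat.{u} R) (h : SpecO A ⟶ Z), ∃ ξ', τ.app A ξ' = ρ.e A (h ≫ ι) := by
    intro A h
    exact (hrange A _).mp ((hfac A (h ≫ ι)).mp ⟨h.left, rfl⟩)
  let eZ : ∀ A : CommAlgCat.{u} R, (SpecO A ⟶ Z) → F'.obj A := fun A h => (hex A h).choose
  have heZ : ∀ A h, τ.app A (eZ A h) = ρ.e A (h ≫ ι) := fun A h => (hex A h).choose_spec
  have hbij : ∀ A, Function.Bijective (eZ A) := by
    intro A
    constructor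
    · intro h h' hh
      apply hmono
      apply (ρ.e A).injective
      rw [← heZ, ← heZ, hh]
    · intro ξ'
      have hPξ : P A (ρ.e A ((ρ.e A).symm (τ.app A ξ'))) := by
        rw [Equiv.apply_symm_apply]
        exact (hrange A _).mpr ⟨ξ', rfl⟩
      obtain ⟨h₀, hh₀⟩ := (hfac A _).mpr hPξ
      let h : SpecO A ⟶ Z := Over.homMk h₀ (by
        change h₀ ≫ ι₀ ≫ X.hom = _
        rw [← Category.assoc, hh₀]
        exact Over.w _)
      refine ⟨h, ?_⟩
      apply hinj A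
      rw [heZ]
      have h2 : h ≫ ι = (ρ.e A).symm (τ.app A ξ') := Over.OverMorphism.ext hh₀
      rw [h2, Equiv.apply_symm_apply]
  refine ⟨⟨fun A => Equiv.ofBijective (eZ A) (hbij A), ?_⟩, fun A h => heZ A h⟩
  intro A B φ h h' hh'
  apply hinj B
  change τ.app B (eZ B h') = τ.app B (F'.map φ (eZ A h))
  rw [heZ, τ_map, heZ]
  apply ρ.he
  rw [Over.comp_left, Over.comp_left, hh', Category.assoc]

/-- points factoring through an open subscheme. -/
lemma factors_through_open_iff {T : Scheme.{u}} (U : X.left.Opens) (g : T ⟶ X.left) :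
    (∃ h : T ⟶ (U : Scheme.{u}), h ≫ U.ι = g) ↔ ∀ y, g y ∈ U := by
  constructor
  · rintro ⟨h, rfl⟩ y
    rw [Scheme.Hom.comp_apply]
    exact (h y).2
  · intro hy
    have hr : Set.range g ⊆ Set.range U.ι := by
      rw [Scheme.Opens.range_ι]
      rintro _ ⟨y, rfl⟩
      exact hy y
    exact ⟨IsOpenImmersion.lift U.ι g hr, IsOpenImmersion.lift_fac _ _ _⟩

/-- An open subfunctor is represented by an open subscheme. -/
theorem exists_rep_of_open (ρ : Rep F X) (hP : IsOpenPred F P) (τ : F' ⟶ F)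
    (hinj : ∀ A, Function.Injective (τ.app A))
    (hrange : ∀ A (ξ : F.obj A), P A ξ ↔ ∃ ξ', τ.app A ξ' = ξ) :
    ∃ (U : X.left.Opens) (ρU : Rep F' (Over.mk (U.ι ≫ X.hom))),
      (∀ (B : CommAlgCat.{u} R) (g : SpecO B ⟶ X), (∀ y, g.left y ∈ U) ↔ P B (ρ.e B g)) ∧
      ∀ (A : CommAlgCat.{u} R) (h : SpecO A ⟶ Over.mk (U.ι ≫ X.hom)),
        τ.app A (ρU.e A h) = ρ.e A (h ≫ (Over.homMk U.ι rfl : Over.mk (U.ι ≫ X.hom) ⟶ X)) := by
  have hU := mem_openOf_iff hP ρ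
  obtain ⟨ρU, hρU⟩ := exists_rep_of_mono ρ τ hinj hrange (openOf hP ρ).ι (by
    intro B g
    rw [factors_through_open_iff, hU])
  exact ⟨openOf hP ρ, ρU, hU, hρU⟩

end Groth.Agent.H2.AffRep
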