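import Groth.Agent.Lib.Helper2.AffRepH

/-! # Partial Yoneda on affines: morphisms out of a scheme representing a functor on affines,
defined by a natural construction on a class of "small" points that covers the scheme. -/

universe u
open CategoryTheory CategoryTheory.Limits AlgebraicGeometry TopologicalSpace Opposite

namespace Groth.Agent.H2.AffRep

variable {R : Type u} [CommRing R]
variable {F₂ : CommAlgCat.{u, u} R ⥤ Type u} {X₂ Y : Over (Spec (CommRingCat.of R))}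

section partialYoneda

variable (ρ₂ : Rep F₂ X₂) (Sm : ∀ A : CommAlgCat.{u} R, F₂.obj A → Prop)

/-- the cover of `X₂` by the small affine opens. -/
noncomputable def smallCover
    (hcov : ∀ p : X₂.left, ∃ (U : X₂.left.Opens) (hU : IsAffineOpen U), p ∈ U ∧
      Sm _ (ρ₂.ξ U hU)) : X₂.left.OpenCover where
  I₀ := {U : X₂.left.affineOpens // Sm _ (ρ₂.ξ U.1 U.2)}
  X U := U.1.1
  f U := U.1.1.ι
  mem₀ := by
    rw [Scheme.presieve₀_mem_precoverage_iff]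
    refine ⟨fun x ↦ ?_, inferInstance⟩
    obtain ⟨U, hU, hx, hs⟩ := hcov x
    refine ⟨⟨⟨U, hU⟩, hs⟩, ?_⟩
    simpa using hx

variable (hcov : ∀ p : X₂.left, ∃ (U : X₂.left.Opens) (hU : IsAffineOpen U), p ∈ U ∧
      Sm _ (ρ₂.ξ U hU))

noncomputable instance : Preorder (smallCover ρ₂ Sm hcov).I₀ :=
  inferInstanceAs <| Preorder {U : X₂.left.affineOpens // Sm _ (ρ₂.ξ U.1 U.2)}

variable (hSm : ∀ {A B : CommAlgCat.{u} R} (φ : A ⟶ B) (ξ : F₂.obj A), Sm A ξ → Sm B (F₂.map φ ξ))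

include hSm in
lemma isBasis_small :
    Opens.IsBasis (Set.range fun i : (smallCover ρ₂ Sm hcov).I₀ =>
      ((smallCover ρ₂ Sm hcov).f i).opensRange) := by
  rw [Opens.isBasis_iff_nbhd]
  intro O p hp
  obtain ⟨U, hU, hpU, hs⟩ := hcov p
  obtain ⟨_, ⟨V, hV, rfl⟩, hpV, hVO⟩ := X₂.left.isBasis_affineOpens.exists_subset_of_mem_open
    (show p ∈ ((U ⊓ O : X₂.left.Opens) : Set _) from ⟨hpU, hp⟩) (U ⊓ O).2
  have hVU : V ≤ U := fun y hy => (hVO hy).1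
  have hsV : Sm _ (ρ₂.ξ V hV) := by
    rw [← ρ₂.map_ξ_res hU hV hVU]
    exact hSm _ _ hs
  refine ⟨V, ⟨⟨⟨V, hV⟩, hsV⟩, ?_⟩, hpV, fun y hy => (hVO hy).2⟩
  change (Scheme.Opens.ι V).opensRange = V
  exact Scheme.Opens.opensRange_ι V

@[instance_reducible]
noncomputable def locallyDirected_small
    (hSm : ∀ {A B : CommAlgCat.{u} R} (φ : A ⟶ B) (ξ : F₂.obj A), Sm A ξ → Sm B (F₂.map φ ξ)) :
    Scheme.Cover.LocallyDirected (smallCover ρ₂ Sm hcov) :=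
  .ofIsBasisOpensRange (by
    intro i j
    change i.1.1 ≤ j.1.1 ↔ (i.1.1.ι).opensRange ≤ (j.1.1.ι).opensRange
    rw [Scheme.Opens.opensRange_ι, Scheme.Opens.opensRange_ι]) (isBasis_small ρ₂ Sm hcov hSm)

variable (T : ∀ (A : CommAlgCat.{u} R) (ξ : F₂.obj A), Sm A ξ → (SpecO A ⟶ Y))
  (hT : ∀ {A B : CommAlgCat.{u} R} (φ : A ⟶ B) (ξ : F₂.obj A) (h : Sm A ξ) (ξ' : F₂.obj B)
    (h' : Sm B ξ'), ξ' = F₂.map φ ξ → T B ξ' h' = SpecOmap φ ≫ T A ξ h)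

include hT in
lemma partial_glue {U V : X₂.left.Opens} (hU : IsAffineOpen U) (hV : IsAffineOpen V)
    (h : U ≤ V) (hsU : Sm _ (ρ₂.ξ U hU)) (hsV : Sm _ (ρ₂.ξ V hV)) :
    X₂.left.homOfLE h ≫ hV.isoSpec.hom ≫ (T _ (ρ₂.ξ V hV) hsV).left =
      hU.isoSpec.hom ≫ (T _ (ρ₂.ξ U hU) hsU).left := by
  rw [hT (chartMap (𝟙 X₂) hV hU h) (ρ₂.ξ V hV) hsV (ρ₂.ξ U hU) hsU
    (ρ₂.map_ξ_res hV hU h).symm, Over.comp_left, SpecOmap_left,
    IsAffineOpen.isoSpec_hom, IsAffineOpen.isoSpec_hom, ← Category.assoc,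
    ← Scheme.Opens.toSpecΓ_SpecMap_presheaf_map U V h, Category.assoc]
  congr 2

lemma partial_w (U : X₂.left.Opens) (hU : IsAffineOpen U) (hsU : Sm _ (ρ₂.ξ U hU)) :
    (hU.isoSpec.hom ≫ (T _ (ρ₂.ξ U hU) hsU).left) ≫ Y.hom = U.ι ≫ X₂.hom := by
  have h1 : (T _ (ρ₂.ξ U hU) hsU).left ≫ Y.hom = (SpecO (chartAlg X₂ U hU)).hom :=
    Over.w _
  have h2 : (SpecO (chartAlg X₂ U hU)).hom = hU.fromSpec ≫ X₂.hom := SpecMap_chartStr X₂ U hU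
  calc (hU.isoSpec.hom ≫ (T _ (ρ₂.ξ U hU) hsU).left) ≫ Y.hom
      = hU.isoSpec.hom ≫ ((T _ (ρ₂.ξ U hU) hsU).left ≫ Y.hom) := Category.assoc _ _ _
    _ = hU.isoSpec.hom ≫ (hU.fromSpec ≫ X₂.hom) :=
        congrArg (fun t => hU.isoSpec.hom ≫ t) (h1.trans h2)
    _ = U.ι ≫ X₂.hom := by rw [ι_eq_isoSpec hU, Category.assoc]

include hSm hT hcov in
/-- **Partial Yoneda on affines.** -/
theorem exists_hom_of_partial :
    ∃ c : X₂ ⟶ Y, ∀ (A : CommAlgCat.{u} R) (g : SpecO A ⟶ X₂) (h : Sm A (ρ₂.e A g)),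
      g ≫ c = T A _ h := by
  let _ := locallyDirected_small ρ₂ Sm hcov hSm
  let 𝒰 := smallCover ρ₂ Sm hcov
  let γ : ∀ U : 𝒰.I₀, 𝒰.X U ⟶ Y.left := fun U =>
    (IsAffineOpen.isoSpec (U := U.1.1) U.1.2).hom ≫ (T _ (ρ₂.ξ U.1.1 U.1.2) U.2).left
  have hγ : ∀ {U V : 𝒰.I₀} (hUV : U ⟶ V), 𝒰.trans hUV ≫ γ V = γ U := by
    intro U V hUV
    exact partial_glue ρ₂ Sm T hT U.1.2 V.1.2 (leOfHom hUV) U.2 V.2
  have hw : ∀ U : 𝒰.I₀, γ U ≫ Y.hom = 𝒰.f U ≫ X₂.hom := by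
    intro U
    exact partial_w ρ₂ Sm T U.1.1 U.1.2 U.2
  let c : X₂ ⟶ Y := 𝒰.glueMorphismsOverOfLocallyDirected γ hγ hw
  have hc : ∀ (U : X₂.left.Opens) (hU : IsAffineOpen U) (hsU : Sm _ (ρ₂.ξ U hU)),
      chart X₂ U hU ≫ c = T _ (ρ₂.ξ U hU) hsU := by
    intro U hU hsU
    apply Over.OverMorphism.ext
    have h2 : 𝒰.f ⟨⟨U, hU⟩, hsU⟩ ≫ c.left = γ ⟨⟨U, hU⟩, hsU⟩ :=
      Scheme.OpenCover.map_glueMorphismsOverOfLocallyDirected_left 𝒰 γ hγ hw ⟨⟨U, hU⟩, hsU⟩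
    have h3 : U.ι ≫ c.left = hU.isoSpec.hom ≫ (T _ (ρ₂.ξ U hU) hsU).left := h2
    have h4 : hU.isoSpec.inv ≫ (U.ι ≫ c.left) =
        hU.isoSpec.inv ≫ (hU.isoSpec.hom ≫ (T _ (ρ₂.ξ U hU) hsU).left) :=
      congrArg (fun t => hU.isoSpec.inv ≫ t) h3
    exact ((Category.assoc _ _ _).trans h4).trans (Iso.inv_hom_id_assoc _ _)
  refine ⟨c, ?_⟩
  intro A g hg
  apply Over.OverMorphism.ext
  apply hom_ext_of_charts
  intro x
  obtain ⟨U, hU, hxU, hsU⟩ := hcov (g.left x)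
  obtain ⟨_, ⟨V, hV, rfl⟩, hxV, hVU⟩ :=
    (SpecO A).left.isBasis_affineOpens.exists_subset_of_mem_open
      (show x ∈ ((g.left ⁻¹ᵁ U : (SpecO A).left.Opens) : Set _) from hxU) (g.left ⁻¹ᵁ U).2
  refine ⟨V, hV, hxV, ?_⟩
  have hsV : Sm _ (F₂.map (chartMap g hU hV hVU) (ρ₂.ξ U hU)) := hSm _ _ hsU
  have key : chart (SpecO A) V hV ≫ (g ≫ c) = chart (SpecO A) V hV ≫ T A _ hg := by
    rw [← Category.assoc, chart_comp' g hU hV hVU, Category.assoc, hc U hU hsU,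
      chart_SpecO]
    rw [← hT (chartMap g hU hV hVU) (ρ₂.ξ U hU) hsU _ hsV rfl]
    exact hT (locMap A V hV) (ρ₂.e A g) hg _ hsV (ρ₂.map_ξ g hU hV hVU)
  exact congrArg (fun t => t.left) key

end partialYoneda

end Groth.Agent.H2.AffRep
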