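import Groth.Agent.Lib.Helper2.AffRepK

/-! # Subfunctor representations, the tautological representation of `Spec A`, localisations. -/

universe u
open CategoryTheory CategoryTheory.Limits AlgebraicGeometry TopologicalSpace Opposite

namespace Groth.Agent.H2.AffRep

variable {R : Type u} [CommRing R]

lemma SpecOmap_comp {A B C : CommAlgCat.{u} R} (φ : A ⟶ B) (ψ : B ⟶ C) :
    SpecOmap (φ ≫ ψ) = SpecOmap ψ ≫ SpecOmap φ := by
  apply Over.OverMorphism.ext
  rw [Over.comp_left, SpecOmap_left, SpecOmap_left, SpecOmap_left, ← Spec.map_comp]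
  rfl

lemma SpecOmap_id (A : CommAlgCat.{u} R) : SpecOmap (𝟙 A) = 𝟙 (SpecO A) := by
  apply Over.OverMorphism.ext
  rw [SpecOmap_left]
  exact Spec.map_id _

/-- every morphism `Spec B ⟶ Spec A` over `Spec R` comes from a unique map of `R`-algebras. -/
lemma exists_SpecOmap_eq {A B : CommAlgCat.{u} R} (g : SpecO B ⟶ SpecO A) :
    ∃ φ : A ⟶ B, SpecOmap φ = g := by
  let ψ : CommRingCat.of A ⟶ CommRingCat.of B := Spec.preimage g.left
  have hψ : Spec.map ψ = g.left := Spec.map_preimage _
  have hcomm : CommRingCat.ofHom (algebraMap R A) ≫ ψ = CommRingCat.ofHom (algebraMap R B) := by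
    apply Spec.map_injective
    rw [Spec.map_comp, hψ]
    exact Over.w g
  let φ : A ⟶ B := CommAlgCat.ofHom (R := R) (X := A) (Y := B)
    { toRingHom := ψ.hom
      commutes' := fun r => congrArg (fun χ : CommRingCat.of R ⟶ CommRingCat.of B => χ.hom r) hcomm }
  refine ⟨φ, ?_⟩
  apply Over.OverMorphism.ext
  rw [SpecOmap_left, ← hψ]
  rfl

lemma SpecOmap_injective {A B : CommAlgCat.{u} R} {φ φ' : A ⟶ B}
    (h : SpecOmap φ = SpecOmap φ') : φ = φ' := by
  have h1 : Spec.map (CommRingCat.ofHom φ.hom.toRingHom) =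
      Spec.map (CommRingCat.ofHom φ'.hom.toRingHom) := congrArg (fun t => t.left) h
  have h2 := Spec.map_injective h1
  ext a
  exact congrArg (fun χ : CommRingCat.of A ⟶ CommRingCat.of B => χ.hom a) h2

/-- the functor of points of `Spec A` on `R`-algebras. -/
abbrev hA (A : CommAlgCat.{u} R) : CommAlgCat.{u, u} R ⥤ Type u := coyoneda.obj (op A)

/-- **the tautological representation** of `Spec A`. -/
noncomputable def repSpec (A : CommAlgCat.{u} R) : Rep (hA A) (SpecO A) where
  e B :=
    { toFun := fun g => (exists_SpecOmap_eq g).choose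
      invFun := fun φ => SpecOmap φ
      left_inv := fun g => (exists_SpecOmap_eq g).choose_spec
      right_inv := fun φ => SpecOmap_injective (exists_SpecOmap_eq (SpecOmap φ)).choose_spec }
  he B C φ g g' h := by
    apply SpecOmap_injective
    change SpecOmap (exists_SpecOmap_eq g').choose =
      SpecOmap ((exists_SpecOmap_eq g).choose ≫ φ)
    rw [(exists_SpecOmap_eq g').choose_spec, SpecOmap_comp, (exists_SpecOmap_eq g).choose_spec]
    exact Over.OverMorphism.ext h

lemma repSpec_e_SpecOmap {A B : CommAlgCat.{u} R} (φ : A ⟶ B) :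
    (repSpec A).e B (SpecOmap φ) = φ :=
  SpecOmap_injective (exists_SpecOmap_eq (SpecOmap φ)).choose_spec

lemma repSpec_ξ (A : CommAlgCat.{u} R) (V : (SpecO A).left.Opens) (hV : IsAffineOpen V) :
    (repSpec A).ξ V hV = locMap A V hV := by
  rw [Rep.ξ, chart_SpecO]
  exact repSpec_e_SpecOmap _

section away

/-- the localisation `A_f` as an `R`-algebra. -/
noncomputable abbrev awayObj (A : CommAlgCat.{u} R) (f : A) : CommAlgCat.{u} R :=
  CommAlgCat.of R (Localization.Away f)

/-- the localisation map `A ⟶ A_f`. -/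
noncomputable def awayMap (A : CommAlgCat.{u} R) (f : A) : A ⟶ awayObj A f :=
  CommAlgCat.ofHom (R := R) (X := A) (Y := awayObj A f)
    (IsScalarTower.toAlgHom R A (Localization.Away f))

lemma awayMap_hom (A : CommAlgCat.{u} R) (f : A) (a : A) :
    (awayMap A f).hom a = algebraMap A (Localization.Away f) a := rfl

lemma SpecOmap_awayMap_left (A : CommAlgCat.{u} R) (f : A) :
    (SpecOmap (awayMap A f)).left =
      Spec.map (CommRingCat.ofHom (algebraMap A (Localization.Away f))) := rfl

instance (A : CommAlgCat.{u} R) (f : A) : IsOpenImmersion (SpecOmap (awayMap A f)).left := by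
  rw [SpecOmap_awayMap_left]
  infer_instance

lemma range_SpecOmap_awayMap (A : CommAlgCat.{u} R) (f : A) :
    Set.range (SpecOmap (awayMap A f)).left = (PrimeSpectrum.basicOpen f : Set (PrimeSpectrum A)) := by
  rw [SpecOmap_awayMap_left]
  exact PrimeSpectrum.localization_away_comap_range (Localization.Away f) f

/-- morphisms out of `Spec A` agree if they agree on a cover by basic opens. -/
lemma hom_ext_of_away_cover {A : CommAlgCat.{u} R} {X : Over (Spec (CommRingCat.of R))}
    (c c' : SpecO A ⟶ X) {ι : Type u} (s : ι → A) (hs : Ideal.span (Set.range s) = ⊤)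
    (h : ∀ i, SpecOmap (awayMap A (s i)) ≫ c = SpecOmap (awayMap A (s i)) ≫ c') : c = c' := by
  apply Over.OverMorphism.ext
  apply (Scheme.affineOpenCoverOfSpanRangeEqTop (R := CommRingCat.of A) s hs).openCover.hom_ext
  intro i
  exact congrArg (fun t => t.left) (h i)

/-- a family of elements, one outside each prime, spans the unit ideal. -/
lemma span_eq_top_of_forall_notMem {A : Type u} [CommRing A] (s : PrimeSpectrum A → A)
    (hs : ∀ y : PrimeSpectrum A, s y ∉ y.asIdeal) : Ideal.span (Set.range s) = ⊤ := by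
  by_contra hne
  obtain ⟨m, hm, hle⟩ := Ideal.exists_le_maximal _ hne
  exact hs ⟨m, hm.isPrime⟩ (hle (Ideal.subset_span ⟨_, rfl⟩))

/-- locally on `Spec A`, a point of `X` factors through an open subscheme containing its image. -/
lemma exists_away_factor {A : CommAlgCat.{u} R} {X Xc : Over (Spec (CommRingCat.of R))}
    (g : SpecO A ⟶ X) (j : Xc ⟶ X) [IsOpenImmersion j.left] (y : PrimeSpectrum A)
    (hy : g.left y ∈ Set.range j.left) :
    ∃ (f : A) (_ : f ∉ y.asIdeal) (h : SpecO (awayObj A f) ⟶ Xc),
      h ≫ j = SpecOmap (awayMap A f) ≫ g := by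
  have hopen : IsOpen (g.left ⁻¹' Set.range j.left) :=
    j.left.isOpenEmbedding.isOpen_range.preimage g.left.continuous
  have hy' : y ∈ g.left ⁻¹' Set.range j.left := hy
  obtain ⟨_, ⟨f, rfl⟩, hyf, hfU⟩ :=
    PrimeSpectrum.isTopologicalBasis_basic_opens.exists_subset_of_mem_open hy' hopen
  have hr : Set.range ((SpecOmap (awayMap A f)).left ≫ g.left) ⊆ Set.range j.left := by
    rintro _ ⟨z, rfl⟩
    rw [Scheme.Hom.comp_apply]
    apply hfU
    have : (SpecOmap (awayMap A f)).left z ∈ Set.range (SpecOmap (awayMap A f)).left := ⟨z, rfl⟩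
    rw [range_SpecOmap_awayMap] at this
    exact this
  let h₀ := IsOpenImmersion.lift j.left ((SpecOmap (awayMap A f)).left ≫ g.left) hr
  have hfac : h₀ ≫ j.left = (SpecOmap (awayMap A f)).left ≫ g.left := IsOpenImmersion.lift_fac _ _ _
  have hw : h₀ ≫ Xc.hom = (SpecO (awayObj A f)).hom := by
    rw [← Over.w j, ← Category.assoc, hfac, Category.assoc, Over.w g]
    exact Over.w (SpecOmap (awayMap A f))
  refine ⟨f, hyf, Over.homMk h₀ hw, ?_⟩
  apply Over.OverMorphism.ext
  exact hfac

end away

end Groth.Agent.H2.AffRep
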