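import Groth.Agent.Lib.Helper2.AffRepI

/-! # Gluing two schemes over `Spec R` along a common open subscheme. -/

universe u
open CategoryTheory CategoryTheory.Limits AlgebraicGeometry TopologicalSpace Opposite

namespace Groth.Agent.H2.AffRep

variable {R : Type u} [CommRing R]

section scheme
variable {B X₁ X₂ : Scheme.{u}} (b₁ : B ⟶ X₁) (b₂ : B ⟶ X₂) [IsOpenImmersion b₁]
  [IsOpenImmersion b₂]

instance isOpenImmersion_pushout_inl : IsOpenImmersion (pushout.inl b₁ b₂) :=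
  inferInstanceAs (IsOpenImmersion (colimit.ι (span b₁ b₂) WalkingSpan.left))

instance isOpenImmersion_pushout_inr : IsOpenImmersion (pushout.inr b₁ b₂) :=
  inferInstanceAs (IsOpenImmersion (colimit.ι (span b₁ b₂) WalkingSpan.right))

lemma pushout_jointly_surjective (x : (pushout b₁ b₂ : Scheme.{u})) :
    (∃ x₁, pushout.inl b₁ b₂ x₁ = x) ∨ (∃ x₂, pushout.inr b₁ b₂ x₂ = x) := by
  obtain ⟨i, xi, hx⟩ := Scheme.IsLocallyDirected.ι_jointly_surjective (span b₁ b₂) x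
  rcases i with _ | i
  · left
    refine ⟨b₁ xi, ?_⟩
    rw [← hx, ← Scheme.Hom.comp_apply]
    have : b₁ ≫ pushout.inl b₁ b₂ = colimit.ι (span b₁ b₂) none :=
      colimit.w (span b₁ b₂) (WidePushoutShape.Hom.init WalkingPair.left)
    rw [this]
    rfl
  · cases i
    · exact Or.inl ⟨xi, hx⟩
    · exact Or.inr ⟨xi, hx⟩

lemma pushout_range_of_eq {x₁ : X₁} {x₂ : X₂}
    (h : pushout.inl b₁ b₂ x₁ = pushout.inr b₁ b₂ x₂) : ∃ y : B, b₁ y = x₁ ∧ b₂ y = x₂ := by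
  obtain ⟨k, fi, fj, x, h1, h2⟩ :=
    (Scheme.IsLocallyDirected.ι_eq_ι_iff (span b₁ b₂) (i := WalkingSpan.left)
      (j := WalkingSpan.right)).mp h
  rcases fi with _ | _
  · rcases fj with _ | _
  · rcases fj with _ | _
    exact ⟨x, h1, h2⟩

end scheme

/-- **Gluing two schemes over `Spec R` along a common open subscheme.** -/
theorem exists_glue₂ {B X₁ X₂ : Over (Spec (CommRingCat.of R))} (b₁ : B ⟶ X₁) (b₂ : B ⟶ X₂)
    [IsOpenImmersion b₁.left] [IsOpenImmersion b₂.left] :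
    ∃ (X : Over (Spec (CommRingCat.of R))) (j₁ : X₁ ⟶ X) (j₂ : X₂ ⟶ X),
      IsOpenImmersion j₁.left ∧ IsOpenImmersion j₂.left ∧ b₁ ≫ j₁ = b₂ ≫ j₂ ∧
      (∀ x : X.left, (∃ x₁, j₁.left x₁ = x) ∨ (∃ x₂, j₂.left x₂ = x)) ∧
      (∀ {T : Scheme.{u}} (g₁ : T ⟶ X₁.left) (g₂ : T ⟶ X₂.left),
        g₁ ≫ j₁.left = g₂ ≫ j₂.left → ∃ h : T ⟶ B.left, h ≫ b₁.left = g₁ ∧ h ≫ b₂.left = g₂) := by
  have hw : b₁.left ≫ X₁.hom = b₂.left ≫ X₂.hom := by rw [Over.w b₁, Over.w b₂]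
  let str : pushout b₁.left b₂.left ⟶ Spec (CommRingCat.of R) := pushout.desc X₁.hom X₂.hom hw
  let X : Over (Spec (CommRingCat.of R)) := Over.mk str
  let j₁ : X₁ ⟶ X := Over.homMk (pushout.inl b₁.left b₂.left) (pushout.inl_desc _ _ _)
  let j₂ : X₂ ⟶ X := Over.homMk (pushout.inr b₁.left b₂.left) (pushout.inr_desc _ _ _)
  refine ⟨X, j₁, j₂, isOpenImmersion_pushout_inl _ _, isOpenImmersion_pushout_inr _ _, ?_,
    pushout_jointly_surjective _ _, ?_⟩
  · apply Over.OverMorphism.ext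
    exact pushout.condition
  · intro T g₁ g₂ hg
    have hg' : g₁ ≫ pushout.inl b₁.left b₂.left = g₂ ≫ pushout.inr b₁.left b₂.left := hg
    have hr : Set.range g₁ ⊆ Set.range b₁.left := by
      rintro _ ⟨t, rfl⟩
      have h1 : pushout.inl b₁.left b₂.left (g₁ t) = pushout.inr b₁.left b₂.left (g₂ t) := by
        rw [← Scheme.Hom.comp_apply, ← Scheme.Hom.comp_apply, hg']
      obtain ⟨y, hy, -⟩ := pushout_range_of_eq _ _ h1
      exact ⟨y, hy⟩
    refine ⟨IsOpenImmersion.lift b₁.left g₁ hr, IsOpenImmersion.lift_fac _ _ _, ?_⟩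
    rw [← cancel_mono (pushout.inr b₁.left b₂.left), Category.assoc, ← pushout.condition,
      ← Category.assoc, IsOpenImmersion.lift_fac, hg']

end Groth.Agent.H2.AffRep
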