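import Groth.Agent.Lib.Helper2.AffRepJ

/-! # Schemes representing a subfunctor; Zariski sheaves on `R`-algebras. -/

universe u
open CategoryTheory CategoryTheory.Limits AlgebraicGeometry TopologicalSpace Opposite

namespace Groth.Agent.H2.AffRep

variable {R : Type u} [CommRing R]
variable {F : CommAlgCat.{u, u} R ⥤ Type u}

/-- `X` represents (on affines) the subfunctor of `F` cut out by the predicate `P`. -/
structure SubRep (F : CommAlgCat.{u, u} R ⥤ Type u)
    (P : ∀ A : CommAlgCat.{u} R, F.obj A → Prop) (X : Over (Spec (CommRingCat.of R))) where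
  v : ∀ A : CommAlgCat.{u} R, (SpecO A ⟶ X) → F.obj A
  nat : ∀ {A B : CommAlgCat.{u} R} (φ : A ⟶ B) (g : SpecO A ⟶ X),
    v B (SpecOmap φ ≫ g) = F.map φ (v A g)
  inj : ∀ A, Function.Injective (v A)
  mem : ∀ A g, P A (v A g)
  surj : ∀ A ξ, P A ξ → ∃ g, v A g = ξ

/-- a representation of the whole functor. -/
noncomputable def Rep.toSubRep {X : Over (Spec (CommRingCat.of R))} (ρ : Rep F X) :
    SubRep F (fun _ _ => True) X where
  v A g := ρ.e A g
  nat φ g := ρ.e_comp φ g
  inj A := (ρ.e A).injective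
  mem _ _ := trivial
  surj A ξ _ := ⟨(ρ.e A).symm ξ, Equiv.apply_symm_apply _ _⟩

/-- a representation of the subfunctor cut out by a predicate which always holds. -/
noncomputable def SubRep.toRep {P : ∀ A : CommAlgCat.{u} R, F.obj A → Prop}
    {X : Over (Spec (CommRingCat.of R))} (σ : SubRep F P X) (hP : ∀ A ξ, P A ξ) : Rep F X where
  e A := Equiv.ofBijective (σ.v A) ⟨σ.inj A, fun ξ => σ.surj A ξ (hP A ξ)⟩
  he A B φ g g' h := by
    have : g' = SpecOmap φ ≫ g := Over.OverMorphism.ext h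
    change σ.v B g' = F.map φ (σ.v A g)
    rw [this, σ.nat]

/-- change of predicate. -/
def SubRep.congr {P P' : ∀ A : CommAlgCat.{u} R, F.obj A → Prop}
    {X : Over (Spec (CommRingCat.of R))} (σ : SubRep F P X) (h : ∀ A ξ, P A ξ ↔ P' A ξ) :
    SubRep F P' X where
  v := σ.v
  nat := σ.nat
  inj := σ.inj
  mem A g := (h A _).mp (σ.mem A g)
  surj A ξ hξ := σ.surj A ξ ((h A ξ).mpr hξ)

/-- `F` is a sheaf for the Zariski topology on `R`-algebras. -/
structure IsZarSheaf (F : CommAlgCat.{u, u} R ⥤ Type u) : Prop where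
  sep : ∀ (A : CommAlgCat.{u} R) {ι : Type u} (s : ι → A) (_ : Ideal.span (Set.range s) = ⊤)
    (ξ ξ' : F.obj A), (∀ i, F.map (awayMap A (s i)) ξ = F.map (awayMap A (s i)) ξ') → ξ = ξ'
  glue : ∀ (A : CommAlgCat.{u} R) {ι : Type u} (s : ι → A) (_ : Ideal.span (Set.range s) = ⊤)
    (ξ : ∀ i, F.obj (awayObj A (s i))),
    (∀ (i k : ι) (B : CommAlgCat.{u} R) (α : awayObj A (s i) ⟶ B) (β : awayObj A (s k) ⟶ B),
      awayMap A (s i) ≫ α = awayMap A (s k) ≫ β → F.map α (ξ i) = F.map β (ξ k)) →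
    ∃ ξ₀ : F.obj A, ∀ i, F.map (awayMap A (s i)) ξ₀ = ξ i

section openpred
variable {P : ∀ A : CommAlgCat.{u} R, F.obj A → Prop} (hP : IsOpenPred F P)

include hP in
/-- an open predicate holds after inverting an element of its ideal. -/
lemma opred_awayMap_of_mem (A : CommAlgCat.{u} R) (ξ : F.obj A) (f : A) (hf : f ∈ oI hP A ξ) :
    P _ (F.map (awayMap A f) ξ) := by
  rw [oI_spec hP]
  apply Ideal.eq_top_of_isUnit_mem _ (Ideal.mem_map_of_mem _ hf)
  exact IsLocalization.Away.algebraMap_isUnit f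

include hP in
/-- **algebraic locality** of an open predicate. -/
lemma opred_of_away_cover (A : CommAlgCat.{u} R) (ξ : F.obj A) {ι : Type u} (s : ι → A)
    (hs : Ideal.span (Set.range s) = ⊤) (h : ∀ i, P _ (F.map (awayMap A (s i)) ξ)) : P A ξ := by
  rw [opred_iff_oI_eq_top hP]
  by_contra hne
  obtain ⟨m, hm, hIm⟩ := Ideal.exists_le_maximal _ hne
  have hex : ∃ i, s i ∉ m := by
    by_contra hcon
    push Not at hcon
    apply hm.ne_top
    rw [eq_top_iff, ← hs, Ideal.span_le]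
    rintro _ ⟨i, rfl⟩
    exact hcon i
  obtain ⟨i, hi⟩ := hex
  have h1 := h i
  rw [oI_spec hP] at h1
  -- `1 ∈ I A_f` gives `f^n ∈ I`
  have h2 : (1 : Localization.Away (s i)) ∈ (oI hP A ξ).map (algebraMap A (Localization.Away (s i))) := by
    have : (oI hP A ξ).map (awayMap A (s i)).hom = ⊤ := h1
    change (1 : Localization.Away (s i)) ∈ (oI hP A ξ).map (awayMap A (s i)).hom
    rw [this]
    trivial
  rw [IsLocalization.mem_map_algebraMap_iff (Submonoid.powers (s i))] at h2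
  obtain ⟨⟨⟨a, ha⟩, ⟨_, n, rfl⟩⟩, h3⟩ := h2
  rw [one_mul] at h3
  have h4 := (IsLocalization.eq_iff_exists (Submonoid.powers (s i)) _).mp h3
  obtain ⟨⟨_, k, rfl⟩, h5⟩ := h4
  have h6 : s i ^ k * s i ^ n ∈ m := by
    change s i ^ k * s i ^ n = s i ^ k * a at h5
    rw [h5]
    exact Ideal.mul_mem_left _ _ (hIm ha)
  rw [← pow_add] at h6
  exact hi (hm.isPrime.mem_of_pow_mem _ h6)

include hP in
/-- an open predicate holds on an affine open of `Spec A` on which an element of its ideal is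
invertible. -/
lemma opred_locMap_of_mem (A : CommAlgCat.{u} R) (ξ : F.obj A) (f : A) (hf : f ∈ oI hP A ξ)
    (V : (SpecO A).left.Opens) (hV : IsAffineOpen V) (hVf : ∀ y ∈ V, f ∉ y.asIdeal) :
    P _ (F.map (locMap A V hV) ξ) := by
  rw [oI_spec hP]
  have hspan : Ideal.span ((locHom A V) '' (oI hP A ξ : Set A)) = ⊤ := by
    rw [← hV.self_le_iSup_basicOpen_iff]
    intro y hy
    rw [Opens.mem_iSup]
    exact ⟨⟨_, f, hf, rfl⟩, (mem_basicOpen_locHom A V f y).mpr ⟨hy, hVf y hy⟩⟩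
  rw [← Ideal.map_span, Ideal.span_eq] at hspan
  exact hspan

end openpred

end Groth.Agent.H2.AffRep
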