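import Groth.Agent.Lib.Helper2.AffRepL

/-! # Chart criterion: a scheme with an open cover by schemes representing open subfunctors of a
Zariski sheaf represents the union. -/

universe u
open CategoryTheory CategoryTheory.Limits AlgebraicGeometry TopologicalSpace Opposite

namespace Groth.Agent.H2.AffRep

variable {R : Type u} [CommRing R]
variable {F : CommAlgCat.{u, u} R ⥤ Type u}

section chart
variable {ι : Type u} (P : ι → ∀ A : CommAlgCat.{u} R, F.obj A → Prop)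
  (hP : ∀ i, IsOpenPred F (P i))
  {Xc : ι → Over (Spec (CommRingCat.of R))} (σ : ∀ i, SubRep F (P i) (Xc i))
  {X : Over (Spec (CommRingCat.of R))} (j : ∀ i, Xc i ⟶ X)
  (hint : ∀ (i k : ι) (A : CommAlgCat.{u} R) (g : SpecO A ⟶ Xc i) (g' : SpecO A ⟶ Xc k),
    g ≫ j i = g' ≫ j k ↔ (σ i).v A g = (σ k).v A g')

/-- the small maps out of `A` for an element `ξ`. -/
def SmPt (A : CommAlgCat.{u} R) (ξ : F.obj A) (B : CommAlgCat.{u} R) (ψ : (hA A).obj B) : Prop :=
  ∃ i, P i B (F.map ψ ξ)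

include hP in
lemma smPt_map (A : CommAlgCat.{u} R) (ξ : F.obj A) {B C : CommAlgCat.{u} R} (φ : B ⟶ C)
    (ψ : (hA A).obj B) (h : SmPt P A ξ B ψ) : SmPt P A ξ C ((hA A).map φ ψ) := by
  obtain ⟨i, hi⟩ := h
  refine ⟨i, ?_⟩
  have h1 := opred_map (hP i) φ _ hi
  have h2 : F.map ((hA A).map φ ψ) ξ = F.map φ (F.map ψ ξ) := by
    change F.map (ψ ≫ φ) ξ = _
    rw [F.map_comp]
    rfl
  rw [h2]
  exact h1

/-- the point of `X` attached to a small map. -/
noncomputable def ptT (A : CommAlgCat.{u} R) (ξ : F.obj A) (B : CommAlgCat.{u} R)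
    (ψ : (hA A).obj B) (h : SmPt P A ξ B ψ) : SpecO B ⟶ X :=
  ((σ h.choose).surj B _ h.choose_spec).choose ≫ j h.choose

include hint in
lemma ptT_eq (A : CommAlgCat.{u} R) (ξ : F.obj A) (B : CommAlgCat.{u} R)
    (ψ : (hA A).obj B) (h : SmPt P A ξ B ψ) (i : ι) (g : SpecO B ⟶ Xc i)
    (hg : (σ i).v B g = F.map ψ ξ) : ptT P σ j A ξ B ψ h = g ≫ j i := by
  unfold ptT
  rw [hint]
  rw [((σ h.choose).surj B _ h.choose_spec).choose_spec, hg]

variable {Q : ∀ A : CommAlgCat.{u} R, F.obj A → Prop}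
  (hQ : ∀ A ξ, Q A ξ ↔ ⨆ i, oI (hP i) A ξ = ⊤)

include hQ in
lemma exists_mem_oI_notMem (A : CommAlgCat.{u} R) (ξ : F.obj A) (hξ : Q A ξ)
    (p : PrimeSpectrum A) : ∃ i, ∃ f ∈ oI (hP i) A ξ, f ∉ p.asIdeal := by
  by_contra hcon
  push Not at hcon
  have hle : ⨆ i, oI (hP i) A ξ ≤ p.asIdeal := iSup_le fun i f hf => hcon i f hf
  rw [(hQ A ξ).mp hξ] at hle
  exact p.isPrime.ne_top (top_le_iff.mp hle)

include hP hint hQ in
/-- **the point of `X` attached to an element of `F(A)` lying locally in the charts.** -/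
theorem exists_point (A : CommAlgCat.{u} R) (ξ : F.obj A) (hξ : Q A ξ) :
    ∃ c : SpecO A ⟶ X, ∀ (B : CommAlgCat.{u} R) (φ : A ⟶ B) (i : ι) (g : SpecO B ⟶ Xc i),
      (σ i).v B g = F.map φ ξ → SpecOmap φ ≫ c = g ≫ j i := by
  have hcov : ∀ p : (SpecO A).left, ∃ (U : (SpecO A).left.Opens) (hU : IsAffineOpen U), p ∈ U ∧
      SmPt P A ξ _ ((repSpec A).ξ U hU) := by
    intro p
    obtain ⟨i, f, hf, hfp⟩ := exists_mem_oI_notMem P hP hQ A ξ hξ p
    let U : (Spec (CommRingCat.of A)).Opens :=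
      (Spec (CommRingCat.of A)).basicOpen ((Scheme.ΓSpecIso (CommRingCat.of A)).inv f)
    have hU : IsAffineOpen U := (isAffineOpen_top (Spec (CommRingCat.of A))).basicOpen _
    have hUeq : U = PrimeSpectrum.basicOpen f := basicOpen_eq_of_affine (R := CommRingCat.of A) f
    refine ⟨U, hU, ?_, i, ?_⟩
    · rw [hUeq]
      exact hfp
    · rw [repSpec_ξ]
      apply opred_locMap_of_mem (hP i) A ξ f hf U hU
      intro y hy
      rw [hUeq] at hy
      exact hy
  obtain ⟨c, hc⟩ := exists_hom_of_partial (repSpec A) (SmPt P A ξ) hcov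
    (fun φ ψ h => smPt_map P hP A ξ φ ψ h) (ptT P σ j A ξ)
    (by
      intro B C φ ψ h ψ' h' hψ'
      obtain ⟨i, hi⟩ := h
      obtain ⟨g, hg⟩ := (σ i).surj B _ hi
      rw [ptT_eq P σ j hint A ξ B ψ ⟨i, hi⟩ i g hg]
      have hg' : (σ i).v C (SpecOmap φ ≫ g) = F.map ψ' ξ := by
        rw [(σ i).nat, hg, hψ']
        change _ = F.map (ψ ≫ φ) ξ
        rw [F.map_comp]
        rfl
      rw [ptT_eq P σ j hint A ξ C ψ' h' i (SpecOmap φ ≫ g) hg', Category.assoc])
  refine ⟨c, ?_⟩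
  intro B φ i g hg
  have hsm : SmPt P A ξ B ((repSpec A).e B (SpecOmap φ)) := by
    rw [repSpec_e_SpecOmap]
    exact ⟨i, by rw [← hg]; exact (σ i).mem B g⟩
  rw [hc B (SpecOmap φ) hsm]
  apply ptT_eq P σ j hint
  rw [hg, repSpec_e_SpecOmap]

/-- the property characterising the point attached to `ξ`. -/
def IsPt (A : CommAlgCat.{u} R) (ξ : F.obj A) (c : SpecO A ⟶ X) : Prop :=
  ∀ (B : CommAlgCat.{u} R) (φ : A ⟶ B) (i : ι) (g : SpecO B ⟶ Xc i),
    (σ i).v B g = F.map φ ξ → SpecOmap φ ≫ c = g ≫ j i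

lemma isPt_map {A B : CommAlgCat.{u} R} (φ : A ⟶ B) (ξ : F.obj A) (c : SpecO A ⟶ X)
    (hc : IsPt P σ j A ξ c) : IsPt P σ j B (F.map φ ξ) (SpecOmap φ ≫ c) := by
  intro C ψ i g hg
  rw [← Category.assoc, ← SpecOmap_comp]
  apply hc C (φ ≫ ψ) i g
  rw [hg, F.map_comp]
  rfl

lemma map_mk_eq_top_iff {B : Type u} [CommRing B] (J m : Ideal B) [hm : m.IsMaximal] :
    J.map (Ideal.Quotient.mk m) = ⊤ ↔ ¬ J ≤ m := by
  constructor
  · intro h hle
    have h1 : J.map (Ideal.Quotient.mk m) ≤ m.map (Ideal.Quotient.mk m) := Ideal.map_mono hle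
    rw [Ideal.map_quotient_self, h] at h1
    have : Nontrivial (B ⧸ m) := Ideal.Quotient.nontrivial_iff.mpr hm.ne_top
    exact top_ne_bot (le_bot_iff.mp h1)
  · intro h
    obtain ⟨a, haJ, ham⟩ := Set.not_subset.mp h
    let _ : Field (B ⧸ m) := Ideal.Quotient.field m
    apply Ideal.eq_top_of_isUnit_mem _ (Ideal.mem_map_of_mem _ haJ)
    apply IsUnit.mk0
    intro h0
    exact ham (Ideal.Quotient.eq_zero_iff_mem.mp h0)

include hQ in
/-- the union of open predicates is an open predicate. -/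
lemma isOpenPred_iSup : IsOpenPred F Q := by
  intro A ξ
  refine ⟨⨆ i, oI (hP i) A ξ, ?_⟩
  intro B φ
  rw [hQ]
  -- the key comparison at residue fields
  have key : ∀ (m : Ideal B) [m.IsMaximal] (i : ι),
      oI (hP i) B (F.map φ ξ) ≤ m ↔ (oI (hP i) A ξ).map φ.hom ≤ m := by
    intro m hm i
    let κ : CommAlgCat.{u} R := CommAlgCat.of R (B ⧸ m)
    let ψ : B ⟶ κ := CommAlgCat.ofHom (R := R) (X := B) (Y := κ)
      (Ideal.Quotient.mkₐ R m)
    have h1 := oI_spec (hP i) B (F.map φ ξ) κ ψ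
    have h2 := oI_spec (hP i) A ξ κ (φ ≫ ψ)
    have h3 : F.map (φ ≫ ψ) ξ = F.map ψ (F.map φ ξ) := by
      rw [F.map_comp]
      rfl
    rw [h3] at h2
    have h4 : (oI (hP i) A ξ).map (φ ≫ ψ).hom =
        ((oI (hP i) A ξ).map φ.hom).map (Ideal.Quotient.mk m) := by
      change _ = ((oI (hP i) A ξ).map (φ.hom : A →+* B)).map (Ideal.Quotient.mk m)
      rw [Ideal.map_map]
      rfl
    have h5 : (oI (hP i) B (F.map φ ξ)).map ψ.hom =
        (oI (hP i) B (F.map φ ξ)).map (Ideal.Quotient.mk m) := rfl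
    rw [h4] at h2
    rw [h5] at h1
    rw [map_mk_eq_top_iff] at h1 h2
    have := h1.symm.trans h2
    exact not_iff_not.mp this
  constructor
  · intro h
    by_contra hne
    obtain ⟨m, hm, hle⟩ := Ideal.exists_le_maximal _ hne
    apply hm.ne_top
    rw [eq_top_iff, ← h]
    apply iSup_le
    intro i
    rw [key m i]
    refine le_trans (Ideal.map_mono (le_iSup (fun i => oI (hP i) A ξ) i)) hle
  · intro h
    by_contra hne
    obtain ⟨m, hm, hle⟩ := Ideal.exists_le_maximal _ hne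
    apply hm.ne_top
    rw [eq_top_iff, ← h, Ideal.map_iSup]
    apply iSup_le
    intro i
    rw [← key m i]
    exact le_trans (le_iSup (fun i => oI (hP i) B (F.map φ ξ)) i) hle

include hP hQ in
lemma Q_of_P (A : CommAlgCat.{u} R) (ξ : F.obj A) (i : ι) (h : P i A ξ) : Q A ξ := by
  rw [hQ, eq_top_iff, ← (opred_iff_oI_eq_top (hP i) A ξ).mp h]
  exact le_iSup (fun i => oI (hP i) A ξ) i

include hP hQ in
/-- a cover of `Spec A` by basic opens on which `ξ` lies in a chart. -/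
lemma exists_small_cover (A : CommAlgCat.{u} R) (ξ : F.obj A) (hξ : Q A ξ) :
    ∃ (s : PrimeSpectrum A → A) (i : PrimeSpectrum A → ι), Ideal.span (Set.range s) = ⊤ ∧
      ∀ p, P (i p) _ (F.map (awayMap A (s p)) ξ) := by
  choose i f hf hfp using exists_mem_oI_notMem P hP hQ A ξ hξ
  exact ⟨f, i, span_eq_top_of_forall_notMem f hfp,
    fun p => opred_awayMap_of_mem (hP (i p)) A ξ (f p) (hf p)⟩

include hP hQ in
/-- **uniqueness** of the point attached to `ξ`. -/
lemma isPt_unique (A : CommAlgCat.{u} R) (ξ : F.obj A) (hξ : Q A ξ) (c c' : SpecO A ⟶ X)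
    (hc : IsPt P σ j A ξ c) (hc' : IsPt P σ j A ξ c') : c = c' := by
  obtain ⟨s, i, hs, hsP⟩ := exists_small_cover P hP hQ A ξ hξ
  apply hom_ext_of_away_cover c c' s hs
  intro p
  obtain ⟨g, hg⟩ := (σ (i p)).surj _ _ (hsP p)
  rw [hc _ (awayMap A (s p)) (i p) g hg, hc' _ (awayMap A (s p)) (i p) g hg]

variable (hF : IsZarSheaf F)

include hP hQ hint hF in
/-- if the point attached to `η` factors through a chart, `η` is the corresponding element. -/
lemma eq_v_of_isPt_factor (A : CommAlgCat.{u} R) (η : F.obj A) (hη : Q A η) (i : ι)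
    (h : SpecO A ⟶ Xc i) (hc : IsPt P σ j A η (h ≫ j i)) : η = (σ i).v A h := by
  obtain ⟨s, k, hs, hsP⟩ := exists_small_cover P hP hQ A η hη
  apply hF.sep A s hs
  intro p
  obtain ⟨g, hg⟩ := (σ (k p)).surj _ _ (hsP p)
  have h1 := hc _ (awayMap A (s p)) (k p) g hg
  rw [← Category.assoc] at h1
  have h2 := (hint (i) (k p) _ (SpecOmap (awayMap A (s p)) ≫ h) g).mp h1
  rw [(σ i).nat] at h2
  rw [h2, hg]

variable [hopen : ∀ i, IsOpenImmersion (j i).left]
  (hsurj : ∀ x : X.left, ∃ i, x ∈ Set.range (j i).left)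

include hsurj in
/-- a cover of `Spec A` by basic opens on which a point of `X` factors through a chart. -/
lemma exists_factor_cover (A : CommAlgCat.{u} R) (c : SpecO A ⟶ X) :
    ∃ (s : PrimeSpectrum A → A) (i : PrimeSpectrum A → ι)
      (h : ∀ p, SpecO (awayObj A (s p)) ⟶ Xc (i p)), Ideal.span (Set.range s) = ⊤ ∧
      ∀ p, h p ≫ j (i p) = SpecOmap (awayMap A (s p)) ≫ c := by
  have key : ∀ p : PrimeSpectrum A, ∃ (i : ι) (f : A) (_ : f ∉ p.asIdeal)
      (h : SpecO (awayObj A f) ⟶ Xc i), h ≫ j i = SpecOmap (awayMap A f) ≫ c := by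
    intro p
    obtain ⟨i, hi⟩ := hsurj (c.left p)
    obtain ⟨f, hf, h, hh⟩ := exists_away_factor c (j i) p hi
    exact ⟨i, f, hf, h, hh⟩
  choose i f hf h hh using key
  exact ⟨f, i, h, span_eq_top_of_forall_notMem f hf, hh⟩

include hP hQ hint hF hsurj in
/-- **injectivity**: an element is determined by its point. -/
lemma isPt_injective (A : CommAlgCat.{u} R) (ξ ξ' : F.obj A) (hξ : Q A ξ) (hξ' : Q A ξ')
    (c : SpecO A ⟶ X) (hc : IsPt P σ j A ξ c) (hc' : IsPt P σ j A ξ' c) : ξ = ξ' := by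
  obtain ⟨s, i, h, hs, hh⟩ := exists_factor_cover j hsurj A c
  have hQo := isOpenPred_iSup P hP hQ
  apply hF.sep A s hs
  intro p
  have h1 := isPt_map P σ j (awayMap A (s p)) ξ c hc
  have h2 := isPt_map P σ j (awayMap A (s p)) ξ' c hc'
  rw [← hh p] at h1 h2
  rw [eq_v_of_isPt_factor P hP σ j hint hQ hF _ _ (opred_map hQo _ _ hξ) (i p) (h p) h1,
    eq_v_of_isPt_factor P hP σ j hint hQ hF _ _ (opred_map hQo _ _ hξ') (i p) (h p) h2]

include hP hQ hint hF hsurj in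
/-- **surjectivity**: every point of `X` comes from an element. -/
lemma exists_isPt (A : CommAlgCat.{u} R) (c : SpecO A ⟶ X) :
    ∃ ξ : F.obj A, Q A ξ ∧ IsPt P σ j A ξ c := by
  obtain ⟨s, i, h, hs, hh⟩ := exists_factor_cover j hsurj A c
  have hQo := isOpenPred_iSup P hP hQ
  obtain ⟨ξ₀, hξ₀⟩ := hF.glue A s hs (fun p => (σ (i p)).v _ (h p)) (by
    intro p p' B α β hαβ
    rw [← (σ (i p)).nat, ← (σ (i p')).nat, ← hint, Category.assoc, Category.assoc, hh p, hh p',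
      ← Category.assoc, ← Category.assoc, ← SpecOmap_comp, ← SpecOmap_comp, hαβ])
  have hQξ₀ : Q A ξ₀ := by
    apply opred_of_away_cover hQo A ξ₀ s hs
    intro p
    rw [hξ₀ p]
    exact Q_of_P P hP hQ _ _ (i p) ((σ (i p)).mem _ _)
  refine ⟨ξ₀, hQξ₀, ?_⟩
  obtain ⟨c₀, hc₀⟩ := exists_point P hP σ j hint hQ A ξ₀ hQξ₀
  have : c₀ = c := by
    apply hom_ext_of_away_cover c₀ c s hs
    intro p
    rw [hc₀ _ (awayMap A (s p)) (i p) (h p) (hξ₀ p).symm, hh p]
  rw [← this]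
  exact hc₀

include hP hQ hint hF hsurj in
/-- **Chart criterion.** -/
theorem exists_subRep_of_charts : Nonempty (SubRep F Q X) := by
  have hQo := isOpenPred_iSup P hP hQ
  have hex := exists_isPt P hP σ j hint hQ hF hsurj
  choose v hvQ hvPt using hex
  refine ⟨{ v := v, nat := ?_, inj := ?_, mem := hvQ, surj := ?_ }⟩
  · intro A B φ g
    apply isPt_injective P hP σ j hint hQ hF hsurj B _ _ (hvQ B _) (opred_map hQo φ _ (hvQ A g))
      (SpecOmap φ ≫ g) (hvPt B _) (isPt_map P σ j φ _ g (hvPt A g))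
  · intro A g g' hgg'
    apply isPt_unique P hP σ j hQ A (v A g) (hvQ A g) g g' (hvPt A g)
    rw [hgg']
    exact hvPt A g'
  · intro A ξ hξ
    obtain ⟨c, hc⟩ := exists_point P hP σ j hint hQ A ξ hξ
    exact ⟨c, isPt_injective P hP σ j hint hQ hF hsurj A _ _ (hvQ A c) hξ c (hvPt A c) hc⟩

end chart

end Groth.Agent.H2.AffRep
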