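import Groth.Agent.Lib.Helper2.AffRepM

/-! # Morphisms and open subschemes for schemes representing subfunctors. -/

universe u
open CategoryTheory CategoryTheory.Limits AlgebraicGeometry TopologicalSpace Opposite

namespace Groth.Agent.H2.AffRep

variable {R : Type u} [CommRing R]
variable {F : CommAlgCat.{u, u} R ⥤ Type u}

attribute [local ext high] ConcreteCategory.hom_ext

/-- the subfunctor cut out by a base-change-stable predicate. -/
def subF (F : CommAlgCat.{u, u} R ⥤ Type u) (P : ∀ A : CommAlgCat.{u} R, F.obj A → Prop)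
    (hP : ∀ {A B : CommAlgCat.{u} R} (φ : A ⟶ B) (ξ : F.obj A), P A ξ → P B (F.map φ ξ)) :
    CommAlgCat.{u, u} R ⥤ Type u where
  obj A := {ξ : F.obj A // P A ξ}
  map {A B} φ := ↾(fun ξ : {ξ : F.obj A // P A ξ} => ⟨F.map φ ξ.1, hP φ ξ.1 ξ.2⟩)
  map_id A := by
    ext ξ : 1
    apply Subtype.ext
    change F.map (𝟙 A) ξ.1 = ξ.1
    rw [F.map_id]
    rfl
  map_comp φ ψ := by
    ext ξ : 1
    apply Subtype.ext
    change F.map (φ ≫ ψ) ξ.1 = F.map ψ (F.map φ ξ.1)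
    rw [F.map_comp]
    rfl

variable {P P₁ P₂ : ∀ A : CommAlgCat.{u} R, F.obj A → Prop}
  {X X₁ X₂ : Over (Spec (CommRingCat.of R))}

/-- the predicate of a represented subfunctor is stable under base change. -/
lemma SubRep.stable (σ : SubRep F P X) {A B : CommAlgCat.{u} R} (φ : A ⟶ B) (ξ : F.obj A)
    (h : P A ξ) : P B (F.map φ ξ) := by
  obtain ⟨g, rfl⟩ := σ.surj A ξ h
  rw [← σ.nat]
  exact σ.mem B _

/-- the representation of the subfunctor. -/
noncomputable def SubRep.toRepSub (σ : SubRep F P X) :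
    Rep (subF F P (fun φ ξ h => σ.stable φ ξ h)) X where
  e A := Equiv.ofBijective (fun g => (⟨σ.v A g, σ.mem A g⟩ : {ξ : F.obj A // P A ξ}))
    ⟨fun g g' h => σ.inj A (congrArg Subtype.val h), fun ξ => by
      obtain ⟨g, hg⟩ := σ.surj A ξ.1 ξ.2
      exact ⟨g, Subtype.ext hg⟩⟩
  he A B φ g g' h := by
    have : g' = SpecOmap φ ≫ g := Over.OverMorphism.ext h
    apply Subtype.ext
    change σ.v B g' = F.map φ (σ.v A g)
    rw [this, σ.nat]

lemma SubRep.toRepSub_e (σ : SubRep F P X) (A : CommAlgCat.{u} R) (g : SpecO A ⟶ X) :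
    Subtype.val (p := P A) (σ.toRepSub.e A g) = σ.v A g := rfl

/-- morphisms between schemes representing subfunctors. -/
theorem SubRep.exists_hom (σ₁ : SubRep F P₁ X₁) (σ₂ : SubRep F P₂ X₂)
    (h : ∀ A ξ, P₁ A ξ → P₂ A ξ) :
    ∃ c : X₁ ⟶ X₂, ∀ (A : CommAlgCat.{u} R) (g : SpecO A ⟶ X₁), σ₂.v A (g ≫ c) = σ₁.v A g := by
  let τ : subF F P₁ (fun φ ξ h => σ₁.stable φ ξ h) ⟶ subF F P₂ (fun φ ξ h => σ₂.stable φ ξ h) :=
    { app := fun A => ↾(fun ξ : {ξ : F.obj A // P₁ A ξ} =>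
        (⟨ξ.1, h A ξ.1 ξ.2⟩ : {ξ : F.obj A // P₂ A ξ}))
      naturality := fun A B φ => by
        ext ξ : 1
        rfl }
  obtain ⟨c, hc⟩ := exists_hom_of_nat σ₁.toRepSub σ₂.toRepSub τ
  refine ⟨c, fun A g => ?_⟩
  have := congrArg Subtype.val (hc A g)
  exact this

theorem SubRep.hom_ext (σ₂ : SubRep F P₂ X₂) (c c' : X₁ ⟶ X₂)
    (h : ∀ (A : CommAlgCat.{u} R) (g : SpecO A ⟶ X₁), σ₂.v A (g ≫ c) = σ₂.v A (g ≫ c')) :
    c = c' :=
  hom_ext_of_points c c' fun A g => σ₂.inj A (h A g)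

/-- **open subfunctors** of a represented subfunctor are represented by open subschemes. -/
theorem SubRep.exists_open (σ : SubRep F P X) {P' : ∀ A : CommAlgCat.{u} R, F.obj A → Prop}
    (hP' : IsOpenPred F P') :
    ∃ (U : X.left.Opens) (σU : SubRep F (fun A ξ => P A ξ ∧ P' A ξ) (Over.mk (U.ι ≫ X.hom))),
      ∀ (A : CommAlgCat.{u} R) (h : SpecO A ⟶ Over.mk (U.ι ≫ X.hom)),
        σU.v A h = σ.v A (h ≫ (Over.homMk U.ι rfl : Over.mk (U.ι ≫ X.hom) ⟶ X)) := by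
  let F' := subF F P (fun φ ξ h => σ.stable φ ξ h)
  let P'' : ∀ A : CommAlgCat.{u} R, F'.obj A → Prop := fun A ξ => P' A ξ.1
  have hP'' : IsOpenPred F' P'' := fun A ξ => ⟨oI hP' A ξ.1, fun B φ => oI_spec hP' A ξ.1 B φ⟩
  let U := openOf hP'' σ.toRepSub
  have hU : ∀ (B : CommAlgCat.{u} R) (g : SpecO B ⟶ X),
      (∀ y, g.left y ∈ U) ↔ P' B (σ.v B g) := fun B g => mem_openOf_iff hP'' σ.toRepSub B g
  let ιU : Over.mk (U.ι ≫ X.hom) ⟶ X := Over.homMk U.ι rfl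
  refine ⟨U, { v := fun A h => σ.v A (h ≫ ιU), nat := ?_, inj := ?_, mem := ?_, surj := ?_ },
    fun A h => rfl⟩
  · intro A B φ h
    rw [Category.assoc, σ.nat]
  · intro A h h' hh
    have h1 := σ.inj A hh
    apply Over.OverMorphism.ext
    have h2 : h.left ≫ U.ι = h'.left ≫ U.ι := congrArg (fun t => t.left) h1
    exact (cancel_mono U.ι).mp h2
  · intro A h
    refine ⟨σ.mem A _, (hU A (h ≫ ιU)).mp ?_⟩
    intro y
    change (h.left ≫ U.ι) y ∈ U
    rw [Scheme.Hom.comp_apply]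
    exact (h.left y).2
  · intro A ξ hξ
    obtain ⟨g, rfl⟩ := σ.surj A ξ hξ.1
    obtain ⟨h₀, hh₀⟩ := (factors_through_open_iff U g.left).mpr ((hU A g).mpr hξ.2)
    refine ⟨Over.homMk h₀ ?_, ?_⟩
    · change h₀ ≫ U.ι ≫ X.hom = _
      rw [← Category.assoc, hh₀]
      exact Over.w g
    · congr 1
      apply Over.OverMorphism.ext
      exact hh₀

end Groth.Agent.H2.AffRep
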