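import Groth.Agent.Lib.Helper2.AffRepN

/-! # Gluing two schemes representing open subfunctors of a Zariski sheaf. -/

universe u
open CategoryTheory CategoryTheory.Limits AlgebraicGeometry TopologicalSpace Opposite

namespace Groth.Agent.H2.AffRep

variable {R : Type u} [CommRing R]
variable {F : CommAlgCat.{u, u} R ⥤ Type u}
variable {P₁ P₂ : ∀ A : CommAlgCat.{u} R, F.obj A → Prop}
  {X₁ X₂ : Over (Spec (CommRingCat.of R))}

/-- the gluing datum: a common open subscheme with compatible representations. -/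
theorem exists_common_open (hP₁ : IsOpenPred F P₁) (hP₂ : IsOpenPred F P₂)
    (σ₁ : SubRep F P₁ X₁) (σ₂ : SubRep F P₂ X₂) :
    ∃ (B : Over (Spec (CommRingCat.of R))) (b₁ : B ⟶ X₁) (b₂ : B ⟶ X₂)
      (σB : SubRep F (fun A ξ => P₁ A ξ ∧ P₂ A ξ) B),
      IsOpenImmersion b₁.left ∧ IsOpenImmersion b₂.left ∧
      (∀ (A : CommAlgCat.{u} R) (h : SpecO A ⟶ B), σ₁.v A (h ≫ b₁) = σB.v A h) ∧
      (∀ (A : CommAlgCat.{u} R) (h : SpecO A ⟶ B), σ₂.v A (h ≫ b₂) = σB.v A h) := by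
  obtain ⟨U₁, σU₁, hσU₁⟩ := σ₁.exists_open hP₂
  obtain ⟨U₂, σU₂, hσU₂⟩ := σ₂.exists_open hP₁
  obtain ⟨c, hc⟩ := σU₁.exists_hom σU₂ (fun A ξ h => ⟨h.2, h.1⟩)
  obtain ⟨c', hc'⟩ := σU₂.exists_hom σU₁ (fun A ξ h => ⟨h.2, h.1⟩)
  have h1 : c ≫ c' = 𝟙 _ := by
    apply σU₁.hom_ext
    intro A g
    rw [← Category.assoc, hc', hc, Category.comp_id]
  have h2 : c' ≫ c = 𝟙 _ := by
    apply σU₂.hom_ext
    intro A g
    rw [← Category.assoc, hc, hc', Category.comp_id]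
  let ι₁ : Over.mk (U₁.ι ≫ X₁.hom) ⟶ X₁ := Over.homMk U₁.ι rfl
  let ι₂ : Over.mk (U₂.ι ≫ X₂.hom) ⟶ X₂ := Over.homMk U₂.ι rfl
  have hiso : IsIso c.left := by
    refine ⟨c'.left, ?_, ?_⟩
    · rw [← Over.comp_left, h1]
      rfl
    · rw [← Over.comp_left, h2]
      rfl
  refine ⟨Over.mk (U₁.ι ≫ X₁.hom), ι₁, c ≫ ι₂, σU₁, ?_, ?_, ?_, ?_⟩
  · change IsOpenImmersion U₁.ι
    infer_instance
  · change IsOpenImmersion (c.left ≫ U₂.ι)
    infer_instance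
  · intro A h
    exact (hσU₁ A h).symm
  · intro A h
    rw [← Category.assoc, ← hσU₂, hc]

/-- **Gluing two charts.** -/
theorem exists_subRep_glue₂ (hF : IsZarSheaf F) (hP₁ : IsOpenPred F P₁) (hP₂ : IsOpenPred F P₂)
    (σ₁ : SubRep F P₁ X₁) (σ₂ : SubRep F P₂ X₂)
    {Q : ∀ A : CommAlgCat.{u} R, F.obj A → Prop}
    (hQ : ∀ A ξ, Q A ξ ↔ oI hP₁ A ξ ⊔ oI hP₂ A ξ = ⊤) :
    ∃ X : Over (Spec (CommRingCat.of R)), Nonempty (SubRep F Q X) := by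
  obtain ⟨B, b₁, b₂, σB, hb₁, hb₂, hσ₁, hσ₂⟩ := exists_common_open hP₁ hP₂ σ₁ σ₂
  obtain ⟨X, j₁, j₂, hj₁, hj₂, hbj, hsurj, hpb⟩ := exists_glue₂ b₁ b₂
  refine ⟨X, ?_⟩
  have hmono₁ : ∀ {A : CommAlgCat.{u} R} (g g' : SpecO A ⟶ X₁), g ≫ j₁ = g' ≫ j₁ → g = g' := by
    intro A g g' h
    apply Over.OverMorphism.ext
    have h1 : g.left ≫ j₁.left = g'.left ≫ j₁.left := congrArg (fun t => t.left) h
    exact (cancel_mono j₁.left).mp h1
  have hmono₂ : ∀ {A : CommAlgCat.{u} R} (g g' : SpecO A ⟶ X₂), g ≫ j₂ = g' ≫ j₂ → g = g' := by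
    intro A g g' h
    apply Over.OverMorphism.ext
    have h1 : g.left ≫ j₂.left = g'.left ≫ j₂.left := congrArg (fun t => t.left) h
    exact (cancel_mono j₂.left).mp h1
  have hmonoB : ∀ {A : CommAlgCat.{u} R} (h h' : SpecO A ⟶ B), h ≫ b₁ = h' ≫ b₁ → h = h' := by
    intro A h h' hh
    apply Over.OverMorphism.ext
    have h1 : h.left ≫ b₁.left = h'.left ≫ b₁.left := congrArg (fun t => t.left) hh
    exact (cancel_mono b₁.left).mp h1
  -- the mixed intersection condition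
  have h12 : ∀ (A : CommAlgCat.{u} R) (g : SpecO A ⟶ X₁) (g' : SpecO A ⟶ X₂),
      g ≫ j₁ = g' ≫ j₂ ↔ σ₁.v A g = σ₂.v A g' := by
    intro A g g'
    constructor
    · intro h
      have h1 : g.left ≫ j₁.left = g'.left ≫ j₂.left := congrArg (fun t => t.left) h
      obtain ⟨h₀, hh₁, hh₂⟩ := hpb g.left g'.left h1
      let h' : SpecO A ⟶ B := Over.homMk h₀ (by
        rw [← Over.w b₁, ← Category.assoc, hh₁]
        exact Over.w g)
      have e1 : g = h' ≫ b₁ := Over.OverMorphism.ext hh₁.symm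
      have e2 : g' = h' ≫ b₂ := Over.OverMorphism.ext hh₂.symm
      rw [e1, e2, hσ₁, hσ₂]
    · intro h
      have hP : P₁ A (σ₁.v A g) ∧ P₂ A (σ₁.v A g) := ⟨σ₁.mem A g, by rw [h]; exact σ₂.mem A g'⟩
      obtain ⟨h', hh'⟩ := σB.surj A _ hP
      have e1 : g = h' ≫ b₁ := σ₁.inj A (by rw [hσ₁, hh'])
      have e2 : g' = h' ≫ b₂ := σ₂.inj A (by rw [hσ₂, hh', h])
      rw [e1, e2, Category.assoc, Category.assoc, hbj]
  -- the families
  let Pf : ULift.{u} Bool → ∀ A : CommAlgCat.{u} R, F.obj A → Prop := fun i => cond i.down P₁ P₂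
  have hPf : ∀ i, IsOpenPred F (Pf i) := by
    rintro ⟨_ | _⟩
    · exact hP₂
    · exact hP₁
  let Xf : ULift.{u} Bool → Over (Spec (CommRingCat.of R)) := fun i => cond i.down X₁ X₂
  let σf : ∀ i, SubRep F (Pf i) (Xf i) := fun i =>
    match i with
    | ⟨true⟩ => σ₁
    | ⟨false⟩ => σ₂
  let jf : ∀ i, Xf i ⟶ X := fun i =>
    match i with
    | ⟨true⟩ => j₁
    | ⟨false⟩ => j₂
  have hopen : ∀ i, IsOpenImmersion (jf i).left := by
    rintro ⟨_ | _⟩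
    · exact hj₂
    · exact hj₁
  have hint : ∀ (i k : ULift.{u} Bool) (A : CommAlgCat.{u} R) (g : SpecO A ⟶ Xf i)
      (g' : SpecO A ⟶ Xf k), g ≫ jf i = g' ≫ jf k ↔ (σf i).v A g = (σf k).v A g' := by
    rintro ⟨_ | _⟩ ⟨_ | _⟩ A g g'
    · exact ⟨fun h => by rw [hmono₂ g g' h], fun h => by rw [σ₂.inj A h]⟩
    · exact ⟨fun h => ((h12 A g' g).mp h.symm).symm, fun h => ((h12 A g' g).mpr h.symm).symm⟩
    · exact h12 A g g'
    · exact ⟨fun h => by rw [hmono₁ g g' h], fun h => by rw [σ₁.inj A h]⟩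
  have hQ' : ∀ A ξ, Q A ξ ↔ ⨆ i, oI (hPf i) A ξ = ⊤ := by
    intro A ξ
    rw [hQ]
    have : ⨆ i, oI (hPf i) A ξ = oI hP₁ A ξ ⊔ oI hP₂ A ξ := by
      apply le_antisymm
      · apply iSup_le
        rintro ⟨_ | _⟩
        · exact le_sup_right
        · exact le_sup_left
      · exact sup_le (le_iSup (fun i => oI (hPf i) A ξ) ⟨true⟩)
          (le_iSup (fun i => oI (hPf i) A ξ) ⟨false⟩)
    rw [this]
  have hsurj' : ∀ x : X.left, ∃ i, x ∈ Set.range (jf i).left := by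
    intro x
    rcases hsurj x with ⟨x₁, hx₁⟩ | ⟨x₂, hx₂⟩
    · exact ⟨⟨true⟩, x₁, hx₁⟩
    · exact ⟨⟨false⟩, x₂, hx₂⟩
  exact exists_subRep_of_charts Pf hPf σf jf hint hQ' hF hsurj'

end Groth.Agent.H2.AffRep
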