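import Groth.Agent.Lib.Helper2.AffRepO

/-! # Unions of open predicates tested on field-valued points. -/

universe u
open CategoryTheory CategoryTheory.Limits AlgebraicGeometry TopologicalSpace Opposite

namespace Groth.Agent.H2.AffRep

variable {R : Type u} [CommRing R]
variable {F : CommAlgCat.{u, u} R ⥤ Type u}

/-- a family of ideals generates the unit ideal iff at every field-valued point one member
does. -/
lemma iSup_eq_top_iff_field {A : CommAlgCat.{u} R} {ι' : Sort*} (J : ι' → Ideal A) :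
    ⨆ i, J i = ⊤ ↔ ∀ (K : CommAlgCat.{u} R), IsField K → ∀ ψ : A ⟶ K,
      ∃ i, (J i).map ψ.hom = ⊤ := by
  constructor
  · intro h K hK ψ
    by_contra hcon
    push Not at hcon
    let _ : Field K := hK.toField
    have hle : ∀ i, J i ≤ RingHom.ker (ψ.hom : A →+* K) := by
      intro i
      have h1 : (J i).map (ψ.hom : A →+* K) = ⊥ :=
        (Ideal.eq_bot_or_top _).resolve_right (hcon i)
      exact (Ideal.map_eq_bot_iff_le_ker _).mp h1
    have h2 : (⊤ : Ideal A) ≤ RingHom.ker (ψ.hom : A →+* K) := h ▸ iSup_le hle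
    have h3 : (1 : A) ∈ RingHom.ker (ψ.hom : A →+* K) := h2 trivial
    rw [RingHom.mem_ker, map_one] at h3
    exact one_ne_zero h3
  · intro h
    by_contra hne
    obtain ⟨m, hm, hle⟩ := Ideal.exists_le_maximal _ hne
    let κ : CommAlgCat.{u} R := CommAlgCat.of R (A ⧸ m)
    let ψ : A ⟶ κ := CommAlgCat.ofHom (R := R) (X := A) (Y := κ) (Ideal.Quotient.mkₐ R m)
    have hκ : IsField κ := (Ideal.Quotient.field m).toIsField
    obtain ⟨i, hi⟩ := h κ hκ ψ
    have hi' : (J i).map (Ideal.Quotient.mk m) = ⊤ := hi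
    rw [map_mk_eq_top_iff] at hi'
    exact hi' (le_trans (le_iSup J i) hle)

section
variable {ι : Type u} {P : ι → ∀ A : CommAlgCat.{u} R, F.obj A → Prop}
  (hP : ∀ i, IsOpenPred F (P i))

lemma iSup_oI_eq_top_iff {ι' : Sort*} (f : ι' → ι) (A : CommAlgCat.{u} R) (ξ : F.obj A) :
    ⨆ i, oI (hP (f i)) A ξ = ⊤ ↔ ∀ (K : CommAlgCat.{u} R), IsField K → ∀ ψ : A ⟶ K,
      ∃ i, P (f i) K (F.map ψ ξ) := by
  rw [iSup_eq_top_iff_field]
  constructor
  · intro h K hK ψ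
    obtain ⟨i, hi⟩ := h K hK ψ
    exact ⟨i, (oI_spec (hP (f i)) A ξ K ψ).mpr hi⟩
  · intro h K hK ψ
    obtain ⟨i, hi⟩ := h K hK ψ
    exact ⟨i, (oI_spec (hP (f i)) A ξ K ψ).mp hi⟩

end

lemma sup_oI_eq_top_iff {P₁ P₂ : ∀ A : CommAlgCat.{u} R, F.obj A → Prop}
    (hP₁ : IsOpenPred F P₁) (hP₂ : IsOpenPred F P₂) (A : CommAlgCat.{u} R) (ξ : F.obj A) :
    oI hP₁ A ξ ⊔ oI hP₂ A ξ = ⊤ ↔ ∀ (K : CommAlgCat.{u} R), IsField K → ∀ ψ : A ⟶ K,
      P₁ K (F.map ψ ξ) ∨ P₂ K (F.map ψ ξ) := by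
  have h1 : oI hP₁ A ξ ⊔ oI hP₂ A ξ = ⨆ b : Bool, cond b (oI hP₁ A ξ) (oI hP₂ A ξ) := by
    rw [iSup_bool_eq]
    rfl
  rw [h1, iSup_eq_top_iff_field]
  constructor
  · intro h K hK ψ
    obtain ⟨b, hb⟩ := h K hK ψ
    cases b
    · exact Or.inr ((oI_spec hP₂ A ξ K ψ).mpr hb)
    · exact Or.inl ((oI_spec hP₁ A ξ K ψ).mpr hb)
  · intro h K hK ψ
    rcases h K hK ψ with h' | h'
    · exact ⟨true, (oI_spec hP₁ A ξ K ψ).mp h'⟩
    · exact ⟨false, (oI_spec hP₂ A ξ K ψ).mp h'⟩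

section union
variable {ι : Type u} (P : ι → ∀ A : CommAlgCat.{u} R, F.obj A → Prop)

/-- the union of the open predicates `P i`, `i ∈ l`, tested on field-valued points. -/
def UnionPred (l : List ι) (A : CommAlgCat.{u} R) (ξ : F.obj A) : Prop :=
  ∀ (K : CommAlgCat.{u} R), IsField K → ∀ ψ : A ⟶ K, ∃ i ∈ l, P i K (F.map ψ ξ)

variable {P} (hP : ∀ i, IsOpenPred F (P i))

lemma unionPred_iff_iSup (l : List ι) (A : CommAlgCat.{u} R) (ξ : F.obj A) :
    UnionPred P l A ξ ↔ ⨆ i : {i : ι // i ∈ l}, oI (hP i.1) A ξ = ⊤ := by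
  rw [iSup_oI_eq_top_iff hP (fun i : {i : ι // i ∈ l} => i.1)]
  constructor
  · intro h K hK ψ
    obtain ⟨i, hi, hPi⟩ := h K hK ψ
    exact ⟨⟨i, hi⟩, hPi⟩
  · intro h K hK ψ
    obtain ⟨i, hPi⟩ := h K hK ψ
    exact ⟨i.1, i.2, hPi⟩

include hP in
lemma isOpenPred_unionPred (l : List ι) : IsOpenPred F (UnionPred P l) :=
  isOpenPred_iSup (fun i : {i : ι // i ∈ l} => P i.1) (fun i => hP i.1)
    (fun A ξ => unionPred_iff_iSup hP l A ξ)

include hP in
/-- over a field, the union predicate holds iff one member does. -/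
lemma unionPred_field_iff (l : List ι) (K : CommAlgCat.{u} R) (hK : IsField K) (η : F.obj K) :
    UnionPred P l K η ↔ ∃ i ∈ l, P i K η := by
  constructor
  · intro h
    obtain ⟨i, hi, hPi⟩ := h K hK (𝟙 K)
    rw [F.map_id] at hPi
    exact ⟨i, hi, hPi⟩
  · rintro ⟨i, hi, hPi⟩ K' hK' ψ
    exact ⟨i, hi, opred_map (hP i) ψ η hPi⟩

include hP in
lemma unionPred_singleton_iff (i : ι) (A : CommAlgCat.{u} R) (ξ : F.obj A) :
    UnionPred P [i] A ξ ↔ P i A ξ := by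
  constructor
  · intro h
    rw [opred_iff_oI_eq_top (hP i)]
    have h1 : ⨆ _ : Unit, oI (hP i) A ξ = ⊤ := by
      rw [iSup_oI_eq_top_iff hP (fun _ : Unit => i)]
      intro K hK ψ
      obtain ⟨i', hi', hPi⟩ := h K hK ψ
      rw [List.mem_singleton] at hi'
      subst hi'
      exact ⟨(), hPi⟩
    rwa [iSup_const] at h1
  · intro h K hK ψ
    exact ⟨i, List.mem_singleton.mpr rfl, opred_map (hP i) ψ ξ h⟩

include hP in
lemma unionPred_cons_iff (i : ι) (l : List ι) (A : CommAlgCat.{u} R) (ξ : F.obj A) :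
    UnionPred P (i :: l) A ξ ↔
      oI (hP i) A ξ ⊔ oI (isOpenPred_unionPred hP l) A ξ = ⊤ := by
  rw [sup_oI_eq_top_iff]
  constructor
  · intro h K hK ψ
    obtain ⟨i', hi', hPi⟩ := h K hK ψ
    rcases List.mem_cons.mp hi' with rfl | hi''
    · exact Or.inl hPi
    · exact Or.inr ((unionPred_field_iff hP l K hK _).mpr ⟨i', hi'', hPi⟩)
  · intro h K hK ψ
    rcases h K hK ψ with h' | h'
    · exact ⟨i, List.mem_cons_self, h'⟩
    · obtain ⟨i', hi', hPi⟩ := (unionPred_field_iff hP l K hK _).mp h'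
      exact ⟨i', List.mem_cons_of_mem _ hi', hPi⟩

end union

end Groth.Agent.H2.AffRep
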