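import Groth.Agent.Lib.Helper2.AffRepP

/-! # Representability of a Zariski sheaf with a finite cover by represented open subfunctors. -/

universe u
open CategoryTheory CategoryTheory.Limits AlgebraicGeometry TopologicalSpace Opposite

namespace Groth.Agent.H2.AffRep

variable {R : Type u} [CommRing R]
variable {F : CommAlgCat.{u, u} R ⥤ Type u}

section nil

/-- the values of a Zariski sheaf on a trivial algebra form a singleton. -/
lemma IsZarSheaf.subsingleton_of_subsingleton (hF : IsZarSheaf F) (A : CommAlgCat.{u} R)
    [Subsingleton A] : Subsingleton (F.obj A) := by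
  refine ⟨fun ξ ξ' => ?_⟩
  apply hF.sep A (ι := PEmpty) (fun i => i.elim) (Subsingleton.elim _ _)
  intro i
  exact i.elim

lemma IsZarSheaf.nonempty_of_subsingleton (hF : IsZarSheaf F) (A : CommAlgCat.{u} R)
    [Subsingleton A] : Nonempty (F.obj A) := by
  obtain ⟨ξ₀, -⟩ := hF.glue A (ι := PEmpty) (fun i => i.elim) (Subsingleton.elim _ _)
    (fun i => i.elim) (fun i => i.elim)
  exact ⟨ξ₀⟩

variable {ι : Type u} (P : ι → ∀ A : CommAlgCat.{u} R, F.obj A → Prop)

lemma subsingleton_of_unionPred_nil (A : CommAlgCat.{u} R) (ξ : F.obj A)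
    (h : UnionPred P [] A ξ) : Subsingleton A := by
  by_contra hne
  rw [not_subsingleton_iff_nontrivial] at hne
  obtain ⟨m, hm⟩ := Ideal.exists_maximal A
  let κ : CommAlgCat.{u} R := CommAlgCat.of R (A ⧸ m)
  let ψ : A ⟶ κ := CommAlgCat.ofHom (R := R) (X := A) (Y := κ) (Ideal.Quotient.mkₐ R m)
  have hκ : IsField κ := (Ideal.Quotient.field m).toIsField
  obtain ⟨i, hi, -⟩ := h κ hκ ψ
  exact List.not_mem_nil hi

lemma unionPred_nil_of_subsingleton (A : CommAlgCat.{u} R) [Subsingleton A] (ξ : F.obj A) :
    UnionPred P [] A ξ := by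
  intro K hK ψ
  exfalso
  have h1 : (1 : A) = 0 := Subsingleton.elim _ _
  have h2 : ψ.hom 1 = ψ.hom 0 := by rw [h1]
  rw [map_one, map_zero] at h2
  let _ : Field K := hK.toField
  exact one_ne_zero h2

/-- **the empty union** is represented by the empty scheme. -/
theorem exists_subRep_nil (hF : IsZarSheaf F) :
    ∃ X : Over (Spec (CommRingCat.of R)), Nonempty (SubRep F (UnionPred P []) X) := by
  let X : Over (Spec (CommRingCat.of R)) := Over.mk (Scheme.emptyTo (Spec (CommRingCat.of R)))
  have hsub : ∀ (A : CommAlgCat.{u} R), (SpecO A ⟶ X) → Subsingleton A := by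
    intro A g
    have h0 : IsEmpty X.left := by
      change IsEmpty (∅ : Scheme.{u})
      infer_instance
    have h1 : IsEmpty (Spec (CommRingCat.of A)) := Function.isEmpty g.left
    have h2 : IsEmpty (PrimeSpectrum A) := h1
    by_contra hne
    rw [not_subsingleton_iff_nontrivial] at hne
    exact h2.false (Classical.arbitrary _)
  have hex : ∀ (A : CommAlgCat.{u} R) (g : SpecO A ⟶ X), Nonempty (F.obj A) := by
    intro A g
    have := hsub A g
    exact hF.nonempty_of_subsingleton A
  refine ⟨X, ⟨{ v := fun A g => (hex A g).some, nat := ?_, inj := ?_, mem := ?_, surj := ?_ }⟩⟩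
  · intro A B φ g
    have := hsub B (SpecOmap φ ≫ g)
    have := hF.subsingleton_of_subsingleton B
    exact Subsingleton.elim _ _
  · intro A g g' _
    have := hsub A g
    have h2 : IsEmpty (Spec (CommRingCat.of A)) := by
      change IsEmpty (PrimeSpectrum A)
      infer_instance
    apply Over.OverMorphism.ext
    exact (isInitialOfIsEmpty (X := Spec (CommRingCat.of A))).hom_ext _ _
  · intro A g
    have := hsub A g
    exact unionPred_nil_of_subsingleton P A _
  · intro A ξ hξ
    have := subsingleton_of_unionPred_nil P A ξ hξ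
    have h2 : IsEmpty (Spec (CommRingCat.of A)) := by
      change IsEmpty (PrimeSpectrum A)
      infer_instance
    have hini := isInitialOfIsEmpty (X := Spec (CommRingCat.of A))
    let g : SpecO A ⟶ X := Over.homMk (hini.to _) (hini.hom_ext _ _)
    have := hF.subsingleton_of_subsingleton A
    exact ⟨g, Subsingleton.elim _ _⟩

end nil

section main
variable {ι : Type u} {P : ι → ∀ A : CommAlgCat.{u} R, F.obj A → Prop}
  (hP : ∀ i, IsOpenPred F (P i))
  {Xc : ι → Over (Spec (CommRingCat.of R))} (σ : ∀ i, SubRep F (P i) (Xc i))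

include hP σ in
/-- finite unions of represented open subfunctors of a Zariski sheaf are represented. -/
theorem exists_subRep_unionPred (hF : IsZarSheaf F) (l : List ι) :
    ∃ X : Over (Spec (CommRingCat.of R)), Nonempty (SubRep F (UnionPred P l) X) := by
  induction l with
  | nil => exact exists_subRep_nil P hF
  | cons i l ih =>
    obtain ⟨Y, ⟨σY⟩⟩ := ih
    exact exists_subRep_glue₂ hF (hP i) (isOpenPred_unionPred hP l) (σ i) σY
      (fun A ξ => unionPred_cons_iff hP i l A ξ)

include hP σ in
/-- **Representability by gluing**: a Zariski sheaf on `R`-algebras with a finite cover by open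
subfunctors represented (on affines) by schemes is represented (on affines) by a scheme. -/
theorem exists_rep_of_charts (hF : IsZarSheaf F) (l : List ι)
    (hcov : ∀ A ξ, UnionPred P l A ξ) :
    ∃ X : Over (Spec (CommRingCat.of R)), Nonempty (Rep F X) := by
  obtain ⟨X, ⟨σX⟩⟩ := exists_subRep_unionPred hP σ hF l
  exact ⟨X, ⟨σX.toRep hcov⟩⟩

end main

end Groth.Agent.H2.AffRep
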