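import Groth.Agent.Lib.Helper2.GrassAlgA

/-! # Pulling back points of the Grassmannian functor along a surjection of modules. -/

universe u
open TensorProduct Module Module.Grassmannian CategoryTheory

namespace Groth.Agent.H2.GrassAlg

/-- the quotient by a preimage under a surjection. -/
noncomputable def quotComapEquiv {A : Type*} [CommRing A] {M M' : Type*} [AddCommGroup M]
    [Module A M] [AddCommGroup M'] [Module A M'] (f : M →ₗ[A] M') (hf : Function.Surjective f)
    (N' : Submodule A M') : (M ⧸ N'.comap f) ≃ₗ[A] (M' ⧸ N') :=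
  (Submodule.quotEquivOfEq _ _ (by rw [LinearMap.ker_comp, Submodule.ker_mkQ])).trans
    ((N'.mkQ ∘ₗ f).quotKerEquivOfSurjective (N'.mkQ_surjective.comp hf))

variable {R : Type u} [CommRing R] {M₁ M₂ : Type u} [AddCommGroup M₁] [Module R M₁]
  [AddCommGroup M₂] [Module R M₂] (v : M₁ →ₗ[R] M₂) (hv : Function.Surjective v) (k : ℕ)

include hv in
/-- kernel of a base-changed surjection. -/
lemma ker_baseChange_eq_span (B : Type u) [CommRing B] [Algebra R B] :
    LinearMap.ker (v.baseChange B) =
      Submodule.span B {z | ∃ m ∈ LinearMap.ker v, z = (1 : B) ⊗ₜ[R] m} := by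
  apply le_antisymm
  · intro z hz
    have hz' : z ∈ LinearMap.ker (v.lTensor B) := by
      rw [LinearMap.mem_ker] at hz ⊢
      rw [← LinearMap.baseChange_eq_ltensor]
      exact hz
    have hex := lTensor_exact B (LinearMap.exact_subtype_ker_map v) hv
    rw [LinearMap.exact_iff] at hex
    rw [hex] at hz'
    obtain ⟨t, rfl⟩ := hz'
    clear hz
    induction t using TensorProduct.induction_on with
    | zero => simp
    | tmul b m =>
      have h1 : (LinearMap.ker v).subtype.lTensor B (b ⊗ₜ[R] m) =
          b • ((1 : B) ⊗ₜ[R] (m : M₁)) := by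
        rw [LinearMap.lTensor_tmul, Submodule.subtype_apply, TensorProduct.smul_tmul',
          smul_eq_mul, mul_one]
      rw [h1]
      exact Submodule.smul_mem _ _ (Submodule.subset_span ⟨m, m.2, rfl⟩)
    | add x y hx hy =>
      rw [map_add]
      exact Submodule.add_mem _ hx hy
  · rw [Submodule.span_le]
    rintro _ ⟨m, hm, rfl⟩
    rw [SetLike.mem_coe, LinearMap.mem_ker, LinearMap.baseChange_tmul,
      LinearMap.mem_ker.mp hm, TensorProduct.tmul_zero]

lemma baseChange_bc {A B : Type u} [CommRing A] [Algebra R A] [CommRing B] [Algebra R B]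
    (φ : A →ₐ[R] B) (y : A ⊗[R] M₁) :
    v.baseChange B (bc φ y) = bc φ (v.baseChange A y) := by
  induction y using TensorProduct.induction_on with
  | zero => simp
  | tmul a m => simp
  | add x y hx hy => simp only [map_add, hx, hy]

include hv in
/-- the preimage of a point of the Grassmannian under a surjection. -/
noncomputable def comapG {A : Type u} [CommRing A] [Algebra R A] (N : G(k, A ⊗[R] M₂; A)) :
    G(k, A ⊗[R] M₁; A) :=
  let e := quotComapEquiv (v.baseChange A) (LinearMap.baseChange_surjective A hv) N.toSubmodule
  { toSubmodule := N.toSubmodule.comap (v.baseChange A)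
    finite_quotient := Module.Finite.equiv e.symm
    projective_quotient := Module.Projective.of_equiv e.symm
    rankAtStalk_eq := fun p => by
      rw [Module.rankAtStalk_eq_of_equiv e]
      exact N.rankAtStalk_eq p }

lemma comapG_toSubmodule {A : Type u} [CommRing A] [Algebra R A] (N : G(k, A ⊗[R] M₂; A)) :
    (comapG v hv k N).toSubmodule = N.toSubmodule.comap (v.baseChange A) := rfl

/-- compatibility with base change. -/
lemma map_comapG {A B : Type u} [CommRing A] [Algebra R A] [CommRing B] [Algebra R B]
    (φ : A →ₐ[R] B) (N : G(k, A ⊗[R] M₂; A)) :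
    map φ (comapG v hv k N) = comapG v hv k (map φ N) := by
  apply Grassmannian.ext
  rw [comapG_toSubmodule]
  apply le_antisymm
  · rw [map_toSubmodule_eq_span, Submodule.span_le]
    rintro _ ⟨y, hy, rfl⟩
    rw [SetLike.mem_coe, Submodule.mem_comap, baseChange_bc]
    exact bc_mem_map φ N _ hy
  · intro z hz
    rw [Submodule.mem_comap, map_toSubmodule_eq_span] at hz
    set S := Submodule.span B (bc φ '' ((comapG v hv k N).toSubmodule : Set (A ⊗[R] M₁)))
      with hS
    have hker : LinearMap.ker (v.baseChange B) ≤ S := by
      rw [ker_baseChange_eq_span v hv B, Submodule.span_le]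
      rintro _ ⟨m, hm, rfl⟩
      apply Submodule.subset_span
      refine ⟨(1 : A) ⊗ₜ[R] m, ?_, by simp⟩
      rw [SetLike.mem_coe, comapG_toSubmodule, Submodule.mem_comap, LinearMap.baseChange_tmul,
        LinearMap.mem_ker.mp hm, TensorProduct.tmul_zero]
      exact zero_mem _
    have himg : Submodule.span B (bc φ '' (N.toSubmodule : Set (A ⊗[R] M₂))) ≤
        S.map (v.baseChange B) := by
      rw [Submodule.span_le]
      rintro _ ⟨y, hy, rfl⟩
      obtain ⟨y', rfl⟩ := LinearMap.baseChange_surjective A hv y
      refine ⟨bc φ y', Submodule.subset_span ⟨y', hy, rfl⟩, baseChange_bc v φ y'⟩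
    obtain ⟨z', hz', hzz'⟩ := himg hz
    have h1 : z - z' ∈ S := hker (by rw [LinearMap.mem_ker, map_sub, hzz', sub_self])
    rw [map_toSubmodule_eq_span]
    have := Submodule.add_mem _ h1 hz'
    rwa [sub_add_cancel] at this

/-- the natural transformation of Grassmannian functors. -/
noncomputable def comapNat :
    functor (R := R) (M := M₂) k ⟶ functor (R := R) (M := M₁) k where
  app A := ↾(comapG v hv k (A := A))
  naturality A B φ := by
    ext N
    exact (map_comapG v hv k φ.hom N).symm

lemma comapNat_app (A : CommAlgCat.{u} R) (N : (functor (R := R) (M := M₂) k).obj A) :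
    (comapNat v hv k).app A N = comapG v hv k N := rfl

lemma comapNat_injective (A : CommAlgCat.{u} R) :
    Function.Injective ((comapNat v hv k).app A) := by
  intro N N' h
  apply Grassmannian.ext
  have h1 : (comapG v hv k N).toSubmodule = (comapG v hv k N').toSubmodule :=
    congrArg Grassmannian.toSubmodule h
  rw [comapG_toSubmodule, comapG_toSubmodule] at h1
  exact Submodule.comap_injective_of_surjective (LinearMap.baseChange_surjective A hv) h1

end Groth.Agent.H2.GrassAlg
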