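import Groth.Agent.Lib.Helper2.PlE
import Groth.Agent.Lib.Helper2.GrassAlgC

/-! # The Plücker closed immersion for the Grassmannian of a finite free module. -/

universe u
open TensorProduct Module Module.Grassmannian CategoryTheory AlgebraicGeometry

namespace Groth.Agent.H2.AffRep

variable {R : Type u} [CommRing R]
variable {F F' : CommAlgCat.{u, u} R ⥤ Type u} {X : Over (Spec (CommRingCat.of R))}

/-- transport of a representation along a pointwise bijective natural transformation. -/
noncomputable def Rep.ofBijective (ρ : Rep F X) (τ : F ⟶ F')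
    (hτ : ∀ A, Function.Bijective (τ.app A)) : Rep F' X where
  e A := (ρ.e A).trans (Equiv.ofBijective _ (hτ A))
  he A B φ g g' h := by
    change τ.app B (ρ.e B g') = F'.map φ (τ.app A (ρ.e A g))
    rw [ρ.he A B φ g g' h, τ_map]

end Groth.Agent.H2.AffRep

namespace Groth.Agent.H2.Pluecker
open Groth.Agent.H2.GrassAlg Groth.Agent.H2.GrassChart Groth.Agent.H2.AffRep Groth.Agent.H2.PUP

variable {R : Type u} [CommRing R] {M₁ M₂ : Type u} [AddCommGroup M₁] [Module R M₁]
  [AddCommGroup M₂] [Module R M₂]

/-- a linear equivalence induces a pointwise bijective transformation of Grassmannian functors. -/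
lemma comapNat_bijective (f : M₁ ≃ₗ[R] M₂) (k : ℕ) (A : CommAlgCat.{u} R) :
    Function.Bijective ((comapNat f.toLinearMap f.surjective k).app A) := by
  refine ⟨comapNat_injective _ _ _ A, ?_⟩
  intro N₁
  refine ⟨comapG f.symm.toLinearMap f.symm.surjective k N₁, ?_⟩
  apply Grassmannian.ext
  rw [comapNat_app, comapG_toSubmodule, comapG_toSubmodule, ← Submodule.comap_comp,
    ← LinearMap.baseChange_comp]
  have : f.symm.toLinearMap ∘ₗ f.toLinearMap = LinearMap.id := by
    ext m
    simp
  rw [this, LinearMap.baseChange_id, Submodule.comap_id]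

/-- **Plücker embedding** for a scheme representing the Grassmannian functor of a finite free
module of rank `n`. -/
theorem exists_closedImmersion_of_free (R : Type u) [CommRing R] (M : Type u) [AddCommGroup M]
    [Module R M] (n q : ℕ) (hqn : q ≤ n) (b : M ≃ₗ[R] (Fin n → R))
    (X : Over (Spec (CommRingCat.of R)))
    (ρ : Rep (functor (R := R) (M := M) q) X) :
    ∃ c : X.left ⟶ CohB1.ProjSpaceOver (n.choose q - 1) (Spec (CommRingCat.of R)),
      IsClosedImmersion c ∧
        c ≫ CohB1.ProjSpaceOver.toBase (n.choose q - 1) (Spec (CommRingCat.of R)) = X.hom :=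
  exists_closedImmersion_projSpaceOver R n q hqn X
    (ρ.ofBijective (comapNat b.symm.toLinearMap b.symm.surjective q)
      (comapNat_bijective b.symm q))

end Groth.Agent.H2.Pluecker
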