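import Groth.Agent.Lib.Helper2.AffRepN
import Groth.Agent.Lib.Helper2.PlF

/-! # Products and tuples of representable functors; finite conjunctions of closed predicates. -/

universe u
open CategoryTheory CategoryTheory.Limits AlgebraicGeometry TopologicalSpace Opposite

namespace Groth.Agent.H2.AffRep

variable {R : Type u} [CommRing R]
variable {F G : CommAlgCat.{u, u} R ⥤ Type u}

attribute [local ext high] ConcreteCategory.hom_ext

/-- the product of two functors to types. -/
def prodF (F G : CommAlgCat.{u, u} R ⥤ Type u) : CommAlgCat.{u, u} R ⥤ Type u where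
  obj A := F.obj A × G.obj A
  map {A B} φ := ↾(fun p : F.obj A × G.obj A => (F.map φ p.1, G.map φ p.2))
  map_id A := by
    ext p : 1
    change (F.map (𝟙 A) p.1, G.map (𝟙 A) p.2) = p
    rw [F.map_id, G.map_id]
    rfl
  map_comp φ ψ := by
    ext p : 1
    change (F.map (φ ≫ ψ) p.1, G.map (φ ≫ ψ) p.2) =
      (F.map ψ (F.map φ p.1), G.map ψ (G.map φ p.2))
    rw [F.map_comp, G.map_comp]
    rfl

/-- tuples of values of a functor. -/
def tupleF (F : CommAlgCat.{u, u} R ⥤ Type u) (m : ℕ) : CommAlgCat.{u, u} R ⥤ Type u where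
  obj A := Fin m → F.obj A
  map {A B} φ := ↾(fun (V : Fin m → F.obj A) i => F.map φ (V i))
  map_id A := by
    ext V : 1
    funext i
    change F.map (𝟙 A) (V i) = V i
    rw [F.map_id]
    rfl
  map_comp φ ψ := by
    ext V : 1
    funext i
    change F.map (φ ≫ ψ) (V i) = F.map ψ (F.map φ (V i))
    rw [F.map_comp]
    rfl

lemma tupleF_map_apply {m : ℕ} {A B : CommAlgCat.{u} R} (φ : A ⟶ B) (V : (tupleF F m).obj A)
    (i : Fin m) : ((tupleF F m).map φ V : Fin m → F.obj B) i = F.map φ (V i) := rfl

section prod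
variable (X Y : Over (Spec (CommRingCat.of R)))

/-- the fibre product over `Spec R`. -/
noncomputable def prodO : Over (Spec (CommRingCat.of R)) :=
  Over.mk (pullback.fst X.hom Y.hom ≫ X.hom)

variable {X Y}

noncomputable def prodFst : prodO X Y ⟶ X := Over.homMk (pullback.fst X.hom Y.hom) rfl

noncomputable def prodSnd : prodO X Y ⟶ Y :=
  Over.homMk (pullback.snd X.hom Y.hom) (pullback.condition).symm

noncomputable def prodLift {T : Over (Spec (CommRingCat.of R))} (a : T ⟶ X) (b : T ⟶ Y) :
    T ⟶ prodO X Y :=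
  Over.homMk (pullback.lift a.left b.left (by rw [Over.w a, Over.w b])) (by
    change pullback.lift a.left b.left _ ≫ pullback.fst X.hom Y.hom ≫ X.hom = T.hom
    rw [pullback.lift_fst_assoc, Over.w a])

lemma prodLift_fst {T : Over (Spec (CommRingCat.of R))} (a : T ⟶ X) (b : T ⟶ Y) :
    prodLift a b ≫ prodFst = a := by
  apply Over.OverMorphism.ext
  exact pullback.lift_fst _ _ _

lemma prodLift_snd {T : Over (Spec (CommRingCat.of R))} (a : T ⟶ X) (b : T ⟶ Y) :
    prodLift a b ≫ prodSnd = b := by
  apply Over.OverMorphism.ext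
  exact pullback.lift_snd _ _ _

lemma prod_hom_ext {T : Over (Spec (CommRingCat.of R))} (c c' : T ⟶ prodO X Y)
    (h1 : c ≫ prodFst = c' ≫ prodFst) (h2 : c ≫ prodSnd = c' ≫ prodSnd) : c = c' := by
  apply Over.OverMorphism.ext
  apply pullback.hom_ext
  · exact congrArg (fun t => t.left) h1
  · exact congrArg (fun t => t.left) h2

/-- **the fibre product represents the product functor.** -/
noncomputable def Rep.prod (ρF : Rep F X) (ρG : Rep G Y) : Rep (prodF F G) (prodO X Y) where
  e A :=
    { toFun := fun g => (ρF.e A (g ≫ prodFst), ρG.e A (g ≫ prodSnd))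
      invFun := fun p => prodLift ((ρF.e A).symm p.1) ((ρG.e A).symm p.2)
      left_inv := fun g => by
        apply prod_hom_ext
        · rw [prodLift_fst, Equiv.symm_apply_apply]
        · rw [prodLift_snd, Equiv.symm_apply_apply]
      right_inv := fun p => by
        apply Prod.ext
        · change ρF.e A (prodLift _ _ ≫ prodFst) = p.1
          rw [prodLift_fst, Equiv.apply_symm_apply]
        · change ρG.e A (prodLift _ _ ≫ prodSnd) = p.2
          rw [prodLift_snd, Equiv.apply_symm_apply] }
  he A B φ g g' h := by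
    have : g' = SpecOmap φ ≫ g := Over.OverMorphism.ext h
    subst this
    change (ρF.e B ((SpecOmap φ ≫ g) ≫ prodFst), ρG.e B ((SpecOmap φ ≫ g) ≫ prodSnd)) =
      (F.map φ (ρF.e A (g ≫ prodFst)), G.map φ (ρG.e A (g ≫ prodSnd)))
    rw [Category.assoc, Category.assoc, ρF.e_comp, ρG.e_comp]

lemma isProper_prodO (hX : IsProper X.hom) (hY : IsProper Y.hom) : IsProper (prodO X Y).hom := by
  change IsProper (pullback.fst X.hom Y.hom ≫ X.hom)
  infer_instance

end prod

section tuple

/-- appending a value to a tuple. -/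
def snocNat (F : CommAlgCat.{u, u} R ⥤ Type u) (m : ℕ) :
    prodF (tupleF F m) F ⟶ tupleF F (m + 1) where
  app A := ↾(fun p : (Fin m → F.obj A) × F.obj A =>
    (Fin.snoc (α := fun _ => F.obj A) p.1 p.2 : Fin (m + 1) → F.obj A))
  naturality A B φ := by
    ext p
    funext i
    change Fin.snoc (α := fun _ => F.obj B) (fun j => F.map φ (p.1 j)) (F.map φ p.2) i =
      F.map φ (Fin.snoc (α := fun _ => F.obj A) p.1 p.2 i)
    refine Fin.lastCases ?_ (fun j => ?_) i
    · rw [Fin.snoc_last, Fin.snoc_last]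
    · rw [Fin.snoc_castSucc, Fin.snoc_castSucc]

lemma snocNat_bijective (F : CommAlgCat.{u, u} R ⥤ Type u) (m : ℕ) (A : CommAlgCat.{u} R) :
    Function.Bijective ((snocNat F m).app A) := by
  constructor
  · intro p p' h
    have h' : (Fin.snoc (α := fun _ => F.obj A) p.1 p.2 : Fin (m + 1) → F.obj A) =
        Fin.snoc (α := fun _ => F.obj A) p'.1 p'.2 := h
    apply Prod.ext
    · funext j
      have := congrFun h' j.castSucc
      rwa [Fin.snoc_castSucc, Fin.snoc_castSucc] at this
    · have := congrFun h' (Fin.last m)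
      rwa [Fin.snoc_last, Fin.snoc_last] at this
  · intro V
    refine ⟨(fun j => V j.castSucc, V (Fin.last m)), ?_⟩
    funext i
    change Fin.snoc (α := fun _ => F.obj A) (fun j => V j.castSucc) (V (Fin.last m)) i = V i
    refine Fin.lastCases ?_ (fun j => ?_) i
    · rw [Fin.snoc_last]
    · rw [Fin.snoc_castSucc]

/-- the base `Spec R` represents the functor of empty tuples. -/
noncomputable def repEmpty (F : CommAlgCat.{u, u} R ⥤ Type u) :
    Rep (tupleF F 0) (Over.mk (𝟙 (Spec (CommRingCat.of R)))) where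
  e A :=
    { toFun := fun _ => Fin.elim0
      invFun := fun _ => Over.mkIdTerminal.from _
      left_inv := fun g => Over.mkIdTerminal.hom_ext _ _
      right_inv := fun V => by funext i; exact i.elim0 }
  he A B φ g g' h := by
    funext i
    exact i.elim0

/-- **tuples are representable** by a proper scheme if the functor is. -/
theorem exists_rep_tuple {X : Over (Spec (CommRingCat.of R))} (ρ : Rep F X)
    (hX : IsProper X.hom) (m : ℕ) :
    ∃ Xm : Over (Spec (CommRingCat.of R)), Nonempty (Rep (tupleF F m) Xm) ∧ IsProper Xm.hom := by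
  induction m with
  | zero =>
    refine ⟨_, ⟨repEmpty F⟩, ?_⟩
    change IsProper (𝟙 (Spec (CommRingCat.of R)))
    infer_instance
  | succ m ih =>
    obtain ⟨Xm, ⟨ρm⟩, hXm⟩ := ih
    exact ⟨prodO Xm X, ⟨(ρm.prod ρ).ofBijective (snocNat F m) (snocNat_bijective F m)⟩,
      isProper_prodO hXm hX⟩

end tuple

section conj
variable {ι : Type*} {P : ι → ∀ A : CommAlgCat.{u} R, F.obj A → Prop}

/-- a conjunction of closed predicates is closed. -/
theorem isClosedPred_forall (h : ∀ i, IsClosedPred F (P i)) :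
    IsClosedPred F (fun A ξ => ∀ i, P i A ξ) := by
  intro A ξ
  refine ⟨⨆ i, vI (h i) A ξ, fun B φ => ?_⟩
  rw [iSup_le_iff]
  exact forall_congr' fun i => vI_spec (h i) A ξ B φ

end conj

theorem isClosedPred_and {P Q : ∀ A : CommAlgCat.{u} R, F.obj A → Prop}
    (hP : IsClosedPred F P) (hQ : IsClosedPred F Q) :
    IsClosedPred F (fun A ξ => P A ξ ∧ Q A ξ) := by
  intro A ξ
  refine ⟨vI hP A ξ ⊔ vI hQ A ξ, fun B φ => ?_⟩
  rw [sup_le_iff]
  exact and_congr (vI_spec hP A ξ B φ) (vI_spec hQ A ξ B φ)

end Groth.Agent.H2.AffRep
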