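import Groth.Agent.Lib.Helper2.AffRepH

/-! # Affine space represents the functor of tuples. -/

universe u
open CategoryTheory CategoryTheory.Limits AlgebraicGeometry TopologicalSpace Opposite

namespace Groth.Agent.H2.AffRep

variable (R : Type u) [CommRing R] (J : Type u)

attribute [local ext high] ConcreteCategory.hom_ext

/-- the functor of `J`-tuples. -/
def Aff : CommAlgCat.{u, u} R ⥤ Type u where
  obj A := J → A
  map φ := ↾(fun (s : J → _) j => φ.hom (s j))
  map_id A := by ext s : 1; rfl
  map_comp φ ψ := by ext s : 1; rfl

variable {R J}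

lemma Aff_map_apply {A B : CommAlgCat.{u} R} (φ : A ⟶ B) (s : (Aff R J).obj A) (j : J) :
    ((Aff R J).map φ s : J → B) j = φ.hom (s j) := rfl

variable (R J)

/-- affine space over `Spec R` as an object over `Spec R`. -/
noncomputable abbrev affO : Over (Spec (CommRingCat.of R)) :=
  Over.mk (𝔸(J; Spec (CommRingCat.of R)) ↘ Spec (CommRingCat.of R))

/-- the tuple of a point. -/
noncomputable def affPt (A : CommAlgCat.{u} R) (g : SpecO A ⟶ affO R J) : J → A := fun j =>
  (Scheme.ΓSpecIso (CommRingCat.of A)).hom
    (g.left.appTop (AffineSpace.coord (Spec (CommRingCat.of R)) j))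

/-- the point of a tuple. -/
noncomputable def affHom (A : CommAlgCat.{u} R) (s : J → A) : SpecO A ⟶ affO R J :=
  Over.homMk (AffineSpace.homOfVector (SpecO A).hom
      (fun j => (Scheme.ΓSpecIso (CommRingCat.of A)).inv (s j)))
    (AffineSpace.homOfVector_over _ _)

lemma affHom_left (A : CommAlgCat.{u} R) (s : J → A) :
    (affHom R J A s).left = AffineSpace.homOfVector (SpecO A).hom
      (fun j => (Scheme.ΓSpecIso (CommRingCat.of A)).inv (s j)) := rfl

/-- the bijection on points. -/
noncomputable def affEquiv (A : CommAlgCat.{u} R) : (SpecO A ⟶ affO R J) ≃ (J → A) where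
  toFun := affPt R J A
  invFun := affHom R J A
  left_inv g := by
    apply Over.OverMorphism.ext
    apply AffineSpace.hom_ext
    · rw [affHom_left, AffineSpace.homOfVector_over]
      exact (Over.w g).symm
    · intro j
      rw [affHom_left, AffineSpace.homOfVector_appTop_coord]
      exact Iso.hom_inv_id_apply _ _
  right_inv s := by
    funext j
    rw [affPt, affHom_left, AffineSpace.homOfVector_appTop_coord]
    exact Iso.inv_hom_id_apply _ _

/-- **Affine space represents tuples.** -/
noncomputable def affRep : Rep (Aff R J) (affO R J) where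
  e := affEquiv R J
  he A B φ g g' h := by
    funext j
    change (Scheme.ΓSpecIso (CommRingCat.of B)).hom (g'.left.appTop _) =
      φ.hom ((Scheme.ΓSpecIso (CommRingCat.of A)).hom (g.left.appTop _))
    rw [h, Scheme.Hom.comp_appTop, CommRingCat.comp_apply]
    have h1 := Scheme.ΓSpecIso_naturality (CommRingCat.ofHom φ.hom.toRingHom)
    have h2 := congrArg (fun ψ => ψ.hom (g.left.appTop
      (AffineSpace.coord (Spec (CommRingCat.of R)) j))) h1
    exact h2

end Groth.Agent.H2.AffRep
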