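import Groth.Agent.Lib.Helper2.AffVan1
import Groth.Agent.Lib.Lead.QC.Extend
import Groth.Agent.Lib.Lead.Stein.Cut

/-!
# The splitting property passes to limits of systems with surjective transition maps (helper2)
-/

set_option autoImplicit false
universe u
open CategoryTheory Limits Opposite TopologicalSpace AlgebraicGeometry

namespace Groth.Agent.H2.AffVan

open Groth.Agent.LD Groth.Agent.LD.QC Groth.Agent.LD.Stein

variable {X : Scheme.{u}}

/-- restriction of sections. -/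
noncomputable abbrev rs (M : X.Modules) {U V : X.Opens} (h : V ≤ U) (x : Γ(M, U)) : Γ(M, V) :=
  M.presheaf.map (homOfLE h).op x

lemma rs_sub (M : X.Modules) {U V : X.Opens} (h : V ≤ U) (x y : Γ(M, U)) :
    rs M h (x - y) = rs M h x - rs M h y := map_sub _ x y

lemma rs_rs (M : X.Modules) {U V W : X.Opens} (h1 : V ≤ U) (h2 : W ≤ V) (x : Γ(M, U)) :
    rs M h2 (rs M h1 x) = rs M (h2.trans h1) x := res_res M h1 h2 x

lemma app_rs {M N : X.Modules} (φ : M ⟶ N) {U V : X.Opens} (h : V ≤ U) (x : Γ(M, U)) :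
    φ.app V (rs M h x) = rs N h (φ.app U x) := Groth.Agent.LD.QC.app_res φ h x

/-- one step of the lifting construction. -/
lemma step {M' M : X.Modules} (τ : M' ⟶ M) {S V W T : X.Opens} (hWS : W ≤ S) (hWV : W ≤ V)
    (hSVW : S ⊓ V ≤ W) (hST : S ≤ T) (hVT : V ≤ T) (hT : T ≤ S ⊔ V)
    (hsplit : ∀ t : Γ(M', W), ∃ (a : Γ(M', S)) (b : Γ(M', V)), rs M' hWS a - rs M' hWV b = t)
    (hsurj : Function.Surjective (τ.app T))
    (s' : Γ(M', W)) (a : Γ(M, S)) (b : Γ(M, V))
    (hab : rs M hWS a - rs M hWV b = τ.app W s') :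
    ∃ (a' : Γ(M', S)) (b' : Γ(M', V)), rs M' hWS a' - rs M' hWV b' = s' ∧
      τ.app S a' = a ∧ τ.app V b' = b := by
  obtain ⟨a'', b'', hab''⟩ := hsplit s'
  -- the discrepancies
  let da : Γ(M, S) := τ.app S a'' - a
  let db : Γ(M, V) := τ.app V b'' - b
  have hd : rs M hWS da = rs M hWV db := by
    have e1 : rs M hWS da = τ.app W (rs M' hWS a'') - rs M hWS a := by
      rw [rs_sub, app_rs]
    have e2 : rs M hWV db = τ.app W (rs M' hWV b'') - rs M hWV b := by
      rw [rs_sub, app_rs]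
    have e3 : τ.app W (rs M' hWS a'') - τ.app W (rs M' hWV b'') = τ.app W s' := by
      rw [← map_sub, hab'']
    rw [e1, e2, ← sub_eq_zero]
    have : τ.app W (rs M' hWS a'') - rs M hWS a - (τ.app W (rs M' hWV b'') - rs M hWV b) =
        (τ.app W (rs M' hWS a'') - τ.app W (rs M' hWV b'')) - (rs M hWS a - rs M hWV b) := by
      abel
    rw [this, e3, hab, sub_self]
  have hd' : rs M (inf_le_left : S ⊓ V ≤ S) da = rs M (inf_le_right : S ⊓ V ≤ V) db := by
    rw [← rs_rs M hWS hSVW, ← rs_rs M hWV hSVW, hd]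
  obtain ⟨z, hz1, hz2⟩ := glue2 M da db hd'
  obtain ⟨c', hc'⟩ := hsurj (rs M hT z)
  refine ⟨a'' - rs M' hST c', b'' - rs M' hVT c', ?_, ?_, ?_⟩
  · rw [rs_sub, rs_sub, rs_rs, rs_rs]
    have : rs M' hWS a'' - rs M' (hWS.trans hST) c' - (rs M' hWV b'' - rs M' (hWV.trans hVT) c') =
        rs M' hWS a'' - rs M' hWV b'' := by abel
    rw [this, hab'']
  · rw [map_sub, app_rs, hc', rs_rs]
    have : rs M (hST.trans hT) z = da := hz1
    rw [this]
    change τ.app S a'' - (τ.app S a'' - a) = a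
    abel
  · rw [map_sub, app_rs, hc', rs_rs]
    have : rs M (hVT.trans hT) z = db := hz2
    rw [this]
    change τ.app V b'' - (τ.app V b'' - b) = b
    abel

end Groth.Agent.H2.AffVan
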