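import Groth.Agent.Lib.Helper2.LimSec2

/-!
# The limit of a quasi-coherent adic system: `(lim G) / I^{n+1} ≅ G_n` (helper2)
-/

set_option autoImplicit false
set_option linter.style.haveILetI false
universe u

open CategoryTheory CategoryTheory.Limits AlgebraicGeometry Opposite TopologicalSpace TensorProduct

namespace Groth.Agent.H2.LimSec

open Groth.Agent.LD.QC Groth.Agent.H2.Mum Groth.Agent.H2.FormalQ Groth.Agent.H2.FormalTF
  Groth.Agent.H2.FormalEq Groth.Agent.H2.LimAdic Groth.Agent.LD.FF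

variable {A : Type u} [CommRing A] {X : Scheme.{u}} [X.Over (Spec (CommRingCat.of A))]
  {I : Ideal A} {G : ℕᵒᵖ ⥤ X.Modules}

lemma limit_π_app_surjective (hG : Formal2.IsQCohFormal I G) (n : ℕ) (U : X.affineOpens) :
    Function.Surjective ((limit.π G (op n)).app U.1) := by
  intro t
  obtain ⟨y, hy⟩ := πl_surjective (adicSys_sec hG U) n (show (secF A U.1).obj (G.obj (op n)) from t)
  refine ⟨(eU G U.1).inv.hom y, ?_⟩
  have h := eU_hom_π G U.1 n ((eU G U.1).inv.hom y)
  rw [eU_inv_hom, hy] at h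
  exact h.symm

lemma limit_π_epi (hG : Formal2.IsQCohFormal I G) (n : ℕ) : Epi (limit.π G (op n)) := by
  apply epi_of_local_lift
  intro U t x hx
  obtain ⟨V, hV, hxV, hVU⟩ := exists_isAffineOpen_mem_and_subset (x := x) (U := U) hx
  obtain ⟨g, hg⟩ := limit_π_app_surjective hG n ⟨V, hV⟩
    ((G.obj (op n)).presheaf.map (homOfLE hVU).op t)
  exact ⟨V, hVU, hxV, g, hg⟩

lemma mem_smul_top_of_app_eq_zero (hI : I.FG) (hG : Formal2.IsQCohFormal I G) (n : ℕ)
    (U : X.affineOpens) (x : (secF A U.1).obj (limit G))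
    (hx : (limit.π G (op n)).app U.1 (show Γ(limit G, U.1) from x) = 0) :
    x ∈ I ^ (n + 1) • (⊤ : Submodule A ((secF A U.1).obj (limit G))) := by
  have h1 : πl (G ⋙ secF A U.1) n ((eU G U.1).hom.hom x) = 0 := by
    rw [eU_hom_π, hx]
    rfl
  have h2 := ker_πl_le (adicSys_sec hG U) hI n h1
  rw [← eU_hom_inv G U.1 x]
  have h3 : (eU G U.1).inv.hom ((eU G U.1).hom.hom x) ∈
      (I ^ (n + 1) • (⊤ : Submodule A (limit (G ⋙ secF A U.1) : ModuleCat.{u} A))).map
        (eU G U.1).inv.hom := Submodule.mem_map_of_mem h2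
  rw [Submodule.map_smul''] at h3
  exact Submodule.smul_mono le_rfl le_top h3

lemma app_eq_zero_of_mem_smul_top {J : Ideal A} {F Z : X.Modules} (g : F ⟶ Z)
    (hg : ∀ b ∈ J, Formal.smulMod A F b ≫ g = 0) (U : X.Opens) (x : (secF A U).obj F)
    (hx : x ∈ J • (⊤ : Submodule A ((secF A U).obj F))) :
    ((secF A U).map g).hom x = 0 := by
  refine Submodule.smul_induction_on hx ?_ ?_
  · intro b hb y _
    rw [← secF_map_smulMod A U F b y]
    have h := congrArg (fun φ => ((secF A U).map φ).hom y) (hg b hb)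
    simp only [Functor.map_comp] at h
    rw [show ((secF A U).map (0 : F ⟶ Z)).hom y = 0 from rfl] at h
    exact h
  · intro y z hy hz
    rw [map_add, hy, hz, add_zero]

/-- `lim G → G_n` is the quotient by `I^{n+1}`. -/
theorem isQ_limit_π (hI : I.FG) (hG : Formal2.IsQCohFormal I G) (n : ℕ) :
    IsQ (I ^ (n + 1)) (limit.π G (op n)) := by
  haveI := limit_π_epi hG n
  rw [isQ_iff]
  refine ⟨inferInstance, fun b hb => ?_, fun {Z} g hg => ?_⟩
  · rw [← comp_smulMod, hG.2.1 n b hb, comp_zero]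
  · have hk : kernel.ι (limit.π G (op n)) ≫ g = 0 := by
      apply hom_ext_affine
      intro U s
      rw [Scheme.Modules.Hom.comp_app, ConcreteCategory.comp_apply]
      have h1 : (limit.π G (op n)).app U.1 ((kernel.ι (limit.π G (op n))).app U.1 s) = 0 := by
        have := congrArg (fun φ => φ.app U.1 s) (kernel.condition (limit.π G (op n)))
        rw [Scheme.Modules.Hom.comp_app, ConcreteCategory.comp_apply] at this
        exact this
      have h2 := mem_smul_top_of_app_eq_zero hI hG n U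
        (show (secF A U.1).obj (limit G) from (kernel.ι (limit.π G (op n))).app U.1 s) h1
      exact app_eq_zero_of_mem_smul_top g hg U.1 _ h2
    exact ⟨Abelian.epiDesc _ g hk, Abelian.comp_epiDesc _ g hk⟩

end Groth.Agent.H2.LimSec
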