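import Groth.Agent.Lib.Helper2.AffVan2
import Groth.Agent.Lib.Helper2.LimSec3

/-!
# The splitting property passes to limits of systems with surjective transition maps, II (helper2)
-/

set_option autoImplicit false
set_option linter.style.haveILetI false
universe u
open CategoryTheory Limits Opposite TopologicalSpace AlgebraicGeometry

namespace Groth.Agent.H2.AffVan

open Groth.Agent.LD Groth.Agent.LD.QC Groth.Agent.H2.LimSec Groth.Agent.H2.LimAdic

variable (A : Type u) [CommRing A] {X : Scheme.{u}} [X.Over (Spec (CommRingCat.of A))]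
  (G : ℕᵒᵖ ⥤ X.Modules)

include A in
lemma limit_section_ext (W : X.Opens) (x y : Γ(limit G, W))
    (h : ∀ n, (limit.π G (op n)).app W x = (limit.π G (op n)).app W y) : x = y := by
  have h1 : (eU (A := A) G W).hom.hom x = (eU (A := A) G W).hom.hom y := by
    apply lim_ext
    intro n
    rw [eU_hom_π, eU_hom_π]
    exact h n
  have h2 := congrArg (eU (A := A) G W).inv.hom h1
  rw [eU_hom_inv, eU_hom_inv] at h2
  exact h2

include A in
lemma exists_limit_section (S : X.Opens) (a : ∀ n, Γ(G.obj (op n), S))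
    (ha : ∀ n, (G.map (homOfLE (Nat.le_succ n)).op).app S (a (n + 1)) = a n) :
    ∃ α : Γ(limit G, S), ∀ n, (limit.π G (op n)).app S α = a n := by
  obtain ⟨x, hx⟩ := lim_exists (G ⋙ secF A S) (fun n => (a n : (secF A S).obj (G.obj (op n))))
    (fun n => ha n)
  refine ⟨(eU (A := A) G S).inv.hom x, fun n => ?_⟩
  have h := eU_hom_π (A := A) G S n ((eU (A := A) G S).inv.hom x)
  rw [eU_inv_hom, hx n] at h
  exact h.symm

include A in
/-- the splitting property for a limit of a system with levelwise splitting and surjective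
transition maps on `T ⊇ S ∪ V`. -/
theorem splits_limit_core {S V W T : X.Opens} (hWS : W ≤ S) (hWV : W ≤ V)
    (hSVW : S ⊓ V ≤ W) (hST : S ≤ T) (hVT : V ≤ T) (hT : T ≤ S ⊔ V)
    (hsplit : ∀ (n : ℕ) (t : Γ(G.obj (op n), W)), ∃ (a : Γ(G.obj (op n), S))
      (b : Γ(G.obj (op n), V)), rs _ hWS a - rs _ hWV b = t)
    (hsurj : ∀ n : ℕ, Function.Surjective ((G.map (homOfLE (Nat.le_succ n)).op).app T))
    (s : Γ(limit G, W)) :
    ∃ (α : Γ(limit G, S)) (β : Γ(limit G, V)), rs _ hWS α - rs _ hWV β = s := by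
  -- the components of `s`
  let sn : ∀ n, Γ(G.obj (op n), W) := fun n => (limit.π G (op n)).app W s
  have hsn : ∀ n, (G.map (homOfLE (Nat.le_succ n)).op).app W (sn (n + 1)) = sn n := by
    intro n
    have h := limit.w G (homOfLE (Nat.le_succ n)).op
    have h2 := congrArg (fun φ => φ.app W s) h
    rw [Scheme.Modules.Hom.comp_app, ConcreteCategory.comp_apply] at h2
    exact h2
  -- the recursive construction
  let P : ∀ n, Γ(G.obj (op n), S) × Γ(G.obj (op n), V) → Prop :=
    fun n ab => rs _ hWS ab.1 - rs _ hWV ab.2 = sn n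
  have hstep : ∀ n (ab : {ab // P n ab}), ∃ ab' : {ab' // P (n + 1) ab'},
      (G.map (homOfLE (Nat.le_succ n)).op).app S ab'.1.1 = ab.1.1 ∧
      (G.map (homOfLE (Nat.le_succ n)).op).app V ab'.1.2 = ab.1.2 := by
    intro n ab
    obtain ⟨a', b', h1, h2, h3⟩ := step (G.map (homOfLE (Nat.le_succ n)).op) hWS hWV hSVW hST hVT hT
      (hsplit (n + 1)) (hsurj n) (sn (n + 1)) ab.1.1 ab.1.2 (ab.2.trans (hsn n).symm)
    exact ⟨⟨(a', b'), h1⟩, h2, h3⟩
  choose next hnext1 hnext2 using hstep
  obtain ⟨a0, b0, h0⟩ := hsplit 0 (sn 0)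
  let u : ∀ n, {ab // P n ab} := fun n =>
    Nat.rec (motive := fun n => {ab // P n ab}) ⟨(a0, b0), h0⟩ (fun n z => next n z) n
  obtain ⟨α, hα⟩ := exists_limit_section A G S (fun n => (u n).1.1) (fun n => hnext1 n (u n))
  obtain ⟨β, hβ⟩ := exists_limit_section A G V (fun n => (u n).1.2) (fun n => hnext2 n (u n))
  refine ⟨α, β, ?_⟩
  apply limit_section_ext A G W
  intro n
  rw [map_sub, app_rs, app_rs, hα n, hβ n]
  exact (u n).2

end Groth.Agent.H2.AffVan
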