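import Groth.Agent.Lib.Helper2.AffVan3
import Groth.Agent.Lib.Lead.SC.Restrict

/-!
# The limit of a quasi-coherent adic system is acyclic on affine opens (helper2)
-/

set_option autoImplicit false
set_option linter.style.haveILetI false
universe u
open CategoryTheory Limits Opposite TopologicalSpace AlgebraicGeometry

namespace Groth.Agent.H2.AffVan

open Groth.Agent.LD Groth.Agent.LD.QC Groth.Agent.H2.LimSec Groth.Agent.H2.LimAdic
  Groth.Agent.H2.FormalQ Groth.Agent.LD.SC

variable {A : Type u} [CommRing A] {X : Scheme.{u}} [X.Over (Spec (CommRingCat.of A))]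
  {I : Ideal A} {G : ℕᵒᵖ ⥤ X.Modules}

theorem splits_limit (hG : Formal2.IsQCohFormal I G) : Splits (limit G) := by
  intro U hU g h hgh hWg hWh s
  have hSVW : X.basicOpen g ⊓ X.basicOpen h ≤ X.basicOpen (g * h) := (X.basicOpen_mul g h).ge
  have hT : U ≤ X.basicOpen g ⊔ X.basicOpen h := by
    intro x hx
    have hsum : X.presheaf.germ U x hx g + X.presheaf.germ U x hx h = 1 := by
      rw [← map_add, hgh, map_one]
    rcases IsLocalRing.isUnit_or_isUnit_of_add_one hsum with hu | hu
    · exact Or.inl ((X.mem_basicOpen g x hx).mpr hu)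
    · exact Or.inr ((X.mem_basicOpen h x hx).mpr hu)
  refine splits_limit_core A G hWg hWh hSVW (X.basicOpen_le g) (X.basicOpen_le h) hT ?_ ?_ s
  · intro n t
    haveI : (G.obj (op n)).IsQuasicoherent := hG.1 n
    exact splits_of_isQuasicoherent (G.obj (op n)) U hU g h hgh hWg hWh t
  · intro n
    haveI : (G.obj (op (n + 1))).IsQuasicoherent := hG.1 (n + 1)
    have hQ : IsQ (I ^ (n + 1)) (G.map (homOfLE (Nat.le_succ n)).op) := hG.2.2 n
    exact isQ_app_surjective hQ ⟨U, hU⟩

theorem subsingleton_HHon_limit (hG : Formal2.IsQCohFormal I G) (U : X.Opens)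
    (hU : IsAffineOpen U) (p : ℕ) (hp : 0 < p) :
    Subsingleton (Coh.HHon X (limit G) U p) := by
  obtain ⟨q, rfl⟩ := Nat.exists_eq_succ_of_ne_zero hp.ne'
  obtain ⟨e⟩ := HH_restrict_equiv U.ι (limit G) (q + 1)
  rw [Scheme.Opens.opensRange_ι] at e
  haveI := subsingleton_ext_of_isAffineOpen (limit G) (splits_limit hG) q U hU
  exact e.toEquiv.subsingleton

end Groth.Agent.H2.AffVan
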