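import Mathlib
import Groth.Prelude.Def_Curves

/-! # Absolutely integrally closed rings: localisation, cyclotomic separated tuples. -/

set_option autoImplicit false
set_option linter.unusedVariables false
set_option linter.unusedSectionVars false

universe u

open Polynomial

namespace Groth.Agent.H2.Aic

/-- a.i.c. passes to localisations. -/
theorem isAIC_of_isLocalization {R : Type u} [CommRing R] (hR : Curves.IsAIC R) (M : Submonoid R)
    (S : Type u) [CommRing S] [Algebra R S] [IsLocalization M S] : Curves.IsAIC S := by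
  intro f hf hdeg
  set d := IsLocalization.commonDenom M f.support f.coeff with hd
  set s₁ := algebraMap R S d with hs₁
  have hunit : IsUnit s₁ := IsLocalization.map_units _ d
  have hlift := IsLocalization.scaleRoots_commonDenom_mem_lifts M f (by
    rw [hf.leadingCoeff]; exact one_mem _)
  have hmonic : (f.scaleRoots s₁).Monic := (monic_scaleRoots_iff _).mpr hf
  obtain ⟨G, hG1, hG2, hG3⟩ := lifts_and_natDegree_eq_and_monic hlift hmonic
  have hGd : 0 < G.natDegree := by rw [hG2, natDegree_scaleRoots]; exact hdeg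
  obtain ⟨b, hb⟩ := hR G hG3 hGd
  obtain ⟨v, hv⟩ := hunit.exists_left_inv
  refine ⟨v * algebraMap R S b, ?_⟩
  have h2 : eval (s₁ * (v * algebraMap R S b)) (f.scaleRoots s₁) =
      s₁ ^ f.natDegree * eval (v * algebraMap R S b) f := scaleRoots_eval_mul _ _ _
  have h3 : s₁ * (v * algebraMap R S b) = algebraMap R S b := by
    rw [← mul_assoc, mul_comm s₁ v, hv, one_mul]
  rw [h3, ← hG1, eval_map, eval₂_at_apply, hb, map_zero] at h2
  have h5 : IsUnit (s₁ ^ f.natDegree) := hunit.pow _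
  exact (h5.mul_right_eq_zero.mp h2.symm)

section Cyc

variable {R : Type u} [CommRing R] (ζ : R)

/-- `1 + ζ + ⋯ + ζ^(n-1)`. -/
def lam (n : ℕ) : R := ∑ k ∈ Finset.range n, ζ ^ k

lemma lam_zero : lam ζ 0 = 0 := by simp [lam]

lemma lam_one : lam ζ 1 = 1 := by simp [lam]

lemma lam_add (a b : ℕ) : lam ζ (a + b) = lam ζ a + ζ ^ a * lam ζ b := by
  unfold lam
  rw [Finset.sum_range_add, Finset.mul_sum]
  congr 1
  apply Finset.sum_congr rfl
  intro k _
  rw [pow_add]

lemma lam_mul (a b : ℕ) : lam ζ (a * b) = lam ζ a * ∑ j ∈ Finset.range b, (ζ ^ a) ^ j := by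
  induction b with
  | zero => simp [lam]
  | succ b ih =>
    rw [Nat.mul_succ, lam_add, ih, Finset.sum_range_succ, mul_add, pow_mul]
    ring

variable {p : ℕ} (hζ : lam ζ p = 0)

include hζ

lemma zeta_pow : ζ ^ p = 1 := by
  have h := geom_sum_mul ζ p
  unfold lam at hζ
  rw [hζ, zero_mul] at h
  exact (sub_eq_zero.mp h.symm)

lemma lam_add_p (a : ℕ) : lam ζ (a + p) = lam ζ a := by
  rw [lam_add, hζ, mul_zero, add_zero]

lemma lam_add_mul_p (a k : ℕ) : lam ζ (a + k * p) = lam ζ a := by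
  induction k with
  | zero => simp
  | succ k ih => rw [Nat.succ_mul, ← add_assoc, lam_add_p ζ hζ, ih]

lemma lam_mod (a : ℕ) : lam ζ (a % p) = lam ζ a := by
  conv_rhs => rw [← Nat.mod_add_div a p]
  rw [mul_comm, lam_add_mul_p ζ hζ]

lemma isUnit_zeta (hp : 1 < p) : IsUnit ζ := by
  have h := zeta_pow ζ hζ
  obtain ⟨k, rfl⟩ : ∃ k, p = k + 1 := ⟨p - 1, by omega⟩
  rw [pow_succ] at h
  exact IsUnit.of_mul_eq_one _ (by rw [mul_comm]; exact h)

lemma isUnit_lam (hp : 1 < p) (a : ℕ) (ha : Nat.Coprime a p) : IsUnit (lam ζ a) := by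
  obtain ⟨b, -, hb⟩ := Nat.exists_mul_mod_eq_one_of_coprime ha hp
  have h1 : lam ζ (a * b) = 1 := by
    rw [← lam_mod ζ hζ, hb, lam_one]
  rw [lam_mul] at h1
  exact IsUnit.of_mul_eq_one _ h1

variable [Fact p.Prime]

omit hζ in
/-- the separated tuple indexed by `ZMod p`. -/
def lamZ (m : ZMod p) : R := lam ζ m.val

omit hζ in
/-- the character. -/
def chi (m : ZMod p) : R := ζ ^ m.val

lemma lamZ_add (m d : ZMod p) : lamZ ζ (m + d) = lamZ ζ d + chi ζ d * lamZ ζ m := by
  unfold lamZ chi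
  rw [ZMod.val_add, lam_mod ζ hζ, add_comm m.val d.val, lam_add]

lemma isUnit_chi (d : ZMod p) : IsUnit (chi ζ d) :=
  (isUnit_zeta ζ hζ (Fact.out : p.Prime).one_lt).pow _

lemma chi_pow_p (d : ZMod p) : chi ζ d ^ p = 1 := by
  unfold chi
  rw [← pow_mul, mul_comm, pow_mul, zeta_pow ζ hζ, one_pow]

lemma isUnit_lamZ_sub {m m' : ZMod p} (h : m ≠ m') : IsUnit (lamZ ζ m - lamZ ζ m') := by
  have hp : p.Prime := Fact.out
  have h1 : lamZ ζ m = lamZ ζ m' + chi ζ m' * lamZ ζ (m - m') := by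
    rw [← lamZ_add ζ hζ, sub_add_cancel]
  rw [h1, add_sub_cancel_left]
  refine (isUnit_chi ζ hζ m').mul ?_
  unfold lamZ
  apply isUnit_lam ζ hζ hp.one_lt
  have hne : (m - m').val ≠ 0 := by
    rw [Ne, ZMod.val_eq_zero, sub_eq_zero]; exact h
  have hlt := ZMod.val_lt (m - m')
  exact ((Nat.Prime.coprime_iff_not_dvd hp).2
    (Nat.not_dvd_of_pos_of_lt (Nat.pos_of_ne_zero hne) hlt)).symm

lemma eq_of_lamZ_sub_mem (P : Ideal R) [P.IsPrime] {m m' : ZMod p}
    (h : lamZ ζ m - lamZ ζ m' ∈ P) : m = m' := by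
  by_contra hne
  exact (Ideal.IsPrime.ne_top ‹P.IsPrime›)
    (Ideal.eq_top_of_isUnit_mem _ h (isUnit_lamZ_sub ζ hζ hne))

end Cyc

end Groth.Agent.H2.Aic
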