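import Mathlib

/-! # Functions locally constant on a subset. -/

set_option autoImplicit false
set_option linter.unusedVariables false
set_option linter.unusedSectionVars false

universe u

namespace Groth.Agent.H2.Aic

variable {X : Type*} [TopologicalSpace X] {M : Type*}

/-- `f` is locally constant on the subspace `S`. -/
def LCOn (f : X → M) (S : Set X) : Prop := IsLocallyConstant (fun x : ↥S => f x.1)

lemma LCOn.mono {f : X → M} {S S' : Set X} (hf : LCOn f S) (h : S' ⊆ S) : LCOn f S' := by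
  have h1 : (fun x : ↥S' => f x.1) = (fun x : ↥S => f x.1) ∘ Set.inclusion h := rfl
  unfold LCOn
  rw [h1]
  exact hf.comp_continuous (continuous_inclusion h)

lemma LCOn.congr {f g : X → M} {S : Set X} (hf : LCOn f S) (h : ∀ x ∈ S, f x = g x) :
    LCOn g S := by
  have h1 : (fun x : ↥S => g x.1) = (fun x : ↥S => f x.1) := by
    ext x
    exact (h x.1 x.2).symm
  unfold LCOn
  rw [h1]
  exact hf

lemma LCOn.comp {N : Type*} {f : X → M} {S : Set X} (hf : LCOn f S) (φ : M → N) :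
    LCOn (fun x => φ (f x)) S :=
  IsLocallyConstant.comp hf φ

lemma LCOn.const (m : M) (S : Set X) : LCOn (fun _ : X => m) S :=
  IsLocallyConstant.const m

lemma LCOn.add [Add M] {f g : X → M} {S : Set X} (hf : LCOn f S) (hg : LCOn g S) :
    LCOn (fun x => f x + g x) S :=
  IsLocallyConstant.comp₂ hf hg (· + ·)

lemma LCOn.sub [Sub M] {f g : X → M} {S : Set X} (hf : LCOn f S) (hg : LCOn g S) :
    LCOn (fun x => f x - g x) S :=
  IsLocallyConstant.comp₂ hf hg (· - ·)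

lemma LCOn.of_isEmpty {f : X → M} {S : Set X} (h : S = ∅) : LCOn f S := by
  subst h
  intro s
  have : (fun x : ↥(∅ : Set X) => f x.1) ⁻¹' s = ∅ := by
    ext x
    exact x.2.elim
  rw [this]
  exact isOpen_empty

lemma isLocallyConstant_of_isClosed_fiber [Finite M] {T : Type*} [TopologicalSpace T]
    (f : T → M) (h : ∀ m, IsClosed (f ⁻¹' {m})) : IsLocallyConstant f := by
  rw [IsLocallyConstant.iff_isOpen_fiber]
  intro m
  have h1 : f ⁻¹' {m} = (⋃ m' ∈ {m' : M | m' ≠ m}, f ⁻¹' {m'})ᶜ := by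
    ext x
    simp only [Set.mem_preimage, Set.mem_singleton_iff, Set.mem_compl_iff, Set.mem_iUnion,
      Set.mem_setOf_eq, not_exists]
    constructor
    · intro hx m' hm' hx'
      exact hm' (hx'.symm.trans hx)
    · intro hx
      by_contra hne
      exact hx (f x) hne rfl
  rw [h1, isOpen_compl_iff]
  exact Set.Finite.isClosed_biUnion (Set.toFinite _) (fun m' _ => h m')

/-- criterion: fibres cut out by closed sets. -/
lemma LCOn.of_closed_fibers [Finite M] {f : X → M} {S : Set X}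
    (h : ∀ m, ∃ C : Set X, IsClosed C ∧ ∀ x ∈ S, (f x = m ↔ x ∈ C)) : LCOn f S := by
  apply isLocallyConstant_of_isClosed_fiber
  intro m
  obtain ⟨C, hC, hCm⟩ := h m
  have h1 : (fun x : ↥S => f x.1) ⁻¹' {m} = Subtype.val ⁻¹' C := by
    ext x
    exact hCm x.1 x.2
  rw [h1]
  exact hC.preimage continuous_subtype_val

/-- criterion: fibres cut out by open sets. -/
lemma LCOn.of_open_fibers {f : X → M} {S : Set X}
    (h : ∀ m, ∃ C : Set X, IsOpen C ∧ ∀ x ∈ S, (f x = m ↔ x ∈ C)) : LCOn f S := by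
  unfold LCOn
  rw [IsLocallyConstant.iff_isOpen_fiber]
  intro m
  obtain ⟨C, hC, hCm⟩ := h m
  have h1 : (fun x : ↥S => f x.1) ⁻¹' {m} = Subtype.val ⁻¹' C := by
    ext x
    exact hCm x.1 x.2
  rw [h1]
  exact hC.preimage continuous_subtype_val

lemma LCOn.exists_closed {f : X → M} {S : Set X} (hf : LCOn f S) (m : M) :
    ∃ C : Set X, IsClosed C ∧ ∀ x ∈ S, (f x = m ↔ x ∈ C) := by
  have h1 : IsClosed ((fun x : ↥S => f x.1) ⁻¹' {m}) := (hf.isClopen_fiber m).1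
  obtain ⟨C, hC, hCe⟩ := isClosed_induced_iff.mp h1
  refine ⟨C, hC, fun x hx => ?_⟩
  have h2 : (⟨x, hx⟩ : ↥S) ∈ Subtype.val ⁻¹' C ↔ (⟨x, hx⟩ : ↥S) ∈ (fun x : ↥S => f x.1) ⁻¹' {m} := by
    rw [hCe]
  exact h2.symm

lemma LCOn.exists_open {f : X → M} {S : Set X} (hf : LCOn f S) (m : M) :
    ∃ C : Set X, IsOpen C ∧ ∀ x ∈ S, (f x = m ↔ x ∈ C) := by
  have h1 : IsOpen ((fun x : ↥S => f x.1) ⁻¹' {m}) := (hf.isClopen_fiber m).2
  obtain ⟨C, hC, hCe⟩ := isOpen_induced_iff.mp h1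
  refine ⟨C, hC, fun x hx => ?_⟩
  have h2 : (⟨x, hx⟩ : ↥S) ∈ Subtype.val ⁻¹' C ↔ (⟨x, hx⟩ : ↥S) ∈ (fun x : ↥S => f x.1) ⁻¹' {m} := by
    rw [hCe]
  exact h2.symm

/-- pasting along a closed cover. -/
lemma LCOn.union_closed [Finite M] {f : X → M} {S C₁ C₂ : Set X} (hC₁ : IsClosed C₁)
    (hC₂ : IsClosed C₂) (h₁ : LCOn f (S ∩ C₁)) (h₂ : LCOn f (S ∩ C₂)) (hS : S ⊆ C₁ ∪ C₂) :
    LCOn f S := by
  apply LCOn.of_closed_fibers
  intro m
  obtain ⟨K₁, hK₁, hK₁m⟩ := h₁.exists_closed m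
  obtain ⟨K₂, hK₂, hK₂m⟩ := h₂.exists_closed m
  refine ⟨(K₁ ∩ C₁) ∪ (K₂ ∩ C₂), (hK₁.inter hC₁).union (hK₂.inter hC₂), fun x hx => ?_⟩
  constructor
  · intro hfx
    rcases hS hx with hc | hc
    · exact Or.inl ⟨(hK₁m x ⟨hx, hc⟩).1 hfx, hc⟩
    · exact Or.inr ⟨(hK₂m x ⟨hx, hc⟩).1 hfx, hc⟩
  · rintro (⟨hk, hc⟩ | ⟨hk, hc⟩)
    · exact (hK₁m x ⟨hx, hc⟩).2 hk
    · exact (hK₂m x ⟨hx, hc⟩).2 hk

/-- pasting along an open cover. -/
lemma LCOn.union_open {f : X → M} {S O₁ O₂ : Set X} (hO₁ : IsOpen O₁)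
    (hO₂ : IsOpen O₂) (h₁ : LCOn f (S ∩ O₁)) (h₂ : LCOn f (S ∩ O₂)) (hS : S ⊆ O₁ ∪ O₂) :
    LCOn f S := by
  apply LCOn.of_open_fibers
  intro m
  obtain ⟨K₁, hK₁, hK₁m⟩ := h₁.exists_open m
  obtain ⟨K₂, hK₂, hK₂m⟩ := h₂.exists_open m
  refine ⟨(K₁ ∩ O₁) ∪ (K₂ ∩ O₂), (hK₁.inter hO₁).union (hK₂.inter hO₂), fun x hx => ?_⟩
  constructor
  · intro hfx
    rcases hS hx with hc | hc
    · exact Or.inl ⟨(hK₁m x ⟨hx, hc⟩).1 hfx, hc⟩
    · exact Or.inr ⟨(hK₂m x ⟨hx, hc⟩).1 hfx, hc⟩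
  · rintro (⟨hk, hc⟩ | ⟨hk, hc⟩)
    · exact (hK₁m x ⟨hx, hc⟩).2 hk
    · exact (hK₂m x ⟨hx, hc⟩).2 hk

lemma LCOn.eq_of_isPreconnected {f : X → M} {S : Set X} (hf : LCOn f S) (hS : IsPreconnected S)
    {x y : X} (hx : x ∈ S) (hy : y ∈ S) : f x = f y := by
  have : PreconnectedSpace ↥S := isPreconnected_iff_preconnectedSpace.mp hS
  exact hf.apply_eq_of_preconnectedSpace ⟨x, hx⟩ ⟨y, hy⟩

lemma isPreirreducible_inter_open {Z O : Set X} (hZ : IsPreirreducible Z) (hO : IsOpen O) :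
    IsPreirreducible (O ∩ Z) := by
  intro u v hu hv ⟨x, hx, hxu⟩ ⟨y, hy, hyv⟩
  obtain ⟨z, hz, hzu, hzv⟩ := hZ (u ∩ O) (v ∩ O) (hu.inter hO) (hv.inter hO)
    ⟨x, hx.2, hxu, hx.1⟩ ⟨y, hy.2, hyv, hy.1⟩
  exact ⟨z, ⟨hzu.2, hz⟩, hzu.1, hzv.1⟩

end Groth.Agent.H2.Aic
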