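import Mathlib
import Groth.Prelude.Def_Curves
import Groth.Agent.Lib.Helper2.AicA
import Groth.Agent.Lib.Helper2.AicB

/-! # Closed Mayer–Vietoris for locally constant `ZMod p`-valued functions over an a.i.c. ring. -/

set_option autoImplicit false
set_option linter.unusedVariables false
set_option linter.unusedSectionVars false

universe u

open Polynomial PrimeSpectrum

namespace Groth.Agent.H2.Aic

section Idem

variable {S : Type u} [CommRing S]

lemma idem_eq_zero_of_forall_mem {e : S} (he : IsIdempotentElem e)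
    (h : ∀ J : Ideal S, J.IsPrime → e ∈ J) : e = 0 := by
  have hn : IsNilpotent e := nilpotent_iff_mem_prime.mpr h
  obtain ⟨n, hn⟩ := hn
  cases n with
  | zero =>
    rw [pow_zero] at hn
    calc e = e * 1 := (mul_one e).symm
      _ = 0 := by rw [hn, mul_zero]
  | succ n =>
    rw [he.pow_succ_eq] at hn
    exact hn

lemma eq_of_forall_mul_eq {ι : Type*} [Fintype ι] {A : Type*} [CommRing A] {e : ι → A}
    (hsum : ∑ d, e d = 1) {x y : A} (h : ∀ d, e d * x = e d * y) : x = y := by
  calc x = (∑ d, e d) * x := by rw [hsum, one_mul]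
    _ = ∑ d, e d * x := Finset.sum_mul _ _ _
    _ = ∑ d, e d * y := Finset.sum_congr rfl (fun d _ => h d)
    _ = (∑ d, e d) * y := (Finset.sum_mul _ _ _).symm
    _ = y := by rw [hsum, one_mul]

lemma idem_mul_prod_congr {A : Type*} [CommRing A] {e : A} (he : IsIdempotentElem e)
    {κ : Type*} (s : Finset κ) (f g : κ → A) (h : ∀ k ∈ s, e * f k = e * g k) :
    e * ∏ k ∈ s, f k = e * ∏ k ∈ s, g k := by
  classical
  induction s using Finset.induction_on with
  | empty => simp
  | insert a s ha ih =>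
    rw [Finset.prod_insert ha, Finset.prod_insert ha]
    have h1 : e * (f a * ∏ k ∈ s, f k) = (e * f a) * (e * ∏ k ∈ s, f k) := by
      rw [mul_mul_mul_comm, he.eq]
    have h2 : e * (g a * ∏ k ∈ s, g k) = (e * g a) * (e * ∏ k ∈ s, g k) := by
      rw [mul_mul_mul_comm, he.eq]
    rw [h1, h2, h _ (Finset.mem_insert_self a s),
      ih (fun k hk => h k (Finset.mem_insert_of_mem hk))]

/-- a finite-valued locally constant function on a prime spectrum gives complete orthogonal
idempotents. -/
lemma exists_idem {ι : Type*} [Fintype ι] (f : PrimeSpectrum S → ι) (hf : IsLocallyConstant f) :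
    ∃ e : ι → S, (∀ d, IsIdempotentElem (e d)) ∧ (∀ d d', d ≠ d' → e d * e d' = 0) ∧
      (∑ d, e d = 1) ∧ ∀ d (y : PrimeSpectrum S), f y = d ↔ e d ∉ y.asIdeal := by
  classical
  have h1 : ∀ d, ∃ e : S, IsIdempotentElem e ∧
      f ⁻¹' {d} = (basicOpen e : Set (PrimeSpectrum S)) :=
    fun d => isClopen_iff.mp (hf.isClopen_fiber d)
  choose e he hbe using h1
  have hmem : ∀ d (y : PrimeSpectrum S), f y = d ↔ e d ∉ y.asIdeal := by
    intro d y
    have h2 : y ∈ f ⁻¹' {d} ↔ y ∈ (basicOpen (e d) : Set (PrimeSpectrum S)) := by rw [hbe d]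
    exact h2
  have hortho : ∀ d d', d ≠ d' → e d * e d' = 0 := by
    intro d d' hne
    have hid : IsIdempotentElem (e d * e d') := by
      unfold IsIdempotentElem
      rw [mul_mul_mul_comm, (he d).eq, (he d').eq]
    apply idem_eq_zero_of_forall_mem hid
    intro J hJ
    by_contra hnot
    have h1 : e d ∉ J := fun h => hnot (J.mul_mem_right _ h)
    have h2 : e d' ∉ J := fun h => hnot (J.mul_mem_left _ h)
    have h3 := (hmem d ⟨J, hJ⟩).2 h1
    have h4 := (hmem d' ⟨J, hJ⟩).2 h2
    exact hne (h3.symm.trans h4)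
  have hsum : ∑ d, e d = 1 := by
    have hidem : IsIdempotentElem (∑ d, e d) := by
      unfold IsIdempotentElem
      rw [Finset.sum_mul_sum]
      apply Finset.sum_congr rfl
      intro d _
      rw [Finset.sum_eq_single d]
      · exact he d
      · intro d' _ hne
        exact hortho d d' hne.symm
      · intro h
        exact absurd (Finset.mem_univ d) h
    have h0 : 1 - ∑ d, e d = 0 := by
      apply idem_eq_zero_of_forall_mem hidem.one_sub
      intro J hJ
      have hd : e (f ⟨J, hJ⟩) ∉ J := (hmem (f ⟨J, hJ⟩) ⟨J, hJ⟩).1 rfl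
      have h1 : 1 - e (f ⟨J, hJ⟩) ∈ J := by
        have h2 : e (f ⟨J, hJ⟩) * (1 - e (f ⟨J, hJ⟩)) ∈ J := by
          rw [mul_sub, mul_one, (he (f ⟨J, hJ⟩)).eq, sub_self]
          exact J.zero_mem
        exact (hJ.mem_or_mem h2).resolve_left hd
      have h2 : ∑ d, e d = e (f ⟨J, hJ⟩) + ∑ d ∈ Finset.univ.erase (f ⟨J, hJ⟩), e d :=
        (Finset.add_sum_erase _ _ (Finset.mem_univ _)).symm
      rw [h2, ← sub_sub]
      refine J.sub_mem h1 (J.sum_mem ?_)
      intro d hd'
      have hne : d ≠ f ⟨J, hJ⟩ := Finset.ne_of_mem_erase hd'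
      by_contra hnot
      exact hne ((hmem d ⟨J, hJ⟩).2 hnot).symm
    exact (sub_eq_zero.mp h0).symm
  exact ⟨e, he, hortho, hsum, hmem⟩

end Idem

end Groth.Agent.H2.Aic
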