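import Mathlib
import Groth.Prelude.Def_Curves
import Groth.Agent.Lib.Helper2.AicC

/-! # Closed Mayer–Vietoris for locally constant `ZMod p`-valued functions over an a.i.c. ring. -/

set_option autoImplicit false
set_option linter.unusedVariables false
set_option linter.unusedSectionVars false

universe u

open Polynomial PrimeSpectrum

namespace Groth.Agent.H2.Aic

set_option maxHeartbeats 1600000 in
/-- **closed Mayer–Vietoris**: over an a.i.c. ring, a locally constant `ZMod p`-valued function on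
`V(I) ∩ V(I')` is a difference of locally constant functions on `V(I)` and `V(I')`. -/
theorem cmv {R : Type u} [CommRing R] (hR : Curves.IsAIC R) (p : ℕ) [Fact p.Prime]
    (I I' : Ideal R) (hI' : I'.IsRadical) (δ : PrimeSpectrum R → ZMod p)
    (hδ : LCOn δ (zeroLocus ((I ⊔ I' : Ideal R) : Set R))) :
    ∃ δ₁ δ₂ : PrimeSpectrum R → ZMod p, LCOn δ₁ (zeroLocus (I : Set R)) ∧
      LCOn δ₂ (zeroLocus (I' : Set R)) ∧
      ∀ x ∈ zeroLocus ((I ⊔ I' : Ideal R) : Set R), δ x = δ₂ x - δ₁ x := by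
  classical
  have hp : p.Prime := Fact.out
  haveI : NeZero p := ⟨hp.ne_zero⟩
  rcases subsingleton_or_nontrivial R with hsub | hnt
  · refine ⟨fun _ => 0, fun _ => 0, LCOn.const _ _, LCOn.const _ _, fun x => ?_⟩
    exact absurd (Subsingleton.elim (1 : R) 0 ▸ x.asIdeal.zero_mem :
      (1 : R) ∈ x.asIdeal) (x.asIdeal.ne_top_iff_one.mp x.isPrime.ne_top)
  -- the root of unity
  obtain ⟨ζ, hζ0⟩ := hR (cyclotomic p R) (cyclotomic.monic p R) (by
    rw [natDegree_cyclotomic, Nat.totient_prime hp]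
    have := hp.two_le
    omega)
  have hζ : lam ζ p = 0 := by
    rw [cyclotomic_prime, eval_finsetSum] at hζ0
    simpa [lam] using hζ0
  -- the quotient
  obtain ⟨K, hK⟩ : ∃ K : Ideal R, K = I ⊔ I' := ⟨_, rfl⟩
  rw [← hK] at hδ ⊢
  have hIK : I ≤ K := hK ▸ le_sup_left
  have hI'K : I' ≤ K := hK ▸ le_sup_right
  have hmk : Function.Surjective (Ideal.Quotient.mk K) := Ideal.Quotient.mk_surjective
  have hrange : Set.range (comap (Ideal.Quotient.mk K)) = zeroLocus (K : Set R) := by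
    rw [range_comap_of_surjective (R ⧸ K) (Ideal.Quotient.mk K) hmk, Ideal.mk_ker]
  have hφmem : ∀ y : PrimeSpectrum (R ⧸ K), comap (Ideal.Quotient.mk K) y ∈ zeroLocus (K : Set R) := by
    intro y
    rw [← hrange]
    exact ⟨y, rfl⟩
  have hφsurj : ∀ x ∈ zeroLocus (K : Set R), ∃ y, comap (Ideal.Quotient.mk K) y = x := by
    intro x hx
    rw [← hrange] at hx
    exact hx
  have hδ' : IsLocallyConstant (fun y : PrimeSpectrum (R ⧸ K) => δ (comap (Ideal.Quotient.mk K) y)) := by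
    have h1 : (fun y : PrimeSpectrum (R ⧸ K) => δ (comap (Ideal.Quotient.mk K) y)) =
        (fun x : ↥(zeroLocus (K : Set R)) => δ x.1) ∘
          (fun y => ⟨comap (Ideal.Quotient.mk K) y, hφmem y⟩) := rfl
    rw [h1]
    exact hδ.comp_continuous ((continuous_comap _).subtype_mk _)
  obtain ⟨e, he, hortho, hsum, hmem⟩ := exists_idem _ hδ'
  have hep : ∀ d, e d ^ p = e d := fun d => by
    have h := (he d).pow_succ_eq (p - 1)
    rwa [Nat.sub_add_cancel hp.one_le] at h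
  -- the twisting elements
  obtain ⟨w, hw⟩ : ∃ w : R ⧸ K, w = ∑ d, e d * Ideal.Quotient.mk K (chi ζ d) := ⟨_, rfl⟩
  obtain ⟨bb, hbb⟩ : ∃ bb : R ⧸ K, bb = ∑ d, e d * Ideal.Quotient.mk K (lamZ ζ d) := ⟨_, rfl⟩
  have hew : ∀ d, e d * w = e d * Ideal.Quotient.mk K (chi ζ d) := by
    intro d
    rw [hw, Finset.mul_sum, Finset.sum_eq_single d]
    · rw [← mul_assoc, (he d).eq]
    · intro d' _ hne
      rw [← mul_assoc, hortho d d' hne.symm, zero_mul]
    · intro h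
      exact absurd (Finset.mem_univ d) h
  have hebb : ∀ d, e d * bb = e d * Ideal.Quotient.mk K (lamZ ζ d) := by
    intro d
    rw [hbb, Finset.mul_sum, Finset.sum_eq_single d]
    · rw [← mul_assoc, (he d).eq]
    · intro d' _ hne
      rw [← mul_assoc, hortho d d' hne.symm, zero_mul]
    · intro h
      exact absurd (Finset.mem_univ d) h
  have hwp : w ^ p = 1 := by
    apply eq_of_forall_mul_eq hsum
    intro d
    rw [mul_one]
    calc e d * w ^ p = (e d) ^ p * w ^ p := by rw [hep]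
      _ = (e d * w) ^ p := (mul_pow _ _ _).symm
      _ = (e d * Ideal.Quotient.mk K (chi ζ d)) ^ p := by rw [hew]
      _ = e d ^ p * Ideal.Quotient.mk K (chi ζ d ^ p) := by rw [mul_pow, map_pow]
      _ = e d := by rw [hep, chi_pow_p ζ hζ, map_one, mul_one]
  obtain ⟨w₀, hw₀⟩ := hmk w
  obtain ⟨β₀, hβ₀⟩ := hmk bb
  have h1K : w₀ ^ p - 1 ∈ K := by
    rw [← Ideal.Quotient.eq_zero_iff_mem, map_sub, map_pow, map_one, hw₀, hwp, sub_self]
  rw [hK] at h1K
  obtain ⟨i, hi, i', hi', hii'⟩ := Submodule.mem_sup.mp h1K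
  -- the unit lift `w₁`
  have hXm : ((X - C w₀ : R[X]) ^ p).Monic := (monic_X_sub_C w₀).pow p
  have hXd : ((X - C w₀ : R[X]) ^ p).natDegree = p := by
    rw [(monic_X_sub_C w₀).natDegree_pow, natDegree_X_sub_C, mul_one]
  have hGm : ((X - C w₀ : R[X]) ^ p - C ((-1) ^ p * i')).Monic := by
    apply Monic.sub_of_left hXm
    rw [degree_eq_natDegree hXm.ne_zero, hXd]
    exact lt_of_le_of_lt degree_C_le (by exact_mod_cast hp.pos)
  have hGd : ((X - C w₀ : R[X]) ^ p - C ((-1) ^ p * i')).natDegree = p := by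
    rw [natDegree_sub_eq_left_of_natDegree_lt (by rw [natDegree_C, hXd]; exact hp.pos), hXd]
  obtain ⟨w₁, hw₁⟩ := hR _ hGm (by rw [hGd]; exact hp.pos)
  simp only [eval_sub, eval_pow, eval_X, eval_C] at hw₁
  have hroot : (w₀ - w₁) ^ p = i' := by
    have h1 : (w₁ - w₀) ^ p = (-1) ^ p * i' := sub_eq_zero.mp hw₁
    have h2 : (w₀ - w₁) ^ p = (-1) ^ p * (w₁ - w₀) ^ p := by
      rw [← neg_sub w₁ w₀, neg_pow]
    rw [h2, h1, ← mul_assoc, ← mul_pow]
    simp
  have hdiff : w₀ - w₁ ∈ I' := hI' (Ideal.mem_radical_iff.mpr ⟨p, by rw [hroot]; exact hi'⟩)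
  have hw₁unit : ∀ P : Ideal R, P.IsPrime → I ≤ P → w₁ ∉ P := by
    intro P hP hIP hmemP
    have h1 : (w₀ - w₁) ^ p - w₀ ^ p ∈ P := by
      have hdvd : (w₀ - w₁) - w₀ ∣ (w₀ - w₁) ^ p - w₀ ^ p := sub_dvd_pow_sub_pow _ _ _
      have h2 : (w₀ - w₁) - w₀ = -w₁ := by ring
      rw [h2] at hdvd
      exact Ideal.mem_of_dvd P hdvd (P.neg_mem hmemP)
    rw [hroot] at h1
    have h3 : (1 : R) = -(i' - w₀ ^ p) - i := by
      have : w₀ ^ p = 1 + (i + i') := by rw [hii']; ring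
      rw [this]; ring
    apply hP.ne_top
    rw [Ideal.eq_top_iff_one, h3]
    exact P.sub_mem (P.neg_mem h1) (hIP hi)
  have hπw₁ : Ideal.Quotient.mk K w₁ = w := by
    rw [← hw₀]
    exact (Ideal.Quotient.eq.mpr (hI'K hdiff)).symm
  -- the polynomials
  obtain ⟨μ, hμ⟩ : ∃ μ : ZMod p → R, μ = fun m => w₁ * lamZ ζ m + β₀ := ⟨_, rfl⟩
  have hμm : ∀ m, μ m = w₁ * lamZ ζ m + β₀ := fun m => by rw [hμ]
  obtain ⟨F₁, hF₁⟩ : ∃ F₁ : R[X], F₁ = ∏ m : ZMod p, (X - C (μ m)) := ⟨_, rfl⟩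
  obtain ⟨Λ, hΛ⟩ : ∃ Λ : R[X], Λ = ∏ m : ZMod p, (X - C (lamZ ζ m)) := ⟨_, rfl⟩
  have hF₁m : F₁.Monic := by
    rw [hF₁]; exact monic_prod_of_monic _ _ (fun m _ => monic_X_sub_C _)
  have hΛm : Λ.Monic := by
    rw [hΛ]; exact monic_prod_of_monic _ _ (fun m _ => monic_X_sub_C _)
  have hF₁d : F₁.natDegree = p := by
    rw [hF₁, natDegree_finsetProd_X_sub_C_eq_card, Finset.card_univ, ZMod.card]
  have hΛd : Λ.natDegree = p := by
    rw [hΛ, natDegree_finsetProd_X_sub_C_eq_card, Finset.card_univ, ZMod.card]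
  have hmap : F₁.map (Ideal.Quotient.mk K) = Λ.map (Ideal.Quotient.mk K) := by
    rw [hF₁, hΛ, Polynomial.map_prod, Polynomial.map_prod]
    simp only [Polynomial.map_sub, map_X, map_C]
    have hsumC : ∑ d, C (e d) = (1 : (R ⧸ K)[X]) := by rw [← map_sum, hsum, map_one]
    apply eq_of_forall_mul_eq hsumC
    intro d
    have hCe : IsIdempotentElem (C (e d) : (R ⧸ K)[X]) := by
      unfold IsIdempotentElem
      rw [← C_mul, (he d).eq]
    rw [idem_mul_prod_congr hCe Finset.univ _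
      (fun m => X - C (Ideal.Quotient.mk K (lamZ ζ (m + d)))) ?_]
    · congr 1
      exact Equiv.prod_comp (Equiv.addRight d) (fun m => X - C (Ideal.Quotient.mk K (lamZ ζ m)))
    · intro m _
      rw [mul_sub, mul_sub, ← C_mul, ← C_mul]
      congr 2
      rw [hμm]
      simp only [map_add, map_mul]
      rw [hπw₁, hβ₀, mul_add, ← mul_assoc, hew, hebb, lamZ_add ζ hζ, map_add, map_mul]
      ring
  have hcoef : ∀ n, (F₁ - Λ).coeff n ∈ I ⊔ I' := by
    intro n
    rw [← hK, ← Ideal.Quotient.eq_zero_iff_mem, ← coeff_map, Polynomial.map_sub, hmap, sub_self,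
      coeff_zero]
  choose ci hci ci' hci' hcc using fun n => Submodule.mem_sup.mp (hcoef n)
  obtain ⟨A', hA'⟩ : ∃ A' : R[X], A' = ∑ n ∈ Finset.range p, monomial n (ci' n) := ⟨_, rfl⟩
  have hA'deg : A'.degree < Λ.degree := by
    rw [degree_eq_natDegree hΛm.ne_zero, hΛd, hA']
    refine lt_of_le_of_lt (degree_sum_le _ _) ((Finset.sup_lt_iff (WithBot.bot_lt_coe p)).mpr ?_)
    intro n hn
    exact lt_of_le_of_lt (degree_monomial_le n _) (WithBot.coe_lt_coe.mpr (Finset.mem_range.mp hn))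
  have hFm : (Λ + A').Monic := hΛm.add_of_left hA'deg
  have hFd : (Λ + A').natDegree = p := by
    rw [natDegree_add_eq_left_of_degree_lt hA'deg, hΛd]
  obtain ⟨r, hr⟩ := hR _ hFm (by rw [hFd]; exact hp.pos)
  have hevalA' : eval r A' = ∑ n ∈ Finset.range p, ci' n * r ^ n := by
    rw [hA', eval_finsetSum]
    apply Finset.sum_congr rfl
    intro n _
    rw [eval_monomial]
  have hevalΛ : eval r Λ = -(∑ n ∈ Finset.range p, ci' n * r ^ n) := by
    rw [eval_add, hevalA'] at hr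
    exact eq_neg_of_add_eq_zero_left hr
  have hX₂ : ∀ P : Ideal R, I' ≤ P → eval r Λ ∈ P := by
    intro P hIP
    rw [hevalΛ]
    exact P.neg_mem (P.sum_mem (fun n _ => P.mul_mem_right _ (hIP (hci' n))))
  have hlt : (F₁ - Λ).natDegree < p := by
    by_cases h0 : F₁ - Λ = 0
    · rw [h0, natDegree_zero]; exact hp.pos
    · have h1 := natDegree_lt_natDegree h0 (degree_sub_lt_left (by
        rw [degree_eq_natDegree hF₁m.ne_zero, degree_eq_natDegree hΛm.ne_zero, hF₁d, hΛd])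
        hF₁m.ne_zero (by rw [hF₁m.leadingCoeff, hΛm.leadingCoeff]))
      rwa [hF₁d] at h1
  have hX₁ : ∀ P : Ideal R, I ≤ P → eval r F₁ ∈ P := by
    intro P hIP
    have h1 : F₁ = (F₁ - Λ) + Λ := by ring
    have h2 : eval r (F₁ - Λ) = ∑ n ∈ Finset.range p, (ci n + ci' n) * r ^ n := by
      conv_lhs => rw [as_sum_range' (F₁ - Λ) p hlt]
      rw [eval_finsetSum]
      apply Finset.sum_congr rfl
      intro n _
      rw [eval_monomial, hcc n]
    have h3 : eval r F₁ = ∑ n ∈ Finset.range p, ci n * r ^ n := by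
      rw [h1, eval_add, h2, hevalΛ]
      simp only [add_mul, Finset.sum_add_distrib]
      ring
    rw [h3]
    exact P.sum_mem (fun n _ => P.mul_mem_right _ (hIP (hci n)))
  -- the two functions
  let δ₂ : PrimeSpectrum R → ZMod p := fun x =>
    if h : ∃ m, r - lamZ ζ m ∈ x.asIdeal then h.choose else 0
  let δ₁ : PrimeSpectrum R → ZMod p := fun x =>
    if h : ∃ m, r - μ m ∈ x.asIdeal then h.choose else 0
  have hδ₂u : ∀ (x : PrimeSpectrum R) (m : ZMod p), r - lamZ ζ m ∈ x.asIdeal → δ₂ x = m := by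
    intro x m hm
    have hex : ∃ m, r - lamZ ζ m ∈ x.asIdeal := ⟨m, hm⟩
    have hch := hex.choose_spec
    have h1 : δ₂ x = hex.choose := dif_pos hex
    rw [h1]
    apply eq_of_lamZ_sub_mem ζ hζ x.asIdeal
    have h2 : lamZ ζ hex.choose - lamZ ζ m = (r - lamZ ζ m) - (r - lamZ ζ hex.choose) := by ring
    rw [h2]
    exact x.asIdeal.sub_mem hm hch
  have hδ₂e : ∀ x ∈ zeroLocus (I' : Set R), r - lamZ ζ (δ₂ x) ∈ x.asIdeal := by
    intro x hx
    have hIP : I' ≤ x.asIdeal := (mem_zeroLocus _ _).mp hx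
    have h1 : eval r Λ ∈ x.asIdeal := hX₂ x.asIdeal hIP
    rw [hΛ, eval_prod] at h1
    simp only [eval_sub, eval_X, eval_C] at h1
    obtain ⟨m, -, hm⟩ := (Ideal.IsPrime.prod_mem_iff).mp h1
    rw [hδ₂u x m hm]
    exact hm
  have hδ₁u : ∀ x ∈ zeroLocus (I : Set R), ∀ m : ZMod p, r - μ m ∈ x.asIdeal → δ₁ x = m := by
    intro x hx m hm
    have hIP : I ≤ x.asIdeal := (mem_zeroLocus _ _).mp hx
    have hex : ∃ m, r - μ m ∈ x.asIdeal := ⟨m, hm⟩
    have hch := hex.choose_spec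
    have h1 : δ₁ x = hex.choose := dif_pos hex
    rw [h1]
    have h2 : w₁ * (lamZ ζ hex.choose - lamZ ζ m) ∈ x.asIdeal := by
      have h3 : w₁ * (lamZ ζ hex.choose - lamZ ζ m) = (r - μ m) - (r - μ hex.choose) := by
        rw [hμm m, hμm hex.choose]; ring
      rw [h3]
      exact x.asIdeal.sub_mem hm hch
    exact eq_of_lamZ_sub_mem ζ hζ x.asIdeal
      ((x.isPrime.mem_or_mem h2).resolve_left (hw₁unit _ x.isPrime hIP))
  have hδ₁e : ∀ x ∈ zeroLocus (I : Set R), r - μ (δ₁ x) ∈ x.asIdeal := by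
    intro x hx
    have hIP : I ≤ x.asIdeal := (mem_zeroLocus _ _).mp hx
    have h1 : eval r F₁ ∈ x.asIdeal := hX₁ x.asIdeal hIP
    rw [hF₁, eval_prod] at h1
    simp only [eval_sub, eval_X, eval_C] at h1
    obtain ⟨m, -, hm⟩ := (Ideal.IsPrime.prod_mem_iff).mp h1
    rw [hδ₁u x hx m hm]
    exact hm
  have hL₂ : LCOn δ₂ (zeroLocus (I' : Set R)) := by
    apply LCOn.of_closed_fibers
    intro m
    refine ⟨zeroLocus {r - lamZ ζ m}, isClosed_zeroLocus _, fun x hx => ?_⟩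
    rw [mem_zeroLocus, Set.singleton_subset_iff]
    constructor
    · intro h
      rw [← h]
      exact hδ₂e x hx
    · intro h
      exact hδ₂u x m h
  have hL₁ : LCOn δ₁ (zeroLocus (I : Set R)) := by
    apply LCOn.of_closed_fibers
    intro m
    refine ⟨zeroLocus {r - μ m}, isClosed_zeroLocus _, fun x hx => ?_⟩
    rw [mem_zeroLocus, Set.singleton_subset_iff]
    constructor
    · intro h
      rw [← h]
      exact hδ₁e x hx
    · intro h
      exact hδ₁u x hx m h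
  refine ⟨δ₁, δ₂, hL₁, hL₂, ?_⟩
  intro x hx
  have hKx : K ≤ x.asIdeal := (mem_zeroLocus _ _).mp hx
  have hIx : I ≤ x.asIdeal := hIK.trans hKx
  have hI'x : I' ≤ x.asIdeal := hI'K.trans hKx
  obtain ⟨y, hy⟩ := hφsurj x hx
  have hed : e (δ x) ∉ y.asIdeal := (hmem (δ x) y).1 (by rw [hy])
  have hxy : ∀ a : R, Ideal.Quotient.mk K a ∈ y.asIdeal ↔ a ∈ x.asIdeal := by
    intro a
    rw [← hy]
    exact Iff.rfl
  have hw0 : w₀ - chi ζ (δ x) ∈ x.asIdeal := by
    rw [← hxy, map_sub, hw₀]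
    have h1 : e (δ x) * (w - Ideal.Quotient.mk K (chi ζ (δ x))) = 0 := by
      rw [mul_sub, hew, sub_self]
    exact (y.isPrime.mem_or_mem (h1 ▸ y.asIdeal.zero_mem)).resolve_left hed
  have hb0 : β₀ - lamZ ζ (δ x) ∈ x.asIdeal := by
    rw [← hxy, map_sub, hβ₀]
    have h1 : e (δ x) * (bb - Ideal.Quotient.mk K (lamZ ζ (δ x))) = 0 := by
      rw [mul_sub, hebb, sub_self]
    exact (y.isPrime.mem_or_mem (h1 ▸ y.asIdeal.zero_mem)).resolve_left hed
  have hm₁ := hδ₁e x ((mem_zeroLocus _ _).mpr hIx)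
  have key : r - lamZ ζ (δ₁ x + δ x) ∈ x.asIdeal := by
    rw [lamZ_add ζ hζ]
    have h1 : r - (lamZ ζ (δ x) + chi ζ (δ x) * lamZ ζ (δ₁ x)) =
        (r - μ (δ₁ x)) + ((w₀ - chi ζ (δ x)) - (w₀ - w₁)) * lamZ ζ (δ₁ x) +
          (β₀ - lamZ ζ (δ x)) := by
      rw [hμm]; ring
    rw [h1]
    exact add_mem (add_mem hm₁ (Ideal.mul_mem_right _ _
      (sub_mem hw0 (hI'x hdiff)))) hb0
  have h2 := hδ₂u x _ key
  rw [h2]
  ring

end Groth.Agent.H2.Aic
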