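import Mathlib
import Groth.Prelude.Def_Curves
import Groth.Agent.Lib.Helper2.AicD

/-! # Splitting cocycles of `ZMod p`-valued locally constant functions over an a.i.c. ring. -/

set_option autoImplicit false
set_option linter.unusedVariables false
set_option linter.unusedSectionVars false

universe u

open PrimeSpectrum

namespace Groth.Agent.H2.Aic

variable {R : Type u} [CommRing R]

/-- compact open representatives for the fibres of a function that is locally constant on a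
closed subset of a compact open set. -/
lemma exists_compact_open {Q C : Set (PrimeSpectrum R)} (hQo : IsOpen Q) (hQc : IsCompact Q)
    (hC : IsClosed C) {N : Type*} (a : PrimeSpectrum R → N) (ha : LCOn a (Q ∩ C)) (m : N) :
    ∃ O : Set (PrimeSpectrum R), IsOpen O ∧ IsCompact O ∧ O ⊆ Q ∧
      ∀ x ∈ C, (x ∈ O ↔ x ∈ Q ∧ a x = m) := by
  obtain ⟨G, hG, hGm⟩ := ha.exists_open m
  obtain ⟨F, hF, hFm⟩ := ha.exists_closed m
  have hAc : IsCompact (Q ∩ (C ∩ F)) := hQc.inter_right (hC.inter hF)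
  have hcov : ∀ x ∈ Q ∩ (C ∩ F), ∃ f : R, x ∈ (basicOpen f : Set (PrimeSpectrum R)) ∧
      (basicOpen f : Set (PrimeSpectrum R)) ⊆ G ∩ Q := by
    intro x hx
    have hxA : a x = m := (hFm x ⟨hx.1, hx.2.1⟩).2 hx.2.2
    have hxG : x ∈ G := (hGm x ⟨hx.1, hx.2.1⟩).1 hxA
    obtain ⟨_, ⟨f, rfl⟩, hxf, hfs⟩ := isTopologicalBasis_basic_opens.exists_subset_of_mem_open
      (show x ∈ G ∩ Q from ⟨hxG, hx.1⟩) (hG.inter hQo)
    exact ⟨f, hxf, hfs⟩
  choose! f hf1 hf2 using hcov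
  obtain ⟨t, ht1, ht2⟩ := hAc.elim_nhds_subcover
    (fun x => (basicOpen (f x) : Set (PrimeSpectrum R)))
    (fun x hx => (basicOpen (f x)).2.mem_nhds (hf1 x hx))
  refine ⟨⋃ x ∈ t, (basicOpen (f x) : Set (PrimeSpectrum R)),
    isOpen_biUnion (fun x _ => (basicOpen (f x)).2),
    t.isCompact_biUnion (fun x _ => isCompact_basicOpen (f x)), ?_, ?_⟩
  · intro y hy
    simp only [Set.mem_iUnion] at hy
    obtain ⟨x, hxt, hyx⟩ := hy
    exact (hf2 x (ht1 x hxt) hyx).2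
  · intro y hyC
    constructor
    · intro hy
      simp only [Set.mem_iUnion] at hy
      obtain ⟨x, hxt, hyx⟩ := hy
      have h1 := hf2 x (ht1 x hxt) hyx
      exact ⟨h1.2, (hGm y ⟨h1.2, hyC⟩).2 h1.1⟩
    · rintro ⟨hyQ, hya⟩
      exact ht2 ⟨hyQ, hyC, (hFm y ⟨hyQ, hyC⟩).1 hya⟩

/-- a compact set missing `V(sSup c)` misses `V(J)` for some member of the chain. -/
lemma exists_mem_chain_disjoint {c : Set (Ideal R)} (hc : IsChain (· ≤ ·) c) (hne : c.Nonempty)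
    {E : Set (PrimeSpectrum R)} (hE : IsCompact E)
    (h : E ∩ zeroLocus ((sSup c : Ideal R) : Set R) = ∅) :
    ∃ J ∈ c, E ∩ zeroLocus (J : Set R) = ∅ := by
  haveI : Nonempty ↥c := hne.to_subtype
  have hdir : Directed (· ⊆ ·) (fun J : ↥c => (zeroLocus ((J.1 : Ideal R) : Set R))ᶜ) := by
    intro J₁ J₂
    rcases hc.total J₁.2 J₂.2 with h12 | h21
    · exact ⟨J₂, Set.compl_subset_compl.mpr (zeroLocus_anti_mono_ideal h12), subset_rfl⟩
    · exact ⟨J₁, subset_rfl, Set.compl_subset_compl.mpr (zeroLocus_anti_mono_ideal h21)⟩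
  have hcov : E ⊆ ⋃ J : ↥c, (zeroLocus ((J.1 : Ideal R) : Set R))ᶜ := by
    intro x hxE
    by_contra hx
    simp only [Set.mem_iUnion, Set.mem_compl_iff, not_exists, not_not] at hx
    have hle : sSup c ≤ x.asIdeal := sSup_le (fun J hJ => (mem_zeroLocus _ _).mp (hx ⟨J, hJ⟩))
    have h2 : x ∈ zeroLocus ((sSup c : Ideal R) : Set R) := (mem_zeroLocus _ _).mpr hle
    exact (Set.eq_empty_iff_forall_notMem.mp h x) ⟨hxE, h2⟩
  obtain ⟨J, hJ⟩ := hE.elim_directed_cover _ (fun J => (isClosed_zeroLocus _).isOpen_compl)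
    hcov hdir
  refine ⟨J.1, J.2, ?_⟩
  rw [Set.eq_empty_iff_forall_notMem]
  rintro x ⟨hxE, hxJ⟩
  exact hJ hxE hxJ

section Good

variable (V W : Set (PrimeSpectrum R)) {M : Type*} [AddCommGroup M] (s : PrimeSpectrum R → M)

/-- the cocycle `s` splits over `V(I)`. -/
def Good (I : Ideal R) : Prop :=
  ∃ a b : PrimeSpectrum R → M, LCOn a (V ∩ zeroLocus (I : Set R)) ∧
    LCOn b (W ∩ zeroLocus (I : Set R)) ∧
    ∀ x ∈ V ∩ W ∩ zeroLocus (I : Set R), s x = a x - b x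

variable {V W s}

theorem good_top : Good V W s (⊤ : Ideal R) := by
  have h0 : zeroLocus ((⊤ : Ideal R) : Set R) = ∅ := by
    rw [Submodule.top_coe, zeroLocus_univ]
  refine ⟨fun _ => 0, fun _ => 0, LCOn.of_isEmpty (by rw [h0, Set.inter_empty]),
    LCOn.of_isEmpty (by rw [h0, Set.inter_empty]), ?_⟩
  intro x hx
  rw [h0] at hx
  exact hx.2.elim

theorem good_of_isPrime (hVo : IsOpen V) (hWo : IsOpen W) (hs : LCOn s (V ∩ W))
    (I : Ideal R) [hI : I.IsPrime] : Good V W s I := by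
  have hirr : IsIrreducible (zeroLocus (I : Set R)) :=
    (isIrreducible_zeroLocus_iff_of_radical I hI.isRadical).mpr hI
  have hpre : IsPreconnected (V ∩ W ∩ zeroLocus (I : Set R)) :=
    (isPreirreducible_inter_open hirr.isPreirreducible (hVo.inter hWo)).isPreconnected
  by_cases hne : (V ∩ W ∩ zeroLocus (I : Set R)).Nonempty
  · obtain ⟨x₀, hx₀⟩ := hne
    refine ⟨fun _ => s x₀, fun _ => 0, LCOn.const _ _, LCOn.const _ _, fun x hx => ?_⟩
    rw [sub_zero]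
    exact (hs.mono Set.inter_subset_left).eq_of_isPreconnected hpre hx hx₀
  · exact ⟨fun _ => 0, fun _ => 0, LCOn.const _ _, LCOn.const _ _,
      fun x hx => absurd ⟨x, hx⟩ hne⟩

set_option maxHeartbeats 1600000 in
/-- spreading out along a chain. -/
theorem good_of_good_sSup [Finite M] (hVo : IsOpen V) (hVc : IsCompact V) (hWo : IsOpen W)
    (hWc : IsCompact W) (hs : LCOn s (V ∩ W)) {c : Set (Ideal R)} (hc : IsChain (· ≤ ·) c)
    (hne : c.Nonempty) (h : Good V W s (sSup c)) : ∃ J ∈ c, Good V W s J := by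
  classical
  obtain ⟨a, b, ha, hb, hab⟩ := h
  have hZc : IsClosed (zeroLocus ((sSup c : Ideal R) : Set R)) := isClosed_zeroLocus _
  choose O hOo hOc hOV hOm using fun m => exists_compact_open hVo hVc hZc a ha m
  choose P hPo hPc hPW hPm using fun m => exists_compact_open hWo hWc hZc b hb m
  have hVWo : IsOpen (V ∩ W) := hVo.inter hWo
  have hVWc : IsCompact (V ∩ W) := QuasiSeparatedSpace.inter_isCompact V W hVo hVc hWo hWc
  have hs' : LCOn s ((V ∩ W) ∩ Set.univ) := by rw [Set.inter_univ]; exact hs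
  choose T hTo hTc hTVW hTm using fun d => exists_compact_open hVWo hVWc isClosed_univ s hs' d
  -- the bad set
  obtain ⟨E₁, hE₁⟩ : ∃ E : Set (PrimeSpectrum R), E = V ∩ (⋃ m, O m)ᶜ := ⟨_, rfl⟩
  obtain ⟨E₂, hE₂⟩ : ∃ E : Set (PrimeSpectrum R),
      E = ⋃ (m : M) (m' : M) (_ : m ≠ m'), O m ∩ O m' := ⟨_, rfl⟩
  obtain ⟨E₃, hE₃⟩ : ∃ E : Set (PrimeSpectrum R), E = W ∩ (⋃ m, P m)ᶜ := ⟨_, rfl⟩
  obtain ⟨E₄, hE₄⟩ : ∃ E : Set (PrimeSpectrum R),
      E = ⋃ (m : M) (m' : M) (_ : m ≠ m'), P m ∩ P m' := ⟨_, rfl⟩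
  obtain ⟨E₅, hE₅⟩ : ∃ E : Set (PrimeSpectrum R),
      E = ⋃ (m : M) (m' : M) (d : M) (_ : d ≠ m - m'), O m ∩ P m' ∩ T d := ⟨_, rfl⟩
  have hc₁ : IsCompact E₁ := by
    rw [hE₁]
    exact hVc.inter_right (isOpen_iUnion hOo).isClosed_compl
  have hc₂ : IsCompact E₂ := by
    rw [hE₂]
    exact isCompact_iUnion fun m => isCompact_iUnion fun m' => isCompact_iUnion fun _ =>
      QuasiSeparatedSpace.inter_isCompact _ _ (hOo m) (hOc m) (hOo m') (hOc m')
  have hc₃ : IsCompact E₃ := by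
    rw [hE₃]
    exact hWc.inter_right (isOpen_iUnion hPo).isClosed_compl
  have hc₄ : IsCompact E₄ := by
    rw [hE₄]
    exact isCompact_iUnion fun m => isCompact_iUnion fun m' => isCompact_iUnion fun _ =>
      QuasiSeparatedSpace.inter_isCompact _ _ (hPo m) (hPc m) (hPo m') (hPc m')
  have hc₅ : IsCompact E₅ := by
    rw [hE₅]
    exact isCompact_iUnion fun m => isCompact_iUnion fun m' => isCompact_iUnion fun d =>
      isCompact_iUnion fun _ =>
      QuasiSeparatedSpace.inter_isCompact _ _ ((hOo m).inter (hPo m'))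
        (QuasiSeparatedSpace.inter_isCompact _ _ (hOo m) (hOc m) (hPo m') (hPc m'))
        (hTo d) (hTc d)
  have hEc : IsCompact (E₁ ∪ E₂ ∪ E₃ ∪ E₄ ∪ E₅) :=
    (((hc₁.union hc₂).union hc₃).union hc₄).union hc₅
  have hEZ : (E₁ ∪ E₂ ∪ E₃ ∪ E₄ ∪ E₅) ∩ zeroLocus ((sSup c : Ideal R) : Set R) = ∅ := by
    rw [Set.eq_empty_iff_forall_notMem]
    rintro x ⟨hxE, hxZ⟩
    rcases hxE with (((hx | hx) | hx) | hx) | hx
    · rw [hE₁] at hx
      exact hx.2 (Set.mem_iUnion.mpr ⟨a x, ((hOm (a x) x hxZ).2 ⟨hx.1, rfl⟩)⟩)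
    · rw [hE₂] at hx
      simp only [Set.mem_iUnion] at hx
      obtain ⟨m, m', hmm', hx1, hx2⟩ := hx
      exact hmm' (((hOm m x hxZ).1 hx1).2.symm.trans ((hOm m' x hxZ).1 hx2).2)
    · rw [hE₃] at hx
      exact hx.2 (Set.mem_iUnion.mpr ⟨b x, ((hPm (b x) x hxZ).2 ⟨hx.1, rfl⟩)⟩)
    · rw [hE₄] at hx
      simp only [Set.mem_iUnion] at hx
      obtain ⟨m, m', hmm', hx1, hx2⟩ := hx
      exact hmm' (((hPm m x hxZ).1 hx1).2.symm.trans ((hPm m' x hxZ).1 hx2).2)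
    · rw [hE₅] at hx
      simp only [Set.mem_iUnion] at hx
      obtain ⟨m, m', d, hd, ⟨hx1, hx2⟩, hx3⟩ := hx
      have h1 := (hOm m x hxZ).1 hx1
      have h2 := (hPm m' x hxZ).1 hx2
      have h3 := (hTm d x (Set.mem_univ x)).1 hx3
      apply hd
      rw [← h3.2, hab x ⟨⟨h1.1, h2.1⟩, hxZ⟩, h1.2, h2.2]
  obtain ⟨J, hJc, hJ⟩ := exists_mem_chain_disjoint hc hne hEc hEZ
  have hJ' : ∀ x ∈ zeroLocus (J : Set R), x ∉ E₁ ∪ E₂ ∪ E₃ ∪ E₄ ∪ E₅ := by
    intro x hxJ hxE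
    exact (Set.eq_empty_iff_forall_notMem.mp hJ x) ⟨hxE, hxJ⟩
  refine ⟨J, hJc, ?_⟩
  let aJ : PrimeSpectrum R → M := fun x => if h : ∃ m, x ∈ O m then h.choose else 0
  let bJ : PrimeSpectrum R → M := fun x => if h : ∃ m, x ∈ P m then h.choose else 0
  have haJ : ∀ x ∈ V ∩ zeroLocus (J : Set R), ∀ m, (aJ x = m ↔ x ∈ O m) := by
    intro x hx m
    have hex : ∃ m, x ∈ O m := by
      by_contra hno
      apply hJ' x hx.2
      refine Or.inl (Or.inl (Or.inl (Or.inl ?_)))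
      rw [hE₁]
      refine ⟨hx.1, fun hmem => hno ?_⟩
      exact Set.mem_iUnion.mp hmem
    have h1 : aJ x = hex.choose := dif_pos hex
    have h2 := hex.choose_spec
    constructor
    · intro h3
      rw [← h3, h1]
      exact h2
    · intro h3
      rw [h1]
      by_contra hne'
      apply hJ' x hx.2
      refine Or.inl (Or.inl (Or.inl (Or.inr ?_)))
      rw [hE₂]
      simp only [Set.mem_iUnion]
      exact ⟨hex.choose, m, hne', h2, h3⟩
  have hbJ : ∀ x ∈ W ∩ zeroLocus (J : Set R), ∀ m, (bJ x = m ↔ x ∈ P m) := by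
    intro x hx m
    have hex : ∃ m, x ∈ P m := by
      by_contra hno
      apply hJ' x hx.2
      refine Or.inl (Or.inl (Or.inr ?_))
      rw [hE₃]
      refine ⟨hx.1, fun hmem => hno ?_⟩
      exact Set.mem_iUnion.mp hmem
    have h1 : bJ x = hex.choose := dif_pos hex
    have h2 := hex.choose_spec
    constructor
    · intro h3
      rw [← h3, h1]
      exact h2
    · intro h3
      rw [h1]
      by_contra hne'
      apply hJ' x hx.2
      refine Or.inl (Or.inr ?_)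
      rw [hE₄]
      simp only [Set.mem_iUnion]
      exact ⟨hex.choose, m, hne', h2, h3⟩
  refine ⟨aJ, bJ, LCOn.of_open_fibers (fun m => ⟨O m, hOo m, fun x hx => haJ x hx m⟩),
    LCOn.of_open_fibers (fun m => ⟨P m, hPo m, fun x hx => hbJ x hx m⟩), ?_⟩
  rintro x ⟨⟨hxV, hxW⟩, hxJ⟩
  have h1 : x ∈ O (aJ x) := (haJ x ⟨hxV, hxJ⟩ (aJ x)).1 rfl
  have h2 : x ∈ P (bJ x) := (hbJ x ⟨hxW, hxJ⟩ (bJ x)).1 rfl
  have h3 : x ∈ T (s x) := (hTm (s x) x (Set.mem_univ x)).2 ⟨⟨hxV, hxW⟩, rfl⟩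
  by_contra hne'
  apply hJ' x hxJ
  refine Or.inr ?_
  rw [hE₅]
  simp only [Set.mem_iUnion]
  exact ⟨aJ x, bJ x, s x, hne', ⟨h1, h2⟩, h3⟩

end Good

end Groth.Agent.H2.Aic
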