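import Mathlib
import Groth.Prelude.Def_Curves
import Groth.Agent.Lib.Helper2.AicE

/-! # Splitting cocycles of `ZMod p`-valued locally constant functions over an a.i.c. ring, II. -/

set_option autoImplicit false
set_option linter.unusedVariables false
set_option linter.unusedSectionVars false
set_option linter.style.haveILetI false

universe u

open PrimeSpectrum

namespace Groth.Agent.H2.Aic

variable {R : Type u} [CommRing R]

set_option maxHeartbeats 1600000 in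
/-- gluing along a closed cover. -/
theorem good_glue (hR : Curves.IsAIC R) (p : ℕ) [Fact p.Prime] {V W : Set (PrimeSpectrum R)}
    (hVo : IsOpen V) (hWo : IsOpen W) (hcov : V ∪ W = Set.univ) {s : PrimeSpectrum R → ZMod p}
    (I₀ I I' : Ideal R) (h₀ : I₀ ≤ I) (h₀' : I₀ ≤ I') (hI' : I'.IsRadical)
    (hZ : zeroLocus (I₀ : Set R) ⊆ zeroLocus (I : Set R) ∪ zeroLocus (I' : Set R))
    (hg : Good V W s I) (hg' : Good V W s I') : Good V W s I₀ := by
  classical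
  have hp : p.Prime := Fact.out
  haveI : NeZero p := ⟨hp.ne_zero⟩
  obtain ⟨a₁, b₁, ha₁, hb₁, hab₁⟩ := hg
  obtain ⟨a₂, b₂, ha₂, hb₂, hab₂⟩ := hg'
  have hY : zeroLocus ((I ⊔ I' : Ideal R) : Set R) = zeroLocus (I : Set R) ∩ zeroLocus (I' : Set R) :=
    zeroLocus_sup I I'
  have hZ₁ : zeroLocus (I : Set R) ⊆ zeroLocus (I₀ : Set R) := zeroLocus_anti_mono_ideal h₀
  have hZ₂ : zeroLocus (I' : Set R) ⊆ zeroLocus (I₀ : Set R) := zeroLocus_anti_mono_ideal h₀'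
  let δ : PrimeSpectrum R → ZMod p := fun x => if x ∈ V then a₁ x - a₂ x else b₁ x - b₂ x
  have hδV : ∀ x ∈ V, δ x = a₁ x - a₂ x := fun x hx => if_pos hx
  have hδW : ∀ x ∈ zeroLocus ((I ⊔ I' : Ideal R) : Set R) ∩ W, δ x = b₁ x - b₂ x := by
    intro x hx
    have hx12 : x ∈ zeroLocus (I : Set R) ∩ zeroLocus (I' : Set R) := hY ▸ hx.1
    by_cases hxV : x ∈ V
    · have e1 := hab₁ x ⟨⟨hxV, hx.2⟩, hx12.1⟩
      have e2 := hab₂ x ⟨⟨hxV, hx.2⟩, hx12.2⟩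
      rw [hδV x hxV]
      have e3 : a₁ x - b₁ x = a₂ x - b₂ x := e1.symm.trans e2
      calc a₁ x - a₂ x = (a₁ x - b₁ x) - (a₂ x - b₂ x) + (b₁ x - b₂ x) := by ring
        _ = b₁ x - b₂ x := by rw [e3, sub_self, zero_add]
    · exact if_neg hxV
  have hδ : LCOn δ (zeroLocus ((I ⊔ I' : Ideal R) : Set R)) := by
    apply LCOn.union_open hVo hWo
    · refine ((ha₁.mono ?_).sub (ha₂.mono ?_)).congr (fun x hx => (hδV x hx.2).symm)
      · rintro x ⟨hx1, hx2⟩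
        exact ⟨hx2, (hY ▸ hx1 : x ∈ zeroLocus (I : Set R) ∩ zeroLocus (I' : Set R)).1⟩
      · rintro x ⟨hx1, hx2⟩
        exact ⟨hx2, (hY ▸ hx1 : x ∈ zeroLocus (I : Set R) ∩ zeroLocus (I' : Set R)).2⟩
    · refine ((hb₁.mono ?_).sub (hb₂.mono ?_)).congr (fun x hx => (hδW x hx).symm)
      · rintro x ⟨hx1, hx2⟩
        exact ⟨hx2, (hY ▸ hx1 : x ∈ zeroLocus (I : Set R) ∩ zeroLocus (I' : Set R)).1⟩
      · rintro x ⟨hx1, hx2⟩
        exact ⟨hx2, (hY ▸ hx1 : x ∈ zeroLocus (I : Set R) ∩ zeroLocus (I' : Set R)).2⟩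
    · intro x _
      rw [hcov]
      exact Set.mem_univ x
  obtain ⟨δ₁, δ₂, hδ₁, hδ₂, hδ12⟩ := cmv hR p I I' hI' δ hδ
  let a : PrimeSpectrum R → ZMod p := fun x =>
    if x ∈ zeroLocus (I : Set R) then a₁ x + δ₁ x else a₂ x + δ₂ x
  let b : PrimeSpectrum R → ZMod p := fun x =>
    if x ∈ zeroLocus (I : Set R) then b₁ x + δ₁ x else b₂ x + δ₂ x
  have ha1 : ∀ x ∈ zeroLocus (I : Set R), a x = a₁ x + δ₁ x := fun x hx => if_pos hx
  have hb1 : ∀ x ∈ zeroLocus (I : Set R), b x = b₁ x + δ₁ x := fun x hx => if_pos hx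
  have ha2 : ∀ x ∈ V ∩ zeroLocus (I' : Set R), a x = a₂ x + δ₂ x := by
    intro x hx
    by_cases hx1 : x ∈ zeroLocus (I : Set R)
    · have hxY : x ∈ zeroLocus ((I ⊔ I' : Ideal R) : Set R) := by rw [hY]; exact ⟨hx1, hx.2⟩
      have e1 := hδ12 x hxY
      rw [hδV x hx.1] at e1
      rw [ha1 x hx1]
      calc a₁ x + δ₁ x = (a₁ x - a₂ x) + a₂ x + δ₁ x := by ring
        _ = a₂ x + δ₂ x := by rw [e1]; ring
    · exact if_neg hx1
  have hb2 : ∀ x ∈ W ∩ zeroLocus (I' : Set R), b x = b₂ x + δ₂ x := by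
    intro x hx
    by_cases hx1 : x ∈ zeroLocus (I : Set R)
    · have hxY : x ∈ zeroLocus ((I ⊔ I' : Ideal R) : Set R) := by rw [hY]; exact ⟨hx1, hx.2⟩
      have e1 := hδ12 x hxY
      rw [hδW x ⟨hxY, hx.1⟩] at e1
      rw [hb1 x hx1]
      calc b₁ x + δ₁ x = (b₁ x - b₂ x) + b₂ x + δ₁ x := by ring
        _ = b₂ x + δ₂ x := by rw [e1]; ring
    · exact if_neg hx1
  refine ⟨a, b, ?_, ?_, ?_⟩
  · apply LCOn.union_closed (isClosed_zeroLocus (I : Set R)) (isClosed_zeroLocus (I' : Set R))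
    · refine ((ha₁.mono ?_).add (hδ₁.mono ?_)).congr (fun x hx => (ha1 x hx.2).symm)
      · rintro x ⟨hx1, hx2⟩
        exact ⟨hx1.1, hx2⟩
      · rintro x ⟨hx1, hx2⟩
        exact hx2
    · refine ((ha₂.mono ?_).add (hδ₂.mono ?_)).congr (fun x hx => (ha2 x ⟨hx.1.1, hx.2⟩).symm)
      · rintro x ⟨hx1, hx2⟩
        exact ⟨hx1.1, hx2⟩
      · rintro x ⟨hx1, hx2⟩
        exact hx2
    · rintro x ⟨_, hx2⟩
      exact hZ hx2
  · apply LCOn.union_closed (isClosed_zeroLocus (I : Set R)) (isClosed_zeroLocus (I' : Set R))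
    · refine ((hb₁.mono ?_).add (hδ₁.mono ?_)).congr (fun x hx => (hb1 x hx.2).symm)
      · rintro x ⟨hx1, hx2⟩
        exact ⟨hx1.1, hx2⟩
      · rintro x ⟨hx1, hx2⟩
        exact hx2
    · refine ((hb₂.mono ?_).add (hδ₂.mono ?_)).congr (fun x hx => (hb2 x ⟨hx.1.1, hx.2⟩).symm)
      · rintro x ⟨hx1, hx2⟩
        exact ⟨hx1.1, hx2⟩
      · rintro x ⟨hx1, hx2⟩
        exact hx2
    · rintro x ⟨_, hx2⟩
      exact hZ hx2
  · rintro x ⟨⟨hxV, hxW⟩, hx0⟩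
    rcases hZ hx0 with hx1 | hx2
    · rw [ha1 x hx1, hb1 x hx1, hab₁ x ⟨⟨hxV, hxW⟩, hx1⟩]
      ring
    · rw [ha2 x ⟨hxV, hx2⟩, hb2 x ⟨hxW, hx2⟩, hab₂ x ⟨⟨hxV, hxW⟩, hx2⟩]
      ring

/-- **Theorem A** for `ZMod p`. -/
theorem split_zmod (hR : Curves.IsAIC R) (p : ℕ) [Fact p.Prime] {V W : Set (PrimeSpectrum R)}
    (hVo : IsOpen V) (hVc : IsCompact V) (hWo : IsOpen W) (hWc : IsCompact W)
    (hcov : V ∪ W = Set.univ) (s : PrimeSpectrum R → ZMod p) (hs : LCOn s (V ∩ W)) :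
    ∃ a b : PrimeSpectrum R → ZMod p, LCOn a V ∧ LCOn b W ∧ ∀ x ∈ V ∩ W, s x = a x - b x := by
  have hp : p.Prime := Fact.out
  haveI : NeZero p := ⟨hp.ne_zero⟩
  have key : Good V W s (⊥ : Ideal R) := by
    by_contra hbad
    obtain ⟨I₀, -, hmax⟩ := zorn_le_nonempty₀ {I : Ideal R | ¬ Good V W s I} (by
      intro c hcs hc y hy
      refine ⟨sSup c, ?_, fun z hz => le_sSup hz⟩
      intro hgood
      obtain ⟨J, hJc, hJ⟩ := good_of_good_sSup hVo hVc hWo hWc hs hc ⟨y, hy⟩ hgood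
      exact hcs hJc hJ) ⊥ hbad
    have hI₀bad : ¬ Good V W s I₀ := hmax.prop
    have hgood_gt : ∀ J : Ideal R, I₀ ≤ J → ¬ J ≤ I₀ → Good V W s J := by
      intro J hle hnle
      by_contra hb
      exact hnle (hmax.le_of_ge hb hle)
    have hne_top : I₀ ≠ ⊤ := by
      rintro rfl
      exact hI₀bad good_top
    have hnp : ¬ I₀.IsPrime := fun hprime => hI₀bad (good_of_isPrime hVo hWo hs I₀)
    rw [Ideal.isPrime_iff] at hnp
    push_neg at hnp
    obtain ⟨x, y, hxy, hx, hy⟩ := hnp hne_top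
    have hgI : Good V W s (I₀ ⊔ Ideal.span {x}) :=
      hgood_gt _ le_sup_left
        (fun h => hx (h (Ideal.mem_sup_right (Ideal.mem_span_singleton_self x))))
    have hgI' : Good V W s (I₀ ⊔ Ideal.span {y}).radical :=
      hgood_gt _ (le_sup_left.trans Ideal.le_radical)
        (fun h => hy (h (Ideal.le_radical
          (Ideal.mem_sup_right (Ideal.mem_span_singleton_self y)))))
    apply hI₀bad
    refine good_glue hR p hVo hWo hcov I₀ _ _ le_sup_left (le_sup_left.trans Ideal.le_radical)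
      (Ideal.radical_isRadical _) ?_ hgI hgI'
    intro P hP
    have hP0 : I₀ ≤ P.asIdeal := (mem_zeroLocus _ _).mp hP
    rcases P.isPrime.mem_or_mem (hP0 hxy) with hxP | hyP
    · left
      rw [mem_zeroLocus]
      exact sup_le hP0 ((Ideal.span_singleton_le_iff_mem _).mpr hxP)
    · right
      rw [zeroLocus_radical, mem_zeroLocus]
      exact sup_le hP0 ((Ideal.span_singleton_le_iff_mem _).mpr hyP)
  obtain ⟨a, b, ha, hb, hab⟩ := key
  rw [zeroLocus_bot, Set.inter_univ] at ha hb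
  refine ⟨a, b, ha, hb, fun x hx => hab x ?_⟩
  rw [zeroLocus_bot]
  exact ⟨hx, Set.mem_univ x⟩

end Groth.Agent.H2.Aic
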