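import Mathlib
import Groth.Prelude.Def_Curves
import Groth.Agent.Lib.Helper2.AicF

/-! # Splitting cocycles with values in a finite abelian group over an a.i.c. ring. -/

set_option autoImplicit false
set_option linter.unusedVariables false
set_option linter.unusedSectionVars false
set_option linter.style.haveILetI false

universe u

open PrimeSpectrum

namespace Groth.Agent.H2.Aic

section Dev

variable {X : Type*} [TopologicalSpace X] (V W : Set X)

/-- the splitting property for cocycles with values in `M`. -/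
def Splits (M : Type*) [AddCommGroup M] : Prop :=
  ∀ s : X → M, LCOn s (V ∩ W) →
    ∃ a b : X → M, LCOn a V ∧ LCOn b W ∧ ∀ x ∈ V ∩ W, s x = a x - b x

variable {V W}

theorem splits_of_addEquiv {M N : Type*} [AddCommGroup M] [AddCommGroup N] (e : M ≃+ N)
    (h : Splits V W M) : Splits V W N := by
  intro s hs
  obtain ⟨a, b, ha, hb, hab⟩ := h (fun x => e.symm (s x)) (hs.comp e.symm)
  refine ⟨fun x => e (a x), fun x => e (b x), ha.comp e, hb.comp e, fun x hx => ?_⟩
  have h1 : e.symm (s x) = a x - b x := hab x hx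
  change s x = e (a x) - e (b x)
  rw [← map_sub, ← h1, e.apply_symm_apply]

theorem splits_of_subsingleton {M : Type*} [AddCommGroup M] [Subsingleton M] : Splits V W M := by
  intro s hs
  exact ⟨fun _ => 0, fun _ => 0, LCOn.const _ _, LCOn.const _ _, fun x hx => Subsingleton.elim _ _⟩

theorem splits_ext {M : Type*} [AddCommGroup M] (N : AddSubgroup M) (hN : Splits V W N)
    (hQ : Splits V W (M ⧸ N)) : Splits V W M := by
  classical
  intro s hs
  obtain ⟨a₁, b₁, ha₁, hb₁, hab₁⟩ := hQ (fun x => (QuotientAddGroup.mk (s x) : M ⧸ N))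
    (hs.comp _)
  let σ : M ⧸ N → M := Quotient.out
  have hσ : ∀ q : M ⧸ N, (QuotientAddGroup.mk (σ q) : M ⧸ N) = q := fun q => Quotient.out_eq q
  let s' : X → M := fun x => s x - (σ (a₁ x) - σ (b₁ x))
  have hs'N : ∀ x ∈ V ∩ W, s' x ∈ N := by
    intro x hx
    rw [← QuotientAddGroup.eq_zero_iff]
    change ((s x - (σ (a₁ x) - σ (b₁ x)) : M) : M ⧸ N) = 0
    rw [QuotientAddGroup.mk_sub, QuotientAddGroup.mk_sub, hσ, hσ]
    have h1 : (QuotientAddGroup.mk (s x) : M ⧸ N) = a₁ x - b₁ x := hab₁ x hx
    rw [h1, sub_self]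
  let ρ : M → N := fun m => if h : m ∈ N then ⟨m, h⟩ else 0
  have hs' : LCOn s' (V ∩ W) :=
    hs.sub (((ha₁.comp σ).mono Set.inter_subset_left).sub
      ((hb₁.comp σ).mono Set.inter_subset_right))
  obtain ⟨a₂, b₂, ha₂, hb₂, hab₂⟩ := hN (fun x => ρ (s' x)) (hs'.comp ρ)
  refine ⟨fun x => σ (a₁ x) + (a₂ x : M), fun x => σ (b₁ x) + (b₂ x : M),
    (ha₁.comp σ).add (ha₂.comp Subtype.val), (hb₁.comp σ).add (hb₂.comp Subtype.val), ?_⟩
  intro x hx
  have h1 : ((ρ (s' x) : N) : M) = s' x := by
    change ((if h : s' x ∈ N then (⟨s' x, h⟩ : N) else 0 : N) : M) = s' x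
    rw [dif_pos (hs'N x hx)]
  have h2 : ρ (s' x) = a₂ x - b₂ x := hab₂ x hx
  have h3 : s' x = (a₂ x : M) - (b₂ x : M) := by
    rw [← h1, h2, AddSubgroup.coe_sub]
  have h4 : s x = s' x + (σ (a₁ x) - σ (b₁ x)) := by
    change s x = s x - (σ (a₁ x) - σ (b₁ x)) + (σ (a₁ x) - σ (b₁ x))
    abel
  change s x = σ (a₁ x) + (a₂ x : M) - (σ (b₁ x) + (b₂ x : M))
  rw [h4, h3]
  abel

theorem splits_of_finite (hZ : ∀ p : ℕ, ∀ _ : Fact p.Prime, Splits V W (ZMod p)) :
    ∀ (n : ℕ) (M : Type) [AddCommGroup M] [Finite M], Nat.card M = n → Splits V W M := by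
  intro n
  induction n using Nat.strong_induction_on with
  | _ n ih =>
    intro M _ _ hcard
    rcases subsingleton_or_nontrivial M with hsub | hnt
    · exact splits_of_subsingleton
    · have h1 : 1 < Nat.card M := Finite.one_lt_card
      have hp : (Nat.card M).minFac.Prime := Nat.minFac_prime (by omega)
      haveI hpf : Fact (Nat.card M).minFac.Prime := ⟨hp⟩
      obtain ⟨x, hx⟩ := exists_prime_addOrderOf_dvd_card' (G := M) (Nat.card M).minFac
        (Nat.minFac_dvd _)
      have hNcard : Nat.card (AddSubgroup.zmultiples x) = (Nat.card M).minFac := by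
        rw [Nat.card_zmultiples, hx]
      have e : ZMod (Nat.card M).minFac ≃+ AddSubgroup.zmultiples x :=
        addEquivOfPrimeCardEq (Nat.card_zmod _) hNcard
      have hN : Splits V W (AddSubgroup.zmultiples x) := splits_of_addEquiv e (hZ _ hpf)
      have hmul := AddSubgroup.card_eq_card_quotient_mul_card_addSubgroup
        (AddSubgroup.zmultiples x)
      have hlt : Nat.card (M ⧸ AddSubgroup.zmultiples x) < n := by
        rw [← hcard]
        have h2 : 2 ≤ Nat.card (AddSubgroup.zmultiples x) := by
          rw [hNcard]; exact hp.two_le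
        have h3 : 0 < Nat.card (M ⧸ AddSubgroup.zmultiples x) := Nat.card_pos
        nlinarith
      exact splits_ext _ hN (ih _ hlt (M ⧸ AddSubgroup.zmultiples x) rfl)

end Dev

variable {R : Type u} [CommRing R]

/-- splitting over a covering by two quasi-compact opens, any finite coefficient group. -/
theorem split_cover (hR : Curves.IsAIC R) {V W : Set (PrimeSpectrum R)}
    (hVo : IsOpen V) (hVc : IsCompact V) (hWo : IsOpen W) (hWc : IsCompact W)
    (hcov : V ∪ W = Set.univ) (M : Type) [AddCommGroup M] [Finite M] : Splits V W M :=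
  splits_of_finite (fun p hp s hs => by
    haveI := hp
    exact split_zmod hR p hVo hVc hWo hWc hcov s hs) _ M rfl

set_option maxHeartbeats 1600000 in
/-- splitting for two basic opens whose union is a basic open. -/
theorem split_basic (hR : Curves.IsAIC R) (v w t : R)
    (hcov : (basicOpen v : Set (PrimeSpectrum R)) ∪ basicOpen w = basicOpen t)
    (M : Type) [AddCommGroup M] [Finite M] :
    Splits (basicOpen v : Set (PrimeSpectrum R)) (basicOpen w : Set (PrimeSpectrum R)) M := by
  classical
  intro s hs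
  have hR' : Curves.IsAIC (Localization.Away t) :=
    isAIC_of_isLocalization hR (Submonoid.powers t) (Localization.Away t)
  have hemb := localization_away_isOpenEmbedding (Localization.Away t) t
  have hrange := localization_away_comap_range (Localization.Away t) t
  have hinj : Function.Injective (comap (algebraMap R (Localization.Away t))) := hemb.injective
  have hcont : Continuous (comap (algebraMap R (Localization.Away t))) := hemb.continuous
  obtain ⟨V', hV'⟩ : ∃ V' : Set (PrimeSpectrum (Localization.Away t)),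
      V' = (basicOpen (algebraMap R (Localization.Away t) v) : Set _) := ⟨_, rfl⟩
  obtain ⟨W', hW'⟩ : ∃ W' : Set (PrimeSpectrum (Localization.Away t)),
      W' = (basicOpen (algebraMap R (Localization.Away t) w) : Set _) := ⟨_, rfl⟩
  have hV'mem : ∀ y, y ∈ V' ↔ comap (algebraMap R (Localization.Away t)) y ∈
      (basicOpen v : Set (PrimeSpectrum R)) := by
    intro y
    rw [hV']
    exact Iff.rfl
  have hW'mem : ∀ y, y ∈ W' ↔ comap (algebraMap R (Localization.Away t)) y ∈
      (basicOpen w : Set (PrimeSpectrum R)) := by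
    intro y
    rw [hW']
    exact Iff.rfl
  have hcov' : V' ∪ W' = Set.univ := by
    rw [Set.eq_univ_iff_forall]
    intro y
    have h1 : comap (algebraMap R (Localization.Away t)) y ∈
        (basicOpen t : Set (PrimeSpectrum R)) := by
      rw [← hrange]
      exact ⟨y, rfl⟩
    rw [← hcov] at h1
    rcases h1 with h1 | h1
    · exact Or.inl ((hV'mem y).2 h1)
    · exact Or.inr ((hW'mem y).2 h1)
  have hs' : LCOn (fun y => s (comap (algebraMap R (Localization.Away t)) y)) (V' ∩ W') := by
    have h1 : (fun y : ↥(V' ∩ W') => s (comap (algebraMap R (Localization.Away t)) y.1)) =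
        (fun x : ↥((basicOpen v : Set (PrimeSpectrum R)) ∩ basicOpen w) => s x.1) ∘
          (fun y : ↥(V' ∩ W') => ⟨comap (algebraMap R (Localization.Away t)) y.1,
            (hV'mem y.1).1 y.2.1, (hW'mem y.1).1 y.2.2⟩) := rfl
    unfold LCOn
    rw [h1]
    exact hs.comp_continuous ((hcont.comp continuous_subtype_val).subtype_mk _)
  obtain ⟨a', b', ha', hb', hab'⟩ := split_cover hR'
    (hV' ▸ (basicOpen _).2) (hV' ▸ isCompact_basicOpen _)
    (hW' ▸ (basicOpen _).2) (hW' ▸ isCompact_basicOpen _) hcov' M _ hs'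
  let a : PrimeSpectrum R → M := fun x =>
    if h : ∃ y, comap (algebraMap R (Localization.Away t)) y = x then a' h.choose else 0
  let b : PrimeSpectrum R → M := fun x =>
    if h : ∃ y, comap (algebraMap R (Localization.Away t)) y = x then b' h.choose else 0
  have hay : ∀ y, a (comap (algebraMap R (Localization.Away t)) y) = a' y := by
    intro y
    have hex : ∃ y', comap (algebraMap R (Localization.Away t)) y' =
        comap (algebraMap R (Localization.Away t)) y := ⟨y, rfl⟩
    have h1 : a (comap (algebraMap R (Localization.Away t)) y) = a' hex.choose := dif_pos hex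
    rw [h1, hinj hex.choose_spec]
  have hby : ∀ y, b (comap (algebraMap R (Localization.Away t)) y) = b' y := by
    intro y
    have hex : ∃ y', comap (algebraMap R (Localization.Away t)) y' =
        comap (algebraMap R (Localization.Away t)) y := ⟨y, rfl⟩
    have h1 : b (comap (algebraMap R (Localization.Away t)) y) = b' hex.choose := dif_pos hex
    rw [h1, hinj hex.choose_spec]
  have hVr : ∀ x ∈ (basicOpen v : Set (PrimeSpectrum R)),
      ∃ y, comap (algebraMap R (Localization.Away t)) y = x := by
    intro x hx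
    have h1 : x ∈ (basicOpen t : Set (PrimeSpectrum R)) := by
      rw [← hcov]; exact Or.inl hx
    rw [← hrange] at h1
    exact h1
  have hWr : ∀ x ∈ (basicOpen w : Set (PrimeSpectrum R)),
      ∃ y, comap (algebraMap R (Localization.Away t)) y = x := by
    intro x hx
    have h1 : x ∈ (basicOpen t : Set (PrimeSpectrum R)) := by
      rw [← hcov]; exact Or.inr hx
    rw [← hrange] at h1
    exact h1
  refine ⟨a, b, ?_, ?_, ?_⟩
  · apply LCOn.of_open_fibers
    intro m
    obtain ⟨C', hC', hC'm⟩ := ha'.exists_open m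
    refine ⟨comap (algebraMap R (Localization.Away t)) '' C', hemb.isOpenMap _ hC', ?_⟩
    intro x hx
    obtain ⟨y, rfl⟩ := hVr x hx
    rw [hay y, hC'm y ((hV'mem y).2 hx)]
    constructor
    · intro hy
      exact ⟨y, hy, rfl⟩
    · rintro ⟨y', hy', hyy'⟩
      rw [← hinj hyy']
      exact hy'
  · apply LCOn.of_open_fibers
    intro m
    obtain ⟨C', hC', hC'm⟩ := hb'.exists_open m
    refine ⟨comap (algebraMap R (Localization.Away t)) '' C', hemb.isOpenMap _ hC', ?_⟩
    intro x hx
    obtain ⟨y, rfl⟩ := hWr x hx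
    rw [hby y, hC'm y ((hW'mem y).2 hx)]
    constructor
    · intro hy
      exact ⟨y, hy, rfl⟩
    · rintro ⟨y', hy', hyy'⟩
      rw [← hinj hyy']
      exact hy'
  · rintro x ⟨hxv, hxw⟩
    obtain ⟨y, rfl⟩ := hVr x hxv
    rw [hay y, hby y]
    exact hab' y ⟨(hV'mem y).2 hxv, (hW'mem y).2 hxw⟩

end Groth.Agent.H2.Aic
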