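import Mathlib
import Groth.Prelude.Def_EtShriek2
import Groth.Agent.Lib.Helper7.ES13
import Groth.Agent.Lib.Helper7.ES15
import Groth.Agent.Lib.Helper7.EX5

/-! # Mayer–Vietoris surjectivity on sections from injectivity on `H¹`. -/

set_option autoImplicit false
set_option linter.style.haveILetI false
set_option linter.unusedVariables false
set_option linter.unusedSectionVars false

universe w₁ w₂ w₃ w₄ v₁ v₂ v₃ v₄ u₁ u₂ u₃ u₄ u

open CategoryTheory CategoryTheory.Limits Abelian Opposite AlgebraicGeometry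

namespace Groth.Agent.H2.Gbr
open Groth.Agent.H7.EX Groth.Agent.H7.ES

section HomSurj

variable {X : Type u₁} [Category.{v₁} X] [Abelian X] [HasExt.{w₁} X] [EnoughInjectives X]
  {U : Type u₂} [Category.{v₂} U] [Abelian U] [HasExt.{w₂} U]
  {V : Type u₄} [Category.{v₄} V] [Abelian V] [HasExt.{w₄} V]
  {W : Type u₃} [Category.{v₃} W] [Abelian W] [HasExt.{w₃} W]
  {RU : X ⥤ U} {RV : X ⥤ V} {Ra : U ⥤ W} {Rb : V ⥤ W} {RW : X ⥤ W}
  [RU.Additive] [PreservesFiniteLimits RU] [PreservesFiniteColimits RU]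
  [RV.Additive] [PreservesFiniteLimits RV] [PreservesFiniteColimits RV]
  [Ra.Additive] [PreservesFiniteLimits Ra] [PreservesFiniteColimits Ra]
  [Rb.Additive] [PreservesFiniteLimits Rb] [PreservesFiniteColimits Rb]
  [RW.Additive] [PreservesFiniteLimits RW] [PreservesFiniteColimits RW]
  (θa : RU ⋙ Ra ≅ RW) (θb : RV ⋙ Rb ≅ RW)
  {LU : U ⥤ X} (adjU : LU ⊣ RU) {LV : V ⥤ X} (adjV : LV ⊣ RV) {LW : W ⥤ X} (adjW : LW ⊣ RW)
  {zX : X} {zU : U} {zV : V} {zW : W}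
  (cU : zU ⟶ RU.obj zX) (cV : zV ⟶ RV.obj zX) (ca : zW ⟶ Ra.obj zU) (cb : zW ⟶ Rb.obj zV)

/-- Hom-level surjectivity in the Mayer–Vietoris situation, from injectivity of
`Ext¹(z_X, G) → Ext¹(z_U, R_U G) × Ext¹(z_V, R_V G)`. -/
theorem mv_hom_surj'
    (w : transAlpha θa adjU adjW ca ≫ transEps adjU cU =
      transAlpha θb adjV adjW cb ≫ transEps adjV cV)
    (hS : (mvSC (transAlpha θa adjU adjW ca) (transAlpha θb adjV adjW cb)
      (transEps adjU cU) (transEps adjV cV) w).ShortExact)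
    (G : X)
    (hinj : ∀ ξ : Ext zX G 1, pullMap cU G 1 ξ = 0 → pullMap cV G 1 ξ = 0 → ξ = 0)
    (ξW : zW ⟶ RW.obj G) :
    ∃ (ξU : zU ⟶ RU.obj G) (ξV : zV ⟶ RV.obj G),
      ca ≫ Ra.map ξU ≫ θa.hom.app G - cb ≫ Rb.map ξV ≫ θb.hom.app G = ξW := by
  haveI : LW.Additive := adjW.left_adjoint_additive
  let φ := (adjW.homEquiv _ _).symm ξW
  let x := mvδ _ _ _ _ w hS G 0 (Ext.mk₀ φ)
  obtain ⟨h1, h2⟩ := (mv_exact₁ _ _ _ _ w hS G x).2 ⟨Ext.mk₀ φ, rfl⟩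
  have hx : x = 0 := by
    apply hinj
    · rw [pullMap_eq adjU cU G x, h1, map_zero]
    · rw [pullMap_eq adjV cV G x, h2, map_zero]
  obtain ⟨y, z, hyz⟩ := (mv_exact₃ _ _ _ _ w hS G (Ext.mk₀ φ)).1 hx
  obtain ⟨ψU, rfl⟩ := (Ext.mk₀_bijective _ _).2 y
  obtain ⟨ψV, rfl⟩ := (Ext.mk₀_bijective _ _).2 z
  rw [Ext.mk₀_comp_mk₀, Ext.mk₀_comp_mk₀, sub_eq_add_neg, ← Ext.mk₀_neg, ← Ext.mk₀_add,
    ← sub_eq_add_neg] at hyz
  have hψ : transAlpha θa adjU adjW ca ≫ ψU - transAlpha θb adjV adjW cb ≫ ψV = φ :=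
    (Ext.mk₀_bijective _ _).1 hyz
  refine ⟨adjU.homEquiv _ _ ψU, adjV.homEquiv _ _ ψV, ?_⟩
  rw [← homEquiv_transAlpha_comp, ← homEquiv_transAlpha_comp]
  have := congrArg (adjW.homAddEquiv zW G) hψ
  rw [map_sub] at this
  refine this.trans ?_
  exact Equiv.apply_symm_apply _ _

end HomSurj

section MVSurj

variable {U V W X : Scheme.{u}} (jU : U ⟶ X) (jV : V ⟶ X) (a : W ⟶ U) (b : W ⟶ V) (jW : W ⟶ X)
  (wa : a ≫ jU = jW) (wb : b ≫ jV = jW)
  [AlgebraicGeometry.Etale jU] [AlgebraicGeometry.Etale jV] [AlgebraicGeometry.Etale a]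
  [AlgebraicGeometry.Etale b] [AlgebraicGeometry.Etale jW]
  [Mono jU] [Mono jV] [Mono jW]

/-- Hom-level: from injectivity on `H¹`. -/
theorem mv_hom_surj_etale' (hpb : IsPullback a b jU jV)
    (hcov : ∀ x : X, (∃ u : U, jU.base u = x) ∨ (∃ v : V, jV.base v = x)) (G : EtCoh.Ab X)
    (hinj : ∀ ξ : EtCoh.H X G 1, EtCore.Hpull jU G 1 ξ = 0 → EtCore.Hpull jV G 1 ξ = 0 → ξ = 0)
    (ξW : EtCoh.const W ℤ ⟶ (EtCoh.pull jW).obj G) :
    ∃ (ξU : EtCoh.const U ℤ ⟶ (EtCoh.pull jU).obj G)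
      (ξV : EtCoh.const V ℤ ⟶ (EtCoh.pull jV).obj G),
      (EtCore.pullConst a ℤ).inv ≫ (EtCoh.pull a).map ξU ≫ (thetaIso jU a jW wa).hom.app G -
        (EtCore.pullConst b ℤ).inv ≫ (EtCoh.pull b).map ξV ≫ (thetaIso jV b jW wb).hom.app G =
          ξW := by
  have w := transAlpha_transEps (thetaIso jU a jW wa) (thetaIso jV b jW wb)
    (pullAdj jU) (pullAdj jV) (pullAdj jW)
    (EtCore.pullConst jU ℤ).inv (EtCore.pullConst jV ℤ).inv
    (EtCore.pullConst a ℤ).inv (EtCore.pullConst b ℤ).inv (mv_hc jU jV a b jW wa wb)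
  have hS := mvSC_shortExact (thetaIso jU a jW wa) (thetaIso jV b jW wb)
    (pullAdj jU) (pullAdj jV) (pullAdj jW)
    (EtCore.pullConst jU ℤ).inv (EtCore.pullConst jV ℤ).inv
    (EtCore.pullConst a ℤ).inv (EtCore.pullConst b ℤ).inv w
    (mv_hinj jU jV hcov) (mv_hglue jU jV a b jW wa wb hpb hcov)
  exact mv_hom_surj' (thetaIso jU a jW wa) (thetaIso jV b jW wb)
    (pullAdj jU) (pullAdj jV) (pullAdj jW)
    (EtCore.pullConst jU ℤ).inv (EtCore.pullConst jV ℤ).inv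
    (EtCore.pullConst a ℤ).inv (EtCore.pullConst b ℤ).inv w hS G hinj ξW

/-- Section-level (morphisms from `ℤ`). -/
theorem mv_sec_surj' (hpb : IsPullback a b jU jV)
    (hcov : ∀ x : X, (∃ u : U, jU.base u = x) ∨ (∃ v : V, jV.base v = x)) (G : EtCoh.Ab X)
    (hinj : ∀ ξ : EtCoh.H X G 1, EtCore.Hpull jU G 1 ξ = 0 → EtCore.Hpull jV G 1 ξ = 0 → ξ = 0)
    (σ : ZZ.{u} ⟶ (EtCore.gsec W).obj ((EtShriek.restrAlong jW).obj G)) :
    ∃ (σU : ZZ.{u} ⟶ (EtCore.gsec U).obj ((EtShriek.restrAlong jU).obj G))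
      (σV : ZZ.{u} ⟶ (EtCore.gsec V).obj ((EtShriek.restrAlong jV).obj G)),
      σU ≫ evalMap jU a jW wa G - σV ≫ evalMap jV b jW wb G = σ := by
  obtain ⟨ξU, ξV, h⟩ := mv_hom_surj_etale' jU jV a b jW wa wb hpb hcov G hinj
    (((EtCore.constAdj W).homEquiv ZZ.{u} _).symm (σ ≫ (gammaIso jW G).inv))
  refine ⟨(EtCore.constAdj U).homEquiv ZZ.{u} _ ξU ≫ (gammaIso jU G).hom,
    (EtCore.constAdj V).homEquiv ZZ.{u} _ ξV ≫ (gammaIso jV G).hom, ?_⟩
  have h' := congrArg ((EtCore.constAdj W).homAddEquiv ZZ.{u} _) h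
  rw [map_sub] at h'
  have h'' : (EtCore.constAdj W).homEquiv ZZ.{u} _
        ((EtCore.pullConst a ℤ).inv ≫ (EtCoh.pull a).map ξU ≫ (thetaIso jU a jW wa).hom.app G) -
      (EtCore.constAdj W).homEquiv ZZ.{u} _
        ((EtCore.pullConst b ℤ).inv ≫ (EtCoh.pull b).map ξV ≫ (thetaIso jV b jW wb).hom.app G) =
      σ ≫ (gammaIso jW G).inv := h'.trans (Equiv.apply_symm_apply _ _)
  rw [homEquiv_ca_map, homEquiv_ca_map] at h''
  have h3 := congrArg (· ≫ (gammaIso jW G).hom) h''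
  simp only [Preadditive.sub_comp, Category.assoc, Iso.inv_hom_id, Category.comp_id] at h3
  rw [res_theta_gammaIso jU a jW wa G, res_theta_gammaIso jV b jW wb G] at h3
  simpa only [Category.assoc] using h3

/-- Element-level: from injectivity on `H¹`, every section over `W` is a difference of
restrictions of sections over `U` and `V`. -/
theorem mv_elt_surj' (hpb : IsPullback a b jU jV)
    (hcov : ∀ x : X, (∃ u : U, jU.base u = x) ∨ (∃ v : V, jV.base v = x)) (G : EtCoh.Ab X)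
    (hinj : ∀ ξ : EtCoh.H X G 1, EtCore.Hpull jU G 1 ξ = 0 → EtCore.Hpull jV G 1 ξ = 0 → ξ = 0)
    (s : G.obj.obj (op (etObj jW))) :
    ∃ (sU : G.obj.obj (op (etObj jU))) (sV : G.obj.obj (op (etObj jV))),
      (G.obj.map (etObjMap jU a jW wa).op).hom sU - (G.obj.map (etObjMap jV b jW wb).op).hom sV =
        s := by
  obtain ⟨σU, σV, h⟩ := mv_sec_surj' jU jV a b jW wa wb hpb hcov G hinj
    (zzHom ((EtCore.gsec W).obj ((EtShriek.restrAlong jW).obj G)) s)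
  refine ⟨σU.hom ⟨1⟩, σV.hom ⟨1⟩, ?_⟩
  have := congrArg (fun t => t.hom (⟨1⟩ : ULift.{u + 1} ℤ)) h
  refine Eq.trans ?_ (this.trans (zzHom_one _ s))
  rfl

end MVSurj

end Groth.Agent.H2.Gbr
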