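import Mathlib
import Groth.Agent.Lib.Helper2.SmEtSheafA

set_option autoImplicit false
set_option linter.style.haveILetI false
set_option linter.unusedVariables false
universe w v u
open CategoryTheory CategoryTheory.Limits AlgebraicGeometry MorphismProperty TopologicalSpace Opposite

namespace Groth.Agent.H2.DisjCov

open Groth.Agent.H2.SmEtSheaf

variable {X : Scheme.{u}} {F : X.Etaleᵒᵖ ⥤ Type w}
  (hF : Presieve.IsSheaf X.smallEtaleTopology F)
  {ι : Type v} {B : X.Etale} (Z : ι → X.Etale) (t : ∀ k, Z k ⟶ B)

include hF in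
/-- Sections over an empty étale scheme form a subsingleton. -/
lemma subsingleton_of_isEmpty (W : X.Etale) [IsEmpty W.left] : Subsingleton (F.obj (op W)) := by
  have hbot : (⊥ : Sieve W) ∈ X.smallEtaleTopology W := by
    rw [mem_Jet_iff]
    intro x
    exact (IsEmpty.false x).elim
  refine ⟨fun s t => ?_⟩
  refine (hF _ hbot).isSeparatedFor.ext ?_
  intro Y f hf
  exact hf.elim

lemma ofArrows_mem (hcov : ∀ b : B.left, ∃ k z, (t k).left z = b) :
    Sieve.ofArrows Z t ∈ X.smallEtaleTopology B := by
  rw [mem_Jet_iff]
  intro p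
  obtain ⟨k, y, hy⟩ := hcov p
  exact ⟨Z k, t k, y, Sieve.ofArrows_mk _ _ k, hy⟩

include hF in
/-- Sections agreeing on a jointly surjective family agree. -/
theorem ext_of_cover (hcov : ∀ b : B.left, ∃ k z, (t k).left z = b) (s s' : F.obj (op B))
    (h : ∀ k, F.map (t k).op s = F.map (t k).op s') : s = s' := by
  have hsh : Presieve.IsSheafFor F (Presieve.ofArrows Z t) := by
    rw [Presieve.isSheafFor_iff_generate]
    exact hF _ (ofArrows_mem Z t hcov)
  refine hsh.isSeparatedFor.ext ?_
  rintro Y f ⟨k⟩
  exact h k

include hF in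
/-- Gluing sections along a jointly surjective family of monomorphisms with pairwise disjoint
images. -/
theorem glue_of_disjoint (hcov : ∀ b : B.left, ∃ k z, (t k).left z = b)
    (hmono : ∀ k, Mono (t k).left)
    (hdisj : ∀ i j, i ≠ j → Disjoint (Set.range (t i).left) (Set.range (t j).left))
    (x : ∀ k, F.obj (op (Z k))) :
    ∃ y : F.obj (op B), ∀ k, F.map (t k).op y = x k := by
  have hsh : Presieve.IsSheafFor F (Presieve.ofArrows Z t) := by
    rw [Presieve.isSheafFor_iff_generate]
    exact hF _ (ofArrows_mem Z t hcov)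
  have hcompat : Presieve.Arrows.Compatible F t x := by
    intro i j W gi gj hgij
    by_cases hij : i = j
    · subst hij
      have hl : gi.left ≫ (t i).left = gj.left ≫ (t i).left :=
        congrArg (fun m => m.left) hgij
      haveI := hmono i
      have : gi = gj := MorphismProperty.Over.Hom.ext ((cancel_mono (t i).left).1 hl)
      rw [this]
    · have hl : gi.left ≫ (t i).left = gj.left ≫ (t j).left :=
        congrArg (fun m => m.left) hgij
      haveI : IsEmpty W.left := ⟨fun w => by
        have h1 : (gi.left ≫ (t i).left) w ∈ Set.range (t i).left := ⟨gi.left w, rfl⟩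
        have h2 : (gi.left ≫ (t i).left) w ∈ Set.range (t j).left := by
          rw [hl]; exact ⟨gj.left w, rfl⟩
        exact Set.disjoint_left.1 (hdisj i j hij) h1 h2⟩
      haveI := subsingleton_of_isEmpty hF W
      exact Subsingleton.elim _ _
  obtain ⟨y, hy, -⟩ := (Presieve.isSheafFor_arrows_iff _ _).1 hsh x hcompat
  exact ⟨y, hy⟩

end Groth.Agent.H2.DisjCov
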