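import Mathlib
import Groth.Prelude.Def_EtBase
import Groth.Agent.Lib.Helper2.DisjCovA

/-! # Direct image along a morphism from a "pointlike" scheme (e.g. the spectrum of a separably
closed field) preserves epimorphisms of abelian étale sheaves. -/

set_option autoImplicit false
set_option linter.style.haveILetI false
set_option linter.unusedVariables false
universe u
open CategoryTheory CategoryTheory.Limits AlgebraicGeometry MorphismProperty TopologicalSpace Opposite

namespace Groth.Agent.H2.GeoPush

open Groth.Agent.H2.SmEtSheaf Groth.Agent.H2.DisjCov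

/-- A scheme is *pointlike* if it has at most one point and every point of an étale scheme over
it lies in the image of a section. -/
structure Pointlike (G : Scheme.{u}) : Prop where
  sub : Subsingleton G
  sec : ∀ (W : G.Etale) (w : W.left), ∃ s : EtCoh.top G ⟶ W, w ∈ Set.range s.left

set_option backward.isDefEq.respectTransparency.types false in
/-- The spectrum of a separably closed field is pointlike. -/
lemma pointlike_spec (Ω : Type u) [Field Ω] [IsSepClosed Ω] :
    Pointlike (Spec (CommRingCat.of Ω)) := by
  refine ⟨inferInstanceAs (Subsingleton (PrimeSpectrum Ω)), fun W w => ?_⟩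
  haveI : Etale W.hom := W.prop
  obtain ⟨l, hl, hlw⟩ := Scheme.exists_fac_of_etale_of_isSepClosed W.hom
    (𝟙 (Spec (CommRingCat.of Ω))) w (Subsingleton.elim (α := PrimeSpectrum Ω) _ _)
  refine ⟨MorphismProperty.Over.homMk l ?_, (default : ↥(Spec (CommRingCat.of Ω))), hlw⟩
  exact hl

lemma isSheaf_forget {X : Scheme.{u}} (F : EtCoh.Ab X) : Presieve.IsSheaf X.smallEtaleTopology
    (F.obj ⋙ forget AddCommGrpCat.{u + 1}) :=
  (isSheaf_iff_isSheaf_of_type _ _).1
    ((Presheaf.isSheaf_iff_isSheaf_forget _ F.obj (forget AddCommGrpCat.{u + 1})).1 F.property)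

/-- On a pointlike scheme, epimorphisms of abelian sheaves are surjective on sections over every
étale scheme. -/
theorem app_surjective_of_epi {G : Scheme.{u}} (hG : Pointlike G) {F F' : EtCoh.Ab G}
    (a : F ⟶ F') [Epi a] (W : G.Etale) :
    Function.Surjective (a.hom.app (op W)) := by
  intro t
  haveI : Sheaf.IsLocallySurjective a :=
    (Sheaf.isLocallySurjective_iff_epi' (φ := a)).2 inferInstance
  have hS := Presheaf.imageSieve_mem G.smallEtaleTopology a.hom t
  rw [mem_Jet_iff] at hS
  have key : ∀ w : W.left, ∃ (s : EtCoh.top G ⟶ W) (z : F.obj.obj (op (EtCoh.top G))),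
      w ∈ Set.range s.left ∧ a.hom.app _ z = F'.obj.map s.op t := by
    intro w
    obtain ⟨Z, f, y, ⟨z, hz⟩, hy⟩ := hS w
    obtain ⟨s', p, hp⟩ := hG.sec Z y
    refine ⟨s' ≫ f, F.obj.map s'.op z, ⟨p, ?_⟩, ?_⟩
    · change f.left (s'.left p) = w
      rw [hp, hy]
    · have n1 := congrArg (fun φ => φ z) (congrArg ConcreteCategory.hom (a.hom.naturality s'.op))
      simp only [ConcreteCategory.comp_apply] at n1
      rw [n1, hz, op_comp, F'.obj.map_comp]
      rfl
  choose s z hs hz using key
  haveI := hG.sub
  have hrange : ∀ w : W.left, Set.range (s w).left = {w} := by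
    intro w
    obtain ⟨p, hp⟩ := hs w
    ext v
    simp only [Set.mem_range, Set.mem_singleton_iff]
    constructor
    · rintro ⟨p', hp'⟩
      have hpp : p' = p := Subsingleton.elim (α := G) p' p
      rw [← hp', hpp]
      exact hp
    · rintro rfl
      exact ⟨p, hp⟩
  have hcov : ∀ b : W.left, ∃ k z, (s k).left z = b := fun b => ⟨b, hs b⟩
  have hmono : ∀ k, Mono (s k).left := by
    intro k
    have hk : (s k).left ≫ W.hom = 𝟙 G := by
      have := Over.w (s k).hom
      simpa using this
    exact (SplitMono.mk _ hk).mono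
  have hdisj : ∀ i j, i ≠ j → Disjoint (Set.range (s i).left) (Set.range (s j).left) := by
    intro i j hij
    rw [hrange, hrange]
    exact Set.disjoint_singleton.2 hij
  obtain ⟨y, hy⟩ := glue_of_disjoint (isSheaf_forget F) (fun _ => EtCoh.top G) s hcov hmono
    hdisj z
  refine ⟨y, ?_⟩
  refine ext_of_cover (isSheaf_forget F') (fun _ => EtCoh.top G) s hcov _ _ (fun w => ?_)
  have n1 := congrArg (fun φ => φ y) (congrArg ConcreteCategory.hom (a.hom.naturality (s w).op))
  simp only [ConcreteCategory.comp_apply] at n1
  have hyw : (F.obj.map (s w).op).hom y = z w := hy w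
  change (F'.obj.map (s w).op).hom (a.hom.app _ y) = (F'.obj.map (s w).op).hom t
  rw [← n1, hyw, hz]

/-- Direct image along a morphism from a pointlike scheme preserves epimorphisms. -/
theorem push_map_epi {G Y : Scheme.{u}} (hG : Pointlike G) (h : G ⟶ Y) {F F' : EtCoh.Ab G}
    (a : F ⟶ F') [Epi a] : Epi ((EtCoh.push h).map a) := by
  rw [← Sheaf.isLocallySurjective_iff_epi']
  refine Presheaf.isLocallySurjective_of_surjective _ _ (fun V => ?_)
  exact app_surjective_of_epi hG a ((EtCoh.bc h).obj V.unop)

lemma push_preservesEpimorphisms {G Y : Scheme.{u}} (hG : Pointlike G) (h : G ⟶ Y) :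
    (EtCoh.push h).PreservesEpimorphisms :=
  ⟨fun a _ => push_map_epi hG h a⟩

end Groth.Agent.H2.GeoPush
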