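import Mathlib
import Groth.Agent.Lib.Helper2.GeoPushA
import Groth.Agent.Lib.Lead.SC.MapRes
import Groth.Agent.Lib.Helper7.ES1

/-! # Higher direct images along morphisms from pointlike schemes vanish; degenerate composition. -/

set_option autoImplicit false
set_option linter.style.haveILetI false
set_option linter.unusedVariables false
universe u
open CategoryTheory CategoryTheory.Limits AlgebraicGeometry Opposite

namespace Groth.Agent.H2.GeoPush

section abstract

universe v v' w w'

variable {C : Type w} [Category.{v} C] [Abelian C] {D : Type w'} [Category.{v'} D] [Abelian D]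

/-- A left exact additive functor preserving epimorphisms is exact. -/
lemma preservesFiniteColimits_of_preservesEpi (T : C ⥤ D) [T.Additive] [PreservesFiniteLimits T]
    [T.PreservesEpimorphisms] : PreservesFiniteColimits T := by
  rw [Functor.preservesFiniteColimits_iff_forall_exact_map_and_epi]
  intro S hS
  refine ⟨((Functor.preservesFiniteLimits_iff_forall_exact_map_and_mono T).1
    inferInstance S hS).1, ?_⟩
  haveI := hS.epi_g
  infer_instance

lemma exactAt_map_succ (T : C ⥤ D) [T.Additive] [PreservesFiniteLimits T]
    [T.PreservesEpimorphisms] {Z : C} (I : InjectiveResolution Z) (n : ℕ) :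
    ((T.mapHomologicalComplex _).obj I.cocomplex).ExactAt (n + 1) := by
  haveI := preservesFiniteColimits_of_preservesEpi T
  have h : (I.cocomplex.sc (n + 1)).Exact := I.cocomplex_exactAt_succ n
  exact h.map T

/-- The higher right derived functors of an exact functor vanish. -/
theorem isZero_rightDerived_succ [HasInjectiveResolutions C] (T : C ⥤ D) [T.Additive]
    [PreservesFiniteLimits T] [T.PreservesEpimorphisms] (Z : C) (n : ℕ) :
    IsZero ((T.rightDerived (n + 1)).obj Z) := by
  let I : InjectiveResolution Z := Classical.choice (HasInjectiveResolution.out (Z := Z))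
  refine IsZero.of_iso ?_ (I.isoRightDerivedObj T (n + 1))
  exact (HomologicalComplex.exactAt_iff_isZero_homology _ _).1 (exactAt_map_succ T I n)

end abstract

/-- `R^{n+1} f_*` vanishes on direct images from pointlike schemes. -/
theorem isZero_Rpush_push {G X Y : Scheme.{u}} (hG : Pointlike G) (g : G ⟶ X) (f : X ⟶ Y)
    (Z : EtCoh.Ab G) (n : ℕ) :
    IsZero ((EtCoh.Rpush f (n + 1)).obj ((EtCoh.push g).obj Z)) := by
  let I : InjectiveResolution Z := Classical.choice (HasInjectiveResolution.out (Z := Z))
  haveI := push_preservesEpimorphisms hG g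
  haveI := push_preservesEpimorphisms hG (g ≫ f)
  have e := Groth.Agent.LD.SC.rightDerivedCompIso I (EtCoh.push g)
    (fun n => (EtCoh.push g).injective_obj _)
    (fun n => exactAt_map_succ _ I n) (EtCoh.push f) (EtCoh.push (g ≫ f))
    (EtCoh.pushComp f g) (n + 1)
  exact (isZero_rightDerived_succ (EtCoh.push (g ≫ f)) Z n).of_iso e

/-- `R^{n+1} g_*` vanishes for `g` with pointlike source. -/
theorem isZero_Rpush {G X : Scheme.{u}} (hG : Pointlike G) (g : G ⟶ X)
    (Z : EtCoh.Ab G) (n : ℕ) :
    IsZero ((EtCoh.Rpush g (n + 1)).obj Z) := by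
  haveI := push_preservesEpimorphisms hG g
  exact isZero_rightDerived_succ (EtCoh.push g) Z n

end Groth.Agent.H2.GeoPush
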