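import Mathlib
import Groth.Prelude.Def_EtCore
import Groth.Agent.Lib.Lead.Colim.Main
import Groth.Agent.Lib.Lead.AbPull.LerayGen
import Groth.Agent.Lib.Helper2.GeoPushB

/-! # A small model of the small étale site, and transfer of cohomology. -/

set_option autoImplicit false
set_option linter.style.haveILetI false
set_option linter.unusedVariables false
universe u
open CategoryTheory CategoryTheory.Limits AlgebraicGeometry Opposite Abelian

namespace Groth.Agent.H2.EtSmall

variable (X : Scheme.{u})

/-- small model of the étale site (morphisms lifted one universe up). -/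
abbrev SC : Type (u + 1) := ULiftHom.{u + 1} X.Etale

noncomputable instance : SmallCategory (SC X) :=
  inferInstanceAs (Category.{u + 1} (ULiftHom.{u + 1} X.Etale))

/-- the equivalence with the small model. -/
noncomputable abbrev eqv : X.Etale ≌ SC X := ULiftHom.equiv

/-- the transported topology. -/
noncomputable abbrev topo : GrothendieckTopology (SC X) :=
  (eqv X).inverse.inducedTopology X.smallEtaleTopology

noncomputable instance : HasPullbacks (SC X) :=
  Adjunction.hasLimitsOfShape_of_equivalence (eqv X).inverse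

/-- the equivalence of sheaf categories. -/
noncomputable abbrev Φ : EtCoh.Ab X ≌ Sheaf (topo X) AddCommGrpCat.{u + 1} :=
  (eqv X).sheafCongr X.smallEtaleTopology (topo X) AddCommGrpCat.{u + 1}

instance : (Φ X).functor.Additive where
  map_add := by
    intros
    rfl

/-- the object of the small model corresponding to `X` itself. -/
noncomputable abbrev topS : SC X := (eqv X).functor.obj (EtCoh.top X)

/-- the constant sheaf `ℤ`. -/
noncomputable abbrev constZ : EtCoh.Ab X :=
  (constantSheaf X.smallEtaleTopology AddCommGrpCat.{u + 1}).obj (AddCommGrpCat.of (ULift ℤ))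

/-- `Hom(ℤ, F) ≃ F(X)`. -/
noncomputable def constEquiv (F : EtCoh.Ab X) :
    (constZ X ⟶ F) ≃ F.obj.obj (op (EtCoh.top X)) :=
  (Ext.addEquiv₀ (X := constZ X) (Y := F)).symm.toEquiv.trans
    (Sheaf.H.equiv₀ F (EtCore.topIsTerminal X)).toEquiv

lemma constEquiv_comp {F G : EtCoh.Ab X} (φ : constZ X ⟶ F) (ψ : F ⟶ G) :
    constEquiv X G (φ ≫ ψ) = ψ.hom.app (op (EtCoh.top X)) (constEquiv X F φ) := by
  change Sheaf.H.equiv₀ G (EtCore.topIsTerminal X) (Ext.mk₀ (φ ≫ ψ)) =
    ψ.hom.app (op (EtCoh.top X)) (Sheaf.H.equiv₀ F (EtCore.topIsTerminal X) (Ext.mk₀ φ))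
  rw [Sheaf.H.equiv₀_naturality, Sheaf.H.map_apply, Ext.mk₀_comp_mk₀]

/-- the comparison of Hom sets. -/
noncomputable def homCmp (Q : EtCoh.Ab X) :
    (constZ X ⟶ Q) ≃ (LD.SC.ZU (topo X) (topS X) ⟶ (Φ X).functor.obj Q) :=
  (constEquiv X Q).trans (LD.SC.homEquiv (topS X) ((Φ X).functor.obj Q)).symm

lemma homCmp_comp {Q Q' : EtCoh.Ab X} (ψ : constZ X ⟶ Q) (g : Q ⟶ Q') :
    homCmp X Q' (ψ ≫ g) = homCmp X Q ψ ≫ (Φ X).functor.map g := by
  apply (LD.SC.homEquiv (topS X) ((Φ X).functor.obj Q')).injective
  rw [LD.SC.homEquiv_comp]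
  simp only [homCmp, Equiv.trans_apply]
  erw [Equiv.apply_symm_apply, Equiv.apply_symm_apply]
  exact constEquiv_comp X ψ g

instance : (Φ X).functor.PreservesInjectiveObjects :=
  Functor.preservesInjectiveObjects_of_adjunction_of_preservesMonomorphisms
    (Φ X).symm.toAdjunction

/-- **Transfer**: global étale cohomology agrees with cohomology on the small model. -/
theorem nonempty_ext_equiv (G : EtCoh.Ab X) (n : ℕ) :
    Nonempty (Ext.{u + 1} (constZ X) G n ≃+
      Ext.{u + 1} (LD.SC.ZU (topo X) (topS X)) ((Φ X).functor.obj G) n) := by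
  refine Groth.Agent.LD.AbPull.leray_of_isZero_rightDerived (Φ X).functor
    (LD.SC.ZU (topo X) (topS X)) (constZ X) (fun Q => homCmp X Q) ?_ ?_ G ?_ n
  · intro Q Q' ψ g
    exact homCmp_comp X ψ g
  · intro Q hQ
    exact (Φ X).functor.injective_obj Q
  · intro q
    exact GeoPush.isZero_rightDerived_succ (Φ X).functor G q

end Groth.Agent.H2.EtSmall
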