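import Mathlib
import Groth.Agent.Lib.Helper2.EtSmallA
import Groth.Agent.Lib.Helper2.SmEtSheafA

/-! # The quasi-compact quasi-separated objects form a `Basis` of the small model of the
étale site. -/

set_option autoImplicit false
set_option linter.style.haveILetI false
set_option linter.unusedVariables false
set_option linter.unusedSectionVars false
universe u
open CategoryTheory CategoryTheory.Limits AlgebraicGeometry Opposite

namespace Groth.Agent.H2.EtSmall

open Groth.Agent.H2.SmEtSheaf Groth.Agent.LD.Colim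

variable (X : Scheme.{u})

/-- the underlying scheme functor. -/
noncomputable abbrev Ψ : SC X ⥤ Scheme.{u} :=
  (eqv X).inverse ⋙ Scheme.Etale.forget X ⋙ Over.forget X

variable {X}

lemma mem_topo_iff {U : SC X} (T : Sieve U) :
    T ∈ topo X U ↔ ∀ x : ↥((Ψ X).obj U), ∃ (V : SC X) (f : V ⟶ U) (y : ↥((Ψ X).obj V)),
      T f ∧ (Ψ X).map f y = x := by
  rw [Functor.mem_inducedTopology_iff_of_isCoverDense, mem_Jet_iff]
  constructor
  · intro h x
    obtain ⟨Y, f, y, ⟨Z, g, h', hg, rfl⟩, hy⟩ := h x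
    exact ⟨Z, g, h'.left y, hg, hy⟩
  · intro h x
    obtain ⟨V, f, y, hf, hy⟩ := h x
    exact ⟨(eqv X).inverse.obj V, (eqv X).inverse.map f, y,
      ⟨V, f, 𝟙 _, hf, (Category.id_comp _).symm⟩, hy⟩

variable (X)

/-- quasi-compact quasi-separated objects. -/
def Bq : Set (SC X) :=
  {U | CompactSpace ↥((Ψ X).obj U) ∧ QuasiSeparatedSpace ↥((Ψ X).obj U)}

/-- finite jointly surjective families of qcqs objects over a qcqs object. -/
def Covq (U : SC X) (ι : Type (u + 1)) (Y : ι → Over U) : Prop :=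
  Finite ι ∧ U ∈ Bq X ∧ (∀ i, (Y i).left ∈ Bq X) ∧
    ∀ x : ↥((Ψ X).obj U), ∃ (i : ι) (y : ↥((Ψ X).obj (Y i).left)), (Ψ X).map (Y i).hom y = x

/-- objects quasi-compact and quasi-separated over `U`. -/
def Good {U : SC X} (W : Over U) : Prop :=
  QuasiCompact ((Ψ X).map W.hom) ∧ QuasiSeparated ((Ψ X).map W.hom)

variable {X}

lemma good_of_mem {U : SC X} (hU : U ∈ Bq X) (W : Over U) (hW : W.left ∈ Bq X) : Good X W := by
  haveI := hU.2
  haveI := hW.1
  haveI := hW.2
  exact ⟨inferInstance, inferInstance⟩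

lemma mem_of_good {U : SC X} (hU : U ∈ Bq X) (W : Over U) (hW : Good X W) : W.left ∈ Bq X := by
  haveI := hU.1
  haveI := hU.2
  haveI := hW.1
  haveI := hW.2
  exact ⟨QuasiCompact.compactSpace_of_compactSpace ((Ψ X).map W.hom),
    quasiSeparatedSpace_of_quasiSeparated ((Ψ X).map W.hom)⟩

lemma good_of_iso {U : SC X} {W W' : Over U} (e : W ≅ W') (hW : Good X W) : Good X W' := by
  have hw : W'.hom = e.inv.left ≫ W.hom := (Over.w e.inv).symm
  haveI := hW.1
  haveI := hW.2
  haveI : IsIso e.inv.left := inferInstance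
  haveI : IsIso ((Ψ X).map e.inv.left) := inferInstance
  unfold Good
  rw [hw, Functor.map_comp]
  exact ⟨inferInstance, inferInstance⟩

lemma good_of_isLimit_binaryFan {U : SC X} {Y Z : Over U} (hY : Good X Y) (hZ : Good X Z)
    (c : BinaryFan Y Z) (hc : IsLimit c) : Good X c.pt := by
  have sq := (Over.isPullback_of_binaryFan_isLimit c hc).map (Ψ X)
  have hw : c.pt.hom = c.fst.left ≫ Y.hom := (Over.w c.fst).symm
  haveI := hY.1
  haveI := hY.2
  have h1 : QuasiCompact ((Ψ X).map c.fst.left) :=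
    MorphismProperty.of_isPullback (P := @QuasiCompact) sq.flip hZ.1
  have h2 : QuasiSeparated ((Ψ X).map c.fst.left) :=
    MorphismProperty.of_isPullback (P := @QuasiSeparated) sq.flip hZ.2
  unfold Good
  rw [hw, Functor.map_comp]
  exact ⟨MorphismProperty.comp_mem (W := @QuasiCompact) _ _ h1 hY.1,
    MorphismProperty.comp_mem (W := @QuasiSeparated) _ _ h2 hY.2⟩

lemma good_of_isLimit_fan : ∀ (n : ℕ) {U : SC X} (f : Fin n → Over U), (∀ i, Good X (f i)) →
    ∀ (c : Fan f), IsLimit c → Good X c.pt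
  | 0, U, f, _, c, hc => by
    -- the apex is terminal
    let t : Fan f := Fan.mk (Over.mk (𝟙 U)) (fun i => Fin.elim0 i)
    let σ : Over.mk (𝟙 U) ⟶ c.pt := hc.lift t
    have h1 : σ.left ≫ c.pt.hom = 𝟙 U := Over.w σ
    have h2 : (Over.homMk c.pt.hom : c.pt ⟶ Over.mk (𝟙 U)) ≫ σ = 𝟙 c.pt :=
      hc.hom_ext (fun j => Fin.elim0 j.as)
    have h3 : c.pt.hom ≫ σ.left = 𝟙 c.pt.left := congrArg (fun m => m.left) h2
    haveI : IsIso c.pt.hom := ⟨σ.left, h3, h1⟩
    haveI : IsIso ((Ψ X).map c.pt.hom) := inferInstance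
    exact ⟨inferInstance, inferInstance⟩
  | n + 1, U, f, hf, c, hc => by
    let c₁ : Fan (fun i : Fin n => f i.succ) := Fan.mk _ (Pi.π (fun i : Fin n => f i.succ))
    have t₁ : IsLimit c₁ := productIsProduct _
    have g₁ : Good X c₁.pt := good_of_isLimit_fan n _ (fun i => hf i.succ) c₁ t₁
    let c₂ : BinaryFan (f 0) c₁.pt := BinaryFan.mk prod.fst prod.snd
    have t₂ : IsLimit c₂ := prodIsProd _ _
    have g₂ : Good X c₂.pt := good_of_isLimit_binaryFan (hf 0) g₁ c₂ t₂
    have t₃ := extendFanIsLimit f t₁ t₂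
    exact good_of_iso (t₃.conePointUniqueUpToIso hc) g₂

/-- Morphisms of étale `X`-schemes are étale. -/
lemma etale_left' {A B : X.Etale} (p : A ⟶ B) : AlgebraicGeometry.Etale p.left :=
  EtCoh.etaleMP.of_postcomp (W' := EtCoh.etaleMP) p.left B.hom B.prop
    (by rw [MorphismProperty.Over.w p]; exact A.prop)

/-- an affine open of an étale scheme, as an object. -/
noncomputable def openObj (V : X.Etale) (Vo : V.left.Opens) : X.Etale :=
  haveI : AlgebraicGeometry.Etale V.hom := V.prop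
  MorphismProperty.Over.mk ⊤ (Vo.ι ≫ V.hom) inferInstance

/-- its inclusion. -/
noncomputable def openIncl (V : X.Etale) (Vo : V.left.Opens) : openObj V Vo ⟶ V :=
  MorphismProperty.Over.homMk Vo.ι rfl

theorem basis_q : Basis (topo X) (Bq X) (Covq X) where
  h1 := by
    rintro U ι Y ⟨hfin, hU, hY, hcov⟩
    refine ⟨hfin, hU, ?_, ?_⟩
    · rw [mem_topo_iff]
      intro x
      obtain ⟨i, y, hy⟩ := hcov x
      exact ⟨(Y i).left, (Y i).hom, y, Sieve.ofArrows_mk _ _ i, hy⟩
    · intro p a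
      apply mem_of_good hU
      exact good_of_isLimit_fan (p + 1) (fun k => Y (a k))
        (fun k => good_of_mem hU _ (hY (a k))) _ (productIsProduct _)
  h2 := by
    rintro U hU T hT
    rw [mem_topo_iff] at hT
    choose V f y hf hy using hT
    -- affine open neighbourhoods
    have hA : ∀ x : ↥((Ψ X).obj U), ∃ W : ((Ψ X).obj (V x)).Opens, IsAffineOpen W ∧ y x ∈ W := by
      intro x
      obtain ⟨_, ⟨W, hW : IsAffineOpen W, rfl⟩, hyW, -⟩ :=
        ((Ψ X).obj (V x)).isBasis_affineOpens.exists_subset_of_mem_open (Set.mem_univ (y x))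
          isOpen_univ
      exact ⟨W, hW, hyW⟩
    choose W hW hyW using hA
    haveI := hU.1
    have hopen : ∀ x, IsOpen ((Ψ X).map (f x) '' (W x : Set ↥((Ψ X).obj (V x)))) := by
      intro x
      haveI : AlgebraicGeometry.Etale ((Ψ X).map (f x)) := etale_left' ((eqv X).inverse.map (f x))
      exact ((Ψ X).map (f x)).isOpenMap _ (W x).isOpen
    obtain ⟨t, ht⟩ := isCompact_univ.elim_finite_subcover
      (fun x => (Ψ X).map (f x) '' (W x : Set ↥((Ψ X).obj (V x)))) hopen
      (fun x _ => Set.mem_iUnion.mpr ⟨x, ⟨y x, hyW x, hy x⟩⟩)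
    let O : {x // x ∈ t} → SC X := fun x =>
      (eqv X).functor.obj (openObj ((eqv X).inverse.obj (V x.1)) (W x.1))
    let g : ∀ x : {x // x ∈ t}, O x ⟶ V x.1 := fun x =>
      (eqv X).functor.map (openIncl ((eqv X).inverse.obj (V x.1)) (W x.1))
    refine ⟨ULift.{u + 1} {x // x ∈ t}, fun x => Over.mk (g x.down ≫ f x.down.1),
      ⟨inferInstance, hU, ?_, ?_⟩, ?_⟩
    · intro x
      haveI : IsAffine (W x.down.1).toScheme := hW x.down.1
      exact ⟨inferInstanceAs (CompactSpace ↥(W x.down.1).toScheme),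
        inferInstanceAs (QuasiSeparatedSpace ↥(W x.down.1).toScheme)⟩
    · intro z
      obtain ⟨x, hx⟩ := Set.mem_iUnion.mp (ht (Set.mem_univ z))
      obtain ⟨hxt, w, hw, hwz⟩ := Set.mem_iUnion.mp hx
      exact ⟨⟨⟨x, hxt⟩⟩, ⟨w, hw⟩, hwz⟩
    · intro x
      exact T.downward_closed (hf x.down.1) (g x.down)

end Groth.Agent.H2.EtSmall
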