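import Mathlib
import Groth.Agent.Lib.Helper2.EtSmallC

/-! # Étale cohomology of a qcqs scheme commutes with filtered colimits: small index categories
in the universe of the scheme. -/

set_option autoImplicit false
set_option linter.style.haveILetI false
universe u
open CategoryTheory CategoryTheory.Limits AlgebraicGeometry Opposite

namespace Groth.Agent.H2.EtSmall

/-- a copy of a `u`-small category in `Type (u+1)`. -/
abbrev LiftCat (J : Type u) [SmallCategory J] : Type (u + 1) := AsSmall.{u + 1} J

noncomputable instance (J : Type u) [SmallCategory J] : SmallCategory (LiftCat J) :=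
  inferInstanceAs (SmallCategory (AsSmall.{u + 1} J))

/-- the equivalence with the lifted copy. -/
noncomputable abbrev liftEquiv (J : Type u) [SmallCategory J] : J ≌ LiftCat J := AsSmall.equiv

instance (J : Type u) [SmallCategory J] [IsFiltered J] : IsFiltered (LiftCat J) :=
  IsFiltered.of_equivalence (liftEquiv J)

theorem preservesColimitsOfShape_HF (X : Scheme.{u}) [CompactSpace X] [QuasiSeparatedSpace X]
    (n : ℕ) (J : Type u) [SmallCategory J] [IsFiltered J] :
    PreservesColimitsOfShape J (EtCoh.HF X n) := by
  haveI : PreservesColimitsOfShape (LiftCat J) (EtCoh.HF X n) :=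
    ⟨fun {D} => preservesColimit_HF X n D⟩
  exact preservesColimitsOfShape_of_equiv (liftEquiv J).symm (EtCoh.HF X n)

end Groth.Agent.H2.EtSmall
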