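import Mathlib
import Groth.Agent.Lib.Helper2.EtSmallD
import Groth.Agent.Lib.Lead.SC.CohPsh4
import Groth.Agent.Lib.Lead.RS.Natural

/-! # Higher direct images of étale sheaves as sheafified cohomology (on the small models). -/

set_option autoImplicit false
set_option linter.style.haveILetI false
set_option linter.unusedVariables false
set_option linter.unusedSectionVars false
universe u
open CategoryTheory CategoryTheory.Limits AlgebraicGeometry Opposite Abelian

namespace Groth.Agent.H2.EtRpush
open Groth.Agent.H2.EtSmall Groth.Agent.LD.SC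

variable {X Y : Scheme.{u}} (f : X ⟶ Y)

/-- base change on the small models. -/
noncomputable abbrev bcS : SC Y ⥤ SC X := (eqv Y).inverse ⋙ EtCoh.bc f ⋙ (eqv X).functor

instance : (bcS f).IsContinuous (topo Y) (topo X) := by
  haveI : (EtCoh.bc f ⋙ (eqv X).functor).IsContinuous Y.smallEtaleTopology (topo X) :=
    Functor.isContinuous_comp _ _ _ X.smallEtaleTopology _
  exact Functor.isContinuous_comp _ _ _ Y.smallEtaleTopology _

/-- compatibility of direct images with the small models. -/
noncomputable def pushCmp :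
    (Φ X).functor ⋙ pushS (topo X) (topo Y) (bcS f) ≅ EtCoh.push f ⋙ (Φ Y).functor :=
  NatIso.ofComponents (fun G => Iso.refl _) (by intros; rfl)

instance : (EtCoh.push f ⋙ (Φ Y).functor).Additive := inferInstance

/-- an exact functor is acyclic for the trivial class. -/
lemma acycClass_true {ℬ 𝒞 : Type*} [Category ℬ] [Abelian ℬ] [Category 𝒞] [Abelian 𝒞]
    (G : ℬ ⥤ 𝒞) [G.Additive] [G.PreservesEpimorphisms] :
    Groth.Agent.LD.RS.AcycClass G (fun _ => True) where
  iso _ _ := trivial
  epi S hS _ := by
    haveI := hS.epi_g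
    infer_instance
  coker _ _ _ _ := trivial
  ext _ _ _ _ := trivial

/-- **`Rⁿ f_* F`, on the small model of `Y`, is the sheafification of `V ↦ Hⁿ(X ×_Y V, F)`.** -/
theorem nonempty_Rpush_iso (F : EtCoh.Ab X) (n : ℕ) :
    Nonempty ((Φ Y).functor.obj ((EtCoh.Rpush f n).obj F) ≅
      (presheafToSheaf (topo Y) AddCommGrpCat.{u + 1}).obj
        ((bcS f).op ⋙ Sheaf.cohomologyPresheaf.{u + 1} ((Φ X).functor.obj F) n)) := by
  let I : InjectiveResolution F := Classical.choice (HasInjectiveResolution.out (Z := F))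
  have e1 := rightDerivedCompIso I (Φ X).functor
    (fun n => (Φ X).functor.injective_obj _)
    (fun n => Groth.Agent.H2.GeoPush.exactAt_map_succ _ I n)
    (pushS (topo X) (topo Y) (bcS f)) (EtCoh.push f ⋙ (Φ Y).functor) (pushCmp f) n
  have e2 := Groth.Agent.LD.RS.compIso (EtCoh.push f) (Φ Y).functor
    (acycClass_true (Φ Y).functor) (fun _ _ => trivial) F (fun _ => trivial) n
  obtain ⟨e3⟩ := nonempty_rightDerived_push_iso (topo X) (topo Y) (bcS f) ((Φ X).functor.obj F) n
  exact ⟨e2.symm ≪≫ e1.symm ≪≫ e3⟩

end Groth.Agent.H2.EtRpush
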