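import Mathlib
import Groth.Prelude.Def_EtZar
import Groth.Agent.Lib.Helper2.EtRpushA

/-! # A small model of the Zariski site, and `Rⁿ ε_* G` as a sheafified cohomology presheaf
(`ε : X_ét → X_Zar`). -/

set_option autoImplicit false
set_option linter.style.haveILetI false
set_option linter.unusedVariables false
set_option linter.unusedSectionVars false
universe u
open CategoryTheory CategoryTheory.Limits AlgebraicGeometry Opposite Abelian TopologicalSpace

namespace Groth.Agent.H2.Zar
open Groth.Agent.H2.EtSmall Groth.Agent.LD.SC Groth.Agent.H2.EtRpush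

variable (X : Scheme.{u})

/-- small model of the Zariski site. -/
abbrev OZ : Type (u + 1) := ULiftHom.{u + 1} (ULift.{u + 1} X.Opens)

noncomputable instance : SmallCategory (OZ X) :=
  @ULiftHom.category (ULift.{u + 1} X.Opens) (uliftCategory X.Opens)

/-- the equivalence with the small model. -/
noncomputable abbrev eqvZ : X.Opens ≌ OZ X := ULiftHomULiftCategory.equiv.{u + 1, u + 1} X.Opens

/-- the transported topology. -/
noncomputable abbrev topoZ : GrothendieckTopology (OZ X) :=
  (eqvZ X).inverse.inducedTopology (Opens.grothendieckTopology X)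

/-- the equivalence of sheaf categories. -/
noncomputable abbrev ΦZ : EtZar.Ab X ≌ Sheaf (topoZ X) AddCommGrpCat.{u + 1} :=
  (eqvZ X).sheafCongr (Opens.grothendieckTopology X) (topoZ X) AddCommGrpCat.{u + 1}

instance : (ΦZ X).functor.Additive where
  map_add := by
    intros
    rfl

instance : (ΦZ X).functor.PreservesInjectiveObjects :=
  Functor.preservesInjectiveObjects_of_adjunction_of_preservesMonomorphisms
    (ΦZ X).symm.toAdjunction

variable [EtZar.ZarCont X]

/-- opens to étale schemes, on the small models. -/
noncomputable abbrev zS : OZ X ⥤ SC X := (eqvZ X).inverse ⋙ EtZar.zarToEt X ⋙ (eqv X).functor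

instance : (zS X).IsContinuous (topoZ X) (topo X) := by
  haveI : (EtZar.zarToEt X ⋙ (eqv X).functor).IsContinuous (Opens.grothendieckTopology X)
      (topo X) :=
    Functor.isContinuous_comp _ _ _ X.smallEtaleTopology _
  exact Functor.isContinuous_comp _ _ _ (Opens.grothendieckTopology X) _

instance : (EtZar.resZar X).Additive where

/-- compatibility of restriction with the small models. -/
noncomputable def resCmp :
    (Φ X).functor ⋙ pushS (topo X) (topoZ X) (zS X) ≅ EtZar.resZar X ⋙ (ΦZ X).functor :=
  NatIso.ofComponents (fun G => Iso.refl _) (by intros; rfl)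

instance : (EtZar.resZar X ⋙ (ΦZ X).functor).Additive := inferInstance

/-- **`Rⁿ ε_* G`, on the small model, is the sheafification of `U ↦ Hⁿ(U_ét, G)`.** -/
theorem nonempty_Rres_iso (G : EtCoh.Ab X) (n : ℕ) :
    Nonempty ((ΦZ X).functor.obj (((EtZar.resZar X).rightDerived n).obj G) ≅
      (presheafToSheaf (topoZ X) AddCommGrpCat.{u + 1}).obj
        ((zS X).op ⋙ Sheaf.cohomologyPresheaf.{u + 1} ((Φ X).functor.obj G) n)) := by
  let I : InjectiveResolution G := Classical.choice (HasInjectiveResolution.out (Z := G))
  have e1 := rightDerivedCompIso I (Φ X).functor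
    (fun n => (Φ X).functor.injective_obj _)
    (fun n => Groth.Agent.H2.GeoPush.exactAt_map_succ _ I n)
    (pushS (topo X) (topoZ X) (zS X)) (EtZar.resZar X ⋙ (ΦZ X).functor) (resCmp X) n
  have e2 := Groth.Agent.LD.RS.compIso (EtZar.resZar X) (ΦZ X).functor
    (acycClass_true (ΦZ X).functor) (fun _ _ => trivial) G (fun _ => trivial) n
  obtain ⟨e3⟩ := nonempty_rightDerived_push_iso (topo X) (topoZ X) (zS X) ((Φ X).functor.obj G) n
  exact ⟨e2.symm ≪≫ e1.symm ≪≫ e3⟩

end Groth.Agent.H2.Zar
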