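import Mathlib
import Groth.Agent.Lib.Helper2.ZarA
import Groth.Agent.Lib.Helper6.ShLocEx

/-! # A criterion for the vanishing of `Rⁿ ε_* G`. -/

set_option autoImplicit false
set_option linter.style.haveILetI false
set_option linter.unusedVariables false
set_option linter.unusedSectionVars false
universe u
open CategoryTheory CategoryTheory.Limits AlgebraicGeometry Opposite Abelian TopologicalSpace

namespace Groth.Agent.H2.Zar
open Groth.Agent.H2.EtSmall Groth.Agent.LD.SC Groth.Agent.H2.EtRpush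

variable (X : Scheme.{u})

lemma mem_topoZ_iff {U : OZ X} (T : Sieve U) :
    T ∈ topoZ X U ↔ ∀ x ∈ ((eqvZ X).inverse.obj U : X.Opens),
      ∃ (V : OZ X) (f : V ⟶ U), T f ∧ x ∈ ((eqvZ X).inverse.obj V : X.Opens) := by
  rw [Functor.mem_inducedTopology_iff_of_isCoverDense]
  constructor
  · intro h x hx
    obtain ⟨W, g, ⟨Z, g', h', hg, rfl⟩, hxW⟩ := h x hx
    exact ⟨Z, g', hg, h'.le hxW⟩
  · intro h x hx
    obtain ⟨V, f, hf, hxV⟩ := h x hx
    exact ⟨(eqvZ X).inverse.obj V, (eqvZ X).inverse.map f,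
      ⟨V, f, 𝟙 _, hf, (Category.id_comp _).symm⟩, hxV⟩

variable [EtZar.ZarCont X]

/-- the object of the small étale model attached to an open. -/
noncomputable abbrev opS (U : X.Opens) : SC X := (eqv X).functor.obj ((EtZar.zarToEt X).obj U)

/-- the inclusion of opens, on the small étale model. -/
noncomputable abbrev opMap {U₁ U : X.Opens} (h : U₁ ≤ U) : opS X U₁ ⟶ opS X U :=
  (eqv X).functor.map ((EtZar.zarToEt X).map (homOfLE h))

/-- **vanishing criterion**: if every class in `Hⁿ(U_ét, G)` (`U` open) dies Zariski-locally on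
`U`, then `Rⁿ ε_* G = 0`. -/
theorem isZero_Rres_of_forall (G : EtCoh.Ab X) (n : ℕ)
    (H : ∀ (U : X.Opens) (β : Ext (ZU (topo X) (opS X U)) ((Φ X).functor.obj G) n) (x : X),
      x ∈ U → ∃ (U₁ : X.Opens) (h : U₁ ≤ U), x ∈ U₁ ∧ Hres (opMap X h) β = 0) :
    IsZero (((EtZar.resZar X).rightDerived n).obj G) := by
  obtain ⟨e⟩ := nonempty_Rres_iso X G n
  have h0 : IsZero ((presheafToSheaf (topoZ X) AddCommGrpCat.{u + 1}).obj
      ((zS X).op ⋙ Sheaf.cohomologyPresheaf.{u + 1} ((Φ X).functor.obj G) n)) := by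
    apply Groth.Agent.H6.ShLocEx.isZero_sheafify_of_locally_zero
    intro U' β
    let U : X.Opens := (eqvZ X).inverse.obj U'
    let T : Sieve U' :=
      { arrows := fun V f => Hres ((zS X).map f) (show Ext (ZU (topo X) ((zS X).obj U'))
          ((Φ X).functor.obj G) n from β) = 0
        downward_closed := by
          intro V W f hf g
          change Hres ((zS X).map (g ≫ f)) _ = 0
          rw [Functor.map_comp, Hres_comp, hf, Hres_zero] }
    refine ⟨T, ?_, fun V f hf => hf⟩
    rw [mem_topoZ_iff]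
    intro x hx
    obtain ⟨U₁, h, hx₁, hβ⟩ := H U β x hx
    refine ⟨(eqvZ X).functor.obj U₁, (eqvZ X).functor.map (homOfLE h), ?_, hx₁⟩
    exact hβ
  have h1 : IsZero ((ΦZ X).functor.obj (((EtZar.resZar X).rightDerived n).obj G)) := h0.of_iso e
  exact IsZero.of_iso ((ΦZ X).inverse.map_isZero h1) ((ΦZ X).unitIso.app _)

end Groth.Agent.H2.Zar
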