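import Mathlib
import Groth.Prelude.Def_EtZar
import Groth.Agent.Lib.Helper7.GT1
import Groth.Agent.Lib.Helper7.GT2

/-! # The restriction `ε_*` from étale to Zariski sheaves preserves injectives. -/

set_option autoImplicit false
set_option linter.style.haveILetI false
set_option linter.unusedVariables false
set_option linter.unusedSectionVars false
universe u
open CategoryTheory CategoryTheory.Limits AlgebraicGeometry Opposite TopologicalSpace

namespace Groth.Agent.H2.Zar

instance ab5uu : AB5OfSize.{u, u} AddCommGrpCat.{u + 1} :=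
  AB5OfSize_of_univLE.{u, u, u + 1, u + 1} AddCommGrpCat.{u + 1}

instance ab4u : AB4OfSize.{u} AddCommGrpCat.{u + 1} :=
  AB4OfSize_shrink.{u, u + 1} AddCommGrpCat.{u + 1}

variable (X : Scheme.{u})

lemma isPullback_opens {U V W : X.Opens} (f : U ⟶ W) (g : V ⟶ W) :
    IsPullback (homOfLE inf_le_left : U ⊓ V ⟶ U) (homOfLE inf_le_right : U ⊓ V ⟶ V) f g :=
  { w := Subsingleton.elim _ _
    isLimit' := ⟨PullbackCone.IsLimit.mk _ (fun s => homOfLE (le_inf s.fst.le s.snd.le))
      (fun _ => Subsingleton.elim _ _) (fun _ => Subsingleton.elim _ _)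
      (fun _ _ _ _ => Subsingleton.elim _ _)⟩ }

set_option backward.isDefEq.respectTransparency.types false in
lemma isPullback_zarToEt {U V W : X.Opens} (f : U ⟶ W) (g : V ⟶ W) :
    IsPullback ((EtZar.zarToEt X).map (homOfLE inf_le_left : U ⊓ V ⟶ U))
      ((EtZar.zarToEt X).map (homOfLE inf_le_right : U ⊓ V ⟶ V))
      ((EtZar.zarToEt X).map f) ((EtZar.zarToEt X).map g) := by
  have hP := isPullback_opens_inf_le (X := X) f.le g.le
  refine ⟨⟨by rw [← Functor.map_comp, ← Functor.map_comp]; congr 1⟩, ⟨?_⟩⟩
  refine PullbackCone.IsLimit.mk _ (fun s => ?_) (fun s => ?_) (fun s => ?_) (fun s m h1 h2 => ?_)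
  · have hc : s.fst.left ≫ X.homOfLE f.le = s.snd.left ≫ X.homOfLE g.le :=
      congrArg (fun φ => φ.left) s.condition
    refine MorphismProperty.Over.homMk (hP.lift s.fst.left s.snd.left hc) ?_
    have h1 : hP.lift s.fst.left s.snd.left hc ≫ X.homOfLE inf_le_left = s.fst.left :=
      hP.lift_fst _ _ _
    have h2 : s.fst.left ≫ U.ι = s.pt.hom := MorphismProperty.Over.w s.fst
    change hP.lift s.fst.left s.snd.left hc ≫ (U ⊓ V).ι = s.pt.hom
    calc hP.lift s.fst.left s.snd.left hc ≫ (U ⊓ V).ι
        = hP.lift s.fst.left s.snd.left hc ≫ (X.homOfLE inf_le_left ≫ U.ι) := by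
          rw [X.homOfLE_ι]
      _ = (hP.lift s.fst.left s.snd.left hc ≫ X.homOfLE inf_le_left) ≫ U.ι :=
          (Category.assoc _ _ _).symm
      _ = s.fst.left ≫ U.ι := congrArg (· ≫ U.ι) h1
      _ = s.pt.hom := h2
  · apply MorphismProperty.Over.Hom.ext
    exact hP.lift_fst _ _ _
  · apply MorphismProperty.Over.Hom.ext
    exact hP.lift_snd _ _ _
  · apply MorphismProperty.Over.Hom.ext
    apply hP.hom_ext
    · exact (congrArg (fun φ => φ.left) h1).trans (hP.lift_fst _ _ _).symm
    · exact (congrArg (fun φ => φ.left) h2).trans (hP.lift_snd _ _ _).symm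

instance preservesPullbacks_zarToEt :
    PreservesLimitsOfShape WalkingCospan (EtZar.zarToEt X) where
  preservesLimit {K} := by
    haveI : PreservesLimit (cospan (K.map WalkingCospan.Hom.inl) (K.map WalkingCospan.Hom.inr))
        (EtZar.zarToEt X) :=
      preservesLimit_of_preserves_limit_cone
        (isPullback_opens X (K.map WalkingCospan.Hom.inl) (K.map WalkingCospan.Hom.inr)).isLimit
        ((isLimitMapConePullbackConeEquiv (EtZar.zarToEt X)
          (isPullback_opens X (K.map WalkingCospan.Hom.inl) (K.map WalkingCospan.Hom.inr)).w).symm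
          (isPullback_zarToEt X (K.map WalkingCospan.Hom.inl)
            (K.map WalkingCospan.Hom.inr)).isLimit)
    exact preservesLimit_of_iso_diagram (EtZar.zarToEt X) (diagramIsoCospan K).symm

instance preservesEqualizers_zarToEt :
    PreservesLimitsOfShape WalkingParallelPair (EtZar.zarToEt X) where
  preservesLimit {K} := by
    have h : K.map WalkingParallelPairHom.left = K.map WalkingParallelPairHom.right :=
      Subsingleton.elim _ _
    haveI : PreservesLimit (parallelPair (K.map WalkingParallelPairHom.left)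
        (K.map WalkingParallelPairHom.right)) (EtZar.zarToEt X) := by
      refine preservesLimit_of_preserves_limit_cone (isLimitIdFork h)
        ((isLimitMapConeForkEquiv (EtZar.zarToEt X) _).symm ?_)
      refine Fork.IsLimit.mk _ (fun s => s.ι) (fun s => ?_) (fun s m hm => ?_)
      · change s.ι ≫ (EtZar.zarToEt X).map (𝟙 _) = s.ι
        rw [CategoryTheory.Functor.map_id, Category.comp_id]
      · have e : (EtZar.zarToEt X).map (𝟙 (K.obj WalkingParallelPair.zero)) = 𝟙 _ :=
          CategoryTheory.Functor.map_id _ _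
        have hm' : m ≫ (EtZar.zarToEt X).map (𝟙 (K.obj WalkingParallelPair.zero)) = s.ι := hm
        calc m = m ≫ 𝟙 _ := (Category.comp_id m).symm
          _ = m ≫ (EtZar.zarToEt X).map (𝟙 (K.obj WalkingParallelPair.zero)) :=
              congrArg (m ≫ ·) e.symm
          _ = s.ι := hm'
    exact preservesLimit_of_iso_diagram (EtZar.zarToEt X) (diagramIsoParallelPair K).symm

variable [EtZar.ZarCont X]

instance preservesFiniteLimits_zarPull :
    PreservesFiniteLimits ((EtZar.zarToEt X).sheafPullback AddCommGrpCat.{u + 1}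
      (Opens.grothendieckTopology X) X.smallEtaleTopology) :=
  Groth.Agent.H7.GT.sheafPullback_preservesFiniteLimits (EtZar.zarToEt X) AddCommGrpCat.{u + 1}
    (Opens.grothendieckTopology X) X.smallEtaleTopology

/-- the adjunction `ε⁻¹ ⊣ ε_*`. -/
noncomputable def zarAdj :
    (EtZar.zarToEt X).sheafPullback AddCommGrpCat.{u + 1} (Opens.grothendieckTopology X)
      X.smallEtaleTopology ⊣ EtZar.resZar X :=
  (EtZar.zarToEt X).sheafAdjunctionContinuous AddCommGrpCat.{u + 1}
    (Opens.grothendieckTopology X) X.smallEtaleTopology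

instance preservesInjectiveObjects_resZar : (EtZar.resZar X).PreservesInjectiveObjects :=
  Functor.preservesInjectiveObjects_of_adjunction_of_preservesMonomorphisms (zarAdj X)

end Groth.Agent.H2.Zar
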