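import Mathlib
import Groth.Agent.Lib.Helper2.ZarB
import Groth.Agent.Lib.Helper2.ZarC
import Groth.Agent.Lib.Helper2.EtSmallB
import Groth.Agent.Lib.Lead.SC.MV

/-! # Mayer–Vietoris squares of opens on the small model of the étale site. -/

set_option autoImplicit false
set_option linter.style.haveILetI false
set_option linter.unusedVariables false
set_option linter.unusedSectionVars false
universe u
open CategoryTheory CategoryTheory.Limits AlgebraicGeometry Opposite Abelian TopologicalSpace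

namespace Groth.Agent.H2.Zar
open Groth.Agent.H2.EtSmall Groth.Agent.LD.SC

variable (X : Scheme.{u})

set_option backward.isDefEq.respectTransparency.types false in
lemma hom_zarToEt_ext' {T : X.Etale} {U : X.Opens} (a b : T ⟶ (EtZar.zarToEt X).obj U) :
    a = b := by
  apply MorphismProperty.Over.Hom.ext
  have ha : a.left ≫ U.ι = T.hom := MorphismProperty.Over.w a
  have hb : b.left ≫ U.ι = T.hom := MorphismProperty.Over.w b
  exact (cancel_mono U.ι).1 (ha.trans hb.symm)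

lemma hom_opS_ext {T : SC X} {U : X.Opens} (a b : T ⟶ opS X U) : a = b := by
  have h : (eqv X).inverse.map a = (eqv X).inverse.map b := hom_zarToEt_ext' X _ _
  exact (eqv X).inverse.map_injective h

instance mono_opMap {U₁ U : X.Opens} (h : U₁ ≤ U) : Mono (opMap X h) :=
  ⟨fun a b _ => hom_opS_ext X (U := U₁) a b⟩

/-- the square of two opens. -/
noncomputable def sqOpens (U V : X.Opens) : Square (SC X) where
  X₁ := opS X (U ⊓ V)
  X₂ := opS X U
  X₃ := opS X V
  X₄ := opS X (U ⊔ V)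
  f₁₂ := opMap X inf_le_left
  f₁₃ := opMap X inf_le_right
  f₂₄ := opMap X le_sup_left
  f₃₄ := opMap X le_sup_right
  fac := hom_opS_ext X _ _

instance (U V : X.Opens) : Mono (sqOpens X U V).f₂₄ := mono_opMap X _
instance (U V : X.Opens) : Mono (sqOpens X U V).f₃₄ := mono_opMap X _

lemma sqOpens_isPullback (U V : X.Opens) : (sqOpens X U V).IsPullback := by
  have h := isPullback_zarToEt X (homOfLE (le_sup_left : U ≤ U ⊔ V))
    (homOfLE (le_sup_right : V ≤ U ⊔ V))
  exact h.map (eqv X).functor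

lemma sqOpens_covering (U V : X.Opens) :
    Sieve.ofTwoArrows (sqOpens X U V).f₂₄ (sqOpens X U V).f₃₄ ∈ topo X (sqOpens X U V).X₄ := by
  rw [mem_topo_iff]
  intro x
  have hx : (x : (U ⊔ V).toScheme).1 ∈ U ⊔ V := x.2
  rcases hx with hx | hx
  · refine ⟨opS X U, opMap X le_sup_left, (⟨x.1, hx⟩ : U.toScheme),
      Sieve.ofArrows_mk _ _ WalkingPair.left, ?_⟩
    exact X.homOfLE_apply' (le_sup_left : U ≤ U ⊔ V) x.1 hx
  · refine ⟨opS X V, opMap X le_sup_right, (⟨x.1, hx⟩ : V.toScheme),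
      Sieve.ofArrows_mk _ _ WalkingPair.right, ?_⟩
    exact X.homOfLE_apply' (le_sup_right : V ≤ U ⊔ V) x.1 hx

/-- the Mayer–Vietoris square of two opens. -/
noncomputable def mvOpens (U V : X.Opens) : (topo X).MayerVietorisSquare :=
  GrothendieckTopology.MayerVietorisSquare.mk_of_isPullback (sqOpens X U V)
    (sqOpens_isPullback X U V) (sqOpens_covering X U V)

lemma subsingleton_obj_opS_bot (G : Sheaf (topo X) AddCommGrpCat.{u + 1}) :
    Subsingleton (G.obj.obj (op (opS X ⊥))) := by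
  have hbot : (⊥ : Sieve (opS X ⊥)) ∈ topo X (opS X ⊥) := by
    rw [mem_topo_iff]
    intro x
    exact ((x : (⊥ : X.Opens).toScheme).2 : _ ∈ (⊥ : X.Opens)).elim
  have hG : Presieve.IsSheaf (topo X) (G.obj ⋙ forget AddCommGrpCat.{u + 1}) :=
    (isSheaf_iff_isSheaf_of_type _ _).1
      ((Presheaf.isSheaf_iff_isSheaf_forget (topo X) G.obj (forget AddCommGrpCat.{u + 1})).1
        G.property)
  refine ⟨fun s t => ?_⟩
  exact (hG _ hbot).isSeparatedFor.ext (fun Y f hf => hf.elim)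

lemma isZero_ZU_opS_bot : IsZero (ZU (topo X) (opS X ⊥)) := by
  rw [IsZero.iff_id_eq_zero]
  apply (homEquiv (opS X ⊥) _).injective
  haveI := subsingleton_obj_opS_bot X (ZU (topo X) (opS X ⊥))
  exact Subsingleton.elim _ _

lemma ext_opS_bot_eq_zero {G : Sheaf (topo X) AddCommGrpCat.{u + 1}} {n : ℕ}
    (ξ : Ext (ZU (topo X) (opS X ⊥)) G n) : ξ = 0 := by
  have h : ξ = (Ext.mk₀ (𝟙 _)).comp ξ (zero_add n) := by simp
  rw [h, (isZero_ZU_opS_bot X).eq_of_src (𝟙 _) 0, Ext.mk₀_zero, Ext.zero_comp]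

/-- a class vanishing on both pieces of a disjoint open decomposition vanishes. -/
theorem ext_eq_zero_of_disjoint (G : Sheaf (topo X) AddCommGrpCat.{u + 1}) (W₁ W₂ : X.Opens)
    (hd : W₁ ⊓ W₂ = ⊥) (n : ℕ) (ξ : Ext (ZU (topo X) (opS X (W₁ ⊔ W₂))) G (n + 1))
    (h1 : Hres (opMap X (le_sup_left : W₁ ≤ W₁ ⊔ W₂)) ξ = 0)
    (h2 : Hres (opMap X (le_sup_right : W₂ ≤ W₁ ⊔ W₂)) ξ = 0) : ξ = 0 := by
  have hsub : ∀ m : ℕ, Subsingleton (Ext (ZU (topo X) (mvOpens X W₁ W₂).X₁) G m) := by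
    intro m
    change Subsingleton (Ext (ZU (topo X) (opS X (W₁ ⊓ W₂))) G m)
    rw [hd]
    exact ⟨fun a b => (ext_opS_bot_eq_zero X a).trans (ext_opS_bot_eq_zero X b).symm⟩
  rcases n with _ | n
  · refine MV_eq_zero_one (mvOpens X W₁ W₂) G ξ h1 h2 ?_
    intro s
    have hs : Subsingleton (G.obj.obj (op (mvOpens X W₁ W₂).X₁)) := by
      change Subsingleton (G.obj.obj (op (opS X (W₁ ⊓ W₂))))
      rw [hd]
      exact subsingleton_obj_opS_bot X G
    exact ⟨0, 0, Subsingleton.elim _ _⟩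
  · exact MV_eq_zero_succ (mvOpens X W₁ W₂) G n ξ h1 h2 (hsub (n + 1))

end Groth.Agent.H2.Zar
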