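import Mathlib
import Groth.Prelude.Def_EtZar
import Groth.Agent.Lib.Helper2.GbrA
import Groth.Agent.Lib.Helper2.HpullA
import Groth.Agent.Lib.Helper2.ZarG

/-! # Sections over two opens: surjectivity from injectivity on `H¹` (étale sheaves). -/

set_option autoImplicit false
set_option linter.style.haveILetI false
set_option linter.unusedVariables false
set_option linter.unusedSectionVars false

universe u

open CategoryTheory CategoryTheory.Limits Abelian Opposite AlgebraicGeometry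

namespace Groth.Agent.H2.Gbr
open Groth.Agent.H7.EX Groth.Agent.H7.ES Groth.Agent.H2.HpullA

variable {X : Scheme.{u}} (F : EtCoh.Ab X) {U₀ V W : X.Opens} (hV : V ≤ U₀) (hW : W ≤ U₀)

/-- transfer of the injectivity hypothesis from `j⁻¹F` to the restriction of `F`. -/
lemma hinj_restr
    (hk : ∀ ξ : EtCoh.H ↑U₀ ((EtCoh.pull U₀.ι).obj F) 1,
      EtCore.HpullVia (X.homOfLE hV) U₀.ι V.ι (X.homOfLE_ι hV) F 1 ξ = 0 →
      EtCore.HpullVia (X.homOfLE hW) U₀.ι W.ι (X.homOfLE_ι hW) F 1 ξ = 0 → ξ = 0)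
    (ξ : EtCoh.H ↑U₀ ((EtShriek.restrAlong U₀.ι).obj F) 1)
    (h1 : EtCore.Hpull (X.homOfLE hV) _ 1 ξ = 0) (h2 : EtCore.Hpull (X.homOfLE hW) _ 1 ξ = 0) :
    ξ = 0 := by
  let e := (pullIsoRestr U₀.ι).app F
  have h0 : Sheaf.H.map e.inv 1 ξ = 0 := by
    apply hk
    · have h4 : EtCore.Hpull (X.homOfLE hV) _ 1 (Sheaf.H.map e.inv 1 ξ) = 0 := by
        rw [Hpull_naturality, h1, map_zero]
      change ((EtCoh.HF _ 1).map _).hom (EtCore.Hpull (X.homOfLE hV) _ 1 (Sheaf.H.map e.inv 1 ξ)) = 0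
      exact (congrArg _ h4).trans (AddMonoidHom.map_zero _)
    · have h4 : EtCore.Hpull (X.homOfLE hW) _ 1 (Sheaf.H.map e.inv 1 ξ) = 0 := by
        rw [Hpull_naturality, h2, map_zero]
      change ((EtCoh.HF _ 1).map _).hom (EtCore.Hpull (X.homOfLE hW) _ 1 (Sheaf.H.map e.inv 1 ξ)) = 0
      exact (congrArg _ h4).trans (AddMonoidHom.map_zero _)
  rw [Sheaf.H.map_apply] at h0
  have h3 : ξ = (ξ.comp (Ext.mk₀ e.inv) (add_zero 1)).comp (Ext.mk₀ e.hom) (add_zero 1) := by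
    rw [Ext.comp_assoc_of_third_deg_zero, Ext.mk₀_comp_mk₀, e.inv_hom_id, Ext.comp_mk₀_id]
  rw [h3, h0, Ext.zero_comp]

set_option backward.isDefEq.respectTransparency.types false in
/-- `(V → X) ≅ (V → U₀ → X)`. -/
noncomputable def kap : (EtZar.zarToEt X).obj V ≅
    (EtShriek.compEtale U₀.ι).obj (etObj (X.homOfLE hV)) :=
  MorphismProperty.Over.isoMk (Iso.refl _) (by
    change 𝟙 _ ≫ ((𝟙 _ ≫ X.homOfLE hV) ≫ U₀.ι) = V.ι
    rw [Category.id_comp, Category.id_comp, X.homOfLE_ι])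

set_option backward.isDefEq.respectTransparency.types false in
lemma hom_ext_kap {T : X.Etale} (a b : T ⟶ (EtShriek.compEtale U₀.ι).obj (etObj (X.homOfLE hV))) :
    a = b := by
  rw [← cancel_mono (kap hV).inv]
  exact Groth.Agent.H2.Zar.hom_zarToEt_ext' X _ _

set_option backward.isDefEq.respectTransparency.types false in
/-- **surjectivity on sections**. -/
theorem sec_surj (hcov : U₀ ≤ V ⊔ W)
    (hk : ∀ ξ : EtCoh.H ↑U₀ ((EtCoh.pull U₀.ι).obj F) 1,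
      EtCore.HpullVia (X.homOfLE hV) U₀.ι V.ι (X.homOfLE_ι hV) F 1 ξ = 0 →
      EtCore.HpullVia (X.homOfLE hW) U₀.ι W.ι (X.homOfLE_ι hW) F 1 ξ = 0 → ξ = 0)
    (s : F.obj.obj (op ((EtZar.zarToEt X).obj (V ⊓ W)))) :
    ∃ (a : F.obj.obj (op ((EtZar.zarToEt X).obj V))) (b : F.obj.obj (op ((EtZar.zarToEt X).obj W))),
      F.obj.map ((EtZar.zarToEt X).map (homOfLE (inf_le_left : V ⊓ W ≤ V))).op a -
        F.obj.map ((EtZar.zarToEt X).map (homOfLE (inf_le_right : V ⊓ W ≤ W))).op b = s := by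
  let G' : EtCoh.Ab ↑U₀ := (EtShriek.restrAlong U₀.ι).obj F
  have hVW : V ⊓ W ≤ U₀ := inf_le_left.trans hV
  have wa : X.homOfLE (inf_le_left : V ⊓ W ≤ V) ≫ X.homOfLE hV = X.homOfLE hVW :=
    X.homOfLE_homOfLE _ _
  have wb : X.homOfLE (inf_le_right : V ⊓ W ≤ W) ≫ X.homOfLE hW = X.homOfLE hVW :=
    X.homOfLE_homOfLE _ _
  have hpb : IsPullback (X.homOfLE (inf_le_left : V ⊓ W ≤ V))
      (X.homOfLE (inf_le_right : V ⊓ W ≤ W)) (X.homOfLE hV) (X.homOfLE hW) :=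
    isPullback_opens_inf_le hV hW
  have hc : ∀ x : ↑U₀, (∃ u : ↑V, (X.homOfLE hV).base u = x) ∨
      (∃ v : ↑W, (X.homOfLE hW).base v = x) := by
    intro x
    have hx : x.1 ∈ V ⊔ W := hcov x.2
    rcases hx with hx | hx
    · exact Or.inl ⟨⟨x.1, hx⟩, Subtype.ext (X.homOfLE_apply hV ⟨x.1, hx⟩)⟩
    · exact Or.inr ⟨⟨x.1, hx⟩, Subtype.ext (X.homOfLE_apply hW ⟨x.1, hx⟩)⟩
  obtain ⟨sU, sV, h⟩ := mv_elt_surj' (X.homOfLE hV) (X.homOfLE hW)
    (X.homOfLE (inf_le_left : V ⊓ W ≤ V)) (X.homOfLE (inf_le_right : V ⊓ W ≤ W))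
    (X.homOfLE hVW) wa wb hpb hc G' (hinj_restr F hV hW hk)
    (F.obj.map (kap hVW).inv.op s)
  let xU : F.obj.obj (op ((EtShriek.compEtale U₀.ι).obj (etObj (X.homOfLE hV)))) := sU
  let xV : F.obj.obj (op ((EtShriek.compEtale U₀.ι).obj (etObj (X.homOfLE hW)))) := sV
  have h2 : F.obj.map ((EtShriek.compEtale U₀.ι).map (etObjMap (X.homOfLE hV)
        (X.homOfLE (inf_le_left : V ⊓ W ≤ V)) (X.homOfLE hVW) wa)).op xU -
      F.obj.map ((EtShriek.compEtale U₀.ι).map (etObjMap (X.homOfLE hW)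
        (X.homOfLE (inf_le_right : V ⊓ W ≤ W)) (X.homOfLE hVW) wb)).op xV =
      F.obj.map (kap hVW).inv.op s := h
  refine ⟨F.obj.map (kap hV).hom.op xU, F.obj.map (kap hW).hom.op xV, ?_⟩
  have h' := congrArg (F.obj.map (kap hVW).hom.op) h2
  rw [map_sub] at h'
  have e1 : ∀ t, F.obj.map (kap hVW).hom.op (F.obj.map (kap hVW).inv.op t) = t := by
    intro t
    rw [← ConcreteCategory.comp_apply, ← F.obj.map_comp, ← op_comp, Iso.hom_inv_id, op_id,
      F.obj.map_id]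
    rfl
  rw [e1] at h'
  refine Eq.trans ?_ h'
  congr 1
  · change (F.obj.map (kap hV).hom.op ≫ F.obj.map _) xU = (F.obj.map _ ≫ F.obj.map _) xU
    rw [← F.obj.map_comp, ← F.obj.map_comp, ← op_comp, ← op_comp]
    congr 3
    exact congrArg Quiver.Hom.op (hom_ext_kap hV _ _)
  · change (F.obj.map (kap hW).hom.op ≫ F.obj.map _) xV = (F.obj.map _ ≫ F.obj.map _) xV
    rw [← F.obj.map_comp, ← F.obj.map_comp, ← op_comp, ← op_comp]
    congr 3
    exact congrArg Quiver.Hom.op (hom_ext_kap hW _ _)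

end Groth.Agent.H2.Gbr
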