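import Mathlib
import Groth.Agent.Lib.Helper2.EtSmallD

/-! # Sections of kernels; torsion subsheaves. -/

set_option autoImplicit false
set_option linter.style.haveILetI false
set_option linter.unusedVariables false
set_option linter.unusedSectionVars false
universe u
open CategoryTheory CategoryTheory.Limits AlgebraicGeometry Opposite Abelian

namespace Groth.Agent.H2.TorsColim

variable {X : Scheme.{u}}

/-- sections over `V` as a functor. -/
noncomputable abbrev gam (X : Scheme.{u}) (V : X.Etale) : EtCoh.Ab X ⥤ AddCommGrpCat.{u + 1} :=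
  sheafToPresheaf X.smallEtaleTopology AddCommGrpCat.{u + 1} ⋙ (evaluation _ _).obj (op V)

instance (V : X.Etale) : (gam X V).Additive where
  map_add := rfl

/-- a section killed by `f` comes from the kernel sheaf. -/
theorem exists_kernel_section {F G : EtCoh.Ab X} (f : F ⟶ G) (V : X.Etale)
    (s : F.obj.obj (op V)) (hs : f.hom.app (op V) s = 0) :
    ∃ t : (kernel f).obj.obj (op V), (kernel.ι f).hom.app (op V) t = s := by
  have hex : (ShortComplex.mk (kernel.ι f) f (kernel.condition f)).Exact :=
    ShortComplex.exact_kernel f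
  have hex' := hex.map_of_mono_of_preservesKernel (gam X V) inferInstance inferInstance
  rw [ShortComplex.ab_exact_iff] at hex'
  exact hex' s hs

/-- sections of `n • 𝟙`. -/
lemma nsmul_id_app (F : EtCoh.Ab X) (m : ℕ) (V : X.Etale) (s : F.obj.obj (op V)) :
    (m • 𝟙 F : F ⟶ F).hom.app (op V) s = m • s := by
  have h : (gam X V).map (m • 𝟙 F) = m • 𝟙 _ := by
    rw [Functor.map_nsmul, CategoryTheory.Functor.map_id]
  have := ConcreteCategory.congr_hom h s
  refine this.trans ?_
  simp

/-- the `m`-torsion subsheaf. -/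
noncomputable abbrev tors (F : EtCoh.Ab X) (m : ℕ) : EtCoh.Ab X := kernel (m • 𝟙 F)

lemma tors_nsmul (F : EtCoh.Ab X) (m : ℕ) : m • 𝟙 (tors F m) = 0 := by
  rw [← cancel_mono (kernel.ι (m • 𝟙 F))]
  rw [Preadditive.nsmul_comp, Category.id_comp, zero_comp]
  have := kernel.condition (m • 𝟙 F)
  rwa [Preadditive.comp_nsmul, Category.comp_id] at this

/-- transition map `F[m] ⟶ F[m']` for `m ∣ m'`. -/
noncomputable def torsMap (F : EtCoh.Ab X) {m m' : ℕ} (h : m ∣ m') : tors F m ⟶ tors F m' :=
  kernel.lift _ (kernel.ι _) (by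
    obtain ⟨d, rfl⟩ := h
    rw [Preadditive.comp_nsmul, Category.comp_id, mul_nsmul]
    have := kernel.condition (m • 𝟙 F)
    rw [Preadditive.comp_nsmul, Category.comp_id] at this
    rw [this, smul_zero])

@[reassoc (attr := simp)]
lemma torsMap_ι (F : EtCoh.Ab X) {m m' : ℕ} (h : m ∣ m') :
    torsMap F h ≫ kernel.ι (m' • 𝟙 F) = kernel.ι (m • 𝟙 F) :=
  kernel.lift_ι _ _ _

end Groth.Agent.H2.TorsColim
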