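import Mathlib
import Groth.Agent.Lib.Helper2.TorsColimA
import Groth.Agent.Lib.Helper2.SmEtSheafA

/-! # A torsion sheaf is the filtered colimit of its `k!`-torsion subsheaves. -/

set_option autoImplicit false
set_option linter.style.haveILetI false
set_option linter.unusedVariables false
set_option linter.unusedSectionVars false
universe u
open CategoryTheory CategoryTheory.Limits AlgebraicGeometry Opposite Abelian

namespace Groth.Agent.H2.TorsColim

variable {X : Scheme.{u}} (F : EtCoh.Ab X)

/-- `k ↦ F[k!]`. -/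
noncomputable def D₀ : ℕ ⥤ EtCoh.Ab X where
  obj k := tors F k.factorial
  map f := torsMap F (Nat.factorial_dvd_factorial (leOfHom f))
  map_id k := by rw [← cancel_mono (kernel.ι _)]; simp
  map_comp f g := by rw [← cancel_mono (kernel.ι _)]; simp

/-- the index category. -/
abbrev Idx : Type (u + 1) := AsSmall.{u + 1} ℕ

instance : IsFiltered Idx.{u} := IsFiltered.of_equivalence AsSmall.equiv

/-- the diagram on the lifted index category. -/
noncomputable def D : Idx.{u} ⥤ EtCoh.Ab X := (AsSmall.down : Idx.{u} ⥤ ℕ) ⋙ D₀ F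

/-- the cocone with point `F`. -/
noncomputable def coc : Cocone (D F) where
  pt := F
  ι :=
    { app := fun i => kernel.ι _
      naturality := fun i j f => by
        dsimp only [Functor.const_obj_obj, Functor.const_obj_map]
        rw [Category.comp_id]
        exact torsMap_ι F (Nat.factorial_dvd_factorial (leOfHom ((AsSmall.down : Idx.{u} ⥤ ℕ).map f))) }

attribute [local instance] IsFiltered.isConnected

theorem mono_desc : Mono (colimit.desc (D F) (coc F)) := by
  haveI : Mono (coc F).ι := by
    haveI : ∀ i, Mono ((coc F).ι.app i) := fun i => inferInstanceAs (Mono (kernel.ι _))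
    exact NatTrans.mono_of_mono_app _
  exact colim.map_mono' (coc F).ι (colimit.isColimit _) (isColimitConstCocone _ F) _
    (fun j => (colimit.ι_desc _ _).trans (Category.comp_id _).symm)

open Groth.Agent.H2.SmEtSheaf in
theorem epi_desc (hF : EtCoh.IsTorsion F) : Epi (colimit.desc (D F) (coc F)) := by
  rw [← Sheaf.isLocallySurjective_iff_epi']
  constructor
  intro U (s : F.obj.obj (op U))
  rw [mem_Jet_iff]
  intro x
  obtain ⟨V, g, ⟨v, hv⟩, hfin⟩ := hF U s x
  obtain ⟨m, hm0, hm⟩ := hfin.exists_nsmul_eq_zero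
  refine ⟨V, g, v, ?_, hv⟩
  have h1 : (m.factorial • 𝟙 F : F ⟶ F).hom.app (op V) (F.obj.map g.op s) = 0 := by
    rw [nsmul_id_app]
    obtain ⟨d, hd⟩ := Nat.dvd_factorial hm0 le_rfl
    rw [hd, mul_nsmul, hm, smul_zero]
  obtain ⟨t, ht⟩ := exists_kernel_section _ V _ h1
  refine ⟨(colimit.ι (D F) ((AsSmall.up : ℕ ⥤ Idx.{u}).obj m)).hom.app (op V) t, ?_⟩
  have h2 : colimit.ι (D F) ((AsSmall.up : ℕ ⥤ Idx.{u}).obj m) ≫ colimit.desc (D F) (coc F) =
      kernel.ι (m.factorial • 𝟙 F) := colimit.ι_desc _ _
  have h3 := congrArg (fun φ : tors F m.factorial ⟶ F => φ.hom.app (op V) t) h2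
  exact Eq.trans h3 ht

theorem isIso_desc (hF : EtCoh.IsTorsion F) : IsIso (colimit.desc (D F) (coc F)) := by
  haveI := mono_desc F
  haveI := epi_desc F hF
  exact isIso_of_mono_of_epi _

end Groth.Agent.H2.TorsColim
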