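import Mathlib
import Groth.Agent.Lib.Helper2.TorsColimB
import Groth.Agent.Lib.Helper2.EtSmallC

/-! # Cohomology of a torsion sheaf on a qcqs scheme is torsion. -/

set_option autoImplicit false
set_option linter.style.haveILetI false
set_option linter.unusedVariables false
set_option linter.unusedSectionVars false
universe u
open CategoryTheory CategoryTheory.Limits AlgebraicGeometry Opposite Abelian

namespace Groth.Agent.H2.TorsColim

open Groth.Agent.LD.Colim Groth.Agent.H2.EtSmall

section General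
variable {A : Type*} [Category A] [Abelian A] [HasExt A] {Z P Q : A}

lemma pc_zero_left {q : ℕ} (y : Ext Z P q) : pc (0 : P ⟶ Q) y = 0 := by
  unfold pc
  rw [Ext.mk₀_zero, Ext.comp_zero]

lemma pc_nsmul (f : P ⟶ Q) (m : ℕ) {q : ℕ} (y : Ext Z P q) : pc (m • f) y = m • pc f y := by
  induction m with
  | zero => rw [zero_nsmul, zero_nsmul, pc_zero_left]
  | succ m ih =>
    rw [succ_nsmul, succ_nsmul, ← ih]
    unfold pc
    rw [Ext.mk₀_add, Ext.comp_add]

lemma pc_id {q : ℕ} (y : Ext Z P q) : pc (𝟙 P) y = y := by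
  unfold pc
  rw [Ext.comp_mk₀_id]

end General

section General2
variable {A : Type*} [Category A] [Abelian A] [HasExt A] {I : Type*} [SmallCategory I]
  [HasColimitsOfShape I A]

lemma exists_stage_of_isIso (Z : A) (D : I ⥤ A) (c : Cocone D) [IsIso (colimit.desc D c)] (n : ℕ)
    (hS : ∀ x : Ext Z (colimit D) n, ∃ (i : I) (y : Ext Z (D.obj i) n), pc (colimit.ι D i) y = x)
    (α : Ext Z c.pt n) :
    ∃ (i : I) (y : Ext Z (D.obj i) n), pc (c.ι.app i) y = α := by
  obtain ⟨i, y, hy⟩ := hS (pc (inv (colimit.desc D c)) α)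
  refine ⟨i, y, ?_⟩
  have h := congrArg (pc (colimit.desc D c)) hy
  rw [pc_comp, pc_comp, IsIso.inv_hom_id, pc_id, colimit.ι_desc] at h
  exact h

end General2

/-- the exponent at stage `i`. -/
def fac (i : Idx.{u}) : ℕ := ((AsSmall.down : Idx.{u} ⥤ ℕ).obj i).factorial

lemma fac_pos (i : Idx.{u}) : 0 < fac i := Nat.factorial_pos _

lemma fac_nsmul_ι {X : Scheme.{u}} (F : EtCoh.Ab X) (i : Idx.{u}) :
    fac i • (coc F).ι.app i = 0 := by
  have := kernel.condition (fac i • 𝟙 F)
  rw [Preadditive.comp_nsmul, Category.comp_id] at this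
  exact this

variable (X : Scheme.{u}) [CompactSpace X] [QuasiSeparatedSpace X]

theorem isAddTorsion_H (F : EtCoh.Ab X) (hF : EtCoh.IsTorsion F) (n : ℕ) :
    IsAddTorsion (EtCoh.H X F n) := by
  intro α
  haveI := isIso_desc F hF
  obtain ⟨i, y, hy⟩ := exists_stage_of_isIso (constZ X) (D F) (coc F) n
    (surjP_injP X n (D F)).1 α
  rw [isOfFinAddOrder_iff_nsmul_eq_zero]
  refine ⟨fac i, fac_pos i, ?_⟩
  have h0 : fac i • (α : Ext (constZ X) F n) = 0 := by
    have e1 : (α : Ext (constZ X) F n) =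
        pc (show (D F).obj i ⟶ F from (coc F).ι.app i) y := hy.symm
    have e2 : fac i • (show (D F).obj i ⟶ F from (coc F).ι.app i) = 0 := fac_nsmul_ι F i
    rw [e1, ← pc_nsmul, e2, pc_zero_left]
  exact h0

end Groth.Agent.H2.TorsColim
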