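import Mathlib
import Groth.Agent.Lib.Helper2.TorsColimC

/-! # `P`-torsion sheaves (sections locally killed by integers satisfying a multiplicative
predicate `P`) are filtered colimits of subsheaves killed by a member of `P`. -/

set_option autoImplicit false
set_option linter.style.haveILetI false
set_option linter.unusedVariables false
set_option linter.unusedSectionVars false
universe u
open CategoryTheory CategoryTheory.Limits AlgebraicGeometry Opposite Abelian

namespace Groth.Agent.H2.PTors

open Groth.Agent.H2.TorsColim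

/-- a multiplicative predicate on positive integers. -/
structure MulPred (P : ℕ → Prop) : Prop where
  one : P 1
  mul : ∀ m n, P m → P n → P (m * n)
  pos : ∀ m, P m → 0 < m

open Classical in
/-- the product of all members of `P` up to `k`. -/
noncomputable def seqA (P : ℕ → Prop) (k : ℕ) : ℕ := ∏ m ∈ (Finset.range (k + 1)).filter P, m

lemma seqA_mem {P : ℕ → Prop} (hP : MulPred P) (k : ℕ) : P (seqA P k) := by
  classical
  unfold seqA
  refine Finset.prod_induction _ P hP.mul hP.one ?_
  intro m hm
  exact (Finset.mem_filter.1 hm).2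

lemma seqA_dvd_of_le (P : ℕ → Prop) {k l : ℕ} (h : k ≤ l) : seqA P k ∣ seqA P l := by
  classical
  unfold seqA
  apply Finset.prod_dvd_prod_of_subset
  intro m hm
  rw [Finset.mem_filter, Finset.mem_range] at hm ⊢
  exact ⟨by omega, hm.2⟩

lemma dvd_seqA {P : ℕ → Prop} {m : ℕ} (hm : P m) : m ∣ seqA P m := by
  classical
  unfold seqA
  apply Finset.dvd_prod_of_mem
  rw [Finset.mem_filter, Finset.mem_range]
  exact ⟨by omega, hm⟩

variable {X : Scheme.{u}}

/-- `P`-torsion sheaves. -/
def IsPTorsion (P : ℕ → Prop) (F : EtCoh.Ab X) : Prop :=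
  ∀ (U : X.Etale) (s : EtCoh.sect F U) (x : U.left), ∃ (V : X.Etale) (g : V ⟶ U) (m : ℕ),
    (∃ v : V.left, g.left.base v = x) ∧ P m ∧ m • F.obj.map g.op s = 0

variable (P : ℕ → Prop) (F : EtCoh.Ab X)

/-- `k ↦ F[a_k]`. -/
noncomputable def D₀ : ℕ ⥤ EtCoh.Ab X where
  obj k := tors F (seqA P k)
  map f := torsMap F (seqA_dvd_of_le P (leOfHom f))
  map_id k := by rw [← cancel_mono (kernel.ι _)]; simp
  map_comp f g := by rw [← cancel_mono (kernel.ι _)]; simp

/-- the diagram on the lifted index category. -/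
noncomputable def D : Idx.{u} ⥤ EtCoh.Ab X := (AsSmall.down : Idx.{u} ⥤ ℕ) ⋙ D₀ P F

/-- the exponent at stage `i`. -/
noncomputable def expo (i : Idx.{u}) : ℕ := seqA P ((AsSmall.down : Idx.{u} ⥤ ℕ).obj i)

/-- the cocone with point `F`. -/
noncomputable def coc : Cocone (D P F) where
  pt := F
  ι :=
    { app := fun i => kernel.ι _
      naturality := fun i j f => by
        dsimp only [Functor.const_obj_obj, Functor.const_obj_map]
        rw [Category.comp_id]
        exact torsMap_ι F (seqA_dvd_of_le P (leOfHom ((AsSmall.down : Idx.{u} ⥤ ℕ).map f))) }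

lemma expo_nsmul_ι (i : Idx.{u}) : expo P i • (coc P F).ι.app i = 0 := by
  have := kernel.condition (expo P i • 𝟙 F)
  rw [Preadditive.comp_nsmul, Category.comp_id] at this
  exact this

lemma expo_nsmul_id (i : Idx.{u}) : expo P i • 𝟙 ((D P F).obj i) = 0 :=
  tors_nsmul F (expo P i)

attribute [local instance] IsFiltered.isConnected

theorem mono_desc : Mono (colimit.desc (D P F) (coc P F)) := by
  haveI : Mono (coc P F).ι := by
    haveI : ∀ i, Mono ((coc P F).ι.app i) := fun i => inferInstanceAs (Mono (kernel.ι _))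
    exact NatTrans.mono_of_mono_app _
  exact colim.map_mono' (coc P F).ι (colimit.isColimit _) (isColimitConstCocone _ F) _
    (fun j => (colimit.ι_desc _ _).trans (Category.comp_id _).symm)

open Groth.Agent.H2.SmEtSheaf in
theorem epi_desc (hF : IsPTorsion P F) : Epi (colimit.desc (D P F) (coc P F)) := by
  rw [← Sheaf.isLocallySurjective_iff_epi']
  constructor
  intro U (s : F.obj.obj (op U))
  rw [mem_Jet_iff]
  intro x
  obtain ⟨V, g, m, ⟨v, hv⟩, hPm, hm⟩ := hF U s x
  refine ⟨V, g, v, ?_, hv⟩
  have h1 : (seqA P m • 𝟙 F : F ⟶ F).hom.app (op V) (F.obj.map g.op s) = 0 := by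
    rw [nsmul_id_app]
    obtain ⟨d, hd⟩ := dvd_seqA hPm
    rw [hd, mul_nsmul, hm, smul_zero]
  obtain ⟨t, ht⟩ := exists_kernel_section _ V _ h1
  refine ⟨(colimit.ι (D P F) ((AsSmall.up : ℕ ⥤ Idx.{u}).obj m)).hom.app (op V) t, ?_⟩
  have h2 : colimit.ι (D P F) ((AsSmall.up : ℕ ⥤ Idx.{u}).obj m) ≫
      colimit.desc (D P F) (coc P F) = kernel.ι (seqA P m • 𝟙 F) := colimit.ι_desc _ _
  have h3 := congrArg (fun φ : tors F (seqA P m) ⟶ F => φ.hom.app (op V) t) h2
  exact Eq.trans h3 ht

theorem isIso_desc (hF : IsPTorsion P F) : IsIso (colimit.desc (D P F) (coc P F)) := by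
  haveI := mono_desc P F
  haveI := epi_desc P F hF
  exact isIso_of_mono_of_epi _

/-- the cocone is a colimit cocone. -/
noncomputable def cocIsColimit (hF : IsPTorsion P F) : IsColimit (coc P F) := by
  haveI : IsIso ((colimit.isColimit (D P F)).desc (coc P F)) := isIso_desc P F hF
  exact IsColimit.ofPointIso (colimit.isColimit (D P F))

end Groth.Agent.H2.PTors
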