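import Mathlib
import Groth.Agent.Lib.Helper2.PTorsA
import Groth.Agent.Lib.Helper2.EtSmallD

/-! # Cohomology of `P`-torsion sheaves over quasi-compact quasi-separated étale schemes is
`P`-torsion. -/

set_option autoImplicit false
set_option linter.style.haveILetI false
set_option linter.unusedVariables false
set_option linter.unusedSectionVars false
universe u
open CategoryTheory CategoryTheory.Limits AlgebraicGeometry Opposite Abelian

namespace Groth.Agent.H2.PTors

open Groth.Agent.LD.Colim Groth.Agent.H2.EtSmall Groth.Agent.H2.TorsColim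

section General
variable {A : Type*} [Category A] [Abelian A] [HasExt A] {I : Type*} [SmallCategory I]
  [HasColimitsOfShape I A]

lemma exists_stage_of_isColimit (Z : A) (D : I ⥤ A) (c : Cocone D) (hc : IsColimit c) (n : ℕ)
    (hS : ∀ x : Ext Z (colimit D) n, ∃ (i : I) (y : Ext Z (D.obj i) n), pc (colimit.ι D i) y = x)
    (α : Ext Z c.pt n) :
    ∃ (i : I) (y : Ext Z (D.obj i) n), pc (c.ι.app i) y = α := by
  haveI : IsIso (colimit.desc D c) := by
    have : colimit.desc D c = ((colimit.isColimit D).coconePointUniqueUpToIso hc).hom := rfl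
    rw [this]
    infer_instance
  exact exists_stage_of_isIso Z D c n hS α

end General

variable {X : Scheme.{u}} (P : ℕ → Prop) (F : EtCoh.Ab X)

/-- cohomology over a qcqs object of the small model, with `P`-torsion coefficients, is
`P`-torsion. -/
theorem exists_nsmul_eq_zero_ext (hP : MulPred P) (hF : IsPTorsion P F) {U : SC X}
    (hU : U ∈ Bq X) (n : ℕ)
    (β : Ext (LD.SC.ZU (topo X) U) ((Φ X).functor.obj F) n) : ∃ m : ℕ, P m ∧ m • β = 0 := by
  let D' : Idx.{u} ⥤ Sheaf (topo X) AddCommGrpCat.{u + 1} := D P F ⋙ (Φ X).functor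
  let c' : Cocone D' := (Φ X).functor.mapCocone (coc P F)
  have hc' : IsColimit c' := isColimitOfPreserves (Φ X).functor (cocIsColimit P F hF)
  obtain ⟨i, y, hy⟩ := exists_stage_of_isColimit (LD.SC.ZU (topo X) U) D' c' hc' n
    (LD.Colim.surjP_injP basis_q hU n D').1 β
  refine ⟨expo P i, seqA_mem hP _, ?_⟩
  have e1 : β = pc (show D'.obj i ⟶ (Φ X).functor.obj F from c'.ι.app i) y := hy.symm
  have e2 : expo P i • (show D'.obj i ⟶ (Φ X).functor.obj F from c'.ι.app i) = 0 := by
    change expo P i • (Φ X).functor.map ((coc P F).ι.app i) = 0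
    rw [← Functor.map_nsmul, expo_nsmul_ι, Functor.map_zero]
  rw [e1, ← pc_nsmul, e2, pc_zero_left]

/-- global version. -/
theorem exists_nsmul_eq_zero_H [CompactSpace X] [QuasiSeparatedSpace X] (hP : MulPred P)
    (hF : IsPTorsion P F) (n : ℕ) (α : EtCoh.H X F n) : ∃ m : ℕ, P m ∧ m • α = 0 := by
  obtain ⟨i, y, hy⟩ := exists_stage_of_isColimit (constZ X) (D P F) (coc P F)
    (cocIsColimit P F hF) n (EtSmall.surjP_injP X n (D P F)).1 α
  refine ⟨expo P i, seqA_mem hP _, ?_⟩
  have e1 : (α : Ext (constZ X) F n) =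
      pc (show (D P F).obj i ⟶ F from (coc P F).ι.app i) y := hy.symm
  have e2 : expo P i • (show (D P F).obj i ⟶ F from (coc P F).ι.app i) = 0 := expo_nsmul_ι P F i
  have h0 : expo P i • (α : Ext (constZ X) F n) = 0 := by
    rw [e1, ← pc_nsmul, e2, pc_zero_left]
  exact h0

end Groth.Agent.H2.PTors
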