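import Mathlib
import Groth.Agent.Lib.Helper2.EtRpushA
import Groth.Agent.Lib.Helper2.PTorsB

/-! # Higher direct images of `P`-torsion sheaves along qcqs morphisms are `P`-torsion. -/

set_option autoImplicit false
set_option linter.style.haveILetI false
set_option linter.unusedVariables false
set_option linter.unusedSectionVars false
universe u
open CategoryTheory CategoryTheory.Limits AlgebraicGeometry Opposite Abelian

namespace Groth.Agent.H2.EtRpush
open Groth.Agent.H2.EtSmall Groth.Agent.LD.SC Groth.Agent.H2.PTors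

variable {X Y : Scheme.{u}} (f : X ⟶ Y)

lemma bcS_mem_Bq [QuasiCompact f] [QuasiSeparated f] (V : Y.Etale) [IsAffine V.left] :
    (bcS f).obj ((eqv Y).functor.obj V) ∈ Bq X := by
  change CompactSpace ↥(pullback V.hom f) ∧ QuasiSeparatedSpace ↥(pullback V.hom f)
  haveI h1 : CompactSpace ↥((𝟭 Scheme).obj V.left) := inferInstanceAs (CompactSpace ↥V.left)
  haveI h2 : QuasiSeparatedSpace ↥((𝟭 Scheme).obj V.left) :=
    inferInstanceAs (QuasiSeparatedSpace ↥V.left)
  exact ⟨QuasiCompact.compactSpace_of_compactSpace (pullback.fst V.hom f),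
    quasiSeparatedSpace_of_quasiSeparated (pullback.fst V.hom f)⟩

theorem isPTorsion_Rpush {P : ℕ → Prop} (hP : MulPred P) [QuasiCompact f] [QuasiSeparated f]
    (F : EtCoh.Ab X) (hF : IsPTorsion P F) (n : ℕ) :
    IsPTorsion P ((EtCoh.Rpush f n).obj F) := by
  obtain ⟨e⟩ := nonempty_Rpush_iso f F n
  let Pr : (SC Y)ᵒᵖ ⥤ AddCommGrpCat.{u + 1} :=
    (bcS f).op ⋙ Sheaf.cohomologyPresheaf.{u + 1} ((Φ X).functor.obj F) n
  intro U s x
  let U' : SC Y := (eqv Y).functor.obj U
  let t : (sheafify (topo Y) Pr).obj (op U') := e.hom.hom.app (op U') s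
  have hT := Presheaf.imageSieve_mem (topo Y) (toSheafify (topo Y) Pr) t
  rw [mem_topo_iff] at hT
  obtain ⟨V', g', y, ⟨β, hβ⟩, hy⟩ := hT x
  let V₀ : Y.Etale := (eqv Y).inverse.obj V'
  obtain ⟨W, hW, hyW⟩ : ∃ W : V₀.left.Opens, IsAffineOpen W ∧ y ∈ W := by
    obtain ⟨_, ⟨W, hW : IsAffineOpen W, rfl⟩, hyW, -⟩ :=
      V₀.left.isBasis_affineOpens.exists_subset_of_mem_open (Set.mem_univ y) isOpen_univ
    exact ⟨W, hW, hyW⟩
  let V₁ : Y.Etale := openObj V₀ W
  let j : V₁ ⟶ V₀ := openIncl V₀ W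
  let V₁' : SC Y := (eqv Y).functor.obj V₁
  let j' : V₁' ⟶ V' := (eqv Y).functor.map j
  haveI : IsAffine V₁.left := hW
  have hB := bcS_mem_Bq f V₁
  let β' : Pr.obj (op V₁') := Pr.map j'.op β
  obtain ⟨m, hm, hmβ⟩ := exists_nsmul_eq_zero_ext P F hP hF hB n β'
  refine ⟨V₁, (eqv Y).inverse.map (j' ≫ g'), m, ⟨⟨y, hyW⟩, ?_⟩, hm, ?_⟩
  · exact hy
  · -- `m` kills the restriction of `s`
    have h1 : (toSheafify (topo Y) Pr).app (op V₁') β' =
        (sheafify (topo Y) Pr).map (j' ≫ g').op t := by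
      have n1 := NatTrans.naturality_apply (toSheafify (topo Y) Pr) j'.op β
      rw [op_comp, Functor.map_comp, ConcreteCategory.comp_apply, ← hβ]
      exact n1
    have h2 : (sheafify (topo Y) Pr).map (j' ≫ g').op t =
        e.hom.hom.app (op V₁')
          (((Φ Y).functor.obj ((EtCoh.Rpush f n).obj F)).obj.map (j' ≫ g').op s) :=
      (NatTrans.naturality_apply e.hom.hom (j' ≫ g').op s).symm
    have h3 : m • (toSheafify (topo Y) Pr).app (op V₁') β' = 0 := by
      have h0 : (toSheafify (topo Y) Pr).app (op V₁') (m • β') = 0 := by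
        erw [hmβ]
        exact map_zero _
      rwa [map_nsmul] at h0
    rw [h1, h2, ← map_nsmul] at h3
    have hinj : Function.Injective (e.hom.hom.app (op V₁')) := by
      have : IsIso (e.hom.hom.app (op V₁')) := by
        haveI : IsIso e.hom.hom := inferInstanceAs (IsIso ((sheafToPresheaf _ _).map e.hom))
        infer_instance
      exact (ConcreteCategory.bijective_of_isIso _).1
    have h4 := hinj (h3.trans (map_zero _).symm)
    exact h4

end Groth.Agent.H2.EtRpush
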