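import Mathlib
import Groth.Prelude.Def_EtAcyc
import Groth.Agent.Lib.Helper2.EtRpushB

/-! # Torsion and `L`-torsion are preserved by higher direct images along qcqs morphisms. -/

set_option autoImplicit false
set_option linter.style.haveILetI false
set_option linter.unusedVariables false
set_option linter.unusedSectionVars false
universe u
open CategoryTheory CategoryTheory.Limits AlgebraicGeometry Opposite Abelian

namespace Groth.Agent.H2.EtRpush
open Groth.Agent.H2.PTors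

lemma mulPred_pos : MulPred (fun m : ℕ => 0 < m) where
  one := Nat.one_pos
  mul _ _ h1 h2 := Nat.mul_pos h1 h2
  pos _ h := h

lemma mulPred_primesIn (L : Set ℕ) : MulPred (EtAcyc.PrimesIn L) where
  one := ⟨Nat.one_pos, fun p hp h => absurd (Nat.dvd_one.1 h) hp.ne_one⟩
  mul m n hm hn := ⟨Nat.mul_pos hm.1 hn.1, fun p hp h => by
    rcases (Nat.Prime.dvd_mul hp).1 h with h | h
    · exact hm.2 p hp h
    · exact hn.2 p hp h⟩
  pos _ h := h.1

variable {X : Scheme.{u}}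

lemma isPTorsion_of_isTorsion (F : EtCoh.Ab X) (hF : EtCoh.IsTorsion F) :
    IsPTorsion (fun m : ℕ => 0 < m) F := by
  intro U s x
  obtain ⟨V, g, hv, hfin⟩ := hF U s x
  obtain ⟨m, hm0, hm⟩ := hfin.exists_nsmul_eq_zero
  exact ⟨V, g, m, hv, hm0, hm⟩

lemma isTorsion_of_isPTorsion (F : EtCoh.Ab X) (hF : IsPTorsion (fun m : ℕ => 0 < m) F) :
    EtCoh.IsTorsion F := by
  intro U s x
  obtain ⟨V, g, m, hv, hm0, hm⟩ := hF U s x
  exact ⟨V, g, hv, isOfFinAddOrder_iff_nsmul_eq_zero.2 ⟨m, hm0, hm⟩⟩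

theorem isTorsion_Rpush {Y : Scheme.{u}} (f : X ⟶ Y) [QuasiCompact f] [QuasiSeparated f]
    (F : EtCoh.Ab X) (hF : EtCoh.IsTorsion F) (n : ℕ) :
    EtCoh.IsTorsion ((EtCoh.Rpush f n).obj F) :=
  isTorsion_of_isPTorsion _ (isPTorsion_Rpush f mulPred_pos F (isPTorsion_of_isTorsion F hF) n)

theorem isLTorsion_Rpush {Y : Scheme.{u}} (f : X ⟶ Y) [QuasiCompact f] [QuasiSeparated f]
    (L : Set ℕ) (F : EtCoh.Ab X) (hF : EtAcyc.IsLTorsion L F) (n : ℕ) :
    EtAcyc.IsLTorsion L ((EtCoh.Rpush f n).obj F) :=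
  isPTorsion_Rpush f (mulPred_primesIn L) F hF n

end Groth.Agent.H2.EtRpush
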