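import Mathlib
import Groth.Agent.Lib.Helper2.PropIntA

set_option autoImplicit false
set_option linter.style.haveILetI false
universe u
open CategoryTheory CategoryTheory.Limits AlgebraicGeometry MorphismProperty TopologicalSpace

namespace Groth.Agent.H2.PropInt

/-- Transfer of an `X'`-morphism `X' ×_Y V ⟶ U'` along `a : X ⟶ X'` when `U = X ×_{X'} U'`. -/
theorem transfer {X X' Y U U' V : Scheme.{u}} (f : X ⟶ Y) (f' : X' ⟶ Y) (a : X ⟶ X')
    (ha : a ≫ f' = f) (G : U ⟶ X) (G' : U' ⟶ X') (c : U ⟶ U') (hU : IsPullback c G G' a)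
    (e : V ⟶ Y) (h' : pullback f' e ⟶ U') (hh' : h' ≫ G' = pullback.fst f' e) :
    ∃ h : pullback f e ⟶ U, h ≫ G = pullback.fst f e ∧
      ∀ (u : U) (q' : ↥(pullback f' e)), h' q' = c u →
        ∃ q : ↥(pullback f e), h q = u ∧ pullback.snd f e q = pullback.snd f' e q' := by
  let q : pullback f e ⟶ pullback f' e :=
    pullback.map f e f' e a (𝟙 V) (𝟙 Y) (by rw [Category.comp_id, ha]) (by simp)
  have hq1 : q ≫ pullback.fst f' e = pullback.fst f e ≫ a := pullback.lift_fst _ _ _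
  have hq2 : q ≫ pullback.snd f' e = pullback.snd f e :=
    (pullback.lift_snd _ _ _).trans (Category.comp_id _)
  have hcond : (q ≫ h') ≫ G' = pullback.fst f e ≫ a := by
    rw [Category.assoc, hh', hq1]
  let h : pullback f e ⟶ U := hU.lift (q ≫ h') (pullback.fst f e) hcond
  have hh1 : h ≫ c = q ≫ h' := hU.lift_fst _ _ _
  have hh2 : h ≫ G = pullback.fst f e := hU.lift_snd _ _ _
  refine ⟨h, hh2, ?_⟩
  intro u q' hq'
  -- the auxiliary pullback `Z = U ×_{U'} (X' ×_Y V)`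
  obtain ⟨z, hz1, hz2⟩ := Scheme.Pullback.exists_preimage_pullback (f := c) (g := h') u q' hq'.symm
  have hk₀cond : (pullback.fst c h' ≫ G) ≫ f = (pullback.snd c h' ≫ pullback.snd f' e) ≫ e := by
    have e1 : pullback.fst c h' ≫ G ≫ a = pullback.snd c h' ≫ pullback.fst f' e := by
      rw [← hU.w, ← Category.assoc, pullback.condition, Category.assoc, hh']
    calc (pullback.fst c h' ≫ G) ≫ f = (pullback.fst c h' ≫ G ≫ a) ≫ f' := by
          rw [← ha]; simp only [Category.assoc]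
      _ = (pullback.snd c h' ≫ pullback.fst f' e) ≫ f' := by rw [e1]
      _ = (pullback.snd c h' ≫ pullback.snd f' e) ≫ e := by
          simp only [Category.assoc, pullback.condition]
  let k₀ : pullback c h' ⟶ pullback f e :=
    pullback.lift (pullback.fst c h' ≫ G) (pullback.snd c h' ≫ pullback.snd f' e) hk₀cond
  have hk1 : k₀ ≫ pullback.fst f e = pullback.fst c h' ≫ G := pullback.lift_fst _ _ _
  have hk2 : k₀ ≫ pullback.snd f e = pullback.snd c h' ≫ pullback.snd f' e :=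
    pullback.lift_snd _ _ _
  have hk3 : k₀ ≫ q = pullback.snd c h' := by
    apply pullback.hom_ext
    · rw [Category.assoc, hq1, ← Category.assoc, hk1, Category.assoc, ← hU.w, ← Category.assoc,
        pullback.condition, Category.assoc, hh']
    · rw [Category.assoc, hq2, hk2]
  have hk4 : k₀ ≫ h = pullback.fst c h' := by
    apply hU.hom_ext
    · rw [Category.assoc, hh1, ← Category.assoc, hk3, pullback.condition]
    · rw [Category.assoc, hh2, hk1]
  refine ⟨k₀ z, ?_, ?_⟩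
  · rw [← Scheme.Hom.comp_apply, hk4]
    exact hz1
  · rw [← Scheme.Hom.comp_apply, hk2, Scheme.Hom.comp_apply, hz2]

/-- Transfer of a condition-(A) datum along `a : X ⟶ X'` when `U = X ×_{X'} U'`. -/
theorem transferA {X X' Y U U' V : Scheme.{u}} (f : X ⟶ Y) (f' : X' ⟶ Y) (a : X ⟶ X')
    (ha : a ≫ f' = f) (G : U ⟶ X) (G' : U' ⟶ X') (c : U ⟶ U') (hU : IsPullback c G G' a)
    (e : V ⟶ Y) (W' : (pullback f' e).Opens) (hW' : IsClosed (W' : Set ↥(pullback f' e)))
    (h' : (W' : Scheme.{u}) ⟶ U') (hh' : h' ≫ G' = W'.ι ≫ pullback.fst f' e) (u : U)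
    (hu : c u ∈ Set.range h') :
    ∃ (W : (pullback f e).Opens) (_ : IsClosed (W : Set ↥(pullback f e)))
      (h : (W : Scheme.{u}) ⟶ U), h ≫ G = W.ι ≫ pullback.fst f e ∧ u ∈ Set.range h := by
  let q : pullback f e ⟶ pullback f' e :=
    pullback.map f e f' e a (𝟙 V) (𝟙 Y) (by rw [Category.comp_id, ha]) (by simp)
  have hq1 : q ≫ pullback.fst f' e = pullback.fst f e ≫ a := pullback.lift_fst _ _ _
  have hq2 : q ≫ pullback.snd f' e = pullback.snd f e :=
    (pullback.lift_snd _ _ _).trans (Category.comp_id _)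
  let W : (pullback f e).Opens := q ⁻¹ᵁ W'
  have hWcl : IsClosed (W : Set ↥(pullback f e)) := hW'.preimage q.continuous
  have hres : (q ∣_ W') ≫ W'.ι = W.ι ≫ q := morphismRestrict_ι q W'
  have hcond : ((q ∣_ W') ≫ h') ≫ G' = (W.ι ≫ pullback.fst f e) ≫ a := by
    rw [Category.assoc, hh', ← Category.assoc, hres, Category.assoc, hq1, Category.assoc]
  let h : (W : Scheme.{u}) ⟶ U := hU.lift ((q ∣_ W') ≫ h') (W.ι ≫ pullback.fst f e) hcond
  have hh1 : h ≫ c = (q ∣_ W') ≫ h' := hU.lift_fst _ _ _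
  have hh2 : h ≫ G = W.ι ≫ pullback.fst f e := hU.lift_snd _ _ _
  refine ⟨W, hWcl, h, hh2, ?_⟩
  obtain ⟨w', hw'⟩ := hu
  obtain ⟨z, hz1, hz2⟩ := Scheme.Pullback.exists_preimage_pullback (f := c) (g := h') u w' hw'.symm
  have e1 : pullback.fst c h' ≫ G ≫ a = pullback.snd c h' ≫ W'.ι ≫ pullback.fst f' e := by
    rw [← hU.w, ← Category.assoc, pullback.condition, Category.assoc, hh']
  have hk₀cond : (pullback.fst c h' ≫ G) ≫ f =
      (pullback.snd c h' ≫ W'.ι ≫ pullback.snd f' e) ≫ e := by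
    calc (pullback.fst c h' ≫ G) ≫ f = (pullback.fst c h' ≫ G ≫ a) ≫ f' := by
          rw [← ha]; simp only [Category.assoc]
      _ = (pullback.snd c h' ≫ W'.ι ≫ pullback.fst f' e) ≫ f' := by rw [e1]
      _ = (pullback.snd c h' ≫ W'.ι ≫ pullback.snd f' e) ≫ e := by
          simp only [Category.assoc, pullback.condition]
  let k₀ : pullback c h' ⟶ pullback f e :=
    pullback.lift (pullback.fst c h' ≫ G) (pullback.snd c h' ≫ W'.ι ≫ pullback.snd f' e) hk₀cond
  have hk1 : k₀ ≫ pullback.fst f e = pullback.fst c h' ≫ G := pullback.lift_fst _ _ _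
  have hk2 : k₀ ≫ pullback.snd f e = pullback.snd c h' ≫ W'.ι ≫ pullback.snd f' e :=
    pullback.lift_snd _ _ _
  have hk3 : k₀ ≫ q = pullback.snd c h' ≫ W'.ι := by
    apply pullback.hom_ext
    · rw [Category.assoc, hq1, ← Category.assoc, hk1, Category.assoc, e1, Category.assoc]
    · rw [Category.assoc, hq2, hk2, Category.assoc]
  have hrange : Set.range k₀ ⊆ (W.ι.opensRange : Set ↥(pullback f e)) := by
    rintro _ ⟨p, rfl⟩
    rw [Scheme.Opens.opensRange_ι]
    change q (k₀ p) ∈ W'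
    rw [← Scheme.Hom.comp_apply, hk3, Scheme.Hom.comp_apply]
    exact (pullback.snd c h' p).2
  let k : pullback c h' ⟶ (W : Scheme.{u}) := IsOpenImmersion.lift W.ι k₀ hrange
  have hkι : k ≫ W.ι = k₀ := IsOpenImmersion.lift_fac _ _ _
  have hk5 : k ≫ (q ∣_ W') = pullback.snd c h' := by
    rw [← cancel_mono W'.ι, Category.assoc, hres, ← Category.assoc, hkι, hk3]
  have hk4 : k ≫ h = pullback.fst c h' := by
    apply hU.hom_ext
    · rw [Category.assoc, hh1, ← Category.assoc, hk5, pullback.condition]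
    · rw [Category.assoc, hh2, ← Category.assoc, hkι, hk1]
  refine ⟨k z, ?_⟩
  rw [← Scheme.Hom.comp_apply, hk4]
  exact hz1

/-- Restricting the base to an open: `X₁ ×_{Y₁} V ≅ X ×_Y V` for `X₁ = f⁻¹ Y₁`. -/
theorem isPullback_restrict {X Y V : Scheme.{u}} (f : X ⟶ Y) (Y₁ : Y.Opens)
    (e : V ⟶ (Y₁ : Scheme.{u})) :
    IsPullback (pullback.fst (f ∣_ Y₁) e ≫ (f ⁻¹ᵁ Y₁).ι) (pullback.snd (f ∣_ Y₁) e) f
      (e ≫ Y₁.ι) :=
  ((IsPullback.of_hasPullback (f ∣_ Y₁) e).flip.paste_vert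
    (isPullback_morphismRestrict f Y₁)).flip

open TensorProduct in
/-- **Descent to a finite level.** An étale morphism `G : U ⟶ X` of affine schemes, with `X`
integral over the affine scheme `Y`, is the base change of an étale morphism `U' ⟶ X'` with `X'`
finite over `Y`, along a surjective morphism `X ⟶ X'`. -/
theorem descend {X Y U : Scheme.{u}} [IsAffine Y] [IsAffine U] (f : X ⟶ Y) [IsIntegralHom f]
    (G : U ⟶ X) [Etale G] :
    ∃ (X' U' : Scheme.{u}) (f' : X' ⟶ Y) (a : X ⟶ X') (G' : U' ⟶ X') (c : U ⟶ U'),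
      IsFinite f' ∧ Etale G' ∧ IsAffine U' ∧ a ≫ f' = f ∧ IsPullback c G G' a ∧
        Function.Surjective a := by
  haveI : IsAffine X := isAffine_of_isAffineHom f
  let φ : Γ(Y, ⊤) ⟶ Γ(X, ⊤) := f.appTop
  let ψ : Γ(X, ⊤) ⟶ Γ(U, ⊤) := G.appTop
  letI : Algebra Γ(Y, ⊤) Γ(X, ⊤) := φ.hom.toAlgebra
  letI : Algebra Γ(X, ⊤) Γ(U, ⊤) := ψ.hom.toAlgebra
  haveI : Algebra.IsIntegral Γ(Y, ⊤) Γ(X, ⊤) :=
    ⟨IsIntegralHom.isIntegral_app f ⊤ (isAffineOpen_top Y)⟩
  haveI : Algebra.Etale Γ(X, ⊤) Γ(U, ⊤) :=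
    (HasRingHomProperty.iff_of_isAffine (P := @Etale)).mp ‹Etale G›
  obtain ⟨B', C', _, _, hfg, hEt, ⟨eqv⟩⟩ :=
    Algebra.Etale.exists_subalgebra_fg Γ(Y, ⊤) Γ(X, ⊤) Γ(U, ⊤)
  haveI : Algebra.IsIntegral Γ(Y, ⊤) ↥B' :=
    Algebra.IsIntegral.of_injective B'.val Subtype.val_injective
  haveI : Algebra.FiniteType Γ(Y, ⊤) ↥B' := (Subalgebra.fg_iff_finiteType B').mp hfg
  haveI : Module.Finite Γ(Y, ⊤) ↥B' := Algebra.IsIntegral.finite
  haveI : Algebra.IsIntegral ↥B' Γ(X, ⊤) := Algebra.IsIntegral.tower_top (R := Γ(Y, ⊤))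
  -- ring maps
  let α : Γ(Y, ⊤) ⟶ CommRingCat.of ↥B' := CommRingCat.ofHom (algebraMap Γ(Y, ⊤) ↥B')
  let β : CommRingCat.of ↥B' ⟶ Γ(X, ⊤) := CommRingCat.ofHom (algebraMap ↥B' Γ(X, ⊤))
  let δ : CommRingCat.of ↥B' ⟶ CommRingCat.of C' := CommRingCat.ofHom (algebraMap ↥B' C')
  let γ : CommRingCat.of C' ⟶ Γ(U, ⊤) := CommRingCat.ofHom
    ((eqv.symm : (Γ(X, ⊤) ⊗[↥B'] C') →+* Γ(U, ⊤)).comp
      (Algebra.TensorProduct.includeRight : C' →ₐ[↥B'] Γ(X, ⊤) ⊗[↥B'] C').toRingHom)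
  have hαβ : α ≫ β = φ := by
    ext z
    rfl
  -- the pushout square
  have hpo : IsPushout δ β γ ψ := by
    have h0 := (CommRingCat.isPushout_tensorProduct ↥B' Γ(X, ⊤) C').flip
    refine h0.of_iso (Iso.refl _) (Iso.refl _) (Iso.refl _)
      (eqv.symm.toRingEquiv.toCommRingCatIso) ?_ ?_ ?_ ?_
    · simp only [Iso.refl_hom, Category.id_comp, Category.comp_id]; rfl
    · simp only [Iso.refl_hom, Category.id_comp, Category.comp_id]; rfl
    · simp only [Iso.refl_hom, Category.id_comp]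
      ext z
      rfl
    · simp only [Iso.refl_hom, Category.id_comp]
      ext z
      change eqv.symm (z ⊗ₜ 1) = ψ.hom z
      have : (z ⊗ₜ[↥B'] (1 : C') : Γ(X, ⊤) ⊗[↥B'] C') =
          algebraMap Γ(X, ⊤) (Γ(X, ⊤) ⊗[↥B'] C') z := by
        rw [Algebra.TensorProduct.algebraMap_apply]
        rfl
      rw [this, eqv.symm.commutes]
      rfl
  have hSpec : IsPullback (Spec.map γ) (Spec.map ψ) (Spec.map δ) (Spec.map β) :=
    isPullback_SpecMap_of_isPushout δ β γ ψ hpo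
  let X' : Scheme.{u} := Spec (CommRingCat.of ↥B')
  let U' : Scheme.{u} := Spec (CommRingCat.of C')
  let f' : X' ⟶ Y := Spec.map α ≫ Y.isoSpec.inv
  let a : X ⟶ X' := X.isoSpec.hom ≫ Spec.map β
  let G' : U' ⟶ X' := Spec.map δ
  let c : U ⟶ U' := U.isoSpec.hom ≫ Spec.map γ
  refine ⟨X', U', f', a, G', c, ?_, ?_, inferInstance, ?_, ?_, ?_⟩
  · have h1 : IsFinite (Spec.map α) := by
      rw [IsFinite.SpecMap_iff]
      exact RingHom.finite_algebraMap.mpr inferInstance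
    exact inferInstance
  · exact (HasRingHomProperty.Spec_iff (P := @Etale)).mpr (RingHom.etale_algebraMap.mpr hEt)
  · change (X.isoSpec.hom ≫ Spec.map β) ≫ Spec.map α ≫ Y.isoSpec.inv = f
    rw [Category.assoc, ← Category.assoc (Spec.map β), ← Spec.map_comp, hαβ,
      Scheme.isoSpec_inv_naturality, Iso.hom_inv_id_assoc]
  · refine hSpec.of_iso U.isoSpec.symm (Iso.refl _) X.isoSpec.symm (Iso.refl _) ?_ ?_ ?_ ?_
    · simp only [Iso.refl_hom, Category.comp_id, Iso.symm_hom, c, Iso.inv_hom_id_assoc]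
    · simp only [Iso.symm_hom]
      exact Scheme.isoSpec_inv_naturality G
    · simp only [Iso.refl_hom, Category.comp_id, Category.id_comp, G']
    · simp only [Iso.refl_hom, Category.comp_id, Iso.symm_hom, a, Iso.inv_hom_id_assoc]
  · have h1 : Function.Surjective (Spec.map β) := by
      have := Algebra.IsIntegral.comap_surjective ↥B' Γ(X, ⊤)
      exact this
    intro p
    obtain ⟨z, hz⟩ := h1 p
    refine ⟨X.isoSpec.inv z, ?_⟩
    change (X.isoSpec.hom ≫ Spec.map β) (X.isoSpec.inv z) = p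
    rw [← Scheme.Hom.comp_apply, Iso.inv_hom_id_assoc]
    exact hz

end Groth.Agent.H2.PropInt
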