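import Mathlib
import Groth.Agent.Lib.Helper2.PropIntB

set_option autoImplicit false
set_option linter.style.haveILetI false
universe u
open CategoryTheory CategoryTheory.Limits AlgebraicGeometry MorphismProperty TopologicalSpace

namespace Groth.Agent.H2.PropInt

/-- Local form of condition (B), affine case: if the fibre of the integral morphism `f` over `y`
is covered by the image of the étale `G : U ⟶ X` (with `U` affine), then over an étale
neighbourhood `V` of `y` there is an `X`-morphism `X ×_Y V ⟶ U`. -/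
theorem keyIntB {X Y U : Scheme.{u}} [IsAffine Y] [IsAffine U] (f : X ⟶ Y) [IsIntegralHom f]
    (G : U ⟶ X) [Etale G] (y : Y) (hy : ∀ p : X, f p = y → p ∈ Set.range G) :
    ∃ (V : Scheme.{u}) (e : V ⟶ Y) (v : V) (_ : Etale e) (h : pullback f e ⟶ U),
      e v = y ∧ h ≫ G = pullback.fst f e := by
  obtain ⟨X', U', f', a, G', c, hfin, hEt, hU'aff, ha, hU, hasurj⟩ := descend f G
  haveI := hfin
  haveI := hEt
  haveI := hU'aff
  haveI : IsSeparated (G' ≫ f') := inferInstance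
  have hGa : ∀ z : U, G' (c z) = a (G z) := by
    intro z
    rw [← Scheme.Hom.comp_apply, hU.w, Scheme.Hom.comp_apply]
  have hfa : ∀ p : X, f' (a p) = f p := by
    intro p
    rw [← Scheme.Hom.comp_apply, ha]
  have hFfin : (f' ⁻¹' {y}).Finite := Scheme.Hom.finite_preimage_singleton f' y
  haveI : Finite ↥(f' ⁻¹' {y}) := hFfin
  have hex : ∀ p' : ↥(f' ⁻¹' {y}), ∃ z' : U', G' z' = p'.1 := by
    intro p'
    obtain ⟨p, hp⟩ := hasurj p'.1
    have h1 : f p = y := by rw [← hfa, hp]; exact p'.2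
    obtain ⟨z, rfl⟩ := hy p h1
    exact ⟨c z, by rw [hGa, hp]⟩
  choose x' hx' using hex
  let eqv := Finite.equivFin ↥(f' ⁻¹' {y})
  obtain ⟨V, e, v, he, hev, h', hh', -⟩ := keyFin f' G' y
    (fun k : Fin (Nat.card ↥(f' ⁻¹' {y})) => x' (eqv.symm k))
    (by
      intro k l hkl
      simp only [hx'] at hkl
      exact eqv.symm.injective (Subtype.ext hkl))
    (fun k => by rw [hx']; exact (eqv.symm k).2)
    (fun p' hp' => ⟨eqv ⟨p', hp'⟩, by rw [hx', Equiv.symm_apply_apply]⟩)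
  obtain ⟨h, hh, -⟩ := transfer f f' a ha G G' c hU e h' hh'
  exact ⟨V, e, v, he, h, hev, hh⟩

/-- Condition (B) for integral morphisms. -/
theorem propB_of_integral {X Y : Scheme.{u}} (f : X ⟶ Y) [IsIntegralHom f] : BigSite.PropB f := by
  intro V v _ ι U g hg hcov
  haveI := hg
  have key : ∀ y₀ : V, ∃ (V' : Scheme.{u}) (v' : V' ⟶ V), Etale v' ∧ y₀ ∈ Set.range v' ∧
      ∃ (μ : Type u) (W : μ → (pullback f (v' ≫ v)).Opens),
        (∀ a b, a ≠ b → Disjoint (W a) (W b)) ∧ (⨆ a, W a) = ⊤ ∧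
        ∀ a, ∃ (i : ι) (h : ((W a : (pullback f (v' ≫ v)).Opens) : Scheme.{u}) ⟶ U i),
          h ≫ g i = (W a).ι ≫
            pullback.map f (v' ≫ v) f v (𝟙 X) v' (𝟙 Y) (by simp) (by simp) := by
    intro y₀
    obtain ⟨V₁, hV₁aff, hy₀V₁, -⟩ :=
      exists_isAffineOpen_mem_and_subset (x := y₀) (U := (⊤ : V.Opens)) trivial
    haveI : IsAffine (V₁ : Scheme.{u}) := hV₁aff
    let π : pullback f v ⟶ V := pullback.snd f v
    let P₁ : (pullback f v).Opens := π ⁻¹ᵁ V₁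
    let π₁ : (P₁ : Scheme.{u}) ⟶ (V₁ : Scheme.{u}) := π ∣_ V₁
    haveI : IsIntegralHom π := inferInstance
    haveI : IsIntegralHom π₁ := inferInstance
    haveI : IsAffine (P₁ : Scheme.{u}) := isAffine_of_isAffineHom π₁
    have hloc : ∀ x : ↥(P₁ : Scheme.{u}), ∃ (i : ι) (Ux : (U i).Opens)
        (hle : Ux ≤ (g i) ⁻¹ᵁ P₁) (z : ↥(Ux : Scheme.{u})), IsAffineOpen Ux ∧
          ((g i).resLE P₁ Ux hle) z = x := by
      intro x
      obtain ⟨i, z, hz⟩ := hcov (P₁.ι x)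
      have hzP₁ : z ∈ (g i) ⁻¹ᵁ P₁ := by
        change (g i) z ∈ P₁
        rw [hz]
        exact x.2
      obtain ⟨Ux, hUx, hzUx, hUxle⟩ :=
        exists_isAffineOpen_mem_and_subset (x := z) (U := (g i) ⁻¹ᵁ P₁) hzP₁
      refine ⟨i, Ux, hUxle, ⟨z, hzUx⟩, hUx, ?_⟩
      apply P₁.ι.injective
      rw [← Scheme.Hom.comp_apply, Scheme.Hom.resLE_comp_ι, Scheme.Hom.comp_apply]
      exact hz
    choose ix Ux hle zx hUxaff hzx using hloc
    let Gx : ∀ x, (Ux x : Scheme.{u}) ⟶ (P₁ : Scheme.{u}) :=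
      fun x => (g (ix x)).resLE P₁ (Ux x) (hle x)
    haveI : ∀ x, Etale (Gx x) := fun x => inferInstance
    have hopen : ∀ x, IsOpen (Set.range (Gx x)) := fun x => (Gx x).isOpenMap.isOpen_range
    obtain ⟨t, ht⟩ := isCompact_univ.elim_finite_subcover (fun x => Set.range (Gx x)) hopen
      (fun p _ => Set.mem_iUnion.mpr ⟨p, zx p, hzx p⟩)
    let σ := {x // x ∈ t}
    let Uc : σ → Scheme.{u} := fun k => (Ux k.1 : Scheme.{u})
    haveI : ∀ k, IsAffine (Uc k) := fun k => hUxaff k.1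
    let U₀ : Scheme.{u} := ∐ Uc
    let G₀ : U₀ ⟶ (P₁ : Scheme.{u}) := Sigma.desc (fun k : σ => Gx k.1)
    haveI : Etale G₀ := IsZariskiLocalAtSource.sigmaDesc (P := @Etale) (fun k => inferInstance)
    have hιG₀ : ∀ k : σ, Sigma.ι Uc k ≫ G₀ = Gx k.1 := fun k => Sigma.ι_desc _ _
    have hG₀surj : ∀ p : ↥(P₁ : Scheme.{u}), p ∈ Set.range G₀ := by
      intro p
      obtain ⟨x, hx⟩ := Set.mem_iUnion.mp (ht (Set.mem_univ p))
      obtain ⟨hxt, w, hw⟩ := Set.mem_iUnion.mp hx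
      refine ⟨Sigma.ι Uc ⟨x, hxt⟩ w, ?_⟩
      rw [← Scheme.Hom.comp_apply, hιG₀]
      exact hw
    let y₁ : ↥(V₁ : Scheme.{u}) := ⟨y₀, hy₀V₁⟩
    obtain ⟨V', e, v₀, he, H, hev, hH⟩ := keyIntB π₁ G₀ y₁ (fun p _ => hG₀surj p)
    haveI := he
    obtain ⟨v', hv'def⟩ : ∃ v' : V' ⟶ V, v' = e ≫ V₁.ι := ⟨_, rfl⟩
    haveI : Etale v' := by rw [hv'def]; infer_instance
    have hpb1 : IsPullback (pullback.fst π₁ e ≫ P₁.ι) (pullback.snd π₁ e) π v' :=
      hv'def ▸ isPullback_restrict π V₁ e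
    have hpb2 : IsPullback ((pullback.fst π₁ e ≫ P₁.ι) ≫ pullback.fst f v) (pullback.snd π₁ e) f
        (v' ≫ v) := hpb1.paste_horiz (IsPullback.of_hasPullback f v)
    let θ : pullback π₁ e ≅ pullback f (v' ≫ v) := hpb2.isoPullback
    have hθ1 : θ.hom ≫ pullback.fst f (v' ≫ v) =
        (pullback.fst π₁ e ≫ P₁.ι) ≫ pullback.fst f v := hpb2.isoPullback_hom_fst
    have hθ2 : θ.hom ≫ pullback.snd f (v' ≫ v) = pullback.snd π₁ e := hpb2.isoPullback_hom_snd
    have hmap : θ.inv ≫ pullback.fst π₁ e ≫ P₁.ι =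
        pullback.map f (v' ≫ v) f v (𝟙 X) v' (𝟙 Y) (by simp) (by simp) := by
      apply pullback.hom_ext
      · have h1 : pullback.map f (v' ≫ v) f v (𝟙 X) v' (𝟙 Y) (by simp) (by simp) ≫
            pullback.fst f v = pullback.fst f (v' ≫ v) :=
          (pullback.lift_fst _ _ _).trans (Category.comp_id _)
        rw [h1]
        calc (θ.inv ≫ pullback.fst π₁ e ≫ P₁.ι) ≫ pullback.fst f v
            = θ.inv ≫ ((pullback.fst π₁ e ≫ P₁.ι) ≫ pullback.fst f v) := by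
              simp only [Category.assoc]
          _ = θ.inv ≫ θ.hom ≫ pullback.fst f (v' ≫ v) := by rw [hθ1]
          _ = pullback.fst f (v' ≫ v) := Iso.inv_hom_id_assoc _ _
      · have h1 : pullback.map f (v' ≫ v) f v (𝟙 X) v' (𝟙 Y) (by simp) (by simp) ≫
            pullback.snd f v = pullback.snd f (v' ≫ v) ≫ v' := pullback.lift_snd _ _ _
        rw [h1]
        have e1 : P₁.ι ≫ pullback.snd f v = π₁ ≫ V₁.ι := (morphismRestrict_ι π V₁).symm
        calc (θ.inv ≫ pullback.fst π₁ e ≫ P₁.ι) ≫ pullback.snd f v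
            = θ.inv ≫ pullback.fst π₁ e ≫ (P₁.ι ≫ pullback.snd f v) := by
              simp only [Category.assoc]
          _ = θ.inv ≫ (pullback.fst π₁ e ≫ π₁) ≫ V₁.ι := by
              rw [e1]; simp only [Category.assoc]
          _ = θ.inv ≫ (pullback.snd π₁ e ≫ e) ≫ V₁.ι := by rw [pullback.condition]
          _ = θ.inv ≫ pullback.snd π₁ e ≫ v' := by rw [Category.assoc, ← hv'def]
          _ = θ.inv ≫ (θ.hom ≫ pullback.snd f (v' ≫ v)) ≫ v' := by rw [hθ2]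
          _ = pullback.snd f (v' ≫ v) ≫ v' := by
              simp only [Category.assoc, Iso.inv_hom_id_assoc]
    let R : σ → U₀.Opens := fun k => (Sigma.ι Uc k).opensRange
    let O : σ → (pullback π₁ e).Opens := fun k => H ⁻¹ᵁ (R k)
    let W : σ → (pullback f (v' ≫ v)).Opens := fun k => θ.inv ⁻¹ᵁ (O k)
    refine ⟨V', v', inferInstance, ⟨v₀, ?_⟩, σ, W, ?_, ?_, ?_⟩
    · rw [hv'def]
      change V₁.ι (e v₀) = y₀
      rw [hev]
      rfl
    · intro a b hab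
      have h1 : Disjoint (R a) (R b) := disjoint_opensRange_sigmaι Uc a b hab
      rw [disjoint_iff, eq_bot_iff] at h1 ⊢
      intro p hp
      exact h1 (show H (θ.inv p) ∈ R a ⊓ R b from ⟨hp.1, hp.2⟩)
    · rw [eq_top_iff]
      intro p _
      obtain ⟨k, w, hw⟩ := (sigmaOpenCover Uc).exists_eq (H (θ.inv p))
      exact Opens.mem_iSup.mpr ⟨k, ⟨w, hw⟩⟩
    · intro k
      have hrange : Set.range ((O k).ι ≫ H) ⊆ ((Sigma.ι Uc k).opensRange : Set ↥U₀) := by
        rintro _ ⟨p, rfl⟩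
        exact p.2
      let Hk : ((O k : (pullback π₁ e).Opens) : Scheme.{u}) ⟶ Uc k :=
        IsOpenImmersion.lift (Sigma.ι Uc k) ((O k).ι ≫ H) hrange
      have hHk : Hk ≫ Sigma.ι Uc k = (O k).ι ≫ H := IsOpenImmersion.lift_fac _ _ _
      have hres : (θ.inv ∣_ (O k)) ≫ (O k).ι = (W k).ι ≫ θ.inv := morphismRestrict_ι θ.inv (O k)
      have e2 : (Ux k.1).ι ≫ g (ix k.1) = Gx k.1 ≫ P₁.ι := (Scheme.Hom.resLE_comp_ι _ _).symm
      refine ⟨ix k.1, (θ.inv ∣_ (O k)) ≫ Hk ≫ (Ux k.1).ι, ?_⟩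
      rw [← hmap]
      simp only [Category.assoc]
      rw [e2, ← hιG₀ k, Category.assoc, reassoc_of% hHk, reassoc_of% hH, reassoc_of% hres]
  choose V' v' hv' hy₀ μ W hW using key
  exact ⟨↥V, V', v', hv', fun y => ⟨y, hy₀ y⟩, fun j => ⟨μ j, W j, hW j⟩⟩

end Groth.Agent.H2.PropInt
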