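import Mathlib
import Groth.Prelude.Def_SGA4b
import Groth.Prelude.Def_BigSite
import Groth.Agent.Lib.Helper7.PropB1
import Groth.Agent.Lib.Helper2.PropIntE

set_option autoImplicit false
set_option linter.style.haveILetI false
universe u
open CategoryTheory CategoryTheory.Limits AlgebraicGeometry Opposite

namespace Groth.Agent.H2.PropInt

/-- Condition (B) implies that the direct image of abelian étale sheaves preserves
epimorphisms. -/
theorem push_preservesEpi_of_propB {X Y : Scheme.{u}} (f : X ⟶ Y) (hB : BigSite.PropB f) :
    (EtCoh.push f).PreservesEpimorphisms := by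
  haveI : (EtDesc.pushSh f).PreservesEpimorphisms := Groth.Agent.H7.PropABC.S6629_main f hB
  constructor
  intro F G φ hφ
  rw [← Sheaf.isLocallySurjective_iff_epi' _ φ] at hφ
  rw [← Sheaf.isLocallySurjective_iff_epi' _ ((EtCoh.push f).map φ)]
  let φ' := (sheafCompose X.smallEtaleTopology (forget AddCommGrpCat.{u + 1})).map φ
  haveI : Sheaf.IsLocallySurjective φ' := inferInstance
  haveI : Epi φ' := inferInstance
  haveI : Epi ((EtDesc.pushSh f).map φ') := inferInstance
  have h1 : Sheaf.IsLocallySurjective ((EtDesc.pushSh f).map φ') :=
    (Sheaf.isLocallySurjective_iff_epi _).mpr inferInstance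
  rw [Sheaf.IsLocallySurjective, Presheaf.isLocallySurjective_iff_whisker_forget]
  exact h1

/-- Direct images of abelian étale sheaves along integral morphisms preserve epimorphisms. -/
theorem push_preservesEpi_of_integral {X Y : Scheme.{u}} (f : X ⟶ Y) [IsIntegralHom f] :
    (EtCoh.push f).PreservesEpimorphisms :=
  push_preservesEpi_of_propB f (propB_of_integral f)

end Groth.Agent.H2.PropInt
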