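import Mathlib
import Groth.Prelude.Def_SGA4b
import Groth.Prelude.Def_BigSite
import Groth.Agent.Lib.Helper7.BS4
import Groth.Agent.Lib.Helper2.PropIntF

set_option autoImplicit false
set_option linter.style.haveILetI false
universe u
open CategoryTheory CategoryTheory.Limits AlgebraicGeometry Opposite

namespace Groth.Agent.H2.PropInt

/-- A left exact additive functor between abelian categories which preserves epimorphisms
preserves finite colimits. -/
theorem preservesFiniteColimits_of_preservesEpi {C D : Type*} [Category C] [Category D]
    [Abelian C] [Abelian D] (F : C ⥤ D) [F.Additive] [PreservesFiniteLimits F]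
    [F.PreservesEpimorphisms] : PreservesFiniteColimits F := by
  rw [Functor.preservesFiniteColimits_iff_forall_exact_map_and_epi]
  intro S hS
  have h1 := (Functor.preservesFiniteLimits_iff_forall_exact_map_and_mono F).mp ‹PreservesFiniteLimits F› S hS
  haveI := hS.epi_g
  exact ⟨h1.1, inferInstance⟩

theorem preservesFiniteLimits_push {X Y : Scheme.{u}} (f : X ⟶ Y) :
    PreservesFiniteLimits (EtCoh.push f) := by
  haveI : PreservesLimitsOfSize.{0, 0} (EtCoh.push f) :=
    (EtCoh.pullPushAdj f).rightAdjoint_preservesLimits
  exact PreservesLimitsOfSize.preservesFiniteLimits _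

/-- `f_*` is exact on abelian étale sheaves for `f` integral. -/
theorem preservesFiniteColimits_push_of_integral {X Y : Scheme.{u}} (f : X ⟶ Y)
    [IsIntegralHom f] : PreservesFiniteColimits (EtCoh.push f) := by
  haveI := preservesFiniteLimits_push f
  haveI := push_preservesEpi_of_integral f
  exact preservesFiniteColimits_of_preservesEpi _

/-- `R^q f_* = 0` for `q > 0` and `f` integral. -/
theorem isZero_Rpush_of_integral {X Y : Scheme.{u}} (f : X ⟶ Y) [IsIntegralHom f]
    (F : EtCoh.Ab X) (q : ℕ) (hq : 0 < q) : IsZero ((EtCoh.Rpush f q).obj F) := by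
  obtain ⟨n, rfl⟩ : ∃ n, q = n + 1 := ⟨q - 1, by omega⟩
  haveI := preservesFiniteLimits_push f
  haveI := preservesFiniteColimits_push_of_integral f
  exact Groth.Agent.H7.BS.isZero_rightDerived_succ_of_exact _ F n

end Groth.Agent.H2.PropInt
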