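import Mathlib
import Groth.Prelude.Def_EtDepth
import Groth.Agent.Lib.Helper2.PTorsA
import Groth.Agent.Lib.Helper2.EtRpushC
import Groth.Agent.Lib.Helper2.PropIntG
import Groth.Agent.Lib.Helper2.PullTorsA

/-! # `P`-torsion sheaves: permanence properties (iso, subobject, étale pullback, qcqs
push-forward), and the predicate "power of `ℓ`". -/

set_option autoImplicit false
set_option linter.style.haveILetI false
set_option linter.unusedVariables false
set_option linter.unusedSectionVars false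
universe u
open CategoryTheory CategoryTheory.Limits AlgebraicGeometry Opposite

namespace Groth.Agent.H2.Cdl
open Groth.Agent.H2.PTors

/-- being a power of `ℓ`. -/
def PowP (ℓ : ℕ) : ℕ → Prop := fun m => ∃ k : ℕ, m = ℓ ^ k

lemma mulPred_powP {ℓ : ℕ} (hℓ : 0 < ℓ) : MulPred (PowP ℓ) where
  one := ⟨0, (pow_zero ℓ).symm⟩
  mul := by
    rintro m n ⟨a, rfl⟩ ⟨b, rfl⟩
    exact ⟨a + b, (pow_add ℓ a b).symm⟩
  pos := by
    rintro m ⟨a, rfl⟩
    exact pow_pos hℓ a

variable {X : Scheme.{u}}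

lemma isPTorsion_of_isLTorsion (ℓ : ℕ) (F : EtCoh.Ab X) (h : EtDepth.IsLTorsion ℓ F) :
    IsPTorsion (PowP ℓ) F := by
  intro U s x
  obtain ⟨V, g, hv, k, hk⟩ := h U s x
  exact ⟨V, g, ℓ ^ k, hv, ⟨k, rfl⟩, hk⟩

lemma isLTorsion_of_isPTorsion (ℓ : ℕ) (F : EtCoh.Ab X) (h : IsPTorsion (PowP ℓ) F) :
    EtDepth.IsLTorsion ℓ F := by
  intro U s x
  obtain ⟨V, g, m, hv, ⟨k, rfl⟩, hm⟩ := h U s x
  exact ⟨V, g, hv, k, hm⟩

lemma isPTorsion_of_iso {P : ℕ → Prop} {F G : EtCoh.Ab X} (e : F ≅ G) (hF : IsPTorsion P F) :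
    IsPTorsion P G := by
  intro U s x
  obtain ⟨V, g, m, hv, hm, h0⟩ := hF U (e.inv.hom.app (op U) s) x
  refine ⟨V, g, m, hv, hm, ?_⟩
  have h1 : G.obj.map g.op s = e.hom.hom.app (op V) (F.obj.map g.op (e.inv.hom.app (op U) s)) := by
    have n1 := NatTrans.naturality_apply e.hom.hom g.op (e.inv.hom.app (op U) s)
    rw [n1]
    congr 1
    have h2 := congrArg (fun t : G ⟶ G => t.hom.app (op U)) e.inv_hom_id
    exact (ConcreteCategory.congr_hom h2 s).symm
  rw [h1]
  have h3 := congrArg (e.hom.hom.app (op V)).hom h0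
  rw [map_nsmul, map_zero] at h3
  exact h3

lemma app_injective_of_mono {F G : EtCoh.Ab X} (ι : G ⟶ F) [Mono ι] (V : X.Etale) :
    Function.Injective (ι.hom.app (op V)) := by
  haveI : Mono ι.hom := (Sheaf.Hom.mono_iff_presheaf_mono _ _ ι).mp inferInstance
  haveI : Mono (ι.hom.app (op V)) := (NatTrans.mono_iff_mono_app ι.hom).1 inferInstance (op V)
  exact (AddCommGrpCat.mono_iff_injective _).1 inferInstance

lemma isPTorsion_of_mono {P : ℕ → Prop} {F G : EtCoh.Ab X} (ι : G ⟶ F) [Mono ι]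
    (hF : IsPTorsion P F) : IsPTorsion P G := by
  intro U s x
  obtain ⟨V, g, m, hv, hm, h0⟩ := hF U (ι.hom.app (op U) s) x
  refine ⟨V, g, m, hv, hm, ?_⟩
  apply app_injective_of_mono ι V
  have n1 := NatTrans.naturality_apply ι.hom g.op s
  have h3 : ι.hom.app (op V) (m • G.obj.map g.op s) = m • ι.hom.app (op V) (G.obj.map g.op s) :=
    map_nsmul (ι.hom.app (op V)).hom m _
  rw [h3, n1, h0]
  exact (map_zero (ι.hom.app (op V)).hom).symm

lemma isPTorsion_of_nsmul {P : ℕ → Prop} (F : EtCoh.Ab X) (m : ℕ) (hm : P m)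
    (h : m • 𝟙 F = 0) : IsPTorsion P F := by
  intro U s x
  refine ⟨U, 𝟙 U, m, ⟨x, rfl⟩, hm, ?_⟩
  have h1 := Groth.Agent.H2.TorsColim.nsmul_id_app F m U s
  rw [h] at h1
  have h2 : F.obj.map (𝟙 U).op s = s := by
    rw [op_id, F.obj.map_id]; rfl
  rw [h2, ← h1]
  rfl

variable {U' : Scheme.{u}} (j : U' ⟶ X) [AlgebraicGeometry.Etale j]

set_option backward.isDefEq.respectTransparency.types false in
theorem isPTorsion_restrAlong {P : ℕ → Prop} (F : EtCoh.Ab X) (hF : IsPTorsion P F) :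
    IsPTorsion P ((EtShriek.restrAlong j).obj F) := by
  intro U s x
  obtain ⟨V, g, m, ⟨v, hv⟩, hm, h0⟩ := hF ((EtShriek.compEtale j).obj U) s x
  let V' : U'.Etale := (EtShriek.compEtaleLift j g).1
  let i : (EtShriek.compEtale j).obj V' ≅ V := (EtShriek.compEtaleLift j g).2
  let g' : V' ⟶ U := MorphismProperty.Over.homMk g.left rfl
  have hg' : (EtShriek.compEtale j).map g' = i.hom ≫ g := by
    apply MorphismProperty.Over.Hom.ext
    change g.left = 𝟙 _ ≫ g.left
    rw [Category.id_comp]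
  refine ⟨V', g', m, ⟨v, hv⟩, hm, ?_⟩
  have h1 : ((EtShriek.restrAlong j).obj F).obj.map g'.op s =
      F.obj.map i.hom.op (F.obj.map g.op s) := by
    change F.obj.map ((EtShriek.compEtale j).map g').op s = _
    rw [hg', op_comp, F.obj.map_comp]
    rfl
  rw [h1]
  have h3 := congrArg (F.obj.map i.hom.op).hom h0
  rw [map_nsmul, map_zero] at h3
  exact h3

theorem isPTorsion_pull {P : ℕ → Prop} (F : EtCoh.Ab X) (hF : IsPTorsion P F) :
    IsPTorsion P ((EtCoh.pull j).obj F) :=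
  isPTorsion_of_iso ((Groth.Agent.H7.ES.pullIsoRestr j).app F).symm (isPTorsion_restrAlong j F hF)

omit [AlgebraicGeometry.Etale j] in
theorem isPTorsion_push {P : ℕ → Prop} (hP : MulPred P) {Y : Scheme.{u}} (f : X ⟶ Y)
    [QuasiCompact f] [QuasiSeparated f] (F : EtCoh.Ab X) (hF : IsPTorsion P F) :
    IsPTorsion P ((EtCoh.push f).obj F) := by
  haveI := Groth.Agent.H2.PropInt.preservesFiniteLimits_push f
  exact isPTorsion_of_iso ((EtCoh.push f).rightDerivedZeroIsoSelf.app F)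
    (Groth.Agent.H2.EtRpush.isPTorsion_Rpush f hP F hF 0)

end Groth.Agent.H2.Cdl
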