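import Mathlib
import Groth.Agent.Lib.Helper2.CdlA

/-! # Right exactness of top cohomology, half exactness, and dévissage along powers of `ℓ`. -/

set_option autoImplicit false
set_option linter.style.haveILetI false
set_option linter.unusedVariables false
set_option linter.unusedSectionVars false
universe u
open CategoryTheory CategoryTheory.Limits AlgebraicGeometry Opposite Abelian

namespace Groth.Agent.H2.Cdl
open Groth.Agent.H2.PTors

section General
variable {A : Type*} [Category A] [Abelian A] [HasExt A] (Z : A)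

/-- right exactness in the top degree. -/
lemma subsingleton_ext_of_epi {G G'' : A} (g : G ⟶ G'') [Epi g] (n : ℕ)
    (h1 : Subsingleton (Ext Z (kernel g) (n + 1))) (h2 : Subsingleton (Ext Z G n)) :
    Subsingleton (Ext Z G'' n) := by
  let S : ShortComplex A := ShortComplex.mk (kernel.ι g) g (kernel.condition g)
  have hS : S.ShortExact :=
    { exact := ShortComplex.exact_of_f_is_kernel _ (kernelIsKernel g)
      mono_f := inferInstanceAs (Mono (kernel.ι g))
      epi_g := inferInstanceAs (Epi g) }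
  refine ⟨fun a b => ?_⟩
  have key : ∀ x : Ext Z G'' n, x = 0 := by
    intro x
    have h0 : x.comp hS.extClass (rfl : n + 1 = n + 1) = 0 :=
      Subsingleton.elim (α := Ext Z (kernel g) (n + 1)) _ _
    obtain ⟨y, hy⟩ := Ext.covariant_sequence_exact₃ Z hS x rfl h0
    have : y = 0 := Subsingleton.elim (α := Ext Z G n) y 0
    rw [← hy, this, Ext.zero_comp]
  rw [key a, key b]

/-- half exactness. -/
lemma subsingleton_ext_of_shortExact {S : ShortComplex A} (hS : S.ShortExact) (n : ℕ)
    (h1 : Subsingleton (Ext Z S.X₁ n)) (h3 : Subsingleton (Ext Z S.X₃ n)) :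
    Subsingleton (Ext Z S.X₂ n) := by
  refine ⟨fun a b => ?_⟩
  have key : ∀ x : Ext Z S.X₂ n, x = 0 := by
    intro x
    have h0 : x.comp (Ext.mk₀ S.g) (add_zero n) = 0 :=
      Subsingleton.elim (α := Ext Z S.X₃ n) _ _
    obtain ⟨y, hy⟩ := Ext.covariant_sequence_exact₂ Z hS x h0
    have : y = 0 := Subsingleton.elim (α := Ext Z S.X₁ n) y 0
    rw [← hy, this, Ext.zero_comp]
  rw [key a, key b]

/-- dévissage: vanishing for objects killed by `ℓ` implies vanishing for objects killed by a
power of `ℓ`. -/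
lemma subsingleton_ext_of_pow_nsmul (ℓ : ℕ) (n : ℕ)
    (h : ∀ G : A, ℓ • 𝟙 G = 0 → Subsingleton (Ext Z G n)) :
    ∀ (k : ℕ) (G : A), (ℓ ^ k) • 𝟙 G = 0 → Subsingleton (Ext Z G n) := by
  intro k
  induction k with
  | zero =>
    intro G hG
    apply h
    rw [pow_zero, one_nsmul] at hG
    rw [hG, smul_zero]
  | succ k ih =>
    intro G hG
    let φ : G ⟶ G := ℓ • 𝟙 G
    let q : G ⟶ Abelian.coimage φ := Abelian.coimage.π φ
    let ι' : Abelian.coimage φ ⟶ G := Abelian.factorThruCoimage φ
    haveI : Mono ι' := inferInstanceAs (Mono (Abelian.factorThruCoimage φ))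
    haveI : Epi q := inferInstanceAs (Epi (Abelian.coimage.π φ))
    have hfac : q ≫ ι' = φ := Abelian.coimage.fac φ
    let S1 : ShortComplex A :=
      ShortComplex.mk (kernel.ι φ) (cokernel.π (kernel.ι φ)) (cokernel.condition _)
    have hS1 : S1.ShortExact :=
      { exact := ShortComplex.exact_of_g_is_cokernel _ (cokernelIsCokernel _)
        mono_f := inferInstanceAs (Mono (kernel.ι φ))
        epi_g := inferInstanceAs (Epi (cokernel.π (kernel.ι φ))) }
    have hK : ℓ • 𝟙 (kernel φ) = 0 := by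
      rw [← cancel_mono (kernel.ι φ), Preadditive.nsmul_comp, Category.id_comp, zero_comp]
      have : ℓ • kernel.ι φ = kernel.ι φ ≫ φ := by
        change _ = _ ≫ (ℓ • 𝟙 G)
        rw [Preadditive.comp_nsmul, Category.comp_id]
      rw [this, kernel.condition]
    have hI : (ℓ ^ k) • 𝟙 (Abelian.coimage φ) = 0 := by
      rw [← cancel_mono ι', ← cancel_epi q, zero_comp, comp_zero, Preadditive.nsmul_comp,
        Category.id_comp, Preadditive.comp_nsmul, hfac]
      change (ℓ ^ k) • (ℓ • 𝟙 G) = 0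
      rw [← mul_nsmul, ← hG, pow_succ, mul_comm]
    exact subsingleton_ext_of_shortExact Z hS1 n (h _ hK) (ih _ hI)

end General

variable {X : Scheme.{u}}

/-- `cd_P(X) ≤ n`. -/
def CdLE (X : Scheme.{u}) (P : ℕ → Prop) (n : ℕ) : Prop :=
  ∀ G : EtCoh.Ab X, IsPTorsion P G → ∀ q : ℕ, n < q → Subsingleton (EtCoh.H X G q)

lemma subsingleton_H_of_epi {P : ℕ → Prop} {n : ℕ} (hcd : CdLE X P n) {G G'' : EtCoh.Ab X}
    (g : G ⟶ G'') [Epi g] (hG : IsPTorsion P G) (h : Subsingleton (EtCoh.H X G n)) :
    Subsingleton (EtCoh.H X G'' n) := by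
  have h1 : Subsingleton (EtCoh.H X (kernel g) (n + 1)) :=
    hcd (kernel g) (isPTorsion_of_mono (kernel.ι g) hG) (n + 1) (Nat.lt_succ_self n)
  exact subsingleton_ext_of_epi (Groth.Agent.H2.EtSmall.constZ X) g n h1 h

lemma subsingleton_H_of_iso {F F' : EtCoh.Ab X} (e : F ≅ F') (n : ℕ)
    (h : Subsingleton (EtCoh.H X F n)) : Subsingleton (EtCoh.H X F' n) := by
  refine ⟨fun a b => ?_⟩
  have key : ∀ x : Ext (Groth.Agent.H2.EtSmall.constZ X) F' n, x = 0 := by
    intro x
    have h1 : x = Groth.Agent.LD.Colim.pc e.hom (Groth.Agent.LD.Colim.pc e.inv x) := by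
      rw [Groth.Agent.LD.Colim.pc_comp, e.inv_hom_id, Groth.Agent.H2.TorsColim.pc_id]
    have h2 : Groth.Agent.LD.Colim.pc e.inv x = 0 :=
      Subsingleton.elim (α := EtCoh.H X F n) _ _
    rw [h1, h2]
    unfold Groth.Agent.LD.Colim.pc
    rw [Ext.zero_comp]
  exact (key a).trans (key b).symm

end Groth.Agent.H2.Cdl
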