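import Mathlib
import Groth.Prelude.Def_EtCore
import Groth.Prelude.Def_EtShriek2
import Groth.Agent.Lib.Helper2.EtSmallA
import Groth.Agent.Lib.Helper7.ES1
import Groth.Agent.Lib.Helper7.ES2

/-! # Localisation: `Extⁿ(ℤ_U, F) ≅ Hⁿ(U, F|_U)` for `U` étale over `X`. -/

set_option autoImplicit false
set_option linter.style.haveILetI false
set_option linter.unusedVariables false
set_option linter.unusedSectionVars false
universe u
open CategoryTheory CategoryTheory.Limits AlgebraicGeometry Opposite Abelian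

namespace Groth.Agent.H2.LocExt
open Groth.Agent.H2.EtSmall Groth.Agent.H7.ES

variable {X : Scheme.{u}} (U : X.Etale)

instance etale_hom : AlgebraicGeometry.Etale U.hom := U.prop

/-- `(U → U → X) ≅ U` in `X.Etale`. -/
noncomputable def topIso : (EtShriek.compEtale U.hom).obj (EtCoh.top U.left) ≅ U :=
  MorphismProperty.Over.isoMk (Iso.refl _) (by
    change 𝟙 _ ≫ U.hom = 𝟙 _ ≫ U.hom
    rfl)

/-- sections over `(U → U → X)` and over `U`. -/
noncomputable def secEquiv (G : EtCoh.Ab X) :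
    G.obj.obj (op ((EtShriek.compEtale U.hom).obj (EtCoh.top U.left))) ≃ G.obj.obj (op U) where
  toFun s := G.obj.map (topIso U).inv.op s
  invFun s := G.obj.map (topIso U).hom.op s
  left_inv s := by
    change (ConcreteCategory.hom (G.obj.map (topIso U).hom.op))
      ((ConcreteCategory.hom (G.obj.map (topIso U).inv.op)) s) = s
    rw [← ConcreteCategory.comp_apply, ← G.obj.map_comp, ← op_comp, Iso.hom_inv_id, op_id,
      G.obj.map_id]
    rfl
  right_inv s := by
    change (ConcreteCategory.hom (G.obj.map (topIso U).inv.op))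
      ((ConcreteCategory.hom (G.obj.map (topIso U).hom.op)) s) = s
    rw [← ConcreteCategory.comp_apply, ← G.obj.map_comp, ← op_comp, Iso.inv_hom_id, op_id,
      G.obj.map_id]
    rfl

lemma secEquiv_natural {G G' : EtCoh.Ab X} (g : G ⟶ G')
    (s : G.obj.obj (op ((EtShriek.compEtale U.hom).obj (EtCoh.top U.left)))) :
    secEquiv U G' (g.hom.app _ s) = g.hom.app (op U) (secEquiv U G s) :=
  (NatTrans.naturality_apply g.hom (topIso U).inv.op s).symm

/-- the object of the small model. -/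
noncomputable abbrev objS : SC X := (eqv X).functor.obj U

/-- the extension by zero of the constant sheaf. -/
noncomputable abbrev ZE : EtCoh.Ab X := (EtShriek.extZero U.hom).obj (constZ U.left)

/-- the comparison of Hom sets. -/
noncomputable def homCmpU (G : EtCoh.Ab X) :
    (ZE U ⟶ G) ≃ (LD.SC.ZU (topo X) (objS U) ⟶ (Φ X).functor.obj G) :=
  ((EtShriek.extZeroAdj U.hom).homEquiv (constZ U.left) G).trans
    ((constEquiv U.left ((EtShriek.restrAlong U.hom).obj G)).trans
      ((secEquiv U G).trans (LD.SC.homEquiv (objS U) ((Φ X).functor.obj G)).symm))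

lemma homCmpU_comp {G G' : EtCoh.Ab X} (ψ : ZE U ⟶ G) (g : G ⟶ G') :
    homCmpU U G' (ψ ≫ g) = homCmpU U G ψ ≫ (Φ X).functor.map g := by
  apply (LD.SC.homEquiv (objS U) ((Φ X).functor.obj G')).injective
  rw [LD.SC.homEquiv_comp]
  simp only [homCmpU, Equiv.trans_apply]
  erw [Equiv.apply_symm_apply, Equiv.apply_symm_apply]
  rw [Adjunction.homEquiv_naturality_right, constEquiv_comp]
  exact secEquiv_natural U g _

/-- `Extⁿ(ℤ_U, ΦG) ≅ Extⁿ(j_!ℤ, G)`. -/
theorem nonempty_ext_equiv_ZE (G : EtCoh.Ab X) (n : ℕ) :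
    Nonempty (Ext.{u + 1} (ZE U) G n ≃+
      Ext.{u + 1} (LD.SC.ZU (topo X) (objS U)) ((Φ X).functor.obj G) n) := by
  refine Groth.Agent.LD.AbPull.leray_of_isZero_rightDerived (Φ X).functor
    (LD.SC.ZU (topo X) (objS U)) (ZE U) (fun Q => homCmpU U Q) ?_ ?_ G ?_ n
  · intro Q Q' ψ g
    exact homCmpU_comp U ψ g
  · intro Q hQ
    exact (Φ X).functor.injective_obj Q
  · intro q
    exact GeoPush.isZero_rightDerived_succ (Φ X).functor G q

/-- the adjunction `j_! ⊣ j⁻¹`. -/
noncomputable def pullAdj' : EtShriek.extZero U.hom ⊣ EtCoh.pull U.hom :=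
  (EtShriek.extZeroAdj U.hom).ofNatIsoRight (pullIsoRestr U.hom).symm

/-- `Extⁿ(j_!ℤ, G) ≅ Hⁿ(U, j⁻¹G)`. -/
theorem nonempty_ext_equiv_pull (G : EtCoh.Ab X) (n : ℕ) :
    Nonempty (Ext.{u + 1} (ZE U) G n ≃+
      Ext.{u + 1} (constZ U.left) ((EtCoh.pull U.hom).obj G) n) := by
  haveI : (EtCoh.pull U.hom).PreservesEpimorphisms :=
    Functor.preservesEpimorphisms_of_adjunction (EtCoh.pullPushAdj U.hom)
  refine Groth.Agent.LD.AbPull.leray_of_isZero_rightDerived (EtCoh.pull U.hom)
    (constZ U.left) (ZE U) (fun Q => (pullAdj' U).homEquiv (constZ U.left) Q) ?_ ?_ G ?_ n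
  · intro Q Q' ψ g
    exact Adjunction.homEquiv_naturality_right _ _ _
  · intro Q hQ
    exact pull_injective_of_etale U.hom Q
  · intro q
    exact GeoPush.isZero_rightDerived_succ (EtCoh.pull U.hom) G q

/-- **Localisation**: `Extⁿ(ℤ_U, ΦG) ≅ Hⁿ(U, G|_U)`. -/
theorem nonempty_ext_equiv_H (G : EtCoh.Ab X) (n : ℕ) :
    Nonempty (Ext.{u + 1} (LD.SC.ZU (topo X) (objS U)) ((Φ X).functor.obj G) n ≃+
      EtCoh.H U.left ((EtCoh.pull U.hom).obj G) n) := by
  obtain ⟨e1⟩ := nonempty_ext_equiv_ZE U G n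
  obtain ⟨e2⟩ := nonempty_ext_equiv_pull U G n
  exact ⟨e1.symm.trans e2⟩

end Groth.Agent.H2.LocExt
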