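import Mathlib
import Groth.Prelude.Def_EtBase
import Groth.Agent.Lib.Helper2.LCModelF
import Groth.Agent.Lib.Helper2.LCModelE
import Groth.Agent.Lib.Helper2.PullOverA

set_option autoImplicit false
set_option linter.style.haveILetI false
set_option linter.unusedSectionVars false
universe u
open CategoryTheory CategoryTheory.Limits Opposite AlgebraicGeometry

namespace Groth.Agent.H2.ConstUnit

open Groth.Agent.H2.LCModel Groth.Agent.H2.FinStalk

/-- The terminal object of the small étale site. -/
noncomputable def topIsTerminal (X : Scheme.{u}) : IsTerminal (EtCoh.top X) :=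
  IsTerminal.isTerminalOfObj (Scheme.Etale.forget X) _ Over.mkIdTerminal

section general

variable {C : Type (u + 1)} [Category.{u} C] {J : GrothendieckTopology C} (R : TopReal J)
  [HasWeakSheafify J AddCommGrpCat.{u + 1}] [J.WEqualsLocallyBijective AddCommGrpCat.{u + 1}]

lemma unit_eq {T : C} (hT : IsTerminal T) (M : AddCommGrpCat.{u + 1}) :
    (constantSheafAdj J AddCommGrpCat.{u + 1} hT).unit.app M =
      (toSheafify J ((Functor.const Cᵒᵖ).obj M)).app (op T) := by
  simp [constantSheafAdj, Adjunction.comp_unit_app]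

lemma fn_unit {T : C} (hT : IsTerminal T) (M : AddCommGrpCat.{u + 1}) (m : M) (v : R.pt T) :
    (lcAb R M).fn ((constantSheafAdj J AddCommGrpCat.{u + 1} hT).unit.app M m) v = m := by
  unfold LCData.fn
  rw [unit_eq]
  have h := congrArg (fun t => t.app (op T)) (lcAb R M).toSheafify_toSheaf
  have h2 := ConcreteCategory.congr_hom h m
  simp only [NatTrans.comp_app, ConcreteCategory.comp_apply] at h2
  exact (congrArg (fun t => (lcAb R M).ev T t v) h2).trans ((lcAb R M).ev_φ T m v)

end general

variable {X Y : Scheme.{u}} (f : Y ⟶ X)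

/-- Base change preserves the terminal object. -/
noncomputable def bcTopIsTerminal : IsTerminal ((EtCoh.bc f).obj (EtCoh.top X)) :=
  IsTerminal.isTerminalObj (EtCoh.bc f) _ (topIsTerminal X)

/-- The constant sheaf. -/
noncomputable abbrev cS (X : Scheme.{u}) (M : AddCommGrpCat.{u + 1}) : EtCoh.Ab X :=
  (constantSheaf X.smallEtaleTopology AddCommGrpCat.{u + 1}).obj M

/-- Pullback of the constant sheaf is the constant sheaf. -/
noncomputable def θ (M : AddCommGrpCat.{u + 1}) : (EtCoh.pull f).obj (cS X M) ≅ cS Y M :=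
  (PullOver.pullConstIso (EtCoh.bc f) X.smallEtaleTopology Y.smallEtaleTopology
    AddCommGrpCat.{u + 1} (topIsTerminal X) (bcTopIsTerminal f)).app M

/-- The map `M_X ⟶ f_* M_Y`. -/
noncomputable def ρ (M : AddCommGrpCat.{u + 1}) : cS X M ⟶ (EtCoh.push f).obj (cS Y M) :=
  (EtCoh.pullPushAdj f).unit.app (cS X M) ≫ (EtCoh.push f).map (θ f M).hom

lemma isIso_unit_iff (M : AddCommGrpCat.{u + 1}) :
    IsIso ((EtCoh.pullPushAdj f).unit.app (cS X M)) ↔ IsIso (ρ f M) := by
  constructor
  · intro h
    unfold ρ
    infer_instance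
  · intro h
    have e : (EtCoh.pullPushAdj f).unit.app (cS X M) =
        ρ f M ≫ (EtCoh.push f).map (θ f M).inv := by
      unfold ρ
      rw [Category.assoc, ← Functor.map_comp, Iso.hom_inv_id, CategoryTheory.Functor.map_id]
      exact (Category.comp_id _).symm
    rw [e]
    infer_instance

lemma unit_comp_ρ (M : AddCommGrpCat.{u + 1}) :
    (constantSheafAdj X.smallEtaleTopology AddCommGrpCat.{u + 1} (topIsTerminal X)).unit.app M ≫
        (ρ f M).hom.app (op (EtCoh.top X)) =
      (constantSheafAdj Y.smallEtaleTopology AddCommGrpCat.{u + 1}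
        (bcTopIsTerminal f)).unit.app M := by
  have h := Adjunction.unit_leftAdjointUniq_hom_app
    ((constantSheafAdj X.smallEtaleTopology AddCommGrpCat.{u + 1} (topIsTerminal X)).comp
      ((EtCoh.bc f).sheafAdjunctionContinuous AddCommGrpCat.{u + 1} X.smallEtaleTopology
        Y.smallEtaleTopology))
    ((constantSheafAdj Y.smallEtaleTopology AddCommGrpCat.{u + 1}
      (bcTopIsTerminal f)).ofNatIsoRight
      (NatIso.ofComponents (fun _ => Iso.refl _) (by
        intro H H' g
        exact (Category.comp_id _).trans (Category.id_comp _).symm))) M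
  rw [Adjunction.comp_unit_app, Adjunction.ofNatIsoRight_unit] at h
  simp only [NatTrans.comp_app, Functor.whiskerLeft_app, NatIso.ofComponents_hom_app,
    Iso.refl_hom, Category.assoc] at h
  exact h

end Groth.Agent.H2.ConstUnit
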