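import Mathlib
import Groth.Prelude.Def_EtBase
import Groth.Agent.Lib.Helper2.ConstUnitA

set_option autoImplicit false
set_option linter.style.haveILetI false
set_option linter.unusedSectionVars false
universe u
open CategoryTheory CategoryTheory.Limits Opposite AlgebraicGeometry

namespace Groth.Agent.H2.ConstUnit

open Groth.Agent.H2.LCModel Groth.Agent.H2.FinStalk

section general

variable {C : Type (u + 1)} [Category.{u} C] {J : GrothendieckTopology C} (R : TopReal J)
  [HasWeakSheafify J AddCommGrpCat.{u + 1}] [J.WEqualsLocallyBijective AddCommGrpCat.{u + 1}]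

lemma map_eq_map_unit {T : C} (hT : IsTerminal T) (M : AddCommGrpCat.{u + 1}) {V W : C}
    (g : W ⟶ V)
    (s : ToType (((constantSheaf J AddCommGrpCat.{u + 1}).obj M).obj.obj (op V))) (m : M)
    (h : ∀ w₁ : R.pt W, (lcAb R M).fn s (R.map g w₁) = m) :
    ((constantSheaf J AddCommGrpCat.{u + 1}).obj M).obj.map g.op s =
      ((constantSheaf J AddCommGrpCat.{u + 1}).obj M).obj.map (hT.from W).op
        ((constantSheafAdj J AddCommGrpCat.{u + 1} hT).unit.app M m) := by
  apply ((lcAb R M).fn_bijective W).1
  apply LocallyConstant.ext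
  intro w₁
  rw [LCData.fn_map, LCData.fn_map, h, fn_unit]

end general

variable {X Y : Scheme.{u}} (f : Y ⟶ X) (M : AddCommGrpCat.{u + 1})

set_option backward.isDefEq.respectTransparency.types false in
theorem fn_ρ (V : X.Etale) (s : ToType ((cS X M).obj.obj (op V)))
    (w : ((EtCoh.bc f).obj V).left) :
    (lcAb (etReal Y) M).fn ((ρ f M).hom.app (op V) s) w =
      (lcAb (etReal X) M).fn s
        ((pullback.fst V.hom f : ((EtCoh.bc f).obj V).left ⟶ V.left) w) := by
  set v := (pullback.fst V.hom f : ((EtCoh.bc f).obj V).left ⟶ V.left) w with hv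
  set m := (lcAb (etReal X) M).fn s v with hm
  let Vo : V.left.Opens := ⟨{x | (lcAb (etReal X) M).fn s x = m},
    ((lcAb (etReal X) M).fn s).isLocallyConstant.isOpen_fiber m⟩
  let W := openObj V Vo
  let g : W ⟶ V := openIncl V Vo
  have hg : ∀ w₁ : (etReal X).pt W, (lcAb (etReal X) M).fn s ((etReal X).map g w₁) = m :=
    fun w₁ => w₁.2
  have h1 := map_eq_map_unit (etReal X) (topIsTerminal X) M g s m hg
  have h2 : (cS Y M).obj.map ((EtCoh.bc f).map g).op ((ρ f M).hom.app (op V) s) =
      (cS Y M).obj.map ((EtCoh.bc f).map ((topIsTerminal X).from W)).op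
        ((constantSheafAdj Y.smallEtaleTopology AddCommGrpCat.{u + 1}
          (bcTopIsTerminal f)).unit.app M m) := by
    have n1 := NatTrans.naturality_apply (ρ f M).hom g.op s
    have n2 := NatTrans.naturality_apply (ρ f M).hom ((topIsTerminal X).from W).op
      ((constantSheafAdj X.smallEtaleTopology AddCommGrpCat.{u + 1}
        (topIsTerminal X)).unit.app M m)
    have n3 := ConcreteCategory.congr_hom (unit_comp_ρ f M) m
    rw [ConcreteCategory.comp_apply] at n3
    rw [h1] at n1
    rw [n3] at n2
    exact n1.symm.trans n2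
  obtain ⟨w'', hw''⟩ : ∃ w'' : ((EtCoh.bc f).obj W).left,
      ((EtCoh.bc f).map g).left w'' = w := by
    have sq := EtCoh.isPullback_bc_map f g
    obtain ⟨z, hz1, -⟩ := Scheme.Pullback.exists_preimage_pullback
      (f := (pullback.fst V.hom f : ((EtCoh.bc f).obj V).left ⟶ V.left)) (g := g.left)
      w (⟨v, rfl⟩ : Vo) rfl
    refine ⟨sq.isoPullback.inv z, ?_⟩
    rw [← hz1, ← Scheme.Hom.comp_apply, IsPullback.isoPullback_inv_fst]
    rfl
  have h3 := congrArg (fun t => (lcAb (etReal Y) M).fn t w'') h2
  simp only [LCData.fn_map] at h3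
  rw [fn_unit] at h3
  rw [← hw'']
  exact h3

end Groth.Agent.H2.ConstUnit
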