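import Mathlib
import Groth.Prelude.Def_EtBase
import Groth.Agent.Lib.Helper2.ConstUnitB

set_option autoImplicit false
set_option linter.style.haveILetI false
set_option linter.unusedSectionVars false
universe u
open CategoryTheory CategoryTheory.Limits Opposite AlgebraicGeometry

namespace Groth.Agent.H2.ConstUnit

open Groth.Agent.H2.LCModel Groth.Agent.H2.FinStalk

variable {X Y : Scheme.{u}} (f : Y ⟶ X) (M : AddCommGrpCat.{u + 1})

set_option backward.isDefEq.respectTransparency.types false in
/-- The unit `M_X ⟶ f_* f^* M_X` is an isomorphism as soon as composition with the projections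
`V ×_X Y ⟶ V` is bijective on locally constant functions. -/
theorem isIso_unit_of_bijective
    (h : ∀ V : X.Etale, Function.Bijective (fun φ : LocallyConstant V.left M =>
      φ.comap ⟨(pullback.fst V.hom f : ((EtCoh.bc f).obj V).left ⟶ V.left),
        (pullback.fst V.hom f : ((EtCoh.bc f).obj V).left ⟶ V.left).continuous⟩)) :
    IsIso ((EtCoh.pullPushAdj f).unit.app (cS X M)) := by
  rw [isIso_unit_iff]
  have hb : ∀ V : X.Etale, Function.Bijective ((ρ f M).hom.app (op V)) := by
    intro V
    constructor
    · intro s s' hss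
      apply ((lcAb (etReal X) M).fn_bijective V).1
      apply (h V).1
      apply LocallyConstant.ext
      intro w
      change (lcAb (etReal X) M).fn s
          ((pullback.fst V.hom f : ((EtCoh.bc f).obj V).left ⟶ V.left) w) =
        (lcAb (etReal X) M).fn s'
          ((pullback.fst V.hom f : ((EtCoh.bc f).obj V).left ⟶ V.left) w)
      rw [← fn_ρ, ← fn_ρ, hss]
    · intro t
      obtain ⟨φ, hφ⟩ := (h V).2 ((lcAb (etReal Y) M).fn t)
      obtain ⟨s, hs⟩ := ((lcAb (etReal X) M).fn_bijective V).2 φ
      refine ⟨s, ?_⟩
      apply ((lcAb (etReal Y) M).fn_bijective _).1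
      apply LocallyConstant.ext
      intro w
      rw [fn_ρ, hs, ← hφ]
      rfl
  haveI : ∀ V : (X.Etale)ᵒᵖ, IsIso ((ρ f M).hom.app V) := fun V =>
    (ConcreteCategory.isIso_iff_bijective _).2 (hb V.unop)
  haveI : IsIso (ρ f M).hom := NatIso.isIso_of_isIso_app _
  exact (isIso_iff_of_reflects_iso (ρ f M) (sheafToPresheaf _ _)).1 this

end Groth.Agent.H2.ConstUnit
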