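import Mathlib

set_option autoImplicit false
set_option linter.style.haveILetI false
universe u
open TensorProduct

namespace Groth.Agent.H2.NormDom

/-- An étale algebra over a field is von Neumann regular. -/
lemma exists_mul_self_mul_eq (K T : Type u) [Field K] [CommRing T] [Algebra K T]
    [Algebra.Etale K T] (t : T) : ∃ r : T, t * t * r = t := by
  obtain ⟨I, _, Ai, _, _, e, -⟩ := (Algebra.Etale.iff_exists_algEquiv_prod K T).mp inferInstance
  refine ⟨e.symm (fun i => (e t i)⁻¹), ?_⟩
  apply e.injective
  rw [map_mul, map_mul, AlgEquiv.apply_symm_apply]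
  funext i
  simp only [Pi.mul_apply]
  exact mul_self_mul_inv (e t i)

section

variable (A S : Type u) [CommRing A] [IsDomain A] [IsIntegrallyClosed A] [CommRing S]
  [Algebra A S] [Algebra.Etale A S]

lemma includeLeft_injective :
    Function.Injective (fun s : S => s ⊗ₜ[A] (1 : FractionRing A)) := by
  have h := Algebra.TensorProduct.includeLeft_injective (R := A) (S := S) (A := S)
    (B := FractionRing A) (IsFractionRing.injective A (FractionRing A))
  exact h

lemma exists_vn (t : S ⊗[A] FractionRing A) : ∃ r, t * t * r = t := by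
  let c := Algebra.TensorProduct.comm A S (FractionRing A)
  obtain ⟨r, hr⟩ := exists_mul_self_mul_eq (FractionRing A) (FractionRing A ⊗[A] S) (c t)
  refine ⟨c.symm r, ?_⟩
  apply c.injective
  rw [map_mul, map_mul, AlgEquiv.apply_symm_apply, hr]

lemma exists_tmul_one_eq_map (z : S ⊗[A] integralClosure A (FractionRing A)) :
    ∃ s : S, s ⊗ₜ[A] (1 : FractionRing A) =
      Algebra.TensorProduct.map (AlgHom.id S S) (integralClosure A (FractionRing A)).val z := by
  induction z using TensorProduct.induction_on with
  | zero => exact ⟨0, by simp⟩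
  | tmul s c =>
    obtain ⟨a, ha⟩ : ∃ a : A, algebraMap A (FractionRing A) a = c.1 :=
      IsIntegrallyClosed.isIntegral_iff.mp c.2
    refine ⟨a • s, ?_⟩
    rw [Algebra.TensorProduct.map_tmul]
    simp only [AlgHom.id_apply, Subalgebra.val_apply]
    rw [← ha, Algebra.algebraMap_eq_smul_one, TensorProduct.smul_tmul]
  | add x y hx hy =>
    obtain ⟨s1, h1⟩ := hx
    obtain ⟨s2, h2⟩ := hy
    exact ⟨s1 + s2, by rw [TensorProduct.add_tmul, h1, h2, map_add]⟩

lemma exists_of_isIntegral (t : S ⊗[A] FractionRing A) (ht : IsIntegral S t) :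
    ∃ s : S, s ⊗ₜ[A] (1 : FractionRing A) = t := by
  have hb := TensorProduct.toIntegralClosure_bijective_of_smooth (R := A) (S := S)
    (B := FractionRing A)
  obtain ⟨z, hz⟩ := hb.2 ⟨t, ht⟩
  obtain ⟨s, hs⟩ := exists_tmul_one_eq_map A S z
  refine ⟨s, hs.trans ?_⟩
  exact congrArg Subtype.val hz

include A in
lemma exists_idem (c b : S) (hcb : c * b = 0) : ∃ ε : S, ε * b = 0 ∧ (1 - ε) * c = 0 := by
  rcases subsingleton_or_nontrivial S with hS | hS
  · exact ⟨0, Subsingleton.elim _ _, Subsingleton.elim _ _⟩
  obtain ⟨r, hr⟩ := exists_vn A S (c ⊗ₜ[A] (1 : FractionRing A))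
  set ιc := c ⊗ₜ[A] (1 : FractionRing A) with hιc
  have he : (ιc * r) * (ιc * r) = ιc * r := by
    calc (ιc * r) * (ιc * r) = (ιc * ιc * r) * r := by ring
      _ = ιc * r := by rw [hr]
  have hint : IsIntegral S (ιc * r) := by
    refine ⟨Polynomial.X ^ 2 - Polynomial.X, ?_, ?_⟩
    · exact Polynomial.monic_X_pow_sub (by
        rw [Polynomial.degree_X]; norm_num)
    · simp only [Polynomial.eval₂_sub, Polynomial.eval₂_pow, Polynomial.eval₂_X]
      rw [pow_two, he, sub_self]
  obtain ⟨ε, hε⟩ := exists_of_isIntegral A S _ hint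
  refine ⟨ε, ?_, ?_⟩
  · apply includeLeft_injective A S
    change (ε * b) ⊗ₜ[A] (1 : FractionRing A) = (0 : S) ⊗ₜ[A] (1 : FractionRing A)
    have h1 : (ε * b) ⊗ₜ[A] (1 : FractionRing A) =
        (ε ⊗ₜ[A] (1 : FractionRing A)) * (b ⊗ₜ[A] (1 : FractionRing A)) := by
      rw [Algebra.TensorProduct.tmul_mul_tmul, mul_one]
    rw [h1, hε, TensorProduct.zero_tmul]
    have h2 : ιc * (b ⊗ₜ[A] (1 : FractionRing A)) = 0 := by
      rw [hιc, Algebra.TensorProduct.tmul_mul_tmul, mul_one, hcb, TensorProduct.zero_tmul]
    calc ιc * r * (b ⊗ₜ[A] (1 : FractionRing A)) = r * (ιc * (b ⊗ₜ[A] (1 : FractionRing A))) := by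
          ring
      _ = 0 := by rw [h2, mul_zero]
  · apply includeLeft_injective A S
    change ((1 - ε) * c) ⊗ₜ[A] (1 : FractionRing A) = (0 : S) ⊗ₜ[A] (1 : FractionRing A)
    have h1 : ((1 - ε) * c) ⊗ₜ[A] (1 : FractionRing A) =
        (1 - ε ⊗ₜ[A] (1 : FractionRing A)) * ιc := by
      rw [sub_mul, sub_mul, one_mul, one_mul, TensorProduct.sub_tmul, hιc,
        Algebra.TensorProduct.tmul_mul_tmul, mul_one]
    rw [h1, hε, TensorProduct.zero_tmul]
    calc (1 - ιc * r) * ιc = ιc - ιc * ιc * r := by ring
      _ = 0 := by rw [hr, sub_self]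

include A in
/-- Local rings of an étale algebra over a normal domain are domains. -/
theorem isDomain_localization_of_etale (q : Ideal S) [q.IsPrime] :
    IsDomain (Localization.AtPrime q) := by
  haveI : NoZeroDivisors (Localization.AtPrime q) := by
    constructor
    intro x y hxy
    obtain ⟨⟨a, s⟩, rfl⟩ := IsLocalization.mk'_surjective q.primeCompl x
    obtain ⟨⟨b, t⟩, rfl⟩ := IsLocalization.mk'_surjective q.primeCompl y
    rw [← IsLocalization.mk'_mul, IsLocalization.mk'_eq_zero_iff] at hxy
    obtain ⟨u, hu⟩ := hxy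
    obtain ⟨ε, h1, h2⟩ := exists_idem A S ((u : S) * a) b (by rw [mul_assoc]; exact hu)
    by_cases hε : ε ∈ q
    · left
      rw [IsLocalization.mk'_eq_zero_iff]
      have h3 : (1 - ε) ∉ q := by
        intro h
        have : (1 : S) ∈ q := by
          have := q.add_mem h hε
          rwa [sub_add_cancel] at this
        exact (Ideal.IsPrime.ne_top inferInstance) ((Ideal.eq_top_iff_one q).2 this)
      refine ⟨⟨(1 - ε) * u, ?_⟩, ?_⟩
      · exact q.primeCompl.mul_mem h3 u.2
      · change (1 - ε) * u * a = 0
        rw [mul_assoc]; exact h2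
    · right
      rw [IsLocalization.mk'_eq_zero_iff]
      exact ⟨⟨ε, hε⟩, h1⟩
  exact NoZeroDivisors.to_isDomain _

end

/-- Reduction: `R → B` étale, `q` a prime of `B` over `p`, `R_p` a normal domain; then `B_q` is a
domain. -/
theorem isDomain_localization_of_etale' (R B : Type u) [CommRing R] [CommRing B] [Algebra R B]
    [Algebra.Etale R B] (q : Ideal B) [q.IsPrime] (p : Ideal R) [p.IsPrime]
    (hp : p = q.comap (algebraMap R B))
    [IsDomain (Localization.AtPrime p)] [IsIntegrallyClosed (Localization.AtPrime p)] :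
    IsDomain (Localization.AtPrime q) := by
  have hunit : ∀ y : p.primeCompl, IsUnit ((Algebra.ofId R (Localization.AtPrime q)) y) := by
    intro y
    have hy : algebraMap R B y ∈ q.primeCompl := by
      intro h
      have h' : (y : R) ∈ q.comap (algebraMap R B) := h
      rw [← hp] at h'
      exact y.2 h'
    have := IsLocalization.map_units (Localization.AtPrime q) (⟨_, hy⟩ : q.primeCompl)
    rw [Algebra.ofId_apply, IsScalarTower.algebraMap_apply R B (Localization.AtPrime q)]
    exact this
  let f₁ : Localization.AtPrime p →ₐ[R] Localization.AtPrime q :=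
    IsLocalization.liftAlgHom (M := p.primeCompl) (f := Algebra.ofId R (Localization.AtPrime q))
      hunit
  let g₁ : B →ₐ[R] Localization.AtPrime q := IsScalarTower.toAlgHom R B (Localization.AtPrime q)
  let G : Localization.AtPrime p ⊗[R] B →ₐ[R] Localization.AtPrime q :=
    Algebra.TensorProduct.productMap f₁ g₁
  let q' : Ideal (Localization.AtPrime p ⊗[R] B) :=
    (IsLocalRing.maximalIdeal (Localization.AtPrime q)).comap G.toRingHom
  haveI : q'.IsPrime := Ideal.IsPrime.comap _
  haveI := isDomain_localization_of_etale (Localization.AtPrime p)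
    (Localization.AtPrime p ⊗[R] B) q'
  have hG : ∀ b : B, G ((1 : Localization.AtPrime p) ⊗ₜ[R] b) =
      algebraMap B (Localization.AtPrime q) b := by
    intro b
    rw [Algebra.TensorProduct.productMap_apply_tmul, map_one, one_mul]
    rfl
  have hu1 : ∀ y : q.primeCompl, IsUnit (((algebraMap (Localization.AtPrime p ⊗[R] B)
      (Localization.AtPrime q')).comp
        (Algebra.TensorProduct.includeRight : B →ₐ[R] Localization.AtPrime p ⊗[R] B).toRingHom)
          y) := by
    intro y
    have hy : ((1 : Localization.AtPrime p) ⊗ₜ[R] (y : B)) ∈ q'.primeCompl := by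
      intro h
      have h' : G ((1 : Localization.AtPrime p) ⊗ₜ[R] (y : B)) ∈
        IsLocalRing.maximalIdeal (Localization.AtPrime q) := h
      rw [hG] at h'
      exact (IsLocalRing.mem_maximalIdeal _).1 h'
        (IsLocalization.map_units (Localization.AtPrime q) y)
    exact IsLocalization.map_units (Localization.AtPrime q') (⟨_, hy⟩ : q'.primeCompl)
  let h : Localization.AtPrime q →+* Localization.AtPrime q' :=
    IsLocalization.lift (M := q.primeCompl) hu1
  have hu2 : ∀ y : q'.primeCompl, IsUnit (G.toRingHom y) := by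
    intro y
    by_contra hy
    exact y.2 ((IsLocalRing.mem_maximalIdeal _).2 hy)
  let k : Localization.AtPrime q' →+* Localization.AtPrime q :=
    IsLocalization.lift (M := q'.primeCompl) hu2
  have hkh : k.comp h = RingHom.id _ := by
    apply IsLocalization.ringHom_ext q.primeCompl
    ext b
    simp only [RingHom.comp_apply, RingHom.id_apply]
    have e1 : h (algebraMap B (Localization.AtPrime q) b) =
        algebraMap _ (Localization.AtPrime q') ((1 : Localization.AtPrime p) ⊗ₜ[R] b) :=
      IsLocalization.lift_eq hu1 b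
    rw [e1]
    have e2 : k (algebraMap _ (Localization.AtPrime q') ((1 : Localization.AtPrime p) ⊗ₜ[R] b)) =
        G ((1 : Localization.AtPrime p) ⊗ₜ[R] b) := IsLocalization.lift_eq hu2 _
    rw [e2, hG]
  have hinj : Function.Injective h := by
    intro x y hxy
    have := congrArg k hxy
    have e := fun z => congrArg (fun φ : Localization.AtPrime q →+* Localization.AtPrime q => φ z) hkh
    simp only [RingHom.comp_apply, RingHom.id_apply] at e
    rw [e x, e y] at this
    exact this
  exact hinj.isDomain h

end Groth.Agent.H2.NormDom
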