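import Mathlib
import Groth.Agent.Lib.Helper2.NormDomA

set_option autoImplicit false
set_option linter.style.haveILetI false
universe u
open AlgebraicGeometry CategoryTheory

namespace Groth.Agent.H2.NormDom

/-- Stalks of a scheme étale over a scheme whose stalks are normal domains are domains. -/
theorem isDomain_stalk_of_etale {V X : Scheme.{u}} (f : V ⟶ X) [Etale f]
    (hX : ∀ x : X, IsDomain (X.presheaf.stalk x) ∧ IsIntegrallyClosed (X.presheaf.stalk x))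
    (v : V) : IsDomain (V.presheaf.stalk v) := by
  obtain ⟨_, ⟨U, hU : IsAffineOpen U, rfl⟩, hxU, -⟩ :=
    X.isBasis_affineOpens.exists_subset_of_mem_open (Set.mem_univ (f v)) isOpen_univ
  obtain ⟨_, ⟨W, hW : IsAffineOpen W, rfl⟩, hvW, hWU⟩ :=
    V.isBasis_affineOpens.exists_subset_of_mem_open (show v ∈ ((f ⁻¹ᵁ U : V.Opens) : Set V) from hxU)
      (f ⁻¹ᵁ U).isOpen
  have hφ : (f.appLE U W hWU).hom.Etale :=
    HasRingHomProperty.appLE (P := @Etale) f inferInstance ⟨U, hU⟩ ⟨W, hW⟩ hWU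
  letI : Algebra Γ(X, U) Γ(V, W) := (f.appLE U W hWU).hom.toAlgebra
  haveI : Algebra.Etale Γ(X, U) Γ(V, W) := hφ
  have hp : (hU.primeIdealOf ⟨f v, hWU hvW⟩).asIdeal =
      (hW.primeIdealOf ⟨v, hvW⟩).asIdeal.comap (algebraMap Γ(X, U) Γ(V, W)) :=
    (congrArg PrimeSpectrum.asIdeal
      (IsAffineOpen.comap_primeIdealOf_appLE U hU W hW hWU hvW)).symm
  letI a1 := X.presheaf.algebra_section_stalk ⟨f v, hWU hvW⟩
  haveI l1 := hU.isLocalization_stalk ⟨f v, hWU hvW⟩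
  letI a2 := V.presheaf.algebra_section_stalk ⟨v, hvW⟩
  haveI l2 := hW.isLocalization_stalk ⟨v, hvW⟩
  let e1 := IsLocalization.algEquiv (hU.primeIdealOf ⟨f v, hWU hvW⟩).asIdeal.primeCompl
    (X.presheaf.stalk (f v)) (Localization.AtPrime (hU.primeIdealOf ⟨f v, hWU hvW⟩).asIdeal)
  let e2 := IsLocalization.algEquiv (hW.primeIdealOf ⟨v, hvW⟩).asIdeal.primeCompl
    (V.presheaf.stalk v) (Localization.AtPrime (hW.primeIdealOf ⟨v, hvW⟩).asIdeal)
  haveI := (hX (f v)).1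
  haveI := (hX (f v)).2
  haveI : IsDomain (Localization.AtPrime (hU.primeIdealOf ⟨f v, hWU hvW⟩).asIdeal) :=
    e1.symm.toRingEquiv.toMulEquiv.isDomain _
  haveI : IsIntegrallyClosed (Localization.AtPrime (hU.primeIdealOf ⟨f v, hWU hvW⟩).asIdeal) :=
    IsIntegrallyClosed.of_equiv e1.toRingEquiv
  haveI := isDomain_localization_of_etale' Γ(X, U) Γ(V, W) (hW.primeIdealOf ⟨v, hvW⟩).asIdeal
    (hU.primeIdealOf ⟨f v, hWU hvW⟩).asIdeal hp
  exact e2.toRingEquiv.toMulEquiv.isDomain _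

end Groth.Agent.H2.NormDom
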