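import Mathlib

set_option autoImplicit false
set_option linter.style.haveILetI false
set_option linter.unusedSectionVars false
universe u v w
open Topology TopologicalSpace Set

namespace Groth.Agent.H2.NormLC

variable {V : Type u} {Y : Type v} [TopologicalSpace V] [TopologicalSpace Y] {M : Type w}

/-- Local hypothesis ensuring that locally constant functions extend uniquely along `ι`. -/
def Good (ι : Y → V) : Prop :=
  ∀ x : V, ∃ (A : Set V) (Y' : Set Y), IsOpen A ∧ x ∈ A ∧ IsOpen Y' ∧ IsCompact Y' ∧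
    A ⊆ closure (ι '' Y') ∧
    (∀ S : Set Y, IsOpen S → IsCompact S → S ⊆ Y' → ∀ x' ∈ A, x' ∈ closure (ι '' S) →
      ∃ y ∈ S, ι y ⤳ x') ∧
    (∀ x' ∈ A, ∀ y y' : V, y ⤳ x' → y' ⤳ x' → ∃ z, z ⤳ y ∧ z ⤳ y')

/-- Closures of the images of the fibres. -/
def C (ι : Y → V) (g : LocallyConstant Y M) (m : M) : Set V := closure (ι '' (g ⁻¹' {m}))

variable {ι : Y → V} (hι : IsOpenEmbedding ι) (g : LocallyConstant Y M)

include hι in
lemma mem_closure_local {A : Set V} {Y' : Set Y} (hA : IsOpen A)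
    (hAY : A ⊆ closure (ι '' Y')) {x' : V} (hx' : x' ∈ A) {m : M} (hm : x' ∈ C ι g m) :
    x' ∈ closure (ι '' (Y' ∩ g ⁻¹' {m})) := by
  rw [mem_closure_iff]
  intro N hN hxN
  obtain ⟨_, ⟨hzN, hzA⟩, ⟨y, hy, rfl⟩⟩ := mem_closure_iff.1 hm (N ∩ A) (hN.inter hA) ⟨hxN, hx'⟩
  have hO : IsOpen (N ∩ A ∩ ι '' (g ⁻¹' {m})) :=
    (hN.inter hA).inter (hι.isOpenMap _ (g.isLocallyConstant.isOpen_fiber m))
  obtain ⟨_, ⟨⟨hwN, hwA⟩, ⟨y₁, hy₁, rfl⟩⟩, ⟨y₂, hy₂, h12⟩⟩ :=
    mem_closure_iff.1 (hAY hzA) _ hO ⟨⟨hzN, hzA⟩, ⟨y, hy, rfl⟩⟩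
  have : y₂ = y₁ := hι.injective h12
  subst this
  exact ⟨ι y₂, hwN, ⟨y₂, ⟨hy₂, hy₁⟩, rfl⟩⟩

lemma exists_mem_closure_local {A : Set V} {Y' : Set Y} (hY' : IsCompact Y')
    (hAY : A ⊆ closure (ι '' Y')) {x' : V} (hx' : x' ∈ A) :
    ∃ m ∈ g '' Y', x' ∈ closure (ι '' (Y' ∩ g ⁻¹' {m})) := by
  classical
  letI : TopologicalSpace M := ⊥
  haveI : DiscreteTopology M := ⟨rfl⟩
  have hfin : (g '' Y').Finite := isCompact_iff_finite.1 (hY'.image g.continuous)
  have hcov : ι '' Y' = ⋃ m ∈ g '' Y', ι '' (Y' ∩ g ⁻¹' {m}) := by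
    ext z
    simp only [mem_image, mem_iUnion, exists_prop]
    constructor
    · rintro ⟨y, hy, rfl⟩
      exact ⟨g y, ⟨y, hy, rfl⟩, y, ⟨hy, rfl⟩, rfl⟩
    · rintro ⟨m, -, y, ⟨hy, -⟩, rfl⟩
      exact ⟨y, hy, rfl⟩
  have h := hAY hx'
  rw [hcov, hfin.closure_biUnion] at h
  simpa only [mem_iUnion, exists_prop] using h

include hι in
lemma eq_of_mem_C {A : Set V} {Y' : Set Y} (hA : IsOpen A) (hY'o : IsOpen Y')
    (hY' : IsCompact Y') (hAY : A ⊆ closure (ι '' Y'))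
    (P1 : ∀ S : Set Y, IsOpen S → IsCompact S → S ⊆ Y' → ∀ x' ∈ A, x' ∈ closure (ι '' S) →
      ∃ y ∈ S, ι y ⤳ x')
    (P2 : ∀ x' ∈ A, ∀ y y' : V, y ⤳ x' → y' ⤳ x' → ∃ z, z ⤳ y ∧ z ⤳ y')
    {x' : V} (hx' : x' ∈ A) {m m' : M} (hm : x' ∈ C ι g m) (hm' : x' ∈ C ι g m') : m = m' := by
  have h1 := mem_closure_local hι g hA hAY hx' hm
  have h2 := mem_closure_local hι g hA hAY hx' hm'
  have hc : ∀ m, IsCompact (Y' ∩ g ⁻¹' {m}) := fun m =>
    hY'.inter_right (g.isLocallyConstant.isClosed_fiber m)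
  have ho : ∀ m, IsOpen (Y' ∩ g ⁻¹' {m}) := fun m =>
    hY'o.inter (g.isLocallyConstant.isOpen_fiber m)
  obtain ⟨y, hy, hyx⟩ := P1 _ (ho m) (hc m) inter_subset_left x' hx' h1
  obtain ⟨y', hy', hyx'⟩ := P1 _ (ho m') (hc m') inter_subset_left x' hx' h2
  obtain ⟨z, hz, hz'⟩ := P2 x' hx' _ _ hyx hyx'
  have hz1 : z ∈ ι '' (g ⁻¹' {m}) :=
    hz.mem_open (hι.isOpenMap _ (g.isLocallyConstant.isOpen_fiber m)) ⟨y, hy.2, rfl⟩
  have hz2 : z ∈ ι '' (g ⁻¹' {m'}) :=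
    hz'.mem_open (hι.isOpenMap _ (g.isLocallyConstant.isOpen_fiber m')) ⟨y', hy'.2, rfl⟩
  obtain ⟨y₁, hy₁, rfl⟩ := hz1
  obtain ⟨y₂, hy₂, h12⟩ := hz2
  have := hι.injective h12
  subst this
  exact (show g y₂ = m from hy₁).symm.trans hy₂

include hι in
/-- Extension of locally constant functions. -/
theorem exists_extension (hG : Good ι) : ∃ f : LocallyConstant V M, ∀ y, f (ι y) = g y := by
  classical
  have hex : ∀ x : V, ∃ m, x ∈ C ι g m := by
    intro x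
    obtain ⟨A, Y', hA, hxA, hY'o, hY', hAY, P1, P2⟩ := hG x
    obtain ⟨m, -, hm⟩ := exists_mem_closure_local g hY' hAY hxA
    exact ⟨m, closure_mono (image_mono inter_subset_right) hm⟩
  have huniq : ∀ x m m', x ∈ C ι g m → x ∈ C ι g m' → m = m' := by
    intro x m m' hm hm'
    obtain ⟨A, Y', hA, hxA, hY'o, hY', hAY, P1, P2⟩ := hG x
    exact eq_of_mem_C hι g hA hY'o hY' hAY P1 P2 hxA hm hm'
  have hopen : ∀ m, IsOpen (C ι g m) := by
    intro m
    rw [isOpen_iff_forall_mem_open]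
    intro x hx
    obtain ⟨A, Y', hA, hxA, hY'o, hY', hAY, P1, P2⟩ := hG x
    letI : TopologicalSpace M := ⊥
    haveI : DiscreteTopology M := ⟨rfl⟩
    have hfin : (g '' Y').Finite := isCompact_iff_finite.1 (hY'.image g.continuous)
    have hFfin : ((g '' Y') \ {m}).Finite := hfin.diff
    have hZ : IsClosed (⋃ m' ∈ (g '' Y') \ {m}, C ι g m') :=
      hFfin.isClosed_biUnion (fun _ _ => isClosed_closure)
    refine ⟨A ∩ (⋃ m' ∈ (g '' Y') \ {m}, C ι g m')ᶜ, ?_, hA.inter hZ.isOpen_compl, ⟨hxA, ?_⟩⟩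
    · rintro x' ⟨hx'A, hx'Z⟩
      obtain ⟨m'', hm''F, hm''⟩ := exists_mem_closure_local g hY' hAY hx'A
      have hm''C : x' ∈ C ι g m'' := closure_mono (image_mono inter_subset_right) hm''
      by_cases h : m'' = m
      · rwa [h] at hm''C
      · exfalso
        apply hx'Z
        exact mem_biUnion (⟨hm''F, h⟩ : m'' ∈ (g '' Y') \ {m}) hm''C
    · intro hxZ
      obtain ⟨m', hm'F, hm'⟩ := mem_iUnion₂.1 hxZ
      exact hm'F.2 (huniq x m' m hm' hx)
  let f : V → M := fun x => Classical.choose (hex x)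
  have hf : ∀ x, x ∈ C ι g (f x) := fun x => Classical.choose_spec (hex x)
  have hfib : ∀ m, f ⁻¹' {m} = C ι g m := by
    intro m
    ext x
    constructor
    · intro h
      have h' : f x = m := h
      rw [← h']
      exact hf x
    · intro h
      exact huniq x _ _ (hf x) h
  refine ⟨⟨f, IsLocallyConstant.iff_isOpen_fiber.2 (fun m => by rw [hfib]; exact hopen m)⟩, ?_⟩
  intro y
  change f (ι y) = g y
  exact huniq (ι y) _ _ (hf (ι y)) (subset_closure ⟨y, rfl, rfl⟩)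

lemma denseRange_of_good (hG : Good ι) : DenseRange ι := by
  intro x
  obtain ⟨A, Y', hA, hxA, -, -, hAY, -, -⟩ := hG x
  exact closure_mono (image_subset_range _ _) (hAY hxA)

lemma eq_of_comp_eq (hd : DenseRange ι) (hc : Continuous ι) (f f' : LocallyConstant V M)
    (h : ∀ y, f (ι y) = f' (ι y)) : f = f' := by
  letI : TopologicalSpace M := ⊥
  haveI : DiscreteTopology M := ⟨rfl⟩
  apply LocallyConstant.ext
  have := DenseRange.equalizer hd f.continuous f'.continuous (funext h)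
  exact congrFun this

include hι in
theorem comap_bijective (hG : Good ι) :
    Function.Bijective (fun f : LocallyConstant V M => f.comap ⟨ι, hι.continuous⟩) := by
  constructor
  · intro f f' hff
    apply eq_of_comp_eq (denseRange_of_good hG) hι.continuous
    intro y
    exact LocallyConstant.congr_fun hff y
  · intro g
    obtain ⟨f, hf⟩ := exists_extension hι g hG
    exact ⟨f, LocallyConstant.ext hf⟩

end Groth.Agent.H2.NormLC
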