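import Mathlib

set_option autoImplicit false
set_option linter.style.haveILetI false
set_option linter.unusedSectionVars false
set_option linter.unusedVariables false
universe u

open CategoryTheory AlgebraicGeometry Topology

namespace Groth.Agent.H2.SpecCl

/-- Points of the closure of the image of `Spec S → Spec R` are specializations of points of the
image. -/
lemma exists_specializes_of_mem_closure_range {R S : Type u} [CommRing R] [CommRing S]
    (f : R →+* S) {z : PrimeSpectrum R}
    (hz : z ∈ closure (Set.range (PrimeSpectrum.comap f))) :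
    ∃ y : PrimeSpectrum S, PrimeSpectrum.comap f y ⤳ z := by
  rw [PrimeSpectrum.closure_range_comap, PrimeSpectrum.mem_zeroLocus] at hz
  have hz' : RingHom.ker f ≤ z.asIdeal := hz
  obtain ⟨p, hp, hpz⟩ := Ideal.exists_minimalPrimes_le hz'
  rw [RingHom.ker_eq_comap_bot] at hp
  obtain ⟨p', hp', -, rfl⟩ := Ideal.exists_comap_eq_of_mem_minimalPrimes f p hp
  refine ⟨⟨p', hp'⟩, ?_⟩
  rw [← PrimeSpectrum.le_iff_specializes]
  exact hpz

/-- Points of the closure of a constructible subset of an affine scheme are specializations of
points of the subset. -/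
lemma exists_specializes_of_mem_closure_spec {R : Type u} [CommRing R]
    {s : Set (PrimeSpectrum R)} (hs : IsConstructible s) {z : PrimeSpectrum R}
    (hz : z ∈ closure s) : ∃ y ∈ s, y ⤳ z := by
  obtain ⟨S, _, f, rfl⟩ := PrimeSpectrum.exists_range_eq_of_isConstructible hs
  obtain ⟨y, hy⟩ := exists_specializes_of_mem_closure_range f hz
  exact ⟨_, ⟨y, rfl⟩, hy⟩

/-- Points of the closure of a constructible subset of a scheme are
specializations of points of the subset. -/
theorem exists_specializes_of_mem_closure {X : Scheme.{u}}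
    {s : Set X} (hs : IsConstructible s) {z : X} (hz : z ∈ closure s) : ∃ y ∈ s, y ⤳ z := by
  obtain ⟨W, hW, hzW, -⟩ := exists_isAffineOpen_mem_and_subset (x := z)
    (U := (⊤ : X.Opens)) trivial
  have hemb : IsOpenEmbedding hW.fromSpec := hW.fromSpec.isOpenEmbedding
  have hrange : Set.range hW.fromSpec = (W : Set X) := hW.range_fromSpec
  have hs' : IsConstructible (hW.fromSpec ⁻¹' s) :=
    hs.preimage_of_isOpenEmbedding hemb
  obtain ⟨z', hz'⟩ : z ∈ Set.range hW.fromSpec := by rw [hrange]; exact hzW
  have hz'' : z' ∈ closure (hW.fromSpec ⁻¹' s) := by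
    apply hemb.isOpenMap.preimage_closure_subset_closure_preimage
    change hW.fromSpec z' ∈ closure s
    rw [hz']
    exact hz
  obtain ⟨y, hy, hyz⟩ := exists_specializes_of_mem_closure_spec
    (R := Γ(X, W)) hs' hz''
  refine ⟨hW.fromSpec y, hy, ?_⟩
  rw [← hz']
  exact hyz.map hW.fromSpec.continuous

end Groth.Agent.H2.SpecCl
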