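import Mathlib
import Groth.Agent.Lib.Helper2.NormLCA
import Groth.Agent.Lib.Helper2.SpecClA

set_option autoImplicit false
set_option linter.style.haveILetI false
set_option linter.unusedSectionVars false
universe u
open Topology TopologicalSpace Set AlgebraicGeometry CategoryTheory

namespace Groth.Agent.H2.NormLC

/-- In a scheme, two generizations of a point with domain stalk have a common generization. -/
lemma exists_common_generization {V : Scheme.{u}} (x : V) [IsDomain (V.presheaf.stalk x)]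
    (y y' : V) (hy : y ⤳ x) (hy' : y' ⤳ x) : ∃ z, z ⤳ y ∧ z ⤳ y' := by
  have hr := V.range_fromSpecStalk (x := x)
  obtain ⟨q, rfl⟩ : y ∈ Set.range (V.fromSpecStalk x) := by rw [hr]; exact hy
  obtain ⟨q', rfl⟩ : y' ∈ Set.range (V.fromSpecStalk x) := by rw [hr]; exact hy'
  refine ⟨V.fromSpecStalk x (⊥ : PrimeSpectrum (V.presheaf.stalk x)), ?_, ?_⟩
  · exact ((PrimeSpectrum.le_iff_specializes _ _).1 bot_le).map (V.fromSpecStalk x).continuous
  · exact ((PrimeSpectrum.le_iff_specializes _ _).1 bot_le).map (V.fromSpecStalk x).continuous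

/-- The local hypothesis `Good` for an open immersion into a scheme with domain stalks. -/
theorem good_of_scheme {V Y : Scheme.{u}} (p : Y ⟶ V) [IsOpenImmersion p]
    (hdom : ∀ v : V, IsDomain (V.presheaf.stalk v))
    (hloc : ∀ x : V, ∃ A : V.Opens, IsAffineOpen A ∧ x ∈ A ∧ ∃ Y' : Set Y, IsOpen Y' ∧
      IsCompact Y' ∧ p '' Y' ⊆ A ∧ (A : Set V) ⊆ closure (p '' Y')) :
    Good (p : Y → V) := by
  intro x
  obtain ⟨A, hA, hxA, Y', hY'o, hY', hYA, hAY⟩ := hloc x
  refine ⟨A, Y', A.isOpen, hxA, hY'o, hY', hAY, ?_, ?_⟩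
  · intro S hSo hSc hSY x' hx' hx'S
    have hemb : IsOpenEmbedding A.ι := A.ι.isOpenEmbedding
    have hrange : Set.range A.ι = (A : Set V) := A.range_ι
    have hpS : p '' S ⊆ Set.range A.ι := by
      rw [hrange]; exact (Set.image_mono hSY).trans hYA
    have hpSo : IsOpen (p '' S) := p.isOpenEmbedding.isOpenMap _ hSo
    have hpSc : IsCompact (p '' S) := hSc.image p.continuous
    have hsAo : IsOpen (A.ι ⁻¹' (p '' S)) := hpSo.preimage A.ι.continuous
    have hsAc : IsCompact (A.ι ⁻¹' (p '' S)) :=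
      (hemb.isInducing.isCompact_preimage_iff hpS).2 hpSc
    haveI : IsAffine A.toScheme := hA
    have hretro : IsRetrocompact (A.ι ⁻¹' (p '' S)) := fun U hUc hUo =>
      QuasiSeparatedSpace.inter_isCompact _ _ hsAo hsAc hUo hUc
    have hcons : IsConstructible (A.ι ⁻¹' (p '' S)) := hretro.isConstructible hsAo
    obtain ⟨xA, rfl⟩ : x' ∈ Set.range A.ι := by rw [hrange]; exact hx'
    have hcl : xA ∈ closure (A.ι ⁻¹' (p '' S)) := by
      have := hemb.isOpenMap.preimage_closure_eq_closure_preimage A.ι.continuous (p '' S)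
      rw [← this]; exact hx'S
    obtain ⟨yA, hyA, hspec⟩ := SpecCl.exists_specializes_of_mem_closure hcons hcl
    obtain ⟨y, hyS, hy⟩ := hyA
    exact ⟨y, hyS, by rw [hy]; exact hspec.map A.ι.continuous⟩
  · intro x' _ y y' hy hy'
    haveI := hdom x'
    exact exists_common_generization x' y y' hy hy'

end Groth.Agent.H2.NormLC
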