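import Mathlib

set_option autoImplicit false
set_option linter.style.haveILetI false
set_option linter.unusedSectionVars false
universe u v w
open Topology TopologicalSpace Set

namespace Groth.Agent.H2.NormLC

variable {V : Type u} {Y : Type v} [TopologicalSpace V] [TopologicalSpace Y] {M : Type w}

lemma apply_eq_of_specializes (f : LocallyConstant V M) {x y : V} (h : x ⤳ y) : f x = f y :=
  h.mem_open (f.isLocallyConstant.isOpen_fiber (f y)) rfl

/-- If every point of `V` has a unique generization in the image of `p`, and the image of `p` is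
locally finite, then locally constant functions on `V` are the same as functions on `Y`. -/
theorem comap_bijective_of_fib {p : Y → V} (hp : Continuous p)
    (H2 : ∀ v : V, ∃ y : Y, p y ⤳ v)
    (H3 : ∀ (v : V) (y y' : Y), p y ⤳ v → p y' ⤳ v → y = y')
    (H5 : ∀ v : V, ∃ A : Set V, IsOpen A ∧ v ∈ A ∧ (p ⁻¹' A).Finite) :
    Function.Bijective (fun f : LocallyConstant V M => f.comap ⟨p, hp⟩) := by
  classical
  choose ζ hζ using H2
  have hζp : ∀ y, ζ (p y) = y := fun y => H3 (p y) _ _ (hζ (p y)) specializes_rfl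
  constructor
  · intro f f' hff
    apply LocallyConstant.ext
    intro v
    have h1 : f (p (ζ v)) = f' (p (ζ v)) := LocallyConstant.congr_fun hff (ζ v)
    rw [← apply_eq_of_specializes f (hζ v), ← apply_eq_of_specializes f' (hζ v)]
    exact h1
  · intro t
    have hlc : IsLocallyConstant (fun v => t (ζ v)) := by
      rw [IsLocallyConstant.iff_exists_open]
      intro v
      obtain ⟨A, hA, hvA, hfin⟩ := H5 v
      have hFfin : ((p ⁻¹' A) \ {ζ v}).Finite := hfin.diff
      have hZ : IsClosed (⋃ y ∈ (p ⁻¹' A) \ {ζ v}, closure {p y}) :=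
        hFfin.isClosed_biUnion (fun _ _ => isClosed_closure)
      refine ⟨A ∩ (⋃ y ∈ (p ⁻¹' A) \ {ζ v}, closure {p y})ᶜ, hA.inter hZ.isOpen_compl,
        ⟨hvA, ?_⟩, ?_⟩
      · intro hv
        obtain ⟨y, hy, hvy⟩ := mem_iUnion₂.1 hv
        exact hy.2 (H3 v y (ζ v) (specializes_iff_mem_closure.2 hvy) (hζ v))
      · rintro v' ⟨hv'A, hv'Z⟩
        have hmem : ζ v' ∈ p ⁻¹' A := (hζ v').mem_open hA hv'A
        by_cases h : ζ v' = ζ v
        · change t (ζ v') = t (ζ v)
          rw [h]
        · exfalso
          apply hv'Z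
          exact mem_biUnion (⟨hmem, h⟩ : ζ v' ∈ (p ⁻¹' A) \ {ζ v})
            (specializes_iff_mem_closure.1 (hζ v'))
    refine ⟨⟨fun v => t (ζ v), hlc⟩, ?_⟩
    apply LocallyConstant.ext
    intro y
    change t (ζ (p y)) = t y
    rw [hζp]

end Groth.Agent.H2.NormLC
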