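import Mathlib
import Groth.Prelude.Def_EtBase
import Groth.Agent.Lib.Helper2.ConstUnitC
import Groth.Agent.Lib.Helper2.NormLCB
import Groth.Agent.Lib.Helper2.NormLCC
import Groth.Agent.Lib.Helper2.NormDomB

set_option autoImplicit false
set_option linter.style.haveILetI false
set_option linter.unusedSectionVars false
universe u
open CategoryTheory CategoryTheory.Limits Opposite AlgebraicGeometry Topology Set

namespace Groth.Agent.H2.NormConst

open Groth.Agent.H2.ConstUnit Groth.Agent.H2.NormLC Groth.Agent.H2.NormDom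

theorem locallyQuasiFinite_of_etale {X Y : Scheme.{u}} (f : X ⟶ Y) [Etale f] :
    LocallyQuasiFinite f := by
  rw [HasRingHomProperty.iff_appLE (P := @LocallyQuasiFinite)]
  intro U V e
  have h1 : (f.appLE U.1 V.1 e).hom.FiniteType := f.finiteType_appLE U.2 V.2 e
  have h2 : (f.appLE U.1 V.1 e).hom.FormallyUnramified :=
    FormallyUnramified.formallyUnramified_appLE f U.2 V.2 e
  algebraize [(f.appLE U.1 V.1 e).hom]
  exact RingHom.quasiFinite_algebraMap.mpr inferInstance

/-- Local finiteness of the fibre of an étale morphism. -/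
lemma finite_inter_fiber {V X : Scheme.{u}} (h : V ⟶ X) [Etale h] {A : V.Opens}
    (hA : IsAffineOpen A) {W : X.Opens} (hW : IsAffineOpen W) (e : A ≤ h ⁻¹ᵁ W) (x : X)
    (hxW : x ∈ W) : ((A : Set V) ∩ h ⁻¹' {x}).Finite := by
  haveI : IsAffine A.toScheme := hA
  haveI : IsAffine W.toScheme := hW
  let r : A.toScheme ⟶ W.toScheme := h.resLE W A e
  have hr : r ≫ W.ι = A.ι ≫ h := Scheme.Hom.resLE_comp_ι _ _
  haveI : LocallyQuasiFinite r := locallyQuasiFinite_of_etale r
  have hfin : (r ⁻¹' {(⟨x, hxW⟩ : W)}).Finite := r.finite_preimage_singleton _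
  refine (hfin.image A.ι).subset ?_
  rintro a ⟨haA, hax⟩
  obtain ⟨a', rfl⟩ : a ∈ Set.range A.ι := by rw [A.range_ι]; exact haA
  refine ⟨a', ?_, rfl⟩
  apply W.ι.isOpenEmbedding.injective
  change W.ι (r a') = x
  rw [← Scheme.Hom.comp_apply, hr, Scheme.Hom.comp_apply]
  exact hax

set_option backward.isDefEq.respectTransparency.types false in
/-- On an integral normal scheme, the constant sheaf is the direct image of the constant sheaf
on the generic point. -/
theorem isIso_unit_generic {X G : Scheme.{u}} [IsIntegral X]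
    (hX : ∀ x : X, IsDomain (X.presheaf.stalk x) ∧ IsIntegrallyClosed (X.presheaf.stalk x))
    (g : G ⟶ X) [IsPreimmersion g] (hg : Set.range g = {genericPoint X})
    (M : AddCommGrpCat.{u + 1}) :
    IsIso ((EtCoh.pullPushAdj g).unit.app (cS X M)) := by
  apply isIso_unit_of_bijective
  intro V
  haveI : Etale V.hom := V.prop
  have hrange : Set.range (pullback.fst V.hom g : ((EtCoh.bc g).obj V).left ⟶ V.left) =
      V.hom ⁻¹' {genericPoint X} := by
    rw [← hg]; exact Scheme.Pullback.range_fst V.hom g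
  have hmem : ∀ y, V.hom ((pullback.fst V.hom g : ((EtCoh.bc g).obj V).left ⟶ V.left) y) =
      genericPoint X := by
    intro y
    have : (pullback.fst V.hom g : ((EtCoh.bc g).obj V).left ⟶ V.left) y ∈
      Set.range (pullback.fst V.hom g : ((EtCoh.bc g).obj V).left ⟶ V.left) := ⟨y, rfl⟩
    rw [hrange] at this
    exact this
  have hdom := fun v => isDomain_stalk_of_etale V.hom hX v
  haveI : LocallyQuasiFinite V.hom := locallyQuasiFinite_of_etale V.hom
  have hdisc : _root_.IsDiscrete (V.hom ⁻¹' {genericPoint X}) :=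
    V.hom.isDiscrete_preimage_singleton _
  have hinj : Function.Injective
      (pullback.fst V.hom g : ((EtCoh.bc g).obj V).left ⟶ V.left) :=
    (pullback.fst V.hom g).isEmbedding.injective
  have hV4 : ∀ z ζ : V.left, V.hom z = genericPoint X → V.hom ζ = genericPoint X → z ⤳ ζ →
      z = ζ := by
    intro z ζ hz hζ hs
    haveI : DiscreteTopology ↥(V.hom ⁻¹' {genericPoint X}) := hdisc.to_subtype
    have h1 : (⟨z, hz⟩ : ↥(V.hom ⁻¹' {genericPoint X})) ⤳ ⟨ζ, hζ⟩ :=
      (subtype_specializes_iff _ _).2 hs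
    exact congrArg Subtype.val h1.eq
  have hgen : ∀ x : X, x ⤳ genericPoint X → x = genericPoint X := fun x hx =>
    (hx.antisymm (genericPoint_specializes x)).eq
  apply comap_bijective_of_fib (pullback.fst V.hom g).continuous
  · intro v
    obtain ⟨ζ, hζv, hζ⟩ := (Flat.generalizingMap (f := V.hom))
      (genericPoint_specializes (α := X) (V.hom v))
    obtain ⟨y, rfl⟩ : ζ ∈ Set.range
        (pullback.fst V.hom g : ((EtCoh.bc g).obj V).left ⟶ V.left) := by
      rw [hrange]; exact hζ
    exact ⟨y, hζv⟩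
  · intro v y y' hy hy'
    apply hinj
    haveI := hdom v
    obtain ⟨z, hz, hz'⟩ := exists_common_generization v _ _ hy hy'
    have hzη : V.hom z = genericPoint X :=
      hgen _ (by rw [← hmem y]; exact hz.map V.hom.continuous)
    rw [← hV4 z _ hzη (hmem y) hz, ← hV4 z _ hzη (hmem y') hz']
  · intro v
    obtain ⟨_, ⟨W, hW : IsAffineOpen W, rfl⟩, hvW, -⟩ :=
      X.isBasis_affineOpens.exists_subset_of_mem_open (Set.mem_univ (V.hom v)) isOpen_univ
    obtain ⟨_, ⟨A, hA : IsAffineOpen A, rfl⟩, hvA, hAW⟩ :=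
      V.left.isBasis_affineOpens.exists_subset_of_mem_open
        (show v ∈ ((V.hom ⁻¹ᵁ W : V.left.Opens) : Set V.left) from hvW) (V.hom ⁻¹ᵁ W).isOpen
    have hηW : genericPoint X ∈ W :=
      (genericPoint_specializes (α := X) (V.hom v)).mem_open W.isOpen hvW
    have hfin := finite_inter_fiber V.hom hA hW hAW (genericPoint X) hηW
    refine ⟨(A : Set V.left), A.isOpen, hvA, ?_⟩
    exact (hfin.preimage hinj.injOn).subset (fun y hy => ⟨hy, hmem y⟩)

end Groth.Agent.H2.NormConst
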