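import Mathlib
import Groth.Prelude.Def_EtCore
import Groth.Agent.Lib.Helper2.CdlB
import Groth.Agent.Lib.Lead.AbPull.LerayGen

/-! # Shapiro's lemma for integral morphisms and descent of cohomological dimension. -/

set_option autoImplicit false
set_option linter.style.haveILetI false
set_option linter.unusedVariables false
set_option linter.unusedSectionVars false
universe u
open CategoryTheory CategoryTheory.Limits AlgebraicGeometry Opposite Abelian

namespace Groth.Agent.H2.Cdl
open Groth.Agent.H2.PTors

/-- Degenerate Leray for an integral morphism. -/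
theorem nonempty_H_push_equiv {X Y : Scheme.{u}} (f : X ⟶ Y) [IsIntegralHom f]
    (Z : EtCoh.Ab X) (p : ℕ) :
    Nonempty (EtCoh.H X Z p ≃+ EtCoh.H Y ((EtCoh.push f).obj Z) p) := by
  haveI := Groth.Agent.H2.PropInt.preservesFiniteLimits_push f
  refine Groth.Agent.LD.AbPull.leray_of_isZero_rightDerived (EtCoh.push f)
    ((constantSheaf Y.smallEtaleTopology AddCommGrpCat.{u + 1}).obj
      (AddCommGrpCat.of (ULift.{u + 1} ℤ)))
    ((constantSheaf X.smallEtaleTopology AddCommGrpCat.{u + 1}).obj
      (AddCommGrpCat.of (ULift.{u + 1} ℤ)))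
    (fun Q => ((EtCore.pullConst f ℤ).symm.homFromEquiv (Z := Q)).trans
      ((EtCoh.pullPushAdj f).homEquiv _ _)) ?_ ?_ Z
    (fun q => Groth.Agent.H2.PropInt.isZero_Rpush_of_integral f Z (q + 1) (Nat.succ_pos q)) p
  · intro Q Q' ψ φ
    simp only [Equiv.trans_apply, Iso.homFromEquiv_apply]
    rw [← Category.assoc, Adjunction.homEquiv_naturality_right]
  · intro Q hQ
    exact (EtCoh.push f).injective_obj Q

theorem cdLE_of_integral {P : ℕ → Prop} (hP : MulPred P) {X Y : Scheme.{u}} (f : X ⟶ Y)
    [IsIntegralHom f] {n : ℕ} (h : CdLE Y P n) : CdLE X P n := by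
  intro G hG q hq
  obtain ⟨e⟩ := nonempty_H_push_equiv f G q
  haveI := h ((EtCoh.push f).obj G) (isPTorsion_push hP f G hG) q hq
  exact e.toEquiv.subsingleton

end Groth.Agent.H2.Cdl
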