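import Mathlib
import Groth.Agent.Lib.Lead.SC.Basic

/-! # Galois coverings in a site: descent of invariant sections and the cotrace
`ℤ_T ⟶ ℤ_U`; cohomology classes dying on a Galois covering are killed by its degree. -/

set_option autoImplicit false
set_option linter.style.haveILetI false
set_option linter.unusedVariables false
set_option linter.unusedSectionVars false
universe u
open CategoryTheory CategoryTheory.Limits Opposite Abelian

namespace Groth.Agent.H2.GalCot
open Groth.Agent.LD.SC

variable {C : Type u} [SmallCategory C] (J : GrothendieckTopology C)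

/-- the sieve of arrows on which `a'` is a Galois translate of `a`. -/
def galSieve {U W : C} {G : Type*} (ρ : G → (U ⟶ U)) (a a' : W ⟶ U) : Sieve W where
  arrows W' b := ∃ g : G, b ≫ a' = b ≫ a ≫ ρ g
  downward_closed := by
    rintro W₁ W₂ b ⟨g, hg⟩ c
    exact ⟨g, by rw [Category.assoc, hg, Category.assoc]⟩

/-- a Galois covering `f : U ⟶ T` with group `G` acting through `ρ`. -/
structure GalData {T U : C} (f : U ⟶ T) (G : Type*) (ρ : G → (U ⟶ U)) : Prop where
  cover : Sieve.generate (Presieve.singleton f) ∈ J T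
  inv : ∀ g, ρ g ≫ f = f
  perm : ∀ l : G, ∃ π : G ≃ G, ∀ k, ρ l ≫ ρ k = ρ (π k)
  gal : ∀ (W : C) (a a' : W ⟶ U), a ≫ f = a' ≫ f → galSieve ρ a a' ∈ J W

variable {J} {T U : C} {f : U ⟶ T} {G : Type*} {ρ : G → (U ⟶ U)}

lemma isSheaf_forget (H : Sheaf J AddCommGrpCat.{u}) :
    Presieve.IsSheaf J (H.obj ⋙ forget AddCommGrpCat.{u}) :=
  (isSheaf_iff_isSheaf_of_type J _).1
    ((Presheaf.isSheaf_iff_isSheaf_forget J H.obj (forget _)).1 H.property)

/-- invariant sections have the same restriction along any two arrows with the same image. -/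
lemma map_eq_of_inv (hd : GalData J f G ρ) (H : Sheaf J AddCommGrpCat.{u})
    (σ : H.obj.obj (op U)) (hσ : ∀ g, H.obj.map (ρ g).op σ = σ) {W : C} (a a' : W ⟶ U)
    (h : a ≫ f = a' ≫ f) : H.obj.map a.op σ = H.obj.map a'.op σ := by
  refine ((isSheaf_forget H) _ (hd.gal W a a' h)).isSeparatedFor.ext ?_
  rintro W' b ⟨g, hg⟩
  change H.obj.map b.op (H.obj.map a.op σ) = H.obj.map b.op (H.obj.map a'.op σ)
  rw [← ConcreteCategory.comp_apply, ← ConcreteCategory.comp_apply, ← H.obj.map_comp,
    ← H.obj.map_comp, ← op_comp, ← op_comp, hg]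
  have : (b ≫ a ≫ ρ g).op = (ρ g).op ≫ (b ≫ a).op := by
    rw [← op_comp, Category.assoc]
  rw [this, H.obj.map_comp, ConcreteCategory.comp_apply, hσ g]

/-- **descent of invariant sections.** -/
theorem exists_descent (hd : GalData J f G ρ) (H : Sheaf J AddCommGrpCat.{u})
    (σ : H.obj.obj (op U)) (hσ : ∀ g, H.obj.map (ρ g).op σ = σ) :
    ∃ t : H.obj.obj (op T), H.obj.map f.op t = σ := by
  have h1 := (Presieve.isSheafFor_iff_generate _).2 ((isSheaf_forget H) _ hd.cover)
  rw [Presieve.isSheafFor_singleton] at h1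
  obtain ⟨t, ht, -⟩ := h1 σ (fun p₁ p₂ h => map_eq_of_inv hd H σ hσ p₁ p₂ h)
  exact ⟨t, ht⟩

/-- restriction along a Galois covering is injective. -/
theorem map_injective (hd : GalData J f G ρ) (H : Sheaf J AddCommGrpCat.{u}) :
    Function.Injective (H.obj.map f.op) := by
  have h1 := ((Presieve.isSheafFor_iff_generate _).2
    ((isSheaf_forget H) _ hd.cover)).isSeparatedFor
  rw [Presieve.isSeparatedFor_singleton] at h1
  exact h1

end Groth.Agent.H2.GalCot
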