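import Mathlib
import Groth.Agent.Lib.Helper2.GalCotA

/-! # The cotrace of a Galois covering and the killing of cohomology classes. -/

set_option autoImplicit false
set_option linter.style.haveILetI false
set_option linter.unusedVariables false
set_option linter.unusedSectionVars false
universe u
open CategoryTheory CategoryTheory.Limits Opposite Abelian

namespace Groth.Agent.H2.GalCot
open Groth.Agent.LD.SC

variable {C : Type u} [SmallCategory C] {J : GrothendieckTopology C}
  [HasSheafify J AddCommGrpCat.{u}]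
variable {T U : C} {f : U ⟶ T} {G : Type*} [Fintype G] {ρ : G → (U ⟶ U)}

/-- the invariant section `Σ_g g^* gen`. -/
noncomputable def sig (J : GrothendieckTopology C) [HasSheafify J AddCommGrpCat.{u}]
    (ρ : G → (U ⟶ U)) : (ZU J U).obj.obj (op U) :=
  ∑ k : G, (ZU J U).obj.map (ρ k).op (gen U)

lemma sig_inv (hd : GalData J f G ρ) (l : G) :
    (ZU J U).obj.map (ρ l).op (sig J ρ) = sig J ρ := by
  unfold sig
  rw [map_sum]
  obtain ⟨π, hπ⟩ := hd.perm l
  have key : ∀ k, (ZU J U).obj.map (ρ l).op ((ZU J U).obj.map (ρ k).op (gen U)) =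
      (ZU J U).obj.map (ρ (π k)).op (gen U) := by
    intro k
    rw [← ConcreteCategory.comp_apply, ← Functor.map_comp, ← op_comp, hπ k]
  simp_rw [key]
  exact Fintype.sum_equiv π _ _ (fun k => rfl)

theorem exists_cotrace (hd : GalData J f G ρ) :
    ∃ c : ZU J T ⟶ ZU J U, c ≫ ZUmap J f = Fintype.card G • 𝟙 (ZU J T) := by
  obtain ⟨t, ht⟩ := exists_descent hd (ZU J U) (sig J ρ) (sig_inv hd)
  refine ⟨(homEquiv T (ZU J U)).symm t, ?_⟩
  apply (homEquiv T (ZU J T)).injective
  rw [homEquiv_comp, Equiv.apply_symm_apply]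
  have hR : homEquiv T (ZU J T) (Fintype.card G • 𝟙 _) = Fintype.card G • gen T :=
    map_nsmul (homAddEquiv T (ZU J T)) (Fintype.card G) (𝟙 _)
  rw [hR]
  apply map_injective hd (ZU J T)
  have n1 := NatTrans.naturality_apply (ZUmap J f).hom f.op t
  rw [← n1, ht]
  unfold sig
  rw [map_sum, map_nsmul]
  have h3 : (ZUmap J f).hom.app (op U) (gen U) = (ZU J T).obj.map f.op (gen T) := by
    rw [← homEquiv_apply]
    have := homEquiv_map f (𝟙 (ZU J T))
    rw [Category.comp_id] at this
    exact this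
  have key : ∀ k, (ZUmap J f).hom.app (op U) ((ZU J U).obj.map (ρ k).op (gen U)) =
      (ZU J T).obj.map f.op (gen T) := by
    intro k
    have n2 := NatTrans.naturality_apply (ZUmap J f).hom (ρ k).op (gen U)
    rw [n2, h3, ← ConcreteCategory.comp_apply, ← Functor.map_comp, ← op_comp, hd.inv k]
  simp_rw [key]
  rw [Finset.sum_const, Finset.card_univ]

section Ext
variable [HasExt.{u} (Sheaf J AddCommGrpCat.{u})]

/-- precomposition as an additive map. -/
noncomputable def preHom {P Q F : Sheaf J AddCommGrpCat.{u}} {n : ℕ} (ξ : Ext Q F n) :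
    (P ⟶ Q) →+ Ext P F n where
  toFun φ := (Ext.mk₀ φ).comp ξ (zero_add n)
  map_zero' := by rw [Ext.mk₀_zero, Ext.zero_comp]
  map_add' φ ψ := by rw [Ext.mk₀_add, Ext.add_comp]

/-- **a class dying on a Galois covering is killed by the order of the group.** -/
theorem card_nsmul_eq_zero (hd : GalData J f G ρ) {F : Sheaf J AddCommGrpCat.{u}} {n : ℕ}
    (ξ : Ext (ZU J T) F n) (h : Hres f ξ = 0) : Fintype.card G • ξ = 0 := by
  obtain ⟨c, hc⟩ := exists_cotrace hd
  have h1 : (Ext.mk₀ (c ≫ ZUmap J f)).comp ξ (zero_add n) = Fintype.card G • ξ := by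
    rw [hc]
    have := map_nsmul (preHom (P := ZU J T) ξ) (Fintype.card G) (𝟙 _)
    refine this.trans ?_
    congr 1
    exact Ext.mk₀_id_comp ξ
  rw [← h1, ← Ext.mk₀_comp_mk₀, Ext.comp_assoc_of_second_deg_zero]
  have h2 : (Ext.mk₀ (ZUmap J f)).comp ξ (zero_add n) = 0 := h
  rw [h2, Ext.comp_zero]

end Ext

end Groth.Agent.H2.GalCot
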