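import Mathlib
import Groth.Agent.Lib.Helper2.EtSmallD
import Groth.Agent.Lib.Helper2.GalCotB
import Groth.Agent.Lib.Helper8.Pi0.Comp

/-! # Finite separable extensions as objects of the small étale site of a field. -/

set_option autoImplicit false
set_option linter.style.haveILetI false
set_option linter.unusedVariables false
set_option linter.unusedSectionVars false
universe u
open CategoryTheory CategoryTheory.Limits AlgebraicGeometry Opposite

namespace Groth.Agent.H2.GalField

variable (K : Type u) [Field K]

/-- the spectrum of the base field. -/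
noncomputable abbrev SK : Scheme.{u} := Spec (CommRingCat.of K)

section Obj
variable (L : Type u) [Field L] [Algebra K L] [Module.Finite K L] [Algebra.IsSeparable K L]

lemma etale_specMap : Etale (Spec.map (CommRingCat.ofHom (algebraMap K L))) := by
  haveI := Groth.Agent.H8.Pi0.etale_of_finite_sep (k := K) L
  rw [HasRingHomProperty.Spec_iff (P := @Etale)]
  exact RingHom.etale_algebraMap.mpr inferInstance

/-- `Spec L` as an étale `Spec K`-scheme. -/
noncomputable def specObj : (SK K).Etale :=
  haveI := etale_specMap K L
  Scheme.Etale.mk (Spec.map (CommRingCat.ofHom (algebraMap K L)))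

end Obj

section Hom
variable {K}
variable {L L' L'' : Type u} [Field L] [Algebra K L] [Module.Finite K L] [Algebra.IsSeparable K L]
  [Field L'] [Algebra K L'] [Module.Finite K L'] [Algebra.IsSeparable K L']
  [Field L''] [Algebra K L''] [Module.Finite K L''] [Algebra.IsSeparable K L'']

/-- the morphism of étale schemes attached to a `K`-algebra map (contravariant). -/
noncomputable def specHom (φ : L →ₐ[K] L') : specObj K L' ⟶ specObj K L :=
  MorphismProperty.Over.homMk (Spec.map (CommRingCat.ofHom φ.toRingHom)) (by
    change Spec.map (CommRingCat.ofHom φ.toRingHom) ≫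
      Spec.map (CommRingCat.ofHom (algebraMap K L)) = Spec.map (CommRingCat.ofHom (algebraMap K L'))
    rw [← Spec.map_comp, ← CommRingCat.ofHom_comp]
    congr 2
    exact φ.comp_algebraMap)

lemma specHom_left (φ : L →ₐ[K] L') :
    (specHom φ).left = Spec.map (CommRingCat.ofHom φ.toRingHom) := rfl

lemma specHom_comp (φ : L →ₐ[K] L') (ψ : L' →ₐ[K] L'') :
    specHom (ψ.comp φ) = specHom ψ ≫ specHom φ := by
  apply MorphismProperty.Over.Hom.ext
  change Spec.map (CommRingCat.ofHom (ψ.comp φ).toRingHom) =
    Spec.map (CommRingCat.ofHom ψ.toRingHom) ≫ Spec.map (CommRingCat.ofHom φ.toRingHom)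
  rw [← Spec.map_comp, ← CommRingCat.ofHom_comp]
  rfl

/-- every morphism between such objects comes from an algebra map. -/
lemma exists_specHom_eq (h : specObj K L' ⟶ specObj K L) :
    ∃ φ : L →ₐ[K] L', specHom φ = h := by
  let ψ : CommRingCat.of L ⟶ CommRingCat.of L' := Spec.preimage h.left
  have hψ : Spec.map ψ = h.left := Spec.map_preimage _
  have hw : Spec.map ψ ≫ Spec.map (CommRingCat.ofHom (algebraMap K L)) =
      Spec.map (CommRingCat.ofHom (algebraMap K L')) := by
    have := MorphismProperty.Over.w h
    rw [hψ]
    exact this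
  have hw2 : Spec.map (CommRingCat.ofHom (algebraMap K L) ≫ ψ) =
      Spec.map (CommRingCat.ofHom (algebraMap K L')) := by
    rw [Spec.map_comp]; exact hw
  have hw' := Spec.map_injective hw2
  refine ⟨{ ψ.hom with commutes' := fun r => ?_ }, ?_⟩
  · have := congrArg (fun χ : CommRingCat.of K ⟶ CommRingCat.of L' => χ.hom r) hw'
    exact this
  · apply MorphismProperty.Over.Hom.ext
    rw [specHom_left, ← hψ]
    rfl

end Hom

end Groth.Agent.H2.GalField
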