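import Mathlib
import Groth.Agent.Lib.Helper2.GalFieldA

/-! # Galois coverings of the spectrum of a field in the small étale site. -/

set_option autoImplicit false
set_option linter.style.haveILetI false
set_option linter.unusedVariables false
set_option linter.unusedSectionVars false
universe u
open CategoryTheory CategoryTheory.Limits AlgebraicGeometry Opposite IntermediateField

namespace Groth.Agent.H2.GalField
open Groth.Agent.H2.EtSmall Groth.Agent.H2.GalCot

/-- two embeddings of a normal extension differ by an automorphism. -/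
lemma exists_algEquiv_comp {K M L : Type*} [Field K] [Field M] [Field L] [Algebra K M]
    [Algebra K L] [Normal K M] (φ φ' : M →ₐ[K] L) :
    ∃ g : M ≃ₐ[K] M, φ' = φ.comp (g : M →ₐ[K] M) := by
  letI : Algebra M L := φ.toRingHom.toAlgebra
  haveI : IsScalarTower K M L := IsScalarTower.of_algebraMap_eq (fun x => (φ.commutes x).symm)
  refine ⟨φ'.restrictNormal' M, ?_⟩
  ext x
  exact (AlgHom.restrictNormal_commutes φ' M x).symm

section Closure
variable (K : Type u) [Field K] (L : Type u) [Field L] [Algebra K L] [Module.Finite K L]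
  [Algebra.IsSeparable K L]

instance : IsAlgClosure K (AlgebraicClosure L) :=
  IsAlgClosure.ofAlgebraic K L (AlgebraicClosure L)

/-- the Galois closure. -/
noncomputable abbrev GC : IntermediateField K (AlgebraicClosure L) :=
  normalClosure K L (AlgebraicClosure L)

instance : Algebra.IsSeparable K (GC K L) := by
  unfold GC
  rw [normalClosure_def]
  haveI : ∀ f : L →ₐ[K] AlgebraicClosure L, Algebra.IsSeparable K f.fieldRange := fun f =>
    AlgEquiv.Algebra.isSeparable (AlgEquiv.ofInjectiveField f)
  exact IntermediateField.isSeparable_iSup _ _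

end Closure

variable (K : Type u) [Field K]

/-- the terminal object of the small model. -/
noncomputable def topSIsTerminal : IsTerminal (topS (SK K)) :=
  IsTerminal.isTerminalObj (eqv (SK K)).functor _ (EtCore.topIsTerminal (SK K))

instance : Subsingleton ↥((Ψ (SK K)).obj (topS (SK K))) :=
  show Subsingleton (PrimeSpectrum K) from inferInstance

/-- the point of `Spec K`. -/
noncomputable def ptK : ↥((Ψ (SK K)).obj (topS (SK K))) :=
  (show PrimeSpectrum K from ⟨⊥, Ideal.isPrime_bot⟩)

section Obj
variable (L : Type u) [Field L] [Algebra K L] [Module.Finite K L] [Algebra.IsSeparable K L]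

/-- `Spec L` in the small model. -/
noncomputable abbrev specObjS : SC (SK K) := (eqv (SK K)).functor.obj (specObj K L)

/-- the point of `Spec L`. -/
noncomputable def pt : ↥((Ψ (SK K)).obj (specObjS K L)) :=
  (show PrimeSpectrum L from ⟨⊥, Ideal.isPrime_bot⟩)

end Obj

section Gal
variable (M : Type u) [Field M] [Algebra K M] [Module.Finite K M] [Algebra.IsSeparable K M]
  [Normal K M]

/-- the Galois action. -/
noncomputable def rho (g : M ≃ₐ[K] M) : specObjS K M ⟶ specObjS K M :=
  (eqv (SK K)).functor.map (specHom (g : M →ₐ[K] M))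

theorem galData (f : specObjS K M ⟶ topS (SK K)) :
    GalData (topo (SK K)) f (M ≃ₐ[K] M) (rho K M) where
  cover := by
    rw [mem_topo_iff]
    intro x
    exact ⟨specObjS K M, f, pt K M,
      ⟨_, 𝟙 _, f, Presieve.singleton_self f, Category.id_comp _⟩, Subsingleton.elim _ _⟩
  inv := fun g => (topSIsTerminal K).hom_ext _ _
  perm := fun l => ⟨Equiv.mulLeft l, fun k => by
    change (eqv (SK K)).functor.map _ ≫ (eqv (SK K)).functor.map _ = (eqv (SK K)).functor.map _
    rw [← Functor.map_comp, ← specHom_comp]
    rfl⟩
  gal := by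
    intro W a a' _
    rw [mem_topo_iff]
    intro w
    let W' : (SK K).Etale := (eqv (SK K)).inverse.obj W
    haveI : Etale W'.hom := W'.prop
    obtain ⟨L'', _, _, _, _, j, hjo, hj, ⟨y, hy⟩⟩ :=
      Groth.Agent.H8.Pi0.exists_open_point (k := K) W'.hom w
    let b₀ : specObj K L'' ⟶ W' := MorphismProperty.Over.homMk j hj
    let b : specObjS K L'' ⟶ W := (eqv (SK K)).functor.map b₀
    obtain ⟨φ, hφ⟩ := exists_specHom_eq (K := K) (L := M) (L' := L'')
      ((eqv (SK K)).inverse.map (b ≫ a))
    obtain ⟨φ', hφ'⟩ := exists_specHom_eq (K := K) (L := M) (L' := L'')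
      ((eqv (SK K)).inverse.map (b ≫ a'))
    obtain ⟨g, hg⟩ := exists_algEquiv_comp φ φ'
    have e1 : b ≫ a = (eqv (SK K)).functor.map (specHom φ) := by
      rw [hφ]; rfl
    have e2 : b ≫ a' = (eqv (SK K)).functor.map (specHom φ') := by
      rw [hφ']; rfl
    refine ⟨specObjS K L'', b, y, ⟨g, ?_⟩, hy⟩
    rw [← Category.assoc, e1, e2, hg, specHom_comp, Functor.map_comp]
    rfl

end Gal

end Groth.Agent.H2.GalField
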