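import Mathlib
import Groth.Agent.Lib.Helper2.GalFieldB

/-! # Étale cohomology of a field in positive degrees is torsion. -/

set_option autoImplicit false
set_option linter.style.haveILetI false
set_option linter.unusedVariables false
set_option linter.unusedSectionVars false
universe u
open CategoryTheory CategoryTheory.Limits AlgebraicGeometry Opposite IntermediateField Abelian

namespace Groth.Agent.H2.GalField
open Groth.Agent.H2.EtSmall Groth.Agent.H2.GalCot Groth.Agent.LD.SC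

variable (K : Type u) [Field K]

theorem exists_nsmul_eq_zero_small (G : Sheaf (topo (SK K)) AddCommGrpCat.{u + 1}) (n : ℕ)
    (ξ : Ext (ZU (topo (SK K)) (topS (SK K))) G (n + 1)) : ∃ m : ℕ, 0 < m ∧ m • ξ = 0 := by
  obtain ⟨S, hS, hS0⟩ := exists_sieve_Hres_eq_zero n G ξ
  rw [mem_topo_iff] at hS
  obtain ⟨V, f, y, hf, -⟩ := hS (ptK K)
  let V' : (SK K).Etale := (eqv (SK K)).inverse.obj V
  haveI : Etale V'.hom := V'.prop
  obtain ⟨L', _, _, _, _, j, hjo, hj, -⟩ :=
    Groth.Agent.H8.Pi0.exists_open_point (k := K) V'.hom y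
  let b₀ : specObj K L' ⟶ V' := MorphismProperty.Over.homMk j hj
  let ι : L' →ₐ[K] GC K L' := IsScalarTower.toAlgHom K L' (GC K L')
  let a : specObjS K (GC K L') ⟶ V := (eqv (SK K)).functor.map (specHom ι ≫ b₀)
  have h0 : Hres (a ≫ f) ξ = 0 := hS0 _ (S.downward_closed hf a)
  have := card_nsmul_eq_zero (galData K (GC K L') (a ≫ f)) ξ h0
  exact ⟨Fintype.card (GC K L' ≃ₐ[K] GC K L'), Fintype.card_pos, this⟩

theorem exists_nsmul_eq_zero (F : EtCoh.Ab (SK K)) (n : ℕ) (α : EtCoh.H (SK K) F (n + 1)) :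
    ∃ m : ℕ, 0 < m ∧ m • α = 0 := by
  obtain ⟨e⟩ := nonempty_ext_equiv (SK K) F (n + 1)
  obtain ⟨m, hm, h⟩ := exists_nsmul_eq_zero_small K ((Φ (SK K)).functor.obj F) n
    (e (α : Ext (constZ (SK K)) F (n + 1)))
  refine ⟨m, hm, ?_⟩
  apply e.injective
  rw [map_nsmul, map_zero]
  exact h

theorem isOfFinAddOrder (F : EtCoh.Ab (SK K)) (i : ℕ) (hi : 0 < i) (α : EtCoh.H (SK K) F i) :
    IsOfFinAddOrder α := by
  obtain ⟨n, rfl⟩ := Nat.exists_eq_succ_of_ne_zero hi.ne'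
  obtain ⟨m, hm, h⟩ := exists_nsmul_eq_zero K F n α
  rw [isOfFinAddOrder_iff_nsmul_eq_zero]
  exact ⟨m, hm, h⟩

end Groth.Agent.H2.GalField
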