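import Mathlib
import Groth.Agent.Lib.Helper2.LocExtA
import Groth.Agent.Lib.Helper2.CdlC
import Groth.Agent.Lib.Helper2.GalFieldC
import Groth.Agent.Lib.Helper2.EtRpushC

/-! # Higher cohomology of quasi-compact étale schemes over a field is torsion; a criterion for
`Rⁿ f_* F` to be `P`-torsion. -/

set_option autoImplicit false
set_option linter.style.haveILetI false
set_option linter.unusedVariables false
set_option linter.unusedSectionVars false
universe u
open CategoryTheory CategoryTheory.Limits AlgebraicGeometry Opposite Abelian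

namespace Groth.Agent.H2.LocExt
open Groth.Agent.H2.EtSmall Groth.Agent.LD.SC Groth.Agent.H2.PTors Groth.Agent.H2.GalField
  Groth.Agent.H2.EtRpush

theorem locallyQuasiFinite_of_etale {X Y : Scheme.{u}} (f : X ⟶ Y) [Etale f] :
    LocallyQuasiFinite f := by
  rw [HasRingHomProperty.iff_appLE (P := @LocallyQuasiFinite)]
  intro U V e
  have h := HasRingHomProperty.appLE (P := @Etale) f ‹_› U V e
  algebraize [(f.appLE U.1 V.1 e).hom]
  have : Algebra.Etale Γ(Y, U.1) Γ(X, V.1) := h
  show Algebra.QuasiFinite _ _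
  infer_instance

section Field
variable (K : Type u) [Field K]

/-- a quasi-compact étale scheme over a field is finite over it. -/
theorem isFinite_of_compact' {V : Scheme.{u}} (g : V ⟶ SK K) [Etale g] [CompactSpace V] :
    IsFinite g := by
  haveI := locallyQuasiFinite_of_etale g
  haveI : IsLocallyArtinian (SK K) := Scheme.isLocallyArtinianScheme_Spec.mpr inferInstance
  haveI : QuasiCompact g := (quasiCompact_iff_compactSpace g).2 inferInstance
  exact IsFinite.of_locallyQuasiFinite g

theorem isFinite_of_compact (V : (SK K).Etale) [CompactSpace V.left] : IsFinite V.hom := by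
  haveI : Etale V.hom := V.prop
  exact isFinite_of_compact' K (V := V.left) V.hom

/-- higher cohomology over a quasi-compact étale `K`-scheme is torsion. -/
theorem exists_nsmul_eq_zero_ext_field (F : EtCoh.Ab (SK K)) {U : SC (SK K)}
    (hU : U ∈ Bq (SK K)) (n : ℕ)
    (β : Ext (ZU (topo (SK K)) U) ((Φ (SK K)).functor.obj F) (n + 1)) :
    ∃ m : ℕ, 0 < m ∧ m • β = 0 := by
  let V : (SK K).Etale := (eqv (SK K)).inverse.obj U
  haveI : CompactSpace V.left := hU.1
  haveI := isFinite_of_compact K V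
  obtain ⟨e1⟩ := nonempty_ext_equiv_H V F (n + 1)
  obtain ⟨e2⟩ := Groth.Agent.H2.Cdl.nonempty_H_push_equiv V.hom ((EtCoh.pull V.hom).obj F) (n + 1)
  obtain ⟨m, hm, h⟩ := exists_nsmul_eq_zero K _ n (e2 (e1 β))
  refine ⟨m, hm, ?_⟩
  have hz : e2 (e1 (m • β)) = 0 :=
    (congrArg e2 (map_nsmul e1 m β)).trans ((map_nsmul e2 m (e1 β)).trans h)
  have hz' : e1 (m • β) = 0 := e2.injective (hz.trans (map_zero e2).symm)
  exact e1.injective (hz'.trans (map_zero e1).symm)

end Field

variable {X Y : Scheme.{u}} (f : X ⟶ Y)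

/-- criterion for `Rⁿ f_* F` to be `P`-torsion. -/
theorem isPTorsion_Rpush_of_forall {P : ℕ → Prop} [QuasiCompact f] [QuasiSeparated f]
    (F : EtCoh.Ab X) (n : ℕ)
    (H : ∀ (U : SC X), U ∈ Bq X → ∀ β : Ext (ZU (topo X) U) ((Φ X).functor.obj F) n,
      ∃ m : ℕ, P m ∧ m • β = 0) :
    IsPTorsion P ((EtCoh.Rpush f n).obj F) := by
  obtain ⟨e⟩ := nonempty_Rpush_iso f F n
  let Pr : (SC Y)ᵒᵖ ⥤ AddCommGrpCat.{u + 1} :=
    (bcS f).op ⋙ Sheaf.cohomologyPresheaf.{u + 1} ((Φ X).functor.obj F) n
  intro U s x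
  let U' : SC Y := (eqv Y).functor.obj U
  let t : (sheafify (topo Y) Pr).obj (op U') := e.hom.hom.app (op U') s
  have hT := Presheaf.imageSieve_mem (topo Y) (toSheafify (topo Y) Pr) t
  rw [mem_topo_iff] at hT
  obtain ⟨V', g', y, ⟨β, hβ⟩, hy⟩ := hT x
  let V₀ : Y.Etale := (eqv Y).inverse.obj V'
  obtain ⟨W, hW, hyW⟩ : ∃ W : V₀.left.Opens, IsAffineOpen W ∧ y ∈ W := by
    obtain ⟨_, ⟨W, hW : IsAffineOpen W, rfl⟩, hyW, -⟩ :=
      V₀.left.isBasis_affineOpens.exists_subset_of_mem_open (Set.mem_univ y) isOpen_univ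
    exact ⟨W, hW, hyW⟩
  let V₁ : Y.Etale := openObj V₀ W
  let j : V₁ ⟶ V₀ := openIncl V₀ W
  let V₁' : SC Y := (eqv Y).functor.obj V₁
  let j' : V₁' ⟶ V' := (eqv Y).functor.map j
  haveI : IsAffine V₁.left := hW
  have hB := bcS_mem_Bq f V₁
  let β' : Pr.obj (op V₁') := Pr.map j'.op β
  obtain ⟨m, hm, hmβ⟩ := H _ hB β'
  refine ⟨V₁, (eqv Y).inverse.map (j' ≫ g'), m, ⟨⟨y, hyW⟩, ?_⟩, hm, ?_⟩
  · exact hy
  · -- `m` kills the restriction of `s`
    have h1 : (toSheafify (topo Y) Pr).app (op V₁') β' =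
        (sheafify (topo Y) Pr).map (j' ≫ g').op t := by
      have n1 := NatTrans.naturality_apply (toSheafify (topo Y) Pr) j'.op β
      rw [op_comp, Functor.map_comp, ConcreteCategory.comp_apply, ← hβ]
      exact n1
    have h2 : (sheafify (topo Y) Pr).map (j' ≫ g').op t =
        e.hom.hom.app (op V₁')
          (((Φ Y).functor.obj ((EtCoh.Rpush f n).obj F)).obj.map (j' ≫ g').op s) :=
      (NatTrans.naturality_apply e.hom.hom (j' ≫ g').op s).symm
    have h3 : m • (toSheafify (topo Y) Pr).app (op V₁') β' = 0 := by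
      have h0 : (toSheafify (topo Y) Pr).app (op V₁') (m • β') = 0 := by
        erw [hmβ]
        exact map_zero _
      rwa [map_nsmul] at h0
    rw [h1, h2, ← map_nsmul] at h3
    have hinj : Function.Injective (e.hom.hom.app (op V₁')) := by
      have : IsIso (e.hom.hom.app (op V₁')) := by
        haveI : IsIso e.hom.hom := inferInstanceAs (IsIso ((sheafToPresheaf _ _).map e.hom))
        infer_instance
      exact (ConcreteCategory.bijective_of_isIso _).1
    have h4 := hinj (h3.trans (map_zero _).symm)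
    exact h4

/-- higher direct images from the spectrum of a field are torsion sheaves. -/
theorem isTorsion_Rpush_field (K : Type u) [Field K] {Y : Scheme.{u}} (f : SK K ⟶ Y)
    [QuasiCompact f] [QuasiSeparated f] (F : EtCoh.Ab (SK K)) (n : ℕ) :
    EtCoh.IsTorsion ((EtCoh.Rpush f (n + 1)).obj F) := by
  apply isTorsion_of_isPTorsion
  apply isPTorsion_Rpush_of_forall f F (n + 1)
  intro U hU β
  exact exists_nsmul_eq_zero_ext_field K F hU n β

end Groth.Agent.H2.LocExt
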