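import Groth.Agent.Lib.Helper2.RDer6

/-!
# The long exact sequence of right derived functors
-/

universe v v' u u'

open CategoryTheory CategoryTheory.Limits

namespace Groth.Agent.H2.RDer

namespace LES

open HS

variable {A : Type u} [Category.{v} A] [Abelian A] [HasInjectiveResolutions A]
  {B : Type u'} [Category.{v'} B] [Abelian B]
  (F : A ⥤ B) [F.Additive] {S : ShortComplex A} (hS : S.ShortExact)

/-- The chosen resolution of `S.X₁`. -/
noncomputable def r₁ (S : ShortComplex A) : InjectiveResolution S.X₁ := injectiveResolution S.X₁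

/-- The chosen resolution of `S.X₃`. -/
noncomputable def r₃ (S : ShortComplex A) : InjectiveResolution S.X₃ := injectiveResolution S.X₃

/-- The resolution of `S.X₂` given by the horseshoe lemma. -/
noncomputable def r₂ : InjectiveResolution S.X₂ := res₂ hS (r₁ S) (r₃ S)

/-- The image by `F` of the short exact sequence of resolutions. -/
noncomputable def FSC : ShortComplex (CochainComplex B ℕ) :=
  (resSC hS (r₁ S) (r₃ S)).map (F.mapHomologicalComplex (ComplexShape.up ℕ))

lemma FSC_shortExact : (FSC F hS).ShortExact :=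
  HomologicalComplex.shortExact_of_degreewise_shortExact _
    (fun n => ((resSplitting hS (r₁ S) (r₃ S) n).map F).shortExact)

/-- The comparison isomorphism for `S.X₁`. -/
noncomputable def i₁ (n : ℕ) : (F.rightDerived n).obj S.X₁ ≅ (FSC F hS).X₁.homology n :=
  (r₁ S).isoRightDerivedObj F n

/-- The comparison isomorphism for `S.X₂`. -/
noncomputable def i₂ (n : ℕ) : (F.rightDerived n).obj S.X₂ ≅ (FSC F hS).X₂.homology n :=
  (r₂ hS).isoRightDerivedObj F n

/-- The comparison isomorphism for `S.X₃`. -/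
noncomputable def i₃ (n : ℕ) : (F.rightDerived n).obj S.X₃ ≅ (FSC F hS).X₃.homology n :=
  (r₃ S).isoRightDerivedObj F n

/-- The connecting homomorphism on the homology of the resolutions. -/
noncomputable def δ' (n : ℕ) : (FSC F hS).X₃.homology n ⟶ (FSC F hS).X₁.homology (n + 1) :=
  (FSC_shortExact F hS).δ n (n + 1) rfl

/-- The connecting homomorphism. -/
noncomputable def δ (n : ℕ) : (F.rightDerived n).obj S.X₃ ⟶ (F.rightDerived (n + 1)).obj S.X₁ :=
  (i₃ F hS n).hom ≫ δ' F hS n ≫ (i₁ F hS (n + 1)).inv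

lemma map_f_iso (n : ℕ) : (F.rightDerived n).map S.f ≫ (i₂ F hS n).hom =
    (i₁ F hS n).hom ≫ HomologicalComplex.homologyMap (FSC F hS).f n :=
  InjectiveResolution.isoRightDerivedObj_hom_naturality S.f (r₁ S) (r₂ hS)
    (φ₁ hS (r₁ S) (r₃ S)) (comm₁ hS (r₁ S) (r₃ S)) F n

lemma map_g_iso (n : ℕ) : (F.rightDerived n).map S.g ≫ (i₃ F hS n).hom =
    (i₂ F hS n).hom ≫ HomologicalComplex.homologyMap (FSC F hS).g n :=
  InjectiveResolution.isoRightDerivedObj_hom_naturality S.g (r₂ hS) (r₃ S)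
    (φ₂ hS (r₁ S) (r₃ S)) (comm₂ hS (r₁ S) (r₃ S)) F n

lemma δ_iso (n : ℕ) : δ F hS n ≫ (i₁ F hS (n + 1)).hom = (i₃ F hS n).hom ≫ δ' F hS n := by
  unfold δ
  rw [Category.assoc, Category.assoc, Iso.inv_hom_id, Category.comp_id]

lemma homologyMap_f_g (n : ℕ) : HomologicalComplex.homologyMap (FSC F hS).f n ≫
    HomologicalComplex.homologyMap (FSC F hS).g n = 0 := by
  rw [← HomologicalComplex.homologyMap_comp, (FSC F hS).zero, HomologicalComplex.homologyMap_zero]

include hS in
lemma map_f_g (n : ℕ) : (F.rightDerived n).map S.f ≫ (F.rightDerived n).map S.g = 0 := by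
  rw [← cancel_mono (i₃ F hS n).hom, Category.assoc, map_g_iso, ← Category.assoc, map_f_iso,
    Category.assoc, homologyMap_f_g, comp_zero, zero_comp]

/-- Exactness of `RⁿF X₁ ⟶ RⁿF X₂ ⟶ RⁿF X₃`. -/
theorem exact₂ (n : ℕ) : (ShortComplex.mk ((F.rightDerived n).map S.f)
    ((F.rightDerived n).map S.g) (map_f_g F hS n)).Exact := by
  refine (ShortComplex.exact_iff_of_iso ?_).2 ((FSC_shortExact F hS).homology_exact₂ n)
  exact ShortComplex.isoMk (i₁ F hS n) (i₂ F hS n) (i₃ F hS n) (map_f_iso F hS n).symm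
    (map_g_iso F hS n).symm

lemma homologyMap_g_δ' (n : ℕ) :
    HomologicalComplex.homologyMap (FSC F hS).g n ≫ δ' F hS n = 0 :=
  (FSC_shortExact F hS).comp_δ n (n + 1) rfl

lemma δ'_homologyMap_f (n : ℕ) :
    δ' F hS n ≫ HomologicalComplex.homologyMap (FSC F hS).f (n + 1) = 0 :=
  (FSC_shortExact F hS).δ_comp n (n + 1) rfl

lemma map_g_δ (n : ℕ) : (F.rightDerived n).map S.g ≫ δ F hS n = 0 := by
  rw [← cancel_mono (i₁ F hS (n + 1)).hom, Category.assoc, δ_iso,
    ← Category.assoc, map_g_iso, Category.assoc, homologyMap_g_δ', comp_zero, zero_comp]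

/-- Exactness of `RⁿF X₂ ⟶ RⁿF X₃ ⟶ Rⁿ⁺¹F X₁`. -/
theorem exact₃ (n : ℕ) : (ShortComplex.mk ((F.rightDerived n).map S.g) (δ F hS n)
    (map_g_δ F hS n)).Exact := by
  have h : (ShortComplex.mk (HomologicalComplex.homologyMap (FSC F hS).g n) (δ' F hS n)
      (homologyMap_g_δ' F hS n)).Exact :=
    (FSC_shortExact F hS).homology_exact₃ n (n + 1) rfl
  refine (ShortComplex.exact_iff_of_iso ?_).2 h
  exact ShortComplex.isoMk (i₂ F hS n) (i₃ F hS n) (i₁ F hS (n + 1)) (map_g_iso F hS n).symm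
    (δ_iso F hS n).symm

lemma δ_map_f (n : ℕ) : δ F hS n ≫ (F.rightDerived (n + 1)).map S.f = 0 := by
  rw [← cancel_mono (i₂ F hS (n + 1)).hom, Category.assoc, map_f_iso,
    ← Category.assoc, δ_iso, Category.assoc, δ'_homologyMap_f, comp_zero, zero_comp]

/-- Exactness of `RⁿF X₃ ⟶ Rⁿ⁺¹F X₁ ⟶ Rⁿ⁺¹F X₂`. -/
theorem exact₁ (n : ℕ) : (ShortComplex.mk (δ F hS n) ((F.rightDerived (n + 1)).map S.f)
    (δ_map_f F hS n)).Exact := by
  have h : (ShortComplex.mk (δ' F hS n) (HomologicalComplex.homologyMap (FSC F hS).f (n + 1))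
      (δ'_homologyMap_f F hS n)).Exact :=
    (FSC_shortExact F hS).homology_exact₁ n (n + 1) rfl
  refine (ShortComplex.exact_iff_of_iso ?_).2 h
  exact ShortComplex.isoMk (i₃ F hS n) (i₁ F hS (n + 1)) (i₂ F hS (n + 1))
    (δ_iso F hS n).symm (map_f_iso F hS (n + 1)).symm

include hS in
/-- `R⁰F` preserves monomorphisms which are part of a short exact sequence. -/
theorem mono_zero : Mono ((F.rightDerived 0).map S.f) := by
  haveI : Mono (FSC F hS).f := (FSC_shortExact F hS).mono_f
  haveI : Mono (HomologicalComplex.homologyMap (FSC F hS).f 0) :=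
    HomologicalComplex.mono_homologyMap_of_mono_of_not_rel (FSC F hS).f 0 (by simp)
  have h : (F.rightDerived 0).map S.f = (i₁ F hS 0).hom ≫
      HomologicalComplex.homologyMap (FSC F hS).f 0 ≫ (i₂ F hS 0).inv := by
    rw [← Category.assoc, ← map_f_iso, Category.assoc, Iso.hom_inv_id, Category.comp_id]
  rw [h]
  infer_instance

end LES

end Groth.Agent.H2.RDer
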