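import Mathlib
import Groth.Agent.Lib.Helper6.ScHA

/-! # Abstract dimension shifting: torsion of `Extⁿ(Z, R A)` from torsion of `Ext¹(Z, R -)` and of
`Ext^*(Z, R¹R -)`. -/

set_option autoImplicit false
set_option linter.style.haveILetI false
set_option linter.unusedVariables false
set_option linter.unusedSectionVars false
universe v u u'
open CategoryTheory CategoryTheory.Limits Opposite Abelian

namespace Groth.Agent.H2.SkyTors

variable {𝒜 : Type u'} [Category.{v} 𝒜] [Abelian 𝒜] [EnoughInjectives 𝒜]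
  {ℬ : Type u} [Category.{v} ℬ] [Abelian ℬ] [HasExt.{v} ℬ]
  (R : 𝒜 ⥤ ℬ) [R.Additive] [PreservesFiniteLimits R] [R.PreservesInjectiveObjects] (Z : ℬ)

open Groth.Agent.H6.ScHA

lemma nsmul_comp {X Y W : ℬ} {p q n : ℕ} (m : ℕ) (y : Ext.{v} X Y p) (z : Ext.{v} Y W q)
    (h : p + q = n) : (m • y).comp z h = m • y.comp z h :=
  map_nsmul (z.postcomp X h) m y

theorem exists_nsmul_eq_zero_ext
    (h1 : ∀ (A : 𝒜) (x : Ext.{v} Z (R.obj A) 1), ∃ m : ℕ, 0 < m ∧ m • x = 0)
    (h2 : ∀ (A : 𝒜) (D : ℬ), ((R.rightDerived 1).obj A ≅ D) → ∀ (n : ℕ) (x : Ext.{v} Z D n),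
      ∃ m : ℕ, 0 < m ∧ m • x = 0) :
    ∀ (q : ℕ) (A : 𝒜) (x : Ext.{v} Z (R.obj A) (q + 1)), ∃ m : ℕ, 0 < m ∧ m • x = 0 := by
  intro q
  induction q with
  | zero => exact h1
  | succ q ih =>
    intro A x
    let S : ShortComplex 𝒜 := cosyzSC A
    have hS : S.ShortExact := cosyzSC_shortExact A
    haveI : Injective S.X₂ := inferInstanceAs (Injective (Injective.under A))
    haveI : Injective (R.obj S.X₂) := R.injective_obj _
    let f' : R.obj A ⟶ R.obj S.X₂ := R.map S.f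
    haveI : Mono S.f := hS.mono_f
    haveI : Mono f' := inferInstanceAs (Mono (R.map S.f))
    let S1 : ShortComplex ℬ := ShortComplex.mk f' (cokernel.π f') (cokernel.condition f')
    have hS1 : S1.ShortExact :=
      { exact := ShortComplex.exact_of_g_is_cokernel _ (cokernelIsCokernel f')
        mono_f := inferInstanceAs (Mono f')
        epi_g := inferInstanceAs (Epi (cokernel.π f')) }
    have hRS : (S.map R).Exact :=
      hS.exact.map_of_mono_of_preservesKernel R hS.mono_f inferInstance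
    let ιC : cokernel f' ⟶ R.obj S.X₃ := cokernel.desc f' (R.map S.g) (S.map R).zero
    haveI : Mono ιC := hRS.mono_cokernelDesc
    let S2 : ShortComplex ℬ := ShortComplex.mk ιC (cokernel.π ιC) (cokernel.condition ιC)
    have hS2 : S2.ShortExact :=
      { exact := ShortComplex.exact_of_g_is_cokernel _ (cokernelIsCokernel ιC)
        mono_f := inferInstanceAs (Mono ιC)
        epi_g := inferInstanceAs (Epi (cokernel.π ιC)) }
    -- `D ≅ R¹R A`
    have hfac : cokernel.π f' ≫ ιC = R.map S.g := cokernel.π_desc _ _ _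
    obtain ⟨e0⟩ := nonempty_R1_iso_cokernel (F := R) hS
      (R.isZero_rightDerived_obj_injective_succ 0 S.X₂)
    let e1 : cokernel (R.map S.g) ≅ cokernel ιC :=
      (cokernel.mapIso (R.map S.g) (cokernel.π f' ≫ ιC) (Iso.refl _) (Iso.refl _)
        (by rw [hfac]; simp)) ≪≫ cokernelEpiComp (cokernel.π f') ιC
    -- lift `x`
    have hx0 : x.comp (Ext.mk₀ S1.f) (add_zero (q + 1 + 1)) = 0 :=
      Ext.eq_zero_of_injective (I := R.obj S.X₂) _
    obtain ⟨y, hy⟩ := Ext.covariant_sequence_exact₁ Z hS1 x hx0 (rfl : q + 1 + 1 = q + 1 + 1)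
    obtain ⟨m, hm, hmy⟩ := ih S.X₃ (y.comp (Ext.mk₀ ιC) (add_zero (q + 1)))
    have hy0 : (m • y).comp (Ext.mk₀ S2.f) (add_zero (q + 1)) = 0 := by
      rw [nsmul_comp]
      exact hmy
    obtain ⟨w, hw⟩ := Ext.covariant_sequence_exact₁ Z hS2 (m • y) hy0 (rfl : q + 1 = q + 1)
    obtain ⟨m', hm', hmw⟩ := h2 A (cokernel ιC) (e0 ≪≫ e1) q w
    refine ⟨m' * m, Nat.mul_pos hm' hm, ?_⟩
    rw [← hy, ← nsmul_comp, mul_nsmul', ← hw, ← nsmul_comp, hmw, Ext.zero_comp,
      Ext.zero_comp]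

end Groth.Agent.H2.SkyTors
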