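import Mathlib
import Groth.Agent.Lib.Helper2.SkyTorsA
import Groth.Agent.Lib.Helper2.LocExtB
import Groth.Agent.Lib.Helper2.EdgeInjLite
import Groth.Agent.Lib.Helper2.PullTorsA
import Groth.Agent.Lib.Helper2.TorsColimC
import Groth.Agent.Lib.Helper7.ES1

/-! # Cohomology of direct images from the spectrum of a field is torsion in positive degrees. -/

set_option autoImplicit false
set_option linter.style.haveILetI false
set_option linter.unusedVariables false
set_option linter.unusedSectionVars false
universe u
open CategoryTheory CategoryTheory.Limits AlgebraicGeometry Opposite Abelian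

namespace Groth.Agent.H2.SkyTors
open Groth.Agent.H2.EtSmall Groth.Agent.H2.GalField Groth.Agent.H2.LocExt

variable (K : Type u) [Field K] {X : Scheme.{u}} [CompactSpace X] [QuasiSeparatedSpace X]
  (f : SK K ⟶ X) [QuasiCompact f] [QuasiSeparated f]

theorem exists_nsmul_eq_zero_H_push (F : EtCoh.Ab (SK K)) (q : ℕ)
    (x : EtCoh.H X ((EtCoh.push f).obj F) (q + 1)) : ∃ m : ℕ, 0 < m ∧ m • x = 0 := by
  haveI : PreservesFiniteLimits (EtCoh.pull f) := Groth.Agent.H7.GT.S101_main f
  haveI : PreservesFiniteColimits (EtCoh.pull f) := by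
    haveI := (EtCoh.pullPushAdj f).leftAdjoint_preservesColimits
    infer_instance
  haveI : (EtCoh.pull f).Additive := Functor.additive_of_preserves_binary_products _
  haveI : (EtCoh.push f).Additive := by
    haveI := (EtCoh.pullPushAdj f).rightAdjoint_preservesLimits
    exact Functor.additive_of_preserves_binary_products _
  refine exists_nsmul_eq_zero_ext (EtCoh.push f) (constZ X) ?_ ?_ q F x
  · intro A y
    have hinj := Groth.Agent.H2.EdgeInjLite.edge_one_injective (EtCoh.pullPushAdj f)
      (A := constZ X) (A' := constZ (SK K)) (EtCore.pullConst f ℤ).inv A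
    obtain ⟨m, hm, h⟩ := exists_nsmul_eq_zero K A 0
      (Groth.Agent.H2.Leray.edge (EtCoh.pullPushAdj f) (EtCore.pullConst f ℤ).inv A 1 y)
    refine ⟨m, hm, ?_⟩
    apply hinj
    rw [map_nsmul, map_zero]
    exact h
  · intro A D e n y
    have hD : EtCoh.IsTorsion D :=
      Groth.Agent.H2.PullTors.isTorsion_of_iso e (isTorsion_Rpush_field K f A 0)
    have h := Groth.Agent.H2.TorsColim.isAddTorsion_H X D hD n y
    rw [isOfFinAddOrder_iff_nsmul_eq_zero] at h
    exact h

end Groth.Agent.H2.SkyTors
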