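import Mathlib
import Groth.Agent.Lib.Helper2.SkyTorsB
import Groth.Agent.Lib.Helper2.NormConstB

/-! # `Hⁱ(X, ℚ) = 0` for `i > 0` on an integral normal quasi-compact quasi-separated scheme. -/

set_option autoImplicit false
set_option linter.style.haveILetI false
set_option linter.unusedVariables false
set_option linter.unusedSectionVars false
universe u
open CategoryTheory CategoryTheory.Limits AlgebraicGeometry Opposite Abelian

namespace Groth.Agent.H2.QCoh
open Groth.Agent.H2.EtSmall Groth.Agent.H2.ConstUnit Groth.Agent.LD.Colim Groth.Agent.H2.TorsColim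

variable (X : Scheme.{u})

instance : (EtCore.gsec X).Additive where
  map_add := by
    intros
    rfl

instance : (constantSheaf X.smallEtaleTopology AddCommGrpCat.{u + 1}).Additive :=
  (EtCore.constAdj X).left_adjoint_additive

/-- the group `ℚ`, one universe up. -/
abbrev MQ : AddCommGrpCat.{u + 1} := AddCommGrpCat.of (ULift.{u + 1} ℚ)

/-- division by `m` on `ℚ`. -/
noncomputable def divHom (m : ℕ) : MQ.{u} ⟶ MQ.{u} :=
  AddCommGrpCat.ofHom
    { toFun := fun q => ULift.up (q.down / (m : ℚ))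
      map_zero' := by
        apply ULift.ext
        change (0 : ℚ) / (m : ℚ) = 0
        exact zero_div _
      map_add' := fun a b => by
        apply ULift.ext
        change (a.down + b.down) / (m : ℚ) = a.down / (m : ℚ) + b.down / (m : ℚ)
        exact add_div _ _ _ }

lemma nsmul_divHom (m : ℕ) (hm : 0 < m) : m • divHom.{u} m = 𝟙 MQ.{u} := by
  ext q
  change (m • (divHom.{u} m).hom q).down = q.down
  have h1 : (m • (divHom.{u} m).hom q).down = m • ((divHom.{u} m).hom q).down := rfl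
  rw [h1]
  change m • (q.down / (m : ℚ)) = q.down
  rw [nsmul_eq_mul]
  have : (m : ℚ) ≠ 0 := Nat.cast_ne_zero.2 hm.ne'
  field_simp

/-- cohomology with coefficients in the constant sheaf `ℚ` has no torsion. -/
theorem eq_zero_of_nsmul_eq_zero {n : ℕ} (x : EtCoh.H X (cS X MQ.{u}) n) (m : ℕ) (hm : 0 < m)
    (h : m • x = 0) : x = 0 := by
  let ψ : cS X MQ.{u} ⟶ cS X MQ.{u} :=
    (constantSheaf X.smallEtaleTopology AddCommGrpCat.{u + 1}).map (divHom m)
  have hψ : m • ψ = 𝟙 _ := by
    change m • (constantSheaf X.smallEtaleTopology AddCommGrpCat.{u + 1}).map (divHom m) = _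
    rw [← Functor.map_nsmul, nsmul_divHom m hm, CategoryTheory.Functor.map_id]
  have h1 : (x : Ext (constZ X) (cS X MQ.{u}) n) = pc (𝟙 _) x := (pc_id x).symm
  have h2 : pc (m • ψ) (x : Ext (constZ X) (cS X MQ.{u}) n) = m • pc ψ x := pc_nsmul ψ m x
  have h3 : m • pc ψ (x : Ext (constZ X) (cS X MQ.{u}) n) = pc ψ (m • x) := by
    unfold pc
    exact (Groth.Agent.H2.SkyTors.nsmul_comp m x (Ext.mk₀ ψ) (add_zero n)).symm
  have h4 : pc ψ (m • (x : Ext (constZ X) (cS X MQ.{u}) n)) = 0 := by
    have : m • (x : Ext (constZ X) (cS X MQ.{u}) n) = 0 := h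
    rw [this]
    unfold pc
    rw [Ext.zero_comp]
  change (x : Ext (constZ X) (cS X MQ.{u}) n) = 0
  rw [h1, ← hψ, h2, h3, h4]

variable [IsIntegral X] [CompactSpace X] [QuasiSeparatedSpace X]

theorem subsingleton_H_of_integral
    (hN : ∀ x : X, IsDomain (X.presheaf.stalk x) ∧ IsIntegrallyClosed (X.presheaf.stalk x))
    (i : ℕ) : Subsingleton (EtCoh.H X (cS X MQ.{u}) (i + 1)) := by
  let η : X := genericPoint X
  let g : Spec (X.residueField η) ⟶ X := X.fromSpecResidueField η
  haveI : QuasiCompact g := inferInstance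
  haveI : QuasiSeparated g := inferInstance
  haveI hiso : IsIso ((EtCoh.pullPushAdj g).unit.app (cS X MQ.{u})) :=
    Groth.Agent.H2.NormConst.isIso_unit_generic hN g (Scheme.range_fromSpecResidueField η) MQ.{u}
  let e : cS X MQ.{u} ≅ (EtCoh.push g).obj ((EtCoh.pull g).obj (cS X MQ.{u})) :=
    asIso ((EtCoh.pullPushAdj g).unit.app (cS X MQ.{u}))
  refine subsingleton_of_forall_eq 0 fun x => ?_
  obtain ⟨m, hm, hmx⟩ := Groth.Agent.H2.SkyTors.exists_nsmul_eq_zero_H_push (X.residueField η) g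
    ((EtCoh.pull g).obj (cS X MQ.{u})) i (pc e.hom (x : Ext (constZ X) (cS X MQ.{u}) (i + 1)))
  apply eq_zero_of_nsmul_eq_zero X x m hm
  have h1 : (x : Ext (constZ X) (cS X MQ.{u}) (i + 1)) = pc e.inv (pc e.hom x) := by
    rw [pc_comp, e.hom_inv_id, pc_id]
  have h2 : m • pc e.inv (pc e.hom (x : Ext (constZ X) (cS X MQ.{u}) (i + 1))) =
      pc e.inv (m • pc e.hom x) := by
    unfold pc
    exact (Groth.Agent.H2.SkyTors.nsmul_comp m _ (Ext.mk₀ e.inv) (add_zero (i + 1))).symm
  change m • (x : Ext (constZ X) (cS X MQ.{u}) (i + 1)) = 0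
  rw [h1, h2]
  have h3 : m • pc e.hom (x : Ext (constZ X) (cS X MQ.{u}) (i + 1)) = 0 := hmx
  rw [h3]
  unfold pc
  rw [Ext.zero_comp]

end Groth.Agent.H2.QCoh
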