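import Mathlib
import Groth.Agent.Lib.Helper2.QCohA
import Groth.Agent.Lib.Helper2.ZarG
import Groth.Agent.Lib.Helper2.LocExtA
import Groth.Agent.Lib.Helper2.CdlB
import Groth.Agent.Lib.Helper2.IntegralNhd
import Groth.Agent.Lib.Helper1.EtStalk

/-! # `Hⁱ(X, ℚ) = 0` for `i > 0` on a Noetherian normal scheme. -/

set_option autoImplicit false
set_option linter.style.haveILetI false
set_option linter.unusedVariables false
set_option linter.unusedSectionVars false
universe u
open CategoryTheory CategoryTheory.Limits AlgebraicGeometry Opposite Abelian TopologicalSpace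

namespace Groth.Agent.H2.QCoh
open Groth.Agent.H2.EtSmall Groth.Agent.H2.ConstUnit Groth.Agent.LD.SC Groth.Agent.H2.Zar
  Groth.Agent.H2.LocExt

variable (X : Scheme.{u}) [IsLocallyNoetherian X] [CompactSpace X]
  (hN : ∀ x : X, IsDomain (X.presheaf.stalk x) ∧ IsIntegrallyClosed (X.presheaf.stalk x))

omit [IsLocallyNoetherian X] [CompactSpace X] in
theorem ext_eq_zero_of_disjoint' (G : Sheaf (topo X) AddCommGrpCat.{u + 1}) (W W₁ W₂ : X.Opens)
    (h1 : W₁ ≤ W) (h2 : W₂ ≤ W) (hcov : W ≤ W₁ ⊔ W₂) (hd : W₁ ⊓ W₂ = ⊥) (n : ℕ)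
    (ξ : Ext (ZU (topo X) (opS X W)) G (n + 1))
    (e1 : Hres (opMap X h1) ξ = 0) (e2 : Hres (opMap X h2) ξ = 0) : ξ = 0 := by
  obtain rfl : W = W₁ ⊔ W₂ := le_antisymm hcov (sup_le h1 h2)
  exact ext_eq_zero_of_disjoint X G W₁ W₂ hd n ξ e1 e2

include hN in
/-- the connected case. -/
theorem ext_eq_zero_of_connected (W : X.Opens) (hWc : IsClosed (W : Set X))
    (hconn : _root_.IsConnected (W : Set X)) (n : ℕ)
    (ξ : Ext (ZU (topo X) (opS X W)) ((Φ X).functor.obj (cS X MQ.{u})) (n + 1)) : ξ = 0 := by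
  haveI : CompactSpace W.toScheme := isCompact_iff_compactSpace.mp hWc.isCompact
  haveI : ConnectedSpace W.toScheme := isConnected_iff_connectedSpace.mp hconn
  have hNW : ∀ w : W.toScheme, IsDomain (W.toScheme.presheaf.stalk w) ∧
      IsIntegrallyClosed (W.toScheme.presheaf.stalk w) := by
    intro w
    haveI := (hN (W.ι w)).1
    haveI := (hN (W.ι w)).2
    exact Groth.Agent.H1.EtStalk.normal_stalk_of_etale W.ι w
  haveI : IsIntegral W.toScheme :=
    (Groth.Agent.H2.isIntegral_iff_connectedSpace_and_isDomain_stalk W.toScheme).2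
      ⟨inferInstance, fun w => (hNW w).1⟩
  have h1 : Subsingleton (EtCoh.H W.toScheme (cS W.toScheme MQ.{u}) (n + 1)) :=
    subsingleton_H_of_integral W.toScheme hNW n
  have h2 : Subsingleton (EtCoh.H W.toScheme ((EtCoh.pull W.ι).obj (cS X MQ.{u})) (n + 1)) :=
    Groth.Agent.H2.Cdl.subsingleton_H_of_iso (θ W.ι MQ.{u}).symm (n + 1) h1
  obtain ⟨e⟩ := nonempty_ext_equiv_H ((EtZar.zarToEt X).obj W) (cS X MQ.{u}) (n + 1)
  apply e.injective
  exact @Subsingleton.elim _ h2 _ _

include hN in
theorem ext_eq_zero_of_clopen (n : ℕ) : ∀ (Z : Closeds X) (W : X.Opens), (W : Set X) = Z →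
    ∀ ξ : Ext (ZU (topo X) (opS X W)) ((Φ X).functor.obj (cS X MQ.{u})) (n + 1), ξ = 0 := by
  haveI : IsNoetherian X := {}
  intro Z
  induction Z using WellFoundedLT.induction with
  | ind Z ih =>
    intro W hWZ ξ
    have hWc : IsClosed (W : Set X) := hWZ ▸ Z.isClosed
    by_cases hemp : W = ⊥
    · subst hemp
      exact ext_opS_bot_eq_zero X ξ
    by_cases hpre : _root_.IsPreconnected (W : Set X)
    · have hne : (W : Set X).Nonempty := by
        rw [Set.nonempty_iff_ne_empty]
        intro h
        apply hemp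
        ext x
        simp [h]
      exact ext_eq_zero_of_connected X hN W hWc ⟨hne, hpre⟩ n ξ
    · rw [isPreconnected_iff_subset_of_disjoint_closed] at hpre
      push Not at hpre
      obtain ⟨a, b, ha, hb, hab, hdisj, hna, hnb⟩ := hpre
      have hA : IsClosed ((W : Set X) ∩ a) := hWc.inter ha
      have hB : IsClosed ((W : Set X) ∩ b) := hWc.inter hb
      have hAB : (W : Set X) ∩ a ∪ (W : Set X) ∩ b = W := by
        rw [← Set.inter_union_distrib_left]
        exact Set.inter_eq_left.2 hab
      have hAo : IsOpen ((W : Set X) ∩ a) := by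
        have : (W : Set X) ∩ a = (W : Set X) ∩ ((W : Set X) ∩ b)ᶜ := by
          ext x
          constructor
          · rintro ⟨hx, hxa⟩
            refine ⟨hx, fun hxb => ?_⟩
            have : x ∈ (W : Set X) ∩ (a ∩ b) := ⟨hx, hxa, hxb.2⟩
            rw [hdisj] at this
            exact this
          · rintro ⟨hx, hxb⟩
            rcases hab hx with h | h
            · exact ⟨hx, h⟩
            · exact (hxb ⟨hx, h⟩).elim
        rw [this]
        exact W.isOpen.inter hB.isOpen_compl
      have hBo : IsOpen ((W : Set X) ∩ b) := by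
        have : (W : Set X) ∩ b = (W : Set X) ∩ ((W : Set X) ∩ a)ᶜ := by
          ext x
          constructor
          · rintro ⟨hx, hxb⟩
            refine ⟨hx, fun hxa => ?_⟩
            have : x ∈ (W : Set X) ∩ (a ∩ b) := ⟨hx, hxa.2, hxb⟩
            rw [hdisj] at this
            exact this
          · rintro ⟨hx, hxa⟩
            rcases hab hx with h | h
            · exact (hxa ⟨hx, h⟩).elim
            · exact ⟨hx, h⟩
        rw [this]
        exact W.isOpen.inter hA.isOpen_compl
      let W₁ : X.Opens := ⟨(W : Set X) ∩ a, hAo⟩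
      let W₂ : X.Opens := ⟨(W : Set X) ∩ b, hBo⟩
      have hW : W = W₁ ⊔ W₂ := by
        apply SetLike.coe_injective
        exact hAB.symm
      have hd : W₁ ⊓ W₂ = ⊥ := by
        apply SetLike.coe_injective
        change (W : Set X) ∩ a ∩ ((W : Set X) ∩ b) = ∅
        rw [Set.eq_empty_iff_forall_notMem]
        rintro x ⟨⟨hx, hxa⟩, -, hxb⟩
        have : x ∈ (W : Set X) ∩ (a ∩ b) := ⟨hx, hxa, hxb⟩
        rw [hdisj] at this
        exact this
      have hlt1 : (⟨(W : Set X) ∩ a, hA⟩ : Closeds X) < Z := by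
        refine lt_of_le_of_ne ?_ ?_
        · intro x hx
          have hx2 : x ∈ (Z : Set X) := by
            rw [← hWZ]
            exact hx.1
          exact hx2
        · intro h
          apply hna
          intro x hx
          have hx' : x ∈ ((⟨(W : Set X) ∩ a, hA⟩ : Closeds X) : Set X) := by
            rw [h]
            exact hWZ ▸ hx
          exact hx'.2
      have hlt2 : (⟨(W : Set X) ∩ b, hB⟩ : Closeds X) < Z := by
        refine lt_of_le_of_ne ?_ ?_
        · intro x hx
          have hx2 : x ∈ (Z : Set X) := by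
            rw [← hWZ]
            exact hx.1
          exact hx2
        · intro h
          apply hnb
          intro x hx
          have hx' : x ∈ ((⟨(W : Set X) ∩ b, hB⟩ : Closeds X) : Set X) := by
            rw [h]
            exact hWZ ▸ hx
          exact hx'.2
      have hle1 : W₁ ≤ W := fun x hx => hx.1
      have hle2 : W₂ ≤ W := fun x hx => hx.1
      have h1 := ih _ hlt1 W₁ rfl (Hres (opMap X hle1) ξ)
      have h2 := ih _ hlt2 W₂ rfl (Hres (opMap X hle2) ξ)
      exact ext_eq_zero_of_disjoint' X _ W W₁ W₂ hle1 hle2 hW.le hd n ξ h1 h2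

end Groth.Agent.H2.QCoh
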