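import Mathlib
import Groth.Agent.Lib.Helper2.ZarB
import Groth.Agent.Lib.Helper2.ZarC

/-! # Degenerate Leray for `ε : X_ét → X_Zar`. -/

set_option autoImplicit false
set_option linter.style.haveILetI false
set_option linter.unusedVariables false
set_option linter.unusedSectionVars false
universe u
open CategoryTheory CategoryTheory.Limits AlgebraicGeometry Opposite Abelian TopologicalSpace

namespace Groth.Agent.H2.Zar
open Groth.Agent.H2.EtSmall

variable (X : Scheme.{u})

/-- the constant Zariski sheaf `ℤ`. -/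
noncomputable abbrev constZZ : EtZar.Ab X :=
  (constantSheaf (Opens.grothendieckTopology X) AddCommGrpCat.{u + 1}).obj
    (AddCommGrpCat.of (ULift ℤ))

/-- `Hom(ℤ, F) ≃ F(X)` for Zariski sheaves. -/
noncomputable def constEquivZ (F : EtZar.Ab X) :
    (constZZ X ⟶ F) ≃ F.obj.obj (op (⊤ : X.Opens)) :=
  (Ext.addEquiv₀ (X := constZZ X) (Y := F)).symm.toEquiv.trans
    (Sheaf.H.equiv₀ F (Limits.isTerminalTop (α := X.Opens))).toEquiv

lemma constEquivZ_comp {F G : EtZar.Ab X} (φ : constZZ X ⟶ F) (ψ : F ⟶ G) :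
    constEquivZ X G (φ ≫ ψ) = ψ.hom.app (op (⊤ : X.Opens)) (constEquivZ X F φ) := by
  change Sheaf.H.equiv₀ G (Limits.isTerminalTop (α := X.Opens)) (Ext.mk₀ (φ ≫ ψ)) =
    ψ.hom.app (op (⊤ : X.Opens))
      (Sheaf.H.equiv₀ F (Limits.isTerminalTop (α := X.Opens)) (Ext.mk₀ φ))
  rw [Sheaf.H.equiv₀_naturality, Sheaf.H.map_apply, Ext.mk₀_comp_mk₀]

set_option backward.isDefEq.respectTransparency.types false in
/-- `(⊤ → X) ≅ (X → X)` in `X.Etale`. -/
noncomputable def topIsoZ : (EtZar.zarToEt X).obj ⊤ ≅ EtCoh.top X :=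
  MorphismProperty.Over.isoMk X.topIso (by
    change (⊤ : X.Opens).ι ≫ 𝟙 X = (⊤ : X.Opens).ι
    exact Category.comp_id _)

/-- sections over `X` and over `⊤`. -/
noncomputable def secEquivZ (G : EtCoh.Ab X) :
    G.obj.obj (op (EtCoh.top X)) ≃ G.obj.obj (op ((EtZar.zarToEt X).obj ⊤)) where
  toFun s := G.obj.map (topIsoZ X).hom.op s
  invFun s := G.obj.map (topIsoZ X).inv.op s
  left_inv s := by
    change (ConcreteCategory.hom (G.obj.map (topIsoZ X).inv.op))
      ((ConcreteCategory.hom (G.obj.map (topIsoZ X).hom.op)) s) = s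
    rw [← ConcreteCategory.comp_apply, ← G.obj.map_comp, ← op_comp, Iso.inv_hom_id, op_id,
      G.obj.map_id]
    rfl
  right_inv s := by
    change (ConcreteCategory.hom (G.obj.map (topIsoZ X).hom.op))
      ((ConcreteCategory.hom (G.obj.map (topIsoZ X).inv.op)) s) = s
    rw [← ConcreteCategory.comp_apply, ← G.obj.map_comp, ← op_comp, Iso.hom_inv_id, op_id,
      G.obj.map_id]
    rfl

lemma secEquivZ_natural {G G' : EtCoh.Ab X} (g : G ⟶ G') (s : G.obj.obj (op (EtCoh.top X))) :
    secEquivZ X G' (g.hom.app _ s) = g.hom.app (op ((EtZar.zarToEt X).obj ⊤)) (secEquivZ X G s) :=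
  (NatTrans.naturality_apply g.hom (topIsoZ X).hom.op s).symm

variable [EtZar.ZarCont X]

/-- the comparison of Hom sets. -/
noncomputable def homCmpZ (G : EtCoh.Ab X) :
    (constZ X ⟶ G) ≃ (constZZ X ⟶ (EtZar.resZar X).obj G) :=
  (constEquiv X G).trans ((secEquivZ X G).trans (constEquivZ X ((EtZar.resZar X).obj G)).symm)

lemma homCmpZ_comp {G G' : EtCoh.Ab X} (ψ : constZ X ⟶ G) (g : G ⟶ G') :
    homCmpZ X G' (ψ ≫ g) = homCmpZ X G ψ ≫ (EtZar.resZar X).map g := by
  apply (constEquivZ X ((EtZar.resZar X).obj G')).injective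
  rw [constEquivZ_comp]
  simp only [homCmpZ, Equiv.trans_apply]
  erw [Equiv.apply_symm_apply, Equiv.apply_symm_apply]
  rw [constEquiv_comp]
  exact secEquivZ_natural X g _

/-- **Degenerate Leray**: if `R^q ε_* G = 0` for `q > 0` then étale and Zariski cohomology
agree. -/
theorem nonempty_H_equiv (G : EtCoh.Ab X)
    (h : ∀ q : ℕ, IsZero (((EtZar.resZar X).rightDerived (q + 1)).obj G)) (p : ℕ) :
    Nonempty (EtCoh.H X G p ≃+ EtZar.H ((EtZar.resZar X).obj G) p) := by
  haveI : PreservesFiniteLimits (EtZar.resZar X) := by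
    haveI : PreservesLimitsOfSize.{0, 0} (EtZar.resZar X) :=
      (zarAdj X).rightAdjoint_preservesLimits
    exact PreservesLimitsOfSize.preservesFiniteLimits _
  refine Groth.Agent.LD.AbPull.leray_of_isZero_rightDerived (EtZar.resZar X)
    (constZZ X) (constZ X) (fun Q => homCmpZ X Q) ?_ ?_ G h p
  · intro Q Q' ψ g
    exact homCmpZ_comp X ψ g
  · intro Q hQ
    exact (EtZar.resZar X).injective_obj Q

end Groth.Agent.H2.Zar
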