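import Mathlib
import Groth.Agent.Lib.Helper2.QCohB
import Groth.Agent.Lib.Helper2.ZarD

/-! # `Hⁱ(X, ℚ) = 0` for `i > 0` on a Noetherian normal scheme: conclusion. -/

set_option autoImplicit false
set_option linter.style.haveILetI false
set_option linter.unusedVariables false
set_option linter.unusedSectionVars false
universe u
open CategoryTheory CategoryTheory.Limits AlgebraicGeometry Opposite Abelian TopologicalSpace

namespace Groth.Agent.H2.QCoh
open Groth.Agent.H2.EtSmall Groth.Agent.H2.ConstUnit Groth.Agent.LD.SC Groth.Agent.H2.Zar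

variable (X : Scheme.{u})

lemma Hres_id' {U : SC X} {G : Sheaf (topo X) AddCommGrpCat.{u + 1}} {n : ℕ}
    (x : Ext (ZU (topo X) U) G n) : Hres (𝟙 U) x = x := by
  unfold Hres
  rw [ZUmap_id, Ext.mk₀_id_comp]

/-- vanishing over `⊤` implies vanishing of global cohomology. -/
theorem subsingleton_H_of_top_opens (G : EtCoh.Ab X) (n : ℕ)
    (h : ∀ ξ : Ext (ZU (topo X) (opS X ⊤)) ((Φ X).functor.obj G) n, ξ = 0) :
    Subsingleton (EtCoh.H X G n) := by
  obtain ⟨e⟩ := nonempty_ext_equiv X G n
  refine subsingleton_of_forall_eq 0 fun x => ?_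
  apply e.injective
  rw [map_zero]
  let a : opS X ⊤ ⟶ topS X := (eqv X).functor.map (topIsoZ X).hom
  let b : topS X ⟶ opS X ⊤ := (eqv X).functor.map (topIsoZ X).inv
  have hba : b ≫ a = 𝟙 _ := by
    change (eqv X).functor.map (topIsoZ X).inv ≫ (eqv X).functor.map (topIsoZ X).hom = 𝟙 _
    rw [← Functor.map_comp, Iso.inv_hom_id, CategoryTheory.Functor.map_id]
  have h1 : e x = Hres b (Hres a (e x)) := by
    rw [← Hres_comp, hba, Hres_id']
  rw [h1, h (Hres a (e x)), Hres_zero]

end Groth.Agent.H2.QCoh
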