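import Mathlib
import Groth.Agent.Lib.Helper2.ZarG
import Groth.Agent.Lib.Helper2.QCohC

/-! # Gabber's criterion: the Mayer–Vietoris induction on basic opens (small étale model). -/

set_option autoImplicit false
set_option linter.style.haveILetI false
set_option linter.unusedVariables false
set_option linter.unusedSectionVars false

universe u

open CategoryTheory CategoryTheory.Limits Abelian Opposite AlgebraicGeometry TopologicalSpace

namespace Groth.Agent.H2.Gbr
open Groth.Agent.H2.EtSmall Groth.Agent.LD.SC Groth.Agent.H2.Zar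

variable (X : Scheme.{u}) (G : Sheaf (topo X) AddCommGrpCat.{u + 1})

/-- restriction of a class to a smaller open. -/
noncomputable abbrev rs {U₁ U : X.Opens} (h : U₁ ≤ U) {n : ℕ}
    (β : Ext (ZU (topo X) (opS X U)) G n) : Ext (ZU (topo X) (opS X U₁)) G n :=
  Hres (opMap X h) β

lemma rs_rs {U₂ U₁ U : X.Opens} (h₂ : U₂ ≤ U₁) (h₁ : U₁ ≤ U) {n : ℕ}
    (β : Ext (ZU (topo X) (opS X U)) G n) : rs X G h₂ (rs X G h₁ β) = rs X G (h₂.trans h₁) β := by
  unfold rs
  rw [← Hres_comp]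
  congr 1
  exact hom_opS_ext X _ _

lemma rs_zero {U₁ U : X.Opens} (h : U₁ ≤ U) {n : ℕ} :
    rs X G h (0 : Ext (ZU (topo X) (opS X U)) G n) = 0 := Hres_zero _

/-- two-piece lemma in degree one. -/
theorem tp_one {U V W : X.Opens} (hV : V ≤ U) (hW : W ≤ U) (hcov : U ≤ V ⊔ W)
    (β : Ext (ZU (topo X) (opS X U)) G 1) (h1 : rs X G hV β = 0) (h2 : rs X G hW β = 0)
    (hsurj : ∀ s : G.obj.obj (op (opS X (V ⊓ W))), ∃ (a : G.obj.obj (op (opS X V)))
      (b : G.obj.obj (op (opS X W))),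
      G.obj.map (opMap X (inf_le_left : V ⊓ W ≤ V)).op a -
        G.obj.map (opMap X (inf_le_right : V ⊓ W ≤ W)).op b = s) : β = 0 := by
  obtain rfl : U = V ⊔ W := le_antisymm hcov (sup_le hV hW)
  exact MV_eq_zero_one (mvOpens X V W) G β h1 h2 hsurj

/-- two-piece lemma in higher degree. -/
theorem tp_succ {U V W : X.Opens} (hV : V ≤ U) (hW : W ≤ U) (hcov : U ≤ V ⊔ W) (n : ℕ)
    (β : Ext (ZU (topo X) (opS X U)) G (n + 2)) (h1 : rs X G hV β = 0) (h2 : rs X G hW β = 0)
    (hI : ∀ γ : Ext (ZU (topo X) (opS X (V ⊓ W))) G (n + 1), γ = 0) : β = 0 := by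
  obtain rfl : U = V ⊔ W := le_antisymm hcov (sup_le hV hW)
  exact MV_eq_zero_succ (mvOpens X V W) G n β h1 h2
    ⟨fun a b => (hI a).trans (hI b).symm⟩

variable {X G}

/-- the basic open of a global function. -/
noncomputable abbrev D (h : Γ(X, ⊤)) : X.Opens := X.basicOpen h

lemma D_mul_le_right (f h : Γ(X, ⊤)) : D (f * h) ≤ D (X := X) h := by
  rw [D, X.basicOpen_mul]; exact inf_le_right

lemma D_mul_le_left (f h : Γ(X, ⊤)) : D (f * h) ≤ D (X := X) f := by
  rw [D, X.basicOpen_mul]; exact inf_le_left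

lemma D_add_cover (f g : Γ(X, ⊤)) : D (X := X) (f + g) ≤ D (f * (f + g)) ⊔ D (g * (f + g)) := by
  intro x hx
  have h1 : x ∈ D (X := X) f ⊔ D g := X.basicOpen_add_le f g hx
  rcases h1 with h1 | h1
  · refine Or.inl ?_
    change x ∈ X.basicOpen (f * (f + g))
    rw [X.basicOpen_mul]
    exact ⟨h1, hx⟩
  · refine Or.inr ?_
    change x ∈ X.basicOpen (g * (f + g))
    rw [X.basicOpen_mul]
    exact ⟨h1, hx⟩

/-- the two-piece statement for the covering `D(f+g) = D(f(f+g)) ∪ D(g(f+g))`. -/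
def TP (X : Scheme.{u}) (G : Sheaf (topo X) AddCommGrpCat.{u + 1}) (n : ℕ) : Prop :=
  ∀ (f g : Γ(X, ⊤)) (β : Ext (ZU (topo X) (opS X (D (f + g)))) G n),
    rs X G (D_mul_le_right f (f + g)) β = 0 → rs X G (D_mul_le_right g (f + g)) β = 0 → β = 0

/-- vanishing on all basic opens. -/
def PV (X : Scheme.{u}) (G : Sheaf (topo X) AddCommGrpCat.{u + 1}) (n : ℕ) : Prop :=
  ∀ (h : Γ(X, ⊤)) (β : Ext (ZU (topo X) (opS X (D h))) G n), β = 0

lemma tp_of_surj
    (hsurj : ∀ (f g : Γ(X, ⊤)) (s : G.obj.obj (op (opS X (D (f * (f + g)) ⊓ D (g * (f + g)))))),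
      ∃ (a : G.obj.obj (op (opS X (D (f * (f + g)))))) (b : G.obj.obj (op (opS X (D (g * (f + g)))))),
      G.obj.map (opMap X (inf_le_left : D (f * (f + g)) ⊓ D (g * (f + g)) ≤ _)).op a -
        G.obj.map (opMap X (inf_le_right : D (f * (f + g)) ⊓ D (g * (f + g)) ≤ _)).op b = s) :
    TP X G 1 := by
  intro f g β h1 h2
  exact tp_one X G _ _ (D_add_cover f g) β h1 h2 (hsurj f g)

lemma tp_of_pv (n : ℕ) (hP : PV X G (n + 1)) : TP X G (n + 2) := by
  intro f g β h1 h2
  refine tp_succ X G _ _ (D_add_cover f g) n β h1 h2 ?_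
  have e : D (f * (f + g)) ⊓ D (g * (f + g)) = D (X := X) ((f * (f + g)) * (g * (f + g))) := by
    rw [D, D, D, X.basicOpen_mul (f * (f + g)) (g * (f + g))]
  rw [e]
  exact hP _

/-- the list lemma: a class on `D(Σ l)` vanishing on (opens inside) all `D(a)`, `a ∈ l`,
vanishes. -/
theorem list_lemma (n : ℕ) (hTP : TP X G n) :
    ∀ (k : ℕ) (l : List Γ(X, ⊤)), l.length = k → ∀ (U : X.Opens), U = D l.sum →
      ∀ β : Ext (ZU (topo X) (opS X U)) G n,
        (∀ a ∈ l, ∀ (U₁ : X.Opens) (h₁ : U₁ ≤ U), U₁ ≤ D a → rs X G h₁ β = 0) → β = 0 := by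
  intro k
  induction k with
  | zero =>
    intro l hl U hU β _
    have hl' : l = [] := List.length_eq_zero_iff.1 hl
    subst hl'
    have hU' : U = ⊥ := by rw [hU, List.sum_nil, D, X.basicOpen_zero]
    subst hU'
    exact ext_opS_bot_eq_zero X β
  | succ k ih =>
    intro l hl U hU β hβ
    match l, hl with
    | f :: l, hl =>
      have hU' : U = D (f + l.sum) := by rw [hU, List.sum_cons]
      subst hU'
      apply hTP f l.sum β
      · exact hβ f List.mem_cons_self _ _ (D_mul_le_left f _)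
      · apply ih (l.map (· * (f + l.sum)))
          (by rw [List.length_map]; simpa using hl)
          (D (l.sum * (f + l.sum))) (by rw [List.sum_map_mul_right, List.map_id'])
        intro a' ha' U₁ h₁ hU₁
        obtain ⟨a, ha, rfl⟩ := List.mem_map.1 ha'
        rw [rs_rs]
        exact hβ a (List.mem_cons_of_mem _ ha) _ _ (hU₁.trans (D_mul_le_left a _))

end Groth.Agent.H2.Gbr
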