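import Mathlib

set_option autoImplicit false
set_option linter.style.haveILetI false
set_option linter.unusedVariables false
universe u
open CategoryTheory AlgebraicGeometry

namespace Groth.Agent.H2.SpreadFP

variable {X Y S : Scheme.{u}} (sX : X ⟶ S) (sY : Y ⟶ S) {R A : CommRingCat.{u}}

/-- finitely many germs of functions are defined on a common neighbourhood -/
theorem exists_sections_of_germs (x : X) {ι : Type*} [Finite ι] (a : ι → X.presheaf.stalk x) :
    ∃ (V : X.Opens) (hx : x ∈ V) (s : ι → Γ(X, V)), ∀ k, X.presheaf.germ V x hx (s k) = a k := by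
  have key := fun k => TopCat.Presheaf.exists_germ_eq X.presheaf (a k)
  choose W hW t ht using key
  have hopen : IsOpen (⋂ l, (W l : Set X)) := isOpen_iInter_of_finite fun l => (W l).2
  let V : X.Opens := ⟨⋂ l, (W l : Set X), hopen⟩
  have hxV : x ∈ V := Set.mem_iInter.mpr hW
  have hVW : ∀ l, V ≤ W l := fun l z hz => Set.mem_iInter.mp hz l
  refine ⟨V, hxV, fun k => X.presheaf.map (homOfLE (hVW k)).op (t k), fun k => ?_⟩
  rw [← ht k]
  exact TopCat.Presheaf.germ_res_apply X.presheaf (homOfLE (hVW k)) x hxV (t k)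

/-- finitely many functions with vanishing germs vanish on a common neighbourhood -/
theorem exists_nbhd_eq_zero (x : X) {ι : Type*} [Finite ι] (V : X.Opens) (hx : x ∈ V)
    (s : ι → Γ(X, V)) (h : ∀ k, X.presheaf.germ V x hx (s k) = 0) :
    ∃ (W : X.Opens) (hW : W ≤ V), x ∈ W ∧ ∀ k, X.presheaf.map (homOfLE hW).op (s k) = 0 := by
  have key : ∀ k, ∃ (W : X.Opens) (hW : W ≤ V), x ∈ W ∧
      X.presheaf.map (homOfLE hW).op (s k) = 0 := by
    intro k
    have h0 : X.presheaf.germ V x hx (s k) = X.presheaf.germ V x hx 0 := by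
      rw [h k, map_zero]
    obtain ⟨W, hxW, iU, iV, e⟩ := TopCat.Presheaf.germ_eq X.presheaf x hx hx _ _ h0
    refine ⟨W, leOfHom iU, hxW, ?_⟩
    rw [map_zero] at e
    exact e
  choose W hWV hxW e using key
  have hopen : IsOpen ((V : Set X) ∩ ⋂ l, (W l : Set X)) :=
    V.2.inter (isOpen_iInter_of_finite fun l => (W l).2)
  let W' : X.Opens := ⟨(V : Set X) ∩ ⋂ l, (W l : Set X), hopen⟩
  have hxW' : x ∈ W' := ⟨hx, Set.mem_iInter.mpr hxW⟩
  have hW'W : ∀ l, W' ≤ W l := fun l z hz => Set.mem_iInter.mp hz.2 l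
  have hW'V : W' ≤ V := fun z hz => hz.1
  refine ⟨W', hW'V, hxW', fun k => ?_⟩
  have h1 : X.presheaf.map (homOfLE hW'V).op =
      X.presheaf.map (homOfLE (hWV k)).op ≫ X.presheaf.map (homOfLE (hW'W k)).op := by
    rw [← Functor.map_comp]; rfl
  rw [h1, CommRingCat.comp_apply, e k, map_zero]

/-- Lifting a map from a finitely presented algebra to the stalk to a neighbourhood. -/
lemma exists_lift_of_finitePresentation {x : X} {U : X.Opens} (hxU : x ∈ U)
    (φ : A ⟶ X.presheaf.stalk x) (φRA : R ⟶ A) (φRX : R ⟶ Γ(X, U))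
    (hφRA : RingHom.FinitePresentation φRA.hom)
    (e : φRA ≫ φ = φRX ≫ X.presheaf.germ U x hxU) :
    ∃ (V : X.Opens) (hxV : x ∈ V) (φ' : A ⟶ Γ(X, V)) (i : V ≤ U), IsAffineOpen V ∧
      φ = φ' ≫ X.presheaf.germ V x hxV ∧ φRX ≫ X.presheaf.map i.hom.op = φRA ≫ φ' := by
  algebraize [φRA.hom]
  obtain ⟨n, f, hf, hker⟩ := (‹Algebra.FinitePresentation R A› : Algebra.FinitePresentation R A).out
  obtain ⟨T, hT⟩ := hker
  -- step 1: representatives of the images of the variables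
  obtain ⟨V₀', hx₀', s', hs'⟩ := exists_sections_of_germs x (fun i : Fin n => φ (f (.X i)))
  obtain ⟨V₀, hV₀U, hV₀V₀', hx₀⟩ : ∃ V₀ : X.Opens, V₀ ≤ U ∧ V₀ ≤ V₀' ∧ x ∈ V₀ :=
    ⟨V₀' ⊓ U, inf_le_right, inf_le_left, ⟨hx₀', hxU⟩⟩
  let s : Fin n → Γ(X, V₀) := fun i => X.presheaf.map (homOfLE hV₀V₀').op (s' i)
  have hs : ∀ i, X.presheaf.germ V₀ x hx₀ (s i) = φ (f (.X i)) := by
    intro i
    rw [← hs' i]
    exact TopCat.Presheaf.germ_res_apply X.presheaf (homOfLE hV₀V₀') x hx₀ (s' i)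
  let ρ₀ : R →+* Γ(X, V₀) := (φRX ≫ X.presheaf.map (homOfLE hV₀U).op).hom
  let ψ₀ : MvPolynomial (Fin n) R →+* Γ(X, V₀) := MvPolynomial.eval₂Hom ρ₀ s
  have hA : ∀ p, X.presheaf.germ V₀ x hx₀ (ψ₀ p) = φ (f p) := by
    have : (X.presheaf.germ V₀ x hx₀).hom.comp ψ₀ = φ.hom.comp f.toRingHom := by
      apply MvPolynomial.ringHom_ext
      · intro r
        have h1 : ψ₀ (MvPolynomial.C r) = ρ₀ r := MvPolynomial.eval₂_C _ _ _
        have h2 : f (MvPolynomial.C r) = algebraMap R A r := f.commutes r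
        have h3 : X.presheaf.germ V₀ x hx₀ (ρ₀ r) = X.presheaf.germ U x hxU (φRX r) :=
          TopCat.Presheaf.germ_res_apply X.presheaf (homOfLE hV₀U) x hx₀ (φRX r)
        have h4 : X.presheaf.germ U x hxU (φRX r) = φ (φRA r) :=
          (ConcreteCategory.congr_hom e r).symm
        simp only [RingHom.comp_apply]
        change X.presheaf.germ V₀ x hx₀ (ψ₀ (MvPolynomial.C r)) = φ (f (MvPolynomial.C r))
        rw [h1, h2, h3, h4]
        rfl
      · intro i
        have h1 : ψ₀ (MvPolynomial.X i) = s i := MvPolynomial.eval₂_X _ _ _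
        simp only [RingHom.comp_apply]
        change X.presheaf.germ V₀ x hx₀ (ψ₀ (MvPolynomial.X i)) = φ (f (MvPolynomial.X i))
        rw [h1, hs i]
    intro p
    exact DFunLike.congr_fun this p
  -- step 2: the relations vanish on a smaller neighbourhood
  obtain ⟨V₁, hV₁V₀, hx₁, hrel⟩ := exists_nbhd_eq_zero x V₀ hx₀ (fun t : T => ψ₀ t.1) (by
    intro t
    have ht : t.1 ∈ RingHom.ker f.toRingHom := hT ▸ Ideal.subset_span t.2
    rw [hA]
    have : f t.1 = 0 := ht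
    rw [this, map_zero])
  let ψ₁ : MvPolynomial (Fin n) R →+* Γ(X, V₁) :=
    (X.presheaf.map (homOfLE hV₁V₀).op).hom.comp ψ₀
  have hker_le : RingHom.ker f.toRingHom ≤ RingHom.ker ψ₁ := by
    rw [← hT, Ideal.span_le]
    intro t ht
    exact hrel ⟨t, ht⟩
  let φ₁ : A →+* Γ(X, V₁) := f.toRingHom.liftOfSurjective hf ⟨ψ₁, hker_le⟩
  have hφ₁ : ∀ p, φ₁ (f p) = ψ₁ p := fun p =>
    RingHom.liftOfSurjective_comp_apply f.toRingHom hf ⟨ψ₁, hker_le⟩ p
  -- step 3: shrink to an affine open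
  obtain ⟨_, ⟨V, hV, rfl⟩, hxV, hVV₁⟩ :=
    X.isBasis_affineOpens.exists_subset_of_mem_open hx₁ V₁.2
  have hVV₁' : V ≤ V₁ := hVV₁
  refine ⟨V, hxV, CommRingCat.ofHom φ₁ ≫ X.presheaf.map (homOfLE hVV₁').op,
    hVV₁'.trans (hV₁V₀.trans hV₀U), hV, ?_, ?_⟩
  · ext a
    obtain ⟨p, rfl⟩ := hf a
    have h1 : X.presheaf.germ V x hxV (X.presheaf.map (homOfLE hVV₁').op (φ₁ (f p))) =
        X.presheaf.germ V₁ x hx₁ (φ₁ (f p)) :=
      TopCat.Presheaf.germ_res_apply X.presheaf (homOfLE hVV₁') x hxV _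
    have h2 : X.presheaf.germ V₁ x hx₁ (ψ₁ p) = X.presheaf.germ V₀ x hx₀ (ψ₀ p) :=
      TopCat.Presheaf.germ_res_apply X.presheaf (homOfLE hV₁V₀) x hx₁ _
    change φ (f p) = X.presheaf.germ V x hxV (X.presheaf.map (homOfLE hVV₁').op (φ₁ (f p)))
    rw [h1, hφ₁, h2, hA]
  · ext r
    have h2 : f (MvPolynomial.C r) = algebraMap R A r := f.commutes r
    have h1 : ψ₀ (MvPolynomial.C r) = ρ₀ r := MvPolynomial.eval₂_C _ _ _
    have hcomp : X.presheaf.map (homOfLE (hVV₁'.trans (hV₁V₀.trans hV₀U))).op =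
        X.presheaf.map (homOfLE hV₀U).op ≫ X.presheaf.map (homOfLE hV₁V₀).op ≫
          X.presheaf.map (homOfLE hVV₁').op := by
      rw [← Functor.map_comp, ← Functor.map_comp]; rfl
    change X.presheaf.map (homOfLE (hVV₁'.trans (hV₁V₀.trans hV₀U))).op (φRX r) =
      X.presheaf.map (homOfLE hVV₁').op (φ₁ (algebraMap R A r))
    rw [← h2, hφ₁]
    change _ = X.presheaf.map (homOfLE hVV₁').op
      (X.presheaf.map (homOfLE hV₁V₀).op (ψ₀ (MvPolynomial.C r)))
    rw [h1, hcomp]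
    rfl

set_option backward.isDefEq.respectTransparency.types false in
/-- Spreading out, finitely presented version (Mathlib's `spread_out_of_isGermInjective` without
the germ-injectivity hypothesis). -/
lemma spread_out_of_fp [LocallyOfFinitePresentation sY] {x : X} {y : Y}
    (e : sX x = sY y) (φ : Y.presheaf.stalk y ⟶ X.presheaf.stalk x)
    (h : sY.stalkMap y ≫ φ =
      S.presheaf.stalkSpecializes (Inseparable.of_eq e).specializes ≫ sX.stalkMap x) :
    ∃ (U : X.Opens) (hxU : x ∈ U) (f : U.toScheme ⟶ Y),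
      Spec.map φ ≫ Y.fromSpecStalk y = U.fromSpecStalkOfMem x hxU ≫ f ∧
      f ≫ sY = U.ι ≫ sX := by
  obtain ⟨_, ⟨U, hU, rfl⟩, hxU, -⟩ :=
    S.isBasis_affineOpens.exists_subset_of_mem_open (Set.mem_univ (sX x)) isOpen_univ
  have hyU : sY y ∈ U := e ▸ hxU
  obtain ⟨_, ⟨V : Y.Opens, hV, rfl⟩, hyV, iVU⟩ :=
    Y.isBasis_affineOpens.exists_subset_of_mem_open hyU (sY ⁻¹ᵁ U).2
  have : sY.appLE U V iVU ≫ Y.presheaf.germ V y hyV ≫ φ =
      sX.app U ≫ X.presheaf.germ (sX ⁻¹ᵁ U) x hxU := by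
    rw [Scheme.Hom.appLE, Category.assoc, Y.presheaf.germ_res_assoc,
      ← Scheme.Hom.germ_stalkMap_assoc, h]
    simp
  obtain ⟨W, hxW, φ', i, hW, h₁, h₂⟩ :=
    exists_lift_of_finitePresentation (R := Γ(S, U)) (A := Γ(Y, V)) (U := sX ⁻¹ᵁ U) (x := x) hxU
    (Y.presheaf.germ _ y hyV ≫ φ) (sY.appLE U V iVU) (sX.app U)
    (sY.finitePresentation_appLE hU hV _) this
  refine ⟨W, hxW, W.toSpecΓ ≫ Spec.map φ' ≫ hV.fromSpec, ?_, ?_⟩
  · rw [W.fromSpecStalkOfMem_toSpecΓ_assoc x hxW, ← Spec.map_comp_assoc, ← h₁,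
      Spec.map_comp, Category.assoc, ← IsAffineOpen.fromSpecStalk,
      IsAffineOpen.fromSpecStalk_eq_fromSpecStalk]
  · simp only [Category.assoc]
    rw [← IsAffineOpen.SpecMap_appLE_fromSpec sY hU hV iVU, ← Spec.map_comp_assoc, ← h₂,
      ← Scheme.Hom.appLE, ← hW.isoSpec_hom, IsAffineOpen.SpecMap_appLE_fromSpec sX hU hW i,
      ← Iso.eq_inv_comp, IsAffineOpen.isoSpec_inv_ι_assoc]

set_option backward.isDefEq.respectTransparency.types false in
/-- Spreading out a morphism from the spectrum of a local ring of `X` into a scheme locally of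
finite presentation over the base. -/
lemma spread_out_of_fp' [LocallyOfFinitePresentation sY] {x : X}
    (φ : Spec (X.presheaf.stalk x) ⟶ Y)
    (h : φ ≫ sY = X.fromSpecStalk x ≫ sX) :
    ∃ (U : X.Opens) (hxU : x ∈ U) (f : U.toScheme ⟶ Y),
      φ = U.fromSpecStalkOfMem x hxU ≫ f ∧ f ≫ sY = U.ι ≫ sX := by
  have := spread_out_of_fp sX sY ?_ (Scheme.stalkClosedPointTo φ) ?_
  · simpa only [Scheme.Spec_stalkClosedPointTo_fromSpecStalk] using this
  · rw [← Scheme.Hom.comp_apply, h, Scheme.Hom.comp_apply, Scheme.fromSpecStalk_closedPoint]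
  · apply Spec.map_injective
    rw [← cancel_mono (S.fromSpecStalk _)]
    simpa only [Spec.map_comp, Category.assoc, Scheme.SpecMap_stalkMap_fromSpecStalk,
      Scheme.Spec_stalkClosedPointTo_fromSpecStalk_assoc,
      Scheme.SpecMap_stalkSpecializes_fromSpecStalk]

end Groth.Agent.H2.SpreadFP
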