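import Mathlib
import Groth.Prelude.Def_EtBase
import Groth.Agent.Lib.Helper2.SpreadFP
import Groth.Agent.Lib.Helper1.HensFin3
import Groth.Agent.Lib.Helper1.Henselian
import Groth.Agent.Lib.Helper1.DimZero

set_option autoImplicit false
set_option linter.style.haveILetI false
set_option linter.unusedVariables false
universe u
open CategoryTheory CategoryTheory.Limits AlgebraicGeometry Opposite

namespace Groth.Agent.H2.ZeroDimEt

/-- Zariski-local sections of étale morphisms at a point whose local ring is strictly henselian. -/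
theorem exists_local_section {S : Scheme.{u}} (s : S)
    [HenselianLocalRing (S.presheaf.stalk s)]
    [IsSepClosed (IsLocalRing.ResidueField (S.presheaf.stalk s))]
    {W : Scheme.{u}} (p : W ⟶ S) [Etale p] (w : W) (hw : p w = s) :
    ∃ (N : S.Opens) (hs : s ∈ N) (σ : N.toScheme ⟶ W), σ ≫ p = N.ι := by
  let R := S.presheaf.stalk s
  let ξ : Spec (.of (IsLocalRing.ResidueField R)) ⟶ S :=
    Spec.map (CommRingCat.ofHom (IsLocalRing.residue R)) ≫ S.fromSpecStalk s
  have hξ : ξ default = s := by
    change (Spec.map (CommRingCat.ofHom (IsLocalRing.residue R)) ≫ S.fromSpecStalk s) default = s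
    rw [Scheme.Hom.comp_apply]
    have h2 : (Spec.map (CommRingCat.ofHom (IsLocalRing.residue R))) default =
        IsLocalRing.closedPoint R := by
      have h1 : (default : ↥(Spec (CommRingCat.of (IsLocalRing.ResidueField R)))) =
          IsLocalRing.closedPoint (IsLocalRing.ResidueField R) := Subsingleton.elim _ _
      rw [h1]
      exact IsLocalRing.comap_closedPoint (IsLocalRing.residue R)
    rw [h2]
    exact Scheme.fromSpecStalk_closedPoint
  obtain ⟨l, hl, -⟩ := Scheme.exists_fac_of_etale_of_isSepClosed p ξ w (hw.trans hξ.symm)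
  let q : pullback p (S.fromSpecStalk s) ⟶ Spec (CommRingCat.of R) := pullback.snd _ _
  haveI : Etale q := inferInstance
  let t : Spec (.of (IsLocalRing.ResidueField R)) ⟶ pullback p (S.fromSpecStalk s) :=
    pullback.lift l (Spec.map (CommRingCat.ofHom (IsLocalRing.residue R))) hl
  have ht : t ≫ q = Spec.map (CommRingCat.ofHom (IsLocalRing.residue R)) := pullback.lift_snd _ _ _
  obtain ⟨s', hs', -⟩ := Groth.Agent.H1.HensFin.exists_section R q t ht
  have hφ : (s' ≫ pullback.fst p (S.fromSpecStalk s)) ≫ p = S.fromSpecStalk s ≫ 𝟙 S := by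
    rw [Category.assoc, pullback.condition, ← Category.assoc]
    change (s' ≫ q) ≫ _ = _
    rw [hs', Category.id_comp, Category.comp_id]
  obtain ⟨U, hxU, f, -, hf⟩ := Groth.Agent.H2.SpreadFP.spread_out_of_fp' (𝟙 S) p
    (s' ≫ pullback.fst p (S.fromSpecStalk s)) hφ
  exact ⟨U, hxU, f, by rw [hf, Category.comp_id]⟩

/-- In a compact space with a basis of clopen sets, every open cover is refined by a partition
into open sets. -/
lemma exists_clopen_partition {X : Type u} [TopologicalSpace X] [CompactSpace X]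
    (hb : TopologicalSpace.IsTopologicalBasis {s : Set X | IsClopen s})
    {ι : Type*} (N : ι → Set X) (hN : ∀ i, IsOpen (N i)) (hcov : ∀ x, ∃ i, x ∈ N i) :
    ∃ (μ : Type u) (D : μ → Set X), (∀ m, IsOpen (D m)) ∧ (∀ m, ∃ i, D m ⊆ N i) ∧
      (∀ x, ∃ m, x ∈ D m) ∧ (∀ m m', m ≠ m' → Disjoint (D m) (D m')) := by
  choose i hi using hcov
  have key : ∀ x, ∃ C : Set X, IsClopen C ∧ x ∈ C ∧ C ⊆ N (i x) := fun x => by
    obtain ⟨C, hC, hxC, hCN⟩ := hb.exists_subset_of_mem_open (hi x) (hN (i x))
    exact ⟨C, hC, hxC, hCN⟩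
  choose C hC hxC hCN using key
  obtain ⟨t, ht⟩ := isCompact_univ.elim_finite_subcover C (fun x => (hC x).2)
    (fun x _ => Set.mem_iUnion.2 ⟨x, hxC x⟩)
  let Q : DiscreteQuotient X := t.inf (fun x => DiscreteQuotient.ofIsClopen (hC x))
  refine ⟨Q, fun m => Q.proj ⁻¹' {m}, fun m => Q.isOpen_preimage _, ?_,
    fun x => ⟨Q.proj x, rfl⟩, ?_⟩
  · intro m
    obtain ⟨x, rfl⟩ := Q.proj_surjective m
    obtain ⟨y, hyt, hxy⟩ : ∃ y ∈ t, x ∈ C y := by
      have := ht (Set.mem_univ x)
      simpa using this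
    refine ⟨i y, fun z hz => hCN y ?_⟩
    have hle : Q ≤ DiscreteQuotient.ofIsClopen (hC y) := Finset.inf_le hyt
    have hzx : Q.toSetoid z x := Quotient.eq''.mp hz
    exact (hle hzx).mpr hxy
  · intro m m' hne
    rw [Set.disjoint_left]
    intro z hz hz'
    exact hne (hz.symm.trans hz')

end Groth.Agent.H2.ZeroDimEt
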