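import Mathlib
import Groth.Agent.Lib.Helper2.GbrC
import Groth.Agent.Lib.Helper2.ZeroDimEtA
import Groth.Agent.Lib.Helper2.EtSmallB

/-! # Gabber's criterion: local vanishing and the covering argument on `Spec R`. -/

set_option autoImplicit false
set_option linter.style.haveILetI false
set_option linter.unusedVariables false
set_option linter.unusedSectionVars false

universe u

open CategoryTheory CategoryTheory.Limits Abelian Opposite AlgebraicGeometry TopologicalSpace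

namespace Groth.Agent.H2.Gbr
open Groth.Agent.H2.EtSmall Groth.Agent.LD.SC Groth.Agent.H2.Zar

section Loc
variable (S : Scheme.{u}) (G : Sheaf (topo S) AddCommGrpCat.{u + 1})

set_option backward.isDefEq.respectTransparency.types false in
/-- a morphism from an open to an étale scheme, from a local section. -/
noncomputable def secHom' {U₁ : S.Opens} (V₀ : S.Etale) (τ : U₁.toScheme ⟶ V₀.left)
    (hτ : τ ≫ V₀.hom = U₁.ι) : (EtZar.zarToEt S).obj U₁ ⟶ V₀ :=
  MorphismProperty.Over.homMk τ hτ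

set_option backward.isDefEq.respectTransparency.types false in
/-- local vanishing of classes of positive degree on a scheme with strictly henselian local
rings. -/
theorem exists_open_rs_eq_zero
    (hS : ∀ s : S, EtCoh.IsStrictlyHenselianLocalRing (S.presheaf.stalk s)) (q : ℕ)
    (U : S.Opens) (β : Ext (ZU (topo S) (opS S U)) G (q + 1)) (x : S) (hx : x ∈ U) :
    ∃ (U₁ : S.Opens) (h : U₁ ≤ U), x ∈ U₁ ∧ rs S G h β = 0 := by
  obtain ⟨T, hT, hT0⟩ := exists_sieve_Hres_eq_zero q G β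
  rw [mem_topo_iff] at hT
  obtain ⟨V, f, y, hf, hy⟩ := hT (⟨x, hx⟩ : U.toScheme)
  let V₀ : S.Etale := (eqv S).inverse.obj V
  let f₀ : V₀ ⟶ (EtZar.zarToEt S).obj U := (eqv S).inverse.map f
  haveI : Etale V₀.hom := V₀.prop
  have hpy : V₀.hom y = x := by
    have h1 : f₀.left ≫ U.ι = V₀.hom := MorphismProperty.Over.w f₀
    rw [← h1, Scheme.Hom.comp_apply]
    have h2 : f₀.left y = (⟨x, hx⟩ : U.toScheme) := hy
    rw [h2]
    rfl
  obtain ⟨hH, hC⟩ := hS x
  haveI := hH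
  haveI := hC
  obtain ⟨N, hxN, σ, hσ⟩ := Groth.Agent.H2.ZeroDimEt.exists_local_section x V₀.hom y hpy
  let U₁ : S.Opens := N ⊓ U
  have hle : U₁ ≤ U := inf_le_right
  let τ : U₁.toScheme ⟶ V₀.left := S.homOfLE (inf_le_left : U₁ ≤ N) ≫ σ
  have hτ : τ ≫ V₀.hom = U₁.ι := by
    change (S.homOfLE _ ≫ σ) ≫ V₀.hom = U₁.ι
    rw [Category.assoc, hσ, S.homOfLE_ι]
  let g : (EtZar.zarToEt S).obj U₁ ⟶ V₀ := secHom' S V₀ τ hτ
  have hg : g ≫ f₀ = (EtZar.zarToEt S).map (homOfLE hle) := hom_zarToEt_ext' S _ _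
  refine ⟨U₁, hle, ⟨hxN, hx⟩, ?_⟩
  have e1 : opMap S hle = (eqv S).functor.map g ≫ f := by
    change (eqv S).functor.map ((EtZar.zarToEt S).map (homOfLE hle)) = _
    rw [← hg, Functor.map_comp]
    rfl
  unfold rs
  rw [e1, Hres_comp]
  exact (congrArg (Hres ((eqv S).functor.map g)) (hT0 f hf)).trans (Hres_zero _)

end Loc

section Alg

variable (R : CommRingCat.{u})

/-- a covering of `D(h)` by basic opens can be refined to a "partition of `h^N`". -/
theorem exists_list (h : Γ(Spec R, ⊤)) (T : Set Γ(Spec R, ⊤))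
    (hT : ∀ x ∈ D (X := Spec R) h, ∃ a ∈ T, x ∈ D (X := Spec R) a) :
    ∃ l : List Γ(Spec R, ⊤), D (X := Spec R) l.sum = D h ∧
      ∀ b ∈ l, ∃ a ∈ T, D (X := Spec R) b ≤ D a := by
  classical
  let φ := (Scheme.ΓSpecIso R).hom
  let ψ := (Scheme.ΓSpecIso R).inv
  have hφψ : ∀ r, φ (ψ r) = r := fun r => Iso.inv_hom_id_apply (Scheme.ΓSpecIso R) r
  have hψφ : ∀ a, ψ (φ a) = a := fun a => Iso.hom_inv_id_apply (Scheme.ΓSpecIso R) a
  have hD : ∀ a : Γ(Spec R, ⊤), ((D (X := Spec R) a : (Spec R).Opens) : Set (Spec R)) =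
      (PrimeSpectrum.basicOpen (φ a) : Set (PrimeSpectrum R)) := by
    intro a
    rw [D, basicOpen_eq_of_affine']
    rfl
  -- finite subcover
  have hK : IsCompact ((D (X := Spec R) h : (Spec R).Opens) : Set (Spec R)) := by
    rw [hD]
    exact PrimeSpectrum.isCompact_basicOpen (φ h)
  obtain ⟨T', hT'T, hT'fin, hT'cov⟩ := hK.elim_finite_subcover_image
    (b := T) (c := fun a => ((D (X := Spec R) a : (Spec R).Opens) : Set (Spec R)))
    (fun a _ => (D (X := Spec R) a).isOpen) (by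
      intro x hx
      obtain ⟨a, ha, hxa⟩ := hT x hx
      exact Set.mem_biUnion ha hxa)
  let s : Finset Γ(Spec R, ⊤) := hT'fin.toFinset
  have hsT : ∀ a ∈ s, a ∈ T := fun a ha => hT'T (hT'fin.mem_toFinset.1 ha)
  -- radical membership
  have hrad : φ h ∈ (Ideal.span ((s.image φ : Finset R) : Set R)).radical := by
    rw [← PrimeSpectrum.vanishingIdeal_zeroLocus_eq_radical, PrimeSpectrum.mem_vanishingIdeal]
    intro x hx
    rw [PrimeSpectrum.mem_zeroLocus] at hx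
    by_contra hcon
    have hxh : x ∈ ((D (X := Spec R) h : (Spec R).Opens) : Set (Spec R)) := by
      rw [hD]; exact hcon
    obtain ⟨a, haT', hxa⟩ := Set.mem_iUnion₂.1 (hT'cov hxh)
    have hxa' : x ∈ (PrimeSpectrum.basicOpen (φ a) : Set (PrimeSpectrum R)) := by
      rw [← hD]; exact hxa
    apply hxa'
    apply hx
    apply Ideal.subset_span
    rw [Finset.coe_image]
    exact ⟨a, hT'fin.mem_toFinset.2 haT', rfl⟩
  obtain ⟨N, hN⟩ := hrad
  obtain ⟨c, -, hc⟩ := Submodule.mem_span_finset.1 hN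
  rw [Finset.sum_image (fun a _ b _ hab => by rw [← hψφ a, ← hψφ b, hab])] at hc
  -- the list
  let cc : Γ(Spec R, ⊤) → Γ(Spec R, ⊤) := fun a => h * ψ (c (φ a))
  have hsum : ∑ a ∈ s, cc a * a = h ^ (N + 1) := by
    have h1 : ∑ a ∈ s, ψ (c (φ a)) * a = h ^ N := by
      have h2 : φ (∑ a ∈ s, ψ (c (φ a)) * a) = φ (h ^ N) := by
        rw [map_sum, map_pow, ← hc]
        refine Finset.sum_congr rfl (fun a _ => ?_)
        rw [map_mul, hφψ]
        rfl
      rw [← hψφ (∑ a ∈ s, ψ (c (φ a)) * a), h2, hψφ]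
    calc ∑ a ∈ s, cc a * a = h * ∑ a ∈ s, ψ (c (φ a)) * a := by
          rw [Finset.mul_sum]
          refine Finset.sum_congr rfl (fun a _ => ?_)
          exact mul_assoc _ _ _
      _ = h ^ (N + 1) := by rw [h1, pow_succ']
  refine ⟨s.toList.map (fun a => cc a * a), ?_, ?_⟩
  · rw [Finset.sum_map_toList, hsum]
    exact (Spec R).basicOpen_pow h (Nat.succ_pos N)
  · intro b hb
    obtain ⟨a, ha, rfl⟩ := List.mem_map.1 hb
    exact ⟨a, hsT a (Finset.mem_toList.1 ha), D_mul_le_right _ _⟩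

end Alg

section Main

variable (R : CommRingCat.{u}) (G : Sheaf (topo (Spec R)) AddCommGrpCat.{u + 1})

/-- vanishing on basic opens from the two-piece property and local vanishing. -/
theorem pv_of_tp (n : ℕ) (hTP : TP (Spec R) G n)
    (hloc : ∀ (U : (Spec R).Opens) (β : Ext (ZU (topo (Spec R)) (opS (Spec R) U)) G n)
      (x : Spec R), x ∈ U → ∃ (U₁ : (Spec R).Opens) (h : U₁ ≤ U), x ∈ U₁ ∧ rs (Spec R) G h β = 0) :
    PV (Spec R) G n := by
  intro h β
  let T : Set Γ(Spec R, ⊤) := {a | ∃ (U₁ : (Spec R).Opens) (h₁ : U₁ ≤ D h),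
    D (X := Spec R) a ≤ U₁ ∧ rs (Spec R) G h₁ β = 0}
  have hT : ∀ x ∈ D (X := Spec R) h, ∃ a ∈ T, x ∈ D (X := Spec R) a := by
    intro x hx
    obtain ⟨U₁, h₁, hxU₁, hβ⟩ := hloc (D h) β x hx
    obtain ⟨a, ha, hxa⟩ := (isAffineOpen_top (Spec R)).exists_basicOpen_le (V := U₁)
      ⟨x, hxU₁⟩ trivial
    exact ⟨a, ⟨U₁, h₁, ha, hβ⟩, hxa⟩
  obtain ⟨l, hl, hlT⟩ := exists_list R h T hT
  refine list_lemma n hTP l.length l rfl (D h) hl.symm β ?_
  intro b hb U₂ h₂ hU₂
  obtain ⟨a, ⟨U₁, h₁, ha, hβ⟩, hba⟩ := hlT b hb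
  have h21 : U₂ ≤ U₁ := hU₂.trans (hba.trans ha)
  rw [← rs_rs (Spec R) G h21 h₁ β, hβ, rs_zero]

/-- **Gabber's criterion on the small model**. -/
theorem pv_all
    (hsurj : ∀ (f g : Γ(Spec R, ⊤))
      (s : G.obj.obj (op (opS (Spec R) (D (f * (f + g)) ⊓ D (g * (f + g)))))),
      ∃ (a : G.obj.obj (op (opS (Spec R) (D (f * (f + g))))))
        (b : G.obj.obj (op (opS (Spec R) (D (g * (f + g)))))),
      G.obj.map (opMap (Spec R) (inf_le_left : D (f * (f + g)) ⊓ D (g * (f + g)) ≤ _)).op a -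
        G.obj.map (opMap (Spec R) (inf_le_right : D (f * (f + g)) ⊓ D (g * (f + g)) ≤ _)).op b = s)
    (hloc : ∀ (n : ℕ) (U : (Spec R).Opens)
      (β : Ext (ZU (topo (Spec R)) (opS (Spec R) U)) G (n + 1))
      (x : Spec R), x ∈ U → ∃ (U₁ : (Spec R).Opens) (h : U₁ ≤ U), x ∈ U₁ ∧ rs (Spec R) G h β = 0)
    (n : ℕ) : PV (Spec R) G (n + 1) := by
  induction n with
  | zero => exact pv_of_tp R G 1 (tp_of_surj hsurj) (hloc 0)
  | succ n ih => exact pv_of_tp R G (n + 2) (tp_of_pv n ih) (hloc (n + 1))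

end Main

end Groth.Agent.H2.Gbr
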