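import Mathlib
import Groth.Agent.Lib.Helper2.GbrB
import Groth.Agent.Lib.Helper2.GbrD
import Groth.Agent.Lib.Helper1.HensFin2

/-! # Gabber's criterion: assembly. -/

set_option autoImplicit false
set_option linter.style.haveILetI false
set_option linter.unusedVariables false
set_option linter.unusedSectionVars false

universe u

open CategoryTheory CategoryTheory.Limits Abelian Opposite AlgebraicGeometry TopologicalSpace

namespace Groth.Agent.H2.Gbr
open Groth.Agent.H2.EtSmall Groth.Agent.LD.SC Groth.Agent.H2.Zar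

theorem isSepClosed_of_ringEquiv {k k' : Type*} [Field k] [Field k'] (e : k ≃+* k')
    [IsSepClosed k] : IsSepClosed k' :=
  ⟨fun p hp => by
    have h1 : (p.map e.symm.toRingHom).Separable := hp.map
    have h2 := IsSepClosed.splits_domain (f := e.toRingHom) _ h1
    rw [Polynomial.map_map] at h2
    have h3 : e.toRingHom.comp e.symm.toRingHom = RingHom.id k' := by
      ext x
      exact e.apply_symm_apply x
    rwa [h3, Polynomial.map_id] at h2⟩

theorem isStrictlyHenselian_of_ringEquiv {A B : Type u} [CommRing A] [CommRing B] (e : A ≃+* B)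
    (hA : EtCoh.IsStrictlyHenselianLocalRing A) : EtCoh.IsStrictlyHenselianLocalRing B := by
  obtain ⟨hH, hC⟩ := hA
  haveI := hH
  haveI := hC
  haveI : HenselianLocalRing B := Groth.Agent.H1.HensFin.henselianLocalRing_of_ringEquiv e
  refine ⟨inferInstance, ?_⟩
  exact isSepClosed_of_ringEquiv (IsLocalRing.ResidueField.mapEquiv e)

/-- the stalks of `Spec R` are strictly henselian if the localisations are. -/
theorem stalk_strictlyHenselian (R : Type u) [CommRing R]
    (hR : ∀ p : PrimeSpectrum R,
      EtCoh.IsStrictlyHenselianLocalRing (Localization.AtPrime p.asIdeal))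
    (s : Spec (CommRingCat.of R)) :
    EtCoh.IsStrictlyHenselianLocalRing ((Spec (CommRingCat.of R)).presheaf.stalk s) :=
  isStrictlyHenselian_of_ringEquiv (StructureSheaf.stalkIso R s).toRingEquiv (hR s)

set_option backward.isDefEq.respectTransparency.types false in
/-- **Gabber's criterion**. -/
theorem gabber (R : CommRingCat.{u})
    (hS : ∀ s : Spec R, EtCoh.IsStrictlyHenselianLocalRing ((Spec R).presheaf.stalk s))
    (F : EtCoh.Ab (Spec R))
    (hk : ∀ (f g : Γ(Spec R, ⊤))
      (ξ : EtCoh.H ↑(D (X := Spec R) (f + g)) ((EtCoh.pull (D (X := Spec R) (f + g)).ι).obj F) 1),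
      EtCore.HpullVia ((Spec R).homOfLE (D_mul_le_right f (f + g))) (D (X := Spec R) (f + g)).ι
        (D (X := Spec R) (f * (f + g))).ι ((Spec R).homOfLE_ι _) F 1 ξ = 0 →
      EtCore.HpullVia ((Spec R).homOfLE (D_mul_le_right g (f + g))) (D (X := Spec R) (f + g)).ι
        (D (X := Spec R) (g * (f + g))).ι ((Spec R).homOfLE_ι _) F 1 ξ = 0 → ξ = 0)
    (q : ℕ) : Subsingleton (EtCoh.H (Spec R) F (q + 1)) := by
  have hPV := pv_all R ((Φ (Spec R)).functor.obj F)
    (fun f g s => sec_surj F (D_mul_le_right f (f + g)) (D_mul_le_right g (f + g))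
      (D_add_cover f g) (hk f g) s)
    (fun n U β x hx => exists_open_rs_eq_zero (Spec R) _ hS n U β x hx) q
  apply Groth.Agent.H2.QCoh.subsingleton_H_of_top_opens
  have key : ∀ (U : (Spec R).Opens), U = ⊤ →
      (∀ β : Ext (ZU (topo (Spec R)) (opS (Spec R) U)) ((Φ (Spec R)).functor.obj F) (q + 1), β = 0) →
      ∀ ξ : Ext (ZU (topo (Spec R)) (opS (Spec R) ⊤)) ((Φ (Spec R)).functor.obj F) (q + 1),
        ξ = 0 := by
    intro U hU h
    subst hU
    exact h
  exact key (D (X := Spec R) 1) ((Spec R).basicOpen_one) (hPV 1)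

end Groth.Agent.H2.Gbr
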