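import Mathlib
import Groth.Prelude.Def_EtShriek2
import Groth.Agent.Lib.Helper2.GbrA

/-! # Mayer–Vietoris injectivity on `H¹` from surjectivity on sections. -/

set_option autoImplicit false
set_option linter.style.haveILetI false
set_option linter.unusedVariables false
set_option linter.unusedSectionVars false

universe w₁ w₂ w₃ w₄ v₁ v₂ v₃ v₄ u₁ u₂ u₃ u₄ u

open CategoryTheory CategoryTheory.Limits Abelian Opposite AlgebraicGeometry

namespace Groth.Agent.H2.Gbr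
open Groth.Agent.H7.EX Groth.Agent.H7.ES

section HomInj

variable {X : Type u₁} [Category.{v₁} X] [Abelian X] [HasExt.{w₁} X] [EnoughInjectives X]
  {U : Type u₂} [Category.{v₂} U] [Abelian U] [HasExt.{w₂} U]
  {V : Type u₄} [Category.{v₄} V] [Abelian V] [HasExt.{w₄} V]
  {W : Type u₃} [Category.{v₃} W] [Abelian W] [HasExt.{w₃} W]
  {RU : X ⥤ U} {RV : X ⥤ V} {Ra : U ⥤ W} {Rb : V ⥤ W} {RW : X ⥤ W}
  [RU.Additive] [PreservesFiniteLimits RU] [PreservesFiniteColimits RU]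
  [RV.Additive] [PreservesFiniteLimits RV] [PreservesFiniteColimits RV]
  [Ra.Additive] [PreservesFiniteLimits Ra] [PreservesFiniteColimits Ra]
  [Rb.Additive] [PreservesFiniteLimits Rb] [PreservesFiniteColimits Rb]
  [RW.Additive] [PreservesFiniteLimits RW] [PreservesFiniteColimits RW]
  [RU.PreservesInjectiveObjects] [RV.PreservesInjectiveObjects]
  (θa : RU ⋙ Ra ≅ RW) (θb : RV ⋙ Rb ≅ RW)
  {LU : U ⥤ X} (adjU : LU ⊣ RU) {LV : V ⥤ X} (adjV : LV ⊣ RV) {LW : W ⥤ X} (adjW : LW ⊣ RW)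
  {zX : X} {zU : U} {zV : V} {zW : W}
  (cU : zU ⟶ RU.obj zX) (cV : zV ⟶ RV.obj zX) (ca : zW ⟶ Ra.obj zU) (cb : zW ⟶ Rb.obj zV)

/-- `Ext¹`-level injectivity in the Mayer–Vietoris situation, from Hom-level surjectivity. -/
theorem mv_hom_inj'
    (w : transAlpha θa adjU adjW ca ≫ transEps adjU cU =
      transAlpha θb adjV adjW cb ≫ transEps adjV cV)
    (hS : (mvSC (transAlpha θa adjU adjW ca) (transAlpha θb adjV adjW cb)
      (transEps adjU cU) (transEps adjV cV) w).ShortExact)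
    (G : X)
    (hsurj : ∀ ξW : zW ⟶ RW.obj G, ∃ (ξU : zU ⟶ RU.obj G) (ξV : zV ⟶ RV.obj G),
      ca ≫ Ra.map ξU ≫ θa.hom.app G - cb ≫ Rb.map ξV ≫ θb.hom.app G = ξW)
    (ξ : Ext zX G 1) (h1 : pullMap cU G 1 ξ = 0) (h2 : pullMap cV G 1 ξ = 0) : ξ = 0 := by
  haveI : LW.Additive := adjW.left_adjoint_additive
  have e1 : (Ext.mk₀ (transEps adjU cU)).comp ξ (zero_add 1) = 0 := by
    rw [pullMap_eq adjU cU G ξ] at h1
    exact (extAdj_bijective adjU zU G 1).1 (h1.trans (map_zero _).symm)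
  have e2 : (Ext.mk₀ (transEps adjV cV)).comp ξ (zero_add 1) = 0 := by
    rw [pullMap_eq adjV cV G ξ] at h2
    exact (extAdj_bijective adjV zV G 1).1 (h2.trans (map_zero _).symm)
  obtain ⟨y, rfl⟩ := (mv_exact₁ _ _ _ _ w hS G ξ).1 ⟨e1, e2⟩
  obtain ⟨φ, rfl⟩ := (Ext.mk₀_bijective _ _).2 y
  obtain ⟨ξU, ξV, h⟩ := hsurj (adjW.homEquiv _ _ φ)
  rw [mv_exact₃ _ _ _ _ w hS G (Ext.mk₀ φ)]
  refine ⟨Ext.mk₀ ((adjU.homEquiv _ _).symm ξU), Ext.mk₀ ((adjV.homEquiv _ _).symm ξV), ?_⟩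
  rw [Ext.mk₀_comp_mk₀, Ext.mk₀_comp_mk₀, sub_eq_add_neg, ← Ext.mk₀_neg, ← Ext.mk₀_add,
    ← sub_eq_add_neg]
  congr 1
  apply (adjW.homAddEquiv zW G).injective
  rw [map_sub]
  change adjW.homEquiv _ _ (transAlpha θa adjU adjW ca ≫ (adjU.homEquiv _ _).symm ξU) -
    adjW.homEquiv _ _ (transAlpha θb adjV adjW cb ≫ (adjV.homEquiv _ _).symm ξV) =
      adjW.homEquiv _ _ φ
  rw [homEquiv_transAlpha_comp, homEquiv_transAlpha_comp, Equiv.apply_symm_apply,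
    Equiv.apply_symm_apply]
  exact h

end HomInj

section MVInj

variable {U V W X : Scheme.{u}} (jU : U ⟶ X) (jV : V ⟶ X) (a : W ⟶ U) (b : W ⟶ V) (jW : W ⟶ X)
  (wa : a ≫ jU = jW) (wb : b ≫ jV = jW)
  [AlgebraicGeometry.Etale jU] [AlgebraicGeometry.Etale jV] [AlgebraicGeometry.Etale a]
  [AlgebraicGeometry.Etale b] [AlgebraicGeometry.Etale jW]
  [Mono jU] [Mono jV] [Mono jW]

/-- Hom-level. -/
theorem mv_hom_inj_etale' (hpb : IsPullback a b jU jV)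
    (hcov : ∀ x : X, (∃ u : U, jU.base u = x) ∨ (∃ v : V, jV.base v = x)) (G : EtCoh.Ab X)
    (hsurj : ∀ ξW : EtCoh.const W ℤ ⟶ (EtCoh.pull jW).obj G,
      ∃ (ξU : EtCoh.const U ℤ ⟶ (EtCoh.pull jU).obj G)
        (ξV : EtCoh.const V ℤ ⟶ (EtCoh.pull jV).obj G),
        (EtCore.pullConst a ℤ).inv ≫ (EtCoh.pull a).map ξU ≫ (thetaIso jU a jW wa).hom.app G -
          (EtCore.pullConst b ℤ).inv ≫ (EtCoh.pull b).map ξV ≫
            (thetaIso jV b jW wb).hom.app G = ξW)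
    (ξ : EtCoh.H X G 1) (h1 : EtCore.Hpull jU G 1 ξ = 0) (h2 : EtCore.Hpull jV G 1 ξ = 0) :
    ξ = 0 := by
  have w := transAlpha_transEps (thetaIso jU a jW wa) (thetaIso jV b jW wb)
    (pullAdj jU) (pullAdj jV) (pullAdj jW)
    (EtCore.pullConst jU ℤ).inv (EtCore.pullConst jV ℤ).inv
    (EtCore.pullConst a ℤ).inv (EtCore.pullConst b ℤ).inv (mv_hc jU jV a b jW wa wb)
  have hS := mvSC_shortExact (thetaIso jU a jW wa) (thetaIso jV b jW wb)
    (pullAdj jU) (pullAdj jV) (pullAdj jW)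
    (EtCore.pullConst jU ℤ).inv (EtCore.pullConst jV ℤ).inv
    (EtCore.pullConst a ℤ).inv (EtCore.pullConst b ℤ).inv w
    (mv_hinj jU jV hcov) (mv_hglue jU jV a b jW wa wb hpb hcov)
  exact mv_hom_inj' (thetaIso jU a jW wa) (thetaIso jV b jW wb)
    (pullAdj jU) (pullAdj jV) (pullAdj jW)
    (EtCore.pullConst jU ℤ).inv (EtCore.pullConst jV ℤ).inv
    (EtCore.pullConst a ℤ).inv (EtCore.pullConst b ℤ).inv w hS G hsurj ξ h1 h2

/-- Section-level. -/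
theorem mv_sec_inj' (hpb : IsPullback a b jU jV)
    (hcov : ∀ x : X, (∃ u : U, jU.base u = x) ∨ (∃ v : V, jV.base v = x)) (G : EtCoh.Ab X)
    (hsurj : ∀ σ : ZZ.{u} ⟶ (EtCore.gsec W).obj ((EtShriek.restrAlong jW).obj G),
      ∃ (σU : ZZ.{u} ⟶ (EtCore.gsec U).obj ((EtShriek.restrAlong jU).obj G))
        (σV : ZZ.{u} ⟶ (EtCore.gsec V).obj ((EtShriek.restrAlong jV).obj G)),
        σU ≫ evalMap jU a jW wa G - σV ≫ evalMap jV b jW wb G = σ)
    (ξ : EtCoh.H X G 1) (h1 : EtCore.Hpull jU G 1 ξ = 0) (h2 : EtCore.Hpull jV G 1 ξ = 0) :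
    ξ = 0 := by
  refine mv_hom_inj_etale' jU jV a b jW wa wb hpb hcov G ?_ ξ h1 h2
  intro ξW
  obtain ⟨σU, σV, h⟩ := hsurj ((EtCore.constAdj W).homEquiv ZZ.{u} _ ξW ≫ (gammaIso jW G).hom)
  refine ⟨((EtCore.constAdj U).homEquiv ZZ.{u} _).symm (σU ≫ (gammaIso jU G).inv),
    ((EtCore.constAdj V).homEquiv ZZ.{u} _).symm (σV ≫ (gammaIso jV G).inv), ?_⟩
  apply ((EtCore.constAdj W).homAddEquiv ZZ.{u} _).injective
  rw [map_sub]
  change (EtCore.constAdj W).homEquiv ZZ.{u} _ _ - (EtCore.constAdj W).homEquiv ZZ.{u} _ _ =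
    (EtCore.constAdj W).homEquiv ZZ.{u} _ ξW
  rw [homEquiv_ca_map, homEquiv_ca_map, Equiv.apply_symm_apply, Equiv.apply_symm_apply]
  rw [← cancel_mono (gammaIso jW G).hom]
  simp only [Preadditive.sub_comp, Category.assoc]
  rw [res_theta_gammaIso jU a jW wa G, res_theta_gammaIso jV b jW wb G]
  simp only [Iso.inv_hom_id_assoc]
  exact h

lemma zzHom_ext {A : AddCommGrpCat.{u + 1}} (f g : ZZ.{u} ⟶ A)
    (h : f.hom ⟨1⟩ = g.hom ⟨1⟩) : f = g := by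
  apply AddCommGrpCat.hom_ext
  have h2 : f.hom.comp AddEquiv.ulift.symm.toAddMonoidHom =
      g.hom.comp AddEquiv.ulift.symm.toAddMonoidHom := by
    apply AddMonoidHom.ext_int
    exact h
  ext ⟨n⟩
  exact DFunLike.congr_fun h2 n

/-- Element-level: if every section over `W` is a difference of restrictions of sections over `U`
and `V`, then `H¹(X) → H¹(U) × H¹(V)` is injective. -/
theorem mv_elt_inj' (hpb : IsPullback a b jU jV)
    (hcov : ∀ x : X, (∃ u : U, jU.base u = x) ∨ (∃ v : V, jV.base v = x)) (G : EtCoh.Ab X)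
    (hsurj : ∀ s : G.obj.obj (op (etObj jW)),
      ∃ (sU : G.obj.obj (op (etObj jU))) (sV : G.obj.obj (op (etObj jV))),
        (G.obj.map (etObjMap jU a jW wa).op).hom sU -
          (G.obj.map (etObjMap jV b jW wb).op).hom sV = s)
    (ξ : EtCoh.H X G 1) (h1 : EtCore.Hpull jU G 1 ξ = 0) (h2 : EtCore.Hpull jV G 1 ξ = 0) :
    ξ = 0 := by
  refine mv_sec_inj' jU jV a b jW wa wb hpb hcov G ?_ ξ h1 h2
  intro σ
  obtain ⟨sU, sV, h⟩ := hsurj (σ.hom ⟨1⟩)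
  let xU : ((EtCore.gsec U).obj ((EtShriek.restrAlong jU).obj G) : AddCommGrpCat.{u + 1}) := sU
  let xV : ((EtCore.gsec V).obj ((EtShriek.restrAlong jV).obj G) : AddCommGrpCat.{u + 1}) := sV
  refine ⟨zzHom _ xU, zzHom _ xV, ?_⟩
  apply zzHom_ext
  refine Eq.trans ?_ h
  have e1 : (zzHom _ xU).hom ⟨1⟩ = xU := zzHom_one _ xU
  have e2 : (zzHom _ xV).hom ⟨1⟩ = xV := zzHom_one _ xV
  exact congrArg₂ (fun x y => (evalMap jU a jW wa G).hom x - (evalMap jV b jW wb G).hom y) e1 e2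

end MVInj

end Groth.Agent.H2.Gbr
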