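import Mathlib
import Groth.Prelude.Def_EtZar
import Groth.Agent.Lib.Helper2.GbrI
import Groth.Agent.Lib.Helper2.GbrB

/-! # Two opens: injectivity on `H¹` from surjectivity on sections (étale sheaves). -/

set_option autoImplicit false
set_option linter.style.haveILetI false
set_option linter.unusedVariables false
set_option linter.unusedSectionVars false

universe u

open CategoryTheory CategoryTheory.Limits Abelian Opposite AlgebraicGeometry

namespace Groth.Agent.H2.Gbr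
open Groth.Agent.H7.EX Groth.Agent.H7.ES Groth.Agent.H2.HpullA

lemma HF_map_iso_injective {X : Scheme.{u}} {A B : EtCoh.Ab X} (i : A ≅ B) (p : ℕ)
    (y : EtCoh.H X A p) (h : ((EtCoh.HF X p).map i.hom).hom y = 0) : y = 0 := by
  have h2 := congrArg ((EtCoh.HF X p).map i.inv).hom h
  rw [map_zero] at h2
  refine Eq.trans ?_ h2
  change y = ((EtCoh.HF X p).map i.hom ≫ (EtCoh.HF X p).map i.inv).hom y
  rw [← Functor.map_comp, i.hom_inv_id, CategoryTheory.Functor.map_id]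
  rfl

variable {X : Scheme.{u}} (F : EtCoh.Ab X) {U₀ V W : X.Opens} (hV : V ≤ U₀) (hW : W ≤ U₀)

set_option backward.isDefEq.respectTransparency.types false in
/-- **injectivity on `H¹`** from surjectivity on sections. -/
theorem hk_of_sec_surj (hcov : U₀ ≤ V ⊔ W)
    (hsurj : ∀ s : F.obj.obj (op ((EtZar.zarToEt X).obj (V ⊓ W))),
      ∃ (a : F.obj.obj (op ((EtZar.zarToEt X).obj V)))
        (b : F.obj.obj (op ((EtZar.zarToEt X).obj W))),
        F.obj.map ((EtZar.zarToEt X).map (homOfLE (inf_le_left : V ⊓ W ≤ V))).op a -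
          F.obj.map ((EtZar.zarToEt X).map (homOfLE (inf_le_right : V ⊓ W ≤ W))).op b = s)
    (ξ : EtCoh.H ↑U₀ ((EtCoh.pull U₀.ι).obj F) 1)
    (h1 : EtCore.HpullVia (X.homOfLE hV) U₀.ι V.ι (X.homOfLE_ι hV) F 1 ξ = 0)
    (h2 : EtCore.HpullVia (X.homOfLE hW) U₀.ι W.ι (X.homOfLE_ι hW) F 1 ξ = 0) : ξ = 0 := by
  let G' : EtCoh.Ab ↑U₀ := (EtShriek.restrAlong U₀.ι).obj F
  have hVW : V ⊓ W ≤ U₀ := inf_le_left.trans hV
  have wa : X.homOfLE (inf_le_left : V ⊓ W ≤ V) ≫ X.homOfLE hV = X.homOfLE hVW :=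
    X.homOfLE_homOfLE _ _
  have wb : X.homOfLE (inf_le_right : V ⊓ W ≤ W) ≫ X.homOfLE hW = X.homOfLE hVW :=
    X.homOfLE_homOfLE _ _
  have hpb : IsPullback (X.homOfLE (inf_le_left : V ⊓ W ≤ V))
      (X.homOfLE (inf_le_right : V ⊓ W ≤ W)) (X.homOfLE hV) (X.homOfLE hW) :=
    isPullback_opens_inf_le hV hW
  have hc : ∀ x : ↑U₀, (∃ u : ↑V, (X.homOfLE hV).base u = x) ∨
      (∃ v : ↑W, (X.homOfLE hW).base v = x) := by
    intro x
    have hx : x.1 ∈ V ⊔ W := hcov x.2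
    rcases hx with hx | hx
    · exact Or.inl ⟨⟨x.1, hx⟩, Subtype.ext (X.homOfLE_apply hV ⟨x.1, hx⟩)⟩
    · exact Or.inr ⟨⟨x.1, hx⟩, Subtype.ext (X.homOfLE_apply hW ⟨x.1, hx⟩)⟩
  let e := (pullIsoRestr U₀.ι).app F
  -- the two restrictions of `ξ` vanish
  have k1 : EtCore.Hpull (X.homOfLE hV) ((EtCoh.pull U₀.ι).obj F) 1 ξ = 0 :=
    HF_map_iso_injective _ 1 _ h1
  have k2 : EtCore.Hpull (X.homOfLE hW) ((EtCoh.pull U₀.ι).obj F) 1 ξ = 0 :=
    HF_map_iso_injective _ 1 _ h2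
  have l1 : EtCore.Hpull (X.homOfLE hV) G' 1 (Sheaf.H.map e.hom 1 ξ) = 0 := by
    rw [Hpull_naturality, k1, map_zero]
  have l2 : EtCore.Hpull (X.homOfLE hW) G' 1 (Sheaf.H.map e.hom 1 ξ) = 0 := by
    rw [Hpull_naturality, k2, map_zero]
  have h0 : Sheaf.H.map e.hom 1 ξ = 0 := by
    refine mv_elt_inj' (X.homOfLE hV) (X.homOfLE hW)
      (X.homOfLE (inf_le_left : V ⊓ W ≤ V)) (X.homOfLE (inf_le_right : V ⊓ W ≤ W))
      (X.homOfLE hVW) wa wb hpb hc G' ?_ _ l1 l2
    intro s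
    let s' : F.obj.obj (op ((EtShriek.compEtale U₀.ι).obj (etObj (X.homOfLE hVW)))) := s
    obtain ⟨a, b, hab⟩ := hsurj (F.obj.map (kap hVW).hom.op s')
    let xU : F.obj.obj (op ((EtShriek.compEtale U₀.ι).obj (etObj (X.homOfLE hV)))) :=
      F.obj.map (kap hV).inv.op a
    let xV : F.obj.obj (op ((EtShriek.compEtale U₀.ι).obj (etObj (X.homOfLE hW)))) :=
      F.obj.map (kap hW).inv.op b
    refine ⟨xU, xV, ?_⟩
    have goal : F.obj.map ((EtShriek.compEtale U₀.ι).map (etObjMap (X.homOfLE hV)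
          (X.homOfLE (inf_le_left : V ⊓ W ≤ V)) (X.homOfLE hVW) wa)).op xU -
        F.obj.map ((EtShriek.compEtale U₀.ι).map (etObjMap (X.homOfLE hW)
          (X.homOfLE (inf_le_right : V ⊓ W ≤ W)) (X.homOfLE hVW) wb)).op xV = s' := by
      have h' := congrArg (F.obj.map (kap hVW).inv.op) hab
      rw [map_sub] at h'
      have e1 : F.obj.map (kap hVW).inv.op (F.obj.map (kap hVW).hom.op s') = s' := by
        rw [← ConcreteCategory.comp_apply, ← F.obj.map_comp, ← op_comp, Iso.inv_hom_id, op_id,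
          F.obj.map_id]
        rfl
      rw [e1] at h'
      refine Eq.trans ?_ h'
      congr 1
      · change (F.obj.map (kap hV).inv.op ≫ F.obj.map _) a = (F.obj.map _ ≫ F.obj.map _) a
        rw [← F.obj.map_comp, ← F.obj.map_comp, ← op_comp, ← op_comp]
        congr 2
        exact congrArg (fun t => F.obj.map (Quiver.Hom.op t))
          (Groth.Agent.H2.Zar.hom_zarToEt_ext' X _ _)
      · change (F.obj.map (kap hW).inv.op ≫ F.obj.map _) b = (F.obj.map _ ≫ F.obj.map _) b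
        rw [← F.obj.map_comp, ← F.obj.map_comp, ← op_comp, ← op_comp]
        congr 2
        exact congrArg (fun t => F.obj.map (Quiver.Hom.op t))
          (Groth.Agent.H2.Zar.hom_zarToEt_ext' X _ _)
    exact goal
  rw [Sheaf.H.map_apply] at h0
  have h3 : ξ = (ξ.comp (Ext.mk₀ e.hom) (add_zero 1)).comp (Ext.mk₀ e.inv) (add_zero 1) := by
    rw [Ext.comp_assoc_of_third_deg_zero, Ext.mk₀_comp_mk₀, e.hom_inv_id, Ext.comp_mk₀_id]
  rw [h3, h0, Ext.zero_comp]

end Groth.Agent.H2.Gbr
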