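import Mathlib
import Groth.Prelude.Def_EtZar
import Groth.Agent.Lib.Helper2.LCModelF
import Groth.Agent.Lib.Helper2.LCModelE

/-! # Sections of a constant étale sheaf over Zariski opens: splitting of cocycles. -/

set_option autoImplicit false
set_option linter.style.haveILetI false
set_option linter.unusedVariables false
set_option linter.unusedSectionVars false

universe u

open CategoryTheory CategoryTheory.Limits Opposite AlgebraicGeometry

namespace Groth.Agent.H2.Gbr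
open Groth.Agent.H2.LCModel

set_option backward.isDefEq.respectTransparency.types false in
theorem const_sec_surj (S : Scheme.{u}) (M : Type) [AddCommGroup M] {V W : S.Opens}
    (hT : ∀ s : ↥(V ⊓ W) → M, IsLocallyConstant s → ∃ (a : ↥V → M) (b : ↥W → M),
      IsLocallyConstant a ∧ IsLocallyConstant b ∧
      ∀ (y : S) (hy : y ∈ V ⊓ W), s ⟨y, hy⟩ = a ⟨y, hy.1⟩ - b ⟨y, hy.2⟩)
    (s : (EtCoh.const S M).obj.obj (op ((EtZar.zarToEt S).obj (V ⊓ W)))) :
    ∃ (a : (EtCoh.const S M).obj.obj (op ((EtZar.zarToEt S).obj V)))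
      (b : (EtCoh.const S M).obj.obj (op ((EtZar.zarToEt S).obj W))),
      (EtCoh.const S M).obj.map
          ((EtZar.zarToEt S).map (homOfLE (inf_le_left : V ⊓ W ≤ V))).op a -
        (EtCoh.const S M).obj.map
          ((EtZar.zarToEt S).map (homOfLE (inf_le_right : V ⊓ W ≤ W))).op b = s := by
  let R := etReal S
  let MM : AddCommGrpCat.{u + 1} := AddCommGrpCat.of (ULift.{u + 1} M)
  let sLC : LocallyConstant ↥(V ⊓ W) (ULift.{u + 1} M) :=
    lcAbFn R MM ((EtZar.zarToEt S).obj (V ⊓ W)) s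
  obtain ⟨a₀, b₀, ha₀, hb₀, hab⟩ := hT (fun y => (sLC y).down)
    (sLC.isLocallyConstant.comp ULift.down)
  let aLC : LocallyConstant (R.pt ((EtZar.zarToEt S).obj V)) (ULift.{u + 1} M) :=
    ⟨fun y => ⟨a₀ y⟩, ha₀.comp ULift.up⟩
  let bLC : LocallyConstant (R.pt ((EtZar.zarToEt S).obj W)) (ULift.{u + 1} M) :=
    ⟨fun y => ⟨b₀ y⟩, hb₀.comp ULift.up⟩
  obtain ⟨a, ha⟩ := ((lcAb R MM).fn_bijective ((EtZar.zarToEt S).obj V)).2 aLC
  obtain ⟨b, hb⟩ := ((lcAb R MM).fn_bijective ((EtZar.zarToEt S).obj W)).2 bLC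
  refine ⟨a, b, ?_⟩
  apply ((lcAb R MM).fn_bijective ((EtZar.zarToEt S).obj (V ⊓ W))).1
  change lcAbFn R MM _ _ = lcAbFn R MM _ s
  rw [map_sub]
  ext y
  rw [LocallyConstant.sub_apply]
  have e1 := (lcAb R MM).fn_map ((EtZar.zarToEt S).map (homOfLE (inf_le_left : V ⊓ W ≤ V))) a y
  have e2 := (lcAb R MM).fn_map ((EtZar.zarToEt S).map (homOfLE (inf_le_right : V ⊓ W ≤ W))) b y
  rw [ha] at e1
  rw [hb] at e2
  let y' : ↥(V ⊓ W) := y
  have e3 : (sLC y').down = a₀ ⟨y'.1, y'.2.1⟩ - b₀ ⟨y'.1, y'.2.2⟩ := hab y'.1 y'.2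
  have p1 : R.map ((EtZar.zarToEt S).map (homOfLE (inf_le_left : V ⊓ W ≤ V))) y =
      (⟨y'.1, y'.2.1⟩ : ↥V) := Subtype.ext (S.homOfLE_apply inf_le_left y')
  have p2 : R.map ((EtZar.zarToEt S).map (homOfLE (inf_le_right : V ⊓ W ≤ W))) y =
      (⟨y'.1, y'.2.2⟩ : ↥W) := Subtype.ext (S.homOfLE_apply inf_le_right y')
  rw [lcAbFn_apply, lcAbFn_apply]
  rw [ULift.sub_down]
  refine (congrArg₂ (fun x1 x2 : ULift.{u + 1} M => x1.down - x2.down) e1 e2).trans ?_
  refine Eq.trans ?_ e3.symm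
  rw [p1, p2]
  rfl

end Groth.Agent.H2.Gbr
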