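import Mathlib
import Groth.Prelude.Def_Curves
import Groth.Prelude.Def_EtBase
import Groth.Agent.Lib.Helper2.AicG
import Groth.Agent.Lib.Helper2.GbrE
import Groth.Agent.Lib.Helper2.GbrJ
import Groth.Agent.Lib.Helper2.GbrK
import Groth.Agent.Lib.Helper8.AIC
import Groth.Agent.Lib.Helper9.Misc.AIC1

/-! # Vanishing of the cohomology of finite constant sheaves on the spectrum of an a.i.c. ring. -/

set_option autoImplicit false
set_option linter.unusedVariables false
set_option linter.unusedSectionVars false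
set_option linter.style.haveILetI false

universe u

open CategoryTheory CategoryTheory.Limits Opposite AlgebraicGeometry TopologicalSpace

namespace Groth.Agent.H2.Aic

open Groth.Agent.H2.Gbr

set_option maxHeartbeats 1600000 in
/-- the cocycle splitting on `Spec R`. -/
theorem split_spec (R : Type u) [CommRing R] (hR : Curves.IsAIC R)
    (M : Type) [AddCommGroup M] [Finite M] (f g : Γ(Spec (CommRingCat.of R), ⊤))
    (s : ↥(D (X := Spec (CommRingCat.of R)) (f * (f + g)) ⊓ D (g * (f + g))) → M)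
    (hs : IsLocallyConstant s) :
    ∃ (a : ↥(D (X := Spec (CommRingCat.of R)) (f * (f + g))) → M)
      (b : ↥(D (X := Spec (CommRingCat.of R)) (g * (f + g))) → M),
      IsLocallyConstant a ∧ IsLocallyConstant b ∧
      ∀ (y : Spec (CommRingCat.of R))
        (hy : y ∈ D (X := Spec (CommRingCat.of R)) (f * (f + g)) ⊓ D (g * (f + g))),
        s ⟨y, hy⟩ = a ⟨y, hy.1⟩ - b ⟨y, hy.2⟩ := by
  classical
  obtain ⟨f₀, hf₀⟩ : ∃ f₀ : R, f₀ = (Scheme.ΓSpecIso (CommRingCat.of R)).hom f := ⟨_, rfl⟩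
  obtain ⟨g₀, hg₀⟩ : ∃ g₀ : R, g₀ = (Scheme.ΓSpecIso (CommRingCat.of R)).hom g := ⟨_, rfl⟩
  have hVmem : ∀ x : PrimeSpectrum R,
      x ∈ D (X := Spec (CommRingCat.of R)) (f * (f + g)) ↔
        x ∈ (PrimeSpectrum.basicOpen (f₀ * (f₀ + g₀)) : Set (PrimeSpectrum R)) := by
    intro x
    have h1 := basicOpen_eq_of_affine' (R := CommRingCat.of R) (f * (f + g))
    rw [map_mul, map_add, ← hf₀, ← hg₀] at h1
    change x ∈ (Spec (CommRingCat.of R)).basicOpen (f * (f + g)) ↔ _
    rw [h1]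
    exact Iff.rfl
  have hWmem : ∀ x : PrimeSpectrum R,
      x ∈ D (X := Spec (CommRingCat.of R)) (g * (f + g)) ↔
        x ∈ (PrimeSpectrum.basicOpen (g₀ * (f₀ + g₀)) : Set (PrimeSpectrum R)) := by
    intro x
    have h1 := basicOpen_eq_of_affine' (R := CommRingCat.of R) (g * (f + g))
    rw [map_mul, map_add, ← hf₀, ← hg₀] at h1
    change x ∈ (Spec (CommRingCat.of R)).basicOpen (g * (f + g)) ↔ _
    rw [h1]
    exact Iff.rfl
  have hcov : (PrimeSpectrum.basicOpen (f₀ * (f₀ + g₀)) : Set (PrimeSpectrum R)) ∪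
      PrimeSpectrum.basicOpen (g₀ * (f₀ + g₀)) = PrimeSpectrum.basicOpen (f₀ + g₀) := by
    ext x
    simp only [Set.mem_union, SetLike.mem_coe, PrimeSpectrum.mem_basicOpen]
    constructor
    · rintro (h | h)
      · exact fun h' => h (x.asIdeal.mul_mem_left _ h')
      · exact fun h' => h (x.asIdeal.mul_mem_left _ h')
    · intro h
      by_cases hf : f₀ ∈ x.asIdeal
      · right
        intro h'
        rcases x.isPrime.mem_or_mem h' with h'' | h''
        · exact h (x.asIdeal.add_mem hf h'')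
        · exact h h''
      · left
        intro h'
        rcases x.isPrime.mem_or_mem h' with h'' | h''
        · exact hf h''
        · exact h h''
  let s₀ : PrimeSpectrum R → M := fun x =>
    if h : x ∈ D (X := Spec (CommRingCat.of R)) (f * (f + g)) ⊓ D (g * (f + g)) then s ⟨x, h⟩
    else 0
  have hmemVW : ∀ x : PrimeSpectrum R,
      x ∈ (PrimeSpectrum.basicOpen (f₀ * (f₀ + g₀)) : Set (PrimeSpectrum R)) ∩
        PrimeSpectrum.basicOpen (g₀ * (f₀ + g₀)) →
      x ∈ D (X := Spec (CommRingCat.of R)) (f * (f + g)) ⊓ D (g * (f + g)) :=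
    fun x hx => ⟨(hVmem x).2 hx.1, (hWmem x).2 hx.2⟩
  have hs₀ : LCOn s₀ ((PrimeSpectrum.basicOpen (f₀ * (f₀ + g₀)) : Set (PrimeSpectrum R)) ∩
      PrimeSpectrum.basicOpen (g₀ * (f₀ + g₀))) := by
    have h1 : (fun x : ↥((PrimeSpectrum.basicOpen (f₀ * (f₀ + g₀)) : Set (PrimeSpectrum R)) ∩
        PrimeSpectrum.basicOpen (g₀ * (f₀ + g₀))) => s₀ x.1) =
        s ∘ (fun x => ⟨x.1, hmemVW x.1 x.2⟩) := by
      funext x
      exact dif_pos (hmemVW x.1 x.2)
    unfold LCOn
    rw [h1]
    exact hs.comp_continuous (Continuous.subtype_mk continuous_subtype_val _)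
  obtain ⟨a₀, b₀, ha₀, hb₀, hab₀⟩ := split_basic hR _ _ _ hcov M s₀ hs₀
  refine ⟨fun y => a₀ y.1, fun y => b₀ y.1, ?_, ?_, ?_⟩
  · have h1 : (fun y : ↥(D (X := Spec (CommRingCat.of R)) (f * (f + g))) => a₀ y.1) =
        (fun x : ↥(PrimeSpectrum.basicOpen (f₀ * (f₀ + g₀)) : Set (PrimeSpectrum R)) => a₀ x.1) ∘
          (fun y => ⟨y.1, (hVmem y.1).1 y.2⟩) := rfl
    rw [h1]
    exact ha₀.comp_continuous (Continuous.subtype_mk continuous_subtype_val _)
  · have h1 : (fun y : ↥(D (X := Spec (CommRingCat.of R)) (g * (f + g))) => b₀ y.1) =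
        (fun x : ↥(PrimeSpectrum.basicOpen (g₀ * (f₀ + g₀)) : Set (PrimeSpectrum R)) => b₀ x.1) ∘
          (fun y => ⟨y.1, (hWmem y.1).1 y.2⟩) := rfl
    rw [h1]
    exact hb₀.comp_continuous (Continuous.subtype_mk continuous_subtype_val _)
  · intro y hy
    have h1 : s₀ y = s ⟨y, hy⟩ := dif_pos hy
    rw [← h1]
    exact hab₀ y ⟨(hVmem y).1 hy.1, (hWmem y).1 hy.2⟩

set_option backward.isDefEq.respectTransparency.types false in
/-- **vanishing** for a.i.c. rings. -/
theorem aic_vanish (R : Type u) [CommRing R] (hR : Curves.IsAIC R)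
    (M : Type) [AddCommGroup M] [Finite M] (q : ℕ) :
    Subsingleton (EtCoh.H (Spec (CommRingCat.of R))
      (EtCoh.const (Spec (CommRingCat.of R)) M) (q + 1)) := by
  apply gabber (CommRingCat.of R)
  · have hsplit : ∀ f : Polynomial R, f.Monic →
        ∃ s : Multiset R, f = (s.map fun a => Polynomial.X - Polynomial.C a).prod :=
      fun f hf => Groth.Agent.H9.AIC.splits_of_roots (fun f hf hd => hR f hf hd) _ f hf rfl
    exact stalk_strictlyHenselian R
      (fun p => Groth.Agent.H8.AIC.isStrictlyHenselian hsplit p.asIdeal)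
  · intro f g ξ h1 h2
    refine hk_of_sec_surj (EtCoh.const (Spec (CommRingCat.of R)) M) (D_mul_le_right f (f + g))
      (D_mul_le_right g (f + g)) (D_add_cover f g) ?_ ξ h1 h2
    apply const_sec_surj (Spec (CommRingCat.of R)) M
    intro s hs
    exact split_spec R hR M f g s hs

end Groth.Agent.H2.Aic
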