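import Groth.Agent.Lib.Helper2.AlgzML
import Groth.Agent.Lib.Lead.QC.FinType

set_option autoImplicit false
set_option linter.style.haveILetI false
universe u
open CategoryTheory Limits Opposite TopologicalSpace AlgebraicGeometry

namespace Groth.Agent.H2.AlgzAff

open Groth.Agent.LD.FF Groth.Agent.H2.FormalQ

variable {A : Type u} [CommRing A]

/-- `Spec A` over itself through the identity. -/
@[reducible] noncomputable def idOver (A : Type u) [CommRing A] :
    (Spec (CommRingCat.of A)).Over (Spec (CommRingCat.of A)) := ⟨𝟙 _⟩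

attribute [local instance 2000] idOver

lemma toGlobal_id (a : A) :
    Coh.toGlobal (𝟙 (Spec (CommRingCat.of A))) a =
      (Scheme.ΓSpecIso (CommRingCat.of A)).inv.hom a := by
  unfold Coh.toGlobal
  simp
  rfl

lemma resTop_toGlobal_id (a : A) :
    Coh.resTop (Spec (CommRingCat.of A)) (op ⊤)
      (Coh.toGlobal (Spec (CommRingCat.of A) ↘ Spec (CommRingCat.of A)) a) =
      (Scheme.ΓSpecIso (CommRingCat.of A)).inv.hom a := by
  have h1 : (homOfLE (le_top (a := (⊤ : (Spec (CommRingCat.of A)).Opens)))).op = 𝟙 _ :=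
    Subsingleton.elim _ _
  unfold Coh.resTop
  rw [h1, CategoryTheory.Functor.map_id]
  exact toGlobal_id a

/-- on `Spec A`, multiplication by `a` acts on global sections as `a • _`. -/
lemma Γ_map_smulMod (N : (Spec (CommRingCat.of A)).Modules) (a : A) :
    (moduleSpecΓFunctor (R := CommRingCat.of A)).map (Formal.smulMod A N a) =
      a • 𝟙 ((moduleSpecΓFunctor (R := CommRingCat.of A)).obj N) := by
  ext s
  change Coh.resTop (Spec (CommRingCat.of A)) (op ⊤) (Coh.toGlobal _ a) •
    (show N.val.obj (op ⊤) from s) = _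
  rw [resTop_toGlobal_id]
  rfl

/-- the tilde-Gamma adjunction over `A`. -/
noncomputable abbrev adj (A : Type u) [CommRing A] :
    tilde.functor (CommRingCat.of A) ⊣ moduleSpecΓFunctor (R := CommRingCat.of A) :=
  tilde.adjunction

/-- the tilde of multiplication by `b` is multiplication by `b`. -/
lemma tilde_map_smul (L : ModuleCat.{u} A) (b : A) :
    (tilde.functor (CommRingCat.of A)).map (b • 𝟙 L) =
      Formal.smulMod A ((tilde.functor (CommRingCat.of A)).obj L) b := by
  apply ((adj A).homEquiv L _).injective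
  rw [Adjunction.homEquiv_unit, Adjunction.homEquiv_unit, Γ_map_smulMod]
  have := (adj A).unit.naturality (b • 𝟙 L)
  rw [Functor.comp_map] at this
  rw [← this, Functor.id_map, Linear.smul_comp, Linear.comp_smul]
  erw [Category.id_comp]

lemma exists_factor {L N P : ModuleCat.{u} A} (φ : L ⟶ N) (hs : Function.Surjective φ.hom)
    (ψ : L ⟶ P) (hle : LinearMap.ker φ.hom ≤ LinearMap.ker ψ.hom) : ∃ h : N ⟶ P, φ ≫ h = ψ := by
  let eqv := LinearMap.quotKerEquivOfSurjective φ.hom hs
  let h : N →ₗ[A] P := (Submodule.liftQ (LinearMap.ker φ.hom) ψ.hom hle) ∘ₗ eqv.symm.toLinearMap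
  refine ⟨ModuleCat.ofHom h, ?_⟩
  ext x
  have h2 : eqv.symm (φ.hom x) = Submodule.Quotient.mk x := by
    rw [LinearEquiv.symm_apply_eq]
    rfl
  change (Submodule.liftQ (LinearMap.ker φ.hom) ψ.hom hle) (eqv.symm (φ.hom x)) = _
  rw [h2]
  rfl

/-- the tilde of a quotient map `L → L / J L` is a quotient by `J`. -/
theorem isQ_tilde_map (J : Ideal A) {L N : ModuleCat.{u} A} (φ : L ⟶ N)
    (hs : Function.Surjective φ.hom)
    (hk : LinearMap.ker φ.hom = J • (⊤ : Submodule A L)) :
    IsQ J ((tilde.functor (CommRingCat.of A)).map φ) := by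
  rw [isQ_iff]
  refine ⟨?_, fun b hb => ?_, fun {Z} g hg => ?_⟩
  · have : Epi φ := (ModuleCat.epi_iff_surjective φ).2 hs
    have := (tilde.functor (CommRingCat.of A)).preservesEpimorphisms_of_adjunction (adj A)
    exact (tilde.functor (CommRingCat.of A)).map_epi φ
  · rw [← tilde_map_smul, ← Functor.map_comp]
    have h0 : (b • 𝟙 L) ≫ φ = 0 := by
      ext x
      have hx : b • x ∈ LinearMap.ker φ.hom := by
        rw [hk]
        exact Submodule.smul_mem_smul hb Submodule.mem_top
      exact hx
    rw [h0, Functor.map_zero]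
  · -- the adjunct of `g`
    have hle : LinearMap.ker φ.hom ≤ LinearMap.ker ((adj A).homEquiv L Z g).hom := by
      rw [hk, Submodule.smul_le]
      intro b hb x _
      have h1 : (b • 𝟙 L) ≫ (adj A).homEquiv L Z g = 0 := by
        rw [← Adjunction.homEquiv_naturality_left, tilde_map_smul, hg b hb]
        haveI : (moduleSpecΓFunctor (R := CommRingCat.of A)).IsRightAdjoint :=
          (adj A).isRightAdjoint
        rw [Adjunction.homEquiv_unit, Functor.map_zero, comp_zero]
      exact congrArg (fun f => f.hom x) h1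
    obtain ⟨h', hh⟩ := exists_factor φ hs ((adj A).homEquiv L Z g) hle
    refine ⟨((adj A).homEquiv N Z).symm h', ?_⟩
    rw [← Adjunction.homEquiv_naturality_left_symm, hh, Equiv.symm_apply_apply]

end Groth.Agent.H2.AlgzAff
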