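import Groth.Agent.Lib.Helper2.AlgzAff1
import Groth.Agent.Lib.Lead.QC.SubExtRestrict

/-!
# Global sections of coherent formal modules on `Spec A` (helper2)
-/

set_option autoImplicit false
set_option linter.style.haveILetI false
universe u
open CategoryTheory Limits Opposite TopologicalSpace AlgebraicGeometry

namespace Groth.Agent.H2.AlgzAff

open Groth.Agent.LD.FF Groth.Agent.H2.FormalQ Groth.Agent.H2.FormalEq Groth.Agent.LD

variable {A : Type u} [CommRing A]

attribute [local instance 2000] idOver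

/-- global sections over `A`. -/
noncomputable abbrev Γf (A : Type u) [CommRing A] :
    (Spec (CommRingCat.of A)).Modules ⥤ ModuleCat.{u} A :=
  moduleSpecΓFunctor (R := CommRingCat.of A)

/-- the tilde functor over `A`. -/
noncomputable abbrev Tf (A : Type u) [CommRing A] :
    ModuleCat.{u} A ⥤ (Spec (CommRingCat.of A)).Modules :=
  tilde.functor (CommRingCat.of A)

lemma Γ_smul_eq_zero {J : Ideal A} {N : (Spec (CommRingCat.of A)).Modules}
    (h : Formal.KilledBy J N) (b : A) (hb : b ∈ J) (s : (Γf A).obj N) : b • s = 0 := by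
  have h1 := Γ_map_smulMod N b
  rw [h b hb] at h1
  have h2 := congrArg (fun f => f.hom s) h1
  haveI : (Γf A).IsRightAdjoint := (adj A).isRightAdjoint
  rw [Functor.map_zero] at h2
  exact h2.symm

lemma Γ_smul_top_eq_bot {J : Ideal A} {N : (Spec (CommRingCat.of A)).Modules}
    (h : Formal.KilledBy J N) : J • (⊤ : Submodule A ((Γf A).obj N)) = ⊥ := by
  rw [eq_bot_iff, Submodule.smul_le]
  intro b hb s _
  rw [Γ_smul_eq_zero h b hb s]
  exact Submodule.zero_mem _

lemma Γ_surjective {M Q : (Spec (CommRingCat.of A)).Modules} (hM : M.IsQuasicoherent)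
    (hQ : Q.IsQuasicoherent) (p : M ⟶ Q) [Epi p] : Function.Surjective ((Γf A).map p).hom := by
  have := QC.spec_epi_Γ hM hQ p
  exact (ModuleCat.epi_iff_surjective _).1 this

/-- the counit of the tilde-Gamma adjunction at a quasi-coherent module is an isomorphism. -/
lemma isIso_counit {M : (Spec (CommRingCat.of A)).Modules} (hM : M.IsQuasicoherent) :
    IsIso ((adj A).counit.app M) := by
  haveI := hM
  exact Scheme.Modules.isIso_fromTildeΓ_of_isQuasicoherent (R := CommRingCat.of A) M

lemma isIso_unit (N : ModuleCat.{u} A) : IsIso ((adj A).unit.app N) :=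
  inferInstanceAs (IsIso ((tilde.toTildeΓNatIso (R := CommRingCat.of A)).hom.app N))

lemma injective_of_isIso {N N' : ModuleCat.{u} A} (f : N ⟶ N') [IsIso f] :
    Function.Injective f.hom :=
  (ModuleCat.mono_iff_injective f).1 inferInstance

theorem ker_unit_comp {J : Ideal A} {N : ModuleCat.{u} A}
    {M Q : (Spec (CommRingCat.of A)).Modules} (ε : (Tf A).obj N ⟶ M) [IsIso ε] {p : M ⟶ Q}
    (hp : IsQ J p) :
    LinearMap.ker ((adj A).unit.app N ≫ (Γf A).map ε ≫ (Γf A).map p).hom =
      J • (⊤ : Submodule A N) := by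
  let N' : ModuleCat.{u} A := ModuleCat.of A (N ⧸ J • (⊤ : Submodule A N))
  let πJ : N ⟶ N' := ModuleCat.ofHom (J • (⊤ : Submodule A N)).mkQ
  have hπs : Function.Surjective πJ.hom := Submodule.mkQ_surjective _
  have hπk : LinearMap.ker πJ.hom = J • (⊤ : Submodule A N) := Submodule.ker_mkQ _
  have h1 : IsQ J (ε ≫ p) := isQ_iso_comp _ hp
  have h2 : IsQ J ((Tf A).map πJ) := isQ_tilde_map J πJ hπs hπk
  obtain ⟨θ, hθ⟩ := IsQ.exists_iso h1 h2
  have h3 : ((adj A).unit.app N ≫ (Γf A).map ε ≫ (Γf A).map p) ≫ (Γf A).map θ.hom =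
      πJ ≫ (adj A).unit.app N' := by
    have e1 := (adj A).unit.naturality πJ
    rw [Functor.id_map, Functor.comp_map] at e1
    rw [e1, ← hθ, Functor.map_comp, Functor.map_comp, Category.assoc, Category.assoc]
  haveI : IsIso ((adj A).unit.app N') := isIso_unit N'
  ext x
  rw [← hπk, LinearMap.mem_ker, LinearMap.mem_ker]
  have h4 := congrArg (fun f => f.hom x) h3
  change ((Γf A).map θ.hom).hom (((adj A).unit.app N ≫ (Γf A).map ε ≫ (Γf A).map p).hom x) =
    ((adj A).unit.app N').hom (πJ.hom x) at h4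
  constructor
  · intro hx
    rw [hx, map_zero] at h4
    exact injective_of_isIso ((adj A).unit.app N') (by rw [← h4, map_zero])
  · intro hx
    rw [hx, map_zero] at h4
    exact injective_of_isIso ((Γf A).map θ.hom) (by rw [h4, map_zero])

/-- the kernel of `Γ(M) → Γ(M / J M)` is `J Γ(M)`, for `M` quasi-coherent on `Spec A`. -/
theorem Γ_ker_eq {J : Ideal A} {M Q : (Spec (CommRingCat.of A)).Modules}
    (hM : M.IsQuasicoherent) {p : M ⟶ Q} (hp : IsQ J p) :
    LinearMap.ker ((Γf A).map p).hom = J • (⊤ : Submodule A ((Γf A).obj M)) := by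
  haveI := isIso_counit hM
  have h := ker_unit_comp ((adj A).counit.app M) hp
  have e2 := (adj A).right_triangle_components M
  rw [← Category.assoc, e2] at h
  erw [Category.id_comp] at h
  exact h

end Groth.Agent.H2.AlgzAff
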