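import Groth.Agent.Lib.Helper2.AlgzAff2
import Groth.Agent.S7852

/-!
# Coherent formal modules on `Spec A`, `A` complete, are completions (helper2)
-/

set_option autoImplicit false
set_option linter.style.haveILetI false
universe u
open CategoryTheory Limits Opposite TopologicalSpace AlgebraicGeometry

namespace Groth.Agent.H2.AlgzAff

open Groth.Agent.LD.FF Groth.Agent.H2.FormalQ Groth.Agent.H2.FormalEq Groth.Agent.LD
  Groth.Agent.H2.AlgzExt

variable {A : Type u} [CommRing A]

attribute [local instance 2000] idOver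

section Lim

variable (M : ℕ → ModuleCat.{u} A) (f : ∀ n, M (n + 1) ⟶ M n)

/-- the inverse limit of a sequence of modules. -/
def limSub : Submodule A (∀ n, M n) where
  carrier := {y | ∀ n, (f n).hom (y (n + 1)) = y n}
  add_mem' := by
    intro x y hx hy n
    simp only [Pi.add_apply, map_add]
    rw [hx n, hy n]
  zero_mem' := by
    intro n
    simp
  smul_mem' := by
    intro c x hx n
    simp only [Pi.smul_apply, map_smul]
    rw [hx n]

/-- the projections of the inverse limit. -/
def limπ (n : ℕ) : limSub M f →ₗ[A] M n := (LinearMap.proj n).comp (limSub M f).subtype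

lemma limπ_apply (n : ℕ) (y : limSub M f) : limπ M f n y = y.1 n := rfl

lemma limπ_comp (n : ℕ) : (f n).hom ∘ₗ limπ M f (n + 1) = limπ M f n := by
  ext y
  exact y.2 n

/-- the inverse limit as an object. -/
def limObj : ModuleCat.{u} A := ModuleCat.of A (limSub M f)

/-- the projections as morphisms. -/
def limHom (n : ℕ) : limObj M f ⟶ M n := ModuleCat.ofHom (limπ M f n)

lemma limHom_comp (n : ℕ) : limHom M f (n + 1) ≫ f n = limHom M f n := by
  ext y
  exact y.2 n

theorem limit_finite (I : Ideal A) [IsAdicComplete I A]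
    (hf : ∀ n, Function.Surjective (f n).hom)
    (hk : ∀ n, I ^ (n + 1) • (⊤ : Submodule A (M n)) = ⊥)
    (hker : ∀ n, LinearMap.ker (f n).hom = I ^ (n + 1) • (⊤ : Submodule A (M (n + 1))))
    (h0 : Module.Finite A (M 0)) :
    Module.Finite A (limObj M f) ∧ ∀ n, Function.Surjective (limHom M f n).hom ∧
      LinearMap.ker (limHom M f n).hom = I ^ (n + 1) • (⊤ : Submodule A (limObj M f)) := by
  obtain ⟨hfin, -, hπ⟩ := Groth.Agent.S7852.result A I (fun n => M n) (fun n => (f n).hom) hf hk
    hker (limSub M f) (limπ M f) (limπ_comp M f)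
    (fun x hx => Subtype.ext (funext fun n => hx n))
    (fun y hy => ⟨⟨y, hy⟩, fun n => rfl⟩) h0
  exact ⟨hfin, hπ⟩

end Lim

lemma isQC_Tf (L : ModuleCat.{u} A) : ((Tf A).obj L).IsQuasicoherent :=
  inferInstanceAs ((AlgebraicGeometry.tilde (R := CommRingCat.of A) L).IsQuasicoherent)

lemma Γ_finite {N : (Spec (CommRingCat.of A)).Modules} (hN : Coh.IsCoh N) :
    Module.Finite A ((Γf A).obj N) := by
  haveI := isIso_counit hN.1
  haveI : N.IsQuasicoherent := hN.1
  let e : N ≅ (Tf A).obj ((Γf A).obj N) := (asIso ((adj A).counit.app N)).symm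
  have h1 : ((Tf A).obj ((Γf A).obj N)).IsFiniteType := QC.isFiniteType_of_iso e hN.2
  exact (QC.spec_isFiniteType_tilde_iff (R := CommRingCat.of A) ((Γf A).obj N)).1 h1

/-- compatibility with all transition maps follows from compatibility with successive ones. -/
lemma comp_map_of_succ {C : Type*} [Category C] {S : ℕᵒᵖ ⥤ C} {F : C}
    (p : ∀ n, F ⟶ S.obj (op n))
    (h : ∀ n, p (n + 1) ≫ S.map (homOfLE (Nat.le_succ n)).op = p n) (n k : ℕ) (hnk : n ≤ k) :
    p k ≫ S.map (homOfLE hnk).op = p n := by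
  induction k, hnk using Nat.le_induction with
  | base =>
    have : (homOfLE (le_refl n)).op = 𝟙 (op n : ℕᵒᵖ) := Subsingleton.elim _ _
    rw [this, S.map_id, Category.comp_id]
  | succ k hk ih =>
    have : (homOfLE (hk.trans (Nat.le_succ k))).op =
        (homOfLE (Nat.le_succ k)).op ≫ ((homOfLE hk).op : (op k : ℕᵒᵖ) ⟶ op n) :=
      Subsingleton.elim _ _
    rw [this, S.map_comp, ← Category.assoc, h k, ih]

/-- a coherent formal module on `Spec A`, `A` complete, is the system of quotients of a coherent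
module. -/
theorem exists_isQ_family (I : Ideal A) [IsAdicComplete I A]
    {G' : ℕᵒᵖ ⥤ (Spec (CommRingCat.of A)).Modules} (hG' : Formal.IsCohFormal I G') :
    ∃ (F' : (Spec (CommRingCat.of A)).Modules) (p : ∀ n, F' ⟶ G'.obj (op n)), Coh.IsCoh F' ∧
      (∀ n, IsQ (I ^ (n + 1)) (p n)) ∧
      ∀ (n k : ℕ) (h : n ≤ k), p k ≫ G'.map (homOfLE h).op = p n := by
  let M : ℕ → ModuleCat.{u} A := fun n => (Γf A).obj (G'.obj (op n))
  let f : ∀ n, M (n + 1) ⟶ M n := fun n => (Γf A).map (G'.map (homOfLE (Nat.le_succ n)).op)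
  have hQ : ∀ n, IsQ (I ^ (n + 1)) (G'.map (homOfLE (Nat.le_succ n)).op) := fun n => hG'.2.2 n
  have hf : ∀ n, Function.Surjective (f n).hom := by
    intro n
    haveI := (hQ n).epi
    exact Γ_surjective (hG'.1 (n + 1)).1 (hG'.1 n).1 _
  have hk : ∀ n, I ^ (n + 1) • (⊤ : Submodule A (M n)) = ⊥ :=
    fun n => Γ_smul_top_eq_bot (hG'.2.1 n)
  have hker : ∀ n, LinearMap.ker (f n).hom = I ^ (n + 1) • (⊤ : Submodule A (M (n + 1))) :=
    fun n => Γ_ker_eq (hG'.1 (n + 1)).1 (hQ n)
  have h0 : Module.Finite A (M 0) := Γ_finite (hG'.1 0)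
  obtain ⟨hfin, hπ⟩ := limit_finite M f I hf hk hker h0
  haveI : ∀ n, IsIso ((adj A).counit.app (G'.obj (op n))) := fun n => isIso_counit (hG'.1 n).1
  refine ⟨(Tf A).obj (limObj M f),
    fun n => (Tf A).map (limHom M f n) ≫ (adj A).counit.app (G'.obj (op n)),
    ⟨isQC_Tf (limObj M f),
      (QC.spec_isFiniteType_tilde_iff (R := CommRingCat.of A) (limObj M f)).2 hfin⟩,
    fun n => isQ_comp_iso (isQ_tilde_map (I ^ (n + 1)) (limHom M f n) (hπ n).1 (hπ n).2) _, ?_⟩
  apply comp_map_of_succ
  intro n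
  have nat := (adj A).counit.naturality (G'.map (homOfLE (Nat.le_succ n)).op)
  rw [Functor.id_map, Functor.comp_map] at nat
  rw [Category.assoc, ← nat, ← Category.assoc, ← Functor.map_comp]
  exact congrArg (fun t => (Tf A).map t ≫ (adj A).counit.app (G'.obj (op n))) (limHom_comp M f n)

end Groth.Agent.H2.AlgzAff
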