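import Groth.Agent.Lib.Helper2.AlgzAff3
import Groth.Agent.Lib.Lead.FF.ML

/-!
# (6) ⇒ (2): systems on an open of `Spec A` (`A` complete) which extend are completions (helper2)
-/

set_option autoImplicit false
set_option linter.style.haveILetI false
universe u
open CategoryTheory Limits Opposite TopologicalSpace AlgebraicGeometry

namespace Groth.Agent.H2.AlgzAff

open Groth.Agent.LD.FF Groth.Agent.H2.FormalQ Groth.Agent.H2.FormalEq Groth.Agent.LD
  Groth.Agent.H2.AlgzExt

variable {A : Type u} [CommRing A]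

theorem exists_completion_iso_of_extends (I : Ideal A) [IsAdicComplete I A]
    (U : (Spec (CommRingCat.of A)).Opens) (G : ℕᵒᵖ ⥤ (U : Scheme.{u}).Modules)
    (h : @Algz.Extends A _ (Spec (CommRingCat.of A)) ⟨𝟙 (Spec (CommRingCat.of A))⟩ I U G) :
    ∃ F : (U : Scheme.{u}).Modules, Coh.IsCoh F ∧ Nonempty (Formal.completion I F ≅ G) := by
  letI : (Spec (CommRingCat.of A)).Over (Spec (CommRingCat.of A)) := ⟨𝟙 _⟩
  obtain ⟨G', hG', ⟨e⟩⟩ := h
  obtain ⟨F', p, hF', hp, hc⟩ := exists_isQ_family I hG'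
  haveI : F'.IsQuasicoherent := hF'.1
  refine ⟨(Scheme.Modules.restrictFunctor U.ι).obj F',
    ⟨QC.qc_restrict U.ι _, QC.isFiniteType_restrict U.ι _ hF'.2⟩, ?_⟩
  refine nonempty_iso_of_isQ_family (M := (Scheme.Modules.restrictFunctor U.ι).obj F')
    (fun n => I ^ (n + 1))
    (fun n => πc I ((Scheme.Modules.restrictFunctor U.ι).obj F') n)
    (fun n => (Scheme.Modules.restrictFunctor U.ι).map (p n) ≫ e.hom.app (op n))
    (fun n => isQ_modPowπ I (n + 1) _)
    (fun n => isQ_comp_iso (isQ_restrict U (hp n)) _)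
    (fun n k h => πc_map I _ h) ?_
  intro n k h
  have nat := e.hom.naturality (homOfLE h).op
  rw [Category.assoc, ← nat, ← Category.assoc]
  change ((Scheme.Modules.restrictFunctor U.ι).map (p k) ≫
    (Scheme.Modules.restrictFunctor U.ι).map (G'.map (homOfLE h).op)) ≫ _ = _
  rw [← Functor.map_comp, hc n k h]

end Groth.Agent.H2.AlgzAff
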