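import Groth.Agent.Lib.Helper2.LimAdic1

/-!
# The limit of an adic system of modules over a ring with finitely generated ideal (helper2)

Stacks 09B8: if `M_n = M_{n+1} / I^{n+1} M_{n+1}` and `I` is finitely generated, then the kernel of
`lim M_n → M_n` is `I^{n+1} lim M_n`.
-/

set_option autoImplicit false
set_option linter.style.haveILetI false
universe u
open CategoryTheory Limits Opposite

namespace Groth.Agent.H2.LimAdic

open Groth.Agent.H2.AR ARSys

section Gen

variable {A : Type u} [CommRing A]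

lemma exists_sum_of_mem_span_smul {ι : Type*} [Fintype ι] (g : ι → A) {M : Type*} [AddCommGroup M]
    [Module A M] (N : Submodule A M) (z : M) (hz : z ∈ Ideal.span (Set.range g) • N) :
    ∃ ν : ι → M, (∀ j, ν j ∈ N) ∧ z = ∑ j, g j • ν j := by
  refine Submodule.smul_induction_on hz ?_ ?_
  · intro r hr n hn
    obtain ⟨c, rfl⟩ := Ideal.mem_span_range_iff_exists_fun.1 hr
    refine ⟨fun j => c j • n, fun j => N.smul_mem _ hn, ?_⟩
    rw [Finset.sum_smul]
    refine Finset.sum_congr rfl fun j _ => ?_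
    rw [smul_smul, mul_comm]
  · rintro x y ⟨ν, hν, rfl⟩ ⟨ν', hν', rfl⟩
    refine ⟨fun j => ν j + ν' j, fun j => N.add_mem (hν j) (hν' j), ?_⟩
    rw [← Finset.sum_add_distrib]
    refine Finset.sum_congr rfl fun j _ => ?_
    rw [smul_add]

end Gen

variable {A : Type u} [CommRing A] (Y : ℕᵒᵖ ⥤ ModuleCat.{u} A) (I : Ideal A)

/-- an adic system: surjective transition maps with kernels `I^{n+1} Y_{n+1}`, `I^{n+1} Y_n = 0`. -/
structure AdicSys : Prop where
  surj : ∀ n, Function.Surjective (trl Y (Nat.le_succ n))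
  ker : ∀ n, LinearMap.ker (trl Y (Nat.le_succ n)) =
    I ^ (n + 1) • (⊤ : Submodule A (Y.obj (op (n + 1))))
  kill : ∀ n, I ^ (n + 1) • (⊤ : Submodule A (Y.obj (op n))) = ⊥

variable {Y I}

lemma πl_surjective (h : AdicSys Y I) (n : ℕ) : Function.Surjective (πl Y n) := by
  intro y
  let u : ∀ d, Y.obj (op (n + d)) := fun d =>
    Nat.rec (motive := fun d => Y.obj (op (n + d))) y
      (fun d z => Function.surjInv (h.surj (n + d)) z) d
  have hu : ∀ d, trl Y (Nat.le_succ (n + d)) (u (d + 1)) = u d := fun d =>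
    Function.surjInv_eq (h.surj (n + d)) (u d)
  have hu0 : ∀ d, trl Y (Nat.le_add_right n d) (u d) = y := by
    intro d
    induction d with
    | zero => exact trl_self Y n y
    | succ d ih =>
      rw [← trl_trl Y (Nat.le_add_right n d) (Nat.le_succ (n + d)), hu d, ih]
  let z : ∀ j, Y.obj (op j) := fun j => trl Y (Nat.le_add_left j n) (u j)
  have hz : ∀ j, trl Y (Nat.le_succ j) (z (j + 1)) = z j := by
    intro j
    change trl Y _ (trl Y _ (u (j + 1))) = trl Y _ (u j)
    rw [trl_trl, ← hu j, trl_trl]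
  obtain ⟨x, hx⟩ := lim_exists Y z hz
  refine ⟨x, ?_⟩
  rw [hx n]
  exact hu0 n

lemma πl_eq_zero_of_le {n k : ℕ} (hnk : n ≤ k) (x : (limit Y : ModuleCat.{u} A))
    (hx : πl Y k x = 0) : πl Y n x = 0 := by
  rw [← trl_πl Y hnk, hx, map_zero]

lemma exists_lift_smul (h : AdicSys Y I) (J : Ideal A) (n : ℕ) (z : Y.obj (op n))
    (hz : z ∈ J • (⊤ : Submodule A (Y.obj (op n)))) :
    ∃ x ∈ J • (⊤ : Submodule A (limit Y : ModuleCat.{u} A)), πl Y n x = z := by
  have h1 : (J • (⊤ : Submodule A (limit Y : ModuleCat.{u} A))).map (πl Y n) = J • ⊤ := by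
    rw [Submodule.map_smul'', Submodule.map_top,
      LinearMap.range_eq_top.2 (πl_surjective h n)]
  rw [← h1] at hz
  exact hz

lemma πl_eq_zero_of_mem (h : AdicSys Y I) {n s : ℕ} (hs : n + 1 ≤ s)
    (x : (limit Y : ModuleCat.{u} A))
    (hx : x ∈ I ^ s • (⊤ : Submodule A (limit Y : ModuleCat.{u} A))) : πl Y n x = 0 := by
  have h1 : πl Y n x ∈ (I ^ s • (⊤ : Submodule A (limit Y : ModuleCat.{u} A))).map (πl Y n) :=
    Submodule.mem_map_of_mem hx
  rw [Submodule.map_smul''] at h1
  have h2 : I ^ s • Submodule.map (πl Y n) ⊤ ≤ I ^ (n + 1) • (⊤ : Submodule A (Y.obj (op n))) :=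
    Submodule.smul_mono (Ideal.pow_le_pow_right hs) le_top
  have h3 := h2 h1
  rw [h.kill n] at h3
  exact (Submodule.mem_bot A).1 h3

end Groth.Agent.H2.LimAdic
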