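import Groth.Agent.Lib.Helper2.LimML
import Groth.Agent.Lib.Helper2.LimAdic2
import Groth.Prelude.Def_Algz

/-!
# A Mittag-Leffler system whose limit topology is adic is pro-isomorphic to `(L / I^{n+1} L)` (helper2)
-/

set_option autoImplicit false
set_option linter.style.haveILetI false
universe u
open CategoryTheory Limits Opposite

namespace Groth.Agent.H2.AlgzCan

open Groth.Agent.H2.AR ARSys Groth.Agent.H2.LimAdic

variable {A : Type u} [CommRing A] (I : Ideal A)

section Quot

variable (L : ModuleCat.{u} A)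

lemma pow_smul_top_le {n k : ℕ} (h : n ≤ k) :
    I ^ (k + 1) • (⊤ : Submodule A L) ≤
      (I ^ (n + 1) • (⊤ : Submodule A L)).comap (LinearMap.id : L →ₗ[A] L) := by
  rw [Submodule.comap_id]
  exact Submodule.smul_mono_left (Ideal.pow_le_pow_right (by omega))

/-- the system `n ↦ L / I^{n+1} L`. -/
noncomputable def quotSys : ℕᵒᵖ ⥤ ModuleCat.{u} A where
  obj n := ModuleCat.of A (L ⧸ (I ^ (n.unop + 1) • (⊤ : Submodule A L)))
  map {k n} f := ModuleCat.ofHom
    (Submodule.mapQ _ _ LinearMap.id (pow_smul_top_le I L (leOfHom f.unop)))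
  map_id n := by
    apply ModuleCat.hom_ext
    apply Submodule.linearMap_qext
    ext l
    simp only [ModuleCat.hom_ofHom, LinearMap.comp_apply, Submodule.mkQ_apply,
      Submodule.mapQ_apply, LinearMap.id_apply]
    rfl
  map_comp f g := by
    apply ModuleCat.hom_ext
    apply Submodule.linearMap_qext
    ext l
    simp only [ModuleCat.hom_ofHom, LinearMap.comp_apply, Submodule.mkQ_apply,
      Submodule.mapQ_apply, LinearMap.id_apply, ModuleCat.hom_comp]

/-- the class of `l` in `L / I^{n+1} L`. -/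
noncomputable def qmk (n : ℕ) (l : L) : (quotSys I L).obj (op n) :=
  Submodule.Quotient.mk l

lemma quotSys_map_qmk {n k : ℕ} (h : n ≤ k) (l : L) :
    ((quotSys I L).map (homOfLE h).op).hom (qmk I L k l) = qmk I L n l := by
  unfold quotSys qmk
  simp only [ModuleCat.hom_ofHom]
  exact Submodule.mapQ_apply _ _ _ _

lemma qmk_surjective (n : ℕ) : Function.Surjective (qmk I L n) :=
  Submodule.Quotient.mk_surjective _

lemma qmk_eq_zero_iff (n : ℕ) (l : L) :
    qmk I L n l = 0 ↔ l ∈ I ^ (n + 1) • (⊤ : Submodule A L) :=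
  Submodule.Quotient.mk_eq_zero _

/-- `qmk` as a linear map. -/
noncomputable def qmkL (n : ℕ) : L →ₗ[A] (quotSys I L).obj (op n) :=
  (I ^ (n + 1) • (⊤ : Submodule A L)).mkQ

lemma qmkL_apply (n : ℕ) (l : L) : qmkL I L n l = qmk I L n l := rfl

end Quot

end Groth.Agent.H2.AlgzCan
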