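import Groth.Agent.Lib.Helper2.AlgzCan1

/-!
# The pro-isomorphism `X ~ (L / I^{n+1} L)` (helper2)
-/

set_option autoImplicit false
set_option linter.style.haveILetI false
universe u
open CategoryTheory Limits Opposite

namespace Groth.Agent.H2.AlgzCan

open Groth.Agent.H2.AR ARSys Groth.Agent.H2.LimAdic

variable {A : Type u} [CommRing A] (I : Ideal A) (X : ℕᵒᵖ ⥤ ModuleCat.{u} A)

section AMap

variable {j N n : ℕ} (hjN : j ≤ N)
  (hr : LinearMap.range (trl X hjN) ≤ LinearMap.range (πl X j))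
  (hk : LinearMap.ker (πl X j) ≤ I ^ (n + 1) • (⊤ : Submodule A (limit X : ModuleCat.{u} A)))

/-- the map `X_N ⟶ L / I^{n+1} L` through `X_j`. -/
noncomputable def aMap : X.obj (op N) →ₗ[A] (quotSys I (limit X)).obj (op n) :=
  (Submodule.mapQ (LinearMap.ker (πl X j))
      (I ^ (n + 1) • (⊤ : Submodule A (limit X : ModuleCat.{u} A))) LinearMap.id
      (by rw [Submodule.comap_id]; exact hk)) ∘ₗ
    (LinearMap.quotKerEquivRange (πl X j)).symm.toLinearMap ∘ₗ
      LinearMap.codRestrict (LinearMap.range (πl X j)) (trl X hjN) (fun u => hr ⟨u, rfl⟩)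

lemma aMap_eq (u : X.obj (op N)) (l : (limit X : ModuleCat.{u} A))
    (hl : πl X j l = trl X hjN u) : aMap I X hjN hr hk u = qmk I (limit X) n l := by
  unfold aMap
  simp only [LinearMap.comp_apply, LinearEquiv.coe_coe]
  have h1 : LinearMap.codRestrict (LinearMap.range (πl X j)) (trl X hjN)
      (fun u => hr ⟨u, rfl⟩) u = ⟨πl X j l, ⟨l, rfl⟩⟩ := by
    apply Subtype.ext
    exact hl.symm
  rw [h1, LinearMap.quotKerEquivRange_symm_apply_image]
  rfl

include hr in
lemma exists_lift (u : X.obj (op N)) :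
    ∃ l : (limit X : ModuleCat.{u} A), πl X j l = trl X hjN u := hr ⟨u, rfl⟩

end AMap

end Groth.Agent.H2.AlgzCan
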