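import Groth.Agent.Lib.Helper2.AlgzCan2

/-!
# The pro-isomorphism `X ~ (L / I^{n+1} L)`, continued (helper2)
-/

set_option autoImplicit false
set_option linter.style.haveILetI false
universe u
open CategoryTheory Limits Opposite

namespace Groth.Agent.H2.AlgzCan

open Groth.Agent.H2.AR ARSys Groth.Agent.H2.LimAdic

variable {A : Type u} [CommRing A] (I : Ideal A) (X : ℕᵒᵖ ⥤ ModuleCat.{u} A)

lemma ker_πl_antitone {n k : ℕ} (h : n ≤ k) :
    LinearMap.ker (πl X k) ≤ LinearMap.ker (πl X n) := by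
  intro x hx
  rw [LinearMap.mem_ker] at hx ⊢
  rw [← trl_πl X h, hx, map_zero]

lemma pow_smul_top_le_ker
    (hkill : ∀ n, I ^ (n + 1) • (⊤ : Submodule A (X.obj (op n))) = ⊥) (n : ℕ) :
    I ^ (n + 1) • (⊤ : Submodule A (limit X : ModuleCat.{u} A)) ≤ LinearMap.ker (πl X n) := by
  intro x hx
  rw [LinearMap.mem_ker]
  have h1 : πl X n x ∈ (I ^ (n + 1) • (⊤ : Submodule A (limit X : ModuleCat.{u} A))).map
      (πl X n) := Submodule.mem_map_of_mem hx
  rw [Submodule.map_smul''] at h1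
  have h2 : I ^ (n + 1) • Submodule.map (πl X n) ⊤ ≤
      I ^ (n + 1) • (⊤ : Submodule A (X.obj (op n))) := Submodule.smul_mono le_rfl le_top
  have h3 := h2 h1
  rw [hkill n] at h3
  exact (Submodule.mem_bot A).1 h3

/-- the back map `L / I^{k+1} L ⟶ X_k`. -/
noncomputable def bMap (hkill : ∀ n, I ^ (n + 1) • (⊤ : Submodule A (X.obj (op n))) = ⊥)
    (k : ℕ) : (quotSys I (limit X)).obj (op k) →ₗ[A] X.obj (op k) :=
  Submodule.liftQ _ (πl X k) (pow_smul_top_le_ker I X hkill k)

lemma bMap_qmk (hkill : ∀ n, I ^ (n + 1) • (⊤ : Submodule A (X.obj (op n))) = ⊥)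
    (k : ℕ) (l : (limit X : ModuleCat.{u} A)) :
    bMap I X hkill k (qmk I (limit X) k l) = πl X k l := rfl

theorem isProIsomorphic_quotSys
    (hkill : ∀ n, I ^ (n + 1) • (⊤ : Submodule A (X.obj (op n))) = ⊥) (ha : IsML X)
    (hb : ∀ k : ℕ, ∃ n : ℕ, LinearMap.ker (πl X n) ≤
      I ^ k • (⊤ : Submodule A (limit X : ModuleCat.{u} A))) :
    Algz.IsProIsomorphic X (quotSys I (limit X)) := by
  choose c hc using fun k => hb (k + 1)
  choose r hr using exists_range_le_range_πl X ha
  let p : ℕ → ℕ := fun n => n + ∑ i ∈ Finset.range (n + 1), c i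
  have hp_mono : Monotone p := by
    intro n k h
    exact Nat.add_le_add h (Finset.sum_le_sum_of_subset (Finset.range_mono (by omega)))
  have hp_ge : ∀ n, n ≤ p n := fun n => Nat.le_add_right _ _
  have hp_c : ∀ n, c n ≤ p n := fun n =>
    (Finset.single_le_sum (f := c) (fun _ _ => Nat.zero_le _)
      (Finset.mem_range.2 (Nat.lt_succ_self n))).trans (Nat.le_add_left _ _)
  have hker : ∀ n, LinearMap.ker (πl X (p n)) ≤
      I ^ (n + 1) • (⊤ : Submodule A (limit X : ModuleCat.{u} A)) :=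
    fun n => (ker_πl_antitone X (hp_c n)).trans (hc n)
  let m : ℕ → ℕ := fun n => p n + ∑ i ∈ Finset.range (n + 1), r (p i)
  have hm : Monotone m := by
    intro n k h
    exact Nat.add_le_add (hp_mono h)
      (Finset.sum_le_sum_of_subset (Finset.range_mono (by omega)))
  have hpm : ∀ n, p n + r (p n) ≤ m n := fun n =>
    Nat.add_le_add_left (Finset.single_le_sum (f := fun i => r (p i)) (fun _ _ => Nat.zero_le _)
      (Finset.mem_range.2 (Nat.lt_succ_self n))) _
  have hpm' : ∀ n, p n ≤ m n := fun n => Nat.le_add_right _ _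
  have hle : ∀ n, n ≤ m n := fun n => (hp_ge n).trans (hpm' n)
  have hrange : ∀ n, LinearMap.range (trl X (hpm' n)) ≤ LinearMap.range (πl X (p n)) :=
    fun n => hr (p n) (m n) (hpm n) (hpm' n)
  -- the components of `a`
  let a0 : ∀ n, X.obj (op (m n)) →ₗ[A] (quotSys I (limit X)).obj (op n) :=
    fun n => aMap I X (hpm' n) (hrange n) (hker n)
  have ha0 : ∀ n (u : X.obj (op (m n))) (l : (limit X : ModuleCat.{u} A)),
      πl X (p n) l = trl X (hpm' n) u → a0 n u = qmk I (limit X) n l :=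
    fun n u l hl => aMap_eq I X (hpm' n) (hrange n) (hker n) u l hl
  have hnat : ∀ (n k : ℕ) (h : n ≤ k) (u : X.obj (op (m k))),
      a0 n (trl X (hm h) u) = ((quotSys I (limit X)).map (homOfLE h).op).hom (a0 k u) := by
    intro n k h u
    obtain ⟨l, hl⟩ := exists_lift X (hpm' k) (hrange k) u
    rw [ha0 k u l hl, quotSys_map_qmk]
    apply ha0 n
    rw [trl_trl, ← trl_trl X (hp_mono h) (hpm' k), ← hl, trl_πl]
  let a : DerCA.reindex X hm ⟶ quotSys I (limit X) :=
    { app := fun n => ModuleCat.ofHom (a0 n.unop)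
      naturality := by
        intro i j f
        obtain ⟨k⟩ := i
        obtain ⟨n⟩ := j
        have h : n ≤ k := leOfHom f.unop
        have hf : f = (homOfLE h).op := Subsingleton.elim _ _
        subst hf
        ext u
        exact hnat n k h u }
  refine ⟨m, hm, hle, a, fun n => ?_⟩
  refine ⟨m n, hle n, ModuleCat.ofHom (bMap I X hkill (m n)), ?_, ?_⟩
  · -- `a_k ≫ b = tr`
    ext u
    change bMap I X hkill (m n) (a0 (m n) u) = trl X (hm (hle n)) u
    obtain ⟨l, hl⟩ := exists_lift X (hpm' (m n)) (hrange (m n)) u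
    rw [ha0 (m n) u l hl, bMap_qmk, ← trl_πl X (hp_ge (m n)), hl, trl_trl]
  · -- `b ≫ a_n = tr`
    ext x
    obtain ⟨l, rfl⟩ := qmk_surjective I (limit X) (m n) x
    change a0 n (bMap I X hkill (m n) (qmk I (limit X) (m n) l)) =
      ((quotSys I (limit X)).map (homOfLE (hle n)).op).hom (qmk I (limit X) (m n) l)
    rw [bMap_qmk, quotSys_map_qmk]
    apply ha0 n
    rw [trl_πl]

end Groth.Agent.H2.AlgzCan
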