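import Groth.Agent.Lib.Helper2.LimAdic2

/-!
# Stacks 09B8 (kernel part), continued (helper2)
-/

set_option autoImplicit false
set_option linter.style.haveILetI false
universe u
open CategoryTheory Limits Opposite

namespace Groth.Agent.H2.LimAdic

open Groth.Agent.H2.AR ARSys

variable {A : Type u} [CommRing A] {Y : ℕᵒᵖ ⥤ ModuleCat.{u} A} {I : Ideal A}

lemma approx_step (h : AdicSys Y I) {t : ℕ} (g : Fin t → A) (n : ℕ)
    (hg : Ideal.span (Set.range g) = I ^ (n + 1)) (s : ℕ) (w : (limit Y : ModuleCat.{u} A))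
    (hw : πl Y (n + s) w = 0) :
    ∃ b : Fin t → (limit Y : ModuleCat.{u} A),
      (∀ j, b j ∈ I ^ s • (⊤ : Submodule A (limit Y : ModuleCat.{u} A))) ∧
        πl Y (n + s + 1) (w - ∑ j, g j • b j) = 0 := by
  have h1 : πl Y (n + s + 1) w ∈
      I ^ (n + s + 1) • (⊤ : Submodule A (Y.obj (op (n + s + 1)))) := by
    rw [← h.ker (n + s), LinearMap.mem_ker, trl_πl, hw]
  have h2 : I ^ (n + s + 1) = Ideal.span (Set.range g) * I ^ s := by
    rw [hg, ← pow_add]
    congr 1
    omega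
  rw [h2, Submodule.mul_smul] at h1
  obtain ⟨ν, hν, hsum⟩ := exists_sum_of_mem_span_smul g _ _ h1
  choose b hb1 hb2 using fun j => exists_lift_smul h (I ^ s) (n + s + 1) (ν j) (hν j)
  refine ⟨b, hb1, ?_⟩
  rw [map_sub, map_sum, hsum, sub_eq_zero]
  refine Finset.sum_congr rfl fun j _ => ?_
  rw [map_smul, hb2]

/-- Stacks 09B8: the kernel of `lim Y → Y_n` is contained in `I^{n+1} lim Y`. -/
theorem ker_πl_le (h : AdicSys Y I) (hI : I.FG) (n : ℕ) :
    LinearMap.ker (πl Y n) ≤ I ^ (n + 1) • (⊤ : Submodule A (limit Y : ModuleCat.{u} A)) := by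
  intro x hx
  rw [LinearMap.mem_ker] at hx
  obtain ⟨t, g, hg⟩ : ∃ (t : ℕ) (g : Fin t → A), Ideal.span (Set.range g) = I ^ (n + 1) := by
    have hfg : (I ^ (n + 1)).FG := hI.pow
    obtain ⟨t, g, hg⟩ := Submodule.fg_iff_exists_fin_generating_family.1 hfg
    exact ⟨t, g, hg⟩
  choose B hB1 hB2 using approx_step h g n hg
  let seq : ∀ s, {w : (limit Y : ModuleCat.{u} A) // πl Y (n + s) w = 0} := fun s =>
    Nat.rec (motive := fun s => {w : (limit Y : ModuleCat.{u} A) // πl Y (n + s) w = 0})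
      ⟨x, hx⟩ (fun s w => ⟨w.1 - ∑ j, g j • B s w.1 w.2 j, hB2 s w.1 w.2⟩) s
  let b : ℕ → Fin t → (limit Y : ModuleCat.{u} A) := fun s => B s (seq s).1 (seq s).2
  have hb : ∀ s j, b s j ∈ I ^ s • (⊤ : Submodule A (limit Y : ModuleCat.{u} A)) :=
    fun s => hB1 s _ _
  have hseq : ∀ s, (seq (s + 1)).1 = (seq s).1 - ∑ j, g j • b s j := fun s => rfl
  have htel : ∀ m, (seq m).1 = x - ∑ s ∈ Finset.range m, ∑ j, g j • b s j := by
    intro m
    induction m with
    | zero => simp [seq]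
    | succ m ih => rw [hseq, ih, Finset.sum_range_succ, sub_sub]
  have hy : ∀ j, ∃ y : (limit Y : ModuleCat.{u} A),
      ∀ m, πl Y m y = ∑ s ∈ Finset.range (m + 1), πl Y m (b s j) := by
    intro j
    apply lim_exists Y (fun m => ∑ s ∈ Finset.range (m + 1), πl Y m (b s j))
    intro m
    rw [map_sum, Finset.sum_range_succ]
    have h0 : trl Y (Nat.le_succ m) (πl Y (m + 1) (b (m + 1) j)) = 0 := by
      rw [trl_πl]
      exact πl_eq_zero_of_mem h (le_refl _) _ (hb (m + 1) j)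
    rw [h0, add_zero]
    refine Finset.sum_congr rfl fun s _ => ?_
    rw [trl_πl]
  choose y hy using hy
  have hxy : x = ∑ j, g j • y j := by
    apply lim_ext
    intro m
    have h1 : πl Y m (seq (m + 1)).1 = 0 :=
      πl_eq_zero_of_le (by omega) _ (seq (m + 1)).2
    rw [htel (m + 1), map_sub, sub_eq_zero] at h1
    rw [h1, map_sum, map_sum]
    simp only [map_sum, map_smul, hy, Finset.smul_sum]
    exact Finset.sum_comm
  rw [hxy]
  refine Submodule.sum_mem _ fun j _ => Submodule.smul_mem_smul ?_ Submodule.mem_top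
  rw [← hg]
  exact Ideal.subset_span ⟨j, rfl⟩

end Groth.Agent.H2.LimAdic
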