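import Groth.Agent.Lib.Helper2.ProLim
import Groth.Agent.Lib.Helper2.LimAdic3
import Groth.Agent.Lib.Helper2.AlgzAff2

/-!
# The limit topology of the sections of a canonically extending system is adic (helper2)
-/

set_option autoImplicit false
set_option linter.style.haveILetI false
universe u
open CategoryTheory Limits Opposite TopologicalSpace AlgebraicGeometry

namespace Groth.Agent.H2.AlgzTop

open Groth.Agent.LD.FF Groth.Agent.H2.FormalQ Groth.Agent.H2.FormalEq Groth.Agent.LD
  Groth.Agent.H2.AlgzExt Groth.Agent.H2.AlgzAff Groth.Agent.H2.LimAdic Groth.Agent.H2.ProLim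

variable {A : Type u} [CommRing A]

attribute [local instance 2000] idOver

theorem adicSys_Γ {I : Ideal A} {G' : ℕᵒᵖ ⥤ (Spec (CommRingCat.of A)).Modules}
    (hG' : Formal.IsCohFormal I G') : AdicSys (G' ⋙ Γf A) I where
  surj n := by
    have hQ : IsQ (I ^ (n + 1)) (G'.map (homOfLE (Nat.le_succ n)).op) := hG'.2.2 n
    haveI := hQ.epi
    exact Γ_surjective (hG'.1 (n + 1)).1 (hG'.1 n).1 _
  ker n := Γ_ker_eq (hG'.1 (n + 1)).1 (hG'.2.2 n)
  kill n := Γ_smul_top_eq_bot (hG'.2.1 n)

lemma map_smul_top_le {M N : Type*} [AddCommGroup M] [Module A M] [AddCommGroup N] [Module A N]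
    (f : M →ₗ[A] N) (J : Ideal A) {x : M} (hx : x ∈ J • (⊤ : Submodule A M)) :
    f x ∈ J • (⊤ : Submodule A N) := by
  have h1 : f x ∈ (J • (⊤ : Submodule A M)).map f := Submodule.mem_map_of_mem hx
  rw [Submodule.map_smul''] at h1
  exact Submodule.smul_mono le_rfl le_top h1

theorem exists_ker_le [IsNoetherianRing A] (I : Ideal A) (U : (Spec (CommRingCat.of A)).Opens)
    (G : ℕᵒᵖ ⥤ (U : Scheme.{u}).Modules) (h : Algz.CanonicallyExtends A I U G) (k : ℕ) :
    ∃ n : ℕ, LinearMap.ker (limit.π (Algz.sectMod A U G) (op n)).hom ≤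
      I ^ k • (⊤ : Submodule A ↑(limit (Algz.sectMod A U G))) := by
  obtain ⟨G', hG', hpro⟩ := h
  have hpro' := isProIsomorphic_of_iso_comp (moduleSpecΓFunctor (R := CommRingCat.of A))
    (sectSysΓIso U G) hpro
  obtain ⟨m, hm, hle, a, ha⟩ := hpro'
  cases k with
  | zero =>
    refine ⟨0, ?_⟩
    rw [pow_zero, Ideal.one_eq_top, Submodule.top_smul]
    exact le_top
  | succ n =>
    refine ⟨m n, ?_⟩
    intro x hx
    rw [LinearMap.mem_ker] at hx
    have h1 : πl (G' ⋙ Γf A) n ((φ a).hom x) = 0 := by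
      have e := congrArg (fun f => f.hom x) (φ_π (a := a) n)
      change πl (G' ⋙ Γf A) n ((φ a).hom x) =
        (reApp a n).hom ((limit.π (Algz.sectMod A U G) (op (m n))).hom x) at e
      rw [e, hx, map_zero]
    have h2 := ker_πl_le (adicSys_Γ hG') (IsNoetherian.noetherian I) n h1
    have h3 : x = (ψ hle ha).hom ((φ a).hom x) :=
      (congrArg (fun f => f.hom x) (φ_ψ hle ha)).symm
    rw [h3]
    exact map_smul_top_le (ψ hle ha).hom _ h2

end Groth.Agent.H2.AlgzTop
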