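import Groth.Agent.Lib.Helper2.AlgzCan3
import Groth.Agent.Lib.Helper2.AlgzAff3
import Groth.Agent.Lib.Helper2.AlgzTop

/-!
# Mittag-Leffler + adic limit topology + finite images ⇒ canonically extends (helper2)
-/

set_option autoImplicit false
set_option linter.style.haveILetI false
universe u
open CategoryTheory Limits Opposite TopologicalSpace AlgebraicGeometry

namespace Groth.Agent.H2.AlgzCan

open Groth.Agent.H2.AR ARSys Groth.Agent.H2.LimAdic Groth.Agent.H2.AlgzAff Groth.Agent.H2.AlgzExt
  Groth.Agent.H2.FormalQ Groth.Agent.LD Groth.Agent.H2.AlgzTop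

variable {A : Type u} [CommRing A]

attribute [local instance 2000] idOver

section Push

variable {X Y : Scheme.{u}} (f : X ⟶ Y) [X.Over (Spec (CommRingCat.of A))]
  [Y.Over (Spec (CommRingCat.of A))]
  (hf : f ≫ (Y ↘ Spec (CommRingCat.of A)) = X ↘ Spec (CommRingCat.of A))

include hf in
lemma pushforward_map_smulMod (N : X.Modules) (a : A) :
    (Scheme.Modules.pushforward f).map (Formal.smulMod A N a) =
      Formal.smulMod A ((Scheme.Modules.pushforward f).obj N) a := by
  unfold Formal.smulMod
  rw [Groth.Agent.H2.FormalPB.toGlobal_eq f hf a]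
  exact Groth.Agent.H2.FormalPB.pushforward_map_smulModΓ f N _

include hf in
lemma killedBy_pushforward (J : Ideal A) (N : X.Modules) (h : Formal.KilledBy J N) :
    Formal.KilledBy J ((Scheme.Modules.pushforward f).obj N) := by
  intro a ha
  rw [← pushforward_map_smulMod f hf N a, h a ha, Functor.map_zero]

end Push

section Quot

variable (I : Ideal A) (L : ModuleCat.{u} A)

lemma smul_qmk_eq_zero (n : ℕ) (b : A) (hb : b ∈ I ^ (n + 1)) (x : (quotSys I L).obj (op n)) :
    b • x = 0 := by
  obtain ⟨l, rfl⟩ := qmk_surjective I L n x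
  change qmk I L n (b • l) = 0
  rw [qmk_eq_zero_iff]
  exact Submodule.smul_mem_smul hb Submodule.mem_top

lemma quotSys_smul_top_eq_bot (n : ℕ) :
    I ^ (n + 1) • (⊤ : Submodule A ((quotSys I L).obj (op n))) = ⊥ := by
  rw [eq_bot_iff, Submodule.smul_le]
  intro b hb x _
  rw [smul_qmk_eq_zero I L n b hb x]
  exact Submodule.zero_mem _

lemma quotSys_map_surjective (n : ℕ) :
    Function.Surjective ((quotSys I L).map (homOfLE (Nat.le_succ n)).op).hom := by
  intro x
  obtain ⟨l, rfl⟩ := qmk_surjective I L n x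
  exact ⟨qmk I L (n + 1) l, quotSys_map_qmk I L _ l⟩

lemma quotSys_map_ker (n : ℕ) :
    LinearMap.ker ((quotSys I L).map (homOfLE (Nat.le_succ n)).op).hom =
      I ^ (n + 1) • (⊤ : Submodule A ((quotSys I L).obj (op (n + 1)))) := by
  apply le_antisymm
  · intro x hx
    rw [LinearMap.mem_ker] at hx
    obtain ⟨l, rfl⟩ := qmk_surjective I L (n + 1) x
    rw [quotSys_map_qmk, qmk_eq_zero_iff] at hx
    exact map_smul_top_le (qmkL I L (n + 1)) _ hx
  · intro x hx
    rw [LinearMap.mem_ker]
    have h1 := map_smul_top_le ((quotSys I L).map (homOfLE (Nat.le_succ n)).op).hom _ hx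
    rw [quotSys_smul_top_eq_bot] at h1
    exact (Submodule.mem_bot A).1 h1

theorem isCohFormal_quotSys (hfin : ∀ n, Module.Finite A ((quotSys I L).obj (op n))) :
    Formal.IsCohFormal I (quotSys I L ⋙ Tf A) := by
  refine ⟨fun n => ⟨isQC_Tf _, ?_⟩, fun n b hb => ?_, fun n => ?_⟩
  · exact (QC.spec_isFiniteType_tilde_iff (R := CommRingCat.of A)
      ((quotSys I L).obj (op n))).2 (hfin n)
  · change Formal.smulMod A ((Tf A).obj ((quotSys I L).obj (op n))) b = 0
    rw [← tilde_map_smul]
    have h0 : b • 𝟙 ((quotSys I L).obj (op n)) = 0 := by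
      ext x
      exact smul_qmk_eq_zero I L n b hb x
    rw [h0, Functor.map_zero]
  · exact isQ_tilde_map (I ^ (n + 1)) _ (quotSys_map_surjective I L n) (quotSys_map_ker I L n)

end Quot

end Groth.Agent.H2.AlgzCan
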