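import Groth.Agent.Lib.Helper2.AlgzCan4

/-!
# Mittag-Leffler + adic limit topology + finite images ⇒ canonically extends, final (helper2)
-/

set_option autoImplicit false
set_option linter.style.haveILetI false
universe u
open CategoryTheory Limits Opposite TopologicalSpace AlgebraicGeometry

namespace Groth.Agent.H2.AlgzCan

open Groth.Agent.H2.AR ARSys Groth.Agent.H2.LimAdic Groth.Agent.H2.AlgzAff Groth.Agent.H2.AlgzExt
  Groth.Agent.H2.FormalQ Groth.Agent.LD Groth.Agent.H2.AlgzTop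

variable {A : Type u} [CommRing A]

lemma finite_quotSys (I : Ideal A) (X : ℕᵒᵖ ⥤ ModuleCat.{u} A)
    (hb : ∀ k : ℕ, ∃ n : ℕ, LinearMap.ker (πl X n) ≤
      I ^ k • (⊤ : Submodule A (limit X : ModuleCat.{u} A)))
    (hc : ∀ n, Module.Finite A (LinearMap.range (πl X n))) (n : ℕ) :
    Module.Finite A ((quotSys I (limit X)).obj (op n)) := by
  obtain ⟨c, hcn⟩ := hb (n + 1)
  haveI := hc c
  have hcn' : LinearMap.ker (πl X c) ≤
      (I ^ (n + 1) • (⊤ : Submodule A (limit X : ModuleCat.{u} A))).comap LinearMap.id := by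
    rw [Submodule.comap_id]
    exact hcn
  let g : LinearMap.range (πl X c) →ₗ[A] (quotSys I (limit X)).obj (op n) :=
    (Submodule.mapQ (LinearMap.ker (πl X c))
        (I ^ (n + 1) • (⊤ : Submodule A (limit X : ModuleCat.{u} A))) LinearMap.id hcn') ∘ₗ
      (LinearMap.quotKerEquivRange (πl X c)).symm.toLinearMap
  refine Module.Finite.of_surjective g ?_
  intro x
  obtain ⟨l, rfl⟩ := qmk_surjective I (limit X) n x
  refine ⟨⟨πl X c l, l, rfl⟩, ?_⟩
  change (Submodule.mapQ (LinearMap.ker (πl X c))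
        (I ^ (n + 1) • (⊤ : Submodule A (limit X : ModuleCat.{u} A))) LinearMap.id hcn')
    ((LinearMap.quotKerEquivRange (πl X c)).symm ⟨πl X c l, l, rfl⟩) = _
  rw [LinearMap.quotKerEquivRange_symm_apply_image]
  rfl

theorem canonicallyExtends_of_isML (I : Ideal A) (U : (Spec (CommRingCat.of A)).Opens)
    (G : ℕᵒᵖ ⥤ (U : Scheme.{u}).Modules) (hG : Formal.IsCohFormal I G)
    (ha : ARSys.IsML (Algz.sectMod A U G))
    (hb : ∀ k : ℕ, ∃ n : ℕ, LinearMap.ker (limit.π (Algz.sectMod A U G) (op n)).hom ≤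
      I ^ k • (⊤ : Submodule A ↑(limit (Algz.sectMod A U G))))
    (hc : ∀ n : ℕ, Module.Finite A
      ↥(LinearMap.range (limit.π (Algz.sectMod A U G) (op n)).hom)) :
    Algz.CanonicallyExtends A I U G := by
  letI : (Spec (CommRingCat.of A)).Over (Spec (CommRingCat.of A)) := ⟨𝟙 _⟩
  have hkill : ∀ n, I ^ (n + 1) • (⊤ : Submodule A ((Algz.sectMod A U G).obj (op n))) = ⊥ := by
    intro n
    exact Γ_smul_top_eq_bot
      (killedBy_pushforward U.ι (Category.comp_id _) (I ^ (n + 1)) _ (hG.2.1 n))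
  have hpro := isProIsomorphic_quotSys I (Algz.sectMod A U G) hkill ha hb
  have hfin := finite_quotSys I (Algz.sectMod A U G) hb hc
  refine ⟨quotSys I (limit (Algz.sectMod A U G)) ⋙ Tf A, isCohFormal_quotSys I _ hfin, ?_⟩
  exact isProIsomorphic_of_iso_comp (Tf A) (Iso.refl _) hpro

end Groth.Agent.H2.AlgzCan
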