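import Groth.Agent.Lib.Helper2.LimAdic1
import Groth.Agent.Lib.Helper2.ARSysIm
import Mathlib.Algebra.Category.ModuleCat.Abelian
import Mathlib.Algebra.Category.ModuleCat.EpiMono

/-!
# Mittag-Leffler systems of modules: the image of the limit is the stable image (helper2)
-/

set_option autoImplicit false
set_option linter.style.haveILetI false
universe u
open CategoryTheory Limits Opposite

namespace Groth.Agent.H2.LimAdic

open Groth.Agent.H2.AR ARSys

variable {A : Type u} [CommRing A]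

lemma range_le_of_imLE {M N P : ModuleCat.{u} A} {a : M ⟶ P} {b : N ⟶ P} (h : ImLE a b) :
    LinearMap.range a.hom ≤ LinearMap.range b.hom := by
  obtain ⟨W, π, hπ, c, hc⟩ := h
  rintro _ ⟨x, rfl⟩
  obtain ⟨x', rfl⟩ := (ModuleCat.epi_iff_surjective π).1 hπ x
  refine ⟨c.hom x', ?_⟩
  exact (congrArg (fun f => f.hom x') hc).symm

variable (X : ℕᵒᵖ ⥤ ModuleCat.{u} A)

/-- a chain of liftable subsets gives elements of the limit. -/
lemma exists_lim_of_chain (S : ∀ n, Set (X.obj (op n)))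
    (hS : ∀ n, ∀ u ∈ S n, ∃ v ∈ S (n + 1), trl X (Nat.le_succ n) v = u) (n : ℕ)
    (y : X.obj (op n)) (hy : y ∈ S n) :
    ∃ x : (limit X : ModuleCat.{u} A), πl X n x = y := by
  choose! lift hlift1 hlift2 using hS
  let u : ∀ d, {v : X.obj (op (n + d)) // v ∈ S (n + d)} := fun d =>
    Nat.rec (motive := fun d => {v : X.obj (op (n + d)) // v ∈ S (n + d)}) ⟨y, hy⟩
      (fun d z => ⟨lift (n + d) z.1, hlift1 (n + d) z.1 z.2⟩) d
  have hu : ∀ d, trl X (Nat.le_succ (n + d)) (u (d + 1)).1 = (u d).1 := fun d =>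
    hlift2 (n + d) (u d).1 (u d).2
  have hu0 : ∀ d, trl X (Nat.le_add_right n d) (u d).1 = y := by
    intro d
    induction d with
    | zero => exact trl_self X n y
    | succ d ih =>
      rw [← trl_trl X (Nat.le_add_right n d) (Nat.le_succ (n + d)), hu d, ih]
  let z : ∀ j, X.obj (op j) := fun j => trl X (Nat.le_add_left j n) (u j).1
  have hz : ∀ j, trl X (Nat.le_succ j) (z (j + 1)) = z j := by
    intro j
    change trl X _ (trl X _ (u (j + 1)).1) = trl X _ (u j).1
    rw [trl_trl, ← hu j, trl_trl]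
  obtain ⟨x, hx⟩ := lim_exists X z hz
  refine ⟨x, ?_⟩
  rw [hx n]
  exact hu0 n

/-- the Mittag-Leffler condition in terms of ranges. -/
lemma exists_stable_of_isML (h : IsML X) (n : ℕ) :
    ∃ r : ℕ, ∀ N, n + r ≤ N → ∀ (hN : n ≤ N),
      LinearMap.range (trl X hN) = LinearMap.range (trl X (Nat.le_add_right n r)) := by
  obtain ⟨r, hr⟩ := h n
  refine ⟨r, fun N hN hnN => ?_⟩
  obtain ⟨s, rfl⟩ := Nat.exists_eq_add_of_le hnN
  have hs : r ≤ s := by omega
  have h1 := (imageSubobject_eq_iff _ _).1 (hr s hs)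
  exact le_antisymm (range_le_of_imLE h1.1) (range_le_of_imLE h1.2)

/-- for a Mittag-Leffler system, the stable images are the images of the limit. -/
theorem exists_range_le_range_πl (h : IsML X) (n : ℕ) :
    ∃ r : ℕ, ∀ N, n + r ≤ N → ∀ (hN : n ≤ N),
      LinearMap.range (trl X hN) ≤ LinearMap.range (πl X n) := by
  choose r hr using exists_stable_of_isML X h
  let S : ∀ n, Set (X.obj (op n)) := fun n => LinearMap.range (trl X (Nat.le_add_right n (r n)))
  have hS : ∀ n, ∀ u ∈ S n, ∃ v ∈ S (n + 1), trl X (Nat.le_succ n) v = u := by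
    intro n u hu
    -- a common large index
    let N := max (n + r n) (n + 1 + r (n + 1))
    have h1 : n + r n ≤ N := le_max_left _ _
    have h2 : n + 1 + r (n + 1) ≤ N := le_max_right _ _
    have hnN : n ≤ N := by omega
    have hn1N : n + 1 ≤ N := by omega
    have e1 := hr n N h1 hnN
    have e2 := hr (n + 1) N h2 hn1N
    have hu' : u ∈ LinearMap.range (trl X hnN) := by
      rw [e1]
      exact hu
    obtain ⟨w, rfl⟩ := hu'
    refine ⟨trl X hn1N w, ?_, ?_⟩
    · change trl X hn1N w ∈ LinearMap.range (trl X (Nat.le_add_right (n + 1) (r (n + 1))))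
      rw [← e2]
      exact ⟨w, rfl⟩
    · exact trl_trl X (Nat.le_succ n) hn1N w
  refine ⟨r n, fun N hN hnN => ?_⟩
  rw [hr n N hN hnN]
  rintro _ ⟨w, rfl⟩
  obtain ⟨x, hx⟩ := exists_lim_of_chain X S hS n _ ⟨w, rfl⟩
  exact ⟨x, hx⟩

end Groth.Agent.H2.LimAdic
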