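import Groth.Agent.Lib.Helper2.AlgzAff2
import Groth.Agent.Lib.Helper2.LimML
import Groth.Agent.Lib.Lead.QC.SubExt
import Groth.Agent.Lib.Lead.QC.Gen
import Groth.Agent.Lib.Lead.QC.Iso

/-!
# Surjectivity of `M~|_U → F_n` for Mittag-Leffler systems of sections (helper2)
-/

set_option autoImplicit false
set_option linter.style.haveILetI false
universe u
open CategoryTheory Limits Opposite TopologicalSpace AlgebraicGeometry

namespace Groth.Agent.H2.AlgzEpi

open Groth.Agent.LD.FF Groth.Agent.H2.FormalQ Groth.Agent.H2.FormalEq Groth.Agent.LD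
  Groth.Agent.H2.AlgzAff Groth.Agent.H2.LimAdic Groth.Agent.LD.QC

variable {A : Type u} [CommRing A]

/-- a map of quasi-coherent modules on `Spec A` that is surjective on sections over `D(f)` is
surjective on global sections up to powers of `f`. -/
lemma exists_pow_smul_mem_range' {R : CommRingCat.{u}} {ZN Zn : (Spec R).Modules}
    [ZN.IsQuasicoherent] [Zn.IsQuasicoherent] (τ : ZN ⟶ Zn) (f : R)
    (hτ : Function.Surjective
      (((modulesSpecToSheaf (R := R)).map τ).hom.app (op (PrimeSpectrum.basicOpen f))).hom)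
    (h : (modulesSpecToSheaf.obj Zn).obj.obj (op ⊤)) :
    ∃ k : ℕ, f ^ k • h ∈
      LinearMap.range (((modulesSpecToSheaf (R := R)).map τ).hom.app (op ⊤)).hom := by
  have hN := spec_isLocalizing ZN f
  have hn := spec_isLocalizing Zn f
  let φ := (modulesSpecToSheaf (R := R)).map τ
  let rN := ((modulesSpecToSheaf.obj ZN).obj.map (PrimeSpectrum.basicOpen f).leTop.op)
  let rn := ((modulesSpecToSheaf.obj Zn).obj.map (PrimeSpectrum.basicOpen f).leTop.op)
  have nat : φ.hom.app (op ⊤) ≫ rn = rN ≫ φ.hom.app (op (PrimeSpectrum.basicOpen f)) :=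
    (φ.hom.naturality _).symm
  obtain ⟨t, ht⟩ := hτ (rn.hom h)
  obtain ⟨⟨h', ⟨_, k, rfl⟩⟩, hh'⟩ := hN.surj t
  have h0 : rn.hom ((φ.hom.app (op ⊤)).hom h' - f ^ k • h) = 0 := by
    have e1 := congrArg (fun g => g.hom h') nat
    change rn.hom ((φ.hom.app (op ⊤)).hom h') =
      (φ.hom.app (op (PrimeSpectrum.basicOpen f))).hom (rN.hom h') at e1
    rw [map_sub, e1, map_smul, ← ht]
    change (φ.hom.app (op (PrimeSpectrum.basicOpen f))).hom (rN.hom h') -
      f ^ k • (φ.hom.app (op (PrimeSpectrum.basicOpen f))).hom t = 0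
    rw [← map_smul, sub_eq_zero]
    congr 1
    exact hh'.symm
  obtain ⟨⟨_, l, rfl⟩, hl⟩ := (IsLocalizedModule.eq_zero_iff (.powers f) rn.hom).mp h0
  refine ⟨l + k, f ^ l • h', ?_⟩
  change f ^ l • ((φ.hom.app (op ⊤)).hom h' - f ^ k • h) = 0 at hl
  rw [smul_sub, sub_eq_zero, smul_smul, ← pow_add] at hl
  rw [map_smul]
  exact hl

lemma exists_pow_smul_mem_range {ZN Zn : (Spec (CommRingCat.of A)).Modules}
    [ZN.IsQuasicoherent] [Zn.IsQuasicoherent] (τ : ZN ⟶ Zn) (f : A)
    (hτ : Function.Surjective (τ.app (PrimeSpectrum.basicOpen f : (Spec (CommRingCat.of A)).Opens)))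
    (h : (Γf A).obj Zn) :
    ∃ k : ℕ, f ^ k • h ∈ LinearMap.range ((Γf A).map τ).hom :=
  exists_pow_smul_mem_range' (R := CommRingCat.of A) τ f hτ h

end Groth.Agent.H2.AlgzEpi
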