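import Groth.Agent.Lib.Helper2.AlgzEpi1

/-!
# Surjectivity of `M~|_U → F_n` for Mittag-Leffler systems of sections, II (helper2)
-/

set_option autoImplicit false
set_option linter.style.haveILetI false
universe u
open CategoryTheory Limits Opposite TopologicalSpace AlgebraicGeometry

namespace Groth.Agent.H2.AlgzEpi

open Groth.Agent.LD.FF Groth.Agent.H2.FormalQ Groth.Agent.H2.FormalEq Groth.Agent.LD
  Groth.Agent.H2.AlgzAff Groth.Agent.H2.LimAdic Groth.Agent.LD.QC

variable {A : Type u} [CommRing A]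

/-- the tilde of a module all of whose elements are locally (on `U`) killed by powers has zero
restriction to `U`. -/
lemma isZero_restrict_tilde (U : (Spec (CommRingCat.of A)).Opens) (Q : ModuleCat.{u} A)
    (h : ∀ x ∈ U, ∃ f : A, x ∈ (PrimeSpectrum.basicOpen f : (Spec (CommRingCat.of A)).Opens) ∧
      ∀ q : Q, ∃ k : ℕ, f ^ k • q = 0) :
    IsZero ((Scheme.Modules.restrictFunctor U.ι).obj ((Tf A).obj Q)) := by
  apply isZero_of_forall_sections
  intro V s
  haveI : ((Tf A).obj Q).IsQuasicoherent :=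
    inferInstanceAs ((AlgebraicGeometry.tilde (R := CommRingCat.of A) Q).IsQuasicoherent)
  have hs : ∀ s' : Γ((Tf A).obj Q, U.ι ''ᵁ V), s' = 0 := by
    intro s'
    apply section_eq_zero_of_affine_zero
    intro x hx
    have hxU : x ∈ U := by
      obtain ⟨y, _, rfl⟩ := hx
      exact y.2
    obtain ⟨f, hxf, hf⟩ := h x hxU
    have hsub := tilde_subsingleton_basicOpen (R := CommRingCat.of A) Q f hf
    exact ⟨PrimeSpectrum.basicOpen f, isAffineOpen_basicOpen_spec (R := CommRingCat.of A) f, hxf, fun t => hsub.elim t 0⟩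
  exact hs s

/-- **Lemma E**: the restriction to `U` of the tilde of a map which is locally on `U` surjective up
to powers is an epimorphism. -/
theorem epi_restrict_tilde_map (U : (Spec (CommRingCat.of A)).Opens) {L H : ModuleCat.{u} A}
    (p : L ⟶ H)
    (h : ∀ x ∈ U, ∃ f : A, x ∈ (PrimeSpectrum.basicOpen f : (Spec (CommRingCat.of A)).Opens) ∧
      ∀ s : H, ∃ k : ℕ, f ^ k • s ∈ LinearMap.range p.hom) :
    Epi ((Scheme.Modules.restrictFunctor U.ι).map ((Tf A).map p)) := by
  let F : ModuleCat.{u} A ⥤ (U : Scheme.{u}).Modules :=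
    Tf A ⋙ Scheme.Modules.restrictFunctor U.ι
  haveI : (Tf A).IsLeftAdjoint := (adj A).isLeftAdjoint
  haveI : F.IsLeftAdjoint := inferInstance
  have hz : IsZero (F.obj (cokernel p)) := by
    apply isZero_restrict_tilde
    intro x hx
    obtain ⟨f, hxf, hf⟩ := h x hx
    refine ⟨f, hxf, fun q => ?_⟩
    obtain ⟨s, rfl⟩ := (ModuleCat.epi_iff_surjective (cokernel.π p)).1 inferInstance q
    obtain ⟨k, y, hy⟩ := hf s
    refine ⟨k, ?_⟩
    rw [← map_smul, ← hy]
    exact congrArg (fun g => g.hom y) (cokernel.condition p)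
  have e : F.obj (cokernel p) ≅ cokernel (F.map p) := PreservesCokernel.iso F p
  exact Preadditive.epi_of_isZero_cokernel _ (hz.of_iso e.symm)

end Groth.Agent.H2.AlgzEpi
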