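import Groth.Agent.Lib.Helper2.FormalQ3

/-!
# Pro-isomorphic coherent formal modules are isomorphic (helper2)
-/

set_option autoImplicit false
set_option linter.style.haveILetI false
universe u
open CategoryTheory Limits Opposite TopologicalSpace AlgebraicGeometry

namespace Groth.Agent.H2.FormalQ

open Groth.Agent.LD.FF

variable {A : Type u} [CommRing A] {X : Scheme.{u}} [X.Over (Spec (CommRingCat.of A))]
  {I : Ideal A} {F G : ℕᵒᵖ ⥤ X.Modules}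

lemma isIso_of_data {C : Type*} [Category C] {Fk Fmk Fmn Fn Gk Gn : C} (tFk : Fmk ⟶ Fk)
    (tFnk : Fk ⟶ Fn) (tFmnk : Fmk ⟶ Fmn) (tFn : Fmn ⟶ Fn) (tG : Gk ⟶ Gn) (βk : Fk ⟶ Gk)
    (βn : Fn ⟶ Gn) (ak : Fmk ⟶ Gk) (an : Fmn ⟶ Gn) (b : Gk ⟶ Fmn) (γ : Gn ⟶ Fn) [Epi tFk]
    [Epi tFnk] [Epi tG] (h1 : tFk ≫ βk = ak) (h2 : tFn ≫ βn = an) (h3 : ak ≫ b = tFmnk)
    (h4 : b ≫ an = tG) (h5 : tG ≫ γ = b ≫ tFn) (h6 : tFnk ≫ βn = βk ≫ tG)
    (h7 : tFmnk ≫ tFn = tFk ≫ tFnk) : IsIso βn := by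
  refine ⟨γ, ?_, ?_⟩
  · rw [← cancel_epi tFnk, ← cancel_epi tFk, Category.comp_id]
    calc tFk ≫ tFnk ≫ βn ≫ γ = tFk ≫ (tFnk ≫ βn) ≫ γ := by simp only [Category.assoc]
      _ = (tFk ≫ βk) ≫ (tG ≫ γ) := by rw [h6]; simp only [Category.assoc]
      _ = (ak ≫ b) ≫ tFn := by rw [h1, h5, Category.assoc]
      _ = tFk ≫ tFnk := by rw [h3, h7]
  · rw [← cancel_epi tG, Category.comp_id, ← Category.assoc, h5, Category.assoc, h2, h4]

theorem nonempty_iso_of_isProIsomorphic (hF : Formal.IsCohFormal I F)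
    (hG : Formal.IsCohFormal I G) (h : Algz.IsProIsomorphic F G) : Nonempty (F ≅ G) := by
  obtain ⟨m, hm, hle, a, ha⟩ := h
  have hπnat : ∀ (n k : ℕ) (hnk : n ≤ k),
      (DerCA.reindex F hm).map (homOfLE hnk).op ≫ tr F (hle n) =
        tr F (hle k) ≫ F.map (homOfLE hnk).op := by
    intro n k hnk
    change tr F (hm hnk) ≫ tr F (hle n) = tr F (hle k) ≫ tr F hnk
    rw [tr_comp, tr_comp]
  let π : DerCA.reindex F hm ⟶ F := natTransOfTr (fun n => tr F (hle n)) hπnat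
  obtain ⟨β, hβ, -⟩ := existsUnique_of_reindex hF hG m hm hle π (fun n => rfl) a
  have hβn : ∀ n : ℕ, tr F (hle n) ≫ β.app (op n) = a.app (op n) := fun n =>
    congrArg (fun t => t.app (op n)) hβ
  have hQF : ∀ {n k : ℕ} (h : n ≤ k), IsQ (I ^ (n + 1)) (tr F h) := fun h => isQ_tr hF h
  have hQG : ∀ {n k : ℕ} (h : n ≤ k), IsQ (I ^ (n + 1)) (tr G h) := fun h => isQ_tr hG h
  have hiso : ∀ n : ℕ, IsIso (β.app (op n)) := by
    intro n
    obtain ⟨k, hnk, b, hb1, hb2⟩ := ha n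
    haveI : Epi (tr G hnk) := (hQG hnk).epi
    haveI : Epi (tr F (hle k)) := (hQF (hle k)).epi
    haveI : Epi (tr F hnk) := (hQF hnk).epi
    obtain ⟨γ, hγ⟩ := (hQG hnk).exists_desc (hF.2.1 n) (b ≫ tr F (hle n))
    refine isIso_of_data (tr F (hle k)) (tr F hnk) (tr F (hm hnk)) (tr F (hle n)) (tr G hnk)
      (β.app (op k)) (β.app (op n)) (a.app (op k)) (a.app (op n)) b γ (hβn k) (hβn n) hb1 hb2 hγ
      (β.naturality (homOfLE hnk).op) ?_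
    rw [tr_comp, tr_comp]
  haveI : IsIso β := by
    haveI : ∀ n : ℕᵒᵖ, IsIso (β.app n) := fun n => hiso n.unop
    exact NatIso.isIso_of_isIso_app β
  exact ⟨asIso β⟩

end Groth.Agent.H2.FormalQ
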