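import Groth.Agent.Lib.Helper2.AlgzExt3
import Groth.Agent.Lib.Helper2.FormalQ4

/-!
# Canonically extending coherent formal modules extend (helper2)
-/

set_option autoImplicit false
set_option linter.style.haveILetI false
universe u
open CategoryTheory Limits Opposite TopologicalSpace AlgebraicGeometry

namespace Groth.Agent.H2.AlgzExt

open Groth.Agent.LD.FF Groth.Agent.LD.Stein Groth.Agent.H2.FormalQ Groth.Agent.LD
  Groth.Agent.H2.FormalEq

variable {A : Type u} [CommRing A] [IsNoetherianRing A] (I : Ideal A)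
  (U : (Spec (CommRingCat.of A)).Opens)
  (G : ℕᵒᵖ ⥤ (U : Scheme.{u}).Modules)

theorem extends_of_canonicallyExtends (hG : Formal.IsCohFormal I G)
    (h : Algz.CanonicallyExtends A I U G) :
    @Algz.Extends A _ (Spec (CommRingCat.of A)) ⟨𝟙 (Spec (CommRingCat.of A))⟩ I U G := by
  obtain ⟨G', hG', hpro⟩ := h
  haveI : IsIso (sectRestrict A U G) := isIso_sectRestrict (fun n => (hG.1 n.unop).1)
  have hpro' := isProIsomorphic_of_iso_comp (Scheme.Modules.restrictFunctor U.ι)
    (asIso (sectRestrict A U G)) hpro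
  letI : (Spec (CommRingCat.of A)).Over (Spec (CommRingCat.of A)) := ⟨𝟙 _⟩
  have hr := isCohFormal_restrictSys U hG'
  obtain ⟨e⟩ := nonempty_iso_of_isProIsomorphic hG hr hpro'
  exact ⟨G', hG', ⟨e.symm⟩⟩

end Groth.Agent.H2.AlgzExt
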