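import Groth.Agent.Lib.Helper2.AlgzEpi2
import Groth.Agent.Lib.Helper2.AlgzExt4

/-!
# Surjectivity of `M~|_U → F_n` for Mittag-Leffler systems of sections, III (helper2)
-/

set_option autoImplicit false
set_option linter.style.haveILetI false
universe u
open CategoryTheory Limits Opposite TopologicalSpace AlgebraicGeometry

namespace Groth.Agent.H2.AlgzEpi

open Groth.Agent.LD.FF Groth.Agent.H2.FormalQ Groth.Agent.H2.FormalEq Groth.Agent.LD
  Groth.Agent.H2.AlgzAff Groth.Agent.H2.LimAdic Groth.Agent.LD.QC Groth.Agent.H2.AR ARSys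

variable {A : Type u} [CommRing A]

lemma epi_map_of_le {C : Type*} [Category C] (G : ℕᵒᵖ ⥤ C)
    (hG : ∀ n, Epi (G.map (homOfLE (Nat.le_succ n)).op)) {n N : ℕ} (h : n ≤ N) :
    Epi (G.map (homOfLE h).op) := by
  induction N, h using Nat.le_induction with
  | base =>
    have : (homOfLE (le_refl n)).op = 𝟙 (op n) := rfl
    rw [this, G.map_id]
    infer_instance
  | succ N hN ih =>
    have : (homOfLE (hN.trans (Nat.le_succ N))).op =
        (homOfLE (Nat.le_succ N)).op ≫ (homOfLE hN).op := rfl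
    rw [this, G.map_comp]
    haveI := hG N
    haveI := ih
    exact epi_comp _ _

lemma basicOpen_le_puncturedOpen (𝔞 : Ideal A) (f : A) (hf : f ∈ 𝔞) :
    (PrimeSpectrum.basicOpen f : (Spec (CommRingCat.of A)).Opens) ≤ LocCoh.puncturedOpen A 𝔞 := by
  intro x hx hx'
  exact hx (hx' hf)

lemma exists_basicOpen_of_mem (𝔞 : Ideal A) (x : Spec (CommRingCat.of A))
    (hx : x ∈ LocCoh.puncturedOpen A 𝔞) :
    ∃ f ∈ 𝔞, x ∈ (PrimeSpectrum.basicOpen f : (Spec (CommRingCat.of A)).Opens) := by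
  by_contra hcon
  push_neg at hcon
  apply hx
  intro f hf
  by_contra hfx
  exact hcon f hf hfx

variable [IsNoetherianRing A] {I : Ideal A} (𝔞 : Ideal A)
  {G : ℕᵒᵖ ⥤ (↑(LocCoh.puncturedOpen A 𝔞) : Scheme.{u}).Modules}

lemma pow_smul_mem_range_trl (hG : Formal.IsCohFormal I G) (f : A) (hf : f ∈ 𝔞) {n N : ℕ}
    (hN : n ≤ N) (h : (Algz.sectMod A (LocCoh.puncturedOpen A 𝔞) G).obj (op n)) :
    ∃ k : ℕ, f ^ k • h ∈
      LinearMap.range (trl (Algz.sectMod A (LocCoh.puncturedOpen A 𝔞) G) hN) := by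
  let U := LocCoh.puncturedOpen A 𝔞
  haveI hqN : (G.obj (op N)).IsQuasicoherent := (hG.1 N).1
  haveI hqn : (G.obj (op n)).IsQuasicoherent := (hG.1 n).1
  haveI : ((Scheme.Modules.pushforward U.ι).obj (G.obj (op N))).IsQuasicoherent :=
    QC.qc_pushforward U.ι _
  haveI : ((Scheme.Modules.pushforward U.ι).obj (G.obj (op n))).IsQuasicoherent :=
    QC.qc_pushforward U.ι _
  haveI : Epi (G.map (homOfLE hN).op) := by
    apply epi_map_of_le G _ hN
    intro m
    have hQ : IsQ (I ^ (m + 1)) (G.map (homOfLE (Nat.le_succ m)).op) := hG.2.2 m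
    exact hQ.epi
  have haff : IsAffineOpen (U.ι ⁻¹ᵁ (PrimeSpectrum.basicOpen f)) := by
    apply (isAffineOpen_basicOpen_spec (R := CommRingCat.of A) f).preimage_of_isOpenImmersion U.ι
    rw [Scheme.Opens.opensRange_ι]
    exact basicOpen_le_puncturedOpen 𝔞 f hf
  have hτ : Function.Surjective (((Scheme.Modules.pushforward U.ι).map
      (G.map (homOfLE hN).op)).app (PrimeSpectrum.basicOpen f)) :=
    epi_app_affine hqN hqn (G.map (homOfLE hN).op) haff
  exact exists_pow_smul_mem_range ((Scheme.Modules.pushforward U.ι).map (G.map (homOfLE hN).op))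
    f hτ h

end Groth.Agent.H2.AlgzEpi
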