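import Groth.Agent.Lib.Helper2.AlgzEpi3

/-!
# Surjectivity of `M~|_U → F_n` for Mittag-Leffler systems of sections, IV (helper2)
-/

set_option autoImplicit false
set_option linter.style.haveILetI false
universe u
open CategoryTheory Limits Opposite TopologicalSpace AlgebraicGeometry

namespace Groth.Agent.H2.AlgzEpi

open Groth.Agent.LD.FF Groth.Agent.H2.FormalQ Groth.Agent.H2.FormalEq Groth.Agent.LD
  Groth.Agent.H2.AlgzAff Groth.Agent.H2.LimAdic Groth.Agent.LD.QC Groth.Agent.H2.AR ARSys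

variable {A : Type u} [CommRing A] [IsNoetherianRing A] {I : Ideal A} (𝔞 : Ideal A)
  {G : ℕᵒᵖ ⥤ (↑(LocCoh.puncturedOpen A 𝔞) : Scheme.{u}).Modules}

theorem epi_adjoint_limit_π (hG : Formal.IsCohFormal I G)
    (ha : ARSys.IsML (Algz.sectMod A (LocCoh.puncturedOpen A 𝔞) G)) (n : ℕ) :
    Epi (((Scheme.Modules.restrictAdjunction (LocCoh.puncturedOpen A 𝔞).ι).homEquiv _
      (G.obj (op n))).symm
      (((tilde.adjunction (R := CommRingCat.of A)).homEquiv
        (limit (Algz.sectMod A (LocCoh.puncturedOpen A 𝔞) G))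
        ((Scheme.Modules.pushforward (LocCoh.puncturedOpen A 𝔞).ι).obj (G.obj (op n)))).symm
          (limit.π (Algz.sectMod A (LocCoh.puncturedOpen A 𝔞) G) (op n)))) := by
  let U := LocCoh.puncturedOpen A 𝔞
  let H := Algz.sectMod A U G
  rw [Adjunction.homEquiv_counit, Adjunction.homEquiv_counit, Functor.map_comp, Category.assoc]
  haveI h1 : Epi ((Scheme.Modules.restrictFunctor U.ι).map ((Tf A).map (limit.π H (op n)))) := by
    apply epi_restrict_tilde_map
    intro x hx
    obtain ⟨f, hf, hxf⟩ := exists_basicOpen_of_mem 𝔞 x hx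
    refine ⟨f, hxf, fun s => ?_⟩
    obtain ⟨r, hr⟩ := exists_range_le_range_πl H ha n
    obtain ⟨k, hk⟩ := pow_smul_mem_range_trl 𝔞 hG f hf (Nat.le_add_right n r) s
    exact ⟨k, hr (n + r) le_rfl (Nat.le_add_right n r) hk⟩
  haveI hq : (G.obj (op n)).IsQuasicoherent := (hG.1 n).1
  haveI h2 : IsIso ((adj A).counit.app ((Scheme.Modules.pushforward U.ι).obj (G.obj (op n)))) :=
    isIso_counit (QC.qc_pushforward U.ι _)
  have h3 : Epi ((Scheme.Modules.restrictFunctor U.ι).map
      ((adj A).counit.app ((Scheme.Modules.pushforward U.ι).obj (G.obj (op n)))) ≫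
      (Scheme.Modules.restrictAdjunction U.ι).counit.app (G.obj (op n))) := inferInstance
  exact @epi_comp _ _ _ _ _ _ h1 _ h3

end Groth.Agent.H2.AlgzEpi
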