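import Mathlib
import Groth.Agent.Lib.Lead.QC.Gen
import Groth.Agent.Lib.Lead.QC.Coh
import Groth.Agent.Lib.Lead.QC.LocFree
import Groth.Agent.Lib.Lead.QC.SubExtRestrict

/-! A finite type submodule of a quasi-coherent module is quasi-coherent. -/

universe u
set_option autoImplicit false
open CategoryTheory Limits AlgebraicGeometry TopologicalSpace Opposite

namespace Groth.Agent.H2.QcSub
open Groth.Agent.LD.QC

variable {X : Scheme.{u}}

/-- in an abelian category, the middle object of an epi-mono factorisation is the image -/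
noncomputable def isoAbelianImage {C : Type*} [Category C] [Abelian C] {P F A : C} (π : P ⟶ F)
    [Epi π] (ι : F ⟶ A) [Mono ι] : F ≅ Abelian.image (π ≫ ι) :=
  haveI : StrongEpi π := strongEpi_of_epi π
  (Limits.image.isoStrongEpiMono π ι rfl) ≪≫ (Abelian.imageIsoImage (π ≫ ι)).symm

theorem qc_of_epi_mono {P F A : X.Modules} (π : P ⟶ F) (hπ : Epi π) (ι : F ⟶ A) (hι : Mono ι)
    (hP : P.IsQuasicoherent) (hA : A.IsQuasicoherent) : F.IsQuasicoherent := by
  have h1 : (cokernel (π ≫ ι)).IsQuasicoherent := qc_cokernel _ hP hA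
  have h2 : (Abelian.image (π ≫ ι)).IsQuasicoherent := qc_kernel _ hA h1
  exact qc_of_iso (isoAbelianImage π ι).symm h2

/-- a finite type submodule of a quasi-coherent module is quasi-coherent. -/
theorem qc_of_isFiniteType_of_mono {F A : X.Modules} (ι : F ⟶ A) [Mono ι]
    (hA : A.IsQuasicoherent) (hF : F.IsFiniteType) : F.IsQuasicoherent := by
  rw [isFiniteType_iff_forall_exists] at hF
  choose U hxU σ hσ using hF
  have hc : IsOpenCover U := by
    rw [IsOpenCover, eq_top_iff]
    intro x _
    exact Opens.mem_iSup.mpr ⟨x, hxU x⟩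
  refine isQuasicoherent_of_isOpenCover F U hc fun x => ?_
  have hm : Mono ((Scheme.Modules.restrictFunctor (U x).ι).map ι) := inferInstance
  exact qc_of_epi_mono (σ x).π (σ x).epi ((Scheme.Modules.restrictFunctor (U x).ι).map ι) hm
    inferInstance (qc_restrict (U x).ι A)

end Groth.Agent.H2.QcSub
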