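import Mathlib
import Groth.Prelude.Def_CAlg
import Groth.Agent.Lib.Helper2.DepthIso1
import Groth.Agent.Lib.Helper2.DepthS1

/-!
# Associated primes of a module of depth `≥ 2` have coheight `≥ 2` (helper2)
-/

set_option autoImplicit false
set_option linter.style.haveILetI false
universe u
open IsLocalRing RingTheory.Sequence

namespace Groth.Agent.H2.AssDim
open scoped Pointwise

variable {R : Type u} [CommRing R] [IsLocalRing R] [IsNoetherianRing R]
  {M : Type u} [AddCommGroup M] [Module R M] [Module.Finite R M]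

/-- a chain of primes `q < q₁ < 𝔪` above an associated prime of a module of depth `≥ 2` -/
theorem exists_chain_of_ass (hdepth : (2 : ℕ∞) ≤ LocCoh.depth R M) (q : Ideal R)
    (hq : IsAssociatedPrime q M) :
    ∃ q₁ : Ideal R, q₁.IsPrime ∧ q < q₁ ∧ q₁ < maximalIdeal R := by
  rw [isAssociatedPrime_iff] at hq
  obtain ⟨hqp, m, hqm⟩ := hq
  have hm0 : m ≠ 0 := by
    rintro rfl
    apply hqp.ne_top
    rw [hqm]
    ext r
    simp [Submodule.mem_colon_singleton]
  haveI : Nontrivial M := ⟨⟨m, 0, hm0⟩⟩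
  obtain ⟨a, ha, b, hb, hreg_a, hreg_b⟩ :=
    Groth.Agent.H2.DepthIso.exists_regular_pair (R := R) (N := M)
      (Groth.Agent.H2.DepthS1.smul_top_ne_top) hdepth
  -- the submodule killed by `q`
  let N : Submodule R M :=
    { carrier := {n | ∀ r ∈ q, r • n = 0}
      add_mem' := fun {x y} hx hy r hr => by rw [smul_add, hx r hr, hy r hr, add_zero]
      zero_mem' := fun r _ => smul_zero r
      smul_mem' := fun c x hx r hr => by rw [smul_comm, hx r hr, smul_zero] }
  have hmN : m ∈ N := by
    intro r hr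
    rw [hqm, Submodule.mem_colon_singleton] at hr
    simpa using hr
  have hNbot : N ≠ ⊥ := fun h => hm0 (by simpa [h] using hmN)
  -- there is `n ∈ N` outside `a M`
  have hex : ∃ n ∈ N, n ∉ (a • (⊤ : Submodule R M)) := by
    by_contra hcon
    push Not at hcon
    apply hNbot
    have hfg : N.FG := IsNoetherian.noetherian N
    apply Submodule.eq_bot_of_le_smul_of_le_jacobson_bot (Ideal.span {a}) N hfg
    · intro n hn
      have h1 := hcon n hn
      rw [Submodule.mem_smul_pointwise_iff_exists] at h1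
      obtain ⟨m', -, rfl⟩ := h1
      rw [Submodule.ideal_span_singleton_smul, Submodule.mem_smul_pointwise_iff_exists]
      refine ⟨m', ?_, rfl⟩
      intro r hr
      have h2 : r • a • m' = 0 := hn r hr
      rw [smul_comm] at h2
      exact hreg_a (by simp only [h2, smul_zero])
    · rw [IsLocalRing.jacobson_eq_maximalIdeal ⊥ bot_ne_top, Ideal.span_singleton_le_iff_mem]
      exact ha
  obtain ⟨n, hnN, hna⟩ := hex
  -- the class of `n` in `M / aM`
  let n' : QuotSMulTop a M := Submodule.Quotient.mk n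
  have hn'0 : n' ≠ 0 := by
    intro h
    exact hna ((Submodule.Quotient.mk_eq_zero _).mp h)
  obtain ⟨q₁, hq₁, hle⟩ := exists_le_isAssociatedPrime_of_isNoetherianRing R n' hn'0
  have hq₁p : q₁.IsPrime := hq₁.isPrime
  have hqq₁ : q ≤ q₁ := by
    intro r hr
    apply hle
    rw [Submodule.mem_colon_singleton, Submodule.mem_bot]
    change r • (Submodule.Quotient.mk n : QuotSMulTop a M) = 0
    rw [← Submodule.Quotient.mk_smul, hnN r hr, Submodule.Quotient.mk_zero]
  have haq₁ : a ∈ q₁ := by
    apply hle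
    rw [Submodule.mem_colon_singleton, Submodule.mem_bot]
    change a • (Submodule.Quotient.mk n : QuotSMulTop a M) = 0
    rw [← Submodule.Quotient.mk_smul, Submodule.Quotient.mk_eq_zero]
    exact Submodule.smul_mem_pointwise_smul n a ⊤ Submodule.mem_top
  have haq : a ∉ q := by
    intro h
    rw [hqm, Submodule.mem_colon_singleton, Submodule.mem_bot] at h
    exact hm0 (hreg_a (by simp only [h, smul_zero]))
  refine ⟨q₁, hq₁p, lt_of_le_of_ne hqq₁ ?_, lt_of_le_of_ne (le_maximalIdeal hq₁p.ne_top) ?_⟩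
  · intro h
    exact haq (h ▸ haq₁)
  · intro h
    rw [isAssociatedPrime_iff] at hq₁
    obtain ⟨-, z, hz⟩ := hq₁
    have hbz : b ∈ q₁ := h ▸ hb
    rw [hz, Submodule.mem_colon_singleton, Submodule.mem_bot] at hbz
    have hz0 : z = 0 := hreg_b (by simp only [hbz, smul_zero])
    apply hq₁p.ne_top
    rw [hz, hz0]
    ext r
    simp [Submodule.mem_colon_singleton]

/-- an associated prime of a module of depth `≥ 2` has coheight `≥ 2` -/
theorem two_le_ringKrullDim_quot_of_ass (hdepth : (2 : ℕ∞) ≤ LocCoh.depth R M) (q : Ideal R)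
    (hq : IsAssociatedPrime q M) :
    (2 : WithBot ℕ∞) ≤ ringKrullDim (R ⧸ q) := by
  obtain ⟨q₁, hq₁p, h1, h2⟩ := exists_chain_of_ass hdepth q hq
  haveI := hq.isPrime
  rw [ringKrullDim_quotient]
  let p0 : PrimeSpectrum.zeroLocus (R := R) q := ⟨⟨q, hq.isPrime⟩, (PrimeSpectrum.mem_zeroLocus _ _).mpr (le_refl q)⟩
  let p1 : PrimeSpectrum.zeroLocus (R := R) q := ⟨⟨q₁, hq₁p⟩, (PrimeSpectrum.mem_zeroLocus _ _).mpr h1.le⟩
  let p2 : PrimeSpectrum.zeroLocus (R := R) q :=
    ⟨⟨maximalIdeal R, inferInstance⟩, (PrimeSpectrum.mem_zeroLocus _ _).mpr (h1.trans h2).le⟩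
  have h01 : p0 < p1 := h1
  have h12 : p1 < p2 := h2
  let s : LTSeries (PrimeSpectrum.zeroLocus (R := R) q) :=
    ((RelSeries.singleton _ p0).snoc p1 h01).snoc p2 (by rw [RelSeries.last_snoc]; exact h12)
  have := Order.LTSeries.length_le_krullDim s
  simpa [s] using this

end Groth.Agent.H2.AssDim
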