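import Mathlib
import Groth.Agent.Lib.Helper2.AssDim
import Groth.Agent.Lib.Helper2.DepthRes5
import Groth.Agent.Lib.Helper2.DepthS1Sch
import Groth.Agent.Lib.Helper1.CohLen

/-!
# Codimension of `Z` in the closure of an associated point outside `Z` (helper2): S5858
-/

set_option autoImplicit false
set_option linter.style.haveILetI false
universe u
open CategoryTheory Limits AlgebraicGeometry TopologicalSpace Opposite IsLocalRing

namespace Groth.Agent.H2.AssDim

open Groth.Agent.LD.QC Groth.Agent.H2.AssSch Groth.Agent.H2.DepthS1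

variable {X : Scheme.{u}} [IsLocallyNoetherian X]

/-- the prime of `O_{X,y}` defined by a generization `x` is associated to `M_y` when `x` is an
associated point of `M` -/
theorem isAssociatedPrime_comap_stalkSpecializes (M : X.Modules) [M.IsQuasicoherent] {x y : X}
    (h : x ⤳ y) (hx : Curv2.IsAssPoint M x) :
    IsAssociatedPrime ((maximalIdeal (X.presheaf.stalk x)).comap
      (X.presheaf.stalkSpecializes h).hom) (M.presheaf.stalk y) := by
  obtain ⟨W, hW, hyW, -⟩ := exists_isAffineOpen_mem_and_subset (x := y) (U := ⊤) trivial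
  have hxW : x ∈ W := h.mem_open W.2 hyW
  rw [isAssociatedPrime_stalk_iff M hW y hyW, Ideal.comap_comap]
  rw [isAssPoint_iff M hW x hxW, ← comap_maximalIdeal hW x hxW] at hx
  have heq : (X.presheaf.stalkSpecializes h).hom.comp (X.presheaf.germ W y hyW).hom =
      (X.presheaf.germ W x hxW).hom := by
    rw [← CommRingCat.hom_comp, TopCat.Presheaf.germ_stalkSpecializes]
  rw [heq]
  exact hx

/-- S5858 -/
theorem s5858 (Z : Set X) (hZ : StableUnderSpecialization Z) (F : X.Modules) (hF : Coh.IsCoh F)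
    (hH : Coh.IsCoh ((ZClos.H0 Z).obj F))
    (x : X) (hx : x ∈ _root_.AssSch.Ass F) (hxZ : x ∉ Z) (y : X) (hy : y ∈ Z) (h : x ⤳ y) :
    (2 : WithBot ℕ∞) ≤ ringKrullDim (X.presheaf.stalk y ⧸
      (maximalIdeal (X.presheaf.stalk x)).comap (X.presheaf.stalkSpecializes h).hom) := by
  haveI hHq : ((ZClos.H0 Z).obj F).IsQuasicoherent := hH.1
  -- depth of `H_y`
  have hdepth : (2 : ℕ∞) ≤ LocCoh.depth (X.presheaf.stalk y)
      (((ZClos.H0 Z).obj F).presheaf.stalk y) := by
    have hcl := Groth.Agent.H3.ZClosNoeth.isZClosed_H0_obj Z F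
    rw [Groth.Agent.H3.ZClosCover.isZClosed_iff_sections_all] at hcl
    let T : ZClos.Cl Z := ⟨⟨closure {y}, isClosed_closure⟩, fun y' hy' =>
      hZ (specializes_iff_mem_closure.mpr hy') hy⟩
    refine Groth.Agent.H2.DepthRes.two_le_depth_of_res_bijective _ hH T.U (fun V => hcl T V) y ?_
    intro hyU
    exact hyU (subset_closure (Set.mem_singleton y))
  -- `x` is associated to `H`
  have hxH : Curv2.IsAssPoint ((ZClos.H0 Z).obj F) x := by
    have hcl := Groth.Agent.H3.ZClosStalk.isZClosedAt_of_not_mem Z F x hxZ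
    have hinj : Function.Injective (RefHull.stalkMapₗ (ZClos.rhoApp Z F) x) := hcl.1
    have hx' : IsAssociatedPrime (maximalIdeal (X.presheaf.stalk x)) (F.presheaf.stalk x) := hx
    exact hx'.map_of_injective (RefHull.stalkMapₗ (ZClos.rhoApp Z F) x) hinj
  have hass := isAssociatedPrime_comap_stalkSpecializes ((ZClos.H0 Z).obj F) h hxH
  haveI : Module.Finite (X.presheaf.stalk y) (((ZClos.H0 Z).obj F).presheaf.stalk y) :=
    Groth.Agent.H1.CohLen.finite_stalk _ hH.2 y
  exact two_le_ringKrullDim_quot_of_ass hdepth _ hass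

end Groth.Agent.H2.AssDim
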