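import Mathlib
import Groth.Agent.Lib.Helper2.DepthRes7
import Groth.Agent.Lib.Helper2.AssDimSch

/-!
# The `Z^(2)`-closure satisfies `S₂` (helper2): S5860
-/

set_option autoImplicit false
set_option linter.style.haveILetI false
universe u
open CategoryTheory Limits AlgebraicGeometry TopologicalSpace Opposite IsLocalRing

namespace Groth.Agent.H2.DepthRes

open Groth.Agent.LD.QC ZClos Groth.Agent.H3.ZClosStalk

theorem stableUnderSpecialization_dimGe (X : Scheme.{u}) (n : ℕ) :
    StableUnderSpecialization (ZClos.dimGe X n) := by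
  intro x y h hx
  unfold ZClos.dimGe at *
  simp only [Set.mem_ofPred_eq] at *
  rw [ringKrullDim_stalk_eq_coheight] at *
  have hle : y ≤ x := h
  have := Order.coheight_anti hle
  exact hx.trans (by exact_mod_cast this)

lemma le_one_of_not_two_le (d : WithBot ℕ∞) (h : ¬ (2 : WithBot ℕ∞) ≤ d) : d ≤ 1 := by
  induction d using WithBot.recBotCoe with
  | bot => exact bot_le
  | coe n =>
    induction n using ENat.recTopCoe with
    | top => exact absurd (by exact_mod_cast le_top) h
    | coe m =>
      have h' : ¬ (2 : ℕ) ≤ m := by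
        intro h2
        apply h
        change ((2 : ℕ∞) : WithBot ℕ∞) ≤ ((m : ℕ∞) : WithBot ℕ∞)
        rw [WithBot.coe_le_coe]
        exact_mod_cast h2
      have : m ≤ 1 := by omega
      exact_mod_cast this

lemma le_zero_of_not_two_le (d : WithBot ℕ∞) (h : ¬ (2 : WithBot ℕ∞) ≤ d) (h1 : d ≠ 1) :
    d ≤ 0 := by
  induction d using WithBot.recBotCoe with
  | bot => exact bot_le
  | coe n =>
    induction n using ENat.recTopCoe with
    | top => exact absurd (by exact_mod_cast le_top) h
    | coe m =>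
      have h' : ¬ (2 : ℕ) ≤ m := by
        intro h2
        apply h
        change ((2 : ℕ∞) : WithBot ℕ∞) ≤ ((m : ℕ∞) : WithBot ℕ∞)
        rw [WithBot.coe_le_coe]
        exact_mod_cast h2
      have h1' : m ≠ 1 := by
        intro h2
        apply h1
        rw [h2]
        rfl
      have : m ≤ 0 := by omega
      exact_mod_cast this

section Alg

variable {R : Type u} [CommRing R] [IsLocalRing R] [IsNoetherianRing R]
  {M : Type u} [AddCommGroup M] [Module R M] [Module.Finite R M]

/-- `S₂` at a local ring of dimension `≤ 1`, when the maximal ideal is not associated in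
dimension one -/
theorem s2_of_dim_le_one [Nontrivial M] (hdim : ¬ (2 : WithBot ℕ∞) ≤ ringKrullDim R)
    (hass : IsAssociatedPrime (maximalIdeal R) M → ringKrullDim R ≠ 1) :
    min (2 : WithBot ℕ∞) (Module.supportDim R M) ≤
      ((LocCoh.depth R M : ℕ∞) : WithBot ℕ∞) := by
  have hle : Module.supportDim R M ≤ ringKrullDim R := Module.supportDim_le_ringKrullDim R M
  by_cases h : IsAssociatedPrime (maximalIdeal R) M
  · have h0 := le_zero_of_not_two_le _ hdim (hass h)
    refine (min_le_right _ _).trans ((hle.trans h0).trans ?_)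
    exact WithBot.coe_le_coe.mpr (zero_le : (0 : ℕ∞) ≤ LocCoh.depth R M)
  · rw [Groth.Agent.H2.DepthS1.maximalIdeal_isAssociatedPrime_iff, not_not] at h
    have h1 := le_one_of_not_two_le _ hdim
    refine (min_le_right _ _).trans ((hle.trans h1).trans ?_)
    exact WithBot.coe_le_coe.mpr h

end Alg

variable {X : Scheme.{u}}

/-- **S5860** -/
theorem s5860 [IsLocallyNoetherian X] (F : X.Modules) (hF : Coh.IsCoh F)
    (hsupp : ∀ x : X, Nontrivial (F.presheaf.stalk x))
    (hass : ∀ x ∈ _root_.AssSch.Ass F, ringKrullDim (X.presheaf.stalk x) ≠ 1)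
    (hH : Coh.IsCoh ((ZClos.H0 (ZClos.dimGe X 2)).obj F)) (x : X) :
    min (2 : WithBot ℕ∞) (Module.supportDim (X.presheaf.stalk x)
        (((ZClos.H0 (ZClos.dimGe X 2)).obj F).presheaf.stalk x)) ≤
      ((LocCoh.depth (X.presheaf.stalk x)
        (((ZClos.H0 (ZClos.dimGe X 2)).obj F).presheaf.stalk x) : ℕ∞) : WithBot ℕ∞) := by
  have hZ := stableUnderSpecialization_dimGe X 2
  haveI hHq : ((ZClos.H0 (ZClos.dimGe X 2)).obj F).IsQuasicoherent := hH.1
  by_cases hx : x ∈ ZClos.dimGe X 2
  · have hdepth : (2 : ℕ∞) ≤ LocCoh.depth (X.presheaf.stalk x)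
        (((ZClos.H0 (ZClos.dimGe X 2)).obj F).presheaf.stalk x) := by
      have hcl := Groth.Agent.H3.ZClosNoeth.isZClosed_H0_obj (ZClos.dimGe X 2) F
      rw [Groth.Agent.H3.ZClosCover.isZClosed_iff_sections_all] at hcl
      let T : ZClos.Cl (ZClos.dimGe X 2) := ⟨⟨closure {x}, isClosed_closure⟩, fun y' hy' =>
        hZ (specializes_iff_mem_closure.mpr hy') hx⟩
      refine Groth.Agent.H2.DepthRes.two_le_depth_of_res_bijective _ hH T.U
        (fun V => hcl T V) x ?_
      intro hxU
      exact hxU (subset_closure (Set.mem_singleton x))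
    refine (min_le_left _ _).trans ?_
    exact WithBot.coe_le_coe.mpr hdepth
  · have hcl := isZClosedAt_of_not_mem (ZClos.dimGe X 2) F x hx
    have hb : Function.Bijective (RefHull.stalkMapₗ (ZClos.rhoApp (ZClos.dimGe X 2) F) x) := hcl
    let e := LinearEquiv.ofBijective (RefHull.stalkMapₗ (ZClos.rhoApp (ZClos.dimGe X 2) F) x) hb
    haveI := hsupp x
    haveI : Nontrivial (((ZClos.H0 (ZClos.dimGe X 2)).obj F).presheaf.stalk x) :=
      e.symm.toEquiv.nontrivial
    haveI : Module.Finite (X.presheaf.stalk x)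
        (((ZClos.H0 (ZClos.dimGe X 2)).obj F).presheaf.stalk x) :=
      Groth.Agent.H1.CohLen.finite_stalk _ hH.2 x
    apply s2_of_dim_le_one hx
    intro hass'
    apply hass x
    exact (LinearEquiv.isAssociatedPrime_iff e).2 hass'

end Groth.Agent.H2.DepthRes
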