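import Mathlib
import Groth.Agent.Lib.Helper2.HomSh5
import Groth.Agent.Lib.Helper1.CohLen
import Groth.Agent.H4.Reflexive3

/-!
# The sheaf Hom into a reflexive module is reflexive (helper2): S16081
-/

set_option autoImplicit false
set_option linter.style.haveILetI false
universe u
open CategoryTheory Limits AlgebraicGeometry TopologicalSpace Opposite

namespace Groth.Agent.H2.RefSch

open Groth.Agent.LD.QC

attribute [-instance] Groth.Agent.LD.QC.stalkModule

variable {X : Scheme.{u}}

/-- **S16081** -/
theorem isReflexive_homSh [IsIntegral X] [IsLocallyNoetherian X] (F G : X.Modules)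
    (hF : Coh.IsCoh F) (hG : Coh.IsCoh G) (hGr : RefHull.IsReflexive G) :
    RefHull.IsReflexive (RefHull.homSh F G) := by
  haveI : F.IsQuasicoherent := hF.1
  haveI : G.IsQuasicoherent := hG.1
  rw [HomSh.isReflexive_iff_stalk (HomSh.isCoh_homSh hF hG)]
  intro x
  have hFP : F.IsFinitePresentation := isFinitePresentation_of_qc_ft F hF.1 hF.2
  haveI : Module.Finite (X.presheaf.stalk x) (F.presheaf.stalk x) :=
    Groth.Agent.H1.CohLen.finite_stalk F hF.2 x
  haveI : Module.Finite (X.presheaf.stalk x) (G.presheaf.stalk x) :=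
    Groth.Agent.H1.CohLen.finite_stalk G hG.2 x
  haveI : Module.IsReflexive (X.presheaf.stalk x) (G.presheaf.stalk x) :=
    (HomSh.isReflexive_iff_stalk hG).mp hGr x
  haveI : Module.IsReflexive (X.presheaf.stalk x) (RefHull.StalkHom F G x) :=
    Groth.Agent.H4.Reflexive.isReflexive_linearMap (X.presheaf.stalk x) (F.presheaf.stalk x)
      (G.presheaf.stalk x)
  let E : (RefHull.homSh F G).presheaf.stalk x ≃ₗ[X.presheaf.stalk x] RefHull.StalkHom F G x :=
    LinearEquiv.ofBijective (RefHull.evalStalk F G x) (HomSh.evalStalk_bijective hFP x)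
  exact Module.equiv E.symm

end Groth.Agent.H2.RefSch
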