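import Mathlib
import Groth.Agent.Lib.Helper2.HomSh5
import Groth.Agent.Lib.Helper2.DepthRes6
import Groth.Agent.Lib.Helper2.DepthRes7
import Groth.Agent.Lib.Helper1.CohLen
import Groth.Agent.Lib.Helper1.ReflFree
import Groth.Agent.Lib.Helper1.Depth2Coh
import Groth.Agent.Lib.Helper6.ReflKer
import Groth.Agent.Lib.Helper6.DepthKer
import Groth.Agent.Lib.Helper6.HomKer

/-!
# Normality of reflexive modules on regular schemes (helper2): S16490
-/

set_option autoImplicit false
set_option linter.style.haveILetI false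
universe u
open CategoryTheory Limits AlgebraicGeometry TopologicalSpace Opposite IsLocalRing

namespace Groth.Agent.H2.RefSch

open Groth.Agent.LD.QC

attribute [-instance] Groth.Agent.LD.QC.stalkModule

section Alg

variable {R : Type u} [CommRing R] [IsLocalRing R] [IsNoetherianRing R]

/-- depth lemma for a kernel -/
theorem two_le_depth_of_exact {M' M M'' : Type u} [AddCommGroup M'] [Module R M']
    [AddCommGroup M] [Module R M] [AddCommGroup M''] [Module R M''] [Module.Finite R M]
    [Module.Finite R M''] (f : M' →ₗ[R] M) (g : M →ₗ[R] M'') (hf : Function.Injective f)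
    (hfg : Function.Exact f g) (h0 : (2 : ℕ∞) ≤ LocCoh.depth R M)
    (h1 : (1 : ℕ∞) ≤ LocCoh.depth R M'') : (2 : ℕ∞) ≤ LocCoh.depth R M' := by
  have hk : LinearMap.range f = LinearMap.ker g := (LinearMap.exact_iff.mp hfg).symm
  let e : M' ≃ₗ[R] LinearMap.ker g := (LinearEquiv.ofInjective f hf).trans (LinearEquiv.ofEq _ _ hk)
  unfold LocCoh.depth at h0 h1 ⊢
  rw [Groth.Agent.H6.HomKer.idealDepth_congr _ e]
  exact Groth.Agent.H6.Depth.two_le_idealDepth_ker (maximalIdeal R) g h0 h1

/-- a torsion-free module over a local domain which is not a field has depth at least one -/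
theorem one_le_depth_of_isTorsionFree [IsDomain R] (hdim : (1 : WithBot ℕ∞) ≤ ringKrullDim R)
    (M : Type u) [AddCommGroup M] [Module R M] [Module.IsTorsionFree R M] :
    (1 : ℕ∞) ≤ LocCoh.depth R M := by
  have hne : maximalIdeal R ≠ ⊥ := by
    intro h0
    have hfield : IsField R := IsLocalRing.isField_iff_maximalIdeal_eq.mpr h0
    have := ringKrullDim_eq_zero_of_isField hfield
    rw [this] at hdim
    exact absurd hdim (by decide)
  obtain ⟨a, ha, ha0⟩ := Submodule.exists_mem_ne_zero_of_ne_bot hne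
  exact Groth.Agent.H1.ReflFree.one_le_depth_of_isSMulRegular R M a ha
    (Module.IsTorsionFree.isSMulRegular (isRegular_of_ne_zero ha0))

/-- a reflexive finite module over a local ring of depth at least two has depth at least two -/
theorem two_le_depth_of_isReflexive (hR : (2 : ℕ∞) ≤ LocCoh.depth R R)
    (M : Type u) [AddCommGroup M] [Module R M] [Module.Finite R M] [Module.IsReflexive R M] :
    (2 : ℕ∞) ≤ LocCoh.depth R M :=
  (Groth.Agent.H6.Refl.reflexive_depth_sk (maximalIdeal R) M).2.1 hR

/-- depth of a regular local ring -/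
theorem two_le_depth_of_regular (A : Type u) [CommRing A] [IsRegularLocalRing A]
    (hdim : (2 : WithBot ℕ∞) ≤ ringKrullDim A) : (2 : ℕ∞) ≤ LocCoh.depth A A := by
  have hcm := Groth.Agent.H1.CMFlat.isCohenMacaulayLocalRing_of_isRegularLocalRing A
  have h := hcm.supportDim_eq_depth
  rw [Module.supportDim_self_eq_ringKrullDim] at h
  rw [h] at hdim
  exact WithBot.coe_le_coe.mp hdim

end Alg

variable {X : Scheme.{u}}

/-- **local form of the depth criterion**: depth at least two on `U ∖ V` gives a bijective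
restriction map -/
theorem res_bijective_of_depth [IsLocallyNoetherian X] (F : X.Modules) (hF : Coh.IsCoh F)
    (U V : X.Opens) (hVU : V ≤ U)
    (hdepth : ∀ x : X, x ∈ U → x ∉ V →
      (2 : ℕ∞) ≤ LocCoh.depth (X.presheaf.stalk x) (F.presheaf.stalk x)) :
    Function.Bijective (F.presheaf.map (homOfLE hVU).op) := by
  haveI := hF.1
  have hGq : ((ZClos.resPush V).obj F).IsQuasicoherent := qc_pushforward V.ι _
  have hb : ∀ x ∈ U, Function.Bijective (RefHull.stalkMapₗ ((ZClos.resPushUnit V).app F) x) := by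
    intro x hxU
    have hcase : ∀ y : X, y ⤳ x →
        Function.Bijective (RefHull.stalkMapₗ ((ZClos.resPushUnit V).app F) y) ∨
        ((2 : ℕ∞) ≤ LocCoh.depth (X.presheaf.stalk y) (F.presheaf.stalk y) ∧
          ¬ Curv2.IsAssPoint ((ZClos.resPush V).obj F) y) := by
      intro y hy
      have hyU : y ∈ U := hy.mem_open U.2 hxU
      by_cases hyV : y ∈ V
      · left
        have := Groth.Agent.H3.ZClosStalk.isIso_stalkFun_unit V F y hyV
        exact (ConcreteCategory.isIso_iff_bijective _).1 this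
      · right
        exact ⟨hdepth y hyU hyV, DepthRes.not_isAssPoint_resPush F V y hyV⟩
    exact ⟨DepthRes.injective_stalkMap_of_depth _ hF hGq x hcase,
      DepthRes.surjective_stalkMap_of_depth _ hF hGq x hcase⟩
  have h1 := DepthRes.bijective_app_of_stalks ((ZClos.resPushUnit V).app F) U
    (fun y hy => (IsoLocus.injective_iff _ y).mp (hb y hy).1)
    (fun y hy => (IsoLocus.surjective_iff _ hF.1 hGq y).mp (hb y hy).2) U le_rfl
  have h2 : Function.Bijective (F.presheaf.map (homOfLE (V.ι.image_preimage_le U)).op) := h1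
  have e : V.ι ''ᵁ V.ι ⁻¹ᵁ U = V := by
    rw [ZClos.ι_image_preimage, inf_eq_left.mpr hVU]
  exact Groth.Agent.H1.Depth2Coh.bijective_res_of_eq F (V.ι.image_preimage_le U) hVU rfl e h2

/-- **S16490** -/
theorem s16490 [IsIntegral X] [IsLocallyNoetherian X]
    (hreg : ∀ x : X, IsRegularLocalRing (X.presheaf.stalk x)) (S : ShortComplex X.Modules)
    (hS : S.ShortExact) (hF : Coh.IsCoh S.X₁) (hE : Coh.IsCoh S.X₂) (hQ : Coh.IsCoh S.X₃)
    (hErefl : RefHull.IsReflexive S.X₂) (hQtf : TorSh.IsTorsionFree S.X₃)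
    (U V : X.Opens) (hVU : V ≤ U)
    (hdim : ∀ x : X, x ∈ U → x ∉ V → (2 : WithBot ℕ∞) ≤ ringKrullDim (X.presheaf.stalk x)) :
    Function.Bijective (S.X₁.presheaf.map (homOfLE hVU).op) := by
  apply res_bijective_of_depth S.X₁ hF U V hVU
  intro x hxU hxV
  have hd := hdim x hxU hxV
  haveI := hreg x
  haveI : S.X₂.IsQuasicoherent := hE.1
  haveI : S.X₃.IsQuasicoherent := hQ.1
  haveI : Module.Finite (X.presheaf.stalk x) (S.X₂.presheaf.stalk x) :=
    Groth.Agent.H1.CohLen.finite_stalk S.X₂ hE.2 x
  haveI : Module.Finite (X.presheaf.stalk x) (S.X₃.presheaf.stalk x) :=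
    Groth.Agent.H1.CohLen.finite_stalk S.X₃ hQ.2 x
  haveI : Module.IsReflexive (X.presheaf.stalk x) (S.X₂.presheaf.stalk x) :=
    (HomSh.isReflexive_iff_stalk hE).mp hErefl x
  haveI := hQtf x
  haveI := hS.mono_f
  have hR := two_le_depth_of_regular (X.presheaf.stalk x) hd
  have h1le : (1 : WithBot ℕ∞) ≤ ringKrullDim (X.presheaf.stalk x) :=
    le_trans (by decide) hd
  exact two_le_depth_of_exact (Groth.Agent.H1.CohLen.stalkLin S.f x)
    (Groth.Agent.H1.CohLen.stalkLin S.g x)
    (Groth.Agent.H1.CohLen.stalkFun_injective_of_mono S.f x)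
    (Groth.Agent.H1.CohLen.stalkFun_exact S hS x)
    (two_le_depth_of_isReflexive hR _) (one_le_depth_of_isTorsionFree h1le _)

end Groth.Agent.H2.RefSch
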