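import Mathlib
import Groth.Agent.Lib.Helper2.RefSch3
import Groth.Agent.Lib.Helper2.RefSch4
import Groth.Agent.Lib.Helper2.DepthRes8

/-!
# Reflexive = torsion-free + normal on regular schemes (helper2): S16489
-/

set_option autoImplicit false
set_option linter.style.haveILetI false
universe u
open CategoryTheory Limits AlgebraicGeometry TopologicalSpace Opposite IsLocalRing

namespace Groth.Agent.H2.RefSch

open Groth.Agent.LD.QC

attribute [-instance] Groth.Agent.LD.QC.stalkModule

variable {X : Scheme.{u}}

/-- the structure sheaf is reflexive -/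
theorem isReflexive_structureModule (X : Scheme.{u}) [IsLocallyNoetherian X] :
    RefHull.IsReflexive (Coh.structureModule X) := by
  rw [HomSh.isReflexive_iff_stalk (HomSh.isCoh_structureModule X)]
  intro x
  exact Module.equiv (HomSh.unitStalkEquiv x)

/-- the reflexive hull is reflexive -/
theorem isReflexive_ddual [IsIntegral X] [IsLocallyNoetherian X] (F : X.Modules)
    (hF : Coh.IsCoh F) : RefHull.IsReflexive (RefHull.ddual F) :=
  isReflexive_homSh _ _ (HomSh.isCoh_dual hF) (HomSh.isCoh_structureModule X)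
    (isReflexive_structureModule X)

/-- the dual is reflexive -/
theorem isReflexive_dual [IsIntegral X] [IsLocallyNoetherian X] (F : X.Modules)
    (hF : Coh.IsCoh F) : RefHull.IsReflexive (RefHull.dual F) :=
  isReflexive_homSh _ _ hF (HomSh.isCoh_structureModule X) (isReflexive_structureModule X)

/-- a reflexive coherent module on a regular scheme is normal -/
theorem normal_of_isReflexive [IsLocallyNoetherian X]
    (hreg : ∀ x : X, IsRegularLocalRing (X.presheaf.stalk x)) (F : X.Modules) (hF : Coh.IsCoh F)
    (hrefl : RefHull.IsReflexive F) (U V : X.Opens) (hVU : V ≤ U)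
    (hdim : ∀ x : X, x ∈ U → x ∉ V → (2 : WithBot ℕ∞) ≤ ringKrullDim (X.presheaf.stalk x)) :
    Function.Bijective (F.presheaf.map (homOfLE hVU).op) := by
  apply res_bijective_of_depth F hF U V hVU
  intro x hxU hxV
  haveI := hreg x
  haveI : F.IsQuasicoherent := hF.1
  haveI : Module.Finite (X.presheaf.stalk x) (F.presheaf.stalk x) :=
    Groth.Agent.H1.CohLen.finite_stalk F hF.2 x
  haveI : Module.IsReflexive (X.presheaf.stalk x) (F.presheaf.stalk x) :=
    (HomSh.isReflexive_iff_stalk hF).mp hrefl x
  exact two_le_depth_of_isReflexive (two_le_depth_of_regular _ (hdim x hxU hxV)) _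

/-- **S16489** -/
theorem s16489 [IsIntegral X] [IsLocallyNoetherian X]
    (hreg : ∀ x : X, IsRegularLocalRing (X.presheaf.stalk x)) (F : X.Modules) (hF : Coh.IsCoh F) :
    RefHull.IsReflexive F ↔
      TorSh.IsTorsionFree F ∧
      (∀ (U V : X.Opens) (hVU : V ≤ U),
        (∀ x : X, x ∈ U → x ∉ V → (2 : WithBot ℕ∞) ≤ ringKrullDim (X.presheaf.stalk x)) →
        Function.Bijective (F.presheaf.map (homOfLE hVU).op)) := by
  haveI : F.IsQuasicoherent := hF.1
  constructor
  · intro hrefl
    refine ⟨fun x => ?_, fun U V hVU hdim => normal_of_isReflexive hreg F hF hrefl U V hVU hdim⟩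
    haveI : Module.IsReflexive (X.presheaf.stalk x) (F.presheaf.stalk x) :=
      (HomSh.isReflexive_iff_stalk hF).mp hrefl x
    infer_instance
  · rintro ⟨htf, hnorm⟩
    have hG := HomSh.isCoh_ddual hF
    haveI : (RefHull.ddual F).IsQuasicoherent := hG.1
    have hGnorm := normal_of_isReflexive hreg (RefHull.ddual F) hG (isReflexive_ddual F hF)
    set φ := RefHull.bidualMap F with hφ
    have hK : (kernel φ).IsQuasicoherent := qc_kernel φ hF.1 hG.1
    have hC : (cokernel φ).IsQuasicoherent := qc_cokernel φ hF.1 hG.1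
    have hKft : (kernel φ).IsFiniteType := isFiniteType_of_mono (kernel.ι φ) hK hF.1 hF.2
    have hCft : (cokernel φ).IsFiniteType := isFiniteType_of_epi (cokernel.π φ) hG.1 hC hG.2
    have h1 := isClosed_support_of_isFiniteType (kernel φ) hKft
    have h2 := isClosed_support_of_isFiniteType (cokernel φ) hCft
    -- the good open set
    let W : X.Opens := ⟨({x : X | ¬ Subsingleton ((kernel φ).presheaf.stalk x)} ∪
      {x : X | ¬ Subsingleton ((cokernel φ).presheaf.stalk x)})ᶜ, (h1.union h2).isOpen_compl⟩
    have hWmem : ∀ x : X, x ∉ W → (2 : WithBot ℕ∞) ≤ ringKrullDim (X.presheaf.stalk x) := by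
      intro x hx
      by_contra hdim
      apply hx
      have hd1 := DepthRes.le_one_of_not_two_le _ hdim
      haveI := hreg x
      haveI : Module.Finite (X.presheaf.stalk x) (F.presheaf.stalk x) :=
        Groth.Agent.H1.CohLen.finite_stalk F hF.2 x
      haveI := htf x
      haveI : NoZeroSMulDivisors (X.presheaf.stalk x) (F.presheaf.stalk x) :=
        ⟨fun h => smul_eq_zero.mp h⟩
      haveI : Module.Free (X.presheaf.stalk x) (F.presheaf.stalk x) :=
        Groth.Agent.H1.ReflFree.free_of_noZeroSMulDivisors (X.presheaf.stalk x) hd1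
          (F.presheaf.stalk x)
      have hr : RefHull.IsReflexiveAt F x :=
        (inferInstance : Module.IsReflexive (X.presheaf.stalk x) (F.presheaf.stalk x))
      have hb := (HomSh.stalkMap_bidualMap_bijective_iff hF x).mpr hr
      change x ∈ ({x : X | ¬ Subsingleton ((kernel φ).presheaf.stalk x)} ∪
        {x : X | ¬ Subsingleton ((cokernel φ).presheaf.stalk x)})ᶜ
      rw [Set.mem_compl_iff, Set.mem_union, not_or]
      exact ⟨not_not.mpr ((IsoLocus.injective_iff φ x).mp hb.1),
        not_not.mpr ((IsoLocus.surjective_iff φ hF.1 hG.1 x).mp hb.2)⟩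
    have hWK : ∀ y ∈ W, Subsingleton ((kernel φ).presheaf.stalk y) := by
      intro y hy
      by_contra hcon
      exact hy (Or.inl hcon)
    have hWC : ∀ y ∈ W, Subsingleton ((cokernel φ).presheaf.stalk y) := by
      intro y hy
      by_contra hcon
      exact hy (Or.inr hcon)
    unfold RefHull.IsReflexive
    apply isIso_of_bijective_app
    intro U
    have hVU : U ⊓ W ≤ U := inf_le_left
    have hdimU : ∀ x : X, x ∈ U → x ∉ U ⊓ W →
        (2 : WithBot ℕ∞) ≤ ringKrullDim (X.presheaf.stalk x) :=
      fun x hxU hxn => hWmem x (fun hxW => hxn ⟨hxU, hxW⟩)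
    have hF1 := hnorm U (U ⊓ W) hVU hdimU
    have hG1 := hGnorm U (U ⊓ W) hVU hdimU
    have hφV := DepthRes.bijective_app_of_stalks φ W hWK hWC (U ⊓ W) inf_le_right
    have hnat : ∀ s : Γ(F, U), (RefHull.ddual F).presheaf.map (homOfLE hVU).op (φ.app U s) =
        φ.app (U ⊓ W) (F.presheaf.map (homOfLE hVU).op s) := fun s => (app_res φ hVU s).symm
    constructor
    · intro s t hst
      apply hF1.1
      apply hφV.1
      rw [← hnat, ← hnat, hst]
    · intro g
      obtain ⟨t, ht⟩ := hφV.2 ((RefHull.ddual F).presheaf.map (homOfLE hVU).op g)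
      obtain ⟨s, rfl⟩ := hF1.2 t
      refine ⟨s, hG1.1 ?_⟩
      rw [hnat, ht]

end Groth.Agent.H2.RefSch
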