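import Mathlib
import Groth.Agent.H4.TFDual2
import Groth.Agent.Lib.Helper6.ReflOne

/-! A finite reflexive module of rank one over a GCD domain is free of rank one. -/

universe u
set_option autoImplicit false

namespace Groth.Agent.H2.RankOneUFD

variable (R : Type u) [CommRing R] [IsDomain R] (M : Type u) [AddCommGroup M] [Module R M]
  [Module.Finite R M]

/-- a rank one frame -/
theorem exists_frame_one (h1 : Module.finrank R M = 1) :
    ∃ (m₀ : M) (l₀ : Module.Dual R M) (c : R), c ≠ 0 ∧ (∀ x : M, c • x = l₀ x • m₀) ∧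
      l₀ m₀ = c := by
  obtain ⟨m, l, c, hc0, -, hsum, hδ⟩ := Groth.Agent.H4.TFDual2.exists_fin_frame R M
  haveI : Unique (Fin (Module.finrank R M)) := h1 ▸ (inferInstance : Unique (Fin 1))
  refine ⟨m default, l default, c, hc0, fun x => ?_, ?_⟩
  · rw [hsum x, Fintype.sum_unique]
  · rw [hδ default default, if_pos rfl]

variable [IsGCDMonoid R]

/-- the dual of a finite module of rank one over a GCD domain is generated by one element -/
theorem exists_dual_generator (h1 : Module.finrank R M = 1) :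
    ∃ (φ₀ : Module.Dual R M) (m₀ : M), φ₀ m₀ ≠ 0 ∧ ∀ φ : Module.Dual R M, ∃ a : R, φ = a • φ₀ := by
  classical
  let _ : NormalizedGCDMonoid R := Classical.arbitrary _
  obtain ⟨m₀, l₀, c, hc0, hc, hlm⟩ := exists_frame_one R M h1
  obtain ⟨S, hS⟩ := (Module.Finite.fg_top : (⊤ : Submodule R M).FG)
  set d : R := S.gcd (fun s => l₀ s) with hd
  have hdvd : ∀ x : M, d ∣ l₀ x := by
    intro x
    have hx : x ∈ Submodule.span R (S : Set M) := by rw [hS]; trivial
    induction hx using Submodule.span_induction with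
    | mem y hy => exact Finset.gcd_dvd hy
    | zero => rw [map_zero]; exact dvd_zero _
    | add y z _ _ hy hz => rw [map_add]; exact dvd_add hy hz
    | smul a y _ hy => rw [map_smul, smul_eq_mul]; exact dvd_mul_of_dvd_right hy _
  have hd0 : d ≠ 0 := by
    intro h0
    have := hdvd m₀
    rw [hlm, h0, zero_dvd_iff] at this
    exact hc0 this
  obtain ⟨φ₀, hφ₀⟩ := Groth.Agent.H6.ReflOne.exists_div_map (S := R) (A := M) (B := R) d
    (fun b hb => by
      rw [smul_eq_mul] at hb
      exact (mul_eq_zero.mp hb).resolve_left hd0) l₀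
    (fun a => by
      obtain ⟨b, hb⟩ := hdvd a
      exact ⟨b, by rw [smul_eq_mul, hb]⟩)
  have hφ₀' : ∀ x, d * φ₀ x = l₀ x := fun x => by rw [← smul_eq_mul]; exact hφ₀ x
  set g : R := S.gcd (fun s => φ₀ s) with hg
  have hgu : IsUnit g := by
    have h1 : Associated (S.gcd fun s => d * φ₀ s) (d * g) := Finset.gcd_mul_left' _ _ d
    have h2 : (S.gcd fun s => d * φ₀ s) = d := by
      rw [hd]
      congr 1
      funext s
      exact hφ₀' s
    rw [h2] at h1
    obtain ⟨u, hu⟩ := h1
    have : (u : R) = g := by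
      have h3 : d * u = d * g := hu
      exact mul_left_cancel₀ hd0 h3
    rw [← this]
    exact u.isUnit
  set c' : R := φ₀ m₀ with hc'
  have hdc' : d * c' = c := by rw [hc', hφ₀', hlm]
  have hc'0 : c' ≠ 0 := by
    intro h0
    rw [h0, mul_zero] at hdc'
    exact hc0 hdc'.symm
  refine ⟨φ₀, m₀, hc'0, fun φ => ?_⟩
  have hrel : ∀ x : M, c' * φ x = φ₀ x * φ m₀ := by
    intro x
    apply mul_left_cancel₀ hd0
    have h1 : φ (c • x) = φ (l₀ x • m₀) := by rw [hc x]
    rw [map_smul, map_smul, smul_eq_mul, smul_eq_mul] at h1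
    rw [← mul_assoc, hdc', h1, ← hφ₀' x, mul_assoc]
  have hdiv : c' ∣ φ m₀ := by
    have h1 : c' ∣ S.gcd (fun s => φ₀ s * φ m₀) :=
      Finset.dvd_gcd fun s _ => Dvd.intro _ (hrel s)
    have h2 : Associated (S.gcd fun s => φ₀ s * φ m₀) (g * φ m₀) := Finset.gcd_mul_right' _ _ (φ m₀)
    have h3 : c' ∣ g * φ m₀ := h1.trans h2.dvd
    exact (hgu.dvd_mul_left).mp h3
  obtain ⟨a, ha⟩ := hdiv
  refine ⟨a, ?_⟩
  ext x
  apply mul_left_cancel₀ hc'0
  rw [hrel x, ha, LinearMap.smul_apply, smul_eq_mul]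
  ring

/-- the dual of a finite module of rank one over a GCD domain is free of rank one -/
theorem nonempty_dual_equiv (h1 : Module.finrank R M = 1) :
    Nonempty (Module.Dual R M ≃ₗ[R] R) := by
  obtain ⟨φ₀, m₀, h0, hgen⟩ := exists_dual_generator R M h1
  have hbij : Function.Bijective (LinearMap.toSpanSingleton R (Module.Dual R M) φ₀) := by
    constructor
    · rw [← LinearMap.ker_eq_bot, LinearMap.ker_eq_bot']
      intro a ha
      rw [LinearMap.toSpanSingleton_apply] at ha
      have := LinearMap.congr_fun ha m₀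
      rw [LinearMap.smul_apply, smul_eq_mul, LinearMap.zero_apply] at this
      exact (mul_eq_zero.mp this).resolve_right h0
    · intro φ
      obtain ⟨a, ha⟩ := hgen φ
      exact ⟨a, by rw [LinearMap.toSpanSingleton_apply, ha]⟩
  exact ⟨(LinearEquiv.ofBijective _ hbij).symm⟩

/-- a finite reflexive module of rank one over a GCD domain is free of rank one -/
theorem nonempty_equiv_of_isReflexive [Module.IsReflexive R M] (h1 : Module.finrank R M = 1) :
    Nonempty (M ≃ₗ[R] R) := by
  obtain ⟨e⟩ := nonempty_dual_equiv R M h1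
  exact ⟨Module.evalEquiv R M ≪≫ₗ e.symm.dualMap ≪≫ₗ LinearMap.ringLmapEquivSelf R R R⟩

end Groth.Agent.H2.RankOneUFD
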