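import Mathlib
import Groth.Agent.Lib.Helper2.PicCodim2
import Groth.Agent.Lib.Helper2.DepthRes8
import Groth.Agent.Lib.Helper6.ZClosedDepth
import Groth.Agent.Lib.Helper2.RankOneUFD

/-! Module-theoretic core of S16084: the non-generating locus of a section of a rank one
torsion-free module over a normal domain has pure codimension one. -/

universe u
set_option autoImplicit false
open IsLocalRing

namespace Groth.Agent.H2.CodimOne

variable {R : Type u} [CommRing R] [IsLocalRing R] [IsNoetherianRing R] [IsDomain R]

/-- over a local domain of depth at least two, `m w ⊆ R v` forces `w ∈ R v`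
(`M` torsion free). -/
theorem mem_span_of_maximalIdeal_smul (hdepth : (2 : ℕ∞) ≤ LocCoh.depth R R)
    {M : Type u} [AddCommGroup M] [Module R M] [Module.IsTorsionFree R M] (v : M) (hv : v ≠ 0)
    (w : M) (hw : ∀ r ∈ maximalIdeal R, r • w ∈ Submodule.span R {v}) :
    w ∈ Submodule.span R {v} := by
  obtain ⟨a, ha, b, hb, hreg, hab⟩ :=
    Groth.Agent.H6.ZCl.exists_regular_pair (maximalIdeal R) R hdepth
  obtain ⟨α, hα⟩ := Submodule.mem_span_singleton.mp (hw a ha)
  obtain ⟨β, hβ⟩ := Submodule.mem_span_singleton.mp (hw b hb)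
  have ha0 : a ≠ 0 := by
    rintro rfl
    have := hreg (show (0 : R) • (1 : R) = (0 : R) • (0 : R) by simp)
    exact one_ne_zero this
  have h1 : (b * α - a * β) • v = 0 := by
    rw [sub_smul, mul_smul, mul_smul, hα, hβ, smul_comm, sub_self]
  have h2 : b * α = a * β := by
    rcases smul_eq_zero.mp h1 with h | h
    · exact sub_eq_zero.mp h
    · exact absurd h hv
  obtain ⟨c, hc⟩ := hab α β (by rw [smul_eq_mul, smul_eq_mul, h2])
  have h3 : a • (w - c • v) = 0 := by
    rw [smul_sub, ← hα, hc, smul_eq_mul, mul_smul, sub_self]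
  have h4 : w = c • v := by
    rcases smul_eq_zero.mp h3 with h | h
    · exact absurd h ha0
    · exact sub_eq_zero.mp h
  rw [h4]
  exact Submodule.smul_mem _ _ (Submodule.mem_span_singleton_self v)

theorem mem_span_of_pow_smul (hdepth : (2 : ℕ∞) ≤ LocCoh.depth R R)
    {M : Type u} [AddCommGroup M] [Module R M] [Module.IsTorsionFree R M] (v : M) (hv : v ≠ 0)
    (n : ℕ) : ∀ w : M, (∀ r ∈ maximalIdeal R ^ n, r • w ∈ Submodule.span R {v}) →
      w ∈ Submodule.span R {v} := by
  induction n with
  | zero =>
    intro w hw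
    have := hw 1 (by rw [pow_zero, Ideal.one_eq_top]; trivial)
    rwa [one_smul] at this
  | succ n ih =>
    intro w hw
    apply mem_span_of_maximalIdeal_smul hdepth v hv w
    intro s hs
    apply ih
    intro r hr
    rw [← mul_smul]
    exact hw _ (by rw [pow_succ]; exact Ideal.mul_mem_mul hr hs)

/-- the core statement -/
theorem ringKrullDim_eq_one [IsIntegrallyClosed R]
    (M : Type u) [AddCommGroup M] [Module R M] [Module.Finite R M] [Module.IsTorsionFree R M]
    (h1 : Module.finrank R M = 1) (v : M) (hv : v ≠ 0)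
    (hns : Submodule.span R {v} ≠ ⊤)
    (hloc : ∀ q : Ideal R, q.IsPrime → q ≠ maximalIdeal R →
      ∀ w : M, ∃ a : R, a ∉ q ∧ a • w ∈ Submodule.span R {v}) :
    ringKrullDim R = 1 := by
  classical
  -- `R` is not a field
  have hnf : ¬ IsField R := by
    intro hf
    apply hns
    obtain ⟨m₀, l₀, c, hc0, hc, hlm⟩ := Groth.Agent.H2.RankOneUFD.exists_frame_one R M h1
    have hunit : ∀ r : R, r ≠ 0 → IsUnit r := fun r hr => by
      obtain ⟨s, hs⟩ := hf.mul_inv_cancel hr
      exact IsUnit.of_mul_eq_one _ hs
    have hcv : c • v ≠ 0 := fun h => (smul_eq_zero.mp h).elim hc0 hv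
    have hl0 : l₀ v ≠ 0 := by
      intro h0
      apply hcv
      rw [hc v, h0, zero_smul]
    obtain ⟨u, hu⟩ := hunit _ hl0
    obtain ⟨uc, huc⟩ := hunit _ hc0
    have hm₀ : m₀ ∈ Submodule.span R {v} := by
      have : m₀ = (↑u⁻¹ * c) • v := by
        rw [mul_smul, hc v, ← hu, smul_smul, Units.inv_mul, one_smul]
      rw [this]
      exact Submodule.smul_mem _ _ (Submodule.mem_span_singleton_self v)
    rw [eq_top_iff]
    intro x _
    have : x = (↑uc⁻¹ * l₀ x) • m₀ := by
      rw [mul_smul, ← hc x, ← huc, smul_smul, Units.inv_mul, one_smul]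
    rw [this]
    exact Submodule.smul_mem _ _ hm₀
  -- dimension at least two is impossible
  have hn2 : ¬ (2 : WithBot ℕ∞) ≤ ringKrullDim R := by
    intro hdim
    have hdepth := Groth.Agent.H2.PicCodim2.two_le_depth_of_normal R hdim
    apply hns
    set N := Submodule.span R {v} with hN
    set I : Ideal R := N.colon (⊤ : Submodule R M) with hI
    have hrad : maximalIdeal R ≤ I.radical := by
      rw [Ideal.radical_eq_sInf]
      refine le_sInf ?_
      rintro q ⟨hIq, hq⟩
      by_contra hmq
      have hqm : q ≠ maximalIdeal R := fun h => hmq (h ▸ le_rfl)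
      obtain ⟨S, hS⟩ := (Module.Finite.fg_top : (⊤ : Submodule R M).FG)
      choose a ha using hloc q hq hqm
      have hprod : ∏ w ∈ S, a w ∉ q := by
        intro hmem
        obtain ⟨w, -, hw⟩ := (hq.prod_mem_iff).mp hmem
        exact (ha w).1 hw
      apply hprod
      apply hIq
      rw [hI, Submodule.mem_colon]
      intro x hxtop
      clear hxtop
      have hx : x ∈ Submodule.span R (S : Set M) := by rw [hS]; trivial
      induction hx using Submodule.span_induction with
      | mem y hy =>
        rw [← Finset.mul_prod_erase S a hy, mul_comm, mul_smul]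
        exact Submodule.smul_mem _ _ (ha y).2
      | zero => rw [smul_zero]; exact Submodule.zero_mem _
      | add y z _ _ hy hz => rw [smul_add]; exact Submodule.add_mem _ hy hz
      | smul b y _ hy => rw [smul_comm]; exact Submodule.smul_mem _ _ hy
    obtain ⟨n, hn⟩ := Ideal.exists_pow_le_of_le_radical_of_fg hrad
      (IsNoetherian.noetherian (maximalIdeal R))
    rw [eq_top_iff]
    intro w _
    apply mem_span_of_pow_smul hdepth v hv n w
    intro r hr
    have := hn hr
    rw [hI, Submodule.mem_colon] at this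
    exact this w trivial
  by_contra hne
  have h0 := Groth.Agent.H2.DepthRes.le_zero_of_not_two_le _ hn2 hne
  haveI : Ring.KrullDimLE 0 R := (Ring.krullDimLE_iff).mpr h0
  exact hnf Ring.KrullDimLE.isField_of_isDomain

end Groth.Agent.H2.CodimOne
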