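import Mathlib
import Groth.Agent.Lib.Lead.QC.LocFree2
import Groth.Agent.Lib.Lead.QC.FiniteFree
import Groth.Prelude.Def_RefHull

/-! Ranks of stalks of quasi-coherent modules on integral schemes. -/

universe u
set_option autoImplicit false
open CategoryTheory Limits AlgebraicGeometry TopologicalSpace Opposite

namespace Groth.Agent.H2.RankStalk
open Groth.Agent.LD.QC

variable {X : Scheme.{u}}

/-- the rank of the stalk is the rank of the sections over an affine open (integral case). -/
theorem finrank_stalk_eq [IsIntegral X] (F : X.Modules) [F.IsQuasicoherent] {U : X.Opens}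
    (hU : IsAffineOpen U) (x : X) (hx : x ∈ U) :
    Module.finrank (X.presheaf.stalk x) (F.presheaf.stalk x) =
      Module.finrank Γ(X, U) Γ(F, U) := by
  haveI : Nonempty U := ⟨⟨x, hx⟩⟩
  letI := stalkΓModule F x U hx
  haveI := isLocalizedModule_germ F hU x hx
  letI : Algebra Γ(X, U) (X.presheaf.stalk x) :=
    TopCat.Presheaf.algebra_section_stalk X.presheaf ⟨x, hx⟩
  haveI := hU.isLocalization_stalk ⟨x, hx⟩
  haveI : IsScalarTower Γ(X, U) (X.presheaf.stalk x) (F.presheaf.stalk x) :=
    IsScalarTower.of_algebraMap_smul fun r m => rfl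
  have hp : (hU.primeIdealOf ⟨x, hx⟩).asIdeal.primeCompl ≤ nonZeroDivisors Γ(X, U) := by
    intro r hr
    exact mem_nonZeroDivisors_of_ne_zero (fun h0 => hr (h0 ▸ Ideal.zero_mem _))
  rw [IsLocalization.finrank_eq (X.presheaf.stalk x) _ hp,
    IsLocalizedModule.finrank_eq _ (germLinear F x U hx) hp]

/-- rank of sections of a module free of rank `n` on a neighbourhood. -/
theorem finrank_sections_of_iso_freeMod (F : X.Modules) [F.IsQuasicoherent] (V : X.Opens) (n : ℕ)
    (e : F.restrict V.ι ≅ freeMod V n) {U : X.Opens} (hU : IsAffineOpen U) (hUV : U ≤ V)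
    [Nontrivial Γ(X, U)] : Module.finrank Γ(X, U) Γ(F, U) = n := by
  have hr : Set.range hU.fromSpec ⊆ Set.range V.ι := by
    rw [hU.range_fromSpec, Scheme.Opens.range_ι]; exact hUV
  have h1 := freeMod_of_range_subset F V.ι hU.fromSpec hr n e
  obtain ⟨ℓ⟩ := (restrict_fromSpec_iso_freeMod_iff F hU n).mp h1
  rw [ℓ.finrank_eq, Module.finrank_fin_fun]

/-- the stalk of a module free of rank `n` near `x` has rank `n`. -/
theorem finrank_stalk_of_iso_freeMod [IsIntegral X] (F : X.Modules) [F.IsQuasicoherent]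
    (V : X.Opens) (n : ℕ) (e : F.restrict V.ι ≅ freeMod V n) (x : X) (hx : x ∈ V) :
    Module.finrank (X.presheaf.stalk x) (F.presheaf.stalk x) = n := by
  obtain ⟨U, hU, hxU, hUV⟩ := exists_isAffineOpen_mem_and_subset (x := x) (U := V) hx
  haveI : Nonempty U := ⟨⟨x, hxU⟩⟩
  rw [finrank_stalk_eq F hU x hxU, finrank_sections_of_iso_freeMod F V n e hU hUV]

/-- the generic point lies in every dense open. -/
theorem genericPoint_mem_of_dense [IsIntegral X] (U : X.Opens) (hU : Dense (U : Set X)) :
    genericPoint X ∈ U := by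
  have h := (genericPoint_spec X).mem_open_set_iff U.2
  refine h.mpr ?_
  rw [Set.univ_inter]
  exact hU.nonempty

/-- the rank of the generic stalk of a generically invertible module is one. -/
theorem finrank_generic_stalk [IsIntegral X] (F : X.Modules) [F.IsQuasicoherent]
    (hrk : RefHull.GenInvertible F) :
    Module.finrank (X.presheaf.stalk (genericPoint X)) (F.presheaf.stalk (genericPoint X)) = 1 := by
  obtain ⟨U₀, hdense, hinv⟩ := hrk
  have hη : genericPoint X ∈ U₀ := genericPoint_mem_of_dense U₀ hdense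
  obtain ⟨W, hyW, ⟨e⟩⟩ := (isInvertible_iff _).mp hinv ⟨genericPoint X, hη⟩
  let e2 : F.restrict (W.ι ≫ U₀.ι) ≅ freeMod W 1 :=
    (Scheme.Modules.restrictFunctorComp W.ι U₀.ι).app F ≪≫ e
  have hsub : Set.range (U₀.ι ''ᵁ W).ι ⊆ Set.range (W.ι ≫ U₀.ι) := by
    rw [Scheme.Opens.range_ι]
    rintro _ ⟨w, hw, rfl⟩
    exact ⟨⟨w, hw⟩, rfl⟩
  obtain ⟨e3⟩ := freeMod_of_range_subset F (W.ι ≫ U₀.ι) (U₀.ι ''ᵁ W).ι hsub 1 e2
  exact finrank_stalk_of_iso_freeMod F (U₀.ι ''ᵁ W) 1 e3 (genericPoint X)
    ⟨⟨genericPoint X, hη⟩, hyW, rfl⟩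

/-- all stalks of a generically invertible quasi-coherent module on an integral scheme have rank
one. -/
theorem finrank_stalk_eq_one [IsIntegral X] (F : X.Modules) [F.IsQuasicoherent]
    (hrk : RefHull.GenInvertible F) (x : X) :
    Module.finrank (X.presheaf.stalk x) (F.presheaf.stalk x) = 1 := by
  obtain ⟨U, hU, hxU, -⟩ := exists_isAffineOpen_mem_and_subset (x := x) (U := ⊤) trivial
  have hηU : genericPoint X ∈ U := by
    have h := (genericPoint_spec X).mem_open_set_iff U.2
    refine h.mpr ?_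
    rw [Set.univ_inter]
    exact ⟨x, hxU⟩
  rw [finrank_stalk_eq F hU x hxU, ← finrank_stalk_eq F hU (genericPoint X) hηU]
  exact finrank_generic_stalk F hrk

end Groth.Agent.H2.RankStalk
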