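import Mathlib
import Groth.Agent.Lib.Lead.QC.LocFree
import Groth.Agent.Lib.Helper1.StalkGen
import Groth.Prelude.Def_FlatMod2
import Groth.Prelude.Def_MeroDiv

/-! The stalk of a quasi-coherent module at a generization is the localization of the stalk. -/

universe u
set_option autoImplicit false
open CategoryTheory Limits AlgebraicGeometry TopologicalSpace Opposite

namespace Groth.Agent.H2.StalkSpec
open Groth.Agent.LD.QC Groth.Agent.H1.StalkGen

attribute [-instance] Groth.Agent.LD.QC.stalkModule

variable {X : Scheme.{u}}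

/-- `O_{X,x}`-module structure on the stalk at a generization `z` of `x`. -/
noncomputable abbrev specModule (F : X.Modules) {x z : X} (h : z ⤳ x) :
    Module (X.presheaf.stalk x) (F.presheaf.stalk z) :=
  Module.compHom (F.presheaf.stalk z) (X.presheaf.stalkSpecializes h).hom

theorem stalkSpecializes_germ (F : X.Modules) {x z : X} (h : z ⤳ x) (U : X.Opens) (hx : x ∈ U)
    (m : Γ(F, U)) :
    (F.presheaf.stalkSpecializes h).hom (F.presheaf.germ U x hx m) =
      F.presheaf.germ U z (h.mem_open U.2 hx) m := by
  have := TopCat.Presheaf.germ_stalkSpecializes F.presheaf hx h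
  exact congrArg (fun f => f.hom m) this

theorem stalkSpecializes_sgerm {x z : X} (h : z ⤳ x) (U : X.Opens) (hx : x ∈ U)
    (r : Γ(X, U)) :
    (X.presheaf.stalkSpecializes h).hom (X.presheaf.germ U x hx r) =
      X.presheaf.germ U z (h.mem_open U.2 hx) r := by
  have := TopCat.Presheaf.germ_stalkSpecializes X.presheaf hx h
  exact congrArg (fun f => f.hom r) this

theorem stalkSpecializes_smul (F : X.Modules) {x z : X} (h : z ⤳ x) (a : X.presheaf.stalk x)
    (m : F.presheaf.stalk x) :
    (F.presheaf.stalkSpecializes h).hom (a • m) =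
      (X.presheaf.stalkSpecializes h).hom a • (F.presheaf.stalkSpecializes h).hom m := by
  obtain ⟨Ua, ha, r, rfl⟩ := TopCat.Presheaf.exists_germ_eq X.presheaf a
  obtain ⟨Um, hm, n, rfl⟩ := TopCat.Presheaf.exists_germ_eq F.presheaf m
  have hxW : x ∈ Ua ⊓ Um := ⟨ha, hm⟩
  rw [← sgerm_res x (inf_le_left : Ua ⊓ Um ≤ Ua) hxW r,
    ← germ_res F x (inf_le_right : Ua ⊓ Um ≤ Um) hxW n, ← Mero.germ_smul, stalkSpecializes_germ,
    stalkSpecializes_sgerm, stalkSpecializes_germ, Mero.germ_smul]

/-- the specialization map of stalks as a linear map over the local ring of the special point. -/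
noncomputable def specLinear (F : X.Modules) {x z : X} (h : z ⤳ x) :
    letI := specModule F h
    F.presheaf.stalk x →ₗ[X.presheaf.stalk x] F.presheaf.stalk z :=
  letI := specModule F h
  { toFun := fun m => (F.presheaf.stalkSpecializes h).hom m
    map_add' := fun a b => map_add _ a b
    map_smul' := fun a m => stalkSpecializes_smul F h a m }

theorem specLinear_apply (F : X.Modules) {x z : X} (h : z ⤳ x) (m : F.presheaf.stalk x) :
    specLinear F h m = (F.presheaf.stalkSpecializes h).hom m := rfl

/-- **the stalk at a generization is the localization of the stalk** -/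
theorem isLocalizedModule_specLinear (F : X.Modules) [F.IsQuasicoherent] {x z : X} (h : z ⤳ x) :
    letI := specModule F h
    IsLocalizedModule (primeOf h).asIdeal.primeCompl (specLinear F h) := by
  letI := specModule F h
  letI algxz : Algebra (X.presheaf.stalk x) (X.presheaf.stalk z) :=
    (X.presheaf.stalkSpecializes h).hom.toAlgebra
  haveI hloc := isLocalization_stalkSpecializes h
  obtain ⟨U, hU, hxU, -⟩ := exists_isAffineOpen_mem_and_subset (x := x) (U := ⊤) trivial
  have hzU : z ∈ U := h.mem_open U.2 hxU
  letI algx : Algebra Γ(X, U) (X.presheaf.stalk x) :=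
    TopCat.Presheaf.algebra_section_stalk X.presheaf ⟨x, hxU⟩
  letI algz : Algebra Γ(X, U) (X.presheaf.stalk z) :=
    TopCat.Presheaf.algebra_section_stalk X.presheaf ⟨z, hzU⟩
  haveI hlx := hU.isLocalization_stalk ⟨x, hxU⟩
  haveI hlz := hU.isLocalization_stalk ⟨z, hzU⟩
  letI mx := stalkΓModule F x U hxU
  letI mz := stalkΓModule F z U hzU
  haveI tx : IsScalarTower Γ(X, U) (X.presheaf.stalk x) (F.presheaf.stalk x) :=
    IsScalarTower.of_algebraMap_smul fun r m => rfl
  haveI tz : IsScalarTower Γ(X, U) (X.presheaf.stalk z) (F.presheaf.stalk z) :=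
    IsScalarTower.of_algebraMap_smul fun r m => rfl
  haveI txz : IsScalarTower Γ(X, U) (X.presheaf.stalk x) (X.presheaf.stalk z) :=
    IsScalarTower.of_algebraMap_eq fun r => (stalkSpecializes_sgerm h U hxU r).symm
  haveI txFz : IsScalarTower (X.presheaf.stalk x) (X.presheaf.stalk z) (F.presheaf.stalk z) :=
    IsScalarTower.of_algebraMap_smul fun r m => rfl
  haveI tAxFz : IsScalarTower Γ(X, U) (X.presheaf.stalk x) (F.presheaf.stalk z) :=
    IsScalarTower.of_algebraMap_smul fun r m => by
      change (X.presheaf.stalkSpecializes h).hom (X.presheaf.germ U x hxU r) • m =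
        X.presheaf.germ U z hzU r • m
      rw [stalkSpecializes_sgerm]
  haveI lx := isLocalizedModule_germ F hU x hxU
  haveI lz := isLocalizedModule_germ F hU z hzU
  have bx : IsBaseChange (X.presheaf.stalk x) (germLinear F x U hxU) :=
    IsLocalizedModule.isBaseChange (hU.primeIdealOf ⟨x, hxU⟩).asIdeal.primeCompl _ _
  have bz : IsBaseChange (X.presheaf.stalk z) (germLinear F z U hzU) :=
    IsLocalizedModule.isBaseChange (hU.primeIdealOf ⟨z, hzU⟩).asIdeal.primeCompl _ _
  have hcomp : ((specLinear F h).restrictScalars Γ(X, U)) ∘ₗ germLinear F x U hxU =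
      germLinear F z U hzU := by
    ext m
    exact stalkSpecializes_germ F h U hxU m
  have bc : IsBaseChange (X.presheaf.stalk z) (specLinear F h) := by
    apply IsBaseChange.of_comp bx
    rw [hcomp]
    exact bz
  exact (isLocalizedModule_iff_isBaseChange (primeOf h).asIdeal.primeCompl (X.presheaf.stalk z)
    (specLinear F h)).mpr bc

end Groth.Agent.H2.StalkSpec

namespace Groth.Agent.H2.StalkSpec
open Groth.Agent.LD.QC Groth.Agent.H1.StalkGen

attribute [-instance] Groth.Agent.LD.QC.stalkModule

variable {X : Scheme.{u}}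

/-- if the image of `v` generates the stalk at a generization `z` of `x`, then every element of
the stalk at `x` is, up to a multiplier invertible at `z`, a multiple of `v`. -/
theorem exists_smul_mem_span_of_generates (F : X.Modules) [F.IsQuasicoherent] {x z : X}
    (h : z ⤳ x) (v w : F.presheaf.stalk x)
    (hgen : ∀ m : F.presheaf.stalk z, ∃ b : X.presheaf.stalk z,
      m = b • (F.presheaf.stalkSpecializes h).hom v) :
    ∃ a : X.presheaf.stalk x, a ∉ (primeOf h).asIdeal ∧
      a • w ∈ Submodule.span (X.presheaf.stalk x) {v} := by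
  letI := specModule F h
  letI algxz : Algebra (X.presheaf.stalk x) (X.presheaf.stalk z) :=
    (X.presheaf.stalkSpecializes h).hom.toAlgebra
  haveI hloc := isLocalization_stalkSpecializes h
  haveI hlm := isLocalizedModule_specLinear F h
  obtain ⟨b, hb⟩ := hgen ((F.presheaf.stalkSpecializes h).hom w)
  obtain ⟨⟨c, a'⟩, hca⟩ := IsLocalization.surj (primeOf h).asIdeal.primeCompl b
  have hca' : b * (X.presheaf.stalkSpecializes h).hom a'.1 =
      (X.presheaf.stalkSpecializes h).hom c := hca
  have h0 : specLinear F h (a'.1 • w - c • v) = 0 := by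
    rw [map_sub, specLinear_apply, specLinear_apply, stalkSpecializes_smul,
      stalkSpecializes_smul, hb, smul_smul, mul_comm, hca', sub_self]
  obtain ⟨a'', ha''⟩ := (IsLocalizedModule.eq_zero_iff (primeOf h).asIdeal.primeCompl
    (specLinear F h)).mp h0
  refine ⟨a''.1 * a'.1, ?_, ?_⟩
  · exact ((primeOf h).asIdeal.primeCompl.mul_mem a''.2 a'.2)
  · have h1 : a''.1 • (a'.1 • w - c • v) = 0 := ha''
    rw [smul_sub, sub_eq_zero] at h1
    rw [mul_smul, h1]
    exact Submodule.smul_mem _ _ (Submodule.smul_mem _ _ (Submodule.mem_span_singleton_self v))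

/-- the prime of a trivial generization is the maximal ideal. -/
theorem primeOf_eq_maximalIdeal_of_eq {x z : X} (h : z ⤳ x) (hzx : z = x) :
    (primeOf h).asIdeal = IsLocalRing.maximalIdeal (X.presheaf.stalk x) := by
  subst hzx
  change Ideal.comap (X.presheaf.stalkSpecializes h).hom _ = _
  have : X.presheaf.stalkSpecializes h = 𝟙 _ := TopCat.Presheaf.stalkSpecializes_refl _ _
  rw [this]
  rfl

end Groth.Agent.H2.StalkSpec
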