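import Mathlib
import Groth.Agent.Lib.Helper2.HomSh5
import Groth.Agent.Lib.Helper2.RankStalk
import Groth.Agent.Lib.Helper2.StalkSpec
import Groth.Agent.Lib.Helper2.CodimOne
import Groth.Agent.Lib.Helper1.CohLen
import Groth.Prelude.Def_Pi1

/-! S16084: the zero locus of a section of a rank one reflexive module has pure codimension one. -/

universe u
set_option autoImplicit false
set_option linter.style.haveILetI false
open CategoryTheory Limits AlgebraicGeometry TopologicalSpace Opposite IsLocalRing

namespace Groth.Agent.H2.RefSch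
open Groth.Agent.LD.QC Groth.Agent.H1.StalkGen Groth.Agent.H2.StalkSpec

attribute [-instance] Groth.Agent.LD.QC.stalkModule

/-- reflexive modules over a domain are torsion free -/
theorem isTorsionFree_of_isReflexive (R M : Type*) [CommRing R] [IsDomain R] [AddCommGroup M]
    [Module R M] [Module.IsReflexive R M] : Module.IsTorsionFree R M :=
  Function.Injective.moduleIsTorsionFree (Module.Dual.eval R M)
    (Module.bijective_dual_eval R M).1 (fun r m => map_smul _ r m)

variable {X : Scheme.{u}}

/-- on an integral scheme a nonzero section of a quasi-coherent module with torsion-free stalks has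
nonzero germs everywhere. -/
theorem germ_ne_zero_of_torsionFree [IsIntegral X] (F : X.Modules) [F.IsQuasicoherent]
    (htf : ∀ x : X, Module.IsTorsionFree (X.presheaf.stalk x) (F.presheaf.stalk x))
    (s : Γ(F, ⊤)) (hs : s ≠ 0) (y : X) : F.presheaf.germ ⊤ y trivial s ≠ 0 := by
  intro h0
  apply hs
  obtain ⟨W, hW, hyW, hres⟩ := exists_res_eq_zero_of_germ_eq_zero F (V := ⊤) y trivial s h0
  have hηW : genericPoint X ∈ W := by
    refine ((genericPoint_spec X).mem_open_set_iff W.2).mpr ?_
    rw [Set.univ_inter]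
    exact ⟨y, hyW⟩
  apply Groth.Agent.H2.HomSh.section_ext_germ
  intro x _
  rw [map_zero]
  obtain ⟨U, hU, hxU, -⟩ := exists_isAffineOpen_mem_and_subset (x := x) (U := ⊤) trivial
  have hηU : genericPoint X ∈ U := by
    refine ((genericPoint_spec X).mem_open_set_iff U.2).mpr ?_
    rw [Set.univ_inter]
    exact ⟨x, hxU⟩
  set t := F.presheaf.map (homOfLE (le_top : U ≤ ⊤)).op s with ht
  have htη : F.presheaf.germ U (genericPoint X) hηU t = 0 := by
    rw [ht, germ_res F _ le_top hηU s, ← germ_res F _ hW hηW s, hres, map_zero]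
  letI := stalkΓModule F (genericPoint X) U hηU
  haveI := isLocalizedModule_germ F hU (genericPoint X) hηU
  obtain ⟨a, ha⟩ := (IsLocalizedModule.eq_zero_iff
    (hU.primeIdealOf ⟨genericPoint X, hηU⟩).asIdeal.primeCompl
    (germLinear F (genericPoint X) U hηU)).mp htη
  have ha0 : (a : Γ(X, U)) ≠ 0 := fun h => a.2 (h ▸ Ideal.zero_mem _)
  have hga : X.presheaf.germ U x hxU a ≠ 0 := by
    intro h
    apply ha0
    apply germ_injective_of_isIntegral X x hxU
    rw [h, map_zero]
  have h1 : X.presheaf.germ U x hxU a • F.presheaf.germ U x hxU t = 0 := by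
    rw [← Mero.germ_smul]
    have : (a : Γ(X, U)) • t = 0 := ha
    rw [this, map_zero]
  haveI := htf x
  haveI : IsDomain (X.presheaf.stalk x) := inferInstance
  rw [← germ_res F _ le_top hxU s]
  exact (smul_eq_zero.mp h1).resolve_left hga

theorem s16084 [IsIntegral X] [IsLocallyNoetherian X]
    (hX : Pi1.IsNormalScheme X) (F : X.Modules) (hF : RefHull.IsRef1 F) (s : Γ(F, ⊤)) (hs : s ≠ 0)
    (z : X)
    (hz : ¬ Function.Bijective fun a : X.presheaf.stalk z => a • F.presheaf.germ ⊤ z trivial s)
    (hmax : ∀ y : X, ¬ Function.Bijective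
        (fun a : X.presheaf.stalk y => a • F.presheaf.germ ⊤ y trivial s) → y ⤳ z → y = z) :
    ringKrullDim (X.presheaf.stalk z) = 1 := by
  obtain ⟨hcoh, hrefl, hrk⟩ := hF
  haveI : F.IsQuasicoherent := hcoh.1
  have hstalk := (Groth.Agent.H2.HomSh.isReflexive_iff_stalk hcoh).mp hrefl
  have htf : ∀ x : X, Module.IsTorsionFree (X.presheaf.stalk x) (F.presheaf.stalk x) := by
    intro x
    haveI := (hX x).1
    haveI : Module.IsReflexive (X.presheaf.stalk x) (F.presheaf.stalk x) := hstalk x
    exact isTorsionFree_of_isReflexive _ _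
  have hne := germ_ne_zero_of_torsionFree F htf s hs
  haveI := (hX z).1
  haveI := (hX z).2
  haveI := htf z
  haveI : Module.Finite (X.presheaf.stalk z) (F.presheaf.stalk z) :=
    Groth.Agent.H1.CohLen.finite_stalk F hcoh.2 z
  have h1 := Groth.Agent.H2.RankStalk.finrank_stalk_eq_one F hrk z
  set v := F.presheaf.germ ⊤ z trivial s with hv
  have hinj : ∀ (y : X), Function.Injective
      (fun a : X.presheaf.stalk y => a • F.presheaf.germ ⊤ y trivial s) := by
    intro y a b hab
    haveI := (hX y).1
    haveI := htf y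
    have : (a - b) • F.presheaf.germ ⊤ y trivial s = 0 := by
      rw [sub_smul]; exact sub_eq_zero.mpr hab
    exact sub_eq_zero.mp ((smul_eq_zero.mp this).resolve_right (hne y))
  have hns : Submodule.span (X.presheaf.stalk z) {v} ≠ ⊤ := by
    intro htop
    apply hz
    refine ⟨hinj z, fun w => ?_⟩
    have : w ∈ Submodule.span (X.presheaf.stalk z) {v} := by rw [htop]; trivial
    obtain ⟨a, ha⟩ := Submodule.mem_span_singleton.mp this
    exact ⟨a, ha⟩
  apply Groth.Agent.H2.CodimOne.ringKrullDim_eq_one (F.presheaf.stalk z) h1 v (hne z) hns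
  intro q hq hqm w
  let y : X := X.fromSpecStalk z ⟨q, hq⟩
  have hyz : y ⤳ z := fromSpecStalk_specializes z ⟨q, hq⟩
  have hprime : primeOf hyz = ⟨q, hq⟩ := primeOf_fromSpecStalk z ⟨q, hq⟩
  have hbij : Function.Bijective
      (fun a : X.presheaf.stalk y => a • F.presheaf.germ ⊤ y trivial s) := by
    by_contra hnb
    have hyeq := hmax y hnb hyz
    apply hqm
    have := primeOf_eq_maximalIdeal_of_eq hyz hyeq
    rw [hprime] at this
    exact this
  have hgen : ∀ m : F.presheaf.stalk y, ∃ b : X.presheaf.stalk y,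
      m = b • (F.presheaf.stalkSpecializes hyz).hom v := by
    intro m
    obtain ⟨b, hb⟩ := hbij.2 m
    refine ⟨b, ?_⟩
    rw [hv, stalkSpecializes_germ]
    exact hb.symm
  obtain ⟨a, ha, haw⟩ := exists_smul_mem_span_of_generates F hyz v w hgen
  rw [hprime] at ha
  exact ⟨a, ha, haw⟩

end Groth.Agent.H2.RefSch
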