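import Mathlib
import Groth.Agent.Lib.Helper2.RefSch5
import Groth.Agent.Lib.Helper2.RefSch7
import Groth.Agent.Lib.Helper2.QcSub
import Groth.Agent.Lib.Helper2.FComplZero
import Groth.Agent.Lib.Helper1.Depth2Coh2
import Groth.Agent.Lib.Helper1.ReflFree
import Groth.Agent.Lib.Helper5.AG.NormalDim1
import Groth.Prelude.Def_Pi1

/-! S16486: on a normal Noetherian scheme the bidual of a finite type submodule of a flat
quasi-coherent module is the direct image of its restriction to the flat locus. -/

universe u
set_option autoImplicit false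
set_option linter.style.haveILetI false
open CategoryTheory Limits AlgebraicGeometry TopologicalSpace Opposite IsLocalRing

namespace Groth.Agent.H2.RefSch
open Groth.Agent.LD.QC

attribute [-instance] Groth.Agent.LD.QC.stalkModule

variable {X : Scheme.{u}}

/-- pointwise version of S16081 -/
theorem isReflexiveAt_homSh [IsLocallyNoetherian X] (F G : X.Modules)
    (hF : Coh.IsCoh F) (hG : Coh.IsCoh G) (x : X) (hdom : IsDomain (X.presheaf.stalk x))
    (hGr : RefHull.IsReflexiveAt G x) : RefHull.IsReflexiveAt (RefHull.homSh F G) x := by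
  haveI : F.IsQuasicoherent := hF.1
  haveI : G.IsQuasicoherent := hG.1
  have hFP : F.IsFinitePresentation := isFinitePresentation_of_qc_ft F hF.1 hF.2
  haveI : Module.Finite (X.presheaf.stalk x) (F.presheaf.stalk x) :=
    Groth.Agent.H1.CohLen.finite_stalk F hF.2 x
  haveI : Module.Finite (X.presheaf.stalk x) (G.presheaf.stalk x) :=
    Groth.Agent.H1.CohLen.finite_stalk G hG.2 x
  haveI : Module.IsReflexive (X.presheaf.stalk x) (G.presheaf.stalk x) := hGr
  haveI : Module.IsReflexive (X.presheaf.stalk x) (RefHull.StalkHom F G x) :=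
    Groth.Agent.H4.Reflexive.isReflexive_linearMap (X.presheaf.stalk x) (F.presheaf.stalk x)
      (G.presheaf.stalk x)
  let E : (RefHull.homSh F G).presheaf.stalk x ≃ₗ[X.presheaf.stalk x] RefHull.StalkHom F G x :=
    LinearEquiv.ofBijective (RefHull.evalStalk F G x) (HomSh.evalStalk_bijective hFP x)
  exact Module.equiv E.symm

theorem isReflexiveAt_structureModule (x : X) :
    RefHull.IsReflexiveAt (Coh.structureModule X) x :=
  Module.equiv (HomSh.unitStalkEquiv x)

theorem isReflexiveAt_ddual [IsLocallyNoetherian X] (F : X.Modules) (hF : Coh.IsCoh F) (x : X)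
    (hdom : IsDomain (X.presheaf.stalk x)) : RefHull.IsReflexiveAt (RefHull.ddual F) x :=
  isReflexiveAt_homSh _ _ (HomSh.isCoh_dual hF) (HomSh.isCoh_structureModule X) x hdom
    (isReflexiveAt_structureModule x)

/-- the comparison of the bidual with the direct image from an open on which `F` is reflexive and
off which the local rings are normal of dimension at least two. -/
theorem exists_ddual_iso_pushforward [IsLocallyNoetherian X] (hX : Pi1.IsNormalScheme X)
    (F : X.Modules) (hF : Coh.IsCoh F) (U : X.Opens)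
    (hrefl : ∀ x ∈ U, RefHull.IsReflexiveAt F x)
    (hdim : ∀ x : X, x ∉ U → (2 : WithBot ℕ∞) ≤ ringKrullDim (X.presheaf.stalk x)) :
    ∃ e : RefHull.ddual F ≅ (Scheme.Modules.pushforward U.ι).obj (F.restrict U.ι),
      RefHull.bidualMap F ≫ e.hom = (Scheme.Modules.restrictAdjunction U.ι).unit.app F := by
  haveI : F.IsQuasicoherent := hF.1
  have hD := HomSh.isCoh_ddual hF
  haveI : (RefHull.ddual F).IsQuasicoherent := hD.1
  -- the unit of `F^**` is an isomorphism
  have hdepth : ∀ x : X, x ∉ U → (2 : ℕ∞) ≤ LocCoh.depth (X.presheaf.stalk x)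
      ((RefHull.ddual F).presheaf.stalk x) := by
    intro x hx
    haveI := (hX x).1
    haveI := (hX x).2
    haveI : Module.Finite (X.presheaf.stalk x) ((RefHull.ddual F).presheaf.stalk x) :=
      Groth.Agent.H1.CohLen.finite_stalk _ hD.2 x
    haveI : Module.IsReflexive (X.presheaf.stalk x) ((RefHull.ddual F).presheaf.stalk x) :=
      isReflexiveAt_ddual F hF x (hX x).1
    exact two_le_depth_of_isReflexive
      (Groth.Agent.H2.PicCodim2.two_le_depth_of_normal _ (hdim x hx)) _
  haveI h1 := Groth.Agent.H1.Depth2Coh.isIso_unit (RefHull.ddual F) hD U hdepth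
  -- the biduality map is an isomorphism over `U`
  have hb : ∀ y ∈ U, Function.Bijective (RefHull.stalkMapₗ (RefHull.bidualMap F) y) :=
    fun y hy => (HomSh.stalkMap_bidualMap_bijective_iff hF y).mpr (hrefl y hy)
  haveI := Groth.Agent.H2.FComplZero.mono_restrict_of_stalks (RefHull.bidualMap F) U
    (fun y hy => (IsoLocus.injective_iff _ y).mp (hb y hy).1)
  haveI := Groth.Agent.H2.FComplZero.epi_restrict_of_stalks (RefHull.bidualMap F) U
    (fun y hy => (IsoLocus.surjective_iff _ hF.1 hD.1 y).mp (hb y hy).2)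
  haveI h2 : IsIso ((Scheme.Modules.restrictFunctor U.ι).map (RefHull.bidualMap F)) :=
    isIso_of_mono_of_epi _
  let adj := Scheme.Modules.restrictAdjunction U.ι
  refine ⟨asIso (adj.unit.app (RefHull.ddual F)) ≪≫
    (Scheme.Modules.pushforward U.ι).mapIso
      (asIso ((Scheme.Modules.restrictFunctor U.ι).map (RefHull.bidualMap F))).symm, ?_⟩
  have hnat := adj.unit.naturality (RefHull.bidualMap F)
  simp only [Functor.id_obj, Functor.id_map, Functor.comp_obj, Functor.comp_map] at hnat
  simp only [Iso.trans_hom, asIso_hom, Functor.mapIso_hom, Iso.symm_hom, asIso_inv]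
  rw [← Category.assoc, hnat, Category.assoc, ← Functor.map_comp, IsIso.hom_inv_id,
    CategoryTheory.Functor.map_id, Category.comp_id]

end Groth.Agent.H2.RefSch

namespace Groth.Agent.H2.RefSch
open Groth.Agent.LD.QC

attribute [-instance] Groth.Agent.LD.QC.stalkModule

/-- **S16486** -/
theorem s16486 (S : Scheme.{u}) [IsNoetherian S]
    (hS : Pi1.IsNormalScheme S) (A F : S.Modules) (hA : Coh.IsQCoh A) (hAfl : FlatMod.IsFlat A)
    (ι : F ⟶ A) [Mono ι] (hF : CohB1.IsFT F) (U : S.Opens)
    (hU : (U : Set S) = {s : S | FlatMod.IsFlatAt F s}) :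
    ∃ e : RefHull.ddual F ≅ (Scheme.Modules.pushforward U.ι).obj (F.restrict U.ι),
      RefHull.bidualMap F ≫ e.hom = (Scheme.Modules.restrictAdjunction U.ι).unit.app F := by
  have hFq : F.IsQuasicoherent := Groth.Agent.H2.QcSub.qc_of_isFiniteType_of_mono ι hA hF
  have hcoh : Coh.IsCoh F := ⟨hFq, hF⟩
  haveI := hFq
  have hmem : ∀ x : S, x ∈ U ↔ FlatMod.IsFlatAt F x := by
    intro x
    have : x ∈ (U : Set S) ↔ x ∈ {s : S | FlatMod.IsFlatAt F s} := by rw [hU]
    exact this
  have hfin : ∀ x : S, Module.Finite (S.presheaf.stalk x) (F.presheaf.stalk x) :=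
    fun x => Groth.Agent.H1.CohLen.finite_stalk F hF x
  have htf : ∀ x : S, Module.IsTorsionFree (S.presheaf.stalk x) (F.presheaf.stalk x) := by
    intro x
    haveI := (hS x).1
    haveI : Module.Flat (S.presheaf.stalk x) (A.presheaf.stalk x) := hAfl x
    exact Function.Injective.moduleIsTorsionFree (RefHull.stalkMapₗ ι x)
      (stalkMap_injective_of_mono ι x) (fun r m => map_smul _ r m)
  apply exists_ddual_iso_pushforward hS F hcoh U
  · intro x hx
    haveI := hfin x
    haveI : Module.Flat (S.presheaf.stalk x) (F.presheaf.stalk x) := (hmem x).mp hx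
    haveI : Module.Free (S.presheaf.stalk x) (F.presheaf.stalk x) :=
      Module.free_of_flat_of_isLocalRing
    exact (inferInstance : Module.IsReflexive (S.presheaf.stalk x) (F.presheaf.stalk x))
  · intro x hx
    by_contra hdim
    apply hx
    rw [hmem x]
    have hd1 := DepthRes.le_one_of_not_two_le _ hdim
    haveI := (hS x).1
    haveI := (hS x).2
    haveI := Groth.Agent.H5.AG.isRegularLocalRing_of_dim_le_one (S.presheaf.stalk x) hd1
    haveI := hfin x
    haveI := htf x
    haveI : NoZeroSMulDivisors (S.presheaf.stalk x) (F.presheaf.stalk x) :=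
      ⟨fun h => smul_eq_zero.mp h⟩
    haveI : Module.Free (S.presheaf.stalk x) (F.presheaf.stalk x) :=
      Groth.Agent.H1.ReflFree.free_of_noZeroSMulDivisors (S.presheaf.stalk x) hd1
        (F.presheaf.stalk x)
    exact (inferInstance : Module.Flat (S.presheaf.stalk x) (F.presheaf.stalk x))

end Groth.Agent.H2.RefSch
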