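import Mathlib

/-!
# Reflexivity is invariant under semilinear equivalences (helper2)
-/

set_option autoImplicit false

namespace Groth.Agent.H2.SemilinRefl

variable {R S M N : Type*} [CommRing R] [CommRing S] [AddCommGroup M] [Module R M]
  [AddCommGroup N] [Module S N] (σ : R ≃+* S) (e : M ≃+ N)

/-- transport of a linear form along a semilinear equivalence -/
def toS (he : ∀ (r : R) (m : M), e (r • m) = σ r • e m) (g : M →ₗ[R] R) : N →ₗ[S] S where
  toFun n := σ (g (e.symm n))
  map_add' a b := by rw [map_add, map_add, map_add]
  map_smul' s n := by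
    have h1 : e.symm (s • n) = σ.symm s • e.symm n := by
      apply e.injective
      rw [he, AddEquiv.apply_symm_apply, AddEquiv.apply_symm_apply, RingEquiv.apply_symm_apply]
    rw [h1, map_smul, smul_eq_mul, map_mul, RingEquiv.apply_symm_apply, RingHom.id_apply,
      smul_eq_mul]

/-- transport of a linear form along a semilinear equivalence, backwards -/
def toR (he : ∀ (r : R) (m : M), e (r • m) = σ r • e m) (f : N →ₗ[S] S) : M →ₗ[R] R where
  toFun m := σ.symm (f (e m))
  map_add' a b := by rw [map_add, map_add, map_add]
  map_smul' r m := by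
    rw [he, map_smul, smul_eq_mul, map_mul, RingEquiv.symm_apply_apply, RingHom.id_apply,
      smul_eq_mul]

theorem toS_toR (he : ∀ (r : R) (m : M), e (r • m) = σ r • e m) (f : N →ₗ[S] S) :
    toS σ e he (toR σ e he f) = f := by
  ext n
  change σ (σ.symm (f (e (e.symm n)))) = f n
  rw [RingEquiv.apply_symm_apply, AddEquiv.apply_symm_apply]

theorem toS_add (he : ∀ (r : R) (m : M), e (r • m) = σ r • e m) (g g' : M →ₗ[R] R) :
    toS σ e he (g + g') = toS σ e he g + toS σ e he g' := by
  ext n
  change σ ((g + g') (e.symm n)) = σ (g (e.symm n)) + σ (g' (e.symm n))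
  rw [LinearMap.add_apply, map_add]

theorem toS_smul (he : ∀ (r : R) (m : M), e (r • m) = σ r • e m) (r : R) (g : M →ₗ[R] R) :
    toS σ e he (r • g) = σ r • toS σ e he g := by
  ext n
  change σ ((r • g) (e.symm n)) = σ r • σ (g (e.symm n))
  rw [LinearMap.smul_apply, smul_eq_mul, map_mul, smul_eq_mul]

/-- **reflexivity transfers along semilinear equivalences** -/
theorem isReflexive (he : ∀ (r : R) (m : M), e (r • m) = σ r • e m)
    [Module.IsReflexive R M] : Module.IsReflexive S N := by
  have hb := Module.bijective_dual_eval R M
  refine ⟨⟨?_, ?_⟩⟩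
  · intro n n' h
    have h1 : e.symm n = e.symm n' := by
      apply hb.1
      ext g
      have h2 := congrArg (fun F => F (toS σ e he g)) h
      change σ (g (e.symm n)) = σ (g (e.symm n')) at h2
      exact σ.injective h2
    exact e.symm.injective h1
  · intro F
    let G : Module.Dual R (Module.Dual R M) :=
      { toFun := fun g => σ.symm (F (toS σ e he g))
        map_add' := fun g g' => by rw [toS_add, map_add, map_add]
        map_smul' := fun r g => by
          rw [toS_smul, map_smul, smul_eq_mul, map_mul, RingEquiv.symm_apply_apply,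
            RingHom.id_apply, smul_eq_mul] }
    obtain ⟨m, hm⟩ := hb.2 G
    refine ⟨e m, ?_⟩
    ext f
    have h1 : G (toR σ e he f) = σ.symm (F f) := by
      change σ.symm (F (toS σ e he (toR σ e he f))) = _
      rw [toS_toR]
    have h2 : G (toR σ e he f) = σ.symm (f (e m)) := by
      rw [← hm]
      rfl
    have h3 : F f = f (e m) := σ.symm.injective (h1.symm.trans h2)
    exact h3.symm

end Groth.Agent.H2.SemilinRefl
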