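import Mathlib
import Groth.Prelude.Def_RefHull
import Groth.Agent.Lib.Helper2.SemilinRefl
import Groth.Agent.Lib.Lead.QC.Stalk

/-!
# Stalks of the restriction of a module to an open subscheme (helper2)
-/

set_option autoImplicit false
set_option linter.style.haveILetI false
universe u
open CategoryTheory Limits AlgebraicGeometry TopologicalSpace Opposite

namespace Groth.Agent.H2.RestrictStalk

open Groth.Agent.LD.QC

attribute [-instance] Groth.Agent.LD.QC.stalkModule

variable {X Y : Scheme.{u}} (j : Y ⟶ X) [IsOpenImmersion j]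

/-- the local rings of an open subscheme -/
noncomputable def stalkRingEquiv (y : Y) : Y.presheaf.stalk y ≃+* X.presheaf.stalk (j y) :=
  (asIso (j.stalkMap y)).symm.commRingCatIsoToRingEquiv

theorem stalkMap_stalkRingEquiv (y : Y) (a : Y.presheaf.stalk y) :
    (j.stalkMap y).hom (stalkRingEquiv j y a) = a := by
  change ((inv (j.stalkMap y)) ≫ j.stalkMap y).hom a = a
  rw [IsIso.inv_hom_id]
  rfl

theorem stalkRingEquiv_germ (V : Y.Opens) (y : Y) (hy : y ∈ V) (r : Γ(Y, V)) :
    stalkRingEquiv j y (Y.presheaf.germ V y hy r) =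
      X.presheaf.germ (j ''ᵁ V) (j y) ⟨y, hy, rfl⟩ ((j.appIso V).inv r) := by
  have hinj : Function.Injective (j.stalkMap y).hom :=
    ((ConcreteCategory.isIso_iff_bijective (j.stalkMap y)).mp inferInstance).1
  apply hinj
  rw [stalkMap_stalkRingEquiv]
  have h1 := Scheme.Hom.germ_stalkMap_apply j (j ''ᵁ V) y ⟨y, hy, rfl⟩ ((j.appIso V).inv r)
  rw [h1]
  have h2 : j.app (j ''ᵁ V) ((j.appIso V).inv r) =
      Y.presheaf.map (eqToHom (j.preimage_image_eq V)).op r := by
    have := Scheme.Hom.appIso_inv_app j V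
    exact congr($this r)
  rw [h2]
  exact (TopCat.Presheaf.germ_res_apply Y.presheaf (eqToHom (j.preimage_image_eq V)) y _ r).symm

/-- the stalks of the restriction -/
noncomputable def stalkAddEquiv (M : X.Modules) (y : Y) :
    (M.restrict j).presheaf.stalk y ≃+ M.presheaf.stalk (j y) :=
  ((Scheme.Modules.restrictStalkNatIso j y).app M).addCommGroupIsoToAddEquiv

theorem stalkAddEquiv_germ (M : X.Modules) (V : Y.Opens) (y : Y) (hy : y ∈ V)
    (s : Γ(M.restrict j, V)) :
    stalkAddEquiv j M y ((M.restrict j).presheaf.germ V y hy s) =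
      M.presheaf.germ (j ''ᵁ V) (j y) ⟨y, hy, rfl⟩ (show Γ(M, j ''ᵁ V) from s) := by
  have := Scheme.Modules.germ_restrictStalkNatIso_hom_app j y M hy
  exact congr($this s)

/-- the comparison of stalks is semilinear -/
theorem stalkAddEquiv_smul (M : X.Modules) (y : Y) (a : Y.presheaf.stalk y)
    (m : (M.restrict j).presheaf.stalk y) :
    stalkAddEquiv j M y (a • m) = stalkRingEquiv j y a • stalkAddEquiv j M y m := by
  obtain ⟨Va, ha, r, rfl⟩ := TopCat.Presheaf.exists_germ_eq Y.presheaf a
  obtain ⟨Vm, hm, s, rfl⟩ := TopCat.Presheaf.exists_germ_eq (M.restrict j).presheaf m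
  rw [← TopCat.Presheaf.germ_res_apply Y.presheaf (homOfLE (inf_le_left : Va ⊓ Vm ≤ Va)) y ⟨ha, hm⟩,
    ← TopCat.Presheaf.germ_res_apply (M.restrict j).presheaf
      (homOfLE (inf_le_right : Va ⊓ Vm ≤ Vm)) y ⟨ha, hm⟩,
    ← Mero.germ_smul, stalkAddEquiv_germ, stalkAddEquiv_germ, stalkRingEquiv_germ,
    ← Mero.germ_smul]
  rfl

/-- **reflexivity of a stalk of the restriction** -/
theorem isReflexive_stalk_iff (M : X.Modules) (y : Y) :
    Module.IsReflexive (Y.presheaf.stalk y) ((M.restrict j).presheaf.stalk y) ↔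
      Module.IsReflexive (X.presheaf.stalk (j y)) (M.presheaf.stalk (j y)) := by
  constructor
  · intro h
    exact SemilinRefl.isReflexive (stalkRingEquiv j y) (stalkAddEquiv j M y)
      (fun a m => stalkAddEquiv_smul j M y a m)
  · intro h
    refine SemilinRefl.isReflexive (stalkRingEquiv j y).symm (stalkAddEquiv j M y).symm
      (fun a m => ?_)
    apply (stalkAddEquiv j M y).injective
    rw [stalkAddEquiv_smul, AddEquiv.apply_symm_apply, AddEquiv.apply_symm_apply,
      RingEquiv.apply_symm_apply]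

end Groth.Agent.H2.RestrictStalk
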