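import Mathlib
import Groth.Agent.Lib.Helper2.RefSch4
import Groth.Agent.Lib.Helper2.RefSch7
import Groth.Agent.Lib.Helper2.PicCodim2

/-! Extension of rational sections of reflexive modules across codimension two (towards S16083). -/

universe u
set_option autoImplicit false
set_option linter.style.haveILetI false
open CategoryTheory Limits AlgebraicGeometry TopologicalSpace Opposite IsLocalRing

namespace Groth.Agent.H2.RatExt
open Groth.Agent.LD.QC Groth.Agent.H1.StalkGen Groth.Agent.H2.StalkSpec

attribute [-instance] Groth.Agent.LD.QC.stalkModule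

variable {X : Scheme.{u}}

theorem genericPoint_mem [IsIntegral X] (U : X.Opens) (h : (U : Set X).Nonempty) :
    genericPoint X ∈ U := by
  refine ((genericPoint_spec X).mem_open_set_iff U.2).mpr ?_
  rw [Set.univ_inter]
  exact h

/-- the canonical specialization of the generic point -/
theorem gspec [IsIntegral X] (x : X) : genericPoint X ⤳ x :=
  (genericPoint_spec X).specializes (Set.mem_univ x)

/-- sections of a torsion-free quasi-coherent module on an integral scheme are determined by their
germ at the generic point. -/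
theorem eq_zero_of_germ_generic [IsIntegral X] (F : X.Modules) [F.IsQuasicoherent]
    (htf : ∀ x : X, Module.IsTorsionFree (X.presheaf.stalk x) (F.presheaf.stalk x))
    (U : X.Opens) (hη : genericPoint X ∈ U) (s : Γ(F, U))
    (h0 : F.presheaf.germ U (genericPoint X) hη s = 0) : s = 0 := by
  apply Groth.Agent.H2.HomSh.section_ext_germ
  intro x hxU
  rw [map_zero]
  obtain ⟨V, hV, hxV, hVU'⟩ := exists_isAffineOpen_mem_and_subset (x := x) (U := U) hxU
  have hVU : V ≤ U := hVU'
  have hηV : genericPoint X ∈ V := genericPoint_mem V ⟨x, hxV⟩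
  set t := F.presheaf.map (homOfLE hVU).op s with ht
  have htη : F.presheaf.germ V (genericPoint X) hηV t = 0 := by
    rw [ht, germ_res F _ hVU hηV s, h0]
  letI := stalkΓModule F (genericPoint X) V hηV
  haveI := isLocalizedModule_germ F hV (genericPoint X) hηV
  obtain ⟨a, ha⟩ := (IsLocalizedModule.eq_zero_iff
    (hV.primeIdealOf ⟨genericPoint X, hηV⟩).asIdeal.primeCompl
    (germLinear F (genericPoint X) V hηV)).mp htη
  have ha0 : (a : Γ(X, V)) ≠ 0 := fun h => a.2 (h ▸ Ideal.zero_mem _)
  have hga : X.presheaf.germ V x hxV a ≠ 0 := by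
    intro h
    apply ha0
    apply germ_injective_of_isIntegral X x hxV
    rw [h, map_zero]
  have h1 : X.presheaf.germ V x hxV a • F.presheaf.germ V x hxV t = 0 := by
    rw [← Mero.germ_smul]
    have : (a : Γ(X, V)) • t = 0 := ha
    rw [this, map_zero]
  haveI := htf x
  haveI : IsDomain (X.presheaf.stalk x) := inferInstance
  rw [← germ_res F _ hVU hxV s]
  exact (smul_eq_zero.mp h1).resolve_left hga

theorem eq_of_germ_generic [IsIntegral X] (F : X.Modules) [F.IsQuasicoherent]
    (htf : ∀ x : X, Module.IsTorsionFree (X.presheaf.stalk x) (F.presheaf.stalk x))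
    (U : X.Opens) (hη : genericPoint X ∈ U) (s t : Γ(F, U))
    (h : F.presheaf.germ U (genericPoint X) hη s = F.presheaf.germ U (genericPoint X) hη t) :
    s = t := by
  rw [← sub_eq_zero]
  apply eq_zero_of_germ_generic F htf U hη
  rw [map_sub, h, sub_self]

/-- a point of an integral scheme whose local ring has dimension zero is the generic point -/
theorem eq_genericPoint_of_dim_zero [IsIntegral X] (x : X)
    (h : ringKrullDim (X.presheaf.stalk x) ≤ 0) : x = genericPoint X := by
  haveI : Ring.KrullDimLE 0 (X.presheaf.stalk x) := (Ring.krullDimLE_iff).mpr h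
  have hf : IsField (X.presheaf.stalk x) := Ring.KrullDimLE.isField_of_isDomain
  have hm : maximalIdeal (X.presheaf.stalk x) = ⊥ := IsLocalRing.isField_iff_maximalIdeal_eq.mp hf
  have h1 := fromSpecStalk_primeOf (gspec x)
  have h2 : (primeOf (gspec x)) = IsLocalRing.closedPoint (X.presheaf.stalk x) := by
    apply PrimeSpectrum.ext
    change (primeOf (gspec x)).asIdeal = maximalIdeal _
    rw [hm, eq_bot_iff]
    intro a ha
    by_contra ha0
    have hu : IsUnit a := by
      obtain ⟨b, hb⟩ := hf.mul_inv_cancel ha0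
      exact IsUnit.of_mul_eq_one _ hb
    exact (primeOf (gspec x)).isPrime.ne_top (Ideal.eq_top_of_isUnit_mem _ ha hu)
  rw [h2, Scheme.fromSpecStalk_closedPoint] at h1
  exact h1

end Groth.Agent.H2.RatExt

namespace Groth.Agent.H2.RatExt
open Groth.Agent.LD.QC Groth.Agent.H1.StalkGen Groth.Agent.H2.StalkSpec

attribute [-instance] Groth.Agent.LD.QC.stalkModule

variable {X : Scheme.{u}}

theorem isTorsionFree_of_isReflexiveAt (hX : Pi1.IsNormalScheme X) (H : X.Modules)
    (hrefl : ∀ x : X, RefHull.IsReflexiveAt H x) (x : X) :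
    Module.IsTorsionFree (X.presheaf.stalk x) (H.presheaf.stalk x) := by
  haveI := (hX x).1
  haveI : Module.IsReflexive (X.presheaf.stalk x) (H.presheaf.stalk x) := hrefl x
  exact Groth.Agent.H2.RefSch.isTorsionFree_of_isReflexive _ _

/-- **extension of rational sections**: on a normal integral locally Noetherian scheme, a rational
section of a coherent reflexive module which is regular at all points of codimension one of `U`
is a section over `U`. -/
theorem exists_section_of_codim_one [IsIntegral X] [IsLocallyNoetherian X]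
    (hX : Pi1.IsNormalScheme X) (H : X.Modules) (hH : Coh.IsCoh H)
    (hrefl : ∀ x : X, RefHull.IsReflexiveAt H x)
    (U : X.Opens) (hη : genericPoint X ∈ U) (t : H.presheaf.stalk (genericPoint X))
    (ht : ∀ x ∈ U, ringKrullDim (X.presheaf.stalk x) = 1 →
      ∃ tx : H.presheaf.stalk x, (H.presheaf.stalkSpecializes (gspec x)).hom tx = t) :
    ∃ h : Γ(H, U), H.presheaf.germ U (genericPoint X) hη h = t := by
  haveI := hH.1
  have htf := isTorsionFree_of_isReflexiveAt hX H hrefl
  let I := {p : Σ V : X.Opens, Γ(H, V) // p.1 ≤ U ∧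
    ∃ hV : genericPoint X ∈ p.1, H.presheaf.germ p.1 (genericPoint X) hV p.2 = t}
  let W : I → X.Opens := fun i => i.1.1
  let n : ∀ i : I, Γ(H, W i) := fun i => i.1.2
  have hcompat : TopCat.Presheaf.IsCompatible H.presheaf W n := by
    intro i j
    obtain ⟨hi, hηi, hgi⟩ := i.2
    obtain ⟨hj, hηj, hgj⟩ := j.2
    apply eq_of_germ_generic H htf (W i ⊓ W j) ⟨hηi, hηj⟩
    rw [TopCat.Presheaf.germ_res_apply, TopCat.Presheaf.germ_res_apply]
    exact hgi.trans hgj.symm
  obtain ⟨h, hh, -⟩ := TopCat.Sheaf.existsUnique_gluing' ⟨_, H.isSheaf⟩ W (iSup W)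
    (fun i => homOfLE (le_iSup W i)) le_rfl n hcompat
  have hVU : iSup W ≤ U := iSup_le fun i => i.2.1
  -- the family is nonempty
  obtain ⟨V₀, hηV₀, h₀, hgerm₀⟩ := TopCat.Presheaf.exists_germ_eq H.presheaf t
  let i₀ : I := ⟨⟨V₀ ⊓ U, H.presheaf.map (homOfLE (inf_le_left : V₀ ⊓ U ≤ V₀)).op h₀⟩,
    inf_le_right, ⟨hηV₀, hη⟩, by
      change H.presheaf.germ (V₀ ⊓ U) _ _ (H.presheaf.map _ h₀) = t
      rw [germ_res H _ inf_le_left ⟨hηV₀, hη⟩ h₀]; exact hgerm₀⟩
  have hηV : genericPoint X ∈ iSup W := Opens.mem_iSup.mpr ⟨i₀, ⟨hηV₀, hη⟩⟩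
  have hgermh : H.presheaf.germ (iSup W) (genericPoint X) hηV h = t := by
    obtain ⟨-, hη₀, hg₀⟩ := i₀.2
    rw [← germ_res H _ (le_iSup W i₀) hη₀ h]
    have := hh i₀
    change H.presheaf.map (homOfLE (le_iSup W i₀)).op h = n i₀ at this
    rw [this]
    exact hg₀
  have hdepth : ∀ x : X, x ∈ U → x ∉ iSup W →
      (2 : ℕ∞) ≤ LocCoh.depth (X.presheaf.stalk x) (H.presheaf.stalk x) := by
    intro x hxU hxV
    have hdim : (2 : WithBot ℕ∞) ≤ ringKrullDim (X.presheaf.stalk x) := by
      by_contra hcon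
      by_cases hd1 : ringKrullDim (X.presheaf.stalk x) = 1
      · obtain ⟨tx, htx⟩ := ht x hxU hd1
        obtain ⟨V', hxV', h', rfl⟩ := TopCat.Presheaf.exists_germ_eq H.presheaf tx
        rw [stalkSpecializes_germ] at htx
        have hηV' : genericPoint X ∈ V' := (gspec x).mem_open V'.2 hxV'
        let i : I := ⟨⟨V' ⊓ U, H.presheaf.map (homOfLE (inf_le_left : V' ⊓ U ≤ V')).op h'⟩,
          inf_le_right, ⟨hηV', hη⟩, by
            change H.presheaf.germ (V' ⊓ U) _ _ (H.presheaf.map _ h') = t
            rw [germ_res H _ inf_le_left ⟨hηV', hη⟩ h']; exact htx⟩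
        exact hxV (Opens.mem_iSup.mpr ⟨i, ⟨hxV', hxU⟩⟩)
      · have h0 := Groth.Agent.H2.DepthRes.le_zero_of_not_two_le _ hcon hd1
        have := eq_genericPoint_of_dim_zero x h0
        exact hxV (this ▸ hηV)
    haveI := (hX x).1
    haveI := (hX x).2
    haveI : Module.Finite (X.presheaf.stalk x) (H.presheaf.stalk x) :=
      Groth.Agent.H1.CohLen.finite_stalk H hH.2 x
    haveI : Module.IsReflexive (X.presheaf.stalk x) (H.presheaf.stalk x) := hrefl x
    exact Groth.Agent.H2.RefSch.two_le_depth_of_isReflexive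
      (Groth.Agent.H2.PicCodim2.two_le_depth_of_normal _ hdim) _
  obtain ⟨h', hh'⟩ := (Groth.Agent.H2.RefSch.res_bijective_of_depth H hH U (iSup W) hVU hdepth).2 h
  refine ⟨h', ?_⟩
  rw [← germ_res H _ hVU hηV h']
  have : H.presheaf.map (homOfLE hVU).op h' = h := hh'
  rw [this]
  exact hgermh

end Groth.Agent.H2.RatExt
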