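import Mathlib
import Groth.Agent.Lib.Helper2.RatExt

/-! Morphisms into reflexive modules from maps of generic stalks (towards S16083). -/

universe u
set_option autoImplicit false
set_option linter.style.haveILetI false
open CategoryTheory Limits AlgebraicGeometry TopologicalSpace Opposite IsLocalRing

namespace Groth.Agent.H2.RatHom
open Groth.Agent.LD.QC Groth.Agent.H1.StalkGen Groth.Agent.H2.StalkSpec Groth.Agent.H2.RatExt

attribute [-instance] Groth.Agent.LD.QC.stalkModule

variable {X : Scheme.{u}} [IsIntegral X] [IsLocallyNoetherian X]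

/-- the data: a map of generic stalks regular in codimension one -/
structure Data (X : Scheme.{u}) [IsIntegral X] [IsLocallyNoetherian X] where
  hX : Pi1.IsNormalScheme X
  G : X.Modules
  H : X.Modules
  hH : Coh.IsCoh H
  hrefl : ∀ x : X, RefHull.IsReflexiveAt H x
  τ : G.presheaf.stalk (genericPoint X) →ₗ[X.presheaf.stalk (genericPoint X)]
    H.presheaf.stalk (genericPoint X)
  hτ : ∀ x : X, ringKrullDim (X.presheaf.stalk x) = 1 → ∀ γ : G.presheaf.stalk x,
    ∃ hx : H.presheaf.stalk x, (H.presheaf.stalkSpecializes (gspec x)).hom hx =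
      τ ((G.presheaf.stalkSpecializes (gspec x)).hom γ)

namespace Data

variable (D : Data X)

theorem htf (x : X) : Module.IsTorsionFree (X.presheaf.stalk x) (D.H.presheaf.stalk x) :=
  isTorsionFree_of_isReflexiveAt D.hX D.H D.hrefl x

theorem exists_sec (U : X.Opens) (hη : genericPoint X ∈ U) (g : Γ(D.G, U)) :
    ∃ h : Γ(D.H, U), D.H.presheaf.germ U (genericPoint X) hη h =
      D.τ (D.G.presheaf.germ U (genericPoint X) hη g) := by
  apply exists_section_of_codim_one D.hX D.H D.hH D.hrefl U hη
  intro x hxU hd1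
  obtain ⟨hx, hhx⟩ := D.hτ x hd1 (D.G.presheaf.germ U x hxU g)
  refine ⟨hx, ?_⟩
  rw [hhx, stalkSpecializes_germ]

open Classical in
/-- the section-wise map -/
noncomputable def sec (U : X.Opens) (g : Γ(D.G, U)) : Γ(D.H, U) :=
  if hη : genericPoint X ∈ U then (D.exists_sec U hη g).choose else 0

theorem germ_sec (U : X.Opens) (hη : genericPoint X ∈ U) (g : Γ(D.G, U)) :
    D.H.presheaf.germ U (genericPoint X) hη (D.sec U g) =
      D.τ (D.G.presheaf.germ U (genericPoint X) hη g) := by
  unfold sec
  rw [dif_pos hη]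
  exact (D.exists_sec U hη g).choose_spec

theorem sec_unique (U : X.Opens) (hη : genericPoint X ∈ U) (g : Γ(D.G, U)) (h : Γ(D.H, U))
    (hh : D.H.presheaf.germ U (genericPoint X) hη h =
      D.τ (D.G.presheaf.germ U (genericPoint X) hη g)) : D.sec U g = h := by
  haveI := D.hH.1
  apply eq_of_germ_generic D.H D.htf U hη
  rw [D.germ_sec U hη g, hh]

theorem eq_of_notMem (U : X.Opens) (hη : genericPoint X ∉ U) (h h' : Γ(D.H, U)) : h = h' := by
  apply Groth.Agent.H2.HomSh.section_ext_germ
  intro x hx
  exact absurd (genericPoint_mem U ⟨x, hx⟩) hη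

theorem sec_add (U : X.Opens) (g g' : Γ(D.G, U)) :
    D.sec U (g + g') = D.sec U g + D.sec U g' := by
  by_cases hη : genericPoint X ∈ U
  · apply D.sec_unique U hη
    rw [map_add, map_add, map_add, D.germ_sec U hη g, D.germ_sec U hη g']
  · exact D.eq_of_notMem U hη _ _

theorem sec_res {U V : X.Opens} (hVU : V ≤ U) (g : Γ(D.G, U)) :
    D.H.presheaf.map (homOfLE hVU).op (D.sec U g) =
      D.sec V (D.G.presheaf.map (homOfLE hVU).op g) := by
  by_cases hη : genericPoint X ∈ V
  · symm
    apply D.sec_unique V hη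
    rw [germ_res D.H _ hVU hη, germ_res D.G _ hVU hη, D.germ_sec U (hVU hη) g]
  · exact D.eq_of_notMem V hη _ _

theorem sec_smul (U : X.Opens) (r : Γ(X, U)) (g : Γ(D.G, U)) :
    D.sec U (r • g) = r • D.sec U g := by
  by_cases hη : genericPoint X ∈ U
  · apply D.sec_unique U hη
    rw [Mero.germ_smul, Mero.germ_smul, map_smul, D.germ_sec U hη g]
  · exact D.eq_of_notMem U hη _ _

/-- the section-wise map as an additive map -/
noncomputable def secHom (U : X.Opens) : Γ(D.G, U) →+ Γ(D.H, U) where
  toFun := D.sec U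
  map_zero' := by
    have := D.sec_add U 0 0
    rw [add_zero] at this
    exact left_eq_add.mp this
  map_add' := D.sec_add U

/-- **the morphism extending a map of generic stalks** -/
noncomputable def hom : D.G ⟶ D.H :=
  ⟨PresheafOfModules.homMk
    { app := fun U => AddCommGrpCat.ofHom (D.secHom U.unop)
      naturality := fun {U V} i => by
        ext g
        exact (D.sec_res (leOfHom i.unop) g).symm }
    (fun U r g => D.sec_smul U.unop r g)⟩

theorem hom_app (U : X.Opens) (g : Γ(D.G, U)) : D.hom.app U g = D.sec U g := rfl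

theorem stalkMapₗ_hom : RefHull.stalkMapₗ D.hom (genericPoint X) = D.τ := by
  apply LinearMap.ext
  intro γ
  obtain ⟨U, hη, g, rfl⟩ := TopCat.Presheaf.exists_germ_eq D.G.presheaf γ
  rw [RefHull.stalkMapₗ_germ, hom_app, D.germ_sec U hη g]

end Data

end Groth.Agent.H2.RatHom
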