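import Mathlib
import Groth.Agent.Lib.Helper2.RatHom
import Groth.Agent.Lib.Helper2.RefSch8

/-! S16083: extension of maps of generic stalks to the reflexive hull. -/

universe u
set_option autoImplicit false
set_option linter.style.haveILetI false
open CategoryTheory Limits AlgebraicGeometry TopologicalSpace Opposite IsLocalRing

namespace Groth.Agent.H2.RefSch
open Groth.Agent.LD.QC Groth.Agent.H1.StalkGen Groth.Agent.H2.StalkSpec Groth.Agent.H2.RatExt
open Groth.Agent.H2.HomSh

attribute [-instance] Groth.Agent.LD.QC.stalkModule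

/-- surjectivity of the biduality map can be tested with any free module of rank one -/
theorem surjective_eval_iff_applyₗ {R M N : Type*} [CommRing R] [AddCommGroup M]
    [Module R M] [AddCommGroup N] [Module R N] (e : R ≃ₗ[R] N) :
    Function.Surjective (Module.Dual.eval R M) ↔
      Function.Surjective (LinearMap.applyₗ : M →ₗ[R] (M →ₗ[R] N) →ₗ[R] N) := by
  let Φ : ((M →ₗ[R] N) →ₗ[R] N) ≃ₗ[R] ((M →ₗ[R] R) →ₗ[R] R) :=
    LinearEquiv.arrowCongr (LinearEquiv.arrowCongr (LinearEquiv.refl R M) e.symm) e.symm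
  have hΦ : ∀ m : M, Φ (LinearMap.applyₗ m) = Module.Dual.eval R M m := by
    intro m
    ext φ
    simp [Φ, LinearEquiv.arrowCongr_apply]
  have hcomp : ⇑(Module.Dual.eval R M) =
      ⇑Φ ∘ ⇑(LinearMap.applyₗ : M →ₗ[R] (M →ₗ[R] N) →ₗ[R] N) := by
    funext m
    exact (hΦ m).symm
  rw [hcomp]
  exact Function.Surjective.of_comp_iff' Φ.bijective _

/-- the biduality map of a finite module over a regular local domain of dimension at most one is
surjective -/
theorem surjective_dual_eval_of_dim_le_one (R : Type u) [CommRing R] [IsRegularLocalRing R]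
    [IsDomain R] (hdim : ringKrullDim R ≤ 1) (M : Type u) [AddCommGroup M] [Module R M]
    [Module.Finite R M] : Function.Surjective (Module.Dual.eval R M) := by
  let N := M ⧸ Submodule.torsion R M
  let π : M →ₗ[R] N := (Submodule.torsion R M).mkQ
  haveI : Module.IsTorsionFree R N := inferInstance
  haveI : NoZeroSMulDivisors R N := ⟨fun h => smul_eq_zero.mp h⟩
  haveI : Module.Free R N := Groth.Agent.H1.ReflFree.free_of_noZeroSMulDivisors R hdim N
  have hN := Module.bijective_dual_eval R N
  -- every functional on `M` factors through `N`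
  have hfac : ∀ μ : Module.Dual R M, ∃ ν : Module.Dual R N, ν.comp π = μ := by
    intro μ
    have hle : Submodule.torsion R M ≤ LinearMap.ker μ := by
      intro m hm
      obtain ⟨a, ha⟩ := (Submodule.mem_torsion_iff m).mp hm
      have h1 : (a : R) * μ m = 0 := by
        rw [← smul_eq_mul, ← map_smul]
        have : (a : R) • m = 0 := ha
        rw [this, map_zero]
      exact (mul_eq_zero.mp h1).resolve_left (nonZeroDivisors.ne_zero a.2)
    exact ⟨(Submodule.torsion R M).liftQ μ hle, Submodule.liftQ_mkQ _ _ hle⟩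
  intro ξ
  let ξ' : Module.Dual R (Module.Dual R N) := ξ.comp (LinearMap.lcomp R R π)
  obtain ⟨n, hn⟩ := hN.2 ξ'
  obtain ⟨m, rfl⟩ := Submodule.mkQ_surjective _ n
  refine ⟨m, ?_⟩
  ext μ
  obtain ⟨ν, rfl⟩ := hfac μ
  have := LinearMap.congr_fun hn ν
  rw [Module.Dual.eval_apply] at this
  rw [Module.Dual.eval_apply, LinearMap.comp_apply]
  exact this

variable {X : Scheme.{u}} {F G : X.Modules}

/-- the stalk of the biduality map is surjective iff the module-theoretic one is -/
theorem stalkMap_bidualMap_surjective_iff [IsLocallyNoetherian X] (hF : Coh.IsCoh F) (x : X) :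
    Function.Surjective (RefHull.stalkMapₗ (RefHull.bidualMap F) x) ↔
      Function.Surjective (Module.Dual.eval (X.presheaf.stalk x) (F.presheaf.stalk x)) := by
  have hFP : F.IsFinitePresentation := isFinitePresentation_of_qc_ft F hF.1 hF.2
  have hD := isCoh_dual hF
  have hDP : (RefHull.dual F).IsFinitePresentation := isFinitePresentation_of_qc_ft _ hD.1 hD.2
  let E : (RefHull.dual F).presheaf.stalk x ≃ₗ[X.presheaf.stalk x]
      RefHull.StalkHom F (Coh.structureModule X) x :=
    LinearEquiv.ofBijective (RefHull.evalStalk F (Coh.structureModule X) x)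
      (evalStalk_bijective hFP x)
  let Ψ : (RefHull.StalkHom F (Coh.structureModule X) x →ₗ[X.presheaf.stalk x]
        (Coh.structureModule X).presheaf.stalk x) ≃ₗ[X.presheaf.stalk x]
      ((RefHull.dual F).presheaf.stalk x →ₗ[X.presheaf.stalk x]
        (Coh.structureModule X).presheaf.stalk x) :=
    LinearEquiv.arrowCongr E.symm
      (LinearEquiv.refl (X.presheaf.stalk x) ((Coh.structureModule X).presheaf.stalk x))
  have hcomp1 : ⇑(RefHull.bidualAt F x) = ⇑Ψ ∘ ⇑(LinearMap.applyₗ :
      F.presheaf.stalk x →ₗ[X.presheaf.stalk x]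
        (RefHull.StalkHom F (Coh.structureModule X) x) →ₗ[X.presheaf.stalk x]
          (Coh.structureModule X).presheaf.stalk x) := by
    funext v
    apply LinearMap.ext
    intro θ
    simp [Ψ, E, LinearEquiv.arrowCongr_apply]
  have hcomp2 : ⇑(RefHull.bidualAt F x) =
      ⇑(RefHull.evalStalk (RefHull.dual F) (Coh.structureModule X) x) ∘
        ⇑(RefHull.stalkMapₗ (RefHull.bidualMap F) x) := by
    funext v
    exact (evalStalk_stalkMap_bidualMap F x v).symm
  rw [surjective_eval_iff_applyₗ (unitStalkEquiv x),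
    ← Function.Surjective.of_comp_iff' Ψ.bijective, ← hcomp1, hcomp2]
  exact (Function.Surjective.of_comp_iff' (evalStalk_bijective hDP x) _).symm

/-- stalk maps commute with specialization -/
theorem spec_stalkMapₗ (φ : F ⟶ G) {x z : X} (h : z ⤳ x) (f : F.presheaf.stalk x) :
    (G.presheaf.stalkSpecializes h).hom (RefHull.stalkMapₗ φ x f) =
      RefHull.stalkMapₗ φ z ((F.presheaf.stalkSpecializes h).hom f) := by
  obtain ⟨U, hxU, s, rfl⟩ := TopCat.Presheaf.exists_germ_eq F.presheaf f
  rw [RefHull.stalkMapₗ_germ, stalkSpecializes_germ, stalkSpecializes_germ,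
    RefHull.stalkMapₗ_germ]

end Groth.Agent.H2.RefSch

namespace Groth.Agent.H2.RefSch
open Groth.Agent.LD.QC Groth.Agent.H1.StalkGen Groth.Agent.H2.StalkSpec Groth.Agent.H2.RatExt
open Groth.Agent.H2.HomSh

attribute [-instance] Groth.Agent.LD.QC.stalkModule

variable {X : Scheme.{u}}

/-- the generic stalk of a coherent module is reflexive -/
theorem isReflexiveAt_genericPoint [IsIntegral X] [IsLocallyNoetherian X] (F : X.Modules)
    (hF : Coh.IsCoh F) : RefHull.IsReflexiveAt F (genericPoint X) := by
  haveI := hF.1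
  haveI : Module.Finite (X.presheaf.stalk (genericPoint X)) (F.presheaf.stalk (genericPoint X)) :=
    Groth.Agent.H1.CohLen.finite_stalk F hF.2 _
  letI : Field (X.presheaf.stalk (genericPoint X)) :=
    inferInstanceAs (Field X.functionField)
  exact (inferInstance : Module.IsReflexive (X.presheaf.stalk (genericPoint X))
    (F.presheaf.stalk (genericPoint X)))

/-- **S16083** -/
theorem s16083 [IsIntegral X] [IsLocallyNoetherian X]
    (hX : Pi1.IsNormalScheme X) (F G : X.Modules) (hF : Coh.IsCoh F) (hG : Coh.IsCoh G)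
    (T : G.presheaf.stalk (genericPoint X) →ₗ[X.presheaf.stalk (genericPoint X)]
      F.presheaf.stalk (genericPoint X)) :
    (∃ ψ : G ⟶ RefHull.ddual F, RefHull.stalkMapₗ ψ (genericPoint X) =
        (RefHull.stalkMapₗ (RefHull.bidualMap F) (genericPoint X)).comp T) ↔
      ∀ x : X, ringKrullDim (X.presheaf.stalk x) = 1 →
        Set.MapsTo ⇑T
          (Set.range ⇑(G.presheaf.stalkSpecializes (gspec x)).hom)
          (Set.range ⇑(F.presheaf.stalkSpecializes (gspec x)).hom) := by
  haveI := hF.1
  constructor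
  · rintro ⟨ψ, hψ⟩ x hd1 _ ⟨γ, rfl⟩
    haveI := (hX x).1
    haveI := (hX x).2
    haveI := Groth.Agent.H5.AG.isRegularLocalRing_of_dim_le_one (X.presheaf.stalk x) hd1.le
    haveI : Module.Finite (X.presheaf.stalk x) (F.presheaf.stalk x) :=
      Groth.Agent.H1.CohLen.finite_stalk F hF.2 x
    have hsurj : Function.Surjective (RefHull.stalkMapₗ (RefHull.bidualMap F) x) :=
      (stalkMap_bidualMap_surjective_iff hF x).mpr
        (surjective_dual_eval_of_dim_le_one (X.presheaf.stalk x) hd1.le (F.presheaf.stalk x))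
    obtain ⟨f, hf⟩ := hsurj (RefHull.stalkMapₗ ψ x γ)
    refine ⟨f, ?_⟩
    have hinj : Function.Injective (RefHull.stalkMapₗ (RefHull.bidualMap F) (genericPoint X)) :=
      ((stalkMap_bidualMap_bijective_iff hF (genericPoint X)).mpr
        (isReflexiveAt_genericPoint F hF)).1
    apply hinj
    rw [← spec_stalkMapₗ, hf, spec_stalkMapₗ, hψ]
    rfl
  · intro hB
    let D : Groth.Agent.H2.RatHom.Data X :=
      { hX := hX
        G := G
        H := RefHull.ddual F
        hH := isCoh_ddual hF
        hrefl := fun x => isReflexiveAt_ddual F hF x (hX x).1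
        τ := (RefHull.stalkMapₗ (RefHull.bidualMap F) (genericPoint X)).comp T
        hτ := fun x hd1 γ => by
          obtain ⟨f, hf⟩ := hB x hd1 ⟨γ, rfl⟩
          refine ⟨RefHull.stalkMapₗ (RefHull.bidualMap F) x f, ?_⟩
          rw [spec_stalkMapₗ, hf]
          rfl }
    exact ⟨D.hom, D.stalkMapₗ_hom⟩

end Groth.Agent.H2.RefSch
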