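import Mathlib

/-! Invariance of the order of vanishing under ring isomorphisms. -/

universe u
set_option autoImplicit false

namespace Groth.Agent.H2.OrdIso

open WithZero

/-- the length of a ring over itself is invariant under ring isomorphisms -/
theorem length_self_ringEquiv {A B : Type*} [CommRing A] [CommRing B] (ε : A ≃+* B) :
    Module.length A A = Module.length B B := by
  apply WithBot.coe_injective
  rw [Module.coe_length, Module.coe_length]
  exact (Order.krullDim_eq_of_orderIso ε.idealComapOrderIso).symm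

/-- the order of vanishing is invariant under ring isomorphisms -/
theorem ord_ringEquiv {R R' : Type*} [CommRing R] [CommRing R'] (e : R ≃+* R') (a : R) :
    Ring.ord R' (e a) = Ring.ord R a := by
  unfold Ring.ord
  have h1 : Module.length R (R ⧸ Ideal.span {a}) =
      Module.length (R ⧸ Ideal.span {a}) (R ⧸ Ideal.span {a}) :=
    Module.length_eq_of_surjective Ideal.Quotient.mk_surjective
  have h2 : Module.length R' (R' ⧸ Ideal.span {e a}) =
      Module.length (R' ⧸ Ideal.span {e a}) (R' ⧸ Ideal.span {e a}) :=
    Module.length_eq_of_surjective Ideal.Quotient.mk_surjective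
  rw [h1, h2]
  have hmap : Ideal.span {e a} = (Ideal.span {a}).map (e : R →+* R') := by
    rw [Ideal.map_span, Set.image_singleton]
    rfl
  exact (length_self_ringEquiv (Ideal.quotientEquiv _ _ e hmap)).symm

theorem ordMonoidWithZeroHom_ringEquiv {R R' : Type*} [CommRing R] [CommRing R'] [IsDomain R]
    [IsDomain R'] (e : R ≃+* R') (a : R) :
    Ring.ordMonoidWithZeroHom R' (e a) = Ring.ordMonoidWithZeroHom R a := by
  by_cases ha : a = 0
  · subst ha
    rw [map_zero, map_zero, map_zero]
  · have ha' : e a ≠ 0 := fun h => ha (e.injective (h.trans (map_zero e).symm))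
    rw [Ring.ordMonoidWithZeroHom_eq_ord (mem_nonZeroDivisors_of_ne_zero ha'),
      Ring.ordMonoidWithZeroHom_eq_ord (mem_nonZeroDivisors_of_ne_zero ha), ord_ringEquiv]

/-- the order of vanishing on the fraction field is invariant under isomorphisms -/
theorem ordFrac_ringEquiv {R R' K K' : Type*} [CommRing R] [CommRing R'] [IsDomain R]
    [IsDomain R'] [IsNoetherianRing R] [IsNoetherianRing R'] [Ring.KrullDimLE 1 R]
    [Ring.KrullDimLE 1 R'] [Field K] [Field K'] [Algebra R K] [Algebra R' K']
    [IsFractionRing R K] [IsFractionRing R' K'] (e : R ≃+* R') (E : K →+* K')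
    (hcomm : ∀ r : R, E (algebraMap R K r) = algebraMap R' K' (e r)) (z : K) :
    Ring.ordFrac R' (E z) = Ring.ordFrac R z := by
  obtain ⟨a, b, rfl⟩ := IsLocalization.exists_mk'_eq (nonZeroDivisors R) z
  have hb0 : (b : R) ≠ 0 := nonZeroDivisors.ne_zero b.2
  have hb' : e b ∈ nonZeroDivisors R' :=
    mem_nonZeroDivisors_of_ne_zero fun h => hb0 (e.injective (h.trans (map_zero e).symm))
  have hE : E (IsLocalization.mk' K a b) = IsLocalization.mk' K' (e a) ⟨e b, hb'⟩ := by
    rw [eq_comm, IsLocalization.mk'_eq_iff_eq_mul, ← hcomm, ← hcomm, ← map_mul,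
      IsLocalization.mk'_spec]
  rw [hE]
  by_cases ha : a = 0
  · subst ha
    rw [map_zero, IsLocalization.mk'_zero, IsLocalization.mk'_zero, map_zero, map_zero]
  · have ha' : e a ∈ nonZeroDivisors R' :=
      mem_nonZeroDivisors_of_ne_zero fun h => ha (e.injective (h.trans (map_zero e).symm))
    have h1 := Ring.ordFrac_eq_div R' (K := K') (⟨e a, ha'⟩ : nonZeroDivisors R') ⟨e b, hb'⟩
    have h2 := Ring.ordFrac_eq_div R (K := K) (⟨a, mem_nonZeroDivisors_of_ne_zero ha⟩ :
      nonZeroDivisors R) b
    rw [h1, h2]
    simp only [ordMonoidWithZeroHom_ringEquiv]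

end Groth.Agent.H2.OrdIso
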