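import Mathlib
import Groth.Agent.Lib.Helper2.OrdIso
import Groth.Prelude.Def_Cyc
import Groth.Prelude.Def_C1

/-! The bridge between the prelude's `Cyc.ordAt` along `η ⤳ x` and Mathlib's `Scheme.ord`. -/

universe u
set_option autoImplicit false
set_option linter.style.haveILetI false
open CategoryTheory AlgebraicGeometry TopologicalSpace Opposite IsLocalRing WithZero

namespace Groth.Agent.H2.OrdBridge

variable {X : Scheme.{u}} [IsIntegral X] [IsLocallyNoetherian X]

/-- the canonical specialization of the generic point -/
theorem gspec (x : X) : genericPoint X ⤳ x :=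
  (genericPoint_spec X).specializes (Set.mem_univ x)

/-- the residue map at the generic point -/
noncomputable abbrev resη (X : Scheme.{u}) [IsIntegral X] :
    X.functionField →+* X.residueField (genericPoint X) :=
  (X.residue (genericPoint X)).hom

theorem resη_injective : Function.Injective (resη X) := (resη X).injective

theorem resη_surjective : Function.Surjective (resη X) :=
  Ideal.Quotient.mk_surjective

theorem specMap_eq (x : X) (r : X.presheaf.stalk x) :
    Cyc.specMap x (genericPoint X) (gspec x) r =
      resη X (algebraMap (X.presheaf.stalk x) X.functionField r) := rfl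

theorem specMap_injective (x : X) :
    Function.Injective (Cyc.specMap x (genericPoint X) (gspec x)) := by
  intro a b hab
  rw [specMap_eq, specMap_eq] at hab
  exact IsFractionRing.injective (X.presheaf.stalk x) X.functionField (resη_injective hab)

theorem ker_specMap (x : X) :
    RingHom.ker (Cyc.specMap x (genericPoint X) (gspec x)) = ⊥ :=
  (RingHom.injective_iff_ker_eq_bot _).mp (specMap_injective x)

/-- the quotient map `O_x → O_x / 𝔭_η` is an isomorphism -/
noncomputable def quotEquiv (x : X) :
    X.presheaf.stalk x ≃+* Cyc.LocQuot x (genericPoint X) (gspec x) :=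
  RingEquiv.ofBijective (Ideal.Quotient.mk _) ⟨by
    rw [RingHom.injective_iff_ker_eq_bot, Ideal.mk_ker]
    exact ker_specMap x, Ideal.Quotient.mk_surjective⟩

theorem algebraMap_quotEquiv (x : X) (r : X.presheaf.stalk x) :
    algebraMap (Cyc.LocQuot x (genericPoint X) (gspec x)) (X.residueField (genericPoint X))
      (quotEquiv x r) = resη X (algebraMap (X.presheaf.stalk x) X.functionField r) := rfl

instance (x : X) : IsDomain (Cyc.LocQuot x (genericPoint X) (gspec x)) :=
  (quotEquiv x).symm.toMulEquiv.isDomain _

instance (x : X) : FaithfulSMul (Cyc.LocQuot x (genericPoint X) (gspec x))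
    (X.residueField (genericPoint X)) := by
  rw [faithfulSMul_iff_algebraMap_injective]
  intro a b hab
  obtain ⟨a, rfl⟩ := (quotEquiv x).surjective a
  obtain ⟨b, rfl⟩ := (quotEquiv x).surjective b
  rw [algebraMap_quotEquiv, algebraMap_quotEquiv] at hab
  rw [IsFractionRing.injective (X.presheaf.stalk x) X.functionField (resη_injective hab)]

instance (x : X) : IsFractionRing (Cyc.LocQuot x (genericPoint X) (gspec x))
    (X.residueField (genericPoint X)) := by
  apply IsFractionRing.of_field
  intro z
  obtain ⟨y, rfl⟩ := resη_surjective (X := X) z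
  obtain ⟨a, b, rfl⟩ := IsLocalization.exists_mk'_eq (nonZeroDivisors (X.presheaf.stalk x)) y
  refine ⟨quotEquiv x a, quotEquiv x b, ?_⟩
  rw [algebraMap_quotEquiv, algebraMap_quotEquiv, ← map_div₀]
  congr 1
  rw [IsFractionRing.mk'_eq_div]

theorem krullDimLE_locQuot (x : X) (hx : Order.coheight x = 1) :
    Ring.KrullDimLE 1 (Cyc.LocQuot x (genericPoint X) (gspec x)) := by
  haveI : Ring.KrullDimLE 1 (X.presheaf.stalk x) := krullDimLE_of_coheight_le hx.le
  rw [Ring.krullDimLE_iff]
  have h1 := ringKrullDim_le_of_surjective (Ideal.Quotient.mk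
    (RingHom.ker (Cyc.specMap x (genericPoint X) (gspec x)))) Ideal.Quotient.mk_surjective
  exact h1.trans (Ring.krullDimLE_iff.mp inferInstance)

/-- **the bridge** -/
theorem ordAt_resη (x : X) (hx : Order.coheight x = 1) (f : X.functionField) :
    Cyc.ordAt x (genericPoint X) (gspec x) (resη X f) = Scheme.ord f x := by
  haveI : Ring.KrullDimLE 1 (X.presheaf.stalk x) := krullDimLE_of_coheight_le hx.le
  haveI := krullDimLE_locQuot x hx
  have hcond : IsNoetherianRing (Cyc.LocQuot x (genericPoint X) (gspec x)) ∧
      Ring.KrullDimLE 1 (Cyc.LocQuot x (genericPoint X) (gspec x)) ∧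
      Nontrivial (Cyc.LocQuot x (genericPoint X) (gspec x)) ∧
      IsFractionRing (Cyc.LocQuot x (genericPoint X) (gspec x))
        (X.residueField (genericPoint X)) :=
    ⟨inferInstance, inferInstance, inferInstance, inferInstance⟩
  unfold Cyc.ordAt CycAlg.ordFrac
  rw [dif_pos hcond]
  have key : Ring.ordFrac (Cyc.LocQuot x (genericPoint X) (gspec x)) (resη X f) =
      Ring.ordFrac (X.presheaf.stalk x) f :=
    Groth.Agent.H2.OrdIso.ordFrac_ringEquiv (quotEquiv x) (resη X)
      (fun r => (algebraMap_quotEquiv x r).symm) f
  rw [key, Scheme.ord_eq_ordHom_of_coheight_eq_one hx]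
  change _ = Multiplicative.toAdd ((Ring.ordFrac (X.presheaf.stalk x) f).unzeroD 1)
  by_cases hf : f = 0
  · subst hf
    rw [map_zero]
    rfl
  · have hne : Ring.ordFrac (X.presheaf.stalk x) f ≠ 0 :=
      (map_ne_zero (Ring.ordFrac (X.presheaf.stalk x) (K := X.functionField))).mpr hf
    obtain ⟨m, hm⟩ := WithZero.ne_zero_iff_exists.mp hne
    rw [← hm]
    rfl

end Groth.Agent.H2.OrdBridge
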