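import Mathlib
import Groth.Agent.Lib.Helper2.OrdBridge
import Groth.Agent.Lib.Helper2.StalkSpec

/-! Unwinding `Cyc.secOrdAt` along `η ⤳ x` in terms of `Scheme.ord`. -/

universe u
set_option autoImplicit false
set_option linter.style.haveILetI false
open CategoryTheory AlgebraicGeometry TopologicalSpace Opposite IsLocalRing WithZero

namespace Groth.Agent.H2.SecOrd
open Groth.Agent.LD.QC Groth.Agent.H1.StalkGen Groth.Agent.H2.StalkSpec Groth.Agent.H2.OrdBridge

attribute [-instance] Groth.Agent.LD.QC.stalkModule

variable {X : Scheme.{u}} [IsIntegral X] [IsLocallyNoetherian X]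

/-- units of the local ring have order zero -/
theorem ord_algebraMap_of_isUnit (x : X) (u : X.presheaf.stalk x) (hu : IsUnit u) :
    Scheme.ord (algebraMap (X.presheaf.stalk x) X.functionField u) x = 0 := by
  by_cases hx : Order.coheight x = 1
  · haveI : Ring.KrullDimLE 1 (X.presheaf.stalk x) := krullDimLE_of_coheight_le hx.le
    have hne : algebraMap (X.presheaf.stalk x) X.functionField u ≠ 0 :=
      (hu.map (algebraMap (X.presheaf.stalk x) X.functionField)).ne_zero
    rw [Scheme.ord_eq_iff hx hne]
    exact Ring.ordFrac_of_isUnit hu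
  · exact Scheme.ord_eq_zero_of_coheight_neq_one hx _

/-- the image of a generator of the stalk generates the stalk at a generization -/
theorem spec_generates (F : X.Modules) [F.IsQuasicoherent] {x z : X} (h : z ⤳ x)
    (t : F.presheaf.stalk x) (ht : Submodule.span (X.presheaf.stalk x) {t} = ⊤)
    (v : F.presheaf.stalk z) :
    ∃ c : X.presheaf.stalk z, v = c • (F.presheaf.stalkSpecializes h).hom t := by
  letI := specModule F h
  letI algxz : Algebra (X.presheaf.stalk x) (X.presheaf.stalk z) :=
    (X.presheaf.stalkSpecializes h).hom.toAlgebra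
  haveI hloc := isLocalization_stalkSpecializes h
  haveI hlm := isLocalizedModule_specLinear F h
  obtain ⟨⟨m, b⟩, hmb⟩ := IsLocalizedModule.surj (primeOf h).asIdeal.primeCompl (specLinear F h) v
  have hm : m ∈ Submodule.span (X.presheaf.stalk x) {t} := by rw [ht]; trivial
  obtain ⟨a, rfl⟩ := Submodule.mem_span_singleton.mp hm
  have hbu : IsUnit ((X.presheaf.stalkSpecializes h).hom b.1) :=
    IsLocalization.map_units (X.presheaf.stalk z) b
  obtain ⟨bu, hbu'⟩ := hbu
  refine ⟨↑bu⁻¹ * (X.presheaf.stalkSpecializes h).hom a, ?_⟩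
  have h1 : (X.presheaf.stalkSpecializes h).hom b.1 • v =
      (X.presheaf.stalkSpecializes h).hom a • (F.presheaf.stalkSpecializes h).hom t := by
    have : b.1 • v = specLinear F h (a • t) := hmb
    rw [specLinear_apply, stalkSpecializes_smul] at this
    exact this
  rw [mul_smul, ← h1, ← hbu', smul_smul, Units.inv_mul, one_smul]

end Groth.Agent.H2.SecOrd

namespace Groth.Agent.H2.SecOrd
open Groth.Agent.LD.QC Groth.Agent.H1.StalkGen Groth.Agent.H2.StalkSpec Groth.Agent.H2.OrdBridge

attribute [-instance] Groth.Agent.LD.QC.stalkModule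

variable {X : Scheme.{u}} [IsIntegral X] [IsLocallyNoetherian X]

/-- the class in the generic fibre of the image of an element of the stalk at `x` -/
noncomputable abbrev fibMk (F : X.Modules) (x : X) (t : F.presheaf.stalk x) :
    Cyc.secFibre F (genericPoint X) :=
  Submodule.Quotient.mk ((F.presheaf.stalkSpecializes (gspec x)) t)

theorem fibMk_smul (F : X.Modules) (x : X) (a : X.presheaf.stalk x) (t : F.presheaf.stalk x) :
    fibMk F x (a • t) = algebraMap (X.presheaf.stalk x) X.functionField a • fibMk F x t := by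
  unfold fibMk
  rw [← Submodule.Quotient.mk_smul]
  congr 1
  exact stalkSpecializes_smul F (gspec x) a t

theorem smul_cancel (F : X.Modules) (c : X.functionField)
    (v : Cyc.secFibre F (genericPoint X)) (hv : v ≠ 0) (hcv : c • v = 0) : c = 0 := by
  by_contra hc
  apply hv
  have := congrArg (fun w => c⁻¹ • w) hcv
  simpa [smul_smul, inv_mul_cancel₀ hc] using this

/-- **unwinding `secOrdAt`**: the order of a rational section may be computed with any
generator of the stalk. -/
theorem secOrdAt_eq (F : X.Modules) [F.IsQuasicoherent] (x : X) (hx : Order.coheight x = 1)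
    (s : Cyc.secFibre F (genericPoint X)) (hs : s ≠ 0)
    (t : F.presheaf.stalk x) (ht : Submodule.span (X.presheaf.stalk x) {t} = ⊤)
    (φ : X.functionField) (hφ : s = φ • fibMk F x t) :
    Cyc.secOrdAt F (genericPoint X) x (gspec x) s = Scheme.ord φ x := by
  classical
  have hne : ∀ t' : F.presheaf.stalk x, Submodule.span (X.presheaf.stalk x) {t'} = ⊤ →
      fibMk F x t' ≠ 0 := by
    intro t' ht' h0
    apply hs
    obtain ⟨v, rfl⟩ := Submodule.Quotient.mk_surjective _ s
    obtain ⟨c, rfl⟩ := spec_generates F (gspec x) t' ht' v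
    rw [Submodule.Quotient.mk_smul]
    have : (Submodule.Quotient.mk ((F.presheaf.stalkSpecializes (gspec x)).hom t') :
        Cyc.secFibre F (genericPoint X)) = 0 := h0
    rw [this, smul_zero]
  unfold Cyc.secOrdAt
  have ht' : ∃ t : F.presheaf.stalk x, Submodule.span (X.presheaf.stalk x) {t} = ⊤ := ⟨t, ht⟩
  rw [dif_pos ht']
  have ht₀ : Submodule.span (X.presheaf.stalk x) {Classical.choose ht'} = ⊤ :=
    Classical.choose_spec ht'
  set t₀ := Classical.choose ht' with ht₀def
  obtain ⟨u', hu'⟩ : ∃ u' : X.presheaf.stalk x, u' • t₀ = t :=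
    Submodule.mem_span_singleton.mp (by rw [ht₀]; trivial)
  obtain ⟨u, hu⟩ : ∃ u : X.presheaf.stalk x, u • t = t₀ :=
    Submodule.mem_span_singleton.mp (by rw [ht]; trivial)
  have hu'unit : IsUnit u' := by
    by_contra hnu
    have hmem : u' * u ∈ maximalIdeal (X.presheaf.stalk x) :=
      Ideal.mul_mem_right _ _ ((IsLocalRing.mem_maximalIdeal _).mpr hnu)
    have h1 : IsUnit (1 - u' * u) := by
      have := IsLocalRing.isUnit_one_sub_self_of_mem_nonunits _
        ((IsLocalRing.mem_maximalIdeal _).mp hmem)
      exact this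
    have h2 : (1 - u' * u) • t = 0 := by
      rw [sub_smul, one_smul, mul_smul, hu, hu', sub_self]
    have h3 : t = 0 := by
      obtain ⟨w, hw⟩ := h1
      rw [← hw] at h2
      have := congrArg (fun z => (↑w⁻¹ : X.presheaf.stalk x) • z) h2
      simpa [smul_smul] using this
    apply hne t ht
    rw [h3]
    unfold fibMk
    rw [map_zero]
    rfl
  have hφ' : ∃ φ' : X.presheaf.stalk (genericPoint X), s = φ' •
      (Submodule.Quotient.mk ((F.presheaf.stalkSpecializes (gspec x)) t₀) :
        Cyc.secFibre F (genericPoint X)) := by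
    refine ⟨φ * algebraMap (X.presheaf.stalk x) X.functionField u', ?_⟩
    rw [hφ, ← hu', fibMk_smul, smul_smul]
  rw [dif_pos hφ']
  have hφ₀ := Classical.choose_spec hφ'
  set φ₀ := Classical.choose hφ' with hφ₀def
  have heq : φ₀ = φ * algebraMap (X.presheaf.stalk x) X.functionField u' := by
    have h0 : (φ₀ - φ * algebraMap (X.presheaf.stalk x) X.functionField u') • fibMk F x t₀ = 0 := by
      rw [sub_smul, sub_eq_zero]
      have h1 : φ₀ • fibMk F x t₀ = s := hφ₀.symm
      rw [h1, hφ, ← hu', fibMk_smul, smul_smul]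
    exact sub_eq_zero.mp (smul_cancel F _ _ (hne t₀ ht₀) h0)
  have hφne : φ ≠ 0 := by
    rintro rfl
    apply hs
    rw [hφ, zero_smul]
  have hune : algebraMap (X.presheaf.stalk x) X.functionField u' ≠ 0 :=
    (hu'unit.map (algebraMap (X.presheaf.stalk x) X.functionField)).ne_zero
  change Cyc.ordAt x (genericPoint X) (gspec x) (resη X φ₀) = _
  rw [ordAt_resη x hx, heq, Scheme.ord_mul hφne hune, ord_algebraMap_of_isUnit x u' hu'unit,
    add_zero]

end Groth.Agent.H2.SecOrd
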