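import Mathlib
import Groth.Agent.Lib.Helper2.SecOrd
import Groth.Agent.Lib.Helper2.PicCodim2
import Groth.Agent.Lib.Helper1.OrdFinite

/-! Orders of rational sections of modules with a local basis; S8923. -/

universe u
set_option autoImplicit false
set_option linter.style.haveILetI false
open CategoryTheory AlgebraicGeometry TopologicalSpace Opposite IsLocalRing WithZero

namespace Groth.Agent.H2.SecOrd
open Groth.Agent.LD.QC Groth.Agent.H1.StalkGen Groth.Agent.H2.StalkSpec Groth.Agent.H2.OrdBridge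

attribute [-instance] Groth.Agent.LD.QC.stalkModule

variable {X : Scheme.{u}} [IsIntegral X] [IsLocallyNoetherian X]

theorem genericPoint_mem' (U : X.Opens) (h : (U : Set X).Nonempty) : genericPoint X ∈ U := by
  refine ((genericPoint_spec X).mem_open_set_iff U.2).mpr ?_
  rw [Set.univ_inter]
  exact h

/-- the class in the generic fibre of the germ of a section -/
noncomputable abbrev fibGerm (L : X.Modules) (U : X.Opens) (hη : genericPoint X ∈ U)
    (ε : Γ(L, U)) : Cyc.secFibre L (genericPoint X) :=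
  Submodule.Quotient.mk (L.presheaf.germ U (genericPoint X) hη ε)

theorem fibMk_germ (L : X.Modules) (U : X.Opens) (x : X) (hx : x ∈ U) (ε : Γ(L, U)) :
    fibMk L x (L.presheaf.germ U x hx ε) =
      fibGerm L U ((gspec x).mem_open U.2 hx) ε := by
  unfold fibMk fibGerm
  congr 1
  exact stalkSpecializes_germ L (gspec x) U hx ε

theorem span_germ_eq_top (L : X.Modules) (U : X.Opens) (ε : Γ(L, U)) (hε : IsBasisOver L U ε)
    (x : X) (hx : x ∈ U) :
    Submodule.span (X.presheaf.stalk x) {L.presheaf.germ U x hx ε} = ⊤ := by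
  rw [eq_top_iff]
  intro m _
  obtain ⟨a, ha⟩ := (Groth.Agent.H2.PicCodim2.bijective_toSpanSingleton_germ L U ε hε x hx).2 m
  rw [← ha, LinearMap.toSpanSingleton_apply]
  exact Submodule.smul_mem _ _ (Submodule.mem_span_singleton_self _)

/-- every rational section is a multiple of a local basis -/
theorem exists_eq_smul_fibGerm (L : X.Modules) (U : X.Opens) (ε : Γ(L, U))
    (hε : IsBasisOver L U ε) (hη : genericPoint X ∈ U) (s : Cyc.secFibre L (genericPoint X)) :
    ∃ a : X.functionField, s = a • fibGerm L U hη ε := by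
  obtain ⟨v, rfl⟩ := Submodule.Quotient.mk_surjective _ s
  obtain ⟨a, ha⟩ := (Groth.Agent.H2.PicCodim2.bijective_toSpanSingleton_germ L U ε hε _ hη).2 v
  refine ⟨a, ?_⟩
  rw [← ha, LinearMap.toSpanSingleton_apply]
  rfl

/-- the order of a rational section computed in a local basis -/
theorem secOrdAt_of_basis (L : X.Modules) [L.IsQuasicoherent] (U : X.Opens) (ε : Γ(L, U))
    (hε : IsBasisOver L U ε) (hη : genericPoint X ∈ U) (a : X.functionField)
    (s : Cyc.secFibre L (genericPoint X)) (hs : s ≠ 0) (hsa : s = a • fibGerm L U hη ε)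
    (x : X) (hxU : x ∈ U) (hx : Order.coheight x = 1) :
    Cyc.secOrdAt L (genericPoint X) x (gspec x) s = Scheme.ord a x := by
  apply secOrdAt_eq L x hx s hs (L.presheaf.germ U x hxU ε) (span_germ_eq_top L U ε hε x hxU) a
  rw [fibMk_germ]
  exact hsa

/-- **S8923** -/
theorem s8923 (L : X.Modules) (hL : PicF.IsInvertible L)
    (s : Cyc.secFibre L (genericPoint X)) (hs : s ≠ 0) :
    LocallyFinite (fun x : {x : X // ringKrullDim (X.presheaf.stalk x) = 1 ∧
        Cyc.secOrdAt L (genericPoint X) x (gspec x) s ≠ 0} => closure ({x.1} : Set X)) := by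
  haveI := qc_of_isInvertible L hL
  intro y
  obtain ⟨U, ε, hyU, hε⟩ := (isInvertible_iff_exists_isBasisOver L).mp hL y
  have hη : genericPoint X ∈ U := genericPoint_mem' U ⟨y, hyU⟩
  obtain ⟨a, hsa⟩ := exists_eq_smul_fibGerm L U ε hε hη s
  have ha0 : a ≠ 0 := by
    rintro rfl
    apply hs
    rw [hsa, zero_smul]
  obtain ⟨N, hN, hfin⟩ := Groth.Agent.H1.OrdFinite.locallyFinite_closure_ord_ne_zero a ha0 y
  refine ⟨N ∩ U, Filter.inter_mem hN (U.2.mem_nhds hyU), ?_⟩
  have hmem : ∀ i : {x : X // ringKrullDim (X.presheaf.stalk x) = 1 ∧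
      Cyc.secOrdAt L (genericPoint X) x (gspec x) s ≠ 0},
      (closure ({i.1} : Set X) ∩ (N ∩ U)).Nonempty → i.1 ∈ U := by
    rintro i ⟨z, hz1, -, hzU⟩
    have hsp : i.1 ⤳ z := specializes_iff_mem_closure.mpr hz1
    exact hsp.mem_open U.2 hzU
  have hcoh : ∀ i : {x : X // ringKrullDim (X.presheaf.stalk x) = 1 ∧
      Cyc.secOrdAt L (genericPoint X) x (gspec x) s ≠ 0}, Order.coheight i.1 = 1 := by
    intro i
    have h1 := i.2.1
    rw [ringKrullDim_stalk_eq_coheight] at h1
    exact_mod_cast h1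
  let g : {i : {x : X // ringKrullDim (X.presheaf.stalk x) = 1 ∧
      Cyc.secOrdAt L (genericPoint X) x (gspec x) s ≠ 0} //
        (closure ({i.1} : Set X) ∩ (N ∩ U)).Nonempty} →
      {ξ : {ξ : X // Order.coheight ξ = 1 ∧ Scheme.ord a ξ ≠ 0} //
        (closure ({ξ.1} : Set X) ∩ N).Nonempty} := fun i =>
    ⟨⟨i.1.1, hcoh i.1, by
      have := i.1.2.2
      rwa [secOrdAt_of_basis L U ε hε hη a s hs hsa i.1.1 (hmem i.1 i.2) (hcoh i.1)] at this⟩, by
      obtain ⟨z, hz1, hzN, -⟩ := i.2
      exact ⟨z, hz1, hzN⟩⟩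
  have hg : Function.Injective g := by
    intro i j hij
    apply Subtype.ext
    apply Subtype.ext
    exact congrArg (fun w => w.1.1) hij
  haveI : Finite {ξ : {ξ : X // Order.coheight ξ = 1 ∧ Scheme.ord a ξ ≠ 0} //
      (closure ({ξ.1} : Set X) ∩ N).Nonempty} := hfin
  exact Finite.of_injective g hg

end Groth.Agent.H2.SecOrd
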