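import Mathlib
import Groth.Agent.Lib.Helper2.SecOrdInv
import Groth.Agent.Lib.Lead.QC.InvBasis

/-! Orders of rational sections of tensor products of invertible modules; S16092. -/

universe u
set_option autoImplicit false
set_option linter.style.haveILetI false
open CategoryTheory AlgebraicGeometry TopologicalSpace Opposite IsLocalRing WithZero

namespace Groth.Agent.H2.SecOrd
open Groth.Agent.LD.QC Groth.Agent.H1.StalkGen Groth.Agent.H2.StalkSpec Groth.Agent.H2.OrdBridge

attribute [-instance] Groth.Agent.LD.QC.stalkModule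

variable {X : Scheme.{u}} [IsIntegral X] [IsLocallyNoetherian X]

theorem fibGerm_res (L : X.Modules) {U V : X.Opens} (hVU : V ≤ U) (hη : genericPoint X ∈ V)
    (ε : Γ(L, U)) :
    fibGerm L V hη (L.presheaf.map (homOfLE hVU).op ε) = fibGerm L U (hVU hη) ε := by
  unfold fibGerm
  rw [germ_res L _ hVU hη ε]

theorem fibGerm_smul (L : X.Modules) (V : X.Opens) (hη : genericPoint X ∈ V) (γ : Γ(X, V))
    (ε : Γ(L, V)) :
    fibGerm L V hη (γ • ε) = X.presheaf.germ V (genericPoint X) hη γ • fibGerm L V hη ε := by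
  unfold fibGerm
  rw [Mero.germ_smul]
  rfl

theorem maximalIdeal_functionField :
    maximalIdeal (X.presheaf.stalk (genericPoint X)) = ⊥ :=
  IsLocalRing.isField_iff_maximalIdeal_eq.mp (Field.toIsField X.functionField)

/-- the class of a local basis in the generic fibre is nonzero -/
theorem fibGerm_ne_zero (L : X.Modules) (U : X.Opens) (ε : Γ(L, U)) (hε : IsBasisOver L U ε)
    (hη : genericPoint X ∈ U) : fibGerm L U hη ε ≠ 0 := by
  intro h0
  unfold fibGerm at h0
  rw [Submodule.Quotient.mk_eq_zero, maximalIdeal_functionField, Submodule.bot_smul,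
    Submodule.mem_bot] at h0
  have hinj := (Groth.Agent.H2.PicCodim2.bijective_toSpanSingleton_germ L U ε hε _ hη).1
  have : (1 : X.presheaf.stalk (genericPoint X)) = 0 := by
    apply hinj
    rw [LinearMap.toSpanSingleton_apply, LinearMap.toSpanSingleton_apply, h0, smul_zero,
      smul_zero]
  exact one_ne_zero this

theorem coheight_eq_one_of_dim (x : X) (h : ringKrullDim (X.presheaf.stalk x) = 1) :
    Order.coheight x = 1 := by
  rw [ringKrullDim_stalk_eq_coheight] at h
  exact_mod_cast h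

/-- **S16092** -/
theorem s16092 (L N : X.Modules) (hL : PicF.IsInvertible L) (hN : PicF.IsInvertible N)
    (s : Cyc.secFibre L (genericPoint X)) (hs : s ≠ 0)
    (t : Cyc.secFibre N (genericPoint X)) (ht : t ≠ 0) :
    ∃ w : Cyc.secFibre (CohB1.tensorMod L N) (genericPoint X), w ≠ 0 ∧
      ∀ x : X, ringKrullDim (X.presheaf.stalk x) = 1 →
        Cyc.secOrdAt (CohB1.tensorMod L N) (genericPoint X) x (gspec x) w =
          Cyc.secOrdAt L (genericPoint X) x (gspec x) s +
            Cyc.secOrdAt N (genericPoint X) x (gspec x) t := by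
  haveI := qc_of_isInvertible L hL
  haveI := qc_of_isInvertible N hN
  have hLN : PicF.IsInvertible (CohB1.tensorMod L N) := isInvertible_tensorMod hL hN
  haveI := qc_of_isInvertible _ hLN
  -- bases near the generic point
  obtain ⟨U₁, ε₁, hη₁, hε₁⟩ := (isInvertible_iff_exists_isBasisOver L).mp hL (genericPoint X)
  obtain ⟨U₂, ε₂, hη₂, hε₂⟩ := (isInvertible_iff_exists_isBasisOver N).mp hN (genericPoint X)
  set U₀ := U₁ ⊓ U₂ with hU₀
  have hη₀ : genericPoint X ∈ U₀ := ⟨hη₁, hη₂⟩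
  set ε := L.presheaf.map (homOfLE (inf_le_left : U₀ ≤ U₁)).op ε₁ with hεdef
  set ε' := N.presheaf.map (homOfLE (inf_le_right : U₀ ≤ U₂)).op ε₂ with hε'def
  have hε : IsBasisOver L U₀ ε := hε₁.mono inf_le_left
  have hε' : IsBasisOver N U₀ ε' := hε₂.mono inf_le_right
  obtain ⟨a, hsa⟩ := exists_eq_smul_fibGerm L U₀ ε hε hη₀ s
  obtain ⟨b, htb⟩ := exists_eq_smul_fibGerm N U₀ ε' hε' hη₀ t
  have ha0 : a ≠ 0 := by rintro rfl; exact hs (by rw [hsa, zero_smul])
  have hb0 : b ≠ 0 := by rintro rfl; exact ht (by rw [htb, zero_smul])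
  have hbas := hε.tmul hε'
  refine ⟨(a * b) • fibGerm (CohB1.tensorMod L N) U₀ hη₀ (SecTwist.tmul L N U₀ ε ε'), ?_, ?_⟩
  · intro h0
    have := smul_cancel _ _ _ (fibGerm_ne_zero _ U₀ _ hbas hη₀) h0
    exact mul_ne_zero ha0 hb0 this
  · intro x hdim
    have hx := coheight_eq_one_of_dim x hdim
    obtain ⟨V₁, δ₁, hx₁, hδ₁⟩ := (isInvertible_iff_exists_isBasisOver L).mp hL x
    obtain ⟨V₂, δ₂, hx₂, hδ₂⟩ := (isInvertible_iff_exists_isBasisOver N).mp hN x
    set Ux := V₁ ⊓ V₂ with hUx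
    have hxU : x ∈ Ux := ⟨hx₁, hx₂⟩
    have hηx : genericPoint X ∈ Ux := (gspec x).mem_open Ux.2 hxU
    set δ := L.presheaf.map (homOfLE (inf_le_left : Ux ≤ V₁)).op δ₁ with hδdef
    set δ' := N.presheaf.map (homOfLE (inf_le_right : Ux ≤ V₂)).op δ₂ with hδ'def
    have hδ : IsBasisOver L Ux δ := hδ₁.mono inf_le_left
    have hδ' : IsBasisOver N Ux δ' := hδ₂.mono inf_le_right
    set V := U₀ ⊓ Ux with hV
    have hηV : genericPoint X ∈ V := ⟨hη₀, hηx⟩
    obtain ⟨γ, hγ⟩ := (hδ V inf_le_right).2 (L.presheaf.map (homOfLE (inf_le_left : V ≤ U₀)).op ε)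
    obtain ⟨γ', hγ'⟩ := (hδ' V inf_le_right).2
      (N.presheaf.map (homOfLE (inf_le_left : V ≤ U₀)).op ε')
    have hγ1 : γ • L.presheaf.map (homOfLE (inf_le_right : V ≤ Ux)).op δ =
        L.presheaf.map (homOfLE (inf_le_left : V ≤ U₀)).op ε := hγ
    have hγ'1 : γ' • N.presheaf.map (homOfLE (inf_le_right : V ≤ Ux)).op δ' =
        N.presheaf.map (homOfLE (inf_le_left : V ≤ U₀)).op ε' := hγ'
    set c := X.presheaf.germ V (genericPoint X) hηV γ with hc
    set c' := X.presheaf.germ V (genericPoint X) hηV γ' with hc'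
    have h1 : fibGerm L U₀ hη₀ ε = c • fibGerm L Ux hηx δ := by
      rw [← fibGerm_res L (inf_le_left : V ≤ U₀) hηV ε, ← hγ1, fibGerm_smul,
        fibGerm_res L (inf_le_right : V ≤ Ux) hηV δ]
    have h2 : fibGerm N U₀ hη₀ ε' = c' • fibGerm N Ux hηx δ' := by
      rw [← fibGerm_res N (inf_le_left : V ≤ U₀) hηV ε', ← hγ'1, fibGerm_smul,
        fibGerm_res N (inf_le_right : V ≤ Ux) hηV δ']
    have e1 : (CohB1.tensorMod L N).presheaf.map (homOfLE (inf_le_left : V ≤ U₀)).op
        (SecTwist.tmul L N U₀ ε ε') =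
        (γ * γ') • (CohB1.tensorMod L N).presheaf.map (homOfLE (inf_le_right : V ≤ Ux)).op
          (SecTwist.tmul L N Ux δ δ') := by
      rw [tmul_res, ← hγ1, ← hγ'1, tmul_smul_left, tmul_smul_right, tmul_res, mul_smul]
      rfl
    have h3 : fibGerm (CohB1.tensorMod L N) U₀ hη₀ (SecTwist.tmul L N U₀ ε ε') =
        (c * c') • fibGerm (CohB1.tensorMod L N) Ux hηx (SecTwist.tmul L N Ux δ δ') := by
      rw [← fibGerm_res _ (inf_le_left : V ≤ U₀) hηV, e1, fibGerm_smul,
        fibGerm_res _ (inf_le_right : V ≤ Ux) hηV, map_mul]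
    have hs' : s = (a * c) • fibGerm L Ux hηx δ := by rw [hsa, h1, smul_smul]
    have ht' : t = (b * c') • fibGerm N Ux hηx δ' := by rw [htb, h2, smul_smul]
    have hw' : (a * b) • fibGerm (CohB1.tensorMod L N) U₀ hη₀ (SecTwist.tmul L N U₀ ε ε') =
        ((a * c) * (b * c')) • fibGerm (CohB1.tensorMod L N) Ux hηx
          (SecTwist.tmul L N Ux δ δ') := by
      rw [h3, smul_smul]
      congr 1
      ring
    have hac : a * c ≠ 0 := by
      intro h0; apply hs; rw [hs', h0, zero_smul]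
    have hbc : b * c' ≠ 0 := by
      intro h0; apply ht; rw [ht', h0, zero_smul]
    have hw0 : (a * b) • fibGerm (CohB1.tensorMod L N) U₀ hη₀ (SecTwist.tmul L N U₀ ε ε') ≠ 0 := by
      intro h0
      have := smul_cancel _ _ _ (fibGerm_ne_zero _ U₀ _ hbas hη₀) h0
      exact mul_ne_zero ha0 hb0 this
    rw [secOrdAt_of_basis L Ux δ hδ hηx (a * c) s hs hs' x hxU hx,
      secOrdAt_of_basis N Ux δ' hδ' hηx (b * c') t ht ht' x hxU hx,
      secOrdAt_of_basis (CohB1.tensorMod L N) Ux _ (hδ.tmul hδ') hηx ((a * c) * (b * c')) _ hw0 hw'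
        x hxU hx, Scheme.ord_mul hac hbc]

end Groth.Agent.H2.SecOrd
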