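import Mathlib
import Groth.Agent.Lib.Helper2.SecOrdInv
import Groth.Agent.Lib.Helper2.SecOrdTensor
import Groth.Agent.Lib.Helper2.RatExt
import Groth.Agent.Lib.Helper1.CDivKit5
import Groth.Agent.Lib.Lead.QC.InvBasis

/-! S5103: an invertible module whose rational section has principal divisor is trivial. -/

universe u
set_option autoImplicit false
set_option linter.style.haveILetI false
open CategoryTheory AlgebraicGeometry TopologicalSpace Opposite IsLocalRing WithZero

namespace Groth.Agent.H2.SecOrd
open Groth.Agent.LD.QC Groth.Agent.H1.StalkGen Groth.Agent.H2.StalkSpec Groth.Agent.H2.OrdBridge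
open Groth.Agent.H1.CDivKit

attribute [-instance] Groth.Agent.LD.QC.stalkModule

variable {X : Scheme.{u}} [IsIntegral X] [IsLocallyNoetherian X]

theorem ord_one (y : X) : Scheme.ord (1 : X.functionField) y = 0 := by
  have h := Scheme.ord_mul (x := y) (one_ne_zero (α := X.functionField)) one_ne_zero
  rw [mul_one] at h
  omega

theorem ord_inv (y : X) (g : X.functionField) (hg : g ≠ 0) :
    Scheme.ord g⁻¹ y = - Scheme.ord g y := by
  have h := Scheme.ord_mul (x := y) hg (inv_ne_zero hg)
  rw [mul_inv_cancel₀ hg, ord_one] at h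
  omega

/-- a rational function of order zero along all prime divisors of a normal affine chart is a unit
in every local ring of the chart. -/
theorem exists_unit_of_ord_eq_zero (hX : Pi1.IsNormalScheme X) {V : X.Opens}
    (hV : IsAffineOpen V) (g : X.functionField) (hg : g ≠ 0)
    (h : ∀ y : X, y ∈ V → Order.coheight y = 1 → Scheme.ord g y = 0) (x : X) (hx : x ∈ V) :
    ∃ u : X.presheaf.stalk x, IsUnit u ∧ algebraMap (X.presheaf.stalk x) X.functionField u = g := by
  have h1 : g ∈ O x := by
    apply mem_O_of_forall_coheight_one hX hV g _ x hx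
    intro y hy hcy
    exact (mem_O_iff_ord_nonneg hX y hcy (Units.mk0 g hg)).mpr
      (by rw [Units.val_mk0, h y hy hcy])
  have h2 : g⁻¹ ∈ O x := by
    apply mem_O_of_forall_coheight_one hX hV g⁻¹ _ x hx
    intro y hy hcy
    exact (mem_O_iff_ord_nonneg hX y hcy
      (Units.mk0 g⁻¹ (inv_ne_zero hg))).mpr
      (by rw [Units.val_mk0, ord_inv y g hg, h y hy hcy, neg_zero])
  obtain ⟨a, ha⟩ := h1
  obtain ⟨b, hb⟩ := h2
  refine ⟨a, ?_, ha⟩
  have hab : a * b = 1 := by
    apply IsFractionRing.injective (X.presheaf.stalk x) X.functionField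
    rw [map_mul, map_one]
    have ha' : algebraMap (X.presheaf.stalk x) X.functionField a = g := ha
    have hb' : algebraMap (X.presheaf.stalk x) X.functionField b = g⁻¹ := hb
    rw [ha', hb', mul_inv_cancel₀ hg]
  exact IsUnit.of_mul_eq_one b hab

/-- stalks of an invertible module are reflexive -/
theorem isReflexiveAt_of_isInvertible (L : X.Modules) (hL : PicF.IsInvertible L) (x : X) :
    RefHull.IsReflexiveAt L x := by
  obtain ⟨U, e, hxU, he⟩ := (isInvertible_iff_exists_isBasisOver L).mp hL x
  have hb := Groth.Agent.H2.PicCodim2.bijective_toSpanSingleton_germ L U e he x hxU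
  let E := LinearEquiv.ofBijective _ hb
  haveI : Module.Free (X.presheaf.stalk x) (L.presheaf.stalk x) := Module.Free.of_equiv E
  haveI : Module.Finite (X.presheaf.stalk x) (L.presheaf.stalk x) := Module.Finite.equiv E
  change Module.IsReflexive _ _
  infer_instance

/-- the class map to the generic fibre is injective -/
theorem fibre_mk_injective (L : X.Modules) (t t' : L.presheaf.stalk (genericPoint X))
    (h : (Submodule.Quotient.mk t : Cyc.secFibre L (genericPoint X)) = Submodule.Quotient.mk t') :
    t = t' := by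
  rw [Submodule.Quotient.eq] at h
  rw [maximalIdeal_functionField (X := X), Submodule.bot_smul, Submodule.mem_bot] at h
  exact sub_eq_zero.mp h

/-- a global section generating every stalk trivialises an invertible module -/
theorem nonempty_iso_of_isUnit (L : X.Modules) (σ : Γ(L, ⊤))
    (h : ∀ x : X, ∃ (U : X.Opens) (e : Γ(L, U)) (γ : Γ(X, U)) (hx : x ∈ U), IsBasisOver L U e ∧
      L.presheaf.map (homOfLE le_top).op σ = γ • e ∧ IsUnit (X.presheaf.germ U x hx γ)) :
    Nonempty (L ≅ Coh.structureModule X) := by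
  let φ : Coh.structureModule X ⟶ L := homOfSection L σ
  have hgen : ∀ V : X.Opens, V ≤ ⊤ → Function.Bijective (φ.app V) := by
    apply bijective_app_of_local
    intro x _
    obtain ⟨U, e, γ, hxU, he, hσ, hu⟩ := h x
    refine ⟨X.basicOpen γ, (X.mem_basicOpen γ x hxU).mpr hu, ?_⟩
    have h1 : CohB1.genLocus L φ ⊓ U = X.basicOpen γ := by
      apply genLocus_inf_eq_basicOpen φ he γ
      rw [← hσ]
      exact homOfSection_app_one L σ U
    have h2 : X.basicOpen γ ≤ CohB1.genLocus L φ := by
      rw [← h1]; exact inf_le_left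
    exact (le_genLocus_iff L φ _).mp h2
  haveI : IsIso φ := by
    rw [Scheme.Modules.Hom.isIso_iff_isIso_app]
    intro W
    rw [ConcreteCategory.isIso_iff_bijective]
    exact hgen W le_top
  exact ⟨(asIso φ).symm⟩

/-- **S5103** -/
theorem s5103 (hX : Pi1.IsNormalScheme X) (L : X.Modules) (hL : PicF.IsInvertible L)
    (s : Cyc.secFibre L (genericPoint X)) (hs : s ≠ 0) (f : X.functionField) (hf : f ≠ 0)
    (h : ∀ x : X, Order.coheight x = 1 →
      Cyc.secOrdAt L (genericPoint X) x (gspec x) s = Scheme.ord f x) :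
    Nonempty (L ≅ Coh.structureModule X) := by
  haveI := qc_of_isInvertible L hL
  obtain ⟨t, rfl⟩ := Submodule.Quotient.mk_surjective _ s
  -- local data
  have hloc : ∀ x : X, ∃ (V : X.Opens) (e : Γ(L, V)) (hxV : x ∈ V) (hη : genericPoint X ∈ V)
      (c : X.functionField), IsBasisOver L V e ∧
      f⁻¹ • t = c • L.presheaf.germ V (genericPoint X) hη e ∧
      ∀ y ∈ V, ∃ u : X.presheaf.stalk y, IsUnit u ∧
        algebraMap (X.presheaf.stalk y) X.functionField u = c := by
    intro x
    obtain ⟨U, e, hxU, he⟩ := (isInvertible_iff_exists_isBasisOver L).mp hL x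
    obtain ⟨V, hV, hxV, hVU'⟩ := exists_isAffineOpen_mem_and_subset (x := x) (U := U) hxU
    have hVU : V ≤ U := hVU'
    have hηV := genericPoint_mem' V ⟨x, hxV⟩
    set e' := L.presheaf.map (homOfLE hVU).op e with he'def
    have he' : IsBasisOver L V e' := he.mono hVU
    obtain ⟨a, hsa⟩ := exists_eq_smul_fibGerm L V e' he' hηV (Submodule.Quotient.mk t)
    have ha0 : a ≠ 0 := by
      rintro rfl
      apply hs
      rw [hsa, zero_smul]
    have hta : t = a • L.presheaf.germ V (genericPoint X) hηV e' := by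
      apply fibre_mk_injective L
      rw [hsa]
      rfl
    refine ⟨V, e', hxV, hηV, f⁻¹ * a, he', ?_, ?_⟩
    · rw [hta, smul_smul]
    · intro y hy
      apply exists_unit_of_ord_eq_zero hX hV (f⁻¹ * a) (mul_ne_zero (inv_ne_zero hf) ha0) _ y hy
      intro z hz hcz
      rw [Scheme.ord_mul (inv_ne_zero hf) ha0, ord_inv z f hf, ← h z hcz,
        secOrdAt_of_basis L V e' he' hηV a _ hs hsa z hz hcz]
      omega
  -- global section
  have hcoh := Groth.Agent.H2.PicCodim2.isCoh_of_isInvertible L hL
  have hrefl := isReflexiveAt_of_isInvertible L hL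
  obtain ⟨σ, hσ⟩ := Groth.Agent.H2.RatExt.exists_section_of_codim_one hX L hcoh hrefl ⊤
    (Opens.mem_top _) (f⁻¹ • t) (by
    intro x _ _
    obtain ⟨V, e, hxV, hη, c, he, htc, hu⟩ := hloc x
    obtain ⟨u, -, huc⟩ := hu x hxV
    refine ⟨u • L.presheaf.germ V x hxV e, ?_⟩
    rw [stalkSpecializes_smul, stalkSpecializes_germ, htc]
    congr 1)
  apply nonempty_iso_of_isUnit L σ
  intro x
  obtain ⟨V, e, hxV, hη, c, he, htc, hu⟩ := hloc x
  obtain ⟨γ, hγ⟩ := (he V le_rfl).2 (L.presheaf.map (homOfLE le_top).op σ)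
  have hγ' : γ • e = L.presheaf.map (homOfLE le_top).op σ := by
    have : γ • L.presheaf.map (homOfLE (le_refl V)).op e =
      L.presheaf.map (homOfLE le_top).op σ := hγ
    rwa [res_self] at this
  refine ⟨V, e, γ, hxV, he, hγ'.symm, ?_⟩
  obtain ⟨u, huu, huc⟩ := hu x hxV
  have hγu : X.presheaf.germ V x hxV γ = u := by
    apply IsFractionRing.injective (X.presheaf.stalk x) X.functionField
    rw [huc]
    apply (Groth.Agent.H2.PicCodim2.bijective_toSpanSingleton_germ L V e he _ hη).1
    simp only [LinearMap.toSpanSingleton_apply]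
    rw [← htc, ← hσ, ← germ_res L _ (le_top : V ≤ ⊤) hη σ, ← hγ', Mero.germ_smul]
    congr 1
    exact stalkSpecializes_sgerm (gspec x) V hxV γ
  rw [hγu]
  exact huu

end Groth.Agent.H2.SecOrd
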