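import Mathlib
import Groth.Agent.Lib.Helper2.SecOrdPic
import Groth.Agent.Lib.Helper2.RatHom
import Groth.Agent.Lib.Helper2.RefSch9
import Groth.Agent.Lib.Helper2.RankOneUFD
import Groth.Agent.Lib.Helper2.RankStalk
import Groth.Agent.Lib.Helper2.HomSh5

/-! Orders of rational sections of rank one reflexive modules; S16086. -/

universe u
set_option autoImplicit false
set_option linter.style.haveILetI false
open CategoryTheory AlgebraicGeometry TopologicalSpace Opposite IsLocalRing WithZero

namespace Groth.Agent.H2.SecOrd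
open Groth.Agent.LD.QC Groth.Agent.H1.StalkGen Groth.Agent.H2.StalkSpec Groth.Agent.H2.OrdBridge
open Groth.Agent.H1.CDivKit

attribute [-instance] Groth.Agent.LD.QC.stalkModule

variable {X : Scheme.{u}}

theorem stalkMapₗ_comp_apply {F G H : X.Modules} (φ : F ⟶ G) (ψ : G ⟶ H) (x : X)
    (m : F.presheaf.stalk x) :
    RefHull.stalkMapₗ (φ ≫ ψ) x m = RefHull.stalkMapₗ ψ x (RefHull.stalkMapₗ φ x m) := by
  obtain ⟨U, hxU, s, rfl⟩ := TopCat.Presheaf.exists_germ_eq F.presheaf m
  rw [RefHull.stalkMapₗ_germ, RefHull.stalkMapₗ_germ, RefHull.stalkMapₗ_germ]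
  rfl

theorem stalkMapₗ_id_apply (F : X.Modules) (x : X) (m : F.presheaf.stalk x) :
    RefHull.stalkMapₗ (𝟙 F) x m = m := by
  obtain ⟨U, hxU, s, rfl⟩ := TopCat.Presheaf.exists_germ_eq F.presheaf m
  rw [RefHull.stalkMapₗ_germ]
  rfl

theorem stalkMapₗ_bijective_of_iso {F G : X.Modules} (φ : F ≅ G) (x : X) :
    Function.Bijective (RefHull.stalkMapₗ φ.hom x) := by
  refine Function.bijective_iff_has_inverse.mpr ⟨RefHull.stalkMapₗ φ.inv x, ?_, ?_⟩
  · intro m
    rw [← stalkMapₗ_comp_apply, φ.hom_inv_id, stalkMapₗ_id_apply]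
  · intro m
    rw [← stalkMapₗ_comp_apply, φ.inv_hom_id, stalkMapₗ_id_apply]

variable [IsIntegral X] [IsLocallyNoetherian X]

/-- the stalk of a rank one coherent reflexive module at a point of codimension one is generated
by one element -/
theorem exists_generator (hX : Pi1.IsNormalScheme X) (F : X.Modules) (hF : RefHull.IsRef1 F)
    (x : X) (hx : Order.coheight x = 1) :
    ∃ e : F.presheaf.stalk x, Submodule.span (X.presheaf.stalk x) {e} = ⊤ := by
  haveI := hF.1.1
  haveI := isDVR_stalk hX x hx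
  haveI : Module.Finite (X.presheaf.stalk x) (F.presheaf.stalk x) :=
    Groth.Agent.H1.CohLen.finite_stalk F hF.1.2 x
  haveI : Module.IsReflexive (X.presheaf.stalk x) (F.presheaf.stalk x) :=
    (Groth.Agent.H2.HomSh.isReflexive_iff_stalk hF.1).mp hF.2.1 x
  have h1 := Groth.Agent.H2.RankStalk.finrank_stalk_eq_one F hF.2.2 x
  obtain ⟨E⟩ := Groth.Agent.H2.RankOneUFD.nonempty_equiv_of_isReflexive
    (X.presheaf.stalk x) (F.presheaf.stalk x) h1
  refine ⟨E.symm 1, ?_⟩
  rw [eq_top_iff]
  intro m _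
  rw [Submodule.mem_span_singleton]
  refine ⟨E m, ?_⟩
  rw [← map_smul, smul_eq_mul, mul_one, LinearEquiv.symm_apply_apply]

/-- the coefficient of a rational section with respect to a generator -/
theorem exists_coeff (F : X.Modules) [F.IsQuasicoherent] (x : X) (hx : Order.coheight x = 1)
    (e : F.presheaf.stalk x) (he : Submodule.span (X.presheaf.stalk x) {e} = ⊤)
    (s₀ : F.presheaf.stalk (genericPoint X))
    (hs : (Submodule.Quotient.mk s₀ : Cyc.secFibre F (genericPoint X)) ≠ 0) :
    ∃ a : X.functionField, a ≠ 0 ∧ s₀ = a • (F.presheaf.stalkSpecializes (gspec x)).hom e ∧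
      Cyc.secOrdAt F (genericPoint X) x (gspec x) (Submodule.Quotient.mk s₀) = Scheme.ord a x := by
  obtain ⟨a, ha⟩ := spec_generates F (gspec x) e he s₀
  refine ⟨a, ?_, ha, ?_⟩
  · rintro rfl
    apply hs
    rw [ha, zero_smul]
    rfl
  · apply secOrdAt_eq F x hx _ hs e he a
    rw [ha]
    rfl

/-- morphisms into a torsion-free module are determined by the generic stalk -/
theorem hom_ext_generic {F H : X.Modules} [H.IsQuasicoherent]
    (htf : ∀ x : X, Module.IsTorsionFree (X.presheaf.stalk x) (H.presheaf.stalk x))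
    (φ ψ : F ⟶ H)
    (h : ∀ m : F.presheaf.stalk (genericPoint X),
      RefHull.stalkMapₗ φ (genericPoint X) m = RefHull.stalkMapₗ ψ (genericPoint X) m) :
    φ = ψ := by
  apply Scheme.Modules.hom_ext
  intro U
  ext g
  by_cases hη : genericPoint X ∈ U
  · apply Groth.Agent.H2.RatExt.eq_of_germ_generic H htf U hη
    rw [← RefHull.stalkMapₗ_germ, ← RefHull.stalkMapₗ_germ, h]
  · apply Groth.Agent.H2.HomSh.section_ext_germ
    intro x hx
    exact absurd (genericPoint_mem' U ⟨x, hx⟩) hη

theorem isReflexiveAt_of_isRef1 (F : X.Modules) (hF : RefHull.IsRef1 F) (x : X) :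
    RefHull.IsReflexiveAt F x :=
  (Groth.Agent.H2.HomSh.isReflexive_iff_stalk hF.1).mp hF.2.1 x

/-- generic stalks of rank one modules are spanned by any nonzero vector -/
theorem exists_smul_eq_generic (F : X.Modules) [F.IsQuasicoherent] (hrk : RefHull.GenInvertible F)
    (s₀ : F.presheaf.stalk (genericPoint X)) (hs0 : s₀ ≠ 0)
    (v : F.presheaf.stalk (genericPoint X)) :
    ∃ c : X.functionField, c • s₀ = v := by
  have h1 := Groth.Agent.H2.RankStalk.finrank_stalk_eq_one F hrk (genericPoint X)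
  letI : Field (X.presheaf.stalk (genericPoint X)) := inferInstanceAs (Field X.functionField)
  exact (finrank_eq_one_iff_of_nonzero' s₀ hs0).mp h1 v

theorem smul_left_cancel_generic (F : X.Modules)
    (s₀ : F.presheaf.stalk (genericPoint X)) (hs0 : s₀ ≠ 0) (c c' : X.functionField)
    (h : c • s₀ = c' • s₀) : c = c' := by
  by_contra hne
  apply hs0
  have h0 : (c - c') • s₀ = 0 := by rw [sub_smul, h, sub_self]
  have hne' : c - c' ≠ 0 := sub_ne_zero.mpr hne
  have := congrArg (fun z => (c - c')⁻¹ • z) h0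
  simpa [smul_smul, inv_mul_cancel₀ hne'] using this

theorem mk_ne_zero_iff (F : X.Modules) (s₀ : F.presheaf.stalk (genericPoint X)) :
    (Submodule.Quotient.mk s₀ : Cyc.secFibre F (genericPoint X)) ≠ 0 ↔ s₀ ≠ 0 := by
  constructor
  · rintro h rfl
    exact h rfl
  · intro h h0
    apply h
    apply fibre_mk_injective F
    rw [h0]
    rfl

/-- **a morphism from orders**: if the divisor of `s` is that of `t` plus the divisor of `f`, there
is a morphism `F ⟶ G` sending `s` to `f t` at the generic point. -/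
theorem exists_hom_of_ord (hX : Pi1.IsNormalScheme X) (F G : X.Modules) (hF : RefHull.IsRef1 F)
    (hG : RefHull.IsRef1 G) (s₀ : F.presheaf.stalk (genericPoint X))
    (hs : (Submodule.Quotient.mk s₀ : Cyc.secFibre F (genericPoint X)) ≠ 0)
    (t₀ : G.presheaf.stalk (genericPoint X))
    (ht : (Submodule.Quotient.mk t₀ : Cyc.secFibre G (genericPoint X)) ≠ 0)
    (f : X.functionField) (hf : f ≠ 0)
    (h : ∀ x : X, Order.coheight x = 1 →
      Cyc.secOrdAt F (genericPoint X) x (gspec x) (Submodule.Quotient.mk s₀) =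
        Cyc.secOrdAt G (genericPoint X) x (gspec x) (Submodule.Quotient.mk t₀) + Scheme.ord f x) :
    ∃ ψ : F ⟶ G, RefHull.stalkMapₗ ψ (genericPoint X) s₀ = f • t₀ := by
  haveI := hF.1.1
  haveI := hG.1.1
  have hs0 : s₀ ≠ 0 := (mk_ne_zero_iff F s₀).mp hs
  have hbij : Function.Bijective (LinearMap.toSpanSingleton (X.presheaf.stalk (genericPoint X))
      (F.presheaf.stalk (genericPoint X)) s₀) := by
    constructor
    · intro c c' hcc
      exact smul_left_cancel_generic F s₀ hs0 c c' hcc
    · intro v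
      exact exists_smul_eq_generic F hF.2.2 s₀ hs0 v
  let E := LinearEquiv.ofBijective _ hbij
  let τ : F.presheaf.stalk (genericPoint X) →ₗ[X.presheaf.stalk (genericPoint X)]
      G.presheaf.stalk (genericPoint X) :=
    (LinearMap.toSpanSingleton (X.presheaf.stalk (genericPoint X))
      (G.presheaf.stalk (genericPoint X)) (f • t₀)).comp E.symm.toLinearMap
  have hτ : ∀ c : X.functionField, τ (c • s₀) = c • f • t₀ := by
    intro c
    have h1 : E.symm (c • s₀) = c := by
      rw [LinearEquiv.symm_apply_eq]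
      rfl
    change LinearMap.toSpanSingleton _ _ (f • t₀) (E.symm (c • s₀)) = _
    rw [h1, LinearMap.toSpanSingleton_apply]
  let D : Groth.Agent.H2.RatHom.Data X :=
    { hX := hX
      G := F
      H := G
      hH := hG.1
      hrefl := isReflexiveAt_of_isRef1 G hG
      τ := τ
      hτ := by
        intro x hd1 γ
        have hx : Order.coheight x = 1 := coheight_eq_one_of_dim x hd1
        obtain ⟨e, he⟩ := exists_generator hX F hF x hx
        obtain ⟨e', he'⟩ := exists_generator hX G hG x hx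
        obtain ⟨a, ha0, hsa, horda⟩ := exists_coeff F x hx e he s₀ hs
        obtain ⟨b, hb0, htb, hordb⟩ := exists_coeff G x hx e' he' t₀ ht
        obtain ⟨r, rfl⟩ : ∃ r : X.presheaf.stalk x, r • e = γ :=
          Submodule.mem_span_singleton.mp (by rw [he]; trivial)
        have hc0 : a⁻¹ * f * b ≠ 0 := mul_ne_zero (mul_ne_zero (inv_ne_zero ha0) hf) hb0
        have hordc : Scheme.ord (a⁻¹ * f * b) x = 0 := by
          rw [Scheme.ord_mul (mul_ne_zero (inv_ne_zero ha0) hf) hb0,
            Scheme.ord_mul (inv_ne_zero ha0) hf, ord_inv x a ha0, ← horda, ← hordb, h x hx]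
          omega
        have hmem : (a⁻¹ * f * b) ∈ O x :=
          (mem_O_iff_ord_nonneg hX x hx (Units.mk0 _ hc0)).mpr (by rw [Units.val_mk0, hordc])
        obtain ⟨w, hw⟩ := hmem
        have hw' : (X.presheaf.stalkSpecializes (gspec x)).hom w = a⁻¹ * f * b := hw
        refine ⟨(r * w) • e', ?_⟩
        rw [stalkSpecializes_smul, stalkSpecializes_smul, map_mul, hw']
        have hspe : (F.presheaf.stalkSpecializes (gspec x)).hom e = a⁻¹ • s₀ := by
          rw [hsa, smul_smul, inv_mul_cancel₀ ha0, one_smul]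
        rw [hspe, smul_smul, hτ, htb]
        simp only [smul_smul]
        congr 1
        ring }
  refine ⟨D.hom, ?_⟩
  rw [D.stalkMapₗ_hom]
  have := hτ 1
  rwa [one_smul, one_smul] at this

/-- **S16086** -/
theorem s16086 (hX : Pi1.IsNormalScheme X) (F G : X.Modules) (hF : RefHull.IsRef1 F)
    (hG : RefHull.IsRef1 G) (s : Cyc.secFibre F (genericPoint X)) (hs : s ≠ 0)
    (t : Cyc.secFibre G (genericPoint X)) (ht : t ≠ 0) :
    Nonempty (F ≅ G) ↔
      ∃ f : X.functionField, f ≠ 0 ∧ ∀ x : X, Order.coheight x = 1 →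
          Cyc.secOrdAt F (genericPoint X) x (gspec x) s =
            Cyc.secOrdAt G (genericPoint X) x (gspec x) t + Scheme.ord f x := by
  haveI := hF.1.1
  haveI := hG.1.1
  obtain ⟨s₀, rfl⟩ := Submodule.Quotient.mk_surjective _ s
  obtain ⟨t₀, rfl⟩ := Submodule.Quotient.mk_surjective _ t
  have hs0 := (mk_ne_zero_iff F s₀).mp hs
  have ht0 := (mk_ne_zero_iff G t₀).mp ht
  constructor
  · rintro ⟨φ⟩
    have hbij := stalkMapₗ_bijective_of_iso φ
    obtain ⟨f, hf⟩ := exists_smul_eq_generic G hG.2.2 t₀ ht0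
      (RefHull.stalkMapₗ φ.hom (genericPoint X) s₀)
    have hf0 : f ≠ 0 := by
      rintro rfl
      rw [zero_smul] at hf
      apply hs0
      apply (hbij _).1
      rw [← hf, map_zero]
    refine ⟨f, hf0, ?_⟩
    intro x hx
    obtain ⟨e, he⟩ := exists_generator hX F hF x hx
    obtain ⟨a, ha0, hsa, horda⟩ := exists_coeff F x hx e he s₀ hs
    have he' : Submodule.span (X.presheaf.stalk x) {RefHull.stalkMapₗ φ.hom x e} = ⊤ := by
      rw [eq_top_iff]
      intro m _
      obtain ⟨m', rfl⟩ := (hbij x).2 m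
      obtain ⟨r, rfl⟩ : ∃ r : X.presheaf.stalk x, r • e = m' :=
        Submodule.mem_span_singleton.mp (by rw [he]; trivial)
      rw [map_smul]
      exact Submodule.smul_mem _ _ (Submodule.mem_span_singleton_self _)
    have htb : t₀ = (f⁻¹ * a) •
        (G.presheaf.stalkSpecializes (gspec x)).hom (RefHull.stalkMapₗ φ.hom x e) := by
      rw [Groth.Agent.H2.RefSch.spec_stalkMapₗ, ← smul_smul, ← map_smul, ← hsa, ← hf, smul_smul,
        inv_mul_cancel₀ hf0, one_smul]
    rw [horda, secOrdAt_eq G x hx _ ht _ he' (f⁻¹ * a) (congrArg Submodule.Quotient.mk htb),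
      Scheme.ord_mul (inv_ne_zero hf0) ha0, ord_inv x f hf0]
    omega
  · rintro ⟨f, hf0, h⟩
    obtain ⟨ψ₁, h1⟩ := exists_hom_of_ord hX F G hF hG s₀ hs t₀ ht f hf0 h
    obtain ⟨ψ₂, h2⟩ := exists_hom_of_ord hX G F hG hF t₀ ht s₀ hs f⁻¹ (inv_ne_zero hf0) (by
      intro x hx
      rw [h x hx, ord_inv x f hf0]
      omega)
    have htfF := Groth.Agent.H2.RatExt.isTorsionFree_of_isReflexiveAt hX F
      (isReflexiveAt_of_isRef1 F hF)
    have htfG := Groth.Agent.H2.RatExt.isTorsionFree_of_isReflexiveAt hX G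
      (isReflexiveAt_of_isRef1 G hG)
    refine ⟨⟨ψ₁, ψ₂, ?_, ?_⟩⟩
    · apply hom_ext_generic htfF
      intro m
      obtain ⟨c, rfl⟩ := exists_smul_eq_generic F hF.2.2 s₀ hs0 m
      rw [stalkMapₗ_comp_apply, stalkMapₗ_id_apply, map_smul, map_smul, h1, map_smul, h2,
        smul_smul f, mul_inv_cancel₀ hf0, one_smul]
    · apply hom_ext_generic htfG
      intro m
      obtain ⟨c, rfl⟩ := exists_smul_eq_generic G hG.2.2 t₀ ht0 m
      rw [stalkMapₗ_comp_apply, stalkMapₗ_id_apply, map_smul, map_smul, h2, map_smul, h1,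
        smul_smul f⁻¹, inv_mul_cancel₀ hf0, one_smul]

end Groth.Agent.H2.SecOrd
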