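import Mathlib
import Groth.Agent.Lib.Helper2.RefSch8
import Groth.Agent.Lib.Helper2.RestrictStalk
import Groth.Agent.Lib.Helper2.SecOrdRef
import Groth.Agent.Lib.Lead.QC.SerreSupp
import Groth.Agent.S2250
import Groth.Prelude.Def_FlatMod2
import Groth.Prelude.Def_Coh
import Groth.Prelude.Def_CAlg

/-! S1691: reflexive coherent modules and opens with complement of depth at least two. -/

universe u
set_option autoImplicit false
set_option linter.style.haveILetI false
open CategoryTheory Limits AlgebraicGeometry TopologicalSpace Opposite IsLocalRing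

namespace Groth.Agent.H2.Depth2Push
open Groth.Agent.LD.QC Groth.Agent.H2.RefSch

attribute [-instance] Groth.Agent.LD.QC.stalkModule

variable {X : Scheme.{u}}

/-- the comparison of the bidual with the direct image from an open on which `F` is reflexive and
off which the local rings have depth at least two. -/
theorem exists_ddual_iso_pushforward [IsIntegral X] [IsLocallyNoetherian X]
    (F : X.Modules) (hF : Coh.IsCoh F) (U : X.Opens)
    (hrefl : ∀ x ∈ U, RefHull.IsReflexiveAt F x)
    (hdep : ∀ x : X, x ∉ U → (2 : ℕ∞) ≤ LocCoh.depth (X.presheaf.stalk x) (X.presheaf.stalk x)) :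
    ∃ e : RefHull.ddual F ≅ (Scheme.Modules.pushforward U.ι).obj (F.restrict U.ι),
      RefHull.bidualMap F ≫ e.hom = (Scheme.Modules.restrictAdjunction U.ι).unit.app F := by
  haveI : F.IsQuasicoherent := hF.1
  have hD := HomSh.isCoh_ddual hF
  haveI : (RefHull.ddual F).IsQuasicoherent := hD.1
  have hdepth : ∀ x : X, x ∉ U → (2 : ℕ∞) ≤ LocCoh.depth (X.presheaf.stalk x)
      ((RefHull.ddual F).presheaf.stalk x) := by
    intro x hx
    haveI : Module.Finite (X.presheaf.stalk x) ((RefHull.ddual F).presheaf.stalk x) :=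
      Groth.Agent.H1.CohLen.finite_stalk _ hD.2 x
    haveI : Module.IsReflexive (X.presheaf.stalk x) ((RefHull.ddual F).presheaf.stalk x) :=
      isReflexiveAt_ddual F hF x inferInstance
    exact two_le_depth_of_isReflexive (hdep x hx) _
  haveI h1 := Groth.Agent.H1.Depth2Coh.isIso_unit (RefHull.ddual F) hD U hdepth
  have hb : ∀ y ∈ U, Function.Bijective (RefHull.stalkMapₗ (RefHull.bidualMap F) y) :=
    fun y hy => (HomSh.stalkMap_bidualMap_bijective_iff hF y).mpr (hrefl y hy)
  haveI := Groth.Agent.H2.FComplZero.mono_restrict_of_stalks (RefHull.bidualMap F) U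
    (fun y hy => (IsoLocus.injective_iff _ y).mp (hb y hy).1)
  haveI := Groth.Agent.H2.FComplZero.epi_restrict_of_stalks (RefHull.bidualMap F) U
    (fun y hy => (IsoLocus.surjective_iff _ hF.1 hD.1 y).mp (hb y hy).2)
  haveI h2 : IsIso ((Scheme.Modules.restrictFunctor U.ι).map (RefHull.bidualMap F)) :=
    isIso_of_mono_of_epi _
  let adj := Scheme.Modules.restrictAdjunction U.ι
  refine ⟨asIso (adj.unit.app (RefHull.ddual F)) ≪≫
    (Scheme.Modules.pushforward U.ι).mapIso
      (asIso ((Scheme.Modules.restrictFunctor U.ι).map (RefHull.bidualMap F))).symm, ?_⟩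
  have hnat := adj.unit.naturality (RefHull.bidualMap F)
  simp only [Functor.id_obj, Functor.id_map, Functor.comp_obj, Functor.comp_map] at hnat
  simp only [Iso.trans_hom, asIso_hom, Functor.mapIso_hom, Iso.symm_hom, asIso_inv]
  rw [← Category.assoc, hnat, Category.assoc, ← Functor.map_comp, IsIso.hom_inv_id,
    CategoryTheory.Functor.map_id, Category.comp_id]

theorem isReflexiveAt_of_iso {F G : X.Modules} (e : F ≅ G) (x : X)
    (h : RefHull.IsReflexiveAt F x) : RefHull.IsReflexiveAt G x := by
  haveI : Module.IsReflexive (X.presheaf.stalk x) (F.presheaf.stalk x) := h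
  exact Module.equiv (LinearEquiv.ofBijective (RefHull.stalkMapₗ e.hom x)
    (Groth.Agent.H2.SecOrd.stalkMapₗ_bijective_of_iso e x))

theorem locNoeth_opens [IsLocallyNoetherian X] (x : X) :
    ∃ U : X.Opens, x ∈ U ∧ TopologicalSpace.NoetherianSpace (U : Set X) := by
  obtain ⟨V, hV, hxV, -⟩ := exists_isAffineOpen_mem_and_subset (x := x) (U := ⊤) trivial
  haveI : IsNoetherianRing Γ(X, V) := IsLocallyNoetherian.component_noetherian ⟨V, hV⟩
  exact ⟨V, hxV, noetherianSpace_of_isAffineOpen V hV⟩

/-- **S1691** -/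
theorem s1691 (X : Scheme.{u}) [IsIntegral X] [IsLocallyNoetherian X] (U : X.Opens)
    (hU : ∀ x : ↥X, x ∉ U → (2 : ℕ∞) ≤ LocCoh.depth (X.presheaf.stalk x) (X.presheaf.stalk x)) :
    (∀ F : X.Modules, Coh.IsCoh F →
        (∀ x : ↥X, Module.IsReflexive (X.presheaf.stalk x) (F.presheaf.stalk x)) →
        IsIso ((Scheme.Modules.restrictAdjunction U.ι).unit.app F)) ∧
      (∀ G : (U : Scheme.{u}).Modules, Coh.IsCoh G →
        (∀ x : ↥(U : Scheme.{u}),
          Module.IsReflexive ((U : Scheme.{u}).presheaf.stalk x) (G.presheaf.stalk x)) →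
        Coh.IsCoh ((Scheme.Modules.pushforward U.ι).obj G) ∧
          (∀ x : ↥X, Module.IsReflexive (X.presheaf.stalk x)
            (((Scheme.Modules.pushforward U.ι).obj G).presheaf.stalk x))) := by
  refine ⟨fun F hF hrefl => ?_, fun G hG hrefl => ?_⟩
  · haveI : F.IsQuasicoherent := hF.1
    apply Groth.Agent.H1.Depth2Coh.isIso_unit F hF U
    intro x hx
    haveI : Module.Finite (X.presheaf.stalk x) (F.presheaf.stalk x) :=
      Groth.Agent.H1.CohLen.finite_stalk F hF.2 x
    haveI := hrefl x
    exact two_le_depth_of_isReflexive (hU x hx) _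
  · let P : X.Modules := (Scheme.Modules.pushforward U.ι).obj G
    haveI hGq : G.IsQuasicoherent := hG.1
    haveI hPq : P.IsQuasicoherent := qc_pushforward U.ι G
    let ε : P.restrict U.ι ≅ G := (Scheme.Modules.restrictFunctorAdjCounitIso U.ι).app G
    haveI : Mono ε.inv := inferInstance
    obtain ⟨G', i', e, -, hG'q, hG'ft, -⟩ :=
      @Groth.Agent.S2250.result X (fun x => locNoeth_opens x) U P hPq G ε.inv _ hGq hG.2
    have hG'coh : Coh.IsCoh G' := ⟨hG'q, hG'ft⟩
    have hG'refl : ∀ x ∈ U, RefHull.IsReflexiveAt G' x := by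
      intro x hx
      have h1 : RefHull.IsReflexiveAt (G'.restrict U.ι) (⟨x, hx⟩ : U) :=
        isReflexiveAt_of_iso e.symm _ (hrefl ⟨x, hx⟩)
      exact (RestrictStalk.isReflexive_stalk_iff U.ι G' ⟨x, hx⟩).mp h1
    obtain ⟨e2, -⟩ := exists_ddual_iso_pushforward G' hG'coh U hG'refl hU
    let e3 : RefHull.ddual G' ≅ P := e2 ≪≫ (Scheme.Modules.pushforward U.ι).mapIso e
    refine ⟨isCoh_of_iso e3 (HomSh.isCoh_ddual hG'coh), fun x => ?_⟩
    exact isReflexiveAt_of_iso e3 x (isReflexiveAt_ddual G' hG'coh x inferInstance)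

end Groth.Agent.H2.Depth2Push
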