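import Mathlib
import Groth.Agent.Lib.Helper2.HomSh5
import Groth.Agent.Lib.Helper2.StalkSpec
import Groth.Agent.Lib.Helper2.PicCodim2
import Groth.Agent.Lib.Helper1.CartierKit
import Groth.Agent.Lib.Lead.QC.BiprodSec
import Groth.Agent.Lib.Lead.QC.RestrictOpen

/-!
# Extending invertible modules across factorial points, part A: generalities (helper2)
-/

set_option autoImplicit false
set_option linter.style.haveILetI false
universe u
open CategoryTheory Limits AlgebraicGeometry TopologicalSpace Opposite IsLocalRing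

namespace Groth.Agent.H2.ExtInv

open Groth.Agent.LD.QC Groth.Agent.H1.StalkGen Groth.Agent.H2.StalkSpec

attribute [-instance] Groth.Agent.LD.QC.stalkModule

variable {X : Scheme.{u}}

/-- the first projection of a biproduct is bijective on sections where the second summand has none -/
theorem bijective_fst_app (A B : X.Modules) (V : X.Opens) (hB : Subsingleton Γ(B, V)) :
    Function.Bijective ((biprod.fst : A ⊞ B ⟶ A).app V) := by
  constructor
  · intro t t' h
    exact bext A B V h (Subsingleton.elim _ _)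
  · intro a
    exact ⟨bmk A B V a 0, bfst_bmk A B V a 0⟩

/-- the second projection of a biproduct is bijective on sections where the first summand has none -/
theorem bijective_snd_app (A B : X.Modules) (V : X.Opens) (hA : Subsingleton Γ(A, V)) :
    Function.Bijective ((biprod.snd : A ⊞ B ⟶ B).app V) := by
  constructor
  · intro t t' h
    exact bext A B V (Subsingleton.elim _ _) h
  · intro b
    exact ⟨bmk A B V 0 b, bsnd_bmk A B V 0 b⟩

/-- a module has no nonzero sections over the empty open -/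
theorem subsingleton_sections_of_eq_bot (M : X.Modules) (V : X.Opens) (hV : V = ⊥) :
    Subsingleton Γ(M, V) := by
  subst hV
  haveI : Subsingleton Γ(X, ⊥) := inferInstance
  exact Module.subsingleton Γ(X, ⊥) Γ(M, ⊥)

/-- the stalk of a module with a local basis is free of rank one -/
theorem nonempty_stalk_equiv_of_isBasisOver (L : X.Modules) (U : X.Opens) (e : Γ(L, U))
    (he : IsBasisOver L U e) (x : X) (hx : x ∈ U) :
    Nonempty (X.presheaf.stalk x ≃ₗ[X.presheaf.stalk x] L.presheaf.stalk x) :=
  ⟨LinearEquiv.ofBijective _ (PicCodim2.bijective_toSpanSingleton_germ L U e he x hx)⟩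

/-- the stalks, at the points of an open, of a module invertible on that open are free of rank
one -/
theorem nonempty_stalk_equiv_of_isInvertible_restrict (L : X.Modules) (U : X.Opens)
    (hL : PicF.IsInvertible (L.restrict U.ι)) (x : X) (hx : x ∈ U) :
    Nonempty (X.presheaf.stalk x ≃ₗ[X.presheaf.stalk x] L.presheaf.stalk x) := by
  obtain ⟨V', e, hxV', he⟩ := (isInvertible_iff_exists_isBasisOver _).mp hL ⟨x, hx⟩
  have he' : IsBasisOver L (U.ι ''ᵁ V') e := (isBasisOver_restrict_iff U.ι L V' e).mp he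
  exact nonempty_stalk_equiv_of_isBasisOver L (U.ι ''ᵁ V') e he' x ⟨⟨x, hx⟩, hxV', rfl⟩

/-- a stalkwise bijective morphism gives linear equivalences of stalks -/
noncomputable def stalkEquivOfBijective {F G : X.Modules} (φ : F ⟶ G) (x : X)
    (h : Function.Bijective (RefHull.stalkMapₗ φ x)) :
    F.presheaf.stalk x ≃ₗ[X.presheaf.stalk x] G.presheaf.stalk x :=
  LinearEquiv.ofBijective (RefHull.stalkMapₗ φ x) h

/-- the rank of the stalk of a quasi-coherent module is unchanged under a generization at a prime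
avoiding the zero divisors -/
theorem finrank_stalk_eq_of_specializes (F : X.Modules) [F.IsQuasicoherent] {x z : X} (h : z ⤳ x)
    (hp : (primeOf h).asIdeal.primeCompl ≤ nonZeroDivisors (X.presheaf.stalk x)) :
    Module.finrank (X.presheaf.stalk x) (F.presheaf.stalk x) =
      Module.finrank (X.presheaf.stalk z) (F.presheaf.stalk z) := by
  letI := specModule F h
  letI algxz : Algebra (X.presheaf.stalk x) (X.presheaf.stalk z) :=
    (X.presheaf.stalkSpecializes h).hom.toAlgebra
  haveI hloc := isLocalization_stalkSpecializes h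
  haveI hlm := isLocalizedModule_specLinear F h
  haveI : IsScalarTower (X.presheaf.stalk x) (X.presheaf.stalk z) (F.presheaf.stalk z) :=
    IsScalarTower.of_algebraMap_smul fun r m => rfl
  rw [IsLocalization.finrank_eq (X.presheaf.stalk z) _ hp,
    IsLocalizedModule.finrank_eq _ (specLinear F h) hp]

/-- the generic point of the spectrum of a local ring which is a domain -/
theorem exists_generization_bot (x : X) [IsDomain (X.presheaf.stalk x)] :
    ∃ (η : X) (h : η ⤳ x), (primeOf h).asIdeal = ⊥ ∧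
      IsLocalRing.maximalIdeal (X.presheaf.stalk η) = ⊥ := by
  let q : PrimeSpectrum (X.presheaf.stalk x) := ⟨⊥, Ideal.isPrime_bot⟩
  refine ⟨X.fromSpecStalk x q, fromSpecStalk_specializes x q, ?_, ?_⟩
  · rw [primeOf_fromSpecStalk]
  · set h := fromSpecStalk_specializes x q
    letI algxz : Algebra (X.presheaf.stalk x) (X.presheaf.stalk (X.fromSpecStalk x q)) :=
      (X.presheaf.stalkSpecializes h).hom.toAlgebra
    haveI hloc := isLocalization_stalkSpecializes h
    have h1 := IsLocalization.AtPrime.map_eq_maximalIdeal (primeOf h).asIdeal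
      (X.presheaf.stalk (X.fromSpecStalk x q))
    rw [← h1, primeOf_fromSpecStalk]
    exact Ideal.map_bot

/-- on a locally Noetherian scheme, a point whose local ring is a field and which lies outside an
open has a neighbourhood disjoint from that open -/
theorem exists_open_disjoint [IsLocallyNoetherian X] (η : X)
    (hη : IsLocalRing.maximalIdeal (X.presheaf.stalk η) = ⊥) (U : X.Opens) (hU : η ∉ U) :
    ∃ W : X.Opens, η ∈ W ∧ ∀ y ∈ W, y ∉ U := by
  classical
  obtain ⟨W₀, hW₀, hηW₀, -⟩ := exists_isAffineOpen_mem_and_subset (x := η) (U := ⊤) trivial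
  haveI : IsNoetherianRing Γ(X, W₀) := IsLocallyNoetherian.component_noetherian ⟨W₀, hW₀⟩
  set q : Ideal Γ(X, W₀) := (hW₀.primeIdealOf ⟨η, hηW₀⟩).asIdeal with hq
  have hkill : ∀ g ∈ q, ∃ s : Γ(X, W₀), s ∉ q ∧ s * g = 0 := by
    intro g hg
    letI : Algebra Γ(X, W₀) (X.presheaf.stalk η) :=
      TopCat.Presheaf.algebra_section_stalk X.presheaf ⟨η, hηW₀⟩
    haveI := hW₀.isLocalization_stalk ⟨η, hηW₀⟩
    have h1 : algebraMap Γ(X, W₀) (X.presheaf.stalk η) g ∈
        IsLocalRing.maximalIdeal (X.presheaf.stalk η) :=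
      (IsLocalization.AtPrime.to_map_mem_maximal_iff (X.presheaf.stalk η) q g).mpr hg
    rw [hη, Ideal.mem_bot] at h1
    obtain ⟨⟨s, hs⟩, hsg⟩ := (IsLocalization.map_eq_zero_iff q.primeCompl _ g).mp h1
    exact ⟨s, hs, hsg⟩
  obtain ⟨S, hS⟩ := (IsNoetherian.noetherian q : q.FG)
  choose! σ hσ1 hσ2 using hkill
  set f : Γ(X, W₀) := ∏ g ∈ S, σ g with hf
  have hfq : f ∉ q := by
    intro hfq
    haveI : q.IsPrime := (hW₀.primeIdealOf ⟨η, hηW₀⟩).isPrime
    obtain ⟨g, hgS, hg⟩ := Ideal.IsPrime.prod_mem_iff.mp hfq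
    exact hσ1 g (hS ▸ Ideal.subset_span hgS) hg
  have hfg : ∀ g ∈ q, f * g = 0 := by
    intro g hg
    rw [← hS] at hg
    refine Submodule.span_induction ?_ ?_ ?_ ?_ hg
    · intro g hgS
      have h1 : σ g ∣ f := Finset.dvd_prod_of_mem σ hgS
      obtain ⟨c, hc⟩ := h1
      have hgq : g ∈ q := hS ▸ Ideal.subset_span hgS
      rw [hc, mul_comm (σ g) c, mul_assoc, hσ2 g hgq, mul_zero]
    · exact mul_zero f
    · intro a b _ _ ha hb
      rw [mul_add, ha, hb, add_zero]
    · intro a b _ hb
      rw [smul_eq_mul, mul_left_comm, hb, mul_zero]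
  refine ⟨X.basicOpen f, ?_, ?_⟩
  · by_contra hcon
    exact hfq ((Groth.Agent.H1.CartierKit.mem_primeIdealOf_iff hW₀ η hηW₀ f).mpr hcon)
  · intro y hy hyU
    have hyW₀ : y ∈ W₀ := X.basicOpen_le f hy
    have hle : q ≤ (hW₀.primeIdealOf ⟨y, hyW₀⟩).asIdeal := by
      intro g hg
      have h0 : f * g ∈ (hW₀.primeIdealOf ⟨y, hyW₀⟩).asIdeal := by
        rw [hfg g hg]; exact Ideal.zero_mem _
      rcases (hW₀.primeIdealOf ⟨y, hyW₀⟩).isPrime.mem_or_mem h0 with h1 | h1
      · exact absurd hy ((Groth.Agent.H1.CartierKit.mem_primeIdealOf_iff hW₀ y hyW₀ f).mp h1)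
      · exact h1
    have h1 : hW₀.primeIdealOf ⟨η, hηW₀⟩ ⤳ hW₀.primeIdealOf ⟨y, hyW₀⟩ :=
      (PrimeSpectrum.le_iff_specializes (R := Γ(X, W₀)) _ _).1 hle
    have h2 := h1.map hW₀.fromSpec.continuous
    rw [hW₀.fromSpec_primeIdealOf, hW₀.fromSpec_primeIdealOf] at h2
    exact hU (h2.mem_open U.2 hyU)

end Groth.Agent.H2.ExtInv
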