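import Mathlib
import Groth.Agent.Lib.Helper2.ExtInvA
import Groth.Agent.Lib.Helper2.Depth2Push
import Groth.Agent.Lib.Helper1.CohLen
import Groth.Agent.Lib.Lead.QC.SubSup
import Groth.Agent.Lib.Lead.SC.Efface
import Groth.Agent.S2250

/-!
# Extending invertible modules across factorial points, part B: the coherent extension (helper2)
-/

set_option autoImplicit false
set_option linter.style.haveILetI false
universe u
open CategoryTheory Limits AlgebraicGeometry TopologicalSpace Opposite IsLocalRing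

namespace Groth.Agent.H2.ExtInv

open Groth.Agent.LD.QC Groth.Agent.H1.StalkGen Groth.Agent.H2.StalkSpec

attribute [-instance] Groth.Agent.LD.QC.stalkModule

variable {X : Scheme.{u}}

section K
variable (U : X.Opens)

/-- the sections of the structure sheaf vanishing on `U` -/
noncomputable def K : X.Modules := subExt U.ι (𝟙 ((unitMod X).restrict U.ι))

/-- the inclusion of `K U` in the structure sheaf -/
noncomputable def Kι : K U ⟶ unitMod X := subExtι U.ι (𝟙 ((unitMod X).restrict U.ι))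

instance : Mono (Kι U) := inferInstanceAs (Mono (subExtι U.ι (𝟙 ((unitMod X).restrict U.ι))))

theorem K_qc [QuasiCompact U.ι] : (K U).IsQuasicoherent :=
  subExt_qc U.ι (𝟙 ((unitMod X).restrict U.ι)) inferInstance inferInstance

theorem K_subsingleton (V : X.Opens) (hV : V ≤ U) : Subsingleton Γ(K U, V) := by
  have key : ∀ s : Γ(K U, V), (Kι U).app V s = 0 := by
    intro s
    have h1 := (mem_subExt_iff U.ι (𝟙 ((unitMod X).restrict U.ι)) V ((Kι U).app V s)).mp ⟨s, rfl⟩
    have hle : V ≤ U.ι ''ᵁ (U.ι ⁻¹ᵁ V) := by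
      intro y hy
      exact ⟨⟨y, hV hy⟩, hy, rfl⟩
    apply res_injective_of_le_of_le (unitMod X) (U.ι.image_preimage_le V) hle
    rw [map_zero]
    exact h1
  refine ⟨fun s t => ?_⟩
  apply mono_app (Kι U) V
  rw [key s, key t]

theorem Kι_bijective (V : X.Opens) (hV : ∀ y ∈ V, y ∉ U) :
    Function.Bijective ((Kι U).app V) := by
  refine ⟨mono_app (Kι U) V, fun s => ?_⟩
  apply (mem_subExt_iff U.ι (𝟙 ((unitMod X).restrict U.ι)) V s).mpr
  have hbot : U.ι ⁻¹ᵁ V = ⊥ := by
    ext y
    simp only [Opens.coe_bot, Set.mem_empty_iff_false, iff_false]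
    intro hy
    exact hV _ hy y.2
  haveI := subsingleton_sections_of_eq_bot ((unitMod X).restrict U.ι) (U.ι ⁻¹ᵁ V) hbot
  exact Subsingleton.elim _ _

end K

/-- a coherent extension of a coherent module on an open, vanishing away from the closure of the
open -/
theorem exists_extension [IsLocallyNoetherian X] (U : X.Opens) (L : (U : Scheme.{u}).Modules)
    (hL : Coh.IsCoh L) :
    ∃ (F : X.Modules) (_ : F.restrict U.ι ≅ L), Coh.IsCoh F ∧
      ∀ V : X.Opens, (∀ y ∈ V, y ∉ U) → Subsingleton Γ(F, V) := by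
  let P : X.Modules := (Scheme.Modules.pushforward U.ι).obj L
  haveI hLq : L.IsQuasicoherent := hL.1
  haveI hPq : P.IsQuasicoherent := qc_pushforward U.ι L
  let ε : P.restrict U.ι ≅ L := (Scheme.Modules.restrictFunctorAdjCounitIso U.ι).app L
  haveI : Mono ε.inv := inferInstance
  obtain ⟨G', i', e, hmono, hG'q, hG'ft, -⟩ :=
    @Groth.Agent.S2250.result X (fun x => Depth2Push.locNoeth_opens x) U P hPq L ε.inv _ hLq hL.2
  refine ⟨G', e, ⟨hG'q, hG'ft⟩, fun V hV => ?_⟩
  have hbot : U.ι ⁻¹ᵁ V = ⊥ := by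
    ext y
    simp only [Opens.coe_bot, Set.mem_empty_iff_false, iff_false]
    intro hy
    exact hV _ hy y.2
  haveI : Subsingleton Γ(P, V) := subsingleton_sections_of_eq_bot L (U.ι ⁻¹ᵁ V) hbot
  exact (mono_app i' V).subsingleton

variable [IsLocallyNoetherian X]

/-- the coherent extension `F ⊞ K` of an invertible module on an open: it restricts to the given
module and all the stalks at points of `U`, and at points with a neighbourhood disjoint from `U`, are
free of rank one -/
theorem exists_extension' (U : X.Opens) (L : (U : Scheme.{u}).Modules)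
    (hL : PicF.IsInvertible L) :
    ∃ F' : X.Modules, Coh.IsCoh F' ∧ Nonempty (F'.restrict U.ι ≅ L) ∧
      (∀ x ∈ U, Nonempty (X.presheaf.stalk x ≃ₗ[X.presheaf.stalk x] F'.presheaf.stalk x)) ∧
      (∀ x : X, (∃ W : X.Opens, x ∈ W ∧ ∀ y ∈ W, y ∉ U) →
        Nonempty (X.presheaf.stalk x ≃ₗ[X.presheaf.stalk x] F'.presheaf.stalk x)) := by
  have hLN : LocNoeth X := fun x => Depth2Push.locNoeth_opens x
  haveI : QuasiCompact U.ι := quasiCompact_of_locNoeth hLN U.ι
  have hLcoh : Coh.IsCoh L := PicCodim2.isCoh_of_isInvertible L hL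
  obtain ⟨F, e, hF, hFz⟩ := exists_extension U L hLcoh
  haveI hFq : F.IsQuasicoherent := hF.1
  haveI hKq : (K U).IsQuasicoherent := K_qc U
  have hKft : (K U).IsFiniteType :=
    isFiniteType_of_mono (Kι U) hKq inferInstance (IsoLocus.isFiniteType_structureModule X)
  have hF'q : (F ⊞ K U).IsQuasicoherent := Groth.Agent.LD.SC.qc_biprod F (K U) hFq hKq
  have hF'ft : (F ⊞ K U).IsFiniteType := isFiniteType_biprod F (K U) hF.2 hKft
  have hfst : ∀ V : X.Opens, V ≤ U →
      Function.Bijective ((biprod.fst : F ⊞ K U ⟶ F).app V) := fun V hV =>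
    bijective_fst_app F (K U) V (K_subsingleton U V hV)
  refine ⟨F ⊞ K U, ⟨hF'q, hF'ft⟩, ?_, ?_, ?_⟩
  · haveI : IsIso ((Scheme.Modules.restrictFunctor U.ι).map (biprod.fst : F ⊞ K U ⟶ F)) :=
      (isIso_restrict_iff _ U).mpr hfst
    exact ⟨asIso ((Scheme.Modules.restrictFunctor U.ι).map (biprod.fst : F ⊞ K U ⟶ F)) ≪≫ e⟩
  · intro x hx
    have h1 := DepthRes.bijective_stalkMap_of_app (biprod.fst : F ⊞ K U ⟶ F) U x hx hfst
    obtain ⟨ℓ⟩ := nonempty_stalk_equiv_of_isInvertible_restrict F U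
      (isInvertible_of_iso e.symm hL) x hx
    exact ⟨ℓ ≪≫ₗ (stalkEquivOfBijective _ x h1).symm⟩
  · rintro x ⟨W, hxW, hW⟩
    have hsnd : ∀ V : X.Opens, V ≤ W →
        Function.Bijective ((biprod.snd : F ⊞ K U ⟶ K U).app V) := fun V hV =>
      bijective_snd_app F (K U) V (hFz V fun y hy => hW y (hV hy))
    have h1 := DepthRes.bijective_stalkMap_of_app (biprod.snd : F ⊞ K U ⟶ K U) W x hxW hsnd
    have h2 := DepthRes.bijective_stalkMap_of_app (Kι U) W x hxW
      (fun V hV => Kι_bijective U V fun y hy => hW y (hV hy))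
    exact ⟨HomSh.unitStalkEquiv x ≪≫ₗ (stalkEquivOfBijective _ x h2).symm ≪≫ₗ
      (stalkEquivOfBijective _ x h1).symm⟩

end Groth.Agent.H2.ExtInv
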