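import Groth.Agent.Lib.Lead.FF.IdealMul
import Groth.Agent.Lib.Lead.QC.Pullback
import Groth.Prelude.Def_Formal2

/-!
# Pullback of coherent formal modules (helper2)

Multiplication by global functions commutes with pushforward and pullback of modules; the pullback
functor preserves the cokernel presentation `M / J M = coker (∐_{b ∈ J} M ⟶ M)`.
-/

set_option autoImplicit false
universe u
open CategoryTheory Limits Opposite TopologicalSpace AlgebraicGeometry

namespace Groth.Agent.H2.FormalPB

section cat

variable {C D : Type*} [Category C] [Category D] [Abelian C] [Abelian D]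

/-- `t` is a cokernel of `φ` when `cokernel.desc φ t h` is an isomorphism. -/
noncomputable def isColimitOfIsIsoDesc {P Q R : C} (φ : P ⟶ Q) (t : Q ⟶ R) (h : φ ≫ t = 0)
    [IsIso (cokernel.desc φ t h)] : IsColimit (CokernelCofork.ofπ t h) :=
  IsColimit.ofIsoColimit (cokernelIsCokernel φ)
    (Cofork.ext (asIso (cokernel.desc φ t h)) (by simp))

/-- conversely, `cokernel.desc φ t h` is an isomorphism when `t` is a cokernel of `φ`. -/
lemma isIso_desc_of_isColimit {P Q R : C} (φ : P ⟶ Q) (t : Q ⟶ R) (h : φ ≫ t = 0)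
    (hc : IsColimit (CokernelCofork.ofπ t h)) : IsIso (cokernel.desc φ t h) := by
  have e : cokernel.desc φ t h =
      ((cokernelIsCokernel φ).coconePointUniqueUpToIso hc).hom := by
    rw [← cancel_epi (cokernel.π φ), cokernel.π_desc]
    exact ((cokernelIsCokernel φ).comp_coconePointUniqueUpToIso_hom hc
      WalkingParallelPair.one).symm
  rw [e]
  infer_instance

/-- a cokernel-preserving functor carries the presentation `R = coker φ` to a presentation of
`Φ R`, also after precomposing with an epimorphism. -/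
lemma isIso_cokernel_desc_map (Φ : C ⥤ D) [Φ.PreservesZeroMorphisms] {P Q R : C} (φ : P ⟶ Q)
    (t : Q ⟶ R) (h : φ ≫ t = 0) [IsIso (cokernel.desc φ t h)]
    [PreservesColimit (parallelPair φ 0) Φ] {P' : D} (e : P' ⟶ Φ.obj P) [Epi e]
    (ψ : P' ⟶ Φ.obj Q) (hψ : ψ = e ≫ Φ.map φ) (h' : ψ ≫ Φ.map t = 0) :
    IsIso (cokernel.desc ψ (Φ.map t) h') := by
  have hc := isColimitOfIsIsoDesc φ t h
  have hc' := CokernelCofork.mapIsColimit _ hc Φ
  have hc'' := isCokernelEpiComp hc' e hψ
  exact isIso_desc_of_isColimit ψ (Φ.map t) h' hc''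

end cat

variable {X Y : Scheme.{u}} (f : X ⟶ Y)

lemma pushforward_map_smulModΓ (N : X.Modules) (r : Coh.Γtop Y) :
    (Scheme.Modules.pushforward f).map (Formal.smulModΓ N (f.appTop.hom r)) =
      Formal.smulModΓ ((Scheme.Modules.pushforward f).obj N) r := by
  apply Scheme.Modules.hom_ext
  intro U
  ext s
  have key : Coh.resTop X (op (f ⁻¹ᵁ U)) (f.appTop.hom r) =
      (show X.ringCatSheaf.obj.obj (op (f ⁻¹ᵁ U)) from (f.app U).hom (Coh.resTop Y (op U) r)) :=
    congr($(f.naturality (homOfLE (le_top : U ≤ ⊤)).op) r).symm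
  change Coh.resTop X (op (f ⁻¹ᵁ U)) (f.appTop.hom r) • (show N.val.obj (op (f ⁻¹ᵁ U)) from s) =
    (show X.ringCatSheaf.obj.obj (op (f ⁻¹ᵁ U)) from (f.app U).hom (Coh.resTop Y (op U) r)) •
      (show N.val.obj (op (f ⁻¹ᵁ U)) from s)
  rw [key]

lemma pullback_map_smulModΓ (M : Y.Modules) (r : Coh.Γtop Y) :
    (Scheme.Modules.pullback f).map (Formal.smulModΓ M r) =
      Formal.smulModΓ ((Scheme.Modules.pullback f).obj M) (f.appTop.hom r) := by
  let adj := Scheme.Modules.pullbackPushforwardAdjunction f
  apply (adj.homEquiv _ _).injective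
  rw [adj.homEquiv_unit, adj.homEquiv_unit, pushforward_map_smulModΓ]
  exact (adj.unit_naturality (Formal.smulModΓ M r)).trans (KLin.comp_smulModΓ _ _).symm

variable {A : Type u} [CommRing A] [X.Over (Spec (CommRingCat.of A))]
  [Y.Over (Spec (CommRingCat.of A))]
  (hf : f ≫ (Y ↘ Spec (CommRingCat.of A)) = X ↘ Spec (CommRingCat.of A))

include hf in
lemma toGlobal_eq (a : A) : Coh.toGlobal (X ↘ Spec (CommRingCat.of A)) a =
    f.appTop.hom (Coh.toGlobal (Y ↘ Spec (CommRingCat.of A)) a) := by
  unfold Coh.toGlobal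
  rw [← hf, Scheme.Hom.comp_appTop]
  rfl

include hf in
/-- pullback of modules is `A`-linear. -/
lemma pullback_map_smulMod (M : Y.Modules) (a : A) :
    (Scheme.Modules.pullback f).map (Formal.smulMod A M a) =
      Formal.smulMod A ((Scheme.Modules.pullback f).obj M) a := by
  unfold Formal.smulMod
  rw [toGlobal_eq f hf a]
  exact pullback_map_smulModΓ f M _

include hf in
/-- the pullback of a module killed by `J` is killed by `J`. -/
lemma killedBy_pullback (J : Ideal A) (M : Y.Modules) (h : Formal.KilledBy J M) :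
    Formal.KilledBy J ((Scheme.Modules.pullback f).obj M) := by
  intro a ha
  rw [← pullback_map_smulMod f hf M a, h a ha, Functor.map_zero]

include hf in
/-- `smulFamily` and pullback. -/
lemma sigmaComparison_map_smulFamily (J : Ideal A) (M : Y.Modules) :
    sigmaComparison (Scheme.Modules.pullback f) (fun _ : J => M) ≫
      (Scheme.Modules.pullback f).map (Formal.smulFamily J M) =
      Formal.smulFamily J ((Scheme.Modules.pullback f).obj M) := by
  apply Sigma.hom_ext
  intro b
  rw [ι_comp_sigmaComparison_assoc, ← Functor.map_comp]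
  unfold Formal.smulFamily
  rw [Sigma.ι_desc, Sigma.ι_desc, pullback_map_smulMod f hf]

end Groth.Agent.H2.FormalPB
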