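import Groth.Agent.Lib.Helper2.FormalEq5
import Groth.Agent.Lib.Helper2.ExtInvB
import Groth.Agent.Lib.Helper2.FormalPB
import Groth.Prelude.Def_Algz
import Groth.Prelude.Def_Wider

/-!
# Restriction of coherent formal modules to opens; completions of coherent modules (helper2)
-/

set_option autoImplicit false
set_option linter.style.haveILetI false
universe u
open CategoryTheory Limits Opposite TopologicalSpace AlgebraicGeometry

namespace Groth.Agent.H2.AlgzExt

open Groth.Agent.LD.FF Groth.Agent.LD.Stein Groth.Agent.H2.FormalQ Groth.Agent.LD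
  Groth.Agent.H2.FormalEq

section General

variable {A : Type u} [CommRing A] {X : Scheme.{u}} [X.Over (Spec (CommRingCat.of A))]

lemma isQ_comp_iso {J : Ideal A} {M Q Q' : X.Modules} {p : M ⟶ Q} (hp : IsQ J p) (e : Q ⟶ Q')
    [IsIso e] : IsQ J (p ≫ e) := by
  haveI := hp.epi
  rw [isQ_iff] at hp ⊢
  obtain ⟨_, k, un⟩ := hp
  refine ⟨epi_comp p e, fun b hb => ?_, fun {Z} g hg => ?_⟩
  · rw [← Category.assoc, k b hb, zero_comp]
  · obtain ⟨g', hg'⟩ := un g hg
    exact ⟨inv e ≫ g', by rw [Category.assoc, IsIso.hom_inv_id_assoc, hg']⟩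

/-- the completion of a coherent module is a coherent formal module. -/
theorem isCohFormal_completion (I : Ideal A) {M : X.Modules} (hM : Coh.IsCoh M) :
    Formal.IsCohFormal I (Formal.completion I M) := by
  refine ⟨fun n => isCoh_modPow I (n + 1) hM, fun n => killedBy_modPow I (n + 1) M, fun n => ?_⟩
  have h2 : (Formal.completion I M).map (homOfLE (Nat.le_succ n)).op =
      Formal.modPowTrans I (n + 1) M := by
    unfold Formal.completion
    exact Functor.ofOpSequence_map_homOfLE_succ _ n
  have h3 : IsQ (I ^ (n + 1)) (Formal.modPowTrans I (n + 1) M) := by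
    refine isQ_of_comp (isQ_modPowπ I (n + 1 + 1) M) ?_
    rw [Formal.modPowπ_trans]
    exact isQ_modPowπ I (n + 1) M
  change IsQ (I ^ (n + 1)) ((Formal.completion I M).map (homOfLE (Nat.le_succ n)).op)
  rw [h2]
  exact h3

/-- two inverse systems of quotients of one module by the same ideals are isomorphic. -/
theorem nonempty_iso_of_isQ_family {M : X.Modules} {S S' : ℕᵒᵖ ⥤ X.Modules} (J : ℕ → Ideal A)
    (p : ∀ n, M ⟶ S.obj (op n)) (p' : ∀ n, M ⟶ S'.obj (op n))
    (hp : ∀ n, IsQ (J n) (p n)) (hp' : ∀ n, IsQ (J n) (p' n))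
    (hc : ∀ (n k : ℕ) (h : n ≤ k), p k ≫ S.map (homOfLE h).op = p n)
    (hc' : ∀ (n k : ℕ) (h : n ≤ k), p' k ≫ S'.map (homOfLE h).op = p' n) :
    Nonempty (S ≅ S') := by
  choose e he using fun n => IsQ.exists_iso (hp n) (hp' n)
  refine ⟨NatIso.ofComponents (fun n => e n.unop) ?_⟩
  intro a b f
  obtain ⟨k⟩ := a
  obtain ⟨n⟩ := b
  have h : n ≤ k := leOfHom f.unop
  have hf : f = (homOfLE h).op := Subsingleton.elim _ _
  subst hf
  haveI : Epi (p k) := (hp k).epi
  change S.map (homOfLE h).op ≫ (e n).hom = (e k).hom ≫ S'.map (homOfLE h).op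
  rw [← cancel_epi (p k), ← Category.assoc, hc n k h, he n, ← Category.assoc, he k, hc' n k h]

end General

section Pullback

variable {A : Type u} [CommRing A] {X Y : Scheme.{u}} [X.Over (Spec (CommRingCat.of A))]
  [Y.Over (Spec (CommRingCat.of A))] (f : X ⟶ Y)
  (hf : f ≫ (Y ↘ Spec (CommRingCat.of A)) = X ↘ Spec (CommRingCat.of A))

include hf in
/-- pullback preserves quotients by ideals of the base ring. -/
theorem isQ_pullback {J : Ideal A} {M Q : Y.Modules} {p : M ⟶ Q} (hp : IsQ J p) :
    IsQ J ((Scheme.Modules.pullback f).map p) := by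
  haveI : Limits.PreservesColimitsOfSize.{u, u} (Scheme.Modules.pullback f) :=
    (Scheme.Modules.pullbackPushforwardAdjunction f).leftAdjoint_preservesColimits
  obtain ⟨h, hiso⟩ := hp
  haveI := hiso
  have h' : Formal.smulFamily J ((Scheme.Modules.pullback f).obj M) ≫
      (Scheme.Modules.pullback f).map p = 0 := by
    rw [← Groth.Agent.H2.FormalPB.sigmaComparison_map_smulFamily f hf, Category.assoc,
      ← Functor.map_comp, h, Functor.map_zero, Limits.comp_zero]
  refine ⟨h', ?_⟩
  exact Groth.Agent.H2.FormalPB.isIso_cokernel_desc_map (Scheme.Modules.pullback f)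
    (Formal.smulFamily J M) p h
    (Limits.sigmaComparison (Scheme.Modules.pullback f) (fun _ : ↥J => M)) _
    (Groth.Agent.H2.FormalPB.sigmaComparison_map_smulFamily f hf _ _).symm h'

end Pullback

section Restrict

variable {A : Type u} [CommRing A] {X : Scheme.{u}} [X.Over (Spec (CommRingCat.of A))]
  (U : X.Opens)

/-- restriction to an open preserves quotients by ideals of the base ring. -/
theorem isQ_restrict {J : Ideal A} {M Q : X.Modules} {p : M ⟶ Q} (hp : IsQ J p) :
    IsQ J ((Scheme.Modules.restrictFunctor U.ι).map p) := by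
  have h1 : IsQ J ((Scheme.Modules.pullback U.ι).map p) := isQ_pullback U.ι rfl hp
  let e := Scheme.Modules.restrictFunctorIsoPullback U.ι
  have h2 : (Scheme.Modules.restrictFunctor U.ι).map p =
      e.hom.app M ≫ ((Scheme.Modules.pullback U.ι).map p ≫ e.inv.app Q) := by
    rw [← Category.assoc, ← e.hom.naturality, Category.assoc, Iso.hom_inv_id_app, Category.comp_id]
  rw [h2]
  exact isQ_iso_comp _ (isQ_comp_iso h1 _)

end Restrict

end Groth.Agent.H2.AlgzExt
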