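import Groth.Agent.Lib.Helper2.AlgzExt1
import Groth.Agent.Lib.Lead.FF.ML

/-!
# Completions of coherent modules on an open of an affine Noetherian scheme extend (helper2)
-/

set_option autoImplicit false
set_option linter.style.haveILetI false
universe u
open CategoryTheory Limits Opposite TopologicalSpace AlgebraicGeometry

namespace Groth.Agent.H2.AlgzExt

open Groth.Agent.LD.FF Groth.Agent.LD.Stein Groth.Agent.H2.FormalQ Groth.Agent.LD
  Groth.Agent.H2.FormalEq

section

variable {A : Type u} [CommRing A] {X : Scheme.{u}} [X.Over (Spec (CommRingCat.of A))]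
  [IsLocallyNoetherian X]

/-- the completion of a coherent module on an open extends. -/
theorem extends_of_completion_iso (I : Ideal A) (U : X.Opens)
    (G : ℕᵒᵖ ⥤ (U : Scheme.{u}).Modules) (F : (U : Scheme.{u}).Modules) (hF : Coh.IsCoh F)
    (e : Formal.completion I F ≅ G) : Algz.Extends I U G := by
  obtain ⟨F', eF, hF', -⟩ := Groth.Agent.H2.ExtInv.exists_extension U F hF
  refine ⟨Formal.completion I F', isCohFormal_completion I hF', ?_⟩
  have hπc : ∀ n, IsQ (I ^ (n + 1)) (πc I F n) := fun n => isQ_modPowπ I (n + 1) F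
  have hπc' : ∀ n, IsQ (I ^ (n + 1)) (πc I F' n) := fun n => isQ_modPowπ I (n + 1) F'
  refine nonempty_iso_of_isQ_family (M := F'.restrict U.ι) (fun n => I ^ (n + 1))
    (fun n => (Scheme.Modules.restrictFunctor U.ι).map (πc I F' n))
    (fun n => eF.hom ≫ πc I F n ≫ (e.app (op n)).hom)
    (fun n => isQ_restrict U (hπc' n))
    (fun n => isQ_iso_comp eF.hom (isQ_comp_iso (hπc n) (e.app (op n)).hom))
    ?_ ?_
  · intro n k h
    change (Scheme.Modules.restrictFunctor U.ι).map (πc I F' k) ≫
      (Scheme.Modules.restrictFunctor U.ι).map ((Formal.completion I F').map (homOfLE h).op) = _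
    rw [← Functor.map_comp, πc_map]
  · intro n k h
    have hnat : (e.app (op k)).hom ≫ G.map (homOfLE h).op =
        (Formal.completion I F).map (homOfLE h).op ≫ (e.app (op n)).hom :=
      (e.hom.naturality (homOfLE h).op).symm
    rw [Category.assoc, Category.assoc, hnat, ← Category.assoc (πc I F k), πc_map]

end

end Groth.Agent.H2.AlgzExt
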