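import Groth.Agent.Lib.Helper2.AlgzExt2
import Groth.Agent.Lib.Lead.QC.SubExtRestrict
import Groth.Agent.Lib.Lead.QC.Push

/-!
# Canonically extending coherent formal modules extend (helper2)
-/

set_option autoImplicit false
set_option linter.style.haveILetI false
universe u
open CategoryTheory Limits Opposite TopologicalSpace AlgebraicGeometry

namespace Groth.Agent.H2.AlgzExt

open Groth.Agent.LD.FF Groth.Agent.LD.Stein Groth.Agent.H2.FormalQ Groth.Agent.LD
  Groth.Agent.H2.FormalEq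

section Restrict

variable {A : Type u} [CommRing A] {X : Scheme.{u}} [X.Over (Spec (CommRingCat.of A))]
  (U : X.Opens)

lemma killedBy_restrict {J : Ideal A} {M : X.Modules} (h : Formal.KilledBy J M) :
    Formal.KilledBy J ((Scheme.Modules.restrictFunctor U.ι).obj M) := by
  have h1 := isQ_restrict U (isQ_id_of_killedBy h)
  rw [CategoryTheory.Functor.map_id, isQ_iff] at h1
  intro b hb
  have := h1.2.1 b hb
  rwa [Category.comp_id] at this

/-- the restriction of a coherent formal module to an open is a coherent formal module. -/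
theorem isCohFormal_restrictSys {I : Ideal A} {G : ℕᵒᵖ ⥤ X.Modules} (hG : Formal.IsCohFormal I G) :
    Formal.IsCohFormal I (Algz.restrictSys U G) := by
  refine ⟨fun n => ?_, fun n => killedBy_restrict U (hG.2.1 n), fun n => ?_⟩
  · haveI : (G.obj (op n)).IsQuasicoherent := (hG.1 n).1
    exact ⟨QC.qc_restrict U.ι _, QC.isFiniteType_restrict U.ι _ (hG.1 n).2⟩
  · exact isQ_restrict U (isQ_tr hG (Nat.le_succ n))

end Restrict

section Pro

variable {C D : Type*} [Category C] [Category D]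

lemma pro_aux (Φ : C ⥤ D) {Xk Xn Yk Yn : C} {Zk Zn : D} (ek : Φ.obj Xk ≅ Zk)
    (en : Φ.obj Xn ≅ Zn) (ak : Xk ⟶ Yk) (an : Xn ⟶ Yn) (b : Yk ⟶ Xn) (tX : Xk ⟶ Xn) (tY : Yk ⟶ Yn)
    (tZ : Zk ⟶ Zn) (h1 : ak ≫ b = tX) (h2 : b ≫ an = tY)
    (hnat : Φ.map tX ≫ en.hom = ek.hom ≫ tZ) :
    (ek.inv ≫ Φ.map ak) ≫ (Φ.map b ≫ en.hom) = tZ ∧
      (Φ.map b ≫ en.hom) ≫ (en.inv ≫ Φ.map an) = Φ.map tY := by
  constructor
  · rw [Category.assoc, ← Category.assoc (Φ.map ak), ← Φ.map_comp, h1, hnat, Iso.inv_hom_id_assoc]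
  · rw [Category.assoc, Iso.hom_inv_id_assoc, ← Φ.map_comp, h2]

/-- pro-isomorphisms are preserved by functors, and transported along isomorphisms of the source. -/
theorem isProIsomorphic_of_iso_comp (Φ : C ⥤ D) {X Y : ℕᵒᵖ ⥤ C} {Z : ℕᵒᵖ ⥤ D}
    (e : X ⋙ Φ ≅ Z) (h : Algz.IsProIsomorphic X Y) : Algz.IsProIsomorphic Z (Y ⋙ Φ) := by
  obtain ⟨m, hm, hle, a, ha⟩ := h
  let a' : DerCA.reindex Z hm ⟶ Y ⋙ Φ :=
    Functor.whiskerLeft (Monotone.functor hm).op e.inv ≫
      (Functor.associator _ _ _).inv ≫ Functor.whiskerRight a Φ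
  have ha' : ∀ n : ℕ, a'.app (op n) = (e.app (op (m n))).inv ≫ Φ.map (a.app (op n)) := by
    intro n
    change e.inv.app _ ≫ 𝟙 _ ≫ Φ.map (a.app (op n)) = _
    rw [Category.id_comp]
    rfl
  refine ⟨m, hm, hle, a', fun n => ?_⟩
  obtain ⟨k, hnk, b, hb1, hb2⟩ := ha n
  have key := pro_aux Φ (e.app (op (m k))) (e.app (op (m n))) (a.app (op k)) (a.app (op n)) b
    (X.map (homOfLE (hm hnk)).op) (Y.map (homOfLE hnk).op) (Z.map (homOfLE (hm hnk)).op) hb1 hb2
    (e.hom.naturality (homOfLE (hm hnk)).op)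
  refine ⟨k, hnk, Φ.map b ≫ (e.app (op (m n))).hom, ?_, ?_⟩
  · rw [ha' k]
    exact key.1
  · rw [ha' n]
    exact key.2

end Pro

section Sect

variable (A : Type u) [CommRing A] (U : (Spec (CommRingCat.of A)).Opens)
  (G : ℕᵒᵖ ⥤ (U : Scheme.{u}).Modules)

/-- the system of direct images. -/
noncomputable abbrev pushSys : ℕᵒᵖ ⥤ (Spec (CommRingCat.of A)).Modules :=
  G ⋙ Scheme.Modules.pushforward U.ι

/-- the counit `Γ(U, G_n)~ ⟶ j_* G_n`. -/
noncomputable def sectCounit : Algz.sectSys A U G ⟶ pushSys A U G where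
  app n := Scheme.Modules.fromTildeΓ (R := CommRingCat.of A)
    ((Scheme.Modules.pushforward U.ι).obj (G.obj n))
  naturality n k f := (Scheme.Modules.fromTildeΓNatTrans (R := CommRingCat.of A)).naturality
    ((Scheme.Modules.pushforward U.ι).map (G.map f))

lemma sectCounit_app (n : ℕᵒᵖ) : (sectCounit A U G).app n =
    Scheme.Modules.fromTildeΓ (R := CommRingCat.of A)
      ((Scheme.Modules.pushforward U.ι).obj (G.obj n)) := rfl

/-- the comparison `(Γ(U, G_n)~)|_U ⟶ G_n`. -/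
noncomputable def sectRestrict : Algz.restrictSys U (Algz.sectSys A U G) ⟶ G :=
  Functor.whiskerRight (sectCounit A U G) (Scheme.Modules.restrictFunctor U.ι) ≫
    (Functor.associator _ _ _).hom ≫
      Functor.whiskerLeft G (Scheme.Modules.restrictFunctorAdjCounitIso U.ι).hom ≫
        (Functor.rightUnitor _).hom

variable {A U G}

lemma isIso_sectRestrict [QuasiCompact U.ι] (hG : ∀ n, (G.obj n).IsQuasicoherent) :
    IsIso (sectRestrict A U G) := by
  haveI : ∀ n, IsIso ((sectCounit A U G).app n) := by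
    intro n
    haveI := hG n
    haveI : ((Scheme.Modules.pushforward U.ι).obj (G.obj n)).IsQuasicoherent :=
      QC.qc_pushforward U.ι (G.obj n)
    exact Scheme.Modules.isIso_fromTildeΓ_of_isQuasicoherent (R := CommRingCat.of A)
      ((Scheme.Modules.pushforward U.ι).obj (G.obj n))
  haveI : IsIso (sectCounit A U G) := NatIso.isIso_of_isIso_app _
  unfold sectRestrict
  infer_instance

end Sect

end Groth.Agent.H2.AlgzExt
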