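import Mathlib.RingTheory.Finiteness.Ideal
import Mathlib.RingTheory.Noetherian.Basic
import Mathlib.Algebra.Module.LocalizedModule.Basic
import Mathlib.Algebra.Category.ModuleCat.Basic
import Mathlib.RingTheory.Ideal.Operations

/-!
# Cofinal finite submodules of systems of modules (helper2)

Pure algebra for the description of coherent formal modules on a punctured spectrum by systems of
finite modules.
-/

set_option autoImplicit false
universe u
open CategoryTheory Opposite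

namespace Groth.Agent.H2.AlgzFin

section Alg

variable {A : Type*} [CommRing A] {M : Type*} [AddCommGroup M] [Module A M]

/-- `N` is `𝔞`-cofinal in `M`: every element of `M` is carried into `N` by a power of `𝔞`. -/
def Cof (𝔞 : Ideal A) (N : Submodule A M) : Prop :=
  ∀ h : M, ∃ m : ℕ, ∀ a ∈ 𝔞 ^ m, a • h ∈ N

lemma exists_pow_smul_mem_of_forall (𝔞 : Ideal A) (h𝔞 : 𝔞.FG) (N : Submodule A M) (x : M)
    (h : ∀ f ∈ 𝔞, ∃ k : ℕ, f ^ k • x ∈ N) : ∃ m : ℕ, ∀ a ∈ 𝔞 ^ m, a • x ∈ N := by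
  let J : Ideal A := N.comap (LinearMap.toSpanSingleton A M x)
  have hJ : ∀ a, a ∈ J ↔ a • x ∈ N := fun a => by
    change LinearMap.toSpanSingleton A M x a ∈ N ↔ _
    rw [LinearMap.toSpanSingleton_apply]
  have hle : 𝔞 ≤ J.radical := fun f hf => by
    obtain ⟨k, hk⟩ := h f hf
    exact ⟨k, (hJ _).2 hk⟩
  obtain ⟨m, hm⟩ := Ideal.exists_pow_le_of_le_radical_of_fg hle h𝔞
  exact ⟨m, fun a ha => (hJ a).1 (hm ha)⟩

lemma exists_pow_smul_mem_of_forall_span (S : Set A) (hS : (Ideal.span S).FG) (N : Submodule A M)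
    (x : M) (h : ∀ f ∈ S, ∃ k : ℕ, f ^ k • x ∈ N) :
    ∃ m : ℕ, ∀ a ∈ (Ideal.span S) ^ m, a • x ∈ N := by
  let J : Ideal A := N.comap (LinearMap.toSpanSingleton A M x)
  have hJ : ∀ a, a ∈ J ↔ a • x ∈ N := fun a => by
    change LinearMap.toSpanSingleton A M x a ∈ N ↔ _
    rw [LinearMap.toSpanSingleton_apply]
  have hle : Ideal.span S ≤ J.radical := by
    rw [Ideal.span_le]
    intro f hf
    obtain ⟨k, hk⟩ := h f hf
    exact ⟨k, (hJ _).2 hk⟩
  obtain ⟨m, hm⟩ := Ideal.exists_pow_le_of_le_radical_of_fg hle hS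
  exact ⟨m, fun a ha => (hJ a).1 (hm ha)⟩

lemma cof_of_forall_pow_span (S : Set A) (hS : (Ideal.span S).FG) (N : Submodule A M)
    (h : ∀ f ∈ S, ∀ x : M, ∃ k : ℕ, f ^ k • x ∈ N) : Cof (Ideal.span S) N :=
  fun x => exists_pow_smul_mem_of_forall_span S hS N x (fun f hf => h f hf x)

lemma Cof.pow_smul_mem {𝔞 : Ideal A} {N : Submodule A M} (hN : Cof 𝔞 N) (f : A) (hf : f ∈ 𝔞)
    (h : M) : ∃ k : ℕ, f ^ k • h ∈ N := by
  obtain ⟨m, hm⟩ := hN h
  exact ⟨m, hm _ (Ideal.pow_mem_pow hf m)⟩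

lemma cof_of_forall_pow (𝔞 : Ideal A) (h𝔞 : 𝔞.FG) (N : Submodule A M)
    (h : ∀ f ∈ 𝔞, ∀ x : M, ∃ k : ℕ, f ^ k • x ∈ N) : Cof 𝔞 N :=
  fun x => exists_pow_smul_mem_of_forall 𝔞 h𝔞 N x (fun f hf => h f hf x)

lemma Cof.inf_comap {M' : Type*} [AddCommGroup M'] [Module A M'] {𝔞 : Ideal A}
    {N : Submodule A M} {N' : Submodule A M'} (hN : Cof 𝔞 N) (hN' : Cof 𝔞 N') (t : M →ₗ[A] M') :
    Cof 𝔞 (N ⊓ N'.comap t) := by
  intro h
  obtain ⟨m₁, h₁⟩ := hN h
  obtain ⟨m₂, h₂⟩ := hN' (t h)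
  refine ⟨max m₁ m₂, fun a ha => ⟨?_, ?_⟩⟩
  · exact h₁ a (Ideal.pow_le_pow_right (le_max_left _ _) ha)
  · change t (a • h) ∈ N'
    rw [map_smul]
    exact h₂ a (Ideal.pow_le_pow_right (le_max_right _ _) ha)

/-- if `ρ : H → L` is the localization at `f`, `N ≤ H` is cofinal for `f` and `ρ x ∈ J L`, then
some `f ^ K • x` lies in `J N`. -/
lemma exists_pow_smul_mem_smul {H L : Type*} [AddCommGroup H] [Module A H] [AddCommGroup L]
    [Module A L] (f : A) (ρ : H →ₗ[A] L) [IsLocalizedModule (Submonoid.powers f) ρ]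
    (N : Submodule A H) (hN : ∀ h : H, ∃ k : ℕ, f ^ k • h ∈ N) (J : Ideal A) (x : H)
    (hx : ρ x ∈ J • (⊤ : Submodule A L)) : ∃ K : ℕ, f ^ K • x ∈ J • N := by
  have key : ∀ l ∈ J • (⊤ : Submodule A L), ∃ K : ℕ, ∃ y ∈ J • N, ρ y = f ^ K • l := by
    intro l hl
    induction hl using Submodule.smul_induction_on' with
    | smul b hb s _ =>
      obtain ⟨⟨h, ⟨_, k, rfl⟩⟩, hs⟩ := IsLocalizedModule.surj (Submonoid.powers f) ρ s
      obtain ⟨k', hk'⟩ := hN h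
      refine ⟨k' + k, b • (f ^ k' • h), Submodule.smul_mem_smul hb hk', ?_⟩
      change f ^ k • s = ρ h at hs
      rw [map_smul, map_smul, ← hs, smul_smul, smul_smul, smul_smul, pow_add]
      congr 1
      ring
    | add l₁ _ l₂ _ ih₁ ih₂ =>
      obtain ⟨K₁, y₁, hy₁, e₁⟩ := ih₁
      obtain ⟨K₂, y₂, hy₂, e₂⟩ := ih₂
      refine ⟨K₁ + K₂, f ^ K₂ • y₁ + f ^ K₁ • y₂,
        Submodule.add_mem _ (Submodule.smul_mem _ _ hy₁) (Submodule.smul_mem _ _ hy₂), ?_⟩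
      rw [map_add, map_smul, map_smul, e₁, e₂, smul_smul, smul_smul, smul_add, pow_add]
      congr 1
      rw [mul_comm]
  obtain ⟨K, y, hy, e⟩ := key (ρ x) hx
  have h0 : ρ (f ^ K • x - y) = 0 := by rw [map_sub, map_smul, e, sub_self]
  obtain ⟨⟨_, K', rfl⟩, hc⟩ := (IsLocalizedModule.eq_zero_iff (Submonoid.powers f) ρ).mp h0
  change f ^ K' • (f ^ K • x - y) = 0 at hc
  rw [smul_sub, sub_eq_zero, smul_smul, ← pow_add] at hc
  exact ⟨K' + K, hc ▸ Submodule.smul_mem _ _ hy⟩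

lemma smul_top_eq_bot_of_forall {J : Ideal A} (h : ∀ b ∈ J, ∀ s : M, b • s = 0) :
    J • (⊤ : Submodule A M) = ⊥ := by
  rw [eq_bot_iff, Submodule.smul_le]
  intro b hb s _
  rw [h b hb s]
  exact Submodule.zero_mem _

lemma mem_smul_top_subtype_iff (N : Submodule A M) (J : Ideal A) (y : N) :
    y ∈ J • (⊤ : Submodule A N) ↔ (y : M) ∈ J • N := by
  have h1 : (J • (⊤ : Submodule A N)).map N.subtype = J • N := by
    rw [Submodule.map_smul'', Submodule.map_subtype_top]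
  rw [← h1]
  constructor
  · intro hy
    exact ⟨y, hy, rfl⟩
  · rintro ⟨y', hy', e⟩
    have : y' = y := Subtype.ext e
    exact this ▸ hy'

end Alg

end Groth.Agent.H2.AlgzFin
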