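import Groth.Agent.Lib.Helper2.AlgzFin1

/-!
# Cofinal finite submodules of systems of modules, II (helper2)

The recursive choice of compatible finite cofinal submodules in an inverse system of modules.
-/

set_option autoImplicit false
universe u
open CategoryTheory Opposite

namespace Groth.Agent.H2.AlgzFin

variable {A : Type u} [CommRing A] (H : ℕᵒᵖ ⥤ ModuleCat.{u} A)

/-- the transition map of the system, as a linear map. -/
noncomputable abbrev tn (n : ℕ) : H.obj (op (n + 1)) →ₗ[A] H.obj (op n) :=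
  (H.map (homOfLE (Nat.le_succ n)).op).hom

/-- compatible submodules cut out from a family of submodules. -/
noncomputable def Nrec (N' : ∀ n, Submodule A (H.obj (op n))) : ∀ n, Submodule A (H.obj (op n))
  | 0 => N' 0
  | n + 1 => N' (n + 1) ⊓ (Nrec N' n).comap (tn H n)

variable {H}

lemma Nrec_le (N' : ∀ n, Submodule A (H.obj (op n))) (n : ℕ) : Nrec H N' n ≤ N' n := by
  cases n with
  | zero => exact le_rfl
  | succ n => exact inf_le_left

lemma Nrec_succ_le (N' : ∀ n, Submodule A (H.obj (op n))) (n : ℕ) :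
    Nrec H N' (n + 1) ≤ (Nrec H N' n).comap (tn H n) := inf_le_right

lemma Nrec_cof {𝔞 : Ideal A} (N' : ∀ n, Submodule A (H.obj (op n))) (h : ∀ n, Cof 𝔞 (N' n))
    (n : ℕ) : Cof 𝔞 (Nrec H N' n) := by
  induction n with
  | zero => exact h 0
  | succ n ih => exact (h (n + 1)).inf_comap ih (tn H n)

lemma Nrec_fg [IsNoetherianRing A] (N' : ∀ n, Submodule A (H.obj (op n))) (h : ∀ n, (N' n).FG)
    (n : ℕ) : (Nrec H N' n).FG := by
  haveI : Module.Finite A (N' n) := Module.Finite.iff_fg.2 (h n)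
  haveI : IsNoetherian A (N' n) := isNoetherian_of_isNoetherianRing_of_finite A (N' n)
  exact (isNoetherian_submodule.1 this) _ (Nrec_le N' n)

variable (H)

/-- the abstract construction: from cofinal finitely generated submodules of the terms of a system
`H` (killed by `I ^ (n + 1)`, with transition maps surjective up to `𝔞`-torsion and with kernels
controlled by `I ^ (n + 1)` up to `𝔞`-torsion) to a system of finite modules. -/
theorem exists_system [IsNoetherianRing A] (I 𝔞 : Ideal A)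
    (h1 : ∀ n, ∃ N' : Submodule A (H.obj (op n)), N'.FG ∧ Cof 𝔞 N')
    (h2 : ∀ n, ∀ b ∈ I ^ (n + 1), ∀ s : H.obj (op n), b • s = 0)
    (h3 : ∀ n, ∀ f ∈ 𝔞, ∀ y : H.obj (op n), ∃ k : ℕ, f ^ k • y ∈ LinearMap.range (tn H n))
    (h4 : ∀ n, ∀ f ∈ 𝔞, ∀ x : H.obj (op (n + 1)), tn H n x = 0 →
      ∀ N : Submodule A (H.obj (op (n + 1))), (∀ h : H.obj (op (n + 1)), ∃ k : ℕ, f ^ k • h ∈ N) →
        ∃ K : ℕ, f ^ K • x ∈ I ^ (n + 1) • N) :
    ∃ (N : ∀ n, Submodule A (H.obj (op n)))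
      (hle : ∀ n, ∀ x ∈ N (n + 1), tn H n x ∈ N n),
      (∀ n, Cof 𝔞 (N n)) ∧ (∀ n, Module.Finite A (N n)) ∧
      (∀ n, I ^ (n + 1) • (⊤ : Submodule A (N n)) = ⊥) ∧
      (∀ n (x : N (n + 1)), (tn H n).restrict (hle n) x = 0 →
        ∃ m : ℕ, ∀ a ∈ 𝔞 ^ m, a • x ∈ I ^ (n + 1) • (⊤ : Submodule A (N (n + 1)))) ∧
      (∀ n (y : N n), ∃ m : ℕ, ∀ a ∈ 𝔞 ^ m,
        a • y ∈ LinearMap.range ((tn H n).restrict (hle n))) := by
  choose N' hfg hcof using h1
  have h𝔞 : 𝔞.FG := (isNoetherianRing_iff_ideal_fg A).1 inferInstance 𝔞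
  have hc := Nrec_cof N' hcof
  refine ⟨Nrec H N', fun n x hx => Nrec_succ_le N' n hx, hc,
    fun n => Module.Finite.iff_fg.2 (Nrec_fg N' hfg n), fun n => ?_, fun n x hx => ?_,
    fun n y => ?_⟩
  · apply smul_top_eq_bot_of_forall
    intro b hb s
    exact Subtype.ext (h2 n b hb s.1)
  · apply exists_pow_smul_mem_of_forall 𝔞 h𝔞
    intro f hf
    have hx' : tn H n x.1 = 0 := congrArg Subtype.val hx
    obtain ⟨K, hK⟩ := h4 n f hf x.1 hx' (Nrec H N' (n + 1))
      (fun h => (hc (n + 1)).pow_smul_mem f hf h)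
    exact ⟨K, (mem_smul_top_subtype_iff _ _ _).2 hK⟩
  · apply exists_pow_smul_mem_of_forall 𝔞 h𝔞
    intro f hf
    obtain ⟨k, z, hz⟩ := h3 n f hf y.1
    obtain ⟨k', hk'⟩ := (hcof (n + 1)).pow_smul_mem f hf z
    have hmem : f ^ k' • z ∈ Nrec H N' (n + 1) := by
      refine ⟨hk', ?_⟩
      change tn H n (f ^ k' • z) ∈ Nrec H N' n
      rw [map_smul, hz]
      exact Submodule.smul_mem _ _ (Submodule.smul_mem _ _ y.2)
    refine ⟨k' + k, ⟨f ^ k' • z, hmem⟩, ?_⟩
    apply Subtype.ext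
    change tn H n (f ^ k' • z) = f ^ (k' + k) • y.1
    rw [map_smul, hz, smul_smul, pow_add]

end Groth.Agent.H2.AlgzFin
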