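import Groth.Agent.Lib.Helper2.AlgzInj3

/-!
# Injectivity of `((M/I^{n+1}M)~|_U) → (F_n)` on compatible families over `D(f)`, III (helper2)
-/

set_option autoImplicit false
set_option linter.style.haveILetI false
universe u
open CategoryTheory Limits Opposite TopologicalSpace AlgebraicGeometry

namespace Groth.Agent.H2.AlgzInj

open Groth.Agent.LD.FF Groth.Agent.H2.FormalQ Groth.Agent.H2.FormalEq Groth.Agent.LD
  Groth.Agent.H2.AlgzAff Groth.Agent.H2.LimAdic Groth.Agent.LD.QC Groth.Agent.H2.AR ARSys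
  Groth.Agent.H2.AlgzEpi Groth.Agent.H2.LimSec

variable {A : Type u} [CommRing A] [IsNoetherianRing A] {I : Ideal A} (𝔞 : Ideal A)
  {G : ℕᵒᵖ ⥤ (↑(LocCoh.puncturedOpen A 𝔞) : Scheme.{u}).Modules}

omit [IsNoetherianRing A] in
/-- kernel comparison, stated for an abstract system of modules. -/
lemma ker_le_ker_qt (H : ℕᵒᵖ ⥤ ModuleCat.{u} A) {k m₀ : ℕ}
    (hm₀ : LinearMap.ker (limit.π H (op m₀)).hom ≤
      I ^ (k + 1) • (⊤ : Submodule A ↑(limit H)))
    (ℓ : ModuleCat.of A (Formal2.quotPow A I ↑(limit H) (max m₀ k)) ⟶ H.obj (op (max m₀ k)))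
    (hℓ : ModuleCat.ofHom (Formal2.quotPowπ A I ↑(limit H) (max m₀ k)) ≫ ℓ =
      limit.π H (op (max m₀ k))) :
    LinearMap.ker ℓ.hom ≤ LinearMap.ker
      (ModuleCat.ofHom (qt I ↑(limit H) (le_max_right m₀ k))).hom := by
  intro p hp
  obtain ⟨z, rfl⟩ := Submodule.mkQ_surjective _ p
  rw [LinearMap.mem_ker] at hp
  have h1 : (limit.π H (op (max m₀ k))).hom z = 0 := by
    rw [← hℓ]
    exact hp
  have h2 : (limit.π H (op m₀)).hom z = 0 := by
    have := trl_πl H (le_max_left m₀ k) z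
    change trl H (le_max_left m₀ k) ((limit.π H (op (max m₀ k))).hom z) =
      (limit.π H (op m₀)).hom z at this
    rw [← this, h1, map_zero]
  have h3 := hm₀ h2
  rw [LinearMap.mem_ker]
  change qt I ↑(limit H) (le_max_right m₀ k) (Formal2.quotPowπ A I ↑(limit H) (max m₀ k) z) = 0
  rw [qt_mk]
  exact (Submodule.Quotient.mk_eq_zero _).2 h3

theorem eq_zero_of_compatible (hG : Formal.IsCohFormal I G)
    (hb : ∀ k : ℕ, ∃ n : ℕ,
      LinearMap.ker (limit.π (Algz.sectMod A (LocCoh.puncturedOpen A 𝔞) G) (op n)).hom ≤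
      I ^ k • (⊤ : Submodule A ↑(limit (Algz.sectMod A (LocCoh.puncturedOpen A 𝔞) G))))
    (ℓ : ∀ n : ℕ, ModuleCat.of A (Formal2.quotPow A I
      ↑(limit (Algz.sectMod A (LocCoh.puncturedOpen A 𝔞) G)) n) ⟶
        (Algz.sectMod A (LocCoh.puncturedOpen A 𝔞) G).obj (op n))
    (hℓ : ∀ n : ℕ, ModuleCat.ofHom (Formal2.quotPowπ A I
      ↑(limit (Algz.sectMod A (LocCoh.puncturedOpen A 𝔞) G)) n) ≫ ℓ n =
        limit.π (Algz.sectMod A (LocCoh.puncturedOpen A 𝔞) G) (op n))
    (f : A)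
    (x : (∀ n : ℕ, (Scheme.Modules.presheaf (Formal2.tmod A (Formal2.quotPow A I
      ↑(limit (Algz.sectMod A (LocCoh.puncturedOpen A 𝔞) G)) n))).obj
        (op (PrimeSpectrum.basicOpen f : (Spec (CommRingCat.of A)).Opens))))
    (hx : ∀ n : ℕ, Scheme.Modules.Hom.app (Formal2.tmodMap A (Formal2.quotPowTrans A I
      ↑(limit (Algz.sectMod A (LocCoh.puncturedOpen A 𝔞) G)) n))
        (PrimeSpectrum.basicOpen f : (Spec (CommRingCat.of A)).Opens) (x (n + 1)) = x n)
    (hv : ∀ n : ℕ, Scheme.Modules.Hom.app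
      (((tilde.adjunction (R := CommRingCat.of A)).homEquiv (ModuleCat.of A (Formal2.quotPow A I
        ↑(limit (Algz.sectMod A (LocCoh.puncturedOpen A 𝔞) G)) n))
        ((Scheme.Modules.pushforward (LocCoh.puncturedOpen A 𝔞).ι).obj (G.obj (op n)))).symm (ℓ n))
      (PrimeSpectrum.basicOpen f : (Spec (CommRingCat.of A)).Opens) (x n) = 0) (k : ℕ) :
    x k = 0 := by
  let U := LocCoh.puncturedOpen A 𝔞
  let H := Algz.sectMod A U G
  obtain ⟨m₀, hm₀⟩ := hb (k + 1)
  have hle := ker_le_ker_qt H hm₀ (ℓ (max m₀ k)) (hℓ (max m₀ k))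
  haveI hq : (G.obj (op (max m₀ k))).IsQuasicoherent := (hG.1 (max m₀ k)).1
  haveI h3 : IsIso ((adj A).counit.app
      ((Scheme.Modules.pushforward U.ι).obj (G.obj (op (max m₀ k))))) :=
    isIso_counit (QC.qc_pushforward U.ι _)
  have hv' : Scheme.Modules.Hom.app ((Tf A).map (ℓ (max m₀ k)))
      (PrimeSpectrum.basicOpen f : (Spec (CommRingCat.of A)).Opens) (x (max m₀ k)) = 0 := by
    have h4 := hv (max m₀ k)
    rw [Adjunction.homEquiv_counit] at h4
    have h5 := comp_app_apply ((Tf A).map (ℓ (max m₀ k))) ((adj A).counit.app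
      ((Scheme.Modules.pushforward U.ι).obj (G.obj (op (max m₀ k)))))
      (PrimeSpectrum.basicOpen f : (Spec (CommRingCat.of A)).Opens) (x (max m₀ k))
    have h6 := Groth.Agent.H2.LimSec.iso_inv_hom_app (asIso ((adj A).counit.app
      ((Scheme.Modules.pushforward U.ι).obj (G.obj (op (max m₀ k))))))
      (PrimeSpectrum.basicOpen f : (Spec (CommRingCat.of A)).Opens)
      (Scheme.Modules.Hom.app ((Tf A).map (ℓ (max m₀ k)))
      (PrimeSpectrum.basicOpen f : (Spec (CommRingCat.of A)).Opens) (x (max m₀ k)))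
    rw [← h6]
    have h7 := h5.symm.trans h4
    exact (congrArg _ h7).trans (map_zero _)
  have h8 := tilde_map_app_eq_zero (R := CommRingCat.of A) (ℓ (max m₀ k))
    (ModuleCat.ofHom (qt I ↑(limit H) (le_max_right m₀ k))) hle f (x (max m₀ k)) hv'
  rw [← tmodMap_qt_app I ↑(limit H) f x hx (le_max_right m₀ k)]
  exact h8

end Groth.Agent.H2.AlgzInj
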