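import Groth.Agent.Lib.Helper2.AlgzFin2
import Groth.Agent.Lib.Helper2.AlgzInj4

/-!
# Coherent formal modules on a punctured spectrum: finite cofinal submodules of sections (helper2)
-/

set_option autoImplicit false
set_option linter.style.haveILetI false
universe u
open CategoryTheory Limits Opposite TopologicalSpace AlgebraicGeometry

namespace Groth.Agent.H2.AlgzFin

open Groth.Agent.LD.FF Groth.Agent.H2.FormalQ Groth.Agent.H2.FormalEq Groth.Agent.LD
  Groth.Agent.H2.AlgzAff Groth.Agent.H2.LimAdic Groth.Agent.LD.QC Groth.Agent.H2.AR ARSys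
  Groth.Agent.H2.AlgzEpi Groth.Agent.H2.Mum

section General

/-- on `Spec R`, finitely many global sections generate a quasi-coherent module up to `f`-torsion
as soon as its sections over `D(f)` are finite. -/
lemma exists_finset_pow_smul_mem_top {R : CommRingCat.{u}} (Z : (Spec R).Modules)
    [Z.IsQuasicoherent] (f : R)
    [Module.Finite Γ(Spec R, PrimeSpectrum.basicOpen f) Γ(Z, PrimeSpectrum.basicOpen f)] :
    ∃ T : Finset ((modulesSpecToSheaf.obj Z).obj.obj (op ⊤)),
      ∀ m : (modulesSpecToSheaf.obj Z).obj.obj (op ⊤), ∃ k : ℕ,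
        f ^ k • m ∈ Submodule.span R (T : Set ((modulesSpecToSheaf.obj Z).obj.obj (op ⊤))) := by
  let g₀ := ((modulesSpecToSheaf.obj Z).obj.map
      (TopologicalSpace.Opens.leTop (PrimeSpectrum.basicOpen f)).op).hom
  let g : ((modulesSpecToSheaf.obj Z).obj.obj (op ⊤)) →ₗ[R] Γ(Z, PrimeSpectrum.basicOpen f) := g₀
  haveI : IsLocalizedModule.Away f g := spec_isLocalizing Z f
  exact exists_finset_pow_smul_mem (R' := Γ(Spec R, PrimeSpectrum.basicOpen f))
    (M' := Γ(Z, PrimeSpectrum.basicOpen f)) f g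

variable {A : Type u} [CommRing A] (U : (Spec (CommRingCat.of A)).Opens)
  (F : (U : Scheme.{u}).Modules)

/-- the `A`-module structure on sections of a direct image from an open of `Spec A` is the
structural one. -/
lemma smul_pushforward_eq (V : (Spec (CommRingCat.of A)).Opens) (a : A)
    (s : (modulesSpecToSheaf.obj ((Scheme.Modules.pushforward U.ι).obj F)).obj.obj (op V)) :
    a • s = (show Γ(F, U.ι ⁻¹ᵁ V) from
      (ρ A (U.ι ⁻¹ᵁ V) a) • (show Γ(F, U.ι ⁻¹ᵁ V) from s)) := by
  change (U.ι.app V ((Spec (CommRingCat.of A)).presheaf.map V.leTop.op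
    ((Scheme.ΓSpecIso (CommRingCat.of A)).inv a))) • (show Γ(F, U.ι ⁻¹ᵁ V) from s) = _
  congr 1

/-- the identity map from sections of `F` over `U ∩ V` (with the structural `A`-module structure)
to sections of the direct image over `V`. -/
noncomputable def secToPush (V : (Spec (CommRingCat.of A)).Opens) :
    SecA A F (U.ι ⁻¹ᵁ V) →ₗ[A]
      (modulesSpecToSheaf.obj ((Scheme.Modules.pushforward U.ι).obj F)).obj.obj (op V) where
  toFun s := s
  map_add' _ _ := rfl
  map_smul' a s := (smul_pushforward_eq U F V a s).symm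

lemma secToPush_apply (V : (Spec (CommRingCat.of A)).Opens) (s : SecA A F (U.ι ⁻¹ᵁ V)) :
    secToPush U F V s = (show Γ(F, U.ι ⁻¹ᵁ V) from s) := rfl

lemma mem_smul_top_push (V : (Spec (CommRingCat.of A)).Opens) (J : Ideal A)
    (s : Γ(F, U.ι ⁻¹ᵁ V))
    (hs : (show SecA A F (U.ι ⁻¹ᵁ V) from s) ∈ J • (⊤ : Submodule A (SecA A F (U.ι ⁻¹ᵁ V)))) :
    (show (modulesSpecToSheaf.obj ((Scheme.Modules.pushforward U.ι).obj F)).obj.obj (op V) from s) ∈
      J • (⊤ : Submodule A
        ((modulesSpecToSheaf.obj ((Scheme.Modules.pushforward U.ι).obj F)).obj.obj (op V))) := by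
  have h1 := Submodule.mem_map_of_mem (f := secToPush U F V) hs
  rw [Submodule.map_smul''] at h1
  exact Submodule.smul_mono le_rfl le_top h1

end General

end Groth.Agent.H2.AlgzFin
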