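import Groth.Agent.Lib.Helper2.AlgzFin3
import Groth.Agent.Lib.Helper2.AlgzCan5

/-!
# Coherent formal modules on a punctured spectrum: the system of sections (helper2)

The hypotheses of `AlgzFin.exists_system` for the system `H^0(U, F_n)`.
-/

set_option autoImplicit false
set_option linter.style.haveILetI false
universe u
open CategoryTheory Limits Opposite TopologicalSpace AlgebraicGeometry

namespace Groth.Agent.H2.AlgzFin

open Groth.Agent.LD.FF Groth.Agent.H2.FormalQ Groth.Agent.H2.FormalEq Groth.Agent.LD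
  Groth.Agent.H2.AlgzAff Groth.Agent.H2.LimAdic Groth.Agent.LD.QC Groth.Agent.H2.AR ARSys
  Groth.Agent.H2.AlgzEpi Groth.Agent.H2.Mum Groth.Agent.H2.LimSec Groth.Agent.H2.AlgzCan

attribute [local instance 2000] idOver

variable {A : Type u} [CommRing A] [IsNoetherianRing A] {I : Ideal A} (𝔞 : Ideal A)
  {G : ℕᵒᵖ ⥤ (↑(LocCoh.puncturedOpen A 𝔞) : Scheme.{u}).Modules}

/-- (G1) finitely generated cofinal submodules of the modules of sections. -/
lemma exists_fg_cof (hG : Formal.IsCohFormal I G) (n : ℕ) :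
    ∃ N' : Submodule A ((Algz.sectMod A (LocCoh.puncturedOpen A 𝔞) G).obj (op n)),
      N'.FG ∧ Cof 𝔞 N' := by
  classical
  let U := LocCoh.puncturedOpen A 𝔞
  let Z : (Spec (CommRingCat.of A)).Modules :=
    (Scheme.Modules.pushforward U.ι).obj (G.obj (op n))
  haveI hq : (G.obj (op n)).IsQuasicoherent := (hG.1 n).1
  haveI : Z.IsQuasicoherent := QC.qc_pushforward U.ι _
  let e : Z.restrict U.ι ≅ G.obj (op n) :=
    asIso ((Scheme.Modules.restrictAdjunction U.ι).counit.app (G.obj (op n)))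
  have hft : (Z.restrict U.ι).IsFiniteType := isFiniteType_of_iso e.symm (hG.1 n).2
  obtain ⟨S, hS⟩ := (isNoetherianRing_iff_ideal_fg A).1 inferInstance 𝔞
  have hT : ∀ f : A, ∃ T : Finset ((modulesSpecToSheaf.obj Z).obj.obj (op ⊤)), f ∈ S →
      ∀ m : (modulesSpecToSheaf.obj Z).obj.obj (op ⊤), ∃ k : ℕ, f ^ k • m ∈
        Submodule.span A (T : Set ((modulesSpecToSheaf.obj Z).obj.obj (op ⊤))) := by
    intro f
    by_cases hf : f ∈ S
    · have hf𝔞 : f ∈ 𝔞 := hS ▸ Ideal.subset_span hf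
      haveI := finite_sections_of_restrict_isFiniteType Z U hft
        (isAffineOpen_basicOpen_spec (R := CommRingCat.of A) f)
        (basicOpen_le_puncturedOpen 𝔞 f hf𝔞)
      obtain ⟨T, hT⟩ := exists_finset_pow_smul_mem_top (R := CommRingCat.of A) Z f
      exact ⟨T, fun _ => hT⟩
    · exact ⟨∅, fun h => absurd h hf⟩
  choose T hT using hT
  refine ⟨Submodule.span A ((S.biUnion T : Finset ((modulesSpecToSheaf.obj Z).obj.obj (op ⊤))) :
    Set ((modulesSpecToSheaf.obj Z).obj.obj (op ⊤))), ⟨S.biUnion T, rfl⟩, ?_⟩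
  have h𝔞 : (Ideal.span (S : Set A)).FG := ⟨S, rfl⟩
  have key : ∀ 𝔟 : Ideal A, 𝔟 = Ideal.span (S : Set A) → Cof 𝔟 (Submodule.span A
      ((S.biUnion T : Finset ((modulesSpecToSheaf.obj Z).obj.obj (op ⊤))) :
        Set ((modulesSpecToSheaf.obj Z).obj.obj (op ⊤)))) := by
    intro 𝔟 h𝔟
    subst h𝔟
    apply cof_of_forall_pow_span _ h𝔞
    intro f hf x
    obtain ⟨k, hk⟩ := hT f hf x
    refine ⟨k, Submodule.span_mono ?_ hk⟩
    intro y hy
    exact Finset.mem_biUnion.mpr ⟨f, hf, hy⟩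
  exact key 𝔞 hS.symm

/-
  intro f hf x
  obtain ⟨k, hk⟩ := hT f hf x
  refine ⟨k, Submodule.span_mono ?_ hk⟩
  intro y hy
  exact Finset.mem_biUnion.mpr ⟨f, hf, hy⟩
-/

/-- (G2) the modules of sections are killed by the powers of `I`. -/
lemma smul_sectMod_eq_zero (hG : Formal.IsCohFormal I G) (n : ℕ) (b : A) (hb : b ∈ I ^ (n + 1))
    (s : (Algz.sectMod A (LocCoh.puncturedOpen A 𝔞) G).obj (op n)) : b • s = 0 :=
  Γ_smul_eq_zero (killedBy_pushforward (LocCoh.puncturedOpen A 𝔞).ι (Category.comp_id _) _ _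
    (hG.2.1 n)) b hb s

/-- (G3) the transition maps of the system of sections are surjective up to `𝔞`-torsion. -/
lemma pow_smul_mem_range_tn (hG : Formal.IsCohFormal I G) (n : ℕ) (f : A) (hf : f ∈ 𝔞)
    (y : (Algz.sectMod A (LocCoh.puncturedOpen A 𝔞) G).obj (op n)) :
    ∃ k : ℕ, f ^ k • y ∈
      LinearMap.range (tn (Algz.sectMod A (LocCoh.puncturedOpen A 𝔞) G) n) :=
  pow_smul_mem_range_trl 𝔞 hG f hf (Nat.le_succ n) y

end Groth.Agent.H2.AlgzFin
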