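import Groth.Agent.Lib.Helper2.AlgzFin4

/-!
# Coherent formal modules on a punctured spectrum: kernels of the transition maps of the system of
sections (helper2)
-/

set_option autoImplicit false
set_option linter.style.haveILetI false
universe u
open CategoryTheory Limits Opposite TopologicalSpace AlgebraicGeometry

namespace Groth.Agent.H2.AlgzFin

open Groth.Agent.LD.FF Groth.Agent.H2.FormalQ Groth.Agent.H2.FormalEq Groth.Agent.LD
  Groth.Agent.H2.AlgzAff Groth.Agent.H2.LimAdic Groth.Agent.LD.QC Groth.Agent.H2.AR ARSys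
  Groth.Agent.H2.AlgzEpi Groth.Agent.H2.Mum Groth.Agent.H2.LimSec Groth.Agent.H2.AlgzCan

attribute [local instance 2000] idOver

variable {A : Type u} [CommRing A] [IsNoetherianRing A] {I : Ideal A} (𝔞 : Ideal A)
  {G : ℕᵒᵖ ⥤ (↑(LocCoh.puncturedOpen A 𝔞) : Scheme.{u}).Modules}

/-- (G4) an element of the kernel of a transition map of the system of sections lies, up to
`f`-torsion, in `I ^ (n + 1)` times any `f`-cofinal submodule. -/
lemma pow_smul_mem_smul_of_tn_eq_zero (hG : Formal.IsCohFormal I G) (n : ℕ) (f : A) (hf : f ∈ 𝔞)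
    (x : (Algz.sectMod A (LocCoh.puncturedOpen A 𝔞) G).obj (op (n + 1)))
    (hx : tn (Algz.sectMod A (LocCoh.puncturedOpen A 𝔞) G) n x = 0)
    (N : Submodule A ((Algz.sectMod A (LocCoh.puncturedOpen A 𝔞) G).obj (op (n + 1))))
    (hN : ∀ h : (Algz.sectMod A (LocCoh.puncturedOpen A 𝔞) G).obj (op (n + 1)),
      ∃ k : ℕ, f ^ k • h ∈ N) :
    ∃ K : ℕ, f ^ K • x ∈ I ^ (n + 1) • N := by
  let U := LocCoh.puncturedOpen A 𝔞
  let p : G.obj (op (n + 1)) ⟶ G.obj (op n) := G.map (homOfLE (Nat.le_succ n)).op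
  have hp : IsQ (I ^ (n + 1)) p := hG.2.2 n
  let Z : (Spec (CommRingCat.of A)).Modules :=
    (Scheme.Modules.pushforward U.ι).obj (G.obj (op (n + 1)))
  let Z' : (Spec (CommRingCat.of A)).Modules :=
    (Scheme.Modules.pushforward U.ι).obj (G.obj (op n))
  haveI hq : (G.obj (op (n + 1))).IsQuasicoherent := (hG.1 (n + 1)).1
  haveI : Z.IsQuasicoherent := QC.qc_pushforward U.ι _
  let D : (Spec (CommRingCat.of A)).Opens := PrimeSpectrum.basicOpen f
  have haff : IsAffineOpen (U.ι ⁻¹ᵁ D) := by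
    apply (isAffineOpen_basicOpen_spec (R := CommRingCat.of A) f).preimage_of_isOpenImmersion U.ι
    rw [Scheme.Opens.opensRange_ι]
    exact basicOpen_le_puncturedOpen 𝔞 f hf
  let ρ₀ := ((modulesSpecToSheaf.obj Z).obj.map
    (TopologicalSpace.Opens.leTop (PrimeSpectrum.basicOpen f)).op).hom
  haveI : IsLocalizedModule (Submonoid.powers f) ρ₀ :=
    spec_isLocalizing (R := CommRingCat.of A) Z f
  apply exists_pow_smul_mem_smul f ρ₀ N hN (I ^ (n + 1)) x
  let φ : Z ⟶ Z' := (Scheme.Modules.pushforward U.ι).map p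
  have hle : D ≤ (⊤ : (Spec (CommRingCat.of A)).Opens) := le_top
  have e1 := Groth.Agent.LD.QC.app_res φ hle (show Γ(Z, ⊤) from x)
  have e2 : φ.app ⊤ (show Γ(Z, ⊤) from x) = 0 := hx
  rw [e2, map_zero] at e1
  have h0 : p.app (U.ι ⁻¹ᵁ D) (show Γ(G.obj (op (n + 1)), U.ι ⁻¹ᵁ D) from ρ₀ x) = 0 := e1
  have h1 := (isQ_app_eq_zero_iff hp ⟨U.ι ⁻¹ᵁ D, haff⟩ _).1 h0
  exact mem_smul_top_push U (G.obj (op (n + 1))) D (I ^ (n + 1)) _ h1

end Groth.Agent.H2.AlgzFin
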