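import Groth.Agent.Lib.Helper2.AlgzFin5

/-!
# Coherent formal modules on a punctured spectrum: the isomorphism with the system of restricted
tilde modules of cofinal submodules of sections (helper2)
-/

set_option autoImplicit false
set_option linter.style.haveILetI false
universe u
open CategoryTheory Limits Opposite TopologicalSpace AlgebraicGeometry

namespace Groth.Agent.H2.AlgzFin

open Groth.Agent.LD.FF Groth.Agent.H2.FormalQ Groth.Agent.H2.FormalEq Groth.Agent.LD
  Groth.Agent.H2.AlgzAff Groth.Agent.H2.LimAdic Groth.Agent.LD.QC Groth.Agent.H2.AR ARSys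
  Groth.Agent.H2.AlgzEpi Groth.Agent.H2.Mum Groth.Agent.H2.LimSec Groth.Agent.H2.AlgzCan
  Groth.Agent.H2.AlgzExt

variable {A : Type u} [CommRing A]

/-- the inclusion of a submodule, as a morphism of `ModuleCat`. -/
noncomputable def subIncl {Hn : ModuleCat.{u} A} (N : Submodule A Hn) : ModuleCat.of A N ⟶ Hn :=
  ModuleCat.ofHom N.subtype

lemma subIncl_apply {Hn : ModuleCat.{u} A} (N : Submodule A Hn) (x : N) :
    (subIncl N).hom x = x.1 := rfl

variable [IsNoetherianRing A] (𝔞 : Ideal A)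

/-- the restriction to the punctured spectrum of the tilde of the inclusion of a cofinal submodule
is an isomorphism. -/
lemma isIso_restrict_tilde_subIncl {Hn : ModuleCat.{u} A} (N : Submodule A Hn) (hcof : Cof 𝔞 N) :
    IsIso ((Scheme.Modules.restrictFunctor (LocCoh.puncturedOpen A 𝔞).ι).map
      ((Tf A).map (subIncl N))) := by
  let U := LocCoh.puncturedOpen A 𝔞
  let Fn : ModuleCat.{u} A ⥤ (U : Scheme.{u}).Modules :=
    Tf A ⋙ Scheme.Modules.restrictFunctor U.ι
  haveI : (Tf A).IsLeftAdjoint := (adj A).isLeftAdjoint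
  haveI : Fn.IsLeftAdjoint := inferInstance
  haveI : (Tf A).PreservesMonomorphisms :=
    Groth.Agent.H5.AG.tilde_preservesMonomorphisms (CommRingCat.of A)
  haveI : Fn.PreservesMonomorphisms := inferInstance
  haveI hm : Mono (subIncl N) :=
    (ModuleCat.mono_iff_injective (subIncl N)).2 (Submodule.injective_subtype N)
  haveI h1 : Mono (Fn.map (subIncl N)) := inferInstance
  haveI h2 : Epi (Fn.map (subIncl N)) := by
    apply epi_restrict_tilde_map U (subIncl N)
    intro x hx
    obtain ⟨f, hf, hxf⟩ := exists_basicOpen_of_mem 𝔞 x hx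
    refine ⟨f, hxf, fun s => ?_⟩
    obtain ⟨k, hk⟩ := hcof.pow_smul_mem f hf s
    exact ⟨k, ⟨⟨_, hk⟩, rfl⟩⟩
  exact isIso_of_mono_of_epi (Fn.map (subIncl N))

/-- (G5) abstract form: if `(H_n~)|_U ≅ G_n` compatibly, then `G` is the system of restrictions
of the tilde modules of compatible cofinal submodules of the `H_n`. -/
theorem nonempty_iso_abstract (H : ℕᵒᵖ ⥤ ModuleCat.{u} A)
    (G : ℕᵒᵖ ⥤ (↑(LocCoh.puncturedOpen A 𝔞) : Scheme.{u}).Modules)
    (σ : (H ⋙ Tf A) ⋙ Scheme.Modules.restrictFunctor (LocCoh.puncturedOpen A 𝔞).ι ⟶ G)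
    [IsIso σ] (N : ∀ n, Submodule A (H.obj (op n))) (hcof : ∀ n, Cof 𝔞 (N n))
    (hle : ∀ n, ∀ x ∈ N (n + 1), tn H n x ∈ N n) :
    Nonempty (G ≅ Functor.ofOpSequence
      (X := fun n => (Scheme.Modules.restrictFunctor (LocCoh.puncturedOpen A 𝔞).ι).obj
        (Formal2.tmod A (N n)))
      (fun n => (Scheme.Modules.restrictFunctor (LocCoh.puncturedOpen A 𝔞).ι).map
        (Formal2.tmodMap A ((tn H n).restrict (hle n))))) := by
  let U := LocCoh.puncturedOpen A 𝔞
  let Fn : ModuleCat.{u} A ⥤ (U : Scheme.{u}).Modules :=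
    Tf A ⋙ Scheme.Modules.restrictFunctor U.ι
  let g : ∀ n, ModuleCat.of A (N (n + 1)) ⟶ ModuleCat.of A (N n) :=
    fun n => ModuleCat.ofHom ((tn H n).restrict (hle n))
  let S : ℕᵒᵖ ⥤ (U : Scheme.{u}).Modules :=
    Functor.ofOpSequence (X := fun n => Fn.obj (ModuleCat.of A (N n))) (fun n => Fn.map (g n))
  let app : ∀ n, S.obj (op n) ⟶ G.obj (op n) := fun n =>
    Fn.map (subIncl (N n)) ≫ σ.app (op n)
  have hsq : ∀ n, g n ≫ subIncl (N n) =
      subIncl (N (n + 1)) ≫ H.map (homOfLE (n.le_add_right 1)).op := by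
    intro n
    ext x
    rfl
  have hnat : ∀ n : ℕ, S.map (homOfLE (n.le_add_right 1)).op ≫ app n =
      app (n + 1) ≫ G.map (homOfLE (n.le_add_right 1)).op := by
    intro n
    have h2 : S.map (homOfLE (n.le_add_right 1)).op = Fn.map (g n) :=
      Functor.ofOpSequence_map_homOfLE_succ _ n
    have nat := σ.naturality (homOfLE (n.le_add_right 1)).op
    have nat' : Fn.map (H.map (homOfLE (n.le_add_right 1)).op) ≫ σ.app (op n) =
        σ.app (op (n + 1)) ≫ G.map (homOfLE (n.le_add_right 1)).op := nat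
    rw [h2]
    change Fn.map (g n) ≫ Fn.map (subIncl (N n)) ≫ σ.app (op n) =
      (Fn.map (subIncl (N (n + 1))) ≫ σ.app (op (n + 1))) ≫
        G.map (homOfLE (n.le_add_right 1)).op
    rw [← Category.assoc, ← Fn.map_comp, hsq n, Fn.map_comp, Category.assoc, nat',
      Category.assoc]
  let α : S ⟶ G := NatTrans.ofOpSequence app hnat
  haveI : ∀ k : ℕᵒᵖ, IsIso (α.app k) := fun k => by
    haveI := isIso_restrict_tilde_subIncl 𝔞 (N k.unop) (hcof k.unop)
    change IsIso ((Scheme.Modules.restrictFunctor U.ι).map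
      ((Tf A).map (subIncl (N k.unop))) ≫ σ.app (op k.unop))
    infer_instance
  haveI : IsIso α := NatIso.isIso_of_isIso_app α
  exact ⟨(asIso α).symm⟩

end Groth.Agent.H2.AlgzFin
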