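import Groth.Agent.Lib.Helper2.AlgzFin6

/-!
# Coherent formal modules on a punctured spectrum are systems of finite modules (helper2)
-/

set_option autoImplicit false
set_option linter.style.haveILetI false
universe u
open CategoryTheory Limits Opposite TopologicalSpace AlgebraicGeometry

namespace Groth.Agent.H2.AlgzFin

open Groth.Agent.LD.FF Groth.Agent.H2.FormalQ Groth.Agent.H2.FormalEq Groth.Agent.LD
  Groth.Agent.H2.AlgzAff Groth.Agent.H2.LimAdic Groth.Agent.LD.QC Groth.Agent.H2.AR ARSys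
  Groth.Agent.H2.AlgzEpi Groth.Agent.H2.Mum Groth.Agent.H2.LimSec Groth.Agent.H2.AlgzCan
  Groth.Agent.H2.AlgzExt

variable {A : Type u} [CommRing A] [IsNoetherianRing A] (𝔞 : Ideal A)

theorem main_abstract (I : Ideal A) (H : ℕᵒᵖ ⥤ ModuleCat.{u} A)
    (G : ℕᵒᵖ ⥤ (↑(LocCoh.puncturedOpen A 𝔞) : Scheme.{u}).Modules)
    (σ : (H ⋙ Tf A) ⋙ Scheme.Modules.restrictFunctor (LocCoh.puncturedOpen A 𝔞).ι ⟶ G)
    (hσ : IsIso σ)
    (h1 : ∀ n, ∃ N' : Submodule A (H.obj (op n)), N'.FG ∧ Cof 𝔞 N')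
    (h2 : ∀ n, ∀ b ∈ I ^ (n + 1), ∀ s : H.obj (op n), b • s = 0)
    (h3 : ∀ n, ∀ f ∈ 𝔞, ∀ y : H.obj (op n), ∃ k : ℕ, f ^ k • y ∈ LinearMap.range (tn H n))
    (h4 : ∀ n, ∀ f ∈ 𝔞, ∀ x : H.obj (op (n + 1)), tn H n x = 0 →
      ∀ N : Submodule A (H.obj (op (n + 1))),
        (∀ h : H.obj (op (n + 1)), ∃ k : ℕ, f ^ k • h ∈ N) →
        ∃ K : ℕ, f ^ K • x ∈ I ^ (n + 1) • N) :
    ∃ (M : ℕ → Type u) (_ : ∀ n, AddCommGroup (M n)) (_ : ∀ n, Module A (M n))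
      (g : ∀ n, M (n + 1) →ₗ[A] M n),
      (∀ n, Module.Finite A (M n)) ∧ (∀ n, I ^ (n + 1) • (⊤ : Submodule A (M n)) = ⊥) ∧
      (∀ n (x : M (n + 1)), g n x = 0 →
        ∃ m : ℕ, ∀ a ∈ 𝔞 ^ m, a • x ∈ I ^ (n + 1) • (⊤ : Submodule A (M (n + 1)))) ∧
      (∀ n (y : M n), ∃ m : ℕ, ∀ a ∈ 𝔞 ^ m, a • y ∈ LinearMap.range (g n)) ∧
      Nonempty (G ≅ Functor.ofOpSequence
        (X := fun n => (Scheme.Modules.restrictFunctor (LocCoh.puncturedOpen A 𝔞).ι).obj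
          (Formal2.tmod A (M n)))
        (fun n => (Scheme.Modules.restrictFunctor (LocCoh.puncturedOpen A 𝔞).ι).map
          (Formal2.tmodMap A (g n)))) := by
  haveI := hσ
  obtain ⟨N, hle, hcof, hfin, hkill, hker, hcok⟩ := exists_system H I 𝔞 h1 h2 h3 h4
  exact ⟨fun n => N n, fun n => inferInstance, fun n => inferInstance,
    fun n => (tn H n).restrict (hle n), hfin, hkill, hker, hcok,
    nonempty_iso_abstract 𝔞 H G σ N hcof hle⟩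

/-- coherent formal modules on the punctured spectrum `Spec A ∖ V(𝔞)` come from systems of
finite `A`-modules. -/
theorem main {I : Ideal A} (G : ℕᵒᵖ ⥤ (↑(LocCoh.puncturedOpen A 𝔞) : Scheme.{u}).Modules)
    (hG : Formal.IsCohFormal I G) :
    ∃ (M : ℕ → Type u) (_ : ∀ n, AddCommGroup (M n)) (_ : ∀ n, Module A (M n))
      (g : ∀ n, M (n + 1) →ₗ[A] M n),
      (∀ n, Module.Finite A (M n)) ∧ (∀ n, I ^ (n + 1) • (⊤ : Submodule A (M n)) = ⊥) ∧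
      (∀ n (x : M (n + 1)), g n x = 0 →
        ∃ m : ℕ, ∀ a ∈ 𝔞 ^ m, a • x ∈ I ^ (n + 1) • (⊤ : Submodule A (M (n + 1)))) ∧
      (∀ n (y : M n), ∃ m : ℕ, ∀ a ∈ 𝔞 ^ m, a • y ∈ LinearMap.range (g n)) ∧
      Nonempty (G ≅ Functor.ofOpSequence
        (X := fun n => (Scheme.Modules.restrictFunctor (LocCoh.puncturedOpen A 𝔞).ι).obj
          (Formal2.tmod A (M n)))
        (fun n => (Scheme.Modules.restrictFunctor (LocCoh.puncturedOpen A 𝔞).ι).map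
          (Formal2.tmodMap A (g n)))) := by
  have hσ : IsIso (sectRestrict A (LocCoh.puncturedOpen A 𝔞) G) :=
    isIso_sectRestrict (fun n => (hG.1 n.unop).1)
  exact main_abstract 𝔞 I (Algz.sectMod A (LocCoh.puncturedOpen A 𝔞) G) G
    (sectRestrict A (LocCoh.puncturedOpen A 𝔞) G) hσ
    (exists_fg_cof 𝔞 hG) (smul_sectMod_eq_zero 𝔞 hG) (pow_smul_mem_range_tn 𝔞 hG)
    (pow_smul_mem_smul_of_tn_eq_zero 𝔞 hG)

end Groth.Agent.H2.AlgzFin
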