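import Groth.Agent.Lib.Helper2.AlgzEpi4
import Groth.Agent.Lib.Helper5.AG.TildeExact
import Groth.Agent.Lib.Lead.QC.SerreSupp
import Groth.Agent.Lib.Lead.QC.Closure
import Groth.Prelude.Def_Formal2

/-!
# `(M/I^{n+1}M)~|_U` is coherent when the limit topology on `M = lim H^0(U, F_n)` is adic (helper2)
-/

set_option autoImplicit false
set_option linter.style.haveILetI false
universe u
open CategoryTheory Limits Opposite TopologicalSpace AlgebraicGeometry

namespace Groth.Agent.H2.AlgzInj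

open Groth.Agent.LD.FF Groth.Agent.H2.FormalQ Groth.Agent.H2.FormalEq Groth.Agent.LD
  Groth.Agent.H2.AlgzAff Groth.Agent.H2.LimAdic Groth.Agent.LD.QC Groth.Agent.H2.AR ARSys
  Groth.Agent.H2.AlgzEpi

variable {A : Type u} [CommRing A] [IsNoetherianRing A] {I : Ideal A} (𝔞 : Ideal A)
  {G : ℕᵒᵖ ⥤ (↑(LocCoh.puncturedOpen A 𝔞) : Scheme.{u}).Modules}

omit [IsNoetherianRing A] in
lemma exists_image_factor {M Hm P : ModuleCat.{u} A} (πm : M ⟶ Hm) (q : M ⟶ P)
    (hq : Function.Surjective q.hom) (hle : LinearMap.ker πm.hom ≤ LinearMap.ker q.hom) :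
    ∃ (Mm : ModuleCat.{u} A) (ι : Mm ⟶ Hm) (c : Mm ⟶ P), Mono ι ∧ Epi c := by
  let Mm : ModuleCat.{u} A := ModuleCat.of A (LinearMap.range πm.hom)
  let ι : Mm ⟶ Hm := ModuleCat.ofHom (LinearMap.range πm.hom).subtype
  let π' : M ⟶ Mm := ModuleCat.ofHom πm.hom.rangeRestrict
  have hι : Mono ι := (ModuleCat.mono_iff_injective ι).2 (Submodule.injective_subtype _)
  have hπ's : Function.Surjective π'.hom := LinearMap.surjective_rangeRestrict _
  obtain ⟨c, hc⟩ := exists_factor π' hπ's q (by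
    intro z hz
    have h1 : z ∈ LinearMap.ker πm.hom := by
      rw [LinearMap.mem_ker] at hz ⊢
      exact congrArg Subtype.val hz
    exact hle h1)
  have hcs : Function.Surjective c.hom := by
    intro y
    obtain ⟨z, rfl⟩ := hq y
    exact ⟨π'.hom z, congrArg (fun g => g.hom z) hc⟩
  exact ⟨Mm, ι, c, hι, (ModuleCat.epi_iff_surjective c).2 hcs⟩

theorem isCoh_restrict_tmod_quotPow (hG : Formal.IsCohFormal I G)
    (hb : ∀ k : ℕ, ∃ n : ℕ,
      LinearMap.ker (limit.π (Algz.sectMod A (LocCoh.puncturedOpen A 𝔞) G) (op n)).hom ≤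
      I ^ k • (⊤ : Submodule A ↑(limit (Algz.sectMod A (LocCoh.puncturedOpen A 𝔞) G)))) (n : ℕ) :
    Coh.IsCoh ((Scheme.Modules.restrictFunctor (LocCoh.puncturedOpen A 𝔞).ι).obj
      (Formal2.tmod A (Formal2.quotPow A I
        ↑(limit (Algz.sectMod A (LocCoh.puncturedOpen A 𝔞) G)) n))) := by
  let U := LocCoh.puncturedOpen A 𝔞
  let H := Algz.sectMod A U G
  obtain ⟨m, hm⟩ := hb (n + 1)
  let M : ModuleCat.{u} A := limit H
  let P : ModuleCat.{u} A := ModuleCat.of A (Formal2.quotPow A I M n)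
  let q : M ⟶ P := ModuleCat.ofHom (Formal2.quotPowπ A I M n)
  have hqs : Function.Surjective q.hom := Submodule.mkQ_surjective _
  obtain ⟨Mm, ι, c, hι, hc⟩ := exists_image_factor (limit.π H (op m)) q hqs (by
    intro z hz
    have h2 := hm hz
    rw [LinearMap.mem_ker]
    exact (Submodule.Quotient.mk_eq_zero _).2 h2)
  let F : ModuleCat.{u} A ⥤ (U : Scheme.{u}).Modules :=
    Tf A ⋙ Scheme.Modules.restrictFunctor U.ι
  haveI : (Tf A).IsLeftAdjoint := (adj A).isLeftAdjoint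
  haveI : F.IsLeftAdjoint := inferInstance
  haveI : (Tf A).PreservesMonomorphisms :=
    Groth.Agent.H5.AG.tilde_preservesMonomorphisms (CommRingCat.of A)
  haveI : F.PreservesMonomorphisms := inferInstance
  haveI h1 : Mono (F.map ι) := inferInstance
  haveI h2 : Epi (F.map c) := inferInstance
  haveI hq : (G.obj (op m)).IsQuasicoherent := (hG.1 m).1
  haveI h3 : IsIso ((adj A).counit.app ((Scheme.Modules.pushforward U.ι).obj (G.obj (op m)))) :=
    isIso_counit (QC.qc_pushforward U.ι _)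
  let e : F.obj (H.obj (op m)) ≅ G.obj (op m) :=
    (Scheme.Modules.restrictFunctor U.ι).mapIso (@asIso _ _ _ _ _ h3) ≪≫
    asIso ((Scheme.Modules.restrictAdjunction U.ι).counit.app (G.obj (op m)))
  have hcoh1 : Coh.IsCoh (F.obj (H.obj (op m))) := isCoh_of_iso e.symm (hG.1 m)
  have hqc : ∀ N : ModuleCat.{u} A, (F.obj N).IsQuasicoherent := by
    intro N
    haveI : ((Tf A).obj N).IsQuasicoherent :=
      inferInstanceAs ((AlgebraicGeometry.tilde (R := CommRingCat.of A) N).IsQuasicoherent)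
    exact Scheme.Modules.isQuasicoherent_restrictFunctor U.ι ((Tf A).obj N)
  have hcoh2 : Coh.IsCoh (F.obj Mm) := isCoh_of_mono (F.map ι) (hqc Mm) hcoh1
  have hft : (F.obj P).IsFiniteType := isFiniteType_of_epi (F.map c) hcoh2.1 (hqc P) hcoh2.2
  exact ⟨hqc P, hft⟩

end Groth.Agent.H2.AlgzInj
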