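import Groth.Agent.Lib.Helper2.AlgzInj1

/-!
# Injectivity of `((M/I^{n+1}M)~|_U) → (F_n)` on compatible families over `D(f)` (helper2)
-/

set_option autoImplicit false
set_option linter.style.haveILetI false
universe u
open CategoryTheory Limits Opposite TopologicalSpace AlgebraicGeometry

namespace Groth.Agent.H2.AlgzInj

open Groth.Agent.LD.FF Groth.Agent.H2.FormalQ Groth.Agent.H2.FormalEq Groth.Agent.LD
  Groth.Agent.H2.AlgzAff Groth.Agent.H2.LimAdic Groth.Agent.LD.QC Groth.Agent.H2.AR ARSys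
  Groth.Agent.H2.AlgzEpi

/-- sections of tildes over `D(f)`: a map killing the kernel of another map kills, after tilde,
the sections killed by the tilde of the other map. -/
lemma tilde_map_app_eq_zero {R : CommRingCat.{u}} {P P' Hm : ModuleCat.{u} R} (ℓ : P ⟶ Hm)
    (g : P ⟶ P') (hle : LinearMap.ker ℓ.hom ≤ LinearMap.ker g.hom) (f : R)
    (x : (modulesSpecToSheaf.obj (tilde P)).presheaf.obj (op (PrimeSpectrum.basicOpen f)))
    (hx : ((modulesSpecToSheaf.map (tilde.map ℓ)).1.app (op (PrimeSpectrum.basicOpen f))).hom x = 0) :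
    ((modulesSpecToSheaf.map (tilde.map g)).1.app (op (PrimeSpectrum.basicOpen f))).hom x = 0 := by
  let D : (Spec R).Opens := PrimeSpectrum.basicOpen f
  obtain ⟨⟨p, ⟨_, j, rfl⟩⟩, hp⟩ :=
    IsLocalizedModule.surj (.powers f) (tilde.toOpen P D).hom x
  change f ^ j • x = (tilde.toOpen P D).hom p at hp
  have e1 := congrArg (fun φ => φ.hom p) (tilde.toOpen_map_app ℓ D)
  have e2 := congrArg (fun φ => φ.hom p) (tilde.toOpen_map_app g D)
  change ((modulesSpecToSheaf.map (tilde.map ℓ)).1.app (op D)).hom ((tilde.toOpen P D).hom p) =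
    (tilde.toOpen Hm D).hom (ℓ.hom p) at e1
  change ((modulesSpecToSheaf.map (tilde.map g)).1.app (op D)).hom ((tilde.toOpen P D).hom p) =
    (tilde.toOpen P' D).hom (g.hom p) at e2
  have h1 : (tilde.toOpen Hm D).hom (ℓ.hom p) = 0 := by
    rw [← e1, ← hp, map_smul, hx, smul_zero]
  obtain ⟨⟨_, i, rfl⟩, hi⟩ := (IsLocalizedModule.eq_zero_iff (.powers f)
    (tilde.toOpen Hm D).hom).mp h1
  change f ^ i • ℓ.hom p = 0 at hi
  have h2 : g.hom (f ^ i • p) = 0 := by
    have : f ^ i • p ∈ LinearMap.ker ℓ.hom := by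
      rw [LinearMap.mem_ker, map_smul, hi]
    exact hle this
  have h3 : (f ^ (i + j)) • ((modulesSpecToSheaf.map (tilde.map g)).1.app (op D)).hom x = 0 := by
    rw [pow_add, mul_smul, ← map_smul _ (f ^ j), hp, e2, ← map_smul, ← map_smul, h2, map_zero]
  have hu := IsLocalizedModule.map_units (tilde.toOpen P' D).hom
    (⟨f ^ (i + j), i + j, rfl⟩ : Submonoid.powers f)
  have := ((Module.End.isUnit_iff _).mp hu).1
  apply this
  rw [map_zero]
  exact h3

end Groth.Agent.H2.AlgzInj
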