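import Groth.Agent.Lib.Helper2.FormalEq1
import Groth.Agent.Lib.Lead.FF.Rees

/-!
# Quotient systems of inverse systems of modules (helper2)
-/

set_option autoImplicit false
set_option linter.style.haveILetI false
universe u
open CategoryTheory Limits Opposite TopologicalSpace AlgebraicGeometry

namespace Groth.Agent.H2.FormalEq

open Groth.Agent.LD.FF Groth.Agent.LD.Stein Groth.Agent.H2.FormalQ Groth.Agent.LD

variable {A : Type u} [CommRing A] {X : Scheme.{u}} [X.Over (Spec (CommRingCat.of A))]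

/-- a map that vanishes after multiplication by the elements of `J` vanishes after multiplication by
the elements of any `J'` with `J' O_X ⊆ J O_X`. -/
lemma smulMod_comp_eq_zero_of_sLe {J' J : Ideal A} (hJ : SLe X J' J) {M Z : X.Modules} (g : M ⟶ Z)
    (hg : ∀ b ∈ J, Formal.smulMod A M b ≫ g = 0) : ∀ b ∈ J', Formal.smulMod A M b ≫ g = 0 := by
  have hk : Formal.KilledBy J (image g) := by
    intro b hb
    rw [← cancel_epi (factorThruImage g), comp_zero, comp_smulMod, ← cancel_mono (image.ι g),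
      zero_comp, Category.assoc, image.fac]
    exact hg b hb
  intro b hb
  have := hJ _ hk b hb
  rw [← image.fac g, ← Category.assoc, ← comp_smulMod, this, comp_zero, zero_comp]

lemma isQ_comp_sLe {J' J : Ideal A} (hJ : SLe X J' J) {M N Q : X.Modules} {p : M ⟶ N} {q : N ⟶ Q}
    (hp : IsQ J' p) (hq : IsQ J q) : IsQ J (p ≫ q) := by
  rw [isQ_iff] at hp hq ⊢
  obtain ⟨ep, kp, up⟩ := hp
  obtain ⟨eq, kq, uq⟩ := hq
  refine ⟨epi_comp p q, fun b hb => ?_, fun {Z} g hg => ?_⟩
  · rw [← Category.assoc, ← comp_smulMod, Category.assoc, kq b hb, comp_zero]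
  · obtain ⟨g₁, hg₁⟩ := up g (smulMod_comp_eq_zero_of_sLe hJ g hg)
    obtain ⟨g₂, hg₂⟩ := uq g₁ (fun b hb => by
      rw [← cancel_epi p, comp_zero, ← Category.assoc, comp_smulMod, Category.assoc, hg₁]
      exact hg b hb)
    exact ⟨g₂, by rw [Category.assoc, hg₂, hg₁]⟩

/-- cancellation: if `p` is a quotient by a smaller ideal sheaf and `p ≫ t` is a quotient by `J`, then
`t` is a quotient by `J`. -/
lemma isQ_of_comp {J' J : Ideal A} {M N Q : X.Modules} {p : M ⟶ N} {t : N ⟶ Q}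
    (hp : IsQ J' p) (hpt : IsQ J (p ≫ t)) : IsQ J t := by
  haveI := hp.epi
  rw [isQ_iff] at hpt ⊢
  obtain ⟨e, k, un⟩ := hpt
  refine ⟨epi_of_epi p t, fun b hb => ?_, fun {Z} g hg => ?_⟩
  · rw [← cancel_epi p, comp_zero, ← Category.assoc, comp_smulMod, Category.assoc]
    exact k b hb
  · obtain ⟨g', hg'⟩ := un (p ≫ g) (fun b hb => by
      rw [← Category.assoc, ← comp_smulMod, Category.assoc, hg b hb, comp_zero])
    refine ⟨g', ?_⟩
    rw [← cancel_epi p, ← Category.assoc, hg']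

/-- two quotients by the same ideal are canonically isomorphic. -/
lemma IsQ.exists_iso {J : Ideal A} {M Q Q' : X.Modules} {p : M ⟶ Q} {p' : M ⟶ Q'}
    (hp : IsQ J p) (hp' : IsQ J p') : ∃ e : Q ≅ Q', p ≫ e.hom = p' := by
  haveI := hp.epi
  haveI := hp'.epi
  rw [isQ_iff] at hp hp'
  obtain ⟨a, ha⟩ := hp.2.2 p' hp'.2.1
  obtain ⟨b, hb⟩ := hp'.2.2 p hp.2.1
  refine ⟨⟨a, b, ?_, ?_⟩, ha⟩
  · rw [← cancel_epi p, ← Category.assoc, ha, hb, Category.comp_id]
  · rw [← cancel_epi p', ← Category.assoc, hb, ha, Category.comp_id]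

/-- functoriality of `M / J^k M`. -/
noncomputable def modPowMap (J : Ideal A) (k : ℕ) {M N : X.Modules} (φ : M ⟶ N) :
    Formal.modPow J k M ⟶ Formal.modPow J k N :=
  cokernel.desc _ (φ ≫ Formal.modPowπ J k N) (by
    rw [smulFamily_comp_eq_zero_iff]
    intro b hb
    rw [← Category.assoc, ← comp_smulMod, Category.assoc,
      ((isQ_iff _ _).1 (isQ_modPowπ J k N)).2.1 b hb, comp_zero])

@[reassoc (attr := simp)]
lemma modPowπ_modPowMap (J : Ideal A) (k : ℕ) {M N : X.Modules} (φ : M ⟶ N) :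
    Formal.modPowπ J k M ≫ modPowMap J k φ = φ ≫ Formal.modPowπ J k N :=
  cokernel.π_desc _ _ _

instance (J : Ideal A) (k : ℕ) (M : X.Modules) : Epi (Formal.modPowπ J k M) :=
  (isQ_modPowπ J k M).epi

lemma isCoh_modPow (J : Ideal A) (k : ℕ) {M : X.Modules} (hM : Coh.IsCoh M) :
    Coh.IsCoh (Formal.modPow J k M) := by
  have h1 : (∐ fun _ : ↥(J ^ k) => M).IsQuasicoherent :=
    QC.qc_colimit (Discrete.functor fun _ : ↥(J ^ k) => M) (fun _ => hM.1)
  have h2 : (Formal.modPow J k M).IsQuasicoherent := QC.qc_cokernel _ h1 hM.1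
  exact ⟨h2, QC.isFiniteType_of_epi (Formal.modPowπ J k M) hM.1 h2 hM.2⟩

lemma killedBy_modPow (J : Ideal A) (k : ℕ) (M : X.Modules) :
    Formal.KilledBy (J ^ k) (Formal.modPow J k M) := by
  intro b hb
  rw [← cancel_epi (Formal.modPowπ J k M), comp_zero, comp_smulMod]
  exact ((isQ_iff _ _).1 (isQ_modPowπ J k M)).2.1 b hb

end Groth.Agent.H2.FormalEq
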