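import Groth.Agent.Lib.Helper2.MumF
import Groth.Prelude.Def_Formal

/-! # `A`-linearity of the Čech comparison isomorphism -/

set_option autoImplicit false
set_option linter.style.haveILetI false
universe u

open CategoryTheory CategoryTheory.Limits AlgebraicGeometry Opposite TopologicalSpace TensorProduct

namespace Groth.Agent.H2.Mum

open Groth.Agent.LD Groth.Agent.LD.QC

variable (A : Type u) [CommRing A] {X : Scheme.{u}} [X.Over (Spec (CommRingCat.of A))]
  {ι : Type u} (U : ι → X.Opens)

lemma resTop_toGlobal (V : X.Opens) (a : A) :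
    Coh.resTop X (op V) (Coh.toGlobal (X ↘ Spec (CommRingCat.of A)) a) = ρ A V a := rfl

lemma appA_smulMod (N : X.Modules) (a : A) (V : X.Opens) (s : SecA A N V) :
    appA A (Formal.smulMod A N a) V s = a • s := rfl

lemma CAmap_smulMod (N : X.Modules) (a : A) :
    CAmap A U (Formal.smulMod A N a) = a • 𝟙 (CA A U N) := by
  ext n : 1
  rw [CAmap_f]
  ext y : 2
  funext b
  rfl

lemma homologyMap_smul_id (K : CochainComplex (ModuleCat.{u} A) ℕ) (a : A) (p : ℕ)
    (x : (K.homology p : ModuleCat.{u} A)) :
    (HomologicalComplex.homologyMap (a • 𝟙 K) p).hom x = a • x := by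
  have h1 : HomologicalComplex.homologyMap (a • 𝟙 K) p = a • 𝟙 (K.homology p) := by
    have : (HomologicalComplex.shortComplexFunctor (ModuleCat.{u} A) (ComplexShape.up ℕ) p).map
        (a • 𝟙 K) = a • 𝟙 _ := by
      ext <;> rfl
    change ShortComplex.homologyMap _ = _
    rw [this, ShortComplex.homologyMap_smul, ShortComplex.homologyMap_id]
    rfl
  rw [h1]
  rfl

variable (haff : ∀ (n : ℕ) (a : Fin (n + 1) → ι), IsAffineOpen (⨅ k, U (a k)))
  (hU : iSup U = ⊤)

theorem hEquiv0_smul (N : X.Modules) [N.IsQuasicoherent] (p : ℕ) (a : A)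
    (x : ((CA A U N).homology p : ModuleCat.{u} A)) :
    hEquiv0 A U haff hU N p (a • x) = a • hEquiv0 A U haff hU N p x := by
  have h := hEquiv0_naturality A U haff hU (Formal.smulMod A N a) p x
  rw [CAmap_smulMod, homologyMap_smul_id] at h
  exact h

/-- the comparison isomorphism as an `A`-linear equivalence. -/
noncomputable def hEquivLin (N : X.Modules) [N.IsQuasicoherent] (p : ℕ) :
    ((CA A U N).homology p : ModuleCat.{u} A) ≃ₗ[A] Coh.HH X N p :=
  { hEquiv0 A U haff hU N p with
    map_smul' := fun a x => hEquiv0_smul A U haff hU N p a x }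

end Groth.Agent.H2.Mum
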