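import Groth.Agent.Lib.Helper2.FormalTF3
import Groth.Agent.Lib.Helper2.FormalEq2
import Groth.Agent.Lib.Helper2.MumG
import Mathlib.LinearAlgebra.TensorProduct.Quotient

/-!
# Sections over affine opens of quotients `F / J F` (helper2)
-/

set_option autoImplicit false
set_option linter.style.haveILetI false
universe u

open CategoryTheory CategoryTheory.Limits AlgebraicGeometry Opposite TopologicalSpace TensorProduct

namespace Groth.Agent.H2.LimSec

open Groth.Agent.LD.QC Groth.Agent.H2.Mum Groth.Agent.H2.FormalQ Groth.Agent.H2.FormalTF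
  Groth.Agent.H2.FormalEq

variable (A : Type u) [CommRing A] {X : Scheme.{u}} [X.Over (Spec (CommRingCat.of A))]

lemma tmul_one_eq_zero_iff {S : Type*} [AddCommGroup S] [Module A S] (J : Ideal A) (x : S) :
    x ⊗ₜ[A] (1 : A ⧸ J) = 0 ↔ x ∈ J • (⊤ : Submodule A S) := by
  have h := TensorProduct.tensorQuotEquivQuotSMul_tmul_mk (M := S) J x (1 : A)
  rw [one_smul] at h
  constructor
  · intro h0
    have h1 : TensorProduct.tensorQuotEquivQuotSMul S J (x ⊗ₜ[A] (1 : A ⧸ J)) = 0 := by
      rw [h0, map_zero]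
    have h2 : (Submodule.Quotient.mk x : S ⧸ J • (⊤ : Submodule A S)) = 0 := by
      rw [← h1]
      exact h.symm
    exact (Submodule.Quotient.mk_eq_zero _).1 h2
  · intro hx
    apply (TensorProduct.tensorQuotEquivQuotSMul S J).injective
    rw [map_zero]
    exact h.trans ((Submodule.Quotient.mk_eq_zero _).2 hx)

variable {A}

lemma iso_hom_inv_app {Q Q' : X.Modules} (e : Q ≅ Q') (U : X.Opens) (t : Γ(Q', U)) :
    e.hom.app U (e.inv.app U t) = t := by
  have h := congrArg (fun φ => φ.app U t) e.inv_hom_id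
  rw [Scheme.Modules.Hom.comp_app, ConcreteCategory.comp_apply] at h
  exact h

lemma iso_inv_hom_app {Q Q' : X.Modules} (e : Q ≅ Q') (U : X.Opens) (t : Γ(Q, U)) :
    e.inv.app U (e.hom.app U t) = t :=
  iso_hom_inv_app e.symm U t

lemma q_app_eq_zero_iff (F : X.Modules) [F.IsQuasicoherent] (J : Ideal A) (U : X.affineOpens)
    (x : Γ(F, U.1)) :
    (q A F J).app U.1 x = 0 ↔
      (show SecA A F U.1 from x) ∈ J • (⊤ : Submodule A (SecA A F U.1)) := by
  rw [ιm_app, ← tmul_one_eq_zero_iff]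
  constructor
  · intro h
    apply (σ_bijective A (ModuleCat.of A (A ⧸ J)) F U.2).1
    rw [h, map_zero]
    rfl
  · intro h
    rw [h, map_zero]
    rfl

lemma isQ_app_surjective {F Q : X.Modules} [F.IsQuasicoherent] {J : Ideal A} {p : F ⟶ Q}
    (hp : IsQ J p) (U : X.affineOpens) : Function.Surjective (p.app U.1) := by
  obtain ⟨e, he⟩ := IsQ.exists_iso (isQ_q A F J) hp
  intro t
  obtain ⟨x, hx⟩ := q_app_surjective A F J U (e.inv.app U.1 t)
  refine ⟨x, ?_⟩
  rw [← he, Scheme.Modules.Hom.comp_app, ConcreteCategory.comp_apply, hx]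
  exact iso_hom_inv_app e U.1 t

lemma isQ_app_eq_zero_iff {F Q : X.Modules} [F.IsQuasicoherent] {J : Ideal A} {p : F ⟶ Q}
    (hp : IsQ J p) (U : X.affineOpens) (x : Γ(F, U.1)) :
    p.app U.1 x = 0 ↔
      (show SecA A F U.1 from x) ∈ J • (⊤ : Submodule A (SecA A F U.1)) := by
  obtain ⟨e, he⟩ := IsQ.exists_iso hp (isQ_q A F J)
  rw [← q_app_eq_zero_iff, ← he, Scheme.Modules.Hom.comp_app, ConcreteCategory.comp_apply]
  constructor
  · intro h
    rw [h, map_zero]
  · intro h
    rw [← iso_inv_hom_app e U.1 (p.app U.1 x), h, map_zero]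

end Groth.Agent.H2.LimSec
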