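import Groth.Agent.Lib.Helper2.AlgzInj2
import Groth.Agent.Lib.Helper2.LimSec1

/-!
# Injectivity of `((M/I^{n+1}M)~|_U) → (F_n)` on compatible families over `D(f)`, II (helper2)
-/

set_option autoImplicit false
set_option linter.style.haveILetI false
universe u
open CategoryTheory Limits Opposite TopologicalSpace AlgebraicGeometry

namespace Groth.Agent.H2.AlgzInj

open Groth.Agent.LD.FF Groth.Agent.H2.FormalQ Groth.Agent.H2.FormalEq Groth.Agent.LD
  Groth.Agent.H2.AlgzAff Groth.Agent.H2.LimAdic Groth.Agent.LD.QC Groth.Agent.H2.AR ARSys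
  Groth.Agent.H2.AlgzEpi

section qt

variable {A : Type u} [CommRing A] (I : Ideal A) (M : Type u) [AddCommGroup M] [Module A M]

/-- the transition map `M/I^{m+1}M → M/I^{k+1}M` for `k ≤ m`. -/
def qt {k m : ℕ} (h : k ≤ m) : Formal2.quotPow A I M m →ₗ[A] Formal2.quotPow A I M k :=
  Submodule.mapQ _ _ LinearMap.id (by
    rw [Submodule.comap_id]
    exact Submodule.smul_mono_left (Ideal.pow_le_pow_right (Nat.succ_le_succ h)))

lemma qt_mk {k m : ℕ} (h : k ≤ m) (z : M) :
    qt I M h (Formal2.quotPowπ A I M m z) = Formal2.quotPowπ A I M k z := by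
  unfold qt
  exact Submodule.mapQ_apply _ _ _ _

lemma quotPowTrans_mk (m : ℕ) (z : M) :
    Formal2.quotPowTrans A I M m (Formal2.quotPowπ A I M (m + 1) z) = Formal2.quotPowπ A I M m z := by
  unfold Formal2.quotPowTrans
  exact Submodule.mapQ_apply _ _ _ _

lemma qt_self (k : ℕ) : qt I M (le_refl k) = LinearMap.id := by
  apply Submodule.linearMap_qext
  ext z
  rw [LinearMap.comp_apply, LinearMap.comp_apply, Submodule.mkQ_apply]
  exact qt_mk I M (le_refl k) z

lemma qt_succ {k m : ℕ} (h : k ≤ m) :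
    qt I M (h.trans (Nat.le_succ m)) = (qt I M h) ∘ₗ (Formal2.quotPowTrans A I M m) := by
  apply Submodule.linearMap_qext
  ext z
  rw [LinearMap.comp_apply, LinearMap.comp_apply, LinearMap.comp_apply]
  have e1 := qt_mk I M (h.trans (Nat.le_succ m)) z
  have e2 := quotPowTrans_mk I M m z
  rw [Submodule.mkQ_apply] at e1 e2 ⊢
  rw [e1, e2]
  exact (qt_mk I M h z).symm

lemma tmodMap_id' (k : ℕ) :
    Formal2.tmodMap A (LinearMap.id : Formal2.quotPow A I M k →ₗ[A] _) = 𝟙 _ := by
  change tilde.map (R := CommRingCat.of A) (ModuleCat.ofHom LinearMap.id) = 𝟙 _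
  rw [ModuleCat.ofHom_id, tilde.map_id]

lemma tmodMap_comp' {P Q S : Type u} [AddCommGroup P] [Module A P] [AddCommGroup Q] [Module A Q]
    [AddCommGroup S] [Module A S] (a : P →ₗ[A] Q) (b : Q →ₗ[A] S) :
    Formal2.tmodMap A (b ∘ₗ a) = Formal2.tmodMap A a ≫ Formal2.tmodMap A b := by
  change tilde.map (R := CommRingCat.of A) (ModuleCat.ofHom (b ∘ₗ a)) = _
  rw [ModuleCat.ofHom_comp, tilde.map_comp]

lemma comp_app_apply {X : Scheme.{u}} {M N K : X.Modules} (φ : M ⟶ N) (ψ : N ⟶ K) (V : X.Opens)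
    (x : Γ(M, V)) : (φ ≫ ψ).app V x = ψ.app V (φ.app V x) := rfl

lemma id_app_apply {X : Scheme.{u}} (M : X.Modules) (V : X.Opens)
    (x : Γ(M, V)) : (𝟙 M : M ⟶ M).app V x = x := rfl

lemma tmodMap_qt_app (f : A)
    (x : ∀ n, (Scheme.Modules.presheaf (Formal2.tmod A (Formal2.quotPow A I M n))).obj
      (op (PrimeSpectrum.basicOpen f : (Spec (CommRingCat.of A)).Opens)))
    (hx : ∀ n, Scheme.Modules.Hom.app (Formal2.tmodMap A (Formal2.quotPowTrans A I M n))
      (PrimeSpectrum.basicOpen f : (Spec (CommRingCat.of A)).Opens) (x (n + 1)) = x n)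
    {k m : ℕ} (h : k ≤ m) :
    Scheme.Modules.Hom.app (Formal2.tmodMap A (qt I M h))
      (PrimeSpectrum.basicOpen f : (Spec (CommRingCat.of A)).Opens) (x m) = x k := by
  induction m, h using Nat.le_induction with
  | base =>
    rw [qt_self, tmodMap_id']
    exact id_app_apply _ _ _
  | succ m hm ih =>
    rw [qt_succ I M hm, tmodMap_comp']
    exact (comp_app_apply _ _ _ _).trans
      ((congrArg (fun y => Scheme.Modules.Hom.app (Formal2.tmodMap A (qt I M hm))
        (PrimeSpectrum.basicOpen f : (Spec (CommRingCat.of A)).Opens) y) (hx m)).trans ih)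

end qt

end Groth.Agent.H2.AlgzInj
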