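import Groth.Agent.Lib.Helper2.AlgzExt4
import Groth.Agent.Lib.Helper2.ARSysIm
import Groth.Agent.Lib.Lead.QC.Gen

/-!
# Canonically extending systems have Mittag-Leffler sections (helper2)
-/

set_option autoImplicit false
set_option linter.style.haveILetI false
universe v u
open CategoryTheory Limits Opposite TopologicalSpace AlgebraicGeometry

namespace Groth.Agent.H2.AlgzExt

open Groth.Agent.H2.AR ARSys

section ML

variable {C : Type u} [Category.{v} C] [Abelian C]

/-- clean-typed components of a map out of a re-indexed system. -/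
def reApp {X Y : PS C} {m : ℕ → ℕ} {hm : Monotone m} (a : DerCA.reindex X hm ⟶ Y) (n : ℕ) :
    X.obj (op (m n)) ⟶ Y.obj (op n) := a.app (op n)

lemma reApp_naturality {X Y : PS C} {m : ℕ → ℕ} {hm : Monotone m} (a : DerCA.reindex X hm ⟶ Y)
    {n k : ℕ} (h : n ≤ k) : tr X (hm h) ≫ reApp a n = reApp a k ≫ tr Y h :=
  a.naturality (homOfLE h).op

lemma proIso_reApp {X Y : PS C} {m : ℕ → ℕ} {hm : Monotone m} {a : DerCA.reindex X hm ⟶ Y}
    (ha : DerCA.IsProIso a) (n : ℕ) :
    ∃ (k : ℕ) (h : n ≤ k) (b : Y.obj (op k) ⟶ X.obj (op (m n))),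
      reApp a k ≫ b = tr X (hm h) ∧ b ≫ reApp a n = tr Y h := ha n

/-- a system pro-isomorphic to a strict system satisfies the Mittag-Leffler condition. -/
theorem isML_of_isProIsomorphic_strict {X Y : PS C} (h : Algz.IsProIsomorphic X Y)
    (hY : IsStrict Y) : IsML X := by
  obtain ⟨m, hm, hle, a, ha⟩ := h
  intro n
  obtain ⟨k, hnk, b, hb1, hb2⟩ := proIso_reApp ha n
  -- the stable image is that of `b ≫ tr X (hle n)`
  have key : ∀ (N : ℕ) (hN : m k ≤ N) (hnN : n ≤ N),
      ImLE (tr X hnN) (b ≫ tr X (hle n)) ∧ ImLE (b ≫ tr X (hle n)) (tr X hnN) := by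
    intro N hN hnN
    constructor
    · refine ImLE.of_fac (tr X hN ≫ reApp a k) ?_
      rw [Category.assoc, reassoc_of% hb1, tr_comp, tr_comp]
    · have hkN : k ≤ N := (hle k).trans hN
      obtain ⟨N', hNN', b', hb1', hb2'⟩ := proIso_reApp ha N
      haveI : Epi (tr Y (hkN.trans hNN')) := hY _ _ _
      refine ImLE.of_epi_comp (tr Y (hkN.trans hNN')) ?_
      refine ImLE.of_fac (b' ≫ tr X (hle N)) ?_
      have e1 : tr Y (hkN.trans hNN') ≫ b = b' ≫ tr X (hm (hnk.trans hkN)) := by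
        have nat := reApp_naturality a hkN
        rw [← tr_comp Y hkN hNN', ← hb2', Category.assoc, Category.assoc,
          ← reassoc_of% nat, hb1, tr_comp]
      rw [reassoc_of% e1, Category.assoc, tr_comp, tr_comp]
  refine ⟨m k, fun s hs => ?_⟩
  rw [imageSubobject_eq_iff]
  have h1 := key (n + s) (hs.trans (Nat.le_add_left s n)) (Nat.le_add_right n s)
  have h2 := key (n + m k) (Nat.le_add_left (m k) n) (Nat.le_add_right n (m k))
  exact ⟨h1.1.trans h2.2, h2.1.trans h1.2⟩

end ML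

end Groth.Agent.H2.AlgzExt

namespace Groth.Agent.H2.AlgzExt

open Groth.Agent.LD.FF Groth.Agent.LD.Stein Groth.Agent.H2.FormalQ Groth.Agent.LD
  Groth.Agent.H2.FormalEq Groth.Agent.H2.AR ARSys

section Sect

variable {A : Type u} [CommRing A] (I : Ideal A) (U : (Spec (CommRingCat.of A)).Opens)
  (G : ℕᵒᵖ ⥤ (U : Scheme.{u}).Modules)

/-- the system of sections is `Γ` of the system of tildes. -/
noncomputable def sectSysΓIso :
    Algz.sectSys A U G ⋙ moduleSpecΓFunctor (R := CommRingCat.of A) ≅ Algz.sectMod A U G :=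
  Functor.associator _ _ _ ≪≫
    Functor.isoWhiskerLeft (Algz.sectMod A U G)
      (tilde.toTildeΓNatIso (R := CommRingCat.of A)).symm ≪≫ Functor.rightUnitor _

theorem isML_sectMod (h : Algz.CanonicallyExtends A I U G) :
    ARSys.IsML (Algz.sectMod A U G) := by
  obtain ⟨G', hG', hpro⟩ := h
  have hpro' := isProIsomorphic_of_iso_comp (moduleSpecΓFunctor (R := CommRingCat.of A))
    (sectSysΓIso U G) hpro
  refine isML_of_isProIsomorphic_strict hpro' ?_
  intro n k hnk
  letI : (Spec (CommRingCat.of A)).Over (Spec (CommRingCat.of A)) := ⟨𝟙 _⟩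
  haveI : Epi (ARSys.tr G' hnk) := (isQ_tr hG' hnk).epi
  exact QC.spec_epi_Γ (hG'.1 k).1 (hG'.1 n).1 (ARSys.tr G' hnk)

end Sect

end Groth.Agent.H2.AlgzExt
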