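import Mathlib

/-!
# Adjoining roots of all monic polynomials (S16572)
-/

namespace Groth.Agent.H2.AllRoots

open Polynomial

universe u

variable (A : Type u) [CommRing A]

abbrev ι : Type u := {P : Polynomial A // P.Monic ∧ 0 < P.natDegree}

noncomputable abbrev rel : ι A → MvPolynomial (ι A) A :=
  fun P => Polynomial.aeval (MvPolynomial.X (R := A) P) P.1

abbrev T : Type u := MvPolynomial (ι A) A ⧸ Ideal.span (Set.range (rel A))

/-- the tautological root -/
noncomputable def x (P : ι A) : T A := Ideal.Quotient.mk _ (MvPolynomial.X P)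

lemma aeval_x (P : ι A) : Polynomial.aeval (x A P) P.1 = 0 := by
  have h1 : x A P = Ideal.Quotient.mkₐ A (Ideal.span (Set.range (rel A))) (MvPolynomial.X P) := rfl
  rw [h1, Polynomial.aeval_algHom_apply, Ideal.Quotient.mkₐ_eq_mk]
  exact Ideal.Quotient.eq_zero_iff_mem.2 (Ideal.subset_span ⟨P, rfl⟩)

lemma isIntegral_x (P : ι A) : IsIntegral A (x A P) := ⟨P.1, P.2.1, aeval_x A P⟩

lemma adjoin_x : Algebra.adjoin A (Set.range (x A)) = ⊤ := by
  have h1 : (Algebra.adjoin A (Set.range (MvPolynomial.X : ι A → MvPolynomial (ι A) A))).map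
      (Ideal.Quotient.mkₐ A (Ideal.span (Set.range (rel A)))) = ⊤ := by
    rw [MvPolynomial.adjoin_range_X, Algebra.map_top, AlgHom.range_eq_top]
    exact Ideal.Quotient.mkₐ_surjective _ _
  rw [← h1, AlgHom.map_adjoin, ← Set.range_comp]
  rfl

instance : Algebra.IsIntegral A (T A) := by
  constructor
  intro t
  have h1 : Algebra.adjoin A (Set.range (x A)) ≤ integralClosure A (T A) := by
    rw [Algebra.adjoin_le_iff]
    rintro _ ⟨P, rfl⟩
    exact isIntegral_x A P
  rw [adjoin_x] at h1
  exact h1 trivial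

/-- A map to any algebraically closed field. -/
theorem exists_hom (L : Type u) [Field L] [Algebra A L] [IsAlgClosed L] :
    Nonempty (T A →ₐ[A] L) := by
  have hroot : ∀ P : ι A, ∃ r : L, Polynomial.aeval r P.1 = 0 := by
    intro P
    have hmon : (P.1.map (algebraMap A L)).Monic := P.2.1.map _
    have hdeg : (P.1.map (algebraMap A L)).degree ≠ 0 := by
      rw [Polynomial.degree_eq_natDegree hmon.ne_zero, P.2.1.natDegree_map]
      have := P.2.2
      exact_mod_cast this.ne'
    obtain ⟨r, hr⟩ := IsAlgClosed.exists_root _ hdeg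
    refine ⟨r, ?_⟩
    rw [Polynomial.aeval_def, Polynomial.eval₂_eq_eval_map]
    exact hr
  choose r hr using hroot
  refine ⟨Ideal.Quotient.liftₐ _ (MvPolynomial.aeval r) ?_⟩
  intro y hy
  have hle : Ideal.span (Set.range (rel A)) ≤
      RingHom.ker (MvPolynomial.aeval r : MvPolynomial (ι A) A →ₐ[A] L) := by
    rw [Ideal.span_le]
    rintro _ ⟨P, rfl⟩
    rw [SetLike.mem_coe, RingHom.mem_ker]
    change (MvPolynomial.aeval r) (Polynomial.aeval (MvPolynomial.X (R := A) P) P.1) = 0
    rw [← Polynomial.aeval_algHom_apply, MvPolynomial.aeval_X]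
    exact hr P
  exact hle hy

theorem comap_surjective :
    Function.Surjective (PrimeSpectrum.comap (algebraMap A (T A))) := by
  intro 𝔭
  let F := 𝔭.asIdeal.ResidueField
  let L := AlgebraicClosure F
  obtain ⟨χ⟩ := exists_hom A L
  refine ⟨⟨RingHom.ker χ.toRingHom, RingHom.ker_isPrime _⟩, ?_⟩
  ext a
  change χ (algebraMap A (T A) a) = 0 ↔ a ∈ 𝔭.asIdeal
  rw [AlgHom.commutes, IsScalarTower.algebraMap_apply A F L, map_eq_zero]
  exact Ideal.algebraMap_residueField_eq_zero

section residue

variable (Q : Ideal (T A)) [Q.IsPrime]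

/-- the contraction -/
noncomputable abbrev 𝔭 : Ideal A := Q.comap (algebraMap A (T A))

noncomputable abbrev f : (𝔭 A Q).ResidueField →+* Q.ResidueField :=
  Ideal.ResidueField.map (𝔭 A Q) Q (algebraMap A (T A)) rfl

lemma f_algebraMap (a : A) :
    f A Q (algebraMap A (𝔭 A Q).ResidueField a) = algebraMap A Q.ResidueField a := by
  rw [Ideal.ResidueField.map_algebraMap]
  exact (IsScalarTower.algebraMap_apply A (T A) Q.ResidueField a).symm

theorem f_isIntegral : (f A Q).IsIntegral := by
  letI : Algebra (𝔭 A Q).ResidueField Q.ResidueField := (f A Q).toAlgebra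
  haveI : IsScalarTower A (𝔭 A Q).ResidueField Q.ResidueField :=
    IsScalarTower.of_algebraMap_eq fun a => (f_algebraMap A Q a).symm
  have key : ∀ t : T A, IsIntegral (𝔭 A Q).ResidueField (algebraMap (T A) Q.ResidueField t) := by
    intro t
    have h1 : IsIntegral A t := Algebra.IsIntegral.isIntegral t
    have h2 : IsIntegral A (algebraMap (T A) Q.ResidueField t) :=
      h1.map (IsScalarTower.toAlgHom A (T A) Q.ResidueField)
    exact h2.tower_top
  intro e
  change IsIntegral (𝔭 A Q).ResidueField e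
  obtain ⟨a, b, -, rfl⟩ := IsFractionRing.div_surjective (A := T A ⧸ Q) e
  obtain ⟨a, rfl⟩ := Ideal.Quotient.mk_surjective a
  obtain ⟨b, rfl⟩ := Ideal.Quotient.mk_surjective b
  rw [Ideal.algebraMap_quotient_residueField_mk, Ideal.algebraMap_quotient_residueField_mk,
    div_eq_mul_inv]
  exact (key a).mul (key b).inv

theorem exists_root (p : Polynomial (𝔭 A Q).ResidueField) (hp : p.Monic) (hdeg : 0 < p.natDegree) :
    ∃ y : Q.ResidueField, Polynomial.eval₂ (f A Q) y p = 0 := by
  classical
  let F := (𝔭 A Q).ResidueField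
  -- common denominator
  obtain ⟨b, hb⟩ := IsLocalization.exist_integer_multiples_of_finset
    (nonZeroDivisors (A ⧸ 𝔭 A Q)) (Finset.image p.coeff (Finset.range (p.natDegree + 1)))
  set s : F := algebraMap (A ⧸ 𝔭 A Q) F b with hs
  have hs0 : s ≠ 0 := by
    rw [hs]
    exact IsFractionRing.to_map_ne_zero_of_mem_nonZeroDivisors b.2
  set q := Polynomial.scaleRoots p s with hq
  have hqmon : q.Monic := (Polynomial.monic_scaleRoots_iff s).2 hp
  have hqdeg : q.natDegree = p.natDegree := Polynomial.natDegree_scaleRoots p s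
  have hrange : ∀ z : A ⧸ 𝔭 A Q, algebraMap (A ⧸ 𝔭 A Q) F z ∈ Set.range (algebraMap A F) := by
    intro z
    obtain ⟨a, rfl⟩ := Ideal.Quotient.mk_surjective z
    exact ⟨a, rfl⟩
  have hlift : q ∈ Polynomial.lifts (algebraMap A F) := by
    rw [Polynomial.lifts_iff_coeff_lifts]
    intro i
    rw [hq, Polynomial.coeff_scaleRoots]
    rcases lt_trichotomy i p.natDegree with hi | hi | hi
    · have h1 := hb (p.coeff i) (Finset.mem_image_of_mem _ (Finset.mem_range.2 (by omega)))
      obtain ⟨z, hz⟩ := h1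
      have h2 : p.coeff i * s ^ (p.natDegree - i) =
          algebraMap (A ⧸ 𝔭 A Q) F (z * b ^ (p.natDegree - i - 1)) := by
        rw [map_mul, map_pow, hz, Algebra.smul_def, ← hs]
        have : p.natDegree - i = (p.natDegree - i - 1) + 1 := by omega
        conv_lhs => rw [this, pow_succ]
        ring
      rw [h2]
      exact hrange _
    · rw [hi, Nat.sub_self, pow_zero, mul_one, hp.coeff_natDegree]
      exact ⟨1, map_one _⟩
    · rw [Polynomial.coeff_eq_zero_of_natDegree_lt hi, zero_mul]
      exact ⟨0, map_zero _⟩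
  obtain ⟨P, hPmap, hPdeg, hPmon⟩ := Polynomial.lifts_and_natDegree_eq_and_monic hlift hqmon
  have hPpos : 0 < P.natDegree := by rw [hPdeg, hqdeg]; exact hdeg
  let P' : ι A := ⟨P, hPmon, hPpos⟩
  set xE : Q.ResidueField := algebraMap (T A) Q.ResidueField (x A P') with hxE
  have h1 : Polynomial.aeval xE P = 0 := by
    have : xE = (IsScalarTower.toAlgHom A (T A) Q.ResidueField) (x A P') := rfl
    rw [this, Polynomial.aeval_algHom_apply, aeval_x, map_zero]
  have h2 : Polynomial.eval₂ (f A Q) xE q = 0 := by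
    rw [← hPmap, Polynomial.eval₂_map]
    have : (f A Q).comp (algebraMap A F) = algebraMap A Q.ResidueField :=
      RingHom.ext fun a => f_algebraMap A Q a
    rw [this]
    exact h1
  refine ⟨xE / f A Q s, ?_⟩
  have hfs : f A Q s ≠ 0 := (map_ne_zero (f A Q)).2 hs0
  have h3 := Polynomial.scaleRoots_eval₂_mul (p := p) (f A Q) (xE / f A Q s) s
  rw [mul_div_cancel₀ _ hfs, ← hq, h2] at h3
  rcases mul_eq_zero.1 h3.symm with h4 | h4
  · exact absurd (pow_eq_zero_iff (by omega) |>.1 h4) hfs
  · exact h4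

theorem isAlgClosed : IsAlgClosed Q.ResidueField := by
  letI : Algebra (𝔭 A Q).ResidueField Q.ResidueField := (f A Q).toAlgebra
  haveI : Algebra.IsIntegral (𝔭 A Q).ResidueField Q.ResidueField := ⟨f_isIntegral A Q⟩
  haveI : Algebra.IsAlgebraic (𝔭 A Q).ResidueField Q.ResidueField :=
    Algebra.IsIntegral.isAlgebraic
  have h : IsAlgClosure (𝔭 A Q).ResidueField Q.ResidueField := by
    apply IsAlgClosure.of_exists_root
    intro p hp hirr
    obtain ⟨y, hy⟩ := exists_root A Q p hp (Polynomial.natDegree_pos_iff_degree_pos.2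
      (Polynomial.degree_pos_of_irreducible hirr))
    exact ⟨y, hy⟩
  exact h.isAlgClosed

end residue

end Groth.Agent.H2.AllRoots
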