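import Mathlib

/-!
# Isometries of a nondegenerate alternating matrix have determinant one (any commutative ring)
(S16991)
-/

open Matrix

namespace Groth.Agent.H2.AltDet

variable {n : Type*} [Fintype n] [DecidableEq n] {R : Type*} [CommRing R]

theorem det_eq_one_of_alt (G T A : Matrix n n R) (hG : G = T - Tᵀ) (hu : IsUnit G.det)
    (hA : Aᵀ * G * A = G) : A.det = 1 := by
  set N := G⁻¹ with hN
  have hGN : G * N = 1 := Matrix.mul_nonsing_inv G hu
  have hNG : N * G = 1 := Matrix.nonsing_inv_mul G hu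
  have hGt : Gᵀ = -G := by
    rw [hG, transpose_sub, transpose_transpose, neg_sub]
  have hNt : Nᵀ = -N := by
    have h1 : Nᵀ * Gᵀ = 1 := by rw [← transpose_mul, hGN, transpose_one]
    rw [hGt, mul_neg, ← neg_mul] at h1
    have h2 : G⁻¹ = -Nᵀ := Matrix.inv_eq_left_inv h1
    rw [← hN] at h2
    have h3 : -N = Nᵀ := by
      conv_lhs => rw [h2]
      rw [neg_neg]
    exact h3.symm
  set P : Matrix (n ⊕ n) (n ⊕ n) R := fromBlocks (1 - N * T) (-N) (-(N * T)) (-N) with hP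
  set Ω : Matrix (n ⊕ n) (n ⊕ n) R := fromBlocks G 0 0 (-G) with hΩ
  have hPt : Pᵀ = fromBlocks (1 + Tᵀ * N) (Tᵀ * N) N N := by
    rw [hP, fromBlocks_transpose]
    congr 1
    · rw [transpose_sub, transpose_one, transpose_mul, hNt, mul_neg, sub_neg_eq_add]
    · rw [transpose_neg, transpose_mul, hNt, mul_neg, neg_neg]
    · rw [transpose_neg, hNt, neg_neg]
    · rw [transpose_neg, hNt, neg_neg]
  have hPΩ : Pᵀ * Ω = fromBlocks (G + Tᵀ) (-Tᵀ) 1 (-1) := by
    rw [hPt, hΩ, fromBlocks_multiply]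
    congr 1
    · rw [mul_zero, add_zero, add_mul, one_mul, mul_assoc, hNG, mul_one]
    · rw [mul_zero, zero_add, mul_neg, mul_assoc, hNG, mul_one]
    · rw [mul_zero, add_zero, hNG]
    · rw [mul_zero, zero_add, mul_neg, hNG]
  have hJ : Pᵀ * Ω * P = J n R := by
    rw [hPΩ, hP, fromBlocks_multiply, J]
    congr 1
    · have e1 : (G + Tᵀ) * (1 - N * T) + -Tᵀ * -(N * T) = G - (G * N) * T + Tᵀ := by
        noncomm_ring
      rw [e1, hGN, one_mul, hG]
      abel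
    · have e1 : (G + Tᵀ) * -N + -Tᵀ * -N = -(G * N) := by noncomm_ring
      rw [e1, hGN]
    · noncomm_ring
    · noncomm_ring
  set 𝔸 : Matrix (n ⊕ n) (n ⊕ n) R := fromBlocks A 0 0 1 with h𝔸
  have h𝔸Ω : 𝔸ᵀ * Ω * 𝔸 = Ω := by
    rw [h𝔸, hΩ, fromBlocks_transpose, fromBlocks_multiply, fromBlocks_multiply]
    simp [hA]
  have hdetJ : IsUnit (J n R).det := isUnit_det_J n R
  have hdetP : IsUnit P.det := by
    rw [← hJ, det_mul, det_mul] at hdetJ
    exact isUnit_of_mul_isUnit_right hdetJ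
  have hPP : P * P⁻¹ = 1 := Matrix.mul_nonsing_inv P hdetP
  have hPP' : P⁻¹ * P = 1 := Matrix.nonsing_inv_mul P hdetP
  set 𝔸' := P⁻¹ * 𝔸 * P with h𝔸'
  have hmem : 𝔸' ∈ symplecticGroup n R := by
    rw [SymplecticGroup.mem_iff']
    have ht : (P⁻¹)ᵀ * Pᵀ = 1 := by rw [← transpose_mul, hPP, transpose_one]
    calc 𝔸'ᵀ * J n R * 𝔸'
        = Pᵀ * 𝔸ᵀ * ((P⁻¹)ᵀ * Pᵀ) * Ω * (P * P⁻¹) * 𝔸 * P := by
          rw [h𝔸', ← hJ, transpose_mul, transpose_mul]
          simp only [Matrix.mul_assoc]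
      _ = Pᵀ * (𝔸ᵀ * Ω * 𝔸) * P := by
          rw [ht, hPP]
          simp only [Matrix.mul_assoc, Matrix.mul_one, Matrix.one_mul]
      _ = J n R := by rw [h𝔸Ω, hJ]
  have hdet := SymplecticGroup.det_eq_one hmem
  have h1 : 𝔸'.det = 𝔸.det := by
    rw [h𝔸', det_mul, det_mul, mul_comm, ← mul_assoc, ← det_mul, hPP, det_one, one_mul]
  have h2 : 𝔸.det = A.det := by
    rw [h𝔸, det_fromBlocks_zero₂₁, det_one, mul_one]
  rw [← h2, ← h1, hdet]

end Groth.Agent.H2.AltDet
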