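import Mathlib

/-!
# Bounded complexes of injectives and Ext-vanishing
-/

universe w v u

open CategoryTheory CategoryTheory.Limits

namespace Groth.Agent.H2.BInj

variable {A : Type u} [Category.{v} A] [Abelian A]

/-- the map from the cycles in degree `i`, as a single complex, to `K` -/
noncomputable def zMap (K : CochainComplex A ℤ) (i : ℤ) :
    (HomologicalComplex.single A (ComplexShape.up ℤ) i).obj (K.cycles i) ⟶ K :=
  HomologicalComplex.mkHomFromSingle (K.iCycles i) (by intro k hk; simp)

lemma zMap_f (K : CochainComplex A ℤ) (i : ℤ) :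
    (zMap K i).f i = (HomologicalComplex.singleObjXSelf (ComplexShape.up ℤ) i _).hom ≫
      K.iCycles i := by
  simp [zMap]

instance (K : CochainComplex A ℤ) (i : ℤ) :
    Epi (HomologicalComplex.homologyMap (zMap K i) i) := by
  set S := (HomologicalComplex.single A (ComplexShape.up ℤ) i).obj (K.cycles i)
  have h := HomologicalComplex.homologyπ_naturality (zMap K i) i
  have h1 : IsIso (HomologicalComplex.cyclesMap (zMap K i) i) := by
    have : HomologicalComplex.cyclesMap (zMap K i) i =
        S.iCycles i ≫ (HomologicalComplex.singleObjXSelf (ComplexShape.up ℤ) i _).hom := by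
      rw [← cancel_mono (K.iCycles i), HomologicalComplex.cyclesMap_i, zMap_f, Category.assoc]
    rw [this]
    have : IsIso (S.iCycles i) := by
      apply ShortComplex.isIso_iCycles
      simp [S]
      rfl
    infer_instance
  have h2 : Epi (S.homologyπ i ≫ HomologicalComplex.homologyMap (zMap K i) i) := by
    rw [h]
    infer_instance
  exact epi_of_epi (S.homologyπ i) _

section Split

variable (J : CochainComplex A ℤ) (i : ℤ) (s : J.cycles i ⟶ J.X (i - 1))
  (hs : s ≫ J.d (i - 1) i = J.iCycles i)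

include hs

lemma section_toCycles : s ≫ J.toCycles (i - 1) i = 𝟙 _ := by
  rw [← cancel_mono (J.iCycles i), Category.assoc, HomologicalComplex.toCycles_i, hs,
    Category.id_comp]

lemma injective_cycles_of_section [Injective (J.X (i - 1))] : Injective (J.cycles i) :=
  Retract.injective (Y := J.X (i - 1))
    { i := s, r := J.toCycles (i - 1) i, retract := section_toCycles J i s hs }

lemma injective_cycles_pred_of_section [Injective (J.X (i - 1))] :
    Injective (J.cycles (i - 1)) := by
  have hrel : (ComplexShape.up ℤ).next (i - 1) = i := by simp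
  refine Retract.injective (Y := J.X (i - 1))
    { i := J.iCycles (i - 1)
      r := J.liftCycles (𝟙 _ - J.toCycles (i - 1) i ≫ s) i hrel (by
        rw [Preadditive.sub_comp, Category.id_comp, Category.assoc, hs,
          HomologicalComplex.toCycles_i, sub_self])
      retract := ?_ }
  rw [← cancel_mono (J.iCycles (i - 1)), Category.assoc, HomologicalComplex.liftCycles_i,
    Preadditive.comp_sub, Category.comp_id, Category.id_comp]
  have : J.iCycles (i - 1) ≫ J.toCycles (i - 1) i = 0 := by
    rw [← cancel_mono (J.iCycles i), Category.assoc, HomologicalComplex.toCycles_i,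
      HomologicalComplex.iCycles_d, zero_comp]
  rw [reassoc_of% this, zero_comp, sub_zero]

end Split

variable [HasDerivedCategory.{w} A]

/-- vanishing of `Hom(F[0], X[i])` gives vanishing of `Hom(F[-i], X)` -/
lemma eq_zero_of_shift {X : DerivedCategory A} (i : ℤ) (F : A)
    (h : ∀ φ : (DerivedCategory.singleFunctor A 0).obj F ⟶ X⟦i⟧, φ = 0)
    (ψ : (DerivedCategory.singleFunctor A i).obj F ⟶ X) : ψ = 0 := by
  let e := ((DerivedCategory.singleFunctors A).shiftIso i 0 i (by simp)).app F
  have h1 := h (e.inv ≫ ψ⟦i⟧')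
  have h2 : ψ⟦i⟧' = 0 := by
    rw [← cancel_epi e.inv, h1, comp_zero]
  apply (shiftFunctor (DerivedCategory A) i).map_injective
  rw [h2, Functor.map_zero]

lemma Q_map_zMap_eq_zero (K : CochainComplex A ℤ) (i : ℤ)
    (h : ∀ (F : A) (φ : (DerivedCategory.singleFunctor A 0).obj F ⟶
      (DerivedCategory.Q.obj K)⟦i⟧), φ = 0) :
    DerivedCategory.Q.map (zMap K i) = 0 :=
  eq_zero_of_shift i _ (h _) (DerivedCategory.Q.map (zMap K i))

lemma isZero_homology_of_vanishing (K : CochainComplex A ℤ) (i : ℤ)
    (h : ∀ (F : A) (φ : (DerivedCategory.singleFunctor A 0).obj F ⟶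
      (DerivedCategory.Q.obj K)⟦i⟧), φ = 0) :
    IsZero (K.homology i) := by
  have h0 := Q_map_zMap_eq_zero K i h
  have h1 : HomologicalComplex.homologyMap (zMap K i) i = 0 := by
    have := NatIso.naturality_1 (DerivedCategory.homologyFunctorFactors A i) (zMap K i)
    change _ ≫ (DerivedCategory.homologyFunctor A i).map
      (DerivedCategory.Q.map (zMap K i)) ≫ _ = _ at this
    rw [h0, Functor.map_zero, zero_comp, comp_zero] at this
    exact this.symm
  rw [IsZero.iff_id_eq_zero, ← cancel_epi (HomologicalComplex.homologyMap (zMap K i) i),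
    h1, zero_comp, comp_zero]

lemma homotopy_zero_of_Q_map_eq_zero {K J : CochainComplex A ℤ} [J.IsKInjective]
    (f : K ⟶ J) (hf : DerivedCategory.Q.map f = 0) : Nonempty (Homotopy f 0) := by
  have h1 : DerivedCategory.Qh.map ((HomotopyCategory.quotient A (ComplexShape.up ℤ)).map f) =
      DerivedCategory.Qh.map ((HomotopyCategory.quotient A (ComplexShape.up ℤ)).map 0) := by
    have := NatIso.naturality_2 (DerivedCategory.quotientCompQhIso A) f
    rw [hf, zero_comp, comp_zero] at this
    dsimp at this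
    rw [← this, Functor.map_zero, Functor.map_zero]
  have h2 := (CochainComplex.IsKInjective.Qh_map_bijective
    ((HomotopyCategory.quotient A (ComplexShape.up ℤ)).obj K) J).1 h1
  exact ⟨HomotopyCategory.homotopyOfEq _ _ h2⟩

lemma exists_section_of_vanishing (J : CochainComplex A ℤ) [J.IsKInjective] (i : ℤ)
    (h : ∀ (F : A) (φ : (DerivedCategory.singleFunctor A 0).obj F ⟶
      (DerivedCategory.Q.obj J)⟦i⟧), φ = 0) :
    ∃ s : J.cycles i ⟶ J.X (i - 1), s ≫ J.d (i - 1) i = J.iCycles i := by
  obtain ⟨H⟩ := homotopy_zero_of_Q_map_eq_zero (zMap J i) (Q_map_zMap_eq_zero J i h)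
  refine ⟨(HomologicalComplex.singleObjXSelf (ComplexShape.up ℤ) i _).inv ≫ H.hom i (i - 1), ?_⟩
  have := H.comm i
  rw [zMap_f] at this
  rw [← cancel_epi (HomologicalComplex.singleObjXSelf (ComplexShape.up ℤ) i _).hom, this,
    prevD_eq H.hom (show (ComplexShape.up ℤ).Rel (i - 1) i by simp)]
  simp [dNext]

/-- the hypothesis: `Hom(F[0], X[i]) = 0` for all `F` -/
def Vanish (X : DerivedCategory A) (i : ℤ) : Prop :=
  ∀ (F : A) (φ : (DerivedCategory.singleFunctor A 0).obj F ⟶ X⟦i⟧), φ = 0

lemma Vanish.of_iso {X Y : DerivedCategory A} (e : X ≅ Y) {i : ℤ} (h : Vanish X i) :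
    Vanish Y i := by
  intro F φ
  have := h F (φ ≫ e.inv⟦i⟧')
  rw [← cancel_mono (e.inv⟦i⟧'), this, zero_comp]

lemma isLE_of_vanish (J : CochainComplex A ℤ) (b : ℤ)
    (h : ∀ i, b < i → Vanish (DerivedCategory.Q.obj J) i) : J.IsLE b := by
  rw [CochainComplex.isLE_iff]
  intro i hi
  rw [HomologicalComplex.exactAt_iff_isZero_homology]
  exact isZero_homology_of_vanishing J i (h i hi)

lemma isGE_of_vanish (J : CochainComplex A ℤ) (a : ℤ)
    (h : ∀ i, i < a → Vanish (DerivedCategory.Q.obj J) i) : J.IsGE a := by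
  rw [CochainComplex.isGE_iff]
  intro i hi
  rw [HomologicalComplex.exactAt_iff_isZero_homology]
  exact isZero_homology_of_vanishing J i (h i hi)

lemma injective_truncLE_X (J : CochainComplex A ℤ) (a : ℤ) [J.IsStrictlyGE a]
    [∀ n, Injective (J.X n)] (b : ℤ)
    (h : ∀ i, b < i → Vanish (DerivedCategory.Q.obj J) i) (n : ℤ) :
    Injective ((J.truncLE b).X n) := by
  have : J.IsKInjective := CochainComplex.isKInjective_of_injective J a
  obtain hn | rfl | hn := lt_trichotomy n b
  · exact Injective.of_iso (J.truncLEXIso b n hn).symm inferInstance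
  · obtain ⟨s, hs⟩ := exists_section_of_vanishing J (n + 1) (h _ (by omega))
    have e : n + 1 - 1 = n := by omega
    have : Injective (J.cycles (n + 1 - 1)) := injective_cycles_pred_of_section J (n + 1) s hs
    rw [e] at this
    exact Injective.of_iso (J.truncLEXIsoCycles n).symm this
  · exact ((J.truncLE b).isZero_of_isStrictlyLE b n hn).injective

lemma exists_Q_map_eq {K J : CochainComplex A ℤ} [J.IsKInjective]
    (φ : DerivedCategory.Q.obj K ⟶ DerivedCategory.Q.obj J) :
    ∃ g : K ⟶ J, DerivedCategory.Q.map g = φ := by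
  obtain ⟨g', hg'⟩ := (CochainComplex.IsKInjective.Qh_map_bijective
    ((HomotopyCategory.quotient A (ComplexShape.up ℤ)).obj K) J).2
    ((DerivedCategory.quotientCompQhIso A).hom.app K ≫ φ ≫
      (DerivedCategory.quotientCompQhIso A).inv.app J)
  obtain ⟨g, rfl⟩ := (HomotopyCategory.quotient A (ComplexShape.up ℤ)).map_surjective g'
  refine ⟨g, ?_⟩
  have := NatIso.naturality_1 (DerivedCategory.quotientCompQhIso A) g
  dsimp at this
  rw [← this, hg']
  simp

lemma vanish_of_isZero (I : CochainComplex A ℤ) (a : ℤ) [I.IsStrictlyGE a]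
    [∀ n, Injective (I.X n)] (i : ℤ) (hi : IsZero (I.X i)) :
    Vanish (DerivedCategory.Q.obj I) i := by
  intro F φ
  have : I.IsKInjective := CochainComplex.isKInjective_of_injective I a
  let e := (DerivedCategory.Q.commShiftIso i).app I
  obtain ⟨g, hg⟩ := exists_Q_map_eq (K := (HomologicalComplex.single A (ComplexShape.up ℤ) 0).obj F)
    (J := I⟦i⟧) (φ ≫ e.inv)
  have hg0 : g = 0 := by
    apply HomologicalComplex.from_single_hom_ext
    apply IsZero.eq_of_tgt
    exact IsZero.of_iso hi (I.shiftFunctorObjXIso i 0 i (by simp))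
  rw [← cancel_mono e.inv, zero_comp]
  refine hg.symm.trans ?_
  rw [hg0, Functor.map_zero]
  rfl

/-- resolve an object of `D^{≥ a}` by a complex of injectives in degrees `≥ a` -/
lemma exists_injective_rep [EnoughInjectives A] (X : DerivedCategory A) (a : ℤ) [X.IsGE a] :
    ∃ (L : CochainComplex A ℤ) (_ : L.IsStrictlyGE a) (_ : ∀ n, Injective (L.X n)),
      Nonempty (DerivedCategory.Q.obj L ≅ X) := by
  obtain ⟨K, _, ⟨e⟩⟩ := DerivedCategory.exists_iso_Q_obj_of_isGE X a
  obtain ⟨L, i, hi, hL, hL'⟩ :=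
    CochainComplex.Plus.modelCategoryQuillen.exists_quasiIso_injective K a
  have : IsIso (DerivedCategory.Q.map i) := by
    rw [DerivedCategory.isIso_Q_map_iff_quasiIso]
    exact hi
  exact ⟨L, hL', hL, ⟨(asIso (DerivedCategory.Q.map i)).symm ≪≫ e.symm⟩⟩

theorem amplitude_iff [EnoughInjectives A] (X : DerivedCategory A) (a b : ℤ) (hab : a ≤ b) :
    (∀ i, (i < a ∨ b < i) → Vanish X i) ↔
      ∃ I : CochainComplex A ℤ, (∀ i, Injective (I.X i)) ∧
        (∀ i, (i < a ∨ b < i) → IsZero (I.X i)) ∧
        Nonempty (DerivedCategory.Q.obj I ≅ X) := by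
  constructor
  · intro h
    have e0 := DerivedCategory.Q.objObjPreimageIso X
    have h1 : (DerivedCategory.Q.objPreimage X).IsGE a :=
      isGE_of_vanish _ a (fun i hi => (h i (Or.inl hi)).of_iso e0.symm)
    have h2 : (DerivedCategory.Q.obj (DerivedCategory.Q.objPreimage X)).IsGE a := by
      rw [DerivedCategory.isGE_Q_obj_iff]
      exact h1
    have : X.IsGE a := DerivedCategory.TStructure.t.isGE_of_iso e0 a
    obtain ⟨L, hL, hLinj, ⟨e⟩⟩ := exists_injective_rep X a
    have hv : ∀ i, b < i → Vanish (DerivedCategory.Q.obj L) i :=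
      fun i hi => (h i (Or.inr hi)).of_iso e.symm
    have hLE : L.IsLE b := isLE_of_vanish L b hv
    have hq : QuasiIso (L.ιTruncLE b) := (L.quasiIso_ιTruncLE_iff b).2 hLE
    have : IsIso (DerivedCategory.Q.map (L.ιTruncLE b)) := by
      rw [DerivedCategory.isIso_Q_map_iff_quasiIso]
      exact hq
    refine ⟨L.truncLE b, fun n => injective_truncLE_X L a b hv n, ?_,
      ⟨asIso (DerivedCategory.Q.map (L.ιTruncLE b)) ≪≫ e⟩⟩
    rintro i (hi | hi)
    · exact IsZero.of_iso (L.isZero_of_isStrictlyGE a i hi) (L.truncLEXIso b i (by omega))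
    · exact (L.truncLE b).isZero_of_isStrictlyLE b i hi
  · rintro ⟨I, hI, hz, ⟨e⟩⟩ i hi
    have : I.IsStrictlyGE a := by
      rw [CochainComplex.isStrictlyGE_iff]
      intro j hj
      exact hz j (Or.inl hj)
    exact (vanish_of_isZero I a i (hz i hi)).of_iso e

theorem exists_bounded_injective_iff [EnoughInjectives A] (K : CochainComplex A ℤ) (a : ℤ)
    [K.IsStrictlyGE a] :
    (∃ (I : CochainComplex A ℤ) (b c : ℤ) (f : K ⟶ I), I.IsStrictlyGE b ∧ I.IsStrictlyLE c ∧
        (∀ n : ℤ, Injective (I.X n)) ∧ QuasiIso f) ↔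
      ∃ n₀ : ℤ, ∀ i : ℤ, n₀ < i → Vanish (DerivedCategory.Q.obj K) i := by
  constructor
  · rintro ⟨I, b, c, f, hb, hc, hI, hf⟩
    refine ⟨c, fun i hi => ?_⟩
    have : IsIso (DerivedCategory.Q.map f) := by
      rw [DerivedCategory.isIso_Q_map_iff_quasiIso]
      exact hf
    exact (vanish_of_isZero I b i (I.isZero_of_isStrictlyLE c i hi)).of_iso
      (asIso (DerivedCategory.Q.map f)).symm
  · rintro ⟨n₀, h⟩
    have : (DerivedCategory.Q.obj K).IsGE a := by
      rw [DerivedCategory.isGE_Q_obj_iff]
      infer_instance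
    obtain ⟨L, hL, hLinj, ⟨e⟩⟩ := exists_injective_rep (DerivedCategory.Q.obj K) a
    let b := max n₀ a
    have hv : ∀ i, b < i → Vanish (DerivedCategory.Q.obj L) i :=
      fun i hi => (h i (lt_of_le_of_lt (le_max_left _ _) hi)).of_iso e.symm
    have hLE : L.IsLE b := isLE_of_vanish L b hv
    have hq : QuasiIso (L.ιTruncLE b) := (L.quasiIso_ιTruncLE_iff b).2 hLE
    have : IsIso (DerivedCategory.Q.map (L.ιTruncLE b)) := by
      rw [DerivedCategory.isIso_Q_map_iff_quasiIso]
      exact hq
    have hinj : ∀ n, Injective ((L.truncLE b).X n) := fun n => injective_truncLE_X L a b hv n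
    have hGE : (L.truncLE b).IsStrictlyGE a := by
      rw [CochainComplex.isStrictlyGE_iff]
      intro i hi
      have : a ≤ b := le_max_right _ _
      exact IsZero.of_iso (L.isZero_of_isStrictlyGE a i hi) (L.truncLEXIso b i (by omega))
    have : (L.truncLE b).IsKInjective := CochainComplex.isKInjective_of_injective _ a
    obtain ⟨f, hf⟩ := exists_Q_map_eq (K := K) (J := L.truncLE b)
      (e.inv ≫ inv (DerivedCategory.Q.map (L.ιTruncLE b)))
    refine ⟨L.truncLE b, a, b, f, hGE, inferInstance, hinj, ?_⟩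
    rw [← DerivedCategory.isIso_Q_map_iff_quasiIso, hf]
    infer_instance

end Groth.Agent.H2.BInj
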