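import Groth.Agent.Lib.Helper2.BInj1

/-!
# Bounded complexes of injectives: closure under extensions in `D(A)`
-/

universe w v u

open CategoryTheory CategoryTheory.Limits CategoryTheory.Pretriangulated

namespace Groth.Agent.H2.BInj

variable {A : Type u} [Category.{v} A] [Abelian A] [HasDerivedCategory.{w} A]

lemma Vanish.of_triangle (T : Triangle (DerivedCategory A)) (hT : T ∈ distTriang (DerivedCategory A))
    (i : ℤ) (h₁ : Vanish T.obj₁ i) (h₃ : Vanish T.obj₃ i) : Vanish T.obj₂ i := by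
  intro F φ
  have hT' := Triangle.shift_distinguished T hT i
  have h0 : φ ≫ ((Triangle.shiftFunctor (DerivedCategory A) i).obj T).mor₂ = 0 := h₃ F _
  obtain ⟨ψ, hψ⟩ := Triangle.coyoneda_exact₂ _ hT' φ h0
  have hψ0 : ψ = 0 := h₁ F ψ
  rw [hψ, hψ0]
  exact zero_comp

theorem exists_bounded_injective_of_triangle [EnoughInjectives A]
    (T : Triangle (DerivedCategory A)) (hT : T ∈ distTriang (DerivedCategory A))
    (h₁ : (∃ (I : CochainComplex A ℤ) (b c : ℤ), I.IsStrictlyGE b ∧ I.IsStrictlyLE c ∧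
        (∀ n : ℤ, Injective (I.X n)) ∧ Nonempty (T.obj₁ ≅ DerivedCategory.Q.obj I)))
    (h₃ : (∃ (I : CochainComplex A ℤ) (b c : ℤ), I.IsStrictlyGE b ∧ I.IsStrictlyLE c ∧
        (∀ n : ℤ, Injective (I.X n)) ∧ Nonempty (T.obj₃ ≅ DerivedCategory.Q.obj I))) :
    (∃ (I : CochainComplex A ℤ) (b c : ℤ), I.IsStrictlyGE b ∧ I.IsStrictlyLE c ∧
        (∀ n : ℤ, Injective (I.X n)) ∧ Nonempty (T.obj₂ ≅ DerivedCategory.Q.obj I)) := by
  obtain ⟨I₁, b₁, c₁, hb₁, hc₁, hI₁, ⟨e₁⟩⟩ := h₁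
  obtain ⟨I₃, b₃, c₃, hb₃, hc₃, hI₃, ⟨e₃⟩⟩ := h₃
  have hv : ∀ i, (i < min b₁ b₃ ∨ max (max c₁ c₃) (min b₁ b₃) < i) → Vanish T.obj₂ i := by
    intro i hi
    apply Vanish.of_triangle T hT i
    · apply Vanish.of_iso e₁.symm
      apply vanish_of_isZero I₁ b₁ i
      rcases hi with hi | hi
      · exact I₁.isZero_of_isStrictlyGE b₁ i (lt_of_lt_of_le hi (min_le_left _ _))
      · exact I₁.isZero_of_isStrictlyLE c₁ i
          (lt_of_le_of_lt ((le_max_left _ _).trans (le_max_left _ _)) hi)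
    · apply Vanish.of_iso e₃.symm
      apply vanish_of_isZero I₃ b₃ i
      rcases hi with hi | hi
      · exact I₃.isZero_of_isStrictlyGE b₃ i (lt_of_lt_of_le hi (min_le_right _ _))
      · exact I₃.isZero_of_isStrictlyLE c₃ i
          (lt_of_le_of_lt ((le_max_right _ _).trans (le_max_left _ _)) hi)
  obtain ⟨I, hI, hz, ⟨e⟩⟩ := (amplitude_iff T.obj₂ (min b₁ b₃) (max (max c₁ c₃) (min b₁ b₃))
    (le_max_right _ _)).1 hv
  refine ⟨I, min b₁ b₃, max (max c₁ c₃) (min b₁ b₃), ?_, ?_, hI, ⟨e.symm⟩⟩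
  · rw [CochainComplex.isStrictlyGE_iff]
    intro i hi
    exact hz i (Or.inl hi)
  · rw [CochainComplex.isStrictlyLE_iff]
    intro i hi
    exact hz i (Or.inr hi)

end Groth.Agent.H2.BInj
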