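import Groth.Agent.Lib.Helper2.BLGlueAlg

/-!
# Beauville–Laszlo: glueing algebras (`glueAlgMu_bijective`, `glueAlg_isGlueable`,
`exists_glueAlg_loc`)
-/

namespace Groth.Agent.H2.BL
open TensorProduct
universe u
variable {R R' : Type u} [CommRing R] [CommRing R'] [Algebra R R'] {f : R}
variable {A₁ : Type u} [CommRing A₁] [Algebra R A₁]
variable {A' : Type u} [CommRing A'] [Algebra R A'] [Algebra R' A'] [IsScalarTower R R' A']
variable (φ : Localization.Away (algebraMap R A' f) ≃ₐ[R'] R' ⊗[R] A₁)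

theorem bijective_smul_of_isUnit (h₁ : IsUnit (algebraMap R A₁ f)) :
    Function.Bijective fun x : A₁ => f • x := by
  obtain ⟨u, hu⟩ := h₁
  have : (fun x : A₁ => f • x) = fun x => (u : A₁) * x := by
    ext x; rw [Algebra.smul_def, hu]
  rw [this]
  exact (Units.mulLeft u).bijective

/-- The comparison algebra map `R' ⊗ glueAlg → A'`. -/
noncomputable def glueAlgMu : R' ⊗[R] glueAlg φ →ₐ[R'] A' :=
  Algebra.TensorProduct.lift (Algebra.ofId R' A') (glueAlgFst φ) (fun _ _ => Commute.all _ _)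

theorem glueAlgMu_tmul (r' : R') (a : glueAlg φ) :
    glueAlgMu φ (r' ⊗ₜ[R] a) = r' • glueAlgFst φ a := by
  rw [glueAlgMu, Algebra.TensorProduct.lift_tmul, Algebra.smul_def]
  rfl

theorem glueAlgMu_eq (w : R' ⊗[R] glueAlg φ) :
    glueAlgMu φ w = glueMu (alphaOf φ) ((glueAlgEquiv φ).lTensor R' w) := by
  induction w using TensorProduct.induction_on with
  | zero => simp
  | tmul r' a =>
    rw [glueAlgMu_tmul, LinearEquiv.lTensor_tmul, glueMu_tmul]
    rfl
  | add a b ha hb => rw [map_add, map_add, map_add, ha, hb]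

theorem glueAlgMu_bijective (hRR : EtGlue.IsGlueingPair R R' f)
    (h₁ : IsUnit (algebraMap R A₁ f)) : Function.Bijective (glueAlgMu φ) := by
  have hq := hRR.1
  have hsurj := ((isGlueingPair_iff hq).1 hRR).2
  have hf := bijective_smul_of_isUnit h₁
  have : (glueAlgMu φ : R' ⊗[R] glueAlg φ → A') =
      (glueMu (alphaOf φ)) ∘ ((glueAlgEquiv φ).lTensor R') := by
    ext w; exact glueAlgMu_eq φ w
  rw [this]
  exact Function.Bijective.comp
    ⟨glueMu_injective (alphaOf φ) hq hsurj hf, glueMu_surjective (alphaOf φ) hq⟩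
    ((glueAlgEquiv φ).lTensor R').bijective

theorem glueAlg_isGlueable (hRR : EtGlue.IsGlueingPair R R' f)
    (h₁ : IsUnit (algebraMap R A₁ f)) : EtGlue.IsGlueable R R' f (glueAlg φ) := by
  have hq := hRR.1
  have hsurj := ((isGlueingPair_iff hq).1 hRR).2
  have hf := bijective_smul_of_isUnit h₁
  rw [isGlueable_iff (glueAlg φ) hq]
  refine ⟨fun m hm h1 => ?_, fun x hx => torsion_surjective (glueAlg φ) hq hsurj x hx⟩
  have h2 : glueAlgFst φ m = 0 := by
    have := congrArg (glueAlgMu φ) h1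
    rwa [glueAlgMu_tmul, one_smul, map_zero] at this
  obtain ⟨n, hn⟩ := hm
  have h3 : glueAlgSnd φ m = 0 := by
    have := congrArg (glueAlgSnd φ) hn
    rw [map_smul, map_zero] at this
    apply (bijective_pow_smul (R := R) (M₁ := A₁) (f := f) hf n).1
    simp only [smul_zero]
    exact this
  exact Subtype.ext (Prod.ext h2 h3)

theorem exists_glueAlg_loc (h₁ : IsUnit (algebraMap R A₁ f)) :
    ∃ e₁ : Localization.Away (algebraMap R (glueAlg φ) f) ≃ₐ[R] A₁,
      ∀ a : glueAlg φ, e₁ (algebraMap (glueAlg φ) (Localization.Away (algebraMap R (glueAlg φ) f)) a) =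
        glueAlgSnd φ a := by
  have hf := bijective_smul_of_isUnit h₁
  let : Algebra (glueAlg φ) A₁ := (glueAlgSnd φ).toRingHom.toAlgebra
  have : IsScalarTower R (glueAlg φ) A₁ :=
    IsScalarTower.of_algebraMap_eq (fun r => ((glueAlgSnd φ).commutes r).symm)
  have inst1 := glueSnd_isLocalizedModule (alphaOf φ) hf
  have h2 : (IsScalarTower.toAlgHom R (glueAlg φ) A₁).toLinearMap =
      (glueSnd (alphaOf φ)) ∘ₗ (glueAlgEquiv φ).toLinearMap := by
    ext a; rfl
  have inst2 : IsLocalizedModule (Submonoid.powers f)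
      (IsScalarTower.toAlgHom R (glueAlg φ) A₁).toLinearMap := by
    rw [h2]
    exact IsLocalizedModule.of_linearEquiv_right (Submonoid.powers f) (glueSnd (alphaOf φ))
      (glueAlgEquiv φ)
  rw [isLocalizedModule_iff_isLocalization] at inst2
  have h3 : Algebra.algebraMapSubmonoid (glueAlg φ) (Submonoid.powers f) =
      Submonoid.powers (algebraMap R (glueAlg φ) f) := by
    rw [Algebra.algebraMapSubmonoid, Submonoid.map_powers]
  rw [h3] at inst2
  refine ⟨(IsLocalization.algEquiv (Submonoid.powers (algebraMap R (glueAlg φ) f))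
    (Localization.Away (algebraMap R (glueAlg φ) f)) A₁).restrictScalars R, fun a => ?_⟩
  rw [AlgEquiv.restrictScalars_apply, AlgEquiv.commutes]
  rfl

end Groth.Agent.H2.BL
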