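import Groth.Agent.Lib.Helper2.BLSurj

/-!
# Beauville–Laszlo: finite type descends (`finiteType_of_finiteType`)
-/

namespace Groth.Agent.H2.BL
open TensorProduct
universe u
variable {R R' : Type u} [CommRing R] [CommRing R'] [Algebra R R'] {f : R}

/-- Finite type descends along a Beauville–Laszlo pair: if `A → B_f` is of finite type and
`R' ⊗ A → R' ⊗ B` is of finite type then so is `A → B`. -/
theorem finiteType_of_finiteType (hq : EtGlue.QuotPowBijective R R' f) {A B : Type u} [CommRing A]
    [CommRing B] [Algebra R A] [Algebra R B] [Algebra A B] [IsScalarTower R A B]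
    (Bf : Type u) [CommRing Bf] [Algebra B Bf] (g : B) (hg : g = algebraMap R B f)
    [IsLocalization.Away g Bf]
    (h1 : ((algebraMap B Bf).comp (algebraMap A B)).FiniteType)
    (h2 : (Algebra.TensorProduct.map (AlgHom.id R R')
      (IsScalarTower.toAlgHom R A B)).toRingHom.FiniteType) :
    Algebra.FiniteType A B := by
  classical
  -- Step 1
  let : Algebra A Bf := ((algebraMap B Bf).comp (algebraMap A B)).toAlgebra
  have : IsScalarTower A B Bf := IsScalarTower.of_algebraMap_eq (fun _ => rfl)
  obtain ⟨s, hs⟩ := (show Algebra.FiniteType A Bf from h1).out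
  set T₁ := IsLocalization.finsetIntegerMultiple (Submonoid.powers g) s with hT₁
  have key1 : ∀ C : Subalgebra A B, (T₁ : Set B) ⊆ C → g ∈ C → ∀ b : B, ∃ n : ℕ, g ^ n * b ∈ C := by
    intro C hC hgC b
    obtain ⟨⟨_, n, rfl⟩, hm⟩ := IsLocalization.exists_smul_mem_of_mem_adjoin (Submonoid.powers g) b s C
      hC (by rw [Submonoid.powers_le]; exact hgC) (by rw [hs]; trivial)
    exact ⟨n, hm⟩
  -- Step 2
  let algT : Algebra (R' ⊗[R] A) (R' ⊗[R] B) := (Algebra.TensorProduct.map (AlgHom.id R R')
      (IsScalarTower.toAlgHom R A B)).toRingHom.toAlgebra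
  obtain ⟨s₂, hs₂⟩ := (show Algebra.FiniteType (R' ⊗[R] A) (R' ⊗[R] B) from h2).out
  choose F hF using fun x : R' ⊗[R] B => TensorProduct.exists_finset x
  set T₂ : Finset B := s₂.biUnion (fun x => (F x).image Prod.snd) with hT₂
  have key2 : ∀ C : Subalgebra A B, (T₂ : Set B) ⊆ C →
      Function.Surjective ((C.restrictScalars R).val.toLinearMap.lTensor R') := by
    intro C hC
    set L := Algebra.TensorProduct.map (AlgHom.id R R') (C.restrictScalars R).val with hL
    have hLl : ∀ x, (C.restrictScalars R).val.toLinearMap.lTensor R' x = L x := by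
      intro x
      induction x using TensorProduct.induction_on with
      | zero => simp
      | tmul a b => simp [hL]
      | add a b ha hb => rw [map_add, map_add, ha, hb]
    have hall : ∀ x : R' ⊗[R] B, x ∈ L.range := by
      intro x
      have hx : x ∈ Algebra.adjoin (R' ⊗[R] A) (s₂ : Set (R' ⊗[R] B)) := by rw [hs₂]; trivial
      induction hx using Algebra.adjoin_induction with
      | mem x hx =>
        rw [hF x]
        apply Subalgebra.sum_mem
        intro i hi
        have : i.2 ∈ C := hC (by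
          rw [hT₂, Finset.mem_coe, Finset.mem_biUnion]
          exact ⟨x, hx, Finset.mem_image_of_mem _ hi⟩)
        exact ⟨i.1 ⊗ₜ ⟨i.2, this⟩, by simp [hL]⟩
      | algebraMap y =>
        change Algebra.TensorProduct.map (AlgHom.id R R') (IsScalarTower.toAlgHom R A B) y ∈ L.range
        induction y using TensorProduct.induction_on with
        | zero => simp
        | tmul a b =>
          exact ⟨a ⊗ₜ ⟨algebraMap A B b, C.algebraMap_mem b⟩, by simp [hL]⟩
        | add a b ha hb => rw [map_add]; exact Subalgebra.add_mem _ ha hb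
      | add x y _ _ hx hy => exact Subalgebra.add_mem _ hx hy
      | mul x y _ _ hx hy => exact Subalgebra.mul_mem _ hx hy
    intro x
    obtain ⟨y, hy⟩ := hall x
    exact ⟨y, by rw [hLl]; exact hy⟩
  -- Step 3
  set T : Finset B := T₁ ∪ {g} ∪ T₂ with hT
  set C := Algebra.adjoin A (T : Set B) with hC
  have hT₁C : (T₁ : Set B) ⊆ C := fun x hx => Algebra.subset_adjoin (by
    rw [hT, Finset.mem_coe, Finset.mem_union, Finset.mem_union]; exact Or.inl (Or.inl hx))
  have hgC : g ∈ C := Algebra.subset_adjoin (by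
    rw [hT, Finset.mem_coe, Finset.mem_union, Finset.mem_union]
    exact Or.inl (Or.inr (Finset.mem_singleton_self g)))
  have hT₂C : (T₂ : Set B) ⊆ C := fun x hx => Algebra.subset_adjoin (by
    rw [hT, Finset.mem_coe, Finset.mem_union]; exact Or.inr hx)
  have hsurj := surjective_of_lTensor_surjective hq (C.restrictScalars R).val.toLinearMap
    (fun b => by
      obtain ⟨n, hn⟩ := key1 C hT₁C hgC b
      refine ⟨n, ⟨⟨g ^ n * b, hn⟩, ?_⟩⟩
      rw [Algebra.smul_def, map_pow, ← hg]
      rfl) (key2 C hT₂C)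
  refine ⟨⟨T, eq_top_iff.2 fun b _ => ?_⟩⟩
  obtain ⟨c, rfl⟩ := hsurj b
  exact c.2

/-- Base change of a finite type algebra map along `R → R'`, as a `RingHom.FiniteType` statement
for `Algebra.TensorProduct.map`. -/
theorem finiteType_tensor_map {A B : Type u} [CommRing A] [CommRing B] [Algebra R A] [Algebra R B]
    [Algebra A B] [IsScalarTower R A B] [h : Algebra.FiniteType A B] :
    (Algebra.TensorProduct.map (AlgHom.id R R')
      (IsScalarTower.toAlgHom R A B)).toRingHom.FiniteType := by
  classical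
  obtain ⟨s, hs⟩ := h.out
  let algT : Algebra (R' ⊗[R] A) (R' ⊗[R] B) := (Algebra.TensorProduct.map (AlgHom.id R R')
      (IsScalarTower.toAlgHom R A B)).toRingHom.toAlgebra
  change Algebra.FiniteType (R' ⊗[R] A) (R' ⊗[R] B)
  have halg : ∀ y : R' ⊗[R] A, algebraMap (R' ⊗[R] A) (R' ⊗[R] B) y =
      Algebra.TensorProduct.map (AlgHom.id R R') (IsScalarTower.toAlgHom R A B) y := fun _ => rfl
  refine ⟨⟨s.image (fun b => (1 : R') ⊗ₜ[R] b), eq_top_iff.2 fun x _ => ?_⟩⟩
  have h1 : ∀ b : B, (1 : R') ⊗ₜ[R] b ∈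
      Algebra.adjoin (R' ⊗[R] A) (↑(s.image (fun b => (1 : R') ⊗ₜ[R] b)) : Set (R' ⊗[R] B)) := by
    intro b
    have hb : b ∈ Algebra.adjoin A (s : Set B) := by rw [hs]; trivial
    induction hb using Algebra.adjoin_induction with
    | mem x hx =>
      exact Algebra.subset_adjoin (Finset.mem_coe.2 (Finset.mem_image_of_mem _ hx))
    | algebraMap a =>
      have : (1 : R') ⊗ₜ[R] (algebraMap A B a) =
          algebraMap (R' ⊗[R] A) (R' ⊗[R] B) ((1 : R') ⊗ₜ[R] a) := by
        rw [halg]; simp
      rw [this]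
      exact Subalgebra.algebraMap_mem _ _
    | add x y _ _ hx hy => rw [tmul_add]; exact Subalgebra.add_mem _ hx hy
    | mul x y _ _ hx hy =>
      have : (1 : R') ⊗ₜ[R] (x * y) = ((1 : R') ⊗ₜ[R] x) * ((1 : R') ⊗ₜ[R] y) := by simp
      rw [this]; exact Subalgebra.mul_mem _ hx hy
  induction x using TensorProduct.induction_on with
  | zero => exact Subalgebra.zero_mem _
  | tmul a b =>
    have : a ⊗ₜ[R] b = algebraMap (R' ⊗[R] A) (R' ⊗[R] B) (a ⊗ₜ[R] 1) * ((1 : R') ⊗ₜ[R] b) := by
      rw [halg]; simp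
    rw [this]
    exact Subalgebra.mul_mem _ (Subalgebra.algebraMap_mem _ _) (h1 b)
  | add x y hx hy => exact Subalgebra.add_mem _ (hx trivial) (hy trivial)

end Groth.Agent.H2.BL
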