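import Groth.Agent.Lib.Helper2.BLAlgPrep
import Groth.Agent.Lib.Helper2.BLFiniteType

/-!
# Beauville–Laszlo for algebras: flat + finitely presented and formally unramified descend
-/

namespace Groth.Agent.H2.BL
open TensorProduct
universe u
variable {R R' : Type u} [CommRing R] [CommRing R'] [Algebra R R'] {f : R}

/-- Flat + finitely presented descends along a glueing pair, for algebras over the base ring. -/
theorem flat_fp_of_flat_fp (hRR : EtGlue.IsGlueingPair R R' f) (B : Type u) [CommRing B]
    [Algebra R B] [Algebra.FiniteType R B]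
    [Module.Flat R' (R' ⊗[R] B)] [Algebra.FinitePresentation R' (R' ⊗[R] B)]
    [Module.Flat (Localization.Away f) (Localization.Away f ⊗[R] B)]
    [Algebra.FinitePresentation (Localization.Away f) (Localization.Away f ⊗[R] B)] :
    Module.Flat R B ∧ Algebra.FinitePresentation R B := by
  have hq := hRR.1
  have : Module.Flat (Localization.Away f) (LocalizedModule (Submonoid.powers f) B) :=
    Module.Flat.of_linearEquiv (LocalizedModule.equivTensorProduct (Submonoid.powers f) B)
  have hflat : Module.Flat R B := flat_of_flat hRR B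
  refine ⟨hflat, ?_⟩
  obtain ⟨n, π, hπ⟩ := Algebra.FiniteType.iff_quotient_mvPolynomial''.1
    (inferInstance : Algebra.FiniteType R B)
  obtain ⟨S₁, hS₁, h1⟩ := exists_finset_lTensor_surjective R' π hπ
  obtain ⟨S₂, hS₂, h2⟩ := exists_finset_lTensor_surjective (Localization.Away f) π hπ
  classical
  set J₀ : Ideal (MvPolynomial (Fin n) R) := Ideal.span ((S₁ ∪ S₂ : Finset _) : Set _) with hJ₀
  have h₀ : J₀ ≤ RingHom.ker π.toRingHom := by
    rw [hJ₀, Ideal.span_le, Finset.coe_union]
    exact Set.union_subset hS₁ hS₂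
  have hS₁' : (S₁ : Set (MvPolynomial (Fin n) R)) ⊆ J₀ := fun x hx =>
    Ideal.subset_span (by rw [Finset.coe_union]; exact Or.inl hx)
  have hS₂' : (S₂ : Set (MvPolynomial (Fin n) R)) ⊆ J₀ := fun x hx =>
    Ideal.subset_span (by rw [Finset.coe_union]; exact Or.inr hx)
  have hsurj := surjective_of_lTensor_surjective hq
    (Submodule.inclusion (show J₀.restrictScalars R ≤
      (RingHom.ker π.toRingHom).restrictScalars R from h₀))
    (exists_pow_smul_mem_range_of_lTensor_surjective f _ (h2 J₀ h₀ hS₂'))
    (h1 J₀ h₀ hS₁')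
  have hJ : RingHom.ker π.toRingHom = J₀ := by
    apply le_antisymm _ h₀
    intro x hx
    obtain ⟨y, hy⟩ := hsurj ⟨x, hx⟩
    have : (y : MvPolynomial (Fin n) R) = x := congrArg Subtype.val hy
    rw [← this]
    exact y.2
  exact Algebra.FinitePresentation.of_surjective hπ (by rw [hJ]; exact ⟨_, rfl⟩)

/-- Formally unramified descends along a pair with bijective quotients. -/
theorem formallyUnramified_of (hq : EtGlue.QuotPowBijective R R' f) (B : Type u) [CommRing B]
    [Algebra R B] [Algebra.FormallyUnramified R' (R' ⊗[R] B)]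
    [Algebra.FormallyUnramified (Localization.Away f) (Localization.Away f ⊗[R] B)] :
    Algebra.FormallyUnramified R B := by
  constructor
  let _ : Algebra B (R' ⊗[R] B) := Algebra.TensorProduct.rightAlgebra
  let _ : Algebra B (Localization.Away f ⊗[R] B) := Algebra.TensorProduct.rightAlgebra
  have h1 : Subsingleton (R' ⊗[R] Ω[B⁄R]) :=
    (KaehlerDifferential.tensorKaehlerEquivBase R R' B (R' ⊗[R] B)).subsingleton
  have h2 : Subsingleton (Localization.Away f ⊗[R] Ω[B⁄R]) :=
    (KaehlerDifferential.tensorKaehlerEquivBase R (Localization.Away f) B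
      (Localization.Away f ⊗[R] B)).subsingleton
  apply subsingleton_of_torsion_of_tensor hq _ h1
  intro ω
  have h4 : LocalizedModule.mkLinearMap (Submonoid.powers f) (Ω[B⁄R]) ω = 0 := by
    apply (LocalizedModule.equivTensorProduct (Submonoid.powers f) (Ω[B⁄R])).injective
    exact Subsingleton.elim _ _
  exact (mkLinearMap_eq_zero_iff _ _).1 h4

end Groth.Agent.H2.BL
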