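import Groth.Agent.Lib.Helper2.BLProj

/-!
# Beauville–Laszlo for algebras: preparations

* `quotPowBijective_tensor`, `isGlueingPair_tensor`: base change of the pair to a glueable algebra.
* `tensorAlg`, `tensorEquiv`: `R' ⊗_R B ≃ (R' ⊗_R A) ⊗_A B` as `R' ⊗_R A`-algebras, with transfer
  lemmas for flatness and finite presentation.
* `awayAlg`, `awayTensorEquiv`: `B_g ≃ A_g ⊗_A B` as `A_g`-algebras.
* `exists_finset_lTensor_surjective`: key lemma for descent of finite presentation.
* `exists_pow_smul_mem_range_of_lTensor_surjective`.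
-/

namespace Groth.Agent.H2.BL
open TensorProduct
universe u

attribute [local instance] Algebra.TensorProduct.rightAlgebra

section pair
variable {R R' : Type u} [CommRing R] [CommRing R'] [Algebra R R'] {f : R}

section pairA
variable (A : Type u) [CommRing A] [Algebra R A]

theorem smul_eq_algebraMap_mul' (n : ℕ) (y : R' ⊗[R] A) :
    algebraMap A (R' ⊗[R] A) (algebraMap R A f) ^ n * y = f ^ n • y := by
  rw [← map_pow, ← map_pow, ← IsScalarTower.algebraMap_apply R A (R' ⊗[R] A), ← Algebra.smul_def]

/-- Base change of the condition `QuotPowBijective` to an `R`-algebra `A`. -/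
theorem quotPowBijective_tensor (hq : EtGlue.QuotPowBijective R R' f) :
    EtGlue.QuotPowBijective A (R' ⊗[R] A) (algebraMap R A f) := by
  intro n hn
  constructor
  · rw [injective_iff_map_eq_zero]
    intro x hx
    obtain ⟨a, rfl⟩ := Ideal.Quotient.mk_surjective x
    rw [Ideal.quotientMap_mk, Ideal.Quotient.eq_zero_iff_mem, Ideal.map_span, Set.image_singleton,
      Ideal.mem_span_singleton'] at hx
    obtain ⟨y, hy⟩ := hx
    rw [map_pow, mul_comm, smul_eq_algebraMap_mul', Algebra.TensorProduct.right_algebraMap_apply]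
      at hy
    obtain ⟨a₂, ha₂⟩ := exists_smul_of_tmul_eq A hq n a y hy.symm
    rw [Ideal.Quotient.eq_zero_iff_mem, Ideal.mem_span_singleton']
    exact ⟨a₂, by rw [ha₂, Algebra.smul_def, map_pow, mul_comm]⟩
  · intro y
    obtain ⟨y, rfl⟩ := Ideal.Quotient.mk_surjective y
    obtain ⟨a, y₁, rfl⟩ := exists_tmul_approx A hq n y
    refine ⟨Ideal.Quotient.mk _ a, ?_⟩
    rw [Ideal.quotientMap_mk, Ideal.Quotient.eq, Ideal.map_span, Set.image_singleton,
      Ideal.mem_span_singleton']
    refine ⟨-y₁, ?_⟩
    rw [map_pow, mul_comm, smul_eq_algebraMap_mul', Algebra.TensorProduct.right_algebraMap_apply,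
      smul_neg]
    abel

/-- If `A` is glueable then `(A → R' ⊗ A, f)` is a glueing pair. -/
theorem isGlueingPair_tensor (hq : EtGlue.QuotPowBijective R R' f)
    (hA : EtGlue.IsGlueable R R' f A) :
    EtGlue.IsGlueingPair A (R' ⊗[R] A) (algebraMap R A f) := by
  rw [isGlueingPair_iff (quotPowBijective_tensor A hq)]
  obtain ⟨h1, h2⟩ := (isGlueable_iff A hq).1 hA
  constructor
  · rintro x ⟨n, hn⟩ hx
    rw [Algebra.TensorProduct.right_algebraMap_apply] at hx
    exact h1 x ⟨n, by rw [Algebra.smul_def, map_pow, hn]⟩ hx
  · rintro y ⟨n, hn⟩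
    rw [smul_eq_algebraMap_mul'] at hn
    obtain ⟨a, ⟨k, hk⟩, ha⟩ := h2 y ⟨n, hn⟩
    refine ⟨a, ⟨k, ?_⟩, ?_⟩
    · rw [← hk, Algebra.smul_def, map_pow]
    · rw [Algebra.TensorProduct.right_algebraMap_apply, ha]

end pairA

end pair

section transfer0
variable (R : Type u) (R' : Type u) [CommRing R] [CommRing R'] [Algebra R R']

section transfer
variable (A B : Type u) [CommRing A] [CommRing B] [Algebra R A] [Algebra R B] [Algebra A B]
  [IsScalarTower R A B]

/-- The `R' ⊗ A`-algebra structure on `R' ⊗ B`. -/
noncomputable abbrev tensorAlg : Algebra (R' ⊗[R] A) (R' ⊗[R] B) :=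
  (Algebra.TensorProduct.map (AlgHom.id R R') (IsScalarTower.toAlgHom R A B)).toRingHom.toAlgebra

/-- `R' ⊗_R B ≃ (R' ⊗_R A) ⊗_A B` as `R' ⊗_R A`-algebras. -/
noncomputable def tensorEquiv :
    letI := tensorAlg R R' A B
    R' ⊗[R] B ≃ₐ[R' ⊗[R] A] (R' ⊗[R] A) ⊗[A] B :=
  letI := tensorAlg R R' A B
  { __ := (Algebra.IsPushout.cancelBaseChangeAlg R R' A (R' ⊗[R] A) B).symm,
    commutes' x := congr($(Algebra.IsPushout.cancelBaseChange_symm_comp_lTensor R A B R') x) }

variable {R R' A B}

theorem flat_tensor_of_ringHom_flat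
    (h : (Algebra.TensorProduct.map (AlgHom.id R R') (IsScalarTower.toAlgHom R A B)).toRingHom.Flat) :
    Module.Flat (R' ⊗[R] A) ((R' ⊗[R] A) ⊗[A] B) := by
  letI := tensorAlg R R' A B
  have h' : Module.Flat (R' ⊗[R] A) (R' ⊗[R] B) := h
  exact Module.Flat.of_linearEquiv (tensorEquiv R R' A B).symm.toLinearEquiv

theorem ringHom_flat_of_flat [Module.Flat A B] :
    (Algebra.TensorProduct.map (AlgHom.id R R') (IsScalarTower.toAlgHom R A B)).toRingHom.Flat := by
  letI := tensorAlg R R' A B
  change Module.Flat (R' ⊗[R] A) (R' ⊗[R] B)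
  exact Module.Flat.of_linearEquiv (tensorEquiv R R' A B).toLinearEquiv

theorem fp_tensor_of_ringHom_fp
    (h : (Algebra.TensorProduct.map (AlgHom.id R R')
      (IsScalarTower.toAlgHom R A B)).toRingHom.FinitePresentation) :
    Algebra.FinitePresentation (R' ⊗[R] A) ((R' ⊗[R] A) ⊗[A] B) := by
  letI := tensorAlg R R' A B
  have h' : Algebra.FinitePresentation (R' ⊗[R] A) (R' ⊗[R] B) := h
  exact Algebra.FinitePresentation.equiv (tensorEquiv R R' A B)

theorem ringHom_fp_of_fp [Algebra.FinitePresentation A B] :
    (Algebra.TensorProduct.map (AlgHom.id R R')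
      (IsScalarTower.toAlgHom R A B)).toRingHom.FinitePresentation := by
  letI := tensorAlg R R' A B
  change Algebra.FinitePresentation (R' ⊗[R] A) (R' ⊗[R] B)
  exact Algebra.FinitePresentation.equiv (tensorEquiv R R' A B).symm

end transfer

end transfer0

section away
variable (A B : Type u) [CommRing A] [CommRing B] [Algebra A B] (g : A)

/-- The `A_g`-algebra structure on `B_g` given by `Localization.awayMap`. -/
noncomputable abbrev awayAlg :
    Algebra (Localization.Away g) (Localization.Away (algebraMap A B g)) :=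
  (Localization.awayMap (algebraMap A B) g).toAlgebra

theorem isLocalization_away_map :
    IsLocalization (Algebra.algebraMapSubmonoid B (Submonoid.powers g))
      (Localization.Away (algebraMap A B g)) := by
  have : Algebra.algebraMapSubmonoid B (Submonoid.powers g) =
      Submonoid.powers (algebraMap A B g) := by
    rw [Algebra.algebraMapSubmonoid, Submonoid.map_powers]
  rw [this]; infer_instance

/-- `B_g ≃ A_g ⊗_A B` as `A_g`-algebras. -/
noncomputable def awayTensorEquiv :
    letI := awayAlg A B g
    Localization.Away (algebraMap A B g) ≃ₐ[Localization.Away g] Localization.Away g ⊗[A] B :=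
  letI := awayAlg A B g
  haveI := isLocalization_away_map A B g
  let e₀ : Localization.Away (algebraMap A B g) ≃ₐ[B]
      Localization (Algebra.algebraMapSubmonoid B (Submonoid.powers g)) :=
    IsLocalization.algEquiv (Algebra.algebraMapSubmonoid B (Submonoid.powers g)) _ _
  let e₁ : Localization.Away (algebraMap A B g) ≃ₐ[Localization.Away g]
      Localization (Algebra.algebraMapSubmonoid B (Submonoid.powers g)) :=
    { __ := e₀.toRingEquiv
      commutes' := by
        intro x
        have : (e₀.toRingEquiv.toRingHom.comp (algebraMap (Localization.Away g)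
            (Localization.Away (algebraMap A B g)))) =
            algebraMap (Localization.Away g)
              (Localization (Algebra.algebraMapSubmonoid B (Submonoid.powers g))) := by
          apply IsLocalization.ringHom_ext (Submonoid.powers g)
          ext a
          simp only [RingHom.coe_comp, Function.comp_apply]
          rw [RingHom.algebraMap_toAlgebra, Localization.awayMap, IsLocalization.Away.map,
            IsLocalization.map_eq]
          simp only [RingEquiv.toRingHom_eq_coe, AlgEquiv.toRingEquiv_toRingHom, RingHom.coe_coe,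
            AlgEquiv.commutes]
          rw [← IsScalarTower.algebraMap_apply, ← IsScalarTower.algebraMap_apply]
        exact congrArg (fun h => h x) this }
  e₁.trans (Localization.tensorRightAlgEquiv (Submonoid.powers g) B).symm

end away

section fpk
variable {A : Type u} [CommRing A] (C : Type u) [CommRing C] [Algebra A C]
variable {P B : Type u} [CommRing P] [CommRing B] [Algebra A P] [Algebra A B]

/-- Key lemma for descent of finite presentation: if `B = P/J` is flat over `A` and `C ⊗ B` is
finitely presented over `C`, then finitely many elements of `J` generate `C ⊗ J`. -/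
theorem exists_finset_lTensor_surjective [Module.Flat A B] [Algebra.FinitePresentation A P]
    [Algebra.FinitePresentation C (C ⊗[A] B)] (π : P →ₐ[A] B) (hπ : Function.Surjective π) :
    ∃ S : Finset P, (S : Set P) ⊆ RingHom.ker π.toRingHom ∧
      ∀ (J₀ : Ideal P) (h₀ : J₀ ≤ RingHom.ker π.toRingHom), (S : Set P) ⊆ J₀ →
        Function.Surjective ((Submodule.inclusion
          (show J₀.restrictScalars A ≤ (RingHom.ker π.toRingHom).restrictScalars A from h₀)).lTensor C) := by
  classical
  set J := RingHom.ker π.toRingHom with hJ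
  set ι : J.restrictScalars A →ₗ[A] P := (J.restrictScalars A).subtype with hι
  have hex : Function.Exact ι π.toLinearMap := by
    intro x
    constructor
    · intro hx
      exact ⟨⟨x, hx⟩, rfl⟩
    · rintro ⟨y, rfl⟩
      exact y.2
  have hinj : Function.Injective (ι.lTensor C) :=
    LinearMap.lTensor_injective_of_exact_of_flat π.toLinearMap hπ ι (Submodule.subtype_injective _)
      hex C
  have hex' := lTensor_exact C hex hπ
  set π'' := Algebra.TensorProduct.map (AlgHom.id C C) π with hπ''
  have hπl : ∀ x, π.toLinearMap.lTensor C x = π'' x := by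
    intro x
    induction x using TensorProduct.induction_on with
    | zero => simp
    | tmul a b => simp [hπ'']
    | add a b ha hb => rw [map_add, map_add, ha, hb]
  have hπ''s : Function.Surjective π'' := by
    intro y
    obtain ⟨x, hx⟩ := LinearMap.lTensor_surjective C (g := π.toLinearMap) hπ y
    exact ⟨x, by rw [← hπl, hx]⟩
  obtain ⟨G, hG⟩ := Algebra.FinitePresentation.ker_fG_of_surjective π'' hπ''s
  -- each generator comes from `C ⊗ J`
  have hGmem : ∀ g ∈ G, ∃ w : C ⊗[A] (J.restrictScalars A), ι.lTensor C w = g := by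
    intro g hg
    have : g ∈ RingHom.ker π''.toRingHom := by rw [← hG]; exact Ideal.subset_span hg
    have h0 : π.toLinearMap.lTensor C g = 0 := by rw [hπl]; exact this
    exact (hex' g).1 h0
  choose! w hw using hGmem
  choose F hF using fun x : C ⊗[A] (J.restrictScalars A) => TensorProduct.exists_finset x
  refine ⟨G.biUnion (fun g => (F (w g)).image (fun i => (i.2 : P))), ?_, ?_⟩
  · intro x hx
    rw [Finset.mem_coe, Finset.mem_biUnion] at hx
    obtain ⟨g, -, hx⟩ := hx
    rw [Finset.mem_image] at hx
    obtain ⟨i, -, rfl⟩ := hx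
    exact i.2.2
  · intro J₀ h₀ hS
    set ι₀ := Submodule.inclusion
      (show J₀.restrictScalars A ≤ J.restrictScalars A from h₀) with hι₀
    -- the image of `C ⊗ J₀` in `C ⊗ P` is an ideal containing `G`
    let T : Ideal (C ⊗[A] P) :=
      { carrier := Set.range ((ι ∘ₗ ι₀).lTensor C)
        add_mem' := by
          rintro _ _ ⟨a, rfl⟩ ⟨b, rfl⟩
          exact ⟨a + b, map_add _ _ _⟩
        zero_mem' := ⟨0, map_zero _⟩
        smul_mem' := by
          rintro r _ ⟨a, rfl⟩
          induction r using TensorProduct.induction_on with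
          | zero => exact ⟨0, by simp⟩
          | tmul c p =>
            induction a using TensorProduct.induction_on with
            | zero => exact ⟨0, by simp⟩
            | tmul c' j =>
              refine ⟨(c * c') ⊗ₜ ⟨p * j.1, J₀.mul_mem_left p j.2⟩, ?_⟩
              simp only [LinearMap.lTensor_tmul, smul_eq_mul, Algebra.TensorProduct.tmul_mul_tmul]
              rfl
            | add a b ha hb =>
              obtain ⟨a', ha'⟩ := ha
              obtain ⟨b', hb'⟩ := hb
              exact ⟨a' + b', by rw [map_add, map_add, smul_add, ha', hb']⟩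
          | add r s hr hs =>
            obtain ⟨a', ha'⟩ := hr
            obtain ⟨b', hb'⟩ := hs
            exact ⟨a' + b', by rw [map_add, add_smul, ha', hb']⟩ }
    have hGT : (G : Set (C ⊗[A] P)) ⊆ T := by
      intro g hg
      change g ∈ Set.range ((ι ∘ₗ ι₀).lTensor C)
      rw [← hw g hg, hF (w g), map_sum]
      have : ∀ i ∈ F (w g), ι.lTensor C (i.1 ⊗ₜ[A] i.2) ∈ T := by
        intro i hi
        have hi2 : (i.2 : P) ∈ J₀ := hS (by
          rw [Finset.mem_coe, Finset.mem_biUnion]
          exact ⟨g, hg, Finset.mem_image_of_mem _ hi⟩)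
        exact ⟨i.1 ⊗ₜ ⟨i.2.1, hi2⟩, rfl⟩
      exact T.sum_mem this
    have hker : RingHom.ker π''.toRingHom ≤ T := by
      rw [← hG]; exact Ideal.span_le.2 hGT
    intro x
    have hx : ι.lTensor C x ∈ RingHom.ker π''.toRingHom := by
      change π'' (ι.lTensor C x) = 0
      rw [← hπl]
      exact (hex' _).2 ⟨x, rfl⟩
    obtain ⟨x₀, hx₀⟩ := hker hx
    refine ⟨x₀, hinj ?_⟩
    rw [← hx₀, LinearMap.lTensor_comp, LinearMap.comp_apply]

end fpk

section loc
variable {A : Type u} [CommRing A] (g : A)
variable {N₀ N : Type u} [AddCommGroup N₀] [AddCommGroup N] [Module A N₀] [Module A N]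

/-- If `A_g ⊗ N₀ → A_g ⊗ N` is surjective then `N / N₀` is `g`-power torsion. -/
theorem exists_pow_smul_mem_range_of_lTensor_surjective (i : N₀ →ₗ[A] N)
    (h : Function.Surjective (i.lTensor (Localization.Away g))) (n : N) :
    ∃ k : ℕ, g ^ k • n ∈ LinearMap.range i := by
  have h3 : Subsingleton (Localization.Away g ⊗[A] (N ⧸ LinearMap.range i)) := by
    refine ⟨fun a b => ?_⟩
    have key : ∀ a : Localization.Away g ⊗[A] (N ⧸ LinearMap.range i), a = 0 := by
      intro a
      obtain ⟨a, rfl⟩ := LinearMap.lTensor_surjective (Localization.Away g)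
        (LinearMap.range i).mkQ_surjective a
      obtain ⟨a, rfl⟩ := h a
      rw [← LinearMap.comp_apply, ← LinearMap.lTensor_comp, LinearMap.range_mkQ_comp,
        LinearMap.lTensor_zero, LinearMap.zero_apply]
    rw [key a, key b]
  have h4 : LocalizedModule.mkLinearMap (Submonoid.powers g) (N ⧸ LinearMap.range i)
      (Submodule.Quotient.mk n) = 0 := by
    apply (LocalizedModule.equivTensorProduct (Submonoid.powers g)
      (N ⧸ LinearMap.range i)).injective
    exact Subsingleton.elim _ _
  rw [mkLinearMap_eq_zero_iff] at h4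
  obtain ⟨k, hk⟩ := h4
  refine ⟨k, ?_⟩
  rwa [← Submodule.Quotient.mk_smul, Submodule.Quotient.mk_eq_zero] at hk

end loc

end Groth.Agent.H2.BL
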