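import Mathlib
import Groth.Prelude.Def_EtGlue

/-!
# Beauville–Laszlo: basic facts for `EtGlue.QuotPowBijective`

Setting: `R → R'`, `f : R`, with `R/f^n → R'/f^n R'` bijective for all `n > 0`.
* `exists_approx`: `R' = φ(R) + f^n R'`; `exists_eq_mul_of_algebraMap_eq`: `φ(r) ∈ f^n R' → r ∈ f^n R`.
* `exists_smul_of_tmul_eq`: `1 ⊗ m ∈ f^n (R' ⊗ M) → m ∈ f^n M`; `exists_tmul_approx`.
* For `f`-power torsion `M`: `sigma : R' ⊗ M → M` retraction, `tmul_injective_of_torsion`,
  `tmul_surjective_of_torsion`.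
-/

namespace Groth.Agent.H2.BL
open TensorProduct
universe u
variable {R R' : Type u} [CommRing R] [CommRing R'] [Algebra R R'] {f : R}

theorem exists_approx (hq : EtGlue.QuotPowBijective R R' f) (n : ℕ) (r' : R') :
    ∃ (r : R) (s : R'), r' = algebraMap R R' r + algebraMap R R' f ^ n * s := by
  rcases Nat.eq_zero_or_pos n with rfl | hn
  · exact ⟨0, r', by simp⟩
  · obtain ⟨q, hq'⟩ := (hq n hn).2 (Ideal.Quotient.mk _ r')
    obtain ⟨r, rfl⟩ := Ideal.Quotient.mk_surjective q
    rw [Ideal.quotientMap_mk, Ideal.Quotient.eq, Ideal.map_span, Set.image_singleton, map_pow,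
      Ideal.mem_span_singleton'] at hq'
    obtain ⟨a, ha⟩ := hq'
    refine ⟨r, -a, ?_⟩
    linear_combination ha

theorem exists_eq_mul_of_algebraMap_eq (hq : EtGlue.QuotPowBijective R R' f) (n : ℕ) (r : R) (s : R')
    (h : algebraMap R R' r = algebraMap R R' f ^ n * s) : ∃ t, r = f ^ n * t := by
  rcases Nat.eq_zero_or_pos n with rfl | hn
  · exact ⟨r, by simp⟩
  · have h1 : Ideal.quotientMap (Ideal.map (algebraMap R R') (Ideal.span {f ^ n})) (algebraMap R R')
        Ideal.le_comap_map (Ideal.Quotient.mk _ r) = 0 := by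
      rw [Ideal.quotientMap_mk, Ideal.Quotient.eq_zero_iff_mem, Ideal.map_span, Set.image_singleton,
        map_pow, Ideal.mem_span_singleton']
      exact ⟨s, by rw [h, mul_comm]⟩
    have h2 := (hq n hn).1 (h1.trans (map_zero _).symm)
    rw [Ideal.Quotient.eq_zero_iff_mem, Ideal.mem_span_singleton'] at h2
    obtain ⟨a, ha⟩ := h2
    exact ⟨a, by rw [← ha, mul_comm]⟩

/-- The `R`-linear retraction `R' → R/f^n` (for `n > 0`). -/
noncomputable def piN (hq : EtGlue.QuotPowBijective R R' f) (n : ℕ) (hn : 0 < n) :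
    R' →ₗ[R] R ⧸ Ideal.span {f ^ n} :=
  { toFun := fun r' => (RingEquiv.ofBijective _ (hq n hn)).symm (Ideal.Quotient.mk _ r')
    map_add' := fun a b => by simp
    map_smul' := fun a b => by
      simp only [RingHom.id_apply, Algebra.smul_def, map_mul]
      congr 1
      rw [RingEquiv.symm_apply_eq]
      simp [Ideal.quotientMap_mk] }

theorem piN_one (hq : EtGlue.QuotPowBijective R R' f) (n : ℕ) (hn : 0 < n) :
    piN hq n hn 1 = 1 := by
  simp [piN]

variable (M : Type u) [AddCommGroup M] [Module R M]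

theorem exists_smul_of_tmul_eq (hq : EtGlue.QuotPowBijective R R' f) (n : ℕ) (m : M)
    (x : R' ⊗[R] M) (h : (1 : R') ⊗ₜ[R] m = f ^ n • x) : ∃ m₂ : M, m = f ^ n • m₂ := by
  rcases Nat.eq_zero_or_pos n with rfl | hn
  · exact ⟨m, by simp⟩
  · have h1 := congrArg (fun y => TensorProduct.quotTensorEquivQuotSMul M (Ideal.span {f ^ n})
      ((piN hq n hn).rTensor M y)) h
    simp only [LinearMap.rTensor_tmul, piN_one, map_smul,
      TensorProduct.quotTensorEquivQuotSMul_mk_one_tmul] at h1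
    have h2 : ∀ z : M ⧸ (Ideal.span {f ^ n} • ⊤ : Submodule R M), f ^ n • z = 0 := by
      intro z
      obtain ⟨z, rfl⟩ := Submodule.Quotient.mk_surjective _ z
      rw [← Submodule.Quotient.mk_smul, Submodule.Quotient.mk_eq_zero]
      exact Submodule.smul_mem_smul (Ideal.mem_span_singleton_self _) trivial
    rw [h2, Submodule.Quotient.mk_eq_zero, Submodule.ideal_span_singleton_smul] at h1
    obtain ⟨m₂, -, hm₂⟩ := h1
    exact ⟨m₂, hm₂.symm⟩

theorem exists_tmul_approx (hq : EtGlue.QuotPowBijective R R' f) (n : ℕ) (x : R' ⊗[R] M) :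
    ∃ (m : M) (x₁ : R' ⊗[R] M), x = (1 : R') ⊗ₜ[R] m + f ^ n • x₁ := by
  induction x using TensorProduct.induction_on with
  | zero => exact ⟨0, 0, by simp⟩
  | tmul r' m =>
    obtain ⟨r, s, hrs⟩ := exists_approx hq n r'
    refine ⟨r • m, s ⊗ₜ m, ?_⟩
    rw [hrs, add_tmul, TensorProduct.smul_tmul', ← TensorProduct.smul_tmul, Algebra.smul_def, mul_one,
      Algebra.smul_def, map_pow]
  | add x y hx hy =>
    obtain ⟨m, x₁, rfl⟩ := hx
    obtain ⟨m', y₁, rfl⟩ := hy
    exact ⟨m + m', x₁ + y₁, by rw [tmul_add, smul_add]; abel⟩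

section torsion

variable {M}
variable (hq : EtGlue.QuotPowBijective R R' f) (hM : ∀ m : M, ∃ n : ℕ, f ^ n • m = 0)

/-- The action of `R'` on an `f`-power torsion module. -/
noncomputable def act (r' : R') (m : M) : M :=
  (exists_approx hq (hM m).choose r').choose • m

include hq in
theorem act_eq (r' : R') (m : M) (n : ℕ) (hn : f ^ n • m = 0) (r : R) (s : R')
    (h : r' = algebraMap R R' r + algebraMap R R' f ^ n * s) : act hq hM r' m = r • m := by
  unfold act
  set n₀ := (hM m).choose with hn₀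
  have h0 : f ^ n₀ • m = 0 := (hM m).choose_spec
  set r₀ := (exists_approx hq n₀ r').choose with hr₀
  obtain ⟨s₀, hs₀⟩ := (exists_approx hq n₀ r').choose_spec
  rw [← hr₀] at hs₀
  -- wlog compare at min
  set k := min n n₀ with hk
  have hkm : f ^ k • m = 0 := by
    rcases min_choice n n₀ with h' | h' <;> rw [hk, h'] <;> assumption
  have h3 : algebraMap R R' (r₀ - r) = algebraMap R R' f ^ k *
      (algebraMap R R' f ^ (n - k) * s - algebraMap R R' f ^ (n₀ - k) * s₀) := by
    have e1 : algebraMap R R' f ^ n = algebraMap R R' f ^ k * algebraMap R R' f ^ (n - k) := by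
      rw [← pow_add]; congr 1; omega
    have e2 : algebraMap R R' f ^ n₀ = algebraMap R R' f ^ k * algebraMap R R' f ^ (n₀ - k) := by
      rw [← pow_add]; congr 1; omega
    rw [map_sub]
    have : algebraMap R R' r₀ - algebraMap R R' r =
        algebraMap R R' f ^ n * s - algebraMap R R' f ^ n₀ * s₀ := by
      linear_combination h - hs₀
    rw [this, e1, e2]; ring
  obtain ⟨t, ht⟩ := exists_eq_mul_of_algebraMap_eq hq k _ _ h3
  have : r₀ • m - r • m = 0 := by
    rw [← sub_smul, ht, mul_comm, mul_smul, hkm, smul_zero]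
  exact sub_eq_zero.mp this

/-- The retraction `R' ⊗ M → M` for `f`-power torsion `M`. -/
noncomputable def sigma : R' ⊗[R] M →ₗ[R] M :=
  TensorProduct.lift
    (LinearMap.mk₂ R (act hq hM)
      (fun a b m => by
        obtain ⟨n, hn⟩ := hM m
        obtain ⟨r₁, s₁, h₁⟩ := exists_approx hq n a
        obtain ⟨r₂, s₂, h₂⟩ := exists_approx hq n b
        rw [act_eq hq hM a m n hn r₁ s₁ h₁, act_eq hq hM b m n hn r₂ s₂ h₂,
          act_eq hq hM (a + b) m n hn (r₁ + r₂) (s₁ + s₂) (by rw [h₁, h₂, map_add]; ring), add_smul])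
      (fun c a m => by
        obtain ⟨n, hn⟩ := hM m
        obtain ⟨r₁, s₁, h₁⟩ := exists_approx hq n a
        rw [act_eq hq hM a m n hn r₁ s₁ h₁,
          act_eq hq hM (c • a) m n hn (c * r₁) (algebraMap R R' c * s₁)
            (by rw [h₁, Algebra.smul_def, map_mul]; ring), mul_smul])
      (fun a m₁ m₂ => by
        obtain ⟨n₁, hn₁⟩ := hM m₁
        obtain ⟨n₂, hn₂⟩ := hM m₂
        have k1 : f ^ (n₁ + n₂) • m₁ = 0 := by rw [pow_add, mul_comm, mul_smul, hn₁, smul_zero]
        have k2 : f ^ (n₁ + n₂) • m₂ = 0 := by rw [pow_add, mul_smul, hn₂, smul_zero]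
        have k3 : f ^ (n₁ + n₂) • (m₁ + m₂) = 0 := by rw [smul_add, k1, k2, add_zero]
        obtain ⟨r₁, s₁, h₁⟩ := exists_approx hq (n₁ + n₂) a
        rw [act_eq hq hM a m₁ _ k1 r₁ s₁ h₁, act_eq hq hM a m₂ _ k2 r₁ s₁ h₁,
          act_eq hq hM a (m₁ + m₂) _ k3 r₁ s₁ h₁, smul_add])
      (fun c a m => by
        obtain ⟨n, hn⟩ := hM m
        have k1 : f ^ n • (c • m) = 0 := by rw [smul_comm, hn, smul_zero]
        obtain ⟨r₁, s₁, h₁⟩ := exists_approx hq n a
        rw [act_eq hq hM a m n hn r₁ s₁ h₁, act_eq hq hM a (c • m) n k1 r₁ s₁ h₁, smul_comm]))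

theorem sigma_one_tmul (m : M) : sigma hq hM ((1 : R') ⊗ₜ[R] m) = m := by
  obtain ⟨n, hn⟩ := hM m
  simp only [sigma, TensorProduct.lift.tmul, LinearMap.mk₂_apply]
  rw [act_eq hq hM 1 m n hn 1 0 (by simp), one_smul]

include hq hM in
theorem tmul_injective_of_torsion : Function.Injective (fun m : M => (1 : R') ⊗ₜ[R] m) := by
  intro a b h
  have := congrArg (sigma hq hM) h
  simpa only [sigma_one_tmul] using this

include hq hM in
theorem tmul_surjective_of_torsion : Function.Surjective (fun m : M => (1 : R') ⊗ₜ[R] m) := by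
  intro x
  induction x using TensorProduct.induction_on with
  | zero => exact ⟨0, by simp⟩
  | tmul r' m =>
    obtain ⟨n, hn⟩ := hM m
    obtain ⟨r, s, hrs⟩ := exists_approx hq n r'
    refine ⟨r • m, ?_⟩
    have : (algebraMap R R' f ^ n * s) ⊗ₜ[R] m = 0 := by
      rw [← map_pow, ← Algebra.smul_def, TensorProduct.smul_tmul, hn, tmul_zero]
    simp only
    rw [hrs, add_tmul, this, add_zero, ← mul_one (algebraMap R R' r), ← Algebra.smul_def,
      TensorProduct.smul_tmul]
  | add x y hx hy =>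
    obtain ⟨m, rfl⟩ := hx
    obtain ⟨m', rfl⟩ := hy
    exact ⟨m + m', tmul_add _ _ _⟩

include hq hM in
theorem subsingleton_of_torsion_of_tensor (h : Subsingleton (R' ⊗[R] M)) : Subsingleton M :=
  (tmul_injective_of_torsion hq hM).subsingleton

end torsion

end Groth.Agent.H2.BL
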