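import Groth.Agent.Lib.Helper2.BLGlueMod

/-!
# Beauville–Laszlo: essential surjectivity

`glueMu α : R' ⊗ glue α → M'` is bijective for a glueing pair, `glue α` is glueable
(`glue_isGlueable`), and `exists_glue` packages the two isomorphisms.
-/

namespace Groth.Agent.H2.BL
open TensorProduct
universe u
variable {R R' : Type u} [CommRing R] [CommRing R'] [Algebra R R'] {f : R}

theorem torsion_of_lTensor_eq_zero {M N : Type u} [AddCommGroup M] [Module R M] [AddCommGroup N]
    [Module R N] (g : M →ₗ[R] N) [IsLocalizedModule (Submonoid.powers f) g] (w : R' ⊗[R] M)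
    (hw : g.lTensor R' w = 0) : ∃ n : ℕ, f ^ n • w = 0 := by
  have inst : IsLocalizedModule (Submonoid.powers f) (AlgebraTensorModule.rTensor R R' g) :=
    IsLocalizedModule.rTensor (R := R) (A := R) (Submonoid.powers f) (N := R') g
  have h1 : AlgebraTensorModule.rTensor R R' g (TensorProduct.comm R R' M w) = 0 := by
    have : ∀ w : R' ⊗[R] M, AlgebraTensorModule.rTensor R R' g (TensorProduct.comm R R' M w) =
        TensorProduct.comm R R' N (g.lTensor R' w) := by
      intro w
      induction w using TensorProduct.induction_on with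
      | zero => simp
      | tmul a b => simp
      | add a b ha hb => simp only [map_add, ha, hb]
    rw [this, hw, map_zero]
  rw [IsLocalizedModule.eq_zero_iff (Submonoid.powers f)] at h1
  obtain ⟨⟨_, n, rfl⟩, hn⟩ := h1
  refine ⟨n, ?_⟩
  simp only [Submonoid.smul_def] at hn
  rw [← map_smul, LinearEquiv.map_eq_zero_iff] at hn
  exact hn

variable {M' : Type u} [AddCommGroup M'] [Module R M'] [Module R' M'] [IsScalarTower R R' M']
variable {M₁ : Type u} [AddCommGroup M₁] [Module R M₁]
variable (α : LocalizedModule (Submonoid.powers (algebraMap R R' f)) M' ≃ₗ[R'] R' ⊗[R] M₁)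

/-- The comparison map `R' ⊗ glue → M'`. -/
noncomputable def glueMu : R' ⊗[R] glue α →ₗ[R'] M' := (glueFst α).liftBaseChange R'

theorem glueMu_tmul (r' : R') (m : glue α) : glueMu α (r' ⊗ₜ[R] m) = r' • glueFst α m := rfl

/-- `α ∘ ι' ∘ μ = R' ⊗ p₂`. -/
theorem alpha_glueMu (w : R' ⊗[R] glue α) :
    α (LocalizedModule.mkLinearMap (Submonoid.powers (algebraMap R R' f)) M' (glueMu α w)) =
      (glueSnd α).lTensor R' w := by
  induction w using TensorProduct.induction_on with
  | zero => simp
  | tmul r' m =>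
    rw [glueMu_tmul, map_smul, map_smul, glue_spec, LinearMap.lTensor_tmul, TensorProduct.smul_tmul',
      smul_eq_mul, mul_one]
  | add a b ha hb => rw [map_add, map_add, map_add, map_add, ha, hb]

theorem glueMu_surjective_aux (hq : EtGlue.QuotPowBijective R R' f) (t : R' ⊗[R] M₁) :
    ∃ (y₀ : M₁) (w : R' ⊗[R] glue α), t = (1 : R') ⊗ₜ[R] y₀ +
      α (LocalizedModule.mkLinearMap (Submonoid.powers (algebraMap R R' f)) M' (glueMu α w)) := by
  induction t using TensorProduct.induction_on with
  | zero => exact ⟨0, 0, by simp⟩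
  | tmul r' y =>
    obtain ⟨n, m, hm⟩ := exists_glue_snd α y
    obtain ⟨a, s, has⟩ := exists_approx hq n r'
    refine ⟨a • y, s ⊗ₜ m, ?_⟩
    rw [glueMu_tmul, map_smul, map_smul, glue_spec, hm, has, add_tmul, TensorProduct.smul_tmul',
      smul_eq_mul, mul_one, TensorProduct.tmul_smul, TensorProduct.tmul_smul,
      ← algebraMap_smul R' a, ← algebraMap_smul R' (f ^ n), TensorProduct.smul_tmul',
      TensorProduct.smul_tmul', smul_eq_mul, smul_eq_mul, mul_one, map_pow, mul_comm]
  | add a b ha hb =>
    obtain ⟨y₀, w, rfl⟩ := ha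
    obtain ⟨y₀', w', rfl⟩ := hb
    refine ⟨y₀ + y₀', w + w', ?_⟩
    rw [tmul_add, map_add, map_add, map_add]; abel

theorem glueMu_surjective (hq : EtGlue.QuotPowBijective R R' f) :
    Function.Surjective (glueMu α) := by
  intro x
  obtain ⟨y₀, w, h⟩ := glueMu_surjective_aux α hq
    (α (LocalizedModule.mkLinearMap (Submonoid.powers (algebraMap R R' f)) M' x))
  have hm : (x - glueMu α w, y₀) ∈ glue α := by
    rw [mem_glue]
    simp only
    rw [map_sub, map_sub, h]; abel
  refine ⟨(1 : R') ⊗ₜ[R] ⟨_, hm⟩ + w, ?_⟩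
  rw [map_add, glueMu_tmul, one_smul]
  change x - glueMu α w + glueMu α w = x
  abel

theorem glue_torsion_eq_zero (hf : Function.Bijective fun x : M₁ => f • x) (m : glue α)
    (hm : ∃ n : ℕ, f ^ n • m = 0) (h1 : glueFst α m = 0) : m = 0 := by
  obtain ⟨n, hn⟩ := hm
  apply glue_ext
  · rw [h1, map_zero]
  · have := congrArg (glueSnd α) hn
    rw [map_smul, map_zero] at this
    rw [map_zero]
    apply (bijective_pow_smul hf n).1
    simp only [smul_zero]
    exact this

theorem glueMu_injective (hq : EtGlue.QuotPowBijective R R' f)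
    (hsurj : ∀ x' : R', (∃ n : ℕ, algebraMap R R' f ^ n * x' = 0) →
          ∃ x : R, (∃ n : ℕ, f ^ n * x = 0) ∧ algebraMap R R' x = x')
    (hf : Function.Bijective fun x : M₁ => f • x) :
    Function.Injective (glueMu α) := by
  rw [injective_iff_map_eq_zero]
  intro w hw
  have h1 : (glueSnd α).lTensor R' w = 0 := by rw [← alpha_glueMu, hw, map_zero, map_zero]
  have inst := glueSnd_isLocalizedModule α hf
  obtain ⟨m, hm, rfl⟩ := torsion_surjective (glue α) hq hsurj w
    (torsion_of_lTensor_eq_zero (glueSnd α) w h1)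
  rw [glueMu_tmul, one_smul] at hw
  rw [glue_torsion_eq_zero α hf m hm hw, tmul_zero]

theorem glue_isGlueable (hRR : EtGlue.IsGlueingPair R R' f)
    (hf : Function.Bijective fun x : M₁ => f • x) : EtGlue.IsGlueable R R' f (glue α) := by
  have hq := hRR.1
  have hsurj := ((isGlueingPair_iff hq).1 hRR).2
  rw [isGlueable_iff (glue α) hq]
  refine ⟨fun m hm h1 => ?_, fun x hx => torsion_surjective (glue α) hq hsurj x hx⟩
  apply glue_torsion_eq_zero α hf m hm
  have := congrArg (glueMu α) h1
  rwa [glueMu_tmul, one_smul, map_zero] at this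

theorem exists_glue (hRR : EtGlue.IsGlueingPair R R' f)
    (hf : Function.Bijective fun x : M₁ => f • x) :
    ∃ (e' : R' ⊗[R] glue α ≃ₗ[R'] M')
      (e₁ : LocalizedModule (Submonoid.powers f) (glue α) ≃ₗ[R] M₁),
      (∀ (r' : R') (m : glue α), e' (r' ⊗ₜ[R] m) = r' • glueFst α m) ∧
      (∀ m : glue α, e₁ (LocalizedModule.mkLinearMap (Submonoid.powers f) (glue α) m) =
        glueSnd α m) := by
  have hq := hRR.1
  have hsurj := ((isGlueingPair_iff hq).1 hRR).2
  have inst := glueSnd_isLocalizedModule α hf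
  refine ⟨LinearEquiv.ofBijective (glueMu α)
    ⟨glueMu_injective α hq hsurj hf, glueMu_surjective α hq⟩,
    IsLocalizedModule.iso (Submonoid.powers f) (glueSnd α), fun r' m => rfl, fun m => ?_⟩
  exact IsLocalizedModule.iso_mk_one (Submonoid.powers f) (glueSnd α) m

end Groth.Agent.H2.BL
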