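import Groth.Agent.Lib.Helper2.BLGlue

/-!
# Beauville–Laszlo: finiteness descends (`finite_of_finite`)
-/

namespace Groth.Agent.H2.BL
open TensorProduct
universe u
variable {R R' : Type u} [CommRing R] [CommRing R'] [Algebra R R'] {f : R}

variable (M : Type u) [AddCommGroup M] [Module R M]

/-- If `M_f` is finite over `R_f`, there is a finitely generated submodule `N` of `M` such that every
element of `M` has an `f`-power multiple in `N`. -/
theorem exists_fg_of_finite_localized (f : R)
    [h : Module.Finite (Localization.Away f) (LocalizedModule (Submonoid.powers f) M)] :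
    ∃ N : Submodule R M, N.FG ∧ ∀ m : M, ∃ n : ℕ, f ^ n • m ∈ N := by
  classical
  obtain ⟨s₂, hs₂⟩ := h.fg_top
  set ι := LocalizedModule.mkLinearMap (Submonoid.powers f) M with hι
  choose c hc using fun y => IsLocalizedModule.surj (Submonoid.powers f) ι y
  set T₂ : Finset M := s₂.image (fun y => (c y).1) with hT₂
  refine ⟨Submodule.span R T₂, ⟨T₂, rfl⟩, fun m => ?_⟩
  have h1 : Submodule.span (Localization.Away f) (ι '' (T₂ : Set M)) = ⊤ := by
    rw [eq_top_iff, ← hs₂, Submodule.span_le]
    intro y hy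
    have hu := IsLocalization.map_units (Localization.Away f) (c y).2
    obtain ⟨u, hu⟩ := hu
    have : y = (↑u⁻¹ : Localization.Away f) • ι (c y).1 := by
      rw [← hc y, Submonoid.smul_def, ← algebraMap_smul (Localization.Away f) ((c y).2 : R) y,
        ← hu, smul_smul, Units.inv_mul, one_smul]
    rw [this]
    apply Submodule.smul_mem
    apply Submodule.subset_span
    exact ⟨(c y).1, Finset.mem_coe.2 (Finset.mem_image_of_mem _ hy), rfl⟩
  have h2 : ι m ∈ Submodule.span (Localization.Away f) (ι '' (T₂ : Set M)) := by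
    rw [h1]; trivial
  obtain ⟨⟨_, a, rfl⟩, ht⟩ := multiple_mem_span_of_mem_localization_span (Submonoid.powers f)
    (Localization.Away f) _ _ h2
  rw [← Submodule.map_span] at ht
  obtain ⟨n, hn, hn'⟩ := ht
  simp only [Submonoid.smul_def] at hn'
  have h3 : ι (f ^ a • m - n) = 0 := by rw [map_sub, map_smul, hn', sub_self]
  rw [hι, mkLinearMap_eq_zero_iff] at h3
  obtain ⟨b, hb⟩ := h3
  refine ⟨b + a, ?_⟩
  rw [smul_sub, sub_eq_zero] at hb
  rw [pow_add, mul_smul, hb]
  exact Submodule.smul_mem _ _ hn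

/-- If `R' ⊗ M` is finite over `R'`, there is a finitely generated submodule `N` of `M` such that
`R' ⊗ (M ⧸ N') = 0` for every `N' ≥ N`. -/
theorem exists_fg_of_finite_baseChange [h : Module.Finite R' (R' ⊗[R] M)] :
    ∃ N : Submodule R M, N.FG ∧ ∀ N' : Submodule R M, N ≤ N' → Subsingleton (R' ⊗[R] (M ⧸ N')) := by
  obtain ⟨s, hs⟩ := h.fg_top
  obtain ⟨N, hN, hsN⟩ := TensorProduct.exists_finite_submodule_right_of_setFinite (s : Set (R' ⊗[R] M))
    s.finite_toSet
  refine ⟨N, Module.Finite.iff_fg.1 hN, fun N' hNN' => ?_⟩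
  have h0 : N'.mkQ.baseChange R' = 0 := by
    apply LinearMap.ext_on hs
    intro x hx
    obtain ⟨y, rfl⟩ := hsN hx
    rw [LinearMap.zero_apply]
    clear hx
    induction y using TensorProduct.induction_on with
    | zero => simp
    | tmul a n =>
      rw [LinearMap.lTensor_tmul, LinearMap.baseChange_tmul, Submodule.subtype_apply,
        Submodule.mkQ_apply, (Submodule.Quotient.mk_eq_zero _).2 (hNN' n.2), tmul_zero]
    | add a b ha hb => rw [map_add, map_add, ha, hb, add_zero]
  refine ⟨fun a b => ?_⟩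
  obtain ⟨a, rfl⟩ := LinearMap.lTensor_surjective R' N'.mkQ_surjective a
  obtain ⟨b, rfl⟩ := LinearMap.lTensor_surjective R' N'.mkQ_surjective b
  rw [← LinearMap.baseChange_eq_ltensor, h0]
  rfl

theorem finite_of_finite (hq : EtGlue.QuotPowBijective R R' f) [Module.Finite R' (R' ⊗[R] M)]
    [Module.Finite (Localization.Away f) (LocalizedModule (Submonoid.powers f) M)] :
    Module.Finite R M := by
  obtain ⟨N₁, hN₁, h1⟩ := exists_fg_of_finite_baseChange (R := R) (R' := R') M
  obtain ⟨N₂, hN₂, h2⟩ := exists_fg_of_finite_localized M f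
  have h3 := h1 (N₁ ⊔ N₂) le_sup_left
  have h4 : ∀ p : M ⧸ (N₁ ⊔ N₂), ∃ n : ℕ, f ^ n • p = 0 := by
    intro p
    obtain ⟨m, rfl⟩ := Submodule.Quotient.mk_surjective _ p
    obtain ⟨n, hn⟩ := h2 m
    exact ⟨n, by
      rw [← Submodule.Quotient.mk_smul, Submodule.Quotient.mk_eq_zero]
      exact le_sup_right (a := N₁) hn⟩
  have h5 := subsingleton_of_torsion_of_tensor hq h4 h3
  rw [Submodule.Quotient.subsingleton_iff] at h5
  rw [Module.finite_def, ← h5]
  exact hN₁.sup hN₂

end Groth.Agent.H2.BL
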