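import Groth.Agent.Lib.Helper2.BLFlatPrep

/-!
# Beauville–Laszlo: flatness descends along a glueing pair (`flat_of_flat`)
-/

namespace Groth.Agent.H2.BL
open TensorProduct
universe u
variable {R R' : Type u} [CommRing R] [CommRing R'] [Algebra R R'] {f : R}

section main
variable {L M : Type u} [AddCommGroup L] [AddCommGroup M] [Module R L] [Module R M]
variable {ι : Type u}

/-- Step D1: `Tor₁(M, N₂) = 0` for `f`-torsion-free `N₂`. -/
theorem stepD1 (hRR : EtGlue.IsGlueingPair R R' f)
    [Module.Flat R' (R' ⊗[R] M)]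
    [Module.Flat (Localization.Away f) (Localization.Away f ⊗[R] M)]
    (d : L →ₗ[R] (ι →₀ R)) (ε : (ι →₀ R) →ₗ[R] M) (hd : Function.Injective d)
    (hdε : Function.Exact d ε) (hε : Function.Surjective ε)
    (N₂ : Type u) [AddCommGroup N₂] [Module R N₂]
    (htf : ∀ n : N₂, (∃ k : ℕ, f ^ k • n = 0) → n = 0) :
    Function.Injective (d.lTensor N₂) := by
  have hq := hRR.1
  obtain ⟨hinj, hsurj⟩ := (isGlueingPair_iff hq).1 hRR
  have hG : EtGlue.IsGlueable R R' f N₂ :=
    (isGlueable_iff N₂ hq).2 ⟨fun m hm _ => htf m hm, torsion_surjective N₂ hq hsurj⟩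
  have hB := stepB hRR d ε hd hdε hε
  have hY : Function.Injective
      (d.lTensor ((R' ⊗[R] N₂) × LocalizedModule (Submonoid.powers f) N₂)) :=
    FlatAlg.lTensor_injective_of_exact d
      (LinearMap.inl R (R' ⊗[R] N₂) (LocalizedModule (Submonoid.powers f) N₂))
      (LinearMap.snd R (R' ⊗[R] N₂) (LocalizedModule (Submonoid.powers f) N₂))
      LinearMap.inl_injective Function.Exact.inl_snd LinearMap.snd_surjective
      (FlatAlg.lTensor_injective_of_baseChange (A := R') d ε hdε hε hB (R' ⊗[R] N₂))
      (stepA f d ε hd hdε hε (LocalizedModule (Submonoid.powers f) N₂))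
  -- presentation of `L`
  have instL := flat_tensor_ker f d ε hd hdε hε
  obtain ⟨L₁, _, _, dL, εL, hdL, hexL, hεL⟩ : ∃ (L₁ : Type u) (_ : AddCommGroup L₁) (_ : Module R L₁)
      (dL : L₁ →ₗ[R] (L →₀ R)) (εL : (L →₀ R) →ₗ[R] L),
      Function.Injective dL ∧ Function.Exact dL εL ∧ Function.Surjective εL :=
    ⟨LinearMap.ker (Finsupp.linearCombination R (id : L → L)), inferInstance, inferInstance,
      (LinearMap.ker (Finsupp.linearCombination R (id : L → L))).subtype,
      Finsupp.linearCombination R id, Submodule.subtype_injective _,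
      LinearMap.exact_subtype_ker_map _, Finsupp.linearCombination_id_surjective R L⟩
  have hCL := stepA f dL εL hdL hexL hεL
    (LocalizedModule (Submonoid.powers f) (R' ⊗[R] N₂))
  have hc : Function.Injective ((cmap R' f N₂).rTensor L) :=
    FlatAlg.rTensor_injective_of_lTensor_injective (cmap R' f N₂) (dmap R' f N₂)
      (cmap_injective N₂ hG) (cmap_exact N₂ hG) (dmap_surjective N₂ hq)
      dL εL hexL hεL hCL
  rw [injective_iff_map_eq_zero]
  intro z hz
  have h1 : d.lTensor _ ((cmap R' f N₂).rTensor L z) = 0 := by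
    rw [← LinearMap.comp_apply, LinearMap.lTensor_comp_rTensor, ← LinearMap.rTensor_comp_lTensor,
      LinearMap.comp_apply, hz, map_zero]
  exact hc ((hY (h1.trans (map_zero _).symm)).trans (map_zero _).symm)

/-- `Tor₁(M, N) = 0` for all `N`, in terms of a free presentation. -/
theorem stepD (hRR : EtGlue.IsGlueingPair R R' f)
    [Module.Flat R' (R' ⊗[R] M)]
    [Module.Flat (Localization.Away f) (Localization.Away f ⊗[R] M)]
    (d : L →ₗ[R] (ι →₀ R)) (ε : (ι →₀ R) →ₗ[R] M) (hd : Function.Injective d)
    (hdε : Function.Exact d ε) (hε : Function.Surjective ε)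
    (N : Type u) [AddCommGroup N] [Module R N] :
    Function.Injective (d.lTensor N) := by
  have hq := hRR.1
  have hB := stepB hRR d ε hd hdε hε
  have hTt : ∀ t : tors f N, ∃ n : ℕ, f ^ n • t = 0 := by
    rintro ⟨t, n, hn⟩
    exact ⟨n, Subtype.ext hn⟩
  have hT : Function.Injective (d.lTensor (tors f N)) :=
    FlatAlg.lTensor_injective_of_equiv d
      (LinearEquiv.ofBijective (TensorProduct.mk R R' (tors f N) 1)
        ⟨tmul_injective_of_torsion hq hTt, tmul_surjective_of_torsion hq hTt⟩)
      (FlatAlg.lTensor_injective_of_baseChange (A := R') d ε hdε hε hB (R' ⊗[R] tors f N))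
  have hN₂ : Function.Injective (d.lTensor (N ⧸ tors f N)) := by
    apply stepD1 hRR d ε hd hdε hε
    intro n hn
    obtain ⟨n, rfl⟩ := Submodule.Quotient.mk_surjective _ n
    obtain ⟨k, hk⟩ := hn
    rw [← Submodule.Quotient.mk_smul, Submodule.Quotient.mk_eq_zero] at hk
    obtain ⟨j, hj⟩ := hk
    rw [Submodule.Quotient.mk_eq_zero]
    exact ⟨j + k, by rw [pow_add, mul_smul, hj]⟩
  exact FlatAlg.lTensor_injective_of_exact d (tors f N).subtype (tors f N).mkQ
    (Submodule.subtype_injective _) (LinearMap.exact_subtype_mkQ _) (Submodule.mkQ_surjective _)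
    hT hN₂

end main

/-- Flatness descends along a glueing pair (Stacks 0BNX-type statement). -/
theorem flat_of_flat (hRR : EtGlue.IsGlueingPair R R' f) (M : Type u) [AddCommGroup M] [Module R M]
    [Module.Flat R' (R' ⊗[R] M)]
    [Module.Flat (Localization.Away f) (LocalizedModule (Submonoid.powers f) M)] :
    Module.Flat R M := by
  have inst := flat_tensor_of_flat_localized (M := M) f
  obtain ⟨L, _, _, d, ε, hd, hdε, hε⟩ : ∃ (L : Type u) (_ : AddCommGroup L) (_ : Module R L)
      (d : L →ₗ[R] (M →₀ R)) (ε : (M →₀ R) →ₗ[R] M),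
      Function.Injective d ∧ Function.Exact d ε ∧ Function.Surjective ε :=
    ⟨LinearMap.ker (Finsupp.linearCombination R (id : M → M)), inferInstance, inferInstance,
      (LinearMap.ker (Finsupp.linearCombination R (id : M → M))).subtype,
      Finsupp.linearCombination R id, Submodule.subtype_injective _,
      LinearMap.exact_subtype_ker_map _, Finsupp.linearCombination_id_surjective R M⟩
  exact FlatAlg.flat_of_forall_lTensor_injective d ε hdε hε
    (fun C _ _ => stepD hRR d ε hd hdε hε C)

end Groth.Agent.H2.BL
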