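import Groth.Agent.Lib.Helper2.BLEss
import Groth.Agent.Lib.Helper2.FlatAlg

/-!
# Beauville–Laszlo: flatness descends along a glueing pair (preparations)

* `free_torsion_injective`, `stepA` (`Tor₁(M, C) = 0` for `R_f`-modules), `stepB` (`Tor₁(M, R') = 0`),
* the glueing sequence `0 → N → R' ⊗ N × N_f → (R' ⊗ N)_f → 0` (`cmap`, `dmap`).
-/

namespace Groth.Agent.H2.BL
open TensorProduct
universe u
variable {R R' : Type u} [CommRing R] [CommRing R'] [Algebra R R'] {f : R}

/-- For a free module, `1 ⊗ -` is injective on torsion if it is for `R`. -/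
theorem free_torsion_injective
    (hinj : ∀ x : R, (∃ n : ℕ, f ^ n * x = 0) → algebraMap R R' x = 0 → x = 0)
    (ι : Type u) (g : ι →₀ R) (hg : ∃ n : ℕ, f ^ n • g = 0) (h : (1 : R') ⊗ₜ[R] g = 0) : g = 0 := by
  classical
  obtain ⟨n, hn⟩ := hg
  ext i
  apply hinj
  · refine ⟨n, ?_⟩
    have := congrArg (fun v => v i) hn
    simpa using this
  · have h1 : TensorProduct.finsuppScalarRight R R R' ι ((1 : R') ⊗ₜ[R] g) i = 0 := by
      rw [h, map_zero]; rfl
    rw [TensorProduct.finsuppScalarRight_apply_tmul_apply] at h1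
    rw [Algebra.algebraMap_eq_smul_one]
    exact h1

section stepA
variable {L F M : Type u} [AddCommGroup L] [AddCommGroup F] [AddCommGroup M]
  [Module R L] [Module R F] [Module R M]

/-- Flatness of the localization in tensor form. -/
theorem flat_tensor_of_flat_localized (f : R)
    [h : Module.Flat (Localization.Away f) (LocalizedModule (Submonoid.powers f) M)] :
    Module.Flat (Localization.Away f) (Localization.Away f ⊗[R] M) :=
  Module.Flat.of_linearEquiv (LocalizedModule.equivTensorProduct (Submonoid.powers f) M).symm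

/-- Step A: `Tor₁(M, C) = 0` for `R_f`-modules `C`. -/
theorem stepA (f : R) [Module.Flat (Localization.Away f) (Localization.Away f ⊗[R] M)]
    (d : L →ₗ[R] F) (ε : F →ₗ[R] M) (hd : Function.Injective d) (hdε : Function.Exact d ε)
    (hε : Function.Surjective ε)
    (C : Type u) [AddCommGroup C] [Module R C] [Module (Localization.Away f) C]
    [IsScalarTower R (Localization.Away f) C] : Function.Injective (d.lTensor C) :=
  FlatAlg.lTensor_injective_of_baseChange (A := Localization.Away f) d ε hdε hε
    (Module.Flat.lTensor_preserves_injective_linearMap d hd) C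

/-- The kernel of the presentation also has flat localization. -/
theorem flat_tensor_ker (f : R) [Module.Flat R F]
    [Module.Flat (Localization.Away f) (Localization.Away f ⊗[R] M)]
    (d : L →ₗ[R] F) (ε : F →ₗ[R] M) (hd : Function.Injective d) (hdε : Function.Exact d ε)
    (hε : Function.Surjective ε) :
    Module.Flat (Localization.Away f) (Localization.Away f ⊗[R] L) := by
  have hex : Function.Exact (d.baseChange (Localization.Away f))
      (ε.baseChange (Localization.Away f)) := by
    have := lTensor_exact (Localization.Away f) hdε hε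
    intro x
    simpa only [LinearMap.baseChange_eq_ltensor] using this x
  have hsurj : Function.Surjective (ε.baseChange (Localization.Away f)) := by
    have := LinearMap.lTensor_surjective (Localization.Away f) hε
    intro y
    obtain ⟨x, hx⟩ := this y
    exact ⟨x, by simpa only [LinearMap.baseChange_eq_ltensor] using hx⟩
  have hinj : Function.Injective (d.baseChange (Localization.Away f)) := by
    intro x y hxy
    apply Module.Flat.lTensor_preserves_injective_linearMap (M := Localization.Away f) d hd
    simpa only [LinearMap.baseChange_eq_ltensor] using hxy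
  exact FlatAlg.flat_of_exact_of_flat (d.baseChange (Localization.Away f))
    (ε.baseChange (Localization.Away f)) hinj hex hsurj

end stepA

section stepB
variable {L M : Type u} [AddCommGroup L] [AddCommGroup M] [Module R L] [Module R M]
variable {ι : Type u}

/-- Elements of `R' ⊗ L` killed in `R' ⊗ F` are `f`-power torsion. -/
theorem torsion_of_lTensor_eq_zero' [Module.Flat (Localization.Away f) (Localization.Away f ⊗[R] M)]
    (d : L →ₗ[R] (ι →₀ R)) (ε : (ι →₀ R) →ₗ[R] M) (hd : Function.Injective d)
    (hdε : Function.Exact d ε) (hε : Function.Surjective ε) (x : R' ⊗[R] L)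
    (hx : d.lTensor R' x = 0) : ∃ n : ℕ, f ^ n • x = 0 := by
  set lam := LocalizedModule.mkLinearMap (Submonoid.powers f) R' with hlam
  have hP := stepA f d ε hd hdε hε (LocalizedModule (Submonoid.powers f) R')
  have inst : IsLocalizedModule (Submonoid.powers f) (AlgebraTensorModule.rTensor R L lam) :=
    IsLocalizedModule.rTensor (R := R) (A := R) (Submonoid.powers f) (N := L) lam
  have h0 : ∀ y : R' ⊗[R] L, AlgebraTensorModule.rTensor R L lam y = lam.rTensor L y := fun _ => rfl
  have h1 : d.lTensor _ (lam.rTensor L x) = 0 := by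
    rw [← LinearMap.comp_apply, LinearMap.lTensor_comp_rTensor, ← LinearMap.rTensor_comp_lTensor,
      LinearMap.comp_apply, hx, map_zero]
  have h2 := hP (h1.trans (map_zero _).symm)
  rw [← h0, IsLocalizedModule.eq_zero_iff (Submonoid.powers f)] at h2
  obtain ⟨⟨_, n, rfl⟩, hn⟩ := h2
  exact ⟨n, hn⟩

/-- Step B: `Tor₁(M, R') = 0`. -/
theorem stepB (hRR : EtGlue.IsGlueingPair R R' f)
    [Module.Flat (Localization.Away f) (Localization.Away f ⊗[R] M)]
    (d : L →ₗ[R] (ι →₀ R)) (ε : (ι →₀ R) →ₗ[R] M) (hd : Function.Injective d)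
    (hdε : Function.Exact d ε) (hε : Function.Surjective ε) :
    Function.Injective (d.lTensor R') := by
  have hq := hRR.1
  obtain ⟨hinj, hsurj⟩ := (isGlueingPair_iff hq).1 hRR
  rw [injective_iff_map_eq_zero]
  intro x hx
  obtain ⟨l, hl, rfl⟩ := torsion_surjective L hq hsurj x
    (torsion_of_lTensor_eq_zero' d ε hd hdε hε x hx)
  rw [LinearMap.lTensor_tmul] at hx
  have h1 : d l = 0 := free_torsion_injective hinj ι (d l) (by
    obtain ⟨n, hn⟩ := hl
    exact ⟨n, by rw [← map_smul, hn, map_zero]⟩) hx
  rw [hd (h1.trans (map_zero _).symm), tmul_zero]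

end stepB

section glueSeq
variable (R' f) (N : Type u) [AddCommGroup N] [Module R N]

/-- `n ↦ (1 ⊗ n, n/1)`. -/
noncomputable def cmap : N →ₗ[R] (R' ⊗[R] N) × LocalizedModule (Submonoid.powers f) N :=
  LinearMap.prod (TensorProduct.mk R R' N 1) (LocalizedModule.mkLinearMap (Submonoid.powers f) N)

/-- `(x, y) ↦ x/1 - (1 ⊗ -)_f y`. -/
noncomputable def dmap : (R' ⊗[R] N) × LocalizedModule (Submonoid.powers f) N →ₗ[R]
    LocalizedModule (Submonoid.powers f) (R' ⊗[R] N) :=
  (EtGlue.locOfTensor R R' f N).comp
      (LinearMap.fst R (R' ⊗[R] N) (LocalizedModule (Submonoid.powers f) N)) +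
    (EtGlue.tensorOfLoc R R' f N).comp
      ((-1 : R) • LinearMap.snd R (R' ⊗[R] N) (LocalizedModule (Submonoid.powers f) N))

theorem dmap_apply (x : R' ⊗[R] N) (y : LocalizedModule (Submonoid.powers f) N) :
    dmap R' f N (x, y) = EtGlue.locOfTensor R R' f N x - EtGlue.tensorOfLoc R R' f N y := by
  simp only [dmap, LinearMap.add_apply, LinearMap.comp_apply, LinearMap.fst_apply,
    LinearMap.smul_apply, LinearMap.snd_apply, map_smul]
  have h : ∀ z : LocalizedModule (Submonoid.powers f) (R' ⊗[R] N), (-1 : R) • z = -z :=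
    fun z => neg_one_smul R z
  rw [h]
  exact (sub_eq_add_neg (G := LocalizedModule (Submonoid.powers f) (R' ⊗[R] N)) _ _).symm

theorem dmap_eq_zero_iff (x : R' ⊗[R] N) (y : LocalizedModule (Submonoid.powers f) N) :
    dmap R' f N (x, y) = 0 ↔ EtGlue.locOfTensor R R' f N x = EtGlue.tensorOfLoc R R' f N y := by
  rw [dmap_apply, sub_eq_zero]

theorem dmap_cmap (n : N) : dmap R' f N (cmap R' f N n) = 0 := by
  have : cmap R' f N n = ((1 : R') ⊗ₜ[R] n, LocalizedModule.mkLinearMap (Submonoid.powers f) N n) :=
    rfl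
  rw [this, dmap_eq_zero_iff]
  unfold EtGlue.tensorOfLoc
  rw [IsLocalizedModule.map_apply]
  rfl

variable {R' f}

/-- Right exactness of the glueing sequence. -/
theorem dmap_surjective (hq : EtGlue.QuotPowBijective R R' f) :
    Function.Surjective (dmap R' f N) := by
  intro z
  induction z using LocalizedModule.induction_on with
  | h x s =>
  obtain ⟨_, n, rfl⟩ := s
  obtain ⟨m, x₁, rfl⟩ := exists_tmul_approx N hq n x
  refine ⟨(x₁, - LocalizedModule.mk m (⟨f ^ n, n, rfl⟩ : Submonoid.powers f)), ?_⟩
  rw [dmap_apply, map_neg, tensorOfLoc_mk]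
  rw [sub_neg_eq_add (α := LocalizedModule (Submonoid.powers f) (R' ⊗[R] N))]
  rw [LocalizedModule.mkLinearMap_apply, LocalizedModule.mk_add_mk, one_smul, add_comm, one_mul]
  rfl

theorem cmap_exact (hG : EtGlue.IsGlueable R R' f N) :
    Function.Exact (cmap R' f N) (dmap R' f N) := by
  intro p
  constructor
  · intro hp
    obtain ⟨x, y⟩ := p
    rw [dmap_eq_zero_iff] at hp
    obtain ⟨n, h1, h2⟩ := hG.2 x y hp
    exact ⟨n, Prod.ext h1 h2⟩
  · rintro ⟨n, rfl⟩
    exact dmap_cmap R' f N n

theorem cmap_injective (hG : EtGlue.IsGlueable R R' f N) : Function.Injective (cmap R' f N) :=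
  hG.1

end glueSeq

end Groth.Agent.H2.BL
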