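import Groth.Agent.Lib.Helper2.BLBasic

/-!
# Beauville–Laszlo: glueable modules and glueing pairs via `f`-power torsion

* `isGlueable_iff`: `M` glueable iff `T(M) → T(R' ⊗ M)` bijective (under `QuotPowBijective`).
* `isGlueingPair_iff`: glueing pair iff `T(R) → T(R')` bijective.
* `tors f M`: the `f`-power torsion submodule.
* `torsion_surjective`: if `T(R) → T(R')` is surjective then so is `T(M) → T(R' ⊗ M)` for all `M`.
-/

namespace Groth.Agent.H2.BL
open TensorProduct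
universe u
variable {R R' : Type u} [CommRing R] [CommRing R'] [Algebra R R'] {f : R}

theorem away_eq_zero_iff {A : Type*} [CommRing A] (g : A) (a : A) :
    algebraMap A (Localization.Away g) a = 0 ↔ ∃ n : ℕ, g ^ n * a = 0 := by
  rw [IsLocalization.map_eq_zero_iff (Submonoid.powers g)]
  constructor
  · rintro ⟨⟨_, n, rfl⟩, h⟩
    exact ⟨n, h⟩
  · rintro ⟨n, h⟩
    exact ⟨⟨g ^ n, Submonoid.pow_mem _ (Submonoid.mem_powers g) n⟩, h⟩

theorem isGlueingPair_iff (hq : EtGlue.QuotPowBijective R R' f) :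
    EtGlue.IsGlueingPair R R' f ↔
      ((∀ x : R, (∃ n : ℕ, f ^ n * x = 0) → algebraMap R R' x = 0 → x = 0) ∧
       (∀ x' : R', (∃ n : ℕ, algebraMap R R' f ^ n * x' = 0) →
          ∃ x : R, (∃ n : ℕ, f ^ n * x = 0) ∧ algebraMap R R' x = x')) := by
  constructor
  · rintro ⟨-, hinj, hex, -⟩
    refine ⟨fun x hx h1 => ?_, fun x hx => ?_⟩
    · apply hinj
      simp only [Prod.mk.injEq, map_zero]
      exact ⟨h1, (away_eq_zero_iff f x).2 hx⟩
    · obtain ⟨r, h1, h2⟩ := hex x 0 (by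
        rw [map_zero]
        exact (away_eq_zero_iff _ x).2 hx)
      exact ⟨r, (away_eq_zero_iff f r).1 h2, h1⟩
  · rintro ⟨hinj, hsurj⟩
    refine ⟨hq, fun a b hab => ?_, fun x y hxy => ?_, fun z => ?_⟩
    · simp only [Prod.mk.injEq] at hab
      have h1 : algebraMap R R' (a - b) = 0 := by rw [map_sub, hab.1, sub_self]
      have h2 : algebraMap R (Localization.Away f) (a - b) = 0 := by
        rw [map_sub, hab.2, sub_self]
      exact sub_eq_zero.mp (hinj _ ((away_eq_zero_iff f _).1 h2) h1)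
    · obtain ⟨⟨a, ⟨_, k, rfl⟩⟩, rfl⟩ := IsLocalization.mk'_surjective (Submonoid.powers f) y
      simp only [Localization.awayMap, IsLocalization.Away.map, IsLocalization.map_mk'] at hxy
      rw [IsLocalization.eq_mk'_iff_mul_eq, ← map_mul, IsLocalization.eq_iff_exists
        (Submonoid.powers (algebraMap R R' f))] at hxy
      obtain ⟨⟨_, j, rfl⟩, hj⟩ := hxy
      simp only [map_pow] at hj
      have h3 : algebraMap R R' (f ^ j * a) = algebraMap R R' f ^ (j + k) * x := by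
        rw [map_mul, map_pow, ← hj]; ring
      obtain ⟨m₂, hm₂⟩ := exists_eq_mul_of_algebraMap_eq hq (j + k) _ _ h3
      have h4 : algebraMap R R' f ^ (j + k) * (x - algebraMap R R' m₂) = 0 := by
        rw [mul_sub, ← h3, hm₂, map_mul, map_pow, sub_self]
      obtain ⟨t, ht, ht'⟩ := hsurj _ ⟨_, h4⟩
      refine ⟨m₂ + t, ?_, ?_⟩
      · rw [map_add, ht']; ring
      · rw [map_add, (away_eq_zero_iff f t).2 ht, add_zero, IsLocalization.eq_mk'_iff_mul_eq,
          ← map_mul, IsLocalization.eq_iff_exists (Submonoid.powers f)]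
        refine ⟨⟨f ^ j, j, rfl⟩, ?_⟩
        simp only
        rw [hm₂]; ring
    · obtain ⟨⟨a, ⟨_, k, rfl⟩⟩, rfl⟩ :=
        IsLocalization.mk'_surjective (Submonoid.powers (algebraMap R R' f)) z
      obtain ⟨r, s, hrs⟩ := exists_approx hq k a
      refine ⟨s, - IsLocalization.mk' _ r (⟨f ^ k, k, rfl⟩ : Submonoid.powers f), ?_⟩
      simp only [Localization.awayMap, IsLocalization.Away.map, map_neg, IsLocalization.map_mk',
        sub_neg_eq_add]
      rw [IsLocalization.eq_mk'_iff_mul_eq, add_mul]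
      dsimp only
      rw [← map_pow (algebraMap R R') f k, IsLocalization.mk'_spec_mk, hrs, map_add, map_mul,
        map_pow (algebraMap R R')]; ring

variable (M : Type u) [AddCommGroup M] [Module R M]

theorem mkLinearMap_eq_zero_iff (m : M) :
    LocalizedModule.mkLinearMap (Submonoid.powers f) M m = 0 ↔ ∃ n : ℕ, f ^ n • m = 0 := by
  rw [IsLocalizedModule.eq_zero_iff (Submonoid.powers f)]
  constructor
  · rintro ⟨⟨_, n, rfl⟩, h⟩
    exact ⟨n, h⟩
  · rintro ⟨n, h⟩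
    exact ⟨⟨f ^ n, Submonoid.pow_mem _ (Submonoid.mem_powers f) n⟩, h⟩

theorem tensorOfLoc_mk (m : M) (n : ℕ) :
    EtGlue.tensorOfLoc R R' f M (LocalizedModule.mk m (⟨f ^ n, n, rfl⟩ : Submonoid.powers f)) =
      LocalizedModule.mk ((1 : R') ⊗ₜ[R] m) (⟨f ^ n, n, rfl⟩ : Submonoid.powers f) := by
  unfold EtGlue.tensorOfLoc
  rw [IsLocalizedModule.mk_eq_mk', IsLocalizedModule.map_mk', IsLocalizedModule.mk_eq_mk']
  rfl

/-- Glueability in terms of the `f`-power torsion (no glueing-pair hypothesis needed beyond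
bijectivity of the quotients). -/
theorem isGlueable_iff (hq : EtGlue.QuotPowBijective R R' f) :
    EtGlue.IsGlueable R R' f M ↔
      ((∀ m : M, (∃ n : ℕ, f ^ n • m = 0) → (1 : R') ⊗ₜ[R] m = 0 → m = 0) ∧
       (∀ x : R' ⊗[R] M, (∃ n : ℕ, f ^ n • x = 0) →
          ∃ m : M, (∃ n : ℕ, f ^ n • m = 0) ∧ (1 : R') ⊗ₜ[R] m = x)) := by
  constructor
  · rintro ⟨hinj, hex⟩
    refine ⟨fun m hm h1 => ?_, fun x hx => ?_⟩
    · apply hinj
      simp only [Prod.mk.injEq, tmul_zero, map_zero]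
      exact ⟨h1, (mkLinearMap_eq_zero_iff M m).2 hm⟩
    · obtain ⟨m, h1, h2⟩ := hex x 0 (by
        rw [map_zero]
        exact (mkLinearMap_eq_zero_iff (R' ⊗[R] M) x).2 hx)
      exact ⟨m, (mkLinearMap_eq_zero_iff M m).1 h2, h1⟩
  · rintro ⟨hinj, hsurj⟩
    refine ⟨fun a b hab => ?_, fun x y hxy => ?_⟩
    · simp only [Prod.mk.injEq] at hab
      have h1 : (1 : R') ⊗ₜ[R] (a - b) = 0 := by rw [tmul_sub, hab.1, sub_self]
      have h2 : LocalizedModule.mkLinearMap (Submonoid.powers f) M (a - b) = 0 := by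
        rw [map_sub, hab.2, sub_self]
      exact sub_eq_zero.mp (hinj _ ((mkLinearMap_eq_zero_iff M _).1 h2) h1)
    · induction y using LocalizedModule.induction_on with
      | h m₀ s =>
      obtain ⟨_, k, rfl⟩ := s
      rw [tensorOfLoc_mk] at hxy
      change LocalizedModule.mk x 1 = _ at hxy
      rw [LocalizedModule.mk_eq] at hxy
      obtain ⟨⟨_, j, rfl⟩, hj⟩ := hxy
      simp only [Submonoid.smul_def, one_smul] at hj
      -- f^j f^k x = f^j (1 ⊗ m₀)
      have h3 : (1 : R') ⊗ₜ[R] (f ^ j • m₀) = f ^ (j + k) • x := by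
        rw [pow_add, mul_smul, hj, TensorProduct.tmul_smul]
      obtain ⟨m₂, hm₂⟩ := exists_smul_of_tmul_eq M hq (j + k) _ _ h3
      have h4 : f ^ (j + k) • (x - (1 : R') ⊗ₜ[R] m₂) = 0 := by
        rw [smul_sub, ← h3, hm₂, TensorProduct.tmul_smul, sub_self]
      obtain ⟨t, ht, ht'⟩ := hsurj _ ⟨_, h4⟩
      refine ⟨m₂ + t, ?_, ?_⟩
      · rw [tmul_add, ht']; abel
      · rw [map_add, (mkLinearMap_eq_zero_iff M t).2 ht, add_zero]
        change LocalizedModule.mk m₂ 1 = _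
        rw [LocalizedModule.mk_eq]
        refine ⟨⟨f ^ j, j, rfl⟩, ?_⟩
        simp only [Submonoid.smul_def, one_smul]
        rw [← mul_smul, ← pow_add, ← hm₂]

/-- The `f`-power torsion submodule. -/
def tors (f : R) (M : Type*) [AddCommGroup M] [Module R M] : Submodule R M where
  carrier := {m | ∃ n : ℕ, f ^ n • m = 0}
  zero_mem' := ⟨0, by simp⟩
  add_mem' := by
    rintro a b ⟨n, hn⟩ ⟨k, hk⟩
    refine ⟨n + k, ?_⟩
    rw [smul_add, pow_add, mul_comm, mul_smul, hn, mul_comm, mul_smul, hk, smul_zero, smul_zero,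
      add_zero]
  smul_mem' := by
    rintro c a ⟨n, hn⟩
    exact ⟨n, by rw [smul_comm, hn, smul_zero]⟩

theorem mem_tors {f : R} {M : Type*} [AddCommGroup M] [Module R M] {m : M} :
    m ∈ tors f M ↔ ∃ n : ℕ, f ^ n • m = 0 := Iff.rfl

theorem map_mem_tors {f : R} {M N : Type*} [AddCommGroup M] [Module R M] [AddCommGroup N]
    [Module R N] (g : M →ₗ[R] N) {m : M} (hm : m ∈ tors f M) : g m ∈ tors f N := by
  obtain ⟨n, hn⟩ := hm
  exact ⟨n, by rw [← map_smul, hn, map_zero]⟩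

/-- For a free module, torsion of `R' ⊗ F` comes from torsion of `F`, if it does for `R`. -/
theorem free_torsion_surjective
    (hsurj : ∀ x' : R', (∃ n : ℕ, algebraMap R R' f ^ n * x' = 0) →
          ∃ x : R, (∃ n : ℕ, f ^ n * x = 0) ∧ algebraMap R R' x = x')
    (ι : Type u) (y : R' ⊗[R] (ι →₀ R)) (hy : ∃ n : ℕ, f ^ n • y = 0) :
    ∃ t : ι →₀ R, t ∈ tors f (ι →₀ R) ∧ (1 : R') ⊗ₜ[R] t = y := by
  classical
  obtain ⟨n, hn⟩ := hy
  set e := TensorProduct.finsuppScalarRight R R R' ι with he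
  set v := e y with hv
  have hv0 : ∀ i, ∃ x : R, (∃ n : ℕ, f ^ n * x = 0) ∧ algebraMap R R' x = v i := by
    intro i
    apply hsurj
    refine ⟨n, ?_⟩
    have : (f ^ n • v) i = 0 := by rw [hv, ← map_smul, hn, map_zero]; rfl
    rw [Finsupp.smul_apply, Algebra.smul_def, map_pow] at this
    exact this
  choose c hc1 hc2 using hv0
  refine ⟨∑ i ∈ v.support, Finsupp.single i (c i), ?_, ?_⟩
  · apply Submodule.sum_mem
    intro i _
    obtain ⟨k, hk⟩ := hc1 i
    exact ⟨k, by rw [Finsupp.smul_single, smul_eq_mul, hk, Finsupp.single_zero]⟩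
  · apply e.injective
    rw [← hv, tmul_sum, map_sum]
    conv_rhs => rw [← Finsupp.sum_single v]
    rw [Finsupp.sum]
    apply Finset.sum_congr rfl
    intro i _
    rw [he, finsuppScalarRight_apply_tmul, Finsupp.sum_single_index (by simp), Algebra.smul_def,
      mul_one, hc2]

theorem torsion_surjective (hq : EtGlue.QuotPowBijective R R' f)
    (hsurj : ∀ x' : R', (∃ n : ℕ, algebraMap R R' f ^ n * x' = 0) →
          ∃ x : R, (∃ n : ℕ, f ^ n * x = 0) ∧ algebraMap R R' x = x')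
    (x : R' ⊗[R] M) (hx : ∃ n : ℕ, f ^ n • x = 0) :
    ∃ m : M, (∃ n : ℕ, f ^ n • m = 0) ∧ (1 : R') ⊗ₜ[R] m = x := by
  obtain ⟨n, hn⟩ := hx
  obtain ⟨p, hps⟩ : ∃ p : (M →₀ R) →ₗ[R] M, Function.Surjective p :=
    ⟨Finsupp.linearCombination R id, Finsupp.linearCombination_id_surjective R M⟩
  have h0 := LinearMap.exact_subtype_ker_map p
  have hex := @lTensor_exact R (LinearMap.ker p) (M →₀ R) M _ _ _ _ _ _ _
    (LinearMap.ker p).subtype p R' _ _ h0 hps
  obtain ⟨x', rfl⟩ := LinearMap.lTensor_surjective R' hps x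
  have h1 : f ^ n • x' ∈ LinearMap.ker (p.lTensor R') := by
    rw [LinearMap.mem_ker, map_smul, hn]
  obtain ⟨κ, hκ⟩ := (hex _).1 h1
  obtain ⟨k, κ₁, rfl⟩ := exists_tmul_approx (LinearMap.ker p) hq n κ
  rw [map_add, map_smul, LinearMap.lTensor_tmul, Submodule.subtype_apply] at hκ
  have h2 : (1 : R') ⊗ₜ[R] (k : M →₀ R) =
      f ^ n • (x' - (LinearMap.ker p).subtype.lTensor R' κ₁) := by
    rw [smul_sub, ← hκ]; abel
  obtain ⟨g, hg⟩ := exists_smul_of_tmul_eq (M →₀ R) hq n _ _ h2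
  have h3 : f ^ n • (x' - (LinearMap.ker p).subtype.lTensor R' κ₁ - (1 : R') ⊗ₜ[R] g) = 0 := by
    rw [smul_sub, ← h2, hg, TensorProduct.tmul_smul, sub_self]
  obtain ⟨t, ht, ht'⟩ := free_torsion_surjective hsurj M _ ⟨n, h3⟩
  have h4 : x' = (LinearMap.ker p).subtype.lTensor R' κ₁ + (1 : R') ⊗ₜ[R] (g + t) := by
    rw [tmul_add, ht']; abel
  refine ⟨p g + p t, ?_, ?_⟩
  · apply (tors f M).add_mem
    · refine ⟨n, ?_⟩
      rw [← map_smul, ← hg]
      exact k.2
    · exact map_mem_tors p ht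
  · rw [h4, map_add, (hex _).2 ⟨κ₁, rfl⟩, zero_add, LinearMap.lTensor_tmul, map_add]

end Groth.Agent.H2.BL
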