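import Groth.Agent.Lib.Helper2.BLEss

/-!
# Beauville–Laszlo: the glued algebra

`glueAlg φ = {(x, y) ∈ A' × A₁ | φ (x/1) = 1 ⊗ y}` as a subalgebra of `A' × A₁`, and its comparison
with the glued module `glue (alphaOf φ)`.
-/

namespace Groth.Agent.H2.BL
open TensorProduct
universe u
variable {R R' : Type u} [CommRing R] [CommRing R'] [Algebra R R'] {f : R}
variable {A₁ : Type u} [CommRing A₁] [Algebra R A₁]
variable {A' : Type u} [CommRing A'] [Algebra R A'] [Algebra R' A'] [IsScalarTower R R' A']

instance isLocalization_away_tower :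
    IsLocalization (Algebra.algebraMapSubmonoid A' (Submonoid.powers (algebraMap R R' f)))
      (Localization.Away (algebraMap R A' f)) := by
  have : Algebra.algebraMapSubmonoid A' (Submonoid.powers (algebraMap R R' f)) =
      Submonoid.powers (algebraMap R A' f) := by
    rw [Algebra.algebraMapSubmonoid, Submonoid.map_powers, ← IsScalarTower.algebraMap_apply]
  rw [this]; infer_instance

variable (φ : Localization.Away (algebraMap R A' f) ≃ₐ[R'] R' ⊗[R] A₁)

/-- The module-level isomorphism induced by `φ`. -/
noncomputable def alphaOf :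
    LocalizedModule (Submonoid.powers (algebraMap R R' f)) A' ≃ₗ[R'] R' ⊗[R] A₁ :=
  (IsLocalizedModule.iso (Submonoid.powers (algebraMap R R' f))
    (IsScalarTower.toAlgHom R' A' (Localization.Away (algebraMap R A' f))).toLinearMap).trans
    φ.toLinearEquiv

theorem alphaOf_apply (x : A') :
    alphaOf φ (LocalizedModule.mkLinearMap (Submonoid.powers (algebraMap R R' f)) A' x) =
      φ (algebraMap A' (Localization.Away (algebraMap R A' f)) x) := by
  rw [alphaOf, LinearEquiv.trans_apply, LocalizedModule.mkLinearMap_apply,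
    IsLocalizedModule.iso_mk_one]
  rfl

/-- The glued algebra `{(x, y) ∈ A' × A₁ | φ (x/1) = 1 ⊗ y}`. -/
def glueAlg : Subalgebra R (A' × A₁) where
  carrier := {p | φ (algebraMap A' (Localization.Away (algebraMap R A' f)) p.1) = (1 : R') ⊗ₜ[R] p.2}
  mul_mem' := by
    intro a b ha hb
    simp only [Set.mem_ofPred_eq] at ha hb ⊢
    rw [Prod.fst_mul, Prod.snd_mul, map_mul, map_mul, ha, hb, Algebra.TensorProduct.tmul_mul_tmul,
      mul_one]
  add_mem' := by
    intro a b ha hb
    simp only [Set.mem_ofPred_eq] at ha hb ⊢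
    rw [Prod.fst_add, Prod.snd_add, map_add, map_add, ha, hb, tmul_add]
  algebraMap_mem' := by
    intro r
    simp only [Set.mem_ofPred_eq]
    rw [Prod.algebraMap_apply]
    simp only
    rw [← IsScalarTower.algebraMap_apply R A', IsScalarTower.algebraMap_apply R R'
      (Localization.Away (algebraMap R A' f)), AlgEquiv.commutes,
      Algebra.TensorProduct.algebraMap_apply, Algebra.algebraMap_self_apply,
      Algebra.algebraMap_eq_smul_one r, Algebra.algebraMap_eq_smul_one r, TensorProduct.smul_tmul]

theorem mem_glueAlg (p : A' × A₁) : p ∈ glueAlg φ ↔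
    φ (algebraMap A' (Localization.Away (algebraMap R A' f)) p.1) = (1 : R') ⊗ₜ[R] p.2 := Iff.rfl

/-- The underlying module of the glued algebra is the glued module. -/
def glueAlgEquiv : glueAlg φ ≃ₗ[R] glue (alphaOf φ) where
  toFun a := ⟨a.1, (mem_glue _ _).2 (by rw [alphaOf_apply]; exact a.2)⟩
  invFun m := ⟨m.1, by have := m.2; rw [mem_glue, alphaOf_apply] at this; exact this⟩
  map_add' _ _ := rfl
  map_smul' _ _ := rfl
  left_inv _ := rfl
  right_inv _ := rfl

/-- First projection as an algebra map. -/
def glueAlgFst : glueAlg φ →ₐ[R] A' := (AlgHom.fst R A' A₁).comp (glueAlg φ).val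

/-- Second projection as an algebra map. -/
def glueAlgSnd : glueAlg φ →ₐ[R] A₁ := (AlgHom.snd R A' A₁).comp (glueAlg φ).val

theorem glueAlg_spec (a : glueAlg φ) :
    φ (algebraMap A' (Localization.Away (algebraMap R A' f)) (glueAlgFst φ a)) =
      (1 : R') ⊗ₜ[R] glueAlgSnd φ a := a.2

end Groth.Agent.H2.BL
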