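import Groth.Agent.Lib.Helper2.BLSurj

/-!
# Beauville–Laszlo: the glued module

For `α : (M')_f ≃ R' ⊗ M₁`, `glue α = {(x, y) ∈ M' × M₁ | α (x/1) = 1 ⊗ y}` with projections
`glueFst`, `glueSnd`; `glueSnd` is a localization at `f` when `f` is bijective on `M₁`.
-/

namespace Groth.Agent.H2.BL
open TensorProduct
universe u
variable {R R' : Type u} [CommRing R] [CommRing R'] [Algebra R R'] {f : R}
variable {M' : Type u} [AddCommGroup M'] [Module R M'] [Module R' M'] [IsScalarTower R R' M']
variable {M₁ : Type u} [AddCommGroup M₁] [Module R M₁]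
variable (α : LocalizedModule (Submonoid.powers (algebraMap R R' f)) M' ≃ₗ[R'] R' ⊗[R] M₁)

/-- The glued module `{(x, y) ∈ M' × M₁ | α (x/1) = 1 ⊗ y}`. -/
def glue : Submodule R (M' × M₁) where
  carrier := {p | α (LocalizedModule.mkLinearMap (Submonoid.powers (algebraMap R R' f)) M' p.1) =
    (1 : R') ⊗ₜ[R] p.2}
  zero_mem' := by simp
  add_mem' := by
    intro a b ha hb
    simp only [Set.mem_ofPred_eq] at ha hb ⊢
    rw [Prod.fst_add, Prod.snd_add, map_add, map_add, ha, hb, tmul_add]
  smul_mem' := by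
    intro c a ha
    simp only [Set.mem_ofPred_eq] at ha ⊢
    rw [Prod.smul_fst, Prod.smul_snd, ← algebraMap_smul R' c a.1, map_smul, map_smul, ha,
      TensorProduct.tmul_smul, algebraMap_smul]

theorem mem_glue (p : M' × M₁) : p ∈ glue α ↔
    α (LocalizedModule.mkLinearMap (Submonoid.powers (algebraMap R R' f)) M' p.1) =
      (1 : R') ⊗ₜ[R] p.2 := Iff.rfl

/-- First projection. -/
def glueFst : glue α →ₗ[R] M' := (LinearMap.fst R M' M₁).comp (glue α).subtype

/-- Second projection. -/
def glueSnd : glue α →ₗ[R] M₁ := (LinearMap.snd R M' M₁).comp (glue α).subtype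

theorem glue_spec (m : glue α) :
    α (LocalizedModule.mkLinearMap (Submonoid.powers (algebraMap R R' f)) M' (glueFst α m)) =
      (1 : R') ⊗ₜ[R] glueSnd α m := m.2

theorem glue_ext {m m' : glue α} (h1 : glueFst α m = glueFst α m') (h2 : glueSnd α m = glueSnd α m') :
    m = m' := Subtype.ext (Prod.ext h1 h2)

/-- Every `y : M₁` has a multiple `f^n y` which is the second component of an element of `glue`. -/
theorem exists_glue_snd (y : M₁) : ∃ (n : ℕ) (m : glue α), glueSnd α m = f ^ n • y := by
  induction h : α.symm ((1 : R') ⊗ₜ[R] y) using LocalizedModule.induction_on with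
  | h x₀ s =>
  obtain ⟨_, n, rfl⟩ := s
  refine ⟨n, ⟨(x₀, f ^ n • y), ?_⟩, rfl⟩
  rw [mem_glue]
  have h2 : LocalizedModule.mkLinearMap (Submonoid.powers (algebraMap R R' f)) M' x₀ =
      (algebraMap R R' f) ^ n • α.symm ((1 : R') ⊗ₜ[R] y) := by
    rw [h, LocalizedModule.smul'_mk]
    exact (LocalizedModule.mk_cancel
      (⟨algebraMap R R' f ^ n, n, rfl⟩ : Submonoid.powers (algebraMap R R' f)) x₀).symm
  simp only
  rw [h2, map_smul, LinearEquiv.apply_symm_apply, TensorProduct.tmul_smul, ← map_pow,
    algebraMap_smul]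

theorem bijective_pow_smul (hf : Function.Bijective fun x : M₁ => f • x) (n : ℕ) :
    Function.Bijective fun x : M₁ => f ^ n • x := by
  induction n with
  | zero => simp only [pow_zero, one_smul]; exact Function.bijective_id
  | succ n ih =>
    have : (fun x : M₁ => f ^ (n + 1) • x) = (fun x : M₁ => f ^ n • x) ∘ (fun x : M₁ => f • x) := by
      ext x; simp [pow_succ, mul_smul]
    rw [this]
    exact ih.comp hf

theorem glueSnd_isLocalizedModule (hf : Function.Bijective fun x : M₁ => f • x) :
    IsLocalizedModule (Submonoid.powers f) (glueSnd α) where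
  map_units := by
    rintro ⟨_, n, rfl⟩
    rw [Module.End.isUnit_iff]
    exact bijective_pow_smul hf n
  surj := by
    intro y
    obtain ⟨n, m, hm⟩ := exists_glue_snd α y
    exact ⟨⟨m, ⟨f ^ n, n, rfl⟩⟩, hm.symm⟩
  exists_of_eq := by
    intro m m' h
    have h1 : α (LocalizedModule.mkLinearMap (Submonoid.powers (algebraMap R R' f)) M'
        (glueFst α m - glueFst α m')) = 0 := by
      rw [map_sub, map_sub, glue_spec, glue_spec, h, sub_self]
    rw [LinearEquiv.map_eq_zero_iff, IsLocalizedModule.eq_zero_iff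
      (Submonoid.powers (algebraMap R R' f))] at h1
    obtain ⟨⟨_, n, rfl⟩, hn⟩ := h1
    refine ⟨⟨f ^ n, n, rfl⟩, ?_⟩
    apply glue_ext
    · simp only [Submonoid.smul_def, map_smul]
      simp only [Submonoid.smul_def, smul_sub, sub_eq_zero] at hn
      rw [← algebraMap_smul R' (f ^ n), ← algebraMap_smul R' (f ^ n), map_pow, hn]
    · simp only [Submonoid.smul_def, map_smul, h]

end Groth.Agent.H2.BL
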