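import Groth.Agent.Lib.Helper2.BLFlat

/-!
# Beauville–Laszlo: finite projective modules descend (`finite_projective_of`)
-/

namespace Groth.Agent.H2.BL
open TensorProduct
universe u

section gen
variable {R A : Type*} [CommRing R] [CommRing A] [Algebra R A]
variable {L F M : Type*} [AddCommGroup L] [AddCommGroup F] [AddCommGroup M]
  [Module R L] [Module R F] [Module R M]

/-- If `A ⊗ M` is finitely presented and `0 → A ⊗ L → A ⊗ F → A ⊗ M → 0` is exact with `F` finite,
then `A ⊗ L` is finite. -/
theorem finite_baseChange_ker [Module.Finite R F] [Module.FinitePresentation A (A ⊗[R] M)]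
    (d : L →ₗ[R] F) (ε : F →ₗ[R] M) (hdε : Function.Exact d ε) (hε : Function.Surjective ε)
    (hA : Function.Injective (d.lTensor A)) : Module.Finite A (A ⊗[R] L) := by
  have hex : Function.Exact (d.baseChange A) (ε.baseChange A) := by
    have := lTensor_exact A hdε hε
    intro x
    simpa only [LinearMap.baseChange_eq_ltensor] using this x
  have hsurj : Function.Surjective (ε.baseChange A) := by
    have := LinearMap.lTensor_surjective A hε
    intro y
    obtain ⟨x, hx⟩ := this y
    exact ⟨x, by simpa only [LinearMap.baseChange_eq_ltensor] using hx⟩
  have hinj : Function.Injective (d.baseChange A) := by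
    intro x y hxy
    apply hA
    simpa only [LinearMap.baseChange_eq_ltensor] using hxy
  have hfg := Module.FinitePresentation.fg_ker (ε.baseChange A) hsurj
  rw [LinearMap.exact_iff.1 hex] at hfg
  have : Module.Finite A (LinearMap.range (d.baseChange A)) := Module.Finite.iff_fg.2 hfg
  exact Module.Finite.equiv (LinearEquiv.ofInjective (d.baseChange A) hinj).symm

end gen

variable {R R' : Type u} [CommRing R] [CommRing R'] [Algebra R R'] {f : R}

/-- Finite projectivity descends along a glueing pair. -/
theorem finite_projective_of (hRR : EtGlue.IsGlueingPair R R' f) (M : Type u) [AddCommGroup M]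
    [Module R M] [Module.Finite R' (R' ⊗[R] M)] [Module.Projective R' (R' ⊗[R] M)]
    [Module.Finite (Localization.Away f) (LocalizedModule (Submonoid.powers f) M)]
    [Module.Projective (Localization.Away f) (LocalizedModule (Submonoid.powers f) M)] :
    Module.Finite R M ∧ Module.Projective R M := by
  have hq := hRR.1
  have hfin : Module.Finite R M := finite_of_finite M hq
  have hflat : Module.Flat R M := flat_of_flat hRR M
  refine ⟨hfin, ?_⟩
  obtain ⟨n, ε, hε⟩ := Module.Finite.exists_fin' R M
  obtain ⟨L, _, _, d, hd, hdε⟩ : ∃ (L : Type u) (_ : AddCommGroup L) (_ : Module R L)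
      (d : L →ₗ[R] (Fin n → R)), Function.Injective d ∧ Function.Exact d ε :=
    ⟨LinearMap.ker ε, inferInstance, inferInstance, (LinearMap.ker ε).subtype,
      Submodule.subtype_injective _, LinearMap.exact_subtype_ker_map _⟩
  -- `R' ⊗ L` finite
  have fp' : Module.FinitePresentation R' (R' ⊗[R] M) := Module.finitePresentation_of_projective _ _
  have h1 : Module.Finite R' (R' ⊗[R] L) :=
    finite_baseChange_ker d ε hdε hε (LinearMap.lTensor_injective_of_exact_of_flat ε hε d hd hdε R')
  -- `L_f` finite
  have e := LocalizedModule.equivTensorProduct (Submonoid.powers f) M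
  have : Module.Finite (Localization.Away f) (Localization.Away f ⊗[R] M) :=
    Module.Finite.equiv e
  have : Module.Projective (Localization.Away f) (Localization.Away f ⊗[R] M) :=
    Module.Projective.of_equiv e
  have fpf : Module.FinitePresentation (Localization.Away f) (Localization.Away f ⊗[R] M) :=
    Module.finitePresentation_of_projective _ _
  have h2 : Module.Finite (Localization.Away f) (Localization.Away f ⊗[R] L) :=
    finite_baseChange_ker d ε hdε hε
      (LinearMap.lTensor_injective_of_exact_of_flat ε hε d hd hdε (Localization.Away f))
  have h3 : Module.Finite (Localization.Away f) (LocalizedModule (Submonoid.powers f) L) :=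
    Module.Finite.equiv (LocalizedModule.equivTensorProduct (Submonoid.powers f) L).symm
  have hL : Module.Finite R L := finite_of_finite L hq
  have hker : (LinearMap.ker ε).FG := by
    rw [LinearMap.exact_iff.1 hdε, LinearMap.range_eq_map]
    exact (Module.Finite.fg_top).map d
  have hfp : Module.FinitePresentation R M := Module.finitePresentation_of_surjective ε hε hker
  exact Module.Flat.projective_of_finitePresentation

end Groth.Agent.H2.BL
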