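import Groth.Agent.Lib.Helper2.BLFinite

/-!
# Beauville–Laszlo: surjectivity descends (`surjective_of_lTensor_surjective`)
-/

namespace Groth.Agent.H2.BL
open TensorProduct
universe u
variable {R R' : Type u} [CommRing R] [CommRing R'] [Algebra R R'] {f : R}

/-- Surjectivity of a linear map can be checked after `R' ⊗ -` and up to `f`-power torsion. -/
theorem surjective_of_lTensor_surjective (hq : EtGlue.QuotPowBijective R R' f)
    {M N : Type u} [AddCommGroup M] [Module R M] [AddCommGroup N] [Module R N] (g : M →ₗ[R] N)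
    (h1 : ∀ n : N, ∃ k : ℕ, f ^ k • n ∈ LinearMap.range g)
    (h2 : Function.Surjective (g.lTensor R')) : Function.Surjective g := by
  have h4 : ∀ p : N ⧸ LinearMap.range g, ∃ n : ℕ, f ^ n • p = 0 := by
    intro p
    obtain ⟨m, rfl⟩ := Submodule.Quotient.mk_surjective _ p
    obtain ⟨n, hn⟩ := h1 m
    exact ⟨n, by rw [← Submodule.Quotient.mk_smul, Submodule.Quotient.mk_eq_zero]; exact hn⟩
  have h3 : Subsingleton (R' ⊗[R] (N ⧸ LinearMap.range g)) := by
    refine ⟨fun a b => ?_⟩
    have key : ∀ a : R' ⊗[R] (N ⧸ LinearMap.range g), a = 0 := by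
      intro a
      obtain ⟨a, rfl⟩ := LinearMap.lTensor_surjective R' (LinearMap.range g).mkQ_surjective a
      obtain ⟨a, rfl⟩ := h2 a
      rw [← LinearMap.comp_apply, ← LinearMap.lTensor_comp, LinearMap.range_mkQ_comp,
        LinearMap.lTensor_zero, LinearMap.zero_apply]
    rw [key a, key b]
  have h5 := subsingleton_of_torsion_of_tensor hq h4 h3
  rw [Submodule.Quotient.subsingleton_iff] at h5
  exact LinearMap.range_eq_top.1 h5

end Groth.Agent.H2.BL
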