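import Groth.Agent.Lib.Helper2.TorOne
import Groth.Agent.Lib.Helper2.BLFlatPrep

/-!
# Beauville–Laszlo: `Tor_1^R(R', X) = 0` when `X_f` is flat over `R_f`
-/

namespace Groth.Agent.H2.BL
open TensorProduct CategoryTheory
universe u
variable {R R' : Type u} [CommRing R] [CommRing R'] [Algebra R R'] {f : R}

theorem subsingleton_tor_one_of_flat_away (hRR : EtGlue.IsGlueingPair R R' f)
    (X : Type u) [AddCommGroup X] [Module R X]
    [Module.Flat (Localization.Away f) (Localization.Away f ⊗[R] X)] :
    Subsingleton (((Tor (ModuleCat.{u} R) 1).obj (ModuleCat.of R R')).obj (ModuleCat.of R X)) := by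
  obtain ⟨L, _, _, d, ε, hd, hdε, hε⟩ : ∃ (L : Type u) (_ : AddCommGroup L) (_ : Module R L)
      (d : L →ₗ[R] (X →₀ R)) (ε : (X →₀ R) →ₗ[R] X),
      Function.Injective d ∧ Function.Exact d ε ∧ Function.Surjective ε :=
    ⟨LinearMap.ker (Finsupp.linearCombination R (id : X → X)), inferInstance, inferInstance,
      (LinearMap.ker (Finsupp.linearCombination R (id : X → X))).subtype,
      Finsupp.linearCombination R id, Submodule.subtype_injective _,
      LinearMap.exact_subtype_ker_map _, Finsupp.linearCombination_id_surjective R X⟩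
  exact TorOne.subsingleton_tor_one R' X d ε hdε hε (stepB hRR d ε hd hdε hε)

/-- `R_f ⊗ X = 0` for `f`-power torsion `X`. -/
theorem subsingleton_away_tensor_of_torsion (X : Type u) [AddCommGroup X] [Module R X]
    (hX : ∀ x : X, ∃ n : ℕ, f ^ n • x = 0) :
    Subsingleton (Localization.Away f ⊗[R] X) := by
  have : Subsingleton (LocalizedModule (Submonoid.powers f) X) := by
    refine ⟨fun a b => ?_⟩
    have h0 : ∀ a : LocalizedModule (Submonoid.powers f) X, a = 0 := by
      intro a
      induction a using LocalizedModule.induction_on with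
      | h x s =>
        obtain ⟨n, hn⟩ := hX x
        rw [← LocalizedModule.zero_mk s, LocalizedModule.mk_eq]
        exact ⟨⟨f ^ n, n, rfl⟩, by
          simp only [Submonoid.smul_def, smul_zero]
          rw [smul_comm, hn, smul_zero]⟩
    rw [h0 a, h0 b]
  exact (LocalizedModule.equivTensorProduct (Submonoid.powers f) X).symm.subsingleton

theorem flat_away_of_torsion (X : Type u) [AddCommGroup X] [Module R X]
    (hX : ∀ x : X, ∃ n : ℕ, f ^ n • x = 0) :
    Module.Flat (Localization.Away f) (Localization.Away f ⊗[R] X) := by
  have := subsingleton_away_tensor_of_torsion X hX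
  infer_instance

section bij
variable {X Y : Type u} [AddCommGroup X] [Module R X] [AddCommGroup Y] [Module R Y]

theorem baseChange_away_bijective_of_surjective (g : X →ₗ[R] Y) (hg : Function.Surjective g)
    (hker : ∀ x : X, g x = 0 → ∃ n : ℕ, f ^ n • x = 0) :
    Function.Bijective (g.baseChange (Localization.Away f)) := by
  have hsub : Subsingleton (Localization.Away f ⊗[R] LinearMap.ker g) :=
    subsingleton_away_tensor_of_torsion _ (fun ⟨x, hx⟩ => by
      obtain ⟨n, hn⟩ := hker x hx
      exact ⟨n, Subtype.ext hn⟩)
  have h0 := LinearMap.exact_subtype_ker_map g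
  have hex := lTensor_exact (Localization.Away f) h0 hg
  constructor
  · rw [injective_iff_map_eq_zero]
    intro z hz
    obtain ⟨w, rfl⟩ := (hex z).1 hz
    rw [Subsingleton.elim w 0, map_zero]
  · exact LinearMap.lTensor_surjective _ hg

theorem baseChange_away_bijective_of_injective (g : X →ₗ[R] Y) (hg : Function.Injective g)
    (hcoker : ∀ y : Y, ∃ n : ℕ, f ^ n • y ∈ LinearMap.range g) :
    Function.Bijective (g.baseChange (Localization.Away f)) := by
  have hsub : Subsingleton (Localization.Away f ⊗[R] (Y ⧸ LinearMap.range g)) :=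
    subsingleton_away_tensor_of_torsion _ (fun y => by
      obtain ⟨y, rfl⟩ := Submodule.Quotient.mk_surjective _ y
      obtain ⟨n, hn⟩ := hcoker y
      exact ⟨n, by rw [← Submodule.Quotient.mk_smul, Submodule.Quotient.mk_eq_zero]; exact hn⟩)
  have hex := lTensor_exact (Localization.Away f) (LinearMap.exact_map_mkQ_range g)
    (Submodule.mkQ_surjective _)
  constructor
  · exact Module.Flat.lTensor_preserves_injective_linearMap g hg
  · intro z
    exact (hex z).1 (Subsingleton.elim _ _)

theorem flat_away_of_bijective (g : X →ₗ[R] Y)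
    (hg : Function.Bijective (g.baseChange (Localization.Away f)))
    [Module.Flat (Localization.Away f) (Localization.Away f ⊗[R] Y)] :
    Module.Flat (Localization.Away f) (Localization.Away f ⊗[R] X) :=
  Module.Flat.of_linearEquiv (LinearEquiv.ofBijective _ hg)

end bij

end Groth.Agent.H2.BL
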