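import Mathlib

/-!
# Asymptotics of `∑_{i<n} (n-i)^a i^j` (S19210)
-/

namespace Groth.Agent.H2.BetaSum

open Finset

/-- the sum -/
noncomputable def F (a j n : ℕ) : ℝ := ∑ i ∈ range n, ((n : ℝ) - (i : ℝ)) ^ a * (i : ℝ) ^ j

/-- the constant -/
noncomputable def c (a j : ℕ) : ℝ := (a.factorial : ℝ) * (j.factorial : ℝ) / ((a + j + 1).factorial : ℝ)

lemma c_succ (a j : ℕ) : c (a + 1) j = c a j - c a (j + 1) := by
  unfold c
  have h1 : a + 1 + j + 1 = (a + j + 1) + 1 := by ring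
  have h2 : a + (j + 1) + 1 = (a + j + 1) + 1 := by ring
  rw [h1, h2, Nat.factorial_succ (a + j + 1), Nat.factorial_succ a, Nat.factorial_succ j]
  have h3 : ((a + j + 1).factorial : ℝ) ≠ 0 := by positivity
  push_cast
  field_simp
  ring

lemma F_succ (a j n : ℕ) : F (a + 1) j n = n * F a j n - F a (j + 1) n := by
  unfold F
  rw [mul_sum, ← sum_sub_distrib]
  apply sum_congr rfl
  intro i _
  ring

lemma pow_sum_bound (l n : ℕ) : |∑ i ∈ range n, (i : ℝ) ^ l| ≤ (n : ℝ) ^ (l + 1) := by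
  rw [abs_of_nonneg (sum_nonneg (fun i _ => by positivity))]
  calc ∑ i ∈ range n, (i : ℝ) ^ l ≤ ∑ _i ∈ range n, (n : ℝ) ^ l := by
        apply sum_le_sum
        intro i hi
        have : (i : ℝ) ≤ n := by exact_mod_cast (mem_range.1 hi).le
        exact pow_le_pow_left₀ (by positivity) this l
    _ = (n : ℝ) ^ (l + 1) := by
        rw [sum_const, card_range, nsmul_eq_mul, pow_succ]; ring

lemma base (j : ℕ) : ∃ C : ℝ, ∀ n : ℕ, 1 ≤ n →
    |F 0 j n - c 0 j * (n : ℝ) ^ (0 + j + 1)| ≤ C * (n : ℝ) ^ (0 + j) := by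
  refine ⟨(2 : ℝ) ^ (j + 1), fun n hn => ?_⟩
  have hn' : (1 : ℝ) ≤ n := by exact_mod_cast hn
  have hF : F 0 j n = ∑ i ∈ range n, (i : ℝ) ^ j := by
    unfold F; simp
  have hc : c 0 j = 1 / ((j : ℝ) + 1) := by
    unfold c
    rw [zero_add, Nat.factorial_succ]
    have : (j.factorial : ℝ) ≠ 0 := by positivity
    push_cast
    field_simp
    simp
  -- telescoping
  have htel : ∑ i ∈ range n, (((i : ℝ) + 1) ^ (j + 1) - (i : ℝ) ^ (j + 1)) = (n : ℝ) ^ (j + 1) := by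
    have := Finset.sum_range_sub (fun i : ℕ => (i : ℝ) ^ (j + 1)) n
    simp only [Nat.cast_add, Nat.cast_one, Nat.cast_zero] at this
    rw [this]
    simp
  have hexp : ∀ i : ℕ, ((i : ℝ) + 1) ^ (j + 1) - (i : ℝ) ^ (j + 1) =
      ((j : ℝ) + 1) * (i : ℝ) ^ j + ∑ l ∈ range j, (i : ℝ) ^ l * ((j + 1).choose l : ℝ) := by
    intro i
    rw [add_pow, sum_range_succ, sum_range_succ]
    simp only [one_pow, mul_one, Nat.choose_self, Nat.cast_one, Nat.choose_succ_self_right,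
      Nat.cast_add]
    ring
  have hsum : (n : ℝ) ^ (j + 1) = ((j : ℝ) + 1) * ∑ i ∈ range n, (i : ℝ) ^ j +
      ∑ l ∈ range j, ((j + 1).choose l : ℝ) * ∑ i ∈ range n, (i : ℝ) ^ l := by
    rw [← htel]
    simp only [hexp]
    rw [sum_add_distrib, ← mul_sum, sum_comm]
    congr 1
    apply sum_congr rfl
    intro l _
    rw [mul_sum]
    apply sum_congr rfl
    intro i _
    ring
  have hj1 : (0 : ℝ) < (j : ℝ) + 1 := by positivity
  have hdiff : F 0 j n - c 0 j * (n : ℝ) ^ (0 + j + 1) =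
      - (1 / ((j : ℝ) + 1)) * ∑ l ∈ range j, ((j + 1).choose l : ℝ) * ∑ i ∈ range n, (i : ℝ) ^ l := by
    rw [hF, hc, zero_add, hsum]
    field_simp
    ring
  rw [hdiff, abs_mul, abs_neg]
  have h1 : |1 / ((j : ℝ) + 1)| ≤ 1 := by
    rw [abs_of_pos (by positivity)]
    rw [div_le_one hj1]
    linarith [(Nat.cast_nonneg j : (0 : ℝ) ≤ j)]
  have h2 : |∑ l ∈ range j, ((j + 1).choose l : ℝ) * ∑ i ∈ range n, (i : ℝ) ^ l| ≤
      (2 : ℝ) ^ (j + 1) * (n : ℝ) ^ (0 + j) := by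
    calc |∑ l ∈ range j, ((j + 1).choose l : ℝ) * ∑ i ∈ range n, (i : ℝ) ^ l|
        ≤ ∑ l ∈ range j, |((j + 1).choose l : ℝ) * ∑ i ∈ range n, (i : ℝ) ^ l| :=
          abs_sum_le_sum_abs _ _
      _ ≤ ∑ l ∈ range j, ((j + 1).choose l : ℝ) * (n : ℝ) ^ (0 + j) := by
          apply sum_le_sum
          intro l hl
          rw [abs_mul, abs_of_nonneg (by positivity : (0 : ℝ) ≤ ((j + 1).choose l : ℝ))]
          apply mul_le_mul_of_nonneg_left _ (by positivity)
          refine (pow_sum_bound l n).trans ?_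
          apply pow_le_pow_right₀ hn'
          have := mem_range.1 hl
          omega
      _ ≤ ∑ l ∈ range (j + 2), ((j + 1).choose l : ℝ) * (n : ℝ) ^ (0 + j) := by
          apply sum_le_sum_of_subset_of_nonneg
          · intro l hl
            rw [mem_range] at hl ⊢
            omega
          · intro l _ _
            positivity
      _ = (2 : ℝ) ^ (j + 1) * (n : ℝ) ^ (0 + j) := by
          rw [← sum_mul]
          congr 1
          have := Nat.sum_range_choose (j + 1)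
          exact_mod_cast this
  calc |1 / ((j : ℝ) + 1)| * |∑ l ∈ range j, ((j + 1).choose l : ℝ) * ∑ i ∈ range n, (i : ℝ) ^ l|
      ≤ 1 * ((2 : ℝ) ^ (j + 1) * (n : ℝ) ^ (0 + j)) :=
        mul_le_mul h1 h2 (abs_nonneg _) (by norm_num)
    _ = (2 : ℝ) ^ (j + 1) * (n : ℝ) ^ (0 + j) := one_mul _

theorem main (a : ℕ) : ∀ j : ℕ, ∃ C : ℝ, ∀ n : ℕ, 1 ≤ n →
    |F a j n - c a j * (n : ℝ) ^ (a + j + 1)| ≤ C * (n : ℝ) ^ (a + j) := by
  induction a with
  | zero => exact base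
  | succ a ih =>
    intro j
    obtain ⟨C₁, h₁⟩ := ih j
    obtain ⟨C₂, h₂⟩ := ih (j + 1)
    refine ⟨C₁ + C₂, fun n hn => ?_⟩
    have e : F (a + 1) j n - c (a + 1) j * (n : ℝ) ^ (a + 1 + j + 1) =
        n * (F a j n - c a j * (n : ℝ) ^ (a + j + 1)) -
          (F a (j + 1) n - c a (j + 1) * (n : ℝ) ^ (a + (j + 1) + 1)) := by
      rw [F_succ, c_succ]
      have h1 : a + 1 + j + 1 = (a + j + 1) + 1 := by ring
      have h2 : a + (j + 1) + 1 = (a + j + 1) + 1 := by ring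
      rw [h1, h2, pow_succ]
      ring
    rw [e]
    have hn0 : (0 : ℝ) ≤ n := by positivity
    calc |(n : ℝ) * (F a j n - c a j * (n : ℝ) ^ (a + j + 1)) -
          (F a (j + 1) n - c a (j + 1) * (n : ℝ) ^ (a + (j + 1) + 1))|
        ≤ |(n : ℝ) * (F a j n - c a j * (n : ℝ) ^ (a + j + 1))| +
          |F a (j + 1) n - c a (j + 1) * (n : ℝ) ^ (a + (j + 1) + 1)| := abs_sub _ _
      _ ≤ (n : ℝ) * (C₁ * (n : ℝ) ^ (a + j)) + C₂ * (n : ℝ) ^ (a + (j + 1)) := by
          rw [abs_mul, abs_of_nonneg hn0]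
          exact add_le_add (mul_le_mul_of_nonneg_left (h₁ n hn) hn0) (h₂ n hn)
      _ = (C₁ + C₂) * (n : ℝ) ^ (a + 1 + j) := by
          have h1 : a + 1 + j = (a + j) + 1 := by ring
          have h2 : a + (j + 1) = (a + j) + 1 := by ring
          rw [h1, h2, pow_succ]
          ring

end Groth.Agent.H2.BetaSum
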