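import Mathlib

/-! Regrouping an alternating sum over basis vectors by degree (graded Betti numbers), and the
recursion recovering the alternating Betti sums from the Hilbert function. -/

namespace Groth.Agent.H2.BettiSum

open Finset

lemma sum_eq_sum_card_filter {n : ℕ} (deg : Fin n → ℤ) (J : Finset ℤ) (hJ : ∀ b, deg b ∈ J)
    (f : ℤ → ℤ) :
    ∑ b, f (deg b) = ∑ j ∈ J, ((univ.filter fun b : Fin n => deg b = j).card : ℤ) * f j := by
  have h1 : ∀ j, ((univ.filter fun b : Fin n => deg b = j).card : ℤ) * f j =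
      ∑ b : Fin n, if deg b = j then f j else 0 := by
    intro j
    rw [Finset.card_filter]
    push_cast
    rw [Finset.sum_mul]
    refine Finset.sum_congr rfl (fun b _ => ?_)
    split_ifs <;> simp
  simp_rw [h1]
  rw [Finset.sum_comm]
  refine Finset.sum_congr rfl (fun b _ => ?_)
  rw [Finset.sum_eq_single (deg b)]
  · simp
  · intro j _ hj
    rw [if_neg (Ne.symm hj)]
  · intro h
    exact absurd (hJ b) h

variable (m : ℕ) (rk : ℕ → ℕ) (deg : (i : ℕ) → Fin (rk i) → ℤ)

/-- the alternating sums of graded Betti numbers -/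
def B (j : ℤ) : ℤ :=
  ∑ i ∈ range (m + 1), (-1 : ℤ) ^ i * ((univ.filter fun b : Fin (rk i) => deg i b = j).card : ℤ)

/-- the finite set of degrees that occur -/
def J : Finset ℤ := (range (m + 1)).biUnion (fun i => univ.image (deg i))

lemma B_eq_zero_of_notMem (j : ℤ) (hj : j ∉ J m rk deg) : B m rk deg j = 0 := by
  unfold B
  refine Finset.sum_eq_zero (fun i hi => ?_)
  have : (univ.filter fun b : Fin (rk i) => deg i b = j) = ∅ := by
    rw [Finset.filter_eq_empty_iff]
    intro b _ hb
    apply hj
    unfold J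
    rw [Finset.mem_biUnion]
    exact ⟨i, hi, Finset.mem_image.2 ⟨b, Finset.mem_univ b, hb⟩⟩
  rw [this]
  simp

theorem hilbert_regroup (c : ℤ → ℤ → ℤ) (h : ℤ → ℤ)
    (hh : ∀ d, h d = ∑ i ∈ range (m + 1), (-1 : ℤ) ^ i * ∑ b : Fin (rk i), c d (deg i b)) (d : ℤ) :
    h d = ∑ᶠ j : ℤ, B m rk deg j * c d j := by
  rw [finsum_eq_sum_of_support_subset (s := J m rk deg)]
  · rw [hh d]
    unfold B
    simp_rw [Finset.sum_mul]
    rw [Finset.sum_comm]
    refine Finset.sum_congr rfl (fun i hi => ?_)
    rw [sum_eq_sum_card_filter (deg i) (J m rk deg) (fun b => by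
      unfold J
      rw [Finset.mem_biUnion]
      exact ⟨i, hi, Finset.mem_image.2 ⟨b, Finset.mem_univ b, rfl⟩⟩) (c d), Finset.mul_sum]
    refine Finset.sum_congr rfl (fun j _ => ?_)
    ring
  · intro j hj
    rw [Function.mem_support] at hj
    by_contra hJ
    apply hj
    rw [B_eq_zero_of_notMem m rk deg j (by simpa using hJ), zero_mul]

theorem betti_recursion (c : ℤ → ℤ → ℤ) (h : ℤ → ℤ)
    (hh : ∀ d, h d = ∑ i ∈ range (m + 1), (-1 : ℤ) ^ i * ∑ b : Fin (rk i), c d (deg i b))
    (hc1 : ∀ d j, d < j → c d j = 0) (hc2 : ∀ d, c d d = 1) (j : ℤ) :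
    B m rk deg j = h j - ∑ᶠ n : ℤ, if n < j then B m rk deg n * c j n else 0 := by
  have h1 := hilbert_regroup m rk deg c h hh j
  have hsupp1 : (Function.support fun n : ℤ => B m rk deg n * c j n) ⊆
      ↑(insert j (J m rk deg)) := by
    intro n hn
    rw [Function.mem_support] at hn
    by_contra hJ
    apply hn
    have : n ∉ J m rk deg := fun h' => hJ (by simp [h'])
    rw [B_eq_zero_of_notMem m rk deg n this, zero_mul]
  have hsupp2 : (Function.support fun n : ℤ => if n < j then B m rk deg n * c j n else 0) ⊆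
      ↑(insert j (J m rk deg)) := by
    intro n hn
    rw [Function.mem_support] at hn
    by_contra hJ
    apply hn
    have : n ∉ J m rk deg := fun h' => hJ (by simp [h'])
    rw [B_eq_zero_of_notMem m rk deg n this, zero_mul, ite_self]
  rw [finsum_eq_sum_of_support_subset _ hsupp1] at h1
  rw [finsum_eq_sum_of_support_subset _ hsupp2, h1]
  rw [← Finset.add_sum_erase _ _ (Finset.mem_insert_self j _),
    ← Finset.add_sum_erase _ (fun n => if n < j then B m rk deg n * c j n else 0)
      (Finset.mem_insert_self j _)]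
  rw [hc2, mul_one, if_neg (lt_irrefl j), zero_add]
  have : ∑ x ∈ (insert j (J m rk deg)).erase j, B m rk deg x * c j x =
      ∑ x ∈ (insert j (J m rk deg)).erase j, if x < j then B m rk deg x * c j x else 0 := by
    refine Finset.sum_congr rfl (fun n hn => ?_)
    have hne : n ≠ j := Finset.ne_of_mem_erase hn
    split_ifs with hlt
    · rfl
    · rw [hc1 j n (by omega), mul_zero]
  rw [this]
  ring

end Groth.Agent.H2.BettiSum
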