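import Groth.Agent.Lib.Helper2.PtsGen7

/-! Bézout (affine count), part 1: graded lemmas. (helper2, S10827) -/

namespace Groth.Agent.H2.Bez

open MvPolynomial Module

variable {k : Type*} [Field k] {σ : Type*}

/-- `hc_{i+1} (X_j q) = X_j hc_i q` and `hc_0 (X_j q) = 0`. -/
lemma hc_X_mul_succ (j : σ) (q : MvPolynomial σ k) (i : ℕ) :
    homogeneousComponent (i + 1) (X j * q) = X j * homogeneousComponent i q := by
  have := HypHilb.homogeneousComponent_mul_of_left (X j) q 1 (i + 1) (isHomogeneous_X k j)
    (by omega)
  rwa [Nat.add_sub_cancel] at this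

lemma hc_X_mul_zero (j : σ) (q : MvPolynomial σ k) :
    homogeneousComponent 0 (X j * q) = 0 :=
  PtsGen.homogeneousComponent_mul_of_left_lt (X j) q 1 0 (isHomogeneous_X k j) (by omega)

/-- Lemma A: if `T = X j` is a non-zero-divisor modulo the homogeneous ideal `J`, `h` is
homogeneous and `h - (T - 1) q ∈ J`, then `h ∈ J`. -/
theorem mem_of_sub_mem (J : Ideal (MvPolynomial σ k))
    (hhom : ∀ f ∈ J, ∀ i, homogeneousComponent i f ∈ J) (j : σ)
    (hnzd : ∀ h, X j * h ∈ J → h ∈ J)
    (N : ℕ) (h q : MvPolynomial σ k) (hh : h.IsHomogeneous N)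
    (hq : h - (X j - 1) * q ∈ J) : h ∈ J := by
  -- components
  have hcomp : ∀ i, homogeneousComponent i (h - (X j - 1) * q) ∈ J := fun i => hhom _ hq i
  have hexp : ∀ i, homogeneousComponent (i + 1) (h - (X j - 1) * q) =
      homogeneousComponent (i + 1) h - X j * homogeneousComponent i q +
        homogeneousComponent (i + 1) q := by
    intro i
    rw [sub_mul, one_mul, map_sub, map_sub, hc_X_mul_succ]
    ring
  have hexp0 : homogeneousComponent 0 (h - (X j - 1) * q) =
      homogeneousComponent 0 h + homogeneousComponent 0 q := by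
    rw [sub_mul, one_mul, map_sub, map_sub, hc_X_mul_zero]
    ring
  have hhc : ∀ i, i ≠ N → homogeneousComponent i h = 0 := by
    intro i hi
    rw [homogeneousComponent_of_mem hh, if_neg hi]
  -- low components of q
  have hlow : ∀ i, i < N → homogeneousComponent i q ∈ J := by
    intro i
    induction i with
    | zero =>
      intro hi
      have := hcomp 0
      rw [hexp0, hhc 0 (by omega), zero_add] at this
      exact this
    | succ i ih =>
      intro hi
      have h1 := hcomp (i + 1)
      rw [hexp, hhc (i + 1) (by omega), zero_sub] at h1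
      have h2 : X j * homogeneousComponent i q ∈ J := J.mul_mem_left _ (ih (by omega))
      have := J.add_mem h1 h2
      rwa [neg_add_cancel_comm] at this
  -- high components of q
  have hhigh : ∀ e i, i + e = q.totalDegree + 1 → N ≤ i → homogeneousComponent i q ∈ J := by
    intro e
    induction e with
    | zero =>
      intro i hi _
      rw [homogeneousComponent_eq_zero _ _ (by omega)]
      exact J.zero_mem
    | succ e ih =>
      intro i hi hN
      have h1 := ih (i + 1) (by omega) (by omega)
      have h2 := hcomp (i + 1)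
      rw [hexp, hhc (i + 1) (by omega), zero_sub] at h2
      have h3 : -(X j * homogeneousComponent i q) ∈ J := by
        have := J.sub_mem h2 h1
        rwa [add_sub_cancel_right] at this
      exact hnzd _ (by simpa using J.neg_mem h3)
  have hall : ∀ i, homogeneousComponent i q ∈ J := by
    intro i
    rcases Nat.lt_or_ge i N with hi | hi
    · exact hlow i hi
    · rcases Nat.lt_or_ge q.totalDegree i with hi2 | hi2
      · rw [homogeneousComponent_eq_zero _ _ hi2]
        exact J.zero_mem
      · exact hhigh (q.totalDegree + 1 - i) i (by omega) hi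
  have hqJ : q ∈ J := by
    rw [← sum_homogeneousComponent q]
    exact J.sum_mem (fun i _ => hall i)
  have := J.add_mem hq (J.mul_mem_left (X j - 1) hqJ)
  rwa [sub_add_cancel] at this

/-- an increasing chain of subspaces of constant finite dimension whose union is everything. -/
theorem finrank_of_chain {V : Type*} [AddCommGroup V] [Module k V] (W : ℕ → Submodule k V)
    (hmono : ∀ N, W N ≤ W (N + 1)) (N₀ c : ℕ) [∀ N, FiniteDimensional k (W N)]
    (hdim : ∀ N, N₀ ≤ N → finrank k (W N) = c)
    (hunion : ∀ v : V, ∃ N, v ∈ W N) : finrank k V = c := by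
  have hmono' : Monotone W := monotone_nat_of_le_succ hmono
  have heq : ∀ N, N₀ ≤ N → W N = W N₀ := by
    intro N hN
    symm
    apply Submodule.eq_of_le_of_finrank_eq (hmono' hN)
    rw [hdim N hN, hdim N₀ le_rfl]
  have htop : W N₀ = ⊤ := by
    rw [eq_top_iff]
    intro v _
    obtain ⟨N, hN⟩ := hunion v
    rcases le_total N₀ N with h | h
    · rw [← heq N h]; exact hN
    · exact hmono' h hN
  rw [← hdim N₀ le_rfl, htop, finrank_top]

end Groth.Agent.H2.Bez
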