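import Groth.Agent.Lib.Helper2.Bez1

/-! Bézout (affine count), part 2: the specialisation maps `T ↦ c`. (helper2, S10827) -/

namespace Groth.Agent.H2.Bez

open MvPolynomial Module

variable {k : Type*} [Field k]

/-- the specialisation `T ↦ c`. -/
noncomputable def ev (c : MvPolynomial (Fin 2) k) :
    MvPolynomial (Fin 3) k →ₐ[k] MvPolynomial (Fin 2) k :=
  aeval (Fin.cons (X 0) (Fin.cons (X 1) (Fin.cons c Fin.elim0)) : Fin 3 → MvPolynomial (Fin 2) k)

/-- the inclusion `k[X,Y] → k[X,Y,T]`. -/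
noncomputable def inc : MvPolynomial (Fin 2) k →ₐ[k] MvPolynomial (Fin 3) k :=
  aeval ![X 0, X 1]

@[simp] lemma ev_X0 (c : MvPolynomial (Fin 2) k) : ev c (X 0) = X 0 := by simp [ev]
@[simp] lemma ev_X1 (c : MvPolynomial (Fin 2) k) : ev c (X 1) = X 1 := by
  simp only [ev, aeval_X]
  rfl
@[simp] lemma ev_X2 (c : MvPolynomial (Fin 2) k) : ev c (X 2) = c := by
  simp only [ev, aeval_X]
  rfl
@[simp] lemma inc_X0 : inc (k := k) (X 0) = X 0 := by simp [inc]
@[simp] lemma inc_X1 : inc (k := k) (X 1) = X 1 := by simp [inc]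

lemma ev_inc (c : MvPolynomial (Fin 2) k) (p : MvPolynomial (Fin 2) k) : ev c (inc p) = p := by
  have : (ev c).comp inc = AlgHom.id k _ := by
    apply MvPolynomial.algHom_ext
    intro i
    fin_cases i <;> simp
  exact congrFun (congrArg DFunLike.coe this) p

lemma ev_surjective (c : MvPolynomial (Fin 2) k) : Function.Surjective (ev c) :=
  fun p => ⟨inc p, ev_inc c p⟩

lemma sub_inc_ev_mem (c : k) (g : MvPolynomial (Fin 3) k) :
    g - inc (ev (C c) g) ∈ Ideal.span {(X 2 - C c : MvPolynomial (Fin 3) k)} := by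
  rw [← Ideal.Quotient.eq]
  have h : (Ideal.Quotient.mkₐ k (Ideal.span {(X 2 - C c : MvPolynomial (Fin 3) k)})) =
      (Ideal.Quotient.mkₐ k (Ideal.span {(X 2 - C c : MvPolynomial (Fin 3) k)})).comp
        (inc.comp (ev (C c))) := by
    apply MvPolynomial.algHom_ext
    intro i
    fin_cases i
    · simp
    · simp
    · simp only [Fin.reduceFinMk, AlgHom.comp_apply, ev_X2, Ideal.Quotient.mkₐ_eq_mk]
      have : inc (k := k) (C c) = C c := by simp [inc]
      rw [this, Ideal.Quotient.eq]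
      exact Ideal.subset_span rfl
  exact congrFun (congrArg DFunLike.coe h) g

lemma mem_span_of_ev_eq_zero (c : k) (g : MvPolynomial (Fin 3) k) (hg : ev (C c) g = 0) :
    ∃ q, g = (X 2 - C c) * q := by
  have := sub_inc_ev_mem c g
  rw [hg, map_zero, sub_zero] at this
  obtain ⟨q, hq⟩ := Ideal.mem_span_singleton'.mp this
  exact ⟨q, by rw [← hq, mul_comm]⟩

lemma isHomogeneous_ev_zero {g : MvPolynomial (Fin 3) k} {t : ℕ} (hg : g.IsHomogeneous t) :
    (ev (0 : MvPolynomial (Fin 2) k) g).IsHomogeneous t := by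
  have := hg.aeval (S := k) (n := 1)
    (Fin.cons (X 0) (Fin.cons (X 1) (Fin.cons 0 Fin.elim0)) : Fin 3 → MvPolynomial (Fin 2) k) (by
    intro i
    fin_cases i
    · exact isHomogeneous_X k 0
    · exact isHomogeneous_X k 1
    · exact isHomogeneous_zero _ _ _)
  rw [one_mul] at this
  exact this

end Groth.Agent.H2.Bez
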