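import Groth.Agent.Lib.Helper2.Bez2

/-! Bézout (affine count), part 3: `T` is a non-zero-divisor modulo `(f, g)`. (helper2, S10827) -/

namespace Groth.Agent.H2.Bez

open MvPolynomial Module

variable {k : Type*} [Field k]

lemma ne_zero_of_isRelPrime_of_homogeneous {a b : MvPolynomial (Fin 2) k} {m : ℕ}
    (hb : b.IsHomogeneous m) (hm : 0 < m) (h : IsRelPrime a b) : a ≠ 0 := by
  intro ha
  rw [ha, isRelPrime_zero_left] at h
  have hb0 : b ≠ 0 := h.ne_zero
  have h1 := hb.totalDegree hb0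
  have h2 := (isUnit_iff_totalDegree_of_isReduced.mp h).2
  omega

theorem nzd (f g : MvPolynomial (Fin 3) k) (n m : ℕ) (hf : f.IsHomogeneous n)
    (hg : g.IsHomogeneous m) (hn : 0 < n) (hm : 0 < m)
    (hT : IsRelPrime (ev 0 f) (ev 0 g)) (h : MvPolynomial (Fin 3) k)
    (hh : X 2 * h ∈ Ideal.span ({f, g} : Set (MvPolynomial (Fin 3) k))) :
    h ∈ Ideal.span ({f, g} : Set (MvPolynomial (Fin 3) k)) := by
  obtain ⟨A, B, hAB⟩ := Ideal.mem_span_pair.mp hh
  have hf0 : ev 0 f ≠ 0 :=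
    ne_zero_of_isRelPrime_of_homogeneous (isHomogeneous_ev_zero hg) hm hT
  have h1 : ev 0 A * ev 0 f + ev 0 B * ev 0 g = 0 := by
    have := congrArg (ev (0 : MvPolynomial (Fin 2) k)) hAB
    rw [map_add, map_mul, map_mul, map_mul, ev_X2, zero_mul] at this
    exact this
  have h2 : ev 0 f ∣ ev 0 g * ev 0 B := by
    refine ⟨-ev 0 A, ?_⟩
    linear_combination h1
  obtain ⟨Cb, hCb⟩ := hT.dvd_of_dvd_mul_left h2
  have h3 : ev 0 A = -(Cb * ev 0 g) := by
    have : ev 0 f * (ev 0 A + Cb * ev 0 g) = 0 := by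
      rw [hCb] at h1
      linear_combination h1
    have := (mul_eq_zero.mp this).resolve_left hf0
    linear_combination this
  have hev0 : ev (C (0 : k)) = ev (0 : MvPolynomial (Fin 2) k) := by rw [C_0]
  obtain ⟨B', hB'⟩ := mem_span_of_ev_eq_zero (0 : k) (B - inc Cb * f) (by
    rw [hev0, map_sub, map_mul, ev_inc, hCb]; ring)
  obtain ⟨A', hA'⟩ := mem_span_of_ev_eq_zero (0 : k) (A + inc Cb * g) (by
    rw [hev0, map_add, map_mul, ev_inc, h3]; ring)
  rw [C_0, sub_zero] at hB' hA'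
  have h4 : X 2 * h = X 2 * (A' * f + B' * g) := by
    rw [← hAB]
    linear_combination hA' * f + hB' * g
  have h5 := mul_left_cancel₀ (X_ne_zero (2 : Fin 3)) h4
  rw [h5]
  exact Ideal.mem_span_pair.mpr ⟨A', B', rfl⟩

end Groth.Agent.H2.Bez
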