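import Groth.Agent.Lib.Helper2.Bez3

/-! Bézout (affine count), part 4: the Hilbert function of `(f, g)`. (helper2, S10827) -/

namespace Groth.Agent.H2.Bez

open MvPolynomial Module PtsGen

variable {k : Type*} [Field k]

/-- `f · S_s` as a subspace. -/
noncomputable def mulSub (f : MvPolynomial (Fin 3) k) (s : ℕ) :
    Submodule k (MvPolynomial (Fin 3) k) :=
  (homogeneousSubmodule (Fin 3) k s).map (LinearMap.mulLeft k f)

lemma finrank_mulSub (f : MvPolynomial (Fin 3) k) (hf0 : f ≠ 0) (s : ℕ) :
    finrank k (mulSub f s) = (s + 2).choose 2 := by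
  have hinj : Function.Injective (LinearMap.mulLeft k f) := by
    intro a b hab
    simp only [LinearMap.mulLeft_apply] at hab
    exact mul_left_cancel₀ hf0 hab
  unfold mulSub
  rw [← LinearEquiv.finrank_eq (Submodule.equivMapOfInjective _ hinj _),
    HypHilb.finrank_homogeneousSubmodule 2 s]

instance (f : MvPolynomial (Fin 3) k) (s : ℕ) : FiniteDimensional k (mulSub f s) := by
  unfold mulSub
  infer_instance

lemma mem_mulSub {f x : MvPolynomial (Fin 3) k} {s : ℕ} :
    x ∈ mulSub f s ↔ ∃ a, a.IsHomogeneous s ∧ f * a = x := by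
  unfold mulSub
  simp [Submodule.mem_map]

section
variable (f g : MvPolynomial (Fin 3) k) (n m : ℕ) (hf : f.IsHomogeneous n) (hg : g.IsHomogeneous m)
  (hf0 : f ≠ 0) (hg0 : g ≠ 0) (hfg : IsRelPrime f g) (t : ℕ) (ht : n + m ≤ t)

include hf hg ht in
lemma sup_eq :
    mulSub f (t - n) ⊔ mulSub g (t - m) =
      Igr (Ideal.span ({f, g} : Set (MvPolynomial (Fin 3) k))) t := by
  apply le_antisymm
  · apply sup_le
    · intro x hx
      obtain ⟨a, ha, rfl⟩ := mem_mulSub.mp hx
      rw [mem_Igr]
      refine ⟨Ideal.mul_mem_right _ _ (Ideal.subset_span (by simp)), ?_⟩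
      have := hf.mul ha
      rwa [show n + (t - n) = t by omega] at this
    · intro x hx
      obtain ⟨a, ha, rfl⟩ := mem_mulSub.mp hx
      rw [mem_Igr]
      refine ⟨Ideal.mul_mem_right _ _ (Ideal.subset_span (by simp)), ?_⟩
      have := hg.mul ha
      rwa [show m + (t - m) = t by omega] at this
  · intro h hh
    rw [mem_Igr] at hh
    obtain ⟨A, B, hAB⟩ := Ideal.mem_span_pair.mp hh.1
    have h1 : h = f * homogeneousComponent (t - n) A + g * homogeneousComponent (t - m) B := by
      have := congrArg (homogeneousComponent t) hAB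
      rw [map_add, mul_comm A f, mul_comm B g,
        HypHilb.homogeneousComponent_mul_of_left f A n t hf (by omega),
        HypHilb.homogeneousComponent_mul_of_left g B m t hg (by omega),
        homogeneousComponent_eq_self hh.2] at this
      exact this.symm
    rw [h1]
    exact Submodule.add_mem _
      (Submodule.mem_sup_left (mem_mulSub.mpr ⟨_, homogeneousComponent_isHomogeneous _ _, rfl⟩))
      (Submodule.mem_sup_right (mem_mulSub.mpr ⟨_, homogeneousComponent_isHomogeneous _ _, rfl⟩))

include hf hg hfg ht in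
lemma inf_eq : mulSub f (t - n) ⊓ mulSub g (t - m) = mulSub (f * g) (t - n - m) := by
  apply le_antisymm
  · rintro x ⟨hx1, hx2⟩
    obtain ⟨a, ha, rfl⟩ := mem_mulSub.mp hx1
    obtain ⟨b, hb, hab⟩ := mem_mulSub.mp hx2
    have h1 : f ∣ g * b := ⟨a, hab⟩
    obtain ⟨c, hc⟩ := hfg.dvd_of_dvd_mul_left h1
    have hx : f * a = (f * g) * c := by rw [← hab, hc]; ring
    have hxh : (f * a).IsHomogeneous t := by
      have := hf.mul ha
      rwa [show n + (t - n) = t by omega] at this
    have h2 := HypHilb.homogeneousComponent_mul_of_left (f * g) c (n + m) t (hf.mul hg) ht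
    rw [← hx, homogeneousComponent_eq_self hxh] at h2
    rw [mem_mulSub]
    refine ⟨homogeneousComponent (t - (n + m)) c, ?_, h2.symm⟩
    rw [show t - n - m = t - (n + m) by omega]
    exact homogeneousComponent_isHomogeneous _ _
  · intro x hx
    obtain ⟨c, hc, rfl⟩ := mem_mulSub.mp hx
    refine ⟨?_, ?_⟩
    · rw [SetLike.mem_coe, mem_mulSub]
      refine ⟨g * c, ?_, by ring⟩
      have := hg.mul hc
      rwa [show m + (t - n - m) = t - n by omega] at this
    · rw [SetLike.mem_coe, mem_mulSub]
      refine ⟨f * c, ?_, by ring⟩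
      have := hf.mul hc
      rwa [show n + (t - n - m) = t - m by omega] at this

include hf hg hf0 hg0 hfg ht in
theorem finrank_Igr_add :
    finrank k (Igr (Ideal.span ({f, g} : Set (MvPolynomial (Fin 3) k))) t) +
      (t - n - m + 2).choose 2 = (t - n + 2).choose 2 + (t - m + 2).choose 2 := by
  have h := Submodule.finrank_sup_add_finrank_inf_eq (mulSub f (t - n)) (mulSub g (t - m))
  rw [sup_eq f g n m hf hg t ht, inf_eq f g n m hf hg hfg t ht,
    finrank_mulSub f hf0, finrank_mulSub g hg0, finrank_mulSub (f * g) (mul_ne_zero hf0 hg0)] at h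
  exact h

end

lemma choose_identity (n m t : ℕ) (ht : n + m ≤ t) :
    (t + 2).choose 2 + (t - n - m + 2).choose 2 =
      (t - n + 2).choose 2 + (t - m + 2).choose 2 + n * m := by
  obtain ⟨u, rfl⟩ := Nat.exists_eq_add_of_le ht
  rw [show n + m + u - n - m = u by omega, show n + m + u - n = m + u by omega,
    show n + m + u - m = n + u by omega]
  have h : ∀ a : ℕ, ((a + 2).choose 2 : ℚ) = (a + 2) * (a + 1) / 2 := by
    intro a
    rw [Nat.cast_choose_two]
    push_cast
    ring
  have : (((n + m + u + 2).choose 2 + (u + 2).choose 2 : ℕ) : ℚ) =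
      (((m + u + 2).choose 2 + (n + u + 2).choose 2 + n * m : ℕ) : ℚ) := by
    push_cast
    rw [h, h, h, h]
    push_cast
    ring
  exact_mod_cast this

end Groth.Agent.H2.Bez
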