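import Groth.Agent.Lib.Helper2.Bez4

/-! Bézout (affine count), part 5: assembly. (helper2, S10827) -/

namespace Groth.Agent.H2.Bez

open MvPolynomial Module PtsGen

variable {k : Type*} [Field k]

lemma hhom_span_pair (f g : MvPolynomial (Fin 3) k) (n m : ℕ) (hf : f.IsHomogeneous n)
    (hg : g.IsHomogeneous m) :
    ∀ x ∈ Ideal.span ({f, g} : Set (MvPolynomial (Fin 3) k)), ∀ i,
      homogeneousComponent i x ∈ Ideal.span ({f, g} : Set (MvPolynomial (Fin 3) k)) := by
  intro x hx i
  obtain ⟨A, B, rfl⟩ := Ideal.mem_span_pair.mp hx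
  rw [map_add, mul_comm A f, mul_comm B g]
  apply Ideal.add_mem
  · rcases Nat.lt_or_ge i n with h | h
    · rw [homogeneousComponent_mul_of_left_lt f A n i hf h]
      exact Ideal.zero_mem _
    · rw [HypHilb.homogeneousComponent_mul_of_left f A n i hf h]
      exact Ideal.mul_mem_right _ _ (Ideal.subset_span (by simp))
  · rcases Nat.lt_or_ge i m with h | h
    · rw [homogeneousComponent_mul_of_left_lt g B m i hg h]
      exact Ideal.zero_mem _
    · rw [HypHilb.homogeneousComponent_mul_of_left g B m i hg h]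
      exact Ideal.mul_mem_right _ _ (Ideal.subset_span (by simp))

theorem main (n m : ℕ) (f g : MvPolynomial (Fin 3) k) (hf : f.IsHomogeneous n)
    (hg : g.IsHomogeneous m) (hn : 0 < n) (hm : 0 < m) (hf0 : f ≠ 0) (hg0 : g ≠ 0)
    (hfg : IsRelPrime f g) (hT : IsRelPrime (ev 0 f) (ev 0 g)) :
    finrank k (MvPolynomial (Fin 2) k ⧸
      Ideal.span ({ev 1 f, ev 1 g} : Set (MvPolynomial (Fin 2) k))) = n * m := by
  set J := Ideal.span ({f, g} : Set (MvPolynomial (Fin 3) k)) with hJ
  set J₁ := Ideal.span ({ev 1 f, ev 1 g} : Set (MvPolynomial (Fin 2) k)) with hJ₁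
  let ρ : MvPolynomial (Fin 3) k →ₗ[k] (MvPolynomial (Fin 2) k ⧸ J₁) :=
    (Ideal.Quotient.mkₐ k J₁).toLinearMap ∘ₗ (ev (1 : MvPolynomial (Fin 2) k)).toLinearMap
  have hρ : ∀ h, ρ h = Ideal.Quotient.mk J₁ (ev 1 h) := fun h => rfl
  have hhom := hhom_span_pair f g n m hf hg
  have hnzd : ∀ h, X 2 * h ∈ J → h ∈ J := nzd f g n m hf hg hn hm hT
  have hJmap : ∀ h ∈ J, ev 1 h ∈ J₁ := by
    intro h hh
    obtain ⟨A, B, rfl⟩ := Ideal.mem_span_pair.mp hh
    rw [map_add, map_mul, map_mul]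
    exact Ideal.mem_span_pair.mpr ⟨_, _, rfl⟩
  -- kernel
  have hker : ∀ N, (homogeneousSubmodule (Fin 3) k N ⊓ LinearMap.ker ρ :
      Submodule k (MvPolynomial (Fin 3) k)) = Igr J N := by
    intro N
    apply le_antisymm
    · rintro h ⟨hh1, hh2⟩
      rw [SetLike.mem_coe, LinearMap.mem_ker, hρ, Ideal.Quotient.eq_zero_iff_mem] at hh2
      obtain ⟨a', b', hab⟩ := Ideal.mem_span_pair.mp hh2
      set j := inc a' * f + inc b' * g with hj
      have hjJ : j ∈ J := Ideal.mem_span_pair.mpr ⟨_, _, rfl⟩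
      have hev : ev (C (1 : k)) (h - j) = 0 := by
        rw [C_1, map_sub, hj, map_add, map_mul, map_mul, ev_inc, ev_inc, hab, sub_self]
      obtain ⟨q, hq⟩ := mem_span_of_ev_eq_zero (1 : k) (h - j) hev
      rw [C_1] at hq
      rw [mem_Igr]
      refine ⟨?_, hh1⟩
      apply mem_of_sub_mem J hhom 2 hnzd N h q hh1
      have : h - (X 2 - 1) * q = j := by rw [← hq]; ring
      rw [this]
      exact hjJ
    · intro h hh
      rw [mem_Igr] at hh
      refine ⟨hh.2, ?_⟩
      rw [SetLike.mem_coe, LinearMap.mem_ker, hρ, Ideal.Quotient.eq_zero_iff_mem]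
      exact hJmap h hh.1
  let W : ℕ → Submodule k (MvPolynomial (Fin 2) k ⧸ J₁) :=
    fun N => (homogeneousSubmodule (Fin 3) k N).map ρ
  have hmono : ∀ N, W N ≤ W (N + 1) := by
    rintro N _ ⟨h, hh, rfl⟩
    refine ⟨X 2 * h, ?_, ?_⟩
    · have := (isHomogeneous_X k (2 : Fin 3)).mul hh
      rwa [add_comm] at this
    · rw [hρ, hρ, map_mul, ev_X2, one_mul]
  have hmono' : Monotone W := monotone_nat_of_le_succ hmono
  have hunion : ∀ v : MvPolynomial (Fin 2) k ⧸ J₁, ∃ N, v ∈ W N := by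
    intro v
    obtain ⟨p, rfl⟩ := Ideal.Quotient.mk_surjective v
    refine ⟨(inc p).totalDegree, ?_⟩
    have h1 : Ideal.Quotient.mk J₁ p = ρ (inc p) := by rw [hρ, ev_inc]
    have h2 : ρ (inc p) = ∑ i ∈ Finset.range ((inc p).totalDegree + 1),
        ρ (homogeneousComponent i (inc p)) := by
      conv_lhs => rw [← sum_homogeneousComponent (inc p)]
      rw [map_sum]
    rw [h1, h2]
    apply Submodule.sum_mem
    intro i hi
    rw [Finset.mem_range] at hi
    apply hmono' (show i ≤ (inc p).totalDegree by omega)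
    exact ⟨_, homogeneousComponent_isHomogeneous i _, rfl⟩
  have hdim : ∀ N, n + m ≤ N → finrank k (W N) = n * m := by
    intro N hN
    have h1 := finrank_map_add_finrank_inf_ker ρ (homogeneousSubmodule (Fin 3) k N)
    rw [hker N, HypHilb.finrank_homogeneousSubmodule 2 N] at h1
    have h2 : finrank k (Igr J N) + (N - n - m + 2).choose 2 =
        (N - n + 2).choose 2 + (N - m + 2).choose 2 :=
      finrank_Igr_add f g n m hf hg hf0 hg0 hfg N hN
    have h3 := choose_identity n m N hN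
    change finrank k (W N) + _ = _ at h1
    omega
  exact finrank_of_chain W hmono (n + m) (n * m) hdim hunion

end Groth.Agent.H2.Bez
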