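import Mathlib

/-!
# Invariants of odd powers of the big-diagonal ideal (S19218)
-/

namespace Groth.Agent.H2.BigDiag

open TensorProduct PiTensorProduct

universe u v

variable (k : Type u) [Field k] (A : Type v) [CommRing A] [Algebra k A] (n : ℕ)

abbrev R : Type (max u v) := ⨂[k] _ : Fin n, A

/-- single-factor inclusion -/
noncomputable abbrev ι (i : Fin n) : A →ₐ[k] R k A n :=
  PiTensorProduct.singleAlgHom (R := k) (A := fun _ : Fin n => A) i

/-- the reindexing linear map -/
noncomputable def τl (σ : Equiv.Perm (Fin n)) : R k A n →ₗ[k] R k A n :=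
  (PiTensorProduct.reindex k (fun _ : Fin n => A) σ).toLinearMap

lemma τl_tprod (σ : Equiv.Perm (Fin n)) (f : Fin n → A) :
    τl k A n σ (tprod k f) = tprod k (fun i => f (σ.symm i)) :=
  PiTensorProduct.reindex_tprod σ f

lemma τl_mul (σ : Equiv.Perm (Fin n)) (x y : R k A n) :
    τl k A n σ (x * y) = τl k A n σ x * τl k A n σ y := by
  induction x using PiTensorProduct.induction_on with
  | smul_tprod r f =>
    induction y using PiTensorProduct.induction_on with
    | smul_tprod s g =>
      rw [PiTensorProduct.smul_tprod_mul_smul_tprod, map_smul, map_smul, map_smul, τl_tprod,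
        τl_tprod, τl_tprod, PiTensorProduct.smul_tprod_mul_smul_tprod]
      rfl
    | add y₁ y₂ h₁ h₂ => rw [mul_add, map_add, map_add, mul_add, h₁, h₂]
  | add x₁ x₂ h₁ h₂ => rw [add_mul, map_add, map_add, add_mul, h₁, h₂]

lemma τl_one (σ : Equiv.Perm (Fin n)) : τl k A n σ 1 = 1 := by
  rw [PiTensorProduct.one_def, τl_tprod]
  rfl

/-- reindexing as an algebra hom -/
noncomputable def τ (σ : Equiv.Perm (Fin n)) : R k A n →ₐ[k] R k A n :=
  AlgHom.ofLinearMap (τl k A n σ) (τl_one k A n σ) (τl_mul k A n σ)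

lemma τ_apply (σ : Equiv.Perm (Fin n)) (x : R k A n) :
    τ k A n σ x = PiTensorProduct.reindex k (fun _ : Fin n => A) σ x := rfl

lemma τ_ι (σ : Equiv.Perm (Fin n)) (i : Fin n) (a : A) :
    τ k A n σ (ι k A n i a) = ι k A n (σ i) a := by
  change τl k A n σ (tprod k (MonoidHom.mulSingle (fun _ : Fin n => A) i a)) =
    tprod k (MonoidHom.mulSingle (fun _ : Fin n => A) (σ i) a)
  rw [τl_tprod]
  congr 1
  funext l
  simp only [MonoidHom.mulSingle_apply, Pi.mulSingle_apply]
  by_cases h : l = σ i
  · subst h; simp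
  · have : σ.symm l ≠ i := fun h' => h (by rw [← h']; simp)
    simp [h, this]

variable (i j : Fin n)

/-- the ideal of the `(i,j)` diagonal -/
noncomputable def Ip : Ideal (R k A n) :=
  Ideal.span (Set.range fun a : A => ι k A n i a - ι k A n j a)

/-- (3): the swap is trivial modulo `Ip`. -/
lemma swap_sub_mem (r : R k A n) : τ k A n (Equiv.swap i j) r - r ∈ Ip k A n i j := by
  have h : (Ideal.Quotient.mkₐ k (Ip k A n i j)).comp (τ k A n (Equiv.swap i j)) =
      Ideal.Quotient.mkₐ k (Ip k A n i j) := by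
    apply PiTensorProduct.algHom_ext
    intro l
    ext a
    simp only [AlgHom.comp_apply, Ideal.Quotient.mkₐ_eq_mk]
    have h1 := τ_ι k A n (Equiv.swap i j) l a
    change Ideal.Quotient.mk _ (τ k A n (Equiv.swap i j) (ι k A n l a)) =
      Ideal.Quotient.mk _ (ι k A n l a)
    rw [h1, Ideal.Quotient.eq]
    by_cases hli : l = i
    · subst hli
      rw [Equiv.swap_apply_left]
      have : ι k A n j a - ι k A n l a = -(ι k A n l a - ι k A n j a) := by ring
      rw [this]
      exact Ideal.neg_mem_iff _ |>.2 (Ideal.subset_span ⟨a, rfl⟩)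
    · by_cases hlj : l = j
      · subst hlj
        rw [Equiv.swap_apply_right]
        exact Ideal.subset_span ⟨a, rfl⟩
      · rw [Equiv.swap_apply_of_ne_of_ne hli hlj, sub_self]
        exact Ideal.zero_mem _
  have h2 := AlgHom.congr_fun h r
  simp only [AlgHom.comp_apply, Ideal.Quotient.mkₐ_eq_mk] at h2
  exact Ideal.Quotient.eq.1 h2

/-- C(1) -/
lemma swap_add_mem (g : R k A n) (hg : g ∈ Ip k A n i j) :
    τ k A n (Equiv.swap i j) g + g ∈ Ip k A n i j ^ 2 := by
  unfold Ip at hg
  induction hg using Submodule.span_induction with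
  | mem x hx =>
    obtain ⟨a, rfl⟩ := hx
    rw [map_sub, τ_ι, τ_ι, Equiv.swap_apply_left, Equiv.swap_apply_right]
    have : ι k A n j a - ι k A n i a + (ι k A n i a - ι k A n j a) = 0 := by ring
    rw [this]
    exact Ideal.zero_mem _
  | zero => rw [map_zero, add_zero]; exact Ideal.zero_mem _
  | add x y _ _ hx hy =>
    have : τ k A n (Equiv.swap i j) (x + y) + (x + y) =
        (τ k A n (Equiv.swap i j) x + x) + (τ k A n (Equiv.swap i j) y + y) := by
      rw [map_add]; ring
    rw [this]
    exact Ideal.add_mem _ hx hy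
  | smul r x hx' hx =>
    rw [smul_eq_mul, map_mul]
    have hxI : x ∈ Ip k A n i j := hx'
    have e : τ k A n (Equiv.swap i j) r * τ k A n (Equiv.swap i j) x + r * x =
        τ k A n (Equiv.swap i j) r * (τ k A n (Equiv.swap i j) x + x) -
          (τ k A n (Equiv.swap i j) r - r) * x := by ring
    rw [e]
    refine Ideal.sub_mem _ (Ideal.mul_mem_left _ _ hx) ?_
    rw [pow_two]
    exact Ideal.mul_mem_mul (swap_sub_mem k A n i j r) hxI

/-- C(s) -/
lemma swap_pow (s : ℕ) (z : R k A n) (hz : z ∈ Ip k A n i j ^ s) :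
    τ k A n (Equiv.swap i j) z - (-1) ^ s * z ∈ Ip k A n i j ^ (s + 1) := by
  induction s generalizing z with
  | zero =>
    rw [pow_zero, one_mul, zero_add, pow_one]
    exact swap_sub_mem k A n i j z
  | succ s ih =>
    rw [pow_succ'] at hz
    refine Submodule.mul_induction_on hz ?_ ?_
    · intro g hg z' hz'
      have h1 := swap_add_mem k A n i j g hg
      have h2 := ih z' hz'
      have h3 : τ k A n (Equiv.swap i j) z' ∈ Ip k A n i j ^ s := by
        have : τ k A n (Equiv.swap i j) z' =
            (τ k A n (Equiv.swap i j) z' - (-1) ^ s * z') + (-1) ^ s * z' := by ring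
        rw [this]
        exact Ideal.add_mem _ (Ideal.pow_le_pow_right (Nat.le_succ s) h2)
          (Ideal.mul_mem_left _ _ hz')
      have e : τ k A n (Equiv.swap i j) (g * z') - (-1) ^ (s + 1) * (g * z') =
          (τ k A n (Equiv.swap i j) g + g) * τ k A n (Equiv.swap i j) z' -
            g * (τ k A n (Equiv.swap i j) z' - (-1) ^ s * z') := by
        rw [map_mul]; ring
      rw [e]
      refine Ideal.sub_mem _ ?_ ?_
      · have : Ip k A n i j ^ (s + 1 + 1) = Ip k A n i j ^ 2 * Ip k A n i j ^ s := by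
          rw [← pow_add]; congr 1; omega
        rw [this]
        exact Ideal.mul_mem_mul h1 h3
      · have : Ip k A n i j ^ (s + 1 + 1) = Ip k A n i j * Ip k A n i j ^ (s + 1) := by
          rw [← pow_succ']
        rw [this]
        exact Ideal.mul_mem_mul hg h2
    · intro x y hx hy
      have : τ k A n (Equiv.swap i j) (x + y) - (-1) ^ (s + 1) * (x + y) =
          (τ k A n (Equiv.swap i j) x - (-1) ^ (s + 1) * x) +
            (τ k A n (Equiv.swap i j) y - (-1) ^ (s + 1) * y) := by
        rw [map_add]; ring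
      rw [this]
      exact Ideal.add_mem _ hx hy

theorem odd_to_even [CharZero k] (m : ℕ) (hm : 1 ≤ m) (x : R k A n)
    (hx : τ k A n (Equiv.swap i j) x = x) (hmem : x ∈ Ip k A n i j ^ (2 * m - 1)) :
    x ∈ Ip k A n i j ^ (2 * m) := by
  have h1 := swap_pow k A n i j (2 * m - 1) x hmem
  have hodd : Odd (2 * m - 1) := ⟨m - 1, by omega⟩
  rw [hx, hodd.neg_one_pow, neg_one_mul, sub_neg_eq_add] at h1
  have h2 : 2 * m - 1 + 1 = 2 * m := by omega
  rw [h2] at h1
  have h3 : x = algebraMap k (R k A n) (1 / 2) * (x + x) := by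
    rw [← two_mul, ← mul_assoc]
    have : algebraMap k (R k A n) (1 / 2) * 2 = 1 := by
      have h2' : (2 : R k A n) = algebraMap k (R k A n) 2 := (map_ofNat (algebraMap k (R k A n)) 2).symm
      rw [h2', ← map_mul]
      norm_num
    rw [this, one_mul]
  rw [h3]
  exact Ideal.mul_mem_left _ _ h1

end Groth.Agent.H2.BigDiag
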