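import Mathlib
import Groth.Agent.Lib.Helper2.RefSch8
import Groth.Agent.Lib.Helper2.RefSch7
import Groth.Agent.Lib.Helper1.Depth2Coh2
import Groth.Agent.Lib.Lead.QC.LocFree2

/-!
# The free locus of a coherent module and big opens (helper2): S1690, S7862
-/

set_option autoImplicit false
set_option linter.style.haveILetI false
universe u
open CategoryTheory Limits AlgebraicGeometry TopologicalSpace Opposite

namespace Groth.Agent.H2.BigOpen

open Groth.Agent.LD.QC

attribute [-instance] Groth.Agent.LD.QC.stalkModule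

/-- a Noetherian integrally closed local domain of dimension at most one is a PID -/
theorem isPrincipalIdealRing_of_dim (R : Type u) [CommRing R] [IsDomain R] [IsLocalRing R]
    [IsNoetherianRing R] [IsIntegrallyClosed R] (h : ¬ (2 : WithBot ℕ∞) ≤ ringKrullDim R) :
    IsPrincipalIdealRing R := by
  have h1 : ringKrullDim R ≤ 1 := by
    have h2 : ringKrullDim R < 2 := not_le.mp h
    have h3 : ringKrullDim R < ((1 : ℕ) : WithBot ℕ∞) + 1 := by
      have e : (((1 : ℕ) : WithBot ℕ∞) + 1) = 2 := by norm_num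
      rw [e]; exact h2
    have h4 := ENat.WithBot.lt_add_one_iff.mp h3
    exact_mod_cast h4
  haveI : Ring.KrullDimLE 1 R := Ring.krullDimLE_iff.mpr h1
  haveI : Ring.DimensionLEOne R :=
    ⟨fun {p} hp hpp => Ring.krullDimLE_one_iff_of_noZeroDivisors.mp ‹_› p hp hpp⟩
  haveI : IsDedekindDomain R := {}
  infer_instance

variable {X : Scheme.{u}}

/-- the largest open over which `F` is locally free of finite rank -/
noncomputable def freeLocus (F : X.Modules) : X.Opens :=
  sSup {V : X.Opens | ∃ n : ℕ, Nonempty (F.restrict V.ι ≅ freeMod V n)}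

theorem mem_freeLocus (F : X.Modules) (x : X) :
    x ∈ freeLocus F ↔ ∃ (V : X.Opens) (n : ℕ), x ∈ V ∧ Nonempty (F.restrict V.ι ≅ freeMod V n) := by
  unfold freeLocus
  rw [Opens.mem_sSup]
  constructor
  · rintro ⟨V, ⟨n, hn⟩, hxV⟩
    exact ⟨V, n, hxV, hn⟩
  · rintro ⟨V, n, hxV, hn⟩
    exact ⟨V, ⟨n, hn⟩, hxV⟩

theorem isFinLocFree_restrict_freeLocus (F : X.Modules) :
    FlatMod.IsFinLocFree (F.restrict (freeLocus F).ι) := by
  rw [isFinLocFree_restrict_iff]
  intro y
  exact (mem_freeLocus F _).mp y.2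

/-- outside the free locus of a coherent module with torsion-free stalks on a normal locally
Noetherian scheme the local rings have dimension at least two -/
theorem two_le_dim_of_notMem_freeLocus [IsLocallyNoetherian X] (hX : Pi1.IsNormalScheme X)
    (F : X.Modules) (hF : Coh.IsCoh F)
    (htf : ∀ x : X, Module.IsTorsionFree (X.presheaf.stalk x) (F.presheaf.stalk x))
    (x : X) (hx : x ∉ freeLocus F) : (2 : WithBot ℕ∞) ≤ ringKrullDim (X.presheaf.stalk x) := by
  by_contra hdim
  apply hx
  haveI := hF.1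
  haveI := (hX x).1
  haveI := (hX x).2
  haveI := isPrincipalIdealRing_of_dim (X.presheaf.stalk x) hdim
  haveI : Module.Finite (X.presheaf.stalk x) (F.presheaf.stalk x) :=
    Groth.Agent.H1.CohLen.finite_stalk F hF.2 x
  haveI := htf x
  haveI : Module.Free (X.presheaf.stalk x) (F.presheaf.stalk x) :=
    Module.free_of_finite_type_torsion_free'
  rw [mem_freeLocus]
  exact exists_restrict_iso_freeMod_of_flat_stalk F (isFinitePresentation_of_qc_ft F hF.1 hF.2) x
    inferInstance

/-- **S7862** -/
theorem s7862 [IsLocallyNoetherian X] (hX : Pi1.IsNormalScheme X) (M : X.Modules)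
    (hM : Coh.IsCoh M)
    (htf : ∀ x : X, Module.IsTorsionFree (X.presheaf.stalk x) (M.presheaf.stalk x)) :
    ∃ U : X.Opens, (∀ x : X, x ∉ U → (2 : WithBot ℕ∞) ≤ ringKrullDim (X.presheaf.stalk x)) ∧
      FlatMod.IsFinLocFree (M.restrict U.ι) :=
  ⟨freeLocus M, fun x hx => two_le_dim_of_notMem_freeLocus hX M hM htf x hx,
    isFinLocFree_restrict_freeLocus M⟩

/-- **S1690** -/
theorem s1690 [IsIntegral X] [IsLocallyNoetherian X] (hX : Pi1.IsNormalScheme X)
    (F : X.Modules) (hF : Coh.IsCoh F) :
    (∀ x : X, Module.IsReflexive (X.presheaf.stalk x) (F.presheaf.stalk x)) ↔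
      ∃ U : X.Opens, (∀ x : X, x ∉ U → (2 : WithBot ℕ∞) ≤ ringKrullDim (X.presheaf.stalk x)) ∧
        FlatMod.IsFinLocFree (F.restrict U.ι) ∧
        IsIso ((Scheme.Modules.restrictAdjunction U.ι).unit.app F) := by
  haveI := hF.1
  have hfin : ∀ x : X, Module.Finite (X.presheaf.stalk x) (F.presheaf.stalk x) :=
    fun x => Groth.Agent.H1.CohLen.finite_stalk F hF.2 x
  constructor
  · intro hrefl
    have htf : ∀ x : X, Module.IsTorsionFree (X.presheaf.stalk x) (F.presheaf.stalk x) := by
      intro x
      haveI := (hX x).1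
      haveI := hrefl x
      exact RefSch.isTorsionFree_of_isReflexive _ _
    have hdim := two_le_dim_of_notMem_freeLocus hX F hF htf
    refine ⟨freeLocus F, hdim, isFinLocFree_restrict_freeLocus F, ?_⟩
    apply Groth.Agent.H1.Depth2Coh.isIso_unit F hF
    intro x hx
    haveI := (hX x).1
    haveI := (hX x).2
    haveI := hfin x
    haveI := hrefl x
    exact RefSch.two_le_depth_of_isReflexive
      (Groth.Agent.H2.PicCodim2.two_le_depth_of_normal _ (hdim x hx)) _
  · rintro ⟨U, hdim, hfree, hiso⟩
    have hloc : ∀ x ∈ U, RefHull.IsReflexiveAt F x := by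
      intro x hx
      obtain ⟨V, n, hxV, ⟨e⟩⟩ := (isFinLocFree_restrict_iff F U.ι).mp hfree ⟨x, hx⟩
      haveI := hfin x
      haveI : Module.Free (X.presheaf.stalk x) (F.presheaf.stalk x) :=
        free_stalk_of_restrict_iso_freeMod F V n e x hxV
      exact (inferInstance : Module.IsReflexive (X.presheaf.stalk x) (F.presheaf.stalk x))
    obtain ⟨e, he⟩ := RefSch.exists_ddual_iso_pushforward hX F hF U hloc hdim
    have h1 : RefHull.bidualMap F =
        (Scheme.Modules.restrictAdjunction U.ι).unit.app F ≫ e.inv := by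
      rw [← he, Category.assoc, Iso.hom_inv_id, Category.comp_id]
    have h2 : RefHull.IsReflexive F := by
      unfold RefHull.IsReflexive
      rw [h1]
      infer_instance
    exact (HomSh.isReflexive_iff_stalk hF).mp h2

end Groth.Agent.H2.BigOpen
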