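import Mathlib

/-! The polynomial `d ↦ C(r + d - a, r)` with an integer shift `a`. -/

namespace Groth.Agent.H2.BinomPoly

open Polynomial

/-- `(X - a + 1)(X - a + 2)⋯(X - a + r) / r!` -/
noncomputable def Q (r : ℕ) (a : ℤ) : ℚ[X] :=
  (r.factorial : ℚ)⁻¹ • ((ascPochhammer ℚ r).comp (X - C (a : ℚ) + 1))

lemma eval_Q (r : ℕ) (a d : ℤ) (h : a - r ≤ d) :
    (Q r a).eval (d : ℚ) =
      ((if a ≤ d then ((Nat.choose (r + (d - a).toNat) r : ℕ) : ℤ) else 0 : ℤ) : ℚ) := by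
  have hne : (r.factorial : ℚ) ≠ 0 := by exact_mod_cast Nat.factorial_ne_zero r
  have hev : (Q r a).eval (d : ℚ) =
      (r.factorial : ℚ)⁻¹ * (ascPochhammer ℚ r).eval ((d : ℚ) - a + 1) := by
    simp [Q]
  rw [hev]
  split_ifs with had
  · obtain ⟨n, hn⟩ := Int.eq_ofNat_of_zero_le (sub_nonneg.2 had)
    have h1 : (d : ℚ) - a + 1 = ((n + 1 : ℕ) : ℚ) := by
      have : ((d - a : ℤ) : ℚ) = (n : ℚ) := by rw [hn]; simp
      push_cast at this ⊢
      linarith
    rw [h1, ascPochhammer_nat_eq_natCast_ascFactorial, Nat.ascFactorial_eq_factorial_mul_choose,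
      hn, Int.toNat_natCast]
    push_cast
    rw [← mul_assoc, inv_mul_cancel₀ hne, one_mul, add_comm]
  · push Not at had
    obtain ⟨j, hj⟩ := Int.eq_ofNat_of_zero_le (show (0 : ℤ) ≤ a - d - 1 by omega)
    have hjr : j < r := by omega
    have h1 : (d : ℚ) - a + 1 = -(j : ℚ) := by
      have : ((a - d - 1 : ℤ) : ℚ) = (j : ℚ) := by rw [hj]; simp
      push_cast at this
      linarith
    rw [h1, ascPochhammer_eval_neg_coe_nat_of_lt hjr]
    simp

end Groth.Agent.H2.BinomPoly
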