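import Mathlib

/-!
Birkhoff factorization over `k[T, T⁻¹]`: basic definitions and the reduction step.
-/

namespace Groth.Agent.H2.Birk

open Polynomial LaurentPolynomial Matrix

universe u

variable {k : Type u} [Field k] {n : ℕ}

/-- `M ↦ M(T)` -/
noncomputable def PhiP : Matrix (Fin n) (Fin n) k[X] →+* Matrix (Fin n) (Fin n) k[T;T⁻¹] :=
  (Polynomial.toLaurent (R := k)).mapMatrix

/-- `M ↦ M(T⁻¹)` -/
noncomputable def PhiM : Matrix (Fin n) (Fin n) k[X] →+* Matrix (Fin n) (Fin n) k[T;T⁻¹] :=
  (((LaurentPolynomial.invert (R := k)) : k[T;T⁻¹] →+* k[T;T⁻¹]).comp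
    (Polynomial.toLaurent (R := k))).mapMatrix

theorem PhiP_apply (M : Matrix (Fin n) (Fin n) k[X]) : PhiP M = M.map Polynomial.toLaurent := rfl

theorem PhiM_apply (M : Matrix (Fin n) (Fin n) k[X]) :
    PhiM M = (M.map Polynomial.toLaurent).map LaurentPolynomial.invert := rfl

theorem PhiP_entry (M : Matrix (Fin n) (Fin n) k[X]) (i j : Fin n) :
    PhiP M i j = Polynomial.toLaurent (M i j) := rfl

theorem PhiM_entry (M : Matrix (Fin n) (Fin n) k[X]) (i j : Fin n) :
    PhiM M i j = LaurentPolynomial.invert (Polynomial.toLaurent (M i j)) := rfl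

/-- the elementary column operation matrix (in `k[X]`, to be read in `T⁻¹`) -/
noncomputable def EQ (d : Fin n → ℤ) (v : Fin n → k) (j₀ : Fin n) : Matrix (Fin n) (Fin n) k[X] :=
  (1 : Matrix (Fin n) (Fin n) k[X]).updateCol j₀
    (fun i => Polynomial.C (v i) * X ^ (d i - d j₀).toNat)

theorem det_EQ (d : Fin n → ℤ) (v : Fin n → k) (j₀ : Fin n) :
    (EQ d v j₀).det = Polynomial.C (v j₀) := by
  rw [EQ, ← Matrix.cramer_apply, Matrix.cramer_one]
  simp

theorem isUnit_EQ (d : Fin n → ℤ) (v : Fin n → k) (j₀ : Fin n) (hv : v j₀ ≠ 0) :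
    IsUnit (EQ d v j₀) := by
  rw [Matrix.isUnit_iff_isUnit_det, det_EQ]
  exact Polynomial.isUnit_C.mpr (isUnit_iff_ne_zero.mpr hv)

/-- the reduction step as a matrix identity -/
theorem step_identity (B : Matrix (Fin n) (Fin n) k[X]) (d : Fin n → ℤ) (v : Fin n → k)
    (j₀ : Fin n) (hmin : ∀ l, v l ≠ 0 → d j₀ ≤ d l) (b' : Fin n → k[X])
    (hb' : ∀ i, ∑ l, B i l * Polynomial.C (v l) = X * b' i) :
    PhiP B * Matrix.diagonal (fun i => (T (d i) : k[T;T⁻¹])) * PhiM (EQ d v j₀) =
      PhiP (B.updateCol j₀ b') *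
        Matrix.diagonal (fun i => (T (Function.update d j₀ (d j₀ + 1) i) : k[T;T⁻¹])) := by
  refine Matrix.ext fun i j => ?_
  rw [Matrix.mul_apply, Matrix.mul_diagonal]
  simp only [Matrix.mul_diagonal, PhiP_entry, PhiM_entry]
  by_cases hj : j = j₀
  · subst hj
    simp only [EQ, Matrix.updateCol_self, Function.update_self]
    have hterm : ∀ l, toLaurent (B i l) * T (d l) *
        invert (toLaurent (Polynomial.C (v l) * X ^ (d l - d j).toNat)) =
        toLaurent (B i l * Polynomial.C (v l)) * T (d j) := by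
      intro l
      by_cases hvl : v l = 0
      · simp [hvl]
      · have hle := hmin l hvl
        have hnat : ((d l - d j).toNat : ℤ) = d l - d j := Int.toNat_of_nonneg (by omega)
        simp only [map_mul, Polynomial.toLaurent_C, Polynomial.toLaurent_X_pow, invert_C, invert_T,
          hnat]
        have : (T (d l) : k[T;T⁻¹]) * T (-(d l - d j)) = T (d j) := by
          rw [← T_add]; congr 1; ring
        calc toLaurent (B i l) * T (d l) * (LaurentPolynomial.C (v l) * T (-(d l - d j)))
            = toLaurent (B i l) * LaurentPolynomial.C (v l) * (T (d l) * T (-(d l - d j))) := by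
              ring
          _ = _ := by rw [this]
    rw [Finset.sum_congr rfl (fun l _ => hterm l), ← Finset.sum_mul, ← map_sum, hb' i, map_mul,
      Polynomial.toLaurent_X, T_add]
    ring
  · simp only [EQ, Matrix.updateCol_ne hj, Function.update_of_ne hj]
    rw [Finset.sum_eq_single j]
    · simp
    · intro l _ hl
      simp [Matrix.one_apply_ne hl]
    · intro h; exact absurd (Finset.mem_univ j) h

/-- determinant of the new matrix -/
theorem det_step (B : Matrix (Fin n) (Fin n) k[X]) (v : Fin n → k)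
    (j₀ : Fin n) (b' : Fin n → k[X])
    (hb' : ∀ i, ∑ l, B i l * Polynomial.C (v l) = X * b' i) :
    X * (B.updateCol j₀ b').det = B.det * Polynomial.C (v j₀) := by
  have h1 : B.updateCol j₀ ((X : k[X]) • b') = B.updateCol j₀ (B *ᵥ (fun l => Polynomial.C (v l))) := by
    congr 1
    funext i
    rw [Pi.smul_apply, smul_eq_mul, ← hb' i]
    rfl
  have h2 : (B.updateCol j₀ (B *ᵥ (fun l => Polynomial.C (v l)))).det =
      B.det * Polynomial.C (v j₀) := by
    rw [← Matrix.cramer_apply, Matrix.cramer_eq_adjugate_mulVec, Matrix.mulVec_mulVec,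
      Matrix.adjugate_mul, Matrix.smul_mulVec, Matrix.one_mulVec]
    simp
  rw [← Matrix.det_updateCol_smul, h1, h2]

end Groth.Agent.H2.Birk
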