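import Groth.Agent.Lib.Helper2.Birk1

/-!
Birkhoff factorization: the reduction by induction on the order of the determinant.
-/

namespace Groth.Agent.H2.Birk

open Polynomial LaurentPolynomial Matrix

universe u

variable {k : Type u} [Field k] {n : ℕ}

theorem reduce : ∀ (m : ℕ) (B : Matrix (Fin n) (Fin n) k[X]) (d : Fin n → ℤ) (c : k), c ≠ 0 →
    B.det = Polynomial.C c * X ^ m →
    ∃ (P Q : Matrix (Fin n) (Fin n) k[X]) (d' : Fin n → ℤ), IsUnit P ∧ IsUnit Q ∧
      PhiP B * Matrix.diagonal (fun i => (T (d i) : k[T;T⁻¹])) * PhiM Q =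
        PhiP P * Matrix.diagonal (fun i => (T (d' i) : k[T;T⁻¹])) := by
  classical
  intro m
  induction m with
  | zero =>
    intro B d c hc hdet
    refine ⟨B, 1, d, ?_, isUnit_one, by rw [map_one, mul_one]⟩
    rw [Matrix.isUnit_iff_isUnit_det, hdet, pow_zero, mul_one]
    exact Polynomial.isUnit_C.mpr (isUnit_iff_ne_zero.mpr hc)
  | succ m ih =>
    intro B d c hc hdet
    set B0 : Matrix (Fin n) (Fin n) k := (Polynomial.evalRingHom (0 : k)).mapMatrix B with hB0
    have hdet0 : B0.det = 0 := by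
      rw [hB0, ← RingHom.map_det, hdet]
      simp
    obtain ⟨v, hv0, hv⟩ := Matrix.exists_mulVec_eq_zero_iff.mpr hdet0
    have hS : (Finset.univ.filter (fun l => v l ≠ 0)).Nonempty := by
      by_contra hcon
      rw [Finset.not_nonempty_iff_eq_empty, Finset.filter_eq_empty_iff] at hcon
      apply hv0
      funext l
      by_contra h
      exact hcon (Finset.mem_univ l) h
    obtain ⟨j₀, hj₀, hmin⟩ := Finset.exists_min_image _ d hS
    have hvj₀ : v j₀ ≠ 0 := (Finset.mem_filter.mp hj₀).2
    have hdiv : ∀ i, X ∣ ∑ l, B i l * Polynomial.C (v l) := by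
      intro i
      rw [Polynomial.X_dvd_iff, Polynomial.coeff_zero_eq_eval_zero, Polynomial.eval_finsetSum]
      have h1 := congrFun hv i
      simp only [Matrix.mulVec, dotProduct, Pi.zero_apply] at h1
      have h2 : ∑ l, Polynomial.eval 0 (B i l * Polynomial.C (v l)) = ∑ x, B0 i x * v x := by
        apply Finset.sum_congr rfl
        intro l _
        simp [hB0]
      rw [h2, h1]
    choose b' hb' using hdiv
    have hstep := step_identity B d v j₀
      (fun l hl => hmin l (Finset.mem_filter.mpr ⟨Finset.mem_univ l, hl⟩)) b' hb'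
    have hdet' := det_step B v j₀ b' hb'
    have hdetB' : (B.updateCol j₀ b').det = Polynomial.C (c * v j₀) * X ^ m := by
      apply mul_left_cancel₀ (Polynomial.X_ne_zero (R := k))
      rw [hdet', hdet, pow_succ, map_mul]
      ring
    obtain ⟨P, Q', d', hP, hQ', hid⟩ := ih (B.updateCol j₀ b')
      (Function.update d j₀ (d j₀ + 1)) (c * v j₀) (mul_ne_zero hc hvj₀) hdetB'
    refine ⟨P, EQ d v j₀ * Q', d', hP, (isUnit_EQ d v j₀ hvj₀).mul hQ', ?_⟩
    rw [map_mul, ← mul_assoc, hstep, hid]

end Groth.Agent.H2.Birk
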