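import Groth.Agent.Lib.Helper2.Birk2

/-!
Birkhoff factorization: assembly.
-/

namespace Groth.Agent.H2.Birk

open Polynomial LaurentPolynomial Matrix

universe u

variable {k : Type u} [Field k] {n : ℕ}

/-- polynomials that become units in `k[T,T⁻¹]` are monomials -/
theorem eq_C_mul_X_pow_of_isUnit_toLaurent (f : k[X]) (hf : IsUnit (toLaurent f)) :
    ∃ (c : k) (m : ℕ), c ≠ 0 ∧ f = Polynomial.C c * X ^ m := by
  obtain ⟨g, hg⟩ := hf.exists_right_inv
  obtain ⟨M, g', hg'⟩ := LaurentPolynomial.exists_T_pow g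
  have h1 : toLaurent (f * g') = toLaurent (X ^ M : k[X]) := by
    rw [map_mul, hg', ← mul_assoc, hg, one_mul, Polynomial.toLaurent_X_pow]
  have h2 : f * g' = X ^ M := Polynomial.toLaurent_injective h1
  have hdvd : f ∣ X ^ M := ⟨g', h2.symm⟩
  obtain ⟨i, -, hi⟩ := (dvd_prime_pow (Polynomial.prime_X (R := k)) M).mp hdvd
  obtain ⟨u, hu⟩ := hi.symm
  obtain ⟨c, hc, hcu⟩ := Polynomial.isUnit_iff.mp u.isUnit
  refine ⟨c, i, hc.ne_zero, ?_⟩
  rw [← hu, ← hcu, mul_comm]

/-- clearing denominators -/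
theorem exists_poly_matrix (A : Matrix (Fin n) (Fin n) k[T;T⁻¹]) :
    ∃ (N : ℕ) (B : Matrix (Fin n) (Fin n) k[X]), ∀ i j, toLaurent (B i j) = A i j * T N := by
  choose Nf f hf using fun ij : Fin n × Fin n => LaurentPolynomial.exists_T_pow (A ij.1 ij.2)
  refine ⟨∑ ij, Nf ij, fun i j => f (i, j) * X ^ (∑ ij, Nf ij - Nf (i, j)), fun i j => ?_⟩
  have hle : Nf (i, j) ≤ ∑ ij, Nf ij := Finset.single_le_sum (fun _ _ => Nat.zero_le _)
    (Finset.mem_univ (i, j))
  rw [map_mul, hf (i, j), Polynomial.toLaurent_X_pow, mul_assoc, ← T_add]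
  congr 2
  push_cast [hle]
  ring

theorem birkhoff_unsorted (A : Matrix (Fin n) (Fin n) k[T;T⁻¹]) (hA : IsUnit A) :
    ∃ (P Q : Matrix (Fin n) (Fin n) k[X]) (d : Fin n → ℤ), IsUnit P ∧ IsUnit Q ∧
      A = PhiP P * Matrix.diagonal (fun i => (T (d i) : k[T;T⁻¹])) * PhiM Q := by
  obtain ⟨N, B, hB⟩ := exists_poly_matrix A
  have hBA : PhiP B = A * Matrix.diagonal (fun _ => (T (N : ℤ) : k[T;T⁻¹])) := by
    refine Matrix.ext fun i j => ?_
    rw [PhiP_entry, hB, Matrix.mul_diagonal]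
  have hdetU : IsUnit (toLaurent B.det) := by
    have h1 : toLaurent B.det = (PhiP B).det := RingHom.map_det (toLaurent (R := k)) B
    rw [h1, hBA, Matrix.det_mul, Matrix.det_diagonal]
    refine IsUnit.mul ((Matrix.isUnit_iff_isUnit_det A).mp hA) ?_
    rw [Finset.prod_const]
    exact (isUnit_T _).pow _
  obtain ⟨c, m, hc, hdet⟩ := eq_C_mul_X_pow_of_isUnit_toLaurent B.det hdetU
  obtain ⟨P, Q, d', hP, hQ, hid⟩ := reduce m B (fun _ => -(N : ℤ)) c hc hdet
  have hA' : PhiP B * Matrix.diagonal (fun _ : Fin n => (T (-(N : ℤ)) : k[T;T⁻¹])) = A := by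
    rw [hBA, mul_assoc, Matrix.diagonal_mul_diagonal]
    have : (fun i : Fin n => (T (N : ℤ) : k[T;T⁻¹]) * T (-(N : ℤ))) = fun _ => 1 := by
      funext i
      rw [← T_add, add_neg_cancel, T_zero]
    rw [this, Matrix.diagonal_one, mul_one]
  rw [hA'] at hid
  obtain ⟨Qu, rfl⟩ := hQ
  refine ⟨P, ((Qu⁻¹ : (Matrix (Fin n) (Fin n) k[X])ˣ) : Matrix (Fin n) (Fin n) k[X]), d', hP,
    Units.isUnit _, ?_⟩
  rw [← hid, mul_assoc, ← map_mul, Units.mul_inv, map_one, mul_one]

theorem birkhoff (A : Matrix (Fin n) (Fin n) k[T;T⁻¹]) (hA : IsUnit A) :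
    ∃ (P Q : Matrix (Fin n) (Fin n) k[X]) (d : Fin n → ℤ),
      IsUnit P ∧ IsUnit Q ∧ Antitone d ∧
        A = P.map Polynomial.toLaurent * Matrix.diagonal (fun i => LaurentPolynomial.T (d i)) *
          (Q.map Polynomial.toLaurent).map LaurentPolynomial.invert := by
  obtain ⟨P, Q, d, hP, hQ, hA'⟩ := birkhoff_unsorted A hA
  set σ : Equiv.Perm (Fin n) := Tuple.sort (fun i => -d i) with hσ
  have hmono : Monotone ((fun i => -d i) ∘ σ) := Tuple.monotone_sort _
  refine ⟨P.submatrix id σ, Q.submatrix σ id, d ∘ σ, ?_, ?_, ?_, ?_⟩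
  · rw [Matrix.isUnit_iff_isUnit_det, Matrix.det_permute']
    refine IsUnit.mul ?_ ((Matrix.isUnit_iff_isUnit_det P).mp hP)
    have hs := (Units.isUnit (Equiv.Perm.sign σ)).map (Int.castRingHom k[X])
    simpa using hs
  · rw [Matrix.isUnit_iff_isUnit_det, Matrix.det_permute]
    refine IsUnit.mul ?_ ((Matrix.isUnit_iff_isUnit_det Q).mp hQ)
    have hs := (Units.isUnit (Equiv.Perm.sign σ)).map (Int.castRingHom k[X])
    simpa using hs
  · intro a b hab
    have := hmono hab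
    simp only [Function.comp_apply, neg_le_neg_iff] at this
    exact this
  · rw [hA', PhiP_apply, PhiM_apply]
    have h1 : (P.submatrix id σ).map (toLaurent (R := k)) = (P.map toLaurent).submatrix id σ := rfl
    have h2 : ((Q.submatrix σ id).map (toLaurent (R := k))).map (invert (R := k)) =
        ((Q.map toLaurent).map invert).submatrix σ id := rfl
    have h3 : Matrix.diagonal (fun i => (T ((d ∘ σ) i) : k[T;T⁻¹])) =
        (Matrix.diagonal (fun i => (T (d i) : k[T;T⁻¹]))).submatrix σ σ := by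
      rw [Matrix.submatrix_diagonal_equiv]
      rfl
    rw [h1, h2, h3, Matrix.submatrix_mul_equiv, Matrix.submatrix_mul_equiv, Matrix.submatrix_id_id]

end Groth.Agent.H2.Birk
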