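import Mathlib
import Groth.Agent.Lib.Helper2.GrCI6
import Groth.Agent.Lib.Helper6.DimLemmas

/-! Homogeneous ideals of the expected dimension are generated by regular sequences.
(helper2, CInt S10903) -/

set_option autoImplicit false
universe u

open DirectSum MvPolynomial

namespace Groth.Agent.H2.CInt
open Groth.Agent.H2.HilbHyper Groth.Agent.H2.HilbDim Groth.Agent.H2.GrCI

section dim
variable {A : Type u} [CommRing A]

theorem ringKrullDim_quotient_le_of_forall_prime (I : Ideal A) (d : WithBot ℕ∞)
    (h : ∀ P : Ideal A, P.IsPrime → I ≤ P → ringKrullDim (A ⧸ P) ≤ d) :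
    ringKrullDim (A ⧸ I) ≤ d := by
  rw [ringKrullDim_quotient]
  unfold Order.krullDim
  refine iSup_le fun p => ?_
  let q : LTSeries (PrimeSpectrum A) := p.map Subtype.val (fun a b hab => hab)
  have h1 : (q.length : ℕ∞) ≤ Order.coheight q.head := Order.length_le_coheight_head
  have h2 := Groth.Agent.H6.Dim.ringKrullDim_quotient_eq_coheight q.head
  have h3 : I ≤ q.head.asIdeal := by
    have := p.head.2
    rw [PrimeSpectrum.mem_zeroLocus] at this
    exact this
  have h4 := h q.head.asIdeal q.head.2 h3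
  calc ((p.length : ℕ∞) : WithBot ℕ∞) = ((q.length : ℕ∞) : WithBot ℕ∞) := rfl
    _ ≤ (Order.coheight q.head : WithBot ℕ∞) := by exact_mod_cast h1
    _ = ringKrullDim (A ⧸ q.head.asIdeal) := h2.symm
    _ ≤ d := h4

theorem ringKrullDim_le_of_isLocalization (M : Submonoid A) (B : Type*) [CommRing B]
    [Algebra A B] [IsLocalization M B] : ringKrullDim B ≤ ringKrullDim A := by
  apply Order.krullDim_le_of_strictMono
    (fun Q : PrimeSpectrum B => (⟨Q.asIdeal.comap (algebraMap A B), inferInstance⟩ :
      PrimeSpectrum A))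
  intro Q Q' hlt
  have h1 : Q.asIdeal < Q'.asIdeal := hlt
  exact (IsLocalization.orderEmbedding M B).strictMono h1

end dim

section main
attribute [local instance] MvPolynomial.weightedGradedAlgebra
variable {F : Type u} [Field F] {k : ℕ} (δ : Fin k → ℕ) (hδ : ∀ i, 0 < δ i) {r : ℕ}
  (g : Fin r → MvPolynomial (Fin k) F) (ε : Fin r → ℕ) (hε : ∀ i, 0 < ε i)
  (hg : ∀ i, IsWeightedHomogeneous δ (g i) (ε i))
  (hdim : ringKrullDim (MvPolynomial (Fin k) F ⧸ Ideal.span (Set.range g)) + (r : WithBot ℕ∞) ≤
    (k : WithBot ℕ∞))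
include hδ hε hg hdim

local notation "Rl" => Localization.AtPrime (irr F k)

/-- weighted-homogeneous polynomials of positive degrees cutting out a quotient of the expected
dimension form a regular sequence -/
theorem isWeaklyRegular_of_dim :
    RingTheory.Sequence.IsWeaklyRegular (MvPolynomial (Fin k) F) (List.ofFn g) := by
  classical
  set J : Ideal (MvPolynomial (Fin k) F) := Ideal.span (Set.range g) with hJ
  have hreg : IsRegularLocalRing Rl := inferInstance
  have hcm := Groth.Agent.H1.CMFlat.isCohenMacaulayLocalRing_of_isRegularLocalRing Rl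
  have hcmM : LocCoh.IsCohenMacaulayModule Rl Rl := hcm.supportDim_eq_depth
  set xs : List Rl := (List.ofFn g).map (algebraMap (MvPolynomial (Fin k) F) Rl) with hxs
  have hlen : xs.length = r := by rw [hxs, List.length_map, List.length_ofFn]
  have hxsmem : ∀ x ∈ xs, x ∈ IsLocalRing.maximalIdeal Rl := by
    intro x hx
    rw [hxs, List.mem_map] at hx
    obtain ⟨y, hy, rfl⟩ := hx
    obtain ⟨i, rfl⟩ := (List.mem_ofFn' g y).mp hy
    rw [IsLocalization.AtPrime.to_map_mem_maximal_iff Rl (irr F k)]
    exact le_span_X_of_pos δ (ε i) (hε i) (g i) (hg i)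
  have hofList : Ideal.ofList xs = J.map (algebraMap (MvPolynomial (Fin k) F) Rl) := by
    rw [hxs, ← Ideal.map_ofList, ofList_ofFn]
  -- dimension of `Rl`
  have hdimR : Module.supportDim Rl Rl = (k : WithBot ℕ∞) := by
    rw [Module.supportDim_self_eq_ringKrullDim,
      IsLocalization.AtPrime.ringKrullDim_eq_height (irr F k) Rl,
      DimFG.height_eq_ringKrullDim_of_isMaximal F (MvPolynomial (Fin k) F) (irr F k),
      DimFG.ringKrullDim_mvPolynomial_fin]
  -- dimension of the quotient
  have hdimQ : Module.supportDim Rl (Rl ⧸ (Ideal.ofList xs • ⊤ : Submodule Rl Rl)) +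
      (xs.length : WithBot ℕ∞) = Module.supportDim Rl Rl := by
    apply le_antisymm _ (Groth.Agent.H6.CM.supportDim_le_add_length xs Rl hxsmem)
    have h1 : (Ideal.ofList xs • ⊤ : Submodule Rl Rl) = Ideal.ofList xs := by
      rw [smul_eq_mul, Ideal.mul_top]
    rw [h1, Module.supportDim_quotient_eq_ringKrullDim, hofList, hdimR, hlen]
    refine le_trans (add_le_add_left ?_ _) hdim
    exact ringKrullDim_le_of_isLocalization
      (Algebra.algebraMapSubmonoid (MvPolynomial (Fin k) F ⧸ J) (irr F k).primeCompl)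
      (Rl ⧸ J.map (algebraMap (MvPolynomial (Fin k) F) Rl))
  have hwr : RingTheory.Sequence.IsWeaklyRegular Rl xs :=
    Groth.Agent.H6.CM.isWeaklyRegular_of_supportDim xs Rl hcmM hxsmem hdimQ
  -- transfer back
  refine ⟨fun j hj => ?_⟩
  rw [isSMulRegular_quotient_iff_mem_of_smul_mem]
  have hjk : j < r := by rwa [List.length_ofFn] at hj
  have hget : (List.ofFn g)[j] = g ⟨j, hjk⟩ := by simp
  have hIh := ofList_take_isHomogeneous (weightedHomogeneousSubmodule F δ) g ε hg j
  set I : Ideal (MvPolynomial (Fin k) F) := Ideal.ofList ((List.ofFn g).take j) with hI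
  have htop : (I • ⊤ : Submodule (MvPolynomial (Fin k) F) (MvPolynomial (Fin k) F)) = I := by
    rw [smul_eq_mul, Ideal.mul_top]
  rw [htop]
  suffices hcol : col I ((List.ofFn g)[j]) ≤ I by
    intro p hp
    exact hcol (mem_col.mpr hp)
  rw [hget]
  apply col_le_of_homogeneous δ hδ hIh (hg ⟨j, hjk⟩)
  intro u p hp hgp
  -- pass to the localization
  have hj' : j < xs.length := by rw [hlen]; exact hjk
  have hxj : xs[j] = algebraMap (MvPolynomial (Fin k) F) Rl (g ⟨j, hjk⟩) := by
    simp [hxs]
  have htake : Ideal.ofList (xs.take j) = I.map (algebraMap (MvPolynomial (Fin k) F) Rl) := by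
    rw [hxs, ← List.map_take, ← Ideal.map_ofList]
  have h1 : xs[j] * algebraMap (MvPolynomial (Fin k) F) Rl p ∈ Ideal.ofList (xs.take j) := by
    rw [hxj, htake, ← map_mul]
    exact Ideal.mem_map_of_mem _ hgp
  have h2 := mem_of_mul_mem_of_isWeaklyRegular hwr j hj' _ h1
  rw [htake, IsLocalization.algebraMap_mem_map_algebraMap_iff (irr F k).primeCompl] at h2
  obtain ⟨s, hs, hsp⟩ := h2
  exact mem_of_mul_mem_of_notMem_irr δ hδ hIh hp hs hsp

end main

end Groth.Agent.H2.CInt
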