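import Mathlib
import Groth.Prelude.Def_GrSyz

/-! Basic facts on the standard `ℤ`-grading of a polynomial ring and its irrelevant ideal. -/

universe u v

namespace Groth.Agent.H2.GrSyzBasic

open MvPolynomial

variable (k : Type u) [CommRing k] (σ : Type v)

/-- The weight of an exponent vector for the constant weight one is nonnegative, and zero only for
the zero vector. -/
lemma weight_one_nonneg (d : σ →₀ ℕ) : 0 ≤ Finsupp.weight (fun _ : σ => (1 : ℤ)) d := by
  rw [Finsupp.weight_apply, Finsupp.sum]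
  exact Finset.sum_nonneg (fun i _ => by positivity)

lemma weight_one_eq_zero_iff (d : σ →₀ ℕ) :
    Finsupp.weight (fun _ : σ => (1 : ℤ)) d = 0 ↔ d = 0 := by
  constructor
  · intro h
    rw [Finsupp.weight_apply, Finsupp.sum] at h
    have h2 := (Finset.sum_eq_zero_iff_of_nonneg (fun i _ => by positivity)).1 h
    ext i
    by_cases hi : i ∈ d.support
    · have := h2 i hi
      simpa using this
    · simpa using hi
  · rintro rfl
    simp

variable {k σ}

/-- A nonzero homogeneous polynomial has nonnegative degree. -/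
lemma deg_nonneg_of_mem_stdGr {n : ℤ} {p : MvPolynomial σ k} (hp : p ∈ GrSyz.stdGr k σ n)
    (h0 : p ≠ 0) : 0 ≤ n := by
  obtain ⟨d, hd⟩ := MvPolynomial.ne_zero_iff.1 h0
  rw [← hp hd]
  exact weight_one_nonneg σ d

/-- The constant coefficient of a homogeneous polynomial of positive degree vanishes. -/
lemma constantCoeff_eq_zero_of_mem_stdGr {n : ℤ} {p : MvPolynomial σ k}
    (hp : p ∈ GrSyz.stdGr k σ n) (hn : n ≠ 0) : constantCoeff p = 0 := by
  by_contra h
  have h1 : coeff 0 p ≠ 0 := h
  have h2 := hp h1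
  rw [map_zero] at h2
  exact hn h2.symm

variable (k σ)

/-- The irrelevant ideal of the standard grading is the kernel of the constant coefficient. -/
theorem irrel_toIdeal_eq :
    (GrSyz.irrel (GrSyz.stdGr k σ)).toIdeal = RingHom.ker (constantCoeff (R := k) (σ := σ)) := by
  classical
  apply le_antisymm
  · show Ideal.span _ ≤ _
    rw [Ideal.span_le]
    rintro p ⟨n, hn, hp⟩
    exact constantCoeff_eq_zero_of_mem_stdGr hp hn.ne'
  · intro p hp
    rw [RingHom.mem_ker] at hp
    rw [p.as_sum]
    refine Ideal.sum_mem _ (fun d hd => ?_)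
    by_cases hd0 : d = 0
    · subst hd0
      have : coeff 0 p = 0 := hp
      rw [this, map_zero]
      exact Ideal.zero_mem _
    · refine Ideal.subset_span ⟨Finsupp.weight (fun _ : σ => (1 : ℤ)) d, ?_, ?_⟩
      · refine lt_of_le_of_ne (weight_one_nonneg σ d) (fun h => hd0 ?_)
        exact (weight_one_eq_zero_iff σ d).1 h.symm
      · exact isWeightedHomogeneous_monomial _ _ _ rfl

variable {k σ}

lemma mem_irrel_iff {p : MvPolynomial σ k} :
    p ∈ (GrSyz.irrel (GrSyz.stdGr k σ)).toIdeal ↔ constantCoeff p = 0 := by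
  rw [irrel_toIdeal_eq, RingHom.mem_ker]

/-- A nonzero homogeneous element of the irrelevant ideal has degree at least one. -/
lemma one_le_deg_of_mem_irrel {n : ℤ} {p : MvPolynomial σ k} (hp : p ∈ GrSyz.stdGr k σ n)
    (hm : p ∈ (GrSyz.irrel (GrSyz.stdGr k σ)).toIdeal) (h0 : p ≠ 0) : 1 ≤ n := by
  obtain ⟨d, hd⟩ := MvPolynomial.ne_zero_iff.1 h0
  have hn : Finsupp.weight (fun _ : σ => (1 : ℤ)) d = n := hp hd
  have h1 : 0 ≤ n := hn ▸ weight_one_nonneg σ d
  rcases h1.lt_or_eq with h | h
  · omega
  · exfalso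
    have hd0 : d = 0 := (weight_one_eq_zero_iff σ d).1 (hn.trans h.symm)
    subst hd0
    exact hd (mem_irrel_iff.1 hm)

/-- `1` is not in the irrelevant ideal of a polynomial ring over a nontrivial ring. -/
lemma one_notMem_irrel [Nontrivial k] :
    (1 : MvPolynomial σ k) ∉ (GrSyz.irrel (GrSyz.stdGr k σ)).toIdeal := by
  rw [mem_irrel_iff, map_one]
  exact one_ne_zero

end Groth.Agent.H2.GrSyzBasic
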