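import Mathlib
import Groth.Agent.Lib.Helper2.CInt1
import Groth.Agent.Lib.Helper6.Liai3
import Groth.Agent.Lib.Helper6.Liai1

/-! Saturatedness of homogeneous complete intersections in projective space.
(helper2, CInt S10903) -/

set_option autoImplicit false
universe u

open DirectSum MvPolynomial

namespace Groth.Agent.H2.CInt
open Groth.Agent.H2.HilbHyper Groth.Agent.H2.HilbDim Groth.Agent.H2.GrCI

theorem withBot_le_sub {x : WithBot ℕ∞} {a b : ℕ} (h : x + (a : WithBot ℕ∞) ≤ (b : WithBot ℕ∞)) :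
    x ≤ ((b - a : ℕ) : WithBot ℕ∞) := by
  induction x using WithBot.recBotCoe with
  | bot => exact bot_le
  | coe x =>
    induction x using ENat.recTopCoe with
    | top =>
      exfalso
      have h1 : ((⊤ : ℕ∞) : WithBot ℕ∞) + (a : WithBot ℕ∞) = ((⊤ : ℕ∞) : WithBot ℕ∞) := by
        have : ((⊤ : ℕ∞) : WithBot ℕ∞) + (a : WithBot ℕ∞) =
            (((⊤ : ℕ∞) + (a : ℕ∞) : ℕ∞) : WithBot ℕ∞) := by push_cast; rfl
        rw [this, top_add]
      rw [h1] at h
      have h2 : (⊤ : ℕ∞) ≤ (b : ℕ∞) := by exact_mod_cast h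
      exact absurd h2 (by simp)
    | coe m =>
      have h2 : m + a ≤ b := by exact_mod_cast h
      obtain ⟨c, hc⟩ : ∃ c, c = b - a := ⟨_, rfl⟩
      rw [← hc]
      have h3 : m ≤ c := by omega
      exact_mod_cast h3

theorem withBot_add_le_of_le_sub {x : WithBot ℕ∞} {a b : ℕ} (hab : a ≤ b)
    (h : x ≤ ((b - a : ℕ) : WithBot ℕ∞)) : x + (a : WithBot ℕ∞) ≤ (b : WithBot ℕ∞) := by
  calc x + (a : WithBot ℕ∞) ≤ ((b - a : ℕ) : WithBot ℕ∞) + (a : WithBot ℕ∞) :=
        add_le_add_left h _
    _ = (b : WithBot ℕ∞) := by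
        have : b - a + a = b := by omega
        exact_mod_cast congrArg (fun t : ℕ => (t : WithBot ℕ∞)) this

section cm
variable {R : Type u} [CommRing R]

/-- a Cohen–Macaulay ring modulo an initial segment of a regular sequence is Cohen–Macaulay -/
theorem cm_quot_ofList_take [hR : LocCoh.IsCohenMacaulayRing R] (rs : List R)
    (hreg : RingTheory.Sequence.IsWeaklyRegular R rs) (j : ℕ) (hj : j ≤ rs.length) :
    LocCoh.IsCohenMacaulayRing (R ⧸ Ideal.ofList (rs.take j)) := by
  induction j with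
  | zero =>
    rw [List.take_zero, Ideal.ofList_nil]
    exact Groth.Agent.H6.Liai.cm_of_ringEquiv (RingEquiv.quotientBot R).symm
  | succ j ih =>
    have hj' : j < rs.length := hj
    haveI := ih hj'.le
    rw [ofList_take_succ rs j hj']
    apply Groth.Agent.H6.Liai.cm_quot_sup
    apply le_antisymm
    · intro x hx
      rw [Submodule.mem_colon_singleton, smul_eq_mul, mul_comm] at hx
      exact mem_of_mul_mem_of_isWeaklyRegular hreg j hj' x hx
    · intro x hx
      rw [Submodule.mem_colon_singleton]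
      exact Ideal.mul_mem_right _ _ hx

end cm

section main
variable (k : Type u) [Field k] (n r : ℕ) (f : Fin r → MvPolynomial (Fin (n + 1)) k)

local notation "S" => MvPolynomial (Fin (n + 1)) k

/-- dimension of the quotient by an ideal of height `r` in a polynomial ring -/
theorem ringKrullDim_quotient_add_le (J : Ideal S) (hr : r ≤ n + 1)
    (hJ : (r : ℕ∞) ≤ J.height) :
    ringKrullDim (S ⧸ J) + (r : WithBot ℕ∞) ≤ ((n + 1 : ℕ) : WithBot ℕ∞) := by
  apply withBot_add_le_of_le_sub hr
  apply ringKrullDim_quotient_le_of_forall_prime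
  intro P hP hJP
  apply withBot_le_sub
  have h1 := DimFG.height_add_ringKrullDim_quotient k S P
  rw [DimFG.ringKrullDim_mvPolynomial_fin] at h1
  have h2 : (r : ℕ∞) ≤ P.height := hJ.trans (Ideal.height_mono hJP)
  rw [← h1, add_comm]
  refine add_le_add_left ?_ _
  exact_mod_cast h2

/-- **saturatedness of homogeneous complete intersections** -/
theorem saturated (hr : r ≤ n) (d : Fin r → ℕ) (hf : ∀ i, (f i).IsHomogeneous (d i))
    (hd : ∀ i, 0 < d i) (hJ : (Ideal.span (Set.range f)).height = r) (g : S)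
    (hg : ∀ i : Fin (n + 1), ∃ m : ℕ, X i ^ m * g ∈ Ideal.span (Set.range f)) :
    g ∈ Ideal.span (Set.range f) := by
  classical
  set J := Ideal.span (Set.range f) with hJdef
  have hdim := ringKrullDim_quotient_add_le k n r J (by omega) (by rw [hJ])
  have hwr : RingTheory.Sequence.IsWeaklyRegular S (List.ofFn f) :=
    isWeaklyRegular_of_dim (F := k) (k := n + 1) (fun _ => 1) (fun _ => Nat.one_pos) f d hd
      (fun i => hf i) (by exact_mod_cast hdim)
  haveI : LocCoh.IsCohenMacaulayRing S :=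
    Groth.Agent.H1.CMFlat.isCohenMacaulayRing_of_isRegularRing S
  have hcm : LocCoh.IsCohenMacaulayRing (S ⧸ J) := by
    have := cm_quot_ofList_take (List.ofFn f) hwr (List.ofFn f).length le_rfl
    rwa [List.take_length, ofList_ofFn] at this
  by_contra hgJ
  have hne : (Ideal.Quotient.mk J g) ≠ 0 := by rwa [Ne, Ideal.Quotient.eq_zero_iff_mem]
  obtain ⟨P, hP, hle⟩ :=
    exists_le_isAssociatedPrime_of_isNoetherianRing (S ⧸ J) (Ideal.Quotient.mk J g) hne
  have hPmin := Groth.Agent.H6.Liai.mem_minimalPrimes_of_mem_associatedPrimes (A := S ⧸ J) hP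
  haveI hPp : P.IsPrime := hP.isPrime
  have hX : ∀ i, Ideal.Quotient.mk J (X i) ∈ P := by
    intro i
    obtain ⟨m, hm⟩ := hg i
    apply hPp.mem_of_pow_mem m
    apply hle
    rw [Submodule.mem_colon_singleton, Submodule.mem_bot, smul_eq_mul, ← map_pow, ← map_mul,
      Ideal.Quotient.eq_zero_iff_mem]
    exact hm
  set Q := P.comap (Ideal.Quotient.mk J) with hQ
  have hQmin : Q ∈ J.minimalPrimes := by
    rw [Ideal.minimalPrimes_eq_comap]
    exact ⟨P, hPmin, rfl⟩
  have hirr : irr k (n + 1) ≤ Q := by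
    rw [Ideal.span_le]
    rintro _ ⟨i, rfl⟩
    exact hX i
  have hQeq : Q = irr k (n + 1) := (irr_isMaximal.eq_of_le hQmin.1.1.ne_top hirr).symm
  have h1 : Q.height ≤ r := by
    have h := Ideal.height_le_card_of_mem_minimalPrimes_span_finset (p := Q)
      (s := Finset.univ.image f) (by simpa using hQmin)
    refine h.trans ?_
    have : (Finset.univ.image f).card ≤ r := Finset.card_image_le.trans (by simp)
    exact_mod_cast this
  have h2 : (Q.height : WithBot ℕ∞) = ((n + 1 : ℕ) : WithBot ℕ∞) := by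
    rw [hQeq, DimFG.height_eq_ringKrullDim_of_isMaximal k S (irr k (n + 1)),
      DimFG.ringKrullDim_mvPolynomial_fin]
  have h3 : ((n + 1 : ℕ) : WithBot ℕ∞) ≤ ((r : ℕ) : WithBot ℕ∞) := by
    rw [← h2]
    exact_mod_cast h1
  have h4 : n + 1 ≤ r := by exact_mod_cast h3
  omega

end main

end Groth.Agent.H2.CInt
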