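import Mathlib.AlgebraicGeometry.Noetherian
import Mathlib.AlgebraicGeometry.Morphisms.Flat
import Mathlib.AlgebraicGeometry.Morphisms.UnderlyingMap
import Mathlib.RingTheory.Flat.FaithfullyFlat.Basic
import Mathlib.RingTheory.RingHom.FaithfullyFlat

/-! Faithfully flat descent of the Noetherian property (rings, schemes). -/

universe u

namespace Groth.Agent.H2

open AlgebraicGeometry CategoryTheory TopologicalSpace Limits TensorProduct

theorem isNoetherianRing_of_faithfullyFlat (R S : Type*) [CommRing R] [CommRing S] [Algebra R S]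
    [Module.FaithfullyFlat R S] [IsNoetherianRing S] : IsNoetherianRing R := by
  have h : IsNoetherian S (S ⊗[R] R) :=
    isNoetherian_of_linearEquiv (TensorProduct.AlgebraTensorModule.rid R S S).symm
  exact Submodule.IsNoetherian.of_isNoetherian_tensorProduct_of_faithfullyFlat (A := S) h

theorem isNoetherianRing_of_ringHom_faithfullyFlat {R S : Type*} [CommRing R] [CommRing S]
    (φ : R →+* S) (hφ : φ.FaithfullyFlat) [IsNoetherianRing S] : IsNoetherianRing R := by
  algebraize [φ]
  exact isNoetherianRing_of_faithfullyFlat R S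

end Groth.Agent.H2

namespace Groth.Agent.H2

open AlgebraicGeometry CategoryTheory TopologicalSpace Limits TensorProduct

/-- If `f : X ⟶ Y` is flat and surjective with `X` affine, locally Noetherian and `Y` affine
then `Γ(Y, ⊤)` is Noetherian. -/
theorem isNoetherianRing_top_of_flat_surjective_of_isAffine {X Y : Scheme.{u}} (f : X ⟶ Y)
    [Flat f] [Surjective f] [IsAffine X] [IsAffine Y] [IsLocallyNoetherian X] :
    IsNoetherianRing Γ(Y, ⊤) := by
  have h := (Flat.flat_and_surjective_iff_faithfullyFlat_of_isAffine f).mp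
    ⟨inferInstance, inferInstance⟩
  have : IsNoetherianRing Γ(X, ⊤) :=
    IsLocallyNoetherian.component_noetherian ⟨⊤, isAffineOpen_top X⟩
  exact isNoetherianRing_of_ringHom_faithfullyFlat _ h

theorem isLocallyNoetherian_of_flat_surjective_quasiCompact {X Y : Scheme.{u}} (f : X ⟶ Y)
    [Flat f] [Surjective f] [QuasiCompact f] [IsLocallyNoetherian X] : IsLocallyNoetherian Y := by
  constructor
  intro V
  have hc : IsCompact (f ⁻¹ᵁ V.1 : Set X) := f.isCompact_preimage V.2.isCompact
  have : CompactSpace (f ⁻¹ᵁ V.1).toScheme := isCompact_iff_compactSpace.mp hc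
  let 𝒰 := (f ⁻¹ᵁ V.1).toScheme.affineCover.finiteSubcover
  let p : ∐ (fun i : 𝒰.I₀ ↦ 𝒰.X i) ⟶ (f ⁻¹ᵁ V.1).toScheme := Sigma.desc (fun i ↦ 𝒰.f i)
  have : IsAffine V.1.toScheme := V.2
  have : IsLocallyNoetherian (∐ (fun i : 𝒰.I₀ ↦ 𝒰.X i)) := by
    rw [isLocallyNoetherian_iff_openCover (sigmaOpenCover _)]
    intro i
    exact inferInstanceAs (IsLocallyNoetherian (𝒰.X i))
  have : Surjective (f ∣_ V.1) := IsZariskiLocalAtTarget.restrict ‹_› V.1
  have h := isNoetherianRing_top_of_flat_surjective_of_isAffine (p ≫ (f ∣_ V.1))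
  exact isNoetherianRing_of_ringEquiv _ V.1.topIso.commRingCatIsoToRingEquiv

end Groth.Agent.H2
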