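import Mathlib
import Groth.Agent.Lib.Helper2.CMFib1
import Groth.Agent.Lib.Helper2.ComplCat
import Groth.Agent.Lib.Helper6.CMOpen
import Groth.Agent.Lib.Helper8.Japanese.AU2
import Groth.Agent.S0580
import Groth.Agent.S0543

/-! The Cohen–Macaulay locus of a local ring with Cohen–Macaulay formal fibres is open. -/

universe u
set_option linter.style.haveILetI false

open IsLocalRing

namespace Groth.Agent.H2.CMFib

section Iff

variable {R S : Type u} [CommRing R] [CommRing S] [IsNoetherianRing R] [IsNoetherianRing S]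
  [Algebra R S] [Module.Flat R S]

theorem cm_iff (Q : Ideal S) [Q.IsPrime]
    (hfib : Module.supportDim (Localization.AtPrime Q) (EGA4.FibLocRing R S Q) =
      ((LocCoh.depth (Localization.AtPrime Q) (EGA4.FibLocRing R S Q) : ℕ∞) : WithBot ℕ∞)) :
    LocCoh.IsCohenMacaulayLocalRing (Localization.AtPrime Q) ↔
      LocCoh.IsCohenMacaulayLocalRing (Localization.AtPrime (Q.comap (algebraMap R S))) := by
  set P := Q.comap (algebraMap R S) with hP
  haveI : IsNoetherianRing (Localization.AtPrime P) :=
    IsLocalization.isNoetherianRing P.primeCompl _ inferInstance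
  haveI : IsNoetherianRing (Localization.AtPrime Q) :=
    IsLocalization.isNoetherianRing Q.primeCompl _ inferInstance
  obtain ⟨E1, E2⟩ := depth_and_dim (R := R) Q
  obtain ⟨nb, hnb⟩ := Groth.Agent.H6.LC.exists_supportDim_eq (R := Localization.AtPrime P)
    (Localization.AtPrime P)
  obtain ⟨nS, hnS⟩ := Groth.Agent.H6.LC.exists_supportDim_eq (R := Localization.AtPrime Q)
    (Localization.AtPrime Q)
  rw [hfib, hnb, hnS] at E2
  set f := LocCoh.depth (Localization.AtPrime Q) (EGA4.FibLocRing R S Q) with hf
  set a := LocCoh.depth (Localization.AtPrime P) (Localization.AtPrime P) with ha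
  set dS := LocCoh.depth (Localization.AtPrime Q) (Localization.AtPrime Q) with hdS
  have hftop : f ≠ ⊤ := by
    intro htop
    rw [htop] at E2
    have h1 : ((nS : ℕ∞) : WithBot ℕ∞) = (((nb : ℕ∞) + ⊤ : ℕ∞) : WithBot ℕ∞) := by
      rw [WithBot.coe_add]
      exact E2
    rw [WithBot.coe_inj, add_top] at h1
    exact ENat.coe_ne_top nS h1
  obtain ⟨nf, hnf⟩ := ENat.ne_top_iff_exists.mp hftop
  rw [← hnf] at E1 E2
  have hsum : nS = nb + nf := by exact_mod_cast E2
  constructor
  · intro h
    have h1 := h.supportDim_eq_depth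
    rw [hnS, ← hdS, E1] at h1
    refine { supportDim_eq_depth := ?_ }
    rw [hnb, ← ha]
    have h2 : ((nS : ℕ) : ℕ∞) = a + (nf : ℕ∞) := by exact_mod_cast h1
    have hatop : a ≠ ⊤ := by
      intro htop
      rw [htop, top_add] at h2
      exact ENat.coe_ne_top nS h2
    obtain ⟨na, hna⟩ := ENat.ne_top_iff_exists.mp hatop
    rw [← hna] at h2 ⊢
    have h4 : nS = na + nf := by exact_mod_cast h2
    have h5 : na = nb := by omega
    rw [h5]
    rfl
  · intro h
    have h1 := h.supportDim_eq_depth
    rw [hnb] at h1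
    refine { supportDim_eq_depth := ?_ }
    rw [hnS, ← hdS, E1]
    have h3 : a = (nb : ℕ∞) := by
      have : ((nb : ℕ∞) : WithBot ℕ∞) = ((a : ℕ∞) : WithBot ℕ∞) := h1
      exact (WithBot.coe_inj.mp this).symm
    rw [h3, hsum]
    push_cast
    rfl

end Iff

section Open

variable (A : Type u) [CommRing A] [IsNoetherianRing A] [IsLocalRing A]

/-- the Cohen–Macaulay locus of a complete Noetherian local ring is open -/
theorem isOpen_cm_complete (R : Type u) [CommRing R] [IsNoetherianRing R] [IsLocalRing R]
    [IsAdicComplete (maximalIdeal R) R] :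
    IsOpen {q : PrimeSpectrum R |
      LocCoh.IsCohenMacaulayLocalRing (Localization.AtPrime q.asIdeal)} := by
  obtain ⟨Λ, _, n, f, hΛ, hf⟩ := Groth.Agent.S0580.result R (IsNoetherian.noetherian _)
  have hreg : IsRegularLocalRing (MvPowerSeries (Fin n) Λ) := by
    rcases hΛ with hfield | hcohen
    · letI := hfield.toField
      exact (Groth.Agent.H5.FSm.isRegularLocalRing_mvPowerSeries Λ n).1
    · obtain ⟨hdom, hdvr, -, q, hq, hm⟩ := hcohen
      haveI := hdom
      haveI := hdvr
      exact (Groth.Agent.H5.FSm.isRegularLocalRing_mvPowerSeries Λ n).1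
  haveI := hreg
  haveI : IsRegularRing (MvPowerSeries (Fin n) Λ) :=
    Groth.Agent.H2.ComplCat.isRegularRing_of_isRegularLocalRing _
  letI : Algebra (MvPowerSeries (Fin n) Λ) R := f.toAlgebra
  have hπ : Function.Surjective (algebraMap (MvPowerSeries (Fin n) Λ) R) := hf
  have hopen := Groth.Agent.H6.Codepth.isOpen_codepth_le_quot hπ R 0
  convert hopen using 1
  ext q
  rw [Set.mem_ofPred_eq, Set.mem_ofPred_eq]
  exact Groth.Agent.H6.Codepth.cmLocal_iff q.asIdeal

/-- **S2703** -/
theorem isOpen_cm_of_hasCMFormalFibres (hA : EGA4.HasCMFormalFibres A) :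
    IsOpen {p : PrimeSpectrum A |
      LocCoh.IsCohenMacaulayLocalRing (Localization.AtPrime p.asIdeal)} := by
  haveI : IsNoetherianRing (AdicCompletion (maximalIdeal A) A) := Groth.Agent.S0543.result A _
  haveI := Groth.Agent.H8.Jap.isAdicComplete_adicCompletion_maximalIdeal A
  set R := AdicCompletion (maximalIdeal A) A with hR
  haveI : Module.FaithfullyFlat A R := Module.FaithfullyFlat.of_flat_of_isLocalHom
  have hsurj : Function.Surjective (PrimeSpectrum.comap (algebraMap A R)) :=
    PrimeSpectrum.comap_surjective_of_faithfullyFlat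
  have hflat : (algebraMap A R).Flat := RingHom.flat_algebraMap_iff.mpr inferInstance
  have hq := PrimeSpectrum.isQuotientMap_of_generalizingMap hsurj hflat.generalizingMap_comap
  rw [← hq.isOpen_preimage]
  have hopen := isOpen_cm_complete R
  convert hopen using 1
  ext q
  rw [Set.mem_preimage, Set.mem_ofPred_eq, Set.mem_ofPred_eq]
  have hfib := (Groth.Agent.H6.FiberDict.cm_fiber_iff (A := A) (B := R)
    (q.asIdeal.comap (algebraMap A R))).mp (hA _) q.asIdeal rfl
  exact (cm_iff (R := A) q.asIdeal hfib).symm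

end Open

end Groth.Agent.H2.CMFib
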