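import Mathlib
import Groth.Prelude.Def_RegImm
import Groth.Prelude.Def_EGA4b
import Groth.Agent.Lib.Helper8.GCI.LCI
import Groth.Agent.Lib.Helper6.FiberDict
import Groth.Agent.Lib.Helper2.TenCM3
import Groth.Agent.Lib.Helper2.CMFib2

/-! Syntomic ring maps: the fibre local rings are Cohen–Macaulay; transfer of `(S_n)` and CM. -/

universe u
set_option linter.style.haveILetI false

namespace Groth.Agent.H2.SyntCM

variable {A B : Type u} [CommRing A] [CommRing B] [Algebra A B]

theorem fib_cm (h : Synt.IsSyntomic A B) [IsNoetherianRing B] (Q : Ideal B) [Q.IsPrime] :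
    Module.supportDim (Localization.AtPrime Q) (EGA4.FibLocRing A B Q) =
      ((LocCoh.depth (Localization.AtPrime Q) (EGA4.FibLocRing A B Q) : ℕ∞) : WithBot ℕ∞) := by
  have h1 := h.2.2 ⟨Q.comap (algebraMap A B), inferInstance⟩
  have h2 := Groth.Agent.H8.GCI.isCohenMacaulayRing_of_isLCIOver _ h1
  exact (Groth.Agent.H6.FiberDict.cm_fiber_iff (A := A) (B := B) (Q.comap (algebraMap A B))).mp
    h2 Q rfl

theorem hasSkAt_iff (h : Synt.IsSyntomic A B) [IsNoetherianRing A] [IsNoetherianRing B] (n : ℕ)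
    (Q : Ideal B) [Q.IsPrime] :
    EGA4.HasSkAt n A A (Q.comap (algebraMap A B)) ↔ EGA4.HasSkAt n B B Q := by
  haveI : Module.Flat A B := h.1
  exact Groth.Agent.H2.TenCM.hasSkAt_iff_of_cm_fibres (R := A) (S := B)
    (fun Q' _ => fib_cm h Q') n Q

theorem cm_iff (h : Synt.IsSyntomic A B) [IsNoetherianRing A] [IsNoetherianRing B]
    (Q : Ideal B) [Q.IsPrime] :
    LocCoh.IsCohenMacaulayLocalRing (Localization.AtPrime Q) ↔
      LocCoh.IsCohenMacaulayLocalRing (Localization.AtPrime (Q.comap (algebraMap A B))) := by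
  haveI : Module.Flat A B := h.1
  exact Groth.Agent.H2.CMFib.cm_iff (R := A) (S := B) Q (fib_cm h Q)

theorem isNoetherianRing_of_isSyntomic (h : Synt.IsSyntomic A B) [IsNoetherianRing A] :
    IsNoetherianRing B := by
  haveI := h.2.1
  exact Algebra.FiniteType.isNoetherianRing A B

end Groth.Agent.H2.SyntCM
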