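import Mathlib
import Groth.Agent.Lib.Helper2.SyntCM1
import Groth.Agent.Lib.Helper2.NoethDescent

/-! Syntomic ring maps: descent of the Noetherian property near a prime in the image. -/

universe u
set_option linter.style.haveILetI false

namespace Groth.Agent.H2.SyntCM

variable {A B : Type u} [CommRing A] [CommRing B] [Algebra A B]

/-- flat + finite presentation: if `B` is Noetherian then `A` is Noetherian near the image of
any prime of `B`. -/
theorem exists_away_noetherian [Module.Flat A B] [Algebra.FinitePresentation A B]
    [IsNoetherianRing B] (Q : Ideal B) [Q.IsPrime] :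
    ∃ g : A, g ∉ Q.comap (algebraMap A B) ∧ IsNoetherianRing (Localization.Away g) := by
  have hopen := PrimeSpectrum.isOpenMap_comap_of_hasGoingDown_of_finitePresentation (R := A) (S := B)
  have hW : IsOpen (Set.range (PrimeSpectrum.comap (algebraMap A B))) := hopen.isOpen_range
  have hmem : (⟨Q.comap (algebraMap A B), inferInstance⟩ : PrimeSpectrum A) ∈
      Set.range (PrimeSpectrum.comap (algebraMap A B)) := ⟨⟨Q, inferInstance⟩, rfl⟩
  obtain ⟨_, ⟨g, rfl⟩, hpg, hgW⟩ :=
    PrimeSpectrum.isTopologicalBasis_basic_opens.exists_subset_of_mem_open hmem hW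
  refine ⟨g, hpg, ?_⟩
  let M := Submonoid.powers g
  let Bg := Localization (Algebra.algebraMapSubmonoid B M)
  haveI : Module.Flat A Bg := inferInstance
  haveI : Module.Flat (Localization M) Bg :=
    (Module.flat_iff_of_isLocalization (Localization M) M Bg).mpr inferInstance
  haveI : Module.FaithfullyFlat (Localization M) Bg := by
    refine Module.FaithfullyFlat.of_comap_surjective ?_
    intro p'
    -- the contraction to `A`
    let p'' : PrimeSpectrum A := PrimeSpectrum.comap (algebraMap A (Localization M)) p'
    have hg : p'' ∈ (PrimeSpectrum.basicOpen g : Set (PrimeSpectrum A)) := by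
      change g ∉ p''.asIdeal
      intro hgp
      have h1 : algebraMap A (Localization M) g ∈ p'.asIdeal := hgp
      exact p'.2.ne_top (Ideal.eq_top_of_isUnit_mem _ h1
        (IsLocalization.map_units (Localization M) (⟨g, Submonoid.mem_powers g⟩ : M)))
    obtain ⟨Q'', hQ''⟩ := hgW hg
    have hdisj : Disjoint (Algebra.algebraMapSubmonoid B M : Set B) (Q''.asIdeal : Set B) := by
      rw [Set.disjoint_left]
      rintro _ ⟨a, ⟨n, rfl⟩, rfl⟩ hmem
      have h2 : algebraMap A B g ∈ Q''.asIdeal := by
        rw [map_pow] at hmem
        exact Q''.2.mem_of_pow_mem n hmem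
      have h3 : g ∈ p''.asIdeal := by
        rw [← hQ'']
        exact h2
      exact hg h3
    have hprime : (Q''.asIdeal.map (algebraMap B Bg)).IsPrime :=
      IsLocalization.isPrime_of_isPrime_disjoint (Algebra.algebraMapSubmonoid B M) Bg _ Q''.2 hdisj
    have hcomap : (Q''.asIdeal.map (algebraMap B Bg)).comap (algebraMap B Bg) = Q''.asIdeal :=
      IsLocalization.comap_map_of_isPrime_disjoint (Algebra.algebraMapSubmonoid B M) Bg Q''.2 hdisj
    refine ⟨⟨Q''.asIdeal.map (algebraMap B Bg), hprime⟩, ?_⟩
    apply PrimeSpectrum.localization_comap_injective (Localization M) M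
    rw [← PrimeSpectrum.comap_comp_apply]
    change _ = p''
    rw [← hQ'']
    ext a
    change algebraMap (Localization M) Bg (algebraMap A (Localization M) a) ∈
      Q''.asIdeal.map (algebraMap B Bg) ↔ algebraMap A B a ∈ Q''.asIdeal
    rw [← IsScalarTower.algebraMap_apply, IsScalarTower.algebraMap_apply A B Bg,
      ← Ideal.mem_comap, hcomap]
  haveI : IsNoetherianRing Bg :=
    IsLocalization.isNoetherianRing (Algebra.algebraMapSubmonoid B M) Bg inferInstance
  exact Groth.Agent.H2.isNoetherianRing_of_faithfullyFlat (Localization M) Bg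

end Groth.Agent.H2.SyntCM
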