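import Mathlib
import Groth.Agent.Lib.Helper2.TenCM4
import Groth.Agent.Lib.Helper6.SemiLin

/-! `(S_n)` for tensor products over a field. -/

universe u
set_option linter.style.haveILetI false

open TensorProduct

namespace Groth.Agent.H2.TenCM

theorem hasSk_of_ringEquiv {A A' : Type u} [CommRing A] [CommRing A'] [IsNoetherianRing A]
    (e : A ≃+* A') (n : ℕ) (h : LocCoh.HasSk n A A) : LocCoh.HasSk n A' A' := by
  haveI : IsNoetherianRing A' := isNoetherianRing_of_ringEquiv A e
  rw [Groth.Agent.H6.SkLoc.hasSk_iff_skIneq] at h ⊢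
  intro P' hP'
  let P : Ideal A := P'.comap e.toRingHom
  haveI : P.IsPrime := Ideal.comap_isPrime _ _
  have H : P.primeCompl.map e.toMonoidHom = P'.primeCompl := by
    ext y
    constructor
    · rintro ⟨x, hx, rfl⟩
      exact hx
    · intro hy
      refine ⟨e.symm y, ?_, by simp⟩
      change e.symm y ∉ P
      intro h
      apply hy
      have : e (e.symm y) ∈ P' := h
      simpa using this
  have h1 := h P
  rw [skIneq_iff_loc] at h1 ⊢
  haveI : IsNoetherianRing (Localization.AtPrime P) :=
    IsLocalization.isNoetherianRing P.primeCompl _ inferInstance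
  haveI : IsNoetherianRing (Localization.AtPrime P') :=
    IsLocalization.isNoetherianRing P'.primeCompl _ inferInstance
  let σ : Localization.AtPrime P ≃+* Localization.AtPrime P' :=
    IsLocalization.ringEquivOfRingEquiv (Localization.AtPrime P) (Localization.AtPrime P') e H
  obtain ⟨h2, h3⟩ := Groth.Agent.H6.SemiLin.depth_and_dim_eq (M₁ := Localization.AtPrime P)
    (M₂ := Localization.AtPrime P') σ σ.toAddEquiv (fun r m => by simp)
  rw [← h2, ← h3]
  exact h1

/-- `(S_n)` passes to the base change by a field extension -/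
theorem hasSk_baseChange_field (k T k' : Type u) [Field k] [CommRing T] [Algebra k T]
    [IsNoetherianRing T] [Field k'] [Algebra k k']
    (hft : Algebra.FiniteType k T ∨ Algebra.EssFiniteType k k') [IsNoetherianRing (T ⊗[k] k')]
    (n : ℕ) (hT : LocCoh.HasSk n T T) : LocCoh.HasSk n (T ⊗[k] k') (T ⊗[k] k') := by
  rw [Groth.Agent.H6.SkLoc.hasSk_iff_forall_hasSkAt] at hT ⊢
  intro Q hQ
  have hfib : ∀ (Q : Ideal (T ⊗[k] k')) [Q.IsPrime],
      Module.supportDim (Localization.AtPrime Q) (EGA4.FibLocRing T (T ⊗[k] k') Q) =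
      ((LocCoh.depth (Localization.AtPrime Q) (EGA4.FibLocRing T (T ⊗[k] k') Q) : ℕ∞) :
        WithBot ℕ∞) := by
    intro Q hQ
    exact (Groth.Agent.H6.FiberDict.cm_fiber_iff (A := T) (B := T ⊗[k] k')
      (Q.comap (algebraMap T (T ⊗[k] k')))).mp
      (cm_fibre_baseChange_field k T k' hft _) Q rfl
  exact (hasSkAt_iff_of_cm_fibres (R := T) hfib n Q).mp (hT _)

end Groth.Agent.H2.TenCM
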