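import Mathlib
import Groth.Prelude.Def_RegImm
import Groth.Prelude.Def_CAlg
import Groth.Agent.Lib.Helper2.SyntCM2
import Groth.Agent.Lib.Helper2.TenCM5
import Groth.Agent.Lib.Helper6.Liai3
import Groth.Agent.Lib.Helper6.ReflKer

/-! Dictionary: stalks of a scheme vs. localizations of sections over affine opens, for `(S_n)` and
Cohen–Macaulayness. -/

universe u
set_option linter.style.haveILetI false

open AlgebraicGeometry

namespace Groth.Agent.H2.SyntCM

variable {X : Scheme.{u}}

/-- stalk ≃ localization -/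
noncomputable def stalkEquiv {U : X.Opens} (hU : IsAffineOpen U) (x : X) (hx : x ∈ U) :
    X.presheaf.stalk x ≃+* Localization.AtPrime (hU.primeIdealOf ⟨x, hx⟩).asIdeal :=
  letI : Algebra Γ(X, U) (X.presheaf.stalk x) :=
    TopCat.Presheaf.algebra_section_stalk X.presheaf ⟨x, hx⟩
  haveI := hU.isLocalization_stalk ⟨x, hx⟩
  (IsLocalization.algEquiv (hU.primeIdealOf ⟨x, hx⟩).asIdeal.primeCompl (X.presheaf.stalk x)
    (Localization.AtPrime (hU.primeIdealOf ⟨x, hx⟩).asIdeal)).toRingEquiv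

theorem hasSkAt_self_iff {R : Type u} [CommRing R] [IsNoetherianRing R] (n : ℕ) (q : Ideal R)
    [q.IsPrime] :
    EGA4.HasSkAt n R R q ↔ LocCoh.HasSk n (Localization.AtPrime q) (Localization.AtPrime q) := by
  haveI : IsNoetherianRing (Localization.AtPrime q) :=
    IsLocalization.isNoetherianRing q.primeCompl _ inferInstance
  haveI : Module.Finite (Localization.AtPrime q) (LocalizedModule q.primeCompl R) :=
    Module.Finite.of_isLocalizedModule q.primeCompl (LocalizedModule.mkLinearMap q.primeCompl R)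
  unfold EGA4.HasSkAt
  constructor
  · exact Groth.Agent.H6.Sk.hasSk_of_linearEquiv n (Groth.Agent.H6.FiberDict.locEquiv R q)
  · exact Groth.Agent.H6.Sk.hasSk_of_linearEquiv n (Groth.Agent.H6.FiberDict.locEquiv R q).symm

theorem hasSk_stalk_iff {U : X.Opens} (hU : IsAffineOpen U) [IsNoetherianRing Γ(X, U)] (x : X)
    (hx : x ∈ U) (n : ℕ) :
    LocCoh.HasSk n (X.presheaf.stalk x) (X.presheaf.stalk x) ↔
      EGA4.HasSkAt n Γ(X, U) Γ(X, U) (hU.primeIdealOf ⟨x, hx⟩).asIdeal := by
  rw [hasSkAt_self_iff]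
  haveI : IsNoetherianRing (Localization.AtPrime (hU.primeIdealOf ⟨x, hx⟩).asIdeal) :=
    IsLocalization.isNoetherianRing (hU.primeIdealOf ⟨x, hx⟩).asIdeal.primeCompl _ inferInstance
  haveI : IsNoetherianRing (X.presheaf.stalk x) :=
    isNoetherianRing_of_ringEquiv _ (stalkEquiv hU x hx).symm
  constructor
  · exact Groth.Agent.H2.TenCM.hasSk_of_ringEquiv (stalkEquiv hU x hx) n
  · exact Groth.Agent.H2.TenCM.hasSk_of_ringEquiv (stalkEquiv hU x hx).symm n

theorem cm_stalk_iff {U : X.Opens} (hU : IsAffineOpen U) (x : X) (hx : x ∈ U) :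
    LocCoh.IsCohenMacaulayLocalRing (X.presheaf.stalk x) ↔
      LocCoh.IsCohenMacaulayLocalRing
        (Localization.AtPrime (hU.primeIdealOf ⟨x, hx⟩).asIdeal) := by
  constructor
  · intro h
    exact Groth.Agent.H6.Liai.cmLocal_of_ringEquiv (stalkEquiv hU x hx)
  · intro h
    exact Groth.Agent.H6.Liai.cmLocal_of_ringEquiv (stalkEquiv hU x hx).symm

theorem hasSkAt_congr {R : Type u} [CommRing R] (n : ℕ) {p q : Ideal R} [p.IsPrime] [q.IsPrime]
    (h : p = q) : EGA4.HasSkAt n R R p ↔ EGA4.HasSkAt n R R q := by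
  subst h
  exact Iff.rfl

theorem cm_congr {R : Type u} [CommRing R] {p q : Ideal R} [p.IsPrime] [q.IsPrime]
    (h : p = q) : LocCoh.IsCohenMacaulayLocalRing (Localization.AtPrime p) ↔
      LocCoh.IsCohenMacaulayLocalRing (Localization.AtPrime q) := by
  subst h
  exact Iff.rfl

end Groth.Agent.H2.SyntCM
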