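import Mathlib
import Groth.Prelude.Def_CAlg
import Groth.Agent.Lib.Helper6.SkLift
import Groth.Agent.Lib.Helper6.SkSurj
import Groth.Agent.Lib.Helper6.SkQuot
import Groth.Agent.Lib.Helper6.GrHeightZ
import Groth.Agent.Lib.Helper6.DimCore
import Groth.Agent.Lib.Helper6.DepthBass

/-! Depth and dimension: quotient by a regular element; a prime versus its homogeneous core. -/

universe u
open scoped Pointwise

namespace Groth.Agent.H2.QuotRegShift

open Groth.Agent.H6

section Quot

variable {R : Type u} [CommRing R] [IsNoetherianRing R]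

theorem nontrivial_localized_self (p : Ideal R) [p.IsPrime] :
    Nontrivial (LocalizedModule p.primeCompl R) := by
  let e0 : LocalizedModule p.primeCompl R ≃ₗ[R] Localization.AtPrime p :=
    IsLocalizedModule.linearEquiv p.primeCompl (LocalizedModule.mkLinearMap p.primeCompl R)
      (Algebra.linearMap R (Localization.AtPrime p))
  exact e0.toEquiv.nontrivial

/-- the local depth drops by exactly one modulo a regular element of the prime -/
theorem depth_quotSMulTop (M : Type u) [AddCommGroup M] [Module R M] [Module.Finite R M]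
    (t : R) (hreg : IsSMulRegular M t) (q : Ideal R) [q.IsPrime] (htq : t ∈ q) :
    LocCoh.depth (Localization.AtPrime q) (LocalizedModule q.primeCompl M) =
      LocCoh.depth (Localization.AtPrime q) (LocalizedModule q.primeCompl (QuotSMulTop t M)) + 1 := by
  apply ENat.eq_of_forall_natCast_le_iff
  intro k
  cases k with
  | zero => simp
  | succ j =>
    rw [← Depth.locDepthGE_iff]
    have h1 : ((j + 1 : ℕ) : ℕ∞) ≤ LocCoh.depth (Localization.AtPrime q)
        (LocalizedModule q.primeCompl (QuotSMulTop t M)) + 1 ↔
        (j : ℕ∞) ≤ LocCoh.depth (Localization.AtPrime q)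
          (LocalizedModule q.primeCompl (QuotSMulTop t M)) := by
      push_cast
      exact WithTop.add_le_add_iff_right (ENat.one_ne_top)
    rw [h1, ← Depth.locDepthGE_iff]
    exact ⟨Depth.locDepthGE_quotSMulTop M q j t hreg,
      Depth.locDepthGE_succ_of_quotSMulTop M q j t htq hreg⟩

/-- **Lemma G**: depth and dimension of `R` at the pullback of a prime of `C = R/(t)`, `t` regular -/
theorem depth_dim_of_surjective_regular {C : Type u} [CommRing C]
    (φ : R →+* C) (hφ : Function.Surjective φ) (t : R) (hker : RingHom.ker φ = Ideal.span {t})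
    (ht : IsSMulRegular R t) (P : Ideal C) [P.IsPrime] :
    LocCoh.depth (Localization.AtPrime (P.comap φ)) (LocalizedModule (P.comap φ).primeCompl R) =
      LocCoh.depth (Localization.AtPrime P) (LocalizedModule P.primeCompl C) + 1 ∧
    Module.supportDim (Localization.AtPrime (P.comap φ))
        (LocalizedModule (P.comap φ).primeCompl R) =
      Module.supportDim (Localization.AtPrime P) (LocalizedModule P.primeCompl C) + 1 := by
  letI : Algebra R C := φ.toAlgebra
  have hsurj : Function.Surjective (algebraMap R C) := hφ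
  haveI : Module.Finite R C := Module.Finite.of_surjective (Algebra.linearMap R C) hsurj
  have htq : t ∈ P.comap φ := by
    rw [Ideal.mem_comap]
    have : φ t = 0 := by
      rw [← RingHom.mem_ker, hker]
      exact Ideal.mem_span_singleton_self t
    rw [this]
    exact P.zero_mem
  -- `C ≅ R / tR` as `R`-modules
  have hk : LinearMap.ker (Algebra.linearMap R C) = t • (⊤ : Submodule R R) := by
    ext x
    rw [LinearMap.mem_ker, Algebra.linearMap_apply]
    change φ x = 0 ↔ _
    rw [← RingHom.mem_ker, hker, Ideal.mem_span_singleton', Submodule.mem_smul_pointwise_iff_exists]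
    constructor
    · rintro ⟨a, rfl⟩
      exact ⟨a, trivial, by rw [smul_eq_mul, mul_comm]⟩
    · rintro ⟨a, -, rfl⟩
      exact ⟨a, by rw [smul_eq_mul, mul_comm]⟩
  let e : C ≃ₗ[R] QuotSMulTop t R :=
    ((Algebra.linearMap R C).quotKerEquivOfSurjective hsurj).symm.trans
      (Submodule.quotEquivOfEq _ _ hk)
  obtain ⟨a1, a2⟩ := SkSurj.depth_and_dim_comap (A := R) (C := C) hsurj C P
  obtain ⟨b1, b2⟩ := SkLoc.depth_and_dim_congr C e (P.comap (algebraMap R C))
  have c1 := depth_quotSMulTop R t ht (P.comap (algebraMap R C)) htq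
  have c2 := SkLift.supportDim_quot_add_one R t ht (P.comap (algebraMap R C)) htq
  constructor
  · rw [a1, b1]
    exact c1
  · rw [a2, b2]
    exact c2.symm

end Quot

section Graded

variable {R : Type u} [CommRing R] [IsNoetherianRing R] (𝒜 : ℤ → AddSubgroup R) [GradedRing 𝒜]

/-- **Lemma GC**: depth and dimension at a prime versus at its homogeneous core -/
theorem exists_shift (P : Ideal R) [hP : P.IsPrime]
    [hc : (Ideal.homogeneousCore 𝒜 P).toIdeal.IsPrime] :
    ∃ d : ℕ, d ≤ 1 ∧ (d = 0 ↔ P = (Ideal.homogeneousCore 𝒜 P).toIdeal) ∧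
      LocCoh.depth (Localization.AtPrime P) (LocalizedModule P.primeCompl R) =
        LocCoh.depth (Localization.AtPrime (Ideal.homogeneousCore 𝒜 P).toIdeal)
          (LocalizedModule (Ideal.homogeneousCore 𝒜 P).toIdeal.primeCompl R) + d ∧
      Module.supportDim (Localization.AtPrime P) (LocalizedModule P.primeCompl R) =
        Module.supportDim (Localization.AtPrime (Ideal.homogeneousCore 𝒜 P).toIdeal)
          (LocalizedModule (Ideal.homogeneousCore 𝒜 P).toIdeal.primeCompl R) + (d : WithBot ℕ∞) := by
  classical
  set c : Ideal R := (Ideal.homogeneousCore 𝒜 P).toIdeal with hcdef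
  have hcp : c ≤ P := Ideal.toIdeal_homogeneousCore_le 𝒜 P
  haveI hq : (P.map (Ideal.Quotient.mk c)).IsPrime :=
    Ideal.map_isPrime_of_surjective Ideal.Quotient.mk_surjective (by rwa [Ideal.mk_ker])
  obtain ⟨d, hd⟩ := ENat.ne_top_iff_exists.mp (Ideal.height_ne_top hq.ne_top)
  have h1 := DimCore.supportDim_core 𝒜 𝒜 P d hd.symm (nontrivial_localized_self P)
  have h2 := DepthBass.depth_core 𝒜 P d hd.symm R 𝒜
  refine ⟨d, ?_, ?_, h2, h1⟩
  · have := RelHt.relHt_coreI_le_one 𝒜 P
    rw [RelHt.relHt_eq_height] at this
    change (P.map (Ideal.Quotient.mk c)).height ≤ 1 at this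
    rw [← hd] at this
    exact_mod_cast this
  · haveI : IsDomain (R ⧸ c) := Ideal.Quotient.isDomain c
    constructor
    · intro h0
      rw [h0] at hd
      have h3 : (P.map (Ideal.Quotient.mk c)).height = 0 := hd.symm
      rw [Ideal.height_eq_zero_iff, IsDomain.minimalPrimes_eq_singleton_bot,
        Set.mem_singleton_iff] at h3
      have h4 : P.map (Ideal.Quotient.mk c) = ⊥ := h3
      apply le_antisymm _ hcp
      intro x hx
      have : Ideal.Quotient.mk c x ∈ P.map (Ideal.Quotient.mk c) := Ideal.mem_map_of_mem _ hx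
      rw [h4, Ideal.mem_bot, Ideal.Quotient.eq_zero_iff_mem] at this
      exact this
    · intro hPc
      have h4 : P.map (Ideal.Quotient.mk c) = ⊥ := by
        rw [hPc]
        exact Ideal.map_quotient_self c
      rw [h4] at hd
      have : (⊥ : Ideal (R ⧸ c)).height = 0 := by
        rw [Ideal.height_eq_zero_iff, IsDomain.minimalPrimes_eq_singleton_bot,
          Set.mem_singleton_iff]
      rw [this] at hd
      exact_mod_cast hd

end Graded

end Groth.Agent.H2.QuotRegShift
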