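import Groth.Agent.Lib.Helper2.BlGrA
import Groth.Agent.Lib.Helper2.BlSmB
import Groth.Agent.Lib.Helper2.CInt2
import Groth.Agent.Lib.Helper2.SyntCM3
import Groth.Agent.Lib.Helper3.CA.CMFibres
import Groth.Agent.Lib.Helper3.CMPt2
import Groth.Agent.Lib.Helper5.CA.RegHom1

/-! # Chart rings of the blow-up of a Cohen–Macaulay ring in a regular sequence are
Cohen–Macaulay along the exceptional divisor. -/

universe u
open MvPolynomial

namespace Groth.Agent.H2.BlCm
open Groth.Agent.H2.BlGr

section equiv

variable {R Rb Cb : Type u} [CommRing R] [CommRing Rb] [CommRing Cb] {m : ℕ}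
  (f : Fin (m + 1) → R) (j : Fin (m + 1))

/-- the exceptional divisor of the `j`-th chart is an affine space over the centre. -/
theorem nonempty_ringEquiv_of_chart (α : R →+* Rb) (hα : Function.Surjective α)
    (hkα : RingHom.ker α = Ideal.span (Set.range f))
    (γ : chartRing f j →+* Cb) (hγ : Function.Surjective γ)
    (hkγ : RingHom.ker γ = (Ideal.span (Set.range f)).map (algebraMap R (chartRing f j)))
    (g : Rb →+* Cb) (hcomm : g.comp α = γ.comp (algebraMap R (chartRing f j))) :
    Nonempty (MvPolynomial (Fin m) Rb ≃+* Cb) := by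
  let P := MvPolynomial (Fin m) Rb
  let _ : Algebra R P := ((C : Rb →+* P).comp α).toAlgebra
  have halgP : ∀ r : R, algebraMap R P r = C (α r) := fun r => rfl
  have hαf : ∀ k, α (f k) = 0 := by
    intro k
    rw [← RingHom.mem_ker, hkα]
    exact Ideal.subset_span ⟨k, rfl⟩
  have hs : ∀ i : Fin m, algebraMap R P (f (j.succAbove i)) + algebraMap R P (f j) * (X i : P) = 0 := by
    intro i
    rw [halgP, halgP, hαf, hαf, map_zero, zero_mul, add_zero]
  let χ₀ : chartRing f j →ₐ[R] P := chartLift f j (fun i => (X i : P)) hs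
  have hχ₀alg : ∀ r : R, χ₀ (algebraMap R (chartRing f j) r) = C (α r) := by
    intro r
    rw [AlgHom.commutes]
    exact halgP r
  have hχ₀coord : ∀ i, χ₀ (coord f j i) = X i := fun i => chartLift_coord f j _ hs i
  have hker : RingHom.ker γ ≤ RingHom.ker χ₀.toRingHom := by
    rw [hkγ, Ideal.map_le_iff_le_comap, Ideal.span_le]
    rintro _ ⟨k, rfl⟩
    rw [SetLike.mem_coe, Ideal.mem_comap, RingHom.mem_ker]
    change χ₀ (algebraMap R (chartRing f j) (f k)) = 0
    rw [hχ₀alg, hαf, map_zero]
  let χ : Cb →+* P := γ.liftOfSurjective hγ ⟨χ₀.toRingHom, hker⟩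
  have hχγ : ∀ c, χ (γ c) = χ₀ c := fun c =>
    RingHom.liftOfRightInverse_comp_apply γ _ _ ⟨χ₀.toRingHom, hker⟩ c
  let ψ : P →+* Cb := MvPolynomial.eval₂Hom g (fun k => γ (coord f j k))
  have hψC : ∀ r : Rb, ψ (C r) = g r := fun r => MvPolynomial.eval₂_C _ _ r
  have hψX : ∀ i, ψ (X i) = γ (coord f j i) := fun i => MvPolynomial.eval₂_X _ _ i
  have hgα : ∀ r : R, g (α r) = γ (algebraMap R (chartRing f j) r) := fun r =>
    congrArg (fun h : R →+* Cb => h r) hcomm
  have h1 : ψ.comp χ₀.toRingHom = γ := by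
    apply Ideal.Quotient.ringHom_ext
    apply MvPolynomial.ringHom_ext
    · intro r
      change ψ (χ₀ (algebraMap R (chartRing f j) r)) = γ (algebraMap R (chartRing f j) r)
      rw [hχ₀alg, hψC, hgα]
    · intro i
      change ψ (χ₀ (coord f j i)) = γ (coord f j i)
      rw [hχ₀coord, hψX]
  have h2 : ∀ c : Cb, ψ (χ c) = c := by
    intro c
    obtain ⟨c, rfl⟩ := hγ c
    rw [hχγ]
    exact congrArg (fun h : chartRing f j →+* Cb => h c) h1
  have h3 : χ.comp ψ = RingHom.id P := by
    apply MvPolynomial.ringHom_ext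
    · intro r
      obtain ⟨r, rfl⟩ := hα r
      change χ (ψ (C (α r))) = C (α r)
      rw [hψC, hgα, hχγ, hχ₀alg]
    · intro i
      change χ (ψ (X i)) = X i
      rw [hψX, hχγ, hχ₀coord]
  exact ⟨{ toFun := ψ
           invFun := χ
           left_inv := fun p => congrArg (fun h : P →+* P => h p) h3
           right_inv := h2
           map_mul' := map_mul ψ
           map_add' := map_add ψ }⟩

end equiv

section cm

/-- a polynomial ring over a Cohen–Macaulay ring is Cohen–Macaulay. -/
theorem cm_mvPolynomial (A : Type u) [CommRing A] [hA : LocCoh.IsCohenMacaulayRing A] (m : ℕ) :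
    LocCoh.IsCohenMacaulayRing (MvPolynomial (Fin m) A) := by
  have : IsNoetherianRing A := inferInstance
  have : IsNoetherianRing (MvPolynomial (Fin m) A) := inferInstance
  have : Algebra.Smooth A (MvPolynomial (Fin m) A) := {}
  exact Groth.Agent.H3.CMFib.cm_of_isRegularHom A (MvPolynomial (Fin m) A)
    (Groth.Agent.H5.RegHom.isRegularHom_of_smooth A (MvPolynomial (Fin m) A))

variable {R : Type u} [CommRing R] {m : ℕ} (f : Fin (m + 1) → R)

/-- the chart rings of the blow-up of a Cohen–Macaulay ring in a regular sequence are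
Cohen–Macaulay at the primes of the exceptional divisor. -/
theorem cm_chartRing_atPrime [hR : LocCoh.IsCohenMacaulayRing R]
    (hf : RingTheory.Sequence.IsWeaklyRegular R (List.ofFn f)) (j : Fin (m + 1))
    (q : Ideal (chartRing f j)) [hq : q.IsPrime]
    (hjq : algebraMap R (chartRing f j) (f j) ∈ q) :
    LocCoh.IsCohenMacaulayLocalRing (Localization.AtPrime q) := by
  have hRn : IsNoetherianRing R := inferInstance
  have hKos : LCI.IsKoszulRegularSeq R (List.ofFn f) :=
    Groth.Agent.H2.BlSm.isKoszulRegularSeq_of_isWeaklyRegular _ hf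
  set a : chartRing f j := algebraMap R (chartRing f j) (f j) with ha
  have hnzd : a ∈ nonZeroDivisors (chartRing f j) := algebraMap_mem_nonZeroDivisors f hKos j
  -- the centre
  have hRb : LocCoh.IsCohenMacaulayRing (R ⧸ Ideal.span (Set.range f)) := by
    have h1 := Groth.Agent.H2.CInt.cm_quot_ofList_take (List.ofFn f) hf (List.ofFn f).length
      le_rfl
    rw [List.take_length, Groth.Agent.H2.BlBc.ofList_ofFn] at h1
    exact h1
  have hP : LocCoh.IsCohenMacaulayRing (MvPolynomial (Fin m) (R ⧸ Ideal.span (Set.range f))) :=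
    cm_mvPolynomial _ m
  -- the exceptional divisor
  have hkγ : RingHom.ker (Ideal.Quotient.mk (Ideal.span {a})) =
      (Ideal.span (Set.range f)).map (algebraMap R (chartRing f j)) := by
    rw [Ideal.mk_ker, map_span_eq]
  have hle : Ideal.span (Set.range f) ≤
      (Ideal.span {a}).comap (algebraMap R (chartRing f j)) := by
    rw [← Ideal.map_le_iff_le_comap, map_span_eq]
  have hcomm : (Ideal.quotientMap (Ideal.span {a}) (algebraMap R (chartRing f j)) hle).comp
      (Ideal.Quotient.mk (Ideal.span (Set.range f))) =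
      (Ideal.Quotient.mk (Ideal.span {a})).comp (algebraMap R (chartRing f j)) := by
    apply RingHom.ext
    intro r
    rfl
  obtain ⟨e⟩ := nonempty_ringEquiv_of_chart (Rb := R ⧸ Ideal.span (Set.range f))
    (Cb := chartRing f j ⧸ Ideal.span {a}) f j (Ideal.Quotient.mk (Ideal.span (Set.range f)))
    Ideal.Quotient.mk_surjective Ideal.mk_ker (Ideal.Quotient.mk (Ideal.span {a}))
    Ideal.Quotient.mk_surjective hkγ
    (Ideal.quotientMap (Ideal.span {a}) (algebraMap R (chartRing f j)) hle) hcomm
  have hCb : LocCoh.IsCohenMacaulayRing (chartRing f j ⧸ Ideal.span {a}) :=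
    Groth.Agent.H6.Liai.cm_of_ringEquiv e
  have hCn : IsNoetherianRing (chartRing f j) := inferInstance
  -- the prime of the exceptional divisor
  have hkq : RingHom.ker (Ideal.Quotient.mk (Ideal.span {a})) ≤ q := by
    rw [Ideal.mk_ker, Ideal.span_le]
    rintro _ rfl
    exact hjq
  have hPp : (q.map (Ideal.Quotient.mk (Ideal.span {a}))).IsPrime :=
    Ideal.map_isPrime_of_surjective Ideal.Quotient.mk_surjective hkq
  have hcm := hCb.isCohenMacaulayLocalRing_localization (q.map (Ideal.Quotient.mk (Ideal.span {a})))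
  have h2 := Groth.Agent.H3.CMPt.cm_of_quotient_regular a hnzd
    (q.map (Ideal.Quotient.mk (Ideal.span {a})))
  have h3 : (q.map (Ideal.Quotient.mk (Ideal.span {a}))).comap
      (Ideal.Quotient.mk (Ideal.span {a})) = q := by
    rw [Ideal.comap_map_of_surjective _ Ideal.Quotient.mk_surjective, sup_eq_left]
    exact hkq
  exact (Groth.Agent.H2.SyntCM.cm_congr h3).mp h2

end cm

end Groth.Agent.H2.BlCm
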