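import Groth.Agent.Lib.Helper2.BlCmA
import Groth.Agent.Lib.Helper2.BlBcB
import Groth.Agent.Lib.Lead.QC.BlowUpProps
import Groth.Prelude.Def_RegImm
import Groth.Prelude.Def_BlowUp2

/-! # The blow-up of a Cohen–Macaulay scheme in a regular ideal is Cohen–Macaulay. -/

universe u
open CategoryTheory CategoryTheory.Limits AlgebraicGeometry

namespace Groth.Agent.H2.BlCm
open Groth.Agent.H2.BlGr Groth.Agent.H2.BlBc Groth.Agent.H9.BLA

/-- stalks on an affine chart are the localizations. -/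
theorem cm_stalk_iff_spec {Z : Scheme.{u}} {R : CommRingCat.{u}} (j : Spec R ⟶ Z)
    [IsOpenImmersion j] (p : Spec R) :
    LocCoh.IsCohenMacaulayLocalRing (Z.presheaf.stalk (j p)) ↔
      LocCoh.IsCohenMacaulayLocalRing (Localization.AtPrime p.asIdeal) := by
  have h1 : IsIso (j.stalkMap p) := inferInstance
  let e₁ : Z.presheaf.stalk (j p) ≅ (Spec R).presheaf.stalk p := asIso (j.stalkMap p)
  let e₂ : Localization.AtPrime p.asIdeal ≃+* (Spec R).presheaf.stalk p :=
    (StructureSheaf.stalkIso R p).toRingEquiv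
  let e : Z.presheaf.stalk (j p) ≃+* Localization.AtPrime p.asIdeal :=
    e₁.commRingCatIsoToRingEquiv.trans e₂.symm
  constructor
  · intro h
    exact Groth.Agent.H6.Liai.cmLocal_of_ringEquiv e
  · intro h
    exact Groth.Agent.H6.Liai.cmLocal_of_ringEquiv e.symm

variable {X X' : Scheme.{u}}

/-- the stalk comparison for a morphism which is an open immersion near a point. -/
theorem cm_stalk_of_isOpenImmersion_restrict (b : X' ⟶ X) (U' : X'.Opens)
    [IsOpenImmersion (U'.ι ≫ b)] (x' : X') (hx' : x' ∈ U')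
    (h : LocCoh.IsCohenMacaulayLocalRing (X.presheaf.stalk (b x'))) :
    LocCoh.IsCohenMacaulayLocalRing (X'.presheaf.stalk x') := by
  let z : U' := ⟨x', hx'⟩
  have h1 : IsIso ((U'.ι ≫ b).stalkMap z) := inferInstance
  have h2 : IsIso (U'.ι.stalkMap z) := inferInstance
  rw [Scheme.Hom.stalkMap_comp] at h1
  have h3 : IsIso (b.stalkMap (U'.ι z)) :=
    @IsIso.of_isIso_comp_right _ _ _ _ _ (b.stalkMap (U'.ι z)) (U'.ι.stalkMap z) h2 h1
  let e : X.presheaf.stalk (b x') ≃+* X'.presheaf.stalk x' :=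
    (asIso (b.stalkMap (U'.ι z))).commRingCatIsoToRingEquiv
  exact Groth.Agent.H6.Liai.cmLocal_of_ringEquiv e

/-- sections over affine opens of a locally Noetherian scheme with Cohen–Macaulay stalks form
Cohen–Macaulay rings. -/
theorem cmRing_of_stalks [IsLocallyNoetherian X]
    (hcm : ∀ x : X, LocCoh.IsCohenMacaulayLocalRing (X.presheaf.stalk x))
    {U : X.Opens} (hU : IsAffineOpen U) : LocCoh.IsCohenMacaulayRing Γ(X, U) := by
  have : IsNoetherianRing Γ(X, U) := IsLocallyNoetherian.component_noetherian ⟨U, hU⟩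
  refine { isCohenMacaulayLocalRing_localization := ?_ }
  intro p hp
  exact (cm_stalk_iff_spec hU.fromSpec ⟨p, hp⟩).mp (hcm _)

/-- **the blow-up of a Cohen–Macaulay scheme in a regular ideal is Cohen–Macaulay.** -/
theorem cm_blowUp [IsLocallyNoetherian X]
    (hcm : ∀ x : X, LocCoh.IsCohenMacaulayLocalRing (X.presheaf.stalk x))
    (𝓘 : X.IdealSheafData) (hI : RegImm.IsRegularIdeal RegImm.Kind.regular 𝓘)
    (b : X' ⟶ X) (hb : BlowUp.IsBlowUp b 𝓘) (β : X') :
    LocCoh.IsCohenMacaulayLocalRing (X'.presheaf.stalk β) := by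
  by_cases hβ : b β ∈ 𝓘.support
  · -- over the centre
    obtain ⟨U, hbβ, rs, hrs, hIU⟩ := hI (b β) hβ
    have hrs' : RingTheory.Sequence.IsRegular Γ(X, U.1) rs := hrs
    have hU : IsAffineOpen U.1 := U.2
    have hβr : b β ∈ Set.range hU.fromSpec := by
      rw [hU.range_fromSpec]
      exact hbβ
    by_cases hne : rs = []
    · exfalso
      refine Groth.Agent.H2.BlSm.false_of_ideal_eq_bot 𝓘 b hb.1 hU ?_ β hbβ
      change 𝓘.ideal U = ⊥
      rw [hIU, hne]
      exact Ideal.ofList_nil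
    · obtain ⟨m, f, hf⟩ := Groth.Agent.H2.BlSm.exists_ofFn rs hne
      have hweak : RingTheory.Sequence.IsWeaklyRegular Γ(X, U.1) (List.ofFn f) := by
        rw [hf]
        exact hrs'.toIsWeaklyRegular
      have hKos : LCI.IsKoszulRegularSeq Γ(X, U.1) (List.ofFn f) :=
        Groth.Agent.H2.BlSm.isKoszulRegularSeq_of_isWeaklyRegular _ hweak
      have hIU' : 𝓘.ideal U = Ideal.span (Set.range f) := by
        rw [hIU, ← hf, ofList_ofFn]
      have hIc : 𝓘.comap hU.fromSpec = idealSheaf (Ideal.span (Set.range f)) := by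
        rw [comap_fromSpec]
        change idealSheaf (𝓘.ideal U) = _
        rw [hIU']
      obtain ⟨j, l, hlo, hβl, hlb⟩ :=
        exists_chart_of_isBlowUp 𝓘 b f hb hU.fromSpec hIc hKos β hβr
      obtain ⟨q, rfl⟩ := hβl
      rw [cm_stalk_iff_spec l q]
      have hR : LocCoh.IsCohenMacaulayRing Γ(X, U.1) := cmRing_of_stalks hcm hU
      have hq : q.asIdeal.IsPrime := q.isPrime
      refine cm_chartRing_atPrime f hweak j q.asIdeal ?_
      have h1 : b (l q) = hU.fromSpec
          (Spec.map (CommRingCat.ofHom (algebraMap Γ(X, U.1) (chartRing f j))) q) := by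
        rw [← Scheme.Hom.comp_apply, hlb]
        rfl
      have h2 : b (l q) ∈ X.zeroLocus (U := U.1) (𝓘.ideal U) :=
        (Scheme.IdealSheafData.mem_support_iff_of_mem hbβ).mp hβ
      rw [h1] at h2
      have h3 : Spec.map (CommRingCat.ofHom (algebraMap Γ(X, U.1) (chartRing f j))) q ∈
          hU.fromSpec ⁻¹' X.zeroLocus (U := U.1) (𝓘.ideal U) := h2
      rw [hU.fromSpec_preimage_zeroLocus] at h3
      have h5 := (PrimeSpectrum.mem_zeroLocus _ _).mp h3
      have h4 : f j ∈ 𝓘.ideal U := by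
        rw [hIU']
        exact Ideal.subset_span ⟨j, rfl⟩
      exact h5 h4
  · -- away from the centre
    have hopen : IsOpenImmersion ((b ⁻¹ᵁ 𝓘.support.compl).ι ≫ b) :=
      Groth.Agent.LD.QC.IsBlowUp.isOpenImmersion_compl hb
    exact cm_stalk_of_isOpenImmersion_restrict b (b ⁻¹ᵁ 𝓘.support.compl) β hβ (hcm _)

end Groth.Agent.H2.BlCm
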