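import Groth.Agent.Lib.Helper2.GrassAlgC
import Groth.Agent.Lib.Helper2.AffRepF

/-! # Submodules containing the kernel of a surjection form a closed subfunctor of the
Grassmannian functor; the Grassmannian of a quotient module is a closed subscheme. -/

universe u
open TensorProduct Module Module.Grassmannian CategoryTheory AlgebraicGeometry

namespace Groth.Agent.H2.GrassAlg

variable {R : Type u} [CommRing R] {M₁ M₂ : Type u} [AddCommGroup M₁] [Module R M₁]
  [AddCommGroup M₂] [Module R M₂] (v : M₁ →ₗ[R] M₂) (hv : Function.Surjective v) (k : ℕ)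

/-- the submodule contains the kernel of `A ⊗ v`. -/
def ContainsKer (A : CommAlgCat.{u} R) (N : (functor (R := R) (M := M₁) k).obj A) : Prop :=
  ∀ m ∈ LinearMap.ker v, (1 : A) ⊗ₜ[R] m ∈ N.toSubmodule

theorem isClosedPred_containsKer :
    AffRep.IsClosedPred (functor (R := R) (M := M₁) k) (ContainsKer v k) := by
  intro A N
  refine ⟨Ideal.span {t | ∃ (l : (A ⊗[R] M₁ ⧸ N.toSubmodule) →ₗ[A] A) (m : M₁),
    m ∈ LinearMap.ker v ∧ t = l (N.toSubmodule.mkQ ((1 : A) ⊗ₜ[R] m))}, ?_⟩
  intro B φ
  change ContainsKer v k B (map φ.hom N) ↔ _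
  have hbc : ∀ m : M₁, (1 : B) ⊗ₜ[R] m = bc φ.hom ((1 : A) ⊗ₜ[R] m) := by
    intro m
    rw [bc_tmul, map_one]
  constructor
  · intro h
    rw [Ideal.span_le]
    rintro _ ⟨l, m, hm, rfl⟩
    rw [SetLike.mem_coe, RingHom.mem_ker]
    have h1 := h m hm
    rw [hbc, bc_mem_map_iff] at h1
    exact h1 l
  · intro h m hm
    rw [hbc, bc_mem_map_iff]
    intro l
    exact h (Ideal.subset_span ⟨l, m, hm, rfl⟩)

include hv in
theorem containsKer_iff_range (A : CommAlgCat.{u} R) (N : (functor (R := R) (M := M₁) k).obj A) :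
    ContainsKer v k A N ↔ ∃ N', (comapNat v hv k).app A N' = N := by
  constructor
  · intro h
    have hsurj := LinearMap.baseChange_surjective A hv
    have hker : LinearMap.ker (v.baseChange A) ≤ N.toSubmodule := by
      rw [ker_baseChange_eq_span v hv A, Submodule.span_le]
      rintro _ ⟨m, hm, rfl⟩
      exact h m hm
    have hcm : (N.toSubmodule.map (v.baseChange A)).comap (v.baseChange A) = N.toSubmodule := by
      rw [Submodule.comap_map_eq, sup_eq_left]
      exact hker
    let e : ((A ⊗[R] M₂) ⧸ N.toSubmodule.map (v.baseChange A)) ≃ₗ[A]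
        ((A ⊗[R] M₁) ⧸ N.toSubmodule) :=
      (quotComapEquiv (v.baseChange A) hsurj (N.toSubmodule.map (v.baseChange A))).symm.trans
        (Submodule.quotEquivOfEq _ _ hcm)
    let N' : G(k, A ⊗[R] M₂; A) :=
      { toSubmodule := N.toSubmodule.map (v.baseChange A)
        finite_quotient := Module.Finite.equiv e.symm
        projective_quotient := Module.Projective.of_equiv e.symm
        rankAtStalk_eq := fun p => by
          rw [Module.rankAtStalk_eq_of_equiv e]
          exact N.rankAtStalk_eq p }
    refine ⟨N', ?_⟩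
    apply Grassmannian.ext
    exact hcm
  · rintro ⟨N', rfl⟩ m hm
    rw [comapNat_app, comapG_toSubmodule, Submodule.mem_comap, LinearMap.baseChange_tmul,
      LinearMap.mem_ker.mp hm, TensorProduct.tmul_zero]
    exact zero_mem _

end Groth.Agent.H2.GrassAlg
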