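import Groth.Agent.Lib.Helper2.GrassChartC

/-! # Field-valued points of the Grassmannian functor of `R^n` lie in a standard chart. -/

universe u
open TensorProduct Module Module.Grassmannian CategoryTheory

namespace Groth.Agent.H2.GrassChart
open Groth.Agent.H2.GrassAlg Groth.Agent.H2.AffRep

variable {R : Type u} [CommRing R] {n k : ℕ}

lemma span_range_ε (A : Type u) [CommRing A] [Algebra R A] :
    Submodule.span A (Set.range (fun j : Fin n => ε R A j)) = ⊤ := by
  have h := (bA R (n := n) A).span_eq
  have h2 : Set.range (bA R (n := n) A) = Set.range (fun j : Fin n => ε R A j) := by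
    congr 1
    funext j
    exact bA_apply A j
  rw [h2] at h
  exact h

/-- Over a field, every point of the Grassmannian lies in a standard chart. -/
theorem exists_isChart_of_field (K : Type u) [Field K] [Algebra R K]
    (N : G(k, K ⊗[R] (Fin n → R); K)) :
    ∃ x : Fin k ↪ Fin n, N.toSubmodule ⊔ L R x K = ⊤ := by
  classical
  let Q := K ⊗[R] (Fin n → R) ⧸ N.toSubmodule
  let π : K ⊗[R] (Fin n → R) →ₗ[K] Q := N.toSubmodule.mkQ
  let q : Fin n → Q := fun j => π (ε R K j)
  have hq : Submodule.span K (Set.range q) = ⊤ := by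
    have : Set.range q = π '' Set.range (fun j : Fin n => ε R K j) := by
      rw [← Set.range_comp]
      rfl
    rw [this, ← Submodule.map_span, span_range_ε, Submodule.map_top, LinearMap.range_eq_top]
    exact N.toSubmodule.mkQ_surjective
  obtain ⟨b, hb, hbs, hbi⟩ := exists_linearIndependent K (Set.range q)
  rw [hq] at hbs
  -- `b` is a basis of `Q`
  let bas : Basis b K Q := Basis.mk hbi (by rw [Subtype.range_coe]; exact hbs.ge)
  have hfin : Finite b := Set.Finite.subset (Set.finite_range q) hb
  have : Fintype b := Fintype.ofFinite b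
  have hrank : Module.finrank K Q = k := by
    have h1 := N.rankAtStalk_eq ⊥
    rw [Module.rankAtStalk_eq_finrank_of_free] at h1
    exact h1
  have hcard : Fintype.card b = k := by
    rw [← Module.finrank_eq_card_basis bas, hrank]
  -- choose indices
  have hidx : ∀ v : b, ∃ j : Fin n, q j = v := fun v => hb v.2
  choose f hf using hidx
  have hfinj : Function.Injective f := by
    intro v w h
    apply Subtype.ext
    rw [← hf v, ← hf w, h]
  let e : Fin k ≃ b := (Fintype.equivFinOfCardEq hcard).symm
  let x : Fin k ↪ Fin n := ⟨f ∘ e, hfinj.comp e.injective⟩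
  refine ⟨x, ?_⟩
  rw [eq_top_iff]
  intro y _
  have hy : π y ∈ Submodule.span K (Set.range (fun i : Fin k => π (ε R K (x i)))) := by
    have h3 : Set.range (fun i : Fin k => π (ε R K (x i))) = b := by
      ext v
      constructor
      · rintro ⟨i, rfl⟩
        change q (f (e i)) ∈ b
        rw [hf]
        exact (e i).2
      · intro hv
        refine ⟨e.symm ⟨v, hv⟩, ?_⟩
        change q (f (e (e.symm ⟨v, hv⟩))) = v
        rw [Equiv.apply_symm_apply, hf]
    rw [h3, hbs]
    trivial
  rw [Submodule.mem_span_range_iff_exists_fun] at hy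
  obtain ⟨c, hc⟩ := hy
  have h4 : y - ∑ i, c i • ε R K (x i) ∈ N.toSubmodule := by
    rw [← Submodule.Quotient.mk_eq_zero, ← Submodule.mkQ_apply, map_sub, map_sum]
    simp_rw [map_smul]
    rw [sub_eq_zero]
    exact hc.symm
  have h5 : ∑ i, c i • ε R K (x i) ∈ L R x K :=
    Submodule.sum_mem _ (fun i _ => Submodule.smul_mem _ _ (Submodule.subset_span ⟨i, rfl⟩))
  have := Submodule.add_mem_sup h4 h5
  rwa [sub_add_cancel] at this

end Groth.Agent.H2.GrassChart
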