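import Groth.Agent.Lib.Helper2.GrassSheafA

/-! # Zariski descent for points of the Grassmannian functor: algebra. -/

universe u v w
open TensorProduct Module Module.Grassmannian

namespace Groth.Agent.H2.GrassSheaf

open Groth.Agent.H2.GrassAlg

variable {R : Type u} [CommRing R] {M : Type v} [AddCommGroup M] [Module R M] {k : ℕ}
variable {A : Type w} [CommRing A] [Algebra R A]

/-- **separatedness**: a point of the Grassmannian functor is determined by its restrictions to
a cover by basic opens. -/
theorem grass_sep {ι : Type*} (s : ι → A) (hs : Ideal.span (Set.range s) = ⊤)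
    (N N' : G(k, A ⊗[R] M; A))
    (h : ∀ i, map (toAway (R := R) (s i)) N = map (toAway (R := R) (s i)) N') : N = N' := by
  have key : ∀ N N' : G(k, A ⊗[R] M; A),
      (∀ i, map (toAway (R := R) (s i)) N = map (toAway (R := R) (s i)) N') →
        N.toSubmodule ≤ N'.toSubmodule := by
    intro N N' h y hy
    have h1 : ∀ l : (A ⊗[R] M ⧸ N'.toSubmodule) →ₗ[A] A, l (N'.toSubmodule.mkQ y) = 0 := by
      intro l
      apply eq_zero_of_away_cover s hs
      intro i
      have h2 := bc_mem_map (toAway (R := R) (s i)) N y hy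
      rw [h i, bc_mem_map_iff] at h2
      exact h2 l
    have h3 : (1 : A) ⊗ₜ[A] (N'.toSubmodule.mkQ y) = 0 := by
      rw [one_tmul_eq_zero_iff]
      intro l
      rw [h1 l, map_zero]
    have h4 := congrArg (TensorProduct.lid A _) h3
    rw [TensorProduct.lid_tmul, one_smul, map_zero, Submodule.mkQ_apply,
      Submodule.Quotient.mk_eq_zero] at h4
    exact h4
  apply Grassmannian.ext
  exact le_antisymm (key N N' h) (key N' N (fun i => (h i).symm))

section glue
variable {ι : Type*} (s : ι → A)
  (N : ∀ i, G(k, Localization.Away (s i) ⊗[R] M; Localization.Away (s i)))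

/-- the tensors which lie in all the given local submodules. -/
def glueSub : Submodule A (A ⊗[R] M) where
  carrier := {y | ∀ i, bc (toAway (R := R) (s i)) y ∈ (N i).toSubmodule}
  add_mem' := by
    intro a b ha hb i
    rw [map_add]
    exact add_mem (ha i) (hb i)
  zero_mem' := by
    intro i
    rw [map_zero]
    exact zero_mem _
  smul_mem' := by
    intro c y hy i
    rw [bc_smul]
    exact Submodule.smul_mem _ _ (hy i)

lemma mem_glueSub (y : A ⊗[R] M) :
    y ∈ glueSub s N ↔ ∀ i, bc (toAway (R := R) (s i)) y ∈ (N i).toSubmodule := Iff.rfl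

variable [Finite ι]
  (H : ∀ i j (t : A ⊗[R] M), bc (toAway (R := R) (s i)) t ∈ (N i).toSubmodule →
    ∃ b : ℕ, bc (toAway (R := R) (s j)) ((s i) ^ b • t) ∈ (N j).toSubmodule)

include H in
lemma exists_pow_smul_mem_glueSub (i : ι) (z : Localization.Away (s i) ⊗[R] M)
    (hz : z ∈ (N i).toSubmodule) :
    ∃ (n : ℕ) (y : A ⊗[R] M), y ∈ glueSub s N ∧
      bc (toAway (R := R) (s i)) y = (algebraMap A (Localization.Away (s i)) (s i)) ^ n • z := by
  classical
  cases nonempty_fintype ι
  obtain ⟨a, t, ht⟩ := exists_pow_smul_eq_bc (R := R) (M := M) (s i) z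
  have h1 : bc (toAway (R := R) (s i)) t ∈ (N i).toSubmodule := by
    rw [ht]
    exact Submodule.smul_mem _ _ hz
  choose b hb using fun j => H i j t h1
  let b₀ : ℕ := Finset.univ.sup b
  have hc : ∀ (j : ι) (n : ℕ), (toAway (R := R) (s j)) ((s i) ^ n) =
      algebraMap A (Localization.Away (s j)) (s i) ^ n := by
    intro j n
    rw [map_pow]
    rfl
  refine ⟨b₀ + a, (s i) ^ b₀ • t, ?_, ?_⟩
  · intro j
    have hle : b j ≤ b₀ := Finset.le_sup (f := b) (Finset.mem_univ j)
    have e : (s i) ^ b₀ • t = (s i) ^ (b₀ - b j) • ((s i) ^ b j • t) := by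
      rw [smul_smul, ← pow_add, Nat.sub_add_cancel hle]
    rw [e, bc_smul]
    exact Submodule.smul_mem _ _ (hb j)
  · rw [bc_smul, ht, hc, smul_smul, ← pow_add]

include H in
lemma span_bc_glueSub (i : ι) :
    Submodule.span (Localization.Away (s i))
      (bc (toAway (R := R) (s i)) '' (glueSub s N : Set (A ⊗[R] M))) = (N i).toSubmodule := by
  apply le_antisymm
  · rw [Submodule.span_le]
    rintro _ ⟨y, hy, rfl⟩
    exact hy i
  · intro z hz
    obtain ⟨n, y, hy, e⟩ := exists_pow_smul_mem_glueSub s N H i z hz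
    have hu : IsUnit (algebraMap A (Localization.Away (s i)) (s i) ^ n) :=
      (IsLocalization.Away.algebraMap_isUnit (s i)).pow n
    obtain ⟨c, hc⟩ := hu.exists_left_inv
    have : z = c • bc (toAway (R := R) (s i)) y := by
      rw [e, smul_smul, hc, one_smul]
    rw [this]
    exact Submodule.smul_mem _ _ (Submodule.subset_span ⟨y, hy, rfl⟩)

include H in
/-- **finite gluing** of points of the Grassmannian functor. -/
theorem exists_glue_of_pow (hs : Ideal.span (Set.range s) = ⊤) :
    ∃ N₀ : G(k, A ⊗[R] M; A), ∀ i, map (toAway (R := R) (s i)) N₀ = N i := by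
  let e : ∀ i, Localization.Away (s i) ⊗[A] ((A ⊗[R] M) ⧸ glueSub s N) ≃ₗ[Localization.Away (s i)]
      (Localization.Away (s i) ⊗[R] M) ⧸ (N i).toSubmodule := fun i =>
    tensorQuotEquiv (glueSub s N) (N i).toSubmodule (span_bc_glueSub s N H i).symm
  obtain ⟨hfin, hproj, hrank⟩ := finite_projective_of_away_cover
    (Q := (A ⊗[R] M) ⧸ glueSub s N) s hs k
    (fun i => Module.Finite.equiv (e i).symm)
    (fun i => Module.Projective.of_equiv (e i).symm)
    (fun i p => by
      rw [Module.rankAtStalk_eq_of_equiv (e i)]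
      exact (N i).rankAtStalk_eq p)
  refine ⟨⟨glueSub s N, hfin, hproj, hrank⟩, fun i => ?_⟩
  apply Grassmannian.ext
  rw [map_toSubmodule_eq_span]
  exact span_bc_glueSub s N H i

end glue

end Groth.Agent.H2.GrassSheaf
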