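import Groth.Agent.Lib.Helper2.GrassChartD

/-! # A scheme representing the Grassmannian functor of `R^n` is covered by affine spaces and is
smooth. -/

universe u
open TensorProduct Module Module.Grassmannian CategoryTheory AlgebraicGeometry

namespace Groth.Agent.H2.GrassChart
open Groth.Agent.H2.GrassAlg Groth.Agent.H2.AffRep

variable {R : Type u} [CommRing R] {n k : ℕ}

/-- every point of a scheme over `Spec R` is the image of a field-valued point. -/
lemma exists_field_point (X : Over (Spec (CommRingCat.of R))) (p : X.left) :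
    ∃ (K : Type u) (_ : Field K) (_ : Algebra R K) (g : SpecO (CommAlgCat.of R K) ⟶ X),
      ∃ y, g.left y = p := by
  let K := X.left.residueField p
  let g₀ : Spec (X.left.residueField p) ⟶ X.left := X.left.fromSpecResidueField p
  let str : R →+* K := (Spec.preimage (g₀ ≫ X.hom)).hom
  let _ : Algebra R K := str.toAlgebra
  have hw : g₀ ≫ X.hom = Spec.map (CommRingCat.ofHom (algebraMap R K)) :=
    (Spec.map_preimage (g₀ ≫ X.hom)).symm
  refine ⟨K, inferInstance, inferInstance, Over.homMk g₀ hw, ?_⟩
  have : Nonempty (Spec (X.left.residueField p)) := inferInstance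
  obtain ⟨y⟩ := this
  exact ⟨y, X.left.fromSpecResidueField_apply p y⟩

lemma card_compl_range (x : Fin k ↪ Fin n) :
    Fintype.card ({j : Fin n // j ∉ Set.range x} × Fin k) = k * (n - k) := by
  classical
  rw [Fintype.card_prod, Fintype.card_fin, Fintype.card_subtype_compl, Fintype.card_fin]
  have : Fintype.card {j : Fin n // j ∈ Set.range x} = k := by
    have h := Set.card_range_of_injective x.injective
    rw [Fintype.card_fin] at h
    convert h
  rw [this, mul_comm]

/-- the bijection between free matrix entries and coordinates of affine space. -/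
noncomputable def βEquiv (x : Fin k ↪ Fin n) :
    {j : Fin n // j ∉ Set.range x} × Fin k ≃ ULift.{u} (Fin (k * (n - k))) :=
  (Fintype.equivFinOfCardEq (card_compl_range x)).trans Equiv.ulift.symm

/-- **Charts of the Grassmannian.** -/
theorem exists_charts (X : Over (Spec (CommRingCat.of R)))
    (ρ : Rep (functor (R := R) (M := Fin n → R) k) X) :
    ∃ U : (Fin k ↪ Fin n) → X.left.Opens, ⨆ x, U x = ⊤ ∧
      ∀ x, Nonempty (Over.mk ((U x).ι ≫ X.hom) ≅ affO R (ULift.{u} (Fin (k * (n - k))))) := by
  have key : ∀ x : Fin k ↪ Fin n, ∃ U : X.left.Opens,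
      (∀ (B : CommAlgCat.{u} R) (g : SpecO B ⟶ X),
        (∀ y, g.left y ∈ U) ↔ IsChart R x B (ρ.e B g)) ∧
      Nonempty (Over.mk (U.ι ≫ X.hom) ≅ affO R (ULift.{u} (Fin (k * (n - k))))) := by
    intro x
    obtain ⟨U, ρU, hU, -⟩ := exists_rep_of_open ρ (isOpenPred_isChart x)
      (chartNat R x (βEquiv x)) (chartNat_injective R x (βEquiv x))
      (isChart_iff_range R x (βEquiv x))
    obtain ⟨d, -⟩ := Rep.exists_iso ρU (affRep R (ULift.{u} (Fin (k * (n - k)))))
    exact ⟨U, hU, ⟨d⟩⟩
  choose U hU hiso using key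
  refine ⟨U, ?_, hiso⟩
  rw [eq_top_iff]
  intro p _
  obtain ⟨K, _, _, g, y, hy⟩ := exists_field_point X p
  obtain ⟨x, hx⟩ := exists_isChart_of_field K (ρ.e (CommAlgCat.of R K) g)
  rw [TopologicalSpace.Opens.mem_iSup]
  refine ⟨x, ?_⟩
  rw [← hy]
  exact (hU x _ g).mpr hx y

theorem stdSmooth_mvPolynomial' (V : Type u) [CommRing V] [Nontrivial V] (σ : Type u)
    [Fintype σ] :
    Algebra.IsStandardSmoothOfRelativeDimension (Fintype.card σ) V (MvPolynomial σ V) := by
  have : Algebra.IsStandardSmooth V (MvPolynomial σ V) :=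
    Algebra.IsStandardSmooth.of_basis_kaehlerDifferential
      (KaehlerDifferential.mvPolynomialBasis V σ) (by
      rintro _ ⟨i, rfl⟩
      exact ⟨MvPolynomial.X i, (KaehlerDifferential.mvPolynomialBasis_apply V σ i).symm⟩)
  rw [Algebra.IsStandardSmoothOfRelativeDimension.iff_of_isStandardSmooth]
  rw [rank_eq_card_basis (KaehlerDifferential.mvPolynomialBasis V σ)]

theorem smooth_affineSpace (R : Type u) [CommRing R] [Nontrivial R] (d : ℕ) :
    SmoothOfRelativeDimension d
      (𝔸(ULift.{u} (Fin d); Spec (CommRingCat.of R)) ↘ Spec (CommRingCat.of R)) := by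
  have h1 : 𝔸(ULift.{u} (Fin d); Spec (CommRingCat.of R)) ↘ Spec (CommRingCat.of R) =
      (AffineSpace.SpecIso (ULift.{u} (Fin d)) (CommRingCat.of R)).hom ≫
        Spec.map (CommRingCat.ofHom MvPolynomial.C) := by
    rw [← AffineSpace.SpecIso_inv_over, Iso.hom_inv_id_assoc]
  rw [h1, MorphismProperty.cancel_left_of_respectsIso (P := @SmoothOfRelativeDimension d),
    HasRingHomProperty.Spec_iff (P := @SmoothOfRelativeDimension d)]
  apply RingHom.locally_of RingHom.isStandardSmoothOfRelativeDimension_respectsIso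
  change (algebraMap R (MvPolynomial (ULift.{u} (Fin d)) R)).IsStandardSmoothOfRelativeDimension d
  rw [RingHom.isStandardSmoothOfRelativeDimension_algebraMap]
  have := stdSmooth_mvPolynomial' R (ULift.{u} (Fin d))
  simpa using this

/-- **The Grassmannian is smooth of relative dimension `k (n - k)`.** -/
theorem smooth_of_rep (X : Over (Spec (CommRingCat.of R)))
    (ρ : Rep (functor (R := R) (M := Fin n → R) k) X) :
    SmoothOfRelativeDimension (k * (n - k)) X.hom := by
  by_cases hR : Nontrivial R
  · obtain ⟨U, hcov, hiso⟩ := exists_charts X ρ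
    apply IsZariskiLocalAtSource.of_iSup_eq_top (P := @SmoothOfRelativeDimension (k * (n - k)))
      U hcov
    intro x
    obtain ⟨d⟩ := hiso x
    have hw : d.hom.left ≫ (affO R (ULift.{u} (Fin (k * (n - k))))).hom = (U x).ι ≫ X.hom :=
      Over.w d.hom
    rw [← hw]
    have : IsIso d.hom.left := inferInstance
    rw [MorphismProperty.cancel_left_of_respectsIso
      (P := @SmoothOfRelativeDimension (k * (n - k)))]
    exact smooth_affineSpace R _
  · rw [not_nontrivial_iff_subsingleton] at hR
    have hempty : IsEmpty (Spec (CommRingCat.of R)) := by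
      change IsEmpty (PrimeSpectrum R)
      infer_instance
    have hX : IsEmpty X.left := Function.isEmpty X.hom
    exact ⟨fun x => (hX.false x).elim⟩

end Groth.Agent.H2.GrassChart
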