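import Groth.Agent.Lib.Helper2.GrassSheafC
import Groth.Agent.Lib.Helper2.AffRepQ
import Groth.Agent.Lib.Helper2.GrassChartE
import Groth.Agent.Lib.Helper2.GrassAlgD

/-! # Existence of the Grassmannian scheme of a finite module over an affine base. -/

universe u
open CategoryTheory TensorProduct Module Module.Grassmannian AlgebraicGeometry

namespace Groth.Agent.H2.AffRep

variable {R : Type u} [CommRing R]
variable {F G : CommAlgCat.{u, u} R ⥤ Type u} {X : Over (Spec (CommRingCat.of R))}

/-- a representation of `G` together with an injective transformation `G ⟶ F` with image `P`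
represents the subfunctor of `F` cut out by `P`. -/
noncomputable def Rep.subRepOfNat (ρ : Rep G X) (τ : G ⟶ F)
    (hτ : ∀ A, Function.Injective (τ.app A))
    (P : ∀ A : CommAlgCat.{u} R, F.obj A → Prop)
    (hP : ∀ A ξ, P A ξ ↔ ∃ s, τ.app A s = ξ) : SubRep F P X where
  v A g := τ.app A (ρ.e A g)
  nat φ g := by
    rw [ρ.e_comp, τ_map]
  inj A := (hτ A).comp (ρ.e A).injective
  mem A g := (hP A _).mpr ⟨_, rfl⟩
  surj A ξ hξ := by
    obtain ⟨s, rfl⟩ := (hP A ξ).mp hξ
    exact ⟨(ρ.e A).symm s, by rw [Equiv.apply_symm_apply]⟩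

end Groth.Agent.H2.AffRep

namespace Groth.Agent.H2.GrassRep
open Groth.Agent.H2.AffRep Groth.Agent.H2.GrassAlg Groth.Agent.H2.GrassChart

variable (R : Type u) [CommRing R]

/-- **The Grassmannian of a finite free module exists.** -/
theorem exists_rep_free (n k : ℕ) :
    ∃ X : Over (Spec (CommRingCat.of R)),
      Nonempty (Rep (functor (R := R) (M := Fin n → R) k) X) := by
  classical
  let ι := ULift.{u} (Fin k ↪ Fin n)
  let P : ι → ∀ A : CommAlgCat.{u} R,
      (functor (R := R) (M := Fin n → R) k).obj A → Prop := fun x => IsChart R x.down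
  have hP : ∀ x : ι, IsOpenPred (functor (R := R) (M := Fin n → R) k) (P x) :=
    fun x => isOpenPred_isChart x.down
  let σ : ∀ x : ι, SubRep (functor (R := R) (M := Fin n → R) k) (P x)
      (affO R (ULift.{u} (Fin (k * (n - k))))) := fun x =>
    (affRep R (ULift.{u} (Fin (k * (n - k))))).subRepOfNat (chartNat R x.down (βEquiv x.down))
      (chartNat_injective R x.down (βEquiv x.down)) (P x)
      (isChart_iff_range R x.down (βEquiv x.down))
  let l : List ι := (Finset.univ : Finset (Fin k ↪ Fin n)).toList.map ULift.up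
  refine exists_rep_of_charts hP σ (isZarSheaf_grass (Fin n → R) k) l ?_
  intro A ξ K hK ψ
  let _ : Field K := hK.toField
  obtain ⟨x, hx⟩ := exists_isChart_of_field (R := R) K
    ((functor (R := R) (M := Fin n → R) k).map ψ ξ)
  refine ⟨ULift.up x, ?_, hx⟩
  rw [List.mem_map]
  exact ⟨x, by simp, rfl⟩

/-- **The Grassmannian of a finite module exists** (over an affine base). -/
theorem exists_rep (M : Type u) [AddCommGroup M] [Module R M] [Module.Finite R M] (k : ℕ) :
    ∃ X : Over (Spec (CommRingCat.of R)),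
      Nonempty (Rep (functor (R := R) (M := M) k) X) := by
  obtain ⟨n, v, hv⟩ := Module.Finite.exists_fin' R M
  obtain ⟨X, ⟨ρ⟩⟩ := exists_rep_free R n k
  obtain ⟨Z, ι, ρZ, -, -⟩ := exists_rep_of_closed ρ
    (isClosedPred_containsKer v k) (comapNat v hv k) (comapNat_injective v hv k)
    (containsKer_iff_range v hv k)
  exact ⟨Z, ⟨ρZ⟩⟩

end Groth.Agent.H2.GrassRep
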