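import Groth.Agent.Lib.Helper2.KosInjC
import Groth.Agent.Lib.Helper2.BlSmB
import Groth.Agent.Lib.Helper8.LCIHom.KAt2
import Groth.Agent.Lib.Helper8.KosLoc.ClaimA
import Groth.Agent.Lib.Lead.QC.BlowUpProps

/-!
# The blow-up of a regular closed immersion is a local complete intersection morphism
-/

universe u

open CategoryTheory CategoryTheory.Limits AlgebraicGeometry MvPolynomial

attribute [local instance] HasDerivedCategory.standard

namespace Groth.Agent.H2.BlLci

open Groth.Agent.H2.BlGr Groth.Agent.H2.BlBc Groth.Agent.H9.BLA Groth.Agent.H8.LCIHom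

section ring

variable {R : Type u} [CommRing R] {m : ℕ} (f : Fin (m + 1) → R)

/-- **the chart rings of the blow-up in a Koszul-regular sequence are local complete
intersections over the base.** -/
theorem isLCI_chartRing (hf : LCI.IsKoszulRegularSeq R (List.ofFn f)) (j : Fin (m + 1)) :
    LCI.IsLCI R (chartRing f j) := by
  refine ⟨Algebra.FiniteType.of_surjective (Ideal.Quotient.mkₐ R (chartIdeal f j))
    (Ideal.Quotient.mkₐ_surjective R _), m, Ideal.Quotient.mkₐ R (chartIdeal f j),
    Ideal.Quotient.mkₐ_surjective R _, ?_⟩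
  have hker : RingHom.ker (Ideal.Quotient.mkₐ R (chartIdeal f j)).toRingHom = chartIdeal f j := by
    ext x
    rw [RingHom.mem_ker]
    exact Ideal.Quotient.eq_zero_iff_mem
  rw [hker, ← ofList_gEq]
  exact Groth.Agent.H8.KosLoc.isKoszulRegularIdeal_ofList _
    (Groth.Agent.H2.KosInj.isKoszulRegularSeq_gEq f hf j)

end ring

section scheme

variable {X X' Y : Scheme.{u}}

/-- a property local at the source can be checked on open immersions covering the source. -/
theorem of_forall_exists_openImmersion {P : MorphismProperty Scheme.{u}}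
    [IsZariskiLocalAtSource P] (b : X' ⟶ X)
    (H : ∀ β : X', ∃ (W : Scheme.{u}) (l : W ⟶ X'), IsOpenImmersion l ∧ β ∈ Set.range l ∧
      P (l ≫ b)) : P b := by
  choose W l hl hβ hP using H
  have : ∀ β, IsOpenImmersion (l β) := hl
  refine IsZariskiLocalAtSource.of_iSup_eq_top (fun β => (l β).opensRange) ?_ (fun β => ?_)
  · rw [eq_top_iff]
    rintro β -
    simp only [TopologicalSpace.Opens.mem_iSup]
    exact ⟨β, hβ β⟩
  · rw [← IsOpenImmersion.isoOfRangeEq_inv_fac (l β) (Scheme.Opens.ι _)
      (congr_arg TopologicalSpace.Opens.carrier (l β).opensRange.opensRange_ι.symm),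
      Category.assoc, P.cancel_left_of_respectsIso]
    exact hP β

/-- **the blow-up of a regular closed immersion is a local complete intersection morphism.** -/
theorem lcip_blowUp (i : Y ⟶ X) (hi : Mor2.IsRegularClosedImmersion i)
    (b : X' ⟶ X) (hb : BlowUp.IsBlowUp b i.ker) : LCIP b := by
  obtain ⟨hci, hreg⟩ := hi
  have : IsClosedImmersion i := hci
  refine of_forall_exists_openImmersion b (fun β => ?_)
  by_cases hβ : b β ∈ i.ker.support
  · -- over the centre
    have hβ' : b β ∈ Set.range i := by
      have h1 : (i.ker.support : Set X) = closure (Set.range i) := by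
        rw [Scheme.Hom.support_ker]
      have h2 : b β ∈ closure (Set.range i) := by
        rw [← h1]
        exact hβ
      rwa [i.isClosedEmbedding.isClosed_range.closure_eq] at h2
    obtain ⟨z, hz⟩ := hβ'
    obtain ⟨U, hU, hzU, rs, hrs, hker⟩ := hreg z
    have hbβ : b β ∈ U := by
      rw [← hz]
      exact hzU
    have hβr : b β ∈ Set.range hU.fromSpec := by
      rw [hU.range_fromSpec]
      exact hbβ
    by_cases hne : rs = []
    · exfalso
      refine Groth.Agent.H2.BlSm.false_of_ideal_eq_bot i.ker b hb.1 hU ?_ β hbβ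
      rw [hker, hne]
      exact Ideal.ofList_nil
    · obtain ⟨m, f, hf⟩ := Groth.Agent.H2.BlSm.exists_ofFn rs hne
      have hKos : LCI.IsKoszulRegularSeq Γ(X, U) (List.ofFn f) := by
        rw [hf]
        exact Groth.Agent.H2.BlSm.isKoszulRegularSeq_of_isWeaklyRegular rs hrs.toIsWeaklyRegular
      have hIU : i.ker.ideal ⟨U, hU⟩ = Ideal.span (Set.range f) := by
        rw [hker, ← hf, ofList_ofFn]
      have hI : i.ker.comap hU.fromSpec = idealSheaf (Ideal.span (Set.range f)) := by
        rw [comap_fromSpec, hIU]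
      obtain ⟨j, l, hlo, hβl, hlb⟩ :=
        exists_chart_of_isBlowUp i.ker b f hb hU.fromSpec hI hKos β hβr
      refine ⟨_, l, hlo, hβl, ?_⟩
      rw [hlb]
      refine lcip_comp _ _ ?_ (lcip_of_smooth _)
      rw [HasRingHomProperty.Spec_iff (P := LCIP)]
      exact isLCIHom_algebraMap_iff.mpr (isLCI_chartRing f hKos j)
  · -- away from the centre
    have hopen : IsOpenImmersion ((b ⁻¹ᵁ i.ker.support.compl).ι ≫ b) :=
      Groth.Agent.LD.QC.IsBlowUp.isOpenImmersion_compl hb
    refine ⟨_, (b ⁻¹ᵁ i.ker.support.compl).ι, inferInstance, ⟨⟨β, hβ⟩, rfl⟩, ?_⟩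
    exact lcip_of_smooth _

end scheme

end Groth.Agent.H2.BlLci
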