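import Mathlib
import Groth.Agent.Lib.Helper2.BlGrA

/-! # Chart rings of the blow-up of a smooth algebra in a smooth centre are smooth (ring level).

`A` is the base ring, `R` a formally smooth `A`-algebra, `f` a sequence in `R` all of whose
relations have coefficients in the ideal generated by `f` (e.g. a Koszul-regular sequence), and
`Rb = R/(f)` is formally smooth over `A`.  Then the chart rings `R[T]/(f_{σ i} + f_j T_i)` of the
blow-up are formally smooth over `A`. -/

universe u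
open MvPolynomial TensorProduct

namespace Groth.Agent.H2.BlSmo
open Groth.Agent.H2.BlGr

section deriv

variable {A R Rb : Type u} [CommRing A] [CommRing R] [CommRing Rb] [Algebra A R] [Algebra R Rb]
  [Algebra A Rb] [IsScalarTower A R Rb] {n : ℕ} (f : Fin n → R)

/-- every relation among the `f k` has its coefficients in the ideal generated by `f`. -/
def RelIn : Prop :=
  ∀ a : Fin n → R, ∑ k, a k * f k = 0 → ∀ k, a k ∈ Ideal.span (Set.range f)

variable {f}

/-- **derivations with prescribed values on a quasi-regular sequence with smooth quotient.** -/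
theorem exists_derivation (hrel : RelIn f) [Algebra.FormallySmooth A R]
    [Algebra.FormallySmooth A Rb] (hsurj : Function.Surjective (algebraMap R Rb))
    (hker : RingHom.ker (algebraMap R Rb) = Ideal.span (Set.range f))
    (M : Type u) [AddCommGroup M] [Module R M] [Module A M] [IsScalarTower A R M]
    (hM : ∀ k (x : M), f k • x = 0) (ν : Fin n → M) :
    ∃ δ : Derivation A R M, ∀ k, δ (f k) = ν k := by
  classical
  set K : Ideal R := RingHom.ker (algebraMap R Rb) with hK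
  have hKM : ∀ r ∈ K, ∀ x : M, r • x = 0 := by
    intro r hr x
    rw [hker] at hr
    induction hr using Submodule.span_induction with
    | mem r hr =>
      obtain ⟨k, rfl⟩ := hr
      exact hM k x
    | zero => exact zero_smul _ _
    | add r s _ _ hr hs => rw [add_smul, hr, hs, add_zero]
    | smul c r _ hr => rw [smul_eq_mul, mul_smul, hr, smul_zero]
  obtain ⟨l, hl⟩ := (Algebra.FormallySmooth.iff_split_injection (R := A) (P := R) (A := Rb)
    hsurj).mp inferInstance
  -- the linear map out of the ideal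
  let Λt : (Fin n → R) →ₗ[R] M := Fintype.linearCombination R ν
  let πt : (Fin n → R) →ₗ[R] R := Fintype.linearCombination R f
  have hrange : LinearMap.range πt = K := by
    rw [hker]
    exact Fintype.range_linearCombination R f
  have hle : LinearMap.ker πt ≤ LinearMap.ker Λt := by
    intro a ha
    rw [LinearMap.mem_ker] at ha ⊢
    have ha' : ∑ k, a k * f k = 0 := ha
    have hak := hrel a ha'
    change ∑ k, a k • ν k = 0
    apply Finset.sum_eq_zero
    intro k _
    exact hKM _ (hker ▸ hak k) _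
  let Λ₀ : LinearMap.range πt →ₗ[R] M :=
    (Submodule.liftQ (LinearMap.ker πt) Λt hle) ∘ₗ (LinearMap.quotKerEquivRange πt).symm.toLinearMap
  have hΛ₀ : ∀ (a : Fin n → R) (h : πt a ∈ LinearMap.range πt), Λ₀ ⟨πt a, h⟩ = Λt a := by
    intro a h
    change Submodule.liftQ _ Λt hle ((LinearMap.quotKerEquivRange πt).symm ⟨πt a, h⟩) = _
    rw [LinearMap.quotKerEquivRange_symm_apply_image]
    rfl
  let Λ₁ : K →ₗ[R] M := Λ₀ ∘ₗ (LinearEquiv.ofEq _ _ hrange.symm).toLinearMap
  have hΛ₁ : ∀ (k : Fin n) (h : f k ∈ K), Λ₁ ⟨f k, h⟩ = ν k := by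
    intro k h
    have h1 : πt (Pi.single k 1) = f k := by
      change Fintype.linearCombination R f (Pi.single k 1) = f k
      rw [Fintype.linearCombination_apply_single, one_smul]
    have h2 : Λ₁ ⟨f k, h⟩ = Λ₀ ⟨πt (Pi.single k 1), ⟨_, rfl⟩⟩ := by
      change Λ₀ _ = Λ₀ _
      congr 1
      exact Subtype.ext h1.symm
    rw [h2, hΛ₀]
    change Fintype.linearCombination R ν (Pi.single k 1) = ν k
    rw [Fintype.linearCombination_apply_single, one_smul]
  have hkill : K • (⊤ : Submodule R K) ≤ LinearMap.ker Λ₁ := by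
    rw [Submodule.smul_le]
    intro r hr x _
    rw [LinearMap.mem_ker, map_smul]
    exact hKM r hr _
  let Λ : K.Cotangent →ₗ[R] M := Submodule.liftQ _ Λ₁ hkill
  have hΛ : ∀ x : K, Λ (K.toCotangent x) = Λ₁ x := fun x => rfl
  -- the derivation
  let ℓ : Ω[R⁄A] →ₗ[R] M :=
    Λ ∘ₗ l ∘ₗ (TensorProduct.mk R Rb Ω[R⁄A] 1)
  refine ⟨ℓ.compDer (KaehlerDifferential.D A R), fun k => ?_⟩
  have hfk : f k ∈ K := by
    rw [hker]
    exact Ideal.subset_span ⟨k, rfl⟩
  change Λ (l ((1 : Rb) ⊗ₜ[R] KaehlerDifferential.D A R (f k))) = ν k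
  have h3 : (1 : Rb) ⊗ₜ[R] KaehlerDifferential.D A R (f k) =
      KaehlerDifferential.kerCotangentToTensor A R Rb (K.toCotangent ⟨f k, hfk⟩) := rfl
  rw [h3]
  have h4 : l (KaehlerDifferential.kerCotangentToTensor A R Rb (K.toCotangent ⟨f k, hfk⟩)) =
      K.toCotangent ⟨f k, hfk⟩ := LinearMap.congr_fun hl _
  rw [h4, hΛ, hΛ₁]

end deriv

section lift

variable {A R Rb : Type u} [CommRing A] [CommRing R] [CommRing Rb] [Algebra A R] [Algebra R Rb]
  [Algebra A Rb] [IsScalarTower A R Rb] {m : ℕ} (f : Fin (m + 1) → R)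

/-- **the chart rings of the blow-up of a formally smooth algebra in a quasi-regular sequence with
formally smooth quotient are formally smooth.** -/
theorem formallySmooth_chartRing (hrel : RelIn f) [Algebra.FormallySmooth A R]
    [Algebra.FormallySmooth A Rb] (hsurj : Function.Surjective (algebraMap R Rb))
    (hker : RingHom.ker (algebraMap R Rb) = Ideal.span (Set.range f)) (j : Fin (m + 1)) :
    Algebra.FormallySmooth A (chartRing f j) := by
  apply Algebra.FormallySmooth.of_comp_surjective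
  intro D _ _ N hN φb
  let ι : R →ₐ[A] chartRing f j := IsScalarTower.toAlgHom A R (chartRing f j)
  have hι : ∀ r, ι r = algebraMap R (chartRing f j) r := fun r => rfl
  have hnil : IsNilpotent N := ⟨2, hN⟩
  let ψ₀ : R →ₐ[A] D := Algebra.FormallySmooth.lift N hnil (φb.comp ι)
  have hψ₀ : ∀ r, Ideal.Quotient.mk N (ψ₀ r) = φb (ι r) := fun r =>
    Algebra.FormallySmooth.mk_lift N hnil _ r
  choose t ht using fun i : Fin m => Ideal.Quotient.mk_surjective (φb (coord f j i))
  let ε : Fin m → D := fun i => ψ₀ (f (j.succAbove i)) + ψ₀ (f j) * t i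
  have hε : ∀ i, ε i ∈ N := by
    intro i
    rw [← Ideal.Quotient.eq_zero_iff_mem, map_add, map_mul, hψ₀, hψ₀, ht, hι, hι, ← map_mul,
      ← map_add, chart_eq, map_zero]
  let N₀ : Ideal D := Ideal.span {ψ₀ (f j)} * N
  have hN₀N : N₀ ≤ N := by
    change Ideal.span {ψ₀ (f j)} * N ≤ N
    exact Ideal.mul_le_right
  have hN₀sq : N₀ ^ 2 = ⊥ := le_bot_iff.mp (hN ▸ Ideal.pow_right_mono hN₀N 2)
  have hmulN : ∀ a b, a ∈ N → b ∈ N → a * b = 0 := by
    intro a b ha hb
    have h1 : a * b ∈ N ^ 2 := by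
      rw [pow_two]
      exact Ideal.mul_mem_mul ha hb
    rw [hN] at h1
    exact h1
  have hfN : ∀ k, ∀ n ∈ N, ψ₀ (f k) * n ∈ N₀ := by
    intro k n hn
    by_cases hk : k = j
    · rw [hk]
      exact Ideal.mul_mem_mul (Ideal.mem_span_singleton_self _) hn
    · obtain ⟨i, rfl⟩ := Fin.exists_succAbove_eq hk
      have h1 : ψ₀ (f (j.succAbove i)) = ε i - ψ₀ (f j) * t i := by
        change _ = ψ₀ (f (j.succAbove i)) + ψ₀ (f j) * t i - _
        ring
      rw [h1, sub_mul, hmulN _ _ (hε i) hn, zero_sub, mul_assoc]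
      exact neg_mem (Ideal.mul_mem_mul (Ideal.mem_span_singleton_self _) (N.mul_mem_left _ hn))
  -- the intermediate quotient
  let N₁ : Ideal (D ⧸ N₀) := N.map (Ideal.Quotient.mk N₀)
  have hN₁ : N₁ ^ 2 = ⊥ := by
    change (N.map (Ideal.Quotient.mk N₀)) ^ 2 = ⊥
    rw [← Ideal.map_pow, hN, Ideal.map_bot]
  let ψb : R →ₐ[A] D ⧸ N₀ := (Ideal.Quotient.mkₐ A N₀).comp ψ₀
  let _ : Algebra R (D ⧸ N₀) := ψb.toRingHom.toAlgebra
  have : IsScalarTower A R (D ⧸ N₀) :=
    IsScalarTower.of_algebraMap_eq (fun a => (ψb.commutes a).symm)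
  have halg : ∀ r, algebraMap R (D ⧸ N₀) r = Ideal.Quotient.mk N₀ (ψ₀ r) := fun r => rfl
  have hM : ∀ k (x : N₁), f k • x = 0 := by
    rintro k ⟨x, hx⟩
    obtain ⟨n, hn, rfl⟩ := (Ideal.mem_map_iff_of_surjective _ Ideal.Quotient.mk_surjective).mp hx
    apply Subtype.ext
    change f k • (Ideal.Quotient.mk N₀ n) = 0
    rw [Algebra.smul_def, halg, ← map_mul, Ideal.Quotient.eq_zero_iff_mem]
    exact hfN k n hn
  let ν : Fin (m + 1) → N₁ := Fin.insertNth (α := fun _ => ↥N₁) j 0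
    (fun i => -⟨Ideal.Quotient.mk N₀ (ε i), Ideal.mem_map_of_mem _ (hε i)⟩)
  have hνj : ν j = 0 := Fin.insertNth_apply_same _ _ _
  have hνs : ∀ i, ((ν (j.succAbove i) : N₁) : D ⧸ N₀) = -Ideal.Quotient.mk N₀ (ε i) := by
    intro i
    change ((Fin.insertNth (α := fun _ => ↥N₁) j 0 _ (j.succAbove i) : N₁) : D ⧸ N₀) = _
    rw [Fin.insertNth_apply_succAbove]
    rfl
  obtain ⟨δ, hδ⟩ := exists_derivation (A := A) hrel hsurj hker N₁ hM ν
  let ψ₁ : R →ₐ[A] D ⧸ N₀ := liftOfDerivationToSquareZero N₁ hN₁ δ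
  have hψ₁ : ∀ r, ψ₁ r = (δ r : D ⧸ N₀) + Ideal.Quotient.mk N₀ (ψ₀ r) := fun r => rfl
  have hnil₀ : IsNilpotent N₀ := ⟨2, hN₀sq⟩
  let ψ : R →ₐ[A] D := Algebra.FormallySmooth.lift N₀ hnil₀ ψ₁
  have hψ : ∀ r, Ideal.Quotient.mk N₀ (ψ r) = ψ₁ r := fun r =>
    Algebra.FormallySmooth.mk_lift N₀ hnil₀ _ r
  have hψN : ∀ r, ψ r - ψ₀ r ∈ N := by
    intro r
    have h1 : Ideal.Quotient.mk N₀ (ψ r - ψ₀ r) = (δ r : D ⧸ N₀) := by
      rw [map_sub, hψ, hψ₁, add_sub_cancel_right]
    have h2 : Ideal.Quotient.mk N₀ (ψ r - ψ₀ r) ∈ N₁ := h1 ▸ (δ r).2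
    obtain ⟨n, hn, hn'⟩ := (Ideal.mem_map_iff_of_surjective _ Ideal.Quotient.mk_surjective).mp h2
    have h3 : n - (ψ r - ψ₀ r) ∈ N₀ := Ideal.Quotient.eq.mp hn'
    have h4 := N.sub_mem hn (hN₀N h3)
    rwa [sub_sub_cancel] at h4
  have hψj : ψ (f j) - ψ₀ (f j) ∈ N₀ := by
    rw [← Ideal.Quotient.eq, hψ, hψ₁, hδ j, hνj]
    simp
  have he : ∀ i, ψ (f (j.succAbove i)) + ψ (f j) * t i ∈ N₀ := by
    intro i
    rw [← Ideal.Quotient.eq_zero_iff_mem, map_add, map_mul, hψ, hψ, hψ₁, hψ₁, hδ, hδ, hνj, hνs]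
    change -Ideal.Quotient.mk N₀ (ψ₀ (f (j.succAbove i)) + ψ₀ (f j) * t i) + _ + _ = 0
    rw [map_add, map_mul]
    simp only [Submodule.coe_zero]
    ring
  choose n' hn' hn'eq using fun i => Ideal.mem_span_singleton_mul.mp (he i)
  let t' : Fin m → D := fun i => t i - n' i
  have hs : ∀ i, ψ (f (j.succAbove i)) + ψ (f j) * t' i = 0 := by
    intro i
    have h1 : (ψ (f j) - ψ₀ (f j)) * n' i = 0 := hmulN _ _ (hN₀N hψj) (hn' i)
    have h2 := hn'eq i
    change ψ (f (j.succAbove i)) + ψ (f j) * (t i - n' i) = 0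
    linear_combination -h1 - h2
  -- the lift
  let _ : Algebra R D := ψ.toRingHom.toAlgebra
  have : IsScalarTower A R D := IsScalarTower.of_algebraMap_eq (fun a => (ψ.commutes a).symm)
  let φR : chartRing f j →ₐ[R] D := chartLift f j t' hs
  refine ⟨φR.restrictScalars A, ?_⟩
  apply AlgHom.coe_ringHom_injective
  apply Ideal.Quotient.ringHom_ext
  apply MvPolynomial.ringHom_ext
  · intro r
    change Ideal.Quotient.mk N (φR (algebraMap R (chartRing f j) r)) =
      φb (algebraMap R (chartRing f j) r)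
    rw [φR.commutes, ← hι, ← hψ₀]
    change Ideal.Quotient.mk N (ψ r) = _
    exact Ideal.Quotient.eq.mpr (hψN r)
  · intro i
    change Ideal.Quotient.mk N (φR (coord f j i)) = φb (coord f j i)
    rw [chartLift_coord, ← ht]
    change Ideal.Quotient.mk N (t i - n' i) = _
    rw [map_sub, Ideal.Quotient.eq_zero_iff_mem.mpr (hn' i), sub_zero]

end lift

end Groth.Agent.H2.BlSmo
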