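import Groth.Agent.Lib.Helper2.BlSmoA

/-! # Smoothness of chart rings: Koszul-regular input and finite presentation. -/

universe u
open MvPolynomial TensorProduct

namespace Groth.Agent.H2.BlSmo
open Groth.Agent.H2.BlGr

section rel

variable {R : Type u} [CommRing R]

/-- relations of an `H₁`-regular sequence have coefficients in the ideal. -/
theorem relIn_of_isH1Regular {c : ℕ} (g : Fin c → R) (h : CAlgX.IsH1Regular g) : RelIn g := by
  classical
  intro a ha k
  have hA := h a ha
  have key : ∀ v ∈ Submodule.span R {v : Fin c → R | ∃ i j : Fin c,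
      v = Pi.single i (g j) - Pi.single j (g i)}, ∀ k, v k ∈ Ideal.span (Set.range g) := by
    intro v hv
    induction hv using Submodule.span_induction with
    | mem v hv =>
      obtain ⟨p, q, rfl⟩ := hv
      intro k
      rw [Pi.sub_apply]
      refine sub_mem ?_ ?_
      · by_cases hp : k = p
        · rw [hp, Pi.single_eq_same]
          exact Ideal.subset_span ⟨q, rfl⟩
        · rw [Pi.single_eq_of_ne hp]
          exact zero_mem _
      · by_cases hq : k = q
        · rw [hq, Pi.single_eq_same]
          exact Ideal.subset_span ⟨p, rfl⟩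
        · rw [Pi.single_eq_of_ne hq]
          exact zero_mem _
    | zero => exact fun k => zero_mem _
    | add v w _ _ hv hw => exact fun k => add_mem (hv k) (hw k)
    | smul c v _ hv => exact fun k => Ideal.mul_mem_left _ _ (hv k)
  exact key a hA k

/-- relations of a Koszul-regular sequence have coefficients in the ideal. -/
theorem relIn_of_isKoszulRegularSeq {n : ℕ} (f : Fin n → R)
    (hf : LCI.IsKoszulRegularSeq R (List.ofFn f)) : RelIn f := by
  have h1 := relIn_of_isH1Regular _
    (Groth.Agent.H4.KosLow.isH1Regular_of_isKoszulRegularSeq _ hf)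
  have hlen : (List.ofFn f).length = n := List.length_ofFn
  have hget : ∀ p : Fin (List.ofFn f).length, (List.ofFn f).get p = f (Fin.cast hlen p) := by
    intro p
    exact List.get_ofFn f p
  have hrange : Set.range (List.ofFn f).get = Set.range f := by
    ext y
    constructor
    · rintro ⟨p, rfl⟩
      exact ⟨_, (hget p).symm⟩
    · rintro ⟨k, rfl⟩
      refine ⟨Fin.cast hlen.symm k, ?_⟩
      rw [hget]
      rfl
  intro a ha k
  have h2 : ∑ p : Fin (List.ofFn f).length, a (Fin.cast hlen p) * (List.ofFn f).get p = 0 := by
    rw [← ha]
    refine Fintype.sum_equiv (finCongr hlen) _ _ (fun p => ?_)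
    rw [hget]
    rfl
  have h3 := h1 (fun p => a (Fin.cast hlen p)) h2 (Fin.cast hlen.symm k)
  rw [hrange] at h3
  exact h3

end rel

section smooth

variable {A R Rb : Type u} [CommRing A] [CommRing R] [CommRing Rb] [Algebra A R] [Algebra R Rb]
  [Algebra A Rb] [IsScalarTower A R Rb] {m : ℕ} (f : Fin (m + 1) → R)

/-- **the chart rings of the blow-up of a smooth algebra in a Koszul-regular sequence with
smooth quotient are smooth.** -/
theorem smooth_chartRing (hf : LCI.IsKoszulRegularSeq R (List.ofFn f)) [Algebra.Smooth A R]
    [Algebra.FormallySmooth A Rb] (hsurj : Function.Surjective (algebraMap R Rb))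
    (hker : RingHom.ker (algebraMap R Rb) = Ideal.span (Set.range f)) (j : Fin (m + 1)) :
    Algebra.Smooth A (chartRing f j) := by
  classical
  have h1 : Algebra.FormallySmooth A (chartRing f j) :=
    formallySmooth_chartRing f (relIn_of_isKoszulRegularSeq f hf) hsurj hker j
  have h2 : Algebra.FinitePresentation R (chartRing f j) := by
    refine Algebra.FinitePresentation.quotient ?_
    exact ⟨Finset.univ.image (gEq f j), by
      rw [Finset.coe_image, Finset.coe_univ, Set.image_univ]
      rfl⟩
  have h3 : Algebra.FinitePresentation A R := inferInstance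
  have h4 : Algebra.FinitePresentation A (chartRing f j) :=
    Algebra.FinitePresentation.trans A R (chartRing f j)
  exact ⟨h1, h4⟩

end smooth

end Groth.Agent.H2.BlSmo
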