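import Groth.Agent.Lib.Helper2.NoethInf
import Mathlib.RingTheory.LocalRing.Pullback
import Mathlib.RingTheory.Ideal.Quotient.Operations

/-! The fibre product of Noetherian rings along surjections is Noetherian. -/

namespace Groth.Agent.H2

theorem isNoetherianRing_pullback {A E F : Type*} [CommRing A] [CommRing E] [CommRing F]
    [IsNoetherianRing E] [IsNoetherianRing F] (f : E →+* A) (g : F →+* A)
    (hf : Function.Surjective f) (hg : Function.Surjective g) :
    IsNoetherianRing ↥(f.pullback g) := by
  have h1 : Function.Surjective (f.pullbackFst g) :=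
    RingHom.surjective_pullbackFst_of_surjective f g hg
  have h2 : Function.Surjective (f.pullbackSnd g) :=
    RingHom.surjective_pullbackSnd_of_surjective f g hf
  have : IsNoetherianRing (↥(f.pullback g) ⧸ RingHom.ker (f.pullbackFst g)) :=
    isNoetherianRing_of_ringEquiv E (RingHom.quotientKerEquivOfSurjective h1).symm
  have : IsNoetherianRing (↥(f.pullback g) ⧸ RingHom.ker (f.pullbackSnd g)) :=
    isNoetherianRing_of_ringEquiv F (RingHom.quotientKerEquivOfSurjective h2).symm
  have hinf : RingHom.ker (f.pullbackFst g) ⊓ RingHom.ker (f.pullbackSnd g) = ⊥ := by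
    rw [eq_bot_iff]
    rintro ⟨⟨x, y⟩, hxy⟩ ⟨hx, hy⟩
    rw [SetLike.mem_coe, RingHom.mem_ker] at hx hy
    simp only [RingHom.coe_comp, RingHom.coe_fst, RingHom.coe_snd, Subring.coe_subtype,
      Function.comp_apply] at hx hy
    rw [Ideal.mem_bot]
    apply Subtype.ext
    exact Prod.ext hx hy
  have h3 := isNoetherianRing_quotient_inf (RingHom.ker (f.pullbackFst g))
    (RingHom.ker (f.pullbackSnd g))
  rw [hinf] at h3
  exact isNoetherianRing_of_ringEquiv _ (RingEquiv.quotientBot _)

end Groth.Agent.H2
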