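import Groth.Agent.Lib.Helper2.BlSmoB
import Groth.Agent.Lib.Helper2.BlLciA
import Groth.Agent.Lib.Helper8.CIImm.Chart
import Groth.Agent.Lib.Helper8.CIMor.Sch
import Groth.Agent.Lib.Helper8.SyntSrc.Mor

/-! # The blow-up of a smooth scheme in a smooth centre is smooth. -/

universe u
open CategoryTheory CategoryTheory.Limits AlgebraicGeometry

namespace Groth.Agent.H2.BlSmo
open Groth.Agent.H2.BlGr Groth.Agent.H2.BlBc Groth.Agent.H9.BLA

variable {Z X X' S : Scheme.{u}}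

/-- Koszul-regular charts of a regular closed immersion inside a prescribed open. -/
theorem exists_regular_chart_le (i : Z ⟶ X) (hi : Mor2.IsRegularClosedImmersion i) (z : Z)
    (O : X.Opens) (hzO : i z ∈ O) :
    ∃ (U' : X.Opens) (hU' : IsAffineOpen U'), i z ∈ U' ∧ U' ≤ O ∧
      (i.ker.ideal ⟨U', hU'⟩ = ⊥ ∨ ∃ (m : ℕ) (f : Fin (m + 1) → Γ(X, U')),
        LCI.IsKoszulRegularSeq Γ(X, U') (List.ofFn f) ∧
          i.ker.ideal ⟨U', hU'⟩ = Ideal.span (Set.range f)) := by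
  obtain ⟨-, hreg⟩ := hi
  obtain ⟨U, hU, hzU, rs, hrs, hker⟩ := hreg z
  obtain ⟨s, hsle, hxs⟩ := hU.exists_basicOpen_le (V := O) ⟨i z, hzO⟩ hzU
  refine ⟨X.basicOpen s, hU.basicOpen s, hxs, hsle, ?_⟩
  have hmap : i.ker.ideal ⟨X.basicOpen s, hU.basicOpen s⟩ =
      (i.ker.ideal ⟨U, hU⟩).map (algebraMap Γ(X, U) Γ(X, X.basicOpen s)) :=
    (i.ker.map_ideal_basicOpen ⟨U, hU⟩ s).symm
  by_cases hne : rs = []
  · left
    rw [hmap, hker, hne, Ideal.ofList_nil, Ideal.map_bot]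
  · right
    obtain ⟨m, f, hf⟩ := Groth.Agent.H2.BlSm.exists_ofFn rs hne
    have hKos : LCI.IsKoszulRegularSeq Γ(X, U) (List.ofFn f) := by
      rw [hf]
      exact Groth.Agent.H2.BlSm.isKoszulRegularSeq_of_isWeaklyRegular rs hrs.toIsWeaklyRegular
    have hloc : IsLocalization.Away s Γ(X, X.basicOpen s) := hU.isLocalization_basicOpen s
    have hflat : Module.Flat Γ(X, U) Γ(X, X.basicOpen s) :=
      IsLocalization.flat Γ(X, X.basicOpen s) (Submonoid.powers s)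
    refine ⟨m, fun k => algebraMap Γ(X, U) Γ(X, X.basicOpen s) (f k), ?_, ?_⟩
    · have h1 := Groth.Agent.H4.KosBC.isKoszulRegularSeq_map (B := Γ(X, X.basicOpen s))
        (List.ofFn f) hKos
      rw [List.map_ofFn] at h1
      exact h1
    · rw [hmap, hker, ← hf, ofList_ofFn, Ideal.map_span, ← Set.range_comp]
      rfl

/-- smooth morphisms are complete intersection morphisms. -/
theorem isCIMorphism_of_smooth {Y T : Scheme.{u}} (g : Y ⟶ T) [Smooth g] : CInt.IsCIMorphism g := by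
  rw [Groth.Agent.H8.CIMor.isCIMorphism_iff, Groth.Agent.H8.SyntSrc.syntomicP_iff]
  exact ⟨inferInstance, Groth.Agent.H8.LCIHom.lcip_of_smooth g⟩

/-- the ring-level input on an affine chart. -/
theorem smooth_appLE_chartRing (q : X ⟶ S) [Smooth q] (i : Z ⟶ X) [IsClosedImmersion i]
    [Smooth (i ≫ q)] {V : S.Opens} (hV : IsAffineOpen V) {U : X.Opens} (hU : IsAffineOpen U)
    (e : U ≤ q ⁻¹ᵁ V) {m : ℕ} (f : Fin (m + 1) → Γ(X, U))
    (hKos : LCI.IsKoszulRegularSeq Γ(X, U) (List.ofFn f))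
    (hIU : i.ker.ideal ⟨U, hU⟩ = Ideal.span (Set.range f)) (j : Fin (m + 1)) :
    ((algebraMap Γ(X, U) (chartRing f j)).comp (q.appLE V U e).hom).Smooth := by
  have hq : (q.appLE V U e).hom.Smooth :=
    HasRingHomProperty.appLE (P := @Smooth) q inferInstance ⟨V, hV⟩ ⟨U, hU⟩ e
  have hUZ : IsAffineOpen (i ⁻¹ᵁ U) := hU.preimage i
  have e' : i ⁻¹ᵁ U ≤ (i ≫ q) ⁻¹ᵁ V := by
    intro y hy
    exact e hy
  have hiq : ((i ≫ q).appLE V (i ⁻¹ᵁ U) e').hom.Smooth :=
    HasRingHomProperty.appLE (P := @Smooth) (i ≫ q) inferInstance ⟨V, hV⟩ ⟨i ⁻¹ᵁ U, hUZ⟩ e'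
  have hcomp : (i ≫ q).appLE V (i ⁻¹ᵁ U) e' = q.appLE V U e ≫ i.app U := by
    rw [Scheme.Hom.app_eq_appLE, Scheme.Hom.appLE_comp_appLE]
  let _ : Algebra Γ(S, V) Γ(X, U) := (q.appLE V U e).hom.toAlgebra
  let _ : Algebra Γ(X, U) Γ(Z, i ⁻¹ᵁ U) := (i.app U).hom.toAlgebra
  let _ : Algebra Γ(S, V) Γ(Z, i ⁻¹ᵁ U) := ((i ≫ q).appLE V (i ⁻¹ᵁ U) e').hom.toAlgebra
  have : IsScalarTower Γ(S, V) Γ(X, U) Γ(Z, i ⁻¹ᵁ U) := by
    refine IsScalarTower.of_algebraMap_eq (fun a => ?_)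
    change ((i ≫ q).appLE V (i ⁻¹ᵁ U) e').hom a = (i.app U).hom ((q.appLE V U e).hom a)
    rw [hcomp]
    rfl
  have h1 : Algebra.Smooth Γ(S, V) Γ(X, U) := hq
  have h2 : Algebra.Smooth Γ(S, V) Γ(Z, i ⁻¹ᵁ U) := hiq
  have hsurj : Function.Surjective (algebraMap Γ(X, U) Γ(Z, i ⁻¹ᵁ U)) :=
    i.app_surjective U hU
  have hker : RingHom.ker (algebraMap Γ(X, U) Γ(Z, i ⁻¹ᵁ U)) = Ideal.span (Set.range f) := by
    rw [← hIU, Scheme.Hom.ker_apply]
    rfl
  have h2' : Algebra.FormallySmooth Γ(S, V) Γ(Z, i ⁻¹ᵁ U) := h2.formallySmooth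
  have h3 : Algebra.Smooth Γ(S, V) (chartRing f j) :=
    @smooth_chartRing Γ(S, V) Γ(X, U) Γ(Z, i ⁻¹ᵁ U) _ _ _ _ _ _ _ m f hKos h1 h2' hsurj hker j
  have h4 : (algebraMap Γ(X, U) (chartRing f j)).comp (q.appLE V U e).hom =
      algebraMap Γ(S, V) (chartRing f j) := by
    apply RingHom.ext
    intro a
    rfl
  rw [h4, RingHom.smooth_algebraMap]
  exact h3

/-- **the blow-up of a smooth scheme in a smooth centre is smooth.** -/
theorem smooth_blowUp (q : X ⟶ S) [Smooth q] (i : Z ⟶ X) [IsClosedImmersion i]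
    [Smooth (i ≫ q)] (b : X' ⟶ X) (hb : BlowUp.IsBlowUp b i.ker) : Smooth (b ≫ q) := by
  have hi : Mor2.IsRegularClosedImmersion i :=
    Groth.Agent.H8.CIImm.isRegularClosedImmersion_of_ci q i (isCIMorphism_of_smooth (i ≫ q))
  refine Groth.Agent.H2.BlLci.of_forall_exists_openImmersion (P := @Smooth) (b ≫ q) (fun β => ?_)
  by_cases hβ : b β ∈ i.ker.support
  · -- over the centre
    have hβ' : b β ∈ Set.range i := by
      have h1 : (i.ker.support : Set X) = closure (Set.range i) := by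
        rw [Scheme.Hom.support_ker]
      have h2 : b β ∈ closure (Set.range i) := by
        rw [← h1]
        exact hβ
      rwa [i.isClosedEmbedding.isClosed_range.closure_eq] at h2
    obtain ⟨z, hz⟩ := hβ'
    obtain ⟨_, ⟨V, hV, rfl⟩, hqV, -⟩ :=
      S.isBasis_affineOpens.exists_subset_of_mem_open (Set.mem_univ (q (b β))) isOpen_univ
    have hzO : i z ∈ q ⁻¹ᵁ V := by
      rw [hz]
      exact hqV
    obtain ⟨U, hU, hzU, hUV, hcase⟩ := exists_regular_chart_le i hi z (q ⁻¹ᵁ V) hzO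
    have hbβ : b β ∈ U := by
      rw [← hz]
      exact hzU
    have hβr : b β ∈ Set.range hU.fromSpec := by
      rw [hU.range_fromSpec]
      exact hbβ
    rcases hcase with h0 | ⟨m, f, hKos, hIU⟩
    · exfalso
      exact Groth.Agent.H2.BlSm.false_of_ideal_eq_bot i.ker b hb.1 hU h0 β hbβ
    · have hI : i.ker.comap hU.fromSpec = idealSheaf (Ideal.span (Set.range f)) := by
        rw [comap_fromSpec, hIU]
      obtain ⟨j, l, hlo, hβl, hlb⟩ :=
        exists_chart_of_isBlowUp i.ker b f hb hU.fromSpec hI hKos β hβr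
      refine ⟨_, l, hlo, hβl, ?_⟩
      have h1 : l ≫ b ≫ q = Spec.map (q.appLE V U hUV ≫
          CommRingCat.ofHom (algebraMap Γ(X, U) (chartRing f j))) ≫ hV.fromSpec := by
        rw [← Category.assoc, hlb, Category.assoc, ← hV.SpecMap_appLE_fromSpec q hU hUV,
          Spec.map_comp, Category.assoc]
      rw [h1]
      have h2 : Smooth (Spec.map (q.appLE V U hUV ≫
          CommRingCat.ofHom (algebraMap Γ(X, U) (chartRing f j)))) := by
        rw [HasRingHomProperty.Spec_iff (P := @Smooth)]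
        exact smooth_appLE_chartRing q i hV hU hUV f hKos hIU j
      infer_instance
  · -- away from the centre
    have hopen : IsOpenImmersion ((b ⁻¹ᵁ i.ker.support.compl).ι ≫ b) :=
      Groth.Agent.LD.QC.IsBlowUp.isOpenImmersion_compl hb
    refine ⟨_, (b ⁻¹ᵁ i.ker.support.compl).ι, inferInstance, ⟨⟨β, hβ⟩, rfl⟩, ?_⟩
    rw [← Category.assoc]
    infer_instance

end Groth.Agent.H2.BlSmo
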