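import Mathlib
import Groth.Agent.Lib.Helper2.Ext1

/-!
# Helper2: blended extensions exist iff the product of the extension classes vanishes
-/

namespace Groth.Agent.H2.Blended

open CategoryTheory Limits Abelian

universe w v u

variable {C : Type u} [Category.{v} C] [Abelian C]

section Quot

variable {P F R X Q : C} (a : P ⟶ F) (b : F ⟶ R) (wF : a ≫ b = 0)
  (hF : (ShortComplex.mk a b wF).ShortExact)
  (i : F ⟶ X) (p' : X ⟶ Q) (wX : i ≫ p' = 0) (hX : (ShortComplex.mk i p' wX).ShortExact)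

/-- the induced map `R ⟶ X / P` -/
noncomputable def quotIncl : R ⟶ cokernel (a ≫ i) :=
  hF.gIsCokernel.desc (CokernelCofork.ofπ (i ≫ cokernel.π (a ≫ i))
    (by rw [← Category.assoc, cokernel.condition]))

lemma b_quotIncl : b ≫ quotIncl a b wF hF i = i ≫ cokernel.π (a ≫ i) :=
  hF.gIsCokernel.fac (CokernelCofork.ofπ (i ≫ cokernel.π (a ≫ i))
    (by rw [← Category.assoc, cokernel.condition])) WalkingParallelPair.one

/-- the induced map `X / P ⟶ Q` -/
noncomputable def quotProj : cokernel (a ≫ i) ⟶ Q :=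
  cokernel.desc (a ≫ i) p' (by rw [Category.assoc, wX, comp_zero])

lemma π_quotProj : cokernel.π (a ≫ i) ≫ quotProj a i p' wX = p' := by
  rw [quotProj, cokernel.π_desc]

lemma quot_zero : quotIncl a b wF hF i ≫ quotProj a i p' wX = 0 := by
  have : Epi b := hF.epi_g
  rw [← cancel_epi b, ← Category.assoc, b_quotIncl, Category.assoc, π_quotProj, wX, comp_zero]

include hX in
lemma quot_shortExact :
    (ShortComplex.mk (quotIncl a b wF hF i) (quotProj a i p' wX)
      (quot_zero a b wF hF i p' wX)).ShortExact := by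
  have : Epi b := hF.epi_g
  have : Mono i := hX.mono_f
  have : Epi p' := hX.epi_g
  have hepi : Epi (quotProj a i p' wX) := epi_of_epi_fac (π_quotProj a i p' wX)
  have hcok : (ShortComplex.mk (a ≫ i) (cokernel.π (a ≫ i)) (cokernel.condition _)).Exact :=
    ShortComplex.exact_of_g_is_cokernel _ (cokernelIsCokernel _)
  have hmono : Mono (quotIncl a b wF hF i) := by
    apply Preadditive.mono_of_cancel_zero
    intro T t ht
    obtain ⟨T', q, hq, f, hf⟩ := surjective_up_to_refinements_of_epi b t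
    have h1 : (f ≫ i) ≫ cokernel.π (a ≫ i) = 0 := by
      rw [Category.assoc, ← b_quotIncl a b wF hF i, ← reassoc_of% hf, ht, comp_zero]
    obtain ⟨T'', q', hq', g, hg⟩ := hcok.exact_up_to_refinements (f ≫ i) h1
    dsimp at g hg
    have h2 : q' ≫ f = g ≫ a := by
      rw [← cancel_mono i, Category.assoc, hg, Category.assoc]
    have : Epi (q' ≫ q) := epi_comp _ _
    rw [← cancel_epi (q' ≫ q), comp_zero, Category.assoc, hf, reassoc_of% h2, wF, comp_zero]
  refine ShortComplex.ShortExact.mk' ?_ hmono hepi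
  rw [ShortComplex.exact_iff_exact_up_to_refinements]
  intro T x hx
  dsimp at x hx ⊢
  obtain ⟨T', q, hq, z, hz⟩ := surjective_up_to_refinements_of_epi (cokernel.π (a ≫ i)) x
  have h1 : z ≫ p' = 0 := by
    rw [← π_quotProj a i p' wX, ← reassoc_of% hz, hx, comp_zero]
  obtain ⟨T'', q', hq', f, hf⟩ := hX.exact.exact_up_to_refinements z h1
  dsimp at f hf
  refine ⟨T'', q' ≫ q, epi_comp _ _, f ≫ b, ?_⟩
  rw [Category.assoc, hz, reassoc_of% hf, Category.assoc, b_quotIncl]

end Quot

variable [HasExt.{w} C]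

theorem blended_iff {P F R E Q : C} (a : P ⟶ F) (b : F ⟶ R) (wF : a ≫ b = 0)
    (hF : (ShortComplex.mk a b wF).ShortExact) (c : R ⟶ E) (d : E ⟶ Q) (wE : c ≫ d = 0)
    (hE : (ShortComplex.mk c d wE).ShortExact) :
    (∃ (X : C) (i : F ⟶ X) (p : X ⟶ E), i ≫ p = b ≫ c ∧
        (∃ w : (a ≫ i) ≫ p = 0, (ShortComplex.mk (a ≫ i) p w).ShortExact) ∧
        (∃ w : i ≫ (p ≫ d) = 0, (ShortComplex.mk i (p ≫ d) w).ShortExact)) ↔
      (hE.extClass.comp hF.extClass (rfl : 1 + 1 = 2) : Ext.{w} Q P 2) = 0 := by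
  constructor
  · rintro ⟨X, i, p, hip, ⟨w1, h1⟩, -⟩
    let f : ShortComplex.mk a b wF ⟶ ShortComplex.mk (a ≫ i) p w1 :=
      { τ₁ := 𝟙 _
        τ₂ := i
        τ₃ := c
        comm₁₂ := by simp
        comm₂₃ := hip }
    have e := ShortComplex.ShortExact.extClass_naturality hF h1 f
    dsimp [f] at e
    rw [Ext.comp_mk₀_id] at e
    rw [e]
    exact hE.extClass_comp_assoc _
  · intro h0
    obtain ⟨y, hy⟩ := Ext.covariant_sequence_exact₃ Q hF hE.extClass (rfl : 1 + 1 = 2) h0
    dsimp at y hy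
    obtain ⟨X, i, p', wX, hX, rfl⟩ := Ext1.exists_shortExact_extClass y
    -- the quotient extension
    have hQ := quot_shortExact a b wF hF i p' wX hX
    let f : ShortComplex.mk i p' wX ⟶ ShortComplex.mk (quotIncl a b wF hF i) (quotProj a i p' wX)
        (quot_zero a b wF hF i p' wX) :=
      { τ₁ := b
        τ₂ := cokernel.π (a ≫ i)
        τ₃ := 𝟙 _
        comm₁₂ := b_quotIncl a b wF hF i
        comm₂₃ := by simp [π_quotProj] }
    have e := ShortComplex.ShortExact.extClass_naturality hX hQ f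
    dsimp [f] at e
    rw [Ext.mk₀_id_comp, hy] at e
    obtain ⟨θ, hθ1, hθ2⟩ := Ext1.exists_iso_of_extClass_eq c d wE hE _ _ _ hQ e
    refine ⟨X, i, cokernel.π (a ≫ i) ≫ θ.hom, ?_, ?_, ?_⟩
    · rw [← Category.assoc, ← b_quotIncl a b wF hF i, Category.assoc, hθ1]
    · have w1 : (a ≫ i) ≫ cokernel.π (a ≫ i) ≫ θ.hom = 0 := by
        rw [← Category.assoc, cokernel.condition, zero_comp]
      refine ⟨w1, ?_⟩
      have : Mono (a ≫ i) := by
        have : Mono a := hF.mono_f
        have : Mono i := hX.mono_f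
        exact mono_comp _ _
      have hcok : (ShortComplex.mk (a ≫ i) (cokernel.π (a ≫ i)) (cokernel.condition _)).ShortExact :=
        { exact := ShortComplex.exact_of_g_is_cokernel _ (cokernelIsCokernel _) }
      refine ShortComplex.shortExact_of_iso ?_ hcok
      exact ShortComplex.isoMk (Iso.refl _) (Iso.refl _) θ (by simp) (by simp)
    · have w2 : i ≫ (cokernel.π (a ≫ i) ≫ θ.hom) ≫ d = 0 := by
        rw [Category.assoc, hθ2, π_quotProj, wX]
      refine ⟨w2, ?_⟩
      refine ShortComplex.shortExact_of_iso ?_ hX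
      exact ShortComplex.isoMk (Iso.refl _) (Iso.refl _) (Iso.refl _) (by simp)
        (by simp [hθ2, π_quotProj])

end Groth.Agent.H2.Blended
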