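import Mathlib
import Groth.Prelude.Def_W4c2arithlefschetzGraph

/-!
# The blow-up graph: `mat = -PᵀP` and `mult = (PᵀP)⁻¹`
-/

open ArLef ArLef.BlowupGraph Matrix

namespace Groth.Agent.H2.BlowupGraph

variable {n : ℕ} (G : ArLef.BlowupGraph n)

/-! ### the recursion for `tt` -/

lemma ttN_of_lt {k m : ℕ} (h : m < k) : G.ttN k m = 0 := by
  rw [ttN, if_pos h]

lemma ttN_self (k : ℕ) : G.ttN k k = 1 := by
  rw [ttN, if_neg (lt_irrefl k), if_pos rfl]

lemma ttN_of_gt {k m : ℕ} (h : k < m) :
    G.ttN k m = ∑ p ∈ (G.parN m).attach, G.ttN k p.1 := by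
  rw [ttN, if_neg (by omega), if_neg (by omega)]

lemma sum_parN (k : ℕ) (m : Fin n) :
    ∑ p ∈ (G.parN m.1).attach, G.ttN k p.1 = ∑ p ∈ G.par m, G.ttN k p.1 := by
  rw [Finset.sum_attach (G.parN m.1) (fun p => G.ttN k p)]
  have : G.parN m.1 = (G.par m).map Fin.valEmbedding := by
    unfold parN
    rw [dif_pos m.2]
  rw [this, Finset.sum_map]
  rfl

lemma tt_rec (k m : Fin n) :
    G.tt k m = (if k = m then 1 else 0) + ∑ p ∈ G.par m, G.tt k p := by
  have hz : ∀ p ∈ G.par m, m.1 ≤ k.1 → G.ttN k.1 p.1 = 0 := by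
    intro p hp hmk
    have := G.par_lt m p hp
    exact ttN_of_lt G (lt_of_lt_of_le this hmk)
  unfold tt
  rcases lt_trichotomy m.1 k.1 with h | h | h
  · rw [ttN_of_lt G h, if_neg (by intro e; rw [e] at h; exact lt_irrefl _ h),
      Finset.sum_eq_zero (fun p hp => hz p hp h.le)]
    simp
  · have e : k = m := Fin.ext h.symm
    subst e
    rw [ttN_self G, if_pos rfl, Finset.sum_eq_zero (fun p hp => hz p hp le_rfl)]
    simp
  · rw [ttN_of_gt G h, sum_parN, if_neg (by intro e; rw [e] at h; exact lt_irrefl _ h), zero_add]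

/-! ### the matrices -/

/-- `N m p = 1` iff the `m`-th centre lies on `E_p` -/
def Nmat : Matrix (Fin n) (Fin n) ℚ := fun m p => if p ∈ G.par m then 1 else 0

/-- `P = 1 - N` -/
def Pmat : Matrix (Fin n) (Fin n) ℚ := 1 - Nmat G

/-- the matrix of total transforms -/
def Tmat : Matrix (Fin n) (Fin n) ℚ := fun k m => (G.tt k m : ℚ)

lemma tt_rec_rat (k m : Fin n) :
    (G.tt k m : ℚ) = (if k = m then 1 else 0) + ∑ p ∈ G.par m, (G.tt k p : ℚ) := by
  have := tt_rec G k m
  rw [this]
  push_cast
  split_ifs <;> simp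

lemma T_mul_Pt : Tmat G * (Pmat G)ᵀ = 1 := by
  ext k m
  simp only [Matrix.mul_apply, Matrix.transpose_apply, Pmat, Matrix.sub_apply, Matrix.one_apply,
    Nmat, Tmat]
  simp only [mul_sub, Finset.sum_sub_distrib, mul_ite, mul_one, mul_zero, Finset.sum_ite_eq,
    Finset.mem_univ, if_true]
  rw [Finset.sum_ite_mem, Finset.univ_inter, tt_rec_rat G k m]
  ring

lemma Pt_mul_T : (Pmat G)ᵀ * Tmat G = 1 := by
  rw [mul_eq_one_comm]
  exact T_mul_Pt G

lemma Tt_mul_P : (Tmat G)ᵀ * Pmat G = 1 := by
  have := congrArg Matrix.transpose (Pt_mul_T G)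
  rwa [Matrix.transpose_mul, Matrix.transpose_transpose, Matrix.transpose_one] at this

lemma P_mul_Tt : Pmat G * (Tmat G)ᵀ = 1 := by
  rw [mul_eq_one_comm]
  exact Tt_mul_P G

/-! ### `mat = -PᵀP` -/

/-- the number of centres lying on both `E_p` and `E_q` -/
def cnum (p q : Fin n) : ℚ := ∑ m, Nmat G m p * Nmat G m q

lemma cnum_eq_card (p q : Fin n) :
    cnum G p q = ((Finset.univ.filter (fun m => p ∈ G.par m ∧ q ∈ G.par m)).card : ℚ) := by
  unfold cnum Nmat
  rw [← Finset.sum_boole]
  refine Finset.sum_congr rfl (fun m _ => ?_)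
  split_ifs <;> simp_all

lemma cnum_comm (p q : Fin n) : cnum G p q = cnum G q p := by
  unfold cnum
  exact Finset.sum_congr rfl (fun m _ => mul_comm _ _)

lemma Nmat_eq_zero_of_le {m p : Fin n} (h : m ≤ p) : Nmat G m p = 0 := by
  unfold Nmat
  rw [if_neg]
  intro hp
  exact absurd (G.par_lt m p hp) (not_lt.2 h)

lemma PtP_apply (p q : Fin n) :
    ((Pmat G)ᵀ * Pmat G) p q =
      (if p = q then 1 else 0) - Nmat G p q - Nmat G q p + cnum G p q := by
  simp only [Matrix.mul_apply, Matrix.transpose_apply, Pmat, Matrix.sub_apply, Matrix.one_apply,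
    cnum]
  have : ∀ m : Fin n, ((if m = p then (1 : ℚ) else 0) - Nmat G m p) *
      ((if m = q then (1 : ℚ) else 0) - Nmat G m q) =
      (if m = p then (if m = q then (1 : ℚ) else 0) else 0) -
        (if m = p then Nmat G m q else 0) - (if m = q then Nmat G m p else 0) +
        Nmat G m p * Nmat G m q := by
    intro m
    split_ifs <;> ring
  simp only [this, Finset.sum_add_distrib, Finset.sum_sub_distrib, Finset.sum_ite_eq',
    Finset.mem_univ, if_true]

lemma Adj_comm (p q : Fin n) : G.Adj p q ↔ G.Adj q p := by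
  unfold Adj
  constructor <;> (rintro (h | h) <;> [right; left] <;> exact h)

lemma adj_key {p q : Fin n} (h : p < q) :
    (if G.Adj p q then (1 : ℚ) else 0) = Nmat G q p - cnum G p q := by
  have hne : p ≠ q := ne_of_lt h
  have hnq : ¬ q ∈ G.par p := fun hq => absurd (G.par_lt p q hq) (not_lt.2 h.le)
  by_cases hp : p ∈ G.par q
  · -- the set of `m` with `par m = {p, q}`
    have hset : ∀ m, (p ∈ G.par m ∧ q ∈ G.par m) ↔ G.par m = {p, q} := by
      intro m
      constructor
      · rintro ⟨h1, h2⟩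
        symm
        apply Finset.eq_of_subset_of_card_le
        · intro x hx
          rcases Finset.mem_insert.1 hx with rfl | hx
          · exact h1
          · rw [Finset.mem_singleton.1 hx]; exact h2
        · rw [Finset.card_pair hne]
          exact G.card_le_two m
      · intro e
        rw [e]
        simp
    have hcard : (Finset.univ.filter (fun m => p ∈ G.par m ∧ q ∈ G.par m)).card ≤ 1 := by
      rw [Finset.card_le_one]
      intro m₁ hm₁ m₂ hm₂
      rw [Finset.mem_filter] at hm₁ hm₂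
      by_contra hne'
      rcases lt_or_gt_of_ne hne' with hlt | hlt
      · have := (G.meet_of_two m₂ p q hm₂.2.1 hm₂.2.2 h).2 m₁ (G.par_lt m₁ q hm₁.2.2) hlt
        exact this ((hset m₁).1 hm₁.2)
      · have := (G.meet_of_two m₁ p q hm₁.2.1 hm₁.2.2 h).2 m₂ (G.par_lt m₂ q hm₂.2.2) hlt
        exact this ((hset m₂).1 hm₂.2)
    have hN : Nmat G q p = 1 := by unfold Nmat; rw [if_pos hp]
    rw [hN, cnum_eq_card]
    by_cases hA : G.Adj p q
    · rw [if_pos hA]
      have : (Finset.univ.filter (fun m => p ∈ G.par m ∧ q ∈ G.par m)) = ∅ := by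
        rw [Finset.filter_eq_empty_iff]
        intro m _ hm
        rcases hA with hA | hA
        · exact hA.2 m (G.par_lt m q hm.2) ((hset m).1 hm)
        · exact hnq hA.1
      rw [this]
      simp
    · rw [if_neg hA]
      have : ∃ m, p ∈ G.par m ∧ q ∈ G.par m := by
        by_contra hcon
        push Not at hcon
        apply hA
        left
        refine ⟨hp, fun m _ e => ?_⟩
        have := (hset m).2 e
        exact hcon m this.1 this.2
      obtain ⟨m, hm⟩ := this
      have hpos : 0 < (Finset.univ.filter (fun m => p ∈ G.par m ∧ q ∈ G.par m)).card :=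
        Finset.card_pos.2 ⟨m, by simp [hm]⟩
      have : (Finset.univ.filter (fun m => p ∈ G.par m ∧ q ∈ G.par m)).card = 1 := by omega
      rw [this]
      simp
  · have hN : Nmat G q p = 0 := by unfold Nmat; rw [if_neg hp]
    have hc : cnum G p q = 0 := by
      rw [cnum_eq_card]
      have : (Finset.univ.filter (fun m => p ∈ G.par m ∧ q ∈ G.par m)) = ∅ := by
        rw [Finset.filter_eq_empty_iff]
        intro m _ hm
        exact hp (G.meet_of_two m p q hm.1 hm.2 h).1
      rw [this]
      simp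
    have hA : ¬ G.Adj p q := by
      rintro (hA | hA)
      · exact hp hA.1
      · exact hnq hA.1
    rw [if_neg hA, hN, hc, sub_zero]

lemma mat_eq : G.mat = -((Pmat G)ᵀ * Pmat G) := by
  ext p q
  rw [Matrix.neg_apply, PtP_apply]
  unfold mat
  rcases lt_trichotomy p q with h | h | h
  · rw [if_neg (ne_of_lt h), if_neg (ne_of_lt h), adj_key G h, Nmat_eq_zero_of_le G h.le]
    ring
  · subst h
    rw [if_pos rfl, if_pos rfl, Nmat_eq_zero_of_le G le_rfl, cnum_eq_card]
    unfold selfInt
    push_cast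
    have : (Finset.univ.filter (fun m => p ∈ G.par m ∧ p ∈ G.par m)) =
        (Finset.univ.filter (fun m => p ∈ G.par m)) := by
      congr 1
      ext m
      simp
    rw [this]
    ring
  · rw [if_neg (ne_of_gt h), if_neg (ne_of_gt h)]
    have : (if G.Adj p q then (1 : ℚ) else 0) = (if G.Adj q p then (1 : ℚ) else 0) := by
      simp only [Adj_comm G p q]
    rw [this, adj_key G h, Nmat_eq_zero_of_le G h.le, cnum_comm G q p]
    ring

end Groth.Agent.H2.BlowupGraph
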