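import Mathlib
import Groth.Agent.Lib.Helper2.BlowupGraph1

/-!
# The blow-up graph: `lNum = rNum`
-/

open ArLef ArLef.BlowupGraph Matrix

namespace Groth.Agent.H2.BlowupGraph

variable {n : ℕ} (G : ArLef.BlowupGraph n)

/-- `mult` as a rational matrix -/
def Wmat : Matrix (Fin n) (Fin n) ℚ := fun i j => (G.mult i j : ℚ)

lemma Wmat_eq : Wmat G = (Tmat G)ᵀ * Tmat G := by
  ext i j
  simp only [Wmat, mult, Matrix.mul_apply, Matrix.transpose_apply, Tmat]
  push_cast
  rfl

lemma Wmat_symm (i j : Fin n) : Wmat G i j = Wmat G j i := by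
  simp only [Wmat, mult]
  congr 1
  exact Finset.sum_congr rfl (fun k _ => mul_comm _ _)

lemma mat_mul_W : G.mat * Wmat G = -1 := by
  rw [mat_eq, Wmat_eq, Matrix.neg_mul, Matrix.mul_assoc, ← Matrix.mul_assoc (Pmat G),
    P_mul_Tt, Matrix.one_mul, Pt_mul_T]

variable (I : Finset (Fin n))

/-- the inclusion of `I` -/
def incl : I → Fin n := fun x => x.1

/-- the submatrix of `mat` on `I` -/
noncomputable def MI : Matrix I I ℚ := G.mat.submatrix (incl I) (incl I)

lemma MI_eq : MI G I = -(((Pmat G).submatrix id (incl I))ᵀ * (Pmat G).submatrix id (incl I)) := by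
  unfold MI
  rw [mat_eq, Matrix.transpose_submatrix, Matrix.submatrix_neg, Pi.neg_apply, Pi.neg_apply,
    Matrix.submatrix_mul _ _ (incl I) id (incl I) Function.bijective_id]

lemma left_inv : ((Tmat G)ᵀ).submatrix (incl I) id * (Pmat G).submatrix id (incl I) = 1 := by
  rw [← Matrix.submatrix_mul _ _ (incl I) id (incl I) Function.bijective_id, Tt_mul_P]
  exact Matrix.submatrix_one (incl I) (fun a b h => Subtype.ext h)

lemma isUnit_det_MI : IsUnit (MI G I).det := by
  rw [isUnit_iff_ne_zero]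
  intro hdet
  obtain ⟨v, hv, hv0⟩ := Matrix.exists_mulVec_eq_zero_iff.2 hdet
  apply hv
  set B := (Pmat G).submatrix id (incl I) with hB
  have h1 : (Bᵀ * B) *ᵥ v = 0 := by
    have : MI G I = -(Bᵀ * B) := MI_eq G I
    rw [this, Matrix.neg_mulVec, neg_eq_zero] at hv0
    exact hv0
  have h2 : v ∈ LinearMap.ker (Bᵀ * B).mulVecLin := by
    rw [LinearMap.mem_ker, Matrix.mulVecLin_apply]
    exact h1
  rw [Matrix.ker_mulVecLin_transpose_mul_self, LinearMap.mem_ker, Matrix.mulVecLin_apply] at h2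
  have h3 := congrArg (fun w => ((Tmat G)ᵀ).submatrix (incl I) id *ᵥ w) h2
  simp only [Matrix.mulVec_mulVec, Matrix.mulVec_zero] at h3
  rw [left_inv, Matrix.one_mulVec] at h3
  exact h3

/-- the rows of `mat` restricted to columns in `I` -/
noncomputable def Rm : Matrix (Fin n) I ℚ := G.mat.submatrix id (incl I)

/-- the columns of `mat` restricted to rows in `I` -/
noncomputable def Cm : Matrix I (Fin n) ℚ := G.mat.submatrix (incl I) id

/-- the Schur complement, as a matrix on all vertices -/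
noncomputable def Sm : Matrix (Fin n) (Fin n) ℚ := G.mat - Rm G I * (MI G I)⁻¹ * Cm G I

lemma pairing_eq (i j : Fin n) : G.pairing I i j = Sm G I i j := by
  unfold pairing Sm
  rw [Matrix.sub_apply]
  congr 1
  simp only [Matrix.mul_apply, Rm, Cm, Matrix.submatrix_apply, id, incl, Finset.sum_mul]
  rw [Finset.sum_comm]
  rfl

lemma Cm_mul_W : Cm G I * Wmat G = (-1 : Matrix (Fin n) (Fin n) ℚ).submatrix (incl I) id := by
  rw [← mat_mul_W G]
  have : Wmat G = (Wmat G).submatrix id id := rfl
  rw [Cm]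
  conv_lhs => rw [this]
  rw [← Matrix.submatrix_mul _ _ (incl I) id id Function.bijective_id]

lemma Sm_mul_W : Sm G I * Wmat G =
    -1 - Rm G I * (MI G I)⁻¹ * (-1 : Matrix (Fin n) (Fin n) ℚ).submatrix (incl I) id := by
  rw [Sm, Matrix.sub_mul, mat_mul_W, Matrix.mul_assoc _ (Cm G I), Cm_mul_W]

lemma Sm_mul_W_apply (i' i : Fin n) (hi : i ∉ I) :
    (Sm G I * Wmat G) i' i = if i' = i then -1 else 0 := by
  rw [Sm_mul_W, Matrix.sub_apply, Matrix.mul_apply]
  have : ∀ b : I, (Rm G I * (MI G I)⁻¹) i' b *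
      (-1 : Matrix (Fin n) (Fin n) ℚ).submatrix (incl I) id b i = 0 := by
    intro b
    rw [Matrix.submatrix_apply, Matrix.neg_apply, Matrix.one_apply, if_neg, neg_zero, mul_zero]
    intro e
    apply hi
    rw [← show incl I b = i from e]
    exact b.2
  rw [Finset.sum_eq_zero (fun b _ => this b), sub_zero, Matrix.neg_apply, Matrix.one_apply]
  split_ifs <;> simp

lemma Sm_col_zero (i' j : Fin n) (hj : j ∈ I) : Sm G I i' j = 0 := by
  have h1 : (Cm G I).submatrix id (incl I) = MI G I := rfl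
  have h2 : (Sm G I).submatrix id (incl I) = 0 := by
    have : (Sm G I).submatrix id (incl I) =
        Rm G I - Rm G I * (MI G I)⁻¹ * (Cm G I).submatrix id (incl I) := by
      ext a b
      simp only [Sm, Matrix.submatrix_apply, Matrix.sub_apply, Matrix.mul_apply, Rm, id]
    rw [this, h1, Matrix.mul_assoc, Matrix.nonsing_inv_mul _ (isUnit_det_MI G I), Matrix.mul_one,
      sub_self]
  have := congrFun (congrFun h2 i') ⟨j, hj⟩
  exact this

lemma sum_compl (i' i : Fin n) (hi : i ∉ I) :
    ∑ j ∈ Finset.univ.filter (fun j => j ∉ I), Sm G I i' j * Wmat G j i =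
      if i' = i then -1 else 0 := by
  rw [← Sm_mul_W_apply G I i' i hi, Matrix.mul_apply,
    ← Finset.sum_filter_add_sum_filter_not Finset.univ (fun j => j ∉ I)
      (fun j => Sm G I i' j * Wmat G j i)]
  have : ∑ j ∈ Finset.univ.filter (fun j => ¬ j ∉ I), Sm G I i' j * Wmat G j i = 0 := by
    apply Finset.sum_eq_zero
    intro j hj
    rw [Finset.mem_filter, not_not] at hj
    rw [Sm_col_zero G I i' j hj.2, zero_mul]
  rw [this, add_zero]

theorem lNum_eq_rNum (σ : Equiv.Perm (Fin n)) : G.lNum I σ = ArLef.BlowupGraph.rNum I σ := by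
  unfold lNum rNum
  have h1 : ∀ i ∈ Finset.univ.filter (fun i => i ∉ I),
      ∑ j ∈ Finset.univ.filter (fun j => j ∉ I), (G.mult i j : ℚ) * G.pairing I (σ i) j =
        if σ i = i then -1 else 0 := by
    intro i hi
    rw [Finset.mem_filter] at hi
    rw [← sum_compl G I (σ i) i hi.2]
    refine Finset.sum_congr rfl (fun j _ => ?_)
    rw [pairing_eq, mul_comm]
    congr 1
    exact Wmat_symm G i j
  rw [Finset.sum_congr rfl h1, Finset.sum_ite, Finset.sum_const_zero, add_zero,
    Finset.sum_const, Finset.filter_filter]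
  simp

end Groth.Agent.H2.BlowupGraph
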