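import Mathlib.Algebra.BigOperators.Fin
import Mathlib.Algebra.BigOperators.Ring.Finset
import Mathlib.Data.Fintype.BigOperators
import Mathlib.Algebra.Ring.Int.Defs
import Mathlib.Tactic.Ring
import Mathlib.Tactic.Linarith
import Mathlib.Tactic.NormNum
import Mathlib.Algebra.Module.Basic
import Mathlib.Algebra.Module.BigOperators
import Mathlib.Algebra.BigOperators.GroupWithZero.Action

/-! # The Koszul differential in coordinates: signs, `D ∘ D = 0`, the contracting homotopy.

Functions `c : Finset (Fin N) → Λ` are the coordinate families of elements of the exterior algebra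
of `Λ^N`; `D ξ` is the contraction with the linear form `ξ`. -/

set_option autoImplicit false

namespace Groth.Agent.H2.Bott

variable {N : ℕ} {Λ : Type*} [CommRing Λ]

/-- the sign of inserting `l` into `S`: `(-1)` to the number of elements of `S` below `l`. -/
def sg (l : Fin N) (S : Finset (Fin N)) : ℤ := (-1) ^ (S.filter (· < l)).card

lemma sg_mul_self (l : Fin N) (S : Finset (Fin N)) : sg l S * sg l S = 1 := by
  unfold sg
  rw [← pow_add, ← two_mul, pow_mul]
  norm_num

lemma sg_insert {l m : Fin N} (S : Finset (Fin N)) (hm : m ∉ S) :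
    sg l (insert m S) = sg l S * (if m < l then -1 else 1) := by
  unfold sg
  rw [Finset.filter_insert]
  split_ifs with h
  · rw [Finset.card_insert_of_notMem (fun h' => hm (Finset.mem_filter.1 h').1), pow_succ]
  · rw [mul_one]

lemma sg_erase {l i : Fin N} (S : Finset (Fin N)) (hi : i ∈ S) :
    sg l S = sg l (S.erase i) * (if i < l then -1 else 1) := by
  conv_lhs => rw [← Finset.insert_erase hi]
  exact sg_insert _ (Finset.notMem_erase i S)

/-- the Koszul differential (contraction with `ξ`) in coordinates. -/
def D (ξ : Fin N → Λ) (c : Finset (Fin N) → Λ) (S : Finset (Fin N)) : Λ :=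
  ∑ l, if l ∈ S then 0 else sg l S • (ξ l * c (insert l S))

/-- the contracting homotopy attached to an inverse `u` of `ξ i`. -/
def H (i : Fin N) (u : Λ) (c : Finset (Fin N) → Λ) (S : Finset (Fin N)) : Λ :=
  if i ∈ S then sg i (S.erase i) • (u * c (S.erase i)) else 0

/-- a double sum of an antisymmetric family vanishes (in any characteristic). -/
lemma sum_antisymm (F : Fin N → Fin N → Λ) (h0 : ∀ m, F m m = 0)
    (h : ∀ m l, m < l → F l m = - F m l) : ∑ m, ∑ l, F m l = 0 := by
  have h1 : ∀ m l, F m l = (if m < l then F m l else 0) + (if l < m then F m l else 0) := by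
    intro m l
    rcases lt_trichotomy m l with hlt | heq | hgt
    · rw [if_pos hlt, if_neg (not_lt.2 hlt.le), add_zero]
    · subst heq
      rw [if_neg (lt_irrefl _), h0, add_zero]
    · rw [if_neg (not_lt.2 hgt.le), if_pos hgt, zero_add]
  calc ∑ m, ∑ l, F m l
      = ∑ m, ∑ l, ((if m < l then F m l else 0) + (if l < m then F m l else 0)) :=
        Finset.sum_congr rfl fun m _ => Finset.sum_congr rfl fun l _ => h1 m l
    _ = (∑ m, ∑ l, if m < l then F m l else 0) + ∑ m, ∑ l, if l < m then F m l else 0 := by
        simp only [Finset.sum_add_distrib]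
    _ = (∑ m, ∑ l, if m < l then F m l else 0) + ∑ l, ∑ m, if l < m then F m l else 0 := by
        congr 1
        exact Finset.sum_comm
    _ = (∑ m, ∑ l, if m < l then F m l else 0) + ∑ m, ∑ l, if m < l then - F m l else 0 := by
        congr 1
        refine Finset.sum_congr rfl fun m _ => Finset.sum_congr rfl fun l _ => ?_
        split_ifs with hml
        · exact h m l hml
        · rfl
    _ = 0 := by
        rw [← Finset.sum_add_distrib]
        refine Finset.sum_eq_zero fun m _ => ?_
        rw [← Finset.sum_add_distrib]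
        refine Finset.sum_eq_zero fun l _ => ?_
        split_ifs
        · exact add_neg_cancel _
        · exact add_zero _

/-- **`D ∘ D = 0`.** -/
theorem D_D (ξ : Fin N → Λ) (c : Finset (Fin N) → Λ) (S : Finset (Fin N)) :
    D ξ (D ξ c) S = 0 := by
  classical
  let F : Fin N → Fin N → Λ := fun m l =>
    if m ∈ S ∨ l ∈ S ∨ l = m then 0
    else (sg m S * sg l (insert m S)) • (ξ m * (ξ l * c (insert l (insert m S))))
  have h1 : ∀ m, (if m ∈ S then 0 else sg m S • (ξ m * D ξ c (insert m S))) = ∑ l, F m l := by
    intro m
    by_cases hm : m ∈ S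
    · rw [if_pos hm]
      symm
      refine Finset.sum_eq_zero fun l _ => ?_
      simp only [F]
      rw [if_pos (Or.inl hm)]
    · rw [if_neg hm]
      unfold D
      rw [Finset.mul_sum, Finset.smul_sum]
      refine Finset.sum_congr rfl fun l _ => ?_
      simp only [F]
      by_cases hl : l ∈ insert m S
      · rw [if_pos hl, mul_zero, smul_zero]
        rw [if_pos]
        rcases Finset.mem_insert.1 hl with h | h
        · exact Or.inr (Or.inr h)
        · exact Or.inr (Or.inl h)
      · rw [if_neg hl]
        have hl' : ¬ (m ∈ S ∨ l ∈ S ∨ l = m) := by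
          rintro (h | h | h)
          · exact hm h
          · exact hl (Finset.mem_insert_of_mem h)
          · exact hl (h ▸ Finset.mem_insert_self _ _)
        rw [if_neg hl', mul_smul_comm, smul_smul]
  have h2 : D ξ (D ξ c) S = ∑ m, if m ∈ S then 0 else sg m S • (ξ m * D ξ c (insert m S)) := rfl
  rw [h2]
  simp only [h1]
  apply sum_antisymm
  · intro m
    change (if m ∈ S ∨ m ∈ S ∨ m = m then (0 : Λ) else _) = 0
    rw [if_pos (Or.inr (Or.inr rfl))]
  · intro m l hml
    change (if l ∈ S ∨ m ∈ S ∨ m = l then (0 : Λ)
      else (sg l S * sg m (insert l S)) • (ξ l * (ξ m * c (insert m (insert l S))))) =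
      - (if m ∈ S ∨ l ∈ S ∨ l = m then (0 : Λ)
      else (sg m S * sg l (insert m S)) • (ξ m * (ξ l * c (insert l (insert m S)))))
    by_cases hc : m ∈ S ∨ l ∈ S ∨ l = m
    · have hc' : l ∈ S ∨ m ∈ S ∨ m = l := by
        rcases hc with h | h | h
        · exact Or.inr (Or.inl h)
        · exact Or.inl h
        · exact Or.inr (Or.inr h.symm)
      rw [if_pos hc, if_pos hc', neg_zero]
    · have hc' : ¬ (l ∈ S ∨ m ∈ S ∨ m = l) := by
        rintro (h | h | h)
        · exact hc (Or.inr (Or.inl h))
        · exact hc (Or.inl h)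
        · exact hc (Or.inr (Or.inr h.symm))
      rw [if_neg hc, if_neg hc']
      have hm : m ∉ S := fun h => hc (Or.inl h)
      have hl : l ∉ S := fun h => hc (Or.inr (Or.inl h))
      rw [sg_insert S hm, sg_insert S hl, if_pos hml, if_neg (not_lt.2 hml.le),
        Finset.insert_comm m l S]
      rw [← neg_smul]
      congr 1
      · ring
      · ring

lemma sg_cast_mul_self (l : Fin N) (S : Finset (Fin N)) :
    ((sg l S : ℤ) : Λ) * ((sg l S : ℤ) : Λ) = 1 := by
  rw [← Int.cast_mul, sg_mul_self, Int.cast_one]

/-- the homotopy identity on sets not containing `i`. -/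
theorem D_H_of_notMem (ξ : Fin N → Λ) (i : Fin N) (u : Λ) (hu : u * ξ i = 1)
    (c : Finset (Fin N) → Λ) (T : Finset (Fin N)) (hi : i ∉ T) :
    D ξ (H i u c) T = c T := by
  classical
  unfold D
  rw [Finset.sum_eq_single i]
  · rw [if_neg hi]
    unfold H
    rw [if_pos (Finset.mem_insert_self i T), Finset.erase_insert hi]
    rw [zsmul_eq_mul, zsmul_eq_mul]
    calc ((sg i T : ℤ) : Λ) * (ξ i * (((sg i T : ℤ) : Λ) * (u * c T)))
        = (((sg i T : ℤ) : Λ) * ((sg i T : ℤ) : Λ)) * (u * ξ i) * c T := by ring
      _ = c T := by rw [sg_cast_mul_self, hu, one_mul, one_mul]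
  · intro l _ hl
    split_ifs with h
    · rfl
    · unfold H
      rw [if_neg, mul_zero, smul_zero]
      intro h'
      rcases Finset.mem_insert.1 h' with h'' | h''
      · exact hl h''.symm
      · exact hi h''
  · intro h
    exact absurd (Finset.mem_univ i) h

/-- **the homotopy identity `D H + H D = 1`.** -/
theorem D_H_add_H_D (ξ : Fin N → Λ) (i : Fin N) (u : Λ) (hu : u * ξ i = 1)
    (c : Finset (Fin N) → Λ) (T : Finset (Fin N)) :
    D ξ (H i u c) T + H i u (D ξ c) T = c T := by
  classical
  by_cases hi : i ∈ T
  · have hT : insert i (T.erase i) = T := Finset.insert_erase hi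
    have key : ∀ l, (if l ∈ T then 0 else sg l T • (ξ l * H i u c (insert l T))) +
        sg i (T.erase i) • (u * (if l ∈ T.erase i then 0
          else sg l (T.erase i) • (ξ l * c (insert l (T.erase i))))) =
        if l = i then c T else 0 := by
      intro l
      by_cases hli : l = i
      · subst hli
        rw [if_pos hi, if_neg (Finset.notMem_erase l T), if_pos rfl, hT, zero_add,
          zsmul_eq_mul, zsmul_eq_mul]
        calc ((sg l (T.erase l) : ℤ) : Λ) * (u * (((sg l (T.erase l) : ℤ) : Λ) * (ξ l * c T)))
            = (((sg l (T.erase l) : ℤ) : Λ) * ((sg l (T.erase l) : ℤ) : Λ)) * (u * ξ l) * c T := by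
              ring
          _ = c T := by rw [sg_cast_mul_self, hu, one_mul, one_mul]
      · rw [if_neg hli]
        by_cases hlT : l ∈ T
        · rw [if_pos hlT, if_pos (Finset.mem_erase.2 ⟨hli, hlT⟩), mul_zero, smul_zero, add_zero]
        · have hlT0 : l ∉ T.erase i := fun h => hlT (Finset.mem_of_mem_erase h)
          rw [if_neg hlT, if_neg hlT0]
          unfold H
          have h1 : (insert l T).erase i = insert l (T.erase i) :=
            Finset.erase_insert_of_ne (fun h => hli h)
          rw [if_pos (Finset.mem_insert_of_mem hi), h1, sg_erase T hi (l := l),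
            sg_insert (T.erase i) hlT0 (l := i)]
          simp only [zsmul_eq_mul, Int.cast_mul]
          rcases lt_trichotomy i l with h | h | h
          · rw [if_pos h, if_neg (not_lt.2 h.le)]
            push_cast
            ring
          · exact absurd h.symm hli
          · rw [if_neg (not_lt.2 h.le), if_pos h]
            push_cast
            ring
    have h2 : H i u (D ξ c) T = sg i (T.erase i) • (u * D ξ c (T.erase i)) := by
      unfold H
      rw [if_pos hi]
    rw [h2]
    unfold D
    rw [Finset.mul_sum, Finset.smul_sum, ← Finset.sum_add_distrib]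
    simp only [key]
    rw [Finset.sum_ite_eq' Finset.univ i]
    rw [if_pos (Finset.mem_univ i)]
  · rw [D_H_of_notMem ξ i u hu c T hi]
    unfold H
    rw [if_neg hi, add_zero]

end Groth.Agent.H2.Bott
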