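import Groth.Agent.Lib.Helper2.BottA
import Mathlib.LinearAlgebra.Matrix.Determinant.Basic
import Mathlib.Data.Finset.Sort
import Mathlib.Order.Interval.Finset.Fin
import Mathlib.Data.Fin.SuccPred
import Mathlib.Order.Fin.Basic

/-! # Minors of a matrix and the Koszul differential. -/

set_option autoImplicit false

namespace Groth.Agent.H2.Bott

variable {N : ℕ} {Λ : Type*} [CommRing Λ]

/-- for a downward closed predicate on `Fin q`, `P j ↔ j < #P`. -/
lemma lt_card_filter_iff {q : ℕ} (P : Fin q → Prop) [DecidablePred P]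
    (hP : ∀ j j', j' ≤ j → P j → P j') (j : Fin q) :
    P j ↔ j.val < (Finset.univ.filter P).card := by
  constructor
  · intro hj
    have h1 : Finset.Iic j ⊆ Finset.univ.filter P := fun j' hj' =>
      Finset.mem_filter.2 ⟨Finset.mem_univ _, hP j j' (Finset.mem_Iic.1 hj') hj⟩
    have h2 := Finset.card_le_card h1
    rw [Fin.card_Iic] at h2
    omega
  · intro hj
    by_contra hPj
    have h1 : Finset.univ.filter P ⊆ Finset.Iio j := fun j' hj' => by
      rw [Finset.mem_Iio]
      by_contra hle
      exact hPj (hP j' j (not_lt.1 hle) (Finset.mem_filter.1 hj').2)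
    have h2 := Finset.card_le_card h1
    rw [Fin.card_Iio] at h2
    omega

lemma orderEmbOfFin_lt_iff {q : ℕ} (S : Finset (Fin N)) (hS : S.card = q) (l : Fin N)
    (j : Fin q) :
    S.orderEmbOfFin hS j < l ↔ j.val < (S.filter (· < l)).card := by
  classical
  have h1 := lt_card_filter_iff (fun j => S.orderEmbOfFin hS j < l)
    (fun j j' hjj' hj => lt_of_le_of_lt ((S.orderEmbOfFin hS).monotone hjj') hj) j
  have h2 : (Finset.univ.filter (fun j => S.orderEmbOfFin hS j < l)).card =
      (S.filter (· < l)).card := by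
    rw [← Finset.card_map (S.orderEmbOfFin hS).toEmbedding]
    congr 1
    ext x
    simp only [Finset.mem_map, Finset.mem_filter, Finset.mem_univ, true_and]
    constructor
    · rintro ⟨j, hj, rfl⟩
      exact ⟨Finset.orderEmbOfFin_mem S hS j, hj⟩
    · rintro ⟨hx, hxl⟩
      have h3 : x ∈ Set.range (S.orderEmbOfFin hS) := by
        rw [Finset.range_orderEmbOfFin]
        exact hx
      obtain ⟨j, rfl⟩ := h3
      exact ⟨j, hxl, rfl⟩
  rw [← h2]
  exact h1

/-- the increasing enumeration of `insert l S`. -/
lemma orderEmbOfFin_insert {q : ℕ} (S : Finset (Fin N)) (hS : S.card = q) (l : Fin N)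
    (hl : l ∉ S) (hS' : (insert l S).card = q + 1) :
    ∃ k : Fin (q + 1), k.val = (S.filter (· < l)).card ∧
      ((insert l S).orderEmbOfFin hS' : Fin (q + 1) → Fin N) =
        Fin.insertNth k l (S.orderEmbOfFin hS : Fin q → Fin N) := by
  classical
  have hk : (S.filter (· < l)).card < q + 1 := by
    have := Finset.card_filter_le S (· < l)
    omega
  refine ⟨⟨_, hk⟩, rfl, (Finset.orderEmbOfFin_unique hS' ?_ ?_).symm⟩
  · intro x
    refine Fin.succAboveCases ⟨_, hk⟩ ?_ ?_ x
    · rw [Fin.insertNth_apply_same]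
      exact Finset.mem_insert_self _ _
    · intro j
      rw [Fin.insertNth_apply_succAbove]
      exact Finset.mem_insert_of_mem (Finset.orderEmbOfFin_mem S hS j)
  · intro a b hab
    revert hab
    refine Fin.succAboveCases ⟨_, hk⟩ ?_ ?_ a
    · refine Fin.succAboveCases ⟨_, hk⟩ ?_ ?_ b
      · intro h
        exact absurd h (lt_irrefl _)
      · intro j h
        rw [Fin.insertNth_apply_same, Fin.insertNth_apply_succAbove]
        rw [Fin.lt_succAbove_iff_le_castSucc] at h
        have h1 : ¬ (S.orderEmbOfFin hS j < l) := by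
          rw [orderEmbOfFin_lt_iff]
          have : (S.filter (· < l)).card ≤ j.val := h
          omega
        have h2 : S.orderEmbOfFin hS j ≠ l := fun h' =>
          hl (h' ▸ Finset.orderEmbOfFin_mem S hS j)
        exact lt_of_le_of_ne (not_lt.1 h1) (Ne.symm h2)
    · intro j
      refine Fin.succAboveCases ⟨_, hk⟩ ?_ ?_ b
      · intro h
        rw [Fin.insertNth_apply_same, Fin.insertNth_apply_succAbove]
        rw [Fin.succAbove_lt_iff_castSucc_lt] at h
        rw [orderEmbOfFin_lt_iff]
        exact h
      · intro j' h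
        rw [Fin.insertNth_apply_succAbove, Fin.insertNth_apply_succAbove]
        rw [Fin.succAbove_lt_succAbove_iff] at h
        exact (S.orderEmbOfFin hS).strictMono h

/-- the coordinate family of `v_1 ∧ ⋯ ∧ v_p`: the maximal minors of the matrix `M`. -/
noncomputable def minors {p : ℕ} (M : Matrix (Fin N) (Fin p) Λ) (S : Finset (Fin N)) : Λ :=
  if h : S.card = p then (M.submatrix (S.orderEmbOfFin h) id).det else 0

lemma minors_of_card {p : ℕ} (M : Matrix (Fin N) (Fin p) Λ) (S : Finset (Fin N))
    (h : S.card = p) : minors M S = (M.submatrix (S.orderEmbOfFin h) id).det := by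
  unfold minors
  rw [dif_pos h]

/-- **the Koszul differential kills `v_1 ∧ ⋯ ∧ v_p` when `ξ` kills all the `v_b`.** -/
theorem D_minors {q : ℕ} (ξ : Fin N → Λ) (M : Matrix (Fin N) (Fin (q + 1)) Λ)
    (hξ : ∀ b, ∑ l, ξ l * M l b = 0) (S : Finset (Fin N)) (hS : S.card = q) :
    D ξ (minors M) S = 0 := by
  classical
  set f' : Fin q → Fin N := ⇑(S.orderEmbOfFin hS) with hf'
  set Dj : Fin (q + 1) → Λ := fun j => (M.submatrix f' j.succAbove).det with hDj
  have key : ∀ l, (if l ∈ S then 0 else sg l S • (ξ l * minors M (insert l S))) =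
      ξ l * ∑ j : Fin (q + 1), (-1) ^ (j : ℕ) * M l j * Dj j := by
    intro l
    by_cases hl : l ∈ S
    · rw [if_pos hl]
      have h1 : (M.submatrix (Fin.cons l f' : Fin (q + 1) → Fin N) id).det = 0 := by
        have h3 : l ∈ Set.range (S.orderEmbOfFin hS) := by
          rw [Finset.range_orderEmbOfFin]
          exact hl
        obtain ⟨a, ha⟩ := h3
        apply Matrix.det_zero_of_row_eq (i := 0) (j := a.succ) (Fin.succ_ne_zero a).symm
        funext b
        simp only [Matrix.submatrix_apply, Fin.cons_zero, Fin.cons_succ, id]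
        rw [hf', ha]
      rw [Matrix.det_succ_row_zero] at h1
      have h2 : ∀ j : Fin (q + 1),
          (-1 : Λ) ^ (j : ℕ) * (M.submatrix (Fin.cons l f' : Fin (q + 1) → Fin N) id) 0 j *
            ((M.submatrix (Fin.cons l f' : Fin (q + 1) → Fin N) id).submatrix Fin.succ
              j.succAbove).det = (-1) ^ (j : ℕ) * M l j * Dj j := by
        intro j
        rfl
      simp only [h2] at h1
      rw [h1, mul_zero]
    · rw [if_neg hl]
      have hS' : (insert l S).card = q + 1 := by
        rw [Finset.card_insert_of_notMem hl, hS]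
      obtain ⟨k, hk, hins⟩ := orderEmbOfFin_insert S hS l hl hS'
      rw [minors_of_card M _ hS', hins, Matrix.det_succ_row _ k, ← hf']
      have h2 : ∀ j : Fin (q + 1),
          (-1 : Λ) ^ ((k : ℕ) + (j : ℕ)) *
            (M.submatrix (Fin.insertNth k l f' : Fin (q + 1) → Fin N) id) k j *
            ((M.submatrix (Fin.insertNth k l f' : Fin (q + 1) → Fin N) id).submatrix k.succAbove
              j.succAbove).det = (-1) ^ (k : ℕ) * ((-1) ^ (j : ℕ) * M l j * Dj j) := by
        intro j
        have h3 : (M.submatrix (Fin.insertNth k l f' : Fin (q + 1) → Fin N) id) k j = M l j := by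
          simp only [Matrix.submatrix_apply, id]
          rw [Fin.insertNth_apply_same]
        have h4 : ((M.submatrix (Fin.insertNth k l f' : Fin (q + 1) → Fin N) id).submatrix
            k.succAbove j.succAbove) = M.submatrix f' j.succAbove := by
          ext a b
          simp only [Matrix.submatrix_apply, id]
          rw [Fin.insertNth_apply_succAbove]
        rw [h3, h4, pow_add]
        ring
      simp only [h2]
      rw [← Finset.mul_sum]
      have h5 : sg l S = (-1) ^ (k : ℕ) := by
        unfold sg
        rw [hk]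
      rw [h5, zsmul_eq_mul]
      push_cast
      have h6 : ((-1 : Λ) ^ (k : ℕ)) * ((-1) ^ (k : ℕ)) = 1 := by
        rw [← pow_add, ← two_mul, pow_mul]
        norm_num
      calc (-1 : Λ) ^ (k : ℕ) * (ξ l * ((-1) ^ (k : ℕ) *
            ∑ j : Fin (q + 1), (-1) ^ (j : ℕ) * M l j * Dj j))
          = ((-1 : Λ) ^ (k : ℕ) * (-1) ^ (k : ℕ)) *
            (ξ l * ∑ j : Fin (q + 1), (-1) ^ (j : ℕ) * M l j * Dj j) := by ring
        _ = ξ l * ∑ j : Fin (q + 1), (-1) ^ (j : ℕ) * M l j * Dj j := by rw [h6, one_mul]
  unfold D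
  simp only [key]
  simp only [Finset.mul_sum]
  rw [Finset.sum_comm]
  refine Finset.sum_eq_zero fun j _ => ?_
  have h7 : ∀ l, ξ l * ((-1) ^ (j : ℕ) * M l j * Dj j) = ((-1) ^ (j : ℕ) * Dj j) * (ξ l * M l j) := by
    intro l
    ring
  simp only [h7]
  rw [← Finset.mul_sum, hξ j, mul_zero]

lemma minors_of_card_ne {p : ℕ} (M : Matrix (Fin N) (Fin p) Λ) (S : Finset (Fin N))
    (h : S.card ≠ p) : minors M S = 0 := by
  unfold minors
  rw [dif_neg h]

omit [CommRing Λ] in
lemma submatrix_updateCol {p q : ℕ} (M : Matrix (Fin N) (Fin p) Λ) (b : Fin p) (c : Fin N → Λ)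
    (f : Fin q → Fin N) :
    (M.updateCol b c).submatrix f id = (M.submatrix f id).updateCol b (c ∘ f) := by
  ext a b'
  simp only [Matrix.submatrix_apply, id, Matrix.updateCol_apply, Function.comp]

/-- the minors are additive in each column. -/
lemma minors_updateCol_add {p : ℕ} (M : Matrix (Fin N) (Fin p) Λ) (b : Fin p)
    (c c' : Fin N → Λ) (S : Finset (Fin N)) :
    minors (M.updateCol b (c + c')) S =
      minors (M.updateCol b c) S + minors (M.updateCol b c') S := by
  by_cases h : S.card = p
  · rw [minors_of_card _ _ h, minors_of_card _ _ h, minors_of_card _ _ h, submatrix_updateCol,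
      submatrix_updateCol, submatrix_updateCol]
    exact Matrix.det_updateCol_add _ _ _ _
  · rw [minors_of_card_ne _ _ h, minors_of_card_ne _ _ h, minors_of_card_ne _ _ h, add_zero]

/-- the minors are homogeneous in each column. -/
lemma minors_updateCol_smul {p : ℕ} (M : Matrix (Fin N) (Fin p) Λ) (b : Fin p) (r : Λ)
    (c : Fin N → Λ) (S : Finset (Fin N)) :
    minors (M.updateCol b (r • c)) S = r * minors (M.updateCol b c) S := by
  by_cases h : S.card = p
  · rw [minors_of_card _ _ h, minors_of_card _ _ h, submatrix_updateCol, submatrix_updateCol]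
    exact Matrix.det_updateCol_smul _ _ _ _
  · rw [minors_of_card_ne _ _ h, minors_of_card_ne _ _ h, mul_zero]

/-- the minors vanish when two columns are equal. -/
lemma minors_eq_zero_of_col_eq {p : ℕ} (M : Matrix (Fin N) (Fin p) Λ) {b b' : Fin p}
    (hbb' : b ≠ b') (h : ∀ l, M l b = M l b') (S : Finset (Fin N)) : minors M S = 0 := by
  by_cases hS : S.card = p
  · rw [minors_of_card _ _ hS]
    exact Matrix.det_zero_of_column_eq hbb' (fun a => h _)
  · exact minors_of_card_ne _ _ hS

end Groth.Agent.H2.Bott
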