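import Groth.Agent.Lib.Helper2.EulerEnd3

/-! # Morphisms from a twisting sheaf to the sheaf of differentials of projective space. -/

set_option autoImplicit false
universe u
open CategoryTheory CategoryTheory.Limits AlgebraicGeometry TopologicalSpace Opposite

namespace Groth.Agent.H2.Euler

open Twist Groth.Agent.LD.TW Groth.Agent.LD.PT Groth.Agent.LD.PN Groth.Agent.H3.Om
open Groth.Agent.LD.QC Abelian

attribute [local instance] Abelian.hasFiniteBiproducts

variable {n : ℕ} {R : Type u} [CommRing R]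

/-- a nowhere vanishing section of `O(d)` on a standard chart. -/
lemma exists_unit_sec' (i : Fin (n + 1)) (d : ℤ) :
    ∃ t : Γ(twist (CohB1.polyGrading n R) d, U n R i), ∀ x : U n R i, IsUnit (secVal t x) := by
  obtain ⟨u, v, hv⟩ := exists_isUnitSec_one (𝒜 := CohB1.polyGrading n R) (MvPolynomial.X i)
    (X_mem i) d (V := U n R i) (le_refl _)
  exact ⟨u, fun x => IsUnit.of_mul_eq_one _ (hv x)⟩

lemma xi_eq_mk (x : ProjectiveSpectrum (CohB1.polyGrading n R)) (l : Fin (n + 1)) :
    xi x l = Localization.mk (MvPolynomial.X l) 1 := by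
  unfold xi
  rw [Localization.mk_one_eq_algebraMap]

lemma mk_one_mul_mk_one (x : ProjectiveSpectrum (CohB1.polyGrading n R))
    (a b : MvPolynomial (Fin (n+1)) R) :
    (Localization.mk (a * b) 1 : Loc (CohB1.polyGrading n R) x) =
      Localization.mk a 1 * Localization.mk b 1 := by
  rw [Localization.mk_mul, one_mul]

lemma mk_one_sum (x : ProjectiveSpectrum (CohB1.polyGrading n R)) {ι : Type*} (S : Finset ι)
    (a : ι → MvPolynomial (Fin (n+1)) R) :
    (Localization.mk (∑ l ∈ S, a l) 1 : Loc (CohB1.polyGrading n R) x) =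
      ∑ l ∈ S, Localization.mk (a l) 1 := by
  simp only [Localization.mk_one_eq_algebraMap]
  exact map_sum _ _ _

/-- the zero morphism is the multiplication by zero. -/
lemma isMulBy_zero {d d' : ℤ} :
    IsMulBy (0 : twist (CohB1.polyGrading n R) d ⟶ twist (CohB1.polyGrading n R) d') 0 := by
  intro W t y
  rw [Localization.mk_zero, zero_mul]
  rfl

/-- a morphism which is the multiplication by zero is zero. -/
lemma eq_zero_of_isMulBy_zero {d d' : ℤ}
    {φ : twist (CohB1.polyGrading n R) d ⟶ twist (CohB1.polyGrading n R) d'}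
    (h : IsMulBy φ 0) : φ = 0 :=
  h.ext isMulBy_zero

/-- **morphisms `O(a) ⟶ Ω` are given by tuples of forms `L` with `∑ X_l L_l = 0`.** -/
theorem exists_forms_of_hom (a : ℤ) (b : ℕ) (hab : (-1 : ℤ) = b + a)
    (g : twist (CohB1.polyGrading n R) a ⟶ Omega.sheaf (pS n R)) :
    ∃ L : Fin (n + 1) → MvPolynomial (Fin (n+1)) R, (∀ l, L l ∈ CohB1.polyGrading n R b) ∧
      (∀ l, IsMulBy (g ≫ iota n R l) (L l)) ∧ ∑ l, MvPolynomial.X l * L l = 0 := by
  have hex : ∀ l : Fin (n + 1), ∃ f : MvPolynomial (Fin (n+1)) R, f ∈ CohB1.polyGrading n R b ∧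
      IsMulBy (g ≫ iota n R l) f := fun l => exists_isMulBy' n R b hab _
  choose L hL hmul using hex
  refine ⟨L, hL, hmul, ?_⟩
  have hmem : ∑ l, MvPolynomial.X l * L l ∈ CohB1.polyGrading n R (1 + b) :=
    sum_mem fun l _ => SetLike.mul_mem_graded (X_mem (R := R) l) (hL l)
  apply eq_zero_of_forall_loc hmem 0
  intro x
  obtain ⟨t, ht⟩ := exists_unit_sec' (n := n) (R := R) 0 a
  have h1 := euler_relation (U n R 0) (g.app (U n R 0) t) x
  have h2 : ∀ j, secVal ((iota n R j).app (U n R 0) (g.app (U n R 0) t)) x =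
      Localization.mk (L j) 1 * secVal t x := by
    intro j
    have h3 := hmul j (U n R 0) t x
    rw [comp_app'] at h3
    exact h3
  simp only [h2] at h1
  apply (ht x).mul_left_injective
  change Localization.mk (∑ l, MvPolynomial.X l * L l) 1 * secVal t x = 0 * secVal t x
  rw [zero_mul, ← h1, mk_one_sum, Finset.sum_mul]
  refine Finset.sum_congr rfl fun l _ => ?_
  rw [mk_one_mul_mk_one, xi_eq_mk]
  ring

/-- a morphism to `Ω` is determined by its forms. -/
theorem hom_omega_ext {a : ℤ} {g g' : twist (CohB1.polyGrading n R) a ⟶ Omega.sheaf (pS n R)}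
    {L : Fin (n + 1) → MvPolynomial (Fin (n+1)) R}
    (h : ∀ l, IsMulBy (g ≫ iota n R l) (L l)) (h' : ∀ l, IsMulBy (g' ≫ iota n R l) (L l)) :
    g = g' := by
  rw [← cancel_mono (eulerι n R)]
  apply biproduct.hom_ext
  intro l
  rw [Category.assoc, Category.assoc, eulerι_π]
  exact (h l).ext (h' l)

/-- **every tuple of forms with `∑ X_l L_l = 0` comes from a morphism `O(a) ⟶ Ω`.** -/
theorem exists_hom_of_forms (a : ℤ) (b : ℕ) (hab : (-1 : ℤ) = b + a)
    (L : Fin (n + 1) → MvPolynomial (Fin (n+1)) R) (hL : ∀ l, L l ∈ CohB1.polyGrading n R b)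
    (hrel : ∑ l, MvPolynomial.X l * L l = 0) :
    ∃ g : twist (CohB1.polyGrading n R) a ⟶ Omega.sheaf (pS n R),
      ∀ l, IsMulBy (g ≫ iota n R l) (L l) := by
  have hex : ∀ l : Fin (n + 1), ∃ φ : twist (CohB1.polyGrading n R) a ⟶
      twist (CohB1.polyGrading n R) (-1), IsMulBy φ (L l) :=
    fun l => exists_hom_isMulBy' n R b hab (L l) (hL l)
  choose m hm using hex
  set v : twist (CohB1.polyGrading n R) a ⟶ eulerV n R := biproduct.lift m with hv
  have hvE : v ≫ eulerE n R = 0 := by
    apply hom_ext_of_val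
    intro W t y
    rw [comp_app', secVal_eulerE]
    have h1 : ∀ l, (biproduct.π (fun _ : Fin (n + 1) => twist (CohB1.polyGrading n R) (-1)) l).app W
        (v.app W t) = (m l).app W t := by
      intro l
      have h2 := congrArg (fun φ : twist (CohB1.polyGrading n R) a ⟶
        twist (CohB1.polyGrading n R) (-1) => φ.app W t)
        (biproduct.lift_π m l)
      simp only at h2
      rw [comp_app'] at h2
      exact h2
    simp only [h1]
    have h3 : ∀ l, xi y.1 l * secVal ((m l).app W t) y =
        Localization.mk (MvPolynomial.X l * L l) 1 * secVal t y := by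
      intro l
      rw [hm l W t y, mk_one_mul_mk_one, xi_eq_mk]
      ring
    simp only [h3]
    rw [← Finset.sum_mul]
    have h4 : ∑ l, (Localization.mk (MvPolynomial.X l * L l) 1 : Loc (CohB1.polyGrading n R) y.1) =
        0 := by
      rw [← mk_one_sum, hrel, Localization.mk_zero]
    rw [h4, zero_mul]
    rfl
  refine ⟨kernel.lift (eulerE n R) v hvE ≫ inv (eulerLift n R), fun l => ?_⟩
  have h5 : (kernel.lift (eulerE n R) v hvE ≫ inv (eulerLift n R)) ≫ iota n R l = m l := by
    rw [← eulerι_π, ← eulerLift_ι]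
    simp only [Category.assoc, IsIso.inv_hom_id_assoc, kernel.lift_ι_assoc]
    exact biproduct.lift_π m l
  rw [h5]
  exact hm l

/-- there is no nonzero morphism `O(-1) ⟶ Ω`. -/
theorem hom_neg_one_omega_eq_zero
    (g : twist (CohB1.polyGrading n R) (-1) ⟶ Omega.sheaf (pS n R)) : g = 0 := by
  obtain ⟨L, hL, hmul, hrel⟩ := exists_forms_of_hom (-1) 0 (by norm_num) g
  have hL0 : ∀ l, L l = 0 := by
    intro l
    have h1 : ∀ j, L j = MvPolynomial.C (MvPolynomial.coeff 0 (L j)) :=
      fun j => eq_C_of_mem_zero (hL j)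
    have h2 : ∑ j : Fin (n + 1), (MvPolynomial.X j : MvPolynomial (Fin (n+1)) R) *
        MvPolynomial.C (MvPolynomial.coeff 0 (L j)) = 0 := by
      rw [← hrel]
      exact Finset.sum_congr rfl fun j _ => by rw [← h1 j]
    have h3 := coeff_single_sum_X_mul_C (fun j => MvPolynomial.coeff 0 (L j)) l
    rw [h2, MvPolynomial.coeff_zero] at h3
    rw [h1 l, ← h3, map_zero]
  apply hom_omega_ext (L := fun _ => 0) (g := g) (g' := 0)
  · intro l
    have := hmul l
    rw [hL0 l] at this
    exact this
  · intro l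
    rw [zero_comp]
    exact isMulBy_zero

end Groth.Agent.H2.Euler
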