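import Groth.Agent.Lib.Helper2.BottB
import Groth.Agent.Lib.Helper2.EulerPbD
import Groth.Agent.Lib.Helper2.EulerTwA
import Groth.Agent.Lib.Lead.PN.Dual2
import Mathlib.Data.Set.PowersetCard

/-! # The Koszul complex `K_p = O(-p)^{binom(n+1,p)}` on `P^n_R`, in coordinates. -/

set_option autoImplicit false
set_option linter.style.haveILetI false
universe u
open CategoryTheory CategoryTheory.Limits AlgebraicGeometry TopologicalSpace Opposite

namespace Groth.Agent.H2.Bott

open Twist Groth.Agent.LD.TW Groth.Agent.LD.PT Groth.Agent.LD.PN Groth.Agent.H3.Om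
open Groth.Agent.LD.QC Groth.Agent.LD.Ann Abelian Groth.Agent.H2.Euler

attribute [local instance] Abelian.hasFiniteBiproducts

section general
variable {X : Scheme.{u}}

lemma zsmul_app' {M N : X.Modules} (k : ℤ) (φ : M ⟶ N) (U : X.Opens) (x : Γ(M, U)) :
    (k • φ).app U x = k • φ.app U x := by
  induction k using Int.induction_on with
  | zero => rw [zero_smul, zero_smul]; rfl
  | succ k ih => rw [add_smul, add_smul, one_smul, one_smul, add_app', ih]
  | pred k ih =>
    rw [sub_smul, sub_smul, one_smul, one_smul, sub_eq_add_neg, add_app', neg_app', ih,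
      sub_eq_add_neg]

end general

variable (n : ℕ) (R : Type u) [CommRing R]

/-- the index set of the `p`-th Koszul term: subsets of `{0, …, n}` with `p` elements. -/
abbrev Idx (p : ℕ) : Type := Set.powersetCard (Fin (n + 1)) p

/-- the twisting sheaf `O(-p)`. -/
noncomputable abbrev T (p : ℕ) : (Proj (CohB1.polyGrading n R)).Modules :=
  twist (CohB1.polyGrading n R) (-(p : ℤ))

/-- multiplication by `X_l : O(-p-1) ⟶ O(-p)`. -/
noncomputable def mXp (l : Fin (n + 1)) (p : ℕ) : T n R (p + 1) ⟶ T n R p :=
  (exists_hom_isMulBy' (n := n) (R := R) (d := -((p + 1 : ℕ) : ℤ)) (d' := -(p : ℤ)) 1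
    (by push_cast; ring) (MvPolynomial.X l) (X_mem l)).choose

lemma isMulBy_mXp (l : Fin (n + 1)) (p : ℕ) : IsMulBy (mXp n R l p) (MvPolynomial.X l) :=
  (exists_hom_isMulBy' (n := n) (R := R) (d := -((p + 1 : ℕ) : ℤ)) (d' := -(p : ℤ)) 1
    (by push_cast; ring) (MvPolynomial.X l) (X_mem l)).choose_spec

variable {n R} in
lemma secVal_mXp (l : Fin (n + 1)) (p : ℕ) (W : (Proj (CohB1.polyGrading n R)).Opens)
    (s : Γ(T n R (p + 1), W)) (x : W) :
    secVal ((mXp n R l p).app W s) x = xi x.1 l * secVal s x := by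
  rw [isMulBy_mXp n R l p W s x, xi_eq_mk]

/-- the `p`-th term of the Koszul complex. -/
noncomputable abbrev K (p : ℕ) : (Proj (CohB1.polyGrading n R)).Modules :=
  ⨁ fun _ : Idx n p => T n R p

variable {n R}

/-- the coordinates of a section of `K_p` at a point. -/
noncomputable def coord {p : ℕ} {W : (Proj (CohB1.polyGrading n R)).Opens}
    (s : Γ(K n R p, W)) (x : W) (S : Finset (Fin (n + 1))) :
    Loc (CohB1.polyGrading n R) x.1 :=
  if h : S.card = p then
    secVal ((biproduct.π (fun _ : Idx n p => T n R p) (Set.powersetCard.ofCard h)).app W s) x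
  else 0

lemma coord_of_card {p : ℕ} {W : (Proj (CohB1.polyGrading n R)).Opens}
    (s : Γ(K n R p, W)) (x : W) (S : Idx n p) :
    coord s x S.1 = secVal ((biproduct.π (fun _ : Idx n p => T n R p) S).app W s) x := by
  unfold coord
  rw [dif_pos (Set.powersetCard.card_eq S)]
  rfl

lemma coord_of_card_ne {p : ℕ} {W : (Proj (CohB1.polyGrading n R)).Opens}
    (s : Γ(K n R p, W)) (x : W) (S : Finset (Fin (n + 1))) (h : S.card ≠ p) :
    coord s x S = 0 := by
  unfold coord
  rw [dif_neg h]

lemma coord_ext {p : ℕ} {W : (Proj (CohB1.polyGrading n R)).Opens} {s s' : Γ(K n R p, W)}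
    (h : ∀ (x : W) (S : Idx n p), coord s x S.1 = coord s' x S.1) : s = s' := by
  apply biproduct_section_ext (fun _ : Idx n p => T n R p) W
  intro S
  apply secVal_ext
  intro x
  rw [← coord_of_card, ← coord_of_card]
  exact h x S

lemma coord_zero {p : ℕ} {W : (Proj (CohB1.polyGrading n R)).Opens} (x : W)
    (S : Finset (Fin (n + 1))) : coord (0 : Γ(K n R p, W)) x S = 0 := by
  unfold coord
  split_ifs with h
  · have h0 : (biproduct.π (fun _ : Idx n p => T n R p) (Set.powersetCard.ofCard h)).app W
        (0 : Γ(K n R p, W)) = 0 := map_zero _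
    rw [h0]
    rfl
  · rfl

variable (n R)

/-- the components of the Koszul differential. -/
noncomputable def dComp (p : ℕ) (S' : Idx n p) (l : Fin (n + 1)) : K n R (p + 1) ⟶ T n R p :=
  if h : l ∈ S'.1 then 0
  else sg l S'.1 • (biproduct.π (fun _ : Idx n (p + 1) => T n R (p + 1))
    (Set.powersetCard.ofCard (s := insert l S'.1)
      (by rw [Finset.card_insert_of_notMem h, Set.powersetCard.card_eq S'])) ≫ mXp n R l p)

/-- the Koszul differential `K_{p+1} ⟶ K_p`. -/
noncomputable def d (p : ℕ) : K n R (p + 1) ⟶ K n R p :=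
  biproduct.lift fun S' => ∑ l, dComp n R p S' l

variable {n R}

/-- **the Koszul differential in coordinates.** -/
theorem coord_d {p : ℕ} {W : (Proj (CohB1.polyGrading n R)).Opens} (s : Γ(K n R (p + 1), W))
    (x : W) : coord ((d n R p).app W s) x = D (fun l => xi x.1 l) (coord s x) := by
  funext S'
  by_cases h : S'.card = p
  · obtain ⟨S', rfl⟩ : ∃ S'' : Idx n p, S''.1 = S' := ⟨Set.powersetCard.ofCard h, rfl⟩
    rw [coord_of_card]
    have h1 : (biproduct.π (fun _ : Idx n p => T n R p) S').app W ((d n R p).app W s) =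
        ∑ l, (dComp n R p S' l).app W s := by
      rw [← comp_app', ← sum_app']
      unfold d
      rw [biproduct.lift_π]
    rw [h1, secVal_sum]
    unfold D
    refine Finset.sum_congr rfl fun l _ => ?_
    unfold dComp
    by_cases hl : l ∈ S'.1
    · rw [dif_pos hl, if_pos hl, zero_app']
      rfl
    · rw [dif_neg hl, if_neg hl, zsmul_app', comp_app']
      have h2 := map_zsmul (secValHom (n := n) (R := R) (k := -(p : ℤ)) x) (sg l S'.1)
        ((mXp n R l p).app W ((biproduct.π (fun _ : Idx n (p + 1) => T n R (p + 1))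
          (Set.powersetCard.ofCard (s := insert l S'.1)
            (by rw [Finset.card_insert_of_notMem hl, Set.powersetCard.card_eq S']))).app W s))
      refine h2.trans ?_
      congr 1
      refine (secVal_mXp l p W _ x).trans ?_
      congr 1
      unfold coord
      rw [dif_pos (by rw [Finset.card_insert_of_notMem hl, Set.powersetCard.card_eq S'])]
  · rw [coord_of_card_ne _ _ _ h]
    unfold D
    symm
    refine Finset.sum_eq_zero fun l _ => ?_
    split_ifs with hl
    · rfl
    · rw [coord_of_card_ne, mul_zero, zsmul_zero]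
      rw [Finset.card_insert_of_notMem hl]
      omega

variable (n R)

/-- **`d ∘ d = 0`.** -/
theorem d_comp_d (p : ℕ) : d n R (p + 1) ≫ d n R p = 0 := by
  apply Scheme.Modules.hom_ext
  intro U
  ext s
  change (d n R p).app U ((d n R (p + 1)).app U s) = 0
  apply coord_ext
  intro x S
  rw [coord_d, coord_d, D_D, coord_zero]

end Groth.Agent.H2.Bott
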