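import Groth.Agent.Lib.Helper2.EulerNullA

/-! # The null-correlation map `O(-2) ⟶ Ω`: local splitting and the rank of the cokernel. -/

set_option autoImplicit false
set_option linter.style.haveILetI false
universe u
open CategoryTheory CategoryTheory.Limits AlgebraicGeometry TopologicalSpace Opposite

namespace Groth.Agent.H2.Euler

open Twist Groth.Agent.LD.TW Groth.Agent.LD.PT Groth.Agent.LD.PN Groth.Agent.H3.Om
open Groth.Agent.LD.QC Groth.Agent.LD.Ann Abelian

variable {n : ℕ} {R : Type u} [CommRing R]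

lemma bijective_smulEnd_gl_app (M : (Proj (CohB1.polyGrading n R)).Modules) {c c' : R}
    (hc : c * c' = 1) (V : (Proj (CohB1.polyGrading n R)).Opens) :
    Function.Bijective ((smulEnd M (gl n R c)).app V) := by
  have h1 : smulEnd M (gl n R c) ≫ smulEnd M (gl n R c') = 𝟙 M := by
    rw [← smulEnd_gl_mul, mul_comm, hc, smulEnd_gl_one]
  have h2 : smulEnd M (gl n R c') ≫ smulEnd M (gl n R c) = 𝟙 M := by
    rw [← smulEnd_gl_mul, hc, smulEnd_gl_one]
  refine Function.bijective_iff_has_inverse.2 ⟨(smulEnd M (gl n R c')).app V, fun m => ?_, fun m => ?_⟩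
  · rw [← comp_app', h1]; rfl
  · rw [← comp_app', h2]; rfl

/-- a morphism `O(d) ⟶ O(d+1)` which is the multiplication by a unit multiple of `X_j` is
bijective on sections over opens of the chart `U_j`. -/
theorem bijective_app_of_isMulBy (d : ℤ)
    (φ : twist (CohB1.polyGrading n R) d ⟶ twist (CohB1.polyGrading n R) (d + 1))
    (j : Fin (n + 1)) {c c' : R} (hc : c * c' = 1)
    (hφ : IsMulBy φ (MvPolynomial.C c * MvPolynomial.X j))
    (V : (Proj (CohB1.polyGrading n R)).Opens) (hV : V ≤ U n R j) :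
    Function.Bijective (φ.app V) := by
  have h1 : IsMulBy (smulEnd (twist (CohB1.polyGrading n R) d) (gl n R c) ≫ mX n R j d)
      (MvPolynomial.C c * MvPolynomial.X j) := by
    intro W t y
    rw [comp_app', secVal_mX, isMulBy_smulEnd d c W t y, mk_one_mul_mk_one, xi_eq_mk]
    ring
  have h2 : φ = smulEnd (twist (CohB1.polyGrading n R) d) (gl n R c) ≫ mX n R j d := hφ.ext h1
  rw [h2]
  have h3 : ⇑(ConcreteCategory.hom ((smulEnd (twist (CohB1.polyGrading n R) d) (gl n R c) ≫
      mX n R j d).app V)) = ⇑(ConcreteCategory.hom ((mX n R j d).app V)) ∘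
        ⇑(ConcreteCategory.hom ((smulEnd (twist (CohB1.polyGrading n R) d) (gl n R c)).app V)) := by
    funext t
    rfl
  rw [h3]
  exact (mulX_app_bijective (⟨MvPolynomial.X j, X_mem j⟩ : CohB1.polyGrading n R 1) d V hV).comp
    (bijective_smulEnd_gl_app _ hc V)

/-- the case `d = -2`. -/
theorem bijective_app_neg_two
    (φ : twist (CohB1.polyGrading n R) (-2) ⟶ twist (CohB1.polyGrading n R) (-1))
    (j : Fin (n + 1)) {c c' : R} (hc : c * c' = 1)
    (hφ : IsMulBy φ (MvPolynomial.C c * MvPolynomial.X j))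
    (V : (Proj (CohB1.polyGrading n R)).Opens) (hV : V ≤ U n R j) :
    Function.Bijective (φ.app V) :=
  bijective_app_of_isMulBy (-2) φ j hc hφ V hV

variable (R) in
/-- **the null-correlation map `O(-2) ⟶ Ω`** with its defining property. -/
theorem exists_nullHom (hn : Odd n) :
    ∃ u' : twist (CohB1.polyGrading n R) (-2) ⟶ Omega.sheaf (pS n R),
      ∀ l, IsMulBy (u' ≫ iota n R l) (nullForm R hn l) :=
  exists_hom_of_forms (-2) 1 (by norm_num) (nullForm R hn) (nullForm_mem R hn) (nullForm_rel R hn)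

/-- the null-correlation map composed with `ι_{σ j}` is bijective over the chart `U_j`. -/
theorem nullHom_bijective (hn : Odd n)
    (u' : twist (CohB1.polyGrading n R) (-2) ⟶ Omega.sheaf (pS n R))
    (hu' : ∀ l, IsMulBy (u' ≫ iota n R l) (nullForm R hn l)) (j : Fin (n + 1))
    (V : (Proj (CohB1.polyGrading n R)).Opens) (hV : V ≤ U n R j) :
    Function.Bijective ((u' ≫ iota n R (sig hn j)).app V) := by
  have h1 := hu' (sig hn j)
  unfold nullForm at h1
  rw [sig_sig] at h1
  exact bijective_app_neg_two _ j (eps_mul_self R (sig hn j)) h1 V hV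

/-- the null-correlation map is a monomorphism. -/
theorem nullHom_mono (hn : Odd n)
    (u' : twist (CohB1.polyGrading n R) (-2) ⟶ Omega.sheaf (pS n R))
    (hu' : ∀ l, IsMulBy (u' ≫ iota n R l) (nullForm R hn l)) : Mono u' := by
  apply Groth.Agent.H3.ZClosCover.mono_of_injective_basis u' {V | ∃ i, V ≤ U n R i}
  · rw [Opens.isBasis_iff_nbhd]
    intro W x hx
    obtain ⟨i, hi⟩ := exists_mem_U n R x
    exact ⟨W ⊓ U n R i, ⟨i, inf_le_right⟩, ⟨hx, hi⟩, inf_le_left⟩
  · rintro V ⟨j, hV⟩ t t' htt'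
    apply (nullHom_bijective hn u' hu' j V hV).1
    rw [comp_app', comp_app', htt']

end Groth.Agent.H2.Euler
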