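import Groth.Agent.Lib.Helper2.BottC
import Groth.Agent.Lib.Helper2.EulerNullB

/-! # The contracting homotopy of the Koszul complex over the standard charts. -/

set_option autoImplicit false
set_option linter.style.haveILetI false
universe u
open CategoryTheory CategoryTheory.Limits AlgebraicGeometry TopologicalSpace Opposite

namespace Groth.Agent.H2.Bott

open Twist Groth.Agent.LD.TW Groth.Agent.LD.PT Groth.Agent.LD.PN Groth.Agent.H3.Om
open Groth.Agent.LD.QC Groth.Agent.LD.Ann Abelian Groth.Agent.H2.Euler

attribute [local instance] Abelian.hasFiniteBiproducts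

variable {n : ℕ} {R : Type u} [CommRing R]

theorem bijective_app_of_isMulBy' {d d' : ℤ} (hd : d' = d + 1)
    (φ : twist (CohB1.polyGrading n R) d ⟶ twist (CohB1.polyGrading n R) d')
    (j : Fin (n + 1)) {c c' : R} (hc : c * c' = 1)
    (hφ : IsMulBy φ (MvPolynomial.C c * MvPolynomial.X j))
    (V : (Proj (CohB1.polyGrading n R)).Opens) (hV : V ≤ U n R j) :
    Function.Bijective (φ.app V) := by
  subst hd
  exact bijective_app_of_isMulBy d φ j hc hφ V hV

lemma bijective_app_mXp (i : Fin (n + 1)) (p : ℕ) (W : (Proj (CohB1.polyGrading n R)).Opens)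
    (hW : W ≤ U n R i) : Function.Bijective ((mXp n R i p).app W) :=
  bijective_app_of_isMulBy' (by push_cast; ring) _ i (one_mul (1 : R))
    (by rw [map_one, one_mul]; exact isMulBy_mXp n R i p) W hW

/-- the inverse of `X_i` in the local ring of a point of the chart `U_i`. -/
noncomputable def uinv (i : Fin (n + 1)) {W : (Proj (CohB1.polyGrading n R)).Opens}
    (hW : W ≤ U n R i) (x : W) : Loc (CohB1.polyGrading n R) x.1 :=
  ↑((isUnit_xi hW x).unit⁻¹)

lemma uinv_mul (i : Fin (n + 1)) {W : (Proj (CohB1.polyGrading n R)).Opens}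
    (hW : W ≤ U n R i) (x : W) : uinv i hW x * xi x.1 i = 1 :=
  IsUnit.val_inv_mul _

/-- division by `X_i` over the chart `U_i`. -/
noncomputable def divX (i : Fin (n + 1)) (p : ℕ) {W : (Proj (CohB1.polyGrading n R)).Opens}
    (hW : W ≤ U n R i) (t : Γ(T n R p, W)) : Γ(T n R (p + 1), W) :=
  (Equiv.ofBijective _ (bijective_app_mXp i p W hW)).symm t

lemma mXp_divX (i : Fin (n + 1)) (p : ℕ) {W : (Proj (CohB1.polyGrading n R)).Opens}
    (hW : W ≤ U n R i) (t : Γ(T n R p, W)) : (mXp n R i p).app W (divX i p hW t) = t :=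
  (Equiv.ofBijective _ (bijective_app_mXp i p W hW)).apply_symm_apply t

lemma secVal_divX (i : Fin (n + 1)) (p : ℕ) {W : (Proj (CohB1.polyGrading n R)).Opens}
    (hW : W ≤ U n R i) (t : Γ(T n R p, W)) (x : W) :
    secVal (divX i p hW t) x = uinv i hW x * secVal t x := by
  have h := congrArg (fun s => secVal s x) (mXp_divX i p hW t)
  simp only at h
  rw [secVal_mXp] at h
  calc secVal (divX i p hW t) x
      = (uinv i hW x * xi x.1 i) * secVal (divX i p hW t) x := by rw [uinv_mul, one_mul]
    _ = uinv i hW x * (xi x.1 i * secVal (divX i p hW t) x) := mul_assoc _ _ _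
    _ = uinv i hW x * secVal t x := by rw [h]

/-- the contracting homotopy on sections over an open of the chart `U_i`. -/
noncomputable def hSec (i : Fin (n + 1)) (p : ℕ) {W : (Proj (CohB1.polyGrading n R)).Opens}
    (hW : W ≤ U n R i) (z : Γ(K n R p, W)) : Γ(K n R (p + 1), W) :=
  (biproductSecEquiv (fun _ : Idx n (p + 1) => T n R (p + 1)) W).symm (fun S =>
    if h : i ∈ S.1 then
      sg i (S.1.erase i) • divX i p hW ((biproduct.π (fun _ : Idx n p => T n R p)
        (Set.powersetCard.ofCard (s := S.1.erase i)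
          (by rw [Finset.card_erase_of_mem h, Set.powersetCard.card_eq S]; rfl))).app W z)
    else 0)

lemma π_hSec (i : Fin (n + 1)) (p : ℕ) {W : (Proj (CohB1.polyGrading n R)).Opens}
    (hW : W ≤ U n R i) (z : Γ(K n R p, W)) (S : Idx n (p + 1)) :
    (biproduct.π (fun _ : Idx n (p + 1) => T n R (p + 1)) S).app W (hSec i p hW z) =
    if h : i ∈ S.1 then
      sg i (S.1.erase i) • divX i p hW ((biproduct.π (fun _ : Idx n p => T n R p)
        (Set.powersetCard.ofCard (s := S.1.erase i)
          (by rw [Finset.card_erase_of_mem h, Set.powersetCard.card_eq S]; rfl))).app W z)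
    else 0 := by
  have h := congrFun ((biproductSecEquiv (fun _ : Idx n (p + 1) => T n R (p + 1)) W).apply_symm_apply
    (fun S => if h : i ∈ S.1 then
      sg i (S.1.erase i) • divX i p hW ((biproduct.π (fun _ : Idx n p => T n R p)
        (Set.powersetCard.ofCard (s := S.1.erase i)
          (by rw [Finset.card_erase_of_mem h, Set.powersetCard.card_eq S]; rfl))).app W z)
    else 0)) S
  exact h

/-- **the contracting homotopy in coordinates.** -/
theorem coord_hSec (i : Fin (n + 1)) (p : ℕ) {W : (Proj (CohB1.polyGrading n R)).Opens}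
    (hW : W ≤ U n R i) (z : Γ(K n R p, W)) (x : W) :
    coord (hSec i p hW z) x = H i (uinv i hW x) (coord z x) := by
  funext S
  by_cases hS : S.card = p + 1
  · obtain ⟨S, rfl⟩ : ∃ S'' : Idx n (p + 1), S''.1 = S := ⟨Set.powersetCard.ofCard hS, rfl⟩
    rw [coord_of_card, π_hSec]
    unfold H
    by_cases hi : i ∈ S.1
    · rw [dif_pos hi, if_pos hi]
      have h2 := map_zsmul (secValHom (n := n) (R := R) (k := -((p + 1 : ℕ) : ℤ)) x)
        (sg i (S.1.erase i)) (divX i p hW ((biproduct.π (fun _ : Idx n p => T n R p)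
        (Set.powersetCard.ofCard (s := S.1.erase i)
          (by rw [Finset.card_erase_of_mem hi, Set.powersetCard.card_eq S]; rfl))).app W z))
      refine h2.trans ?_
      congr 1
      refine (secVal_divX i p hW _ x).trans ?_
      congr 1
      unfold coord
      rw [dif_pos (by rw [Finset.card_erase_of_mem hi, Set.powersetCard.card_eq S]; rfl)]
    · rw [dif_neg hi, if_neg hi]
      rfl
  · rw [coord_of_card_ne _ _ _ hS]
    unfold H
    split_ifs with hi
    · rw [coord_of_card_ne, mul_zero, zsmul_zero]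
      rw [Finset.card_erase_of_mem hi]
      have : 0 < S.card := Finset.card_pos.2 ⟨i, hi⟩
      omega
    · rfl

/-- **local exactness of the Koszul complex**: over a chart, cycles are boundaries. -/
theorem d_hSec (i : Fin (n + 1)) (p : ℕ) {W : (Proj (CohB1.polyGrading n R)).Opens}
    (hW : W ≤ U n R i) (z : Γ(K n R p, W))
    (hz : ∀ x : W, D (fun l => xi x.1 l) (coord z x) = 0) :
    (d n R p).app W (hSec i p hW z) = z := by
  apply coord_ext
  intro x S
  rw [coord_d, coord_hSec]
  have h := D_H_add_H_D (fun l => xi x.1 l) i (uinv i hW x) (uinv_mul i hW x) (coord z x) S.1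
  rw [hz x] at h
  have h0 : H i (uinv i hW x) (0 : Finset (Fin (n + 1)) → Loc (CohB1.polyGrading n R) x.1) S.1 = 0 := by
    unfold H
    split_ifs
    · rw [Pi.zero_apply, mul_zero, zsmul_zero]
    · rfl
  rw [h0, add_zero] at h
  exact h

/-- a cycle over a chart `U_i` is determined by its components at the subsets avoiding `i`. -/
theorem eq_zero_of_coord_notMem (i : Fin (n + 1)) (p : ℕ)
    {W : (Proj (CohB1.polyGrading n R)).Opens} (hW : W ≤ U n R i) (z : Γ(K n R p, W))
    (hz : ∀ x : W, D (fun l => xi x.1 l) (coord z x) = 0)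
    (h0 : ∀ (x : W) (S : Finset (Fin (n + 1))), i ∉ S → coord z x S = 0) : z = 0 := by
  rw [← d_hSec i p hW z hz]
  have h1 : hSec i p hW z = 0 := by
    apply coord_ext
    intro x S
    rw [coord_hSec, coord_zero]
    unfold H
    split_ifs with hi
    · rw [h0 x _ (Finset.notMem_erase i S.1), mul_zero, zsmul_zero]
    · rfl
  rw [h1, map_zero]

/-- any family of components at the subsets avoiding `i` comes from a cycle over the chart. -/
theorem exists_of_coord_notMem (i : Fin (n + 1)) (p : ℕ)
    {W : (Proj (CohB1.polyGrading n R)).Opens} (hW : W ≤ U n R i)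
    (t : Idx n p → Γ(T n R p, W)) :
    ∃ z : Γ(K n R p, W), (∀ x : W, D (fun l => xi x.1 l) (coord z x) = 0) ∧
      ∀ S : Idx n p, i ∉ S.1 → (biproduct.π (fun _ : Idx n p => T n R p) S).app W z = t S := by
  classical
  set z' : Γ(K n R p, W) := (biproductSecEquiv (fun _ : Idx n p => T n R p) W).symm
    (fun S => if i ∈ S.1 then 0 else t S) with hz'
  have hπ : ∀ S : Idx n p, (biproduct.π (fun _ : Idx n p => T n R p) S).app W z' =
      if i ∈ S.1 then 0 else t S := fun S =>
    congrFun ((biproductSecEquiv (fun _ : Idx n p => T n R p) W).apply_symm_apply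
      (fun S => if i ∈ S.1 then 0 else t S)) S
  refine ⟨(d n R p).app W (hSec i p hW z'), fun x => ?_, fun S hS => ?_⟩
  · rw [coord_d]
    funext S
    exact D_D _ _ S
  · apply secVal_ext
    intro x
    rw [← coord_of_card, coord_d, coord_hSec,
      D_H_of_notMem (fun l => xi x.1 l) i (uinv i hW x) (uinv_mul i hW x) (coord z' x) S.1 hS,
      coord_of_card, hπ, if_neg hS]

end Groth.Agent.H2.Bott
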