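import Groth.Agent.Lib.Helper2.BottD
import Groth.Agent.Lib.Helper3.ZClosLib
import Groth.Agent.Lib.Helper5.Lim.ModuleBridge
import Groth.Agent.Lib.Lead.QC.SubExt
import Groth.Agent.Lib.Lead.QC.BiprodSec
import Groth.Agent.Lib.Lead.QC.Closure

/-! # The cycles `Z_p` of the Koszul complex on `P^n_R` and the short exact sequences
`0 → Z_{p+1} → K_{p+1} → Z_p → 0`. -/

set_option autoImplicit false
set_option linter.style.haveILetI false
universe u
open CategoryTheory CategoryTheory.Limits AlgebraicGeometry TopologicalSpace Opposite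

namespace Groth.Agent.H2.Bott

open Twist Groth.Agent.LD.TW Groth.Agent.LD.PT Groth.Agent.LD.PN Groth.Agent.H3.Om
open Groth.Agent.LD.QC Groth.Agent.LD.Ann Abelian Groth.Agent.H2.Euler

attribute [local instance] Abelian.hasFiniteBiproducts

variable (n : ℕ) (R : Type u) [CommRing R]

/-- the differential `K_p ⟶ K_{p-1}` (zero for `p = 0`). -/
noncomputable def dd : (p : ℕ) → (K n R p ⟶ K n R (p - 1))
  | 0 => 0
  | (p + 1) => d n R p

lemma d_comp_dd (p : ℕ) : d n R p ≫ dd n R p = 0 := by
  cases p with
  | zero => exact comp_zero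
  | succ q => exact d_comp_d n R q

/-- the cycles of the Koszul complex. -/
noncomputable abbrev Z (p : ℕ) : (Proj (CohB1.polyGrading n R)).Modules := kernel (dd n R p)

instance qc_K (p : ℕ) : (K n R p).IsQuasicoherent :=
  qc_of_iso (biproduct.isoCoproduct _).symm
    (qc_finColimit (Discrete.functor fun _ : Idx n p => T n R p) (fun _ => (inferInstance : (T n R p).IsQuasicoherent)))

instance qc_Z (p : ℕ) : (Z n R p).IsQuasicoherent :=
  qc_kernel (dd n R p) (qc_K n R p) (qc_K n R (p - 1))

variable {n R}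

/-- the cycle condition in coordinates. -/
lemma D_coord_eq_zero {p : ℕ} {W : (Proj (CohB1.polyGrading n R)).Opens} (z : Γ(K n R p, W))
    (hz : (dd n R p).app W z = 0) (x : W) : D (fun l => xi x.1 l) (coord z x) = 0 := by
  cases p with
  | zero =>
    funext S
    unfold D
    refine Finset.sum_eq_zero fun l _ => ?_
    split_ifs with hl
    · rfl
    · rw [coord_of_card_ne, mul_zero, zsmul_zero]
      rw [Finset.card_insert_of_notMem hl]
      omega
  | succ q =>
    have h1 : (d n R q).app W z = 0 := hz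
    rw [← coord_d, h1]
    funext S
    exact coord_zero x S

lemma dd_app_eq_zero {p : ℕ} {W : (Proj (CohB1.polyGrading n R)).Opens} (z : Γ(K n R p, W))
    (hz : ∀ x : W, D (fun l => xi x.1 l) (coord z x) = 0) : (dd n R p).app W z = 0 := by
  cases p with
  | zero => rfl
  | succ q =>
    change (d n R q).app W z = 0
    apply coord_ext
    intro x S
    rw [coord_d, hz x, coord_zero]
    rfl

variable (n R)

/-- the canonical map `K_{p+1} ⟶ Z_p`. -/
noncomputable def toZ (p : ℕ) : K n R (p + 1) ⟶ Z n R p :=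
  kernel.lift (dd n R p) (d n R p) (d_comp_dd n R p)

lemma toZ_ι (p : ℕ) : toZ n R p ≫ kernel.ι (dd n R p) = d n R p := kernel.lift_ι _ _ _

instance epi_toZ (p : ℕ) : Epi (toZ n R p) := by
  apply Groth.Agent.H5.Lim.epi_of_surjective_affine_cover
  intro x
  obtain ⟨i, hi⟩ := exists_mem_U n R x
  refine ⟨U n R i, isAffineOpen_U i, hi, fun ζ => ?_⟩
  have hz : (dd n R p).app (U n R i) ((kernel.ι (dd n R p)).app (U n R i) ζ) = 0 := by
    rw [← comp_app', kernel.condition]
    rfl
  refine ⟨hSec i p (le_refl _) ((kernel.ι (dd n R p)).app (U n R i) ζ), ?_⟩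
  apply Groth.Agent.H3.ZClosLib.app_injective_of_mono (kernel.ι (dd n R p)) (U n R i)
  rw [← comp_app', toZ_ι]
  exact d_hSec i p (le_refl _) _ (D_coord_eq_zero _ hz)

/-- **the short exact sequence `0 → Z_{p+1} → K_{p+1} → Z_p → 0`.** -/
theorem shortExact_Z (p : ℕ) :
    (ShortComplex.mk (kernel.ι (d n R p)) (toZ n R p)
      (by apply (cancel_mono (kernel.ι (dd n R p))).1; rw [Category.assoc, toZ_ι, kernel.condition,
        zero_comp])).ShortExact := by
  have hex : (ShortComplex.mk (d n R p) (dd n R p) (d_comp_dd n R p)).Exact := by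
    rw [ShortComplex.exact_iff_epi_kernel_lift]
    exact epi_toZ n R p
  exact shortExact_kernel_lift (d n R p) (dd n R p) (d_comp_dd n R p) hex

end Groth.Agent.H2.Bott
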