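import Groth.Agent.Lib.Helper2.BottE
import Groth.Agent.Lib.Lead.TW.MulTensor
import Groth.Agent.Lib.Lead.TW.Zero

/-! # Products and determinants of sections of `O(-1)`; the wedge map `Ω^p ⟶ K_p`. -/

set_option autoImplicit false
set_option linter.style.haveILetI false
universe u
open CategoryTheory CategoryTheory.Limits AlgebraicGeometry TopologicalSpace Opposite

namespace Groth.Agent.H2.Bott

open Twist Groth.Agent.LD.TW Groth.Agent.LD.PT Groth.Agent.LD.PN Groth.Agent.H3.Om
open Groth.Agent.LD.QC Groth.Agent.LD.Ann Abelian Groth.Agent.H2.Euler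

attribute [local instance] Abelian.hasFiniteBiproducts

variable {n : ℕ} {R : Type u} [CommRing R]

lemma exists_mul_sec {a b c : ℤ} (h : a + b = c) {W : (Proj (CohB1.polyGrading n R)).Opens}
    (s : Γ(twist (CohB1.polyGrading n R) a, W)) (t : Γ(twist (CohB1.polyGrading n R) b, W)) :
    ∃ r : Γ(twist (CohB1.polyGrading n R) c, W), ∀ x : W, secVal r x = secVal s x * secVal t x := by
  subst h
  exact ⟨mulBilin (CohB1.polyGrading n R) a b W s t, fun x => rfl⟩

lemma exists_one_sec (W : (Proj (CohB1.polyGrading n R)).Opens) :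
    ∃ r : Γ(twist (CohB1.polyGrading n R) 0, W), ∀ x : W, secVal r x = 1 := by
  refine ⟨(unitToTwist (CohB1.polyGrading n R)).app W ((unitSecEquiv W).symm 1), fun x => ?_⟩
  have h : secVal ((unitToTwist (CohB1.polyGrading n R)).app W ((unitSecEquiv W).symm 1)) x =
      oval (CohB1.polyGrading n R) (1 : Γ(Proj (CohB1.polyGrading n R), W)) x := rfl
  rw [h, oval_one]

theorem exists_prod_sec {W : (Proj (CohB1.polyGrading n R)).Opens} :
    ∀ (p : ℕ) (m : ℤ) (_ : m = -(p : ℤ))
      (u : Fin p → Γ(twist (CohB1.polyGrading n R) (-1), W)),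
      ∃ r : Γ(twist (CohB1.polyGrading n R) m, W), ∀ x : W, secVal r x = ∏ a, secVal (u a) x
  | 0, m, hm, u => by
    have h0 : m = 0 := by rw [hm]; simp
    subst h0
    obtain ⟨r, hr⟩ := exists_one_sec (n := n) (R := R) W
    exact ⟨r, fun x => by rw [hr, Fin.prod_univ_zero]⟩
  | p + 1, m, hm, u => by
    obtain ⟨r, hr⟩ := exists_prod_sec p (-(p : ℤ)) rfl (fun a => u a.succ)
    obtain ⟨r', hr'⟩ := exists_mul_sec (a := -1) (b := -(p : ℤ)) (c := m)
      (by rw [hm]; push_cast; ring) (u 0) r
    exact ⟨r', fun x => by rw [hr', hr, Fin.prod_univ_succ]⟩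

/-- the determinant of a square matrix of sections of `O(-1)` is a section of `O(-p)`. -/
theorem exists_det_sec {W : (Proj (CohB1.polyGrading n R)).Opens} (p : ℕ)
    (u : Fin p → Fin p → Γ(twist (CohB1.polyGrading n R) (-1), W)) :
    ∃ r : Γ(T n R p, W), ∀ x : W,
      secVal r x = Matrix.det (Matrix.of fun a b => secVal (u a b) x) := by
  classical
  choose r hr using fun σ : Equiv.Perm (Fin p) =>
    exists_prod_sec (W := W) p (-(p : ℤ)) rfl (fun a => u (σ a) a)
  refine ⟨∑ σ : Equiv.Perm (Fin p), ((Equiv.Perm.sign σ : ℤˣ) : ℤ) • r σ, fun x => ?_⟩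
  rw [Matrix.det_apply']
  have h1 := map_sum (secValHom (n := n) (R := R) (k := -(p : ℤ)) x)
    (fun σ : Equiv.Perm (Fin p) => ((Equiv.Perm.sign σ : ℤˣ) : ℤ) • r σ) Finset.univ
  refine h1.trans ?_
  refine Finset.sum_congr rfl fun σ _ => ?_
  have h2 := map_zsmul (secValHom (n := n) (R := R) (k := -(p : ℤ)) x)
    ((Equiv.Perm.sign σ : ℤˣ) : ℤ) (r σ)
  refine h2.trans ?_
  rw [zsmul_eq_mul]
  congr 1
  exact hr σ x

/-! ### coordinates are linear and compatible with restriction -/

lemma coord_add {p : ℕ} {W : (Proj (CohB1.polyGrading n R)).Opens} (s s' : Γ(K n R p, W))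
    (x : W) (S : Finset (Fin (n + 1))) : coord (s + s') x S = coord s x S + coord s' x S := by
  unfold coord
  split_ifs with h
  · rw [map_add]
    rfl
  · rw [add_zero]

lemma coord_smul {p : ℕ} {W : (Proj (CohB1.polyGrading n R)).Opens}
    (c : Γ(Proj (CohB1.polyGrading n R), W)) (s : Γ(K n R p, W))
    (x : W) (S : Finset (Fin (n + 1))) :
    coord (c • s) x S = oval (CohB1.polyGrading n R) c x * coord s x S := by
  unfold coord
  split_ifs with h
  · have h1 : (biproduct.π (fun _ : Idx n p => T n R p) (Set.powersetCard.ofCard h)).app W (c • s) =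
        c • (biproduct.π (fun _ : Idx n p => T n R p) (Set.powersetCard.ofCard h)).app W s :=
      (appLin (biproduct.π (fun _ : Idx n p => T n R p) (Set.powersetCard.ofCard h)) W).map_smul c s
    rw [h1, secVal_smul]
  · rw [mul_zero]

lemma coord_res {p : ℕ} {V W : (Proj (CohB1.polyGrading n R)).Opens} (h : V ≤ W)
    (s : Γ(K n R p, W)) (y : V) (S : Finset (Fin (n + 1))) :
    coord ((K n R p).presheaf.map (homOfLE h).op s) y S = coord s ⟨y.1, h y.2⟩ S := by
  unfold coord
  split_ifs with hS
  · rw [app_res, secVal_res]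
  · rfl

/-! ### the wedge map -/

/-- the matrix of values of a family of sections of `Ω` at a point. -/
noncomputable def valMat {p : ℕ} {W : (Proj (CohB1.polyGrading n R)).Opens}
    (ω : Fin p → Γ(Omega.sheaf (pS n R), W)) (x : W) :
    Matrix (Fin (n + 1)) (Fin p) (Loc (CohB1.polyGrading n R) x.1) :=
  Matrix.of fun l b => secVal ((iota n R l).app W (ω b)) x

/-- the minors of a family of sections of `Ω`, as sections of `O(-p)`. -/
noncomputable def minorSec {p : ℕ} {W : (Proj (CohB1.polyGrading n R)).Opens}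
    (ω : Fin p → Γ(Omega.sheaf (pS n R), W)) (S : Idx n p) : Γ(T n R p, W) :=
  (exists_det_sec p (fun a b =>
    (iota n R (S.1.orderEmbOfFin (Set.powersetCard.card_eq S) a)).app W (ω b))).choose

lemma secVal_minorSec {p : ℕ} {W : (Proj (CohB1.polyGrading n R)).Opens}
    (ω : Fin p → Γ(Omega.sheaf (pS n R), W)) (S : Idx n p) (x : W) :
    secVal (minorSec ω S) x = minors (valMat ω x) S.1 := by
  rw [minors_of_card _ _ (Set.powersetCard.card_eq S)]
  exact (exists_det_sec p (fun a b =>
    (iota n R (S.1.orderEmbOfFin (Set.powersetCard.card_eq S) a)).app W (ω b))).choose_spec x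

/-- `ω_1 ∧ ⋯ ∧ ω_p` as a section of `K_p`. -/
noncomputable def wedgeK {p : ℕ} {W : (Proj (CohB1.polyGrading n R)).Opens}
    (ω : Fin p → Γ(Omega.sheaf (pS n R), W)) : Γ(K n R p, W) :=
  (biproductSecEquiv (fun _ : Idx n p => T n R p) W).symm (fun S => minorSec ω S)

theorem coord_wedgeK {p : ℕ} {W : (Proj (CohB1.polyGrading n R)).Opens}
    (ω : Fin p → Γ(Omega.sheaf (pS n R), W)) (x : W) :
    coord (wedgeK ω) x = minors (valMat ω x) := by
  funext S
  by_cases h : S.card = p
  · obtain ⟨S, rfl⟩ : ∃ S'' : Idx n p, S''.1 = S := ⟨Set.powersetCard.ofCard h, rfl⟩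
    rw [coord_of_card, ← secVal_minorSec]
    congr 1
    exact congrFun ((biproductSecEquiv (fun _ : Idx n p => T n R p) W).apply_symm_apply
      (fun S => minorSec ω S)) S
  · rw [coord_of_card_ne _ _ _ h, minors_of_card_ne _ _ h]

lemma valMat_update {p : ℕ} {W : (Proj (CohB1.polyGrading n R)).Opens}
    (ω : Fin p → Γ(Omega.sheaf (pS n R), W)) (b : Fin p) (v : Γ(Omega.sheaf (pS n R), W))
    (x : W) :
    valMat (Function.update ω b v) x =
      (valMat ω x).updateCol b (fun l => secVal ((iota n R l).app W v) x) := by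
  ext l b'
  unfold valMat
  rw [Matrix.updateCol_apply]
  simp only [Matrix.of_apply]
  by_cases hb : b' = b
  · subst hb
    rw [Function.update_self, if_pos rfl]
  · rw [Function.update_of_ne hb, if_neg hb]

/-- the wedge map is alternating multilinear. -/
noncomputable def wedgeAlt (p : ℕ) (W : (Proj (CohB1.polyGrading n R)).Opens) :
    AlternatingMap Γ(Proj (CohB1.polyGrading n R), W) Γ(Omega.sheaf (pS n R), W)
      Γ(K n R p, W) (Fin p) where
  toFun := wedgeK
  map_update_add' := by
    intro _ ω b a a'
    apply coord_ext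
    intro x S
    rw [coord_add, coord_wedgeK, coord_wedgeK, coord_wedgeK]
    have hinst : ‹DecidableEq (Fin p)› = instDecidableEqFin p := Subsingleton.elim _ _
    subst hinst
    rw [valMat_update, valMat_update, valMat_update]
    have h1 : (fun l => secVal ((iota n R l).app W (a + a')) x) =
        (fun l => secVal ((iota n R l).app W a) x) + fun l => secVal ((iota n R l).app W a') x := by
      funext l
      rw [map_add]
      rfl
    rw [h1]
    exact minors_updateCol_add _ _ _ _ _
  map_update_smul' := by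
    intro _ ω b c a
    apply coord_ext
    intro x S
    rw [coord_smul, coord_wedgeK, coord_wedgeK]
    have hinst : ‹DecidableEq (Fin p)› = instDecidableEqFin p := Subsingleton.elim _ _
    subst hinst
    rw [valMat_update, valMat_update]
    have h1 : (fun l => secVal ((iota n R l).app W (c • a)) x) =
        oval (CohB1.polyGrading n R) c x • fun l => secVal ((iota n R l).app W a) x := by
      funext l
      have h2 : (iota n R l).app W (c • a) = c • (iota n R l).app W a :=
        (appLin (iota n R l) W).map_smul c a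
      rw [h2, secVal_smul]
      rfl
    rw [h1]
    exact minors_updateCol_smul _ _ _ _ _
  map_eq_zero_of_eq' := by
    intro ω b b' h hne
    apply coord_ext
    intro x S
    rw [coord_wedgeK, coord_zero]
    apply minors_eq_zero_of_col_eq _ hne
    intro l
    unfold valMat
    simp only [Matrix.of_apply]
    rw [h]

lemma wedgeAlt_apply (p : ℕ) (W : (Proj (CohB1.polyGrading n R)).Opens)
    (ω : Fin p → Γ(Omega.sheaf (pS n R), W)) : wedgeAlt p W ω = wedgeK ω := rfl

/-- the wedge map is compatible with restriction. -/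
lemma wedgeK_res {p : ℕ} {V W : (Proj (CohB1.polyGrading n R)).Opens} (h : V ≤ W)
    (ω : Fin p → Γ(Omega.sheaf (pS n R), W)) :
    (K n R p).presheaf.map (homOfLE h).op (wedgeK ω) =
      wedgeK (fun b => (Omega.sheaf (pS n R)).presheaf.map (homOfLE h).op (ω b)) := by
  apply coord_ext
  intro y S
  rw [coord_res, coord_wedgeK, coord_wedgeK]
  congr 1
  ext l b
  unfold valMat
  simp only [Matrix.of_apply]
  rw [app_res, secVal_res]

/-- **the wedge of sections of `Ω` is a cycle.** -/
theorem D_coord_wedgeK {p : ℕ} {W : (Proj (CohB1.polyGrading n R)).Opens}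
    (ω : Fin p → Γ(Omega.sheaf (pS n R), W)) (x : W) :
    D (fun l => xi x.1 l) (coord (wedgeK ω) x) = 0 := by
  cases p with
  | zero =>
    funext S
    unfold D
    refine Finset.sum_eq_zero fun l _ => ?_
    split_ifs with hl
    · rfl
    · rw [coord_of_card_ne, mul_zero, zsmul_zero]
      rw [Finset.card_insert_of_notMem hl]
      omega
  | succ q =>
    rw [coord_wedgeK]
    funext S
    by_cases hS : S.card = q
    · apply D_minors _ _ _ _ hS
      intro b
      exact euler_relation W (ω b) x
    · unfold D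
      refine Finset.sum_eq_zero fun l _ => ?_
      split_ifs with hl
      · rfl
      · rw [minors_of_card_ne, mul_zero, zsmul_zero]
        rw [Finset.card_insert_of_notMem hl]
        omega

end Groth.Agent.H2.Bott
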