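import Groth.Agent.Lib.Helper2.BottF
import Groth.Agent.Lib.Lead.QC.HomAffine

/-! # The comparison morphism `L ⟶ Z_p` for an exterior power `L` of `Ω_{P^n}`. -/

set_option autoImplicit false
set_option linter.style.haveILetI false
universe u
open CategoryTheory CategoryTheory.Limits AlgebraicGeometry TopologicalSpace Opposite

namespace Groth.Agent.H2.Bott

open Twist Groth.Agent.LD.TW Groth.Agent.LD.PT Groth.Agent.LD.PN Groth.Agent.H3.Om
open Groth.Agent.LD.QC Groth.Agent.LD.Ann Abelian Groth.Agent.H2.Euler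

attribute [local instance] Abelian.hasFiniteBiproducts

/-- restriction of sections as a semilinear map. -/
noncomputable def resSL {X : Scheme.{u}} (F : X.Modules) {U V : X.Opens} (h : V ≤ U) :
    Γ(F, U) →ₛₗ[(X.presheaf.map (homOfLE h).op).hom] Γ(F, V) where
  toFun := F.presheaf.map (homOfLE h).op
  map_add' := map_add _
  map_smul' c m := Scheme.Modules.map_smul F (homOfLE h) c m

lemma resSL_apply {X : Scheme.{u}} (F : X.Modules) {U V : X.Opens} (h : V ≤ U) (m : Γ(F, U)) :
    resSL F h m = F.presheaf.map (homOfLE h).op m := rfl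

variable {n : ℕ} {R : Type u} [CommRing R] {p : ℕ}
  (L : (Proj (CohB1.polyGrading n R)).Modules)
  (φ : ∀ U : (Proj (CohB1.polyGrading n R)).affineOpens,
    Γ(L, U.1) ≃ₗ[Γ(Proj (CohB1.polyGrading n R), U.1)]
      ↥(⋀[Γ(Proj (CohB1.polyGrading n R), U.1)]^p Γ(Omega.sheaf (pS n R), U.1)))

/-- the wedge map on an affine open. -/
noncomputable def alphaLoc (U : (Proj (CohB1.polyGrading n R)).affineOpens) :
    Γ(L, U.1) →ₗ[Γ(Proj (CohB1.polyGrading n R), U.1)] Γ(K n R p, U.1) :=
  (exteriorPower.alternatingMapLinearEquiv (wedgeAlt p U.1)).comp (φ U).toLinearMap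

lemma alphaLoc_symm_ιMulti (U : (Proj (CohB1.polyGrading n R)).affineOpens)
    (e : Fin p → Γ(Omega.sheaf (pS n R), U.1)) :
    alphaLoc L φ U ((φ U).symm (exteriorPower.ιMulti _ p e)) = wedgeK e := by
  have h1 : (φ U) ((φ U).symm (exteriorPower.ιMulti _ p e)) =
      exteriorPower.ιMulti _ p e := (φ U).apply_symm_apply _
  exact (congrArg (exteriorPower.alternatingMapLinearEquiv (wedgeAlt p U.1)) h1).trans
    (exteriorPower.alternatingMapLinearEquiv_apply_ιMulti _ _)

/-- the generators of `L(U)`. -/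
lemma span_symm_ιMulti (U : (Proj (CohB1.polyGrading n R)).affineOpens) :
    Submodule.span Γ(Proj (CohB1.polyGrading n R), U.1)
      (Set.range fun e : Fin p → Γ(Omega.sheaf (pS n R), U.1) =>
        (φ U).symm (exteriorPower.ιMulti _ p e)) = ⊤ := by
  have h1 : (Set.range fun e : Fin p → Γ(Omega.sheaf (pS n R), U.1) =>
      (φ U).symm (exteriorPower.ιMulti _ p e)) =
      (φ U).symm.toLinearMap '' Set.range (exteriorPower.ιMulti
        Γ(Proj (CohB1.polyGrading n R), U.1) p) := by
    rw [← Set.range_comp]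
    rfl
  rw [h1, ← Submodule.map_span, exteriorPower.ιMulti_span, Submodule.map_top,
    LinearMap.range_eq_top]
  exact (φ U).symm.surjective

variable (hφ : ∀ (U V : (Proj (CohB1.polyGrading n R)).affineOpens) (h : V.1 ≤ U.1)
    (e : Fin p → Γ(Omega.sheaf (pS n R), U.1)),
    L.presheaf.map (homOfLE h).op ((φ U).symm (exteriorPower.ιMulti _ p e)) =
      (φ V).symm (exteriorPower.ιMulti _ p
        (fun j => (Omega.sheaf (pS n R)).presheaf.map (homOfLE h).op (e j))))

include hφ in
lemma alphaLoc_nat (U V : (Proj (CohB1.polyGrading n R)).affineOpens) (h : V.1 ≤ U.1)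
    (s : Γ(L, U.1)) :
    (K n R p).presheaf.map (homOfLE h).op (alphaLoc L φ U s) =
      alphaLoc L φ V (L.presheaf.map (homOfLE h).op s) := by
  have key : (resSL (K n R p) h).comp (alphaLoc L φ U) =
      (alphaLoc L φ V).comp (resSL L h) := by
    apply LinearMap.ext_on (span_symm_ιMulti L φ U)
    rintro _ ⟨e, rfl⟩
    rw [LinearMap.comp_apply, LinearMap.comp_apply, resSL_apply, resSL_apply]
    rw [alphaLoc_symm_ιMulti, wedgeK_res, hφ U V h e, alphaLoc_symm_ιMulti]
  exact LinearMap.congr_fun key s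

/-- the wedge morphism `L ⟶ K_p`. -/
noncomputable def alpha : L ⟶ K n R p :=
  homOfAffine L (K n R p) (alphaLoc L φ) (alphaLoc_nat L φ hφ)

lemma alpha_app (U : (Proj (CohB1.polyGrading n R)).affineOpens) (s : Γ(L, U.1)) :
    (alpha L φ hφ).app U.1 s = alphaLoc L φ U s :=
  homOfAffine_app L (K n R p) (alphaLoc L φ) (alphaLoc_nat L φ hφ) U s

lemma dd_alphaLoc (U : (Proj (CohB1.polyGrading n R)).affineOpens) (s : Γ(L, U.1)) :
    (dd n R p).app U.1 (alphaLoc L φ U s) = 0 := by
  have key : (appLin (dd n R p) U.1).comp (alphaLoc L φ U) = 0 := by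
    apply LinearMap.ext_on (span_symm_ιMulti L φ U)
    rintro _ ⟨e, rfl⟩
    rw [LinearMap.comp_apply, alphaLoc_symm_ιMulti, appLin_apply]
    exact dd_app_eq_zero _ (fun x => D_coord_wedgeK e x)
  exact LinearMap.congr_fun key s

lemma alpha_comp_dd : alpha L φ hφ ≫ dd n R p = 0 := by
  apply hom_ext_affine
  intro U s
  rw [comp_app', alpha_app, dd_alphaLoc]
  rfl

/-- the comparison morphism `L ⟶ Z_p`. -/
noncomputable def alphaBar : L ⟶ Z n R p :=
  kernel.lift (dd n R p) (alpha L φ hφ) (alpha_comp_dd L φ hφ)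

lemma alphaBar_ι : alphaBar L φ hφ ≫ kernel.ι (dd n R p) = alpha L φ hφ := kernel.lift_ι _ _ _

end Groth.Agent.H2.Bott
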