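import Groth.Agent.Lib.Helper2.BottG
import Groth.Agent.Lib.Lead.FPExt.Glue
import Mathlib.LinearAlgebra.ExteriorPower.Basis

/-! # Local structure of `Ω`, `O(-p)` and `Z_p` over the charts of `P^n_R`. -/

set_option autoImplicit false
set_option linter.style.haveILetI false
universe u
open CategoryTheory CategoryTheory.Limits AlgebraicGeometry TopologicalSpace Opposite

namespace Groth.Agent.H2.Bott

open Twist Groth.Agent.LD.TW Groth.Agent.LD.PT Groth.Agent.LD.PN Groth.Agent.H3.Om
open Groth.Agent.LD.QC Groth.Agent.LD.Ann Abelian Groth.Agent.H2.Euler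

attribute [local instance] Abelian.hasFiniteBiproducts

variable {n : ℕ} {R : Type u} [CommRing R]

/-- the value of a function at a point, as a ring homomorphism. -/
noncomputable def ovalHom {W : (Proj (CohB1.polyGrading n R)).Opens} (x : W) :
    Γ(Proj (CohB1.polyGrading n R), W) →+* Loc (CohB1.polyGrading n R) x.1 where
  toFun a := oval (CohB1.polyGrading n R) a x
  map_one' := oval_one _ x
  map_mul' a b := oval_mul _ a b x
  map_zero' := oval_zero _ x
  map_add' a b := oval_add _ a b x

lemma ovalHom_apply {W : (Proj (CohB1.polyGrading n R)).Opens} (x : W)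
    (a : Γ(Proj (CohB1.polyGrading n R), W)) :
    ovalHom x a = oval (CohB1.polyGrading n R) a x := rfl

/-! ### the sections `X_i^{-p}` and multiplication by `X_i^p` -/

theorem exists_tau (i : Fin (n + 1)) {W : (Proj (CohB1.polyGrading n R)).Opens}
    (hW : W ≤ U n R i) (p : ℕ) :
    ∃ τ : Γ(T n R p, W), ∀ x : W, secVal τ x = (uinv i hW x) ^ p := by
  induction p with
  | zero =>
    obtain ⟨r, hr⟩ := exists_prod_sec (n := n) (R := R) (W := W) 0 (-((0 : ℕ) : ℤ)) rfl Fin.elim0
    exact ⟨r, fun x => by rw [hr, Fin.prod_univ_zero, pow_zero]⟩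
  | succ q ih =>
    obtain ⟨τ, hτ⟩ := ih
    exact ⟨divX i q hW τ, fun x => by rw [secVal_divX, hτ, pow_succ']⟩

lemma exists_oval_eq_secVal {W : (Proj (CohB1.polyGrading n R)).Opens}
    (s : Γ(twist (CohB1.polyGrading n R) 0, W)) :
    ∃ a : Γ(Proj (CohB1.polyGrading n R), W), ∀ x : W,
      oval (CohB1.polyGrading n R) a x = secVal s x := by
  set c : Γ(unitMod (Proj (CohB1.polyGrading n R)), W) :=
    (twistZeroIso (CohB1.polyGrading n R)).hom.app W s with hc
  have h1 : (unitToTwist (CohB1.polyGrading n R)).app W c = s := by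
    rw [hc, ← comp_app']
    have h2 : (twistZeroIso (CohB1.polyGrading n R)).hom ≫ unitToTwist (CohB1.polyGrading n R) =
        𝟙 _ := by
      unfold twistZeroIso
      simp
    rw [h2]
    rfl
  refine ⟨unitSecEquiv W c, fun x => ?_⟩
  rw [← h1]
  rfl

theorem exists_mulPow (i : Fin (n + 1)) {W : (Proj (CohB1.polyGrading n R)).Opens} :
    ∀ (p : ℕ) (t : Γ(T n R p, W)), ∃ a : Γ(Proj (CohB1.polyGrading n R), W), ∀ x : W,
      oval (CohB1.polyGrading n R) a x = (xi x.1 i) ^ p * secVal t x
  | 0, t => by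
    obtain ⟨a, ha⟩ := exists_oval_eq_secVal (n := n) (R := R) (W := W) t
    exact ⟨a, fun x => by rw [ha, pow_zero, one_mul]⟩
  | p + 1, t => by
    obtain ⟨a, ha⟩ := exists_mulPow i p ((mXp n R i p).app W t)
    exact ⟨a, fun x => by rw [ha, secVal_mXp, pow_succ, mul_assoc]⟩

lemma uinv_pow_mul (i : Fin (n + 1)) {W : (Proj (CohB1.polyGrading n R)).Opens}
    (hW : W ≤ U n R i) (x : W) (p : ℕ) : (uinv i hW x) ^ p * (xi x.1 i) ^ p = 1 := by
  rw [← mul_pow, uinv_mul, one_pow]

/-- multiplication by `X_i^{-p}` is a bijection from functions to sections of `O(-p)`. -/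
theorem bijective_smul_tau (i : Fin (n + 1)) {W : (Proj (CohB1.polyGrading n R)).Opens}
    (hW : W ≤ U n R i) (p : ℕ) (τ : Γ(T n R p, W))
    (hτ : ∀ x : W, secVal τ x = (uinv i hW x) ^ p) :
    Function.Bijective (fun a : Γ(Proj (CohB1.polyGrading n R), W) => a • τ) := by
  constructor
  · intro a b hab
    apply sec_ext
    intro x
    have h1 := congrArg (fun s => secVal s x) hab
    simp only [secVal_smul, hτ] at h1
    calc oval (CohB1.polyGrading n R) a x
        = oval (CohB1.polyGrading n R) a x * ((uinv i hW x) ^ p * (xi x.1 i) ^ p) := by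
          rw [uinv_pow_mul, mul_one]
      _ = (oval (CohB1.polyGrading n R) a x * (uinv i hW x) ^ p) * (xi x.1 i) ^ p := by ring
      _ = (oval (CohB1.polyGrading n R) b x * (uinv i hW x) ^ p) * (xi x.1 i) ^ p := by rw [h1]
      _ = oval (CohB1.polyGrading n R) b x * ((uinv i hW x) ^ p * (xi x.1 i) ^ p) := by ring
      _ = oval (CohB1.polyGrading n R) b x := by rw [uinv_pow_mul, mul_one]
  · intro t
    obtain ⟨a, ha⟩ := exists_mulPow i p t
    refine ⟨a, ?_⟩
    apply secVal_ext
    intro x
    simp only [secVal_smul, hτ, ha]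
    calc (xi x.1 i) ^ p * secVal t x * (uinv i hW x) ^ p
        = ((uinv i hW x) ^ p * (xi x.1 i) ^ p) * secVal t x := by ring
      _ = secVal t x := by rw [uinv_pow_mul, one_mul]

/-! ### the basis of `Ω` over an affine open of a chart -/

/-- the coordinates `(X_i ι_l)_{l ≠ i}`, as a morphism `Ω ⟶ O^n`. -/
noncomputable def psi (i : Fin (n + 1)) :
    Omega.sheaf (pS n R) ⟶ ⨁ fun _ : Fin n => unitMod (Proj (CohB1.polyGrading n R)) :=
  biproduct.lift (fun k => bet i (i.succAbove k))

instance qc_sumUnit : (⨁ fun _ : Fin n => unitMod (Proj (CohB1.polyGrading n R))).IsQuasicoherent :=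
  qc_of_iso (biproduct.isoCoproduct _).symm
    (qc_finColimit (Discrete.functor fun _ : Fin n => unitMod (Proj (CohB1.polyGrading n R)))
      (fun _ => (inferInstance : (unitMod (Proj (CohB1.polyGrading n R))).IsQuasicoherent)))

lemma π_psi (i : Fin (n + 1)) (k : Fin n) (W : (Proj (CohB1.polyGrading n R)).Opens)
    (ω : Γ(Omega.sheaf (pS n R), W)) :
    (biproduct.π (fun _ : Fin n => unitMod (Proj (CohB1.polyGrading n R))) k).app W
      ((psi i).app W ω) = (bet i (i.succAbove k)).app W ω := by
  rw [← comp_app']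
  unfold psi
  rw [biproduct.lift_π]

lemma bijective_psi_chart (i : Fin (n + 1)) :
    Function.Bijective ((psi (R := R) i).app (U n R i)) := by
  have key : ∀ ω : Γ(Omega.sheaf (pS n R), U n R i), ∀ k : Fin n,
      unitSecEquiv (U n R i) ((biproduct.π
        (fun _ : Fin n => unitMod (Proj (CohB1.polyGrading n R))) k).app (U n R i)
        ((psi i).app (U n R i) ω)) = omChartEquiv i ω k := by
    intro ω k
    rw [π_psi]
    rfl
  constructor
  · intro ω ω' h
    apply (omChartEquiv i).injective
    funext k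
    rw [← key, ← key, h]
  · intro y
    refine ⟨(omChartEquiv i).symm (fun k => unitSecEquiv (U n R i) ((biproduct.π
      (fun _ : Fin n => unitMod (Proj (CohB1.polyGrading n R))) k).app (U n R i) y)), ?_⟩
    apply biproduct_section_ext
    intro k
    apply (unitSecEquiv (U n R i)).injective
    rw [key, LinearEquiv.apply_symm_apply]

lemma bijective_psi (i : Fin (n + 1)) (W : (Proj (CohB1.polyGrading n R)).Opens)
    (hW : W ≤ U n R i) : Function.Bijective ((psi (R := R) i).app W) :=
  Groth.Agent.LD.FPExt.bijective_app_of_le_affine (psi i) (isAffineOpen_U i)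
    (bijective_psi_chart i) W hW

/-- the coordinates of a section of `Ω` over an open of the chart `U_i`. -/
noncomputable def omEquiv (i : Fin (n + 1)) (W : (Proj (CohB1.polyGrading n R)).Opens)
    (hW : W ≤ U n R i) :
    Γ(Omega.sheaf (pS n R), W) ≃ₗ[Γ(Proj (CohB1.polyGrading n R), W)]
      (Fin n → Γ(Proj (CohB1.polyGrading n R), W)) :=
  ((LinearEquiv.ofBijective (appLin (psi i) W) (bijective_psi i W hW)).trans
    (biproductSecEquiv (fun _ : Fin n => unitMod (Proj (CohB1.polyGrading n R))) W)).trans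
    (LinearEquiv.piCongrRight fun _ => unitSecEquiv W)

lemma omEquiv_apply (i : Fin (n + 1)) (W : (Proj (CohB1.polyGrading n R)).Opens)
    (hW : W ≤ U n R i) (ω : Γ(Omega.sheaf (pS n R), W)) (k : Fin n) :
    omEquiv i W hW ω k = unitSecEquiv W ((bet i (i.succAbove k)).app W ω) := by
  rw [← π_psi]
  rfl

/-- the basis of `Ω` over an open of the chart `U_i`. -/
noncomputable def omBasis (i : Fin (n + 1)) (W : (Proj (CohB1.polyGrading n R)).Opens)
    (hW : W ≤ U n R i) :
    Module.Basis (Fin n) Γ(Proj (CohB1.polyGrading n R), W) Γ(Omega.sheaf (pS n R), W) :=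
  Module.Basis.ofEquivFun (omEquiv i W hW)

lemma oval_omBasis_coord (i : Fin (n + 1)) (W : (Proj (CohB1.polyGrading n R)).Opens)
    (hW : W ≤ U n R i) (ω : Γ(Omega.sheaf (pS n R), W)) (k : Fin n) (x : W) :
    oval (CohB1.polyGrading n R) ((omBasis i W hW).coord k ω) x =
      xi x.1 i * secVal ((iota n R (i.succAbove k)).app W ω) x := by
  have h1 : (omBasis i W hW).coord k ω = omEquiv i W hW ω k := by
    rw [Module.Basis.coord_apply]
    unfold omBasis
    rw [Module.Basis.ofEquivFun_repr_apply]
  rw [h1, omEquiv_apply, oval_bet]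

/-! ### reindexing the subsets avoiding `i` -/

/-- a `p`-subset of `Fin n` as a `p`-subset of `Fin (n+1)` avoiding `i`. -/
def liftIdx (i : Fin (n + 1)) {p : ℕ} (S : Set.powersetCard (Fin n) p) : Idx n p :=
  Set.powersetCard.map p (Fin.succAboveEmb i) S

lemma notMem_liftIdx (i : Fin (n + 1)) {p : ℕ} (S : Set.powersetCard (Fin n) p) :
    i ∉ (liftIdx i S).1 := by
  unfold liftIdx
  rw [Set.powersetCard.val_map, Finset.mem_map]
  rintro ⟨k, -, hk⟩
  exact Fin.succAbove_ne i k hk

lemma orderEmbOfFin_liftIdx (i : Fin (n + 1)) {p : ℕ} (S : Set.powersetCard (Fin n) p)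
    (a : Fin p) :
    (liftIdx i S).1.orderEmbOfFin (Set.powersetCard.card_eq _) a =
      i.succAbove (S.1.orderEmbOfFin (Set.powersetCard.card_eq S) a) := by
  have h := Finset.orderEmbOfFin_unique (s := (liftIdx i S).1) (Set.powersetCard.card_eq _)
    (f := fun a => i.succAbove (S.1.orderEmbOfFin (Set.powersetCard.card_eq S) a))
    (fun a => by
      unfold liftIdx
      rw [Set.powersetCard.val_map, Finset.mem_map]
      exact ⟨_, Finset.orderEmbOfFin_mem _ _ a, rfl⟩)
    (fun a a' haa' => Fin.strictMono_succAbove i ((S.1.orderEmbOfFin _).strictMono haa'))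
  exact (congrFun h a).symm

lemma exists_liftIdx (i : Fin (n + 1)) {p : ℕ} (T' : Idx n p) (hT : i ∉ T'.1) :
    ∃ S : Set.powersetCard (Fin n) p, liftIdx i S = T' := by
  classical
  have hmap : (Finset.univ.filter (fun k : Fin n => i.succAbove k ∈ T'.1)).map
      (Fin.succAboveEmb i) = T'.1 := by
    ext l
    rw [Finset.mem_map]
    constructor
    · rintro ⟨k, hk, rfl⟩
      exact (Finset.mem_filter.mp hk).2
    · intro hl
      have hne : l ≠ i := fun h => hT (h ▸ hl)
      obtain ⟨k, rfl⟩ := Fin.exists_succAbove_eq hne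
      exact ⟨k, Finset.mem_filter.mpr ⟨Finset.mem_univ _, hl⟩, rfl⟩
  have hcard : (Finset.univ.filter (fun k : Fin n => i.succAbove k ∈ T'.1)).card = p := by
    rw [← Finset.card_map (Fin.succAboveEmb i), hmap]
    exact Set.powersetCard.card_eq T'
  refine ⟨Set.powersetCard.ofCard hcard, ?_⟩
  apply Subtype.ext
  exact hmap

/-! ### the key identity -/

theorem key_identity (i : Fin (n + 1)) {W : (Proj (CohB1.polyGrading n R)).Opens}
    (hW : W ≤ U n R i) {p : ℕ} (S : Set.powersetCard (Fin n) p)
    (ω : Fin p → Γ(Omega.sheaf (pS n R), W)) (x : W) :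
    oval (CohB1.polyGrading n R)
      (exteriorPower.ιMultiDual Γ(Proj (CohB1.polyGrading n R), W) p (omBasis i W hW) S
        (exteriorPower.ιMulti Γ(Proj (CohB1.polyGrading n R), W) p ω)) x * (uinv i hW x) ^ p =
      coord (wedgeK ω) x (liftIdx i S).1 := by
  rw [exteriorPower.ιMultiDual_apply_ιMulti, ← ovalHom_apply, RingHom.map_det,
    coord_wedgeK, minors_of_card _ _ (Set.powersetCard.card_eq (liftIdx i S))]
  have hM : (Matrix.of fun a c => (omBasis i W hW).coord
      (Set.powersetCard.ofFinEmbEquiv.symm S c) (ω a)).map (ovalHom x) =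
      xi x.1 i • ((valMat ω x).submatrix
        ((liftIdx i S).1.orderEmbOfFin (Set.powersetCard.card_eq (liftIdx i S))) id).transpose := by
    ext a c
    rw [Matrix.map_apply, Matrix.of_apply, Matrix.smul_apply, Matrix.transpose_apply,
      Matrix.submatrix_apply, ovalHom_apply, oval_omBasis_coord, orderEmbOfFin_liftIdx,
      Set.powersetCard.ofFinEmbEquiv_symm_apply]
    rfl
  rw [RingHom.mapMatrix_apply, hM, Matrix.det_smul, Matrix.det_transpose, Fintype.card_fin]
  generalize ((valMat ω x).submatrix _ id).det = Dt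
  calc (xi x.1 i) ^ p * Dt * (uinv i hW x) ^ p
      = ((uinv i hW x) ^ p * (xi x.1 i) ^ p) * Dt := by ring
    _ = Dt := by rw [uinv_pow_mul, one_mul]

end Groth.Agent.H2.Bott
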