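import Groth.Agent.Lib.Helper2.BottH
import Groth.Agent.Lib.Helper3.ZClosCover

/-! # An exterior power of `Ω_{P^n}` is the sheaf of cycles of the Koszul complex. -/

set_option autoImplicit false
set_option linter.style.haveILetI false
universe u
open CategoryTheory CategoryTheory.Limits AlgebraicGeometry TopologicalSpace Opposite

namespace Groth.Agent.H2.Bott

open Twist Groth.Agent.LD.TW Groth.Agent.LD.PT Groth.Agent.LD.PN Groth.Agent.H3.Om
open Groth.Agent.LD.QC Groth.Agent.LD.Ann Abelian Groth.Agent.H2.Euler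

attribute [local instance] Abelian.hasFiniteBiproducts

variable {n : ℕ} {R : Type u} [CommRing R] {p : ℕ}

/-- the component of the wedge map at a subset avoiding `i`. -/
noncomputable def Lam (i : Fin (n + 1)) (W : (Proj (CohB1.polyGrading n R)).Opens)
    (S : Set.powersetCard (Fin n) p) :
    ↥(⋀[Γ(Proj (CohB1.polyGrading n R), W)]^p Γ(Omega.sheaf (pS n R), W))
      →ₗ[Γ(Proj (CohB1.polyGrading n R), W)] Γ(T n R p, W) :=
  (appLin (biproduct.π (fun _ : Idx n p => T n R p) (liftIdx i S)) W).comp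
    (exteriorPower.alternatingMapLinearEquiv (wedgeAlt p W))

theorem Lam_eq (i : Fin (n + 1)) {W : (Proj (CohB1.polyGrading n R)).Opens}
    (hW : W ≤ U n R i) (S : Set.powersetCard (Fin n) p) (τ : Γ(T n R p, W))
    (hτ : ∀ x : W, secVal τ x = (uinv i hW x) ^ p)
    (z : ↥(⋀[Γ(Proj (CohB1.polyGrading n R), W)]^p Γ(Omega.sheaf (pS n R), W))) :
    Lam i W S z =
      (exteriorPower.ιMultiDual Γ(Proj (CohB1.polyGrading n R), W) p (omBasis i W hW) S z) • τ := by
  have key : Lam i W S =
      (LinearMap.toSpanSingleton Γ(Proj (CohB1.polyGrading n R), W) Γ(T n R p, W) τ).comp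
        (exteriorPower.ιMultiDual Γ(Proj (CohB1.polyGrading n R), W) p (omBasis i W hW) S) := by
    apply LinearMap.ext_on (exteriorPower.ιMulti_span Γ(Proj (CohB1.polyGrading n R), W) p
      Γ(Omega.sheaf (pS n R), W))
    rintro _ ⟨ω, rfl⟩
    rw [LinearMap.comp_apply, LinearMap.toSpanSingleton_apply]
    unfold Lam
    rw [LinearMap.comp_apply, exteriorPower.alternatingMapLinearEquiv_apply_ιMulti, appLin_apply,
      wedgeAlt_apply]
    apply secVal_ext
    intro x
    rw [← coord_of_card, secVal_smul, hτ, key_identity]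
  exact LinearMap.congr_fun key z

/-- two cycles over an open of a chart with the same components at the subsets avoiding `i` are
equal. -/
theorem eq_of_π_eq (i : Fin (n + 1)) {W : (Proj (CohB1.polyGrading n R)).Opens}
    (hW : W ≤ U n R i) (z₁ z₂ : Γ(K n R p, W))
    (h₁ : (dd n R p).app W z₁ = 0) (h₂ : (dd n R p).app W z₂ = 0)
    (h : ∀ S : Set.powersetCard (Fin n) p,
      (biproduct.π (fun _ : Idx n p => T n R p) (liftIdx i S)).app W z₁ =
        (biproduct.π (fun _ : Idx n p => T n R p) (liftIdx i S)).app W z₂) : z₁ = z₂ := by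
  have h3 : (dd n R p).app W (z₁ - z₂) = 0 := by rw [map_sub, h₁, h₂, sub_zero]
  have h4 : z₁ - z₂ = 0 := by
    apply eq_zero_of_coord_notMem i p hW _ (D_coord_eq_zero _ h3)
    intro x S hS
    by_cases hc : S.card = p
    · obtain ⟨S, rfl⟩ : ∃ S'' : Idx n p, S''.1 = S := ⟨Set.powersetCard.ofCard hc, rfl⟩
      obtain ⟨S₀, rfl⟩ := exists_liftIdx i S hS
      rw [coord_of_card, map_sub, h S₀, sub_self]
      exact secVal_zero x
    · exact coord_of_card_ne _ _ _ hc
  exact sub_eq_zero.mp h4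

variable (L : (Proj (CohB1.polyGrading n R)).Modules)
  (φ : ∀ U : (Proj (CohB1.polyGrading n R)).affineOpens,
    Γ(L, U.1) ≃ₗ[Γ(Proj (CohB1.polyGrading n R), U.1)]
      ↥(⋀[Γ(Proj (CohB1.polyGrading n R), U.1)]^p Γ(Omega.sheaf (pS n R), U.1)))
  (hφ : ∀ (U V : (Proj (CohB1.polyGrading n R)).affineOpens) (h : V.1 ≤ U.1)
    (e : Fin p → Γ(Omega.sheaf (pS n R), U.1)),
    L.presheaf.map (homOfLE h).op ((φ U).symm (exteriorPower.ιMulti _ p e)) =
      (φ V).symm (exteriorPower.ιMulti _ p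
        (fun j => (Omega.sheaf (pS n R)).presheaf.map (homOfLE h).op (e j))))

lemma π_alphaLoc (i : Fin (n + 1)) (W : (Proj (CohB1.polyGrading n R)).affineOpens)
    (S : Set.powersetCard (Fin n) p) (s : Γ(L, W.1)) :
    (biproduct.π (fun _ : Idx n p => T n R p) (liftIdx i S)).app W.1 (alphaLoc L φ W s) =
      Lam i W.1 S (φ W s) := rfl

lemma ι_alphaBar_app (W : (Proj (CohB1.polyGrading n R)).affineOpens) (s : Γ(L, W.1)) :
    (kernel.ι (dd n R p)).app W.1 ((alphaBar L φ hφ).app W.1 s) = alphaLoc L φ W s := by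
  rw [← comp_app', alphaBar_ι, alpha_app]

/-- **the comparison map is bijective over the affine opens of the charts.** -/
theorem bijective_alphaBar_app (i : Fin (n + 1))
    (W : (Proj (CohB1.polyGrading n R)).affineOpens) (hW : W.1 ≤ U n R i) :
    Function.Bijective ((alphaBar L φ hφ).app W.1) := by
  obtain ⟨τ, hτ⟩ := exists_tau i hW p
  have hbij := bijective_smul_tau i hW p τ hτ
  constructor
  · intro s s' hss
    have h1 : alphaLoc L φ W s = alphaLoc L φ W s' := by
      rw [← ι_alphaBar_app L φ hφ, ← ι_alphaBar_app L φ hφ, hss]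
    apply (φ W).injective
    apply ((omBasis i W.1 hW).exteriorPower p).repr.injective
    ext S
    rw [exteriorPower.basis_repr_apply, exteriorPower.basis_repr_apply]
    apply hbij.1
    change _ • τ = _ • τ
    rw [← Lam_eq i hW S τ hτ, ← Lam_eq i hW S τ hτ, ← π_alphaLoc, ← π_alphaLoc, h1]
  · intro ζ
    have hz : (dd n R p).app W.1 ((kernel.ι (dd n R p)).app W.1 ζ) = 0 := by
      rw [← comp_app', kernel.condition]
      rfl
    choose a ha using fun S : Set.powersetCard (Fin n) p =>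
      hbij.2 ((biproduct.π (fun _ : Idx n p => T n R p) (liftIdx i S)).app W.1
        ((kernel.ι (dd n R p)).app W.1 ζ))
    refine ⟨(φ W).symm (((omBasis i W.1 hW).exteriorPower p).equivFun.symm a), ?_⟩
    apply Groth.Agent.H3.ZClosLib.app_injective_of_mono (kernel.ι (dd n R p)) W.1
    rw [ι_alphaBar_app]
    apply eq_of_π_eq i hW _ _ (dd_alphaLoc L φ W _) hz
    intro S
    rw [π_alphaLoc, LinearEquiv.apply_symm_apply, Lam_eq i hW S τ hτ, ← ha S]
    change _ • τ = _ • τ
    congr 1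
    rw [← exteriorPower.basis_repr_apply, ← Module.Basis.equivFun_apply,
      LinearEquiv.apply_symm_apply]

instance isIso_alphaBar : IsIso (alphaBar L φ hφ) := by
  apply Groth.Agent.H3.ZClosCover.isIso_of_bijective_basis _
    {V | IsAffineOpen V ∧ ∃ i, V ≤ U n R i}
  · rw [Opens.isBasis_iff_nbhd]
    intro O x hx
    obtain ⟨i, hi⟩ := exists_mem_U n R x
    obtain ⟨V, hV, hxV, hVO⟩ := exists_isAffineOpen_mem_and_subset (x := x)
      (U := O ⊓ U n R i) ⟨hx, hi⟩
    exact ⟨V, ⟨hV, i, fun y hy => (hVO hy).2⟩, hxV, fun y hy => (hVO hy).1⟩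
  · rintro V ⟨hV, i, hVi⟩
    exact bijective_alphaBar_app L φ hφ i ⟨V, hV⟩ hVi

omit φ hφ in
/-- **an exterior power of `Ω_{P^n_R}` is the sheaf of cycles of the Koszul complex.** -/
theorem nonempty_iso_Z (hL : ExtPow.IsExtPow p (Omega.sheaf (pS n R)) L) :
    Nonempty (L ≅ Z n R p) := by
  obtain ⟨φ, hφ⟩ := hL
  exact ⟨@asIso _ _ _ _ (alphaBar L φ hφ) (isIso_alphaBar L φ hφ)⟩

end Groth.Agent.H2.Bott
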