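import Groth.Agent.Lib.Helper2.BottI
import Groth.Agent.Lib.Lead.QC.TensorExact
import Groth.Agent.Lib.Lead.QC.TwistExt
import Groth.Agent.Lib.Lead.CohLES.Vanish
import Groth.Agent.Lib.Lead.PN.H0
import Groth.Agent.Lib.Lead.PN.Koszul
import Groth.Agent.Lib.Lead.TW.Deg1

/-! # The twisted sequences `0 → Z_{p+1}(t) → K_{p+1}(t) → Z_p(t) → 0` and the cohomology of
`K_p(t)`. -/

set_option autoImplicit false
set_option linter.style.haveILetI false
universe u
open CategoryTheory CategoryTheory.Limits AlgebraicGeometry TopologicalSpace Opposite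

namespace Groth.Agent.H2.Bott

open Twist Groth.Agent.LD Groth.Agent.LD.TW Groth.Agent.LD.PT Groth.Agent.LD.PN Groth.Agent.H3.Om
open Groth.Agent.LD.QC Groth.Agent.LD.Ann Abelian Groth.Agent.H2.Euler

attribute [local instance] Abelian.hasFiniteBiproducts

variable (n : ℕ) (R : Type u) [CommRing R]

/-- `O(a) ⊗ O(b) ≅ O(a + b)` on projective space over a ring. -/
noncomputable def twMulIso (a b : ℤ) :
    CohB1.tensorMod (twist (CohB1.polyGrading n R) a) (twist (CohB1.polyGrading n R) b) ≅
      twist (CohB1.polyGrading n R) (a + b) :=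
  haveI := isIso_mulTensor_of_span (X_range_mem n R) (irrelevant_eq_span n R) a b
  asIso (mulTensor (CohB1.polyGrading n R) a b)

/-- `O(a) ⊗ O(b) ≅ O(c)`, `c = a + b`. -/
noncomputable def twMulIso' (a b c : ℤ) (h : a + b = c) :
    CohB1.tensorMod (twist (CohB1.polyGrading n R) a) (twist (CohB1.polyGrading n R) b) ≅
      twist (CohB1.polyGrading n R) c :=
  twMulIso n R a b ≪≫ eqToIso (by rw [h])

/-- the twist `Z_p(t)`. -/
noncomputable abbrev Zt (p : ℕ) (t : ℤ) : (Proj (CohB1.polyGrading n R)).Modules :=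
  CohB1.tensorMod (Z n R p) (twist (CohB1.polyGrading n R) t)

/-- the twist `K_p(t)`. -/
noncomputable abbrev Kt (p : ℕ) (t : ℤ) : (Proj (CohB1.polyGrading n R)).Modules :=
  CohB1.tensorMod (K n R p) (twist (CohB1.polyGrading n R) t)

instance qc_Zt (p : ℕ) (t : ℤ) : (Zt n R p t).IsQuasicoherent := kG_qc n R (Z n R p) t

instance qc_Kt (p : ℕ) (t : ℤ) : (Kt n R p t).IsQuasicoherent := kG_qc n R (K n R p) t

/-- the twisted short complex `Z_{p+1}(t) → K_{p+1}(t) → Z_p(t)`. -/
noncomputable def sesZt (p : ℕ) (t : ℤ) : ShortComplex (Proj (CohB1.polyGrading n R)).Modules :=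
  ShortComplex.mk
    (KoszTw.tensorMap (kernel.ι (d n R p)) (𝟙 (twist (CohB1.polyGrading n R) t)))
    (KoszTw.tensorMap (toZ n R p) (𝟙 (twist (CohB1.polyGrading n R) t)))
    (by
      rw [← tensorMap_comp_id]
      have h : kernel.ι (d n R p) ≫ toZ n R p = 0 := by
        apply (cancel_mono (kernel.ι (dd n R p))).1
        rw [Category.assoc, toZ_ι, kernel.condition, zero_comp]
      rw [h, tensorMap_zero_id (isInvertible_twist n R t)])

theorem shortExact_sesZt (p : ℕ) (t : ℤ) : (sesZt n R p t).ShortExact :=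
  shortExact_tensorMap_of_isInvertible (shortExact_Z n R p) (twist (CohB1.polyGrading n R) t)
    (isInvertible_twist n R t)

lemma sesZt_X₁ (p : ℕ) (t : ℤ) : (sesZt n R p t).X₁ = Zt n R (p + 1) t := rfl
lemma sesZt_X₂ (p : ℕ) (t : ℤ) : (sesZt n R p t).X₂ = Kt n R (p + 1) t := rfl
lemma sesZt_X₃ (p : ℕ) (t : ℤ) : (sesZt n R p t).X₃ = Zt n R p t := rfl

/-- the cohomology of the image of a finite biproduct under an additive functor vanishes if that
of the images of the summands does. -/
theorem subsingleton_HH_map_biproduct {X : Scheme.{u}} (F : X.Modules ⥤ X.Modules) [F.Additive]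
    {J : Type} [Fintype J] (f : J → X.Modules) (q : ℕ)
    (h : ∀ j, Subsingleton (Coh.HH X (F.obj (f j)) q)) :
    Subsingleton (Coh.HH X (F.obj (⨁ f)) q) := by
  refine CL.subsingleton_of_total (fun j => F.obj (f j)) (fun j => F.map (biproduct.ι f j))
    (fun j => F.map (biproduct.π f j)) ?_ q h
  have h1 : ∀ j : J, F.map (biproduct.π f j) ≫ F.map (biproduct.ι f j) =
      F.map (biproduct.π f j ≫ biproduct.ι f j) := fun j => (Functor.map_comp _ _ _).symm
  rw [Finset.sum_congr rfl (fun j _ => h1 j), ← Functor.map_sum, biproduct.total,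
    CategoryTheory.Functor.map_id]

/-- the cohomology of `K_p(t)` vanishes when that of `O(t - p)` does. -/
theorem subsingleton_HH_Kt (p : ℕ) (t m : ℤ) (hm : m = t - p) (q : ℕ)
    (h : Subsingleton (Coh.HH (Proj (CohB1.polyGrading n R)) (twist (CohB1.polyGrading n R) m) q)) :
    Subsingleton (Coh.HH (Proj (CohB1.polyGrading n R)) (Kt n R p t) q) := by
  have hQ : Subsingleton (Coh.HH (Proj (CohB1.polyGrading n R))
      (CohB1.tensorMod (T n R p) (twist (CohB1.polyGrading n R) t)) q) :=
    CL.subsingleton_of_iso (twMulIso' n R (-(p : ℤ)) t m (by omega)).symm q h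
  exact subsingleton_HH_map_biproduct (twF (twist (CohB1.polyGrading n R) t))
    (fun _ : Idx n p => T n R p) q (fun _ => hQ)

end Groth.Agent.H2.Bott
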