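import Groth.Agent.Lib.Helper2.BottJ
import Groth.Agent.Lib.Lead.CohLES.Euler
import Groth.Agent.Lib.Lead.PN.Finite

/-! # Bott vanishing for the sheaves of cycles `Z_p(t)` on `P^n_R`. -/

set_option autoImplicit false
set_option linter.style.haveILetI false
universe u
open CategoryTheory CategoryTheory.Limits AlgebraicGeometry TopologicalSpace Opposite

namespace Groth.Agent.H2.Bott

open Twist Groth.Agent.LD Groth.Agent.LD.TW Groth.Agent.LD.PT Groth.Agent.LD.PN Groth.Agent.H3.Om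
open Groth.Agent.LD.QC Groth.Agent.LD.Ann Abelian Groth.Agent.H2.Euler

attribute [local instance] Abelian.hasFiniteBiproducts

variable (n : ℕ) (R : Type u) [CommRing R]

instance uniqueIdxZero : Unique (Idx n 0) where
  default := Set.powersetCard.ofCard (s := ∅) Finset.card_empty
  uniq S := Subtype.ext (Finset.card_eq_zero.mp (Set.powersetCard.card_eq S))

/-- `Z_0 = K_0 = O(0)`. -/
noncomputable def isoZ0 : Z n R 0 ≅ twist (CohB1.polyGrading n R) 0 :=
  (kernelZeroIsoSource : kernel (0 : K n R 0 ⟶ K n R (0 - 1)) ≅ K n R 0) ≪≫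
    (biproductUniqueIso (fun _ : Idx n 0 => T n R 0) : K n R 0 ≅ T n R 0) ≪≫
    eqToIso (by
      change twist (CohB1.polyGrading n R) (-((0 : ℕ) : ℤ)) = twist (CohB1.polyGrading n R) 0
      rw [Nat.cast_zero, neg_zero])

lemma isEmpty_Idx (p : ℕ) (hp : n + 2 ≤ p) : IsEmpty (Idx n p) := by
  constructor
  intro S
  have h1 := Set.powersetCard.card_eq S
  have h2 := Finset.card_le_univ S.1
  rw [Fintype.card_fin] at h2
  omega

theorem isZero_K (p : ℕ) (hp : n + 2 ≤ p) : IsZero (K n R p) := by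
  haveI := isEmpty_Idx n p hp
  rw [IsZero.iff_id_eq_zero, ← biproduct.total, Finset.univ_eq_empty, Finset.sum_empty]

theorem isZero_Z (p : ℕ) (hp : n + 1 ≤ p) : IsZero (Z n R p) :=
  IsZero.of_epi (toZ n R p) (isZero_K n R (p + 1) (by omega))

theorem isZero_Zt (p : ℕ) (hp : n + 1 ≤ p) (t : ℤ) : IsZero (Zt n R p t) :=
  (twF (twist (CohB1.polyGrading n R) t)).map_isZero (isZero_Z n R p hp)

/-- `Z_0(t) ≅ O(t)`. -/
noncomputable def isoZt0 (t : ℤ) : Zt n R 0 t ≅ twist (CohB1.polyGrading n R) t :=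
  (twF (twist (CohB1.polyGrading n R) t)).mapIso (isoZ0 n R) ≪≫ twMulIso' n R 0 t t (zero_add t)

/-- the ascending induction. -/
theorem vanish_asc : ∀ (p : ℕ) (t : ℤ) (q : ℕ), ¬ ((q : ℤ) ≤ p ∧ (p : ℤ) - q ≤ t) →
    ¬ (q = n ∧ t ≤ (p : ℤ) - n - 1) →
    Subsingleton (Coh.HH (Proj (CohB1.polyGrading n R)) (Zt n R p t) q)
  | 0, t, q, h1, h2 =>
    CL.subsingleton_of_iso (isoZt0 n R t).symm q
      (subsingleton_HH_twist_all n R t q (fun h => h1 (by omega)) (fun h => h2 (by omega)))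
  | p + 1, t, q, h1, h2 => by
    by_cases hq : n < q
    · exact subsingleton_HH_of_lt n R (Zt n R (p + 1) t) q hq
    have hS := shortExact_sesZt n R p t
    cases q with
    | zero =>
      have h0 : Subsingleton (Coh.HH (Proj (CohB1.polyGrading n R)) (Kt n R (p + 1) t) 0) :=
        subsingleton_HH_Kt n R (p + 1) t (t - ((p + 1 : ℕ) : ℤ)) rfl 0
          (subsingleton_HH_twist_all n R _ 0 (fun h => h1 (by omega)) (fun h => h2 (by omega)))
      haveI : Subsingleton (Coh.HH (Proj (CohB1.polyGrading n R)) (sesZt n R p t).X₂ 0) := h0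
      exact (CL.HHmap_f_injective R hS).subsingleton
    | succ q' =>
      have h3 : Subsingleton (Coh.HH (Proj (CohB1.polyGrading n R)) (Zt n R p t) q') :=
        vanish_asc p t q' (fun h => h1 (by omega)) (fun h => by omega)
      have h2' : Subsingleton (Coh.HH (Proj (CohB1.polyGrading n R)) (Kt n R (p + 1) t) (q' + 1)) :=
        subsingleton_HH_Kt n R (p + 1) t (t - ((p + 1 : ℕ) : ℤ)) rfl (q' + 1)
          (subsingleton_HH_twist_all n R _ (q' + 1) (fun h => by omega) (fun h => h2 (by omega)))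
      exact CL.subsingleton_left hS q' h3 h2'

/-- the descending induction. -/
theorem vanish_desc : ∀ (m p : ℕ), p + m = n + 1 → ∀ (t : ℤ) (q : ℕ),
    ¬ (q = 0 ∧ (p : ℤ) + 1 ≤ t) → ¬ ((p : ℤ) ≤ q ∧ t ≤ (p : ℤ) - q) →
    Subsingleton (Coh.HH (Proj (CohB1.polyGrading n R)) (Zt n R p t) q)
  | 0, p, hp, t, q, _, _ => CL.subsingleton_HH_of_isZero (isZero_Zt n R p (by omega) t) q
  | m + 1, p, hp, t, q, h1, h2 => by
    have hS := shortExact_sesZt n R p t
    have h2' : Subsingleton (Coh.HH (Proj (CohB1.polyGrading n R)) (Kt n R (p + 1) t) q) :=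
      subsingleton_HH_Kt n R (p + 1) t (t - ((p + 1 : ℕ) : ℤ)) rfl q
        (subsingleton_HH_twist_all n R _ q (fun h => h1 (by omega)) (fun h => h2 (by omega)))
    have h1' : Subsingleton (Coh.HH (Proj (CohB1.polyGrading n R)) (Zt n R (p + 1) t) (q + 1)) :=
      vanish_desc m (p + 1) (by omega) t (q + 1) (fun h => by omega) (fun h => h2 (by omega))
    exact CL.subsingleton_right hS q h2' h1'

/-- **Bott vanishing** for the sheaves of cycles of the Koszul complex. -/
theorem bott_vanishing (hn : 1 ≤ n) (p : ℕ) (t : ℤ) (q : ℕ)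
    (h1 : ¬ (q = 0 ∧ (p : ℤ) < t)) (h2 : ¬ (q = n ∧ t < (p : ℤ) - n))
    (h3 : ¬ (q = p ∧ t = 0)) :
    Subsingleton (Coh.HH (Proj (CohB1.polyGrading n R)) (Zt n R p t) q) := by
  by_cases hp : n + 1 ≤ p
  · exact CL.subsingleton_HH_of_isZero (isZero_Zt n R p hp t) q
  by_cases hA : ((q : ℤ) ≤ p ∧ (p : ℤ) - q ≤ t) ∨ (q = n ∧ t ≤ (p : ℤ) - n - 1)
  · exact vanish_desc n R (n + 1 - p) p (by omega) t q (fun h => by omega) (fun h => by omega)
  · exact vanish_asc n R p t q (fun h => hA (Or.inl h)) (fun h => hA (Or.inr h))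

end Groth.Agent.H2.Bott
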