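import Groth.Agent.Lib.Helper2.BottK
import Groth.Agent.Lib.Lead.PN.H0Lin

/-! # `H^p(P^n_R, Z_p)` is free of rank one. -/

set_option autoImplicit false
set_option linter.style.haveILetI false
universe u
open CategoryTheory CategoryTheory.Limits AlgebraicGeometry TopologicalSpace Opposite

namespace Groth.Agent.H2.Bott

open Twist Groth.Agent.LD Groth.Agent.LD.TW Groth.Agent.LD.PT Groth.Agent.LD.PN Groth.Agent.H3.Om
open Groth.Agent.LD.QC Groth.Agent.LD.Ann Abelian Groth.Agent.H2.Euler

attribute [local instance] Abelian.hasFiniteBiproducts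

section general

variable {X : Scheme.{u}} (A : Type u) [CommRing A] [X.Over (Spec (CommRingCat.of A))]

/-- isomorphic modules have linearly isomorphic cohomology. -/
noncomputable def HHEquivOfIso {M N : X.Modules} (e : M ≅ N) (i : ℕ) :
    Coh.HH X M i ≃ₗ[A] Coh.HH X N i :=
  LinearEquiv.ofLinearMap (CL.HHmap A e.hom i) (CL.HHmap A e.inv i)
    (by rw [← CL.HHmap_comp, e.inv_hom_id, CL.HHmap_id])
    (by rw [← CL.HHmap_comp, e.hom_inv_id, CL.HHmap_id])

/-- the connecting homomorphism is an isomorphism when the cohomology of the middle term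
vanishes. -/
noncomputable def deltaEquiv {S : ShortComplex X.Modules} (hS : S.ShortExact) (i : ℕ)
    (h2 : Subsingleton (Coh.HH X S.X₂ i)) (h2' : Subsingleton (Coh.HH X S.X₂ (i + 1))) :
    Coh.HH X S.X₃ i ≃ₗ[A] Coh.HH X S.X₁ (i + 1) :=
  LinearEquiv.ofBijective (CL.HHδ hS A i) (by
    constructor
    · rw [injective_iff_map_eq_zero]
      intro x hx
      obtain ⟨x₂, rfl⟩ := CL.exact₃ hS A i x hx
      rw [Subsingleton.elim x₂ 0, map_zero]
    · intro x₁
      exact CL.exact₁ hS A i x₁ (Subsingleton.elim _ _))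

end general

variable (n : ℕ) (R : Type u) [CommRing R]

/-- polynomials of degree `0` are the constants. -/
noncomputable def homogeneousZeroEquiv :
    ↥(MvPolynomial.homogeneousSubmodule (Fin (n + 1)) R 0) ≃ₗ[R] R :=
  (LinearEquiv.ofEq _ _
    ((MvPolynomial.homogeneousSubmodule_zero (σ := Fin (n + 1)) (R := R)).trans
      Submodule.one_eq_range)).trans
    (LinearEquiv.ofInjective (Algebra.linearMap R (MvPolynomial (Fin (n + 1)) R))
      (MvPolynomial.C_injective (Fin (n + 1)) R)).symm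

/-- the untwisted Koszul terms `K_p`, `1 ≤ p ≤ n`, have no cohomology. -/
theorem subsingleton_HH_K (p : ℕ) (hp1 : 1 ≤ p) (hpn : p ≤ n) (q : ℕ) :
    Subsingleton (Coh.HH (Proj (CohB1.polyGrading n R)) (K n R p) q) :=
  subsingleton_HH_map_biproduct (𝟭 _) (fun _ : Idx n p => T n R p) q
    (fun _ => subsingleton_HH_twist_all n R (-(p : ℤ)) q (fun h => by omega) (fun h => by omega))

/-- **`H^p(P^n_R, Z_p)` is free of rank one**, `p ≤ n`. -/
theorem nonempty_HH_Z_equiv : ∀ p : ℕ, p ≤ n →
    Nonempty (Coh.HH (Proj (CohB1.polyGrading n R)) (Z n R p) p ≃ₗ[R] R)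
  | 0, _ => by
    have e1 := HHEquivOfIso R (isoZ0 n R) 0
    have e2 : Coh.HH (Proj (CohB1.polyGrading n R)) (twist (CohB1.polyGrading n R) 0) 0 ≃ₗ[R]
        ↥(MvPolynomial.homogeneousSubmodule (Fin (n + 1)) R 0) := H0LinearEquiv n R 0
    exact ⟨(e1.trans e2).trans (homogeneousZeroEquiv n R)⟩
  | p + 1, hp => by
    obtain ⟨e⟩ := nonempty_HH_Z_equiv p (by omega)
    have e1 := deltaEquiv R (shortExact_Z n R p) p
      (subsingleton_HH_K n R (p + 1) (by omega) hp p)
      (subsingleton_HH_K n R (p + 1) (by omega) hp (p + 1))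
    exact ⟨e1.symm.trans e⟩

end Groth.Agent.H2.Bott
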