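import Groth.Agent.Lib.Helper2.BottL

/-! # Bott's theorem for an exterior power of `Ω_{P^n_R}`: vanishing and the rank one statement. -/

set_option autoImplicit false
set_option linter.style.haveILetI false
universe u
open CategoryTheory CategoryTheory.Limits AlgebraicGeometry TopologicalSpace Opposite

namespace Groth.Agent.H2.Bott

open Twist Groth.Agent.LD Groth.Agent.LD.TW Groth.Agent.LD.PT Groth.Agent.LD.PN Groth.Agent.H3.Om
open Groth.Agent.LD.QC Groth.Agent.LD.Ann Abelian Groth.Agent.H2.Euler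

attribute [local instance] Abelian.hasFiniteBiproducts

variable (n : ℕ) (R : Type u) [CommRing R]

/-- `M ⊗ O(0) ≅ M`. -/
noncomputable def twZeroIso (M : (Proj (CohB1.polyGrading n R)).Modules) :
    CohB1.tensorMod M (twist (CohB1.polyGrading n R) 0) ≅ M :=
  (twFCongr (twistZeroIso (CohB1.polyGrading n R))).app M ≪≫ twFUnit.app M

/-- Bott vanishing, with hypotheses only needed for `p ≤ n`. -/
theorem bott_vanishing' (hn : 1 ≤ n) (p : ℕ) (t : ℤ) (q : ℕ)
    (h : p ≤ n → ¬ (q = 0 ∧ (p : ℤ) < t) ∧ ¬ (q = n ∧ t < (p : ℤ) - n) ∧ ¬ (q = p ∧ t = 0)) :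
    Subsingleton (Coh.HH (Proj (CohB1.polyGrading n R)) (Zt n R p t) q) := by
  by_cases hp : n + 1 ≤ p
  · exact CL.subsingleton_HH_of_isZero (isZero_Zt n R p hp t) q
  · obtain ⟨h1, h2, h3⟩ := h (by omega)
    exact bott_vanishing n R hn p t q h1 h2 h3

variable {n R} {p : ℕ} (L : (Proj (CohB1.polyGrading n R)).Modules)
  (hL : ExtPow.IsExtPow p (Omega.sheaf (pS n R)) L)

include hL

/-- Bott vanishing for the twists of an exterior power of `Ω`. -/
theorem subsingleton_HH_extPow_twist (hn : 1 ≤ n) (t : ℤ) (q : ℕ)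
    (h : p ≤ n → ¬ (q = 0 ∧ (p : ℤ) < t) ∧ ¬ (q = n ∧ t < (p : ℤ) - n) ∧ ¬ (q = p ∧ t = 0)) :
    Subsingleton (Coh.HH (Proj (CohB1.polyGrading n R))
      (CohB1.tensorMod L (twist (CohB1.polyGrading n R) t)) q) := by
  obtain ⟨e⟩ := nonempty_iso_Z L hL
  exact CL.subsingleton_of_iso ((twF (twist (CohB1.polyGrading n R) t)).mapIso e).symm q
    (bott_vanishing' n R hn p t q h)

/-- Bott vanishing for an exterior power of `Ω`. -/
theorem subsingleton_HH_extPow (hn : 1 ≤ n) (q : ℕ) (h : p ≠ q ∨ n < p) :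
    Subsingleton (Coh.HH (Proj (CohB1.polyGrading n R)) L q) := by
  refine CL.subsingleton_of_iso (twZeroIso n R L) q
    (subsingleton_HH_extPow_twist L hL hn 0 q (fun hp => ⟨fun h1 => ?_, fun h2 => ?_, fun h3 => ?_⟩))
  · have := h1.2
    omega
  · have := h2.2
    omega
  · rcases h with h | h
    · exact h h3.1.symm
    · omega

/-- **`H^p(P^n_R, Ω^p)` is free of rank one.** -/
theorem nonempty_HH_extPow_equiv (hp : p ≤ n) :
    Nonempty (Coh.HH (Proj (CohB1.polyGrading n R)) L p ≃ₗ[R] R) := by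
  obtain ⟨e⟩ := nonempty_iso_Z L hL
  obtain ⟨e'⟩ := nonempty_HH_Z_equiv n R p hp
  exact ⟨(HHEquivOfIso R e p).trans e'⟩

end Groth.Agent.H2.Bott
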