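import Groth.Agent.Lib.Helper2.BottM
import Groth.Agent.Lib.Lead.PN.Euler

/-! # Dimensions of cohomology: additivity in short exact sequences, finite direct sums, and the
twisting sheaves on `P^n_k`. -/

set_option autoImplicit false
set_option linter.style.haveILetI false
universe u
open CategoryTheory CategoryTheory.Limits AlgebraicGeometry TopologicalSpace Opposite

namespace Groth.Agent.H2.Bott

open Twist Groth.Agent.LD Groth.Agent.LD.TW Groth.Agent.LD.PT Groth.Agent.LD.PN Groth.Agent.H3.Om
open Groth.Agent.LD.QC Groth.Agent.LD.Ann Abelian Groth.Agent.H2.Euler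

attribute [local instance] Abelian.hasFiniteBiproducts

/-- additivity of the dimension in a short exact sequence of vector spaces. -/
theorem finrank_add_of_exact {k V₁ V₂ V₃ : Type*} [Field k] [AddCommGroup V₁] [Module k V₁]
    [AddCommGroup V₂] [Module k V₂] [AddCommGroup V₃] [Module k V₃] [Module.Finite k V₂]
    (f : V₁ →ₗ[k] V₂) (g : V₂ →ₗ[k] V₃) (hf : Function.Injective f)
    (hg : Function.Surjective g) (hgf : ∀ x, g (f x) = 0) (hex : ∀ y, g y = 0 → ∃ x, f x = y) :
    Module.finrank k V₂ = Module.finrank k V₁ + Module.finrank k V₃ := by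
  have h1 := LinearMap.finrank_range_add_finrank_ker g
  have h2 : LinearMap.range g = ⊤ := LinearMap.range_eq_top.mpr hg
  have h3 : LinearMap.ker g = LinearMap.range f := by
    ext y
    rw [LinearMap.mem_ker, LinearMap.mem_range]
    constructor
    · exact hex y
    · rintro ⟨x, rfl⟩
      exact hgf x
  rw [h2, finrank_top, h3, LinearMap.finrank_range_of_inj hf] at h1
  omega

section general

variable {X : Scheme.{u}} (k : Type u) [Field k] [X.Over (Spec (CommRingCat.of k))]

/-- additivity of the dimension of cohomology in a fixed degree, when the long exact sequence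
breaks up there. -/
theorem finrank_HH_add {S : ShortComplex X.Modules} (hS : S.ShortExact) (i : ℕ)
    [Module.Finite k (Coh.HH X S.X₂ i)]
    (hf : Function.Injective (CL.HHmap k S.f i)) (hg : Function.Surjective (CL.HHmap k S.g i)) :
    Module.finrank k (Coh.HH X S.X₂ i) =
      Module.finrank k (Coh.HH X S.X₁ i) + Module.finrank k (Coh.HH X S.X₃ i) :=
  finrank_add_of_exact (CL.HHmap k S.f i) (CL.HHmap k S.g i) hf hg
    (fun x => CL.HHmap_g_f k i x) (fun y hy => CL.exact₂ hS k i y hy)

/-- the cohomology of the image of a finite direct sum of copies of `N` under an additive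
functor. -/
noncomputable def HHBiproductEquiv (F : X.Modules ⥤ X.Modules) [F.Additive] {J : Type}
    [Fintype J] (N : X.Modules) (i : ℕ) :
    Coh.HH X (F.obj (⨁ fun _ : J => N)) i ≃ₗ[k] (J → Coh.HH X (F.obj N) i) where
  toFun x j := CL.HHmap k (F.map (biproduct.π (fun _ : J => N) j)) i x
  map_add' x y := by funext j; exact map_add _ _ _
  map_smul' c x := by funext j; exact map_smul _ _ _
  invFun y := ∑ j, CL.HHmap k (F.map (biproduct.ι (fun _ : J => N) j)) i (y j)
  left_inv x := by
    classical
    have h1 : ∀ j, CL.HHmap k (F.map (biproduct.ι (fun _ : J => N) j)) i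
        (CL.HHmap k (F.map (biproduct.π (fun _ : J => N) j)) i x) =
        CL.HHmap k (F.map (biproduct.π (fun _ : J => N) j ≫ biproduct.ι (fun _ : J => N) j))
          i x := fun j => by
      rw [Functor.map_comp, CL.HHmap_comp]
      rfl
    change ∑ j, CL.HHmap k (F.map (biproduct.ι (fun _ : J => N) j)) i
      (CL.HHmap k (F.map (biproduct.π (fun _ : J => N) j)) i x) = x
    rw [Finset.sum_congr rfl (fun j _ => h1 j)]
    have h2 := congrArg (fun f => f x) (CL.HHmap_sum k Finset.univ
      (fun j => F.map (biproduct.π (fun _ : J => N) j ≫ biproduct.ι (fun _ : J => N) j)) i)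
    simp only [LinearMap.sum_apply] at h2
    rw [← h2, ← Functor.map_sum, biproduct.total, CategoryTheory.Functor.map_id, CL.HHmap_id]
    rfl
  right_inv y := by
    classical
    funext j
    change CL.HHmap k (F.map (biproduct.π (fun _ : J => N) j)) i
      (∑ l, CL.HHmap k (F.map (biproduct.ι (fun _ : J => N) l)) i (y l)) = y j
    rw [map_sum]
    have h1 : ∀ l, CL.HHmap k (F.map (biproduct.π (fun _ : J => N) j)) i
        (CL.HHmap k (F.map (biproduct.ι (fun _ : J => N) l)) i (y l)) =
        if l = j then y l else 0 := fun l => by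
      have h3 : CL.HHmap k (F.map (biproduct.π (fun _ : J => N) j)) i
          (CL.HHmap k (F.map (biproduct.ι (fun _ : J => N) l)) i (y l)) =
          CL.HHmap k (F.map (biproduct.ι (fun _ : J => N) l ≫
            biproduct.π (fun _ : J => N) j)) i (y l) := by
        rw [Functor.map_comp, CL.HHmap_comp]
        rfl
      rw [h3]
      split_ifs with hlj
      · subst hlj
        rw [biproduct.ι_π_self, CategoryTheory.Functor.map_id, CL.HHmap_id]
        rfl
      · rw [biproduct.ι_π_ne _ hlj, Functor.map_zero]
        have h0 : CL.HHmap k (0 : F.obj N ⟶ F.obj N) i = 0 := by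
          have := CL.HHmap_add k (0 : F.obj N ⟶ F.obj N) 0 i
          rw [add_zero] at this
          exact left_eq_add.mp this
        rw [h0]
        rfl
    rw [Finset.sum_congr rfl (fun l _ => h1 l), Finset.sum_ite_eq' Finset.univ j]
    simp

theorem finrank_HH_map_biproduct (F : X.Modules ⥤ X.Modules) [F.Additive] {J : Type}
    [Fintype J] (N : X.Modules) (i : ℕ) [Module.Finite k (Coh.HH X (F.obj N) i)] :
    Module.finrank k (Coh.HH X (F.obj (⨁ fun _ : J => N)) i) =
      Fintype.card J * Module.finrank k (Coh.HH X (F.obj N) i) := by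
  rw [(HHBiproductEquiv k F (J := J) N i).finrank_eq, Module.finrank_pi_fintype,
    Finset.sum_const, Finset.card_univ, smul_eq_mul]

theorem finite_HH_map_biproduct (F : X.Modules ⥤ X.Modules) [F.Additive] {J : Type}
    [Fintype J] (N : X.Modules) (i : ℕ) [Module.Finite k (Coh.HH X (F.obj N) i)] :
    Module.Finite k (Coh.HH X (F.obj (⨁ fun _ : J => N)) i) :=
  Module.Finite.equiv (HHBiproductEquiv k F (J := J) N i).symm

end general

end Groth.Agent.H2.Bott
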