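import Groth.Agent.Lib.Helper2.BottN

/-! # Dimensions of the cohomology of `O(m)` and of `K_p(t)` on `P^n_k`. -/

set_option autoImplicit false
set_option linter.style.haveILetI false
universe u
open CategoryTheory CategoryTheory.Limits AlgebraicGeometry TopologicalSpace Opposite

namespace Groth.Agent.H2.Bott

open Twist Groth.Agent.LD Groth.Agent.LD.TW Groth.Agent.LD.PT Groth.Agent.LD.PN Groth.Agent.H3.Om
open Groth.Agent.LD.QC Groth.Agent.LD.Ann Abelian Groth.Agent.H2.Euler

attribute [local instance] Abelian.hasFiniteBiproducts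

variable (n : ℕ) (k : Type u) [Field k]

theorem finrank_HH0_twist (d : ℕ) :
    Module.finrank k (Coh.HH (Proj (CohB1.polyGrading n k))
      (twist (CohB1.polyGrading n k) (d : ℤ)) 0) = (d + n).choose n :=
  (LinearEquiv.finrank_eq (H0LinearEquiv n k d)).trans (finrank_homogeneousSubmodule k n d)

theorem finrank_HHtop_twist (e : ℕ) :
    Module.finrank k (Coh.HH (Proj (CohB1.polyGrading n k))
      (twist (CohB1.polyGrading n k) (-((n : ℤ) + 1 + e))) n) = (e + n).choose n := by
  cases n with
  | zero =>
    exact (LinearEquiv.finrank_eq (H0ZeroLinearEquiv k e)).trans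
      (finrank_homogeneousSubmodule k 0 e)
  | succ m =>
    exact (LinearEquiv.finrank_eq (HHTopLinearEquiv k m e)).trans
      (finrank_homogeneousSubmodule k (m + 1) e)

theorem card_Idx (p : ℕ) : Fintype.card (Idx n p) = (n + 1).choose p := by
  rw [← Nat.card_eq_fintype_card, Set.powersetCard.card, Nat.card_eq_fintype_card,
    Fintype.card_fin]

instance finite_HH_twist_tensor (p : ℕ) (t : ℤ) (q : ℕ) :
    Module.Finite k (Coh.HH (Proj (CohB1.polyGrading n k))
      ((twF (twist (CohB1.polyGrading n k) t)).obj (T n k p)) q) :=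
  haveI := finite_HH_twist' n k (-(p : ℤ) + t) q
  Module.Finite.equiv (HHEquivOfIso k (twMulIso n k (-(p : ℤ)) t) q).symm

instance finite_HH_Kt (p : ℕ) (t : ℤ) (q : ℕ) :
    Module.Finite k (Coh.HH (Proj (CohB1.polyGrading n k)) (Kt n k p t) q) :=
  finite_HH_map_biproduct k (twF (twist (CohB1.polyGrading n k) t)) (J := Idx n p) (T n k p) q

/-- the dimension of the cohomology of `K_p(t)`. -/
theorem finrank_HH_Kt (p : ℕ) (t m : ℤ) (hm : m = t - p) (q : ℕ) :
    Module.finrank k (Coh.HH (Proj (CohB1.polyGrading n k)) (Kt n k p t) q) =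
      (n + 1).choose p * Module.finrank k (Coh.HH (Proj (CohB1.polyGrading n k))
        (twist (CohB1.polyGrading n k) m) q) := by
  have h1 := finrank_HH_map_biproduct k (twF (twist (CohB1.polyGrading n k) t)) (J := Idx n p)
    (T n k p) q
  rw [card_Idx] at h1
  refine h1.trans ?_
  congr 1
  exact (HHEquivOfIso k (twMulIso' n k (-(p : ℤ)) t m (by omega)) q).finrank_eq

end Groth.Agent.H2.Bott
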