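import Mathlib.Data.Nat.Choose.Cast
import Mathlib.Data.Nat.Choose.Basic
import Mathlib.Tactic.FieldSimp
import Mathlib.Tactic.Ring
import Mathlib.Tactic.Linarith
import Mathlib.Data.Rat.Defs
import Mathlib.Algebra.Order.Field.Rat

/-! # The binomial identity behind Bott's formula. -/

set_option autoImplicit false

namespace Groth.Agent.H2.Bott

open Nat

/-- Bott's dimension `C(d+n-p, d) · C(d-1, p)` of `H^0(P^n, Ω^p(d))`. -/
def bottF (n d p : ℕ) : ℕ := (d + n - p).choose d * (d - 1).choose p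

theorem choose_identity (e m p : ℕ) :
    (e + p + m + 2).choose (e + p + 2) * (e + p + 1).choose (p + 1) +
      (e + p + m + 3).choose (e + p + 2) * (e + p + 1).choose p =
      (m + p + 2).choose (p + 1) * (e + m + p + 2).choose (m + p + 1) := by
  have h1 : ((e + p + m + 2).choose (e + p + 2) : ℚ) =
      (e + p + m + 2)! / ((e + p + 2)! * m !) := by
    have := Nat.cast_add_choose ℚ (a := e + p + 2) (b := m)
    rwa [show e + p + 2 + m = e + p + m + 2 by ring] at this
  have h2 : ((e + p + 1).choose (p + 1) : ℚ) = (e + p + 1)! / ((p + 1)! * e !) := by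
    have := Nat.cast_add_choose ℚ (a := p + 1) (b := e)
    rwa [show p + 1 + e = e + p + 1 by ring] at this
  have h3 : ((e + p + m + 3).choose (e + p + 2) : ℚ) =
      (e + p + m + 3)! / ((e + p + 2)! * (m + 1)!) := by
    have := Nat.cast_add_choose ℚ (a := e + p + 2) (b := m + 1)
    rwa [show e + p + 2 + (m + 1) = e + p + m + 3 by ring] at this
  have h4 : ((e + p + 1).choose p : ℚ) = (e + p + 1)! / (p ! * (e + 1)!) := by
    have := Nat.cast_add_choose ℚ (a := p) (b := e + 1)
    rwa [show p + (e + 1) = e + p + 1 by ring] at this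
  have h5 : ((m + p + 2).choose (p + 1) : ℚ) = (m + p + 2)! / ((p + 1)! * (m + 1)!) := by
    have := Nat.cast_add_choose ℚ (a := p + 1) (b := m + 1)
    rwa [show p + 1 + (m + 1) = m + p + 2 by ring] at this
  have h6 : ((e + m + p + 2).choose (m + p + 1) : ℚ) =
      (e + p + m + 2)! / ((m + p + 1)! * (e + 1)!) := by
    have := Nat.cast_add_choose ℚ (a := m + p + 1) (b := e + 1)
    rw [show m + p + 1 + (e + 1) = e + p + m + 2 by ring] at this
    rw [show e + m + p + 2 = e + p + m + 2 by ring]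
    exact this
  have f1 : ((e + p + m + 3)! : ℚ) = (e + p + m + 3) * (e + p + m + 2)! := by
    rw [show e + p + m + 3 = (e + p + m + 2) + 1 by ring, Nat.factorial_succ]
    push_cast
    ring
  have f2 : ((e + p + 2)! : ℚ) = (e + p + 2) * (e + p + 1)! := by
    rw [show e + p + 2 = (e + p + 1) + 1 by ring, Nat.factorial_succ]
    push_cast
    ring
  have f3 : ((m + 1)! : ℚ) = (m + 1) * m ! := by
    rw [Nat.factorial_succ]
    push_cast
    ring
  have f4 : ((e + 1)! : ℚ) = (e + 1) * e ! := by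
    rw [Nat.factorial_succ]
    push_cast
    ring
  have f5 : ((p + 1)! : ℚ) = (p + 1) * p ! := by
    rw [Nat.factorial_succ]
    push_cast
    ring
  have f6 : ((m + p + 2)! : ℚ) = (m + p + 2) * (m + p + 1)! := by
    rw [show m + p + 2 = (m + p + 1) + 1 by ring, Nat.factorial_succ]
    push_cast
    ring
  have p1 : ((e + p + m + 2)! : ℚ) ≠ 0 := Nat.cast_ne_zero.mpr (Nat.factorial_ne_zero _)
  have p2 : ((e + p + 1)! : ℚ) ≠ 0 := Nat.cast_ne_zero.mpr (Nat.factorial_ne_zero _)
  have p3 : ((m)! : ℚ) ≠ 0 := Nat.cast_ne_zero.mpr (Nat.factorial_ne_zero _)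
  have p4 : ((e)! : ℚ) ≠ 0 := Nat.cast_ne_zero.mpr (Nat.factorial_ne_zero _)
  have p5 : ((p)! : ℚ) ≠ 0 := Nat.cast_ne_zero.mpr (Nat.factorial_ne_zero _)
  have p6 : ((m + p + 1)! : ℚ) ≠ 0 := Nat.cast_ne_zero.mpr (Nat.factorial_ne_zero _)
  have q1 : ((e : ℚ) + p + 2) ≠ 0 := by positivity
  have q2 : ((m : ℚ) + 1) ≠ 0 := by positivity
  have q3 : ((e : ℚ) + 1) ≠ 0 := by positivity
  have q4 : ((p : ℚ) + 1) ≠ 0 := by positivity
  have key : (((e + p + m + 2).choose (e + p + 2) * (e + p + 1).choose (p + 1) +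
      (e + p + m + 3).choose (e + p + 2) * (e + p + 1).choose p : ℕ) : ℚ) =
      (((m + p + 2).choose (p + 1) * (e + m + p + 2).choose (m + p + 1) : ℕ) : ℚ) := by
    push_cast
    rw [h1, h2, h3, h4, h5, h6, f1, f2, f3, f4, f5, f6]
    field_simp
    ring
  exact_mod_cast key

theorem bottF_add (n d p : ℕ) (hp : p + 1 ≤ n) (hd : p + 1 < d) :
    bottF n d (p + 1) + bottF n d p = (n + 1).choose (p + 1) * (d - (p + 1) + n).choose n := by
  obtain ⟨m, rfl⟩ : ∃ m, n = m + p + 1 := ⟨n - (p + 1), by omega⟩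
  obtain ⟨e, rfl⟩ : ∃ e, d = e + p + 2 := ⟨d - (p + 2), by omega⟩
  unfold bottF
  rw [show e + p + 2 + (m + p + 1) - (p + 1) = e + p + m + 2 by omega,
    show e + p + 2 - 1 = e + p + 1 by omega,
    show e + p + 2 + (m + p + 1) - p = e + p + m + 3 by omega,
    show e + p + 2 - (p + 1) + (m + p + 1) = e + m + p + 2 by omega,
    show m + p + 1 + 1 = m + p + 2 by omega]
  exact choose_identity e m p

end Groth.Agent.H2.Bott
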