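import Groth.Agent.Lib.Helper2.BottO
import Groth.Agent.Lib.Helper2.BottP

/-! # Bott's formulas for the dimensions of `H^0(P^n, Ω^p(d))` and `H^n(P^n, Ω^p(-e))`. -/

set_option autoImplicit false
set_option linter.style.haveILetI false
universe u
open CategoryTheory CategoryTheory.Limits AlgebraicGeometry TopologicalSpace Opposite

namespace Groth.Agent.H2.Bott

open Twist Groth.Agent.LD Groth.Agent.LD.TW Groth.Agent.LD.PT Groth.Agent.LD.PN Groth.Agent.H3.Om
open Groth.Agent.LD.QC Groth.Agent.LD.Ann Abelian Groth.Agent.H2.Euler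

attribute [local instance] Abelian.hasFiniteBiproducts

variable (n : ℕ) (k : Type u) [Field k]

lemma surjective_HHmap_of_subsingleton {X : Scheme.{u}} [X.Over (Spec (CommRingCat.of k))]
    {S : ShortComplex X.Modules} (hS : S.ShortExact) (i : ℕ)
    (h₁ : Subsingleton (Coh.HH X S.X₁ (i + 1))) : Function.Surjective (CL.HHmap k S.g i) := by
  intro y
  obtain ⟨x, hx⟩ := CL.surjective_of_subsingleton hS i h₁ y
  exact ⟨x, hx⟩

lemma injective_HHmap_of_subsingleton {X : Scheme.{u}} [X.Over (Spec (CommRingCat.of k))]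
    {S : ShortComplex X.Modules} (hS : S.ShortExact) (i : ℕ)
    (h₃ : Subsingleton (Coh.HH X S.X₃ i)) : Function.Injective (CL.HHmap k S.f (i + 1)) := by
  intro x y hxy
  exact CL.injective_of_subsingleton hS i h₃ hxy

/-- **Bott's formula for `h^0(Ω^p(d))`**, `p < d`. -/
theorem finrank_HH0_Zt : ∀ (p d : ℕ), p ≤ n → p < d →
    Module.finrank k (Coh.HH (Proj (CohB1.polyGrading n k)) (Zt n k p (d : ℤ)) 0) = bottF n d p
  | 0, d, _, _ => by
    rw [(HHEquivOfIso k (isoZt0 n k (d : ℤ)) 0).finrank_eq, finrank_HH0_twist]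
    unfold bottF
    rw [Nat.choose_zero_right, mul_one, Nat.sub_zero, Nat.choose_symm_add]
  | p + 1, d, hp, hd => by
    have hn : 1 ≤ n := by omega
    have hS := shortExact_sesZt n k p (d : ℤ)
    haveI : Module.Finite k (Coh.HH (Proj (CohB1.polyGrading n k)) (sesZt n k p (d : ℤ)).X₂ 0) :=
      finite_HH_Kt n k (p + 1) d 0
    have h₁ : Subsingleton (Coh.HH (Proj (CohB1.polyGrading n k))
        (sesZt n k p (d : ℤ)).X₁ (0 + 1)) :=
      bott_vanishing n k hn (p + 1) d 1 (fun h => by omega) (fun h => by omega)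
        (fun h => by omega)
    have hadd := finrank_HH_add k hS 0 (CL.HHmap_f_injective k hS)
      (surjective_HHmap_of_subsingleton k hS 0 h₁)
    have hK : Module.finrank k (Coh.HH (Proj (CohB1.polyGrading n k))
        (sesZt n k p (d : ℤ)).X₂ 0) = (n + 1).choose (p + 1) * (d - (p + 1) + n).choose n := by
      have h2 := finrank_HH_Kt n k (p + 1) (d : ℤ) ((d - (p + 1) : ℕ) : ℤ) (by omega) 0
      rw [finrank_HH0_twist] at h2
      exact h2
    have hIH : Module.finrank k (Coh.HH (Proj (CohB1.polyGrading n k))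
        (sesZt n k p (d : ℤ)).X₃ 0) = bottF n d p := finrank_HH0_Zt p d (by omega) (by omega)
    have hB := bottF_add n d p hp hd
    have hgoal : Module.finrank k (Coh.HH (Proj (CohB1.polyGrading n k))
        (sesZt n k p (d : ℤ)).X₁ 0) = bottF n d (p + 1) := by omega
    exact hgoal

/-- the relation between the top cohomology groups in the twisted Koszul sequences. -/
theorem finrank_HHn_rel (hn : 1 ≤ n) (p e : ℕ) (hp : p ≤ n) (he : n < e + p) :
    (n + 1).choose (p + 1) * (e + p).choose n =
      Module.finrank k (Coh.HH (Proj (CohB1.polyGrading n k)) (Zt n k (p + 1) (-(e : ℤ))) n) +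
      Module.finrank k (Coh.HH (Proj (CohB1.polyGrading n k)) (Zt n k p (-(e : ℤ))) n) := by
  have hS := shortExact_sesZt n k p (-(e : ℤ))
  haveI : Module.Finite k (Coh.HH (Proj (CohB1.polyGrading n k))
      (sesZt n k p (-(e : ℤ))).X₂ n) := finite_HH_Kt n k (p + 1) (-(e : ℤ)) n
  have h₁ : Subsingleton (Coh.HH (Proj (CohB1.polyGrading n k))
      (sesZt n k p (-(e : ℤ))).X₁ (n + 1)) :=
    subsingleton_HH_of_lt n k (Zt n k (p + 1) (-(e : ℤ))) (n + 1) (by omega)
  have hf : Function.Injective (CL.HHmap k (sesZt n k p (-(e : ℤ))).f n) := by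
    obtain ⟨n', rfl⟩ : ∃ n', n = n' + 1 := ⟨n - 1, by omega⟩
    refine injective_HHmap_of_subsingleton k hS n' ?_
    exact bott_vanishing (n' + 1) k hn p (-(e : ℤ)) n' (fun h => by omega) (fun h => by omega)
      (fun h => by omega)
  have hadd := finrank_HH_add k hS n hf (surjective_HHmap_of_subsingleton k hS n h₁)
  have hK : Module.finrank k (Coh.HH (Proj (CohB1.polyGrading n k))
      (sesZt n k p (-(e : ℤ))).X₂ n) = (n + 1).choose (p + 1) * (e + p).choose n := by
    have h2 := finrank_HH_Kt n k (p + 1) (-(e : ℤ)) (-((n : ℤ) + 1 + ((e + p - n : ℕ) : ℤ)))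
      (by omega) n
    rw [finrank_HHtop_twist, show e + p - n + n = e + p by omega] at h2
    exact h2
  rw [← hK]
  exact hadd

/-- **Bott's formula for `h^n(Ω^p(-e))`**, `n < e + p`. -/
theorem finrank_HHn_Zt (hn : 1 ≤ n) : ∀ (j p : ℕ), p + j = n → ∀ e : ℕ, n < e + p →
    Module.finrank k (Coh.HH (Proj (CohB1.polyGrading n k)) (Zt n k p (-(e : ℤ))) n) =
      bottF n e (n - p)
  | 0, p, hp, e, he => by
    have hrel := finrank_HHn_rel n k hn p e (by omega) he
    haveI : Subsingleton (Coh.HH (Proj (CohB1.polyGrading n k)) (Zt n k (p + 1) (-(e : ℤ))) n) :=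
      CL.subsingleton_HH_of_isZero (isZero_Zt n k (p + 1) (by omega) _) n
    rw [Module.finrank_zero_of_subsingleton, zero_add] at hrel
    rw [← hrel]
    have hpn : p = n := by omega
    subst hpn
    unfold bottF
    rw [Nat.sub_self, Nat.choose_zero_right, mul_one, Nat.sub_zero, Nat.choose_self, one_mul,
      Nat.choose_symm_add]
  | j + 1, p, hp, e, he => by
    have hrel := finrank_HHn_rel n k hn p e (by omega) he
    have hIH := finrank_HHn_Zt hn j (p + 1) (by omega) e (by omega)
    have hB := bottF_add n e (n - p - 1) (by omega) (by omega)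
    rw [show n - p - 1 + 1 = n - p by omega, show e - (n - p) + n = e + p by omega,
      Nat.choose_symm_of_eq_add (show n + 1 = (n - p) + (p + 1) by omega)] at hB
    rw [show n - (p + 1) = n - p - 1 by omega] at hIH
    omega

end Groth.Agent.H2.Bott
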