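import Groth.Agent.Lib.Helper2.BottQ

/-! # Bott's formulas and duality for an exterior power of `Ω_{P^n_k}`. -/

set_option autoImplicit false
set_option linter.style.haveILetI false
universe u
open CategoryTheory CategoryTheory.Limits AlgebraicGeometry TopologicalSpace Opposite

namespace Groth.Agent.H2.Bott

open Twist Groth.Agent.LD Groth.Agent.LD.TW Groth.Agent.LD.PT Groth.Agent.LD.PN Groth.Agent.H3.Om
open Groth.Agent.LD.QC Groth.Agent.LD.Ann Abelian Groth.Agent.H2.Euler

attribute [local instance] Abelian.hasFiniteBiproducts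

variable (n : ℕ) (k : Type u) [Field k]

/-- on `P^0` all the twisting sheaves have a one-dimensional space of sections. -/
theorem finrank_HH0_twist_P0 (t : ℤ) :
    Module.finrank k (Coh.HH (Proj (CohB1.polyGrading 0 k))
      (twist (CohB1.polyGrading 0 k) t) 0) = 1 := by
  by_cases ht : 0 ≤ t
  · obtain ⟨d, rfl⟩ := Int.eq_ofNat_of_zero_le ht
    rw [finrank_HH0_twist, Nat.choose_zero_right]
  · obtain ⟨e, rfl⟩ : ∃ e : ℕ, t = -(((0 : ℕ) : ℤ) + 1 + e) := ⟨(-t - 1).toNat, by omega⟩
    rw [finrank_HHtop_twist, Nat.choose_zero_right]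

/-- `H^p(Z_p(0))` is one-dimensional. -/
theorem finrank_HH_Zt_self (p : ℕ) (hp : p ≤ n) (t : ℤ) (ht : t = 0) :
    Module.finrank k (Coh.HH (Proj (CohB1.polyGrading n k)) (Zt n k p t) p) = 1 := by
  subst ht
  obtain ⟨e⟩ := nonempty_HH_Z_equiv n k p hp
  rw [(HHEquivOfIso k (twZeroIso n k (Z n k p)) p).finrank_eq, e.finrank_eq, Module.finrank_self]

/-- **duality of the dimensions** `h^q(Ω^p(d)) = h^{n-q}(Ω^{n-p}(-d))` for the sheaves of
cycles. -/
theorem finrank_Zt_duality (p q : ℕ) (hp : p ≤ n) (hq : q ≤ n) (d : ℤ) :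
    Module.finrank k (Coh.HH (Proj (CohB1.polyGrading n k)) (Zt n k p d) q) =
      Module.finrank k (Coh.HH (Proj (CohB1.polyGrading n k)) (Zt n k (n - p) (-d)) (n - q)) := by
  rcases Nat.eq_zero_or_pos n with hn0 | hn
  · subst hn0
    obtain rfl : p = 0 := by omega
    obtain rfl : q = 0 := by omega
    rw [(HHEquivOfIso k (isoZt0 0 k d) 0).finrank_eq,
      (HHEquivOfIso k (isoZt0 0 k (-d)) 0).finrank_eq, finrank_HH0_twist_P0, finrank_HH0_twist_P0]
  by_cases ha : q = 0 ∧ (p : ℤ) < d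
  · obtain ⟨rfl, hd⟩ := ha
    obtain ⟨d', rfl⟩ := Int.eq_ofNat_of_zero_le (show 0 ≤ d by omega)
    rw [finrank_HH0_Zt n k p d' hp (by omega), Nat.sub_zero,
      finrank_HHn_Zt n k hn p (n - p) (by omega) d' (by omega),
      show n - (n - p) = p by omega]
  by_cases hb : q = n ∧ d < (p : ℤ) - n
  · obtain ⟨rfl, hd⟩ := hb
    obtain ⟨e, rfl⟩ : ∃ e : ℕ, d = -(e : ℤ) := ⟨(-d).toNat, by omega⟩
    rw [finrank_HHn_Zt q k hn (q - p) p (by omega) e (by omega), Nat.sub_self, neg_neg,
      finrank_HH0_Zt q k (q - p) e (by omega) (by omega)]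
  by_cases hc : q = p ∧ d = 0
  · obtain ⟨rfl, rfl⟩ := hc
    rw [finrank_HH_Zt_self n k q hp 0 rfl, finrank_HH_Zt_self n k (n - q) (by omega) (-0) neg_zero]
  · haveI h1 : Subsingleton (Coh.HH (Proj (CohB1.polyGrading n k)) (Zt n k p d) q) :=
      bott_vanishing n k hn p d q ha hb hc
    haveI h2 : Subsingleton (Coh.HH (Proj (CohB1.polyGrading n k)) (Zt n k (n - p) (-d))
        (n - q)) :=
      bott_vanishing n k hn (n - p) (-d) (n - q) (fun h => by omega) (fun h => by omega)
        (fun h => by omega)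
    rw [Module.finrank_zero_of_subsingleton, Module.finrank_zero_of_subsingleton]

variable {n k} {p : ℕ} (L : (Proj (CohB1.polyGrading n k)).Modules)
  (hL : ExtPow.IsExtPow p (Omega.sheaf (pS n k)) L)

include hL

theorem finrank_HH_extPow_twist (t : ℤ) (q : ℕ) :
    Module.finrank k (Coh.HH (Proj (CohB1.polyGrading n k))
      (CohB1.tensorMod L (twist (CohB1.polyGrading n k) t)) q) =
      Module.finrank k (Coh.HH (Proj (CohB1.polyGrading n k)) (Zt n k p t) q) := by
  obtain ⟨e⟩ := nonempty_iso_Z L hL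
  exact (HHEquivOfIso k ((twF (twist (CohB1.polyGrading n k) t)).mapIso e) q).finrank_eq

/-- **Bott's formula for `h^0(Ω^p(d))`.** -/
theorem finrank_HH0_extPow (hp : p ≤ n) (d : ℕ) (hd : p < d) :
    Module.finrank k (Coh.HH (Proj (CohB1.polyGrading n k))
      (CohB1.tensorMod L (twist (CohB1.polyGrading n k) (d : ℤ))) 0) =
      (d + n - p).choose d * (d - 1).choose p :=
  (finrank_HH_extPow_twist L hL d 0).trans (finrank_HH0_Zt n k p d hp hd)

/-- **Bott's formula for `h^n(Ω^p(-e))`.** -/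
theorem finrank_HHn_extPow (hp : p ≤ n) (e : ℕ) (he : n < e + p) :
    Module.finrank k (Coh.HH (Proj (CohB1.polyGrading n k))
      (CohB1.tensorMod L (twist (CohB1.polyGrading n k) (-(e : ℤ)))) n) =
      (e + p).choose e * (e - 1).choose (n - p) := by
  rw [finrank_HH_extPow_twist L hL]
  rcases Nat.eq_zero_or_pos n with hn0 | hn
  · subst hn0
    obtain rfl : p = 0 := by omega
    rw [(HHEquivOfIso k (isoZt0 0 k (-(e : ℤ))) 0).finrank_eq, finrank_HH0_twist_P0,
      Nat.add_zero, Nat.choose_self, Nat.sub_zero, Nat.choose_zero_right]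
  · rw [finrank_HHn_Zt n k hn (n - p) p (by omega) e he]
    unfold bottF
    rw [show e + n - (n - p) = e + p by omega]

omit hL in
/-- **duality of the dimensions** `h^q(Ω^p(d)) = h^{n-q}(Ω^{n-p}(-d))`. -/
theorem finrank_extPow_duality (hL : ExtPow.IsExtPow p (Omega.sheaf (pS n k)) L)
    (L' : (Proj (CohB1.polyGrading n k)).Modules)
    (hL' : ExtPow.IsExtPow (n - p) (Omega.sheaf (pS n k)) L') (q : ℕ) (hp : p ≤ n) (hq : q ≤ n)
    (d : ℤ) :
    Module.finrank k (Coh.HH (Proj (CohB1.polyGrading n k))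
      (CohB1.tensorMod L (twist (CohB1.polyGrading n k) d)) q) =
      Module.finrank k (Coh.HH (Proj (CohB1.polyGrading n k))
        (CohB1.tensorMod L' (twist (CohB1.polyGrading n k) (-d))) (n - q)) := by
  rw [finrank_HH_extPow_twist L hL, finrank_HH_extPow_twist L' hL']
  exact finrank_Zt_duality n k p q hp hq d

end Groth.Agent.H2.Bott
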