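import Mathlib
import Groth.Agent.Lib.Helper8.Brnch.NumGeomBranches
import Groth.Agent.Lib.Helper8.Hens.Noeth
import Groth.Agent.Lib.Helper8.FE.Basic
import Groth.Agent.Lib.Helper8.Brnch.EtaleCount

/-! # Counting geometric branches of a local domain by points of its normalization (helper2) -/

set_option autoImplicit false
set_option linter.style.haveILetI false
universe u

namespace Groth.Agent.H2.BrSep

open IsLocalRing Groth.Agent.H8.Brnch Groth.Agent.H8.Hens

section Count

variable (R : Type u) [CommRing R] [IsLocalRing R] [IsDomain R]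

/-- points of the normalization (in any fraction field) in `Ω` over `ρ` -/
def Pts (K : Type u) [Field K] [Algebra R K] (Ω : Type u) [Field Ω] (ρ : R →+* Ω) : Type u :=
  {ψ : integralClosure R K →+* Ω // ψ.comp (algebraMap R (integralClosure R K)) = ρ}

theorem minimalPrimes_finite_of_isDomain : (minimalPrimes R).Finite := by
  rw [IsDomain.minimalPrimes_eq_singleton_bot]
  exact Set.finite_singleton _

/-- the number of geometric branches of a local domain counts the points of its normalization
over any local map to an algebraically closed field (normalization in `FractionRing R`). -/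
theorem numGeomBranches_eq_card_pts_fractionRing (Ω : Type u) [Field Ω] [IsAlgClosed Ω]
    (ρ : R →+* Ω) [IsLocalHom ρ] :
    Brnch.numGeomBranches R = ENat.card (Pts R (FractionRing R) Ω ρ) := by
  haveI := isStrictHenselization (R := R)
  rw [← card_minimalPrimes_eq_numGeomBranches R (StrictHenselization R),
    card_minimalPrimes_strictHenselization_of_isReduced R (minimalPrimes_finite_of_isDomain R) Ω ρ]
  exact ENat.card_congr (equivSigma ρ)

/-- the same in an arbitrary fraction field -/
theorem numGeomBranches_eq_card_pts (K : Type u) [Field K] [Algebra R K] [IsFractionRing R K]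
    (Ω : Type u) [Field Ω] [IsAlgClosed Ω] (ρ : R →+* Ω) [IsLocalHom ρ] :
    Brnch.numGeomBranches R = ENat.card (Pts R K Ω ρ) := by
  rw [numGeomBranches_eq_card_pts_fractionRing R Ω ρ]
  let e : integralClosure R (FractionRing R) ≃ₐ[R] integralClosure R K :=
    (FractionRing.algEquiv R K).mapIntegralClosure
  refine ENat.card_congr ⟨fun ψ => ⟨ψ.1.comp (e.symm : integralClosure R K →+* _), ?_⟩,
    fun ψ => ⟨ψ.1.comp (e : integralClosure R (FractionRing R) →+* _), ?_⟩, ?_, ?_⟩
  · ext r
    have := congrArg (fun g => g r) ψ.2
    simp only [RingHom.comp_apply] at this ⊢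
    rw [← this]
    congr 1
    exact e.symm.commutes r
  · ext r
    have := congrArg (fun g => g r) ψ.2
    simp only [RingHom.comp_apply] at this ⊢
    rw [← this]
    congr 1
    exact e.commutes r
  · intro ψ
    apply Subtype.ext
    ext x
    simp
  · intro ψ
    apply Subtype.ext
    ext x
    simp

/-- a Noetherian local ring has finitely many geometric branches -/
theorem numGeomBranches_lt_top [IsNoetherianRing R] : Brnch.numGeomBranches R < ⊤ := by
  haveI := isStrictHenselization (R := R)
  haveI : IsNoetherianRing (StrictHenselization R) :=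
    (isNoetherianRing_iff_of_isStrictHenselization (R := R) (StrictHenselization R)).mp inferInstance
  rw [← card_minimalPrimes_eq_numGeomBranches R (StrictHenselization R)]
  have hfin : (minimalPrimes (StrictHenselization R)).Finite :=
    minimalPrimes.finite_of_isNoetherianRing _
  haveI : Finite (minimalPrimes (StrictHenselization R)) := hfin.to_subtype
  exact ENat.card_lt_top.mpr inferInstance

theorem finite_pts [IsNoetherianRing R] (K : Type u) [Field K] [Algebra R K] [IsFractionRing R K]
    (Ω : Type u) [Field Ω] [IsAlgClosed Ω] (ρ : R →+* Ω) [IsLocalHom ρ] :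
    Finite (Pts R K Ω ρ) := by
  have h := numGeomBranches_lt_top R
  rw [numGeomBranches_eq_card_pts R K Ω ρ] at h
  exact ENat.card_lt_top.mp h

/-- a finite set of elements of the normalization separating the points -/
theorem exists_separating_finset [IsNoetherianRing R] (K : Type u) [Field K] [Algebra R K]
    [IsFractionRing R K] (Ω : Type u) [Field Ω] [IsAlgClosed Ω] (ρ : R →+* Ω) [IsLocalHom ρ] :
    ∃ S : Finset (integralClosure R K), ∀ ψ ψ' : Pts R K Ω ρ,
      (∀ a ∈ S, ψ.1 a = ψ'.1 a) → ψ = ψ' := by
  classical
  haveI := finite_pts R K Ω ρ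
  haveI := Fintype.ofFinite (Pts R K Ω ρ)
  have hw : ∀ pr : Pts R K Ω ρ × Pts R K Ω ρ, ∃ a : integralClosure R K,
      pr.1 ≠ pr.2 → pr.1.1 a ≠ pr.2.1 a := by
    intro pr
    by_cases h : pr.1 = pr.2
    · exact ⟨0, fun h' => absurd h h'⟩
    · have h2 : pr.1.1 ≠ pr.2.1 := fun h' => h (Subtype.ext h')
      obtain ⟨a, ha⟩ := not_forall.mp (fun h' => h2 (RingHom.ext h'))
      exact ⟨a, fun _ => ha⟩
  choose w hw using hw
  refine ⟨Finset.univ.image w, fun ψ ψ' h => ?_⟩
  by_contra hne
  exact hw (ψ, ψ') hne (h _ (Finset.mem_image_of_mem _ (Finset.mem_univ _)))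

end Count

end Groth.Agent.H2.BrSep
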