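import Mathlib
import Groth.Agent.Lib.Helper2.BrSepA

/-! # Separating the geometric branches of a Noetherian local domain by a finite extension
(helper2) -/

set_option autoImplicit false
set_option linter.style.haveILetI false
universe u

namespace Groth.Agent.H2.BrSep

open IsLocalRing

section Abstract

variable {R B K Ω : Type u} [CommRing R] [IsLocalRing R] [IsDomain R] [CommRing B] [IsLocalRing B]
  [IsDomain B] [Field K] [Algebra R K] [Algebra B K] [Algebra R B] [IsScalarTower R B K]
  [Field Ω]

/-- the inclusion of the normalizations -/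
noncomputable def incl : integralClosure R K →+* integralClosure B K :=
  ((integralClosure R K).val : integralClosure R K →+* K).codRestrict (integralClosure B K)
    (fun x => x.2.tower_top)

@[simp] theorem incl_coe (x : integralClosure R K) : ((incl (B := B) x : integralClosure B K) : K) = x :=
  rfl

theorem incl_algebraMap (r : R) :
    incl (B := B) (algebraMap R (integralClosure R K) r) =
      algebraMap B (integralClosure B K) (algebraMap R B r) := by
  apply Subtype.ext
  show algebraMap R K r = algebraMap B K (algebraMap R B r)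
  exact IsScalarTower.algebraMap_apply R B K r

/-- **the abstract separation lemma.** -/
theorem subsingleton_pts (ρB : B →+* Ω) (S₀ : Finset (integralClosure R K))
    (hS₀ : ∀ ψ ψ' : Pts R K Ω (ρB.comp (algebraMap R B)),
      (∀ a ∈ S₀, ψ.1 a = ψ'.1 a) → ψ = ψ')
    (h1 : ∀ a ∈ S₀, ∃ (m : R) (b : B), ρB (algebraMap R B m) ≠ 0 ∧
      algebraMap R K m * (a : K) = algebraMap B K b)
    (h2 : ∀ x : K, IsIntegral B x → ∃ t : B, ρB t ≠ 0 ∧ IsIntegral R (algebraMap B K t * x)) :
    Subsingleton (Pts B K Ω ρB) := by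
  constructor
  intro ψ₁ ψ₂
  -- restrict to the normalization of `R`
  have hres : ∀ ψ : Pts B K Ω ρB, (ψ.1.comp (incl (R := R) (B := B) (K := K))).comp
      (algebraMap R (integralClosure R K)) = ρB.comp (algebraMap R B) := by
    intro ψ
    ext r
    simp only [RingHom.comp_apply]
    rw [incl_algebraMap]
    exact congrArg (fun g => g (algebraMap R B r)) ψ.2
  let φ₁ : Pts R K Ω (ρB.comp (algebraMap R B)) := ⟨ψ₁.1.comp incl, hres ψ₁⟩
  let φ₂ : Pts R K Ω (ρB.comp (algebraMap R B)) := ⟨ψ₂.1.comp incl, hres ψ₂⟩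
  have hval : ∀ (ψ : Pts B K Ω ρB) (b : B), ψ.1 (algebraMap B (integralClosure B K) b) = ρB b :=
    fun ψ b => congrArg (fun g => g b) ψ.2
  have hφ : φ₁ = φ₂ := by
    apply hS₀
    intro a ha
    obtain ⟨m, b, hm, hmb⟩ := h1 a ha
    have key : ∀ ψ : Pts B K Ω ρB, ρB (algebraMap R B m) * ψ.1 (incl a) = ρB b := by
      intro ψ
      rw [← hval ψ (algebraMap R B m), ← hval ψ b, ← map_mul]
      congr 1
      apply Subtype.ext
      show algebraMap B K (algebraMap R B m) * (a : K) = algebraMap B K b
      rw [← IsScalarTower.algebraMap_apply R B K, hmb]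
    show ψ₁.1 (incl a) = ψ₂.1 (incl a)
    exact mul_left_cancel₀ hm ((key ψ₁).trans (key ψ₂).symm)
  have hφ' : ∀ z : integralClosure R K, ψ₁.1 (incl z) = ψ₂.1 (incl z) := by
    intro z
    have := congrArg (fun φ : Pts R K Ω (ρB.comp (algebraMap R B)) => φ.1 z) hφ
    exact this
  apply Subtype.ext
  ext x
  obtain ⟨t, ht, hint⟩ := h2 (x : K) x.2
  have key : ∀ ψ : Pts B K Ω ρB,
      ρB t * ψ.1 x = ψ.1 (incl (⟨algebraMap B K t * (x : K), hint⟩ : integralClosure R K)) := by
    intro ψ
    rw [← hval ψ t, ← map_mul]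
    congr 1
  exact mul_left_cancel₀ ht ((key ψ₁).trans ((hφ' _).trans (key ψ₂).symm))

end Abstract

end Groth.Agent.H2.BrSep
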