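import Mathlib
import Groth.Agent.Lib.Helper2.BrSepB

/-! # A finite extension of a Noetherian domain whose points over a given prime are
geometrically unibranch (helper2) -/

set_option autoImplicit false
set_option linter.style.haveILetI false
universe u

namespace Groth.Agent.H2.BrSep

open IsLocalRing Groth.Agent.H8.Brnch Groth.Agent.H8.FE

section Main

variable (A : Type u) [CommRing A] [IsDomain A] (p : Ideal A) [p.IsPrime]

/-- the fraction field -/
local notation "KK" => FractionRing A

/-- the algebraically closed field -/
abbrev ΩΩ : Type u := AlgebraicClosure (ResidueField (Localization.AtPrime p))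

/-- the canonical local map -/
noncomputable def ρρ : Localization.AtPrime p →+* ΩΩ A p :=
  (algebraMap (ResidueField (Localization.AtPrime p)) (ΩΩ A p)).comp (residue _)

instance : IsLocalHom (ρρ A p) := by
  constructor
  intro r hr
  by_contra hnu
  have h0 : residue (Localization.AtPrime p) r = 0 := (residue_eq_zero_iff r).mpr
    ((mem_maximalIdeal r).mpr hnu)
  have : ρρ A p r = 0 := by
    show algebraMap _ _ (residue _ r) = 0
    rw [h0, map_zero]
  rw [this] at hr
  exact not_isUnit_zero hr

example : IsFractionRing (Localization.AtPrime p) KK := inferInstance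
example : IsScalarTower A (Localization.AtPrime p) KK := inferInstance

omit p [p.IsPrime] in
theorem isFractionRing_subalgebra (A' : Subalgebra A KK) : IsFractionRing A' KK := by
  haveI : FaithfulSMul A' KK :=
    (faithfulSMul_iff_algebraMap_injective A' KK).mpr Subtype.val_injective
  refine IsFractionRing.of_field (R := A') (K := KK) fun z => ?_
  obtain ⟨x, y, -, rfl⟩ := IsFractionRing.div_surjective (A := A) z
  exact ⟨algebraMap A A' x, algebraMap A A' y, rfl⟩

variable {A p}

/-- **the points of a finite extension containing separating elements are geometrically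
unibranch.** -/
theorem isGeomUnibranch_of_separating [IsNoetherianRing A] (A' : Subalgebra A KK)
    [Algebra.IsIntegral A A']
    (S₀ : Finset (integralClosure (Localization.AtPrime p) KK))
    (hS₀ : ∀ ψ ψ' : Pts (Localization.AtPrime p) KK (ΩΩ A p) (ρρ A p),
      (∀ a ∈ S₀, ψ.1 a = ψ'.1 a) → ψ = ψ')
    (hS₀A' : ∀ a ∈ S₀, ∃ m : p.primeCompl, (m : A) • (a : KK) ∈ A')
    (q : Ideal A') [q.IsPrime] (hq : q.comap (algebraMap A A') = p) :
    CAlg2.IsGeomUnibranch (Localization.AtPrime q) := by
  haveI : q.LiesOver p := ⟨hq.symm⟩
  letI algRB : Algebra (Localization.AtPrime p) (Localization.AtPrime q) :=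
    Localization.AtPrime.algebraOfLiesOver p q
  -- the map `B → K`
  have hunit : ∀ t : q.primeCompl, IsUnit ((A'.val : A' →+* KK) t) := by
    intro t
    rw [isUnit_iff_ne_zero]
    intro h
    have h0 : (t : A') = 0 := Subtype.ext h
    exact t.2 (h0 ▸ q.zero_mem)
  let toK : Localization.AtPrime q →+* KK := IsLocalization.lift (M := q.primeCompl) hunit
  letI algBK : Algebra (Localization.AtPrime q) KK := toK.toAlgebra
  haveI tA'BK : IsScalarTower A' (Localization.AtPrime q) KK :=
    IsScalarTower.of_algebraMap_eq (fun x => (IsLocalization.lift_eq hunit x).symm)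
  haveI := isFractionRing_subalgebra A A'
  haveI fracB : IsFractionRing (Localization.AtPrime q) KK :=
    IsFractionRing.isFractionRing_of_isDomain_of_isLocalization q.primeCompl
      (Localization.AtPrime q) KK
  haveI tRBK : IsScalarTower (Localization.AtPrime p) (Localization.AtPrime q) KK := by
    refine IsScalarTower.of_algebraMap_eq' ?_
    refine IsLocalization.ringHom_ext p.primeCompl ?_
    ext a
    simp only [RingHom.comp_apply]
    rw [← IsScalarTower.algebraMap_apply A (Localization.AtPrime p) KK,
      ← IsScalarTower.algebraMap_apply A (Localization.AtPrime p) (Localization.AtPrime q),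
      IsScalarTower.algebraMap_apply A A' (Localization.AtPrime q),
      ← IsScalarTower.algebraMap_apply A' (Localization.AtPrime q) KK]
    rfl
  -- the local map `ρB`
  haveI : Algebra.IsAlgebraic p.ResidueField q.ResidueField := inferInstance
  let j : q.ResidueField →ₐ[p.ResidueField] ΩΩ A p := IsAlgClosed.lift
  let ρB : Localization.AtPrime q →+* ΩΩ A p :=
    (j : q.ResidueField →+* ΩΩ A p).comp (residue (Localization.AtPrime q))
  have hρ : ρB.comp (algebraMap (Localization.AtPrime p) (Localization.AtPrime q)) = ρρ A p := by
    ext r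
    show j (residue _ (algebraMap _ _ r)) = algebraMap _ _ (residue _ r)
    rw [← j.commutes]
    rfl
  haveI hloc : IsLocalHom ρB := by
    constructor
    intro b hb
    by_contra hnu
    have h0 : residue (Localization.AtPrime q) b = 0 := (residue_eq_zero_iff b).mpr
      ((mem_maximalIdeal b).mpr hnu)
    have : ρB b = 0 := by
      show j (residue _ b) = 0
      rw [h0, map_zero]
    rw [this] at hb
    exact not_isUnit_zero hb
  have hunitρ : ∀ b : Localization.AtPrime q, IsUnit b → ρB b ≠ 0 :=
    fun b hb => (hb.map ρB).ne_zero
  -- the two hypotheses of the abstract lemma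
  have h1 : ∀ a ∈ S₀, ∃ (m : Localization.AtPrime p) (b : Localization.AtPrime q),
      ρB (algebraMap (Localization.AtPrime p) (Localization.AtPrime q) m) ≠ 0 ∧
      algebraMap (Localization.AtPrime p) KK m * (a : KK) =
        algebraMap (Localization.AtPrime q) KK b := by
    intro a ha
    obtain ⟨m₀, hm₀⟩ := hS₀A' a ha
    refine ⟨algebraMap A _ m₀, algebraMap A' _ ⟨(m₀ : A) • (a : KK), hm₀⟩, ?_, ?_⟩
    · apply hunitρ
      exact ((IsLocalization.map_units (Localization.AtPrime p) m₀).map _)
    · rw [← IsScalarTower.algebraMap_apply A (Localization.AtPrime p) KK,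
        ← IsScalarTower.algebraMap_apply A' (Localization.AtPrime q) KK]
      show _ = (m₀ : A) • (a : KK)
      rw [Algebra.smul_def]
  have h2 : ∀ x : KK, IsIntegral (Localization.AtPrime q) x → ∃ t : Localization.AtPrime q,
      ρB t ≠ 0 ∧ IsIntegral (Localization.AtPrime p) (algebraMap (Localization.AtPrime q) KK t * x) := by
    intro x hx
    obtain ⟨t, ht⟩ := IsIntegral.exists_multiple_integral_of_isLocalization q.primeCompl x hx
    refine ⟨algebraMap A' _ t, hunitρ _ (IsLocalization.map_units (Localization.AtPrime q) t), ?_⟩
    have e : algebraMap (Localization.AtPrime q) KK (algebraMap A' _ (t : A')) * x = t • x := by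
      rw [← IsScalarTower.algebraMap_apply A' (Localization.AtPrime q) KK, Submonoid.smul_def,
        Algebra.smul_def]
    rw [e]
    exact (isIntegral_trans (R := A) (A := A') _ ht).tower_top
  have hS₀' : ∀ ψ ψ' : Pts (Localization.AtPrime p) KK (ΩΩ A p)
      (ρB.comp (algebraMap (Localization.AtPrime p) (Localization.AtPrime q))),
      (∀ a ∈ S₀, ψ.1 a = ψ'.1 a) → ψ = ψ' := by
    rw [hρ]; exact hS₀
  haveI hsub : Subsingleton (Pts (Localization.AtPrime q) KK (ΩΩ A p) ρB) :=
    subsingleton_pts (R := Localization.AtPrime p) (B := Localization.AtPrime q) (K := KK)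
      (Ω := ΩΩ A p) ρB S₀ hS₀' h1 h2
  have hcard := numGeomBranches_eq_card_pts (Localization.AtPrime q) KK (ΩΩ A p) ρB
  have hle : Brnch.numGeomBranches (Localization.AtPrime q) ≤ 1 := by
    rw [hcard]
    exact (ENat.card_le_one_iff_subsingleton _).mpr hsub
  have hge : 1 ≤ Brnch.numGeomBranches (Localization.AtPrime q) := by
    refine le_trans ?_ (card_minimalPrimes_le_numGeomBranches (Localization.AtPrime q))
    rw [IsDomain.minimalPrimes_eq_singleton_bot]
    simp
  exact (isGeomUnibranch_iff_numGeomBranches _).mpr (le_antisymm hle hge)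

variable (A p)

/-- **branch separation**: a Noetherian domain `A` with a prime `p` has a finite extension domain
`A'` all of whose primes over `p` have geometrically unibranch local rings. -/
theorem exists_finite_cover [IsNoetherianRing A] :
    ∃ (A' : Type u) (_ : CommRing A') (_ : IsDomain A') (_ : Algebra A A'),
      Module.Finite A A' ∧ Function.Injective (algebraMap A A') ∧
      ∀ (q : Ideal A') [q.IsPrime], q.comap (algebraMap A A') = p →
        CAlg2.IsGeomUnibranch (Localization.AtPrime q) := by
  classical
  obtain ⟨S₀, hS₀⟩ := exists_separating_finset (Localization.AtPrime p) KK (ΩΩ A p) (ρρ A p)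
  have hm : ∀ a : integralClosure (Localization.AtPrime p) KK,
      ∃ m : p.primeCompl, IsIntegral A (m • (a : KK)) :=
    fun a => IsIntegral.exists_multiple_integral_of_isLocalization p.primeCompl (a : KK) a.2
  choose m hm using hm
  let S : Set KK := (fun a : integralClosure (Localization.AtPrime p) KK => (m a) • (a : KK)) ''
    (S₀ : Set _)
  have hSfin : S.Finite := (Finset.finite_toSet S₀).image _
  have hSint : ∀ x ∈ S, IsIntegral A x := by
    rintro _ ⟨a, -, rfl⟩
    exact hm a
  let A' : Subalgebra A KK := Algebra.adjoin A S
  haveI hfin : Module.Finite A A' := Algebra.finite_adjoin_of_finite_of_isIntegral hSfin hSint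
  haveI : Algebra.IsIntegral A A' := Algebra.IsIntegral.of_finite A A'
  refine ⟨A', inferInstance, inferInstance, inferInstance, hfin, ?_, ?_⟩
  · intro x y hxy
    have : algebraMap A KK x = algebraMap A KK y := congrArg Subtype.val hxy
    exact IsFractionRing.injective A KK this
  · intro q hq hqp
    refine isGeomUnibranch_of_separating A' S₀ hS₀ (fun a ha => ⟨m a, ?_⟩) q hqp
    exact Algebra.subset_adjoin ⟨a, ha, rfl⟩

end Main

end Groth.Agent.H2.BrSep
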