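import Mathlib
import Groth.Agent.Lib.Helper2.BrSepC
import Groth.Agent.Lib.Helper8.Hens.EtaleGU

/-! # Branch-separating finite covers of integral Noetherian schemes (helper2) -/

set_option autoImplicit false
set_option linter.style.haveILetI false
universe u

namespace Groth.Agent.H2.BrSep

open AlgebraicGeometry CategoryTheory

/-- **branch separation, scheme form**: near a point `z` of an integral locally Noetherian scheme
there is a finite surjective morphism onto an affine open neighbourhood whose source is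
geometrically unibranch at all points over `z`. -/
theorem exists_finite_cover_scheme (Z : Scheme.{u}) [IsIntegral Z] [IsLocallyNoetherian Z] (z : Z) :
    ∃ (V₁ U' : Scheme.{u}) (w : V₁ ⟶ U') (ι : U' ⟶ Z), IsAffine V₁ ∧ IsAffine U' ∧
      IsOpenImmersion ι ∧ IsFinite w ∧ Surjective w ∧ z ∈ Set.range ι ∧ IsLocallyNoetherian V₁ ∧
      ∀ y₁ : V₁, ι (w y₁) = z → CAlg2.IsGeomUnibranch (V₁.presheaf.stalk y₁) := by
  obtain ⟨_, ⟨U, hU, rfl⟩, hzU, -⟩ := Z.isBasis_affineOpens.exists_subset_of_mem_open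
    (Set.mem_univ z) isOpen_univ
  haveI : Nonempty U := ⟨⟨z, hzU⟩⟩
  haveI : IsNoetherianRing Γ(Z, U) := IsLocallyNoetherian.component_noetherian ⟨U, hU⟩
  let p : Ideal Γ(Z, U) := (hU.primeIdealOf ⟨z, hzU⟩).asIdeal
  obtain ⟨A', _, _, _, hfin, hinj, hGU⟩ := exists_finite_cover Γ(Z, U) p
  let φ : Γ(Z, U) ⟶ CommRingCat.of A' := CommRingCat.ofHom (algebraMap Γ(Z, U) A')
  refine ⟨Spec (CommRingCat.of A'), Spec Γ(Z, U), Spec.map φ, hU.fromSpec, inferInstance,
    inferInstance, inferInstance, ?_, ?_, ?_, ?_, ?_⟩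
  · rw [IsFinite.SpecMap_iff]
    show (algebraMap Γ(Z, U) A').Finite
    exact RingHom.finite_algebraMap.mpr hfin
  · haveI : Algebra.IsIntegral Γ(Z, U) A' := Algebra.IsIntegral.of_finite _ _
    haveI : FaithfulSMul Γ(Z, U) A' := (faithfulSMul_iff_algebraMap_injective _ _).mpr hinj
    constructor
    intro x
    obtain ⟨y, hy⟩ := Algebra.IsIntegral.comap_surjective Γ(Z, U) A' x
    exact ⟨y, hy⟩
  · exact ⟨hU.primeIdealOf ⟨z, hzU⟩, hU.fromSpec_primeIdealOf ⟨z, hzU⟩⟩
  · haveI : IsNoetherianRing A' := IsNoetherianRing.of_finite Γ(Z, U) A'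
    infer_instance
  · intro y₁ hy₁
    have h1 : hU.fromSpec ((Spec.map φ) y₁) = hU.fromSpec (hU.primeIdealOf ⟨z, hzU⟩) := by
      rw [hU.fromSpec_primeIdealOf ⟨z, hzU⟩]
      exact hy₁
    have h2 : (Spec.map φ) y₁ = hU.primeIdealOf ⟨z, hzU⟩ :=
      hU.fromSpec.isOpenEmbedding.injective h1
    have h3 : y₁.asIdeal.comap (algebraMap Γ(Z, U) A') = p := by
      have := congrArg PrimeSpectrum.asIdeal h2
      exact this
    have h4 := hGU y₁.asIdeal h3
    exact Groth.Agent.H8.Hens.isGeomUnibranch_of_ringEquiv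
      (Spec.stalkIso (CommRingCat.of A') y₁).symm.commRingCatIsoToRingEquiv h4

end Groth.Agent.H2.BrSep
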