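import Mathlib
import Groth.Prelude.Def_EGA43
import Groth.Prelude.Def_Flat
import Groth.Prelude.Def_CAlg2
import Groth.Agent.Lib.Helper2.BrSepD
import Groth.Agent.Lib.Helper2.BrSepE
import Groth.Agent.Lib.Helper1.UO14E
import Groth.Agent.Lib.Helper1.FibGen
import Groth.Agent.Lib.Helper3.ConsP.Noeth
import Groth.Agent.Lib.Helper6.FZ5
import Groth.Agent.S4929

/-! # Universal openness from openness of finite base changes (EGA IV 14.4.1–14.4.3) (helper2) -/

set_option autoImplicit false
set_option linter.style.haveILetI false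
universe u

namespace Groth.Agent.H2.BrSep

open AlgebraicGeometry CategoryTheory CategoryTheory.Limits

variable {X Y : Scheme.{u}}

/-- **Step O**: openness of the base change to a quasi-finite separated `V₁ → Z → Y` at points over
`E` follows (by Zariski's main theorem) from openness of finite base changes at points over `E`. -/
theorem isOpenAt_of_quasiFinite (f : X ⟶ Y) (E : Set X)
    (hE : ∀ (Y' : Scheme.{u}) (g : Y' ⟶ Y) [IsFinite g] (x' : ↥(pullback f g)),
      (pullback.fst f g) x' ∈ E → EGA43.IsOpenAt (pullback.snd f g).base x')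
    {Z V₁ : Scheme.{u}} (i : Z ⟶ Y) [IsFinite i] (v : V₁ ⟶ Z) [CompactSpace Z]
    [QuasiSeparatedSpace Z] [LocallyQuasiFinite v] [LocallyOfFiniteType v] [QuasiCompact v]
    [IsSeparated v] (z : ↥(pullback (pullback.snd f i) v))
    (hz : (pullback.fst f i) ((pullback.fst (pullback.snd f i) v) z) ∈ E) :
    EGA43.IsOpenAt (pullback.snd (pullback.snd f i) v).base z := by
  obtain ⟨T, j, π, hj, -, hπ, hfac⟩ := Groth.Agent.H6.FZ.s0385 v
  have big : IsPullback (pullback.fst (pullback.snd f i) v ≫ pullback.fst f i)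
      (pullback.snd (pullback.snd f i) v) f (v ≫ i) :=
    (IsPullback.of_hasPullback (pullback.snd f i) v).paste_horiz (IsPullback.of_hasPullback f i)
  have hvi : v ≫ i = j ≫ (π ≫ i) := by rw [← hfac, Category.assoc]
  rw [hvi] at big
  have h1 : EGA43.IsOpenAt (pullback.snd f (j ≫ (π ≫ i))).base (big.isoPullback.hom z) := by
    refine isOpenAt_of_openImmersion f (π ≫ i) j _ ?_
    intro q hq
    refine hE T (π ≫ i) q ?_
    rw [hq, ← Scheme.Hom.comp_apply, big.isoPullback_hom_fst, Scheme.Hom.comp_apply]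
    exact hz
  have h2 : EGA43.IsOpenAt big.isoPullback.hom.base z :=
    Groth.Agent.H3.isOpenAt_of_isOpenMap _ big.isoPullback.hom.isOpenEmbedding.isOpenMap z
  have h3 := Groth.Agent.H3.isOpenAt_comp _ _ z h2 h1
  have h4 : (pullback.snd (pullback.snd f i) v).base =
      (pullback.snd f (j ≫ (π ≫ i))).base ∘ big.isoPullback.hom.base := by
    funext p
    show _ = (pullback.snd f (j ≫ (π ≫ i))) (big.isoPullback.hom p)
    rw [← Scheme.Hom.comp_apply, big.isoPullback_hom_snd]
  rw [h4]
  exact h3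

/-- the abstract hypothesis on the point `x`: over any quasi-finite `P → X` with a compatible
morphism `P → V₁` locally of finite type, every point over `x` has a generization in its fibre,
maximal there, of at least the same local fibre dimension, and lying over `E`. -/
def GoodPoint (f : X ⟶ Y) (E : Set X) (x : X) : Prop :=
  ∀ {P V₁ : Scheme.{u}} (hP : P ⟶ X) (g₁ : P ⟶ V₁) (v' : V₁ ⟶ Y) [LocallyQuasiFinite hP]
    [LocallyOfFiniteType g₁] [IsLocallyNoetherian V₁], hP ≫ f = g₁ ≫ v' → ∀ t : P, hP t = x →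
    ∃ z : P, g₁ z = g₁ t ∧ z ⤳ t ∧ (∀ z' : P, g₁ z' = g₁ t → z' ⤳ z → z' = z) ∧
      FlatMor.fibreDimAt g₁ t ≤ FlatMor.fibreDimAt g₁ z ∧ hP z ∈ E

/-- **Step I**: the integral case. -/
theorem isUnivOpenAt_of_finite_baseChange_integral (f : X ⟶ Y) [LocallyOfFiniteType f] (x : X)
    (E : Set X)
    (hE : ∀ (Y' : Scheme.{u}) (g : Y' ⟶ Y) [IsFinite g] (x' : ↥(pullback f g)),
      (pullback.fst f g) x' ∈ E → EGA43.IsOpenAt (pullback.snd f g).base x')
    (hx : GoodPoint f E x)
    {Z : Scheme.{u}} (i : Z ⟶ Y) [IsClosedImmersion i] [IsIntegral Z] [IsNoetherian Z]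
    (x' : ↥(pullback f i)) (hx' : (pullback.fst f i) x' = x) :
    EGA43.IsUnivOpenAt (pullback.snd f i) x' := by
  obtain ⟨V₁, U', w, ι, hV₁, hU', hι, hw, hws, hzι, hV₁N, hGU⟩ :=
    exists_finite_cover_scheme Z ((pullback.snd f i) x')
  refine isUnivOpenAt_of_cover (pullback.snd f i) x' w ι hzι ?_
  intro t ht
  haveI : QuasiCompact ι := inferInstance
  obtain ⟨z, hz1, hz2, hz3, hz4, hz5⟩ :=
    hx (pullback.fst (pullback.snd f i) (w ≫ ι) ≫ pullback.fst f i)
      (pullback.snd (pullback.snd f i) (w ≫ ι)) ((w ≫ ι) ≫ i)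
      (by rw [Category.assoc, pullback.condition, ← Category.assoc, pullback.condition,
        Category.assoc, Category.assoc]) t
      (by rw [Scheme.Hom.comp_apply, ht, hx'])
  refine Groth.Agent.H1.UO14.isUnivOpenAt_of_isOpenAt_generization
    (pullback.snd (pullback.snd f i) (w ≫ ι)) t z ?_ hz1 hz2 ?_ hz4 ?_
  · apply hGU
    rw [← Scheme.Hom.comp_apply, ← Scheme.Hom.comp_apply,
      ← pullback.condition, Scheme.Hom.comp_apply, ht]
  · intro z' hz' hsp
    exact hz3 z' (hz'.trans hz1) hsp
  · exact isOpenAt_of_quasiFinite f E hE i (w ≫ ι) z hz5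

/-- **Core**: over a Noetherian base, openness of all finite base changes at points over `E`
gives universal openness at a good point `x`. -/
theorem isUnivOpenAt_of_finite_baseChange [IsNoetherian Y] (f : X ⟶ Y) [LocallyOfFiniteType f]
    (x : X) (E : Set X)
    (hE : ∀ (Y' : Scheme.{u}) (g : Y' ⟶ Y) [IsFinite g] (x' : ↥(pullback f g)),
      (pullback.fst f g) x' ∈ E → EGA43.IsOpenAt (pullback.snd f g).base x')
    (hx : GoodPoint f E x) : EGA43.IsUnivOpenAt f x := by
  haveI : Finite ↥(irreducibleComponents (Y : Type u)) :=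
    (TopologicalSpace.NoetherianSpace.finite_irreducibleComponents (α := Y)).to_subtype
  have hex : ∀ W : ↥(irreducibleComponents (Y : Type u)), ∃ (Z' : Scheme.{u}) (i : Z' ⟶ Y),
      IsClosedImmersion i ∧ IsIntegral Z' ∧ IsNoetherian Z' ∧ Set.range i = W.1 := fun W =>
    Groth.Agent.H3.ConsP.exists_integral_closed_subscheme W.1
      (isClosed_of_mem_irreducibleComponents _ W.2) W.2.1
  choose ZZ ii hci hint hnoe hrange using hex
  haveI := hci
  refine Groth.Agent.S4929.result f x ZZ ii ?_ ?_
  · rw [Set.eq_univ_iff_forall]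
    intro y
    refine Set.mem_iUnion.mpr ⟨⟨irreducibleComponent y,
      irreducibleComponent_mem_irreducibleComponents y⟩, ?_⟩
    show y ∈ Set.range (ii _)
    rw [hrange]
    exact mem_irreducibleComponent
  · intro W x' hx'
    haveI := hint W
    haveI := hnoe W
    exact isUnivOpenAt_of_finite_baseChange_integral f x E hE hx (ii W) x' hx'

end Groth.Agent.H2.BrSep
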