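import Mathlib.CategoryTheory.Triangulated.Opposite.Pretriangulated
import Mathlib.CategoryTheory.Triangulated.HomologicalFunctor
import Mathlib.Algebra.Homology.ShortComplex.Ab
import Mathlib.Algebra.Category.Grp.Limits
import Mathlib.CategoryTheory.Limits.Shapes.Products
import Mathlib.CategoryTheory.Limits.Preserves.Shapes.Products
import Mathlib.CategoryTheory.Limits.Types.Limits
import Mathlib.CategoryTheory.Limits.Shapes.Opposites.Products

/-!
# Brown representability: basic tools
-/

universe w v u

open CategoryTheory CategoryTheory.Limits Opposite Pretriangulated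
open CategoryTheory.Pretriangulated.Opposite

namespace Groth.Agent.H2.Brown

variable {D : Type u} [Category.{v} D]

section pull

variable (H : Dᵒᵖ ⥤ AddCommGrpCat.{v})

/-- Pull back an element of `H` along a morphism. -/
def pull {T T' : D} (x : H.obj (op T)) (f : T' ⟶ T) : H.obj (op T') := H.map f.op x

variable {H}

@[simp] lemma pull_id {T : D} (x : H.obj (op T)) : pull H x (𝟙 T) = x := by
  simp [pull]

lemma pull_pull {T T' T'' : D} (x : H.obj (op T)) (g : T' ⟶ T) (f : T'' ⟶ T') :
    pull H (pull H x g) f = pull H x (f ≫ g) := by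
  simp [pull]

lemma pull_add_left {T T' : D} (x y : H.obj (op T)) (f : T' ⟶ T) :
    pull H (x + y) f = pull H x f + pull H y f := map_add _ _ _

lemma pull_zero_left {T T' : D} (f : T' ⟶ T) : pull H (0 : H.obj (op T)) f = 0 := map_zero _

lemma pull_neg_left {T T' : D} (x : H.obj (op T)) (f : T' ⟶ T) :
    pull H (-x) f = - pull H x f := map_neg _ _

lemma pull_sub_left {T T' : D} (x y : H.obj (op T)) (f : T' ⟶ T) :
    pull H (x - y) f = pull H x f - pull H y f := map_sub _ _ _

variable [Preadditive D] [H.Additive]

lemma pull_add_right {T T' : D} (x : H.obj (op T)) (f g : T' ⟶ T) :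
    pull H x (f + g) = pull H x f + pull H x g := by
  unfold pull
  rw [op_add, H.map_add]
  rfl

lemma pull_zero_right {T T' : D} (x : H.obj (op T)) : pull H x (0 : T' ⟶ T) = 0 := by
  unfold pull
  rw [op_zero, H.map_zero]
  rfl

lemma pull_neg_right {T T' : D} (x : H.obj (op T)) (f : T' ⟶ T) :
    pull H x (-f) = - pull H x f := by
  unfold pull
  rw [op_neg, H.map_neg]
  rfl

lemma pull_sub_right {T T' : D} (x : H.obj (op T)) (f g : T' ⟶ T) :
    pull H x (f - g) = pull H x f - pull H x g := by
  rw [sub_eq_add_neg, pull_add_right, pull_neg_right, sub_eq_add_neg]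

end pull

section prod

variable (H : Dᵒᵖ ⥤ AddCommGrpCat.{v})

/-- `H` turns coproducts into products. -/
lemma prod_bijective {κ : Type w} (Y : κ → D) [HasCoproduct Y]
    [PreservesLimitsOfShape (Discrete κ) H] :
    Function.Bijective (fun (x : H.obj (op (∐ Y))) (k : κ) => pull H x (Sigma.ι Y k)) := by
  let c : Cofan Y := Cofan.mk (∐ Y) (Sigma.ι Y)
  have hc : IsColimit c := coproductIsCoproduct Y
  have hl : IsLimit ((H ⋙ forget AddCommGrpCat.{v}).mapCone (Cofan.op c)) :=
    isLimitOfPreserves (H ⋙ forget AddCommGrpCat.{v}) (Cofan.IsColimit.op hc)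
  let e := Types.isLimitEquivSections hl
  constructor
  · intro x y hxy
    apply e.injective
    apply Subtype.ext
    funext j
    exact congrFun hxy j.as
  · intro y
    let s : (Discrete.functor (fun k => op (Y k)) ⋙ H ⋙ forget AddCommGrpCat.{v}).sections :=
      ⟨fun j => y j.as, by
        intro j j' f
        obtain ⟨k⟩ := j
        obtain ⟨k'⟩ := j'
        have hkk : k = k' := Discrete.eq_of_hom f
        subst hkk
        have : f = 𝟙 _ := Subsingleton.elim _ _
        subst this
        simp⟩
    refine ⟨e.symm s, ?_⟩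
    funext k
    have := Types.isLimitEquivSections_symm_apply hl s (Discrete.mk k)
    exact this

end prod

section exact

variable [Preadditive D] [HasZeroObject D] [HasShift D ℤ]
  [∀ n : ℤ, (shiftFunctor D n).Additive] [Pretriangulated D]
variable (H : Dᵒᵖ ⥤ AddCommGrpCat.{v}) [H.IsHomological]

/-- Exactness of `H` on a distinguished triangle, elementwise. -/
lemma exists_of_pull_eq_zero (T : Triangle D) (hT : T ∈ distTriang D) (x : H.obj (op T.obj₂))
    (hx : pull H x T.mor₁ = 0) : ∃ y : H.obj (op T.obj₃), pull H y T.mor₂ = x :=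
  (ShortComplex.ab_exact_iff _).1 (H.map_distinguished_op_exact T hT) x hx

end exact

end Groth.Agent.H2.Brown
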