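import Groth.Agent.Lib.Helper2.Brown1

/-!
# Brown representability: coproducts of triangles, shifted factorisation property
-/

universe w v u

open CategoryTheory CategoryTheory.Limits Opposite Pretriangulated

namespace Groth.Agent.H2.Brown

variable {D : Type u} [Category.{v} D] [Preadditive D] [HasZeroObject D] [HasShift D ℤ]
  [∀ n : ℤ, (shiftFunctor D n).Additive] [Pretriangulated D]

/-- Middle exactness of a coproduct of distinguished triangles. -/
lemma exists_lift_coprod {κ : Type w} (T : κ → Triangle D) (hT : ∀ k, T k ∈ distTriang D)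
    [HasCoproduct (fun k => (T k).obj₁)] [HasCoproduct (fun k => (T k).obj₂)]
    [HasCoproduct (fun k => (T k).obj₃)]
    {A : D} (δ : A ⟶ ∐ (fun k => (T k).obj₂))
    (hδ : δ ≫ Limits.Sigma.map (fun k => (T k).mor₂) = 0) :
    ∃ δ₁ : A ⟶ ∐ (fun k => (T k).obj₁), δ = δ₁ ≫ Limits.Sigma.map (fun k => (T k).mor₁) := by
  obtain ⟨Z, v, dd, hT'⟩ := distinguished_cocone_triangle
    (Limits.Sigma.map (fun k => (T k).mor₁))
  have hc : ∀ k, ∃ c : (T k).obj₃ ⟶ Z,
      (T k).mor₂ ≫ c = Sigma.ι (fun k => (T k).obj₂) k ≫ v := by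
    intro k
    obtain ⟨c, hc1, -⟩ := complete_distinguished_triangle_morphism (T k) _ (hT k) hT'
      (Sigma.ι (fun k => (T k).obj₁) k) (Sigma.ι (fun k => (T k).obj₂) k)
      (Sigma.ι_map (fun k => (T k).mor₁) k).symm
    exact ⟨c, hc1⟩
  choose c hc using hc
  have h1 : Limits.Sigma.map (fun k => (T k).mor₂) ≫ Sigma.desc c = v := by
    apply Sigma.hom_ext
    intro k
    rw [← Category.assoc, Sigma.ι_map, Category.assoc, Sigma.ι_desc, hc]
  have h2 : δ ≫ v = 0 := by rw [← h1, ← Category.assoc, hδ, zero_comp]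
  exact Triangle.coyoneda_exact₂ _ hT' δ h2

end Groth.Agent.H2.Brown

namespace Groth.Agent.H2.Brown

section fact

variable {D : Type u} [Category.{v} D] [HasColimitsOfShape (Discrete ℕ) D]

/-- The factorisation property of an object `P` with respect to a family `E`: every map from
`P` to a countable coproduct factors through a coproduct of maps from members of `E`. -/
def Fact {ι : Type w} (E : ι → D) (P : D) : Prop :=
  ∀ (X : ℕ → D) (α : P ⟶ ∐ X), ∃ (j : ℕ → ι) (β : ∀ n, E (j n) ⟶ X n)
    (γ : P ⟶ ∐ (fun n => E (j n))), α = γ ≫ Limits.Sigma.map β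

lemma Fact.of_iso {ι : Type w} {E : ι → D} {P P' : D} (e : P ≅ P') (h : Fact E P) :
    Fact E P' := by
  intro X α
  obtain ⟨j, β, γ, hα⟩ := h X (e.hom ≫ α)
  refine ⟨j, β, e.inv ≫ γ, ?_⟩
  rw [Category.assoc, ← hα, Iso.inv_hom_id_assoc]

/-- Transport of the factorisation property along an equivalence-like functor. -/
lemma Fact.map {ι : Type w} {E : ι → D} {P : D} (h : Fact E P) (G : D ⥤ D) [G.Full]
    [PreservesColimitsOfShape (Discrete ℕ) G] [G.EssSurj] :
    Fact (fun i => G.obj (E i)) (G.obj P) := by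
  intro X α
  let X' : ℕ → D := fun n => G.objPreimage (X n)
  let ε : ∀ n, G.obj (X' n) ≅ X n := fun n => G.objObjPreimageIso (X n)
  let d' : G.obj (∐ X') ≅ ∐ (fun n => G.obj (X' n)) := PreservesCoproduct.iso G X'
  obtain ⟨α', hα'⟩ := G.map_surjective (α ≫ Limits.Sigma.map (fun n => (ε n).inv) ≫ d'.inv)
  obtain ⟨j, β', γ', hfac⟩ := h X' α'
  let d : G.obj (∐ (fun n => E (j n))) ≅ ∐ (fun n => G.obj (E (j n))) :=
    PreservesCoproduct.iso G (fun n => E (j n))
  refine ⟨j, fun n => G.map (β' n) ≫ (ε n).hom, G.map γ' ≫ d.hom, ?_⟩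
  have hd : ∀ n, Sigma.ι (fun n => G.obj (E (j n))) n ≫ d.inv =
      G.map (Sigma.ι (fun n => E (j n)) n) := by
    intro n
    rw [PreservesCoproduct.inv_hom]
    exact ι_comp_sigmaComparison G _ n
  have hd' : ∀ n, G.map (Sigma.ι X' n) ≫ d'.hom = Sigma.ι (fun n => G.obj (X' n)) n := by
    intro n
    rw [← cancel_mono d'.inv, Category.assoc, Iso.hom_inv_id, Category.comp_id,
      PreservesCoproduct.inv_hom]
    exact (ι_comp_sigmaComparison G _ n).symm
  have hnat : G.map (Limits.Sigma.map β') ≫ d'.hom =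
      d.hom ≫ Limits.Sigma.map (fun n => G.map (β' n)) := by
    rw [← cancel_epi d.inv, Iso.inv_hom_id_assoc]
    apply Sigma.hom_ext
    intro n
    rw [← Category.assoc, hd, ← Category.assoc, ← G.map_comp, Sigma.ι_map, G.map_comp,
      Category.assoc, hd', Sigma.ι_map]
  have hsplit : Limits.Sigma.map (fun n => G.map (β' n) ≫ (ε n).hom) =
      Limits.Sigma.map (fun n => G.map (β' n)) ≫ Limits.Sigma.map (fun n => (ε n).hom) := by
    apply Sigma.hom_ext
    intro n
    simp
  have hεε : Limits.Sigma.map (fun n => (ε n).inv) ≫ Limits.Sigma.map (fun n => (ε n).hom) =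
      𝟙 _ := by
    apply Sigma.hom_ext
    intro n
    simp
  calc α = (α ≫ Limits.Sigma.map (fun n => (ε n).inv) ≫ d'.inv) ≫ d'.hom ≫
        Limits.Sigma.map (fun n => (ε n).hom) := by
        simp only [Category.assoc, Iso.inv_hom_id_assoc]
        rw [hεε, Category.comp_id]
    _ = G.map (γ' ≫ Limits.Sigma.map β') ≫ d'.hom ≫ Limits.Sigma.map (fun n => (ε n).hom) := by
        rw [← hα', hfac]
    _ = (G.map γ' ≫ d.hom) ≫ Limits.Sigma.map (fun n => G.map (β' n) ≫ (ε n).hom) := by
        rw [G.map_comp, Category.assoc, ← Category.assoc (G.map (Limits.Sigma.map β')), hnat,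
          hsplit]
        simp only [Category.assoc]

end fact

end Groth.Agent.H2.Brown
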