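import Groth.Agent.Lib.Helper2.Brown2
import Groth.Prelude.Def_DerLim

/-!
# Brown representability: the tower
-/

universe v u

open CategoryTheory CategoryTheory.Limits Opposite Pretriangulated
open CategoryTheory.Pretriangulated.Opposite

namespace Groth.Agent.H2.Brown

variable {D : Type u} [Category.{v} D] [Preadditive D] [HasZeroObject D] [HasShift D ℤ]
  [∀ n : ℤ, (shiftFunctor D n).Additive] [Pretriangulated D] [HasCoproducts.{v} D]
  [HasColimitsOfShape (Discrete ℕ) D]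
variable (H : Dᵒᵖ ⥤ AddCommGrpCat.{v}) [H.IsHomological]
  [∀ (κ : Type v), PreservesLimitsOfShape (Discrete κ) H]
variable {ι' : Type v} (Ê : ι' → D)

/-- The tower of approximations. -/
structure Tower where
  /-- the objects -/
  X : ℕ → D
  /-- the elements -/
  a : ∀ n, H.obj (op (X n))
  /-- the transition maps -/
  φ : ∀ n, X n ⟶ X (n + 1)
  ha : ∀ n, pull H (a (n + 1)) (φ n) = a n
  kill : ∀ (n : ℕ) (e : ι') (f : Ê e ⟶ X n), pull H (a n) f = 0 → f ≫ φ n = 0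
  surj : ∀ (e : ι') (b : H.obj (op (Ê e))), ∃ f : Ê e ⟶ X 0, pull H (a 0) f = b

variable {H Ê}

lemma exists_start (X₀ : D) (a₀ : H.obj (op X₀)) :
    ∃ (X : D) (a : H.obj (op X)) (j : X₀ ⟶ X), pull H a j = a₀ ∧
      ∀ (e : ι') (b : H.obj (op (Ê e))), ∃ f : Ê e ⟶ X, pull H a f = b := by
  let G : D := ∐ (fun p : (Σ e : ι', H.obj (op (Ê e))) => Ê p.1)
  obtain ⟨g, hg⟩ := (prod_bijective H (fun p : (Σ e : ι', H.obj (op (Ê e))) => Ê p.1)).2
    (fun p => p.2)
  have hg' : ∀ p : (Σ e : ι', H.obj (op (Ê e))),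
      pull H g (Sigma.ι (fun p : (Σ e : ι', H.obj (op (Ê e))) => Ê p.1) p) = p.2 :=
    fun p => congrFun hg p
  refine ⟨X₀ ⊞ G, pull H a₀ biprod.fst + pull H g biprod.snd, biprod.inl, ?_, ?_⟩
  · rw [pull_add_left, pull_pull, pull_pull, biprod.inl_fst, biprod.inl_snd, pull_id,
      pull_zero_right, add_zero]
  · intro e b
    refine ⟨Sigma.ι (fun p : (Σ e : ι', H.obj (op (Ê e))) => Ê p.1) ⟨e, b⟩ ≫ biprod.inr, ?_⟩
    rw [pull_add_left, pull_pull, pull_pull, Category.assoc, Category.assoc, biprod.inr_fst,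
      biprod.inr_snd, comp_zero, Category.comp_id, pull_zero_right, zero_add]
    exact hg' ⟨e, b⟩

lemma exists_step (X : D) (a : H.obj (op X)) :
    ∃ (X' : D) (φ : X ⟶ X') (a' : H.obj (op X')), pull H a' φ = a ∧
      ∀ (e : ι') (f : Ê e ⟶ X), pull H a f = 0 → f ≫ φ = 0 := by
  let J := Σ e : ι', {f : Ê e ⟶ X // pull H a f = 0}
  let κ : (∐ (fun p : J => Ê p.1)) ⟶ X := Sigma.desc (fun p => p.2.1)
  obtain ⟨X', φ, ψ, hT⟩ := distinguished_cocone_triangle κ
  have h0 : pull H a κ = 0 := by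
    apply (prod_bijective H (fun p : J => Ê p.1)).1
    funext p
    dsimp only
    rw [pull_pull, Sigma.ι_desc, pull_zero_left]
    exact p.2.2
  obtain ⟨a', ha'⟩ := exists_of_pull_eq_zero H _ hT a h0
  refine ⟨X', φ, a', ha', ?_⟩
  intro e f hf
  have : f = Sigma.ι (fun p : J => Ê p.1) ⟨e, f, hf⟩ ≫ κ := by rw [Sigma.ι_desc]
  rw [this, Category.assoc]
  have hz : κ ≫ φ = 0 := comp_distTriang_mor_zero₁₂ _ hT
  rw [hz, comp_zero]

section recursion

variable (H Ê)

/-- A stage: an object with an element. -/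
def St := Σ X : D, H.obj (op X)

variable {H Ê}

/-- The next stage. -/
noncomputable def nextSt (S : St H) : St H :=
  ⟨(exists_step (Ê := Ê) S.1 S.2).choose, (exists_step (Ê := Ê) S.1 S.2).choose_spec.choose_spec.choose⟩

/-- The transition map to the next stage. -/
noncomputable def nextφ (S : St H) : S.1 ⟶ (nextSt (Ê := Ê) S).1 :=
  (exists_step (Ê := Ê) S.1 S.2).choose_spec.choose

lemma nextφ_spec (S : St H) :
    pull H (nextSt (Ê := Ê) S).2 (nextφ (Ê := Ê) S) = S.2 ∧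
      ∀ (e : ι') (f : Ê e ⟶ S.1), pull H S.2 f = 0 → f ≫ nextφ (Ê := Ê) S = 0 :=
  (exists_step (Ê := Ê) S.1 S.2).choose_spec.choose_spec.choose_spec

/-- The sequence of stages. -/
noncomputable def seqSt (S₀ : St H) : ℕ → St H
  | 0 => S₀
  | n + 1 => nextSt (Ê := Ê) (seqSt S₀ n)

theorem exists_tower (X₀ : D) (a₀ : H.obj (op X₀)) :
    ∃ (T : Tower H Ê) (j : X₀ ⟶ T.X 0), pull H (T.a 0) j = a₀ := by
  obtain ⟨X, a, j, hj, hsurj⟩ := exists_start (Ê := Ê) X₀ a₀
  let S₀ : St H := ⟨X, a⟩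
  refine ⟨{ X := fun n => (seqSt (Ê := Ê) S₀ n).1
            a := fun n => (seqSt (Ê := Ê) S₀ n).2
            φ := fun n => nextφ (Ê := Ê) (seqSt (Ê := Ê) S₀ n)
            ha := fun n => (nextφ_spec (Ê := Ê) (seqSt (Ê := Ê) S₀ n)).1
            kill := fun n e f hf => (nextφ_spec (Ê := Ê) (seqSt (Ê := Ê) S₀ n)).2 e f hf
            surj := hsurj }, j, hj⟩

end recursion

end Groth.Agent.H2.Brown
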