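import Groth.Agent.Lib.Helper2.Brown3

/-!
# Brown representability: the homotopy colimit of the tower
-/

universe v u

open CategoryTheory CategoryTheory.Limits Opposite Pretriangulated
open CategoryTheory.Pretriangulated.Opposite

namespace Groth.Agent.H2.Brown

variable {D : Type u} [Category.{v} D] [Preadditive D] [HasZeroObject D] [HasShift D ℤ]
  [∀ n : ℤ, (shiftFunctor D n).Additive] [Pretriangulated D] [HasCoproducts.{v} D]
  [HasColimitsOfShape (Discrete ℕ) D]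
variable {H : Dᵒᵖ ⥤ AddCommGrpCat.{v}} [H.IsHomological]
  [∀ (κ : Type v), PreservesLimitsOfShape (Discrete κ) H]
variable {ι' : Type v} {Ê : ι' → D}

instance preservesNat : PreservesLimitsOfShape (Discrete ℕ) H :=
  preservesLimitsOfShape_of_equiv (Discrete.equivalence Equiv.ulift.{v, 0}) H

namespace Tower

variable (T : Tower H Ê)

/-- The composite `X 0 ⟶ X n`. -/
def Φ0 : ∀ n : ℕ, T.X 0 ⟶ T.X n
  | 0 => 𝟙 _
  | n + 1 => Φ0 n ≫ T.φ n

lemma pull_Φ0 (n : ℕ) : pull H (T.a n) (T.Φ0 n) = T.a 0 := by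
  induction n with
  | zero => exact pull_id _
  | succ n ih =>
    change pull H (T.a (n + 1)) (T.Φ0 n ≫ T.φ n) = _
    rw [← pull_pull, T.ha, ih]

/-- The shift map on the coproduct. -/
noncomputable abbrev sh : (∐ T.X) ⟶ ∐ T.X := DerLim.shiftMap T.X T.φ

lemma ι_sh (n : ℕ) : Sigma.ι T.X n ≫ T.sh = T.φ n ≫ Sigma.ι T.X (n + 1) := by
  dsimp only [sh, DerLim.shiftMap]
  rw [Sigma.ι_desc]

/-- A homotopy colimit of the tower with a compatible element. -/
structure Hocolim where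
  /-- the object -/
  Y : D
  /-- the projection -/
  p : (∐ T.X) ⟶ Y
  /-- the connecting map -/
  q : Y ⟶ (∐ T.X)⟦(1 : ℤ)⟧
  dist : Triangle.mk (𝟙 _ - T.sh) p q ∈ distTriang D
  /-- the element -/
  ah : H.obj (op Y)
  hah : ∀ n, pull H ah (Sigma.ι T.X n ≫ p) = T.a n

lemma exists_hocolim : Nonempty T.Hocolim := by
  obtain ⟨Y, p, q, hdist⟩ := distinguished_cocone_triangle (𝟙 _ - T.sh)
  obtain ⟨at', hat⟩ := (prod_bijective H T.X).2 (fun n => T.a n)
  have hat' : ∀ n, pull H at' (Sigma.ι T.X n) = T.a n := fun n => congrFun hat n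
  have h0 : pull H at' (𝟙 _ - T.sh) = 0 := by
    apply (prod_bijective H T.X).1
    funext n
    dsimp only
    rw [pull_pull, pull_zero_left, Preadditive.comp_sub, Category.comp_id, T.ι_sh,
      pull_sub_right, hat', ← pull_pull, hat', T.ha, sub_self]
  obtain ⟨ah, hah⟩ : ∃ ah : H.obj (op Y), pull H ah p = at' :=
    exists_of_pull_eq_zero H _ hdist at' h0
  exact ⟨⟨Y, p, q, hdist, ah, fun n => by
    rw [← pull_pull, hah, hat']⟩⟩

variable {T} (L : T.Hocolim)

lemma Hocolim.sh_p : T.sh ≫ L.p = L.p := by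
  have h : (𝟙 _ - T.sh) ≫ L.p = 0 := comp_distTriang_mor_zero₁₂ _ L.dist
  rw [Preadditive.sub_comp, Category.id_comp, sub_eq_zero] at h
  exact h.symm

lemma Hocolim.ι_p (n : ℕ) :
    Sigma.ι T.X n ≫ L.p = T.φ n ≫ Sigma.ι T.X (n + 1) ≫ L.p := by
  conv_lhs => rw [← L.sh_p, ← Category.assoc, T.ι_sh, Category.assoc]

lemma Hocolim.Φ0_ι_p (n : ℕ) :
    T.Φ0 n ≫ Sigma.ι T.X n ≫ L.p = Sigma.ι T.X 0 ≫ L.p := by
  induction n with
  | zero => exact Category.id_comp _
  | succ n ih =>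
    change (T.Φ0 n ≫ T.φ n) ≫ _ = _
    rw [Category.assoc, ← L.ι_p, ih]

end Tower

end Groth.Agent.H2.Brown
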