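import Groth.Agent.Lib.Helper2.Brown4

/-!
# Brown representability: the homotopy colimit of the tower represents `H` on the family
-/

universe v u

open CategoryTheory CategoryTheory.Limits Opposite Pretriangulated
open CategoryTheory.Pretriangulated.Opposite

namespace Groth.Agent.H2.Brown

section const

variable {D : Type u} [Category.{v} D] [Preadditive D] [HasColimitsOfShape (Discrete ℕ) D]
variable (A : D)

/-- The countable coproduct of copies of `A`. -/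
noncomputable abbrev CC : D := ∐ (fun _ : ℕ => A)

/-- The inclusions. -/
noncomputable abbrev kap (n : ℕ) : A ⟶ CC A := Sigma.ι (fun _ : ℕ => A) n

variable {A} in
lemma CC_hom_ext {Z : D} (f g : CC A ⟶ Z) (h : ∀ n, kap A n ≫ f = kap A n ≫ g) : f = g :=
  Sigma.hom_ext _ _ h

/-- The shift on the constant coproduct. -/
noncomputable def sC : CC A ⟶ CC A := Sigma.desc (fun n => kap A (n + 1))

lemma kap_sC (n : ℕ) : kap A n ≫ sC A = kap A (n + 1) := by
  exact Sigma.ι_desc _ _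

/-- The partial sums `-(κ₀ + ⋯ + κ_{k-1})`. -/
noncomputable def rr : ℕ → (A ⟶ CC A)
  | 0 => 0
  | k + 1 => rr k - kap A k

/-- The retraction of `𝟙 - sC`. -/
noncomputable def rC : CC A ⟶ CC A := Sigma.desc (rr A)

lemma kap_rC (n : ℕ) : kap A n ≫ rC A = rr A n := by
  exact Sigma.ι_desc _ _

lemma uC_rC : (𝟙 _ - sC A) ≫ rC A = 𝟙 _ := by
  apply CC_hom_ext
  intro n
  rw [Preadditive.sub_comp, Preadditive.comp_sub, Category.id_comp, ← Category.assoc, kap_sC,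
    kap_rC, kap_rC, Category.comp_id]
  change rr A n - (rr A n - kap A n) = _
  abel

end const

variable {D : Type u} [Category.{v} D] [Preadditive D] [HasZeroObject D] [HasShift D ℤ]
  [∀ n : ℤ, (shiftFunctor D n).Additive] [Pretriangulated D] [HasCoproducts.{v} D]
  [HasColimitsOfShape (Discrete ℕ) D]
variable {H : Dᵒᵖ ⥤ AddCommGrpCat.{v}} [H.IsHomological]
  [∀ (κ : Type v), PreservesLimitsOfShape (Discrete κ) H]
variable {ι' : Type v} {Ê : ι' → D}

namespace Tower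

variable (T : Tower H Ê)

lemma exists_eps {n : ℕ} {e : ι'} (β : Ê e ⟶ T.X n) :
    ∃ ε : Ê e ⟶ T.X 0, β ≫ T.φ n = ε ≫ T.Φ0 (n + 1) := by
  obtain ⟨ε, hε⟩ := T.surj e (pull H (T.a n) β)
  have h0 : pull H (T.a n) (β - ε ≫ T.Φ0 n) = 0 := by
    rw [pull_sub_right, ← pull_pull, T.pull_Φ0, hε, sub_self]
  have h1 := T.kill n e _ h0
  rw [Preadditive.sub_comp, sub_eq_zero, Category.assoc] at h1
  exact ⟨ε, h1⟩

/-- The comparison map from the constant coproduct. -/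
noncomputable def cT : CC (T.X 0) ⟶ ∐ T.X := Sigma.desc (fun n => T.Φ0 n ≫ Sigma.ι T.X n)

lemma kap_cT (n : ℕ) : kap (T.X 0) n ≫ T.cT = T.Φ0 n ≫ Sigma.ι T.X n := by
  exact Sigma.ι_desc _ _

lemma sC_cT : sC (T.X 0) ≫ T.cT = T.cT ≫ T.sh := by
  apply CC_hom_ext
  intro n
  rw [← Category.assoc, kap_sC, kap_cT, ← Category.assoc, kap_cT, Category.assoc, T.ι_sh]
  change (T.Φ0 n ≫ T.φ n) ≫ _ = _
  rw [Category.assoc]

lemma comp_Φ0_succ {Q : D} (g : Q ⟶ T.X 0) (hg : g ≫ T.φ 0 = 0) (n : ℕ) :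
    g ≫ T.Φ0 (n + 1) = 0 := by
  induction n with
  | zero =>
    change g ≫ (𝟙 _ ≫ T.φ 0) = 0
    rw [Category.id_comp, hg]
  | succ n ih =>
    change g ≫ (T.Φ0 (n + 1) ≫ T.φ (n + 1)) = 0
    rw [← Category.assoc, ih, zero_comp]

lemma comp_rr_cT {Q : D} (g : Q ⟶ T.X 0) (hg : g ≫ T.φ 0 = 0) (n : ℕ) :
    g ≫ rr (T.X 0) (n + 1) ≫ T.cT = -(g ≫ Sigma.ι T.X 0) := by
  induction n with
  | zero =>
    change g ≫ (0 - kap (T.X 0) 0) ≫ T.cT = _
    rw [zero_sub, Preadditive.neg_comp, Preadditive.comp_neg, kap_cT]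
    change -(g ≫ 𝟙 _ ≫ _) = _
    rw [Category.id_comp]
  | succ n ih =>
    change g ≫ (rr (T.X 0) (n + 1) - kap (T.X 0) (n + 1)) ≫ T.cT = _
    rw [Preadditive.sub_comp, Preadditive.comp_sub, ih, kap_cT, ← Category.assoc,
      T.comp_Φ0_succ g hg, zero_comp, sub_zero]

variable {T}

/-- Claim B: maps from a member of the family into the coproduct are, after projecting to the
homotopy colimit, induced from maps into `X 0`. -/
lemma Hocolim.exists_factor (L : T.Hocolim) (hF : ∀ e, Fact Ê (Ê e)) {e : ι'}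
    (f' : Ê e ⟶ ∐ T.X) :
    ∃ g : Ê e ⟶ T.X 0, f' ≫ L.p = g ≫ Sigma.ι T.X 0 ≫ L.p := by
  obtain ⟨j, β, γ, hfac⟩ := hF e T.X f'
  choose ε hε using fun n => T.exists_eps (β n)
  refine ⟨γ ≫ Sigma.desc ε, ?_⟩
  rw [hfac, Category.assoc, Category.assoc]
  congr 1
  apply Sigma.hom_ext
  intro n
  rw [← Category.assoc, Sigma.ι_map, Category.assoc, ← Category.assoc (Sigma.ι _ n),
    Sigma.ι_desc, L.ι_p, ← Category.assoc, hε, Category.assoc, L.Φ0_ι_p]

lemma Hocolim.eq_zero_of_pull_eq_zero (L : T.Hocolim) (hF : ∀ e, Fact Ê (Ê e)) {e : ι'}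
    (f' : Ê e ⟶ ∐ T.X) (h : pull H L.ah (f' ≫ L.p) = 0) : f' ≫ L.p = 0 := by
  obtain ⟨g, hg⟩ := L.exists_factor hF f'
  rw [hg, ← pull_pull, L.hah 0] at h
  rw [hg]
  have h1 : pull H (T.a 0) g = 0 := h
  have h2 := T.kill 0 e g h1
  rw [L.ι_p, ← Category.assoc, h2, zero_comp]

variable (T) in
/-- Claim A': `𝟙 - sh` is injective on maps out of members of the family. -/
lemma eq_zero_of_comp_sh (hF : ∀ e, Fact Ê (Ê e)) {e : ι'}
    (α : Ê e ⟶ ∐ T.X) (hα : α ≫ T.sh = α) : α = 0 := by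
  obtain ⟨j, β, γ, hfac⟩ := hF e T.X α
  choose ε hε using fun n => T.exists_eps (β n)
  -- the lift to the constant coproduct
  have hω : (γ ≫ Sigma.desc (fun n => ε n ≫ kap (T.X 0) (n + 1))) ≫ T.cT = α := by
    conv_rhs => rw [← hα, hfac]
    rw [Category.assoc, Category.assoc]
    congr 1
    apply Sigma.hom_ext
    intro n
    calc Sigma.ι _ n ≫ Sigma.desc (fun n => ε n ≫ kap (T.X 0) (n + 1)) ≫ T.cT
        = (ε n ≫ kap (T.X 0) (n + 1)) ≫ T.cT := by rw [← Category.assoc, Sigma.ι_desc]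
      _ = (ε n ≫ T.Φ0 (n + 1)) ≫ Sigma.ι T.X (n + 1) := by
          rw [Category.assoc, kap_cT, Category.assoc]
      _ = (β n ≫ T.φ n) ≫ Sigma.ι T.X (n + 1) := by rw [hε]
      _ = β n ≫ Sigma.ι T.X n ≫ T.sh := by rw [T.ι_sh, Category.assoc]
      _ = Sigma.ι _ n ≫ Limits.Sigma.map β ≫ T.sh := by
          rw [← Category.assoc (Sigma.ι _ n), Sigma.ι_map, Category.assoc]
  obtain ⟨ω, hω⟩ : ∃ ω : Ê e ⟶ CC (T.X 0), ω ≫ T.cT = α := ⟨_, hω⟩
  have hω' : (ω ≫ (𝟙 _ - sC (T.X 0))) ≫ T.cT = 0 := by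
    rw [Category.assoc, Preadditive.sub_comp, Category.id_comp, T.sC_cT, Preadditive.comp_sub,
      ← Category.assoc, hω, hα, sub_self]
  -- triangles on the maps `Φ0 n`
  choose W w h hW using fun n => distinguished_cocone_triangle₁ (T.Φ0 n)
  have hcT : T.cT = Limits.Sigma.map (fun n => T.Φ0 n) := by
    apply Sigma.hom_ext
    intro n
    rw [Sigma.ι_map]
    exact T.kap_cT n
  obtain ⟨δ₁, hδ₁⟩ : ∃ δ₁ : Ê e ⟶ ∐ W, ω ≫ (𝟙 _ - sC (T.X 0)) = δ₁ ≫ Limits.Sigma.map w :=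
    exists_lift_coprod (fun n => Triangle.mk (w n) (T.Φ0 n) (h n)) hW
      (ω ≫ (𝟙 _ - sC (T.X 0))) (by rw [hcT] at hω'; exact hω')
  obtain ⟨j', β', δ, hδ⟩ := hF e W δ₁
  have hζΦ : ∀ n, (β' n ≫ w n) ≫ T.Φ0 n = 0 := by
    intro n
    rw [Category.assoc]
    have : w n ≫ T.Φ0 n = 0 := comp_distTriang_mor_zero₁₂ _ (hW n)
    rw [this, comp_zero]
  have hζφ : ∀ n, (β' n ≫ w n) ≫ T.φ 0 = 0 := by
    intro n
    apply T.kill 0 (j' n)
    rw [← T.pull_Φ0 n, pull_pull, hζΦ, pull_zero_right]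
  have hζ0 : β' 0 ≫ w 0 = 0 := by
    have := hζΦ 0
    change (β' 0 ≫ w 0) ≫ 𝟙 _ = 0 at this
    rwa [Category.comp_id] at this
  have hω'' : ω ≫ (𝟙 _ - sC (T.X 0)) =
      δ ≫ Sigma.desc (fun n => (β' n ≫ w n) ≫ kap (T.X 0) n) := by
    rw [hδ₁, hδ, Category.assoc]
    congr 1
    apply Sigma.hom_ext
    intro n
    rw [← Category.assoc, Sigma.ι_map, Category.assoc, Sigma.ι_map, Sigma.ι_desc,
      Category.assoc]
  have hkey : Sigma.desc (fun n => (β' n ≫ w n) ≫ kap (T.X 0) n) ≫ rC (T.X 0) ≫ T.cT =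
      -(Sigma.desc (fun n => β' n ≫ w n) ≫ Sigma.ι T.X 0) := by
    apply Sigma.hom_ext
    intro n
    rw [← Category.assoc, Sigma.ι_desc, Preadditive.comp_neg, ← Category.assoc (Sigma.ι _ n),
      Sigma.ι_desc, Category.assoc, ← Category.assoc (kap _ n), kap_rC]
    cases n with
    | zero =>
      rw [hζ0, zero_comp, zero_comp, neg_zero]
    | succ n => exact T.comp_rr_cT _ (hζφ (n + 1)) n
  have hα2 : α = (-(δ ≫ Sigma.desc (fun n => β' n ≫ w n))) ≫ Sigma.ι T.X 0 := by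
    calc α = ω ≫ ((𝟙 _ - sC (T.X 0)) ≫ rC (T.X 0)) ≫ T.cT := by
          rw [uC_rC, Category.id_comp, hω]
      _ = (ω ≫ (𝟙 _ - sC (T.X 0))) ≫ rC (T.X 0) ≫ T.cT := by
          simp only [Category.assoc]
      _ = _ := by
          rw [hω'', Category.assoc, hkey, Preadditive.comp_neg, Preadditive.neg_comp,
            Category.assoc]
  have hθ : (-(δ ≫ Sigma.desc (fun n => β' n ≫ w n))) ≫ T.φ 0 = 0 := by
    rw [Preadditive.neg_comp, Category.assoc, neg_eq_zero]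
    have : Sigma.desc (fun n => β' n ≫ w n) ≫ T.φ 0 = 0 := by
      apply Sigma.hom_ext
      intro n
      rw [← Category.assoc, Sigma.ι_desc, hζφ, comp_zero]
    rw [this, comp_zero]
  rw [← hα, hα2, Category.assoc, T.ι_sh, ← Category.assoc, hθ, zero_comp]

/-- Claim A: maps from members of the family into the homotopy colimit lift to the coproduct. -/
lemma Hocolim.comp_q (L : T.Hocolim) (hF : ∀ e, Fact Ê (Ê e))
    (hS : ∀ e, ∃ e', Nonempty ((Ê e')⟦(1 : ℤ)⟧ ≅ Ê e)) {e : ι'} (f : Ê e ⟶ L.Y) :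
    f ≫ L.q = 0 := by
  obtain ⟨e', ⟨i⟩⟩ := hS e
  obtain ⟨α', hα'⟩ := (shiftFunctor D (1 : ℤ)).map_surjective (i.hom ≫ f ≫ L.q)
  have h1 : α' ≫ (𝟙 _ - T.sh) = 0 := by
    apply (shiftFunctor D (1 : ℤ)).map_injective
    rw [Functor.map_comp, hα', Functor.map_zero, Category.assoc, Category.assoc]
    have : L.q ≫ (𝟙 _ - T.sh)⟦(1 : ℤ)⟧' = 0 := comp_distTriang_mor_zero₃₁ _ L.dist
    rw [this, comp_zero, comp_zero]
  have h2 : α' ≫ T.sh = α' := by
    rw [Preadditive.comp_sub, Category.comp_id, sub_eq_zero] at h1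
    exact h1.symm
  have h3 := T.eq_zero_of_comp_sh hF α' h2
  rw [h3, Functor.map_zero] at hα'
  rw [← cancel_epi i.hom, comp_zero, ← hα']

/-- Property (D): the homotopy colimit represents `H` on the family. -/
theorem Hocolim.bijective (L : T.Hocolim) (hF : ∀ e, Fact Ê (Ê e))
    (hS : ∀ e, ∃ e', Nonempty ((Ê e')⟦(1 : ℤ)⟧ ≅ Ê e)) (e : ι') :
    Function.Bijective (fun f : Ê e ⟶ L.Y => pull H L.ah f) := by
  constructor
  · intro f g hfg
    have h0 : pull H L.ah (f - g) = 0 := by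
      rw [pull_sub_right]
      exact sub_eq_zero.2 hfg
    have hq := L.comp_q hF hS (f - g)
    obtain ⟨f', hf'⟩ : ∃ f' : Ê e ⟶ ∐ T.X, f - g = f' ≫ L.p :=
      Triangle.coyoneda_exact₃ _ L.dist (f - g) hq
    rw [hf'] at h0
    have := L.eq_zero_of_pull_eq_zero hF f' h0
    rw [← hf'] at this
    exact sub_eq_zero.1 this
  · intro b
    obtain ⟨f, hf⟩ := T.surj e b
    refine ⟨f ≫ Sigma.ι T.X 0 ≫ L.p, ?_⟩
    change pull H L.ah (f ≫ Sigma.ι T.X 0 ≫ L.p) = b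
    rw [← pull_pull, L.hah 0, hf]

end Tower

end Groth.Agent.H2.Brown
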