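import Groth.Agent.Lib.Helper2.Brown5

/-!
# Brown representability: from the family to all objects
-/

universe v u

open CategoryTheory CategoryTheory.Limits Opposite Pretriangulated
open CategoryTheory.Pretriangulated.Opposite

namespace Groth.Agent.H2.Brown

variable {D : Type u} [Category.{v} D] [Preadditive D] [HasZeroObject D] [HasShift D ℤ]
  [∀ n : ℤ, (shiftFunctor D n).Additive] [Pretriangulated D] [HasCoproducts.{v} D]
  [HasColimitsOfShape (Discrete ℕ) D]
variable {H : Dᵒᵖ ⥤ AddCommGrpCat.{v}} [H.IsHomological]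
  [∀ (κ : Type v), PreservesLimitsOfShape (Discrete κ) H]
variable {ι' : Type v} (Ê : ι' → D)

/-- A pair `(X, a)` which represents `H` on the family. -/
def Good (X : D) (a : H.obj (op X)) : Prop :=
  ∀ e, Function.Bijective (fun f : Ê e ⟶ X => pull H a f)

variable {Ê}

lemma Good.isIso (h1 : ∀ X : D, ¬ IsZero X → ∃ (e : ι') (f : Ê e ⟶ X), f ≠ 0)
    (hS : ∀ e, ∃ e', Nonempty ((Ê e')⟦(1 : ℤ)⟧ ≅ Ê e))
    {X X' : D} {a : H.obj (op X)} {a' : H.obj (op X')} (hX : Good Ê X a) (hX' : Good Ê X' a')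
    (j : X ⟶ X') (hj : pull H a' j = a) : IsIso j := by
  have hbij : ∀ e, Function.Bijective (fun f : Ê e ⟶ X => f ≫ j) := by
    intro e
    have hc : (fun f : Ê e ⟶ X' => pull H a' f) ∘ (fun f : Ê e ⟶ X => f ≫ j) =
        fun f : Ê e ⟶ X => pull H a f := by
      funext f
      change pull H a' (f ≫ j) = pull H a f
      rw [← pull_pull, hj]
    have := hX e
    rw [← hc] at this
    exact (Function.Bijective.of_comp_iff' (hX' e) _).1 this
  obtain ⟨Z, k, l, hT⟩ := distinguished_cocone_triangle j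
  have hZ : IsZero Z := by
    by_contra hZ
    obtain ⟨e, g, hg⟩ := h1 Z hZ
    apply hg
    obtain ⟨e', ⟨i⟩⟩ := hS e
    have hgl : g ≫ l = 0 := by
      obtain ⟨α, hα⟩ := (shiftFunctor D (1 : ℤ)).map_surjective (i.hom ≫ g ≫ l)
      have h0 : α ≫ j = 0 := by
        apply (shiftFunctor D (1 : ℤ)).map_injective
        rw [Functor.map_comp, hα, Functor.map_zero, Category.assoc, Category.assoc]
        have : l ≫ j⟦(1 : ℤ)⟧' = 0 := comp_distTriang_mor_zero₃₁ _ hT
        rw [this, comp_zero, comp_zero]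
      have h00 : α = 0 := (hbij e').1 (by
        change α ≫ j = 0 ≫ j
        rw [h0, zero_comp])
      rw [h00, Functor.map_zero] at hα
      rw [← cancel_epi i.hom, comp_zero, ← hα]
    obtain ⟨g', hg'⟩ : ∃ g' : Ê e ⟶ X', g = g' ≫ k := Triangle.coyoneda_exact₃ _ hT g hgl
    obtain ⟨g'', hg''⟩ : ∃ g'' : Ê e ⟶ X, g'' ≫ j = g' := (hbij e).2 g'
    have hjk : j ≫ k = 0 := comp_distTriang_mor_zero₁₂ _ hT
    rw [hg', ← hg'', Category.assoc, hjk, comp_zero]
  exact (Triangle.isZero₃_iff_isIso₁ _ hT).1 hZ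

lemma exists_good (hF : ∀ e, Fact Ê (Ê e))
    (hS : ∀ e, ∃ e', Nonempty ((Ê e')⟦(1 : ℤ)⟧ ≅ Ê e)) (X₀ : D) (a₀ : H.obj (op X₀)) :
    ∃ (X : D) (a : H.obj (op X)) (J : X₀ ⟶ X), Good Ê X a ∧ pull H a J = a₀ := by
  obtain ⟨T, j, hj⟩ := exists_tower (Ê := Ê) X₀ a₀
  obtain ⟨L⟩ := T.exists_hocolim
  exact ⟨L.Y, L.ah, j ≫ Sigma.ι T.X 0 ≫ L.p, L.bijective hF hS, by
    rw [← pull_pull, L.hah 0, hj]⟩

lemma Good.bijective (h1 : ∀ X : D, ¬ IsZero X → ∃ (e : ι') (f : Ê e ⟶ X), f ≠ 0)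
    (hF : ∀ e, Fact Ê (Ê e))
    (hS : ∀ e, ∃ e', Nonempty ((Ê e')⟦(1 : ℤ)⟧ ≅ Ê e))
    {X : D} {a : H.obj (op X)} (hX : Good Ê X a) (Y : D) :
    Function.Bijective (fun f : Y ⟶ X => pull H a f) := by
  constructor
  · intro f g hfg
    have h0 : pull H a (f - g) = 0 := by
      rw [pull_sub_right]
      exact sub_eq_zero.2 hfg
    obtain ⟨Z, k, l, hT⟩ := distinguished_cocone_triangle (f - g)
    obtain ⟨z, hz⟩ : ∃ z : H.obj (op Z), pull H z k = a :=
      exists_of_pull_eq_zero H _ hT a h0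
    obtain ⟨X', a', J, hX', hJ⟩ := exists_good hF hS Z z
    have : IsIso (k ≫ J) := Good.isIso h1 hS hX hX' (k ≫ J) (by rw [← pull_pull, hJ, hz])
    have hfk : (f - g) ≫ k = 0 := comp_distTriang_mor_zero₁₂ _ hT
    have h2 : (f - g) ≫ (k ≫ J) = 0 := by rw [← Category.assoc, hfk, zero_comp]
    have h3 : f - g = 0 := by
      rw [← cancel_mono (k ≫ J), h2, zero_comp]
    exact sub_eq_zero.1 h3
  · intro b
    obtain ⟨X', a', J, hX', hJ⟩ := exists_good hF hS (X ⊞ Y)
      (pull H a biprod.fst + pull H b biprod.snd)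
    have hinl : pull H a' (biprod.inl ≫ J) = a := by
      rw [← pull_pull, hJ, pull_add_left, pull_pull, pull_pull, biprod.inl_fst, biprod.inl_snd,
        pull_id, pull_zero_right, add_zero]
    have hinr : pull H a' (biprod.inr ≫ J) = b := by
      rw [← pull_pull, hJ, pull_add_left, pull_pull, pull_pull, biprod.inr_fst, biprod.inr_snd,
        pull_id, pull_zero_right, zero_add]
    have : IsIso (biprod.inl ≫ J) := Good.isIso h1 hS hX hX' _ hinl
    refine ⟨(biprod.inr ≫ J) ≫ inv (biprod.inl ≫ J), ?_⟩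
    change pull H a ((biprod.inr ≫ J) ≫ inv (biprod.inl ≫ J)) = b
    rw [← hinl, pull_pull, Category.assoc, IsIso.inv_hom_id, Category.comp_id, hinr]

/-- Brown representability for a family closed under desuspension. -/
theorem representable (h1 : ∀ X : D, ¬ IsZero X → ∃ (e : ι') (f : Ê e ⟶ X), f ≠ 0)
    (hF : ∀ e, Fact Ê (Ê e))
    (hS : ∀ e, ∃ e', Nonempty ((Ê e')⟦(1 : ℤ)⟧ ≅ Ê e)) :
    (H ⋙ forget AddCommGrpCat.{v}).IsRepresentable := by
  haveI := HasZeroObject.zero' D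
  obtain ⟨X, a, -, hX, -⟩ := exists_good (H := H) hF hS (0 : D) 0
  have hb := fun Y => Good.bijective h1 hF hS hX Y
  refine ⟨X, ⟨{ homEquiv := fun {Y} => Equiv.ofBijective _ (hb Y)
                homEquiv_comp := ?_ }⟩⟩
  intro Y Y' f g
  change pull H a (f ≫ g) = pull H (pull H a g) f
  rw [pull_pull]

end Groth.Agent.H2.Brown
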