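import Groth.Agent.Lib.Helper2.Brown6

/-!
# Brown representability: the statement for an arbitrary family (closing it under shifts)
-/

universe v u

open CategoryTheory CategoryTheory.Limits Opposite Pretriangulated
open CategoryTheory.Pretriangulated.Opposite

namespace Groth.Agent.H2.Brown

lemma Fact.reindex {D : Type u} [Category.{v} D] [HasColimitsOfShape (Discrete ℕ) D]
    {ι ι' : Type*} {E : ι → D} {Ê : ι' → D} (σ : ι → ι') (hσ : ∀ i, Ê (σ i) = E i) {P : D}
    (h : Fact E P) : Fact Ê P := by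
  have hE : E = fun i => Ê (σ i) := funext (fun i => (hσ i).symm)
  subst hE
  intro X α
  obtain ⟨j, β, γ, hα⟩ := h X α
  exact ⟨fun n => σ (j n), β, γ, hα⟩

variable {D : Type u} [Category.{v} D] [Preadditive D] [HasZeroObject D] [HasShift D ℤ]
  [∀ n : ℤ, (shiftFunctor D n).Additive] [Pretriangulated D] [HasCoproducts.{v} D]
  [HasColimitsOfShape (Discrete ℕ) D]

/-- Brown representability, with a family detecting nonzero objects after shifting. -/
theorem brown' {ι : Type v} (E : ι → D)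
    (h1 : ∀ X : D, ¬ IsZero X → ∃ (i : ι) (n : ℤ) (f : (E i)⟦n⟧ ⟶ X), f ≠ 0)
    (h2 : ∀ (X : ℕ → D) (i : ι) (α : E i ⟶ ∐ X), ∃ (j : ℕ → ι) (β : ∀ n, E (j n) ⟶ X n)
      (γ : E i ⟶ ∐ (fun n => E (j n))), α = γ ≫ Limits.Sigma.map β)
    (H : Dᵒᵖ ⥤ AddCommGrpCat.{v}) [H.IsHomological]
    [∀ (κ : Type v), PreservesLimitsOfShape (Discrete κ) H] :
    (H ⋙ forget AddCommGrpCat.{v}).IsRepresentable := by
  let Ê : ι × ℤ → D := fun p => (E p.1)⟦p.2⟧
  apply representable (Ê := Ê)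
  · intro X hX
    obtain ⟨i, n, f, hf⟩ := h1 X hX
    exact ⟨(i, n), f, hf⟩
  · rintro ⟨i, k⟩
    have hi : Fact E (E i) := fun X α => h2 X i α
    have := Fact.map hi (shiftFunctor D k)
    exact Fact.reindex (fun i' => (i', k)) (fun _ => rfl) this
  · rintro ⟨i, k⟩
    exact ⟨(i, k - 1), ⟨((shiftFunctorAdd' D (k - 1) 1 k (by omega)).app (E i)).symm⟩⟩

/-- Brown representability (the abstract form with a detecting family having the factorisation
property). -/
theorem brown {ι : Type v} (E : ι → D)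
    (h1 : ∀ X : D, ¬ IsZero X → ∃ (i : ι) (f : E i ⟶ X), f ≠ 0)
    (h2 : ∀ (X : ℕ → D) (i : ι) (α : E i ⟶ ∐ X), ∃ (j : ℕ → ι) (β : ∀ n, E (j n) ⟶ X n)
      (γ : E i ⟶ ∐ (fun n => E (j n))), α = γ ≫ Limits.Sigma.map β)
    (H : Dᵒᵖ ⥤ AddCommGrpCat.{v}) [H.IsHomological]
    [∀ (κ : Type v), PreservesLimitsOfShape (Discrete κ) H] :
    (H ⋙ forget AddCommGrpCat.{v}).IsRepresentable := by
  apply brown' E _ h2
  intro X hX
  obtain ⟨i, f, hf⟩ := h1 X hX
  refine ⟨i, 0, ((shiftFunctorZero D ℤ).app (E i)).hom ≫ f, ?_⟩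
  intro h0
  apply hf
  rw [← cancel_epi ((shiftFunctorZero D ℤ).app (E i)).hom, h0, comp_zero]

end Groth.Agent.H2.Brown
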