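import Groth.Agent.Lib.Helper2.Brown7
import Groth.Prelude.Def_CohDer
import Mathlib.Algebra.DirectSum.Basic
import Mathlib.Data.DFinsupp.BigOperators

/-!
# Brown representability for compactly generated triangulated categories
-/

universe v u

open CategoryTheory CategoryTheory.Limits Opposite Pretriangulated
open CategoryTheory.Pretriangulated.Opposite

namespace Groth.Agent.H2.Brown

section compact

variable {D : Type u} [Category.{v} D] [Preadditive D] [HasCoproducts.{v} D]

lemma hasColimitsOfShape_nat : HasColimitsOfShape (Discrete ℕ) D :=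
  hasColimitsOfShape_of_equivalence
    (Discrete.equivalence Equiv.ulift : Discrete (ULift.{v} ℕ) ≌ _)

open Classical in
lemma homSumToHomCoprod_apply (K : D) {κ : Type v} (X : κ → D)
    (x : DirectSum κ (fun k => K ⟶ X k)) :
    ∃ S : Finset κ, CohDer.homSumToHomCoprod K X x = ∑ k ∈ S, x k ≫ Sigma.ι X k := by
  refine ⟨DFinsupp.support x, ?_⟩
  unfold CohDer.homSumToHomCoprod
  simp only [DirectSum.toAddMonoid, DFinsupp.liftAddHom, AddEquiv.coe_mk]
  exact DFinsupp.sumAddHom_apply _ x

variable [HasColimitsOfShape (Discrete ℕ) D]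

lemma fact_of_isCompactObject {ι : Type*} (E : ι → D) (i : ι)
    (hK : CohDer.IsCompactObject (E i)) : Fact E (E i) := by
  intro X α
  let X' : ULift.{v} ℕ → D := X ∘ Equiv.ulift
  let r : ∐ X' ≅ ∐ X := Sigma.reindex Equiv.ulift X
  obtain ⟨x, hx⟩ := (hK _ X').2 (α ≫ r.inv)
  obtain ⟨S, hS⟩ := homSumToHomCoprod_apply (E i) X' x
  rw [hS] at hx
  refine ⟨fun _ => i, fun n => x ⟨n⟩,
    ∑ k ∈ S, Sigma.ι (fun _ : ℕ => E i) k.down, ?_⟩
  have h1 : α = ∑ k ∈ S, x k ≫ Sigma.ι X k.down := by
    calc α = (α ≫ r.inv) ≫ r.hom := by rw [Category.assoc, Iso.inv_hom_id, Category.comp_id]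
      _ = _ := by
        rw [← hx, Preadditive.sum_comp]
        refine Finset.sum_congr rfl (fun k _ => ?_)
        rw [Category.assoc]
        congr 1
        exact Sigma.ι_reindex_hom Equiv.ulift X k
  rw [h1, Preadditive.sum_comp]
  refine Finset.sum_congr rfl (fun k _ => ?_)
  rw [Sigma.ι_map]
  rfl

end compact

variable {D : Type u} [Category.{v} D] [Preadditive D] [HasZeroObject D] [HasShift D ℤ]
  [∀ n : ℤ, (shiftFunctor D n).Additive] [Pretriangulated D] [HasCoproducts.{v} D]

/-- A generating family detects nonzero objects after shifting. -/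
lemma detects_of_generates {ι : Type*} (E : ι → D) (hE : CohDer.Generates E) (X : D)
    (hX : ¬ IsZero X) : ∃ (i : ι) (n : ℤ) (f : (E i)⟦n⟧ ⟶ X), f ≠ 0 := by
  by_contra hcon
  push Not at hcon
  apply hX
  apply hE
  intro i n f
  have h0 := hcon i (-n) (f⟦-n⟧' ≫ ((shiftFunctorCompIsoId D n (-n) (by omega)).app X).hom)
  rw [← cancel_mono ((shiftFunctorCompIsoId D n (-n) (by omega)).app X).inv, Category.assoc,
    Iso.hom_inv_id, Category.comp_id, zero_comp] at h0
  apply (shiftFunctor D (-n)).map_injective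
  rw [Functor.map_zero]
  exact h0

/-- Brown representability for compactly generated triangulated categories. -/
theorem brown_of_isCompactlyGenerated (hD : CohDer.IsCompactlyGenerated D)
    (H : Dᵒᵖ ⥤ AddCommGrpCat.{v}) [H.IsHomological]
    [∀ (κ : Type v), PreservesLimitsOfShape (Discrete κ) H] :
    (H ⋙ forget AddCommGrpCat.{v}).IsRepresentable := by
  haveI : HasColimitsOfShape (Discrete ℕ) D := hasColimitsOfShape_nat
  obtain ⟨ι, E, hc, hg⟩ := hD
  exact brown' E (detects_of_generates E hg)
    (fun X i α => fact_of_isCompactObject E i (hc i) X α) H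

end Groth.Agent.H2.Brown
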