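import Groth.Agent.Lib.Helper2.Brown8
import Mathlib.CategoryTheory.Triangulated.Opposite.Functor
import Mathlib.CategoryTheory.Triangulated.Yoneda
import Mathlib.CategoryTheory.Preadditive.Yoneda.Limits
import Mathlib.CategoryTheory.Adjunction.PartialAdjoint
import Mathlib.CategoryTheory.Limits.Preserves.Opposites

/-!
# Brown representability: the adjoint functor theorem
-/

universe v u u'

open CategoryTheory CategoryTheory.Limits Opposite Pretriangulated
open CategoryTheory.Pretriangulated.Opposite

namespace Groth.Agent.H2.Brown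

variable {D : Type u} [Category.{v} D] [Preadditive D] [HasZeroObject D] [HasShift D ℤ]
  [∀ n : ℤ, (shiftFunctor D n).Additive] [Pretriangulated D]
  {D' : Type u'} [Category.{v} D'] [Preadditive D'] [HasZeroObject D'] [HasShift D' ℤ]
  [∀ n : ℤ, (shiftFunctor D' n).Additive] [Pretriangulated D']

/-- If Brown representability holds in `D`, then every triangulated functor out of `D` which
preserves coproducts is a left adjoint. -/
theorem isLeftAdjoint_of_brown
    (hB : ∀ (H : Dᵒᵖ ⥤ AddCommGrpCat.{v}) [H.IsHomological]
      [∀ (κ : Type v), PreservesLimitsOfShape (Discrete κ) H],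
      (H ⋙ forget AddCommGrpCat.{v}).IsRepresentable)
    (F : D ⥤ D') [F.CommShift ℤ] [F.IsTriangulated]
    [∀ (κ : Type v), PreservesColimitsOfShape (Discrete κ) F] : F.IsLeftAdjoint := by
  apply Functor.isLeftAdjoint_of_rightAdjointObjIsDefined_eq_top
  ext Y
  simp only [Pi.top_apply, Prop.top_eq_true, iff_true]
  rw [Functor.rightAdjointObjIsDefined_iff]
  haveI : ∀ (κ : Type v), PreservesLimitsOfShape (Discrete κ) F.op := by
    intro κ
    haveI : PreservesColimitsOfShape (Discrete κ)ᵒᵖ F :=
      preservesColimitsOfShape_of_equiv (Discrete.opposite _).symm _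
    exact preservesLimitsOfShape_op _ _
  haveI : ∀ (κ : Type v), PreservesLimitsOfShape (Discrete κ)
      (F.op ⋙ preadditiveYoneda.obj Y) := fun κ => inferInstance
  exact hB (F.op ⋙ preadditiveYoneda.obj Y)

end Groth.Agent.H2.Brown
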