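import Mathlib
import Groth.Agent.Lib.Helper2.CAlgA
set_option autoImplicit false
universe u
open scoped TensorProduct

namespace Groth.Agent.H2.CAlgB
open Groth.Agent.H2.CAlgA

theorem isEpi_baseChange (R A S : Type*) [CommRing R] [CommRing A] [CommRing S] [Algebra R A]
    [Algebra R S] [Algebra.IsEpi R S] : Algebra.IsEpi A (A ⊗[R] S) := by
  rw [Algebra.isEpi_iff_forall_one_tmul_eq]
  intro x
  have hsm : ∀ (r : R) (z w : A ⊗[R] S), z ⊗ₜ[A] (r • w) = r • (z ⊗ₜ[A] w) := by
    intro r z w
    rw [← algebraMap_smul A r w, TensorProduct.tmul_smul, algebraMap_smul]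
  -- the R-bilinear map S × S → (A ⊗ S) ⊗_A (A ⊗ S)
  let φ : S ⊗[R] S →ₗ[R] (A ⊗[R] S) ⊗[A] (A ⊗[R] S) := TensorProduct.lift
    { toFun := fun s =>
        { toFun := fun t => ((1 : A) ⊗ₜ[R] s) ⊗ₜ[A] ((1 : A) ⊗ₜ[R] t)
          map_add' := fun t t' => by rw [TensorProduct.tmul_add, TensorProduct.tmul_add]
          map_smul' := fun r t => by
            rw [TensorProduct.tmul_smul, hsm, RingHom.id_apply] }
      map_add' := fun s s' => by
        ext t
        simp [TensorProduct.tmul_add, TensorProduct.add_tmul]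
      map_smul' := fun r s => by
        ext t
        show ((1 : A) ⊗ₜ[R] (r • s)) ⊗ₜ[A] ((1 : A) ⊗ₜ[R] t) =
          r • (((1 : A) ⊗ₜ[R] s) ⊗ₜ[A] ((1 : A) ⊗ₜ[R] t))
        rw [TensorProduct.tmul_smul]
        exact (TensorProduct.smul_tmul' r _ _).symm }
  have key : ∀ s : S, ((1 : A ⊗[R] S)) ⊗ₜ[A] ((1 : A) ⊗ₜ[R] s) =
      ((1 : A) ⊗ₜ[R] s) ⊗ₜ[A] (1 : A ⊗[R] S) := by
    intro s
    have := congrArg φ ((Algebra.isEpi_iff_forall_one_tmul_eq R S).mp inferInstance s)
    simpa [φ, Algebra.TensorProduct.one_def] using this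
  induction x using TensorProduct.induction_on with
  | zero => simp
  | tmul a s =>
    have h1 : a ⊗ₜ[R] s = a • ((1 : A) ⊗ₜ[R] s) := by
      rw [TensorProduct.smul_tmul', smul_eq_mul, mul_one]
    rw [h1, TensorProduct.tmul_smul, key, TensorProduct.smul_tmul']
  | add x y hx hy => rw [TensorProduct.tmul_add, TensorProduct.add_tmul, hx, hy]

theorem epi_spec (R S : Type u) [CommRing R] [CommRing S] [Algebra R S]
    [Algebra.IsEpi R S] :
    Function.Injective (PrimeSpectrum.comap (algebraMap R S)) ∧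
      ∀ (p : Ideal R) [p.IsPrime],
        Subsingleton (p.Fiber S) ∨ Function.Bijective (algebraMap p.ResidueField (p.Fiber S)) := by
  have h2 : ∀ (p : Ideal R) [p.IsPrime],
      Subsingleton (p.Fiber S) ∨ Function.Bijective (algebraMap p.ResidueField (p.Fiber S)) := by
    intro p _
    haveI : Algebra.IsEpi p.ResidueField (p.Fiber S) := isEpi_baseChange R p.ResidueField S
    exact field_epi p.ResidueField (p.Fiber S)
  refine ⟨?_, h2⟩
  intro q₁ q₂ h
  set p := PrimeSpectrum.comap (algebraMap R S) q₁ with hp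
  have hsub : Subsingleton (PrimeSpectrum (p.asIdeal.Fiber S)) := by
    rcases h2 p.asIdeal with h3 | h3
    · exact ⟨fun a b => by
        exfalso
        exact a.isPrime.ne_top (Ideal.eq_top_of_isUnit_mem _ (Submodule.zero_mem _)
          (by rw [Subsingleton.elim (0 : p.asIdeal.Fiber S) 1]; exact isUnit_one))⟩
    · have hF : IsField (p.asIdeal.Fiber S) :=
        (RingEquiv.ofBijective (algebraMap p.asIdeal.ResidueField (p.asIdeal.Fiber S))
          h3).symm.toMulEquiv.isField (Field.toIsField _)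
      haveI : IsSimpleOrder (Ideal (p.asIdeal.Fiber S)) :=
        Ring.isField_iff_isSimpleOrder_ideal.mp hF
      refine ⟨fun a b => ?_⟩
      have ha : a.asIdeal = ⊥ := by
        rcases eq_bot_or_eq_top a.asIdeal with h | h
        · exact h
        · exact absurd h a.isPrime.ne_top
      have hb : b.asIdeal = ⊥ := by
        rcases eq_bot_or_eq_top b.asIdeal with h | h
        · exact h
        · exact absurd h b.isPrime.ne_top
      ext1
      rw [ha, hb]
  have e := PrimeSpectrum.preimageEquivFiber R S p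
  have h1 : q₁ ∈ PrimeSpectrum.comap (algebraMap R S) ⁻¹' {p} := rfl
  have h2' : q₂ ∈ PrimeSpectrum.comap (algebraMap R S) ⁻¹' {p} := h.symm
  have := e.injective (Subsingleton.elim (e ⟨q₁, h1⟩) (e ⟨q₂, h2'⟩))
  exact congrArg Subtype.val this

end Groth.Agent.H2.CAlgB
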