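import Mathlib
import Groth.Agent.Lib.Helper6.Liai3
import Groth.Agent.Lib.Helper6.Liai1
import Groth.Agent.Lib.Helper6.CMKit

/-! A Cohen–Macaulay ring that is normal off a closed point of codimension at least two (and is
"connected at that point") is a normal domain.  (helper2, CInt S10918) -/

set_option autoImplicit false
universe u

namespace Groth.Agent.H2.CInt

section abstract
variable {B : Type u} [CommRing B] {ι : Type*} (x : ι → B)

/-- if an ideal is contained in no prime missing one of the `x i`, it contains powers of all of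
them -/
theorem exists_pow_mem_of_forall_prime (𝔞 : Ideal B)
    (h : ∀ Q : Ideal B, Q.IsPrime → (∃ i, x i ∉ Q) → ¬ 𝔞 ≤ Q) (i : ι) :
    ∃ m : ℕ, x i ^ m ∈ 𝔞 := by
  have : x i ∈ 𝔞.radical := by
    rw [Ideal.radical_eq_sInf, Ideal.mem_sInf]
    rintro Q ⟨hQa, hQp⟩
    by_contra hx
    exact h Q hQp ⟨i, hx⟩ hQa
  exact this

/-- saturatedness of an ideal with Cohen–Macaulay quotient with respect to a maximal ideal that is
not one of its minimal primes -/
theorem mem_of_pow_mul_mem (h𝔫 : (Ideal.span (Set.range x)).IsMaximal) (I : Ideal B)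
    [hcm : LocCoh.IsCohenMacaulayRing (B ⧸ I)]
    (hmin : Ideal.span (Set.range x) ∉ I.minimalPrimes) (α : B)
    (h : ∀ i, ∃ m : ℕ, x i ^ m * α ∈ I) : α ∈ I := by
  by_contra hα
  have hne : (Ideal.Quotient.mk I α) ≠ 0 := by rwa [Ne, Ideal.Quotient.eq_zero_iff_mem]
  obtain ⟨P, hP, hle⟩ :=
    exists_le_isAssociatedPrime_of_isNoetherianRing (B ⧸ I) (Ideal.Quotient.mk I α) hne
  have hPmin := Groth.Agent.H6.Liai.mem_minimalPrimes_of_mem_associatedPrimes (A := B ⧸ I) hP
  haveI hPp : P.IsPrime := hP.isPrime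
  have hX : ∀ i, Ideal.Quotient.mk I (x i) ∈ P := by
    intro i
    obtain ⟨m, hm⟩ := h i
    apply hPp.mem_of_pow_mem m
    apply hle
    rw [Submodule.mem_colon_singleton, Submodule.mem_bot, smul_eq_mul, ← map_pow, ← map_mul,
      Ideal.Quotient.eq_zero_iff_mem]
    exact hm
  have hQmin : P.comap (Ideal.Quotient.mk I) ∈ I.minimalPrimes := by
    rw [Ideal.minimalPrimes_eq_comap]
    exact ⟨P, hPmin, rfl⟩
  have hle' : Ideal.span (Set.range x) ≤ P.comap (Ideal.Quotient.mk I) := by
    rw [Ideal.span_le]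
    rintro _ ⟨i, rfl⟩
    exact hX i
  have heq := h𝔫.eq_of_le hQmin.1.1.ne_top hle'
  exact hmin (heq ▸ hQmin)

end abstract

section main
variable {B : Type u} [CommRing B] {ι : Type*} (x : ι → B)
  [hB : LocCoh.IsCohenMacaulayRing B] (h𝔫 : (Ideal.span (Set.range x)).IsMaximal)
  (h1 : Ideal.span (Set.range x) ∉ (⊥ : Ideal B).minimalPrimes)
  (h2 : ∀ w : B, IsSMulRegular B w → Ideal.span (Set.range x) ∉ (Ideal.span {w}).minimalPrimes)
  (hN : ∀ s : B, s ∉ Ideal.span (Set.range x) → IsSMulRegular B s)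
  (hnorm : ∀ (Q : Ideal B) [Q.IsPrime], (∃ i, x i ∉ Q) →
    IsDomain (Localization.AtPrime Q) ∧ IsIntegrallyClosed (Localization.AtPrime Q))

include h𝔫 h1 in
theorem sat_bot (α : B) (h : ∀ i, ∃ m : ℕ, x i ^ m * α = 0) : α = 0 := by
  haveI : LocCoh.IsCohenMacaulayRing (B ⧸ (⊥ : Ideal B)) :=
    Groth.Agent.H6.Liai.cm_of_ringEquiv (RingEquiv.quotientBot B).symm
  have := mem_of_pow_mul_mem x h𝔫 ⊥ h1 α (fun i => by
    obtain ⟨m, hm⟩ := h i
    exact ⟨m, by rw [hm]; exact zero_mem _⟩)
  simpa using this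

include h𝔫 h2 in
theorem sat_span (w : B) (hw : IsSMulRegular B w) (α : B)
    (h : ∀ i, ∃ m : ℕ, x i ^ m * α ∈ Ideal.span {w}) : α ∈ Ideal.span {w} := by
  haveI : LocCoh.IsCohenMacaulayRing (B ⧸ Ideal.span {w}) :=
    Groth.Agent.H6.Liai.cm_quot_of_regular w hw
  exact mem_of_pow_mul_mem x h𝔫 _ (h2 w hw) α h

include h𝔫 hN in
theorem idem (c : B) (hc : c * c = c) : c = 0 ∨ c = 1 := by
  by_cases hcn : c ∈ Ideal.span (Set.range x)
  · left
    have h1c : (1 - c) ∉ Ideal.span (Set.range x) := by
      intro h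
      apply h𝔫.ne_top
      rw [Ideal.eq_top_iff_one]
      have := Ideal.add_mem _ hcn h
      rwa [add_sub_cancel] at this
    apply hN _ h1c
    change (1 - c) * c = (1 - c) * 0
    rw [mul_zero, sub_mul, one_mul, hc, sub_self]
  · right
    have : 1 - c = 0 := by
      apply hN _ hcn
      change c * (1 - c) = c * 0
      rw [mul_zero, mul_sub, mul_one, hc, sub_self]
    rw [sub_eq_zero] at this
    exact this.symm

include h𝔫 h1 h2 hN hnorm in
/-- the ring is a domain -/
theorem isDomain_of_normal_off : IsDomain B := by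
  classical
  haveI : Nontrivial B := by
    refine nontrivial_of_ne (0 : B) 1 (fun h => h𝔫.ne_top ?_)
    rw [Ideal.eq_top_iff_one, ← h]
    exact zero_mem _
  obtain ⟨P, hPmin, -⟩ := Ideal.exists_minimalPrimes_le (I := (⊥ : Ideal B))
    (J := Ideal.span (Set.range x)) bot_le
  haveI hPp : P.IsPrime := hPmin.1.1
  set b : Ideal B := Submodule.annihilator (P : Submodule B B) with hb
  -- step 1
  have hstep1 : ∀ Q : Ideal B, Q.IsPrime → (∃ i, x i ∉ Q) → ¬ (P ⊔ b ≤ Q) := by
    intro Q hQ hi hle
    haveI := hQ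
    obtain ⟨hdom, -⟩ := hnorm Q hi
    have hPQ : P ≤ Q := le_sup_left.trans hle
    have hbQ : b ≤ Q := le_sup_right.trans hle
    set K := RingHom.ker (algebraMap B (Localization.AtPrime Q)) with hK
    haveI hKp : K.IsPrime := RingHom.ker_isPrime _
    have hKP : K ≤ P := by
      intro y hy
      rw [hK, RingHom.mem_ker, IsLocalization.map_eq_zero_iff Q.primeCompl] at hy
      obtain ⟨t, ht⟩ := hy
      have : (t : B) * y ∈ P := by rw [ht]; exact zero_mem _
      exact (hPp.mem_or_mem this).resolve_left (fun h => t.2 (hPQ h))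
    have hPK : P ≤ K := hPmin.2 ⟨hKp, bot_le⟩ hKP
    obtain ⟨s, hs⟩ := (isNoetherian_def.mp (inferInstance : IsNoetherian B B)) P
    have key : ∀ s' : Finset B, (∀ p ∈ s', p ∈ K) →
        ∃ t : B, t ∉ Q ∧ ∀ p ∈ s', t * p = 0 := by
      intro s'
      induction s' using Finset.induction_on with
      | empty =>
        intro _
        exact ⟨1, fun h => hQ.ne_top ((Ideal.eq_top_iff_one _).mpr h), by simp⟩
      | insert a s' ha ih =>
        intro hmem
        obtain ⟨t, htQ, ht⟩ := ih (fun p hp => hmem p (Finset.mem_insert_of_mem hp))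
        have haK := hmem a (Finset.mem_insert_self _ _)
        rw [hK, RingHom.mem_ker, IsLocalization.map_eq_zero_iff Q.primeCompl] at haK
        obtain ⟨u, hu⟩ := haK
        refine ⟨u * t, fun h => (hQ.mem_or_mem h).elim u.2 htQ, ?_⟩
        intro p hp
        rcases Finset.mem_insert.mp hp with rfl | hp
        · rw [mul_right_comm, hu, zero_mul]
        · rw [mul_assoc, ht p hp, mul_zero]
    obtain ⟨t, htQ, ht⟩ := key s (fun p hp => hPK (hs ▸ Ideal.subset_span hp))
    apply htQ
    apply hbQ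
    rw [hb, Submodule.mem_annihilator]
    intro p hp
    rw [← hs] at hp
    refine Submodule.span_induction (p := fun p _ => t • p = 0) ?_ ?_ ?_ ?_ hp
    · intro p hp
      exact ht p hp
    · exact smul_zero t
    · intro p q _ _ hp hq
      rw [smul_add, hp, hq, add_zero]
    · intro a p _ hp
      rw [smul_comm, hp, smul_zero]
  have hpow := exists_pow_mem_of_forall_prime x (P ⊔ b) hstep1
  -- a regular element in `P ⊔ b`
  obtain ⟨w, hwmem, hwreg⟩ :=
    Groth.Agent.H6.CM.exists_isSMulRegular_of_forall_ass (P ⊔ b) B (by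
      intro P' hP' hle
      have hP'min := Groth.Agent.H6.Liai.mem_minimalPrimes_of_mem_associatedPrimes hP'
      haveI hP'p : P'.IsPrime := hP'.isPrime
      have hle' : Ideal.span (Set.range x) ≤ P' := by
        rw [Ideal.span_le]
        rintro _ ⟨i, rfl⟩
        obtain ⟨m, hm⟩ := hpow i
        exact hP'p.mem_of_pow_mem m (hle hm)
      have heq := h𝔫.eq_of_le hP'p.ne_top hle'
      exact h1 (heq ▸ hP'min))
  obtain ⟨α, hα, β, hβ, hw⟩ := Submodule.mem_sup.mp hwmem
  have hann : ∀ β' ∈ b, ∀ α' ∈ P, β' * α' = 0 := by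
    intro β' hβ' α' hα'
    exact (Submodule.mem_annihilator.mp hβ') α' hα'
  have hαw : α ∈ Ideal.span {w} := by
    apply sat_span x h𝔫 h2 w hwreg
    intro i
    obtain ⟨m, hm⟩ := hpow i
    obtain ⟨α', hα', β', hβ', hsum⟩ := Submodule.mem_sup.mp hm
    refine ⟨m, ?_⟩
    rw [Ideal.mem_span_singleton']
    refine ⟨α', ?_⟩
    have e1 : β * α' = 0 := hann β hβ α' hα'
    have e2 : β' * α = 0 := hann β' hβ' α hα
    calc α' * w = α' * α + β * α' := by rw [← hw]; ring
      _ = α' * α + β' * α := by rw [e1, e2]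
      _ = x i ^ m * α := by rw [← hsum]; ring
  obtain ⟨c, hc⟩ := Ideal.mem_span_singleton'.mp hαw
  have e3 : β * α = 0 := hann β hβ α hα
  have hαα : α * w = α * α := by
    calc α * w = α * α + β * α := by rw [← hw]; ring
      _ = α * α := by rw [e3, add_zero]
  have hcc : c * c = c := by
    apply hwreg
    apply hwreg
    change w * (w * (c * c)) = w * (w * c)
    calc w * (w * (c * c)) = (c * w) * (c * w) := by ring
      _ = (c * w) * w := by rw [hc, hαα]
      _ = w * (w * c) := by ring
  rcases idem x h𝔫 hN c hcc with h0 | h1c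
  · -- `α = 0`, so `w ∈ b` kills `P`
    have hα0 : α = 0 := by rw [← hc, h0, zero_mul]
    have hwb : w ∈ b := by rw [← hw, hα0, zero_add]; exact hβ
    have hPbot : P = ⊥ := by
      rw [eq_bot_iff]
      intro p hp
      rw [Ideal.mem_bot]
      apply hwreg
      change w * p = w * 0
      rw [mul_zero]
      exact hann w hwb p hp
    rw [hPbot] at hPp
    exact IsDomain.of_bot_isPrime B
  · -- `w ∈ P`, impossible
    exfalso
    have hwP : w ∈ P := by
      have : α = w := by rw [← hc, h1c, one_mul]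
      rw [← this]; exact hα
    have hPass : P ∈ associatedPrimes B B := by
      apply Module.associatedPrimes.minimalPrimes_annihilator_subset_associatedPrimes
      rw [Module.annihilator_eq_bot.mpr inferInstance]
      exact hPmin
    obtain ⟨-, y, hy⟩ := isAssociatedPrime_iff.mp hPass
    have hwy : w ∈ (⊥ : Submodule B B).colon {y} := hy ▸ hwP
    rw [Submodule.mem_colon_singleton, Submodule.mem_bot] at hwy
    have hy0 : y = 0 := by
      apply hwreg
      change w • y = w • 0
      rw [hwy, smul_zero]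
    apply hPp.ne_top
    rw [hy, hy0, Ideal.eq_top_iff_one, Submodule.mem_colon_singleton, smul_zero]
    exact zero_mem _

include h𝔫 h2 hnorm in
/-- the ring is integrally closed -/
theorem isIntegrallyClosed_of_normal_off [IsDomain B] : IsIntegrallyClosed B := by
  classical
  rw [isIntegrallyClosed_iff (FractionRing B)]
  intro z hz
  obtain ⟨a, b, rfl⟩ := IsLocalization.exists_mk'_eq (nonZeroDivisors B) z
  have hb0 : (b : B) ≠ 0 := nonZeroDivisors.ne_zero b.2
  have hbreg : IsSMulRegular B (b : B) := by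
    intro u v huv
    exact mul_left_cancel₀ hb0 huv
  set 𝔠 : Ideal B := (Ideal.span {(b : B)}).colon {a} with h𝔠
  have hstep : ∀ Q : Ideal B, Q.IsPrime → (∃ i, x i ∉ Q) → ¬ 𝔠 ≤ Q := by
    intro Q hQ hi hle
    haveI := hQ
    obtain ⟨hdom, hic⟩ := hnorm Q hi
    have hz' : IsIntegral (Localization.AtPrime Q)
        (IsLocalization.mk' (FractionRing B) a b) := hz.tower_top
    obtain ⟨y, hy⟩ := IsIntegrallyClosed.algebraMap_eq_of_integral hz'
    obtain ⟨y0, t, rfl⟩ := IsLocalization.exists_mk'_eq Q.primeCompl y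
    apply t.2
    apply hle
    rw [h𝔠, Submodule.mem_colon_singleton, smul_eq_mul, Ideal.mem_span_singleton']
    refine ⟨y0, ?_⟩
    apply IsFractionRing.injective B (FractionRing B)
    have h3 : algebraMap (Localization.AtPrime Q) (FractionRing B)
        (IsLocalization.mk' (Localization.AtPrime Q) y0 t) *
        algebraMap B (FractionRing B) (t : B) = algebraMap B (FractionRing B) y0 := by
      rw [IsScalarTower.algebraMap_apply B (Localization.AtPrime Q) (FractionRing B) (t : B),
        ← map_mul, IsLocalization.mk'_spec,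
        ← IsScalarTower.algebraMap_apply B (Localization.AtPrime Q) (FractionRing B)]
    have h4 : IsLocalization.mk' (FractionRing B) a b * algebraMap B (FractionRing B) (b : B) =
        algebraMap B (FractionRing B) a := IsLocalization.mk'_spec _ _ _
    rw [map_mul, map_mul, ← h3, ← h4, hy]
    ring
  have hpow := exists_pow_mem_of_forall_prime x 𝔠 hstep
  have hab : a ∈ Ideal.span {(b : B)} := by
    apply sat_span x h𝔫 h2 (b : B) hbreg
    intro i
    obtain ⟨m, hm⟩ := hpow i
    refine ⟨m, ?_⟩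
    rw [h𝔠, Submodule.mem_colon_singleton, smul_eq_mul] at hm
    exact hm
  obtain ⟨c, hc⟩ := Ideal.mem_span_singleton'.mp hab
  refine ⟨c, ?_⟩
  rw [IsLocalization.eq_mk'_iff_mul_eq, ← map_mul, hc]

end main

end Groth.Agent.H2.CInt
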