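import Mathlib
import Groth.Agent.Lib.Helper2.HilbDim1
import Groth.Agent.Lib.Helper2.DimFG

/-! Dimension lemmas for the Hilbert polynomial induction. (helper2, ProjDeg cluster) -/

set_option autoImplicit false
universe u v

open DirectSum

namespace Groth.Agent.H2.HilbDim
open Groth.Agent.H2.HilbHyper

section D1
variable {k : Type u} {A : Type v} [Field k] [CommRing A] [Algebra k A]
  (𝒜 : ℕ → Submodule k A) [GradedAlgebra 𝒜]

/-- if `I` contains all pieces of large degree then `A/I` is finite over `k` -/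
theorem finite_quotient (hfin : ∀ m, FiniteDimensional k (𝒜 m)) (I : Ideal A) (m₀ : ℕ)
    (h : ∀ m, m₀ ≤ m → 𝒜 m ≤ Submodule.restrictScalars k I) : Module.Finite k (A ⧸ I) := by
  classical
  set W : Submodule k A := ⨆ j ∈ Finset.range m₀, 𝒜 j with hW
  have hWfg : W.FG := by
    rw [hW]
    refine Submodule.fg_biSup _ _ fun j _ => ?_
    exact Module.Finite.iff_fg.mp (hfin j)
  have : Module.Finite k W := Module.Finite.iff_fg.mpr hWfg
  let φ : W →ₗ[k] (A ⧸ I) := ((Ideal.Quotient.mkₐ k I).toLinearMap).comp W.subtype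
  refine Module.Finite.of_surjective φ ?_
  intro y
  obtain ⟨x, rfl⟩ := Ideal.Quotient.mk_surjective y
  -- split x
  have hx := DirectSum.sum_support_decompose 𝒜 x
  set S := (decompose 𝒜 x).support with hS
  set x1 : A := ∑ i ∈ S.filter (fun i => i < m₀), (decompose 𝒜 x i : A) with hx1
  set x2 : A := ∑ i ∈ S.filter (fun i => ¬ i < m₀), (decompose 𝒜 x i : A) with hx2
  have hsum : x1 + x2 = x := by
    rw [hx1, hx2, Finset.sum_filter_add_sum_filter_not, hx]
  have h1 : x1 ∈ W := by
    rw [hx1]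
    refine Submodule.sum_mem _ fun i hi => ?_
    have hi' : i < m₀ := (Finset.mem_filter.mp hi).2
    rw [hW]
    exact Submodule.mem_iSup_of_mem i (Submodule.mem_iSup_of_mem (Finset.mem_range.mpr hi')
      (SetLike.coe_mem _))
  have h2 : x2 ∈ I := by
    rw [hx2]
    refine Ideal.sum_mem _ fun i hi => ?_
    have hi' : m₀ ≤ i := not_lt.mp (Finset.mem_filter.mp hi).2
    exact h i hi' (SetLike.coe_mem _)
  refine ⟨⟨x1, h1⟩, ?_⟩
  change Ideal.Quotient.mk I x1 = Ideal.Quotient.mk I x
  rw [← hsum, map_add, Ideal.Quotient.eq_zero_iff_mem.mpr h2, add_zero]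

theorem ringKrullDim_le_zero (hfin : ∀ m, FiniteDimensional k (𝒜 m)) (I : Ideal A) (m₀ : ℕ)
    (h : ∀ m, m₀ ≤ m → 𝒜 m ≤ Submodule.restrictScalars k I) : ringKrullDim (A ⧸ I) ≤ 0 := by
  have := finite_quotient 𝒜 hfin I m₀ h
  have : IsArtinianRing (A ⧸ I) := IsArtinianRing.of_finite k (A ⧸ I)
  have : Ring.KrullDimLE 0 (A ⧸ I) := inferInstance
  exact_mod_cast Ring.krullDimLE_iff.mp this

end D1

section D3
variable {A : Type v} [CommRing A]

theorem ringKrullDim_quotient_le_max (I J1 J2 : Ideal A) (h : J1 * J2 ≤ I) :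
    ringKrullDim (A ⧸ I) ≤ max (ringKrullDim (A ⧸ J1)) (ringKrullDim (A ⧸ J2)) := by
  rw [ringKrullDim_quotient, ringKrullDim_quotient, ringKrullDim_quotient]
  rw [Order.krullDim]
  refine iSup_le fun p => ?_
  have hhead : J1 ≤ p.head.1.asIdeal ∨ J2 ≤ p.head.1.asIdeal := by
    have h1 : J1 * J2 ≤ p.head.1.asIdeal := le_trans h p.head.2
    exact (Ideal.IsPrime.mul_le p.head.1.isPrime).mp h1
  have hall : ∀ (J : Ideal A), J ≤ p.head.1.asIdeal → ∀ i, J ≤ (p i).1.asIdeal := by
    intro J hJ i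
    exact le_trans hJ (p.head_le i)
  have build : ∀ (J : Ideal A), J ≤ p.head.1.asIdeal →
      (p.length : WithBot ℕ∞) ≤ Order.krullDim (PrimeSpectrum.zeroLocus (R := A) J) := by
    intro J hJ
    let q : LTSeries (PrimeSpectrum.zeroLocus (R := A) J) :=
      { length := p.length
        toFun := fun i => ⟨(p i).1, hall J hJ i⟩
        step := fun i => p.step i }
    exact Order.LTSeries.length_le_krullDim q
  rcases hhead with h1 | h2
  · exact le_trans (build J1 h1) (le_max_left _ _)
  · exact le_trans (build J2 h2) (le_max_right _ _)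

theorem ringKrullDim_quotient_mono {I J : Ideal A} (h : I ≤ J) :
    ringKrullDim (A ⧸ J) ≤ ringKrullDim (A ⧸ I) :=
  ringKrullDim_le_of_surjective (Ideal.Quotient.factor h) (Ideal.Quotient.factor_surjective h)

theorem ringKrullDim_quotient_eq_max (I J1 J2 : Ideal A) (h : J1 * J2 ≤ I) (h1 : I ≤ J1)
    (h2 : I ≤ J2) :
    ringKrullDim (A ⧸ I) = max (ringKrullDim (A ⧸ J1)) (ringKrullDim (A ⧸ J2)) :=
  le_antisymm (ringKrullDim_quotient_le_max I J1 J2 h)
    (max_le (ringKrullDim_quotient_mono h1) (ringKrullDim_quotient_mono h2))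

end D3

section D2
variable (k : Type u) [Field k]

/-- a minimal prime over a nonzero principal ideal in a f.g. domain has coheight `dim - 1` -/
theorem ringKrullDim_quotient_minimalPrime_add_one (B : Type u) [CommRing B] [IsDomain B]
    [Algebra k B] [Algebra.FiniteType k B] (b : B) (hb : b ≠ 0) (q : Ideal B)
    (hq : q ∈ (Ideal.span {b}).minimalPrimes) :
    ringKrullDim (B ⧸ q) + 1 = ringKrullDim B := by
  have hnoeth : IsNoetherianRing B := Algebra.FiniteType.isNoetherianRing k B
  have hqp : q.IsPrime := hq.1.1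
  have h1 : q.height ≤ 1 := Ideal.height_le_one_of_isPrincipal_of_mem_minimalPrimes _ q hq
  have h0 : q.height ≠ 0 := by
    intro h
    rw [Ideal.height_eq_zero_iff_eq_bot] at h
    have : b ∈ q := hq.1.2 (Ideal.subset_span rfl)
    rw [h] at this
    exact hb (by simpa using this)
  have h2 : q.height = 1 := le_antisymm h1 (ENat.one_le_iff_ne_zero.mpr h0)
  have h3 := DimFG.height_add_ringKrullDim_quotient k B q
  rw [h2] at h3
  rw [← h3, add_comm]
  rfl

theorem ringKrullDim_quotient_span_singleton_add_one (B : Type u) [CommRing B] [IsDomain B]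
    [Algebra k B] [Algebra.FiniteType k B] (b : B) (hb : b ≠ 0) (hb' : Ideal.span {b} ≠ ⊤) :
    ringKrullDim (B ⧸ Ideal.span {b}) + 1 = ringKrullDim B := by
  apply le_antisymm
  · exact ringKrullDim_quotient_succ_le_of_nonZeroDivisor (mem_nonZeroDivisors_of_ne_zero hb)
  · obtain ⟨⟨q, hq⟩⟩ := Ideal.nonempty_minimalPrimes hb'
    rw [← ringKrullDim_quotient_minimalPrime_add_one k B b hb q hq]
    gcongr
    exact ringKrullDim_quotient_mono hq.1.2

theorem ringKrullDim_quotient_sup_span_add_one (A : Type u) [CommRing A] [Algebra k A]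
    [Algebra.FiniteType k A] (I : Ideal A) [I.IsPrime] (a : A) (ha : a ∉ I)
    (hne : I ⊔ Ideal.span {a} ≠ ⊤) :
    ringKrullDim (A ⧸ (I ⊔ Ideal.span {a})) + 1 = ringKrullDim (A ⧸ I) := by
  have hft : Algebra.FiniteType k (A ⧸ I) :=
    Algebra.FiniteType.of_surjective (Ideal.Quotient.mkₐ k I) Ideal.Quotient.mk_surjective
  have hb : Ideal.Quotient.mk I a ≠ 0 := by
    rwa [Ne, Ideal.Quotient.eq_zero_iff_mem]
  have hmap : (Ideal.span {a}).map (Ideal.Quotient.mk I) = Ideal.span {Ideal.Quotient.mk I a} := by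
    rw [Ideal.map_span, Set.image_singleton]
  have e := DoubleQuot.quotQuotEquivQuotSup I (Ideal.span {a})
  rw [hmap] at e
  have hb' : Ideal.span {Ideal.Quotient.mk I a} ≠ ⊤ := by
    intro htop
    apply hne
    have h1 : Subsingleton ((A ⧸ I) ⧸ Ideal.span {Ideal.Quotient.mk I a}) :=
      Ideal.Quotient.subsingleton_iff.mpr htop
    have h2 : Subsingleton (A ⧸ (I ⊔ Ideal.span {a})) := e.symm.toEquiv.subsingleton
    exact Ideal.Quotient.subsingleton_iff.mp h2
  rw [← ringKrullDim_eq_of_ringEquiv e]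
  exact ringKrullDim_quotient_span_singleton_add_one k (A ⧸ I) _ hb hb'

end D2

end Groth.Agent.H2.HilbDim
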