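import Mathlib

/-! Generic lemmas for Euler characteristic arguments: additivity of length along a linear map
restricted to a submodule, a telescoping identity for long exact sequences, and functions on `ℤ`
with polynomial first difference. -/

universe u v w

namespace Groth.Agent.H2.Serre

section Length

variable {S : Type u} [Ring S] {H : Type v} {H' : Type w} [AddCommGroup H] [Module S H]
  [AddCommGroup H'] [Module S H']

/-- rank–nullity for length, on a submodule -/
theorem length_eq_inf_ker_add_map (ψ : H →ₗ[S] H') (U : Submodule S H) :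
    Module.length S U =
      Module.length S ↥(U ⊓ LinearMap.ker ψ) + Module.length S ↥(U.map ψ) := by
  let f : ↥(U ⊓ LinearMap.ker ψ) →ₗ[S] U := Submodule.inclusion inf_le_left
  let g : U →ₗ[S] ↥(U.map ψ) :=
    (ψ.domRestrict U).codRestrict (U.map ψ) (fun x => ⟨x, x.2, rfl⟩)
  refine Module.length_eq_add_of_exact f g (Submodule.inclusion_injective _) ?_ ?_
  · rintro ⟨_, x, hx, rfl⟩
    exact ⟨⟨x, hx⟩, rfl⟩
  · intro x
    constructor
    · intro hx
      have h1 : ψ x = 0 := congrArg Subtype.val hx
      exact ⟨⟨x, x.2, h1⟩, rfl⟩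
    · rintro ⟨y, rfl⟩
      apply Subtype.ext
      exact y.2.2

theorem length_map_eq (ψ : H →ₗ[S] H') (U : Submodule S H) (h : U ⊓ LinearMap.ker ψ = ⊥) :
    Module.length S ↥(U.map ψ) = Module.length S U := by
  rw [length_eq_inf_ker_add_map ψ U, h]
  have : Module.length S ↥(⊥ : Submodule S H) = 0 := Module.length_eq_zero
  rw [this, zero_add]

theorem length_map_le (ψ : H →ₗ[S] H') (U : Submodule S H) :
    Module.length S ↥(U.map ψ) ≤ Module.length S U := by
  rw [length_eq_inf_ker_add_map ψ U]
  exact le_add_self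

theorem length_mono {U V : Submodule S H} (h : U ≤ V) : Module.length S U ≤ Module.length S V :=
  Module.length_le_of_injective (Submodule.inclusion h) (Submodule.inclusion_injective h)

/-- natural-number valued length -/
noncomputable def len (U : Submodule S H) : ℕ := (Module.length S U).toNat

theorem len_eq_inf_ker_add_map (ψ : H →ₗ[S] H') (U : Submodule S H)
    (hU : Module.length S U ≠ ⊤) :
    len U = len (U ⊓ LinearMap.ker ψ) + len (U.map ψ) := by
  unfold len
  have h := length_eq_inf_ker_add_map ψ U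
  have h1 : Module.length S ↥(U ⊓ LinearMap.ker ψ) ≠ ⊤ :=
    ne_top_of_le_ne_top hU (length_mono inf_le_left)
  have h2 : Module.length S ↥(U.map ψ) ≠ ⊤ := ne_top_of_le_ne_top hU (length_map_le ψ U)
  rw [h, ENat.toNat_add h1 h2]

theorem len_bot : len (⊥ : Submodule S H) = 0 := by
  unfold len
  have : Module.length S ↥(⊥ : Submodule S H) = 0 := Module.length_eq_zero
  rw [this]
  rfl

theorem len_map_eq (ψ : H →ₗ[S] H') (U : Submodule S H) (h : U ⊓ LinearMap.ker ψ = ⊥) :
    len (U.map ψ) = len U := by
  unfold len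
  rw [length_map_eq ψ U h]

theorem len_mono {U V : Submodule S H} (h : U ≤ V) (hV : Module.length S V ≠ ⊤) :
    len U ≤ len V := by
  unfold len
  exact ENat.toNat_le_toNat (length_mono h) hV

end Length

section Telescope

/-- the telescoping identity behind additivity of Euler characteristics along a long exact
sequence -/
theorem alt_sum_eq (lA lB lC a b c : ℕ → ℤ) (h0 : lA 0 = a 0)
    (hA : ∀ i, lA (i + 1) = c i + a (i + 1)) (hB : ∀ i, lB i = a i + b i)
    (hC : ∀ i, lC i = b i + c i) (N : ℕ) :
    ∑ i ∈ Finset.range (N + 1), (-1 : ℤ) ^ i * (lA i - lB i + lC i) = (-1 : ℤ) ^ N * c N := by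
  induction N with
  | zero =>
    rw [Finset.sum_range_one, h0, hB, hC]
    ring
  | succ N ih =>
    rw [Finset.sum_range_succ, ih, hA, hB, hC, pow_succ]
    ring

end Telescope

section Poly

open Polynomial

/-- every rational polynomial is a forward difference -/
theorem exists_fwdDiff_eq : ∀ (d : ℕ) (g : ℚ[X]), g.natDegree ≤ d →
    ∃ G : ℚ[X], G.comp (X + 1) - G = g := by
  intro d
  induction d with
  | zero =>
    intro g hg
    rw [Nat.le_zero, natDegree_eq_zero] at hg
    obtain ⟨c, rfl⟩ := hg
    refine ⟨C c * X, ?_⟩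
    rw [mul_comp, C_comp, X_comp]
    ring
  | succ d ih =>
    intro g hg
    set c := g.coeff (d + 1) with hc
    set T : ℚ[X] := C (c / ((d : ℚ) + 2)) * X ^ (d + 2) with hT
    have hTd : T.comp (X + 1) - T = C (c / ((d : ℚ) + 2)) * ((X + 1) ^ (d + 2) - X ^ (d + 2)) := by
      rw [hT, mul_comp, C_comp, pow_comp, X_comp]
      ring
    have hdeg : ((X + 1 : ℚ[X]) ^ (d + 2) - X ^ (d + 2)).natDegree ≤ d + 1 := by
      rw [natDegree_le_iff_coeff_eq_zero]
      intro N hN
      rw [coeff_sub, coeff_X_pow]
      have h1 : ((X + 1 : ℚ[X]) ^ (d + 2)).coeff N = ((d + 2).choose N : ℚ) := by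
        rw [add_comm, coeff_one_add_X_pow]
      rw [h1]
      by_cases hNd : N = d + 2
      · subst hNd
        simp
      · rw [if_neg hNd, Nat.choose_eq_zero_of_lt (by omega)]
        simp
    have hcoef : ((X + 1 : ℚ[X]) ^ (d + 2) - X ^ (d + 2)).coeff (d + 1) = (d : ℚ) + 2 := by
      rw [coeff_sub, coeff_X_pow, if_neg (by omega), add_comm, coeff_one_add_X_pow]
      have : (d + 2).choose (d + 1) = d + 2 := by
        rw [show d + 2 = (d + 1) + 1 from rfl, Nat.choose_succ_self_right]
      rw [this]
      push_cast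
      ring
    have hne : ((d : ℚ) + 2) ≠ 0 := by positivity
    set g' := g - (T.comp (X + 1) - T) with hg'
    have hg'd : g'.natDegree ≤ d := by
      rw [natDegree_le_iff_coeff_eq_zero]
      intro N hN
      rw [hg', coeff_sub, hTd, coeff_C_mul]
      by_cases hNd : N = d + 1
      · subst hNd
        rw [hcoef, div_mul_cancel₀ _ hne, hc, sub_self]
      · have h1 : g.coeff N = 0 := coeff_eq_zero_of_natDegree_lt (by omega)
        have h2 : ((X + 1 : ℚ[X]) ^ (d + 2) - X ^ (d + 2)).coeff N = 0 :=
          coeff_eq_zero_of_natDegree_lt (by omega)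
        rw [h1, h2, mul_zero, sub_zero]
    obtain ⟨G', hG'⟩ := ih g' hg'd
    refine ⟨G' + T, ?_⟩
    rw [add_comp]
    have : G'.comp (X + 1) + T.comp (X + 1) - (G' + T) =
        (G'.comp (X + 1) - G') + (T.comp (X + 1) - T) := by ring
    rw [this, hG', hg']
    ring

/-- a function on `ℤ` whose backward difference is a polynomial is a polynomial -/
theorem exists_poly_of_diff (f : ℤ → ℚ) (g : ℚ[X]) (h : ∀ n : ℤ, f n - f (n - 1) = g.eval (n : ℚ)) :
    ∃ F : ℚ[X], ∀ n : ℤ, f n = F.eval (n : ℚ) := by
  obtain ⟨G, hG⟩ := exists_fwdDiff_eq (g.comp (X + 1)).natDegree (g.comp (X + 1)) le_rfl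
  -- `G (n) - G (n - 1) = g n`
  have hGn : ∀ n : ℤ, G.eval (n : ℚ) - G.eval ((n : ℚ) - 1) = g.eval (n : ℚ) := by
    intro n
    have h1 := congrArg (Polynomial.eval ((n : ℚ) - 1)) hG
    rw [eval_sub, eval_comp, eval_comp, eval_add, eval_X, eval_one, sub_add_cancel] at h1
    exact h1
  set c := f 0 - G.eval 0 with hc
  refine ⟨G + C c, fun n => ?_⟩
  rw [eval_add, eval_C]
  have key : ∀ n : ℤ, f n - G.eval (n : ℚ) = c := by
    intro n
    induction n using Int.induction_on with
    | zero => simp [hc]
    | succ k ih =>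
      have h1 := h (k + 1)
      have h2 := hGn (k + 1)
      rw [add_sub_cancel_right] at h1
      push_cast at h1 h2 ih ⊢
      rw [add_sub_cancel_right] at h2
      linarith
    | pred k ih =>
      have h1 := h (-k)
      have h2 := hGn (-k)
      push_cast at h1 h2 ih ⊢
      linarith
  linarith [key n]

end Poly

end Groth.Agent.H2.Serre
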