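import Mathlib
import Groth.Agent.Lib.Helper2.HilbDim2
import Groth.Agent.Lib.Helper2.Serre1

/-! Polynomial lemmas for the Hilbert polynomial induction. (helper2, ProjDeg cluster) -/

set_option autoImplicit false
universe u v

open Polynomial

namespace Groth.Agent.H2.HilbDim

section poly

theorem eq_of_eventually_eval_eq (P Q : ℚ[X]) (m₀ : ℕ)
    (h : ∀ m : ℕ, m₀ ≤ m → P.eval (m : ℚ) = Q.eval (m : ℚ)) : P = Q := by
  apply Polynomial.eq_of_infinite_eval_eq
  apply Set.infinite_of_injective_forall_mem (f := fun j : ℕ => ((m₀ + j : ℕ) : ℚ))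
  · intro a b hab
    have hab' : ((m₀ + a : ℕ) : ℚ) = ((m₀ + b : ℕ) : ℚ) := hab
    have : m₀ + a = m₀ + b := by exact_mod_cast hab'
    omega
  · intro j
    exact h (m₀ + j) (Nat.le_add_right _ _)

/-- eventually nonnegative on the naturals -/
def ENN (P : ℚ[X]) : Prop := ∃ m₀ : ℕ, ∀ m : ℕ, m₀ ≤ m → 0 ≤ P.eval (m : ℚ)

theorem ENN.leadingCoeff_nonneg {P : ℚ[X]} (h : ENN P) : 0 ≤ P.leadingCoeff := by
  obtain ⟨m₀, h⟩ := h
  by_contra hneg
  push Not at hneg
  by_cases hdeg : P.natDegree = 0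
  · obtain ⟨c, rfl⟩ := natDegree_eq_zero.mp hdeg
    have := h m₀ le_rfl
    rw [eval_C] at this
    rw [leadingCoeff_C] at hneg
    linarith
  · have hdeg' : 0 < P.degree := natDegree_pos_iff_degree_pos.mp (Nat.pos_of_ne_zero hdeg)
    have ht := Polynomial.tendsto_atBot_of_leadingCoeff_nonpos P hdeg' hneg.le
    have ht' : Filter.Tendsto (fun m : ℕ => P.eval (m : ℚ)) Filter.atTop Filter.atBot :=
      ht.comp tendsto_natCast_atTop_atTop
    have h1 := (Filter.tendsto_atBot.mp ht' (-1))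
    have h2 : ∀ᶠ m : ℕ in Filter.atTop, m₀ ≤ m := Filter.eventually_ge_atTop m₀
    obtain ⟨m, hm1, hm2⟩ := (h1.and h2).exists
    have := h m hm2
    linarith

theorem ENN.leadingCoeff_pos {P : ℚ[X]} (h : ENN P) (h0 : P ≠ 0) : 0 < P.leadingCoeff :=
  lt_of_le_of_ne h.leadingCoeff_nonneg (Ne.symm (leadingCoeff_ne_zero.mpr h0))

theorem natDegree_add_of_pos {p q : ℚ[X]} (hp : 0 < p.leadingCoeff) (hq : 0 < q.leadingCoeff) :
    (p + q).natDegree = max p.natDegree q.natDegree ∧ 0 < (p + q).leadingCoeff := by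
  rcases lt_trichotomy p.natDegree q.natDegree with h | h | h
  · have hd : p.degree < q.degree := degree_lt_degree h
    refine ⟨?_, ?_⟩
    · rw [natDegree_add_eq_right_of_natDegree_lt h, max_eq_right h.le]
    · rw [leadingCoeff_add_of_degree_lt hd]; exact hq
  · have hp0 : p ≠ 0 := fun h0 => by rw [h0, leadingCoeff_zero] at hp; exact lt_irrefl _ hp
    have hq0 : q ≠ 0 := fun h0 => by rw [h0, leadingCoeff_zero] at hq; exact lt_irrefl _ hq
    have hd : p.degree = q.degree := by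
      rw [degree_eq_natDegree hp0, degree_eq_natDegree hq0, h]
    have hne : p.leadingCoeff + q.leadingCoeff ≠ 0 := by positivity
    have hlc := leadingCoeff_add_of_degree_eq hd hne
    refine ⟨?_, by rw [hlc]; positivity⟩
    rw [h, max_self]
    apply le_antisymm
    · exact le_trans (natDegree_add_le p q) (by rw [h, max_self])
    · apply le_natDegree_of_ne_zero
      rw [coeff_add]
      have h1 : p.coeff q.natDegree = p.leadingCoeff := by rw [← h]; rfl
      rw [h1]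
      exact hne
  · have hd : q.degree < p.degree := degree_lt_degree h
    refine ⟨?_, ?_⟩
    · rw [natDegree_add_eq_left_of_natDegree_lt h, max_eq_left h.le]
    · rw [leadingCoeff_add_of_degree_lt' hd]; exact hp

theorem eq_zero_of_add_eq_zero {p q : ℚ[X]} (hp : ENN p) (hq : ENN q) (h : p + q = 0) :
    p = 0 ∧ q = 0 := by
  obtain ⟨m1, h1⟩ := hp
  obtain ⟨m2, h2⟩ := hq
  have key : ∀ m : ℕ, max m1 m2 ≤ m → p.eval (m : ℚ) = 0 ∧ q.eval (m : ℚ) = 0 := by
    intro m hm
    have e1 := h1 m (le_trans (le_max_left _ _) hm)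
    have e2 := h2 m (le_trans (le_max_right _ _) hm)
    have e3 : p.eval (m : ℚ) + q.eval (m : ℚ) = 0 := by
      rw [← eval_add, h, eval_zero]
    constructor <;> linarith
  refine ⟨eq_of_eventually_eval_eq p 0 (max m1 m2) fun m hm => ?_,
    eq_of_eventually_eval_eq q 0 (max m1 m2) fun m hm => ?_⟩
  · rw [(key m hm).1, eval_zero]
  · rw [(key m hm).2, eval_zero]

/-- the difference `P - P(X - 1)` -/
theorem natDegree_of_diff (P Q : ℚ[X]) (h : Q = P - taylor (-1 : ℚ) P) :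
    (Q = 0 → P.natDegree = 0) ∧ (Q ≠ 0 → P.natDegree = Q.natDegree + 1) := by
  have hr : (-1 : ℚ) ≠ 0 := by norm_num
  rcases Nat.eq_zero_or_pos P.natDegree with h0 | hpos
  · obtain ⟨c, rfl⟩ := natDegree_eq_zero.mp h0
    have hQ : Q = 0 := by rw [h, taylor_C, sub_self]
    exact ⟨fun _ => h0, fun hne => absurd hQ hne⟩
  · obtain ⟨N, hN⟩ : ∃ N, P.natDegree = N + 1 := ⟨P.natDegree - 1, by omega⟩
    obtain ⟨h1, h2⟩ := HilbHyper.natDegree_sub_taylor P (-1 : ℚ) hr N hN
    rw [← h] at h1 h2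
    have hP0 : P ≠ 0 := by rintro rfl; simp at hN
    have hQ0 : Q ≠ 0 := by
      intro hQ
      rw [hQ, leadingCoeff_zero] at h2
      have h3 : P.leadingCoeff ≠ 0 := leadingCoeff_ne_zero.mpr hP0
      have h4 : ((N + 1 : ℕ) : ℚ) ≠ 0 := by positivity
      have : -((N + 1 : ℕ) : ℚ) * P.leadingCoeff * (-1) ≠ 0 :=
        mul_ne_zero (mul_ne_zero (neg_ne_zero.mpr h4) h3) hr
      exact this h2.symm
    exact ⟨fun hQ => absurd hQ hQ0, fun _ => by rw [h1, hN]⟩

/-- a function on `ℕ` whose first difference is eventually polynomial is eventually polynomial -/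
theorem exists_poly_of_eventually_diff (f : ℕ → ℚ) (Q : ℚ[X]) (m₀ : ℕ)
    (h : ∀ m : ℕ, m₀ ≤ m → f (m + 1) = f m + Q.eval ((m + 1 : ℕ) : ℚ)) :
    ∃ P : ℚ[X], (∀ m : ℕ, m₀ ≤ m → P.eval (m : ℚ) = f m) ∧ Q = P - taylor (-1 : ℚ) P := by
  obtain ⟨G, hG⟩ := Serre.exists_fwdDiff_eq (Q.comp (X + 1)).natDegree (Q.comp (X + 1)) le_rfl
  have hGn : ∀ x : ℚ, G.eval (x + 1) - G.eval x = Q.eval (x + 1) := by
    intro x
    have h1 := congrArg (Polynomial.eval x) hG
    rw [eval_sub, eval_comp, eval_comp, eval_add, eval_X, eval_one] at h1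
    exact h1
  set c := f m₀ - G.eval (m₀ : ℚ) with hc
  have key : ∀ j : ℕ, f (m₀ + j) - G.eval ((m₀ + j : ℕ) : ℚ) = c := by
    intro j
    induction j with
    | zero => simp [hc]
    | succ j ih =>
      have h1 := h (m₀ + j) (Nat.le_add_right _ _)
      have h2 := hGn ((m₀ + j : ℕ) : ℚ)
      have e : ((m₀ + (j + 1) : ℕ) : ℚ) = ((m₀ + j : ℕ) : ℚ) + 1 := by push_cast; ring
      have e' : ((m₀ + j + 1 : ℕ) : ℚ) = ((m₀ + j : ℕ) : ℚ) + 1 := by push_cast; ring
      rw [show m₀ + (j + 1) = m₀ + j + 1 from rfl, h1, e', ← ih]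
      rw [e'] at h1
      linarith
  refine ⟨G + C c, fun m hm => ?_, ?_⟩
  · obtain ⟨j, rfl⟩ := Nat.exists_eq_add_of_le hm
    rw [eval_add, eval_C]
    linarith [key j]
  · apply eq_of_eventually_eval_eq _ _ 0
    intro m _
    rw [eval_sub, taylor_eval, eval_add, eval_add, eval_C, eval_C]
    have h2 := hGn ((m : ℚ) + -1)
    rw [neg_add_cancel_right] at h2
    linarith

end poly

end Groth.Agent.H2.HilbDim
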