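import Mathlib
import Groth.Agent.Lib.Helper2.HilbDim3

/-! The Hilbert polynomial of a homogeneous ideal exists and has degree `dim - 1`.
(helper2, ProjDeg cluster) -/

set_option autoImplicit false
universe u

open Polynomial DirectSum

namespace Groth.Agent.H2.HilbDim
open Groth.Agent.H2.HilbHyper

section main
variable {k : Type u} {A : Type u} [Field k] [CommRing A] [Algebra k A]
  (𝒜 : ℕ → Submodule k A) [GradedAlgebra 𝒜]

/-- `P` is the Hilbert polynomial of `A/I` -/
def IsHP (I : Ideal A) (P : ℚ[X]) : Prop :=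
  ∃ m₀ : ℕ, ∀ m : ℕ, m₀ ≤ m → P.eval (m : ℚ) = hfun 𝒜 I m

omit [GradedAlgebra 𝒜] in
theorem IsHP.unique {I : Ideal A} {P Q : ℚ[X]} (hP : IsHP 𝒜 I P) (hQ : IsHP 𝒜 I Q) : P = Q := by
  obtain ⟨m1, h1⟩ := hP
  obtain ⟨m2, h2⟩ := hQ
  apply eq_of_eventually_eval_eq P Q (max m1 m2)
  intro m hm
  rw [h1 m (le_trans (le_max_left _ _) hm), h2 m (le_trans (le_max_right _ _) hm)]

omit [GradedAlgebra 𝒜] in
theorem IsHP.enn (hfin : ∀ m, FiniteDimensional k (𝒜 m)) {I : Ideal A} {P : ℚ[X]}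
    (hP : IsHP 𝒜 I P) : ENN P := by
  obtain ⟨m1, h1⟩ := hP
  exact ⟨m1, fun m hm => by rw [h1 m hm]; exact hfun_nonneg 𝒜 hfin I m⟩

/-- the dimension claim -/
def DimClaim (I : Ideal A) (P : ℚ[X]) : Prop :=
  (P = 0 → ringKrullDim (A ⧸ I) ≤ 0) ∧
    (P ≠ 0 → ringKrullDim (A ⧸ I) = (P.natDegree : WithBot ℕ∞) + 1)

lemma sup_span_ne_top {I : Ideal A} (hI : I.IsHomogeneous 𝒜) (hItop : I ≠ ⊤) {a : A}
    (ha : a ∈ 𝒜 1) : I ⊔ Ideal.span {a} ≠ ⊤ := by
  intro htop
  have h1 : (1 : A) ∈ I ⊔ Ideal.span {a} := by rw [htop]; trivial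
  obtain ⟨i, hi, z, hz, hsum⟩ := Submodule.mem_sup.mp h1
  obtain ⟨g, rfl⟩ := Ideal.mem_span_singleton'.mp hz
  have h2 : ((decompose 𝒜 (i + g * a) 0 : 𝒜 0) : A) = (1 : A) := by
    rw [hsum]
    exact decompose_of_mem_same 𝒜 (SetLike.GradedOne.one_mem)
  rw [decompose_add, DirectSum.add_apply, Submodule.coe_add,
    coe_decompose_mul_of_right_mem_of_not_le 𝒜 ha (by omega), add_zero] at h2
  apply hItop
  rw [Ideal.eq_top_iff_one, ← h2]
  exact hI 0 hi

theorem exists_isHP (hfin : ∀ m, FiniteDimensional k (𝒜 m)) [Algebra.FiniteType k A]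
    (hgen : ∀ m, ∀ x ∈ 𝒜 (m + 1), x ∈ Ideal.span (𝒜 1 : Set A)) (I : Ideal A) :
    I.IsHomogeneous 𝒜 → ∃ P : ℚ[X], IsHP 𝒜 I P ∧ DimClaim I P := by
  have hnoeth : IsNoetherianRing A := Algebra.FiniteType.isNoetherianRing k A
  induction I using IsNoetherian.induction with
  | hgt I ih =>
  intro hI
  by_cases hItop : I = ⊤
  · subst hItop
    refine ⟨0, ⟨0, fun m _ => by rw [eval_zero, hfun_top]⟩, fun _ => ?_, fun h => absurd rfl h⟩
    have : Subsingleton (A ⧸ (⊤ : Ideal A)) := Ideal.Quotient.subsingleton_iff.mpr rfl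
    rw [ringKrullDim_eq_bot_of_subsingleton]
    exact bot_le
  by_cases hprime : Ideal.IsPrime I
  · by_cases hall : ∀ a ∈ 𝒜 1, a ∈ I
    · -- the irrelevant case
      have hle : ∀ m, 1 ≤ m → 𝒜 m ≤ Submodule.restrictScalars k I := by
        intro m hm x hx
        obtain ⟨m', rfl⟩ := Nat.exists_eq_add_of_le' hm
        have h1 := hgen m' x hx
        have h2 : Ideal.span (𝒜 1 : Set A) ≤ I := Ideal.span_le.mpr hall
        exact h2 h1
      refine ⟨0, ⟨1, fun m hm => ?_⟩, fun _ => ?_, fun h => absurd rfl h⟩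
      · rw [eval_zero, hfun_eq_zero_of_le 𝒜 I m (hle m hm)]
      · exact ringKrullDim_le_zero 𝒜 hfin I 1 hle
    · push Not at hall
      obtain ⟨a, ha1, haI⟩ := hall
      set J := I ⊔ Ideal.span {a} with hJ
      have hJI : I < J := by
        refine lt_of_le_of_ne le_sup_left fun h => haI ?_
        rw [h]
        exact Ideal.mem_sup_right (Ideal.subset_span rfl)
      have hJh : J.IsHomogeneous 𝒜 :=
        hI.sup ((Ideal.homogeneous_span 𝒜 {a}) (by
          rintro _ rfl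
          exact ⟨1, ha1⟩))
      obtain ⟨Q, ⟨m₂, hQ⟩, hQdim⟩ := ih J hJI hJh
      have hcol : col I a = I := col_eq_of_isPrime haI
      have hrec : ∀ m : ℕ, m₂ ≤ m → hfun 𝒜 I (m + 1) =
          hfun 𝒜 I m + Q.eval ((m + 1 : ℕ) : ℚ) := by
        intro m hm
        have := hfun_add 𝒜 hfin I hI a 1 m ha1
        rw [hcol, add_comm 1 m] at this
        rw [this, hQ (m + 1) (by omega)]
      obtain ⟨P, hP, hPQ⟩ := exists_poly_of_eventually_diff (hfun 𝒜 I) Q m₂ hrec
      have hJtop : J ≠ ⊤ := sup_span_ne_top 𝒜 hI hItop ha1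
      have hdim := ringKrullDim_quotient_sup_span_add_one k A I a haI hJtop
      obtain ⟨hd0, hd1⟩ := natDegree_of_diff P Q hPQ
      have hP0 : P ≠ 0 := by
        by_cases hQ0 : Q = 0
        · have h0 := hd0 hQ0
          obtain ⟨c, rfl⟩ := natDegree_eq_zero.mp h0
          intro hc
          have h1 := hP m₂ le_rfl
          rw [hc, eval_zero] at h1
          have h2 : a ^ m₂ ∈ 𝒜 m₂ := by
            have := SetLike.pow_mem_graded m₂ ha1
            simpa using this
          have h3 : a ^ m₂ ∉ I := fun h => haI (Ideal.IsPrime.mem_of_pow_mem hprime _ h)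
          have h4 := one_le_hfun_of_notMem 𝒜 hfin I m₂ h2 h3
          linarith
        · intro hP0
          have := hd1 hQ0
          rw [hP0, natDegree_zero] at this
          omega
      refine ⟨P, ⟨m₂, hP⟩, fun h => absurd h hP0, fun _ => ?_⟩
      by_cases hQ0 : Q = 0
      · have h0 := hd0 hQ0
        have h1 := hQdim.1 hQ0
        have h2 : ringKrullDim (A ⧸ J) = 0 := by
          apply le_antisymm h1
          have : Nontrivial (A ⧸ J) := Ideal.Quotient.nontrivial_iff.mpr hJtop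
          exact ringKrullDim_nonneg_of_nontrivial
        rw [← hdim, h2, h0]
        rfl
      · have h0 := hd1 hQ0
        have h1 := hQdim.2 hQ0
        rw [← hdim, h1, h0]
        push_cast
        rfl
  · -- not prime
    have hex : ∃ x y : A, SetLike.IsHomogeneousElem 𝒜 x ∧ SetLike.IsHomogeneousElem 𝒜 y ∧
        x * y ∈ I ∧ x ∉ I ∧ y ∉ I := by
      by_contra hcon
      push Not at hcon
      apply hprime
      refine hI.isPrime_of_homogeneous_mem_or_mem hItop fun {x y} hx hy hxy => ?_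
      by_contra hor
      push Not at hor
      exact hor.2 (hcon x y hx hy hxy hor.1)
    obtain ⟨a, b, ⟨e, hae⟩, _, hab, haI, hbI⟩ := hex
    set J1 := col I a with hJ1
    set J2 := I ⊔ Ideal.span {a} with hJ2
    have hJ1I : I < J1 := by
      refine lt_of_le_of_ne (le_col I a) fun h => hbI ?_
      rw [h]
      exact mem_col.mpr hab
    have hJ2I : I < J2 := by
      refine lt_of_le_of_ne le_sup_left fun h => haI ?_
      rw [h]
      exact Ideal.mem_sup_right (Ideal.subset_span rfl)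
    have hJ1h : J1.IsHomogeneous 𝒜 := col_isHomogeneous 𝒜 hI hae
    have hJ2h : J2.IsHomogeneous 𝒜 :=
      hI.sup ((Ideal.homogeneous_span 𝒜 {a}) (by
        rintro _ rfl
        exact ⟨e, hae⟩))
    obtain ⟨P1, hP1, hP1dim⟩ := ih J1 hJ1I hJ1h
    obtain ⟨P2, hP2, hP2dim⟩ := ih J2 hJ2I hJ2h
    have hdim := ringKrullDim_quotient_eq_max I J1 J2 (col_mul_le I a) hJ1I.le hJ2I.le
    set P1' : ℚ[X] := taylor (-(e : ℚ)) P1 with hP1'
    have hP1'eval : ∀ m : ℕ, P1'.eval ((e + m : ℕ) : ℚ) = P1.eval (m : ℚ) := by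
      intro m
      rw [hP1', taylor_eval]
      congr 1
      push_cast
      ring
    obtain ⟨m1, h1⟩ := hP1
    obtain ⟨m2, h2⟩ := hP2
    have hP : IsHP 𝒜 I (P1' + P2) := by
      refine ⟨e + max m1 m2, fun m hm => ?_⟩
      obtain ⟨j, rfl⟩ := Nat.exists_eq_add_of_le hm
      have hj1 : m1 ≤ max m1 m2 + j := le_trans (le_max_left _ _) (Nat.le_add_right _ _)
      have hj2 : m2 ≤ e + (max m1 m2 + j) :=
        le_trans (le_trans (le_max_right _ _) (Nat.le_add_right _ _)) (Nat.le_add_left _ _)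
      rw [add_assoc, eval_add, hP1'eval, h1 _ hj1, h2 _ hj2]
      exact (hfun_add 𝒜 hfin I hI a e (max m1 m2 + j) hae).symm
    have hE1 : ENN P1 := IsHP.enn 𝒜 hfin ⟨m1, h1⟩
    have hE2 : ENN P2 := IsHP.enn 𝒜 hfin ⟨m2, h2⟩
    have hE1' : ENN P1' := by
      obtain ⟨n1, hn1⟩ := hE1
      refine ⟨e + n1, fun m hm => ?_⟩
      obtain ⟨j, rfl⟩ := Nat.exists_eq_add_of_le hm
      rw [add_assoc, hP1'eval]
      exact hn1 _ (Nat.le_add_right _ _)
    have hdeg1 : P1'.natDegree = P1.natDegree := natDegree_taylor _ _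
    have hzero1 : P1' = 0 ↔ P1 = 0 := by
      rw [hP1']
      exact taylor_eq_zero _ _
    refine ⟨P1' + P2, hP, fun h0 => ?_, fun hne => ?_⟩
    · obtain ⟨z1, z2⟩ := eq_zero_of_add_eq_zero hE1' hE2 h0
      rw [hdim]
      exact max_le (hP1dim.1 (hzero1.mp z1)) (hP2dim.1 z2)
    · by_cases z1 : P1 = 0
      · have z1' : P1' = 0 := hzero1.mpr z1
        have z2 : P2 ≠ 0 := by
          intro z2
          apply hne
          rw [z1', z2, add_zero]
        rw [z1', zero_add, hdim, hP2dim.2 z2]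
        apply max_eq_right
        refine le_trans (hP1dim.1 z1) ?_
        exact le_trans (by exact_mod_cast (zero_le : (0 : ℕ∞) ≤ (P2.natDegree : ℕ∞)))
          (le_add_of_nonneg_right zero_le_one)
      · have z1' : P1' ≠ 0 := fun h => z1 (hzero1.mp h)
        by_cases z2 : P2 = 0
        · rw [z2, add_zero, hdim, hP1dim.2 z1, hdeg1]
          apply max_eq_left
          refine le_trans (hP2dim.1 z2) ?_
          exact le_trans (by exact_mod_cast (zero_le : (0 : ℕ∞) ≤ (P1.natDegree : ℕ∞)))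
            (le_add_of_nonneg_right zero_le_one)
        · obtain ⟨hd, _⟩ := natDegree_add_of_pos (hE1'.leadingCoeff_pos z1')
            (hE2.leadingCoeff_pos z2)
          rw [hd, hdim, hP1dim.2 z1, hP2dim.2 z2, hdeg1, max_add_add_right]
          congr 1

end main

end Groth.Agent.H2.HilbDim
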