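import Mathlib
import Groth.Agent.Lib.Helper2.HilbDim4

/-! The Hilbert polynomial theorem for polynomial rings. (helper2, ProjDeg cluster) -/

set_option autoImplicit false
universe u

open Polynomial

namespace Groth.Agent.H2.HilbDim

section mv
attribute [local instance] MvPolynomial.gradedAlgebra
variable (k : Type u) [Field k] (σ : Type) [Finite σ]

theorem hgen_mvPolynomial (m : ℕ) (x : MvPolynomial σ k)
    (hx : x ∈ MvPolynomial.homogeneousSubmodule σ k (m + 1)) :
    x ∈ Ideal.span ((MvPolynomial.homogeneousSubmodule σ k 1 :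
      Submodule k (MvPolynomial σ k)) : Set (MvPolynomial σ k)) := by
  classical
  rw [MvPolynomial.mem_homogeneousSubmodule] at hx
  rw [← MvPolynomial.support_sum_monomial_coeff x]
  refine Ideal.sum_mem _ fun s hs => ?_
  have hc : MvPolynomial.coeff s x ≠ 0 := MvPolynomial.mem_support_iff.mp hs
  have hdeg := hx hc
  have hne : s ≠ 0 := by
    rintro rfl
    simp at hdeg
  obtain ⟨i, hi⟩ : ∃ i, s i ≠ 0 := by
    by_contra hcon
    push Not at hcon
    exact hne (Finsupp.ext hcon)
  have hdvd : (MvPolynomial.X i : MvPolynomial σ k) ∣ MvPolynomial.monomial s (MvPolynomial.coeff s x) :=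
    MvPolynomial.X_dvd_monomial.mpr (Or.inr hi)
  obtain ⟨q, hq⟩ := hdvd
  rw [hq]
  refine Ideal.mul_mem_right _ _ (Ideal.subset_span ?_)
  exact (MvPolynomial.mem_homogeneousSubmodule 1 _).mpr (MvPolynomial.isHomogeneous_X k i)

theorem hfin_mvPolynomial (m : ℕ) :
    FiniteDimensional k (MvPolynomial.homogeneousSubmodule σ k m) :=
  Module.Finite.iff_fg.mpr (MvPolynomial.homogeneousSubmodule_fg (σ := σ) (R := k) m)

/-- Hilbert polynomial: existence and `deg = dim - 1` for polynomial rings -/
theorem exists_isHP_mv (I : Ideal (MvPolynomial σ k))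
    (hI : I.IsHomogeneous (MvPolynomial.homogeneousSubmodule σ k)) :
    ∃ P : ℚ[X], IsHP (MvPolynomial.homogeneousSubmodule σ k) I P ∧ DimClaim I P :=
  exists_isHP (MvPolynomial.homogeneousSubmodule σ k) (hfin_mvPolynomial k σ)
    (hgen_mvPolynomial k σ) I hI

theorem dimClaim_mv (I : Ideal (MvPolynomial σ k))
    (hI : I.IsHomogeneous (MvPolynomial.homogeneousSubmodule σ k)) (P : ℚ[X])
    (hP : IsHP (MvPolynomial.homogeneousSubmodule σ k) I P) : DimClaim I P := by
  obtain ⟨P', hP', hd⟩ := exists_isHP_mv k σ I hI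
  rwa [IsHP.unique _ hP hP']

end mv

end Groth.Agent.H2.HilbDim
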