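import Mathlib
import Groth.Agent.Lib.Helper2.HilbDim1

/-! Lengths of localizations of cyclic modules `A/I` at primes. (helper2, ProjDeg cluster) -/

set_option autoImplicit false
universe u v

namespace Groth.Agent.H2.HilbDim

section lam
variable {A : Type v} [CommRing A]

/-- the length of `(A/I)_p` over `A_p` -/
noncomputable def lam (p : PrimeSpectrum A) (I : Ideal A) : ℕ∞ :=
  Module.length (Localization.AtPrime p.asIdeal) (LocalizedModule p.asIdeal.primeCompl (A ⧸ I))

theorem lam_eq_zero_of_not_le (p : PrimeSpectrum A) (I : Ideal A) (h : ¬ I ≤ p.asIdeal) :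
    lam p I = 0 := by
  obtain ⟨s, hsI, hsp⟩ := SetLike.not_le_iff_exists.mp h
  have : Subsingleton (LocalizedModule p.asIdeal.primeCompl (A ⧸ I)) := by
    rw [LocalizedModule.subsingleton_iff]
    intro m
    obtain ⟨x, rfl⟩ := Ideal.Quotient.mk_surjective m
    refine ⟨s, hsp, ?_⟩
    rw [← Ideal.Quotient.mk_eq_mk, Algebra.smul_def]
    change Ideal.Quotient.mk I s * Ideal.Quotient.mk I x = 0
    rw [Ideal.Quotient.eq_zero_iff_mem.mpr hsI, zero_mul]
  exact Module.length_eq_zero

theorem lam_self (p : PrimeSpectrum A) : lam p p.asIdeal = 1 := by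
  unfold lam
  rw [Module.length_eq_one_iff, isSimpleModule_iff_toSpanSingleton_surjective]
  have hmk0 : ∀ (x : A) (s : p.asIdeal.primeCompl),
      LocalizedModule.mk (Ideal.Quotient.mk p.asIdeal x) s = 0 → x ∈ p.asIdeal := by
    intro x s h
    rw [← LocalizedModule.zero_mk s, LocalizedModule.mk_eq] at h
    obtain ⟨u, hu⟩ := h
    rw [smul_zero, smul_zero] at hu
    have h1 : Ideal.Quotient.mk p.asIdeal ((u : A) * ((s : A) * x)) = 0 := by
      rw [map_mul, map_mul]
      exact hu
    have h2 := Ideal.Quotient.eq_zero_iff_mem.mp h1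
    rcases Ideal.IsPrime.mem_or_mem p.isPrime h2 with h3 | h3
    · exact absurd h3 u.2
    · rcases Ideal.IsPrime.mem_or_mem p.isPrime h3 with h4 | h4
      · exact absurd h4 s.2
      · exact h4
  refine ⟨?_, ?_⟩
  · refine ⟨⟨LocalizedModule.mk (Ideal.Quotient.mk p.asIdeal 1) 1, 0, fun h => ?_⟩⟩
    have := hmk0 1 1 h
    exact p.isPrime.ne_top ((Ideal.eq_top_iff_one _).mpr this)
  · intro z hz w
    induction z using LocalizedModule.induction_on with
    | h m s =>
    obtain ⟨x, rfl⟩ := Ideal.Quotient.mk_surjective m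
    have hx : x ∉ p.asIdeal := by
      intro hx
      apply hz
      rw [Ideal.Quotient.eq_zero_iff_mem.mpr hx, LocalizedModule.zero_mk]
    induction w using LocalizedModule.induction_on with
    | h m' s' =>
    obtain ⟨y, rfl⟩ := Ideal.Quotient.mk_surjective m'
    let xs' : p.asIdeal.primeCompl := ⟨x, hx⟩ * s'
    refine ⟨Localization.mk (y * s) xs', ?_⟩
    rw [LinearMap.toSpanSingleton_apply, LocalizedModule.mk_smul_mk, LocalizedModule.mk_eq]
    refine ⟨1, ?_⟩
    rw [one_smul, one_smul]
    change Ideal.Quotient.mk p.asIdeal ((s' : A) * ((y * s) * x)) =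
      Ideal.Quotient.mk p.asIdeal ((x * s' * s) * y)
    congr 1
    ring

/-- multiplication by `a` as a map `A/(I:a) → A/I` -/
noncomputable def mulMap (I : Ideal A) (a : A) : (A ⧸ col I a) →ₗ[A] (A ⧸ I) :=
  Submodule.liftQ (col I a) ((Submodule.mkQ I).comp (LinearMap.mulLeft A a)) (by
    intro x hx
    rw [LinearMap.mem_ker, LinearMap.comp_apply, LinearMap.mulLeft_apply, Submodule.mkQ_apply]
    exact (Submodule.Quotient.mk_eq_zero I).mpr (mem_col.mp hx))

theorem mulMap_mk (I : Ideal A) (a x : A) :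
    mulMap I a (Submodule.Quotient.mk x) = Submodule.Quotient.mk (a * x) := rfl

theorem mulMap_injective (I : Ideal A) (a : A) : Function.Injective (mulMap I a) := by
  rw [← LinearMap.ker_eq_bot, eq_bot_iff]
  intro y hy
  obtain ⟨x, rfl⟩ := Submodule.Quotient.mk_surjective _ y
  rw [LinearMap.mem_ker, mulMap_mk, Submodule.Quotient.mk_eq_zero] at hy
  rw [Submodule.mem_bot, Submodule.Quotient.mk_eq_zero]
  exact mem_col.mpr hy

/-- the projection `A/I → A/(I + a)` -/
noncomputable def projMap (I : Ideal A) (a : A) : (A ⧸ I) →ₗ[A] (A ⧸ (I ⊔ Ideal.span {a})) :=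
  Submodule.mapQ I (I ⊔ Ideal.span {a}) LinearMap.id (by
    intro x hx
    exact Ideal.mem_sup_left hx)

theorem projMap_mk (I : Ideal A) (a x : A) :
    projMap I a (Submodule.Quotient.mk x) = Submodule.Quotient.mk x := rfl

theorem projMap_surjective (I : Ideal A) (a : A) : Function.Surjective (projMap I a) := by
  intro y
  obtain ⟨x, rfl⟩ := Submodule.Quotient.mk_surjective _ y
  exact ⟨Submodule.Quotient.mk x, rfl⟩

theorem exact_mulMap_projMap (I : Ideal A) (a : A) :
    Function.Exact (mulMap I a) (projMap I a) := by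
  intro y
  obtain ⟨x, rfl⟩ := Submodule.Quotient.mk_surjective _ y
  rw [projMap_mk, Submodule.Quotient.mk_eq_zero]
  constructor
  · intro hx
    obtain ⟨i, hi, z, hz, rfl⟩ := Submodule.mem_sup.mp hx
    obtain ⟨g, rfl⟩ := Ideal.mem_span_singleton'.mp hz
    refine ⟨Submodule.Quotient.mk g, ?_⟩
    rw [mulMap_mk, Submodule.Quotient.eq]
    have : a * g - (i + g * a) = -i := by ring
    rw [this]
    exact I.neg_mem hi
  · rintro ⟨z, hz⟩
    obtain ⟨g, rfl⟩ := Submodule.Quotient.mk_surjective _ z
    rw [mulMap_mk, Submodule.Quotient.eq] at hz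
    have : x = -(a * g - x) + g * a := by ring
    rw [this]
    exact Ideal.add_mem _ (Ideal.mem_sup_left (I.neg_mem hz))
      (Ideal.mem_sup_right (Ideal.mul_mem_left _ _ (Ideal.subset_span rfl)))

theorem lam_add (p : PrimeSpectrum A) (I : Ideal A) (a : A) :
    lam p I = lam p (col I a) + lam p (I ⊔ Ideal.span {a}) := by
  unfold lam
  refine Module.length_eq_add_of_exact
    (LocalizedModule.map p.asIdeal.primeCompl (mulMap I a))
    (LocalizedModule.map p.asIdeal.primeCompl (projMap I a))
    (LocalizedModule.map_injective _ _ (mulMap_injective I a))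
    (LocalizedModule.map_surjective _ _ (projMap_surjective I a)) ?_
  exact LocalizedModule.map_exact p.asIdeal.primeCompl _ _ (exact_mulMap_projMap I a)

end lam

section M3
variable {A : Type v} [CommRing A]

/-- strict drop of the dimension of the quotient along a strict inclusion of primes -/
theorem ringKrullDim_quotient_succ_le_of_lt {p q : Ideal A} [p.IsPrime] (h : p < q) :
    ringKrullDim (A ⧸ q) + 1 ≤ ringKrullDim (A ⧸ p) := by
  obtain ⟨x, hxq, hxp⟩ := SetLike.exists_of_lt h
  refine ringKrullDim_succ_le_of_surjective (Ideal.Quotient.factor h.le)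
    (Ideal.Quotient.factor_surjective h.le) (r := Ideal.Quotient.mk p x) ?_ ?_
  · apply mem_nonZeroDivisors_of_ne_zero
    rwa [Ne, Ideal.Quotient.eq_zero_iff_mem]
  · rw [Ideal.Quotient.factor_mk, Ideal.Quotient.eq_zero_iff_mem]
    exact hxq

end M3

end Groth.Agent.H2.HilbDim
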