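import Mathlib
import Groth.Agent.Lib.Helper2.HilbDim4
import Groth.Agent.Lib.Helper2.HilbMult1

/-! The multiplicity formula for the top coefficient of the Hilbert polynomial.
(helper2, ProjDeg cluster) -/

set_option autoImplicit false
universe u

open Polynomial DirectSum

namespace Groth.Agent.H2.HilbDim
open Groth.Agent.H2.HilbHyper

section aux

theorem coeff_taylor_of_natDegree_le (P : ℚ[X]) (r : ℚ) (t : ℕ) (h : P.natDegree ≤ t) :
    (taylor r P).coeff t = P.coeff t := by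
  rcases h.lt_or_eq with hlt | heq
  · rw [coeff_eq_zero_of_natDegree_lt hlt, coeff_eq_zero_of_natDegree_lt]
    rwa [natDegree_taylor]
  · have h1 : (taylor r P).coeff t = (taylor r P).leadingCoeff := by
      rw [leadingCoeff, natDegree_taylor, heq]
    rw [h1, leadingCoeff_taylor, leadingCoeff, heq]

variable {A : Type u} [CommRing A]

theorem natDegree_le_of_dimClaim {I : Ideal A} {P : ℚ[X]} (h : DimClaim I P) (t : ℕ)
    (hd : ringKrullDim (A ⧸ I) ≤ (t : WithBot ℕ∞) + 1) : P.natDegree ≤ t := by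
  by_cases hP : P = 0
  · rw [hP, natDegree_zero]; exact Nat.zero_le _
  · have h1 := h.2 hP
    rw [h1] at hd
    have h2 : ((P.natDegree + 1 : ℕ) : WithBot ℕ∞) ≤ ((t + 1 : ℕ) : WithBot ℕ∞) := by
      push_cast
      exact hd
    have h3 : P.natDegree + 1 ≤ t + 1 := by exact_mod_cast h2
    omega

theorem coeff_eq_zero_of_dimClaim {I : Ideal A} {P : ℚ[X]} (h : DimClaim I P) (t : ℕ)
    (hd : ringKrullDim (A ⧸ I) ≤ (t : WithBot ℕ∞) + 1)
    (hne : ringKrullDim (A ⧸ I) ≠ (t : WithBot ℕ∞) + 1) : P.coeff t = 0 := by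
  by_cases hP : P = 0
  · rw [hP, coeff_zero]
  · have h1 := h.2 hP
    have h2 := natDegree_le_of_dimClaim h t hd
    apply coeff_eq_zero_of_natDegree_lt
    refine lt_of_le_of_ne h2 fun heq => hne ?_
    rw [h1, heq]

end aux

section main
variable {k : Type u} {A : Type u} [Field k] [CommRing A] [Algebra k A]
  (𝒜 : ℕ → Submodule k A) [GradedAlgebra 𝒜]

theorem IsHP.add_col (hfin : ∀ m, FiniteDimensional k (𝒜 m)) {I : Ideal A}
    (hI : I.IsHomogeneous 𝒜) {a : A} {e : ℕ} (hae : a ∈ 𝒜 e) {P1 P2 : ℚ[X]}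
    (hP1 : IsHP 𝒜 (col I a) P1) (hP2 : IsHP 𝒜 (I ⊔ Ideal.span {a}) P2) :
    IsHP 𝒜 I (taylor (-(e : ℚ)) P1 + P2) := by
  have hP1'eval : ∀ m : ℕ, (taylor (-(e : ℚ)) P1).eval ((e + m : ℕ) : ℚ) = P1.eval (m : ℚ) := by
    intro m
    rw [taylor_eval]
    congr 1
    push_cast
    ring
  obtain ⟨m1, h1⟩ := hP1
  obtain ⟨m2, h2⟩ := hP2
  refine ⟨e + max m1 m2, fun m hm => ?_⟩
  obtain ⟨j, rfl⟩ := Nat.exists_eq_add_of_le hm
  have hj1 : m1 ≤ max m1 m2 + j := le_trans (le_max_left _ _) (Nat.le_add_right _ _)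
  have hj2 : m2 ≤ e + (max m1 m2 + j) :=
    le_trans (le_trans (le_max_right _ _) (Nat.le_add_right _ _)) (Nat.le_add_left _ _)
  rw [add_assoc, eval_add, hP1'eval, h1 _ hj1, h2 _ hj2]
  exact (hfun_add 𝒜 hfin I hI a e (max m1 m2 + j) hae).symm

theorem dimClaim_of_isHP (hfin : ∀ m, FiniteDimensional k (𝒜 m)) [Algebra.FiniteType k A]
    (hgen : ∀ m, ∀ x ∈ 𝒜 (m + 1), x ∈ Ideal.span (𝒜 1 : Set A)) {I : Ideal A}
    (hI : I.IsHomogeneous 𝒜) {P : ℚ[X]} (hP : IsHP 𝒜 I P) : DimClaim I P := by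
  obtain ⟨P', hP', hd⟩ := exists_isHP 𝒜 hfin hgen I hI
  rwa [IsHP.unique _ hP hP']

theorem mult_formula (hfin : ∀ m, FiniteDimensional k (𝒜 m)) [Algebra.FiniteType k A]
    (hgen : ∀ m, ∀ x ∈ 𝒜 (m + 1), x ∈ Ideal.span (𝒜 1 : Set A))
    (t : ℕ) {ι : Type*} (s : Finset ι) (p : ι → PrimeSpectrum A) (hinj : Set.InjOn p s)
    (hdim : ∀ i ∈ s, ringKrullDim (A ⧸ (p i).asIdeal) = (t : WithBot ℕ∞) + 1)
    (Q : ι → ℚ[X]) (hQ : ∀ i ∈ s, IsHP 𝒜 (p i).asIdeal (Q i))
    (I₀ : Ideal A)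
    (hS : ∀ q : Ideal A, q.IsPrime → q.IsHomogeneous 𝒜 → I₀ ≤ q →
      ringKrullDim (A ⧸ q) = (t : WithBot ℕ∞) + 1 → ∃ i ∈ s, (p i).asIdeal = q)
    (I : Ideal A) :
    I₀ ≤ I → I.IsHomogeneous 𝒜 → ringKrullDim (A ⧸ I) ≤ (t : WithBot ℕ∞) + 1 →
      ∀ P : ℚ[X], IsHP 𝒜 I P →
        (∀ i ∈ s, lam (p i) I ≠ ⊤) ∧
          P.coeff t = ∑ i ∈ s, ((lam (p i) I).toNat : ℚ) * (Q i).coeff t := by
  have hnoeth : IsNoetherianRing A := Algebra.FiniteType.isNoetherianRing k A
  induction I using IsNoetherian.induction with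
  | hgt I ih =>
  intro hI₀ hI hId P hP
  have hDC := dimClaim_of_isHP 𝒜 hfin hgen hI hP
  -- the case where no `p i` contains `I`
  have hnone : (∀ i ∈ s, ¬ I ≤ (p i).asIdeal) → P.coeff t = 0 →
      (∀ i ∈ s, lam (p i) I ≠ ⊤) ∧
          P.coeff t = ∑ i ∈ s, ((lam (p i) I).toNat : ℚ) * (Q i).coeff t := by
    intro h1 h2
    refine ⟨fun i hi => ?_, ?_⟩
    · rw [lam_eq_zero_of_not_le _ _ (h1 i hi)]; exact ENat.zero_ne_top
    · rw [h2]
      symm
      refine Finset.sum_eq_zero fun i hi => ?_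
      rw [lam_eq_zero_of_not_le _ _ (h1 i hi)]
      simp
  by_cases hprime : Ideal.IsPrime I
  · by_cases hdI : ringKrullDim (A ⧸ I) = (t : WithBot ℕ∞) + 1
    · obtain ⟨i₀, hi₀, hpi₀⟩ := hS I hprime hI hI₀ hdI
      have hother : ∀ i ∈ s, i ≠ i₀ → ¬ I ≤ (p i).asIdeal := by
        intro i hi hne hle
        have hlt : I < (p i).asIdeal := by
          refine lt_of_le_of_ne hle fun heq => hne ?_
          apply hinj hi hi₀
          apply PrimeSpectrum.ext
          rw [hpi₀, heq]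
        have h1 := ringKrullDim_quotient_succ_le_of_lt hlt
        rw [hdim i hi, hdI] at h1
        have h2 : ((t + 1 + 1 : ℕ) : WithBot ℕ∞) ≤ ((t + 1 : ℕ) : WithBot ℕ∞) := by
          push_cast
          exact h1
        have h3 : t + 1 + 1 ≤ t + 1 := by exact_mod_cast h2
        omega
      have hlam₀ : lam (p i₀) I = 1 := by
        rw [← hpi₀]
        exact lam_self (p i₀)
      refine ⟨fun i hi => ?_, ?_⟩
      · by_cases hii : i = i₀
        · rw [hii, hlam₀]; exact ENat.one_ne_top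
        · rw [lam_eq_zero_of_not_le _ _ (hother i hi hii)]; exact ENat.zero_ne_top
      · rw [Finset.sum_eq_single_of_mem i₀ hi₀]
        · rw [hlam₀]
          have hPQ : P = Q i₀ := by
            apply IsHP.unique 𝒜 hP
            have := hQ i₀ hi₀
            rwa [hpi₀] at this
          rw [hPQ]
          simp
        · intro i hi hii
          rw [lam_eq_zero_of_not_le _ _ (hother i hi hii)]
          simp
    · apply hnone
      · intro i hi hle
        apply hdI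
        apply le_antisymm hId
        rw [← hdim i hi]
        exact ringKrullDim_quotient_mono hle
      · exact coeff_eq_zero_of_dimClaim hDC t hId hdI
  · by_cases hItop : I = ⊤
    · apply hnone
      · intro i _ hle
        apply (p i).isPrime.ne_top
        rw [eq_top_iff, ← hItop]
        exact hle
      · have : P = 0 := by
          apply IsHP.unique 𝒜 hP
          rw [hItop]
          exact ⟨0, fun m _ => by rw [eval_zero, hfun_top]⟩
        rw [this, coeff_zero]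
    have hex : ∃ x y : A, SetLike.IsHomogeneousElem 𝒜 x ∧ SetLike.IsHomogeneousElem 𝒜 y ∧
        x * y ∈ I ∧ x ∉ I ∧ y ∉ I := by
      by_contra hcon
      push Not at hcon
      apply hprime
      refine hI.isPrime_of_homogeneous_mem_or_mem hItop fun {x y} hx hy hxy => ?_
      by_contra hor
      push Not at hor
      exact hor.2 (hcon x y hx hy hxy hor.1)
    obtain ⟨a, b, ⟨e, hae⟩, _, hab, haI, hbI⟩ := hex
    set J1 := col I a with hJ1
    set J2 := I ⊔ Ideal.span {a} with hJ2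
    have hJ1I : I < J1 := by
      refine lt_of_le_of_ne (le_col I a) fun h => hbI ?_
      rw [h]
      exact mem_col.mpr hab
    have hJ2I : I < J2 := by
      refine lt_of_le_of_ne le_sup_left fun h => haI ?_
      rw [h]
      exact Ideal.mem_sup_right (Ideal.subset_span rfl)
    have hJ1h : J1.IsHomogeneous 𝒜 := col_isHomogeneous 𝒜 hI hae
    have hJ2h : J2.IsHomogeneous 𝒜 :=
      hI.sup ((Ideal.homogeneous_span 𝒜 {a}) (by
        rintro _ rfl
        exact ⟨e, hae⟩))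
    obtain ⟨P1, hP1, hP1dim⟩ := exists_isHP 𝒜 hfin hgen J1 hJ1h
    obtain ⟨P2, hP2, hP2dim⟩ := exists_isHP 𝒜 hfin hgen J2 hJ2h
    have hd1 : ringKrullDim (A ⧸ J1) ≤ (t : WithBot ℕ∞) + 1 :=
      le_trans (ringKrullDim_quotient_mono hJ1I.le) hId
    have hd2 : ringKrullDim (A ⧸ J2) ≤ (t : WithBot ℕ∞) + 1 :=
      le_trans (ringKrullDim_quotient_mono hJ2I.le) hId
    obtain ⟨hf1, hc1⟩ := ih J1 hJ1I (le_trans hI₀ hJ1I.le) hJ1h hd1 P1 hP1
    obtain ⟨hf2, hc2⟩ := ih J2 hJ2I (le_trans hI₀ hJ2I.le) hJ2h hd2 P2 hP2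
    have hPsum : P = taylor (-(e : ℚ)) P1 + P2 :=
      IsHP.unique 𝒜 hP (IsHP.add_col 𝒜 hfin hI hae hP1 hP2)
    have hadd : ∀ i, lam (p i) I = lam (p i) J1 + lam (p i) J2 := fun i => lam_add (p i) I a
    refine ⟨fun i hi => ?_, ?_⟩
    · rw [hadd i]
      exact WithTop.add_ne_top.mpr ⟨hf1 i hi, hf2 i hi⟩
    · rw [hPsum, coeff_add, coeff_taylor_of_natDegree_le _ _ _
        (natDegree_le_of_dimClaim hP1dim t hd1), hc1, hc2, ← Finset.sum_add_distrib]
      refine Finset.sum_congr rfl fun i hi => ?_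
      rw [hadd i, ENat.toNat_add (hf1 i hi) (hf2 i hi)]
      push_cast
      ring

end main

end Groth.Agent.H2.HilbDim
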