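import Mathlib
import Groth.Agent.Lib.Helper2.HilbMult2
import Groth.Agent.Lib.Helper2.HilbDim5

/-! The degree of a projective scheme as the sum of the degrees of its top-dimensional components
with multiplicities. (helper2, ProjDeg cluster) -/

set_option autoImplicit false
universe u

open Polynomial DirectSum

namespace Groth.Agent.H2.HilbDim
open Groth.Agent.H2.HilbHyper

section main
variable {k : Type u} {A : Type u} [Field k] [CommRing A] [Algebra k A]
  (𝒜 : ℕ → Submodule k A) [GradedAlgebra 𝒜]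

theorem isHomogeneous_of_mem_minimalPrimes {I : Ideal A} (hI : I.IsHomogeneous 𝒜) {q : Ideal A}
    (hq : q ∈ I.minimalPrimes) : q.IsHomogeneous 𝒜 := by
  have hqp : q.IsPrime := hq.1.1
  have h1 : ((q.homogeneousCore 𝒜).toIdeal).IsPrime := hqp.homogeneousCore
  have h2 : I ≤ (q.homogeneousCore 𝒜).toIdeal :=
    hI.toIdeal_homogeneousCore_eq_self.symm.trans_le (Ideal.homogeneousCore_mono 𝒜 hq.1.2)
  have h3 : (q.homogeneousCore 𝒜).toIdeal ≤ q := Ideal.toIdeal_homogeneousCore_le 𝒜 q
  have h4 : q ≤ (q.homogeneousCore 𝒜).toIdeal := hq.2 ⟨h1, h2⟩ h3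
  have h5 : (q.homogeneousCore 𝒜).toIdeal = q := le_antisymm h3 h4
  rw [← h5]
  exact (q.homogeneousCore 𝒜).isHomogeneous

theorem degree_formula (hfin : ∀ m, FiniteDimensional k (𝒜 m)) [Algebra.FiniteType k A]
    (hgen : ∀ m, ∀ x ∈ 𝒜 (m + 1), x ∈ Ideal.span (𝒜 1 : Set A))
    (I : Ideal A) (hI : I.IsHomogeneous 𝒜) (P : ℚ[X]) (hP : IsHP 𝒜 I P)
    (r : ℕ) (p : Fin r → Ideal A) [hp : ∀ i, (p i).IsPrime] (hpinj : Function.Injective p)
    (hpmin : ∀ q : Ideal A, q ∈ I.minimalPrimes ↔ ∃ i, q = p i)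
    (Qp : Fin r → ℚ[X]) (hQp : ∀ i, IsHP 𝒜 (p i) (Qp i)) :
    (P.natDegree.factorial : ℚ) * P.leadingCoeff =
      ∑ i : Fin r, if (Qp i).natDegree = P.natDegree then
        ((Qp i).natDegree.factorial : ℚ) * (Qp i).leadingCoeff *
          (Module.length (Localization.AtPrime (p i))
            (LocalizedModule (p i).primeCompl (A ⧸ I))).toNat
      else 0 := by
  classical
  have hmem : ∀ i, p i ∈ I.minimalPrimes := fun i => (hpmin (p i)).mpr ⟨i, rfl⟩
  have hph : ∀ i, (p i).IsHomogeneous 𝒜 := fun i =>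
    isHomogeneous_of_mem_minimalPrimes 𝒜 hI (hmem i)
  have hle : ∀ i, I ≤ p i := fun i => (hmem i).1.2
  have hDI := dimClaim_of_isHP 𝒜 hfin hgen hI hP
  have hDp : ∀ i, DimClaim (p i) (Qp i) := fun i => dimClaim_of_isHP 𝒜 hfin hgen (hph i) (hQp i)
  by_cases hP0 : P = 0
  · have hQ0 : ∀ i, Qp i = 0 := by
      intro i
      by_contra hne
      have h1 := (hDp i).2 hne
      have h2 := le_trans (ringKrullDim_quotient_mono (hle i)) (hDI.1 hP0)
      rw [h1] at h2
      have h3 : ((((Qp i).natDegree + 1 : ℕ)) : WithBot ℕ∞) ≤ ((0 : ℕ) : WithBot ℕ∞) := by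
        push_cast
        exact h2
      have h4 : (Qp i).natDegree + 1 ≤ 0 := by exact_mod_cast h3
      omega
    rw [hP0, leadingCoeff_zero, mul_zero]
    symm
    refine Finset.sum_eq_zero fun i _ => ?_
    rw [hQ0 i, leadingCoeff_zero]
    simp
  · set t := P.natDegree with ht
    have hdI : ringKrullDim (A ⧸ I) = (t : WithBot ℕ∞) + 1 := hDI.2 hP0
    set s : Finset (Fin r) := Finset.univ.filter (fun i => (Qp i).natDegree = t ∧ Qp i ≠ 0)
      with hs
    let pp : Fin r → PrimeSpectrum A := fun i => ⟨p i, hp i⟩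
    have hinj : Set.InjOn pp s := by
      intro i _ j _ hij
      apply hpinj
      exact congrArg PrimeSpectrum.asIdeal hij
    have hdim : ∀ i ∈ s, ringKrullDim (A ⧸ (pp i).asIdeal) = (t : WithBot ℕ∞) + 1 := by
      intro i hi
      obtain ⟨h1, h2⟩ := (Finset.mem_filter.mp hi).2
      have := (hDp i).2 h2
      rw [h1] at this
      exact this
    have hS : ∀ q : Ideal A, q.IsPrime → q.IsHomogeneous 𝒜 → I ≤ q →
        ringKrullDim (A ⧸ q) = (t : WithBot ℕ∞) + 1 → ∃ i ∈ s, (pp i).asIdeal = q := by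
      intro q hq _ hIq hdq
      obtain ⟨q', hq', hq'q⟩ := Ideal.exists_minimalPrimes_le hIq
      obtain ⟨i, rfl⟩ := (hpmin q').mp hq'
      have hdi : ringKrullDim (A ⧸ p i) = (t : WithBot ℕ∞) + 1 := by
        apply le_antisymm
        · rw [← hdI]; exact ringKrullDim_quotient_mono (hle i)
        · rw [← hdq]; exact ringKrullDim_quotient_mono hq'q
      have heq : p i = q := by
        by_contra hne
        have hlt : p i < q := lt_of_le_of_ne hq'q hne
        have h1 := ringKrullDim_quotient_succ_le_of_lt hlt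
        rw [hdi, hdq] at h1
        have h2 : ((t + 1 + 1 : ℕ) : WithBot ℕ∞) ≤ ((t + 1 : ℕ) : WithBot ℕ∞) := by
          push_cast
          exact h1
        have h3 : t + 1 + 1 ≤ t + 1 := by exact_mod_cast h2
        omega
      have hQne : Qp i ≠ 0 := by
        intro h0
        have h1 := (hDp i).1 h0
        rw [hdi] at h1
        have h2 : ((t + 1 : ℕ) : WithBot ℕ∞) ≤ ((0 : ℕ) : WithBot ℕ∞) := by
          push_cast
          exact h1
        have h3 : t + 1 ≤ 0 := by exact_mod_cast h2
        omega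
      have hQdeg : (Qp i).natDegree = t := by
        have h1 := (hDp i).2 hQne
        rw [hdi] at h1
        have h2 : ((t + 1 : ℕ) : WithBot ℕ∞) = (((Qp i).natDegree + 1 : ℕ) : WithBot ℕ∞) := by
          push_cast
          exact h1
        have h3 : t + 1 = (Qp i).natDegree + 1 := by exact_mod_cast h2
        omega
      exact ⟨i, Finset.mem_filter.mpr ⟨Finset.mem_univ _, hQdeg, hQne⟩, heq⟩
    obtain ⟨_, hmain⟩ := mult_formula 𝒜 hfin hgen t s pp hinj hdim Qp (fun i _ => hQp i) I hS I
      le_rfl hI hdI.le P hP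
    rw [leadingCoeff, ← ht, hmain, Finset.mul_sum, ← Finset.sum_filter]
    symm
    rw [← Finset.sum_subset (s₁ := s)]
    · refine Finset.sum_congr rfl fun i hi => ?_
      obtain ⟨h1, _⟩ := (Finset.mem_filter.mp hi).2
      rw [leadingCoeff, h1]
      unfold lam
      ring
    · intro i hi
      exact Finset.mem_filter.mpr ⟨Finset.mem_univ _, (Finset.mem_filter.mp hi).2.1⟩
    · intro i hi hnot
      have h1 : (Qp i).natDegree = t := (Finset.mem_filter.mp hi).2
      have h2 : Qp i = 0 := by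
        by_contra hne
        exact hnot (Finset.mem_filter.mpr ⟨Finset.mem_univ _, h1, hne⟩)
      rw [h2, leadingCoeff_zero]
      simp

end main

section mv
attribute [local instance] MvPolynomial.gradedAlgebra
variable (k : Type u) [Field k] (σ : Type) [Finite σ]

theorem degree_formula_mv (I : Ideal (MvPolynomial σ k))
    (hI : I.IsHomogeneous (MvPolynomial.homogeneousSubmodule σ k)) (P : ℚ[X])
    (hP : IsHP (MvPolynomial.homogeneousSubmodule σ k) I P)
    (r : ℕ) (p : Fin r → Ideal (MvPolynomial σ k)) [hp : ∀ i, (p i).IsPrime]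
    (hpinj : Function.Injective p)
    (hpmin : ∀ q : Ideal (MvPolynomial σ k), q ∈ I.minimalPrimes ↔ ∃ i, q = p i)
    (Qp : Fin r → ℚ[X]) (hQp : ∀ i, IsHP (MvPolynomial.homogeneousSubmodule σ k) (p i) (Qp i)) :
    (P.natDegree.factorial : ℚ) * P.leadingCoeff =
      ∑ i : Fin r, if (Qp i).natDegree = P.natDegree then
        ((Qp i).natDegree.factorial : ℚ) * (Qp i).leadingCoeff *
          (Module.length (Localization.AtPrime (p i))
            (LocalizedModule (p i).primeCompl (MvPolynomial σ k ⧸ I))).toNat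
      else 0 :=
  degree_formula (MvPolynomial.homogeneousSubmodule σ k) (hfin_mvPolynomial k σ)
    (hgen_mvPolynomial k σ) I hI P hP r p hpinj hpmin Qp hQp

end mv

end Groth.Agent.H2.HilbDim
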