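import Mathlib
import Groth.Agent.Lib.Helper2.CInt2
import Groth.Agent.Lib.Helper2.CInt3
import Groth.Agent.Lib.Helper2.HilbMult3

/-! Projective normality of complete intersections which are normal off the vertex of the cone.
(helper2, CInt S10918) -/

set_option autoImplicit false
universe u

open DirectSum MvPolynomial

namespace Groth.Agent.H2.CInt
open Groth.Agent.H2.HilbHyper Groth.Agent.H2.HilbDim Groth.Agent.H2.GrCI

section wt
attribute [local instance] MvPolynomial.weightedGradedAlgebra
variable {F : Type u} [Field F] {k : ℕ} (δ : Fin k → ℕ) (hδ : ∀ i, 0 < δ i)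
include hδ

/-- a proper homogeneous ideal lies in the irrelevant ideal -/
theorem le_irr_of_isHomogeneous {P : Ideal (MvPolynomial (Fin k) F)}
    (hP : P.IsHomogeneous (weightedHomogeneousSubmodule F δ)) (hne : P ≠ ⊤) : P ≤ irr F k := by
  intro p hp
  have h0 := hP 0 hp
  obtain ⟨c, hc⟩ := exists_C_of_mem_zero δ hδ _
    (SetLike.coe_mem (decompose (weightedHomogeneousSubmodule F δ) p 0))
  have hc0 : c = 0 := by
    by_contra hne'
    apply hne
    apply Ideal.eq_top_of_isUnit_mem _ h0
    rw [hc]
    exact (isUnit_iff_ne_zero.mpr hne').map C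
  have h1 := sub_proj_zero_mem_irr δ hδ p
  rwa [hc, hc0, map_zero, sub_zero] at h1

end wt

section main
variable (k : Type u) [Field k] (n r : ℕ) (f : Fin r → MvPolynomial (Fin (n + 1)) k)

local notation "S" => MvPolynomial (Fin (n + 1)) k

theorem height_irr : ((irr k (n + 1)).height : WithBot ℕ∞) = ((n + 1 : ℕ) : WithBot ℕ∞) := by
  rw [DimFG.height_eq_ringKrullDim_of_isMaximal k S (irr k (n + 1)),
    DimFG.ringKrullDim_mvPolynomial_fin]

/-- the irrelevant ideal is not minimal over an ideal with at most `n` generators -/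
theorem irr_notMem_minimalPrimes (s : Finset S) (hs : s.card ≤ n) :
    irr k (n + 1) ∉ (Ideal.span (s : Set S)).minimalPrimes := by
  intro hmem
  have h := Ideal.height_le_card_of_mem_minimalPrimes_span_finset hmem
  have h2 := height_irr k n
  have h3 : ((n + 1 : ℕ) : WithBot ℕ∞) ≤ ((s.card : ℕ) : WithBot ℕ∞) := by
    rw [← h2]
    exact_mod_cast h
  have h4 : n + 1 ≤ s.card := by exact_mod_cast h3
  omega

variable (d : Fin r → ℕ) (hf : ∀ i, (f i).IsHomogeneous (d i)) (hd : ∀ i, 0 < d i)
  (hJ : (Ideal.span (Set.range f)).height = r)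

include hf hd hJ in
theorem isWeaklyRegular_of_height (hr : r ≤ n + 1) :
    RingTheory.Sequence.IsWeaklyRegular S (List.ofFn f) := by
  have hdim := ringKrullDim_quotient_add_le k n r (Ideal.span (Set.range f)) hr (by rw [hJ])
  exact isWeaklyRegular_of_dim (F := k) (k := n + 1) (fun _ => 1) (fun _ => Nat.one_pos) f d hd
      (fun i => hf i) (by exact_mod_cast hdim)

include hf hd hJ in
theorem cm_quot_of_height (hr : r ≤ n + 1) :
    LocCoh.IsCohenMacaulayRing (S ⧸ Ideal.span (Set.range f)) := by
  haveI : LocCoh.IsCohenMacaulayRing S :=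
    Groth.Agent.H1.CMFlat.isCohenMacaulayRing_of_isRegularRing S
  have hwr := isWeaklyRegular_of_height k n r f d hf hd hJ hr
  have := cm_quot_ofList_take (List.ofFn f) hwr (List.ofFn f).length le_rfl
  rwa [List.take_length, ofList_ofFn] at this

include hf hd in
theorem span_le_irr : Ideal.span (Set.range f) ≤ irr k (n + 1) := by
  rw [Ideal.span_le]
  rintro _ ⟨i, rfl⟩
  exact le_span_X_of_pos (fun _ => 1) (d i) (hd i) (f i) (hf i)

local notation "J" => Ideal.span (Set.range f)
local notation "xb" => fun i : Fin (n + 1) => Ideal.Quotient.mk (Ideal.span (Set.range f))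
  (X i : MvPolynomial (Fin (n + 1)) k)

theorem span_xb_eq : Ideal.span (Set.range xb) = (irr k (n + 1)).map (Ideal.Quotient.mk J) := by
  rw [Ideal.map_span, ← Set.range_comp]
  rfl

include hf hd in
theorem span_xb_isMaximal : (Ideal.span (Set.range xb)).IsMaximal := by
  rw [span_xb_eq]
  refine Ideal.IsMaximal.map_of_surjective_of_ker_le Ideal.Quotient.mk_surjective ?_
  rw [Ideal.mk_ker]
  exact span_le_irr k n r f d hf hd

include hf hd in
theorem comap_span_xb : (Ideal.span (Set.range xb)).comap (Ideal.Quotient.mk J) = irr k (n + 1) := by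
  have hmax := span_xb_isMaximal k n r f d hf hd
  have hle : irr k (n + 1) ≤ (Ideal.span (Set.range xb)).comap (Ideal.Quotient.mk J) := by
    rw [span_xb_eq]
    exact Ideal.le_comap_map
  have hne : (Ideal.span (Set.range xb)).comap (Ideal.Quotient.mk J) ≠ ⊤ :=
    (Ideal.comap_ne_top _ hmax.ne_top)
  exact (irr_isMaximal.eq_of_le hne hle).symm

include hf hd in
/-- transfer of minimality to the polynomial ring -/
theorem irr_mem_minimalPrimes_comap (I : Ideal (S ⧸ J))
    (h : Ideal.span (Set.range xb) ∈ I.minimalPrimes) :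
    irr k (n + 1) ∈ (I.comap (Ideal.Quotient.mk J)).minimalPrimes := by
  rw [Ideal.comap_minimalPrimes_eq_of_surjective Ideal.Quotient.mk_surjective]
  exact ⟨_, h, comap_span_xb k n r f d hf hd⟩

include hf hd in
theorem h1_aux (hr : r ≤ n) : Ideal.span (Set.range xb) ∉ (⊥ : Ideal (S ⧸ J)).minimalPrimes := by
  classical
  intro h
  have h' := irr_mem_minimalPrimes_comap k n r f d hf hd ⊥ h
  have hc : (⊥ : Ideal (S ⧸ J)).comap (Ideal.Quotient.mk J) = J := by
    rw [← RingHom.ker_eq_comap_bot, Ideal.mk_ker]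
  rw [hc] at h'
  refine irr_notMem_minimalPrimes k n (Finset.univ.image f) ?_ (by simpa using h')
  exact Finset.card_image_le.trans (by simpa using hr)

include hf hd in
theorem h2_aux (hr : r < n) (w : S ⧸ J) :
    Ideal.span (Set.range xb) ∉ (Ideal.span {w}).minimalPrimes := by
  classical
  intro h
  obtain ⟨w', rfl⟩ := Ideal.Quotient.mk_surjective w
  have h' := irr_mem_minimalPrimes_comap k n r f d hf hd _ h
  have hc : (Ideal.span {Ideal.Quotient.mk J w'}).comap (Ideal.Quotient.mk J) =
      Ideal.span ((insert w' (Finset.univ.image f) : Finset S) : Set S) := by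
    have h1 : Ideal.span {Ideal.Quotient.mk J w'} = (Ideal.span {w'}).map (Ideal.Quotient.mk J) := by
      rw [Ideal.map_span, Set.image_singleton]
    rw [h1, Ideal.comap_map_of_surjective _ Ideal.Quotient.mk_surjective,
      ← RingHom.ker_eq_comap_bot, Ideal.mk_ker, Finset.coe_insert, Ideal.span_insert]
    simp
  rw [hc] at h'
  refine irr_notMem_minimalPrimes k n _ ?_ h'
  refine (Finset.card_insert_le _ _).trans ?_
  have : (Finset.univ.image f).card ≤ r := Finset.card_image_le.trans (by simp)
  omega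

section hN
attribute [local instance] MvPolynomial.weightedGradedAlgebra

include hf hd hJ in
theorem hN_aux (hr : r ≤ n + 1) (s : S ⧸ J) (hs : s ∉ Ideal.span (Set.range xb)) :
    IsSMulRegular (S ⧸ J) s := by
  haveI := cm_quot_of_height k n r f d hf hd hJ hr
  by_contra hreg
  have hmem : s ∈ {t : S ⧸ J | IsSMulRegular (S ⧸ J) t}ᶜ := hreg
  rw [← biUnion_associatedPrimes_eq_compl_regular (S ⧸ J) (S ⧸ J)] at hmem
  simp only [Set.mem_iUnion] at hmem
  obtain ⟨P', hP', hsP'⟩ := hmem
  have hP'min := Groth.Agent.H6.Liai.mem_minimalPrimes_of_mem_associatedPrimes hP'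
  have hQmin : P'.comap (Ideal.Quotient.mk J) ∈ (J).minimalPrimes := by
    rw [Ideal.minimalPrimes_eq_comap]
    exact ⟨P', hP'min, rfl⟩
  have hJh : (J).IsHomogeneous (weightedHomogeneousSubmodule k (fun _ : Fin (n + 1) => 1)) := by
    apply Ideal.homogeneous_span
    rintro _ ⟨i, rfl⟩
    exact ⟨d i, hf i⟩
  have hQh := isHomogeneous_of_mem_minimalPrimes
    (weightedHomogeneousSubmodule k (fun _ : Fin (n + 1) => 1)) hJh hQmin
  have hQle := le_irr_of_isHomogeneous (fun _ : Fin (n + 1) => 1) (fun _ => Nat.one_pos) hQh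
    hQmin.1.1.ne_top
  obtain ⟨s', rfl⟩ := Ideal.Quotient.mk_surjective s
  apply hs
  rw [span_xb_eq]
  exact Ideal.mem_map_of_mem _ (hQle hsP')

end hN

include hf hd hJ in
/-- **projective normality** of complete intersections normal off the vertex -/
theorem normal_of_normal_off (hr : r < n)
    (hnorm : ∀ (Q : Ideal (S ⧸ J)) [Q.IsPrime],
      (∃ i, Ideal.Quotient.mk J (X i) ∉ Q) →
        IsDomain (Localization.AtPrime Q) ∧ IsIntegrallyClosed (Localization.AtPrime Q)) :
    IsDomain (S ⧸ J) ∧ IsIntegrallyClosed (S ⧸ J) := by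
  haveI := cm_quot_of_height k n r f d hf hd hJ (by omega)
  have h𝔫 := span_xb_isMaximal k n r f d hf hd
  have h1 := h1_aux k n r f d hf hd hr.le
  have h2 : ∀ w : S ⧸ J, IsSMulRegular (S ⧸ J) w →
      Ideal.span (Set.range xb) ∉ (Ideal.span {w}).minimalPrimes :=
    fun w _ => h2_aux k n r f d hf hd hr w
  have hN := hN_aux k n r f d hf hd hJ (by omega)
  have hnorm' : ∀ (Q : Ideal (S ⧸ J)) [Q.IsPrime], (∃ i, (xb) i ∉ Q) →
      IsDomain (Localization.AtPrime Q) ∧ IsIntegrallyClosed (Localization.AtPrime Q) :=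
    fun Q _ hi => hnorm Q hi
  haveI hdom : IsDomain (S ⧸ J) := isDomain_of_normal_off (xb) h𝔫 h1 h2 hN hnorm'
  exact ⟨hdom, isIntegrallyClosed_of_normal_off (xb) h𝔫 h2 hnorm'⟩

end main

end Groth.Agent.H2.CInt
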