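import Mathlib
import Groth.Agent.Lib.Helper2.CInt1

/-! The Hilbert function of a one-dimensional homogeneous complete intersection in `P^n` is
eventually the product of the degrees.  (helper2, ProjDeg S14440) -/

set_option autoImplicit false
universe u

open DirectSum MvPolynomial

namespace Groth.Agent.H2.CInt
open Groth.Agent.H2.HilbHyper Groth.Agent.H2.HilbDim Groth.Agent.H2.GrCI

section hp
attribute [local instance] MvPolynomial.weightedGradedAlgebra
variable (k : Type u) [Field k] (n : ℕ) (f : Fin n → MvPolynomial (Fin (n + 1)) k)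
  (d : Fin n → ℕ) (hd : ∀ i, 1 ≤ d i) (hf : ∀ i, (f i).IsHomogeneous (d i))
  (hdim : ringKrullDim (MvPolynomial (Fin (n + 1)) k ⧸ Ideal.span (Set.range f)) = 1)

local notation "𝒲" => weightedHomogeneousSubmodule k (fun _ : Fin (n + 1) => 1)

include hd hf hdim in
theorem HS_mul_one_sub :
    HS 𝒲 (Ideal.span (Set.range f)) * (1 - PowerSeries.X) =
      ∏ i : Fin n, ∑ j ∈ Finset.range (d i), (PowerSeries.X : PowerSeries ℤ) ^ j := by
  have hpos : ∀ i : Fin (n + 1), 0 < (fun _ : Fin (n + 1) => 1) i := fun _ => Nat.one_pos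
  have hreg : RingTheory.Sequence.IsWeaklyRegular (MvPolynomial (Fin (n + 1)) k) (List.ofFn f) := by
    apply isWeaklyRegular_of_dim (F := k) (k := n + 1) (fun _ => 1) hpos f d (fun i => hd i)
      (fun i => hf i)
    rw [hdim]
    push_cast
    rw [add_comm]
  have e1 : HS 𝒲 (Ideal.span (Set.range f)) =
      HS 𝒲 ⊥ * ∏ i : Fin n, (1 - PowerSeries.X ^ (d i)) :=
    HS_span_range 𝒲 (hfin_weighted _ hpos) f d (fun i => hf i) hreg
  have e2 : HS 𝒲 (⊥ : Ideal (MvPolynomial (Fin (n + 1)) k)) *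
      (1 - PowerSeries.X) ^ (n + 1) = 1 := by
    have := HS_bot_mul (F := k) (k := n + 1) (fun _ => 1) hpos
    simpa [Finset.prod_const] using this
  have e3 : ∀ i : Fin n, (1 - PowerSeries.X ^ (d i) : PowerSeries ℤ) =
      (1 - PowerSeries.X) * ∑ j ∈ Finset.range (d i), (PowerSeries.X : PowerSeries ℤ) ^ j := by
    intro i
    rw [mul_comm, geom_sum_mul_neg]
  have e4 : ∏ i : Fin n, (1 - PowerSeries.X ^ (d i) : PowerSeries ℤ) =
      (1 - PowerSeries.X) ^ n *
        ∏ i : Fin n, ∑ j ∈ Finset.range (d i), (PowerSeries.X : PowerSeries ℤ) ^ j := by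
    simp_rw [e3]
    rw [Finset.prod_mul_distrib, Finset.prod_const, Finset.card_univ, Fintype.card_fin]
  have hne : ((1 : PowerSeries ℤ) - PowerSeries.X) ^ n ≠ 0 := by
    apply pow_ne_zero
    intro h
    have := congrArg (PowerSeries.constantCoeff (R := ℤ)) h
    simp at this
  apply mul_left_cancel₀ hne
  calc (1 - PowerSeries.X) ^ n * (HS 𝒲 (Ideal.span (Set.range f)) * (1 - PowerSeries.X))
      = (HS 𝒲 ⊥ * (1 - PowerSeries.X) ^ (n + 1)) *
          ∏ i : Fin n, (1 - PowerSeries.X ^ (d i)) := by rw [e1]; ring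
    _ = (1 - PowerSeries.X) ^ n *
        ∏ i : Fin n, ∑ j ∈ Finset.range (d i), (PowerSeries.X : PowerSeries ℤ) ^ j := by
      rw [e2, one_mul, e4]

/-- a power series whose product with `1 - X` is a polynomial has eventually constant
coefficients, equal to the value of the polynomial at `1` -/
theorem coeff_eq_eval_one_of_mul_one_sub (φ : PowerSeries ℤ) (Q : Polynomial ℤ)
    (h : φ * (1 - PowerSeries.X) = (Q : PowerSeries ℤ)) (m : ℕ) (hm : Q.natDegree ≤ m) :
    PowerSeries.coeff m φ = Q.eval 1 := by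
  have h0 : PowerSeries.coeff 0 φ = Q.coeff 0 := by
    have := congrArg (PowerSeries.coeff 0) h
    rwa [mul_sub, mul_one, map_sub, PowerSeries.coeff_zero_mul_X, sub_zero,
      Polynomial.coeff_coe] at this
  have hs : ∀ j, PowerSeries.coeff (j + 1) φ = PowerSeries.coeff j φ + Q.coeff (j + 1) := by
    intro j
    have := congrArg (PowerSeries.coeff (j + 1)) h
    rw [mul_sub, mul_one, map_sub, PowerSeries.coeff_succ_mul_X, Polynomial.coeff_coe] at this
    linarith
  have hsum : ∀ j, PowerSeries.coeff j φ = ∑ i ∈ Finset.range (j + 1), Q.coeff i := by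
    intro j
    induction j with
    | zero => simpa using h0
    | succ j ih => rw [hs, ih, Finset.sum_range_succ _ (j + 1)]
  rw [hsum, Polynomial.eval_eq_sum_range' (Nat.lt_succ_of_le hm)]
  simp

include hd hf hdim in
theorem hN_eventually : ∃ m₀ : ℕ, ∀ m : ℕ, m₀ ≤ m →
    hN 𝒲 (Ideal.span (Set.range f)) m = ∏ i : Fin n, d i := by
  set Q : Polynomial ℤ := ∏ i : Fin n, ∑ j ∈ Finset.range (d i), (Polynomial.X : Polynomial ℤ) ^ j
    with hQ
  have hcoe : (Q : PowerSeries ℤ) =
      ∏ i : Fin n, ∑ j ∈ Finset.range (d i), (PowerSeries.X : PowerSeries ℤ) ^ j := by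
    rw [hQ, ← Polynomial.coeToPowerSeries.ringHom_apply, map_prod]
    refine Finset.prod_congr rfl fun i _ => ?_
    rw [map_sum]
    refine Finset.sum_congr rfl fun j _ => ?_
    rw [map_pow, Polynomial.coeToPowerSeries.ringHom_apply, Polynomial.coe_X]
  have h := HS_mul_one_sub k n f d hd hf hdim
  rw [← hcoe] at h
  refine ⟨Q.natDegree, fun m hm => ?_⟩
  have h2 := coeff_eq_eval_one_of_mul_one_sub _ Q h m hm
  rw [HS, PowerSeries.coeff_mk] at h2
  have h3 : Q.eval 1 = ((∏ i : Fin n, d i : ℕ) : ℤ) := by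
    rw [hQ, Polynomial.eval_prod]
    push_cast
    refine Finset.prod_congr rfl fun i _ => ?_
    simp [Polynomial.eval_finset_sum]
  rw [h3] at h2
  exact_mod_cast h2

include hd hf hdim in
/-- **S14440** -/
theorem hilbertFunction_eventually : ∃ m₀ : ℕ, ∀ m : ℕ, m₀ ≤ m →
    Module.finrank k ↥(𝒲 m) -
      Module.finrank k ↥((Ideal.span (Set.range f)).restrictScalars k ⊓ 𝒲 m) =
    ∏ i : Fin n, d i := by
  obtain ⟨m₀, h⟩ := hN_eventually k n f d hd hf hdim
  refine ⟨m₀, fun m hm => ?_⟩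
  have h1 := hN_add_finrank 𝒲 (hfin_weighted _ (fun _ => Nat.one_pos))
    (Ideal.span (Set.range f)) m
  rw [h m hm] at h1
  omega

end hp

end Groth.Agent.H2.CInt
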