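import Mathlib
import Groth.Agent.Lib.Helper2.CInt3

/-! Connectedness of the punctured spectrum of a Cohen–Macaulay ring at a closed point of
codimension at least two (algebraic form).  (helper2, Variety S10820) -/

set_option autoImplicit false
universe u

namespace Groth.Agent.H2.CInt

section main
variable {B : Type u} [CommRing B] {ι : Type*} (x : ι → B)
  [hB : LocCoh.IsCohenMacaulayRing B] (h𝔫 : (Ideal.span (Set.range x)).IsMaximal)
  (h1 : Ideal.span (Set.range x) ∉ (⊥ : Ideal B).minimalPrimes)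
  (h2 : ∀ w : B, IsSMulRegular B w → Ideal.span (Set.range x) ∉ (Ideal.span {w}).minimalPrimes)
  (hN : ∀ s : B, s ∉ Ideal.span (Set.range x) → IsSMulRegular B s)

include h𝔫 h1 h2 hN in
theorem eq_bot_or_eq_bot_of_mul_eq_bot (𝔞 𝔟 : Ideal B) (hab : 𝔞 * 𝔟 = ⊥)
    (hpow : ∀ i, ∃ m : ℕ, x i ^ m ∈ 𝔞 ⊔ 𝔟) : 𝔞 = ⊥ ∨ 𝔟 = ⊥ := by
  classical
  obtain ⟨w, hwmem, hwreg⟩ :=
    Groth.Agent.H6.CM.exists_isSMulRegular_of_forall_ass (𝔞 ⊔ 𝔟) B (by
      intro P' hP' hle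
      have hP'min := Groth.Agent.H6.Liai.mem_minimalPrimes_of_mem_associatedPrimes hP'
      haveI hP'p : P'.IsPrime := hP'.isPrime
      have hle' : Ideal.span (Set.range x) ≤ P' := by
        rw [Ideal.span_le]
        rintro _ ⟨i, rfl⟩
        obtain ⟨m, hm⟩ := hpow i
        exact hP'p.mem_of_pow_mem m (hle hm)
      have heq := h𝔫.eq_of_le hP'p.ne_top hle'
      exact h1 (heq ▸ hP'min))
  obtain ⟨α, hα, β, hβ, hw⟩ := Submodule.mem_sup.mp hwmem
  have hann : ∀ α' ∈ 𝔞, ∀ β' ∈ 𝔟, β' * α' = 0 := by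
    intro α' hα' β' hβ'
    have : α' * β' ∈ 𝔞 * 𝔟 := Ideal.mul_mem_mul hα' hβ'
    rw [hab, Ideal.mem_bot] at this
    rw [mul_comm]
    exact this
  have hαw : α ∈ Ideal.span {w} := by
    apply sat_span x h𝔫 h2 w hwreg
    intro i
    obtain ⟨m, hm⟩ := hpow i
    obtain ⟨α', hα', β', hβ', hsum⟩ := Submodule.mem_sup.mp hm
    refine ⟨m, ?_⟩
    rw [Ideal.mem_span_singleton']
    refine ⟨α', ?_⟩
    have e1 : β * α' = 0 := hann α' hα' β hβ
    have e2 : β' * α = 0 := hann α hα β' hβ'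
    calc α' * w = α' * α + β * α' := by rw [← hw]; ring
      _ = α' * α + β' * α := by rw [e1, e2]
      _ = x i ^ m * α := by rw [← hsum]; ring
  obtain ⟨c, hc⟩ := Ideal.mem_span_singleton'.mp hαw
  have e3 : β * α = 0 := hann α hα β hβ
  have hαα : α * w = α * α := by
    calc α * w = α * α + β * α := by rw [← hw]; ring
      _ = α * α := by rw [e3, add_zero]
  have hcc : c * c = c := by
    apply hwreg
    apply hwreg
    change w * (w * (c * c)) = w * (w * c)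
    calc w * (w * (c * c)) = (c * w) * (c * w) := by ring
      _ = (c * w) * w := by rw [hc, hαα]
      _ = w * (w * c) := by ring
  rcases idem x h𝔫 hN c hcc with h0 | h1c
  · -- `w = β ∈ 𝔟`, so `𝔞 = ⊥`
    left
    have hα0 : α = 0 := by rw [← hc, h0, zero_mul]
    have hwb : w ∈ 𝔟 := by rw [← hw, hα0, zero_add]; exact hβ
    rw [eq_bot_iff]
    intro p hp
    rw [Ideal.mem_bot]
    apply hwreg
    change w * p = w * 0
    rw [mul_zero]
    exact hann p hp w hwb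
  · right
    have hwa : w ∈ 𝔞 := by
      have : α = w := by rw [← hc, h1c, one_mul]
      rw [← this]; exact hα
    rw [eq_bot_iff]
    intro p hp
    rw [Ideal.mem_bot]
    apply hwreg
    change w * p = w * 0
    rw [mul_zero, mul_comm]
    exact hann w hwa p hp

include h𝔫 h1 h2 hN in
/-- if `V(𝔞) ∪ V(𝔟)` is everything and `V(𝔞) ∩ V(𝔟)` is the closed point, then one of them is
the closed point -/
theorem forall_pow_mem_or_of_mul_le_nilradical (𝔞 𝔟 : Ideal B) (hab : 𝔞 * 𝔟 ≤ nilradical B)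
    (hpow : ∀ i, ∃ m : ℕ, x i ^ m ∈ 𝔞 ⊔ 𝔟) :
    (∀ i, ∃ m : ℕ, x i ^ m ∈ 𝔞) ∨ (∀ i, ∃ m : ℕ, x i ^ m ∈ 𝔟) := by
  obtain ⟨M, hM⟩ := IsNoetherianRing.isNilpotent_nilradical B
  have hab' : 𝔞 ^ M * 𝔟 ^ M = ⊥ := by
    rw [← mul_pow, ← le_bot_iff]
    calc (𝔞 * 𝔟) ^ M ≤ nilradical B ^ M := Ideal.pow_right_mono hab M
      _ = ⊥ := by rw [hM]; rfl
  have hpow' : ∀ i, ∃ m : ℕ, x i ^ m ∈ 𝔞 ^ M ⊔ 𝔟 ^ M := by
    intro i
    obtain ⟨m, hm⟩ := hpow i
    refine ⟨m * (M + M), ?_⟩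
    rw [pow_mul]
    exact Ideal.sup_pow_add_le_pow_sup_pow (Ideal.pow_mem_pow hm (M + M))
  rcases eq_bot_or_eq_bot_of_mul_eq_bot x h𝔫 h1 h2 hN _ _ hab' hpow' with h | h
  · right
    intro i
    obtain ⟨m, hm⟩ := hpow i
    refine ⟨m * (M + 1), ?_⟩
    rw [pow_mul]
    have h3 := Ideal.sup_pow_add_le_pow_sup_pow (I := 𝔞) (J := 𝔟) (n := M) (m := 1)
      (Ideal.pow_mem_pow hm (M + 1))
    rw [h, bot_sup_eq, pow_one] at h3
    exact h3
  · left
    intro i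
    obtain ⟨m, hm⟩ := hpow i
    refine ⟨m * (1 + M), ?_⟩
    rw [pow_mul]
    have h3 := Ideal.sup_pow_add_le_pow_sup_pow (I := 𝔞) (J := 𝔟) (n := 1) (m := M)
      (Ideal.pow_mem_pow hm (1 + M))
    rw [h, sup_bot_eq, pow_one] at h3
    exact h3

end main

end Groth.Agent.H2.CInt
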