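import Mathlib
import Groth.Prelude.Def_CohB1
import Groth.Agent.Lib.Helper2.CInt4
import Groth.Agent.Lib.Helper2.CInt6

/-! Connectedness of hypersurfaces in projective space of dimension at least two.
(helper2, Variety S10820) -/

set_option autoImplicit false
universe u

open MvPolynomial

namespace Groth.Agent.H2.CInt
open Groth.Agent.H2.HilbHyper Groth.Agent.H2.HilbDim Groth.Agent.H2.GrCI

section proj
attribute [local instance] MvPolynomial.gradedAlgebra
variable (k : Type u) [Field k] (n : ℕ)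

local notation "S" => MvPolynomial (Fin (n + 1)) k
local notation "𝒢" => homogeneousSubmodule (Fin (n + 1)) k

theorem irr_le_irrelevant : irr k (n + 1) ≤ (HomogeneousIdeal.irrelevant 𝒢).toIdeal := by
  rw [Ideal.span_le]
  rintro _ ⟨i, rfl⟩
  exact HomogeneousIdeal.mem_irrelevant_of_mem 𝒢 Nat.one_pos (isHomogeneous_X k i)

theorem irrelevant_le_irr : (HomogeneousIdeal.irrelevant 𝒢).toIdeal ≤ irr k (n + 1) := by
  have h := (HomogeneousIdeal.toAddSubmonoid_irrelevant_le (𝒜 := 𝒢)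
    (P := (irr k (n + 1)).toAddSubmonoid)).mpr (by
      intro i hi p hp
      exact le_span_X_of_pos (fun _ => 1) i hi p hp)
  exact h

variable (d : ℕ) (hn : 2 ≤ n) (f : MvPolynomial (Fin (n + 1)) k) (hf : f.IsHomogeneous d) (hd : 0 < d) (hf0 : f ≠ 0)

local notation "fF" => fun _ : Fin 1 => f
local notation "J" => Ideal.span (Set.range fun _ : Fin 1 => f)

theorem span_range_fF : J = Ideal.span {f} := by
  congr 1
  exact Set.range_const

include hf in
theorem isHomogeneous_J : (J).IsHomogeneous 𝒢 := by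
  apply Ideal.homogeneous_span
  rintro _ ⟨i, rfl⟩
  exact ⟨d, hf⟩

include hf hd hf0 in
theorem height_J : (J).height = ((1 : ℕ) : ℕ∞) := by
  rw [span_range_fF, Nat.cast_one]
  apply Ideal.height_span_singleton_eq_one_of_mem_nonZeroDivisors
    (mem_nonZeroDivisors_of_ne_zero hf0)
  intro hu
  have h1 : f ∈ irr k (n + 1) := le_span_X_of_pos (fun _ => 1) d hd f hf
  exact (irr_isMaximal (F := k) (k := n + 1)).ne_top (Ideal.eq_top_of_isUnit_mem _ h1 hu)

/-- a homogeneous prime not containing the irrelevant ideal, as a point of `Proj` -/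
noncomputable def mkPt (Q : Ideal S) (hQ : Q.IsPrime) (hQh : Q.IsHomogeneous 𝒢)
    (hQi : ¬ irr k (n + 1) ≤ Q) : ProjectiveSpectrum 𝒢 :=
  ⟨⟨Q, hQh⟩, hQ, fun hle => hQi ((irr_le_irrelevant k n).trans hle)⟩

theorem exists_X_notMem (y : ProjectiveSpectrum 𝒢) :
    ∃ i : Fin (n + 1), (X i : S) ∉ y.asHomogeneousIdeal.toIdeal := by
  by_contra hcon
  push Not at hcon
  apply y.not_irrelevant_le
  intro a ha
  have h1 : irr k (n + 1) ≤ y.asHomogeneousIdeal.toIdeal := by
    rw [Ideal.span_le]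
    rintro _ ⟨i, rfl⟩
    exact hcon i
  exact h1 (irrelevant_le_irr k n ha)

include hn hf hd hf0 in
theorem isConnected_zeroLocus :
    IsConnected (ProjectiveSpectrum.zeroLocus 𝒢 ({f} : Set S)) := by
  classical
  have hJh := isHomogeneous_J k n d f hf
  have hJht := height_J k n d f hf hd hf0
  have hdd : ∀ i : Fin 1, 0 < (fun _ : Fin 1 => d) i := fun _ => hd
  have hff : ∀ i : Fin 1, ((fF) i).IsHomogeneous ((fun _ : Fin 1 => d) i) := fun _ => hf
  haveI hcm := cm_quot_of_height k n 1 (fF) (fun _ => d) hff hdd hJht (by omega)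
  have h𝔫 := span_xb_isMaximal k n 1 (fF) (fun _ => d) hff hdd
  have h1 := h1_aux k n 1 (fF) (fun _ => d) hff hdd (by omega)
  have h2 : ∀ w : S ⧸ J, IsSMulRegular (S ⧸ J) w →
      Ideal.span (Set.range fun i : Fin (n + 1) => Ideal.Quotient.mk J (X i)) ∉
        (Ideal.span {w}).minimalPrimes :=
    fun w _ => h2_aux k n 1 (fF) (fun _ => d) hff hdd (by omega) w
  have hN := hN_aux k n 1 (fF) (fun _ => d) hff hdd hJht (by omega)
  have hJirr : J ≤ irr k (n + 1) := span_le_irr k n 1 (fF) (fun _ => d) hff hdd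
  -- points from minimal primes of `J`
  have hminpt : ∀ Q ∈ (J).minimalPrimes, Q.IsHomogeneous 𝒢 ∧ ¬ irr k (n + 1) ≤ Q := by
    intro Q hQ
    refine ⟨isHomogeneous_of_mem_minimalPrimes 𝒢 hJh hQ, fun hle => ?_⟩
    have heq := (irr_isMaximal (F := k) (k := n + 1)).eq_of_le hQ.1.1.ne_top hle
    have := irr_notMem_minimalPrimes k n (Finset.univ.image (fF)) (by
      refine Finset.card_image_le.trans ?_
      simp; omega)
    apply this
    rw [heq]
    simpa using hQ
  refine ⟨?_, ?_⟩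
  · -- nonempty
    obtain ⟨Q, hQ⟩ := Ideal.nonempty_minimalPrimes
      (I := J) (fun h => (irr_isMaximal (F := k) (k := n + 1)).ne_top (top_le_iff.mp (h ▸ hJirr)))
    obtain ⟨hQh, hQi⟩ := hminpt Q hQ
    refine ⟨mkPt k n Q hQ.1.1 hQh hQi, ?_⟩
    rw [ProjectiveSpectrum.mem_zeroLocus]
    intro y hy
    rw [Set.mem_singleton_iff] at hy
    subst hy
    exact hQ.1.2 (Ideal.subset_span ⟨0, rfl⟩)
  · rw [isPreconnected_closed_iff]
    intro t t' ht ht' hsub hne hne'
    by_contra hempty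
    rw [Set.not_nonempty_iff_eq_empty] at hempty
    set 𝔞h := ProjectiveSpectrum.vanishingIdeal t with h𝔞h
    set 𝔟h := ProjectiveSpectrum.vanishingIdeal t' with h𝔟h
    have hta : ProjectiveSpectrum.zeroLocus 𝒢 (𝔞h : Set S) = t := by
      rw [ProjectiveSpectrum.zeroLocus_vanishingIdeal_eq_closure, ht.closure_eq]
    have htb : ProjectiveSpectrum.zeroLocus 𝒢 (𝔟h : Set S) = t' := by
      rw [ProjectiveSpectrum.zeroLocus_vanishingIdeal_eq_closure, ht'.closure_eq]
    set 𝔞 : Ideal S := 𝔞h.toIdeal with h𝔞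
    set 𝔟 : Ideal S := 𝔟h.toIdeal with h𝔟
    have hmemt : ∀ y : ProjectiveSpectrum 𝒢, y ∈ t ↔ 𝔞 ≤ y.asHomogeneousIdeal.toIdeal := by
      intro y
      rw [← hta, ProjectiveSpectrum.mem_zeroLocus]
      rfl
    have hmemt' : ∀ y : ProjectiveSpectrum 𝒢, y ∈ t' ↔ 𝔟 ≤ y.asHomogeneousIdeal.toIdeal := by
      intro y
      rw [← htb, ProjectiveSpectrum.mem_zeroLocus]
      rfl
    have hmemZ : ∀ y : ProjectiveSpectrum 𝒢, y ∈ ProjectiveSpectrum.zeroLocus 𝒢 ({f} : Set S) ↔
        J ≤ y.asHomogeneousIdeal.toIdeal := by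
      intro y
      rw [ProjectiveSpectrum.mem_zeroLocus, span_range_fF, Ideal.span_le]
      rfl
    set ab : Ideal (S ⧸ J) := 𝔞.map (Ideal.Quotient.mk J) with hab
    set bb : Ideal (S ⧸ J) := 𝔟.map (Ideal.Quotient.mk J) with hbb
    -- (i)
    have hnil : ab * bb ≤ nilradical (S ⧸ J) := by
      change ab * bb ≤ (⊥ : Ideal (S ⧸ J)).radical
      rw [← Ideal.sInf_minimalPrimes]
      refine le_sInf fun P' hP' => ?_
      have hQmin : P'.comap (Ideal.Quotient.mk J) ∈ (J).minimalPrimes := by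
        rw [Ideal.minimalPrimes_eq_comap]
        exact ⟨P', hP', rfl⟩
      obtain ⟨hQh, hQi⟩ := hminpt _ hQmin
      have hyZ : mkPt k n _ hQmin.1.1 hQh hQi ∈
          ProjectiveSpectrum.zeroLocus 𝒢 ({f} : Set S) := by
        rw [hmemZ]
        exact hQmin.1.2
      rcases hsub hyZ with h | h
      · rw [hmemt] at h
        exact (Ideal.mul_le_left : ab * bb ≤ ab).trans (Ideal.map_le_iff_le_comap.mpr h)
      · rw [hmemt'] at h
        exact (Ideal.mul_le_right : ab * bb ≤ bb).trans (Ideal.map_le_iff_le_comap.mpr h)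
    -- (ii)
    have hpow : ∀ i : Fin (n + 1), ∃ m : ℕ,
        (Ideal.Quotient.mk J (X i)) ^ m ∈ ab ⊔ bb := by
      apply exists_pow_mem_of_forall_prime (fun i : Fin (n + 1) => Ideal.Quotient.mk J (X i))
      rintro Q' hQ' ⟨i, hi⟩ hle
      set Q := Q'.comap (Ideal.Quotient.mk J) with hQ
      haveI hQp : Q.IsPrime := Ideal.comap_isPrime _ _
      have hJQ : J ≤ Q := by
        intro a ha
        change Ideal.Quotient.mk J a ∈ Q'
        rw [Ideal.Quotient.eq_zero_iff_mem.mpr ha]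
        exact zero_mem _
      have haQ : 𝔞 ≤ Q := Ideal.map_le_iff_le_comap.mp (le_sup_left.trans hle)
      have hbQ : 𝔟 ≤ Q := Ideal.map_le_iff_le_comap.mp (le_sup_right.trans hle)
      have hXQ : (X i : S) ∉ Q := hi
      -- homogeneous core
      set Qh := Q.homogeneousCore 𝒢 with hQh
      have hQhp : Qh.toIdeal.IsPrime := hQp.homogeneousCore
      have hQhle : Qh.toIdeal ≤ Q := Ideal.toIdeal_homogeneousCore_le 𝒢 Q
      have hcore : ∀ I : Ideal S, I.IsHomogeneous 𝒢 → I ≤ Q → I ≤ Qh.toIdeal := by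
        intro I hI hIQ
        exact hI.toIdeal_homogeneousCore_eq_self.symm.trans_le (Ideal.homogeneousCore_mono 𝒢 hIQ)
      have hQhi : ¬ irr k (n + 1) ≤ Qh.toIdeal := by
        intro hle'
        exact hXQ (hQhle (hle' (Ideal.subset_span ⟨i, rfl⟩)))
      set y := mkPt k n Qh.toIdeal hQhp Qh.isHomogeneous hQhi with hy
      have hy1 : y ∈ ProjectiveSpectrum.zeroLocus 𝒢 ({f} : Set S) := by
        rw [hmemZ]
        exact hcore _ hJh hJQ
      have hy2 : y ∈ t := by
        rw [hmemt]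
        exact hcore _ 𝔞h.isHomogeneous haQ
      have hy3 : y ∈ t' := by
        rw [hmemt']
        exact hcore _ 𝔟h.isHomogeneous hbQ
      have : y ∈ (∅ : Set (ProjectiveSpectrum 𝒢)) := hempty ▸ ⟨hy1, hy2, hy3⟩
      exact this
    -- (iii)
    have hcontra : ∀ (𝔠 : Ideal S) (y : ProjectiveSpectrum 𝒢),
        J ≤ y.asHomogeneousIdeal.toIdeal → 𝔠 ≤ y.asHomogeneousIdeal.toIdeal →
        (∀ i : Fin (n + 1), ∃ m : ℕ, (Ideal.Quotient.mk J (X i)) ^ m ∈
          𝔠.map (Ideal.Quotient.mk J)) → False := by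
      intro 𝔠 y hJy hcy hall
      obtain ⟨i, hi⟩ := exists_X_notMem k n y
      obtain ⟨m, hm⟩ := hall i
      rw [← map_pow, Ideal.mem_map_iff_of_surjective _ Ideal.Quotient.mk_surjective] at hm
      obtain ⟨a, ha, hae⟩ := hm
      have hsub' : X i ^ m - a ∈ J := by
        rw [← Ideal.Quotient.eq_zero_iff_mem, map_sub, hae, sub_self]
      have : (X i : S) ^ m ∈ y.asHomogeneousIdeal.toIdeal := by
        have h3 := Ideal.add_mem _ (hJy hsub') (hcy ha)
        rwa [sub_add_cancel] at h3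
      exact hi (y.isPrime.mem_of_pow_mem m this)
    rcases forall_pow_mem_or_of_mul_le_nilradical
      (fun i : Fin (n + 1) => Ideal.Quotient.mk J (X i)) h𝔫 h1 h2 hN ab bb hnil hpow with h | h
    · obtain ⟨y, hyZ, hyt⟩ := hne
      exact hcontra 𝔞 y ((hmemZ y).mp hyZ) ((hmemt y).mp hyt) h
    · obtain ⟨y, hyZ, hyt⟩ := hne'
      exact hcontra 𝔟 y ((hmemZ y).mp hyZ) ((hmemt' y).mp hyt) h

end proj

end Groth.Agent.H2.CInt
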