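import Mathlib

/-! Complete intersections in projective space (helper2), part A: dehomogenisation preserves
"`F` is a nonzerodivisor modulo `(G_1, …, G_r)`", for homogeneous elements of a graded ring and the
degree zero part of the localisation at an element of degree one. -/

set_option autoImplicit false
universe u

open DirectSum HomogeneousLocalization

namespace Groth.Agent.H2.CIP

section graded
variable {A σ : Type*} [CommRing A] [SetLike σ A] [AddSubgroupClass σ A] (𝒜 : ℕ → σ)
  [GradedRing 𝒜]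

/-- a homogeneous element of an ideal spanned by homogeneous elements is a combination of the
generators with homogeneous coefficients of the complementary degrees. -/
theorem exists_homogeneous_coeffs {r : ℕ} (a : Fin r → ℕ) (G : Fin r → A)
    (hG : ∀ j, G j ∈ 𝒜 (a j)) (m : ℕ) (y : A) (hy : y ∈ 𝒜 m)
    (hyJ : y ∈ Ideal.span (Set.range G)) :
    ∃ q : Fin r → A, (∀ j, a j ≤ m → q j ∈ 𝒜 (m - a j)) ∧ (∀ j, ¬ a j ≤ m → q j = 0) ∧
      y = ∑ j, q j * G j := by
  classical
  obtain ⟨c, hc⟩ := (Ideal.mem_span_range_iff_exists_fun).mp hyJ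
  refine ⟨fun j => if a j ≤ m then (decompose 𝒜 (c j) (m - a j) : A) else 0, ?_, ?_, ?_⟩
  · intro j hj
    simp only [hj, if_true]
    exact SetLike.coe_mem _
  · intro j hj
    simp only [hj, if_false]
  · have h1 : y = (decompose 𝒜 y m : A) := (decompose_of_mem_same 𝒜 hy).symm
    rw [h1, ← hc, decompose_sum, DFinsupp.finsetSum_apply, AddSubmonoidClass.coe_finsetSum]
    refine Finset.sum_congr rfl fun j _ => ?_
    rw [coe_decompose_mul_of_right_mem 𝒜 m (hG j)]
    dsimp only
    split_ifs <;> simp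

variable {x : A} (hx : x ∈ 𝒜 1)

/-- `G / x^d` for `G` homogeneous of degree `d`. -/
noncomputable def amk {d : ℕ} (G : A) (hG : G ∈ 𝒜 d) : Away 𝒜 x :=
  Away.mk 𝒜 hx d G (by rw [smul_eq_mul, mul_one]; exact hG)

theorem val_amk {d : ℕ} (G : A) (hG : G ∈ 𝒜 d) :
    (amk 𝒜 hx G hG).val =
      Localization.mk G (⟨x ^ d, d, rfl⟩ : Submonoid.powers x) := rfl

theorem val_amk_mul {d : ℕ} (G : A) (hG : G ∈ 𝒜 d) :
    (amk 𝒜 hx G hG).val * algebraMap A (Localization.Away x) (x ^ d) =
      algebraMap A (Localization.Away x) G := by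
  rw [val_amk, Localization.mk_eq_mk']
  exact IsLocalization.mk'_spec _ G (⟨x ^ d, d, rfl⟩ : Submonoid.powers x)

/-- the value of `G / x^d` lies in the extension of any ideal containing `G`. -/
theorem val_amk_mem_map {d : ℕ} (G : A) (hG : G ∈ 𝒜 d) (J : Ideal A) (hGJ : G ∈ J) :
    (amk 𝒜 hx G hG).val ∈ Ideal.map (algebraMap A (Localization.Away x)) J := by
  rw [val_amk, Localization.mk_eq_mk',
    IsLocalization.mk'_mem_map_algebraMap_iff (Submonoid.powers x)]
  exact ⟨1, one_mem _, by rwa [one_mul]⟩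

/-- an element of the degree zero part whose value lies in the extension of the ideal spanned by
homogeneous elements lies in the ideal spanned by their dehomogenisations. -/
theorem mem_span_amk_of_val_mem {r : ℕ} (a : Fin r → ℕ) (G : Fin r → A)
    (hG : ∀ j, G j ∈ 𝒜 (a j)) (b : Away 𝒜 x)
    (hb : b.val ∈ Ideal.map (algebraMap A (Localization.Away x)) (Ideal.span (Set.range G))) :
    b ∈ Ideal.span (Set.range fun j => amk 𝒜 hx (G j) (hG j)) := by
  classical
  obtain ⟨N, f, hf, rfl⟩ := Away.mk_surjective 𝒜 hx b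
  have hfN : f ∈ 𝒜 N := by rwa [smul_eq_mul, mul_one] at hf
  set ℓ := algebraMap A (Localization.Away x) with hℓ
  have h1 : (Away.mk 𝒜 hx N f hf).val * ℓ (x ^ N) = ℓ f := val_amk_mul 𝒜 hx f hfN
  have h2 : ℓ f ∈ Ideal.map ℓ (Ideal.span (Set.range G)) := by
    rw [← h1]
    exact Ideal.mul_mem_right _ _ hb
  have h3 : (IsLocalization.mk' (Localization.Away x) f (1 : Submonoid.powers x)) ∈
      Ideal.map ℓ (Ideal.span (Set.range G)) := by
    rwa [IsLocalization.mk'_one]
  rw [IsLocalization.mk'_mem_map_algebraMap_iff (Submonoid.powers x)] at h3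
  obtain ⟨s, ⟨E, rfl⟩, hs⟩ := h3
  have hdeg : x ^ E * f ∈ 𝒜 (E + N) := SetLike.mul_mem_graded
    (by simpa using SetLike.pow_mem_graded E hx) hfN
  obtain ⟨q, hq1, hq2, hq3⟩ := exists_homogeneous_coeffs 𝒜 a G hG (E + N) _ hdeg hs
  let c : Fin r → Away 𝒜 x := fun j =>
    if h : a j ≤ E + N then amk 𝒜 hx (q j) (hq1 j h) else 0
  have hc : ∀ j, (c j).val * ℓ (x ^ (E + N - a j)) = ℓ (q j) := by
    intro j
    by_cases h : a j ≤ E + N
    · simp only [c, dif_pos h]
      exact val_amk_mul 𝒜 hx (q j) (hq1 j h)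
    · simp only [c, dif_neg h, hq2 j h]
      rw [HomogeneousLocalization.val_zero, zero_mul, map_zero]
  have hsum : Away.mk 𝒜 hx N f hf = ∑ j, c j * amk 𝒜 hx (G j) (hG j) := by
    apply HomogeneousLocalization.val_injective
    have hu : IsUnit (ℓ (x ^ (E + N))) :=
      IsLocalization.map_units (Localization.Away x) (⟨x ^ (E + N), E + N, rfl⟩ : Submonoid.powers x)
    apply hu.mul_left_injective
    dsimp only
    have hL : (Away.mk 𝒜 hx N f hf).val * ℓ (x ^ (E + N)) = ℓ (x ^ E * f) := by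
      rw [pow_add, map_mul, map_mul, ← h1]
      ring
    rw [hL, hq3, map_sum]
    have hR : (∑ j, c j * amk 𝒜 hx (G j) (hG j)).val = ∑ j, (c j).val * (amk 𝒜 hx (G j) (hG j)).val := by
      rw [← HomogeneousLocalization.algebraMap_apply, map_sum]
      refine Finset.sum_congr rfl fun j _ => ?_
      rw [map_mul]
      rfl
    rw [hR, Finset.sum_mul]
    refine Finset.sum_congr rfl fun j _ => ?_
    by_cases h : a j ≤ E + N
    · have e1 : x ^ (E + N) = x ^ (E + N - a j) * x ^ a j := by
        rw [← pow_add, Nat.sub_add_cancel h]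
      rw [e1, map_mul, map_mul, ← hc j, ← val_amk_mul 𝒜 hx (G j) (hG j)]
      ring
    · have e0 : c j = 0 := by simp only [c, dif_neg h]
      rw [hq2 j h, e0, HomogeneousLocalization.val_zero, zero_mul, zero_mul, zero_mul, map_zero]
  rw [hsum]
  refine Ideal.sum_mem _ fun j _ => Ideal.mul_mem_left _ _ (Ideal.subset_span ⟨j, rfl⟩)

/-- nonzerodivisors modulo an ideal stay so after localisation. -/
theorem mem_map_of_mul_mem_map (J : Ideal A) (F : A)
    (hreg : ∀ f : A, F * f ∈ J → f ∈ J) (t : Localization.Away x)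
    (ht : algebraMap A (Localization.Away x) F * t ∈
      Ideal.map (algebraMap A (Localization.Away x)) J) :
    t ∈ Ideal.map (algebraMap A (Localization.Away x)) J := by
  obtain ⟨f, s, rfl⟩ := IsLocalization.exists_mk'_eq (Submonoid.powers x) t
  have h1 : algebraMap A (Localization.Away x) F * IsLocalization.mk' (Localization.Away x) f s =
      IsLocalization.mk' (Localization.Away x) (F * f) s := by
    rw [IsLocalization.mul_mk'_eq_mk'_of_mul]
  rw [h1, IsLocalization.mk'_mem_map_algebraMap_iff (Submonoid.powers x)] at ht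
  obtain ⟨s', hs', h2⟩ := ht
  rw [IsLocalization.mk'_mem_map_algebraMap_iff (Submonoid.powers x)]
  refine ⟨s', hs', hreg _ ?_⟩
  have : F * (s' * f) = s' * (F * f) := by ring
  rw [this]
  exact h2

/-- **dehomogenisation preserves nonzerodivisors modulo an ideal spanned by homogeneous
elements.** -/
theorem mem_span_amk_of_mul_mem {r : ℕ} (a : Fin r → ℕ) (G : Fin r → A)
    (hG : ∀ j, G j ∈ 𝒜 (a j)) {c : ℕ} (F : A) (hF : F ∈ 𝒜 c)
    (hreg : ∀ f : A, F * f ∈ Ideal.span (Set.range G) → f ∈ Ideal.span (Set.range G))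
    (b : Away 𝒜 x)
    (hb : amk 𝒜 hx F hF * b ∈ Ideal.span (Set.range fun j => amk 𝒜 hx (G j) (hG j))) :
    b ∈ Ideal.span (Set.range fun j => amk 𝒜 hx (G j) (hG j)) := by
  apply mem_span_amk_of_val_mem 𝒜 hx a G hG b
  apply mem_map_of_mul_mem_map (x := x) _ F hreg
  set ℓ := algebraMap A (Localization.Away x) with hℓ
  have h1 : (amk 𝒜 hx F hF * b).val ∈ Ideal.map ℓ (Ideal.span (Set.range G)) := by
    have hle : Ideal.span (Set.range fun j => amk 𝒜 hx (G j) (hG j)) ≤
        Ideal.comap (algebraMap (Away 𝒜 x) (Localization.Away x))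
          (Ideal.map ℓ (Ideal.span (Set.range G))) := by
      rw [Ideal.span_le]
      rintro _ ⟨j, rfl⟩
      exact val_amk_mem_map 𝒜 hx (G j) (hG j) _ (Ideal.subset_span ⟨j, rfl⟩)
    exact hle hb
  have h2 : (amk 𝒜 hx F hF * b).val = (amk 𝒜 hx F hF).val * b.val :=
    HomogeneousLocalization.val_mul _ _
  rw [h2] at h1
  have h3 : ℓ F * b.val = ℓ (x ^ c) * ((amk 𝒜 hx F hF).val * b.val) := by
    rw [← val_amk_mul 𝒜 hx F hF]
    ring
  rw [h3]
  exact Ideal.mul_mem_left _ _ h1

end graded

end Groth.Agent.H2.CIP
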