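import Mathlib
import Groth.Agent.Lib.Helper2.CIntPA
import Groth.Agent.Lib.Helper2.HypIdC

/-! Complete intersections in projective space (helper2), part B: the ideals of `LefPen.hypIdeal`
and `LefPen.ciIdeal` on the standard charts, and regularity on the charts. -/

set_option autoImplicit false
universe u
open CategoryTheory CategoryTheory.Limits AlgebraicGeometry TopologicalSpace Opposite

namespace Groth.Agent.H2.CIP

open Groth.Agent.LD Twist TW Groth.Agent.H2.HypId

variable (n : ℕ) (k : Type u) [Field k]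

/-- the standard chart, as an open of `Proj`. -/
noncomputable abbrev ch (i : Fin (n + 1)) : (Proj (CohB1.polyGrading n k)).Opens :=
  Proj.basicOpen (CohB1.polyGrading n k) (MvPolynomial.X i)

/-- the chart `D_+(T_i)` as an affine open. -/
noncomputable abbrev chA (i : Fin (n + 1)) : (Proj (CohB1.polyGrading n k)).affineOpens :=
  ⟨ch n k i, isAffineOpen_chart n k i⟩

variable {n k}

/-- the dehomogenisation, typed on `Proj`. -/
noncomputable abbrev dh {d : ℕ} (G : LefPen.Form n k d) (i : Fin (n + 1)) :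
    Γ(Proj (CohB1.polyGrading n k), ch n k i) := LefPen.dehom G i

/-- the hypersurface ideal, typed on `Proj`. -/
noncomputable abbrev hypI {d : ℕ} (G : LefPen.Form n k d) :
    (Proj (CohB1.polyGrading n k)).IdealSheafData := LefPen.hypIdeal G

/-- the complete intersection ideal, typed on `Proj`. -/
noncomputable abbrev ciI {ι : Type} {a : ι → ℕ} (G : ∀ j, LefPen.Form n k (a j)) :
    (Proj (CohB1.polyGrading n k)).IdealSheafData := LefPen.ciIdeal G

theorem hypI_eq {d : ℕ} (G : LefPen.Form n k d) :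
    hypI G = QC.idealOfHom (twist (CohB1.polyGrading n k) (-(d : ℤ))) (psi n k G) :=
  hypIdeal_eq n k G

/-- the ideal of a hypersurface on a standard chart is generated by the dehomogenised equation. -/
theorem hypI_ideal_chart {d : ℕ} (G : LefPen.Form n k d) (i : Fin (n + 1)) :
    (hypI G).ideal (chA n k i) = Ideal.span {dh G i} := by
  rw [hypI_eq]
  ext s
  rw [Ideal.mem_span_singleton']
  constructor
  · intro hs
    obtain ⟨t, rfl⟩ := (QC.mem_idealOfHom_iff
      (twist (CohB1.polyGrading n k) (-(d : ℤ))) (psi n k G) (chA n k i) s).mp hs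
    obtain ⟨c, hc⟩ := (isBasisOver_eSec n k i d (ch n k i) le_rfl).2 t
    refine ⟨c, ?_⟩
    have hc' : c • (show Γ(twist (CohB1.polyGrading n k) (-(d : ℤ)), ch n k i) from
        eSec n k i d) = t := by
      have := hc
      simp only [QC.res_self] at this
      exact this
    rw [← hc', Scheme.Modules.Hom.app_smul, psi_eSec]
    rfl
  · rintro ⟨c, rfl⟩
    refine (QC.mem_idealOfHom_iff
      (twist (CohB1.polyGrading n k) (-(d : ℤ))) (psi n k G) (chA n k i) _).mpr
      ⟨c • (show Γ(twist (CohB1.polyGrading n k) (-(d : ℤ)), ch n k i) from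
        eSec n k i d), ?_⟩
    rw [Scheme.Modules.Hom.app_smul, psi_eSec]
    rfl

theorem ciI_eq {ι : Type} {a : ι → ℕ} (G : ∀ j, LefPen.Form n k (a j)) :
    ciI G = ⨆ j, hypI (G j) := rfl

/-- the ideal of an intersection of hypersurfaces on a standard chart. -/
theorem ciI_ideal_chart {ι : Type} {a : ι → ℕ} (G : ∀ j, LefPen.Form n k (a j))
    (i : Fin (n + 1)) :
    (ciI G).ideal (chA n k i) = Ideal.span (Set.range fun j => dh (G j) i) := by
  rw [ciI_eq, Scheme.IdealSheafData.ideal_iSup, iSup_apply]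
  simp_rw [hypI_ideal_chart]
  rw [← Ideal.span_iUnion]
  congr 1
  ext s
  simp

end Groth.Agent.H2.CIP

namespace Groth.Agent.H2.CIP

open Groth.Agent.LD Twist TW Groth.Agent.H2.HypId

variable {n : ℕ} {k : Type u} [Field k]

/-- the comparison `k[T_j/T_i] ≅ Γ(D_+(T_i), O)`. -/
noncomputable def awayHom (i : Fin (n + 1)) :
    HomogeneousLocalization.Away (CohB1.polyGrading n k) (MvPolynomial.X i) →+*
      Γ(Proj (CohB1.polyGrading n k), ch n k i) :=
  (Proj.awayToSection (CohB1.polyGrading n k) (MvPolynomial.X i)).hom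

theorem awayHom_bijective (i : Fin (n + 1)) : Function.Bijective (awayHom (n := n) (k := k) i) := by
  have : IsIso (Proj.awayToSection (CohB1.polyGrading n k) (MvPolynomial.X i)) :=
    (Proj.basicOpenIsoAway (CohB1.polyGrading n k) (MvPolynomial.X i)
      (LefPen.X_mem n k i) one_pos).isIso_hom
  exact ConcreteCategory.bijective_of_isIso
    (Proj.awayToSection (CohB1.polyGrading n k) (MvPolynomial.X i))

theorem dh_eq {d : ℕ} (G : LefPen.Form n k d) (i : Fin (n + 1)) :
    dh G i = awayHom i (amk (CohB1.polyGrading n k) (LefPen.X_mem n k i) G.1 G.2) := rfl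

/-- **regularity on the charts**: if `F` is a nonzerodivisor modulo `(G_1, …, G_r)` in the
polynomial ring, then `F / T_i^c` is a nonzerodivisor modulo the ideal of `V(G_1, …, G_r)` on
the chart `D_+(T_i)`. -/
theorem mem_ciI_of_dh_mul_mem {r : ℕ} {a : Fin r → ℕ} (G : ∀ j, LefPen.Form n k (a j)) {c : ℕ}
    (F : LefPen.Form n k c)
    (hreg : ∀ f : MvPolynomial (Fin (n + 1)) k,
      F.1 * f ∈ Ideal.span (Set.range fun j => (G j).1) →
        f ∈ Ideal.span (Set.range fun j => (G j).1))
    (i : Fin (n + 1)) (s : Γ(Proj (CohB1.polyGrading n k), ch n k i))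
    (hs : dh F i * s ∈ (ciI G).ideal (chA n k i)) : s ∈ (ciI G).ideal (chA n k i) := by
  rw [ciI_ideal_chart] at hs ⊢
  obtain ⟨b, rfl⟩ := (awayHom_bijective i).2 s
  have hmap : Ideal.span (Set.range fun j => dh (G j) i) =
      Ideal.map (awayHom i) (Ideal.span (Set.range fun j =>
        amk (CohB1.polyGrading n k) (LefPen.X_mem n k i) (G j).1 (G j).2)) := by
    rw [Ideal.map_span]
    congr 1
    ext t
    simp only [Set.mem_range, Set.mem_image]
    constructor
    · rintro ⟨j, rfl⟩
      exact ⟨_, ⟨j, rfl⟩, (dh_eq (G j) i).symm⟩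
    · rintro ⟨_, ⟨j, rfl⟩, rfl⟩
      exact ⟨j, dh_eq (G j) i⟩
  rw [hmap] at hs ⊢
  rw [dh_eq, ← map_mul] at hs
  have hinj := (awayHom_bijective (n := n) (k := k) i).1
  have h1 : amk (CohB1.polyGrading n k) (LefPen.X_mem n k i) F.1 F.2 * b ∈
      Ideal.span (Set.range fun j =>
        amk (CohB1.polyGrading n k) (LefPen.X_mem n k i) (G j).1 (G j).2) := by
    obtain ⟨y, hy, hyb⟩ := (Ideal.mem_map_iff_of_surjective _ (awayHom_bijective i).2).mp hs
    rw [← hinj hyb]
    exact hy
  exact Ideal.mem_map_of_mem _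
    (mem_span_amk_of_mul_mem (CohB1.polyGrading n k) (LefPen.X_mem n k i) a
      (fun j => (G j).1) (fun j => (G j).2) F.1 F.2 hreg b h1)

end Groth.Agent.H2.CIP
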