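import Groth.Agent.Lib.Helper2.RpA1
import Groth.Agent.Lib.Lead.QC.Coh

/-!
# Sections of higher direct images over an affine base, linearly (helper2)

Part 2: effacement as a short exact sequence, vanishing of higher direct images of acyclic
quasi-coherent modules, exactness of sections over an affine base.
-/

set_option autoImplicit false
universe u

open CategoryTheory CategoryTheory.Limits AlgebraicGeometry Opposite TopologicalSpace Abelian

namespace Groth.Agent.H2.RpA

open Groth.Agent.LD Groth.Agent.LD.CL Groth.Agent.LD.SC Groth.Agent.LD.QC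

section Efface

variable {X : Scheme.{u}}

/-- effacement packaged as a short exact sequence. -/
theorem exists_ses [CompactSpace X]
    (hd : ∀ V W : X.Opens, IsAffineOpen V → IsAffineOpen W → IsAffineOpen (V ⊓ W))
    (M : X.Modules) [M.IsQuasicoherent] :
    ∃ (C Q : X.Modules) (i : M ⟶ C) (π : C ⟶ Q) (w : i ≫ π = 0),
      (ShortComplex.mk i π w).ShortExact ∧ C.IsQuasicoherent ∧ Q.IsQuasicoherent ∧
        ∀ p : ℕ, Subsingleton (Coh.HH X C (p + 1)) := by
  obtain ⟨C, i, hi, hC, hac⟩ := exists_mono_acyclic hd M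
  refine ⟨C, cokernel i, i, cokernel.π i, cokernel.condition i, ?_, hC,
    qc_cokernel i inferInstance hC, fun p => ?_⟩
  · exact ShortComplex.ShortExact.mk' (ShortComplex.exact_cokernel i) hi inferInstance
  · exact subsingleton_H_of_subsingleton_ext (T := (⊤ : X.Opens)) isTerminalTop _ _ (hac p)

end Efface

section Vanish

variable {X S : Scheme.{u}} (g : X ⟶ S) [HasInjectiveResolutions X.Modules]

/-- a higher direct image to an affine base vanishes as soon as the cohomology group does. -/
theorem isZero_Rpush_of_subsingleton [QuasiCompact g] [QuasiSeparated g] [IsAffine S]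
    (C : X.Modules) [C.IsQuasicoherent] (q : ℕ) (h : Subsingleton (Coh.HH X C q)) :
    IsZero ((Coh.Rpush g q).obj C) := by
  haveI hqc : ((Coh.Rpush g q).obj C).IsQuasicoherent := QCQS.qc_Rpush_of_isAffine g C q
  apply isZero_of_affine_cover
  intro x
  refine ⟨⊤, isAffineOpen_top S, trivial, fun s => ?_⟩
  obtain ⟨e⟩ := RP.nonempty_toAb_Rpush_iso g C q
  obtain ⟨e2⟩ := Groth.Agent.S0032.result g C q
  let e3 := ((sheafToPresheaf _ _ ⋙ (evaluation _ _).obj (op (⊤ : S.Opens))).mapIso e)
  have hsub : Subsingleton (((Coh.RpushAb g q).obj (Coh.toAb C)).obj.obj (op ⊤)) :=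
    e2.symm.toEquiv.subsingleton
  have : Function.Injective e3.hom := by
    rw [← AddCommGrpCat.mono_iff_injective]
    infer_instance
  apply this
  exact Subsingleton.elim (α := ((Coh.RpushAb g q).obj (Coh.toAb C)).obj.obj (op ⊤)) _ _

end Vanish

section Sections

variable {S : Scheme.{u}}

/-- exactness of global sections of quasi-coherent modules over an affine scheme. -/
theorem sections_exact [IsAffine S] {N₁ N₂ N₃ : S.Modules} (h₁ : N₁.IsQuasicoherent)
    (h₂ : N₂.IsQuasicoherent) (h₃ : N₃.IsQuasicoherent) (a : N₁ ⟶ N₂) (b : N₂ ⟶ N₃)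
    (w : a ≫ b = 0) (hex : (ShortComplex.mk a b w).Exact) [Epi b] :
    Function.Surjective (b.app ⊤) ∧
      ∀ x : Γ(N₂, ⊤), b.app ⊤ x = 0 → ∃ y : Γ(N₁, ⊤), a.app ⊤ y = x := by
  refine ⟨epi_app_affine h₂ h₃ b (isAffineOpen_top S), fun x hx => ?_⟩
  have hK : (kernel b).IsQuasicoherent := qc_kernel b h₂ h₃
  obtain ⟨k, hk⟩ := exact_sections' (ShortComplex.mk (kernel.ι b) b (kernel.condition b))
    (ShortComplex.exact_kernel b) ⊤ x hx
  haveI : Epi (kernel.lift b a w) := (ShortComplex.exact_iff_epi_kernel_lift _).1 hex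
  obtain ⟨y, hy⟩ := epi_app_affine h₁ hK (kernel.lift b a w) (isAffineOpen_top S) k
  refine ⟨y, ?_⟩
  have h1 : a = kernel.lift b a w ≫ kernel.ι b := (kernel.lift_ι b a w).symm
  rw [h1, comp_app_apply, hy]
  exact hk

/-- an isomorphism of modules induces a linear equivalence on sections. -/
noncomputable def secEquiv {N N' : S.Modules} (e : N ≅ N') (U : S.Opens) :
    Γ(N, U) ≃ₗ[Γ(S, U)] Γ(N', U) :=
  { appLinear e.hom U with
    invFun := appLinear e.inv U
    left_inv := fun x => by
      change e.inv.app U (e.hom.app U x) = x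
      rw [← comp_app_apply, e.hom_inv_id]
      rfl
    right_inv := fun x => by
      change e.hom.app U (e.inv.app U x) = x
      rw [← comp_app_apply, e.inv_hom_id]
      rfl }

end Sections

end Groth.Agent.H2.RpA
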