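import Mathlib
import Groth.Agent.Lib.Helper5.IntN.Cartier
import Groth.Agent.Lib.Helper5.Lim.ModuleBridge
import Groth.Agent.Lib.Helper5.Lim.ModuleExt
import Groth.Agent.Lib.Lead.QC.QuotSupp

/-! Complete intersections in projective space (helper2), part C: for ideal sheaves `I`, `H` on a
scheme such that `H` is locally generated by a section which is a nonzerodivisor modulo `I`, the
sequence `0 → O/I ⊗ H → O/I → O/(I + H) → 0` is exact. -/

set_option autoImplicit false
universe u
open CategoryTheory CategoryTheory.Limits AlgebraicGeometry TopologicalSpace Opposite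

namespace Groth.Agent.H2.CIP

open Groth.Agent.LD Groth.Agent.LD.QC Groth.Agent.H5.IntN Groth.Agent.H5.DegC Groth.Agent.H5.Lim

variable {X : Scheme.{u}}

theorem idealModι_comp_toSubscheme_of_le {I I' : X.IdealSheafData} (h : I ≤ I') :
    ClSub.idealModι I ≫ ClSub.toSubscheme I' = 0 := by
  refine hom_ext_of_affine_cover (ClSub.idealModι I ≫ ClSub.toSubscheme I') 0
    (fun U : X.affineOpens => U.1) (fun U => U.2) (le_of_eq (iSup_affineOpens_eq_top X).symm) ?_
  intro U s
  change (ClSub.toSubscheme I').app U.1 ((ClSub.idealModι I).app U.1 s) = 0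
  exact (toSubscheme_app_eq_zero_iff I' U _).mpr
    (h U ((exists_idealModι_app_eq_iff I U _).mp ⟨s, rfl⟩))

/-- the canonical map `O/I ⟶ O/I'` for `I ≤ I'`. -/
noncomputable def quotMap {I I' : X.IdealSheafData} (h : I ≤ I') :
    ClSub.quotMod I ⟶ ClSub.quotMod I' :=
  have : Epi (ShortComplex.mk (ClSub.idealModι I) (ClSub.toSubscheme I)
      (kernel.condition (ClSub.toSubscheme I))).g := epi_toSubscheme I
  (shortExact_idealMod I).exact.desc (ClSub.toSubscheme I') (idealModι_comp_toSubscheme_of_le h)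

theorem toSubscheme_quotMap {I I' : X.IdealSheafData} (h : I ≤ I') :
    ClSub.toSubscheme I ≫ quotMap h = ClSub.toSubscheme I' := by
  have : Epi (ShortComplex.mk (ClSub.idealModι I) (ClSub.toSubscheme I)
      (kernel.condition (ClSub.toSubscheme I))).g := epi_toSubscheme I
  exact (shortExact_idealMod I).exact.g_desc (ClSub.toSubscheme I')
    (idealModι_comp_toSubscheme_of_le h)

theorem quotMap_app {I I' : X.IdealSheafData} (h : I ≤ I') (U : X.Opens) (s : Γ(X, U)) :
    (quotMap h).app U ((ClSub.toSubscheme I).app U s) = (ClSub.toSubscheme I').app U s :=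
  congrArg (fun φ : Coh.structureModule X ⟶ ClSub.quotMod I' => φ.app U s) (toSubscheme_quotMap h)

instance epi_quotMap {I I' : X.IdealSheafData} (h : I ≤ I') : Epi (quotMap h) := by
  have : Epi (ClSub.toSubscheme I ≫ quotMap h) := by
    rw [toSubscheme_quotMap]
    exact epi_toSubscheme I'
  exact epi_of_epi (ClSub.toSubscheme I) (quotMap h)

end Groth.Agent.H2.CIP

namespace Groth.Agent.H2.CIP

open Groth.Agent.LD Groth.Agent.LD.QC Groth.Agent.H5.IntN Groth.Agent.H5.DegC Groth.Agent.H5.Lim

variable {X : Scheme.{u}}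

/-- the local equation of `H` given by a section of its ideal module. -/
noncomputable def eqn (H : X.IdealSheafData) (U : X.Opens) (e : Γ(ClSub.idealMod H, U)) :
    Γ(X, U) := (ClSub.idealModι H).app U e

theorem eqn_mem (H : X.IdealSheafData) (U : X.affineOpens) (e : Γ(ClSub.idealMod H, U.1)) :
    eqn H U.1 e ∈ H.ideal U :=
  (exists_idealModι_app_eq_iff H U _).mp ⟨e, rfl⟩

section step

variable (I H : X.IdealSheafData) (U : X.affineOpens) (e : Γ(ClSub.idealMod H, U.1))
  (he : IsBasisOver (ClSub.idealMod H) U.1 e)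

include he

omit he in
private lemma smul_proj (f s : Γ(X, U.1)) :
    f • (ClSub.toSubscheme I).app U.1 s = (ClSub.toSubscheme I).app U.1 (f * s) :=
  toSubscheme_app_smul I U.1 f s

lemma exists_tmul_eq (t : Γ(CohB1.tensorMod (ClSub.quotMod I) (ClSub.idealMod H), U.1)) :
    ∃ s : Γ(X, U.1), SecTwist.tmul (ClSub.quotMod I) (ClSub.idealMod H) U.1
      ((ClSub.toSubscheme I).app U.1 s) e = t := by
  obtain ⟨m, hm⟩ := (bijective_tmul_of_isBasisOver (ClSub.quotMod I) (ClSub.idealMod H) he U.1
    le_rfl).2 t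
  simp only [QC.res_self] at hm
  obtain ⟨s, rfl⟩ := toSubscheme_app_surjective I U m
  exact ⟨s, hm⟩

omit he in
lemma twistInclR_tmul_proj (s : Γ(X, U.1)) :
    (twistInclR (ClSub.quotMod I) H).app U.1
      (SecTwist.tmul (ClSub.quotMod I) (ClSub.idealMod H) U.1
        ((ClSub.toSubscheme I).app U.1 s) e) =
      (ClSub.toSubscheme I).app U.1 (eqn H U.1 e * s) := by
  rw [twistInclR_app_tmul]
  exact smul_proj I U _ s

lemma comp_zero_app (t : Γ(CohB1.tensorMod (ClSub.quotMod I) (ClSub.idealMod H), U.1)) :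
    (quotMap (le_sup_left : I ≤ I ⊔ H)).app U.1
      ((twistInclR (ClSub.quotMod I) H).app U.1 t) = 0 := by
  obtain ⟨s, rfl⟩ := exists_tmul_eq I H U e he t
  rw [twistInclR_tmul_proj, quotMap_app, toSubscheme_app_eq_zero_iff]
  exact (le_sup_right : H ≤ I ⊔ H) U (Ideal.mul_mem_right _ _ (eqn_mem H U e))

lemma exact_app :
    Function.Exact ((twistInclR (ClSub.quotMod I) H).app U.1)
      ((quotMap (le_sup_left : I ≤ I ⊔ H)).app U.1) := by
  intro m
  constructor
  · intro hm
    obtain ⟨s, rfl⟩ := toSubscheme_app_surjective I U m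
    have hspan : H.ideal U = Ideal.span {eqn H U.1 e} := ideal_eq_span_of_isBasisOver H U e he
    rw [quotMap_app, toSubscheme_app_eq_zero_iff, Scheme.IdealSheafData.ideal_sup, Pi.sup_apply,
      hspan] at hm
    obtain ⟨a, ha, b, hb, rfl⟩ := Submodule.mem_sup.mp hm
    obtain ⟨c, rfl⟩ := Ideal.mem_span_singleton'.mp hb
    refine ⟨SecTwist.tmul (ClSub.quotMod I) (ClSub.idealMod H) U.1
      ((ClSub.toSubscheme I).app U.1 c) e, ?_⟩
    have h2 : (ClSub.toSubscheme I).app U.1 (a + c * eqn H U.1 e) =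
        (ClSub.toSubscheme I).app U.1 a + (ClSub.toSubscheme I).app U.1 (c * eqn H U.1 e) :=
      map_add _ _ _
    rw [twistInclR_tmul_proj, h2, (toSubscheme_app_eq_zero_iff I U a).mpr ha, zero_add,
      mul_comm]
  · rintro ⟨t, rfl⟩
    exact comp_zero_app I H U e he t

lemma injective_app
    (hreg : ∀ s : Γ(X, U.1), eqn H U.1 e * s ∈ I.ideal U → s ∈ I.ideal U)
    (t : Γ(CohB1.tensorMod (ClSub.quotMod I) (ClSub.idealMod H), U.1))
    (ht : (twistInclR (ClSub.quotMod I) H).app U.1 t = 0) : t = 0 := by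
  obtain ⟨s, rfl⟩ := exists_tmul_eq I H U e he t
  rw [twistInclR_tmul_proj, toSubscheme_app_eq_zero_iff] at ht
  rw [(toSubscheme_app_eq_zero_iff I U s).mpr (hreg s ht)]
  exact tmul_zero_left _ _ _ _

end step

/-- **the step sequence** `0 → O/I ⊗ H → O/I → O/(I + H) → 0`. -/
theorem shortExact_quot_step (I H : X.IdealSheafData)
    (hloc : ∀ x : X, ∃ (U : X.affineOpens) (e : Γ(ClSub.idealMod H, U.1)), x ∈ U.1 ∧
      IsBasisOver (ClSub.idealMod H) U.1 e ∧
      ∀ s : Γ(X, U.1), eqn H U.1 e * s ∈ I.ideal U → s ∈ I.ideal U) :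
    ∃ w : twistInclR (ClSub.quotMod I) H ≫ quotMap (le_sup_left : I ≤ I ⊔ H) = 0,
      (ShortComplex.mk (twistInclR (ClSub.quotMod I) H) (quotMap le_sup_left) w).ShortExact := by
  choose Uf ef hxf hef hregf using hloc
  have hT : (CohB1.tensorMod (ClSub.quotMod I) (ClSub.idealMod H)).IsQuasicoherent :=
    inferInstance
  have w : twistInclR (ClSub.quotMod I) H ≫ quotMap (le_sup_left : I ≤ I ⊔ H) = 0 := by
    refine hom_ext_of_affine_cover _ 0 (fun x : X => (Uf x).1) (fun x => (Uf x).2) ?_ ?_
    · intro y _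
      exact Opens.mem_iSup.mpr ⟨y, hxf y⟩
    · intro x t
      exact comp_zero_app I H (Uf x) (ef x) (hef x) t
  refine ⟨w, ?_⟩
  have hmono : Mono (twistInclR (ClSub.quotMod I) H) := by
    have hK : (kernel (twistInclR (ClSub.quotMod I) H)).IsQuasicoherent :=
      qc_kernel _ hT inferInstance
    have hz : IsZero (kernel (twistInclR (ClSub.quotMod I) H)) := by
      apply isZero_of_affine_cover
      intro x
      refine ⟨(Uf x).1, (Uf x).2, hxf x, fun t' => ?_⟩
      apply mono_app (kernel.ι (twistInclR (ClSub.quotMod I) H)) (Uf x).1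
      rw [map_zero]
      exact injective_app I H (Uf x) (ef x) (hef x) (hregf x) _ (kernel_ι_app_comp _ _ t')
    exact Preadditive.mono_of_kernel_zero (hz.eq_of_src _ _)
  exact
    { exact := by
        have : (ShortComplex.mk (twistInclR (ClSub.quotMod I) H)
            (quotMap (le_sup_left : I ≤ I ⊔ H)) w).X₁.IsQuasicoherent := hT
        have : (ShortComplex.mk (twistInclR (ClSub.quotMod I) H)
            (quotMap (le_sup_left : I ≤ I ⊔ H)) w).X₂.IsQuasicoherent :=
          inferInstanceAs (ClSub.quotMod I).IsQuasicoherent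
        have : (ShortComplex.mk (twistInclR (ClSub.quotMod I) H)
            (quotMap (le_sup_left : I ≤ I ⊔ H)) w).X₃.IsQuasicoherent :=
          inferInstanceAs (ClSub.quotMod (I ⊔ H)).IsQuasicoherent
        apply exact_of_affine_cover
        intro x
        exact ⟨(Uf x).1, (Uf x).2, hxf x, exact_app I H (Uf x) (ef x) (hef x)⟩
      mono_f := hmono
      epi_g := epi_quotMap (le_sup_left : I ≤ I ⊔ H) }

end Groth.Agent.H2.CIP
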