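import Mathlib
import Groth.Agent.Lib.Helper2.CIntPB
import Groth.Agent.Lib.Helper2.CIntPC
import Groth.Agent.Lib.Lead.QC.ZeroScheme

/-! Complete intersections in projective space (helper2), part D: regular sequences of forms and
the step sequence `0 → O_Y ⊗ O(-a) → O_Y → O_{Y ∩ V(G)} → 0` on projective space. -/

set_option autoImplicit false
universe u
open CategoryTheory CategoryTheory.Limits AlgebraicGeometry TopologicalSpace Opposite

namespace Groth.Agent.H2.CIP

open Groth.Agent.LD Groth.Agent.LD.QC Twist TW Groth.Agent.H2.HypId Groth.Agent.H5.IntN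

variable {n : ℕ} {k : Type u} [Field k]

section lattice

theorem iSup_fin_succ_last {α : Type*} [CompleteLattice α] {r : ℕ} (f : Fin (r + 1) → α) :
    ⨆ j, f j = (⨆ j : Fin r, f j.castSucc) ⊔ f (Fin.last r) := by
  apply le_antisymm
  · refine iSup_le fun j => ?_
    induction j using Fin.lastCases with
    | last => exact le_sup_right
    | cast j => exact le_sup_of_le_left (le_iSup (fun j : Fin r => f j.castSucc) j)
  · exact sup_le (iSup_le fun j => le_iSup f j.castSucc) (le_iSup f (Fin.last r))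

end lattice

theorem ciI_succ {r : ℕ} {a : Fin (r + 1) → ℕ} (G : ∀ j, LefPen.Form n k (a j)) :
    ciI G = ciI (fun j : Fin r => G j.castSucc) ⊔ hypI (G (Fin.last r)) := by
  rw [ciI_eq, ciI_eq]
  exact iSup_fin_succ_last (fun j => hypI (G j))

theorem ciI_zero {a : Fin 0 → ℕ} (G : ∀ j, LefPen.Form n k (a j)) : ciI G = ⊥ := by
  rw [ciI_eq]
  exact iSup_of_empty _

/-- `G_1, …, G_r` is a regular sequence in the polynomial ring, elementwise. -/
def RegSeq {r : ℕ} {a : Fin r → ℕ} (G : ∀ j, LefPen.Form n k (a j)) : Prop :=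
  ∀ (m : ℕ) (hm : m < r) (f : MvPolynomial (Fin (n + 1)) k),
    (G ⟨m, hm⟩).1 * f ∈ Ideal.span (Set.range fun l : Fin m => (G ⟨l, l.2.trans hm⟩).1) →
      f ∈ Ideal.span (Set.range fun l : Fin m => (G ⟨l, l.2.trans hm⟩).1)

theorem ofList_take_ofFn {A : Type*} [CommRing A] {r : ℕ} (g : Fin r → A) (m : ℕ) (hm : m ≤ r) :
    Ideal.ofList ((List.ofFn g).take m) =
      Ideal.span (Set.range fun l : Fin m => g ⟨l, lt_of_lt_of_le l.2 hm⟩) := by
  rw [Ideal.ofList]
  congr 1
  ext x
  simp only [Set.mem_ofPred_eq, Set.mem_range, List.mem_take_iff_getElem, List.getElem_ofFn,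
    List.length_ofFn]
  constructor
  · rintro ⟨l, hl, rfl⟩
    have hl' : l < m := lt_of_lt_of_le hl (min_le_left _ _)
    exact ⟨⟨l, hl'⟩, rfl⟩
  · rintro ⟨⟨l, hl⟩, rfl⟩
    exact ⟨l, lt_min hl (lt_of_lt_of_le hl hm), rfl⟩

theorem regSeq_of_isWeaklyRegular {r : ℕ} {a : Fin r → ℕ} (G : ∀ j, LefPen.Form n k (a j))
    (h : RingTheory.Sequence.IsWeaklyRegular (MvPolynomial (Fin (n + 1)) k)
      (List.ofFn fun j => (G j).1)) : RegSeq G := by
  intro m hm f hf
  have hlen : m < (List.ofFn fun j => (G j).1).length := by rwa [List.length_ofFn]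
  have h1 := h.regular_mod_prev m hlen
  have h2 : (Ideal.ofList ((List.ofFn fun j => (G j).1).take m) • ⊤ :
      Submodule (MvPolynomial (Fin (n + 1)) k) (MvPolynomial (Fin (n + 1)) k)) =
      Ideal.ofList ((List.ofFn fun j => (G j).1).take m) := by
    rw [smul_eq_mul, Ideal.mul_top]
  have h4 := ofList_take_ofFn (fun j => (G j).1) m hm.le
  have h3 := @h1 (Submodule.Quotient.mk f) 0 (by
    simp only [smul_zero]
    rw [← Submodule.Quotient.mk_smul, Submodule.Quotient.mk_eq_zero, h2, smul_eq_mul, h4,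
      List.getElem_ofFn]
    exact hf)
  rw [Submodule.Quotient.mk_eq_zero, h2, h4] at h3
  exact h3

theorem RegSeq.init {r : ℕ} {a : Fin (r + 1) → ℕ} {G : ∀ j, LefPen.Form n k (a j)}
    (h : RegSeq G) : RegSeq (fun j : Fin r => G j.castSucc) := by
  intro m hm f hf
  exact h m (hm.trans (Nat.lt_succ_self r)) f hf

theorem RegSeq.last {r : ℕ} {a : Fin (r + 1) → ℕ} {G : ∀ j, LefPen.Form n k (a j)}
    (h : RegSeq G) (f : MvPolynomial (Fin (n + 1)) k)
    (hf : (G (Fin.last r)).1 * f ∈ Ideal.span (Set.range fun j : Fin r => (G j.castSucc).1)) :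
    f ∈ Ideal.span (Set.range fun j : Fin r => (G j.castSucc).1) :=
  h r (Nat.lt_succ_self r) f hf

/-- the ideal of forms of positive degree does not contain `1`. -/
theorem one_notMem_span_forms {r : ℕ} {a : Fin r → ℕ} (G : ∀ j, LefPen.Form n k (a j))
    (ha : ∀ j, 1 ≤ a j) :
    (1 : MvPolynomial (Fin (n + 1)) k) ∉ Ideal.span (Set.range fun j => (G j).1) := by
  intro h1
  have hle : Ideal.span (Set.range fun j => (G j).1) ≤
      RingHom.ker (MvPolynomial.constantCoeff (σ := Fin (n + 1)) (R := k)) := by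
    rw [Ideal.span_le]
    rintro _ ⟨j, rfl⟩
    rw [SetLike.mem_coe, RingHom.mem_ker]
    have hh : (G j).1.IsHomogeneous (a j) := (MvPolynomial.mem_homogeneousSubmodule _ _).mp (G j).2
    rw [MvPolynomial.constantCoeff_eq]
    apply hh.coeff_eq_zero
    rw [map_zero]
    have := ha j
    omega
  have := hle h1
  rw [RingHom.mem_ker, map_one] at this
  exact one_ne_zero this

end Groth.Agent.H2.CIP

namespace Groth.Agent.H2.CIP

open Groth.Agent.LD Groth.Agent.LD.QC Twist TW Groth.Agent.H2.HypId Groth.Agent.H5.IntN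

variable {n : ℕ} {k : Type u} [Field k]

theorem RegSeq.ne_zero {r : ℕ} {a : Fin r → ℕ} {G : ∀ j, LefPen.Form n k (a j)}
    (h : RegSeq G) (ha : ∀ j, 1 ≤ a j) (j : Fin r) : G j ≠ 0 := by
  obtain ⟨m, hm⟩ := j
  intro h0
  have h1 := h m hm 1 (by
    rw [h0]
    simp)
  exact one_notMem_span_forms (fun l : Fin m => G ⟨l, l.2.trans hm⟩) (fun l => ha _) h1

/-- a basis of the ideal module of a hypersurface over a standard chart, with equation the
dehomogenised form. -/
theorem exists_basis_hypI {d : ℕ} (G : LefPen.Form n k d) (hG : G ≠ 0) (i : Fin (n + 1)) :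
    ∃ e : Γ(ClSub.idealMod (hypI G), ch n k i),
      IsBasisOver (ClSub.idealMod (hypI G)) (ch n k i) e ∧ eqn (hypI G) (ch n k i) e = dh G i := by
  rw [hypI_eq]
  have := mono_psi n k G hG
  have := isIso_toIdealModOfHom (twist (CohB1.polyGrading n k) (-(d : ℤ))) (psi n k G)
  refine ⟨(toIdealModOfHom (twist (CohB1.polyGrading n k) (-(d : ℤ))) (psi n k G)).app (ch n k i)
    (show Γ(twist (CohB1.polyGrading n k) (-(d : ℤ)), ch n k i) from eSec n k i d), ?_, ?_⟩
  · intro W' hW'
    have h1 := isBasisOver_eSec n k i d W' hW'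
    have hb := app_bijective_of_isIso
      (toIdealModOfHom (twist (CohB1.polyGrading n k) (-(d : ℤ))) (psi n k G)) W'
    have h2 : (fun a : Γ(Proj (CohB1.polyGrading n k), W') =>
        a • (ClSub.idealMod (idealOfHom (twist (CohB1.polyGrading n k) (-(d : ℤ)))
          (psi n k G))).presheaf.map (homOfLE hW').op
          ((toIdealModOfHom (twist (CohB1.polyGrading n k) (-(d : ℤ))) (psi n k G)).app (ch n k i)
            (show Γ(twist (CohB1.polyGrading n k) (-(d : ℤ)), ch n k i) from eSec n k i d))) =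
        ⇑(ConcreteCategory.hom ((toIdealModOfHom (twist (CohB1.polyGrading n k) (-(d : ℤ)))
          (psi n k G)).app W')) ∘
        (fun a : Γ(Proj (CohB1.polyGrading n k), W') =>
          a • (twist (CohB1.polyGrading n k) (-(d : ℤ))).presheaf.map (homOfLE hW').op
            (show Γ(twist (CohB1.polyGrading n k) (-(d : ℤ)), ch n k i) from eSec n k i d)) := by
      funext a
      rw [Function.comp_apply, Scheme.Modules.Hom.app_smul, app_res]
    rw [h2]
    exact hb.comp h1
  · unfold eqn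
    rw [toIdealModOfHom_ι_app, psi_eSec]

/-- **the step sequence on projective space**: for a regular sequence of forms,
`0 → O_Y ⊗ I_{V(G)} → O_Y → O_{Y ∩ V(G)} → 0` with `Y = V(G_1, …, G_r)`, `G = G_{r+1}`. -/
theorem shortExact_step {r : ℕ} {a : Fin (r + 1) → ℕ} (G : ∀ j, LefPen.Form n k (a j))
    (ha : ∀ j, 1 ≤ a j) (hreg : RegSeq G) :
    ∃ w : twistInclR (ClSub.quotMod (ciI (fun j : Fin r => G j.castSucc)))
        (hypI (G (Fin.last r))) ≫
        quotMap (le_sup_left : ciI (fun j : Fin r => G j.castSucc) ≤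
          ciI (fun j : Fin r => G j.castSucc) ⊔ hypI (G (Fin.last r))) = 0,
      (ShortComplex.mk (twistInclR (ClSub.quotMod (ciI (fun j : Fin r => G j.castSucc)))
        (hypI (G (Fin.last r)))) (quotMap le_sup_left) w).ShortExact := by
  apply shortExact_quot_step
  intro x
  have hcov : (⨆ i : Fin (n + 1), ch n k i) = ⊤ := iSup_chart n k
  have hx : x ∈ ⨆ i : Fin (n + 1), ch n k i := by
    rw [hcov]
    trivial
  obtain ⟨i, hi⟩ := Opens.mem_iSup.mp hx
  obtain ⟨e, he, hee⟩ := exists_basis_hypI (G (Fin.last r)) (hreg.ne_zero ha _) i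
  refine ⟨chA n k i, e, hi, he, fun s hs => ?_⟩
  rw [hee] at hs
  exact mem_ciI_of_dh_mul_mem (fun j : Fin r => G j.castSucc) (G (Fin.last r)) hreg.last i s hs

end Groth.Agent.H2.CIP
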