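import Mathlib
import Groth.Agent.Lib.Helper2.DimFG

/-!
# Dimension theory of graded finitely generated algebras over a field (algebraic part)

Helper library by helper2.  Abstract chain lemmas, homogeneous minimal primes, the irrelevant ideal
of a graded algebra whose degree-zero part is a field, Krull's theorems in dimension form for
finitely generated algebras over a field.
-/

universe u
open HomogeneousIdeal DirectSum

namespace Groth.Agent.H2.ProjDim

theorem withBot_enat_add_one_cancel {x : WithBot ℕ∞} {n : ℕ}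
    (h : x + 1 = (n : WithBot ℕ∞) + 1) : x = n := by
  induction x with
  | bot =>
    rw [WithBot.bot_add] at h
    have h2 : ((n : WithBot ℕ∞) + 1) = ((n + 1 : ℕ) : WithBot ℕ∞) := by push_cast; rfl
    rw [h2] at h
    exact absurd h.symm (WithBot.natCast_ne_bot _)
  | coe y =>
    have h' : y + 1 = (n : ℕ∞) + 1 := by exact_mod_cast h
    have : y = n := by
      have hy : y ≠ ⊤ := by
        rintro rfl
        simp at h'
        exact absurd h'.symm (by exact_mod_cast ENat.natCast_ne_top (n+1))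
      lift y to ℕ using hy
      have : y + 1 = n + 1 := by exact_mod_cast h'
      have : y = n := by omega
      rw [this]
    rw [this]; rfl

section abstract

theorem antitone_of_step {P : Type*} [PartialOrder P] (δ : P → ℕ)
    (hstep : ∀ x y, x < y → ∃ z, x < z ∧ z ≤ y ∧ δ x = δ z + 1) :
    ∀ x y, x ≤ y → δ y ≤ δ x := by
  intro x
  induction h : δ x using Nat.strong_induction_on generalizing x with
  | _ d ih =>
    intro y hxy
    rcases hxy.eq_or_lt with rfl | hlt
    · exact h.le
    · obtain ⟨z, hxz, hzy, hz⟩ := hstep x y hlt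
      have := ih (δ z) (by omega) z rfl y hzy
      omega

/-- Abstract chain lemma: if every `x < y` admits a one-step
refinement `x < z ≤ y` with `δ x = δ z + 1`, then there are chains from `x` to `y` of length
`δ x - δ y`. -/
theorem exists_ltSeries_between {P : Type*} [PartialOrder P] (δ : P → ℕ)
    (hstep : ∀ x y, x < y → ∃ z, x < z ∧ z ≤ y ∧ δ x = δ z + 1) :
    ∀ (m : ℕ) (x y : P), x ≤ y → δ x = δ y + m →
      ∃ c : LTSeries P, c.head = x ∧ c.last = y ∧ c.length = m := by
  have hδ := antitone_of_step δ hstep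
  intro m
  induction m with
  | zero =>
    intro x y hxy h
    have : x = y := by
      by_contra hne
      obtain ⟨z, hxz, hzy, hz⟩ := hstep x y (lt_of_le_of_ne hxy hne)
      have := hδ z y hzy
      omega
    subst this
    exact ⟨RelSeries.singleton _ x, rfl, rfl, rfl⟩
  | succ m ih =>
    intro x y hxy h
    have hne : x ≠ y := by
      rintro rfl
      omega
    obtain ⟨z, hxz, hzy, hz⟩ := hstep x y (lt_of_le_of_ne hxy hne)
    obtain ⟨c, hc1, hc2, hc3⟩ := ih z y hzy (by omega)
    refine ⟨c.cons x (by rw [hc1]; exact hxz), ?_, ?_, ?_⟩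
    · simp
    · simp [hc2]
    · simp [hc3]

theorem exists_ltSeries_between' {P : Type*} [PartialOrder P] (δ : P → ℕ)
    (hstep : ∀ x y, x < y → ∃ z, x < z ∧ z ≤ y ∧ δ x = δ z + 1) (x y : P) (hxy : x ≤ y) :
    ∃ c : LTSeries P, c.head = x ∧ c.last = y ∧ δ x = δ y + c.length := by
  have hδ := antitone_of_step δ hstep x y hxy
  obtain ⟨c, h1, h2, h3⟩ := exists_ltSeries_between δ hstep (δ x - δ y) x y hxy (by omega)
  exact ⟨c, h1, h2, by omega⟩

theorem exists_ltSeries_from {P : Type*} [PartialOrder P] (δ : P → ℕ)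
    (hstep : ∀ x, 2 ≤ δ x → ∃ z, x < z ∧ δ x = δ z + 1) :
    ∀ (m : ℕ) (x : P), δ x = m + 1 → ∃ c : LTSeries P, c.head = x ∧ c.length = m := by
  intro m
  induction m with
  | zero =>
    intro x _
    exact ⟨RelSeries.singleton _ x, rfl, rfl⟩
  | succ m ih =>
    intro x h
    obtain ⟨z, hxz, hz⟩ := hstep x (by omega)
    obtain ⟨c, hc1, hc3⟩ := ih z (by omega)
    refine ⟨c.cons x (by rw [hc1]; exact hxz), ?_, ?_⟩
    · simp
    · simp [hc3]

end abstract

section graded
variable {k A : Type u} [Field k] [CommRing A] [Algebra k A]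
  (𝒜 : ℕ → Submodule k A) [GradedAlgebra 𝒜]

/-- A proper homogeneous ideal is contained in the irrelevant ideal, if nonzero degree-zero
elements are units. -/
theorem le_irrelevant (h0 : ∀ x ∈ 𝒜 0, x ≠ 0 → IsUnit x) (I : Ideal A) (hI : I.IsHomogeneous 𝒜)
    (hne : I ≠ ⊤) : I ≤ (HomogeneousIdeal.irrelevant 𝒜).toIdeal := by
  intro x hx
  change x ∈ HomogeneousIdeal.irrelevant 𝒜
  rw [HomogeneousIdeal.mem_irrelevant_iff, GradedRing.proj_apply]
  by_contra hne0
  have h1 : (decompose 𝒜 x 0 : A) ∈ I := hI 0 hx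
  have h2 := h0 _ (decompose 𝒜 x 0).2 hne0
  exact hne (Ideal.eq_top_of_isUnit_mem _ h1 h2)

theorem irrelevant_isMaximal (h0 : ∀ x ∈ 𝒜 0, x ≠ 0 → IsUnit x) [Nontrivial A] :
    (HomogeneousIdeal.irrelevant 𝒜).toIdeal.IsMaximal := by
  rw [Ideal.isMaximal_iff]
  constructor
  · intro h1
    change (1 : A) ∈ HomogeneousIdeal.irrelevant 𝒜 at h1
    rw [HomogeneousIdeal.mem_irrelevant_iff, GradedRing.proj_apply,
      decompose_of_mem_same 𝒜 (SetLike.GradedOne.one_mem)] at h1
    exact one_ne_zero h1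
  · intro J x hJ hx hxJ
    change x ∉ HomogeneousIdeal.irrelevant 𝒜 at hx
    rw [HomogeneousIdeal.mem_irrelevant_iff, GradedRing.proj_apply] at hx
    have h2 := h0 _ (decompose 𝒜 x 0).2 hx
    have h3 : x - (decompose 𝒜 x 0 : A) ∈ (HomogeneousIdeal.irrelevant 𝒜).toIdeal := by
      change _ ∈ HomogeneousIdeal.irrelevant 𝒜
      rw [HomogeneousIdeal.mem_irrelevant_iff, GradedRing.proj_apply, decompose_sub,
        DFinsupp.sub_apply, AddSubgroupClass.coe_sub,
        decompose_of_mem_same 𝒜 (decompose 𝒜 x 0).2, sub_self]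
    have h4 : (decompose 𝒜 x 0 : A) ∈ J := by
      have := J.sub_mem hxJ (hJ h3)
      simpa using this
    have := Ideal.eq_top_of_isUnit_mem _ h4 h2
    rw [this]; trivial

theorem isHomogeneous_of_mem_minimalPrimes {I q : Ideal A} (hI : I.IsHomogeneous 𝒜)
    (hq : q ∈ I.minimalPrimes) : q.IsHomogeneous 𝒜 := by
  have hqp : q.IsPrime := hq.1.1
  have h1 : ((q.homogeneousCore 𝒜).toIdeal).IsPrime := Ideal.IsPrime.homogeneousCore hqp
  have h2 : I ≤ (q.homogeneousCore 𝒜).toIdeal := by
    rw [← hI.toIdeal_homogeneousCore_eq_self]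
    exact Ideal.homogeneousCore_mono 𝒜 hq.1.2
  have h3 : (q.homogeneousCore 𝒜).toIdeal ≤ q := Ideal.toIdeal_homogeneousCore_le 𝒜 q
  have h4 : q ≤ (q.homogeneousCore 𝒜).toIdeal := hq.2 ⟨h1, h2⟩ h3
  rw [Ideal.IsHomogeneous.iff_eq]
  exact le_antisymm h3 h4

/-- If `p < q` are homogeneous ideals, there is a homogeneous element of `q` outside `p`. -/
theorem exists_homogeneous_mem_notMem {p q : Ideal A} (hq : q.IsHomogeneous 𝒜)
    (hpq : ¬ q ≤ p) : ∃ (i : ℕ) (f : A), f ∈ 𝒜 i ∧ f ∈ q ∧ f ∉ p := by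
  by_contra hcon
  push Not at hcon
  apply hpq
  intro x hx
  classical
  rw [← DirectSum.sum_support_decompose 𝒜 x]
  refine Ideal.sum_mem _ fun i _ => ?_
  exact hcon i _ (decompose 𝒜 x i).2 (hq i hx)

end graded

section dim
variable {A : Type u} [CommRing A]

/-- relative height formula for primes `p ≤ q` of a finitely generated algebra over a field -/
theorem relHeight_add (k : Type u) [Field k] [Algebra k A] [Algebra.FiniteType k A] (p q : Ideal A) [p.IsPrime] [q.IsPrime] (hpq : p ≤ q) :
    ((q.map (Ideal.Quotient.mk p)).height : WithBot ℕ∞) + ringKrullDim (A ⧸ q) =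
      ringKrullDim (A ⧸ p) := by
  have hprime : (q.map (Ideal.Quotient.mk p)).IsPrime :=
    Ideal.map_isPrime_of_surjective Ideal.Quotient.mk_surjective (by rwa [Ideal.mk_ker])
  have h := DimFG.height_add_ringKrullDim_quotient k (A ⧸ p) (q.map (Ideal.Quotient.mk p))
  rw [← h, ringKrullDim_eq_of_ringEquiv (DoubleQuot.quotQuotEquivQuotOfLE hpq)]

theorem relHeight_pos (p q : Ideal A) [p.IsPrime] [q.IsPrime] (hpq : p < q) :
    1 ≤ (q.map (Ideal.Quotient.mk p)).height := by
  rw [Order.one_le_iff_ne_zero]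
  intro h0
  have hprime : (q.map (Ideal.Quotient.mk p)).IsPrime :=
    Ideal.map_isPrime_of_surjective Ideal.Quotient.mk_surjective (by rw [Ideal.mk_ker]; exact hpq.le)
  rw [Ideal.height_eq_zero_iff_eq_bot] at h0
  obtain ⟨x, hxq, hxp⟩ := Set.exists_of_ssubset hpq
  have : Ideal.Quotient.mk p x ∈ q.map (Ideal.Quotient.mk p) := Ideal.mem_map_of_mem _ hxq
  rw [h0, Ideal.mem_bot, Ideal.Quotient.eq_zero_iff_mem] at this
  exact hxp this

theorem relHeight_le_card (k : Type u) [Field k] [Algebra k A] [Algebra.FiniteType k A] (p q : Ideal A) [p.IsPrime] (s : Finset A)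
    (hq : q ∈ (p ⊔ Ideal.span (s : Set A)).minimalPrimes) :
    (q.map (Ideal.Quotient.mk p)).height ≤ s.card := by
  classical
  have hnoeth : IsNoetherianRing A := Algebra.FiniteType.isNoetherianRing k A
  have h1 : q.map (Ideal.Quotient.mk p) ∈
      ((Ideal.span (s : Set A)).map (Ideal.Quotient.mk p)).minimalPrimes := by
    rw [Ideal.minimalPrimes_map_of_surjective Ideal.Quotient.mk_surjective, Ideal.mk_ker, sup_comm]
    exact ⟨q, hq, rfl⟩
  rw [Ideal.map_span, ← Finset.coe_image] at h1
  exact (Ideal.height_le_card_of_mem_minimalPrimes_span_finset h1).trans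
    (by exact_mod_cast Finset.card_image_le)

/-- Krull's height theorem in dimension form. -/
theorem ringKrullDim_le_of_mem_minimalPrimes (k : Type u) [Field k] [Algebra k A] [Algebra.FiniteType k A] (p q : Ideal A) [p.IsPrime] (s : Finset A)
    (hq : q ∈ (p ⊔ Ideal.span (s : Set A)).minimalPrimes) :
    ringKrullDim (A ⧸ p) ≤ ringKrullDim (A ⧸ q) + (s.card : WithBot ℕ∞) := by
  have hqp : q.IsPrime := hq.1.1
  have hpq : p ≤ q := le_sup_left.trans hq.1.2
  rw [← relHeight_add k p q hpq, add_comm]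
  gcongr
  exact_mod_cast relHeight_le_card k p q s hq

/-- Krull's principal ideal theorem in dimension form: cutting an integral f.g. algebra by one
nonzero equation drops the dimension of every component by exactly one. -/
theorem ringKrullDim_eq_add_one_of_mem_minimalPrimes (k : Type u) [Field k] [Algebra k A] [Algebra.FiniteType k A] (p q : Ideal A) [p.IsPrime] (f : A)
    (hf : f ∉ p) (hq : q ∈ (p ⊔ Ideal.span {f}).minimalPrimes) :
    ringKrullDim (A ⧸ p) = ringKrullDim (A ⧸ q) + 1 := by
  have hqp : q.IsPrime := hq.1.1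
  have hpq : p ≤ q := le_sup_left.trans hq.1.2
  have hfq : f ∈ q := hq.1.2 (Ideal.mem_sup_right (Ideal.mem_span_singleton_self f))
  have hlt : p < q := lt_of_le_of_ne hpq (by rintro rfl; exact hf hfq)
  have h1 := relHeight_pos p q hlt
  have h2 : (q.map (Ideal.Quotient.mk p)).height ≤ 1 := by
    have := relHeight_le_card k p q {f} (by simpa using hq)
    simpa using this
  have h3 : (q.map (Ideal.Quotient.mk p)).height = 1 := le_antisymm h2 h1
  rw [← relHeight_add k p q hpq, h3, add_comm]
  rfl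

/-- strict monotonicity of dimension of quotients by primes -/
theorem ringKrullDim_quotient_add_one_le (k : Type u) [Field k] [Algebra k A] [Algebra.FiniteType k A] (p q : Ideal A) [p.IsPrime] [q.IsPrime] (hpq : p < q) :
    ringKrullDim (A ⧸ q) + 1 ≤ ringKrullDim (A ⧸ p) := by
  rw [← relHeight_add k p q hpq.le, add_comm]
  gcongr
  exact_mod_cast relHeight_pos p q hpq

/-- natural-number valued dimension of `A ⧸ q` -/
noncomputable def dimQ (q : Ideal A) : ℕ := ((ringKrullDim (A ⧸ q)).unbotD 0).toNat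

theorem dimQ_spec (k : Type u) [Field k] [Algebra k A] [Algebra.FiniteType k A] (q : Ideal A) (hq : q ≠ ⊤) :
    ringKrullDim (A ⧸ q) = (dimQ q : WithBot ℕ∞) := by
  have : Nontrivial (A ⧸ q) := Ideal.Quotient.nontrivial_iff.mpr hq
  obtain ⟨a, ha⟩ := DimFG.exists_ringKrullDim_eq_nat k (A ⧸ q)
  rw [dimQ, ha]
  simp

end dim

theorem ringKrullDim_quotient_le_of_forall_minimalPrimes {R : Type*} [CommRing R] (I : Ideal R)
    (d : WithBot ℕ∞) (h : ∀ q ∈ I.minimalPrimes, ringKrullDim (R ⧸ q) ≤ d) :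
    ringKrullDim (R ⧸ I) ≤ d := by
  rw [ringKrullDim_quotient, Order.krullDim]
  apply iSup_le
  intro c
  obtain ⟨q, hq, hqle⟩ := Ideal.exists_minimalPrimes_le (I := I) (J := c.head.1.asIdeal) c.head.2
  have hmem : ∀ i, (c i).1 ∈ PrimeSpectrum.zeroLocus (R := R) q := by
    intro i
    have h1 : c.head ≤ c i := c.monotone (Fin.zero_le _)
    exact hqle.trans h1
  let c' : LTSeries (PrimeSpectrum.zeroLocus (R := R) q) :=
    { length := c.length
      toFun := fun i => ⟨(c i).1, hmem i⟩
      step := fun i => c.step i }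
  have h2 : (c'.length : WithBot ℕ∞) ≤ Order.krullDim (PrimeSpectrum.zeroLocus (R := R) q) :=
    Order.LTSeries.length_le_krullDim c'
  rw [← ringKrullDim_quotient] at h2
  exact h2.trans (h q hq)

end Groth.Agent.H2.ProjDim
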