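import Mathlib
import Groth.Agent.Lib.Helper2.ProjDim
import Groth.Agent.Lib.Helper2.OpenGen

/-!
# Dimension theory of the projective spectrum of a graded f.g. algebra over a field

Helper library by helper2: chains of homogeneous primes, sobriety of `ProjectiveSpectrum`,
`dim V_+(I) + 1 = dim A/I`.
-/

universe u
open HomogeneousIdeal DirectSum AlgebraicGeometry

namespace Groth.Agent.H2.ProjDim

section gradedDim
variable {k A : Type u} [Field k] [CommRing A] [Algebra k A]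
  (𝒜 : ℕ → Submodule k A) [GradedAlgebra 𝒜]

theorem exists_step [Algebra.FiniteType k A] (p q : Ideal A) [p.IsPrime] [q.IsPrime]
    (hp : p.IsHomogeneous 𝒜) (hq : q.IsHomogeneous 𝒜) (hpq : p < q) :
    ∃ q₁ : Ideal A, q₁.IsPrime ∧ q₁.IsHomogeneous 𝒜 ∧ p < q₁ ∧ q₁ ≤ q ∧
      ringKrullDim (A ⧸ p) = ringKrullDim (A ⧸ q₁) + 1 := by
  obtain ⟨i, f, hfi, hfq, hfp⟩ := exists_homogeneous_mem_notMem 𝒜 hq (not_le_of_gt hpq)
  have hJ : p ⊔ Ideal.span {f} ≤ q :=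
    sup_le hpq.le ((Ideal.span_singleton_le_iff_mem _).mpr hfq)
  obtain ⟨q₁, hq₁, hq₁q⟩ := Ideal.exists_minimalPrimes_le hJ
  have hJh : (p ⊔ Ideal.span {f}).IsHomogeneous 𝒜 :=
    hp.sup (Ideal.homogeneous_span 𝒜 {f} (by rintro x rfl; exact ⟨i, hfi⟩))
  have hfq₁ : f ∈ q₁ := hq₁.1.2 (Ideal.mem_sup_right (Ideal.mem_span_singleton_self f))
  refine ⟨q₁, hq₁.1.1, isHomogeneous_of_mem_minimalPrimes 𝒜 hJh hq₁, ?_, hq₁q,
    ringKrullDim_eq_add_one_of_mem_minimalPrimes k p q₁ f hfp hq₁⟩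
  exact lt_of_le_of_ne (le_sup_left.trans hq₁.1.2) (by rintro rfl; exact hfp hfq₁)

/-- build a point of the projective spectrum from a relevant homogeneous prime -/
def mkPoint (q : Ideal A) (h1 : q.IsPrime) (h2 : q.IsHomogeneous 𝒜)
    (h3 : ¬ (HomogeneousIdeal.irrelevant 𝒜).toIdeal ≤ q) : ProjectiveSpectrum 𝒜 :=
  ⟨⟨q, h2⟩, h1, h3⟩

@[simp] theorem mkPoint_toIdeal (q : Ideal A) (h1 : q.IsPrime) (h2 : q.IsHomogeneous 𝒜)
    (h3 : ¬ (HomogeneousIdeal.irrelevant 𝒜).toIdeal ≤ q) :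
    (mkPoint 𝒜 q h1 h2 h3).asHomogeneousIdeal.toIdeal = q := rfl

theorem le_iff_toIdeal_le (x y : ProjectiveSpectrum 𝒜) :
    x ≤ y ↔ x.asHomogeneousIdeal.toIdeal ≤ y.asHomogeneousIdeal.toIdeal := Iff.rfl

theorem lt_iff_toIdeal_lt (x y : ProjectiveSpectrum 𝒜) :
    x < y ↔ x.asHomogeneousIdeal.toIdeal < y.asHomogeneousIdeal.toIdeal := by
  rw [lt_iff_le_not_ge, lt_iff_le_not_ge, le_iff_toIdeal_le, le_iff_toIdeal_le]

/-- the dimension function `x ↦ dim A/x` on points of the projective spectrum -/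
noncomputable def δ (x : ProjectiveSpectrum 𝒜) : ℕ := dimQ x.asHomogeneousIdeal.toIdeal

theorem δ_spec [Algebra.FiniteType k A] (x : ProjectiveSpectrum 𝒜) :
    ringKrullDim (A ⧸ x.asHomogeneousIdeal.toIdeal) = (δ 𝒜 x : WithBot ℕ∞) :=
  dimQ_spec k _ x.isPrime.ne_top

theorem step_points [Algebra.FiniteType k A] (x y : ProjectiveSpectrum 𝒜) (hxy : x < y) :
    ∃ z, x < z ∧ z ≤ y ∧ δ 𝒜 x = δ 𝒜 z + 1 := by
  obtain ⟨q₁, h1, h2, h3, h4, h5⟩ := exists_step 𝒜 x.asHomogeneousIdeal.toIdeal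
    y.asHomogeneousIdeal.toIdeal x.asHomogeneousIdeal.isHomogeneous
    y.asHomogeneousIdeal.isHomogeneous ((lt_iff_toIdeal_lt 𝒜 x y).mp hxy)
  refine ⟨mkPoint 𝒜 q₁ h1 h2 (fun h => y.not_irrelevant_le (h.trans h4)), ?_, h4, ?_⟩
  · rw [lt_iff_toIdeal_lt]; exact h3
  · have e1 := δ_spec 𝒜 x
    have e2 := δ_spec 𝒜 (mkPoint 𝒜 q₁ h1 h2 (fun h => y.not_irrelevant_le (h.trans h4)))
    rw [mkPoint_toIdeal] at e2
    rw [e1, e2] at h5
    exact_mod_cast h5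

theorem exists_ltSeries_between_points [Algebra.FiniteType k A] (x y : ProjectiveSpectrum 𝒜)
    (hxy : x ≤ y) :
    ∃ c : LTSeries (ProjectiveSpectrum 𝒜), c.head = x ∧ c.last = y ∧
      δ 𝒜 x = δ 𝒜 y + c.length :=
  exists_ltSeries_between' (δ 𝒜) (step_points 𝒜) x y hxy

theorem ringKrullDim_quotient_irrelevant (h0 : ∀ x ∈ 𝒜 0, x ≠ 0 → IsUnit x) [Nontrivial A] :
    ringKrullDim (A ⧸ (HomogeneousIdeal.irrelevant 𝒜).toIdeal) = 0 := by
  have := irrelevant_isMaximal 𝒜 h0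
  let := Ideal.Quotient.field (HomogeneousIdeal.irrelevant 𝒜).toIdeal
  exact ringKrullDim_eq_zero_of_field _

theorem point_lt_irrelevant (h0 : ∀ x ∈ 𝒜 0, x ≠ 0 → IsUnit x) (x : ProjectiveSpectrum 𝒜) :
    x.asHomogeneousIdeal.toIdeal < (HomogeneousIdeal.irrelevant 𝒜).toIdeal :=
  lt_of_le_of_ne (le_irrelevant 𝒜 h0 _ x.asHomogeneousIdeal.isHomogeneous x.isPrime.ne_top)
    (fun h => x.not_irrelevant_le h.ge)

theorem one_le_δ [Algebra.FiniteType k A] (h0 : ∀ x ∈ 𝒜 0, x ≠ 0 → IsUnit x)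
    (x : ProjectiveSpectrum 𝒜) : 1 ≤ δ 𝒜 x := by
  have : Nontrivial A := ⟨⟨0, 1, fun h => x.isPrime.ne_top ((Ideal.eq_top_iff_one _).mpr
    (by rw [← h]; exact Ideal.zero_mem _))⟩⟩
  have hmax := irrelevant_isMaximal 𝒜 h0
  have h1 := ringKrullDim_quotient_add_one_le k x.asHomogeneousIdeal.toIdeal
    (HomogeneousIdeal.irrelevant 𝒜).toIdeal (point_lt_irrelevant 𝒜 h0 x)
  rw [ringKrullDim_quotient_irrelevant 𝒜 h0, δ_spec 𝒜 x, zero_add] at h1
  exact_mod_cast h1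

/-- upward step: a point with `dim A/x ≥ 2` has a point above it of dimension one less -/
theorem step_up [Algebra.FiniteType k A] (h0 : ∀ x ∈ 𝒜 0, x ≠ 0 → IsUnit x)
    (x : ProjectiveSpectrum 𝒜) (hx : 2 ≤ δ 𝒜 x) : ∃ z, x < z ∧ δ 𝒜 x = δ 𝒜 z + 1 := by
  have : Nontrivial A := ⟨⟨0, 1, fun h => x.isPrime.ne_top ((Ideal.eq_top_iff_one _).mpr
    (by rw [← h]; exact Ideal.zero_mem _))⟩⟩
  have hmax := irrelevant_isMaximal 𝒜 h0
  have hprime : (HomogeneousIdeal.irrelevant 𝒜).toIdeal.IsPrime := hmax.isPrime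
  obtain ⟨q₁, h1, h2, h3, h4, h5⟩ := exists_step 𝒜 x.asHomogeneousIdeal.toIdeal
    (HomogeneousIdeal.irrelevant 𝒜).toIdeal x.asHomogeneousIdeal.isHomogeneous
    (HomogeneousIdeal.irrelevant 𝒜).isHomogeneous (point_lt_irrelevant 𝒜 h0 x)
  have hrel : ¬ (HomogeneousIdeal.irrelevant 𝒜).toIdeal ≤ q₁ := by
    intro hle
    have heq : q₁ = (HomogeneousIdeal.irrelevant 𝒜).toIdeal := le_antisymm h4 hle
    rw [heq, ringKrullDim_quotient_irrelevant 𝒜 h0, δ_spec 𝒜 x, zero_add] at h5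
    have : δ 𝒜 x = 1 := by exact_mod_cast h5
    omega
  refine ⟨mkPoint 𝒜 q₁ h1 h2 hrel, ?_, ?_⟩
  · rw [lt_iff_toIdeal_lt]; exact h3
  · have e1 := δ_spec 𝒜 x
    have e2 := δ_spec 𝒜 (mkPoint 𝒜 q₁ h1 h2 hrel)
    rw [mkPoint_toIdeal] at e2
    rw [e1, e2] at h5
    exact_mod_cast h5

/-- from every point of an upper set `Z` of the projective spectrum there is a chain in `Z` of
length `dim A/x - 1`. -/
theorem exists_ltSeries_from_point [Algebra.FiniteType k A]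
    (h0 : ∀ x ∈ 𝒜 0, x ≠ 0 → IsUnit x) (Z : Set (ProjectiveSpectrum 𝒜)) (hZ : IsUpperSet Z)
    (x : Z) : ∃ c : LTSeries Z, c.head = x ∧ δ 𝒜 x.1 = c.length + 1 := by
  have hstep : ∀ x : Z, 2 ≤ δ 𝒜 x.1 → ∃ z : Z, x < z ∧ δ 𝒜 x.1 = δ 𝒜 z.1 + 1 := by
    intro x hx
    obtain ⟨z, hz1, hz2⟩ := step_up 𝒜 h0 x.1 hx
    exact ⟨⟨z, hZ hz1.le x.2⟩, hz1, hz2⟩
  have h1 := one_le_δ 𝒜 h0 x.1
  obtain ⟨c, hc1, hc2⟩ := exists_ltSeries_from (fun z : Z => δ 𝒜 z.1) hstep (δ 𝒜 x.1 - 1) x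
    (by omega)
  exact ⟨c, hc1, by omega⟩

end gradedDim

theorem krullDim_eq_of_le_iff {α : Type*} (P Q : Preorder α)
    (h : ∀ a b, @LE.le α P.toLE a b ↔ @LE.le α Q.toLE b a) :
    @Order.krullDim α P = @Order.krullDim α Q := by
  let := Q
  rw [← Order.krullDim_orderDual (α := α)]
  exact @Order.krullDim_eq_of_orderIso α αᵒᵈ P _
    (@RelIso.mk α αᵒᵈ (@LE.le α P.toLE) (· ≤ ·) OrderDual.toDual
      (by intro a b; exact (h a b).symm))

section top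
variable {k A : Type u} [Field k] [CommRing A] [Algebra k A]
  (𝒜 : ℕ → Submodule k A) [GradedAlgebra 𝒜]

theorem quasiSober_projectiveSpectrum : QuasiSober (ProjectiveSpectrum 𝒜) :=
  (inferInstance : QuasiSober ↥(AlgebraicGeometry.Proj 𝒜))

theorem t0Space_projectiveSpectrum : T0Space (ProjectiveSpectrum 𝒜) :=
  (inferInstance : T0Space ↥(AlgebraicGeometry.Proj 𝒜))

theorem specializes_iff_le (x y : ProjectiveSpectrum 𝒜) : x ⤳ y ↔ x ≤ y := by
  rw [specializes_iff_mem_closure, ← ProjectiveSpectrum.le_iff_mem_closure]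

theorem topologicalKrullDim_closed (Z : Set (ProjectiveSpectrum 𝒜)) (hZ : IsClosed Z) :
    topologicalKrullDim ↥Z = Order.krullDim ↥Z := by
  have := quasiSober_projectiveSpectrum 𝒜
  have := t0Space_projectiveSpectrum 𝒜
  have : QuasiSober ↥Z := hZ.isClosedEmbedding_subtypeVal.quasiSober
  rw [OpenGen.topologicalKrullDim_eq_krullDim]
  apply krullDim_eq_of_le_iff
  intro a b
  change b ⤳ a ↔ b.1 ≤ a.1
  rw [← specializes_iff_le, subtype_specializes_iff]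

end top

section main
variable {k A : Type u} [Field k] [CommRing A] [Algebra k A]
  (𝒜 : ℕ → Submodule k A) [GradedAlgebra 𝒜]

theorem isUpperSet_zeroLocus (s : Set A) : IsUpperSet (ProjectiveSpectrum.zeroLocus 𝒜 s) := by
  intro x y hxy hx
  rw [ProjectiveSpectrum.mem_zeroLocus] at hx ⊢
  exact hx.trans hxy

/-- the comparison map from `V_+(I)` with the irrelevant ideal adjoined to `V(I)` -/
noncomputable def toZL (I : Ideal A) (hirr : (HomogeneousIdeal.irrelevant 𝒜).toIdeal.IsPrime)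
    (hle : I ≤ (HomogeneousIdeal.irrelevant 𝒜).toIdeal) :
    WithTop ↥(ProjectiveSpectrum.zeroLocus 𝒜 (I : Set A)) →
      ↥(PrimeSpectrum.zeroLocus (R := A) (I : Set A))
  | ⊤ => ⟨⟨(HomogeneousIdeal.irrelevant 𝒜).toIdeal, hirr⟩, hle⟩
  | (x : ↥(ProjectiveSpectrum.zeroLocus 𝒜 (I : Set A))) =>
      ⟨⟨x.1.asHomogeneousIdeal.toIdeal, x.1.isPrime⟩, x.2⟩

theorem toZL_strictMono (h0 : ∀ x ∈ 𝒜 0, x ≠ 0 → IsUnit x) (I : Ideal A)
    (hirr : (HomogeneousIdeal.irrelevant 𝒜).toIdeal.IsPrime)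
    (hle : I ≤ (HomogeneousIdeal.irrelevant 𝒜).toIdeal) : StrictMono (toZL 𝒜 I hirr hle) := by
  intro a b hab
  induction a with
  | top => exact absurd hab (not_top_lt)
  | coe a =>
    induction b with
    | top =>
      change (⟨a.1.asHomogeneousIdeal.toIdeal, _⟩ : PrimeSpectrum A) < ⟨_, _⟩
      rw [← PrimeSpectrum.asIdeal_lt_asIdeal]
      exact point_lt_irrelevant 𝒜 h0 a.1
    | coe b =>
      rw [WithTop.coe_lt_coe] at hab
      change (⟨a.1.asHomogeneousIdeal.toIdeal, _⟩ : PrimeSpectrum A) < ⟨_, _⟩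
      rw [← PrimeSpectrum.asIdeal_lt_asIdeal]
      exact (lt_iff_toIdeal_lt 𝒜 a.1 b.1).mp hab

/-- **Dimension of the affine cone**: for a homogeneous ideal `I` with `V_+(I)` nonempty,
`dim V_+(I) + 1 = dim A/I` (order-theoretic form). -/
theorem krullDim_zeroLocus_add_one [Algebra.FiniteType k A]
    (h0 : ∀ x ∈ 𝒜 0, x ≠ 0 → IsUnit x) (I : Ideal A) (hI : I.IsHomogeneous 𝒜)
    (hne : (ProjectiveSpectrum.zeroLocus 𝒜 (I : Set A)).Nonempty) :
    Order.krullDim ↥(ProjectiveSpectrum.zeroLocus 𝒜 (I : Set A)) + 1 = ringKrullDim (A ⧸ I) := by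
  obtain ⟨x₀, hx₀⟩ := hne
  have : Nontrivial A := ⟨⟨0, 1, fun h => x₀.isPrime.ne_top ((Ideal.eq_top_iff_one _).mpr
    (by rw [← h]; exact Ideal.zero_mem _))⟩⟩
  have hmax := irrelevant_isMaximal 𝒜 h0
  have hirr : (HomogeneousIdeal.irrelevant 𝒜).toIdeal.IsPrime := hmax.isPrime
  have hle : I ≤ (HomogeneousIdeal.irrelevant 𝒜).toIdeal :=
    (show I ≤ x₀.asHomogeneousIdeal.toIdeal from hx₀).trans (point_lt_irrelevant 𝒜 h0 x₀).le
  have hnonempty : Nonempty ↥(ProjectiveSpectrum.zeroLocus 𝒜 (I : Set A)) := ⟨⟨x₀, hx₀⟩⟩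
  apply le_antisymm
  · rw [← Order.krullDim_WithTop, ringKrullDim_quotient]
    exact Order.krullDim_le_of_strictMono _ (toZL_strictMono 𝒜 h0 I hirr hle)
  · apply ringKrullDim_quotient_le_of_forall_minimalPrimes
    intro q hq
    have hqp : q.IsPrime := hq.1.1
    have hqh : q.IsHomogeneous 𝒜 := isHomogeneous_of_mem_minimalPrimes 𝒜 hI hq
    by_cases hrel : (HomogeneousIdeal.irrelevant 𝒜).toIdeal ≤ q
    · have heq : q = (HomogeneousIdeal.irrelevant 𝒜).toIdeal :=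
        (hmax.eq_of_le hqp.ne_top hrel).symm
      rw [heq, ringKrullDim_quotient_irrelevant 𝒜 h0]
      have h1 : (0 : WithBot ℕ∞) ≤ Order.krullDim ↥(ProjectiveSpectrum.zeroLocus 𝒜 (I : Set A)) :=
        Order.krullDim_nonneg
      calc (0 : WithBot ℕ∞) = 0 + 0 := (add_zero 0).symm
        _ ≤ _ := add_le_add h1 zero_le_one
    · let x : ↥(ProjectiveSpectrum.zeroLocus 𝒜 (I : Set A)) :=
        ⟨mkPoint 𝒜 q hqp hqh hrel, hq.1.2⟩
      obtain ⟨c, hc1, hc2⟩ := exists_ltSeries_from_point 𝒜 h0 _ (isUpperSet_zeroLocus 𝒜 _) x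
      have e := δ_spec 𝒜 x.1
      rw [show x.1.asHomogeneousIdeal.toIdeal = q from rfl, hc2] at e
      rw [e]
      push_cast
      gcongr
      exact Order.LTSeries.length_le_krullDim c

/-- topological form -/
theorem topologicalKrullDim_zeroLocus_add_one [Algebra.FiniteType k A]
    (h0 : ∀ x ∈ 𝒜 0, x ≠ 0 → IsUnit x) (I : Ideal A) (hI : I.IsHomogeneous 𝒜)
    (hne : (ProjectiveSpectrum.zeroLocus 𝒜 (I : Set A)).Nonempty) :
    topologicalKrullDim ↥(ProjectiveSpectrum.zeroLocus 𝒜 (I : Set A)) + 1 =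
      ringKrullDim (A ⧸ I) := by
  rw [topologicalKrullDim_closed 𝒜 _ (ProjectiveSpectrum.isClosed_zeroLocus 𝒜 _)]
  exact krullDim_zeroLocus_add_one 𝒜 h0 I hI hne

end main

section poly

theorem mvPolynomial_h0 (k : Type u) [Field k] (σ : Type*) :
    ∀ x ∈ MvPolynomial.homogeneousSubmodule σ k 0, x ≠ 0 → IsUnit x := by
  intro x hx hx0
  rw [MvPolynomial.homogeneousSubmodule_zero, Submodule.mem_one] at hx
  obtain ⟨c, rfl⟩ := hx
  have hc : c ≠ 0 := by rintro rfl; exact hx0 (map_zero _)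
  exact (IsUnit.mk0 c hc).map _

end poly

end Groth.Agent.H2.ProjDim
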