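import Mathlib
import Groth.Agent.Lib.Helper2.ProjDimTop

/-! Dictionary irreducible closed subsets of the projective spectrum <-> relevant homogeneous primes;
projective dimension theorem (helper2). -/

universe u
open HomogeneousIdeal DirectSum AlgebraicGeometry

namespace Groth.Agent.H2.ProjDim

section dict
variable {k A : Type u} [Field k] [CommRing A] [Algebra k A]
  (𝒜 : ℕ → Submodule k A) [GradedAlgebra 𝒜]

theorem closure_singleton (x : ProjectiveSpectrum 𝒜) :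
    closure {x} = ProjectiveSpectrum.zeroLocus 𝒜 (x.asHomogeneousIdeal.toIdeal : Set A) := by
  rw [← ProjectiveSpectrum.zeroLocus_vanishingIdeal_eq_closure,
    ProjectiveSpectrum.vanishingIdeal_singleton]
  rfl

/-- every irreducible closed subset of the projective spectrum is `V_+(x)` for a point `x` -/
theorem exists_eq_zeroLocus_of_isIrreducible (Z : Set (ProjectiveSpectrum 𝒜)) (hc : IsClosed Z)
    (hi : IsIrreducible Z) :
    ∃ x : ProjectiveSpectrum 𝒜,
      Z = ProjectiveSpectrum.zeroLocus 𝒜 (x.asHomogeneousIdeal.toIdeal : Set A) := by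
  have := quasiSober_projectiveSpectrum 𝒜
  obtain ⟨x, hx⟩ := QuasiSober.sober hi hc
  exact ⟨x, by rw [← closure_singleton, hx.def]⟩

theorem mem_zeroLocus_self (x : ProjectiveSpectrum 𝒜) :
    x ∈ ProjectiveSpectrum.zeroLocus 𝒜 (x.asHomogeneousIdeal.toIdeal : Set A) := by
  rw [ProjectiveSpectrum.mem_zeroLocus]
  exact fun a ha => ha

theorem topologicalKrullDim_closure_add_one [Algebra.FiniteType k A]
    (h0 : ∀ x ∈ 𝒜 0, x ≠ 0 → IsUnit x) (x : ProjectiveSpectrum 𝒜) :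
    topologicalKrullDim ↥(ProjectiveSpectrum.zeroLocus 𝒜 (x.asHomogeneousIdeal.toIdeal : Set A)) + 1
      = ringKrullDim (A ⧸ x.asHomogeneousIdeal.toIdeal) :=
  topologicalKrullDim_zeroLocus_add_one 𝒜 h0 _ x.asHomogeneousIdeal.isHomogeneous
    ⟨x, mem_zeroLocus_self 𝒜 x⟩

/-- irreducible components of `V_+(J)` correspond to (relevant) minimal primes of `J`, with the
expected dimension. -/
theorem exists_minimalPrimes_of_mem_irreducibleComponents [Algebra.FiniteType k A]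
    (h0 : ∀ x ∈ 𝒜 0, x ≠ 0 → IsUnit x) (J : Ideal A) (hJ : J.IsHomogeneous 𝒜)
    (C : Set ↥(ProjectiveSpectrum.zeroLocus 𝒜 (J : Set A)))
    (hC : C ∈ irreducibleComponents ↥(ProjectiveSpectrum.zeroLocus 𝒜 (J : Set A))) :
    ∃ q ∈ J.minimalPrimes, ¬ (HomogeneousIdeal.irrelevant 𝒜).toIdeal ≤ q ∧
      topologicalKrullDim ↥C + 1 = ringKrullDim (A ⧸ q) := by
  have := quasiSober_projectiveSpectrum 𝒜
  have hYc : IsClosed (ProjectiveSpectrum.zeroLocus 𝒜 (J : Set A)) :=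
    ProjectiveSpectrum.isClosed_zeroLocus 𝒜 _
  have hsob : QuasiSober ↥(ProjectiveSpectrum.zeroLocus 𝒜 (J : Set A)) :=
    hYc.isClosedEmbedding_subtypeVal.quasiSober
  have hCi : IsIrreducible C := hC.prop
  have hCc : IsClosed C := isClosed_of_mem_irreducibleComponents C hC
  obtain ⟨⟨z, hz⟩, hgen⟩ := QuasiSober.sober hCi hCc
  -- image of `C` in the projective spectrum
  have himg : Subtype.val '' C =
      ProjectiveSpectrum.zeroLocus 𝒜 (z.asHomogeneousIdeal.toIdeal : Set A) := by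
    rw [← closure_singleton, ← hgen.def, ← hYc.isClosedEmbedding_subtypeVal.closure_image_eq,
      Set.image_singleton]
  have hdim : topologicalKrullDim ↥C + 1 = ringKrullDim (A ⧸ z.asHomogeneousIdeal.toIdeal) := by
    rw [IsHomeomorph.topologicalKrullDim_eq _
      (Topology.IsEmbedding.subtypeVal.homeomorphImage C).isHomeomorph, himg]
    exact topologicalKrullDim_closure_add_one 𝒜 h0 z
  refine ⟨z.asHomogeneousIdeal.toIdeal, ?_, z.not_irrelevant_le, hdim⟩
  -- minimality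
  have hJz : J ≤ z.asHomogeneousIdeal.toIdeal := hz
  obtain ⟨q, hq, hqz⟩ := Ideal.exists_minimalPrimes_le hJz
  have hqp : q.IsPrime := hq.1.1
  have hqh := isHomogeneous_of_mem_minimalPrimes 𝒜 hJ hq
  have hqrel : ¬ (HomogeneousIdeal.irrelevant 𝒜).toIdeal ≤ q :=
    fun h => z.not_irrelevant_le (h.trans hqz)
  have hw : mkPoint 𝒜 q hqp hqh hqrel ∈ ProjectiveSpectrum.zeroLocus 𝒜 (J : Set A) := hq.1.2
  -- the closure of `w` in `Y` is irreducible and contains `C`
  have hD : IsIrreducible (closure {(⟨mkPoint 𝒜 q hqp hqh hqrel, hw⟩ :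
      ↥(ProjectiveSpectrum.zeroLocus 𝒜 (J : Set A)))}) := isIrreducible_singleton.closure
  have hwz : (⟨mkPoint 𝒜 q hqp hqh hqrel, hw⟩ : ↥(ProjectiveSpectrum.zeroLocus 𝒜 (J : Set A))) ⤳
      ⟨z, hz⟩ := by
    rw [subtype_specializes_iff, specializes_iff_le]
    exact hqz
  have hCD : C ≤ closure {(⟨mkPoint 𝒜 q hqp hqh hqrel, hw⟩ :
      ↥(ProjectiveSpectrum.zeroLocus 𝒜 (J : Set A)))} := by
    rw [← hgen.def]
    exact closure_minimal (Set.singleton_subset_iff.mpr hwz.mem_closure) isClosed_closure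
  have hDC := hC.le_of_ge hD hCD
  have hwC : (⟨mkPoint 𝒜 q hqp hqh hqrel, hw⟩ : ↥(ProjectiveSpectrum.zeroLocus 𝒜 (J : Set A))) ∈ C :=
    hDC (subset_closure rfl)
  rw [← hgen.def, ← specializes_iff_mem_closure, subtype_specializes_iff, specializes_iff_le] at hwC
  have heq : z.asHomogeneousIdeal.toIdeal = q := le_antisymm hwC hqz
  rw [heq]
  exact hq

theorem eq_pred_of_add_one_eq {t : WithBot ℕ∞} {m : ℕ} (h : t + 1 = (m : WithBot ℕ∞))
    (hm : 1 ≤ m) : t = ((m - 1 : ℕ) : WithBot ℕ∞) := by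
  apply withBot_enat_add_one_cancel
  rw [h]
  have : m = (m - 1) + 1 := by omega
  conv_lhs => rw [this]
  push_cast
  rfl

theorem zeroLocus_inter_eq (I : Ideal A) (s : Set A) :
    ProjectiveSpectrum.zeroLocus 𝒜 (I : Set A) ∩ ProjectiveSpectrum.zeroLocus 𝒜 s =
      ProjectiveSpectrum.zeroLocus 𝒜 ((I ⊔ Ideal.span s : Ideal A) : Set A) := by
  rw [← ProjectiveSpectrum.zeroLocus_union, ← ProjectiveSpectrum.zeroLocus_span 𝒜 (↑I ∪ s),
    Ideal.span_union, Ideal.span_eq]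

/-- dimension of `V_+(x)` in natural numbers -/
theorem topologicalKrullDim_closure_eq [Algebra.FiniteType k A]
    (h0 : ∀ x ∈ 𝒜 0, x ≠ 0 → IsUnit x) (x : ProjectiveSpectrum 𝒜) :
    topologicalKrullDim ↥(ProjectiveSpectrum.zeroLocus 𝒜 (x.asHomogeneousIdeal.toIdeal : Set A)) =
      ((δ 𝒜 x - 1 : ℕ) : WithBot ℕ∞) := by
  have h1 := topologicalKrullDim_closure_add_one 𝒜 h0 x
  rw [δ_spec 𝒜 x] at h1
  exact eq_pred_of_add_one_eq h1 (one_le_δ 𝒜 h0 x)

/-- **Projective dimension theorem, hypersurface case.** -/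
theorem hypersurface_section [Algebra.FiniteType k A] (h0 : ∀ x ∈ 𝒜 0, x ≠ 0 → IsUnit x)
    (x : ProjectiveSpectrum 𝒜)
    (hXd : 0 < topologicalKrullDim
      ↥(ProjectiveSpectrum.zeroLocus 𝒜 (x.asHomogeneousIdeal.toIdeal : Set A)))
    (f : A) (hfh : ∃ i, f ∈ 𝒜 i) (hV : (ProjectiveSpectrum.zeroLocus 𝒜 ({f} : Set A)).Nonempty)
    (hfx : f ∉ x.asHomogeneousIdeal.toIdeal) :
    (ProjectiveSpectrum.zeroLocus 𝒜 (x.asHomogeneousIdeal.toIdeal : Set A) ∩
        ProjectiveSpectrum.zeroLocus 𝒜 ({f} : Set A)).Nonempty ∧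
      ∀ C ∈ irreducibleComponents ↥(ProjectiveSpectrum.zeroLocus 𝒜
          (x.asHomogeneousIdeal.toIdeal : Set A) ∩ ProjectiveSpectrum.zeroLocus 𝒜 ({f} : Set A)),
        topologicalKrullDim ↥C + 1 = topologicalKrullDim
          ↥(ProjectiveSpectrum.zeroLocus 𝒜 (x.asHomogeneousIdeal.toIdeal : Set A)) := by
  have : Nontrivial A := ⟨⟨0, 1, fun h => x.isPrime.ne_top ((Ideal.eq_top_iff_one _).mpr
    (by rw [← h]; exact Ideal.zero_mem _))⟩⟩
  have hmax := irrelevant_isMaximal 𝒜 h0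
  rw [zeroLocus_inter_eq]
  rw [topologicalKrullDim_closure_eq 𝒜 h0 x] at hXd ⊢
  have hδ : 2 ≤ δ 𝒜 x := by
    have : 0 < δ 𝒜 x - 1 := by exact_mod_cast hXd
    omega
  obtain ⟨i, hfi⟩ := hfh
  have hJh : (x.asHomogeneousIdeal.toIdeal ⊔ Ideal.span {f}).IsHomogeneous 𝒜 :=
    x.asHomogeneousIdeal.isHomogeneous.sup
      (Ideal.homogeneous_span 𝒜 {f} (by rintro y rfl; exact ⟨i, hfi⟩))
  have hdimq : ∀ q ∈ (x.asHomogeneousIdeal.toIdeal ⊔ Ideal.span {f}).minimalPrimes,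
      dimQ q + 1 = δ 𝒜 x := by
    intro q hq
    have hqp : q.IsPrime := hq.1.1
    have h1 := ringKrullDim_eq_add_one_of_mem_minimalPrimes k x.asHomogeneousIdeal.toIdeal q f
      hfx hq
    rw [δ_spec 𝒜 x, dimQ_spec k q hqp.ne_top] at h1
    exact_mod_cast h1.symm
  constructor
  · obtain ⟨y, hy⟩ := hV
    have hfirr : f ∈ (HomogeneousIdeal.irrelevant 𝒜).toIdeal :=
      (point_lt_irrelevant 𝒜 h0 y).le (hy (Set.mem_singleton f))
    have hJle : x.asHomogeneousIdeal.toIdeal ⊔ Ideal.span {f} ≤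
        (HomogeneousIdeal.irrelevant 𝒜).toIdeal :=
      sup_le (point_lt_irrelevant 𝒜 h0 x).le ((Ideal.span_singleton_le_iff_mem _).mpr hfirr)
    have hJtop : x.asHomogeneousIdeal.toIdeal ⊔ Ideal.span {f} ≠ ⊤ := by
      intro h
      rw [h, top_le_iff] at hJle
      exact hmax.ne_top hJle
    obtain ⟨q, hq⟩ := Ideal.nonempty_minimalPrimes hJtop
    have hqp : q.IsPrime := hq.1.1
    have hqrel : ¬ (HomogeneousIdeal.irrelevant 𝒜).toIdeal ≤ q := by
      intro hle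
      have heq : q = _ := (hmax.eq_of_le hqp.ne_top hle).symm
      have h1 := dimQ_spec k q hqp.ne_top
      rw [heq, ringKrullDim_quotient_irrelevant 𝒜 h0, ← heq] at h1
      have h2 := hdimq q hq
      have : dimQ q = 0 := by exact_mod_cast h1.symm
      omega
    exact ⟨mkPoint 𝒜 q hqp (isHomogeneous_of_mem_minimalPrimes 𝒜 hJh hq) hqrel, hq.1.2⟩
  · intro C hC
    obtain ⟨q, hq, hqrel, hdim⟩ := exists_minimalPrimes_of_mem_irreducibleComponents 𝒜 h0 _ hJh C hC
    have hqp : q.IsPrime := hq.1.1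
    rw [dimQ_spec k q hqp.ne_top] at hdim
    rw [hdim]
    have := hdimq q hq
    have : dimQ q = δ 𝒜 x - 1 := by omega
    rw [this]

/-- **Projective dimension theorem.** -/
theorem complete_intersection_section [Algebra.FiniteType k A]
    (h0 : ∀ x ∈ 𝒜 0, x ≠ 0 → IsUnit x) (x : ProjectiveSpectrum 𝒜) (s : Finset A)
    (hs : ∀ f ∈ s, ∃ i, 0 < i ∧ f ∈ 𝒜 i) (r : ℕ) (hr : s.card ≤ r) :
    (∀ C ∈ irreducibleComponents ↥(ProjectiveSpectrum.zeroLocus 𝒜
          (x.asHomogeneousIdeal.toIdeal : Set A) ∩ ProjectiveSpectrum.zeroLocus 𝒜 (s : Set A)),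
        topologicalKrullDim
          ↥(ProjectiveSpectrum.zeroLocus 𝒜 (x.asHomogeneousIdeal.toIdeal : Set A)) ≤
            topologicalKrullDim ↥C + (r : WithBot ℕ∞)) ∧
      ((r : WithBot ℕ∞) ≤ topologicalKrullDim
          ↥(ProjectiveSpectrum.zeroLocus 𝒜 (x.asHomogeneousIdeal.toIdeal : Set A)) →
        (ProjectiveSpectrum.zeroLocus 𝒜 (x.asHomogeneousIdeal.toIdeal : Set A) ∩
          ProjectiveSpectrum.zeroLocus 𝒜 (s : Set A)).Nonempty) := by
  have : Nontrivial A := ⟨⟨0, 1, fun h => x.isPrime.ne_top ((Ideal.eq_top_iff_one _).mpr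
    (by rw [← h]; exact Ideal.zero_mem _))⟩⟩
  have hmax := irrelevant_isMaximal 𝒜 h0
  rw [zeroLocus_inter_eq]
  rw [topologicalKrullDim_closure_eq 𝒜 h0 x]
  have hJh : (x.asHomogeneousIdeal.toIdeal ⊔ Ideal.span (s : Set A)).IsHomogeneous 𝒜 :=
    x.asHomogeneousIdeal.isHomogeneous.sup
      (Ideal.homogeneous_span 𝒜 _ (by
        intro y hy
        obtain ⟨i, -, hi⟩ := hs y hy
        exact ⟨i, hi⟩))
  have hdimq : ∀ q ∈ (x.asHomogeneousIdeal.toIdeal ⊔ Ideal.span (s : Set A)).minimalPrimes,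
      δ 𝒜 x ≤ dimQ q + r := by
    intro q hq
    have hqp : q.IsPrime := hq.1.1
    have h1 := ringKrullDim_le_of_mem_minimalPrimes k x.asHomogeneousIdeal.toIdeal q s hq
    rw [δ_spec 𝒜 x, dimQ_spec k q hqp.ne_top] at h1
    have : δ 𝒜 x ≤ dimQ q + s.card := by exact_mod_cast h1
    omega
  constructor
  · intro C hC
    obtain ⟨q, hq, hqrel, hdim⟩ := exists_minimalPrimes_of_mem_irreducibleComponents 𝒜 h0 _ hJh C hC
    have hqp : q.IsPrime := hq.1.1
    have h1 := one_le_δ 𝒜 h0 (mkPoint 𝒜 q hqp (isHomogeneous_of_mem_minimalPrimes 𝒜 hJh hq) hqrel)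
    change 1 ≤ dimQ q at h1
    rw [dimQ_spec k q hqp.ne_top] at hdim
    rw [eq_pred_of_add_one_eq hdim h1]
    have := hdimq q hq
    have : δ 𝒜 x - 1 ≤ (dimQ q - 1) + r := by omega
    exact_mod_cast this
  · intro hle
    have hlt : r < δ 𝒜 x := by
      have : r ≤ δ 𝒜 x - 1 := by exact_mod_cast hle
      have := one_le_δ 𝒜 h0 x
      omega
    have hJle : x.asHomogeneousIdeal.toIdeal ⊔ Ideal.span (s : Set A) ≤
        (HomogeneousIdeal.irrelevant 𝒜).toIdeal := by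
      refine sup_le (point_lt_irrelevant 𝒜 h0 x).le (Ideal.span_le.mpr ?_)
      intro y hy
      obtain ⟨i, hi0, hi⟩ := hs y hy
      exact HomogeneousIdeal.mem_irrelevant_of_mem _ hi0 hi
    have hJtop : x.asHomogeneousIdeal.toIdeal ⊔ Ideal.span (s : Set A) ≠ ⊤ := by
      intro h
      rw [h, top_le_iff] at hJle
      exact hmax.ne_top hJle
    obtain ⟨q, hq⟩ := Ideal.nonempty_minimalPrimes hJtop
    have hqp : q.IsPrime := hq.1.1
    have hqrel : ¬ (HomogeneousIdeal.irrelevant 𝒜).toIdeal ≤ q := by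
      intro hle
      have heq : q = _ := (hmax.eq_of_le hqp.ne_top hle).symm
      have h1 := dimQ_spec k q hqp.ne_top
      rw [heq, ringKrullDim_quotient_irrelevant 𝒜 h0, ← heq] at h1
      have h2 := hdimq q hq
      have : dimQ q = 0 := by exact_mod_cast h1.symm
      omega
    exact ⟨mkPoint 𝒜 q hqp (isHomogeneous_of_mem_minimalPrimes 𝒜 hJh hq) hqrel, hq.1.2⟩

end dict

end Groth.Agent.H2.ProjDim
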