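import Mathlib
import Groth.Agent.Lib.Helper2.ProjDimTop
import Groth.Prelude.Def_CohB1

/-! Projective dimension theory: polynomial-ring (projective space) statements, helper2. -/

universe u
open HomogeneousIdeal DirectSum AlgebraicGeometry

namespace Groth.Agent.H2.ProjDim

section more
variable {k A : Type u} [Field k] [CommRing A] [Algebra k A]
  (𝒜 : ℕ → Submodule k A) [GradedAlgebra 𝒜]

/-- minimal primes over `p + (s)` are relevant if `|s| < dim A/p` -/
theorem relevant_of_mem_minimalPrimes [Algebra.FiniteType k A] [Nontrivial A]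
    (h0 : ∀ x ∈ 𝒜 0, x ≠ 0 → IsUnit x) (p q : Ideal A) [p.IsPrime] (s : Finset A)
    (hq : q ∈ (p ⊔ Ideal.span (s : Set A)).minimalPrimes)
    (hcard : (s.card : WithBot ℕ∞) < ringKrullDim (A ⧸ p)) :
    ¬ (HomogeneousIdeal.irrelevant 𝒜).toIdeal ≤ q := by
  intro hle
  have hmax := irrelevant_isMaximal 𝒜 h0
  have hqp : q.IsPrime := hq.1.1
  have heq : q = (HomogeneousIdeal.irrelevant 𝒜).toIdeal := (hmax.eq_of_le hqp.ne_top hle).symm
  have h1 := ringKrullDim_le_of_mem_minimalPrimes k p q s hq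
  rw [heq, ringKrullDim_quotient_irrelevant 𝒜 h0, zero_add] at h1
  exact absurd hcard (not_lt.mpr h1)

end more

section plane

theorem dim_zero_iff_isRelPrime (k : Type u) [Field k] (n m : ℕ)
    (f g : MvPolynomial (Fin (2 + 1)) k) (hf : f.IsHomogeneous n) (hg : g.IsHomogeneous m)
    (hn : 0 < n) (hm : 0 < m) (hf0 : f ≠ 0) (hg0 : g ≠ 0) :
    topologicalKrullDim ↥(ProjectiveSpectrum.zeroLocus
      (CohB1.polyGrading 2 k)
        ({f, g} : Set (MvPolynomial (Fin (2 + 1)) k))) = 0 ↔ IsRelPrime f g := by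
  classical
  have h0 := mvPolynomial_h0 k (Fin (2 + 1))
  have hmax := irrelevant_isMaximal (CohB1.polyGrading 2 k) h0
  have hIh : (Ideal.span ({f, g} : Set (MvPolynomial (Fin (2 + 1)) k))).IsHomogeneous
      (CohB1.polyGrading 2 k) :=
    Ideal.homogeneous_span _ _ (by
      rintro x (rfl | rfl)
      exacts [⟨n, hf⟩, ⟨m, hg⟩])
  have hdimS : ringKrullDim (MvPolynomial (Fin (2 + 1)) k ⧸ (⊥ : Ideal (MvPolynomial (Fin (2 + 1)) k))) = 3 := by
    rw [ringKrullDim_eq_of_ringEquiv (RingEquiv.quotientBot _),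
      DimFG.ringKrullDim_mvPolynomial_fin]
    rfl
  have hcoe : ((({f, g} : Finset (MvPolynomial (Fin (2 + 1)) k)) : Set _)) = {f, g} := by
    push_cast; rfl
  -- minimal primes of `(f,g)` have `1 ≤ dim ≤ 2`
  have hmin : ∀ q ∈ (Ideal.span ({f, g} : Set (MvPolynomial (Fin (2 + 1)) k))).minimalPrimes,
      1 ≤ ringKrullDim (MvPolynomial (Fin (2 + 1)) k ⧸ q) := by
    intro q hq
    have hqp : q.IsPrime := hq.1.1
    have h1 := ringKrullDim_le_of_mem_minimalPrimes k (⊥ : Ideal (MvPolynomial (Fin (2 + 1)) k)) q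
      {f, g} (by rw [hcoe, bot_sup_eq]; exact hq)
    rw [hdimS, dimQ_spec k q hqp.ne_top] at h1
    rw [dimQ_spec k q hqp.ne_top]
    have h2 : ({f, g} : Finset (MvPolynomial (Fin (2 + 1)) k)).card ≤ 2 := Finset.card_le_two
    have h3 : (3 : ℕ) ≤ dimQ q + ({f, g} : Finset (MvPolynomial (Fin (2 + 1)) k)).card := by
      exact_mod_cast h1
    have : 1 ≤ dimQ q := by omega
    exact_mod_cast this
  have hfirr : f ∈ (HomogeneousIdeal.irrelevant
      (CohB1.polyGrading 2 k)).toIdeal :=
    HomogeneousIdeal.mem_irrelevant_of_mem _ hn hf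
  have hgirr : g ∈ (HomogeneousIdeal.irrelevant
      (CohB1.polyGrading 2 k)).toIdeal :=
    HomogeneousIdeal.mem_irrelevant_of_mem _ hm hg
  have hIle : Ideal.span ({f, g} : Set (MvPolynomial (Fin (2 + 1)) k)) ≤
      (HomogeneousIdeal.irrelevant (CohB1.polyGrading 2 k)).toIdeal := by
    rw [Ideal.span_le]
    rintro x (rfl | rfl)
    exacts [hfirr, hgirr]
  have hItop : Ideal.span ({f, g} : Set (MvPolynomial (Fin (2 + 1)) k)) ≠ ⊤ := by
    intro h
    rw [h, top_le_iff] at hIle
    exact hmax.ne_top hIle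
  obtain ⟨q₀, hq₀⟩ := Ideal.nonempty_minimalPrimes hItop
  have hq₀p : q₀.IsPrime := hq₀.1.1
  have hq₀h := isHomogeneous_of_mem_minimalPrimes _ hIh hq₀
  have hq₀rel : ¬ (HomogeneousIdeal.irrelevant
      (CohB1.polyGrading 2 k)).toIdeal ≤ q₀ := by
    intro hle
    have heq : q₀ = _ := (hmax.eq_of_le hq₀p.ne_top hle).symm
    have h1 := hmin q₀ hq₀
    rw [heq, ringKrullDim_quotient_irrelevant _ h0] at h1
    exact absurd h1 (by decide)
  have hne : (ProjectiveSpectrum.zeroLocus (CohB1.polyGrading 2 k)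
      ((Ideal.span ({f, g} : Set (MvPolynomial (Fin (2 + 1)) k)) : Ideal _) : Set _)).Nonempty :=
    ⟨mkPoint _ q₀ hq₀p hq₀h hq₀rel, hq₀.1.2⟩
  have key := topologicalKrullDim_zeroLocus_add_one _ h0 _ hIh hne
  rw [ProjectiveSpectrum.zeroLocus_span] at key
  have step1 : topologicalKrullDim ↥(ProjectiveSpectrum.zeroLocus
      (CohB1.polyGrading 2 k)
        ({f, g} : Set (MvPolynomial (Fin (2 + 1)) k))) = 0 ↔
      ringKrullDim (MvPolynomial (Fin (2 + 1)) k ⧸
        Ideal.span ({f, g} : Set (MvPolynomial (Fin (2 + 1)) k))) = 1 := by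
    constructor
    · intro h
      rw [← key, h, zero_add]
    · intro h
      rw [h] at key
      have : topologicalKrullDim ↥(ProjectiveSpectrum.zeroLocus
        (CohB1.polyGrading 2 k)
          ({f, g} : Set (MvPolynomial (Fin (2 + 1)) k))) = ((0 : ℕ) : WithBot ℕ∞) :=
        withBot_enat_add_one_cancel (by rw [key]; simp)
      simpa using this
  rw [step1]
  have hge : 1 ≤ ringKrullDim (MvPolynomial (Fin (2 + 1)) k ⧸
        Ideal.span ({f, g} : Set (MvPolynomial (Fin (2 + 1)) k))) :=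
    (hmin q₀ hq₀).trans (ringKrullDim_le_of_surjective (Ideal.Quotient.factor hq₀.1.2)
      (Ideal.Quotient.factor_surjective hq₀.1.2))
  constructor
  · intro hdim d hdf hdg
    by_contra hd
    have hd0 : d ≠ 0 := by
      rintro rfl
      exact hf0 (zero_dvd_iff.mp hdf)
    obtain ⟨π, hπ, hπd⟩ := WfDvdMonoid.exists_irreducible_factor hd hd0
    have hπp : Prime π := hπ.prime
    have hle : Ideal.span ({f, g} : Set (MvPolynomial (Fin (2 + 1)) k)) ≤ Ideal.span {π} := by
      rw [Ideal.span_le]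
      rintro x (rfl | rfl)
      · exact Ideal.mem_span_singleton.mpr (hπd.trans hdf)
      · exact Ideal.mem_span_singleton.mpr (hπd.trans hdg)
    have h1 := DimFG.ringKrullDim_quotient_prime_mvPolynomial k 2 π hπp
    have h2 := ringKrullDim_le_of_surjective (Ideal.Quotient.factor hle)
      (Ideal.Quotient.factor_surjective hle)
    rw [h1, hdim] at h2
    exact absurd h2 (by decide)
  · intro hrp
    apply le_antisymm _ hge
    apply ringKrullDim_quotient_le_of_forall_minimalPrimes
    intro q hq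
    have hqp : q.IsPrime := hq.1.1
    have hfq : f ∈ q := hq.1.2 (Ideal.subset_span (by simp))
    have hgq : g ∈ q := hq.1.2 (Ideal.subset_span (by simp))
    have hqbot : q ≠ ⊥ := by
      rintro rfl
      exact hf0 ((Ideal.mem_bot).mp hfq)
    obtain ⟨π, hπq, hπ⟩ := Ideal.IsPrime.exists_mem_prime_of_ne_bot hqp hqbot
    have hπprime : (Ideal.span {π}).IsPrime := (Ideal.span_singleton_prime hπ.ne_zero).mpr hπ
    have hle : Ideal.span {π} ≤ q := (Ideal.span_singleton_le_iff_mem _).mpr hπq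
    have hlt : Ideal.span {π} < q := by
      refine lt_of_le_of_ne hle ?_
      intro heq
      rw [← heq] at hfq hgq
      exact hπ.not_isUnit (hrp (Ideal.mem_span_singleton.mp hfq) (Ideal.mem_span_singleton.mp hgq))
    have h1 := ringKrullDim_quotient_add_one_le k (Ideal.span {π}) q hlt
    rw [DimFG.ringKrullDim_quotient_prime_mvPolynomial k 2 π hπ, dimQ_spec k q hqp.ne_top] at h1
    rw [dimQ_spec k q hqp.ne_top]
    have : dimQ q + 1 ≤ 2 := by exact_mod_cast h1
    have : dimQ q ≤ 1 := by omega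
    exact_mod_cast this

end plane

end Groth.Agent.H2.ProjDim
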