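import Mathlib
import Groth.Agent.Lib.Helper2.ProjDimDict
import Groth.Agent.Lib.Helper2.ProjDimPoly

/-! Heights in the projective spectrum; codimension-one subvarieties of projective space are
hypersurfaces (helper2). -/

universe u
open HomogeneousIdeal DirectSum AlgebraicGeometry

namespace Groth.Agent.H2.ProjDim

theorem coheight_eq_height_of_le_iff {α : Type*} (P Q : Preorder α)
    (h : ∀ a b, @LE.le α P.toLE a b ↔ @LE.le α Q.toLE b a) (x : α) :
    @Order.coheight α P x = @Order.height α Q x := by
  let := Q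
  rw [← Order.coheight_toDual (α := α) x]
  exact (@Order.coheight_orderIso α αᵒᵈ P _
    (@RelIso.mk α αᵒᵈ (@LE.le α P.toLE) (· ≤ ·) OrderDual.toDual
      (by intro a b; exact (h a b).symm)) x).symm

section height
variable {k A : Type u} [Field k] [CommRing A] [Algebra k A]
  (𝒜 : ℕ → Submodule k A) [GradedAlgebra 𝒜]

theorem coheight_irreducibleCloseds
    (Z : TopologicalSpace.IrreducibleCloseds (ProjectiveSpectrum 𝒜)) (z : ProjectiveSpectrum 𝒜)
    (hz : (Z : Set (ProjectiveSpectrum 𝒜)) = closure {z}) : Order.coheight Z = Order.height z := by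
  have := quasiSober_projectiveSpectrum 𝒜
  have := t0Space_projectiveSpectrum 𝒜
  have hgen : IsGenericPoint z (Z : Set (ProjectiveSpectrum 𝒜)) := hz.symm
  have hez : (irreducibleSetEquivPoints (α := ProjectiveSpectrum 𝒜)) Z = z :=
    (Z.2.isGenericPoint_genericPoint_closure.eq (by rw [closure_eq_iff_isClosed.mpr Z.3]; exact hgen))
  rw [← @Order.coheight_orderIso _ _ _ (specializationPreorder _)
    (irreducibleSetEquivPoints (α := ProjectiveSpectrum 𝒜)) Z, hez]
  apply coheight_eq_height_of_le_iff
  intro a b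
  change b ⤳ a ↔ b ≤ a
  rw [specializes_iff_le]

theorem δ_strictAnti [Algebra.FiniteType k A] (x y : ProjectiveSpectrum 𝒜) (hxy : x < y) :
    δ 𝒜 y < δ 𝒜 x := by
  obtain ⟨z, hxz, hzy, hz⟩ := step_points 𝒜 x y hxy
  have := antitone_of_step (δ 𝒜) (step_points 𝒜) z y hzy
  omega

theorem δ_antitone [Algebra.FiniteType k A] (x y : ProjectiveSpectrum 𝒜) (hxy : x ≤ y) :
    δ 𝒜 y ≤ δ 𝒜 x := antitone_of_step (δ 𝒜) (step_points 𝒜) x y hxy

/-- height of a point in the poset of relevant homogeneous primes, when there is a least point -/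
theorem height_point [Algebra.FiniteType k A] (b z : ProjectiveSpectrum 𝒜) (hb : ∀ y, b ≤ y) :
    Order.height z = ((δ 𝒜 b - δ 𝒜 z : ℕ) : ℕ∞) := by
  apply le_antisymm
  · apply Order.height_le
    intro c hc
    have hmono : StrictMono (fun y : ProjectiveSpectrum 𝒜 => δ 𝒜 b - δ 𝒜 y) := by
      intro y y' hyy'
      have h1 := δ_strictAnti 𝒜 y y' hyy'
      have h2 := δ_antitone 𝒜 b y (hb y)
      change δ 𝒜 b - δ 𝒜 y < δ 𝒜 b - δ 𝒜 y'
      omega
    have h1 := LTSeries.head_add_length_le_nat (c.map _ hmono)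
    simp only [LTSeries.head_map, LTSeries.last_map, LTSeries.map_length, hc] at h1
    have : c.length ≤ δ 𝒜 b - δ 𝒜 z := by omega
    exact_mod_cast this
  · obtain ⟨c, hc1, hc2, hc3⟩ := exists_ltSeries_between_points 𝒜 b z (hb z)
    have h1 := Order.length_le_height_last (p := c)
    rw [hc2] at h1
    have : δ 𝒜 b - δ 𝒜 z = c.length := by omega
    rw [this]
    exact h1

end height

section homog

/-- a generator of a homogeneous principal ideal of a polynomial ring over a domain is
homogeneous -/
theorem isHomogeneous_of_span_singleton_isHomogeneous (k : Type u) [Field k] (n : ℕ)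
    (π : MvPolynomial (Fin (n + 1)) k)
    (h : (Ideal.span {π}).IsHomogeneous (CohB1.polyGrading n k)) :
    π.IsHomogeneous π.totalDegree := by
  by_cases hπ0 : π = 0
  · rw [hπ0]; exact MvPolynomial.isHomogeneous_zero _ _ _
  have key : ∀ i, MvPolynomial.homogeneousComponent i π ≠ 0 → π.totalDegree ≤ i := by
    intro i hi
    have hmem : MvPolynomial.homogeneousComponent i π ∈ Ideal.span {π} :=
      MvPolynomial.homogeneousComponent_mem_of_mem h (Ideal.mem_span_singleton_self π) i
    obtain ⟨g, hg⟩ := Ideal.mem_span_singleton.mp hmem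
    have hg0 : g ≠ 0 := by
      rintro rfl
      rw [mul_zero] at hg
      exact hi hg
    have h1 : (MvPolynomial.homogeneousComponent i π).totalDegree = i :=
      (MvPolynomial.homogeneousComponent_isHomogeneous i π).totalDegree hi
    rw [hg, MvPolynomial.totalDegree_mul_of_isDomain hπ0 hg0] at h1
    omega
  have hsum := MvPolynomial.sum_homogeneousComponent π
  rw [Finset.sum_eq_single π.totalDegree] at hsum
  · have h2 := MvPolynomial.homogeneousComponent_isHomogeneous π.totalDegree π
    rwa [hsum] at h2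
  · intro i hi hne
    by_contra hcon
    have := key i hcon
    have := Finset.mem_range.mp hi
    omega
  · intro hn
    exact absurd (Finset.mem_range.mpr (Nat.lt_succ_self _)) hn

end homog

section polyHeight
variable (k : Type u) [Field k] (n : ℕ)

theorem not_irrelevant_le_bot :
    ¬ (HomogeneousIdeal.irrelevant (CohB1.polyGrading n k)).toIdeal ≤
      (⊥ : Ideal (MvPolynomial (Fin (n + 1)) k)) := by
  intro hle
  have h1 : (MvPolynomial.X 0 : MvPolynomial (Fin (n + 1)) k) ∈
      (HomogeneousIdeal.irrelevant (CohB1.polyGrading n k)).toIdeal :=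
    HomogeneousIdeal.mem_irrelevant_of_mem _ Nat.one_pos (MvPolynomial.isHomogeneous_X k 0)
  have h2 := hle h1
  rw [Ideal.mem_bot] at h2
  exact MvPolynomial.X_ne_zero 0 h2

/-- the generic point of projective space -/
noncomputable def botPoint : ProjectiveSpectrum (CohB1.polyGrading n k) :=
  mkPoint (CohB1.polyGrading n k) ⊥ Ideal.isPrime_bot (Ideal.IsHomogeneous.bot _)
    (not_irrelevant_le_bot k n)

theorem botPoint_le (y : ProjectiveSpectrum (CohB1.polyGrading n k)) : botPoint k n ≤ y := by
  rw [le_iff_toIdeal_le]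
  exact bot_le

theorem δ_botPoint : δ (CohB1.polyGrading n k) (botPoint k n) = n + 1 := by
  have h1 := δ_spec (CohB1.polyGrading n k) (botPoint k n)
  rw [show (botPoint k n).asHomogeneousIdeal.toIdeal = ⊥ from rfl,
    ringKrullDim_eq_of_ringEquiv (RingEquiv.quotientBot (MvPolynomial (Fin (n + 1)) k)),
    DimFG.ringKrullDim_mvPolynomial_fin] at h1
  exact_mod_cast h1.symm

theorem δ_mkPoint_span_singleton (f : MvPolynomial (Fin (n + 1)) k) (hf : Prime f)
    (h1 : (Ideal.span {f}).IsPrime) (h2 : (Ideal.span {f}).IsHomogeneous (CohB1.polyGrading n k))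
    (h3 : ¬ (HomogeneousIdeal.irrelevant (CohB1.polyGrading n k)).toIdeal ≤ Ideal.span {f}) :
    δ (CohB1.polyGrading n k) (mkPoint (CohB1.polyGrading n k) (Ideal.span {f}) h1 h2 h3) = n := by
  have e := δ_spec (CohB1.polyGrading n k) (mkPoint (CohB1.polyGrading n k) (Ideal.span {f}) h1 h2 h3)
  rw [mkPoint_toIdeal, DimFG.ringKrullDim_quotient_prime_mvPolynomial k n f hf] at e
  exact_mod_cast e.symm

theorem coheight_eq_one_iff
    (Z : TopologicalSpace.IrreducibleCloseds (ProjectiveSpectrum (CohB1.polyGrading n k))) :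
    Order.coheight Z = 1 ↔
      ∃ (d : ℕ) (f : MvPolynomial (Fin (n + 1)) k), f.IsHomogeneous d ∧ Irreducible f ∧
        (Z : Set (ProjectiveSpectrum (CohB1.polyGrading n k))) =
          ProjectiveSpectrum.zeroLocus (CohB1.polyGrading n k)
            ({f} : Set (MvPolynomial (Fin (n + 1)) k)) := by
  have h0 := mvPolynomial_h0 k (Fin (n + 1))
  constructor
  · intro hco
    obtain ⟨z, hz⟩ := exists_eq_zeroLocus_of_isIrreducible (CohB1.polyGrading n k) Z Z.3 Z.2
    have hzc : (Z : Set (ProjectiveSpectrum (CohB1.polyGrading n k))) = closure {z} := by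
      rw [hz, closure_singleton]
    rw [coheight_irreducibleCloseds _ Z z hzc,
      height_point _ (botPoint k n) z (botPoint_le k n), δ_botPoint] at hco
    have hδ : δ (CohB1.polyGrading n k) z = n := by
      have h1 : n + 1 - δ (CohB1.polyGrading n k) z = 1 := by exact_mod_cast hco
      have h2 := δ_antitone _ (botPoint k n) z (botPoint_le k n z)
      rw [δ_botPoint] at h2
      omega
    have hzbot : z.asHomogeneousIdeal.toIdeal ≠ ⊥ := by
      intro hbot
      have e := δ_spec (CohB1.polyGrading n k) z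
      rw [hbot, ringKrullDim_eq_of_ringEquiv (RingEquiv.quotientBot (MvPolynomial (Fin (n + 1)) k)),
        DimFG.ringKrullDim_mvPolynomial_fin, hδ] at e
      have : n + 1 = n := by exact_mod_cast e
      omega
    obtain ⟨π, hπz, hπ⟩ := Ideal.IsPrime.exists_mem_prime_of_ne_bot z.isPrime hzbot
    have hπprime : (Ideal.span {π}).IsPrime := (Ideal.span_singleton_prime hπ.ne_zero).mpr hπ
    have hle : Ideal.span {π} ≤ z.asHomogeneousIdeal.toIdeal :=
      (Ideal.span_singleton_le_iff_mem _).mpr hπz
    have heq : Ideal.span {π} = z.asHomogeneousIdeal.toIdeal := by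
      by_contra hne
      have hlt := lt_of_le_of_ne hle hne
      have h1 := ringKrullDim_quotient_add_one_le k (Ideal.span {π}) z.asHomogeneousIdeal.toIdeal hlt
      rw [DimFG.ringKrullDim_quotient_prime_mvPolynomial k n π hπ, δ_spec _ z, hδ] at h1
      have : n + 1 ≤ n := by exact_mod_cast h1
      omega
    have hhom : (Ideal.span {π}).IsHomogeneous (CohB1.polyGrading n k) := by
      rw [heq]; exact z.asHomogeneousIdeal.isHomogeneous
    refine ⟨π.totalDegree, π, isHomogeneous_of_span_singleton_isHomogeneous k n π hhom,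
      hπ.irreducible, ?_⟩
    rw [hz, ← heq, ProjectiveSpectrum.zeroLocus_span]
  · rintro ⟨d, f, hfh, hfirr, hZ⟩
    have hfp : Prime f := hfirr.prime
    have h1 : (Ideal.span {f}).IsPrime := (Ideal.span_singleton_prime hfp.ne_zero).mpr hfp
    have h2 : (Ideal.span {f}).IsHomogeneous (CohB1.polyGrading n k) :=
      Ideal.homogeneous_span _ _ (by rintro x rfl; exact ⟨d, hfh⟩)
    obtain ⟨y, hy⟩ := Z.2.nonempty
    change y ∈ (Z : Set (ProjectiveSpectrum (CohB1.polyGrading n k))) at hy
    rw [hZ, ProjectiveSpectrum.mem_zeroLocus] at hy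
    have hfy : Ideal.span {f} ≤ y.asHomogeneousIdeal.toIdeal :=
      (Ideal.span_singleton_le_iff_mem _).mpr (hy (Set.mem_singleton f))
    have h3 : ¬ (HomogeneousIdeal.irrelevant (CohB1.polyGrading n k)).toIdeal ≤ Ideal.span {f} :=
      fun h => y.not_irrelevant_le (h.trans hfy)
    have hzc : (Z : Set (ProjectiveSpectrum (CohB1.polyGrading n k))) =
        closure {mkPoint (CohB1.polyGrading n k) (Ideal.span {f}) h1 h2 h3} := by
      rw [hZ, closure_singleton, mkPoint_toIdeal, ProjectiveSpectrum.zeroLocus_span]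
    rw [coheight_irreducibleCloseds _ Z _ hzc,
      height_point _ (botPoint k n) _ (botPoint_le k n), δ_botPoint,
      δ_mkPoint_span_singleton k n f hfp h1 h2 h3]
    have : n + 1 - n = 1 := by omega
    rw [this]
    rfl

end polyHeight

end Groth.Agent.H2.ProjDim
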