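import Mathlib
import Groth.Agent.Lib.Helper5.GV.Main
import Groth.Agent.Lib.Helper5.IntN.Veronese
import Groth.Agent.Lib.Helper7.UTCon2
import Groth.Agent.Lib.Lead.PN.ClosedSub
import Groth.Agent.Lib.Lead.PN.Compact
import Groth.Agent.Lib.Lead.PN.Finite
import Groth.Agent.Lib.Lead.PN.Euler
import Groth.Agent.Lib.Lead.PN.SerreVanish
import Groth.Agent.Lib.Lead.QC.TensorExact
import Groth.Agent.S3557

/-! Hypersurfaces in projective space (helper2), part A: a proper closed subscheme of `P^{m+1}_k`
has dimension `≤ m`, hence the cohomology of its twisted structure sheaf vanishes above `m`. -/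

set_option autoImplicit false
universe u
open CategoryTheory CategoryTheory.Limits AlgebraicGeometry TopologicalSpace

namespace Groth.Agent.H2.HypCoh

open Groth.Agent.LD Twist

section topology

/-- a proper closed subspace of an irreducible space has strictly smaller dimension. -/
theorem topologicalKrullDim_add_one_le {Z X : Type*} [TopologicalSpace Z] [TopologicalSpace X]
    [IrreducibleSpace X] (f : Z → X) (hf : Topology.IsClosedEmbedding f)
    (hne : Set.range f ≠ Set.univ) :
    topologicalKrullDim Z + 1 ≤ topologicalKrullDim X := by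
  rcases isEmpty_or_nonempty (IrreducibleCloseds Z) with h | h
  · have h0 : topologicalKrullDim Z = ⊥ := Order.krullDim_eq_bot
    rw [h0, WithBot.bot_add]
    exact bot_le
  · unfold topologicalKrullDim
    rw [← Order.krullDim_WithTop]
    let top : IrreducibleCloseds X :=
      ⟨Set.univ, IrreducibleSpace.isIrreducible_univ X, isClosed_univ⟩
    let g : WithTop (IrreducibleCloseds Z) → IrreducibleCloseds X :=
      fun c => WithTop.recTopCoe top (IrreducibleCloseds.map f hf.continuous) c
    refine Order.krullDim_le_of_strictMono g ?_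
    intro a b hab
    induction a using WithTop.recTopCoe with
    | top => exact absurd hab not_top_lt
    | coe a =>
      induction b using WithTop.recTopCoe with
      | top =>
        change IrreducibleCloseds.map f hf.continuous a < top
        have h1 : (IrreducibleCloseds.map f hf.continuous a : Set X) ⊆ Set.range f := by
          rw [IrreducibleCloseds.coe_map]
          exact closure_minimal (Set.image_subset_range f _) hf.isClosed_range
        refine lt_of_le_of_ne (SetLike.coe_subset_coe.mp (Set.subset_univ _)) ?_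
        intro heq
        apply hne
        have h2 : (IrreducibleCloseds.map f hf.continuous a : Set X) = Set.univ :=
          congrArg (fun c : IrreducibleCloseds X => (c : Set X)) heq
        rw [h2] at h1
        exact Set.eq_univ_of_univ_subset h1
      | coe b =>
        change IrreducibleCloseds.map f hf.continuous a < IrreducibleCloseds.map f hf.continuous b
        exact IrreducibleCloseds.map_strictMono_of_isInducing hf.isInducing
          (WithTop.coe_lt_coe.mp hab)

theorem withBot_enat_le_of_add_one_le {t : WithBot ℕ∞} {n : ℕ}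
    (h : t + 1 ≤ ((n + 1 : ℕ) : WithBot ℕ∞)) : t ≤ (n : WithBot ℕ∞) := by
  induction t with
  | bot => exact bot_le
  | coe y =>
    have h' : y + 1 ≤ ((n + 1 : ℕ) : ℕ∞) := by exact_mod_cast h
    have hy : y ≠ ⊤ := by
      rintro rfl
      simp at h'
    lift y to ℕ using hy
    have h'' : y + 1 ≤ n + 1 := by exact_mod_cast h'
    have h3 : y ≤ n := by omega
    exact_mod_cast h3

end topology

variable (k : Type u) [Field k]

/-- projective space over a field is integral. -/
theorem isIntegral_proj (n : ℕ) :
    AlgebraicGeometry.IsIntegral (Proj (CohB1.polyGrading n k)) := by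
  refine (Groth.Agent.S3557.result (CohB1.polyGrading n k) ?_).mpr
    ⟨⟨MvPolynomial.X 0, ?_, MvPolynomial.X_ne_zero 0⟩, ?_⟩
  · intro f _ hf
    exact hf.eq_zero
  · exact HomogeneousIdeal.mem_irrelevant_of_mem _ Nat.one_pos (MvPolynomial.isHomogeneous_X k 0)
  · intro f _ g _ hfg
    exact mul_eq_zero.mp hfg

/-- a closed subscheme of `P^{m+1}_k` defined by a nonzero ideal has dimension `≤ m`. -/
theorem dim_subscheme_le (m : ℕ) (I : (Proj (CohB1.polyGrading (m + 1) k)).IdealSheafData)
    (hI : I ≠ ⊥) : topologicalKrullDim I.subscheme ≤ (m : WithBot ℕ∞) := by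
  haveI := isIntegral_proj k (m + 1)
  have hne : Set.range I.subschemeι ≠ Set.univ := by
    intro h
    rw [Scheme.IdealSheafData.range_subschemeι] at h
    apply hI
    rw [← Scheme.IdealSheafData.support_eq_top_iff]
    exact TopologicalSpace.Closeds.ext h
  have h1 := topologicalKrullDim_add_one_le _ I.subschemeι.isClosedEmbedding hne
  have h2 : topologicalKrullDim (Proj (CohB1.polyGrading (m + 1) k)) =
      ((m + 1 : ℕ) : WithBot ℕ∞) := Groth.Agent.H5.IntN.dim_projSpace k (m + 1)
  rw [h2] at h1
  exact withBot_enat_le_of_add_one_le h1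

/-- the twisting sheaves on projective space over a field are nonzero. -/
theorem not_isZero_twist (n : ℕ) (m : ℤ) : ¬ IsZero (twist (CohB1.polyGrading n k) m) := by
  intro hz
  have hM := PN.isInvertible_twist n k (-m)
  have hz2 : IsZero (CohB1.tensorMod (twist (CohB1.polyGrading n k) m)
      (twist (CohB1.polyGrading n k) (-m))) := by
    rw [IsZero.iff_id_eq_zero, ← QC.tensorMap_id_id, hz.eq_of_src (𝟙 _) 0]
    exact QC.tensorMap_zero_id hM
  have hz3 : IsZero (twist (CohB1.polyGrading n k) ((0 : ℕ) : ℤ)) :=
    hz2.of_iso (PN.twistMulIso n k m (-m) ((0 : ℕ) : ℤ) (by simp)).symm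
  haveI hsub : Subsingleton (Coh.HH (CohB1.ProjSpace n k)
      (Twist.twistProjSpace n k ((0 : ℕ) : ℤ)) 0) := by
    have hx : ∀ z : Coh.HH (Proj (CohB1.polyGrading n k))
        (twist (CohB1.polyGrading n k) ((0 : ℕ) : ℤ)) 0, z = 0 := by
      intro z
      calc z = CL.HHmapZ (𝟙 (twist (CohB1.polyGrading n k) ((0 : ℕ) : ℤ))) 0 z :=
            (CL.HHmapZ_id _ 0 z).symm
        _ = CL.HHmapZ (0 : twist (CohB1.polyGrading n k) ((0 : ℕ) : ℤ) ⟶ _) 0 z := by
            rw [hz3.eq_of_src (𝟙 _) 0]
        _ = 0 := CL.HHmapZ_zero 0 z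
    exact ⟨fun x y => (hx x).trans (hx y).symm⟩
  have h1 := LinearEquiv.finrank_eq (PN.H0LinearEquiv n k 0)
  rw [PN.finrank_homogeneousSubmodule, Module.finrank_zero_of_subsingleton] at h1
  simp at h1

/-- an ideal sheaf isomorphic to some `O(m)` is nonzero. -/
theorem ne_bot_of_iso (n : ℕ) (I : (Proj (CohB1.polyGrading n k)).IdealSheafData) (m : ℤ)
    (hI : Nonempty (ClSub.idealMod I ≅ twist (CohB1.polyGrading n k) m)) : I ≠ ⊥ := by
  rintro rfl
  obtain ⟨e⟩ := hI
  exact not_isZero_twist k n m
    ((Groth.Agent.H7.UTCon.isZero_idealMod_bot _).of_iso e.symm)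

/-- **top vanishing**: for a closed subscheme `X ⊆ P^{m+1}_k` with nonzero ideal, the cohomology
of `O_X(n)` vanishes in degrees `> m`. -/
theorem subsingleton_HH_quot_twist (m : ℕ)
    (I : (Proj (CohB1.polyGrading (m + 1) k)).IdealSheafData) (hI : I ≠ ⊥) (n : ℤ) (p : ℕ)
    (hp : m < p) :
    Subsingleton (Coh.HH (Proj (CohB1.polyGrading (m + 1) k))
      (CohB1.tensorMod (ClSub.quotMod I) (twist (CohB1.polyGrading (m + 1) k) n)) p) := by
  haveI : IsLocallyNoetherian I.subscheme :=
    LocallyOfFiniteType.isLocallyNoetherian I.subschemeι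
  haveI : CompactSpace I.subscheme := I.subschemeι.isClosedEmbedding.compactSpace
  have hdim := dim_subscheme_le k m I hI
  have hcoh : Coh.IsCoh (PN.twOn (m + 1) k I.subschemeι (Coh.structureModule I.subscheme) n) := by
    have hF : Coh.IsCoh (Coh.structureModule I.subscheme) := PF.isCoh_unitMod _
    haveI : (Coh.structureModule I.subscheme).IsQuasicoherent := hF.1
    have hL := QC.isInvertible_pullback I.subschemeι (PN.isInvertible_twist (m + 1) k n)
    haveI := QC.qc_of_isInvertible _ hL
    exact ⟨inferInstanceAs (CohB1.tensorMod (Coh.structureModule I.subscheme) _).IsQuasicoherent,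
      QC.isFiniteType_tensorMod_of_isInvertible _ hF.2 _ hL⟩
  have h1 := Groth.Agent.H5.GV.subsingleton_HH_of_isCoh m hdim _ hcoh p hp
  exact (PN.subsingleton_HH_twOn_iff (m + 1) k I.subschemeι
    (Coh.structureModule I.subscheme) n p).mp h1

end Groth.Agent.H2.HypCoh
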