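import Mathlib
import Groth.Agent.Lib.Helper2.HypCohA
import Groth.Agent.Lib.Helper5.DegC.Cartier
import Groth.Agent.Lib.Lead.QC.FreeData
import Groth.Agent.Lib.Lead.QC.InvBasis
import Groth.Agent.Lib.Lead.CohLES.Basic
import Groth.Agent.Lib.Lead.CohLES.Euler
import Groth.Agent.Lib.Lead.CohLES.Vanish
import Groth.Agent.Lib.Lead.CohLES.Finite

/-! Hypersurfaces in projective space (helper2), part B: the twisted ideal sequence
`0 → O(n-k) → O(n) → O_X(n) → 0`, the dimensions of the cohomology of `O(t)`, and the bookkeeping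
with the long exact sequence. -/

set_option autoImplicit false
universe u
open CategoryTheory CategoryTheory.Limits AlgebraicGeometry TopologicalSpace

namespace Groth.Agent.H2.HypCoh

open Groth.Agent.LD Twist

section linalg

/-- dimension count in a five term exact sequence `0 → A → B → C → D → E → 0`. -/
theorem finrank_five {k : Type*} [Field k] {A B C D E : Type*}
    [AddCommGroup A] [AddCommGroup B] [AddCommGroup C] [AddCommGroup D] [AddCommGroup E]
    [Module k A] [Module k B] [Module k C] [Module k D] [Module k E]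
    [Module.Finite k A] [Module.Finite k B] [Module.Finite k D] [Module.Finite k E]
    (a : A →ₗ[k] B) (b : B →ₗ[k] C) (c : C →ₗ[k] D) (e : D →ₗ[k] E)
    (ha : Function.Injective a)
    (hab : ∀ x, b (a x) = 0) (hab' : ∀ y, b y = 0 → ∃ x, a x = y)
    (hbc : ∀ y, c (b y) = 0) (hbc' : ∀ z, c z = 0 → ∃ y, b y = z)
    (hce : ∀ z, e (c z) = 0) (hce' : ∀ w, e w = 0 → ∃ z, c z = w)
    (he : Function.Surjective e) :
    Module.Finite k C ∧
      Module.finrank k C + Module.finrank k A + Module.finrank k E =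
        Module.finrank k B + Module.finrank k D := by
  have hker_b : LinearMap.ker b = LinearMap.range a := by
    ext y
    simp only [LinearMap.mem_ker, LinearMap.mem_range]
    exact ⟨hab' y, fun ⟨x, hx⟩ => hx ▸ hab x⟩
  have hker_c : LinearMap.ker c = LinearMap.range b := by
    ext y
    simp only [LinearMap.mem_ker, LinearMap.mem_range]
    exact ⟨hbc' y, fun ⟨x, hx⟩ => hx ▸ hbc x⟩
  have hker_e : LinearMap.ker e = LinearMap.range c := by
    ext y
    simp only [LinearMap.mem_ker, LinearMap.mem_range]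
    exact ⟨hce' y, fun ⟨x, hx⟩ => hx ▸ hce x⟩
  haveI hC : Module.Finite k C := CL.finite_of_exact b c hbc'
  refine ⟨hC, ?_⟩
  have h1 := LinearMap.finrank_range_add_finrank_ker b
  have h2 := LinearMap.finrank_range_add_finrank_ker c
  have h3 := LinearMap.finrank_range_add_finrank_ker e
  have h4 : Module.finrank k (LinearMap.range a) = Module.finrank k A :=
    LinearMap.finrank_range_of_inj ha
  have h5 : Module.finrank k (LinearMap.range e) = Module.finrank k E := by
    rw [LinearMap.range_eq_top.mpr he, finrank_top]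
  rw [hker_b, h4] at h1
  rw [hker_c] at h2
  rw [hker_e, h5] at h3
  omega

end linalg

section les

variable {X : Scheme.{u}} (k : Type u) [Field k] [X.Over (Spec (CommRingCat.of k))]

theorem les_inj_zero {A B C : X.Modules} (f : A ⟶ B) (g : B ⟶ C) (w : f ≫ g = 0)
    (hS : (ShortComplex.mk f g w).ShortExact) (i : ℕ) (ha : i = 0) :
    Function.Injective (CL.HHmap k f i) := by
  have h := CL.HHmap_f_injective k hS
  rw [ha]
  exact h

theorem les_inj {A B C : X.Modules} (f : A ⟶ B) (g : B ⟶ C) (w : f ≫ g = 0)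
    (hS : (ShortComplex.mk f g w).ShortExact) (i : ℕ)
    (ha : i = 0 ∨ Subsingleton (Coh.HH X A i)) :
    Function.Injective (CL.HHmap k f i) :=
  ha.elim (fun h0 => les_inj_zero k f g w hS i h0)
    (fun _ => Function.injective_of_subsingleton _)

theorem les_surj_of_right {A B C : X.Modules} (f : A ⟶ B) (g : B ⟶ C) (w : f ≫ g = 0)
    (hS : (ShortComplex.mk f g w).ShortExact) (j : ℕ) (hsub : Subsingleton (Coh.HH X C j)) :
    Function.Surjective (CL.HHmap k f j) := by
  intro y
  exact CL.exact₂ hS k j y (Subsingleton.elim _ _)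

theorem les_surj_of_mid {A B : X.Modules} (f : A ⟶ B) (j : ℕ)
    (hsub : Subsingleton (Coh.HH X B j)) :
    Function.Surjective (CL.HHmap k f j) := by
  intro y
  exact ⟨0, Subsingleton.elim _ _⟩

/-- dimension count from the long exact cohomology sequence of `0 → A → B → C → 0`. -/
theorem les_finrank {A B C : X.Modules} (f : A ⟶ B) (g : B ⟶ C) (w : f ≫ g = 0)
    (hS : (ShortComplex.mk f g w).ShortExact) (i : ℕ)
    [hA0 : Module.Finite k (Coh.HH X A i)] [hB0 : Module.Finite k (Coh.HH X B i)]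
    [hA1 : Module.Finite k (Coh.HH X A (i + 1))] [hB1 : Module.Finite k (Coh.HH X B (i + 1))]
    (ha : i = 0 ∨ Subsingleton (Coh.HH X A i))
    (he : Subsingleton (Coh.HH X C (i + 1)) ∨ Subsingleton (Coh.HH X B (i + 1))) :
    Module.Finite k (Coh.HH X C i) ∧
      Module.finrank k (Coh.HH X C i) + Module.finrank k (Coh.HH X A i) +
          Module.finrank k (Coh.HH X B (i + 1)) =
        Module.finrank k (Coh.HH X B i) + Module.finrank k (Coh.HH X A (i + 1)) := by
  have hinj : Function.Injective (CL.HHmap k f i) := les_inj k f g w hS i ha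
  have hsurj : Function.Surjective (CL.HHmap k f (i + 1)) :=
    he.elim (fun h => les_surj_of_right k f g w hS (i + 1) h)
      (fun h => les_surj_of_mid k f (i + 1) h)
  exact finrank_five (CL.HHmap k f i) (CL.HHmap k g i) (CL.HHδ hS k i) (CL.HHmap k f (i + 1))
    hinj (CL.HHmap_g_f (S := ShortComplex.mk f g w) k i) (CL.exact₂ hS k i) (CL.HHδ_g k hS i) (CL.exact₃ hS k i)
    (CL.HHmap_f_δ k hS i) (CL.exact₁ hS k i) hsurj

end les

variable (k : Type u) [Field k]

/-- `h⁰(P^{m+1}, O(t))`. -/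
theorem finrank_H0_twist (m : ℕ) (t : ℤ) :
    Module.finrank k (Coh.HH (CohB1.ProjSpace (m + 1) k) (Twist.twistProjSpace (m + 1) k t) 0) =
      Nat.choose (t + ((m : ℤ) + 1)).toNat (m + 1) := by
  by_cases h0 : 0 ≤ t
  · obtain ⟨d, rfl⟩ := Int.eq_ofNat_of_zero_le h0
    rw [LinearEquiv.finrank_eq (PN.H0LinearEquiv (m + 1) k d), PN.finrank_homogeneousSubmodule]
    congr 1
  · rw [PN.finrank_HH_eq_zero k (m + 1) t 0 (fun h => h0 h.2) (fun h => by omega)]
    symm
    apply Nat.choose_eq_zero_of_lt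
    omega

/-- `h^{m+1}(P^{m+1}, O(t))`. -/
theorem finrank_Htop_twist (m : ℕ) (t : ℤ) :
    Module.finrank k (Coh.HH (CohB1.ProjSpace (m + 1) k) (Twist.twistProjSpace (m + 1) k t)
        (m + 1)) = Nat.choose (-t - 1).toNat (m + 1) := by
  by_cases h1 : t ≤ -(((m + 1 : ℕ) : ℤ) + 1)
  · obtain ⟨j, hj⟩ : ∃ j : ℕ, t = -(((m + 1 : ℕ) : ℤ) + 1 + j) := by
      refine ⟨(-t - (((m + 1 : ℕ) : ℤ) + 1)).toNat, ?_⟩
      rw [Int.toNat_of_nonneg (by omega)]
      ring
    subst hj
    rw [LinearEquiv.finrank_eq (PN.HHTopLinearEquiv k m j), PN.finrank_homogeneousSubmodule]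
    congr 1
    omega
  · rw [PN.finrank_HH_eq_zero k (m + 1) t (m + 1) (fun h => by omega) (fun h => h1 h.2)]
    symm
    apply Nat.choose_eq_zero_of_lt
    omega

/-- the middle cohomology of `O(t)` vanishes. -/
theorem subsingleton_mid_twist (m : ℕ) (t : ℤ) (q : ℕ) (h0 : q ≠ 0) (h1 : q ≠ m + 1) :
    Subsingleton (Coh.HH (CohB1.ProjSpace (m + 1) k) (Twist.twistProjSpace (m + 1) k t) q) :=
  PN.subsingleton_HH_twist_all (m + 1) k t q (fun h => h0 h.1) (fun h => h1 h.1)

theorem finrank_mid_twist (m : ℕ) (t : ℤ) (q : ℕ) (h0 : q ≠ 0) (h1 : q ≠ m + 1) :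
    Module.finrank k (Coh.HH (CohB1.ProjSpace (m + 1) k) (Twist.twistProjSpace (m + 1) k t) q) =
      0 :=
  PN.finrank_HH_eq_zero k (m + 1) t q (fun h => h0 h.1) (fun h => h1 h.1)

/-- the twisted ideal sequence of a hypersurface: `0 → O(c) → O(n) → O_X(n) → 0` where the ideal
is `O(kk)` and `c = kk + n`. -/
theorem exists_ses (r : ℕ) (I : (Proj (CohB1.polyGrading r k)).IdealSheafData) (kk c n : ℤ)
    (hc : kk + n = c)
    (hI : Nonempty (ClSub.idealMod I ≅ twist (CohB1.polyGrading r k) kk)) :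
    ∃ (f : twist (CohB1.polyGrading r k) c ⟶ twist (CohB1.polyGrading r k) n)
      (g : twist (CohB1.polyGrading r k) n ⟶
        CohB1.tensorMod (ClSub.quotMod I) (twist (CohB1.polyGrading r k) n))
      (w : f ≫ g = 0), (ShortComplex.mk f g w).ShortExact := by
  obtain ⟨e⟩ := hI
  have hM := PN.isInvertible_twist r k n
  have hS0 := Groth.Agent.H5.DegC.shortExact_idealMod I
  have hS1 := QC.shortExact_tensorMap_of_isInvertible hS0 (twist (CohB1.polyGrading r k) n) hM
  let e₁ : CohB1.tensorMod (ClSub.idealMod I) (twist (CohB1.polyGrading r k) n) ≅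
      twist (CohB1.polyGrading r k) c :=
    QC.tensorIso' e (Iso.refl _) ≪≫ PN.twistMulIso r k kk n c hc
  let e₂ : CohB1.tensorMod (Coh.structureModule (Proj (CohB1.polyGrading r k)))
      (twist (CohB1.polyGrading r k) n) ≅ twist (CohB1.polyGrading r k) n :=
    QC.unitorL' (twist (CohB1.polyGrading r k) n)
  have hz : KoszTw.tensorMap (ClSub.idealModι I) (𝟙 (twist (CohB1.polyGrading r k) n)) ≫
      KoszTw.tensorMap (ClSub.toSubscheme I) (𝟙 (twist (CohB1.polyGrading r k) n)) = 0 := by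
    rw [← QC.tensorMap_comp_id,
      show ClSub.idealModι I ≫ ClSub.toSubscheme I = 0 from kernel.condition _,
      QC.tensorMap_zero_id hM]
  let S1 : ShortComplex (Proj (CohB1.polyGrading r k)).Modules :=
    ShortComplex.mk (KoszTw.tensorMap (ClSub.idealModι I) (𝟙 (twist (CohB1.polyGrading r k) n)))
      (KoszTw.tensorMap (ClSub.toSubscheme I) (𝟙 (twist (CohB1.polyGrading r k) n))) hz
  have hS1' : S1.ShortExact := hS1
  have w : (e₁.inv ≫ S1.f ≫ e₂.hom) ≫ (e₂.inv ≫ S1.g) = 0 := by
    simp only [Category.assoc, Iso.hom_inv_id_assoc]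
    rw [S1.zero, comp_zero]
  have iso : S1 ≅ ShortComplex.mk (e₁.inv ≫ S1.f ≫ e₂.hom) (e₂.inv ≫ S1.g) w :=
    ShortComplex.isoMk e₁ e₂ (Iso.refl _) (by simp) (by simp)
  exact ⟨e₁.inv ≫ S1.f ≫ e₂.hom, e₂.inv ≫ S1.g, w, ShortComplex.shortExact_of_iso iso hS1'⟩

section main

variable (m : ℕ) (I : (CohB1.ProjSpace (m + 1) k).IdealSheafData) (kk : ℕ)
  (hI : Nonempty (ClSub.idealMod I ≅ Twist.twistProjSpace (m + 1) k (-(kk : ℤ)))) (n : ℤ)

include hI

/-- vanishing of `H^p(O_X(n))` from the vanishing of `H^p(O(n))` and `H^{p+1}(O(n-k))`. -/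
theorem hyp_vanish (p : ℕ)
    (h₂ : Subsingleton (Coh.HH (CohB1.ProjSpace (m + 1) k) (Twist.twistProjSpace (m + 1) k n) p))
    (h₁ : Subsingleton (Coh.HH (CohB1.ProjSpace (m + 1) k)
      (Twist.twistProjSpace (m + 1) k (n - (kk : ℤ))) (p + 1))) :
    Subsingleton (Coh.HH (CohB1.ProjSpace (m + 1) k)
      (CohB1.tensorMod (ClSub.quotMod I) (Twist.twistProjSpace (m + 1) k n)) p) := by
  obtain ⟨f, g, w, hS⟩ := exists_ses k (m + 1) I (-(kk : ℤ)) (n - (kk : ℤ)) n (by ring) hI
  exact CL.subsingleton_right hS p h₂ h₁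

/-- **top vanishing** for a hypersurface. -/
theorem hyp_top (p : ℕ) (hp : m < p) :
    Subsingleton (Coh.HH (CohB1.ProjSpace (m + 1) k)
      (CohB1.tensorMod (ClSub.quotMod I) (Twist.twistProjSpace (m + 1) k n)) p) :=
  subsingleton_HH_quot_twist k m I (ne_bot_of_iso k (m + 1) I (-(kk : ℤ)) hI) n p hp

/-- the dimension count for a hypersurface. -/
theorem hyp_les (i : ℕ)
    (ha : i = 0 ∨ Subsingleton (Coh.HH (CohB1.ProjSpace (m + 1) k)
      (Twist.twistProjSpace (m + 1) k (n - (kk : ℤ))) i))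
    (he : Subsingleton (Coh.HH (CohB1.ProjSpace (m + 1) k)
        (CohB1.tensorMod (ClSub.quotMod I) (Twist.twistProjSpace (m + 1) k n)) (i + 1)) ∨
      Subsingleton (Coh.HH (CohB1.ProjSpace (m + 1) k)
        (Twist.twistProjSpace (m + 1) k n) (i + 1))) :
    Module.Finite k (Coh.HH (CohB1.ProjSpace (m + 1) k)
        (CohB1.tensorMod (ClSub.quotMod I) (Twist.twistProjSpace (m + 1) k n)) i) ∧
      Module.finrank k (Coh.HH (CohB1.ProjSpace (m + 1) k)
          (CohB1.tensorMod (ClSub.quotMod I) (Twist.twistProjSpace (m + 1) k n)) i) +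
        Module.finrank k (Coh.HH (CohB1.ProjSpace (m + 1) k)
          (Twist.twistProjSpace (m + 1) k (n - (kk : ℤ))) i) +
        Module.finrank k (Coh.HH (CohB1.ProjSpace (m + 1) k)
          (Twist.twistProjSpace (m + 1) k n) (i + 1)) =
      Module.finrank k (Coh.HH (CohB1.ProjSpace (m + 1) k)
          (Twist.twistProjSpace (m + 1) k n) i) +
        Module.finrank k (Coh.HH (CohB1.ProjSpace (m + 1) k)
          (Twist.twistProjSpace (m + 1) k (n - (kk : ℤ))) (i + 1)) := by
  obtain ⟨f, g, w, hS⟩ := exists_ses k (m + 1) I (-(kk : ℤ)) (n - (kk : ℤ)) n (by ring) hI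
  exact les_finrank (X := CohB1.ProjSpace (m + 1) k) k f g w hS i
    (hA0 := PN.finite_HH_twist (m + 1) k (n - (kk : ℤ)) i)
    (hB0 := PN.finite_HH_twist (m + 1) k n i)
    (hA1 := PN.finite_HH_twist (m + 1) k (n - (kk : ℤ)) (i + 1))
    (hB1 := PN.finite_HH_twist (m + 1) k n (i + 1)) ha he

end main

section general

/-! Versions for `P^r` with `r = m + 1` given as a hypothesis (to apply with numerals). -/

variable (r m : ℕ) (hr : r = m + 1)

include hr

theorem finrank_H0_twist' (t : ℤ) :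
    Module.finrank k (Coh.HH (CohB1.ProjSpace r k) (Twist.twistProjSpace r k t) 0) =
      Nat.choose (t + (r : ℤ)).toNat r := by
  subst hr
  rw [finrank_H0_twist]
  congr 2

theorem finrank_Htop_twist' (t : ℤ) :
    Module.finrank k (Coh.HH (CohB1.ProjSpace r k) (Twist.twistProjSpace r k t) r) =
      Nat.choose (-t - 1).toNat r := by
  subst hr
  exact finrank_Htop_twist k m t

variable (I : (CohB1.ProjSpace r k).IdealSheafData) (kk : ℕ)
  (hI : Nonempty (ClSub.idealMod I ≅ Twist.twistProjSpace r k (-(kk : ℤ)))) (n : ℤ)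

include hI

theorem hyp_top' (p : ℕ) (hp : m < p) :
    Subsingleton (Coh.HH (CohB1.ProjSpace r k)
      (CohB1.tensorMod (ClSub.quotMod I) (Twist.twistProjSpace r k n)) p) := by
  subst hr
  exact hyp_top k m I kk hI n p hp

theorem hyp_les' (i j : ℕ) (hj : j = i + 1)
    (ha : i = 0 ∨ Subsingleton (Coh.HH (CohB1.ProjSpace r k)
      (Twist.twistProjSpace r k (n - (kk : ℤ))) i))
    (he : Subsingleton (Coh.HH (CohB1.ProjSpace r k)
        (CohB1.tensorMod (ClSub.quotMod I) (Twist.twistProjSpace r k n)) j) ∨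
      Subsingleton (Coh.HH (CohB1.ProjSpace r k) (Twist.twistProjSpace r k n) j)) :
    Module.Finite k (Coh.HH (CohB1.ProjSpace r k)
        (CohB1.tensorMod (ClSub.quotMod I) (Twist.twistProjSpace r k n)) i) ∧
      Module.finrank k (Coh.HH (CohB1.ProjSpace r k)
          (CohB1.tensorMod (ClSub.quotMod I) (Twist.twistProjSpace r k n)) i) +
        Module.finrank k (Coh.HH (CohB1.ProjSpace r k)
          (Twist.twistProjSpace r k (n - (kk : ℤ))) i) +
        Module.finrank k (Coh.HH (CohB1.ProjSpace r k) (Twist.twistProjSpace r k n) j) =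
      Module.finrank k (Coh.HH (CohB1.ProjSpace r k) (Twist.twistProjSpace r k n) i) +
        Module.finrank k (Coh.HH (CohB1.ProjSpace r k)
          (Twist.twistProjSpace r k (n - (kk : ℤ))) j) := by
  subst hr
  subst hj
  exact hyp_les k m I kk hI n i ha he

end general

end Groth.Agent.H2.HypCoh
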