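import Mathlib
import Groth.Agent.Lib.Helper2.CIntPD
import Groth.Agent.Lib.Helper2.HypCohB
import Groth.Agent.Lib.Helper5.Split.Split1
import Groth.Agent.Lib.Lead.QC.TensorDesc
import Groth.Agent.Lib.Lead.QC.FreeData

/-! Complete intersections in projective space (helper2), part E: the cohomological induction.
For a regular sequence of forms `G_1, …, G_r` of positive degrees in `P = P^n_k`, with
`Q = O_P / (G_1, …, G_r)`: `H^p(P, Q(i)) = 0` for `0 < p < n - r` and all `i`, and
`H^0(P, O(i)) → H^0(P, Q(i))` is surjective if `r < n`. -/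

set_option autoImplicit false
universe u
open CategoryTheory CategoryTheory.Limits AlgebraicGeometry TopologicalSpace Opposite

namespace Groth.Agent.H2.CIP

open Groth.Agent.LD Groth.Agent.LD.QC Twist TW Groth.Agent.H2.HypId Groth.Agent.H5.IntN

variable (n : ℕ) (k : Type u) [Field k]

/-- `O(i) ⟶ O/I ⊗ O(i)`. -/
noncomputable def projTw (I : (Proj (CohB1.polyGrading n k)).IdealSheafData) (i : ℤ) :
    twist (CohB1.polyGrading n k) i ⟶
      CohB1.tensorMod (ClSub.quotMod I) (twist (CohB1.polyGrading n k) i) :=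
  (unitorL' (twist (CohB1.polyGrading n k) i)).inv ≫
    KoszTw.tensorMap (ClSub.toSubscheme I) (𝟙 (twist (CohB1.polyGrading n k) i))

/-- vanishing of the middle cohomology of all twists of `O/I`, `I` of "codimension" `c`. -/
def VanP (I : (Proj (CohB1.polyGrading n k)).IdealSheafData) (c : ℕ) : Prop :=
  ∀ (i : ℤ) (p : ℕ), 0 < p → p + c < n →
    Subsingleton (Coh.HH (Proj (CohB1.polyGrading n k))
      (CohB1.tensorMod (ClSub.quotMod I) (twist (CohB1.polyGrading n k) i)) p)

/-- global sections of all twists of `O/I` lift to `O(i)`. -/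
def SurjP (I : (Proj (CohB1.polyGrading n k)).IdealSheafData) : Prop :=
  ∀ (i : ℤ) (τ : unitMod (Proj (CohB1.polyGrading n k)) ⟶
      CohB1.tensorMod (ClSub.quotMod I) (twist (CohB1.polyGrading n k) i)),
    ∃ t : unitMod (Proj (CohB1.polyGrading n k)) ⟶ twist (CohB1.polyGrading n k) i,
      t ≫ projTw n k I i = τ

variable {n k}

theorem isIso_toSubscheme_bot :
    IsIso (ClSub.toSubscheme (⊥ : (Proj (CohB1.polyGrading n k)).IdealSheafData)) :=
  (Groth.Agent.H5.DegC.shortExact_idealMod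
    (⊥ : (Proj (CohB1.polyGrading n k)).IdealSheafData)).isIso_g_iff.mpr
    (show IsZero (ClSub.idealMod (⊥ : (Proj (CohB1.polyGrading n k)).IdealSheafData)) from
      Groth.Agent.H7.UTCon.isZero_idealMod_bot _)

theorem vanP_bot : VanP n k ⊥ 0 := by
  intro i p hp hpn
  have := isIso_toSubscheme_bot (n := n) (k := k)
  have e : twist (CohB1.polyGrading n k) i ≅
      CohB1.tensorMod (ClSub.quotMod (⊥ : (Proj (CohB1.polyGrading n k)).IdealSheafData))
        (twist (CohB1.polyGrading n k) i) :=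
    (unitorL' (twist (CohB1.polyGrading n k) i)).symm ≪≫
      tensorIso' (asIso (ClSub.toSubscheme (⊥ : (Proj (CohB1.polyGrading n k)).IdealSheafData)))
        (Iso.refl _)
  refine CL.subsingleton_of_iso e p ?_
  exact PN.subsingleton_HH_twist_all n k i p (fun h => by omega) (fun h => by omega)

theorem isIso_projTw_bot (i : ℤ) : IsIso (projTw n k ⊥ i) := by
  have := isIso_toSubscheme_bot (n := n) (k := k)
  unfold projTw
  have h2 : IsIso (KoszTw.tensorMap
      (ClSub.toSubscheme (⊥ : (Proj (CohB1.polyGrading n k)).IdealSheafData))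
      (𝟙 (twist (CohB1.polyGrading n k) i))) :=
    (tensorIso' (asIso (ClSub.toSubscheme (⊥ : (Proj (CohB1.polyGrading n k)).IdealSheafData)))
      (Iso.refl (twist (CohB1.polyGrading n k) i))).isIso_hom
  infer_instance

theorem surjP_bot : SurjP n k ⊥ := by
  intro i τ
  have := isIso_projTw_bot (n := n) (k := k) i
  exact ⟨τ ≫ inv (projTw n k ⊥ i), by rw [Category.assoc, IsIso.inv_hom_id, Category.comp_id]⟩

end Groth.Agent.H2.CIP

namespace Groth.Agent.H2.CIP

open Groth.Agent.LD Groth.Agent.LD.QC Twist TW Groth.Agent.H2.HypId Groth.Agent.H5.IntN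

variable {n : ℕ} {k : Type u} [Field k]

section step

variable (I₀ H : (Proj (CohB1.polyGrading n k)).IdealSheafData) (a : ℕ)
  (eH : ClSub.idealMod H ≅ twist (CohB1.polyGrading n k) (-(a : ℤ)))

/-- `(O/I₀ ⊗ I_H) ⊗ O(i) ≅ O/I₀ ⊗ O(i - a)`. -/
noncomputable def firstIso (i : ℤ) :
    CohB1.tensorMod (CohB1.tensorMod (ClSub.quotMod I₀) (ClSub.idealMod H))
      (twist (CohB1.polyGrading n k) i) ≅
    CohB1.tensorMod (ClSub.quotMod I₀) (twist (CohB1.polyGrading n k) (i - a)) :=
  tensorAssoc (ClSub.quotMod I₀) (ClSub.idealMod H) (twist (CohB1.polyGrading n k) i) ≪≫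
    tensorIso' (Iso.refl _)
      (tensorIso' eH (Iso.refl _) ≪≫ PN.twistMulIso n k (-(a : ℤ)) i (i - a) (by ring))

variable (w : twistInclR (ClSub.quotMod I₀) H ≫ quotMap (le_sup_left : I₀ ≤ I₀ ⊔ H) = 0)
  (hS : (ShortComplex.mk (twistInclR (ClSub.quotMod I₀) H) (quotMap le_sup_left) w).ShortExact)

include eH hS

theorem vanP_step (c : ℕ) (h : VanP n k I₀ c) : VanP n k (I₀ ⊔ H) (c + 1) := by
  intro i p hp hpc
  have hS_i := shortExact_tensorMap_of_isInvertible hS (twist (CohB1.polyGrading n k) i)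
    (PN.isInvertible_twist n k i)
  exact CL.subsingleton_right hS_i p (h i p hp (by omega))
    (CL.subsingleton_of_iso (firstIso I₀ H a eH i).symm (p + 1)
      (h (i - a) (p + 1) (by omega) (by omega)))

omit eH hS in
theorem projTw_comp (i : ℤ) :
    projTw n k I₀ i ≫ KoszTw.tensorMap (quotMap (le_sup_left : I₀ ≤ I₀ ⊔ H))
      (𝟙 (twist (CohB1.polyGrading n k) i)) = projTw n k (I₀ ⊔ H) i := by
  unfold projTw
  rw [Category.assoc, ← tensorMap_comp_id, toSubscheme_quotMap]

theorem surjP_step (c : ℕ) (hc : c + 2 ≤ n) (h : VanP n k I₀ c) (hs : SurjP n k I₀) :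
    SurjP n k (I₀ ⊔ H) := by
  intro i τ
  have hS_i := shortExact_tensorMap_of_isInvertible hS (twist (CohB1.polyGrading n k) i)
    (PN.isInvertible_twist n k i)
  have h1 : Subsingleton (Coh.HH (Proj (CohB1.polyGrading n k))
      (CohB1.tensorMod (CohB1.tensorMod (ClSub.quotMod I₀) (ClSub.idealMod H))
        (twist (CohB1.polyGrading n k) i)) 1) :=
    CL.subsingleton_of_iso (firstIso I₀ H a eH i).symm 1
      (h (i - a) 1 Nat.one_pos (by omega))
  obtain ⟨τ₀, hτ₀⟩ := Groth.Agent.H5.Split.exists_lift_of_H1 k hS_i h1 τ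
  obtain ⟨t, ht⟩ := hs i τ₀
  refine ⟨t, ?_⟩
  rw [← projTw_comp I₀ H i, ← Category.assoc, ht]
  exact hτ₀

end step

/-- **the cohomological induction for complete intersections in `P^n_k`.** -/
theorem vanP_surjP_ciI : ∀ (r : ℕ) (a : Fin r → ℕ) (G : ∀ j, LefPen.Form n k (a j)),
    (∀ j, 1 ≤ a j) → RegSeq G →
      VanP n k (ciI G) r ∧ (r + 1 ≤ n → SurjP n k (ciI G)) := by
  intro r
  induction r with
  | zero =>
    intro a G _ _
    rw [ciI_zero]
    exact ⟨vanP_bot, fun _ => surjP_bot⟩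
  | succ r ih =>
    intro a G ha hreg
    obtain ⟨hv, hs⟩ := ih (fun j => a j.castSucc) (fun j => G j.castSucc)
      (fun j => ha j.castSucc) hreg.init
    obtain ⟨w, hS⟩ := shortExact_step G ha hreg
    obtain ⟨eH⟩ := nonempty_idealMod_hypIdeal_iso n k (G (Fin.last r))
      (hreg.ne_zero ha (Fin.last r))
    rw [ciI_succ]
    exact ⟨vanP_step _ _ (a (Fin.last r)) eH w hS r hv,
      fun hn => surjP_step _ _ (a (Fin.last r)) eH w hS r (by omega) hv (hs (by omega))⟩

end Groth.Agent.H2.CIP
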