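import Mathlib
import Groth.Agent.Lib.Helper2.CIntPD
import Groth.Agent.Lib.Helper2.CInt1
import Groth.Agent.Lib.Helper2.ProjDimDict
import Groth.Agent.Lib.Helper8.ProjTilde.StrSheaf

/-! Complete intersections in projective space (helper2), part F: the support of the complete
intersection ideal, the dimension of the subscheme in terms of the graded ring, and regularity of
the sequence of forms from the dimension hypothesis. -/

set_option autoImplicit false
universe u
open CategoryTheory CategoryTheory.Limits AlgebraicGeometry TopologicalSpace Opposite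

namespace Groth.Agent.H2.CIP

open Groth.Agent.LD Groth.Agent.LD.QC Twist TW Groth.Agent.H2.HypId

variable {n : ℕ} {k : Type u} [Field k]

/-- the non-vanishing locus of `G / T_i^d` on the chart `D_+(T_i)`. -/
theorem basicOpen_dh {d : ℕ} (G : LefPen.Form n k d) (i : Fin (n + 1)) :
    (Proj (CohB1.polyGrading n k)).basicOpen (dh G i) =
      ch n k i ⊓ Proj.basicOpen (CohB1.polyGrading n k) G.1 :=
  Groth.Agent.H8.ProjTilde.basicOpen_eq_of_frac (CohB1.polyGrading n k) (dh G i) d G.1
    (fun _ => rfl)

/-- **the support of the complete intersection ideal** is the common zero locus of the forms. -/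
theorem mem_support_ciI_iff {ι : Type} {a : ι → ℕ} (G : ∀ j, LefPen.Form n k (a j))
    (x : Proj (CohB1.polyGrading n k)) :
    x ∈ (ciI G).support ↔ ∀ j, (G j).1 ∈ x.asHomogeneousIdeal := by
  have hcov : (⨆ i : Fin (n + 1), ch n k i) = ⊤ := iSup_chart n k
  have hx : x ∈ ⨆ i : Fin (n + 1), ch n k i := by
    rw [hcov]
    trivial
  obtain ⟨i, hi⟩ := Opens.mem_iSup.mp hx
  rw [Scheme.IdealSheafData.mem_support_iff_of_mem (U := chA n k i) hi, ciI_ideal_chart,
    Scheme.zeroLocus_span, Scheme.mem_zeroLocus_iff]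
  constructor
  · intro h j
    have h1 := h _ ⟨j, rfl⟩
    rw [basicOpen_dh] at h1
    by_contra hG
    exact h1 ⟨hi, hG⟩
  · rintro h _ ⟨j, rfl⟩
    rw [basicOpen_dh]
    rintro ⟨-, hG⟩
    exact hG (h j)

end Groth.Agent.H2.CIP

namespace Groth.Agent.H2.CIP

open Groth.Agent.LD Groth.Agent.LD.QC Twist TW Groth.Agent.H2.HypId

variable {n : ℕ} {k : Type u} [Field k]

theorem range_subschemeι_ciI {ι : Type} {a : ι → ℕ} (G : ∀ j, LefPen.Form n k (a j)) :
    Set.range (ciI G).subschemeι =
      ProjectiveSpectrum.zeroLocus (CohB1.polyGrading n k)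
        ((Ideal.span (Set.range fun j => (G j).1) : Ideal (MvPolynomial (Fin (n + 1)) k)) :
          Set (MvPolynomial (Fin (n + 1)) k)) := by
  rw [Scheme.IdealSheafData.range_subschemeι]
  ext x
  constructor
  · intro hx
    have h := (mem_support_ciI_iff G x).mp hx
    have h2 : Ideal.span (Set.range fun j => (G j).1) ≤
        (show ProjectiveSpectrum (CohB1.polyGrading n k) from x).asHomogeneousIdeal.toIdeal := by
      rw [Ideal.span_le]
      rintro _ ⟨j, rfl⟩
      exact h j
    exact h2
  · intro hx
    refine (mem_support_ciI_iff G x).mpr (fun j => ?_)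
    have h2 : Ideal.span (Set.range fun j => (G j).1) ≤
        (show ProjectiveSpectrum (CohB1.polyGrading n k) from x).asHomogeneousIdeal.toIdeal := hx
    exact h2 (Ideal.subset_span ⟨j, rfl⟩)

/-- the dimension of the complete intersection subscheme is the dimension of the zero locus in
the projective spectrum. -/
theorem dim_subscheme_ciI {ι : Type} {a : ι → ℕ} (G : ∀ j, LefPen.Form n k (a j)) :
    topologicalKrullDim ↥(ciI G).subscheme =
      topologicalKrullDim ↥(ProjectiveSpectrum.zeroLocus (CohB1.polyGrading n k)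
        ((Ideal.span (Set.range fun j => (G j).1) : Ideal (MvPolynomial (Fin (n + 1)) k)) :
          Set (MvPolynomial (Fin (n + 1)) k))) := by
  have hemb : Topology.IsEmbedding ⇑(ciI G).subschemeι :=
    (ciI G).subschemeι.isClosedEmbedding.isEmbedding
  rw [← range_subschemeι_ciI]
  exact IsHomeomorph.topologicalKrullDim_eq _ hemb.toHomeomorph.isHomeomorph

end Groth.Agent.H2.CIP

namespace Groth.Agent.H2.CIP

open Groth.Agent.LD Groth.Agent.LD.QC Twist TW Groth.Agent.H2.HypId Groth.Agent.H2.ProjDim

variable {n : ℕ} {k : Type u} [Field k]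

theorem span_forms_isHomogeneous {ι : Type} {a : ι → ℕ} (G : ∀ j, LefPen.Form n k (a j)) :
    (Ideal.span (Set.range fun j => (G j).1)).IsHomogeneous (CohB1.polyGrading n k) := by
  apply Ideal.homogeneous_span
  rintro _ ⟨j, rfl⟩
  exact ⟨a j, (G j).2⟩

theorem topologicalKrullDim_eq_bot_of_isEmpty (Z : Type*) [TopologicalSpace Z] [IsEmpty Z] :
    topologicalKrullDim Z = ⊥ := by
  haveI : IsEmpty (IrreducibleCloseds Z) :=
    ⟨fun c => IsEmpty.false c.isIrreducible.nonempty.some⟩
  exact Order.krullDim_eq_bot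

/-- the dimension of the graded quotient ring. -/
theorem ringKrullDim_quotient_forms {ι : Type} {a : ι → ℕ} (G : ∀ j, LefPen.Form n k (a j))
    (d : ℕ) (hdim : topologicalKrullDim ↥(ciI G).subscheme = (d : WithBot ℕ∞)) :
    ringKrullDim (MvPolynomial (Fin (n + 1)) k ⧸ Ideal.span (Set.range fun j => (G j).1)) =
      ((d + 1 : ℕ) : WithBot ℕ∞) := by
  rw [dim_subscheme_ciI] at hdim
  have hne : (ProjectiveSpectrum.zeroLocus (CohB1.polyGrading n k)
      ((Ideal.span (Set.range fun j => (G j).1) : Ideal (MvPolynomial (Fin (n + 1)) k)) :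
        Set (MvPolynomial (Fin (n + 1)) k))).Nonempty := by
    by_contra hempty
    rw [Set.not_nonempty_iff_eq_empty] at hempty
    rw [hempty] at hdim
    rw [topologicalKrullDim_eq_bot_of_isEmpty] at hdim
    exact WithBot.bot_ne_coe hdim
  have h1 := topologicalKrullDim_zeroLocus_add_one (k := k) (CohB1.polyGrading n k)
    (mvPolynomial_h0 k (Fin (n + 1))) _ (span_forms_isHomogeneous G) hne
  rw [hdim] at h1
  rw [← h1]
  push_cast
  rfl

/-- **a family of forms of positive degrees cutting out a subscheme of the expected dimension is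
a regular sequence.** -/
theorem regSeq_of_dim {r : ℕ} {a : Fin r → ℕ} (G : ∀ j, LefPen.Form n k (a j))
    (ha : ∀ j, 1 ≤ a j) (hr : r ≤ n)
    (hdim : topologicalKrullDim ↥(ciI G).subscheme = ((n - r : ℕ) : WithBot ℕ∞)) : RegSeq G := by
  apply regSeq_of_isWeaklyRegular
  refine Groth.Agent.H2.CInt.isWeaklyRegular_of_dim (F := k) (k := n + 1)
    (1 : Fin (n + 1) → ℕ) (fun _ => one_pos) (fun j => (G j).1) a (fun j => ha j)
    (fun j => (MvPolynomial.mem_homogeneousSubmodule _ _).mp (G j).2) ?_
  rw [ringKrullDim_quotient_forms G (n - r) hdim]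
  have : n - r + 1 + r ≤ n + 1 := by omega
  exact_mod_cast this

end Groth.Agent.H2.CIP
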