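import Mathlib
import Groth.Agent.Lib.Helper2.CIntPE
import Groth.Agent.Lib.Helper2.CIntPF
import Groth.Agent.Lib.Lead.PN.ClosedSub

/-! Complete intersections in projective space (helper2), part G: the middle cohomology of the
restrictions of the `O(i)` to a complete intersection vanishes. -/

set_option autoImplicit false
universe u
open CategoryTheory CategoryTheory.Limits AlgebraicGeometry TopologicalSpace Opposite

namespace Groth.Agent.H2.CIP

open Groth.Agent.LD Groth.Agent.LD.QC Twist TW Groth.Agent.H2.HypId

variable {n : ℕ} {k : Type u} [Field k]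

/-- the cohomology of `ι^* O(i)` on the closed subscheme of an ideal sheaf `I` vanishes as soon as
that of `O/I ⊗ O(i)` does. -/
theorem subsingleton_HH_pullback_twist (I : (Proj (CohB1.polyGrading n k)).IdealSheafData)
    (i : ℤ) (p : ℕ)
    (h : Subsingleton (Coh.HH (Proj (CohB1.polyGrading n k))
      (CohB1.tensorMod (ClSub.quotMod I) (twist (CohB1.polyGrading n k) i)) p)) :
    Subsingleton (Coh.HH I.subscheme
      ((Scheme.Modules.pullback I.subschemeι).obj (twist (CohB1.polyGrading n k) i)) p) := by
  have h1 : Subsingleton (Coh.HH I.subscheme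
      (PN.twOn n k I.subschemeι (Coh.structureModule I.subscheme) i) p) :=
    (PN.subsingleton_HH_twOn_iff n k I.subschemeι (Coh.structureModule I.subscheme) i p).mpr h
  exact CL.subsingleton_of_iso
    (unitorL' ((Scheme.Modules.pullback I.subschemeι).obj (twist (CohB1.polyGrading n k) i))) p h1

/-- **S14332**: vanishing of the middle cohomology of `O_X(i)` for a complete intersection. -/
theorem subsingleton_HH_ci {r : ℕ} (hr : r ≤ n) {a : Fin r → ℕ} (ha : ∀ j, 1 ≤ a j)
    (G : ∀ j, LefPen.Form n k (a j))
    (hdim : topologicalKrullDim ↥(ciI G).subscheme = ((n - r : ℕ) : WithBot ℕ∞))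
    (i : ℤ) (p : ℕ) (hp : 0 < p) (hpn : p < n - r) :
    Subsingleton (Coh.HH (ciI G).subscheme
      ((Scheme.Modules.pullback (ciI G).subschemeι).obj (twist (CohB1.polyGrading n k) i)) p) := by
  have hreg := regSeq_of_dim G ha hr hdim
  obtain ⟨hv, -⟩ := vanP_surjP_ciI r a G ha hreg
  exact subsingleton_HH_pullback_twist (ciI G) i p (hv i p hp (by omega))

end Groth.Agent.H2.CIP
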