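import Mathlib
import Groth.Agent.Lib.Helper2.CIntPG
import Groth.Agent.Lib.Lead.QC.ProjFormula
import Groth.Agent.Lib.Lead.QC.FreeHom

/-! Complete intersections in projective space (helper2), part H: restriction of global sections of
`O(i)` to a complete intersection of dimension `≥ 1` is surjective. -/

set_option autoImplicit false
universe u
open CategoryTheory CategoryTheory.Limits AlgebraicGeometry TopologicalSpace Opposite

namespace Groth.Agent.H2.CIP

open Groth.Agent.LD Groth.Agent.LD.QC Twist TW Groth.Agent.H2.HypId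

section general

variable {Y : Scheme.{u}} (I : Y.IdealSheafData) (M : Y.Modules)

/-- the comparison `O/I ⊗ M ⟶ ι_* ι^* M`. -/
noncomputable def quotTensorToPush :
    CohB1.tensorMod (ClSub.quotMod I) M ⟶
      (Scheme.Modules.pushforward I.subschemeι).obj
        ((Scheme.Modules.pullback I.subschemeι).obj M) :=
  projHom I.subschemeι (Coh.structureModule I.subscheme) M ≫
    (Scheme.Modules.pushforward I.subschemeι).map
      (unitorL' ((Scheme.Modules.pullback I.subschemeι).obj M)).hom

theorem isIso_quotTensorToPush (hM : PicF.IsInvertible M) : IsIso (quotTensorToPush I M) := by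
  have := isIso_projHom I.subschemeι (Coh.structureModule I.subscheme) M hM
  unfold quotTensorToPush
  infer_instance

/-- the unit `M ⟶ ι_* ι^* M` factors through `M ⟶ O/I ⊗ M`. -/
theorem unit_eq_comp (hM : PicF.IsInvertible M) :
    (Scheme.Modules.pullbackPushforwardAdjunction I.subschemeι).unit.app M =
      (unitorL' M).inv ≫ KoszTw.tensorMap (ClSub.toSubscheme I) (𝟙 M) ≫ quotTensorToPush I M := by
  rw [Iso.eq_inv_comp]
  apply hom_ext_tmul_of_isInvertible hM
  intro V s m
  have h1 : (unitorL' M).hom.app V (SecTwist.tmul (unitMod Y) M V s m) = (show Γ(Y, V) from s) • m :=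
    unitorL'_hom_app_tmul M V s m
  have h2 := KoszTw.tensorMap_tmul (ClSub.toSubscheme I) (𝟙 M) V s m
  rw [Scheme.Modules.Hom.comp_app, Scheme.Modules.Hom.comp_app, ConcreteCategory.comp_apply,
    ConcreteCategory.comp_apply, h1, h2]
  unfold quotTensorToPush
  rw [Scheme.Modules.Hom.comp_app, ConcreteCategory.comp_apply, projHom_app_tmul]
  change unitSec I.subschemeι M V ((show Γ(Y, V) from s) • m) =
    (unitorL' ((Scheme.Modules.pullback I.subschemeι).obj M)).hom.app (I.subschemeι ⁻¹ᵁ V)
      (SecTwist.tmul (unitMod I.subscheme) ((Scheme.Modules.pullback I.subschemeι).obj M)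
        (I.subschemeι ⁻¹ᵁ V) (I.subschemeι.app V s) (unitSec I.subschemeι M V m))
  rw [unitSec_smul, unitorL'_hom_app_tmul]

end general

variable {n : ℕ} {k : Type u} [Field k]

theorem surjective_unit_of_surjP (I : (Proj (CohB1.polyGrading n k)).IdealSheafData) (i : ℤ)
    (hs : SurjP n k I) :
    Function.Surjective (((Scheme.Modules.pullbackPushforwardAdjunction I.subschemeι).unit.app
      (twist (CohB1.polyGrading n k) i)).app ⊤) := by
  intro x
  have hiso := isIso_quotTensorToPush I (twist (CohB1.polyGrading n k) i)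
    (PN.isInvertible_twist n k i)
  obtain ⟨t, ht⟩ := hs i (homOfSection _
    ((inv (quotTensorToPush I (twist (CohB1.polyGrading n k) i))).app ⊤ x))
  refine ⟨sectionOfHom t, ?_⟩
  have hu : (Scheme.Modules.pullbackPushforwardAdjunction I.subschemeι).unit.app
      (twist (CohB1.polyGrading n k) i) =
      projTw n k I i ≫ quotTensorToPush I (twist (CohB1.polyGrading n k) i) := by
    rw [unit_eq_comp I _ (PN.isInvertible_twist n k i), projTw, Category.assoc]
  have h1 : (projTw n k I i).app ⊤ (sectionOfHom t) =
      (inv (quotTensorToPush I (twist (CohB1.polyGrading n k) i))).app ⊤ x := by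
    have h := sectionOfHom_homOfSection _
      ((inv (quotTensorToPush I (twist (CohB1.polyGrading n k) i))).app ⊤ x)
    rw [← ht] at h
    exact h
  rw [hu, Scheme.Modules.Hom.comp_app, ConcreteCategory.comp_apply, h1,
    ← ConcreteCategory.comp_apply, ← Scheme.Modules.Hom.comp_app, IsIso.inv_hom_id]
  rfl

/-- **S14333**: `H^0(P, O(i)) → H^0(X, O_X(i))` is surjective for a complete intersection of
dimension at least one. -/
theorem surjective_unit_ci {r : ℕ} (hr : r ≤ n) {a : Fin r → ℕ} (ha : ∀ j, 1 ≤ a j)
    (G : ∀ j, LefPen.Form n k (a j))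
    (hdim : topologicalKrullDim ↥(ciI G).subscheme = ((n - r : ℕ) : WithBot ℕ∞))
    (h1 : 1 ≤ n - r) (i : ℤ) :
    Function.Surjective (((Scheme.Modules.pullbackPushforwardAdjunction (ciI G).subschemeι).unit.app
      (twist (CohB1.polyGrading n k) i)).app ⊤) := by
  have hreg := regSeq_of_dim G ha hr hdim
  obtain ⟨-, hs⟩ := vanP_surjP_ciI r a G ha hreg
  exact surjective_unit_of_surjP (ciI G) i (hs (by omega))

end Groth.Agent.H2.CIP
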