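import Mathlib
import Groth.Agent.Lib.Helper2.HypIdC
import Groth.Agent.S19434
import Groth.Agent.Lib.Helper5.HensCouple.H
import Groth.Agent.Lib.Helper5.DegC.Cartier
import Groth.Agent.Lib.Helper7.UTCon2
import Groth.Agent.Lib.Lead.CohLES.H0Lin
import Groth.Agent.Lib.Lead.PN.ClosedSub

/-! Cohomology of the structure sheaf of a hypersurface `V_+(G) ⊆ P^r_k` (helper2). -/

set_option autoImplicit false
universe u
open CategoryTheory CategoryTheory.Limits AlgebraicGeometry TopologicalSpace Opposite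

namespace Groth.Agent.H2.HypId

open Groth.Agent.LD

/-- pure algebra: a ring map `φ : K → A` from a field such that `A`, with the `K`-structure
given by `φ`, is one-dimensional, is bijective. -/
theorem bijective_of_finrank_eq_one {K A V : Type*} [Field K] [CommRing A] [AddCommGroup V]
    [Module K V] (φ : K →+* A) (f : V → A) (hf : ∀ (c : K) (x : V), f (c • x) = φ c * f x)
    (hsurj : Function.Surjective f) (hzero : ∀ x, f x = 0 → x = 0)
    (h : Module.finrank K V = 1) : Function.Bijective φ := by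
  obtain ⟨v, hv0, hv⟩ := finrank_eq_one_iff'.mp h
  have hne : f v ≠ 0 := fun h0 => hv0 (hzero v h0)
  haveI : Nontrivial A := ⟨⟨f v, 0, hne⟩⟩
  refine ⟨φ.injective, fun a => ?_⟩
  obtain ⟨x1, hx1⟩ := hsurj 1
  obtain ⟨c1, hc1⟩ := hv x1
  have h1 : φ c1 * f v = 1 := by rw [← hf, hc1, hx1]
  obtain ⟨x2, hx2⟩ := hsurj (a * f v)
  obtain ⟨c2, hc2⟩ := hv x2
  have h2 : φ c2 * f v = a * f v := by rw [← hf, hc2, hx2]
  refine ⟨c2, ?_⟩
  calc φ c2 = φ c2 * (φ c1 * f v) := by rw [h1, mul_one]
    _ = (φ c2 * f v) * φ c1 := by ring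
    _ = a * f v * φ c1 := by rw [h2]
    _ = a * (φ c1 * f v) := by ring
    _ = a := by rw [h1, mul_one]

section StructMap

variable (k : Type u) [Field k] (X : Scheme.{u}) [X.Over (Spec (CommRingCat.of k))]

/-- the structure map `k → Γ(X, O_X)` of a `k`-scheme. -/
noncomputable def structMap : k →+* Γ(X, ⊤) :=
  (X ↘ Spec (CommRingCat.of k)).appTop.hom.comp (Scheme.ΓSpecIso (CommRingCat.of k)).inv.hom

/-- if `H^0(X, O_X)` is one-dimensional over the field `k`, then `k → Γ(X, O_X)` is bijective. -/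
theorem structMap_bijective
    (h : Module.finrank k (Coh.HH X (Coh.structureModule X) 0) = 1) :
    Function.Bijective (structMap k X) := by
  refine bijective_of_finrank_eq_one (structMap k X)
    (fun x => (show Γ(X, ⊤) from CL.HH0Equiv (Coh.structureModule X) x)) ?_ ?_ ?_ h
  · intro c x
    exact CL.HH0Equiv_smul (Coh.structureModule X)
      (Coh.toGlobal (X ↘ Spec (CommRingCat.of k)) c) x
  · exact (CL.HH0Equiv (Coh.structureModule X)).surjective
  · intro x hx
    exact (CL.HH0Equiv (Coh.structureModule X)).injective (hx.trans (map_zero _).symm)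

theorem appTop_bijective (hφ : Function.Bijective (structMap k X)) :
    Function.Bijective (X ↘ Spec (CommRingCat.of k)).appTop.hom := by
  have hb : Function.Bijective (Scheme.ΓSpecIso (CommRingCat.of k)).hom.hom :=
    ConcreteCategory.bijective_of_isIso (Scheme.ΓSpecIso (CommRingCat.of k)).hom
  have happ : ∀ a, (X ↘ Spec (CommRingCat.of k)).appTop.hom a =
      structMap k X ((Scheme.ΓSpecIso (CommRingCat.of k)).hom.hom a) := by
    intro a
    have h1 : (Scheme.ΓSpecIso (CommRingCat.of k)).inv.hom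
        ((Scheme.ΓSpecIso (CommRingCat.of k)).hom.hom a) = a :=
      congrArg (fun ψ => ψ.hom a) (Scheme.ΓSpecIso (CommRingCat.of k)).hom_inv_id
    change _ = (X ↘ Spec (CommRingCat.of k)).appTop.hom _
    rw [h1]
  refine ⟨fun a b hab => hb.1 (hφ.1 ?_), fun y => ?_⟩
  · rw [← happ, ← happ]; exact hab
  · obtain ⟨c, hc⟩ := hφ.2 y
    exact ⟨(Scheme.ΓSpecIso (CommRingCat.of k)).inv.hom c, hc⟩

end StructMap

/-- a scheme whose ring of global functions is a field (the image of a field) is connected. -/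
theorem connectedSpace_of_bijective {K : Type*} [Field K] (X : Scheme.{u})
    (φ : K →+* Γ(X, ⊤)) (hφ : Function.Bijective φ) : ConnectedSpace X := by
  haveI : Nontrivial Γ(X, ⊤) := hφ.1.nontrivial
  rw [connectedSpace_iff_clopen]
  refine ⟨?_, fun s hs => ?_⟩
  · by_contra hne
    rw [not_nonempty_iff] at hne
    have htop : (⊤ : X.Opens) = ⊥ := by
      ext x; exact isEmptyElim x
    have hs : Subsingleton Γ(X, ⊤) := by rw [htop]; infer_instance
    exact false_of_nontrivial_of_subsingleton Γ(X, ⊤)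
  · obtain ⟨e, he, hes⟩ := Groth.Agent.H5.HensCouple.exists_idem_basicOpen_eq hs
    obtain ⟨c, rfl⟩ := hφ.2 e
    have hc : c * c = c := hφ.1 (by rw [map_mul]; exact he)
    rcases eq_or_ne c 0 with h0 | h0
    · left
      rw [← hes, h0, map_zero, Scheme.basicOpen_zero]
      rfl
    · right
      have h1 : c = 1 := mul_left_cancel₀ h0 (by rw [hc, mul_one])
      rw [← hes, h1, map_one, Scheme.basicOpen_one]
      rfl

section Hyp

variable (k : Type u) [Field k] (r : ℕ)

/-- `O_P/I ≅ (O_P/I) ⊗ O(0)`. -/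
noncomputable def quotTwistZeroIso (I : (CohB1.ProjSpace r k).IdealSheafData) :
    ClSub.quotMod I ≅ CohB1.tensorMod (ClSub.quotMod I) (Twist.twistProjSpace r k 0) :=
  (SecTwist.unitorR (ClSub.quotMod I)).symm ≪≫
    QC.tensorIso' (Iso.refl (ClSub.quotMod I))
      (show Coh.structureModule (CohB1.ProjSpace r k) ≅ Twist.twistProjSpace r k 0 from
        (TW.twistZeroIso (CohB1.polyGrading r k)).symm)

/-- the zero form cuts out everything. -/
theorem hypIdeal_zero (d : ℕ) : LefPen.hypIdeal (0 : LefPen.Form r k d) = ⊥ := by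
  refine (hypIdeal_eq r k (0 : LefPen.Form r k d)).trans ?_
  change (QC.idealOfHom (Twist.twist (CohB1.polyGrading r k) (-(d : ℤ)))
    (psi r k (0 : LefPen.Form r k d)) : (Proj (CohB1.polyGrading r k)).IdealSheafData) =
      (⊥ : (Proj (CohB1.polyGrading r k)).IdealSheafData)
  rw [eq_bot_iff, Scheme.IdealSheafData.le_def]
  intro U s hs
  obtain ⟨t, rfl⟩ := (QC.mem_idealOfHom_iff (X := Proj (CohB1.polyGrading r k))
    (Twist.twist (CohB1.polyGrading r k) (-(d : ℤ))) (psi r k (0 : LefPen.Form r k d)) U s).mp hs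
  rw [Scheme.IdealSheafData.ideal_bot]
  change _ = 0
  apply O_ext
  intro y
  rw [psi_val, TW.globalOf_val]
  have h0 : ((0 : LefPen.Form r k d) : MvPolynomial (Fin (r + 1)) k) = 0 := rfl
  rw [h0, Localization.mk_zero, zero_mul]
  exact HomogeneousLocalization.val_zero.symm

variable (I : (CohB1.ProjSpace r k).IdealSheafData)
  [inst : I.subscheme.Over (Spec (CommRingCat.of k))]
  (hinst : I.subscheme ↘ Spec (CommRingCat.of k) = I.subschemeι ≫ CohB1.ProjSpace.toSpec r k)

include hinst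

/-- transfer of the cohomology of `O_X`, `X = V(I)`, to `P^r`. -/
theorem exists_equiv_of_iso (M : (CohB1.ProjSpace r k).Modules) (e : ClSub.quotMod I ≅ M) (p : ℕ) :
    Nonempty (Coh.HH I.subscheme (Coh.structureModule I.subscheme) p ≃ₗ[k]
      Coh.HH (CohB1.ProjSpace r k) M p) := by
  haveI : I.subschemeι.IsOver (Spec (CommRingCat.of k)) := ⟨hinst.symm⟩
  exact ⟨(CL.HHpushEquiv I.subschemeι k (Coh.structureModule I.subscheme) p).trans
    (CL.HHisoEquiv k e p)⟩

/-- **cohomology of the structure sheaf of a hypersurface of degree `deg ≥ 1` in `P^{m+1}`.** -/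
theorem hyp_struct (m : ℕ) (hr : r = m + 1) (hm : 1 ≤ m) (deg : ℕ) (hdeg : 1 ≤ deg)
    (hI : Nonempty (ClSub.idealMod I ≅ Twist.twistProjSpace r k (-(deg : ℤ)))) :
    (∀ p : ℕ, p ≠ 0 → p ≠ m →
      Subsingleton (Coh.HH I.subscheme (Coh.structureModule I.subscheme) p)) ∧
    Module.finrank k (Coh.HH I.subscheme (Coh.structureModule I.subscheme) 0) = 1 ∧
    Module.Finite k (Coh.HH I.subscheme (Coh.structureModule I.subscheme) m) ∧
    Module.finrank k (Coh.HH I.subscheme (Coh.structureModule I.subscheme) m) =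
      Nat.choose (deg - 1) r := by
  subst hr
  obtain ⟨h1, ⟨_, h0⟩, ⟨hfm, hmm⟩⟩ := Groth.Agent.S19434.result k m deg hm hdeg I hI 0
  have E := fun p => exists_equiv_of_iso k (m + 1) I hinst _ (quotTwistZeroIso k (m + 1) I) p
  refine ⟨fun p hp0 hpm => ?_, ?_, ?_, ?_⟩
  · obtain ⟨e⟩ := E p
    haveI := h1 p hp0 hpm
    exact e.toEquiv.subsingleton
  · obtain ⟨e⟩ := E 0
    rw [e.finrank_eq, h0]
    have a1 : ((0 : ℤ) + ((m : ℤ) + 1)).toNat = m + 1 := by omega
    have a2 : ((0 : ℤ) - (deg : ℤ) + ((m : ℤ) + 1)).toNat < m + 1 := by omega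
    rw [a1, Nat.choose_self, Nat.choose_eq_zero_of_lt a2]
  · obtain ⟨e⟩ := E m
    haveI := hfm
    exact Module.Finite.equiv e.symm
  · obtain ⟨e⟩ := E m
    rw [e.finrank_eq, hmm]
    have a1 : (((deg : ℤ) - 2 - (m : ℤ) - 0) + ((m : ℤ) + 1)).toNat = deg - 1 := by omega
    have a2 : (((deg : ℤ) - 2 - (m : ℤ) - 0) - (deg : ℤ) + ((m : ℤ) + 1)).toNat = 0 := by omega
    rw [a1, a2, Nat.choose_zero_succ, Nat.sub_zero]

/-- the case of the zero ideal: `X = P^r`. -/
theorem zero_struct (m : ℕ) (hr : r = m + 1) (hI0 : I = ⊥) :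
    (∀ p : ℕ, p ≠ 0 →
      Subsingleton (Coh.HH I.subscheme (Coh.structureModule I.subscheme) p)) ∧
    Module.finrank k (Coh.HH I.subscheme (Coh.structureModule I.subscheme) 0) = 1 := by
  subst hI0
  haveI : IsIso (ClSub.toSubscheme (⊥ : (CohB1.ProjSpace r k).IdealSheafData)) :=
    (Groth.Agent.H5.DegC.shortExact_idealMod
      (⊥ : (CohB1.ProjSpace r k).IdealSheafData)).isIso_g_iff.mpr
      (show IsZero (ClSub.idealMod (⊥ : (CohB1.ProjSpace r k).IdealSheafData)) from
        Groth.Agent.H7.UTCon.isZero_idealMod_bot _)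
  have e : ClSub.quotMod (⊥ : (CohB1.ProjSpace r k).IdealSheafData) ≅
      Twist.twistProjSpace r k 0 :=
    (asIso (ClSub.toSubscheme (⊥ : (CohB1.ProjSpace r k).IdealSheafData))).symm ≪≫
      (show Coh.structureModule (CohB1.ProjSpace r k) ≅ Twist.twistProjSpace r k 0 from
        (TW.twistZeroIso (CohB1.polyGrading r k)).symm)
  have E := fun p => exists_equiv_of_iso k r ⊥ hinst _ e p
  refine ⟨fun p hp => ?_, ?_⟩
  · obtain ⟨e'⟩ := E p
    haveI : Subsingleton (Coh.HH (CohB1.ProjSpace r k) (Twist.twistProjSpace r k 0) p) :=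
      PN.subsingleton_HH_twist_all r k 0 p (fun h => hp h.1) (fun h => by
        have := h.2
        omega)
    exact e'.toEquiv.subsingleton
  · obtain ⟨e'⟩ := E 0
    rw [e'.finrank_eq, HypCoh.finrank_H0_twist' k r m hr 0]
    have a1 : ((0 : ℤ) + (r : ℤ)).toNat = r := by omega
    rw [a1, Nat.choose_self]

end Hyp

/-- **plane curves** (the statement of S7840). -/
theorem planeCurve (k : Type u) [Field k] (d : ℕ) (hd : 1 ≤ d) (G : LefPen.Form 2 k d)
    (hG : G ≠ 0) [inst : ((LefPen.hypIdeal G).subscheme).Over (Spec (CommRingCat.of k))]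
    (hinst : (LefPen.hypIdeal G).subscheme ↘ (Spec (CommRingCat.of k)) =
      (LefPen.hypIdeal G).subschemeι ≫ CohB1.ProjSpace.toSpec 2 k) :
    Module.finrank k (Coh.HH (LefPen.hypIdeal G).subscheme
        (Coh.structureModule (LefPen.hypIdeal G).subscheme) 0) = 1 ∧
      ConnectedSpace ↥((LefPen.hypIdeal G).subscheme) ∧
      Module.finrank k (Coh.HH (LefPen.hypIdeal G).subscheme
        (Coh.structureModule (LefPen.hypIdeal G).subscheme) 1) = (d - 1) * (d - 2) / 2 := by
  obtain ⟨_, h0, _, h1⟩ := hyp_struct k 2 (LefPen.hypIdeal G) hinst 1 rfl le_rfl d hd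
    (nonempty_idealMod_hypIdeal_iso 2 k G hG)
  refine ⟨h0, ?_, ?_⟩
  · exact connectedSpace_of_bijective _ (structMap k (LefPen.hypIdeal G).subscheme)
      (structMap_bijective k _ h0)
  · rw [h1, Nat.choose_two_right]
    rfl

/-- **quadrics** (the statement of S8731, without the smoothness hypothesis). -/
theorem quadric (k : Type u) [Field k] (n : ℕ) (hn : 1 ≤ n) (Q : LefPen.Form (n + 1) k 2) :
    (∀ i : ℕ, 1 ≤ i → Subsingleton (Coh.HH (LefPen.hypIdeal Q).subscheme
        (Coh.structureModule (LefPen.hypIdeal Q).subscheme) i)) ∧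
      Function.Bijective
        ((LefPen.hypIdeal Q).subschemeι ≫ CohB1.ProjSpace.toSpec (n + 1) k).appTop.hom := by
  letI inst : (LefPen.hypIdeal Q).subscheme.Over (Spec (CommRingCat.of k)) :=
    ⟨(LefPen.hypIdeal Q).subschemeι ≫ CohB1.ProjSpace.toSpec (n + 1) k⟩
  have hinst : (LefPen.hypIdeal Q).subscheme ↘ Spec (CommRingCat.of k) =
      (LefPen.hypIdeal Q).subschemeι ≫ CohB1.ProjSpace.toSpec (n + 1) k := rfl
  have key : (∀ p : ℕ, p ≠ 0 → Subsingleton (Coh.HH (LefPen.hypIdeal Q).subscheme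
        (Coh.structureModule (LefPen.hypIdeal Q).subscheme) p)) ∧
      Module.finrank k (Coh.HH (LefPen.hypIdeal Q).subscheme
        (Coh.structureModule (LefPen.hypIdeal Q).subscheme) 0) = 1 := by
    by_cases hQ : Q = 0
    · exact zero_struct k (n + 1) (LefPen.hypIdeal Q) hinst n rfl
        (by rw [hQ]; exact hypIdeal_zero k (n + 1) 2)
    · obtain ⟨h1, h0, hf, ht⟩ := hyp_struct k (n + 1) (LefPen.hypIdeal Q) hinst n rfl hn 2
        (by norm_num) (nonempty_idealMod_hypIdeal_iso (n + 1) k Q hQ)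
      refine ⟨fun p hp => ?_, h0⟩
      by_cases hpn : p = n
      · rw [hpn]
        haveI := hf
        exact Module.finrank_zero_iff.1 (ht.trans (Nat.choose_eq_zero_of_lt (by omega)))
      · exact h1 p hp hpn
  refine ⟨fun i hi => key.1 i (by omega), ?_⟩
  exact appTop_bijective k (LefPen.hypIdeal Q).subscheme (structMap_bijective k _ key.2)

end Groth.Agent.H2.HypId
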