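import Groth.Agent.Lib.Helper2.LerayEdge
import Groth.Agent.Lib.Lead.FBC.Setup
import Groth.Agent.Lib.Lead.SC.LerayDeg
import Groth.Agent.Lib.Lead.SC.Global

/-! # The `A`-linear degenerate Leray isomorphism `H^n(Y, π_* G) ≃ H^n(X, G)`. -/

universe u
open CategoryTheory Limits Opposite AlgebraicGeometry TopologicalSpace

namespace Groth.Agent.H2.Leray

open Groth.Agent.LD

variable {X Y : Scheme.{u}} (π : X ⟶ Y)

/-- `ℤ_X ≅ π⁻¹ ℤ_Y`. -/
noncomputable def constIso :
    SC.constZ (SC.JX X) ≅ (FBC.Lg π).obj (SC.constZ (SC.JX Y)) :=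
  (SC.ZUIsoConst (J := SC.JX X) (T := (⊤ : X.Opens)) isTerminalTop).symm ≪≫
    (FBC.LZU π ⊤).symm ≪≫
      (FBC.Lg π).mapIso (SC.ZUIsoConst (J := SC.JX Y) (T := (⊤ : Y.Opens)) isTerminalTop)

/-- the natural edge map `H^n(Y, π_* F) → H^n(X, F)` on abelian sheaves. -/
noncomputable def edgeH (F : Sheaf (SC.JX X) AddCommGrpCat.{u}) (n : ℕ) :
    Sheaf.H ((Coh.pushAb π).obj F) n →+ Sheaf.H F n :=
  edge (FBC.adjAb π) (constIso π).hom F n

/-- naturality of the edge map. -/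
lemma edgeH_map {F F' : Sheaf (SC.JX X) AddCommGrpCat.{u}} (φ : F ⟶ F') (n : ℕ)
    (x : Sheaf.H ((Coh.pushAb π).obj F) n) :
    edgeH π F' n (Sheaf.H.map ((Coh.pushAb π).map φ) n x) = Sheaf.H.map φ n (edgeH π F n x) :=
  edge_comp_mk₀ (FBC.adjAb π) (constIso π).hom φ n x

/-- **degenerate Leray, natural form.** -/
theorem edgeH_bijective (F : Sheaf (SC.JX X) AddCommGrpCat.{u})
    (h : ∀ q : ℕ, IsZero (((SC.pushAb π.base).rightDerived (q + 1)).obj F)) (n : ℕ) :
    Function.Bijective (edgeH π F n) := by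
  let I := InjectiveResolution.of F
  exact edge_bijective (FBC.adjAb π) (constIso π).hom I
    (SC.exactAt_push_of_isZero_rightDerived π.base I h) n

lemma pushAb_smulAb (G : X.Modules) (r : Coh.Γtop Y) :
    (Coh.pushAb π).map (Coh.smulAb G (π.appTop r)) =
      Coh.smulAb ((Scheme.Modules.pushforward π).obj G) r := by
  ext U m
  have h2 := congrArg (fun φ => φ.hom r) (π.naturality (homOfLE (le_top : U.unop ≤ ⊤)).op)
  simp only [CommRingCat.hom_comp, RingHom.coe_comp, Function.comp_apply] at h2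
  show @HSMul.hSMul (X.ringCatSheaf.obj.obj (op (π ⁻¹ᵁ U.unop))) (G.val.obj (op (π ⁻¹ᵁ U.unop)))
      (G.val.obj (op (π ⁻¹ᵁ U.unop))) _ (Coh.resTop X (op (π ⁻¹ᵁ U.unop)) (π.appTop r)) m =
    @HSMul.hSMul (X.ringCatSheaf.obj.obj (op (π ⁻¹ᵁ U.unop))) (G.val.obj (op (π ⁻¹ᵁ U.unop)))
      (G.val.obj (op (π ⁻¹ᵁ U.unop))) _ (π.app U.unop (Coh.resTop Y U r)) m
  congr 1
  exact h2.symm

lemma edgeH_smulΓ (G : X.Modules) (n : ℕ) (r : Coh.Γtop Y)
    (x : Coh.HH Y ((Scheme.Modules.pushforward π).obj G) n) :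
    edgeH π (Coh.toAb G) n (r • x) =
      (show Coh.Γtop X from π.appTop r) • (show Coh.HH X G n from edgeH π (Coh.toAb G) n x) := by
  change edgeH π (Coh.toAb G) n
      (Sheaf.H.map (Coh.smulAb ((Scheme.Modules.pushforward π).obj G) r) n x) =
    Sheaf.H.map (Coh.smulAb G (π.appTop r)) n (edgeH π (Coh.toAb G) n x)
  rw [← pushAb_smulAb]
  exact edgeH_map π (Coh.smulAb G (π.appTop r)) n x

section Linear
variable (A : Type u) [CommRing A] [X.Over (Spec (CommRingCat.of A))]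
  [Y.Over (Spec (CommRingCat.of A))] [π.IsOver (Spec (CommRingCat.of A))]

lemma toGlobal_eq_appTop (a : A) :
    Coh.toGlobal (X ↘ Spec (CommRingCat.of A)) a =
      π.appTop (Coh.toGlobal (Y ↘ Spec (CommRingCat.of A)) a) := by
  have h : π ≫ (Y ↘ Spec (CommRingCat.of A)) = X ↘ Spec (CommRingCat.of A) :=
    comp_over π (Spec (CommRingCat.of A))
  rw [← h]
  rfl

/-- the edge map as an `A`-linear map. -/
noncomputable def edgeLin (G : X.Modules) (n : ℕ) :
    Coh.HH Y ((Scheme.Modules.pushforward π).obj G) n →ₗ[A] Coh.HH X G n where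
  toFun := edgeH π (Coh.toAb G) n
  map_add' := map_add _
  map_smul' := fun a x => by
    change edgeH π (Coh.toAb G) n ((Coh.toGlobal (Y ↘ Spec (CommRingCat.of A)) a) • x) =
      (Coh.toGlobal (X ↘ Spec (CommRingCat.of A)) a) •
        (show Coh.HH X G n from edgeH π (Coh.toAb G) n x)
    rw [toGlobal_eq_appTop π A a]
    exact edgeH_smulΓ π G n _ x

lemma edgeLin_apply (G : X.Modules) (n : ℕ)
    (x : Coh.HH Y ((Scheme.Modules.pushforward π).obj G) n) :
    edgeLin π A G n x = edgeH π (Coh.toAb G) n x := rfl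

/-- naturality of the linear edge map in `G`. -/
lemma edgeLin_map {G G' : X.Modules} (φ : G ⟶ G') (n : ℕ)
    (x : Coh.HH Y ((Scheme.Modules.pushforward π).obj G) n) :
    edgeLin π A G' n (Sheaf.H.map ((SheafOfModules.toSheaf Y.ringCatSheaf).map
        ((Scheme.Modules.pushforward π).map φ)) n x) =
      Sheaf.H.map ((SheafOfModules.toSheaf X.ringCatSheaf).map φ) n (edgeLin π A G n x) :=
  edgeH_map π ((SheafOfModules.toSheaf X.ringCatSheaf).map φ) n x

/-- **`H^n(Y, π_* G) ≃ H^n(X, G)`, linearly over the base ring, when `R^{q+1} π_* G = 0`.** -/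
noncomputable def HHpushforwardEquiv (G : X.Modules)
    (h : ∀ q : ℕ, IsZero (((SC.pushAb π.base).rightDerived (q + 1)).obj (Coh.toAb G))) (n : ℕ) :
    Coh.HH Y ((Scheme.Modules.pushforward π).obj G) n ≃ₗ[A] Coh.HH X G n :=
  LinearEquiv.ofBijective (edgeLin π A G n) (edgeH_bijective π (Coh.toAb G) h n)

lemma HHpushforwardEquiv_apply (G : X.Modules)
    (h : ∀ q : ℕ, IsZero (((SC.pushAb π.base).rightDerived (q + 1)).obj (Coh.toAb G))) (n : ℕ)
    (x : Coh.HH Y ((Scheme.Modules.pushforward π).obj G) n) :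
    HHpushforwardEquiv π A G h n x = edgeLin π A G n x := rfl

end Linear

end Groth.Agent.H2.Leray

namespace Groth.Agent.H2

open Groth.Agent.LD

/-- **The `A`-linear degenerate Leray isomorphism.** -/
theorem nonempty_HH_pushforward_linearEquiv (A : Type u) [CommRing A] {X Y : Scheme.{u}}
    [X.Over (Spec (CommRingCat.of A))] [Y.Over (Spec (CommRingCat.of A))] (π : X ⟶ Y)
    [π.IsOver (Spec (CommRingCat.of A))] (G : X.Modules)
    (h : ∀ q : ℕ, IsZero (((Groth.Agent.LD.SC.pushAb π.base).rightDerived (q + 1)).obj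
      (Coh.toAb G))) (n : ℕ) :
    Nonempty (Coh.HH Y ((Scheme.Modules.pushforward π).obj G) n ≃ₗ[A] Coh.HH X G n) :=
  ⟨Leray.HHpushforwardEquiv π A G h n⟩

end Groth.Agent.H2
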