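import Mathlib
import Groth.Agent.Lib.Helper2.CIntPH
import Groth.Agent.Lib.Helper2.HypIdD
import Groth.Agent.Lib.Helper5.SD.GeoConn
import Groth.Agent.Lib.Helper5.AG.ProjProper
import Groth.Agent.Lib.Lead.CohLES.H0

/-! Complete intersections in projective space (helper2), part I: a complete intersection of
dimension `≥ 1` has `h^0(O_X) = 1`, hence is geometrically connected. -/

set_option autoImplicit false
universe u
open CategoryTheory CategoryTheory.Limits AlgebraicGeometry TopologicalSpace Opposite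

namespace Groth.Agent.H2.CIP

open Groth.Agent.LD Groth.Agent.LD.QC Twist TW Groth.Agent.H2.HypId

variable {n : ℕ} {k : Type u} [Field k]

/-- under `SurjP`, the map `H^0(P, O(i)) → H^0(P, O/I ⊗ O(i))` is surjective. -/
theorem surjective_HHmap_projTw (I : (Proj (CohB1.polyGrading n k)).IdealSheafData) (i : ℤ)
    (hs : SurjP n k I) :
    Function.Surjective (CL.HHmap k (X := Proj (CohB1.polyGrading n k)) (projTw n k I i) 0) := by
  intro y
  obtain ⟨t, ht⟩ := hs i (homOfSection _ (CL.HH0Equiv _ y))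
  refine ⟨(CL.HH0Equiv _).symm (sectionOfHom t), ?_⟩
  apply (CL.HH0Equiv _).injective
  have h := sectionOfHom_homOfSection _ (CL.HH0Equiv _ y)
  have h3 := congrArg sectionOfHom ht
  have h2 := CL.HH0Equiv_map (projTw n k I i) ((CL.HH0Equiv _).symm (sectionOfHom t))
  rw [AddEquiv.apply_symm_apply] at h2
  exact h2.trans (h3.trans h)

/-- a complete intersection of dimension `≥ 1` in `P^n_k` has `h^0(O_X) = 1`. -/
theorem finrank_HH0_ci {r : ℕ} (hr : r ≤ n) {a : Fin r → ℕ} (ha : ∀ j, 1 ≤ a j)
    (G : ∀ j, LefPen.Form n k (a j))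
    (hdim : topologicalKrullDim ↥(ciI G).subscheme = ((n - r : ℕ) : WithBot ℕ∞))
    (h1 : 1 ≤ n - r)
    [inst : (ciI G).subscheme.Over (Spec (CommRingCat.of k))]
    (hinst : (ciI G).subscheme ↘ Spec (CommRingCat.of k) =
      (ciI G).subschemeι ≫ CohB1.ProjSpace.toSpec n k) :
    Module.finrank k (Coh.HH (ciI G).subscheme (Coh.structureModule (ciI G).subscheme) 0) = 1 := by
  have hreg := regSeq_of_dim G ha hr hdim
  obtain ⟨-, hs⟩ := vanP_surjP_ciI r a G ha hreg
  have hsurj := surjective_HHmap_projTw (ciI G) 0 (hs (by omega))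
  haveI : (ciI G).subschemeι.IsOver (Spec (CommRingCat.of k)) := ⟨hinst.symm⟩
  have e : Coh.HH (ciI G).subscheme (Coh.structureModule (ciI G).subscheme) 0 ≃ₗ[k]
      Coh.HH (Proj (CohB1.polyGrading n k))
        (CohB1.tensorMod (ClSub.quotMod (ciI G)) (twist (CohB1.polyGrading n k) 0)) 0 :=
    (CL.HHpushEquiv (ciI G).subschemeι k (Coh.structureModule (ciI G).subscheme) 0).trans
      (CL.HHisoEquiv k ((SecTwist.unitorR (ClSub.quotMod (ciI G))).symm ≪≫
        QC.tensorIso' (Iso.refl (ClSub.quotMod (ciI G)))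
          (TW.twistZeroIso (CohB1.polyGrading n k)).symm) 0)
  obtain ⟨m, hm⟩ : ∃ m, n = m + 1 := ⟨n - 1, by omega⟩
  have h0 : Module.finrank k
      (Coh.HH (Proj (CohB1.polyGrading n k)) (twist (CohB1.polyGrading n k) 0) 0) = 1 := by
    have h := HypCoh.finrank_H0_twist' k n m hm 0
    rw [zero_add, Int.toNat_natCast, Nat.choose_self] at h
    exact h
  have hfin : Module.Finite k
      (Coh.HH (Proj (CohB1.polyGrading n k)) (twist (CohB1.polyGrading n k) 0) 0) :=
    Module.finite_of_finrank_pos (by omega)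
  have hle := LinearMap.finrank_le_finrank_of_surjective hsurj
  have hfin2 := Module.Finite.of_surjective _ hsurj
  have hne : Nonempty (ciI G).subscheme := by
    by_contra hne
    rw [not_nonempty_iff] at hne
    rw [topologicalKrullDim_eq_bot_of_isEmpty] at hdim
    exact absurd hdim (by simp)
  haveI : Nonempty ↥(⊤ : (ciI G).subscheme.Opens) := ⟨⟨hne.some, trivial⟩⟩
  haveI : Nontrivial ↑Γ(Coh.structureModule (ciI G).subscheme, ⊤) :=
    inferInstanceAs (Nontrivial Γ((ciI G).subscheme, ⊤))
  have hnt : Nontrivial (Coh.HH (ciI G).subscheme (Coh.structureModule (ciI G).subscheme) 0) :=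
    (CL.HH0Equiv (Coh.structureModule (ciI G).subscheme)).toEquiv.nontrivial
  have hfin3 : Module.Finite k
      (Coh.HH (ciI G).subscheme (Coh.structureModule (ciI G).subscheme) 0) :=
    (Module.Finite.equiv_iff e).mpr hfin2
  have hpos : 0 < Module.finrank k
      (Coh.HH (ciI G).subscheme (Coh.structureModule (ciI G).subscheme) 0) := Module.finrank_pos
  have h5 : Module.finrank k
      (Coh.HH (ciI G).subscheme (Coh.structureModule (ciI G).subscheme) 0) ≤ 1 :=
    le_trans (le_of_eq e.finrank_eq) (le_trans hle (le_of_eq h0))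
  omega

/-- **S14334**: a complete intersection of dimension `≥ 1` in `P^n_k` is geometrically
connected. -/
theorem geometricallyConnected_ci {r : ℕ} (hr : r ≤ n) {a : Fin r → ℕ} (ha : ∀ j, 1 ≤ a j)
    (G : ∀ j, LefPen.Form n k (a j))
    (hdim : topologicalKrullDim ↥(ciI G).subscheme = ((n - r : ℕ) : WithBot ℕ∞))
    (h1 : 1 ≤ n - r) :
    GeometricallyConnected ((ciI G).subschemeι ≫ CohB1.ProjSpace.toSpec n k) := by
  letI inst : (ciI G).subscheme.Over (Spec (CommRingCat.of k)) :=
    ⟨(ciI G).subschemeι ≫ CohB1.ProjSpace.toSpec n k⟩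
  haveI : IsProper ((ciI G).subscheme ↘ Spec (CommRingCat.of k)) := by
    change IsProper ((ciI G).subschemeι ≫ CohB1.ProjSpace.toSpec n k)
    exact MorphismProperty.comp_mem (W := @IsProper) (ciI G).subschemeι
      (CohB1.ProjSpace.toSpec n k) inferInstance (Groth.Agent.H5.AG.isProper_toSpec n k)
  exact Groth.Agent.H5.SD.geometricallyConnected_of_finrank_HH0_eq_one k (ciI G).subscheme
    (finrank_HH0_ci hr ha G hdim h1 rfl)

end Groth.Agent.H2.CIP
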