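import Mathlib
import Groth.Agent.Lib.Helper2.CIntPF

/-! Complete intersections in projective space (helper2), part J: equidimensionality. -/

set_option autoImplicit false
universe u
open CategoryTheory CategoryTheory.Limits AlgebraicGeometry TopologicalSpace Opposite

namespace Groth.Agent.H2.CIP

open Groth.Agent.LD Groth.Agent.LD.QC Twist TW Groth.Agent.H2.HypId Groth.Agent.H2.ProjDim

/-- irreducible components and their dimensions are transported by homeomorphisms. -/
theorem component_homeomorph {X Y : Type*} [TopologicalSpace X] [TopologicalSpace Y] (h : X ≃ₜ Y)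
    (Z : Set X) (hZ : Z ∈ irreducibleComponents X) :
    h '' Z ∈ irreducibleComponents Y ∧
      topologicalKrullDim ↥Z = topologicalKrullDim ↥(h '' Z) := by
  constructor
  · rw [h.image_eq_preimage_symm]
    refine preimage_mem_irreducibleComponents hZ h.symm.isOpenEmbedding ?_
    obtain ⟨z, hz⟩ := hZ.1.nonempty
    exact ⟨z, hz, h.symm.surjective.range_eq ▸ Set.mem_univ z⟩
  · exact IsHomeomorph.topologicalKrullDim_eq _ (h.image Z).isHomeomorph

variable {n : ℕ} {k : Type u} [Field k]

/-- **S14335**: complete intersections are equidimensional. -/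
theorem dim_component_ci {r : ℕ} (hr : r ≤ n) {a : Fin r → ℕ} (ha : ∀ j, 1 ≤ a j)
    (G : ∀ j, LefPen.Form n k (a j))
    (hdim : topologicalKrullDim ↥(ciI G).subscheme = ((n - r : ℕ) : WithBot ℕ∞))
    (Z : Set ↥(ciI G).subscheme) (hZ : Z ∈ irreducibleComponents ↥(ciI G).subscheme) :
    topologicalKrullDim ↥Z = ((n - r : ℕ) : WithBot ℕ∞) := by
  apply le_antisymm
  · rw [← hdim]
    exact topologicalKrullDim_subspace_le _ Z
  · have hemb : Topology.IsEmbedding ⇑(ciI G).subschemeι :=
      (ciI G).subschemeι.isClosedEmbedding.isEmbedding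
    let h : ↥(ciI G).subscheme ≃ₜ ↥(ProjectiveSpectrum.zeroLocus (CohB1.polyGrading n k)
        ((Ideal.span (Set.range fun j => (G j).1) : Ideal (MvPolynomial (Fin (n + 1)) k)) :
          Set (MvPolynomial (Fin (n + 1)) k))) :=
      hemb.toHomeomorph.trans (Homeomorph.setCongr (range_subschemeι_ciI G))
    obtain ⟨hC, hd⟩ := component_homeomorph h Z hZ
    rw [hd]
    obtain ⟨q, hq, hqrel, hdq⟩ := exists_minimalPrimes_of_mem_irreducibleComponents
      (CohB1.polyGrading n k) (mvPolynomial_h0 k (Fin (n + 1))) _ (span_forms_isHomogeneous G) _ hC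
    classical
    let s : Finset (MvPolynomial (Fin (n + 1)) k) := Finset.univ.image (fun j => (G j).1)
    have hs : (s : Set (MvPolynomial (Fin (n + 1)) k)) = Set.range fun j => (G j).1 := by
      rw [Finset.coe_image, Finset.coe_univ, Set.image_univ]
    have hcard : s.card ≤ r := Finset.card_image_le.trans (by simp)
    haveI : (⊥ : Ideal (MvPolynomial (Fin (n + 1)) k)).IsPrime := Ideal.isPrime_bot
    have hq' : q ∈ ((⊥ : Ideal (MvPolynomial (Fin (n + 1)) k)) ⊔
        Ideal.span (s : Set (MvPolynomial (Fin (n + 1)) k))).minimalPrimes := by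
      rw [bot_sup_eq, hs]; exact hq
    have hdim2 := ringKrullDim_le_of_mem_minimalPrimes k
      (⊥ : Ideal (MvPolynomial (Fin (n + 1)) k)) q s hq'
    have hA : ((n + 1 : ℕ) : WithBot ℕ∞) ≤
        ringKrullDim (MvPolynomial (Fin (n + 1)) k ⧸
          (⊥ : Ideal (MvPolynomial (Fin (n + 1)) k))) := by
      rw [ringKrullDim_eq_of_ringEquiv (RingEquiv.quotientBot (MvPolynomial (Fin (n + 1)) k))]
      have h1 := ringKrullDim_add_natCard_le_ringKrullDim_mvPolynomial (R := k) (Fin (n + 1))
      rw [ringKrullDim_eq_zero_of_field, zero_add, Nat.card_fin] at h1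
      exact h1
    rw [← hdq] at hdim2
    have h3 : ((n + 1 : ℕ) : WithBot ℕ∞) ≤
        topologicalKrullDim ↥(⇑h '' Z) + 1 + (r : WithBot ℕ∞) :=
      hA.trans (hdim2.trans (by gcongr))
    generalize topologicalKrullDim ↥(⇑h '' Z) = t at h3 ⊢
    induction t using WithBot.recBotCoe with
    | bot =>
      rw [WithBot.bot_add, WithBot.bot_add] at h3
      exact absurd h3 (by simp)
    | coe t =>
      induction t using ENat.recTopCoe with
      | top => exact le_top
      | coe m =>
        have h4 : n + 1 ≤ m + 1 + r := by exact_mod_cast h3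
        have h5 : n - r ≤ m := by omega
        have h6 : ((n - r : ℕ) : WithBot ℕ∞) = (((n - r : ℕ) : ℕ∞) : WithBot ℕ∞) := rfl
        rw [h6, WithBot.coe_le_coe]
        exact_mod_cast h5

end Groth.Agent.H2.CIP
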