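import Mathlib
import Groth.Agent.Lib.Helper2.CIntPF
import Groth.Agent.Lib.Lead.QC.IdealPull
import Groth.Agent.Lib.Lead.QC.AmpleIso

/-! Complete intersections in projective space (helper2), part K: the ideal sheaf of
`V(G_0, …, G_r)` inside `V(G_0, …, G_{r-1})` is the restriction of `O(-a_r)`. -/

set_option autoImplicit false
universe u
open CategoryTheory CategoryTheory.Limits AlgebraicGeometry TopologicalSpace Opposite

namespace Groth.Agent.H2.CIP

open Groth.Agent.LD Groth.Agent.LD.QC Twist TW Groth.Agent.H2.HypId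

variable {n : ℕ} {k : Type u} [Field k]

/-- a hypersurface is an effective Cartier divisor. -/
theorem isEffCartier_hypI {d : ℕ} (G : LefPen.Form n k d) (hG : G ≠ 0) :
    BlowUp.IsEffCartierIdeal (hypI G) := by
  obtain ⟨e⟩ := nonempty_idealMod_hypIdeal_iso n k G hG
  exact (isInvertible_idealMod_iff _).mp
    (isInvertible_of_iso e.symm (PN.isInvertible_twist n k _))

/-- the inverse image of a hypersurface `V(F)` in `V(G_1, …, G_r)` is an effective Cartier
divisor if `F` is a nonzerodivisor modulo `(G_1, …, G_r)`. -/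
theorem isEffCartier_comap_hypI {r : ℕ} {a : Fin r → ℕ} (G : ∀ j, LefPen.Form n k (a j)) {c : ℕ}
    (F : LefPen.Form n k c)
    (hreg : ∀ f : MvPolynomial (Fin (n + 1)) k,
      F.1 * f ∈ Ideal.span (Set.range fun j => (G j).1) →
        f ∈ Ideal.span (Set.range fun j => (G j).1)) :
    BlowUp.IsEffCartierIdeal ((hypI F).comap (ciI G).subschemeι) := by
  intro y
  have hcov : (⨆ i : Fin (n + 1), ch n k i) = ⊤ := iSup_chart n k
  have hx : (ciI G).subschemeι y ∈ ⨆ i : Fin (n + 1), ch n k i := by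
    rw [hcov]
    trivial
  obtain ⟨i, hi⟩ := Opens.mem_iSup.mp hx
  refine ⟨⟨(ciI G).subschemeι ⁻¹ᵁ ch n k i, (chA n k i).2.preimage (ciI G).subschemeι⟩, hi,
    (ciI G).subschemeι.app (ch n k i) (dh F i), ?_, ?_⟩
  · rw [mem_nonZeroDivisors_iff_right]
    intro t ht
    obtain ⟨s, rfl⟩ := (ciI G).subschemeι_app_surjective (chA n k i) t
    have h1 : dh F i * s ∈ (ciI G).ideal (chA n k i) := by
      rw [← (ciI G).ker_subschemeι_app (chA n k i), RingHom.mem_ker, map_mul, mul_comm]
      exact ht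
    have h2 := mem_ciI_of_dh_mul_mem G F hreg i s h1
    rw [← (ciI G).ker_subschemeι_app (chA n k i), RingHom.mem_ker] at h2
    exact h2
  · rw [ideal_comap_of_le (hypI F) (ciI G).subschemeι (chA n k i)
      ⟨(ciI G).subschemeι ⁻¹ᵁ ch n k i, (chA n k i).2.preimage (ciI G).subschemeι⟩ le_rfl,
      hypI_ideal_chart, Ideal.map_span, Set.image_singleton, Scheme.Hom.appLE_eq_app]

/-- **S14342**: the ideal sheaf of `V(G_0, …, G_r)` in `Y = V(G_0, …, G_{r-1})` is `O_Y(-a_r)`. -/
theorem nonempty_idealMod_comap_iso {r : ℕ} (hr : r + 1 ≤ n) {a : Fin (r + 1) → ℕ}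
    (ha : ∀ j, 1 ≤ a j) (G : ∀ j, LefPen.Form n k (a j))
    (hdim : topologicalKrullDim ↥(ciI G).subscheme = ((n - (r + 1) : ℕ) : WithBot ℕ∞)) :
    Nonempty (ClSub.idealMod ((hypI (G (Fin.last r))).comap
        (ciI (fun j : Fin r => G j.castSucc)).subschemeι) ≅
      (Scheme.Modules.pullback (ciI (fun j : Fin r => G j.castSucc)).subschemeι).obj
        (twist (CohB1.polyGrading n k) (-(a (Fin.last r) : ℤ)))) := by
  have hreg := regSeq_of_dim G ha hr hdim
  have hne := hreg.ne_zero ha (Fin.last r)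
  obtain ⟨e1⟩ := nonempty_pullback_idealMod_iso (ciI (fun j : Fin r => G j.castSucc)).subschemeι
    (hypI (G (Fin.last r))) (isEffCartier_hypI _ hne)
    (isEffCartier_comap_hypI (fun j : Fin r => G j.castSucc) (G (Fin.last r)) hreg.last)
  obtain ⟨e2⟩ := nonempty_idealMod_hypIdeal_iso n k (G (Fin.last r)) hne
  exact ⟨e1.symm ≪≫
    (Scheme.Modules.pullback (ciI (fun j : Fin r => G j.castSucc)).subschemeι).mapIso e2⟩

end Groth.Agent.H2.CIP
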