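import Mathlib
import Groth.Agent.Lib.Helper2.CechRes2

/-!
# Local lifting along epimorphisms of abelian sheaves (helper2)
-/

namespace Groth.Agent.H2.Cartan

open CategoryTheory Limits Opposite

universe u

variable {C : Type u} [SmallCategory C] {J : GrothendieckTopology C}

open Groth.Agent.H2.CechRes in
lemma pullback_mk {X Y Z : Sheaf J (Type u)} (a : X ⟶ Z) (b : Y ⟶ Z) (U : C)
    (x : X.obj.obj (op U)) (y : Y.obj.obj (op U))
    (h : a.hom.app (op U) x = b.hom.app (op U) y) :
    ∃ σ : (pullback a b).obj.obj (op U),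
      (pullback.fst a b).hom.app (op U) σ = x ∧ (pullback.snd a b).hom.app (op U) σ = y := by
  let F := cospan a b ⋙ evU (J := J) U
  have hl : IsLimit ((evU (J := J) U).mapCone (limit.cone (cospan a b))) :=
    isLimitOfPreserves _ (limit.isLimit _)
  let s : ∀ j, F.obj j := fun j => match j with
    | none => a.hom.app (op U) x
    | some WalkingPair.left => x
    | some WalkingPair.right => y
  have hs : s ∈ F.sections := by
    intro j j' g
    obtain - | i := g
    · have : (WidePullbackShape.Hom.id j) = 𝟙 j := rfl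
      rw [this, F.map_id]
      rfl
    · cases i
      · rfl
      · exact h.symm
  refine ⟨(Types.isLimitEquivSections hl).symm ⟨s, hs⟩, ?_, ?_⟩
  · exact Types.isLimitEquivSections_symm_apply hl ⟨s, hs⟩ (some WalkingPair.left)
  · exact Types.isLimitEquivSections_symm_apply hl ⟨s, hs⟩ (some WalkingPair.right)

/-- free abelian sheaf functor -/
noncomputable abbrev ZZ : Sheaf J (Type u) ⥤ Sheaf J AddCommGrpCat.{u} :=
  Sheaf.composeAndSheafify J AddCommGrpCat.free.{u}

theorem exists_local_lift {I Q : Sheaf J AddCommGrpCat.{u}} (π : I ⟶ Q) [Epi π]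
    {K : Sheaf J (Type u)} (s : (ZZ (J := J)).obj K ⟶ Q) :
    ∃ (K' : Sheaf J (Type u)) (f : K' ⟶ K) (_ : Epi f) (t : (ZZ (J := J)).obj K' ⟶ I),
      t ≫ π = (ZZ (J := J)).map f ≫ s := by
  let G := sheafCompose J (forget AddCommGrpCat.{u})
  let adj : ZZ (J := J) ⊣ G := Sheaf.adjunction J AddCommGrpCat.adj
  let a : K ⟶ G.obj Q := adj.homEquiv K Q s
  let b : G.obj I ⟶ G.obj Q := G.map π
  refine ⟨pullback a b, pullback.fst a b, ?_, (adj.homEquiv _ _).symm (pullback.snd a b), ?_⟩
  · rw [← Sheaf.isLocallySurjective_iff_epi]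
    have hπ : Sheaf.IsLocallySurjective π := (Sheaf.isLocallySurjective_iff_epi' _ π).2 inferInstance
    have hb : Sheaf.IsLocallySurjective b := inferInstance
    constructor
    intro U x
    refine J.superset_covering ?_ (Presheaf.imageSieve_mem J b.hom (a.hom.app _ x))
    rintro V g ⟨y, hy⟩
    obtain ⟨σ, h1, h2⟩ := pullback_mk a b V (K.obj.map g.op x) y (by
      rw [hy]
      exact NatTrans.naturality_apply a.hom g.op x)
    exact ⟨σ, h1⟩
  · rw [← adj.homEquiv_naturality_right_symm, ← pullback.condition,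
      adj.homEquiv_naturality_left_symm, Equiv.symm_apply_apply]

end Groth.Agent.H2.Cartan
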