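import Mathlib
import Groth.Agent.Lib.Helper2.AcycRes1

/-!
# Cartan's criterion, abstract part (helper2)
-/

universe w v u

open CategoryTheory CategoryTheory.Limits CategoryTheory.Abelian

namespace Groth.Agent.H2.Cartan

open Groth.Agent.H2.AcycRes

variable {A : Type u} [Category.{v} A] [Abelian A]

variable {P : ChainComplex A ℕ} {M : A} (ε : P ⟶ (ChainComplex.single₀ A).obj M)

lemma d_comp_ε : P.d 1 0 ≫ ε.f 0 = 0 := by
  rw [← ε.comm 1 0, HomologicalComplex.single_obj_d, comp_zero]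

variable [QuasiIso ε]

set_option backward.isDefEq.respectTransparency false in
set_option backward.defeqAttrib.useBackward true in
/-- `M` is the cokernel of `P_1 ⟶ P_0` -/
noncomputable def isColimitCokernelCofork :
    IsColimit (CokernelCofork.ofπ (ε.f 0) (d_comp_ε ε)) := by
  refine IsColimit.ofIsoColimit (P.opcyclesIsCokernel 1 0 (by simp)) ?_
  refine Cofork.ext (P.isoHomologyι₀.symm ≪≫ isoOfQuasiIsoAt ε 0 ≪≫
    HomologicalComplex.singleObjHomologySelfIso _ _ _) ?_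
  rw [← cancel_mono (HomologicalComplex.singleObjHomologySelfIso (ComplexShape.down ℕ) 0 _).inv,
    ← cancel_mono (ChainComplex.isoHomologyι₀ _).hom]
  dsimp
  simp only [ChainComplex.isoHomologyι₀_inv_naturality_assoc,
    HomologicalComplex.p_opcyclesMap_assoc, ChainComplex.single₀_obj_zero, Category.assoc,
    Iso.hom_inv_id, Category.comp_id, HomologicalComplex.isoHomologyι_inv_hom_id,
    HomologicalComplex.singleObjHomologySelfIso_inv_homologyι,
    HomologicalComplex.singleObjOpcyclesSelfIso_hom, ChainComplex.single₀ObjXSelf,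
    Iso.refl_inv, Category.id_comp]

lemma epi_ε : Epi (ε.f 0) := epi_of_isColimit_cofork (isColimitCokernelCofork ε)

lemma exists_desc {Y : A} (t : P.X 0 ⟶ Y) (h : P.d 1 0 ≫ t = 0) :
    ∃ t' : ((ChainComplex.single₀ A).obj M).X 0 ⟶ Y, ε.f 0 ≫ t' = t :=
  ⟨(isColimitCokernelCofork ε).desc (CokernelCofork.ofπ t h),
    (isColimitCokernelCofork ε).fac (CokernelCofork.ofπ t h) WalkingParallelPair.one⟩

/-- Core of the degree one case of Cartan's criterion. -/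
theorem exists_lift_of_H1 {S : ShortComplex A} (hS : S.ShortExact)
    (H1 : ∀ c : P.X 1 ⟶ S.X₁, P.d 2 1 ≫ c = 0 → ∃ u : P.X 0 ⟶ S.X₁, P.d 1 0 ≫ u = c)
    (s : ((ChainComplex.single₀ A).obj M).X 0 ⟶ S.X₃) (t : P.X 0 ⟶ S.X₂)
    (ht : t ≫ S.g = ε.f 0 ≫ s) :
    ∃ t' : ((ChainComplex.single₀ A).obj M).X 0 ⟶ S.X₂, t' ≫ S.g = s := by
  have := hS.mono_f
  have h1 : (P.d 1 0 ≫ t) ≫ S.g = 0 := by
    rw [Category.assoc, ht, ← Category.assoc, d_comp_ε, zero_comp]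
  obtain ⟨c, hc⟩ : ∃ c : P.X 1 ⟶ S.X₁, c ≫ S.f = P.d 1 0 ≫ t :=
    ⟨hS.exact.lift _ h1, hS.exact.lift_f _ h1⟩
  have h2 : P.d 2 1 ≫ c = 0 := by
    rw [← cancel_mono S.f, Category.assoc, hc, zero_comp, ← Category.assoc, P.d_comp_d, zero_comp]
  obtain ⟨u, hu⟩ := H1 c h2
  obtain ⟨t', ht'⟩ := exists_desc ε (t - u ≫ S.f) (by
    rw [Preadditive.comp_sub, ← Category.assoc, hu, hc, sub_self])
  refine ⟨t', ?_⟩
  have := epi_ε ε
  rw [← cancel_epi (ε.f 0), ← Category.assoc, ht', Preadditive.sub_comp, Category.assoc, S.zero,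
    comp_zero, sub_zero, ht]

variable [HasExt.{w} A]

include ε in
/-- Core of the induction step: the Čech hypothesis passes to the quotient by an injective. -/
theorem hyp_quotient {S : ShortComplex A} (hS : S.ShortExact) [Injective S.X₂]
    (hP1 : ∀ n, Subsingleton (Ext (P.X n) S.X₁ 1))
    (H : ∀ (q : ℕ) (c : P.X (q + 1) ⟶ S.X₁), P.d (q + 2) (q + 1) ≫ c = 0 →
      ∃ u : P.X q ⟶ S.X₁, P.d (q + 1) q ≫ u = c)
    (q : ℕ) (c : P.X (q + 1) ⟶ S.X₃) (hc : P.d (q + 2) (q + 1) ≫ c = 0) :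
    ∃ u : P.X q ⟶ S.X₃, P.d (q + 1) q ≫ u = c := by
  have := hS.mono_f
  -- lift `c` to `S.X₂`
  obtain ⟨c', hc'⟩ : ∃ c' : P.X (q + 1) ⟶ S.X₂, c' ≫ S.g = c := by
    have := hP1 (q + 1)
    have h0 : (Ext.mk₀ c).comp hS.extClass (zero_add 1) = 0 := Subsingleton.elim _ _
    obtain ⟨x₂, hx₂⟩ := Ext.covariant_sequence_exact₃ _ hS (Ext.mk₀ c) rfl h0
    obtain ⟨c', rfl⟩ := (Ext.mk₀_bijective _ _).2 x₂
    refine ⟨c', ?_⟩
    rw [Ext.mk₀_comp_mk₀] at hx₂
    exact (Ext.mk₀_bijective _ _).1 hx₂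
  have h1 : (P.d (q + 2) (q + 1) ≫ c') ≫ S.g = 0 := by rw [Category.assoc, hc', hc]
  obtain ⟨b, hb⟩ : ∃ b : P.X (q + 2) ⟶ S.X₁, b ≫ S.f = P.d (q + 2) (q + 1) ≫ c' :=
    ⟨hS.exact.lift _ h1, hS.exact.lift_f _ h1⟩
  have h2 : P.d (q + 3) (q + 2) ≫ b = 0 := by
    rw [← cancel_mono S.f, Category.assoc, hb, zero_comp, ← Category.assoc, P.d_comp_d, zero_comp]
  obtain ⟨a, ha⟩ := H (q + 1) b h2
  have hI : ∀ n, Acyc S.X₂ (P.X n) := fun n p => ⟨fun x y => by
    rw [Ext.eq_zero_of_injective x, Ext.eq_zero_of_injective y]⟩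
  have hM : Acyc S.X₂ M := fun p => ⟨fun x y => by
    rw [Ext.eq_zero_of_injective x, Ext.eq_zero_of_injective y]⟩
  obtain ⟨e, he⟩ := exists_cobound ε hI hM q (c' - a ≫ S.f) (by
    rw [Preadditive.comp_sub, ← Category.assoc, ha, hb, sub_self])
  refine ⟨e ≫ S.g, ?_⟩
  rw [← Category.assoc, he, Preadditive.sub_comp, Category.assoc, S.zero, comp_zero, sub_zero, hc']

end Groth.Agent.H2.Cartan
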