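import Mathlib
import Groth.Prelude.Def_CohCx
import Groth.Agent.Lib.Helper2.AcycRes2
import Groth.Agent.Lib.Helper2.Cartan1
import Groth.Agent.Lib.Helper2.Cartan2

/-!
# Cartan's criterion for total acyclicity (helper2)
-/

namespace Groth.Agent.H2.Cartan

open CategoryTheory Limits Opposite Simplicial SimplicialObject AlgebraicTopology
open CategoryTheory.Abelian
open Groth.Agent.H2.AcycRes Groth.Agent.H2.CechRes

universe u

variable {C : Type u} [SmallCategory C] {J : GrothendieckTopology C}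

/-- The Čech hypothesis on `F` in `Hom` form. -/
def Hyp (F : Sheaf J AddCommGrpCat.{u}) : Prop :=
  ∀ (K' K : Sheaf J (Type u)) (f : K' ⟶ K), Epi f → ∀ (q : ℕ) (φ : (PP f).X (q + 1) ⟶ F),
    (PP f).d (q + 2) (q + 1) ≫ φ = 0 → ∃ χ : (PP f).X q ⟶ F, (PP f).d (q + 1) q ≫ χ = φ

lemma hyp_of_homology (F : Sheaf J AddCommGrpCat.{u})
    (h : ∀ (K' K : Sheaf J (Type u)) (f : K' ⟶ K), Epi f →
      ∀ q : ℕ, IsZero ((CohCx.cechNerveCx F f).homology (q + 1))) : Hyp F := by
  intro K' K f hf q φ hφ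
  have h1 := h K' K f hf q
  rw [← HomologicalComplex.exactAt_iff_isZero_homology,
    HomologicalComplex.exactAt_iff' _ q (q + 1) (q + 2) (by simp) (by simp),
    ShortComplex.ab_exact_iff] at h1
  obtain ⟨χ, hχ⟩ := h1 φ ((cechNerveCx_d_apply F f (q + 1) φ).trans hφ)
  exact ⟨χ, (cechNerveCx_d_apply F f q χ).symm.trans hχ⟩

lemma ε_f_zero {K' K : Sheaf J (Type u)} (f : K' ⟶ K) :
    (εε f).f 0 = (ZZ (J := J)).map (wpBase f 0) := by
  rw [AlternatingFaceMapComplex.ε_app_f_zero]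
  rfl

/-- the standard short exact sequence `0 → F → I → I/F → 0` -/
noncomputable def injSC (F : Sheaf J AddCommGrpCat.{u}) : ShortComplex (Sheaf J AddCommGrpCat.{u}) :=
  ShortComplex.mk (Injective.ι F) (cokernel.π (Injective.ι F)) (by simp)

lemma injSC_shortExact (F : Sheaf J AddCommGrpCat.{u}) : (injSC F).ShortExact where
  exact := ShortComplex.exact_of_g_is_cokernel _ (cokernelIsCokernel _)
  mono_f := by dsimp [injSC]; infer_instance
  epi_g := by dsimp [injSC]; infer_instance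

instance (F : Sheaf J AddCommGrpCat.{u}) : Injective (injSC F).X₂ := by
  dsimp [injSC]; infer_instance

lemma ext1_subsingleton (F : Sheaf J AddCommGrpCat.{u}) (hF : Hyp F) (L : Sheaf J (Type u)) :
    Subsingleton (Ext ((ZZ (J := J)).obj L) F 1) := by
  have key : ∀ x : Ext ((ZZ (J := J)).obj L) F 1, x = 0 := by
    intro x
    have hS := injSC_shortExact F
    obtain ⟨x₃, hx₃⟩ := Ext.covariant_sequence_exact₁ _ hS x (Ext.eq_zero_of_injective _)
      (zero_add 1)
    obtain ⟨s, rfl⟩ := (Ext.mk₀_bijective _ _).2 x₃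
    have := hS.epi_g
    obtain ⟨K', f, hf, t, ht⟩ := exists_local_lift (injSC F).g s
    have hcomp : (ZZ (J := J)).map (wpπ f 0 0) ≫ (ZZ (J := J)).map f =
        (ZZ (J := J)).map (wpBase f 0) := by
      rw [← Functor.map_comp]
      congr 1
      exact WidePullback.π_arrow _ _
    have ht2 : ((ZZ (J := J)).map (wpπ f 0 0) ≫ t) ≫ (injSC F).g = (εε f).f 0 ≫ s := by
      rw [Category.assoc, ht, ← Category.assoc, hcomp, ε_f_zero]
      rfl
    obtain ⟨t', ht'⟩ : ∃ t' : (ZZ (J := J)).obj L ⟶ (injSC F).X₂, t' ≫ (injSC F).g = s :=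
      exists_lift_of_H1 (εε f) hS (hF K' L f hf 0) s ((ZZ (J := J)).map (wpπ f 0 0) ≫ t) ht2
    rw [← hx₃, ← ht', ← Ext.mk₀_comp_mk₀, Ext.comp_assoc_of_second_deg_zero, hS.comp_extClass,
      Ext.comp_zero]
    rfl
  exact ⟨fun a b => by rw [key a, key b]⟩

lemma hyp_quot (F : Sheaf J AddCommGrpCat.{u}) (hF : Hyp F) : Hyp (injSC F).X₃ := by
  intro K' K f hf q c hc
  exact hyp_quotient (εε f) (injSC_shortExact F)
    (fun n => ext1_subsingleton F hF _) (hF K' K f hf) q c hc

theorem ext_subsingleton (p : ℕ) : ∀ (F : Sheaf J AddCommGrpCat.{u}), Hyp F →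
    ∀ L : Sheaf J (Type u), Subsingleton (Ext ((ZZ (J := J)).obj L) F (p + 1)) := by
  induction p with
  | zero => exact fun F hF L => ext1_subsingleton F hF L
  | succ p ih =>
    intro F hF L
    have := ih _ (hyp_quot F hF) L
    have key : ∀ x : Ext ((ZZ (J := J)).obj L) F (p + 1 + 1), x = 0 := by
      intro x
      obtain ⟨x₃, hx₃⟩ := Ext.covariant_sequence_exact₁ _ (injSC_shortExact F) x
        (Ext.eq_zero_of_injective _) (rfl : p + 1 + 1 = p + 1 + 1)
      rw [← hx₃, Subsingleton.elim x₃ 0, Ext.zero_comp]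
      rfl
    exact ⟨fun a b => by rw [key a, key b]⟩

theorem totallyAcyclic_of_cech (F : Sheaf J AddCommGrpCat.{u})
    (h : ∀ (K' K : Sheaf J (Type u)) (f : K' ⟶ K), Epi f →
      ∀ q : ℕ, IsZero ((CohCx.cechNerveCx F f).homology (q + 1))) :
    CohCx.IsTotallyAcyclic F :=
  fun K p => ext_subsingleton p F (hyp_of_homology F h) K

end Groth.Agent.H2.Cartan
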