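import Mathlib
import Groth.Prelude.Def_CohCx
import Groth.Agent.Lib.Helper2.AcycRes2
import Groth.Agent.Lib.Helper2.Cartan1

/-!
# Restriction along monomorphisms is surjective for totally acyclic sheaves (helper2)
-/

namespace Groth.Agent.H2.Cartan

open CategoryTheory Limits Opposite
open CategoryTheory.Abelian
open Groth.Agent.H2.AcycRes

universe u

variable {C : Type u} [SmallCategory C] {J : GrothendieckTopology C}

instance ZZ_map_mono {Y X : Sheaf J (Type u)} (ι : Y ⟶ X) [Mono ι] :
    Mono ((ZZ (J := J)).map ι) := by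
  have h1 : Mono ι.hom := inferInstanceAs (Mono ((sheafToPresheaf J (Type u)).map ι))
  have h2 : ∀ U, Mono (ι.hom.app U) := fun U => inferInstance
  have h3 : Mono (Functor.whiskerRight ι.hom AddCommGrpCat.free.{u}) := by
    have : ∀ U, Mono ((Functor.whiskerRight ι.hom AddCommGrpCat.free.{u}).app U) := fun U => by
      dsimp
      infer_instance
    exact NatTrans.mono_of_mono_app _
  have h4 : PreservesFiniteLimits (presheafToSheaf J AddCommGrpCat.{u}) := inferInstance
  have h5 : (presheafToSheaf J AddCommGrpCat.{u}).PreservesMonomorphisms := inferInstance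
  exact (presheafToSheaf J AddCommGrpCat.{u}).map_mono
    (Functor.whiskerRight ι.hom AddCommGrpCat.free.{u})

section abstract

universe w v u'

variable {A : Type u'} [Category.{v} A] [Abelian A] [HasExt.{w} A]

theorem exists_extension_of_isPushout {X₁ X₂ X₃ X₄ F : A} {t : X₁ ⟶ X₂} {l : X₁ ⟶ X₃}
    {r : X₂ ⟶ X₄} {b : X₃ ⟶ X₄} (sq : IsPushout t l r b) (ht : Mono t) (hF : Acyc F X₄)
    (l' : X₂ ⟶ X₃) (hl : t ≫ l' = l) (s : X₁ ⟶ F) : ∃ φ : X₂ ⟶ F, t ≫ φ = s := by
  have hm : Mono (biprod.lift t (-l)) := by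
    have := biprod.lift_fst t (-l)
    exact mono_of_mono_fac this
  have hS : sq.shortComplex.ShortExact :=
    { exact := sq.exact_shortComplex
      mono_f := hm
      epi_g := sq.epi_shortComplex_g }
  obtain ⟨χ, hχ⟩ := exists_extension hS hF s
  have hχ' : biprod.lift t (-l) ≫ χ = s := hχ
  refine ⟨biprod.inl ≫ χ - l' ≫ biprod.inr ≫ χ, ?_⟩
  have h1 : biprod.lift t (-l) = t ≫ biprod.inl - l ≫ biprod.inr := by
    ext <;> simp
  rw [← hχ', h1, Preadditive.comp_sub, Preadditive.sub_comp, Category.assoc, Category.assoc,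
    ← Category.assoc t l', hl]

end abstract

theorem exists_extension_of_mono (F : Sheaf J AddCommGrpCat.{u}) (hF : CohCx.IsTotallyAcyclic F)
    {Y X : Sheaf J (Type u)} (ι : Y ⟶ X) [Mono ι] (s : (ZZ (J := J)).obj Y ⟶ F) :
    ∃ φ : (ZZ (J := J)).obj X ⟶ F, (ZZ (J := J)).map ι ≫ φ = s := by
  have sq : IsPushout ι (terminal.from Y) (pushout.inl _ _) (pushout.inr _ _) :=
    IsPushout.of_hasPushout _ _
  have adj : ZZ (J := J) ⊣ sheafCompose J (forget AddCommGrpCat.{u}) :=
    Sheaf.adjunction J AddCommGrpCat.adj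
  have : (ZZ (J := J)).IsLeftAdjoint := adj.isLeftAdjoint
  have sq' := sq.map (ZZ (J := J))
  exact exists_extension_of_isPushout sq' inferInstance (acyc_of_totallyAcyclic F hF _)
    ((ZZ (J := J)).map (terminal.from X)) (by rw [← Functor.map_comp, terminal.comp_from]) s

end Groth.Agent.H2.Cartan
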