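import Mathlib
import Groth.Prelude.Def_CohCx
import Groth.Agent.Lib.Helper2.Cartan3

/-!
# Consequences of Cartan's criterion (helper2)
-/

namespace Groth.Agent.H2.Cartan

open CategoryTheory Limits Opposite
open CategoryTheory.Abelian
open Groth.Agent.H2.AcycRes

universe u

variable {C : Type u} [SmallCategory C] {J : GrothendieckTopology C}

lemma hyp_of_totallyAcyclic (F : Sheaf J AddCommGrpCat.{u}) (hF : CohCx.IsTotallyAcyclic F) :
    Hyp F := by
  intro K' K f hf q φ hφ
  have hP : ∀ n, Acyc F ((PP f).X n) := fun n => acyc_of_totallyAcyclic F hF _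
  have hM : Acyc F (SimplicialObject.Augmented.point.obj (augFree f)) :=
    acyc_of_totallyAcyclic F hF _
  exact exists_cobound (εε f) hP hM q φ hφ

lemma totallyAcyclic_of_hyp (F : Sheaf J AddCommGrpCat.{u}) (hF : Hyp F) :
    CohCx.IsTotallyAcyclic F :=
  fun K p => ext_subsingleton p F hF K

theorem totallyAcyclic_pi {T : Type u} (F : T → Sheaf J AddCommGrpCat.{u})
    (hF : ∀ t, CohCx.IsTotallyAcyclic (F t)) : CohCx.IsTotallyAcyclic (∏ᶜ F) := by
  apply totallyAcyclic_of_hyp
  intro K' K f hf q φ hφ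
  have h : ∀ t, ∃ χ : (PP f).X q ⟶ F t, (PP f).d (q + 1) q ≫ χ = φ ≫ Pi.π F t := fun t =>
    hyp_of_totallyAcyclic (F t) (hF t) K' K f hf q (φ ≫ Pi.π F t) (by
      rw [← Category.assoc, hφ, zero_comp])
  choose χ hχ using h
  refine ⟨Pi.lift χ, ?_⟩
  apply Pi.hom_ext
  intro t
  rw [Category.assoc, Pi.lift_π, hχ]

end Groth.Agent.H2.Cartan
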