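import Mathlib
set_option autoImplicit false
open CategoryTheory
universe v₁ u₁ v₂ u₂ v₃ u₃

namespace Groth.Agent.H2.CatA

theorem stronglyCartesian_comp {𝒜 : Type u₁} [Category.{v₁} 𝒜] {ℬ : Type u₂} [Category.{v₂} ℬ] {𝒞 : Type u₃} [Category.{v₃} 𝒞] (F : 𝒜 ⥤ ℬ) (G : ℬ ⥤ 𝒞) {x y : 𝒜} (φ : x ⟶ y)
    [F.IsStronglyCartesian (F.map φ) φ] [G.IsStronglyCartesian (G.map (F.map φ)) (F.map φ)] :
    (F ⋙ G).IsStronglyCartesian ((F ⋙ G).map φ) φ where
  universal_property' := by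
    intro a' g φ' hφ'
    -- F φ' lifts g ≫ G F φ under G
    have h1 : (F ⋙ G).map φ' = g ≫ (F ⋙ G).map φ :=
      (IsHomLift.eq_of_isHomLift (F ⋙ G) (g ≫ (F ⋙ G).map φ) φ').symm
    haveI : G.IsHomLift (g ≫ G.map (F.map φ)) (F.map φ') := by
      have : G.map (F.map φ') = g ≫ G.map (F.map φ) := h1
      rw [← this]; infer_instance
    obtain ⟨χ₁, ⟨hχ₁, hχ₁'⟩, huniq₁⟩ :=
      Functor.IsStronglyCartesian.universal_property' (p := G) (f := G.map (F.map φ))
        (φ := F.map φ) g (F.map φ')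
    haveI : F.IsHomLift (χ₁ ≫ F.map φ) φ' := by
      rw [hχ₁']; infer_instance
    obtain ⟨χ, ⟨hχ, hχ'⟩, huniq⟩ :=
      Functor.IsStronglyCartesian.universal_property' (p := F) (f := F.map φ)
        (φ := φ) χ₁ φ'
    have e1 : χ₁ = F.map χ := IsHomLift.eq_of_isHomLift F χ₁ χ
    have e2 : g = G.map χ₁ := IsHomLift.eq_of_isHomLift G g χ₁
    refine ⟨χ, ⟨?_, hχ'⟩, ?_⟩
    · have : g = (F ⋙ G).map χ := by rw [e2, e1]; rfl
      rw [this]; infer_instance
    · rintro χ' ⟨hχ'1, hχ'2⟩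
      have e3 : g = (F ⋙ G).map χ' := IsHomLift.eq_of_isHomLift (F ⋙ G) g χ'
      have h4 : F.map χ' = χ₁ := by
        apply huniq₁
        refine ⟨?_, ?_⟩
        · have : g = G.map (F.map χ') := e3
          rw [this]; infer_instance
        · rw [← F.map_comp, hχ'2]
      apply huniq
      refine ⟨?_, hχ'2⟩
      rw [← h4]; infer_instance

theorem stronglyCartesian_comp' {𝒜 : Type u₁} [Category.{v₁} 𝒜] {ℬ : Type u₂} [Category.{v₂} ℬ] {𝒞 : Type u₃} [Category.{v₃} 𝒞] (F : 𝒜 ⥤ ℬ) (G : ℬ ⥤ 𝒞) {R S : 𝒞} {b' c' : ℬ} {x y : 𝒜}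
    (f : R ⟶ S) (ψ : b' ⟶ c') (φ : x ⟶ y)
    [F.IsStronglyCartesian ψ φ] [G.IsStronglyCartesian f ψ] :
    (F ⋙ G).IsStronglyCartesian f φ := by
  subst_hom_lift F ψ φ
  subst_hom_lift G f (F.map φ)
  exact stronglyCartesian_comp F G φ

theorem isFibered_comp {𝒜 : Type u₁} [Category.{v₁} 𝒜] {ℬ : Type u₂} [Category.{v₂} ℬ] {𝒞 : Type u₃} [Category.{v₃} 𝒞] (F : 𝒜 ⥤ ℬ) (G : ℬ ⥤ 𝒞) [F.IsFibered] [G.IsFibered] : (F ⋙ G).IsFibered := by
  apply Functor.IsFibered.of_exists_isStronglyCartesian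
  intro a R f
  obtain ⟨b', ψ, hψ⟩ := Functor.IsPreFibered.exists_isCartesian' (p := G) (a := F.obj a) f
  haveI : G.IsStronglyCartesian f ψ := inferInstance
  obtain ⟨b, φ, hφ⟩ := IsPreFibered.exists_isCartesian (p := F) (a := a)
    (S := F.obj a) rfl ψ
  haveI : F.IsStronglyCartesian ψ φ := inferInstance
  exact ⟨b, φ, stronglyCartesian_comp' F G f ψ φ⟩

theorem adj_ff {C : Type u₁} [Category.{v₁} C] {D : Type u₂} [Category.{v₂} D] {u : C ⥤ D} {v : D ⥤ C} (adj : u ⊣ v) :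
    ((u ⋙ v).Full → (u ⋙ v).Faithful → u.Full ∧ u.Faithful) ∧ ((v ⋙ u).Full → (v ⋙ u).Faithful → v.Full ∧ v.Faithful) := by
  constructor
  · intro hfull hfaith
    constructor
    · constructor
      intro x y h
      obtain ⟨f, hf⟩ := (u ⋙ v).map_surjective (v.map h)
      refine ⟨f, ?_⟩
      apply (adj.homEquiv x (u.obj y)).injective
      rw [adj.homEquiv_unit, adj.homEquiv_unit]
      congr 1
    · constructor
      intro x y f g h
      apply (u ⋙ v).map_injective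
      show v.map (u.map f) = v.map (u.map g)
      rw [h]
  · intro hfull hfaith
    constructor
    · constructor
      intro x y h
      obtain ⟨f, hf⟩ := (v ⋙ u).map_surjective (u.map h)
      refine ⟨f, ?_⟩
      apply (adj.homEquiv (v.obj x) y).symm.injective
      rw [adj.homEquiv_counit, adj.homEquiv_counit]
      congr 1
    · constructor
      intro x y f g h
      apply (v ⋙ u).map_injective
      show u.map (v.map f) = u.map (v.map g)
      rw [h]

end Groth.Agent.H2.CatA
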