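import Mathlib
open CategoryTheory CategoryTheory.Limits
universe v u

namespace Groth.Agent.H2.CatPBAssoc

variable {A B C D E : Type u} [Category.{v} A] [Category.{v} B] [Category.{v} C] [Category.{v} D] [Category.{v} E]
    (F : A ⥤ B) (G : C ⥤ B) (H : C ⥤ D) (K : E ⥤ D)

/-- `(A ×_B C) ×_D E ⥤ A ×_B (C ×_D E)` -/
def fwd : CategoricalPullback (CategoricalPullback.π₂ F G ⋙ H) K ⥤
    CategoricalPullback F (CategoricalPullback.π₁ H K ⋙ G) where
  obj x := ⟨x.fst.fst, ⟨x.fst.snd, x.snd, x.iso⟩, x.fst.iso⟩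
  map {x y} f :=
    { fst := f.fst.fst
      snd := { fst := f.fst.snd, snd := f.snd, w := f.w }
      w := f.fst.w }

def bwd : CategoricalPullback F (CategoricalPullback.π₁ H K ⋙ G) ⥤
    CategoricalPullback (CategoricalPullback.π₂ F G ⋙ H) K where
  obj x := ⟨⟨x.fst, x.snd.fst, x.iso⟩, x.snd.snd, x.snd.iso⟩
  map {x y} f :=
    { fst := { fst := f.fst, snd := f.snd.fst, w := f.w }
      snd := f.snd.snd
      w := f.snd.w }

lemma fwd_bwd : fwd F G H K ⋙ bwd F G H K = 𝟭 _ := rfl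
lemma bwd_fwd : bwd F G H K ⋙ fwd F G H K = 𝟭 _ := rfl

def equiv : CategoricalPullback (CategoricalPullback.π₂ F G ⋙ H) K ≌
    CategoricalPullback F (CategoricalPullback.π₁ H K ⋙ G) where
  functor := fwd F G H K
  inverse := bwd F G H K
  unitIso := eqToIso (fwd_bwd F G H K).symm
  counitIso := eqToIso (bwd_fwd F G H K)
  functor_unitIso_comp x := by
    simp [eqToHom_map]

theorem main :
    ∃ e : CategoricalPullback (CategoricalPullback.π₂ F G ⋙ H) K ≌ CategoricalPullback F (CategoricalPullback.π₁ H K ⋙ G),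
      e.functor ⋙ e.inverse = 𝟭 _ ∧ e.inverse ⋙ e.functor = 𝟭 _ ∧
      ∀ x, (e.functor.obj x).fst = x.fst.fst ∧ (e.functor.obj x).snd.fst = x.fst.snd ∧ (e.functor.obj x).snd.snd = x.snd :=
  ⟨equiv F G H K, fwd_bwd F G H K, bwd_fwd F G H K, fun _ => ⟨rfl, rfl, rfl⟩⟩

end Groth.Agent.H2.CatPBAssoc
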