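import Mathlib
import Groth.Prelude.Def_EtCore
import Groth.Agent.Lib.Helper2.CdlC
import Groth.Agent.Lib.Helper7.SHB
import Groth.Agent.Lib.Helper7.ES13

/-! # `f_! ≅ f_*` for finite étale `f`, faithfulness of étale surjective pullback, and descent of
top-degree vanishing along a finite étale surjective morphism. -/

set_option autoImplicit false
set_option linter.style.haveILetI false
set_option linter.unusedVariables false
set_option linter.unusedSectionVars false
universe u
open CategoryTheory CategoryTheory.Limits AlgebraicGeometry Opposite Abelian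

namespace Groth.Agent.H2.Cdl
open Groth.Agent.H2.PTors Groth.Agent.H7.ES

variable {X Y : Scheme.{u}} (f : X ⟶ Y) [AlgebraicGeometry.Etale f]

theorem nonempty_extZero_iso_push [IsFinite f] :
    Nonempty (EtShriek.extZero f ≅ EtCoh.push f) := by
  obtain ⟨e⟩ := Groth.Agent.H7.EZ.S0727_main f
  exact ⟨e ≪≫ Groth.Agent.H7.SH.lowerShriekIsoPush f⟩

set_option backward.isDefEq.respectTransparency.types false in
instance faithful_restrAlong [Surjective f] : (EtShriek.restrAlong f).Faithful where
  map_injective := by
    intro G G' φ ψ h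
    have key : ∀ (V : Y.Etale) (s : G.obj.obj (op V)),
        φ.hom.app (op V) s = ψ.hom.app (op V) s := by
      intro V s
      rw [← sub_eq_zero]
      apply Groth.Agent.H7.EZ.eq_zero_of_locally_zero G'
      intro x
      haveI : Surjective (EtShriek.prV f V) :=
        inferInstanceAs (Surjective (pullback.fst V.hom f))
      obtain ⟨x', hx'⟩ := (EtShriek.prV f V).surjective x
      refine ⟨Groth.Agent.H7.EZ.N2 f V, Groth.Agent.H7.EZ.h2 f V, x', hx', ?_⟩
      rw [map_sub, sub_eq_zero]
      have n1 := NatTrans.naturality_apply φ.hom (Groth.Agent.H7.EZ.h2 f V).op s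
      have n2 := NatTrans.naturality_apply ψ.hom (Groth.Agent.H7.EZ.h2 f V).op s
      rw [← n1, ← n2]
      have h3 := congrArg (fun t : (EtShriek.restrAlong f).obj G ⟶ (EtShriek.restrAlong f).obj G' =>
        t.hom.app (op ((EtCoh.bc f).obj V))) h
      exact ConcreteCategory.congr_hom h3 _
    apply Sheaf.hom_ext
    ext V s
    exact key V.unop s

instance faithful_pull [Surjective f] : (EtCoh.pull f).Faithful :=
  Functor.Faithful.of_iso (pullIsoRestr f).symm

instance epi_counit [Surjective f] (G : EtCoh.Ab Y) : Epi ((pullAdj f).counit.app G) :=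
  inferInstance

/-- if the pull-back of `G` to a finite étale cover has no cohomology in the top degree, then
neither has `G`. -/
theorem subsingleton_H_descend {P : ℕ → Prop} (hP : MulPred P) [IsFinite f] [Surjective f]
    {n : ℕ} (hcd : CdLE Y P n) (G : EtCoh.Ab Y) (hG : IsPTorsion P G)
    (h : Subsingleton (EtCoh.H X ((EtCoh.pull f).obj G) n)) : Subsingleton (EtCoh.H Y G n) := by
  obtain ⟨θ⟩ := nonempty_extZero_iso_push f
  let G₁ := (EtCoh.pull f).obj G
  let g : (EtCoh.push f).obj G₁ ⟶ G := θ.inv.app G₁ ≫ (pullAdj f).counit.app G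
  haveI : Epi g := epi_comp _ _
  obtain ⟨e⟩ := nonempty_H_push_equiv f G₁ n
  have h1 : Subsingleton (EtCoh.H Y ((EtCoh.push f).obj G₁) n) := e.symm.toEquiv.subsingleton
  exact subsingleton_H_of_epi hcd g (isPTorsion_push hP f G₁ (isPTorsion_pull f G hG)) h1

end Groth.Agent.H2.Cdl
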