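import Mathlib
import Groth.Prelude.Def_EtCore
import Groth.Agent.Lib.Helper2.CdlD

/-! # The sheaf `ℤ/ℓ` as a cokernel, its permanence, and maps from constant sheaves onto it. -/

set_option autoImplicit false
set_option linter.style.haveILetI false
set_option linter.unusedVariables false
set_option linter.unusedSectionVars false
universe u
open CategoryTheory CategoryTheory.Limits AlgebraicGeometry Opposite Abelian

namespace Groth.Agent.H2.Cdl
open Groth.Agent.H2.PTors Groth.Agent.H7.ES Groth.Agent.H2.EtSmall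

section General
variable {A B : Type*} [Category A] [Category B] [Abelian A] [Abelian B]

/-- an additive right exact functor commutes with `coker (ℓ)`. -/
noncomputable def cokerNsmulIso (Φ : A ⥤ B) [Φ.Additive] [PreservesFiniteColimits Φ] (P : A)
    (ℓ : ℕ) : Φ.obj (cokernel (ℓ • 𝟙 P)) ≅ cokernel (ℓ • 𝟙 (Φ.obj P)) :=
  PreservesCokernel.iso Φ (ℓ • 𝟙 P) ≪≫
    cokernelIsoOfEq (by rw [Functor.map_nsmul, CategoryTheory.Functor.map_id])

noncomputable def cokerNsmulCongr {P P' : A} (e : P ≅ P') (ℓ : ℕ) :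
    cokernel (ℓ • 𝟙 P) ≅ cokernel (ℓ • 𝟙 P') :=
  cokernel.mapIso _ _ e e (by
    rw [Preadditive.nsmul_comp, Preadditive.comp_nsmul, Category.id_comp, Category.comp_id])

lemma coker_nsmul (P : A) (ℓ : ℕ) : ℓ • 𝟙 (cokernel (ℓ • 𝟙 P)) = 0 := by
  rw [← cancel_epi (cokernel.π (ℓ • 𝟙 P)), Preadditive.comp_nsmul, Category.comp_id, comp_zero]
  have : ℓ • cokernel.π (ℓ • 𝟙 P) = (ℓ • 𝟙 P) ≫ cokernel.π (ℓ • 𝟙 P) := by
    rw [Preadditive.nsmul_comp, Category.id_comp]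
  rw [this, cokernel.condition]

end General

/-- the group `ℤ` in the right universe. -/
noncomputable abbrev ZZ' : AddCommGrpCat.{u + 1} := AddCommGrpCat.of (ULift.{u + 1} ℤ)

/-- the sheaf `ℤ/ℓ`. -/
noncomputable def Zl (Y : Scheme.{u}) (ℓ : ℕ) : EtCoh.Ab Y := cokernel (ℓ • 𝟙 (constZ Y))

lemma Zl_nsmul (Y : Scheme.{u}) (ℓ : ℕ) : ℓ • 𝟙 (Zl Y ℓ) = 0 := coker_nsmul (constZ Y) ℓ

/-- pull-back of `ℤ/ℓ`. -/
noncomputable def pullZl {X Y : Scheme.{u}} (f : X ⟶ Y) (ℓ : ℕ) :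
    (EtCoh.pull f).obj (Zl Y ℓ) ≅ Zl X ℓ :=
  cokerNsmulIso (EtCoh.pull f) (constZ Y) ℓ ≪≫ cokerNsmulCongr (EtCore.pullConst f ℤ) ℓ

instance extZero_additive {X Y : Scheme.{u}} (f : X ⟶ Y) [AlgebraicGeometry.Etale f] :
    (EtShriek.extZero f).Additive := (pullAdj f).left_adjoint_additive

instance extZero_preservesFiniteColimits {X Y : Scheme.{u}} (f : X ⟶ Y)
    [AlgebraicGeometry.Etale f] : PreservesFiniteColimits (EtShriek.extZero f) :=
  have : PreservesColimitsOfSize.{0, 0} (EtShriek.extZero f) :=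
    (pullAdj f).leftAdjoint_preservesColimits
  PreservesColimitsOfSize.preservesFiniteColimits _

/-- `f_!(ℤ/ℓ) = (f_! ℤ)/ℓ`. -/
noncomputable def extZeroZl {X Y : Scheme.{u}} (f : X ⟶ Y) [AlgebraicGeometry.Etale f] (ℓ : ℕ) :
    (EtShriek.extZero f).obj (Zl X ℓ) ≅
      cokernel (ℓ • 𝟙 ((EtShriek.extZero f).obj (constZ X))) :=
  cokerNsmulIso (EtShriek.extZero f) (constZ X) ℓ

instance const_preservesFiniteColimits (Y : Scheme.{u}) :
    PreservesFiniteColimits (constantSheaf Y.smallEtaleTopology AddCommGrpCat.{u + 1}) :=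
  have : PreservesColimitsOfSize.{0, 0}
      (constantSheaf Y.smallEtaleTopology AddCommGrpCat.{u + 1}) :=
    (EtCore.constAdj Y).leftAdjoint_preservesColimits
  PreservesColimitsOfSize.preservesFiniteColimits _

instance const_additive (Y : Scheme.{u}) :
    (constantSheaf Y.smallEtaleTopology AddCommGrpCat.{u + 1}).Additive := by
  haveI : PreservesBinaryBiproducts (constantSheaf Y.smallEtaleTopology AddCommGrpCat.{u + 1}) :=
    preservesBinaryBiproducts_of_preservesBinaryCoproducts _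
  exact Functor.additive_of_preservesBinaryBiproducts _

/-- the constant sheaf on the group `ℤ/ℓ` (as a cokernel) is `ℤ/ℓ`. -/
noncomputable def constZl (Y : Scheme.{u}) (ℓ : ℕ) :
    (constantSheaf Y.smallEtaleTopology AddCommGrpCat.{u + 1}).obj
      (cokernel (ℓ • 𝟙 (ZZ'.{u}))) ≅ Zl Y ℓ :=
  cokerNsmulIso (constantSheaf Y.smallEtaleTopology AddCommGrpCat.{u + 1}) (ZZ'.{u}) ℓ

/-- a nonzero vector space over `𝔽_ℓ` maps onto `𝔽_ℓ`. -/
lemma exists_surj_zmod (ℓ : ℕ) [hℓ : Fact ℓ.Prime] (B : Type*) [AddCommGroup B]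
    [Module (ZMod ℓ) B] (b : B) (hb : b ≠ 0) :
    ∃ φ : B →+ ZMod ℓ, Function.Surjective φ := by
  obtain ⟨φ, hφ⟩ := Module.Projective.exists_dual_ne_zero (ZMod ℓ) hb
  refine ⟨φ.toAddMonoidHom, ?_⟩
  intro t
  refine ⟨(t * (φ b)⁻¹) • b, ?_⟩
  change φ ((t * (φ b)⁻¹) • b) = t
  rw [map_smul, smul_eq_mul, mul_assoc, inv_mul_cancel₀ hφ, mul_one]

/-- a group on which `ℓ` is not surjective maps onto `ℤ/ℓ`. -/
lemma exists_epi_to_coker (ℓ : ℕ) [hℓ : Fact ℓ.Prime] (A : AddCommGrpCat.{u + 1})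
    (h : ¬ Function.Surjective (fun a : A => ℓ • a)) :
    ∃ ψ : A ⟶ cokernel (ℓ • 𝟙 (ZZ'.{u})), Epi ψ := by
  classical
  -- the quotient `A/ℓA`
  let N : AddSubgroup A := (nsmulAddMonoidHom (α := A) ℓ).range
  have hN : ∀ x : A, ℓ • x ∈ N := fun x => ⟨x, rfl⟩
  obtain ⟨a, ha⟩ : ∃ a : A, a ∉ N := by
    by_contra hc
    push Not at hc
    apply h
    intro b
    obtain ⟨c, hc'⟩ := hc b
    exact ⟨c, hc'⟩
  have hne : (QuotientAddGroup.mk a : A ⧸ N) ≠ 0 := by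
    intro h0
    exact ha ((QuotientAddGroup.eq_zero_iff a).1 h0)
  obtain ⟨φ, hφs⟩ := @exists_surj_zmod ℓ hℓ (A ⧸ N) _ (QuotientAddGroup.zmodModule hN)
    (QuotientAddGroup.mk a) hne
  -- the map `ZMod ℓ → C`
  let π := cokernel.π (ℓ • 𝟙 (ZZ'.{u}))
  let f : ℤ →+ (cokernel (ℓ • 𝟙 (ZZ'.{u})) : AddCommGrpCat.{u + 1}) :=
    π.hom.comp (AddEquiv.ulift.symm : ℤ ≃+ ULift.{u + 1} ℤ).toAddMonoidHom
  have hf : f (ℓ : ℤ) = 0 := by
    have h1 : ((ℓ • 𝟙 (ZZ'.{u})) ≫ π) = 0 := cokernel.condition _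
    have h2 := ConcreteCategory.congr_hom h1 (ULift.up (1 : ℤ))
    have h3 : (ℓ • 𝟙 (ZZ'.{u}) : ZZ'.{u} ⟶ ZZ'.{u}) (ULift.up (1 : ℤ)) = ULift.up (ℓ : ℤ) := by
      change ℓ • (ULift.up (1 : ℤ)) = _
      apply ULift.ext
      change ℓ • (1 : ℤ) = (ℓ : ℤ)
      simp
    rw [ConcreteCategory.comp_apply, h3] at h2
    exact h2
  let g : ZMod ℓ →+ (cokernel (ℓ • 𝟙 (ZZ'.{u})) : AddCommGrpCat.{u + 1}) := ZMod.lift ℓ ⟨f, hf⟩
  have hg : Function.Surjective g := by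
    intro c
    have hπ : Function.Surjective π := (AddCommGrpCat.epi_iff_surjective π).1 inferInstance
    obtain ⟨⟨z⟩, hz⟩ := hπ c
    refine ⟨(z : ZMod ℓ), ?_⟩
    rw [ZMod.lift_coe]
    exact hz
  let ψ₀ : A →+ (cokernel (ℓ • 𝟙 (ZZ'.{u})) : AddCommGrpCat.{u + 1}) :=
    g.comp (φ.comp (QuotientAddGroup.mk' N))
  refine ⟨AddCommGrpCat.ofHom ψ₀, ?_⟩
  rw [AddCommGrpCat.epi_iff_surjective]
  exact hg.comp (hφs.comp (QuotientAddGroup.mk'_surjective N))

variable {Y : Scheme.{u}}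

/-- a nonzero `ℓ`-power torsion sheaf isomorphic to a constant sheaf with finite value maps
onto `ℤ/ℓ`. -/
theorem exists_epi_Zl (ℓ : ℕ) [hℓ : Fact ℓ.Prime] (G : EtCoh.Ab Y) (A : AddCommGrpCat.{u + 1})
    [Finite A] (e : G ≅ (constantSheaf Y.smallEtaleTopology AddCommGrpCat.{u + 1}).obj A)
    (hG0 : ¬ IsZero G) (hGt : IsPTorsion (PowP ℓ) G) : ∃ g : G ⟶ Zl Y ℓ, Epi g := by
  by_cases hs : Function.Surjective (fun a : A => ℓ • a)
  · exfalso
    apply hG0
    -- multiplication by `ℓ` is an isomorphism on `A`, hence on `G`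
    have hb : Function.Bijective (fun a : A => ℓ • a) := ⟨Finite.injective_iff_surjective.2 hs, hs⟩
    haveI : IsIso (ℓ • 𝟙 A : A ⟶ A) := by
      rw [ConcreteCategory.isIso_iff_bijective]
      convert hb using 1
      funext a
      change (ℓ • 𝟙 A : A ⟶ A).hom a = ℓ • a
      rw [AddCommGrpCat.hom_nsmul]
      rfl
    have hC : IsIso (ℓ • 𝟙 ((constantSheaf Y.smallEtaleTopology AddCommGrpCat.{u + 1}).obj A)) := by
      have : ℓ • 𝟙 ((constantSheaf Y.smallEtaleTopology AddCommGrpCat.{u + 1}).obj A) =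
          (constantSheaf Y.smallEtaleTopology AddCommGrpCat.{u + 1}).map (ℓ • 𝟙 A) := by
        rw [Functor.map_nsmul, CategoryTheory.Functor.map_id]
      rw [this]
      infer_instance
    have hGi : IsIso (ℓ • 𝟙 G) := by
      have : ℓ • 𝟙 G = e.hom ≫
          (ℓ • 𝟙 ((constantSheaf Y.smallEtaleTopology AddCommGrpCat.{u + 1}).obj A)) ≫ e.inv := by
        rw [Preadditive.nsmul_comp, Preadditive.comp_nsmul, Category.id_comp, e.hom_inv_id]
      rw [this]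
      infer_instance
    have hpow : ∀ k : ℕ, IsIso ((ℓ ^ k) • 𝟙 G) := by
      intro k
      induction k with
      | zero => rw [pow_zero, one_nsmul]; infer_instance
      | succ k ih =>
        have : (ℓ ^ (k + 1)) • 𝟙 G = ((ℓ ^ k) • 𝟙 G) ≫ (ℓ • 𝟙 G) := by
          rw [Preadditive.nsmul_comp, Preadditive.comp_nsmul, Category.id_comp, ← mul_nsmul,
            pow_succ, mul_comm]
        rw [this]
        infer_instance
    have hsec : ∀ (U : Y.Etale) (s : G.obj.obj (op U)), s = 0 := by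
      intro U s
      apply Groth.Agent.H7.EZ.eq_zero_of_locally_zero G
      intro x
      obtain ⟨V, g, m, ⟨v, hv⟩, ⟨k, rfl⟩, hm⟩ := hGt U s x
      refine ⟨V, g, v, hv, ?_⟩
      haveI := hpow k
      apply app_injective_of_mono ((ℓ ^ k) • 𝟙 G) V
      rw [Groth.Agent.H2.TorsColim.nsmul_id_app, hm]
      exact (map_zero (((ℓ ^ k) • 𝟙 G : G ⟶ G).hom.app (op V)).hom).symm
    rw [IsZero.iff_id_eq_zero]
    apply Sheaf.hom_ext
    ext U s
    exact (hsec U.unop _).trans (hsec U.unop _).symm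
  · obtain ⟨ψ, hψ⟩ := exists_epi_to_coker ℓ A hs
    haveI : Epi ((constantSheaf Y.smallEtaleTopology AddCommGrpCat.{u + 1}).map ψ) :=
      (constantSheaf Y.smallEtaleTopology AddCommGrpCat.{u + 1}).map_epi ψ
    exact ⟨e.hom ≫ (constantSheaf Y.smallEtaleTopology AddCommGrpCat.{u + 1}).map ψ ≫
      (constZl Y ℓ).hom, inferInstance⟩

end Groth.Agent.H2.Cdl
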