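import Mathlib
import Groth.Prelude.Def_EtCore
import Groth.Prelude.Def_EtShriek2
import Groth.Agent.Lib.Helper2.LocConstAbA
import Groth.Agent.Lib.Helper2.LCModelE
import Groth.Agent.Lib.Helper7.ES1
import Groth.Agent.Lib.Helper7.ES2

/-! # A sheaf trivialised over an étale `V` becomes constant after pull-back to any étale `Y`
mapping to `V`. -/

set_option autoImplicit false
set_option linter.style.haveILetI false
set_option linter.unusedVariables false
set_option linter.unusedSectionVars false
universe u
open CategoryTheory CategoryTheory.Limits AlgebraicGeometry Opposite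

namespace Groth.Agent.H2.Cdl
open Groth.Agent.H2.LCModel Groth.Agent.H2.LocConstAb Groth.Agent.H7.ES

variable {X Y : Scheme.{u}} (j : Y ⟶ X) [AlgebraicGeometry.Etale j]

/-- the structure map to the terminal object. -/
noncomputable def toTop (W : Y.Etale) : W ⟶ EtCoh.top Y :=
  MorphismProperty.Over.homMk W.hom (Category.comp_id _)

set_option backward.isDefEq.respectTransparency.types false in
/-- `W ↦ ((W → Y → X) → (Y → X))`. -/
noncomputable def Θ : Y.Etale ⥤ Over ((EtShriek.compEtale j).obj (EtCoh.top Y)) where
  obj W := Over.mk ((EtShriek.compEtale j).map (toTop W))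
  map {W W'} g := Over.homMk ((EtShriek.compEtale j).map g) (by
    change (EtShriek.compEtale j).map g ≫ (EtShriek.compEtale j).map (toTop W') =
      (EtShriek.compEtale j).map (toTop W)
    rw [← Functor.map_comp]
    congr 1
    exact (EtCore.topIsTerminal Y).hom_ext _ _)
  map_id W := by
    apply Over.OverMorphism.ext
    exact (EtShriek.compEtale j).map_id W
  map_comp f g := by
    apply Over.OverMorphism.ext
    exact (EtShriek.compEtale j).map_comp f g

set_option backward.isDefEq.respectTransparency.types false in
theorem nonempty_pull_iso_const (F : EtCoh.Ab X) (V : X.Etale) (M : AddCommGrpCat.{u + 1})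
    (α : EtCoh.restr F V ≅
      (constantSheaf (X.smallEtaleTopology.over V) AddCommGrpCat.{u + 1}).obj M)
    (y : (EtShriek.compEtale j).obj (EtCoh.top Y) ⟶ V) :
    Nonempty ((EtCoh.pull j).obj F ≅
      (constantSheaf Y.smallEtaleTopology AddCommGrpCat.{u + 1}).obj M) := by
  let e : Triv (etReal X) F.obj ((EtShriek.compEtale j).obj (EtCoh.top Y)) M :=
    (Triv.ofIso (R := etReal X) α).restrict y
  let e' : ((EtShriek.restrAlong j).obj F).obj ≅ lcAbPre (etReal Y) M :=
    NatIso.ofComponents (fun W => e.app (op ((Θ j).obj W.unop))) (by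
      intro W W' g
      exact e.hom.naturality ((Θ j).map g.unop).op)
  let e'' : (EtShriek.restrAlong j).obj F ≅ (lcAb (etReal Y) M).sheaf :=
    { hom := ⟨e'.hom⟩
      inv := ⟨e'.inv⟩
      hom_inv_id := by apply Sheaf.hom_ext; exact e'.hom_inv_id
      inv_hom_id := by apply Sheaf.hom_ext; exact e'.inv_hom_id }
  exact ⟨(pullIsoRestr j).app F ≪≫ e'' ≪≫ (lcAb (etReal Y) M).iso.symm⟩

end Groth.Agent.H2.Cdl
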