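import Mathlib
import Groth.Prelude.Def_EtCore
import Groth.Prelude.Def_PBC
import Groth.Agent.Lib.Helper2.CdlF
import Groth.Agent.Lib.Helper2.StrataD
import Groth.Agent.Lib.Helper2.CotrD

/-! # A constructible sheaf on the spectrum of a field becomes constant over a finite separable
extension. -/

set_option autoImplicit false
set_option linter.style.haveILetI false
set_option linter.unusedVariables false
set_option linter.unusedSectionVars false
universe u
open CategoryTheory CategoryTheory.Limits AlgebraicGeometry Opposite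

namespace Groth.Agent.H2.Cdl
open Groth.Agent.H2.GalField

/-- pull-back along a composite. -/
noncomputable def pullCompApp {X Y Z : Scheme.{u}} (f : X ⟶ Y) (g : Y ⟶ Z) (h : X ⟶ Z)
    (w : f ≫ g = h) (F : EtCoh.Ab Z) :
    (EtCoh.pull f).obj ((EtCoh.pull g).obj F) ≅ (EtCoh.pull h).obj F :=
  ((EtCore.pullComp f g).symm ≪≫ EtCore.pullCongr w).app F

variable (K : Type u) [Field K]

set_option backward.isDefEq.respectTransparency.types false in
theorem exists_field_const (F : EtCoh.Ab (SK K)) (hFc : EtPBC.IsConstructible F) :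
    ∃ (L : Type u) (_ : Field L) (_ : Algebra K L) (_ : Module.Finite K L)
      (_ : Algebra.IsSeparable K L) (M : Type) (_ : AddCommGroup M) (_ : Finite M),
      Nonempty ((EtCoh.pull (Spec.map (CommRingCat.ofHom (algebraMap K L)))).obj F ≅
        EtCoh.const (SK L) M) := by
  haveI : Subsingleton ↥(SK K) := inferInstanceAs (Subsingleton (PrimeSpectrum K))
  haveI : Nonempty ↥(SK K) := inferInstanceAs (Nonempty (PrimeSpectrum K))
  obtain ⟨n, T, g, himm, -, -, hcov, hflc⟩ := hFc ⊤ (isAffineOpen_top (SK K))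
  let pt : ↥(SK K) := Classical.arbitrary _
  have hpt : pt ∈ ⋃ i, Set.range (g i) := by rw [hcov]; trivial
  obtain ⟨i, t, ht⟩ := Set.mem_iUnion.1 hpt
  haveI := himm i
  haveI : Surjective (g i) := ⟨fun x => ⟨t, Subsingleton.elim _ _⟩⟩
  haveI : Subsingleton ↥(T i) := (g i).isEmbedding.injective.subsingleton
  haveI : CompactSpace ↥(T i) := Finite.compactSpace
  haveI : QuasiCompact (g i) := (quasiCompact_iff_compactSpace (g i)).2 inferInstance
  haveI : IsIso (g i) := Flat.isIso_of_surjective_of_mono (g i)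
  have h1 : EtCoh.IsFiniteLocallyConstant ((EtCoh.pull (𝟙 (SK K))).obj F) :=
    Groth.Agent.H2.Strata.isFLC_pull_of_comp'' (inv (g i)) (g i) (𝟙 _)
      (IsIso.inv_hom_id (g i)).symm F (hflc i)
  obtain ⟨ι, U, hU, hα⟩ := h1
  obtain ⟨i₀, y₀, -⟩ := hU pt
  obtain ⟨M, hM1, hM2, ⟨α⟩⟩ := hα i₀
  haveI : Etale (U i₀).hom := (U i₀).prop
  obtain ⟨L', hL1, hL2, hL3, hL4, j, hjo, hj, -⟩ :=
    Groth.Agent.H8.Pi0.exists_open_point (k := K) (U i₀).hom y₀
  refine ⟨L', hL1, hL2, hL3, hL4, M, hM1, hM2, ?_⟩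
  let y : (EtShriek.compEtale (fKL K L')).obj (EtCoh.top (SK L')) ⟶ U i₀ :=
    MorphismProperty.Over.homMk j (by
      change j ≫ (U i₀).hom = 𝟙 _ ≫ fKL K L'
      rw [Category.id_comp]
      exact hj)
  obtain ⟨β⟩ := nonempty_pull_iso_const (fKL K L') ((EtCoh.pull (𝟙 (SK K))).obj F) (U i₀) _ α y
  exact ⟨(pullCompApp (fKL K L') (𝟙 _) (fKL K L') (Category.comp_id _) F).symm ≪≫ β⟩

end Groth.Agent.H2.Cdl
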