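import Mathlib
import Groth.Agent.Lib.Helper2.CotrG
import Groth.Agent.Lib.Helper2.HpullD

/-! # Period and index have the same prime factors (étale cohomology of a field). -/

set_option autoImplicit false
set_option linter.style.haveILetI false
set_option linter.unusedVariables false
set_option linter.unusedSectionVars false
universe u
open CategoryTheory CategoryTheory.Limits AlgebraicGeometry Opposite Abelian IntermediateField Module

namespace Groth.Agent.H2.GalField

section Hpull
variable {X Y Z : Scheme.{u}}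

lemma Hpull_congr {f₁ f₂ : X ⟶ Y} (h : f₁ = f₂) [PreservesFiniteLimits (EtCoh.pull f₁)]
    [PreservesFiniteLimits (EtCoh.pull f₂)] (G : EtCoh.Ab Y) (n : ℕ) (e : EtCoh.H Y G n)
    (h0 : EtCore.Hpull f₁ G n e = 0) : EtCore.Hpull f₂ G n e = 0 := by
  subst h
  exact h0

variable (f : X ⟶ Y) (g : Y ⟶ Z)
  [PreservesFiniteLimits (EtCoh.pull f)] [PreservesFiniteLimits (EtCoh.pull g)]
  [PreservesFiniteLimits (EtCoh.pull (f ≫ g))]

lemma Hpull_comp_eq_zero (G : EtCoh.Ab Z) (n : ℕ) (e : EtCoh.H Z G n)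
    (h : EtCore.Hpull g G n e = 0) : EtCore.Hpull (f ≫ g) G n e = 0 := by
  obtain ⟨Θ, hΘ, hc⟩ := Groth.Agent.H2.HpullA.Hpull_comp f g G n
  have h1 := hc e
  have h2 := hc 0
  rw [map_zero, map_zero, map_zero] at h2
  rw [h, map_zero, ← h2] at h1
  exact h1

lemma Hpull_eq_zero_of_comp (G : EtCoh.Ab Z) (n : ℕ) (e : EtCoh.H Z G n)
    (h : EtCore.Hpull (f ≫ g) G n e = 0) :
    EtCore.Hpull f _ n (EtCore.Hpull g G n e) = 0 := by
  obtain ⟨Θ, hΘ, hc⟩ := Groth.Agent.H2.HpullA.Hpull_comp f g G n
  have h1 := hc e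
  have h2 := hc 0
  rw [map_zero, map_zero, map_zero] at h2
  rw [h, h2] at h1
  exact (hΘ.1 h1).symm

end Hpull

theorem exists_sylow_field (K : Type u) [Field K] (M : Type u) [Field M] [Algebra K M]
    [FiniteDimensional K M] [IsGalois K M] (p : ℕ) [Fact p.Prime] :
    ∃ L' : IntermediateField K M, ¬ p ∣ finrank K L' ∧ ∃ a : ℕ, finrank L' M = p ^ a := by
  let G := M ≃ₐ[K] M
  haveI : Finite G := inferInstance
  obtain ⟨P⟩ : Nonempty (Sylow p G) := inferInstance
  refine ⟨fixedField (P : Subgroup G), ?_, ?_⟩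
  · have h1 : finrank (fixedField (P : Subgroup G)) M = Nat.card (P : Subgroup G) :=
      finrank_fixedField_eq_card _
    have h2 : Nat.card G = finrank K M := IsGalois.card_aut_eq_finrank K M
    have h3 : finrank K (fixedField (P : Subgroup G)) * finrank (fixedField (P : Subgroup G)) M =
        finrank K M := Module.finrank_mul_finrank K _ M
    have h4 : Nat.card (P : Subgroup G) * (P : Subgroup G).index = Nat.card G :=
      Subgroup.card_mul_index _
    have h5 : finrank K (fixedField (P : Subgroup G)) = (P : Subgroup G).index := by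
      have hpos : 0 < Nat.card (P : Subgroup G) := Nat.card_pos
      rw [h1, ← h2, ← h4, mul_comm] at h3
      exact Nat.eq_of_mul_eq_mul_left hpos h3
    rw [h5]
    exact P.not_dvd_index
  · obtain ⟨a, ha⟩ := P.isPGroup'.exists_card_eq
    exact ⟨a, by rw [finrank_fixedField_eq_card]; exact ha⟩

lemma fKL_comp (K L M : Type u) [Field K] [Field L] [Field M] [Algebra K L] [Algebra L M]
    [Algebra K M] [IsScalarTower K L M] :
    Spec.map (CommRingCat.ofHom (algebraMap L M)) ≫ Spec.map (CommRingCat.ofHom (algebraMap K L)) =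
      Spec.map (CommRingCat.ofHom (algebraMap K M)) := by
  rw [← Spec.map_comp, ← CommRingCat.ofHom_comp, ← IsScalarTower.algebraMap_eq]

theorem exists_prime_to_p (K : Type u) [Field K] (F : EtCoh.Ab (SK K)) (i : ℕ)
    (α : EtCoh.H (SK K) F i) (L : Type u) [Field L] [Algebra K L] [FiniteDimensional K L]
    [Algebra.IsSeparable K L] [PreservesFiniteLimits (EtCoh.pull (fKL K L))]
    (hα : EtCore.Hpull (fKL K L) F i α = 0) (p : ℕ) (hp : p.Prime)
    (hpα : ¬ p ∣ addOrderOf α) :
    ∃ (L' : Type u) (_ : Field L') (_ : Algebra K L') (_ : FiniteDimensional K L')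
      (_ : Algebra.IsSeparable K L'),
      ¬ p ∣ Module.finrank K L' ∧
        ∀ [PreservesFiniteLimits (EtCoh.pull (Spec.map (CommRingCat.ofHom (algebraMap K L'))))],
          EtCore.Hpull (Spec.map (CommRingCat.ofHom (algebraMap K L'))) F i α = 0 := by
  haveI : Fact p.Prime := ⟨hp⟩
  haveI : IsGalois K (GC K L) := ⟨⟩
  obtain ⟨L', hL'1, a, hL'2⟩ := exists_sylow_field K (GC K L) p
  refine ⟨L', inferInstance, inferInstance, inferInstance, inferInstance, hL'1, ?_⟩
  intro inst
  haveI : ∀ {A B : Scheme.{u}} (h : A ⟶ B), PreservesFiniteLimits (EtCoh.pull h) :=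
    fun h => Groth.Agent.H7.GT.S101_main h
  -- `α` dies over the Galois closure
  have hM : EtCore.Hpull (Spec.map (CommRingCat.ofHom (algebraMap K (GC K L)))) F i α = 0 :=
    Hpull_congr (fKL_comp K L (GC K L)) F i α
      (Hpull_comp_eq_zero (Spec.map (CommRingCat.ofHom (algebraMap L (GC K L)))) (fKL K L) F i α hα)
  -- hence the restriction to `L'` dies over it
  have hM' : EtCore.Hpull (Spec.map (CommRingCat.ofHom (algebraMap L' (GC K L))) ≫
      Spec.map (CommRingCat.ofHom (algebraMap K L'))) F i α = 0 :=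
    Hpull_congr (fKL_comp K L' (GC K L)).symm F i α hM
  have h3 := Hpull_eq_zero_of_comp (Spec.map (CommRingCat.ofHom (algebraMap L' (GC K L))))
    (Spec.map (CommRingCat.ofHom (algebraMap K L'))) F i α hM'
  have h4 := finrank_nsmul_eq_zero L' (GC K L) _ i _ h3
  have h5 : addOrderOf α • EtCore.Hpull (Spec.map (CommRingCat.ofHom (algebraMap K L'))) F i α = 0 := by
    rw [← map_nsmul, addOrderOf_nsmul_eq_zero, map_zero]
  rw [hL'2] at h4
  exact eq_zero_of_coprime _ _ _
    (Nat.Coprime.pow_left a ((Nat.Prime.coprime_iff_not_dvd hp).2 hpα)) h4 h5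

end Groth.Agent.H2.GalField
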