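import Mathlib
import Groth.Agent.Lib.Helper2.CdlE
import Groth.Agent.Lib.Helper2.CdlG
import Groth.Agent.Lib.Helper2.CotrH

/-! # Vanishing of `H^n(M, ℤ/ℓ)` for all finite separable `M/K` from vanishing of
`H^n(L, F|_L)` for a nonzero constructible `ℓ`-torsion sheaf `F`. -/

set_option autoImplicit false
set_option linter.style.haveILetI false
set_option linter.unusedVariables false
set_option linter.unusedSectionVars false
universe u
open CategoryTheory CategoryTheory.Limits AlgebraicGeometry Opposite IntermediateField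

namespace Groth.Agent.H2.Cdl
open Groth.Agent.H2.GalField Groth.Agent.H2.PTors

theorem exists_common_ext (K M L₀ : Type u) [Field K] [Field M] [Field L₀] [Algebra K M]
    [Algebra K L₀] [Module.Finite K M] [Module.Finite K L₀] [Algebra.IsSeparable K M]
    [Algebra.IsSeparable K L₀] :
    ∃ (E : Type u) (_ : Field E) (_ : Algebra K E) (_ : Algebra M E) (_ : Algebra L₀ E)
      (_ : IsScalarTower K M E) (_ : IsScalarTower K L₀ E) (_ : Module.Finite K E)
      (_ : Algebra.IsSeparable K E), True := by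
  let Ω := AlgebraicClosure K
  let σ : M →ₐ[K] Ω := IsAlgClosed.lift
  let τ : L₀ →ₐ[K] Ω := IsAlgClosed.lift
  let E₁ : IntermediateField K Ω := σ.fieldRange
  let E₂ : IntermediateField K Ω := τ.fieldRange
  let e₁ : M ≃ₐ[K] E₁ := AlgEquiv.ofInjectiveField σ
  let e₂ : L₀ ≃ₐ[K] E₂ := AlgEquiv.ofInjectiveField τ
  haveI : FiniteDimensional K E₁ := Module.Finite.equiv e₁.toLinearEquiv
  haveI : FiniteDimensional K E₂ := Module.Finite.equiv e₂.toLinearEquiv
  haveI : Algebra.IsSeparable K E₁ := Algebra.IsSeparable.of_algHom K M e₁.symm.toAlgHom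
  haveI : Algebra.IsSeparable K E₂ := Algebra.IsSeparable.of_algHom K L₀ e₂.symm.toAlgHom
  let E : IntermediateField K Ω := E₁ ⊔ E₂
  let φ₁ : M →ₐ[K] E := (IntermediateField.inclusion (le_sup_left : E₁ ≤ E)).comp e₁.toAlgHom
  let φ₂ : L₀ →ₐ[K] E := (IntermediateField.inclusion (le_sup_right : E₂ ≤ E)).comp e₂.toAlgHom
  letI : Algebra M E := φ₁.toRingHom.toAlgebra
  letI : Algebra L₀ E := φ₂.toRingHom.toAlgebra
  haveI : IsScalarTower K M E := IsScalarTower.of_algebraMap_eq (fun x => (φ₁.commutes x).symm)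
  haveI : IsScalarTower K L₀ E := IsScalarTower.of_algebraMap_eq (fun x => (φ₂.commutes x).symm)
  exact ⟨E, inferInstance, inferInstance, inferInstance, inferInstance, inferInstance, inferInstance,
    inferInstance, inferInstance, trivial⟩

section Inst
variable (K : Type u) [Field K] (L : Type u) [Field L] [Algebra K L] [Module.Finite K L]
  [Algebra.IsSeparable K L]

instance isFinite_fKL : IsFinite (fKL K L) := by
  rw [IsFinite.SpecMap_iff]
  exact RingHom.finite_algebraMap.2 inferInstance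

instance surjective_fKL : Surjective (fKL K L) := by
  haveI : Subsingleton ↥(SK K) := inferInstanceAs (Subsingleton (PrimeSpectrum K))
  haveI : Nonempty ↥(SK L) := inferInstanceAs (Nonempty (PrimeSpectrum L))
  exact ⟨fun x => ⟨Classical.arbitrary _, Subsingleton.elim _ _⟩⟩

end Inst

variable (K : Type u) [Field K] (ℓ : ℕ) [hℓ : Fact ℓ.Prime] (n : ℕ) (F : EtCoh.Ab (SK K))

/-- standing hypothesis: `H^n(L, F|_L) = 0` for all finite separable `L/K`. -/
def Hyp : Prop :=
  ∀ (L : Type u) [Field L] [Algebra K L] [Module.Finite K L] [Algebra.IsSeparable K L],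
    Subsingleton (EtCoh.H (SK L) ((EtCoh.pull (fKL K L)).obj F) n)

theorem subsingleton_H_Zl_of_tower (hcd : CdLE (SK K) (PowP ℓ) n)
    (hFt : IsPTorsion (PowP ℓ) F) (hF0 : ¬ IsZero F) (hN : Hyp K n F)
    (L₀ : Type u) [Field L₀] [Algebra K L₀] [Module.Finite K L₀] [Algebra.IsSeparable K L₀]
    (M : Type) [AddCommGroup M] [Finite M]
    (β : (EtCoh.pull (fKL K L₀)).obj F ≅ EtCoh.const (SK L₀) M)
    (E : Type u) [Field E] [Algebra K E] [Algebra L₀ E] [IsScalarTower K L₀ E]
    [Module.Finite K E] [Algebra.IsSeparable K E] :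
    Subsingleton (EtCoh.H (SK E) (Zl (SK E) ℓ) n) := by
  haveI : Module.Finite L₀ E := Module.Finite.of_restrictScalars_finite K L₀ E
  haveI : Algebra.IsSeparable L₀ E := Algebra.isSeparable_tower_top_of_isSeparable K L₀ E
  let G := (EtCoh.pull (fKL K E)).obj F
  have e1 : G ≅ EtCoh.const (SK E) M :=
    (pullCompApp (fKL L₀ E) (fKL K L₀) (fKL K E) (fKL_comp K L₀ E) F).symm ≪≫
      (EtCoh.pull (fKL L₀ E)).mapIso β ≪≫ EtCore.pullConst (fKL L₀ E) M
  have hG0 : ¬ IsZero G := by
    intro hz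
    apply hF0
    rw [IsZero.iff_id_eq_zero]
    apply (EtCoh.pull (fKL K E)).map_injective
    rw [CategoryTheory.Functor.map_id, Functor.map_zero]
    exact (IsZero.iff_id_eq_zero _).1 hz
  have hGt : IsPTorsion (PowP ℓ) G := isPTorsion_pull (fKL K E) F hFt
  haveI : Finite (AddCommGrpCat.of (ULift.{u + 1} M)) := inferInstanceAs (Finite (ULift.{u + 1} M))
  obtain ⟨g, hg⟩ := exists_epi_Zl ℓ G (AddCommGrpCat.of (ULift.{u + 1} M)) e1 hG0 hGt
  have hcdE : CdLE (SK E) (PowP ℓ) n :=
    cdLE_of_integral (mulPred_powP hℓ.out.pos) (fKL K E) hcd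
  exact subsingleton_H_of_epi hcdE g hGt (hN E)

theorem subsingleton_H_Zl (hcd : CdLE (SK K) (PowP ℓ) n)
    (hFt : IsPTorsion (PowP ℓ) F) (hF0 : ¬ IsZero F) (hN : Hyp K n F)
    (L₀ : Type u) [Field L₀] [Algebra K L₀] [Module.Finite K L₀] [Algebra.IsSeparable K L₀]
    (M : Type) [AddCommGroup M] [Finite M]
    (β : (EtCoh.pull (fKL K L₀)).obj F ≅ EtCoh.const (SK L₀) M)
    (M' : Type u) [Field M'] [Algebra K M'] [Module.Finite K M'] [Algebra.IsSeparable K M'] :
    Subsingleton (EtCoh.H (SK M') (Zl (SK M') ℓ) n) := by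
  obtain ⟨E, _, _, _, _, _, _, _, _, -⟩ := exists_common_ext K M' L₀
  haveI : Module.Finite M' E := Module.Finite.of_restrictScalars_finite K M' E
  haveI : Algebra.IsSeparable M' E := Algebra.isSeparable_tower_top_of_isSeparable K M' E
  have h1 := subsingleton_H_Zl_of_tower K ℓ n F hcd hFt hF0 hN L₀ M β E
  have h2 : Subsingleton (EtCoh.H (SK E) ((EtCoh.pull (fKL M' E)).obj (Zl (SK M') ℓ)) n) :=
    subsingleton_H_of_iso (pullZl (fKL M' E) ℓ).symm n h1
  have hcdM : CdLE (SK M') (PowP ℓ) n :=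
    cdLE_of_integral (mulPred_powP hℓ.out.pos) (fKL K M') hcd
  exact subsingleton_H_descend (fKL M' E) (mulPred_powP hℓ.out.pos) hcdM (Zl (SK M') ℓ)
    (isPTorsion_of_nsmul _ ℓ ⟨1, (pow_one ℓ).symm⟩ (Zl_nsmul _ ℓ)) h2

end Groth.Agent.H2.Cdl
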