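import Mathlib
import Groth.Prelude.Def_EtCore
import Groth.Agent.Lib.Helper2.GeoPushB
import Groth.Agent.Lib.Lead.AbPull.LerayGen
import Groth.Agent.Lib.Helper7.ST12

/-! # Cohomology of direct images from pointlike schemes vanishes in positive degrees. -/

set_option autoImplicit false
set_option linter.style.haveILetI false
set_option linter.unusedVariables false
universe u
open CategoryTheory CategoryTheory.Limits AlgebraicGeometry Opposite

namespace Groth.Agent.H2.GeoPush

lemma gsec_preservesEpimorphisms {G : Scheme.{u}} (hG : Pointlike G) :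
    (EtCore.gsec G).PreservesEpimorphisms :=
  ⟨fun a _ => (AddCommGrpCat.epi_iff_surjective _).2
    (app_surjective_of_epi hG a (EtCoh.top G))⟩

lemma projective_constZ {G : Scheme.{u}} (hG : Pointlike G) :
    Projective ((constantSheaf G.smallEtaleTopology AddCommGrpCat.{u + 1}).obj
      (AddCommGrpCat.of (ULift.{u + 1} ℤ))) := by
  haveI := gsec_preservesEpimorphisms hG
  exact (EtCore.constAdj G).map_projective _ inferInstance

/-- Higher cohomology on a pointlike scheme vanishes. -/
theorem subsingleton_H_succ {G : Scheme.{u}} (hG : Pointlike G) (Z : EtCoh.Ab G) (n : ℕ) :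
    Subsingleton (EtCoh.H G Z (n + 1)) := by
  haveI := projective_constZ hG
  refine ⟨fun a b => ?_⟩
  rw [Abelian.Ext.eq_zero_of_projective a, Abelian.Ext.eq_zero_of_projective b]

/-- Degenerate Leray: cohomology of a direct image from a pointlike scheme. -/
theorem nonempty_H_push_equiv {G Y : Scheme.{u}} (hG : Pointlike G) (g : G ⟶ Y)
    (Z : EtCoh.Ab G) (p : ℕ) :
    Nonempty (EtCoh.H G Z p ≃+ EtCoh.H Y ((EtCoh.push g).obj Z) p) := by
  refine Groth.Agent.LD.AbPull.leray_of_isZero_rightDerived (EtCoh.push g)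
    ((constantSheaf Y.smallEtaleTopology AddCommGrpCat.{u + 1}).obj
      (AddCommGrpCat.of (ULift.{u + 1} ℤ)))
    ((constantSheaf G.smallEtaleTopology AddCommGrpCat.{u + 1}).obj
      (AddCommGrpCat.of (ULift.{u + 1} ℤ)))
    (fun Q => ((EtCore.pullConst g ℤ).symm.homFromEquiv (Z := Q)).trans
      ((EtCoh.pullPushAdj g).homEquiv _ _)) ?_ ?_ Z (fun q => isZero_Rpush hG g Z q) p
  · intro Q Q' ψ φ
    simp only [Equiv.trans_apply, Iso.homFromEquiv_apply]
    rw [← Category.assoc, Adjunction.homEquiv_naturality_right]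
  · intro Q hQ
    exact (EtCoh.push g).injective_obj Q

/-- Cohomology of a direct image from a pointlike scheme vanishes in positive degrees. -/
theorem subsingleton_H_push_succ {G Y : Scheme.{u}} (hG : Pointlike G) (g : G ⟶ Y)
    (Z : EtCoh.Ab G) (n : ℕ) :
    Subsingleton (EtCoh.H Y ((EtCoh.push g).obj Z) (n + 1)) := by
  obtain ⟨e⟩ := nonempty_H_push_equiv hG g Z (n + 1)
  haveI := subsingleton_H_succ hG Z n
  exact e.symm.toEquiv.subsingleton

/-- Cohomology is invariant under isomorphism of sheaves (subsingleton version). -/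
lemma subsingleton_H_of_iso {Y : Scheme.{u}} {F F' : EtCoh.Ab Y} (e : F ≅ F') (n : ℕ)
    [h : Subsingleton (EtCoh.H Y F' n)] : Subsingleton (EtCoh.H Y F n) := by
  let e' := (EtCoh.HF Y n).mapIso e
  have hb : Function.Bijective e'.hom := ConcreteCategory.bijective_of_isIso e'.hom
  haveI : Subsingleton (ToType ((EtCoh.HF Y n).obj F')) := h
  exact (Equiv.ofBijective _ hb).subsingleton

end Groth.Agent.H2.GeoPush
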