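import Mathlib
import Groth.Agent.Lib.Helper2.TorsColimC
import Groth.Agent.Lib.Helper2.GeoPushC

/-! # Cohomology of an arbitrary coproduct of acyclic sheaves on a qcqs scheme vanishes. -/

set_option autoImplicit false
set_option linter.style.haveILetI false
set_option linter.unusedVariables false
set_option linter.unusedSectionVars false
universe u
open CategoryTheory CategoryTheory.Limits AlgebraicGeometry Opposite Abelian

namespace Groth.Agent.H2.SigmaCoh

open Groth.Agent.LD.Colim Groth.Agent.H2.EtSmall Groth.Agent.H2.TorsColim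

section General
variable {A : Type*} [Category A] [Abelian A] [HasExt A] {Z P Q : A}

/-- `pc · y` as an additive map. -/
noncomputable def pcHom {q : ℕ} (y : Ext Z P q) (Q : A) : (P ⟶ Q) →+ Ext Z Q q where
  toFun f := pc f y
  map_zero' := pc_zero_left y
  map_add' f g := by
    unfold pc
    rw [Ext.mk₀_add, Ext.comp_add]

lemma pc_sum {ι : Type*} (s : Finset ι) (g : ι → (P ⟶ Q)) {q : ℕ} (y : Ext Z P q) :
    pc (∑ j ∈ s, g j) y = ∑ j ∈ s, pc (g j) y :=
  map_sum (pcHom y Q) g s

lemma total' {ι : Type*} [Fintype ι] [DecidableEq ι] (f : ι → A) [HasBiproduct f] :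
    ∑ j, biproduct.π f j ≫ biproduct.ι f j = 𝟙 (⨁ f) := by
  apply biproduct.hom_ext
  intro k
  rw [Preadditive.sum_comp, Category.id_comp]
  rw [Finset.sum_eq_single k]
  · rw [Category.assoc, biproduct.ι_π_self, Category.comp_id]
  · intro j _ hjk
    rw [Category.assoc, biproduct.ι_π_ne _ hjk, comp_zero]
  · intro hk; exact absurd (Finset.mem_univ k) hk

/-- `Ext(Z, -)` of a finite coproduct of objects with vanishing `Ext` vanishes. -/
theorem subsingleton_ext_sigma_finite (Z : A) {ι : Type*} [Finite ι] (f : ι → A) (q : ℕ)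
    (h : ∀ i, Subsingleton (Ext Z (f i) q)) : Subsingleton (Ext Z (∐ f) q) := by
  classical
  haveI := Fintype.ofFinite ι
  haveI : HasFiniteBiproducts A := Abelian.hasFiniteBiproducts
  suffices hz : ∀ β : Ext Z (⨁ f) q, β = 0 by
    constructor
    intro a b
    have key : ∀ α : Ext Z (∐ f) q, α = 0 := by
      intro α
      have h1 := hz (pc (biproduct.isoCoproduct f).inv α)
      have h2 := congrArg (pc (biproduct.isoCoproduct f).hom) h1
      rw [pc_comp, Iso.inv_hom_id, pc_id, pc_zero] at h2
      exact h2
    rw [key a, key b]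
  intro β
  have h1 : pc (𝟙 (⨁ f)) β = β := pc_id β
  have ht : ∑ j, biproduct.π f j ≫ biproduct.ι f j = 𝟙 (⨁ f) := total' f
  rw [← ht, pc_sum] at h1
  rw [← h1]
  refine Finset.sum_eq_zero (fun j _ => ?_)
  rw [← pc_comp]
  have : pc (biproduct.π f j) β = 0 := Subsingleton.elim _ _
  rw [this, pc_zero]

end General

/-- a colimit of subsingleton groups is subsingleton. -/
theorem subsingleton_of_isColimit {J : Type*} [Category J] {G : J ⥤ AddCommGrpCat.{u}}
    {c : Cocone G} (hc : IsColimit c) (h : ∀ j, Subsingleton (G.obj j)) : Subsingleton c.pt := by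
  have hz : IsZero c.pt := by
    rw [IsZero.iff_id_eq_zero]
    refine hc.hom_ext (fun j => ?_)
    have : IsZero (G.obj j) := AddCommGrpCat.isZero_of_subsingleton _
    exact this.eq_of_src _ _
  exact AddCommGrpCat.subsingleton_of_isZero hz

variable (X : Scheme.{u}) [CompactSpace X] [QuasiSeparatedSpace X]

open CoproductsFromFiniteFiltered in
/-- **cohomology of a qcqs scheme vanishes on arbitrary coproducts of acyclic sheaves.** -/
theorem subsingleton_H_sigma {α : Type u} (A : α → EtCoh.Ab X) (c : Cofan A) (hc : IsColimit c)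
    (q : ℕ) (h : ∀ a, Subsingleton (EtCoh.H X (A a) q)) : Subsingleton (EtCoh.H X c.pt q) := by
  classical
  let L : Finset (Discrete α) ⥤ EtCoh.Ab X := liftToFinsetObj (Discrete.functor A)
  haveI : IsFiltered (Finset (Discrete α)) := inferInstance
  haveI := preservesColimitsOfShape_HF X q (Finset (Discrete α))
  have hcol := isColimitOfPreserves (EtCoh.HF X q) (colimit.isColimit L)
  have h1 : Subsingleton (EtCoh.H X (colimit L) q) := by
    refine subsingleton_of_isColimit hcol (fun S => ?_)
    change Subsingleton (Ext (constZ X) (∐ fun x : S => A x.1.as) q)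
    exact subsingleton_ext_sigma_finite (constZ X) _ q (fun x => h x.1.as)
  let e : c.pt ≅ colimit L :=
    hc.coconePointUniqueUpToIso (liftToFinsetColimitCocone (Discrete.functor A)).isColimit
  exact Groth.Agent.H2.GeoPush.subsingleton_H_of_iso e q

end Groth.Agent.H2.SigmaCoh
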