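import Mathlib
import Groth.Agent.Lib.Helper2.CdlH
import Groth.Agent.Lib.Helper2.SigmaCohA
import Groth.Agent.Lib.Helper2.PTorsB

/-! # Generators of sheaves killed by `ℓ` on the spectrum of a field, and the dévissage of
top-degree vanishing from `ℤ/ℓ` over all finite separable extensions to all `ℓ`-power torsion
sheaves. -/

set_option autoImplicit false
set_option linter.style.haveILetI false
set_option linter.unusedVariables false
set_option linter.unusedSectionVars false
universe u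
open CategoryTheory CategoryTheory.Limits AlgebraicGeometry Opposite IntermediateField Abelian

namespace Groth.Agent.H2.Cdl
open Groth.Agent.H2.GalField Groth.Agent.H2.PTors Groth.Agent.H2.EtSmall Groth.Agent.H2.SigmaCoh
  Groth.Agent.H2.TorsColim Groth.Agent.LD.Colim

section Sigma
variable (X : Scheme.{u}) [CompactSpace X] [QuasiSeparatedSpace X]

open CoproductsFromFiniteFiltered in
/-- cohomology of a qcqs scheme vanishes on arbitrary (large) coproducts of acyclic sheaves. -/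
theorem subsingleton_H_sigma' {α : Type (u + 1)} (A : α → EtCoh.Ab X) (c : Cofan A)
    (hc : IsColimit c) (q : ℕ) (h : ∀ a, Subsingleton (EtCoh.H X (A a) q)) :
    Subsingleton (EtCoh.H X c.pt q) := by
  classical
  let L : Finset (Discrete α) ⥤ EtCoh.Ab X := liftToFinsetObj (Discrete.functor A)
  haveI : IsFiltered (Finset (Discrete α)) := inferInstance
  haveI := preservesColimit_HF X q L
  have hcol := isColimitOfPreserves (EtCoh.HF X q) (colimit.isColimit L)
  have h1 : Subsingleton (EtCoh.H X (colimit L) q) := by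
    refine subsingleton_of_isColimit hcol (fun S => ?_)
    change Subsingleton (Ext (constZ X) (∐ fun x : S => A x.1.as) q)
    exact subsingleton_ext_sigma_finite (constZ X) _ q (fun x => h x.1.as)
  let e : c.pt ≅ colimit L :=
    hc.coconePointUniqueUpToIso (liftToFinsetColimitCocone (Discrete.functor A)).isColimit
  exact Groth.Agent.H2.GeoPush.subsingleton_H_of_iso e q

end Sigma

variable (K : Type u) [Field K]

/-- finite separable subextensions of an algebraic closure. -/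
abbrev FS : Type u :=
  {E : IntermediateField K (AlgebraicClosure K) // FiniteDimensional K E ∧ Algebra.IsSeparable K E}

instance (E : FS K) : Module.Finite K E.1 := E.2.1
instance (E : FS K) : Algebra.IsSeparable K E.1 := E.2.2

/-- `(f_! ℤ)/ℓ`. -/
noncomputable abbrev WZl (ℓ : ℕ) (E : FS K) : EtCoh.Ab (SK K) := cokernel (ℓ • 𝟙 (WZ K E.1))

variable {K} (ℓ : ℕ) (G : EtCoh.Ab (SK K)) (hG : ℓ • 𝟙 G = 0)

/-- the index set of generators. -/
abbrev GenIdx : Type (u + 1) := Σ E : FS K, G.obj.obj (op (U₀ K E.1))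

/-- the map attached to a section killed by `ℓ`. -/
noncomputable def genMap (a : GenIdx G) : WZl K ℓ a.1 ⟶ G :=
  cokernel.desc _ (ofSec K a.1.1 G a.2) (by
    rw [Preadditive.nsmul_comp, Category.id_comp]
    have : ℓ • ofSec K a.1.1 G a.2 = ofSec K a.1.1 G a.2 ≫ (ℓ • 𝟙 G) := by
      rw [Preadditive.comp_nsmul, Category.comp_id]
    rw [this, hG, comp_zero])

set_option backward.isDefEq.respectTransparency.types false in
open Groth.Agent.H2.SmEtSheaf in
theorem epi_gen : Epi (Sigma.desc (genMap ℓ G hG)) := by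
  rw [← Sheaf.isLocallySurjective_iff_epi']
  constructor
  intro U (s : G.obj.obj (op U))
  rw [mem_Jet_iff]
  intro x
  haveI : Etale U.hom := U.prop
  obtain ⟨L', _, _, _, _, j, hjo, hj, ⟨z, hz⟩⟩ :=
    Groth.Agent.H8.Pi0.exists_open_point (k := K) U.hom x
  let σ : L' →ₐ[K] AlgebraicClosure K := IsAlgClosed.lift
  let E₁ : IntermediateField K (AlgebraicClosure K) := σ.fieldRange
  let e₁ : L' ≃ₐ[K] E₁ := AlgEquiv.ofInjectiveField σ
  have hfd : FiniteDimensional K E₁ := Module.Finite.equiv e₁.toLinearEquiv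
  have hsep : Algebra.IsSeparable K E₁ := Algebra.IsSeparable.of_algHom K L' e₁.symm.toAlgHom
  let E : FS K := ⟨E₁, hfd, hsep⟩
  let g : U₀ K E.1 ⟶ U :=
    MorphismProperty.Over.homMk (Spec.map (CommRingCat.ofHom e₁.toAlgHom.toRingHom) ≫ j) (by
      change (Spec.map (CommRingCat.ofHom e₁.toAlgHom.toRingHom) ≫ j) ≫ U.hom =
        𝟙 _ ≫ fKL K E.1
      rw [Category.id_comp, Category.assoc, hj, ← Spec.map_comp, ← CommRingCat.ofHom_comp]
      congr 2
      exact e₁.toAlgHom.comp_algebraMap)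
  haveI : Subsingleton ↥(SK L') := inferInstanceAs (Subsingleton (PrimeSpectrum L'))
  haveI : Nonempty ↥(SK E.1) := inferInstanceAs (Nonempty (PrimeSpectrum E₁))
  let y : ↥(U₀ K E.1).left := (Classical.arbitrary ↥(SK E.1) : ↥(SK E.1))
  have hy : g.left y = x := by
    change (Spec.map (CommRingCat.ofHom e₁.toAlgHom.toRingHom) ≫ j) y = x
    rw [Scheme.Hom.comp_apply, ← hz]
    congr 1
    exact Subsingleton.elim _ _
  refine ⟨U₀ K E.1, g, y, ?_, hy⟩
  -- the restricted section is hit by the generator attached to it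
  let s' : G.obj.obj (op (U₀ K E.1)) := G.obj.map g.op s
  let a : GenIdx G := ⟨E, s'⟩
  let u₀ : (WZ K E.1).obj.obj (op (U₀ K E.1)) := secOf K E.1 (WZ K E.1) (𝟙 _)
  have h1 : (ofSec K E.1 G s').hom.app (op (U₀ K E.1)) u₀ = s' := by
    have h2 := secOf_comp K E.1 (𝟙 (WZ K E.1)) (ofSec K E.1 G s')
    rw [Category.id_comp, secOf_ofSec] at h2
    exact h2.symm
  have h3 : cokernel.π (ℓ • 𝟙 (WZ K E.1)) ≫ Sigma.ι (fun a : GenIdx G => WZl K ℓ a.1) a ≫
      Sigma.desc (genMap ℓ G hG) = ofSec K E.1 G s' := by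
    rw [Sigma.ι_desc]
    exact cokernel.π_desc _ _ _
  refine ⟨(Sigma.ι (fun a : GenIdx G => WZl K ℓ a.1) a).hom.app (op (U₀ K E.1))
    ((cokernel.π (ℓ • 𝟙 (WZ K E.1))).hom.app (op (U₀ K E.1)) u₀), ?_⟩
  have h4 := congrArg (fun φ : WZ K E.1 ⟶ G => φ.hom.app (op (U₀ K E.1)) u₀) h3
  exact Eq.trans h4 h1

variable (n : ℕ) [hℓ : Fact ℓ.Prime]

include hG in
/-- top-degree vanishing for sheaves killed by `ℓ`. -/
theorem subsingleton_H_of_nsmul (hcd : CdLE (SK K) (PowP ℓ) n)
    (hZ : ∀ (M' : Type u) [Field M'] [Algebra K M'] [Module.Finite K M']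
      [Algebra.IsSeparable K M'], Subsingleton (EtCoh.H (SK M') (Zl (SK M') ℓ) n)) :
    Subsingleton (EtCoh.H (SK K) G n) := by
  -- each generator is acyclic in degree `n`
  have hA : ∀ a : GenIdx G, Subsingleton (EtCoh.H (SK K) (WZl K ℓ a.1) n) := by
    intro a
    obtain ⟨θ⟩ := nonempty_extZero_iso_push (fKL K a.1.1)
    obtain ⟨e⟩ := nonempty_H_push_equiv (fKL K a.1.1) (Zl (SK a.1.1) ℓ) n
    haveI := hZ a.1.1
    have h1 : Subsingleton (EtCoh.H (SK K) ((EtCoh.push (fKL K a.1.1)).obj (Zl (SK a.1.1) ℓ)) n) :=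
      e.symm.toEquiv.subsingleton
    exact subsingleton_H_of_iso ((θ.app (Zl (SK a.1.1) ℓ)).symm ≪≫ extZeroZl (fKL K a.1.1) ℓ) n h1
  have hSig : Subsingleton (EtCoh.H (SK K) (∐ fun a : GenIdx G => WZl K ℓ a.1) n) :=
    subsingleton_H_sigma' (SK K) (fun a : GenIdx G => WZl K ℓ a.1) _
      (coproductIsCoproduct _) n hA
  haveI := epi_gen ℓ G hG
  have hk : ℓ • 𝟙 (∐ fun a : GenIdx G => WZl K ℓ a.1) = 0 := by
    apply Sigma.hom_ext
    intro a
    rw [Preadditive.comp_nsmul, Category.comp_id, comp_zero]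
    have : ℓ • Sigma.ι (fun a : GenIdx G => WZl K ℓ a.1) a =
        (ℓ • 𝟙 (WZl K ℓ a.1)) ≫ Sigma.ι (fun a : GenIdx G => WZl K ℓ a.1) a := by
      rw [Preadditive.nsmul_comp, Category.id_comp]
    rw [this, coker_nsmul, zero_comp]
  exact subsingleton_H_of_epi hcd (Sigma.desc (genMap ℓ G hG))
    (isPTorsion_of_nsmul _ ℓ ⟨1, (pow_one ℓ).symm⟩ hk) hSig

/-- top-degree vanishing for all `ℓ`-power torsion sheaves. -/
theorem subsingleton_H_of_isPTorsion (hcd : CdLE (SK K) (PowP ℓ) n)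
    (hZ : ∀ (M' : Type u) [Field M'] [Algebra K M'] [Module.Finite K M']
      [Algebra.IsSeparable K M'], Subsingleton (EtCoh.H (SK M') (Zl (SK M') ℓ) n))
    (G : EtCoh.Ab (SK K)) (hG : IsPTorsion (PowP ℓ) G) : Subsingleton (EtCoh.H (SK K) G n) := by
  have hP := mulPred_powP hℓ.out.pos
  have hpow : ∀ (k : ℕ) (G' : EtCoh.Ab (SK K)), (ℓ ^ k) • 𝟙 G' = 0 →
      Subsingleton (Ext (constZ (SK K)) G' n) :=
    subsingleton_ext_of_pow_nsmul (constZ (SK K)) ℓ n
      (fun G' hG' => subsingleton_H_of_nsmul ℓ G' hG' n hcd hZ)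
  refine ⟨fun a b => ?_⟩
  have key : ∀ α : EtCoh.H (SK K) G n, α = 0 := by
    intro α
    obtain ⟨i, y, hy⟩ := exists_stage_of_isColimit (constZ (SK K)) (D (PowP ℓ) G) (coc (PowP ℓ) G)
      (cocIsColimit (PowP ℓ) G hG) n (EtSmall.surjP_injP (SK K) n (D (PowP ℓ) G)).1 α
    obtain ⟨k, hk⟩ : PowP ℓ (expo (PowP ℓ) i) := seqA_mem hP _
    haveI := hpow k ((D (PowP ℓ) G).obj i) (by rw [← hk]; exact expo_nsmul_id (PowP ℓ) G i)
    have hy0 : y = 0 := Subsingleton.elim _ _
    rw [← hy, hy0]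
    unfold pc
    rw [Ext.zero_comp]
    rfl
  rw [key a, key b]

end Groth.Agent.H2.Cdl
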