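import Mathlib
import Groth.Prelude.Def_EtDepth
import Groth.Agent.Lib.Helper2.CdlI

/-! # Serre's lemma: if `cd_ℓ(K) = n` exactly and `F` is a nonzero constructible `ℓ`-torsion
sheaf on `Spec K`, some finite separable `L/K` has `H^n(Spec L, F|_L) ≠ 0`. -/

set_option autoImplicit false
set_option linter.style.haveILetI false
set_option linter.unusedVariables false
set_option linter.unusedSectionVars false
universe u
open CategoryTheory CategoryTheory.Limits AlgebraicGeometry Opposite IntermediateField Abelian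

namespace Groth.Agent.H2.Cdl
open Groth.Agent.H2.GalField Groth.Agent.H2.PTors Groth.Agent.H2.EtSmall Groth.Agent.H7.ES

variable (K : Type u) [Field K]

lemma constEquiv_zero (X : Scheme.{u}) (G : EtCoh.Ab X) : constEquiv X G 0 = 0 := by
  have h := constEquiv_comp X (0 : constZ X ⟶ G) (0 : G ⟶ G)
  rw [comp_zero] at h
  rw [h]
  rfl

set_option backward.isDefEq.respectTransparency.types false in
/-- the degree zero case. -/
theorem nontrivial_H0 (F : EtCoh.Ab (SK K)) (hF0 : ¬ IsZero F) :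
    ∃ (L : Type u) (_ : Field L) (_ : Algebra K L) (_ : Module.Finite K L)
      (_ : Algebra.IsSeparable K L),
      Nontrivial (EtCoh.H (SK L)
        ((EtCoh.pull (Spec.map (CommRingCat.ofHom (algebraMap K L)))).obj F) 0) := by
  -- a nonzero section
  obtain ⟨U, s, hs⟩ : ∃ (U : (SK K).Etale) (s : F.obj.obj (op U)), s ≠ 0 := by
    by_contra hc
    push Not at hc
    apply hF0
    rw [IsZero.iff_id_eq_zero]
    apply Sheaf.hom_ext
    ext V t
    exact (hc V.unop _).trans (hc V.unop _).symm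
  -- a point where it does not vanish locally
  obtain ⟨x, hx⟩ : ∃ x : U.left, ∀ (T' : (SK K).Etale) (c : T' ⟶ U) (x' : T'.left),
      c.left x' = x → F.obj.map c.op s ≠ 0 := by
    by_contra hc
    push Not at hc
    apply hs
    apply Groth.Agent.H7.EZ.eq_zero_of_locally_zero F
    intro x
    obtain ⟨T', c, x', h1, h2⟩ := hc x
    exact ⟨T', c, x', h1, h2⟩
  haveI : Etale U.hom := U.prop
  obtain ⟨L', hL1, hL2, hL3, hL4, j, hjo, hj, ⟨z, hz⟩⟩ :=
    Groth.Agent.H8.Pi0.exists_open_point (k := K) U.hom x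
  refine ⟨L', hL1, hL2, hL3, hL4, ?_⟩
  let c : U₀ K L' ⟶ U := MorphismProperty.Over.homMk j (by
    change j ≫ U.hom = 𝟙 _ ≫ fKL K L'
    rw [Category.id_comp]
    exact hj)
  have hs' : F.obj.map c.op s ≠ 0 := hx (U₀ K L') c z hz
  let G := (EtCoh.pull (fKL K L')).obj F
  let t : G.obj.obj (op (EtCoh.top (SK L'))) :=
    ((pullIsoRestr (fKL K L')).inv.app F).hom.app (op (EtCoh.top (SK L'))) (F.obj.map c.op s)
  let ψ : constZ (SK L') ⟶ G := (constEquiv (SK L') G).symm t
  have hψ : ψ ≠ 0 := by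
    intro h0
    have h1 : constEquiv (SK L') G ψ = t := Equiv.apply_symm_apply _ _
    rw [h0, constEquiv_zero] at h1
    apply hs'
    have h2 := congrArg (((pullIsoRestr (fKL K L')).hom.app F).hom.app (op (EtCoh.top (SK L')))) h1
    have h3 : ((pullIsoRestr (fKL K L')).hom.app F).hom.app (op (EtCoh.top (SK L'))) t =
        F.obj.map c.op s := by
      have h4 := congrArg (fun τ : (EtShriek.restrAlong (fKL K L')).obj F ⟶
          (EtShriek.restrAlong (fKL K L')).obj F => τ.hom.app (op (EtCoh.top (SK L'))))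
        ((pullIsoRestr (fKL K L')).app F).inv_hom_id
      exact ConcreteCategory.congr_hom h4 (F.obj.map c.op s)
    rw [h3] at h2
    rw [← h2]
    exact map_zero
      (((pullIsoRestr (fKL K L')).hom.app F).hom.app (op (EtCoh.top (SK L')))).hom
  refine ⟨⟨(Ext.mk₀ ψ : Ext (constZ (SK L')) G 0), 0, ?_⟩⟩
  intro h
  exact hψ ((Ext.mk₀_eq_zero_iff ψ).1 h)

/-- **Serre's lemma.** -/
theorem main (ℓ : ℕ) (hℓ : ℓ.Prime) (F : EtCoh.Ab (SK K)) (hF : EtDepth.IsLTorsion ℓ F)
    (hFc : EtPBC.IsConstructible F) (hF0 : ¬ IsZero F) (n : ℕ)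
    (hcd : EtDepth.CohDimLLE (SK K) ℓ n)
    (hcd' : ∀ d : ℕ, d < n → ¬ EtDepth.CohDimLLE (SK K) ℓ d) :
    ∃ (L : Type u) (_ : Field L) (_ : Algebra K L) (_ : Module.Finite K L)
      (_ : Algebra.IsSeparable K L),
      Nontrivial (EtCoh.H (SK L)
        ((EtCoh.pull (Spec.map (CommRingCat.ofHom (algebraMap K L)))).obj F) n) := by
  haveI : Fact ℓ.Prime := ⟨hℓ⟩
  rcases n with _ | m
  · exact nontrivial_H0 K F hF0
  · by_contra hcon
    have hN : Hyp K (m + 1) F := by
      intro L _ _ _ _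
      by_contra hns
      rw [not_subsingleton_iff_nontrivial] at hns
      exact hcon ⟨L, inferInstance, inferInstance, inferInstance, inferInstance, hns⟩
    have hcdP : CdLE (SK K) (PowP ℓ) (m + 1) :=
      fun G hG q hq => hcd G (isLTorsion_of_isPTorsion ℓ G hG) q hq
    obtain ⟨L₀, _, _, _, _, M, _, _, ⟨β⟩⟩ := exists_field_const K F hFc
    have hFt : IsPTorsion (PowP ℓ) F := isPTorsion_of_isLTorsion ℓ F hF
    have hZ : ∀ (M' : Type u) [Field M'] [Algebra K M'] [Module.Finite K M']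
        [Algebra.IsSeparable K M'], Subsingleton (EtCoh.H (SK M') (Zl (SK M') ℓ) (m + 1)) :=
      fun M' _ _ _ _ => subsingleton_H_Zl K ℓ (m + 1) F hcdP hFt hF0 hN L₀ M β M'
    apply hcd' m (Nat.lt_succ_self m)
    intro G hG q hq
    rcases Nat.lt_or_ge (m + 1) q with h | h
    · exact hcd G hG q h
    · have hq' : q = m + 1 := by omega
      subst hq'
      exact subsingleton_H_of_isPTorsion ℓ (m + 1) hcdP hZ G (isPTorsion_of_isLTorsion ℓ G hG)

end Groth.Agent.H2.Cdl
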