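import Groth.Prelude.Def_KGr
import Mathlib

/-!
# Newton polynomials and the polynomial `chPoly` of `Def_KGr`
-/

set_option autoImplicit false

namespace Groth.Agent.H2.ChN

open MvPolynomial Finset

/-- uniqueness of solutions of Newton's recurrence -/
theorem newton_unique {A : Type*} [CommRing A] (e p p' : ℕ → A) (he : e 0 = 1)
    (hp : ∀ k : ℕ, 0 < k → (k : A) * e k =
      (-1) ^ (k + 1) * ∑ a ∈ antidiagonal k with a.1 < k, (-1) ^ a.1 * e a.1 * p a.2)
    (hp' : ∀ k : ℕ, 0 < k → (k : A) * e k =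
      (-1) ^ (k + 1) * ∑ a ∈ antidiagonal k with a.1 < k, (-1) ^ a.1 * e a.1 * p' a.2) :
    ∀ k : ℕ, 0 < k → p k = p' k := by
  intro k
  induction k using Nat.strong_induction_on with
  | _ k ih =>
    intro hk
    have h1 := hp k hk
    rw [hp' k hk] at h1
    have h2 : ∑ a ∈ antidiagonal k with a.1 < k, (-1) ^ a.1 * e a.1 * p' a.2 =
        ∑ a ∈ antidiagonal k with a.1 < k, (-1) ^ a.1 * e a.1 * p a.2 := by
      have := congrArg (fun z => (-1 : A) ^ (k + 1) * z) h1
      simp only [← mul_assoc, ← pow_add] at this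
      rw [Even.neg_one_pow ⟨k + 1, rfl⟩, one_mul, one_mul] at this
      exact this
    have hmem : ((0, k) : ℕ × ℕ) ∈ (antidiagonal k).filter (fun a => a.1 < k) := by
      rw [mem_filter, HasAntidiagonal.mem_antidiagonal]; exact ⟨by simp, hk⟩
    rw [← Finset.add_sum_erase _ _ hmem, ← Finset.add_sum_erase _ _ hmem] at h2
    have h3 : ∑ a ∈ ((antidiagonal k).filter (fun a => a.1 < k)).erase (0, k),
          (-1) ^ a.1 * e a.1 * p' a.2 =
        ∑ a ∈ ((antidiagonal k).filter (fun a => a.1 < k)).erase (0, k),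
          (-1) ^ a.1 * e a.1 * p a.2 := by
      refine Finset.sum_congr rfl fun a ha => ?_
      rw [mem_erase, mem_filter, HasAntidiagonal.mem_antidiagonal] at ha
      obtain ⟨hne, hsum, hlt⟩ := ha
      have h0 : a.1 ≠ 0 := by
        intro h0
        apply hne
        ext
        · exact h0
        · simp only; omega
      rw [ih a.2 (by omega) (by omega)]
    rw [h3] at h2
    have := add_right_cancel h2
    simpa [he] using this.symm

variable (d : ℕ)

/-- `e_a` in terms of the variables `X_0, …, X_{d-1}` -/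
noncomputable def Es (a : ℕ) : MvPolynomial (Fin d) ℚ :=
  (esymmAlgEquiv (Fin d) ℚ (Fintype.card_fin d)).symm ⟨esymm (Fin d) ℚ a, esymm_isSymmetric _ _ _⟩

/-- Newton polynomial: `p_k` in terms of `e_1, …, e_d` -/
noncomputable def Nq (k : ℕ) : MvPolynomial (Fin d) ℚ :=
  (esymmAlgEquiv (Fin d) ℚ (Fintype.card_fin d)).symm ⟨psum (Fin d) ℚ k, psum_isSymmetric _ _ _⟩

theorem Es_zero : Es d 0 = 1 := by
  unfold Es
  have : (⟨esymm (Fin d) ℚ 0, esymm_isSymmetric _ _ _⟩ : symmetricSubalgebra (Fin d) ℚ) = 1 := by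
    apply Subtype.ext
    simp
  rw [this, map_one]

theorem Es_succ (i : Fin d) : Es d (i + 1) = X i := by
  unfold Es
  exact esymmAlgEquiv_symm_apply (σ := Fin d) ℚ (Fintype.card_fin d) i

theorem Es_of_lt {a : ℕ} (h : d < a) : Es d a = 0 := by
  unfold Es
  have : (⟨esymm (Fin d) ℚ a, esymm_isSymmetric _ _ _⟩ : symmetricSubalgebra (Fin d) ℚ) = 0 := by
    apply Subtype.ext
    show esymm (Fin d) ℚ a = 0
    rw [esymm, Finset.powersetCard_eq_empty.mpr (by simpa using h), Finset.sum_empty]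
  rw [this, map_zero]

theorem Nq_zero : Nq d 0 = (d : MvPolynomial (Fin d) ℚ) := by
  unfold Nq
  have : (⟨psum (Fin d) ℚ 0, psum_isSymmetric _ _ _⟩ : symmetricSubalgebra (Fin d) ℚ) = (d : ℕ) := by
    apply Subtype.ext
    simp [psum]
  rw [this, map_natCast]

theorem newton_poly (k : ℕ) :
    (k : MvPolynomial (Fin d) ℚ) * Es d k = (-1) ^ (k + 1) *
      ∑ a ∈ antidiagonal k with a.1 < k, (-1) ^ a.1 * Es d a.1 * Nq d a.2 := by
  have h := mul_esymm_eq_sum (Fin d) ℚ k
  have hS : ((k : ℕ) : symmetricSubalgebra (Fin d) ℚ) * ⟨esymm (Fin d) ℚ k, esymm_isSymmetric _ _ _⟩ =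
      (-1) ^ (k + 1) * ∑ a ∈ antidiagonal k with a.1 < k, (-1) ^ a.1 *
        ⟨esymm (Fin d) ℚ a.1, esymm_isSymmetric _ _ _⟩ * ⟨psum (Fin d) ℚ a.2, psum_isSymmetric _ _ _⟩ := by
    apply Subtype.ext
    simp only [Subalgebra.coe_mul, SubringClass.coe_natCast, Subalgebra.coe_pow, Subalgebra.coe_neg,
      Subalgebra.coe_one, AddSubmonoidClass.coe_finsetSum]
    exact h
  have := congrArg (esymmAlgEquiv (Fin d) ℚ (Fintype.card_fin d)).symm hS
  simp only [map_mul, map_natCast, map_pow, map_neg, map_one, map_sum] at this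
  exact this

theorem chPoly_eq : KGr.chPoly d = ∑ k ∈ range (d + 1), (1 / (k.factorial : ℚ)) • Nq d k := by
  unfold KGr.chPoly Nq
  have : (⟨∑ i : Fin d, Polynomial.aeval (MvPolynomial.X i) (KGr.expTrunc d),
      KGr.isSymmetric_sum_aeval d (KGr.expTrunc d)⟩ : symmetricSubalgebra (Fin d) ℚ) =
      ∑ k ∈ range (d + 1), (1 / (k.factorial : ℚ)) •
        (⟨psum (Fin d) ℚ k, psum_isSymmetric _ _ _⟩ : symmetricSubalgebra (Fin d) ℚ) := by
    apply Subtype.ext
    simp only [AddSubmonoidClass.coe_finsetSum, Subalgebra.coe_smul]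
    unfold KGr.expTrunc psum
    simp only [map_sum, map_mul, Polynomial.aeval_C, map_pow, Polynomial.aeval_X, Finset.smul_sum]
    rw [Finset.sum_comm]
    refine Finset.sum_congr rfl fun k _ => Finset.sum_congr rfl fun i _ => ?_
    rw [Algebra.smul_def]
  rw [this, map_sum]
  refine Finset.sum_congr rfl fun k _ => ?_
  rw [map_smul]


theorem aeval_Es {A : Type*} [CommRing A] [Algebra ℚ A] (c : Fin d → A) (e : ℕ → A)
    (he0 : e 0 = 1) (hec : ∀ i : Fin d, e (i + 1) = c i) (hed : ∀ a, d < a → e a = 0) (a : ℕ) :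
    aeval c (Es d a) = e a := by
  rcases Nat.eq_zero_or_pos a with rfl | ha
  · rw [Es_zero, map_one, he0]
  · by_cases h : a ≤ d
    · have : a = ((⟨a - 1, by omega⟩ : Fin d) : ℕ) + 1 := by simp; omega
      rw [this, Es_succ, aeval_X, hec]
    · rw [Es_of_lt d (by omega), map_zero, hed a (by omega)]

theorem aeval_Nq {A : Type*} [CommRing A] [Algebra ℚ A] (c : Fin d → A) (e q : ℕ → A)
    (he0 : e 0 = 1) (hec : ∀ i : Fin d, e (i + 1) = c i) (hed : ∀ a, d < a → e a = 0)
    (hq : ∀ k : ℕ, 0 < k → (k : A) * e k =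
      (-1) ^ (k + 1) * ∑ a ∈ antidiagonal k with a.1 < k, (-1) ^ a.1 * e a.1 * q a.2)
    (k : ℕ) (hk : 0 < k) : aeval c (Nq d k) = q k := by
  refine newton_unique e (fun k => aeval c (Nq d k)) q he0 ?_ hq k hk
  intro k _
  have := congrArg (aeval c) (newton_poly d k)
  simp only [map_mul, map_natCast, map_pow, map_neg, map_one, map_sum] at this
  simp only [aeval_Es d c e he0 hec hed] at this
  exact this

theorem aeval_chPoly {A : Type*} [CommRing A] [Algebra ℚ A] (c : Fin d → A) (e q : ℕ → A)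
    (he0 : e 0 = 1) (hec : ∀ i : Fin d, e (i + 1) = c i) (hed : ∀ a, d < a → e a = 0)
    (hq : ∀ k : ℕ, 0 < k → (k : A) * e k =
      (-1) ^ (k + 1) * ∑ a ∈ antidiagonal k with a.1 < k, (-1) ^ a.1 * e a.1 * q a.2) :
    aeval c (KGr.chPoly d) = (d : A) + ∑ k ∈ Finset.Ico 1 (d + 1), (1 / (k.factorial : ℚ)) • q k := by
  rw [chPoly_eq, map_sum, Finset.range_eq_Ico, Finset.sum_eq_sum_Ico_succ_bot (Nat.succ_pos d)]
  congr 1
  · rw [map_smul, Nq_zero, map_natCast]; simp
  · refine Finset.sum_congr rfl fun k hk => ?_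
    rw [map_smul, aeval_Nq d c e q he0 hec hed hq k (by rw [Finset.mem_Ico] at hk; omega)]

end Groth.Agent.H2.ChN
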