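import Groth.Agent.Lib.Helper2.LamSymK

set_option autoImplicit false

namespace Groth.Agent.H2.Lam

open LambdaRing Finset

universe u

variable {K : Type u} [CommRing K] [LambdaOps K] {P : PosStructure K}

theorem aug_adams (hK : HasSplitting K P) (j : ℕ) (x : K) : P.aug (adams P j x) = P.aug x := by
  obtain ⟨e₁, e₂, h₁, h₂, rfl⟩ := P.exists_sub x
  have key : ∀ e ∈ P.pos, P.aug (adams P j e) = P.aug e := by
    intro e he
    obtain ⟨L, f, hf, -, s, hs, hsum⟩ := exists_split hK he
    have h2 : P.aug e = (Multiset.card s : ℤ) := by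
      rw [← hf.aug_comp, ← hsum, aug_sum_lines L.posStr hs]
    rw [← hf.aug_comp (adams P j e), isExtension_map_adams hf, ← hsum,
      adams_sum_lines L.posStr hs, h2, map_multiset_sum, Multiset.map_map]
    have : ∀ u ∈ s, (L.posStr.aug ∘ fun u => u ^ j) u = 1 := by
      intro u hu
      simp [(hs u hu).2]
    rw [Multiset.map_congr rfl this]
    simp
  rw [adams_sub, map_sub, map_sub, key e₁ h₁, key e₂ h₂]

theorem gamma_zero_arg {k : ℕ} (hk : 0 < k) : gamma k (0 : K) = 0 := by
  rw [← coeff_gammaSeries, gammaSeries_zero, PowerSeries.coeff_one, if_neg hk.ne']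

/-- `W r z`: `z ∈ F^r` and `ψ^j z ≡ j^r z` modulo `F^{r+1}`. -/
def W (P : PosStructure K) (j r : ℕ) (z : K) : Prop :=
  z ∈ gammaFiltration P r ∧ adams P j z - (j : K) ^ r * z ∈ gammaFiltration P (r + 1)

theorem W_zero (j r : ℕ) : W P j r 0 :=
  ⟨zero_mem _, by rw [adams_zero', mul_zero, sub_zero]; exact zero_mem _⟩

theorem W_add {j r : ℕ} {z z' : K} (h : W P j r z) (h' : W P j r z') : W P j r (z + z') := by
  refine ⟨add_mem h.1 h'.1, ?_⟩
  have : adams P j (z + z') - (j : K) ^ r * (z + z') =
      (adams P j z - (j : K) ^ r * z) + (adams P j z' - (j : K) ^ r * z') := by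
    rw [adams_add]; ring
  rw [this]
  exact add_mem h.2 h'.2

theorem W_neg {j r : ℕ} {z : K} (h : W P j r z) : W P j r (-z) := by
  refine ⟨neg_mem h.1, ?_⟩
  have : adams P j (-z) - (j : K) ^ r * (-z) = -(adams P j z - (j : K) ^ r * z) := by
    rw [adams_neg]; ring
  rw [this]
  exact neg_mem h.2

theorem W_sum {j r : ℕ} {ι : Type*} (s : Finset ι) (z : ι → K) (h : ∀ i ∈ s, W P j r (z i)) :
    W P j r (∑ i ∈ s, z i) := by
  classical
  induction s using Finset.induction_on with
  | empty => simpa using W_zero j r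
  | insert a s ha ih =>
    rw [Finset.sum_insert ha]
    exact W_add (h a (mem_insert_self a s)) (ih fun i hi => h i (mem_insert_of_mem hi))

theorem W_adams_mem {j r : ℕ} {z : K} (h : W P j r z) : adams P j z ∈ gammaFiltration P r := by
  have : adams P j z = (adams P j z - (j : K) ^ r * z) + (j : K) ^ r * z := by ring
  rw [this]
  exact add_mem (gammaFiltration_anti P (Nat.le_succ r) h.2) (mul_mem_left P r _ h.1)

theorem W_mul (hK : HasSplitting K P) {j r s : ℕ} {z z' : K} (h : W P j r z) (h' : W P j s z') :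
    W P j (r + s) (z * z') := by
  refine ⟨mul_mem_filt P h.1 h'.1, ?_⟩
  have : adams P j (z * z') - (j : K) ^ (r + s) * (z * z') =
      (adams P j z - (j : K) ^ r * z) * adams P j z' +
        ((j : K) ^ r * z) * (adams P j z' - (j : K) ^ s * z') := by
    rw [adams_mul hK, pow_add]; ring
  rw [this]
  refine add_mem ?_ ?_
  · have := mul_mem_filt P h.2 (W_adams_mem h')
    rwa [show r + 1 + s = r + s + 1 by omega] at this
  · have := mul_mem_filt P (mul_mem_left P r ((j : K) ^ r) h.1) h'.2
    rwa [show r + (s + 1) = r + s + 1 by omega] at this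

theorem W_one (P : PosStructure K) (j : ℕ) : W P j 0 (1 : K) := by
  refine ⟨by rw [gammaFiltration_zero]; trivial, ?_⟩
  rw [adams_one, pow_zero, mul_one, sub_self]
  exact zero_mem _

theorem W_gamma_pos (hK : HasSplitting K P) (j : ℕ) {e : K} (he : e ∈ P.pos) (r : ℕ) :
    W P j r (gamma r (e - ((P.aug e).toNat : K))) := by
  refine ⟨gamma_mem P ?_ r, adams_gamma_sub_mem hK j he r⟩
  have hpos := P.aug_pos e he
  rw [map_sub, map_natCast]; omega

theorem W_gamma_neg (hK : HasSplitting K P) (j : ℕ) {y : K} (hy : ∀ i, W P j i (gamma i y)) (q : ℕ) :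
    W P j q (gamma q (-y)) := by
  induction q using Nat.strong_induction_on with
  | _ q ih =>
    rcases Nat.eq_zero_or_pos q with rfl | hq
    · rw [gamma_zero]; exact W_one P j
    · have h0 := gamma_add q y (-y)
      rw [add_neg_cancel, gamma_zero_arg hq, Finset.sum_range_succ' ] at h0
      simp only [gamma_zero, one_mul, Nat.sub_zero] at h0
      have : gamma q (-y) = -∑ i ∈ range q, gamma (i + 1) y * gamma (q - (i + 1)) (-y) := by
        rw [eq_neg_iff_add_eq_zero, add_comm]; exact h0.symm
      rw [this]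
      refine W_neg (W_sum _ _ ?_)
      intro i hi
      rw [mem_range] at hi
      have := W_mul hK (hy (i + 1)) (ih (q - (i + 1)) (by omega))
      rwa [show i + 1 + (q - (i + 1)) = q by omega] at this

theorem W_gamma (hK : HasSplitting K P) (j : ℕ) {x : K} (hx : P.aug x = 0) (r : ℕ) :
    W P j r (gamma r x) := by
  obtain ⟨e, f, he, hf, rfl⟩ := P.exists_sub x
  have haug : (P.aug e).toNat = (P.aug f).toNat := by
    rw [map_sub] at hx
    have : P.aug e = P.aug f := by omega
    rw [this]
  have hx' : e - f = (e - ((P.aug e).toNat : K)) + -(f - ((P.aug f).toNat : K)) := by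
    rw [haug]; ring
  rw [hx', gamma_add]
  refine W_sum _ _ ?_
  intro i hi
  rw [mem_range] at hi
  have := W_mul hK (W_gamma_pos hK j he i)
    (W_gamma_neg hK j (fun i => W_gamma_pos hK j hf i) (r - i))
  rwa [show i + (r - i) = r by omega] at this

theorem W_list_prod (hK : HasSplitting K P) (j : ℕ) (l : List (ℕ × K))
    (hl : ∀ p ∈ l, P.aug p.2 = 0) :
    W P j (l.map Prod.fst).sum (l.map fun p => gamma p.1 p.2).prod := by
  induction l with
  | nil => simpa using W_one P j
  | cons a l ih =>
    rw [List.map_cons, List.map_cons, List.sum_cons, List.prod_cons]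
    exact W_mul hK (W_gamma hK j (hl a (List.mem_cons_self ..)) a.1)
      (ih fun p hp => hl p (List.mem_cons_of_mem _ hp))

/-- `ψ^j x ≡ j^n x` modulo `F^{n+1}` for `x ∈ F^n`. -/
theorem adams_sub_mem (hK : HasSplitting K P) (j n : ℕ) {x : K} (hx : x ∈ gammaFiltration P n) :
    adams P j x - (j : K) ^ n * x ∈ gammaFiltration P (n + 1) := by
  rcases Nat.eq_zero_or_pos n with rfl | hn
  · refine mem_one_of_aug_eq_zero P ?_
    rw [map_sub, aug_adams hK, pow_zero, one_mul, sub_self]
  · rw [gammaFiltration_of_pos P hn.ne'] at hx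
    induction hx using AddSubgroup.closure_induction with
    | mem y hy =>
      obtain ⟨l, h1, h2, rfl⟩ := hy
      have hW := W_list_prod hK j l h1
      rcases Nat.eq_or_lt_of_le h2 with h | h
      · rw [h]; exact hW.2
      · refine sub_mem (gammaFiltration_anti P (by omega) (W_adams_mem hW))
          (mul_mem_left P _ _ (gammaFiltration_anti P (by omega) hW.1))
    | zero => rw [adams_zero', mul_zero, sub_zero]; exact zero_mem _
    | add x y _ _ hx hy =>
      have : adams P j (x + y) - (j : K) ^ n * (x + y) =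
          (adams P j x - (j : K) ^ n * x) + (adams P j y - (j : K) ^ n * y) := by
        rw [adams_add]; ring
      rw [this]; exact add_mem hx hy
    | neg x _ hx =>
      have : adams P j (-x) - (j : K) ^ n * (-x) = -(adams P j x - (j : K) ^ n * x) := by
        rw [adams_neg]; ring
      rw [this]; exact neg_mem hx

theorem adams_mem_filt (hK : HasSplitting K P) (j n : ℕ) {x : K} (hx : x ∈ gammaFiltration P n) :
    adams P j x ∈ gammaFiltration P n := by
  have : adams P j x = (adams P j x - (j : K) ^ n * x) + (j : K) ^ n * x := by ring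
  rw [this]
  exact add_mem (gammaFiltration_anti P (Nat.le_succ n) (adams_sub_mem hK j n hx))
    (mul_mem_left P n _ hx)

end Groth.Agent.H2.Lam
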