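import Groth.Agent.Lib.Helper2.LamDet

set_option autoImplicit false

namespace Groth.Agent.H2.Lam

open Finset LambdaRing PowerSeries

universe u

section

variable {K : Type u} [CommRing K] [LambdaOps K] {P : PosStructure K}

theorem aug_eq_zero_of_mem_Id_one {z : K} (hz : z ∈ Id P 1) : P.aug z = 0 := by
  induction hz using AddSubgroup.closure_induction with
  | mem y hy =>
    obtain ⟨s, hs, hd, rfl⟩ := hy
    obtain ⟨a, ha0⟩ := Multiset.card_pos_iff_exists_mem.mp (by omega : 0 < Multiset.card s)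
    obtain ⟨t, rfl⟩ := Multiset.exists_cons_of_mem ha0
    rw [Multiset.map_cons, Multiset.prod_cons, map_mul, map_sub, (hs a ha0).2, map_one, sub_self,
      zero_mul]
  | zero => exact map_zero _
  | add a b _ _ ha hb => rw [map_add, ha, hb, add_zero]
  | neg a _ ha => rw [map_neg, ha, neg_zero]

theorem aug_eq_zero_of_mem_filt_one (hK : HasSplitting K P) {x : K}
    (hx : x ∈ gammaFiltration P 1) : P.aug x = 0 := by
  obtain ⟨L', g', hg', -, hm⟩ := towerMem_of_mem_filt one_ne_zero hx ⟨K, P⟩ (RingHom.id K)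
    (isExtension_id P) hK
  rw [RingHom.id_apply] at hm
  rw [← hg'.aug_comp]
  exact aug_eq_zero_of_mem_Id_one hm

theorem sum_gamma_eq_lam_top (hone : lamSeries (1 : K) = 1 + X) {e : K} {m : ℕ} (hx : ∀ i, m < i → LambdaOps.lam i e = 0) :
    ∑ i ∈ range (m + 1), gamma i (e - (m : K)) = LambdaOps.lam m e := by
  have h1 : Polynomial.eval 1 (gammaPoly e m) = ∑ i ∈ range (m + 1), gamma i (e - (m : K)) := by
    rw [Polynomial.eval_eq_sum_range' (n := m + 1)
      (Nat.lt_succ_of_le (natDegree_gammaPoly_le e m))]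
    apply Finset.sum_congr rfl
    intro i _
    rw [coeff_gammaPoly hone hx, one_pow, mul_one]
  rw [← h1, gammaPoly, Polynomial.eval_finsetSum, Finset.sum_eq_single m]
  · simp
  · intro j hj hne
    rw [mem_range] at hj
    have : m - j ≠ 0 := by omega
    simp [this]
  · intro h; simp at h


theorem det_sub_one_congr {e : K} (he : e ∈ P.pos) :
    (LambdaOps.lam (P.aug e).toNat e - 1) - (e - ((P.aug e).toNat : K)) ∈ gammaFiltration P 2 := by
  have hpos := P.aug_pos e he
  have hx : ∀ i, (P.aug e).toNat < i → LambdaOps.lam i e = 0 := fun i hi =>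
    P.lam_eq_zero e he i (by omega)
  have haug : P.aug (e - ((P.aug e).toNat : K)) = 0 := by
    rw [map_sub, map_natCast]; omega
  obtain ⟨m', hm'⟩ : ∃ m', (P.aug e).toNat = m' + 1 := ⟨(P.aug e).toNat - 1, by omega⟩
  have h := sum_gamma_eq_lam_top (lamSeries_one P) hx
  rw [hm'] at h ⊢
  rw [Finset.sum_range_succ', Finset.sum_range_succ', gamma_zero, gamma_one] at h
  have : LambdaOps.lam (m' + 1) e - 1 - (e - ((m' + 1 : ℕ) : K)) =
      ∑ k ∈ range m', gamma (k + 1 + 1) (e - ((m' + 1 : ℕ) : K)) := by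
    rw [← h]; ring
  rw [this]
  refine sum_mem ?_
  intro k _
  rw [hm'] at haug
  exact gammaFiltration_anti P (by omega) (gamma_mem P haug (k + 1 + 1))

theorem isLine_det (hK : HasSplitting K P)
    (hdet : ∀ e : K, e ∈ P.pos → LambdaOps.lam (P.aug e).toNat e ∈ P.pos) {e : K} (he : e ∈ P.pos) :
    P.IsLine (LambdaOps.lam (P.aug e).toNat e) :=
  ⟨hdet e he, by rw [aug_lam_of_pos hK he, Nat.choose_self]; simp⟩

theorem exists_line_congr (hK : HasSplitting K P)
    (hLinv : ∀ w : K, P.IsLine w → ∃ w' : K, P.IsLine w' ∧ w * w' = 1)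
    (hdet : ∀ e : K, e ∈ P.pos → LambdaOps.lam (P.aug e).toNat e ∈ P.pos)
    {x : K} (hx : x ∈ gammaFiltration P 1) :
    ∃ u : K, P.IsLine u ∧ x - (u - 1) ∈ gammaFiltration P 2 := by
  have hx0 := aug_eq_zero_of_mem_filt_one hK hx
  obtain ⟨e, e', he, he', rfl⟩ := P.exists_sub x
  have hm : (P.aug e').toNat = (P.aug e).toNat := by
    rw [map_sub] at hx0
    have : P.aug e' = P.aug e := by linarith
    rw [this]
  have hu := isLine_det hK hdet he
  have hv := isLine_det hK hdet he'
  obtain ⟨v', hv', hvv'⟩ := hLinv _ hv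
  have hA := det_sub_one_congr he
  have hB := det_sub_one_congr he'
  rw [hm] at hB hv hvv'
  set m := (P.aug e).toNat
  set u := LambdaOps.lam m e
  set v := LambdaOps.lam m e'
  refine ⟨u * v', isLine_mul P hu hv', ?_⟩
  have h1 : v - u ∈ gammaFiltration P 1 :=
    mem_one_of_aug_eq_zero P (by rw [map_sub, hu.2, hv.2, sub_self])
  have h2 : v' - 1 ∈ gammaFiltration P 1 :=
    mem_one_of_aug_eq_zero P (by rw [map_sub, hv'.2, map_one, sub_self])
  have h3 := mul_mem_filt P h1 h2
  have : e - e' - (u * v' - 1) =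
      (v - u) * (v' - 1) - (u - 1 - (e - (m : K))) + (v - 1 - (e' - (m : K))) := by
    linear_combination (-1 : K) * hvv'
  rw [this]
  exact add_mem (sub_mem h3 hA) hB

end

end Groth.Agent.H2.Lam
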