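import Groth.Agent.Lib.Helper2.LamGamma2
import Groth.Agent.Lib.Helper2.LamSplit2
import Groth.Agent.Lib.Helper2.LamAdamsFilt
import Groth.Agent.Lib.Helper2.LamDet2

/-!
# Newton power-sum operations `φ^k` of the γ-operations
`φ^k(y) = N_k(γ^1 y, …, γ^k y)`; additivity, recurrence, and the finite-difference formula
`φ^k(y) = Σ_j (-1)^{k-j} C(k,j) ψ^j(y)` for `ε y = 0`.
-/

set_option autoImplicit false

namespace Groth.Agent.H2.Lam

open PowerSeries Finset LambdaRing

universe u

section Basic

variable {K : Type u} [CommRing K] [LambdaOps K]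

theorem constantCoeff_gammaSeries (y : K) : constantCoeff (gammaSeries y) = ((1 : Kˣ) : K) := by
  rw [← coeff_zero_eq_constantCoeff_apply, coeff_gammaSeries, gamma_zero]; rfl

/-- inverse of `γ_t(y)` -/
noncomputable def gInv (y : K) : K⟦X⟧ := (gammaSeries y).invOfUnit 1

theorem gamma_mul_gInv (y : K) : gammaSeries y * gInv y = 1 :=
  mul_invOfUnit _ _ (constantCoeff_gammaSeries y)

theorem gInv_eq_of_mul_eq_one {y : K} {b : K⟦X⟧} (h : gammaSeries y * b = 1) : gInv y = b := by
  calc gInv y = gInv y * (gammaSeries y * b) := by rw [h, mul_one]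
    _ = (gammaSeries y * gInv y) * b := by ring
    _ = b := by rw [gamma_mul_gInv, one_mul]

theorem gInv_add (x y : K) : gInv (x + y) = gInv x * gInv y := by
  apply gInv_eq_of_mul_eq_one
  rw [gammaSeries_add]
  calc gammaSeries x * gammaSeries y * (gInv x * gInv y)
      = (gammaSeries x * gInv x) * (gammaSeries y * gInv y) := by ring
    _ = 1 := by rw [gamma_mul_gInv, gamma_mul_gInv, one_mul]

/-- `t γ_t'(y) / γ_t(y)` -/
noncomputable def newt (y : K) : K⟦X⟧ := X * derivative K (gammaSeries y) * gInv y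

theorem newt_add (x y : K) : newt (x + y) = newt x + newt y := by
  rw [newt, newt, newt, gammaSeries_add, gInv_add, Derivation.leibniz]
  simp only [smul_eq_mul]
  have h1 := gamma_mul_gInv x
  have h2 := gamma_mul_gInv y
  have e : X * (gammaSeries x * derivative K (gammaSeries y) + gammaSeries y * derivative K (gammaSeries x)) *
      (gInv x * gInv y) =
      X * derivative K (gammaSeries y) * gInv y * (gammaSeries x * gInv x) +
        X * derivative K (gammaSeries x) * gInv x * (gammaSeries y * gInv y) := by ring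
  rw [e, h1, h2]
  ring

theorem gamma_mul_newt (y : K) : gammaSeries y * newt y = X * derivative K (gammaSeries y) := by
  rw [newt]
  calc gammaSeries y * (X * derivative K (gammaSeries y) * gInv y)
      = X * derivative K (gammaSeries y) * (gammaSeries y * gInv y) := by ring
    _ = _ := by rw [gamma_mul_gInv, mul_one]

theorem coeff_zero_newt (y : K) : coeff 0 (newt y) = 0 := by
  rw [newt, mul_assoc, coeff_zero_X_mul]

/-- the `k`-th power-sum operation -/
noncomputable def phi (k : ℕ) (y : K) : K := (-1) ^ (k + 1) * coeff k (newt y)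

theorem phi_add (k : ℕ) (x y : K) : phi k (x + y) = phi k x + phi k y := by
  rw [phi, phi, phi, newt_add, map_add, mul_add]

/-- `φ^k` as an additive map -/
noncomputable def phiHom (k : ℕ) : K →+ K where
  toFun := phi k
  map_zero' := by
    have h := phi_add k (0 : K) 0
    rw [add_zero] at h
    exact left_eq_add.mp h
  map_add' := phi_add k

theorem phiHom_apply (k : ℕ) (y : K) : phiHom k y = phi k y := rfl

theorem phi_zero' (k : ℕ) : phi k (0 : K) = 0 := (phiHom k).map_zero
theorem phi_neg (k : ℕ) (y : K) : phi k (-y) = -phi k y := (phiHom k).map_neg y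
theorem phi_sub (k : ℕ) (x y : K) : phi k (x - y) = phi k x - phi k y := (phiHom k).map_sub x y
theorem phi_multiset_sum (k : ℕ) (s : Multiset K) : phi k s.sum = (s.map (phi k)).sum :=
  map_multiset_sum (phiHom k) s

theorem phi_index_zero (y : K) : phi 0 y = 0 := by
  rw [phi, coeff_zero_newt, mul_zero]

theorem coeff_newt (k : ℕ) (y : K) : coeff k (newt y) = (-1) ^ (k + 1) * phi k y := by
  rw [phi, ← mul_assoc, ← pow_add, Even.neg_one_pow ⟨k + 1, rfl⟩, one_mul]

omit [LambdaOps K] in
theorem coeff_X_mul_derivative (k : ℕ) (f : K⟦X⟧) :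
    coeff k (X * derivative K f) = (k : K) * coeff k f := by
  rcases k with _ | k
  · simp
  · rw [coeff_succ_X_mul, coeff_derivative]
    push_cast; ring

/-- Newton's identity for the γ-operations and the `φ^k` -/
theorem newton_K (k : ℕ) (y : K) :
    (k : K) * gamma k y = (-1) ^ (k + 1) *
      ∑ a ∈ antidiagonal k with a.1 < k, (-1) ^ a.1 * gamma a.1 y * phi a.2 y := by
  have h := congrArg (coeff k) (gamma_mul_newt y)
  rw [coeff_X_mul_derivative, coeff_gammaSeries, coeff_mul] at h
  rw [← h, Finset.mul_sum, Finset.sum_filter]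
  refine Finset.sum_congr rfl fun a ha => ?_
  rw [HasAntidiagonal.mem_antidiagonal] at ha
  rw [coeff_gammaSeries, coeff_newt]
  split_ifs with hlt
  · have e : (-1 : K) ^ (k + 1) * ((-1) ^ a.1 * gamma a.1 y * phi a.2 y) =
        ((-1) ^ (k + 1) * (-1) ^ a.1) * (gamma a.1 y * phi a.2 y) := by ring
    rw [e, ← pow_add]
    have : (-1 : K) ^ (k + 1 + a.1) = (-1) ^ (a.2 + 1) := by
      rw [show k + 1 + a.1 = a.2 + 1 + 2 * a.1 by omega, pow_add, pow_mul]
      simp
    rw [this]; ring
  · have h2 : a.2 = 0 := by omega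
    rw [h2, phi_index_zero]; ring

end Basic


section Filt

variable {K : Type u} [CommRing K] [LambdaOps K] (P : PosStructure K)

/-- solving Newton's identity for `φ^k` -/
theorem phi_eq_sub (k : ℕ) (hk : 0 < k) (y : K) :
    phi k y = (-1) ^ (k + 1) * ((k : K) * gamma k y) -
      ∑ a ∈ ((antidiagonal k).filter (fun a => a.1 < k)).erase (0, k),
        (-1) ^ a.1 * gamma a.1 y * phi a.2 y := by
  have h := newton_K k y
  have hmem : ((0, k) : ℕ × ℕ) ∈ (antidiagonal k).filter (fun a => a.1 < k) := by
    rw [mem_filter, HasAntidiagonal.mem_antidiagonal]; exact ⟨by simp, hk⟩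
  rw [← Finset.add_sum_erase _ _ hmem] at h
  rw [h, ← mul_assoc, ← pow_add, Even.neg_one_pow ⟨k + 1, rfl⟩, one_mul]
  simp [gamma_zero]

theorem phi_mem {y : K} (hy : P.aug y = 0) (k : ℕ) : phi k y ∈ gammaFiltration P k := by
  induction k using Nat.strong_induction_on with
  | _ k ih =>
    rcases Nat.eq_zero_or_pos k with rfl | hk
    · rw [gammaFiltration_zero]; trivial
    · rw [phi_eq_sub k hk]
      refine sub_mem ?_ (AddSubgroup.sum_mem _ fun a ha => ?_)
      · rw [← mul_assoc]
        exact mul_mem_left P k _ (gamma_mem P hy k)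
      · rw [mem_erase, mem_filter, HasAntidiagonal.mem_antidiagonal] at ha
        obtain ⟨hne, hsum, hlt⟩ := ha
        have h0 : a.1 ≠ 0 := by
          intro h0
          apply hne
          ext
          · exact h0
          · simp only; omega
        have h1 := mul_mem_filt P (gamma_mem P hy a.1) (ih a.2 (by omega))
        rw [hsum] at h1
        rw [mul_assoc]
        exact mul_mem_left P k _ h1

/-- `φ^k(u - 1) = (u - 1)^k` for a line element `u` -/
theorem phi_line {u : K} (hu : P.IsLine u) (k : ℕ) (hk : 0 < k) : phi k (u - 1) = (u - 1) ^ k := by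
  have hg : gammaSeries (u - 1) = 1 + C (u - 1) * X :=
    gammaSeries_sub_one (lamSeries_one P) (lamSeries_of_line P hu)
  have hgeo : (1 + C (u - 1) * X) * (PowerSeries.mk fun k => (-(u - 1)) ^ k) = 1 := by
    ext n
    rw [add_mul, one_mul, map_add, mul_assoc, coeff_C_mul]
    rcases n with _ | n
    · simp
    · rw [coeff_succ_X_mul, coeff_mk, coeff_mk, coeff_one, if_neg (Nat.succ_ne_zero n), pow_succ]
      ring
  have hinv : gInv (u - 1) = PowerSeries.mk fun k => (-(u - 1)) ^ k :=
    gInv_eq_of_mul_eq_one (by rw [hg]; exact hgeo)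
  have hd : derivative K (1 + C (u - 1) * X) = C (u - 1) := by
    rw [map_add, Derivation.leibniz, derivative_X, derivative_C, Derivation.map_one_eq_zero]
    simp
  obtain ⟨n, rfl⟩ : ∃ n, k = n + 1 := ⟨k - 1, by omega⟩
  rw [phi, newt, hinv, hg, hd, mul_assoc, coeff_succ_X_mul, coeff_C_mul, coeff_mk]
  have : (-(u - 1)) ^ n = (-1) ^ n * (u - 1) ^ n := by rw [neg_pow]
  rw [this, pow_succ (u - 1)]
  have e : (-1 : K) ^ (n + 1 + 1) * ((u - 1) * ((-1) ^ n * (u - 1) ^ n)) =
      ((-1) ^ (n + 1 + 1) * (-1) ^ n) * ((u - 1) ^ n * (u - 1)) := by ring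
  rw [e, ← pow_add, show n + 1 + 1 + n = 2 * (n + 1) by ring, pow_mul]
  simp

end Filt

section Ext

variable {K K' : Type u} [CommRing K] [LambdaOps K] [CommRing K'] [LambdaOps K']

theorem map_gammaSeries {f : K →+* K'} (hf : IsLambdaHom f) (y : K) :
    PowerSeries.map f (gammaSeries y) = gammaSeries (f y) := by
  ext n
  rw [coeff_map, coeff_gammaSeries, coeff_gammaSeries, map_gamma hf]

theorem map_gInv {f : K →+* K'} (hf : IsLambdaHom f) (y : K) :
    PowerSeries.map f (gInv y) = gInv (f y) := by
  symm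
  apply gInv_eq_of_mul_eq_one
  rw [← map_gammaSeries hf, ← map_mul, gamma_mul_gInv, map_one]

theorem map_newt {f : K →+* K'} (hf : IsLambdaHom f) (y : K) :
    PowerSeries.map f (newt y) = newt (f y) := by
  rw [newt, newt, map_mul, map_mul, map_derivative, map_gammaSeries hf, map_gInv hf, map_X]

theorem map_phi {f : K →+* K'} (hf : IsLambdaHom f) (k : ℕ) (y : K) :
    f (phi k y) = phi k (f y) := by
  rw [phi, phi, ← map_newt hf, coeff_map, map_mul, map_pow, map_neg, map_one]

end Ext

section FD

variable {K : Type u} [CommRing K] [LambdaOps K] {P : PosStructure K}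

/-- the `k`-th finite difference of `j ↦ ψ^j(y)` at `0` -/
noncomputable def fdAdams (P : PosStructure K) (k : ℕ) (y : K) : K :=
  ∑ j ∈ range (k + 1), ((-1 : ℤ) ^ (k - j) * (k.choose j : ℤ) : ℤ) • adams P j y

theorem fdAdams_add (k : ℕ) (x y : K) : fdAdams P k (x + y) = fdAdams P k x + fdAdams P k y := by
  simp only [fdAdams, adams_add, smul_add, Finset.sum_add_distrib]

/-- `fdAdams` as an additive map -/
noncomputable def fdHom (P : PosStructure K) (k : ℕ) : K →+ K where
  toFun := fdAdams P k
  map_zero' := by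
    have h := fdAdams_add (P := P) k (0 : K) 0
    rw [add_zero] at h
    exact left_eq_add.mp h
  map_add' := fdAdams_add k

theorem fdHom_apply (k : ℕ) (y : K) : fdHom P k y = fdAdams P k y := rfl

theorem fdAdams_sub (k : ℕ) (x y : K) : fdAdams P k (x - y) = fdAdams P k x - fdAdams P k y :=
  (fdHom P k).map_sub x y

theorem fdAdams_multiset_sum (k : ℕ) (s : Multiset K) :
    fdAdams P k s.sum = (s.map (fdAdams P k)).sum :=
  map_multiset_sum (fdHom P k) s

theorem fd_binomial {R : Type*} [CommRing R] (u : R) (k : ℕ) :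
    ∑ j ∈ range (k + 1), ((-1 : ℤ) ^ (k - j) * (k.choose j : ℤ) : ℤ) • u ^ j = (u - 1) ^ k := by
  rw [sub_eq_add_neg, add_pow]
  refine Finset.sum_congr rfl fun j hj => ?_
  rw [zsmul_eq_mul]
  push_cast
  ring

theorem fdAdams_line {u : K} (hu : P.IsLine u) (k : ℕ) (hk : 0 < k) :
    fdAdams P k (u - 1) = (u - 1) ^ k := by
  have h1 : ∀ j, adams P j (u - 1) = u ^ j - 1 := by
    intro j
    rw [adams_sub, adams_of_line P hu, adams_one]
  simp only [fdAdams, h1, smul_sub, Finset.sum_sub_distrib]
  rw [fd_binomial u k]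
  have := fd_binomial (1 : K) k
  simp only [one_pow] at this
  rw [this, sub_self, zero_pow hk.ne', sub_zero]

theorem isExtension_map_fdAdams {K' : Type u} [CommRing K'] [LambdaOps K'] {P' : PosStructure K'}
    {f : K →+* K'} (hf : IsExtension P P' f) (k : ℕ) (y : K) :
    f (fdAdams P k y) = fdAdams P' k (f y) := by
  simp only [fdAdams, map_sum, map_zsmul, isExtension_map_adams hf]

/-- the finite-difference formula for `φ^k`, on `e - ε(e)` for positive `e` -/
theorem phi_eq_fd_pos (hK : HasSplitting K P) {e : K} (he : e ∈ P.pos) (k : ℕ) (hk : 0 < k) :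
    phi k (e - (P.aug e : K)) = fdAdams P k (e - (P.aug e : K)) := by
  obtain ⟨L, f, hf, hL, s, hs, hsum⟩ := exists_split hK he
  apply hf.injective
  rw [map_phi hf.isLambdaHom, isExtension_map_fdAdams hf]
  have haug : (P.aug e : ℤ) = (Multiset.card s : ℤ) := by
    rw [← hf.aug_comp, ← hsum, aug_sum_lines L.posStr hs]
  have e1 : f (e - (P.aug e : K)) = (s.map fun u => u - 1).sum := by
    rw [map_sub, ← hsum, map_intCast, haug, Multiset.sum_map_sub]
    simp
  rw [e1, phi_multiset_sum, fdAdams_multiset_sum, Multiset.map_map, Multiset.map_map]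
  congr 1
  refine Multiset.map_congr rfl fun u hu => ?_
  simp only [Function.comp_apply]
  rw [phi_line L.posStr (hs u hu) k hk, fdAdams_line (hs u hu) k hk]

/-- the finite-difference formula for `φ^k` on the augmentation ideal -/
theorem phi_eq_fd (hK : HasSplitting K P) {y : K} (hy : P.aug y = 0) (k : ℕ) (hk : 0 < k) :
    phi k y = fdAdams P k y := by
  obtain ⟨e, f, he, hf, rfl⟩ := P.exists_sub y
  rw [map_sub, sub_eq_zero] at hy
  have : e - f = (e - (P.aug e : K)) - (f - (P.aug f : K)) := by rw [hy]; ring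
  rw [this, phi_sub, fdAdams_sub, phi_eq_fd_pos hK he k hk, phi_eq_fd_pos hK hf k hk]

end FD

end Groth.Agent.H2.Lam
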