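import Groth.Agent.Lib.Helper2.LamAdamsFilt2

set_option autoImplicit false

namespace Groth.Agent.H2.Lam

open LambdaRing Finset TensorProduct

universe u

variable {K : Type u} [CommRing K] [LambdaOps K] (P : PosStructure K)

/-- The `ℚ`-span of the image of `F^n K` in `ℚ ⊗ K`. -/
def QF (n : ℕ) : Submodule ℚ (ℚ ⊗[ℤ] K) :=
  Submodule.span ℚ ((fun x : K => (1 : ℚ) ⊗ₜ[ℤ] x) '' (gammaFiltration P n : Set K))

theorem one_tmul_mem_QF {n : ℕ} {x : K} (hx : x ∈ gammaFiltration P n) :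
    (1 : ℚ) ⊗ₜ[ℤ] x ∈ QF P n :=
  Submodule.subset_span ⟨x, hx, rfl⟩

theorem tmul_mem_QF {n : ℕ} {x : K} (hx : x ∈ gammaFiltration P n) (q : ℚ) :
    q ⊗ₜ[ℤ] x ∈ QF P n := by
  have : q ⊗ₜ[ℤ] x = q • ((1 : ℚ) ⊗ₜ[ℤ] x) := by
    rw [TensorProduct.smul_tmul', smul_eq_mul, mul_one]
  rw [this]
  exact Submodule.smul_mem _ _ (one_tmul_mem_QF P hx)

theorem QF_zero : QF P 0 = ⊤ := by
  rw [eq_top_iff]
  intro v hv
  clear hv
  induction v using TensorProduct.induction_on with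
  | zero => exact zero_mem _
  | tmul q x => exact tmul_mem_QF P (by rw [gammaFiltration_zero]; trivial) q
  | add a b ha hb => exact add_mem ha hb

theorem QF_anti {m n : ℕ} (h : m ≤ n) : QF P n ≤ QF P m :=
  Submodule.span_mono (Set.image_mono (gammaFiltration_anti P h))

theorem QF_eq_bot {n : ℕ} (h : gammaFiltration P n = ⊥) : QF P n = ⊥ := by
  rw [QF, h, eq_bot_iff, Submodule.span_le]
  rintro _ ⟨x, hx, rfl⟩
  have : x = 0 := hx
  subst this
  show (1 : ℚ) ⊗ₜ[ℤ] (0 : K) ∈ _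
  rw [TensorProduct.tmul_zero]
  exact zero_mem _

omit [LambdaOps K] in
theorem natCast_smul_one_tmul (N : ℕ) (x : K) :
    (N : ℚ) • ((1 : ℚ) ⊗ₜ[ℤ] x) = (1 : ℚ) ⊗ₜ[ℤ] ((N : K) * x) := by
  rw [TensorProduct.smul_tmul', smul_eq_mul, mul_one]
  have h1 : (N : ℚ) = (N : ℤ) • (1 : ℚ) := by simp
  have h2 : (N : K) * x = (N : ℤ) • x := by simp
  rw [h1, h2, TensorProduct.smul_tmul]

variable {P}
variable (Ψ : ℚ ⊗[ℤ] K →ₗ[ℚ] ℚ ⊗[ℤ] K) (j : ℕ)

/-- `T i = Ψ - j^i`. -/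
noncomputable def Top (i : ℕ) : Module.End ℚ (ℚ ⊗[ℤ] K) :=
  Ψ - algebraMap ℚ (Module.End ℚ (ℚ ⊗[ℤ] K)) ((j : ℚ) ^ i)

omit [LambdaOps K] in
theorem Top_apply (i : ℕ) (v : ℚ ⊗[ℤ] K) : Top Ψ j i v = Ψ v - ((j : ℚ) ^ i) • v := by
  rw [Top, LinearMap.sub_apply, Module.algebraMap_end_apply]

omit [LambdaOps K] in
theorem Top_commute (a b : ℕ) : Commute (Top Ψ j a) (Top Ψ j b) := by
  unfold Top
  refine Commute.sub_left (Commute.sub_right (Commute.refl _) (Algebra.commutes' _ _).symm) ?_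
  exact (Algebra.commutes' _ _)

section

variable (hK : HasSplitting K P) (hΨ : ∀ x : K, Ψ (1 ⊗ₜ[ℤ] x) = 1 ⊗ₜ[ℤ] adams P j x)
include hK hΨ

theorem Top_mem_succ {n : ℕ} {v : ℚ ⊗[ℤ] K} (hv : v ∈ QF P n) : Top Ψ j n v ∈ QF P (n + 1) := by
  induction hv using Submodule.span_induction with
  | mem v hv =>
    obtain ⟨x, hx, rfl⟩ := hv
    rw [Top_apply, hΨ]
    have : ((j : ℚ) ^ n) • ((1 : ℚ) ⊗ₜ[ℤ] x) = (1 : ℚ) ⊗ₜ[ℤ] ((j : K) ^ n * x) := by
      have := natCast_smul_one_tmul (j ^ n) x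
      push_cast at this
      exact this
    rw [this, ← TensorProduct.tmul_sub]
    exact one_tmul_mem_QF P (adams_sub_mem hK j n hx)
  | zero => rw [map_zero]; exact zero_mem _
  | add a b _ _ ha hb => rw [map_add]; exact add_mem ha hb
  | smul q a _ ha => rw [map_smul]; exact Submodule.smul_mem _ _ ha

theorem Top_mem {n : ℕ} (i : ℕ) {v : ℚ ⊗[ℤ] K} (hv : v ∈ QF P n) : Top Ψ j i v ∈ QF P n := by
  have h1 := QF_anti P (Nat.le_succ n) (Top_mem_succ Ψ j hK hΨ hv)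
  rw [Top_apply] at h1 ⊢
  have : Ψ v - ((j : ℚ) ^ i) • v = (Ψ v - ((j : ℚ) ^ n) • v) + (((j : ℚ) ^ n) - (j : ℚ) ^ i) • v := by
    rw [sub_smul]; abel
  rw [this]
  exact add_mem h1 (Submodule.smul_mem _ _ hv)

end

/-- `π k = T_{m+k} ∘ ⋯ ∘ T_{m+1}`. -/
noncomputable def piOp (m : ℕ) : ℕ → Module.End ℚ (ℚ ⊗[ℤ] K)
  | 0 => 1
  | k + 1 => Top Ψ j (m + k + 1) * piOp m k

/-- `c k = Π_{i=1}^{k} (j^m - j^{m+i})`. -/
noncomputable def cOp (m : ℕ) : ℕ → ℚ
  | 0 => 1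
  | k + 1 => ((j : ℚ) ^ m - (j : ℚ) ^ (m + k + 1)) * cOp m k

theorem cOp_ne_zero (hj : 2 ≤ j) (m k : ℕ) : cOp j m k ≠ 0 := by
  induction k with
  | zero => simp [cOp]
  | succ k ih =>
    rw [cOp]
    refine mul_ne_zero ?_ ih
    rw [sub_ne_zero]
    intro h
    have h' : j ^ m = j ^ (m + k + 1) := by exact_mod_cast h
    have := Nat.pow_right_injective hj h'
    omega

omit [LambdaOps K] in
theorem piOp_commute (m k : ℕ) : Commute (Top Ψ j m) (piOp Ψ j m k) := by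
  induction k with
  | zero => exact Commute.one_right _
  | succ k ih => exact (Top_commute Ψ j _ _).mul_right ih

section

variable (hK : HasSplitting K P) (hΨ : ∀ x : K, Ψ (1 ⊗ₜ[ℤ] x) = 1 ⊗ₜ[ℤ] adams P j x)
include hK hΨ

theorem piOp_mem_add (m k : ℕ) {w : ℚ ⊗[ℤ] K} (hw : w ∈ QF P (m + 1)) :
    piOp Ψ j m k w ∈ QF P (m + 1 + k) := by
  induction k with
  | zero => simpa [piOp] using hw
  | succ k ih =>
    rw [piOp, Module.End.mul_apply]
    have := Top_mem_succ Ψ j hK hΨ (n := m + 1 + k) ih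
    rw [show m + 1 + k = m + k + 1 by omega] at this
    rw [show m + 1 + (k + 1) = m + k + 1 + 1 by omega]
    exact this

theorem piOp_mem (m k : ℕ) {n : ℕ} {v : ℚ ⊗[ℤ] K} (hv : v ∈ QF P n) :
    piOp Ψ j m k v ∈ QF P n := by
  induction k with
  | zero => simpa [piOp] using hv
  | succ k ih =>
    rw [piOp, Module.End.mul_apply]
    exact Top_mem Ψ j hK hΨ _ ih

theorem piOp_sub_mem (m k : ℕ) {v : ℚ ⊗[ℤ] K} (hv : v ∈ QF P m) :
    piOp Ψ j m k v - cOp j m k • v ∈ QF P (m + 1) := by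
  induction k with
  | zero => simp [piOp, cOp]
  | succ k ih =>
    rw [piOp, cOp, Module.End.mul_apply]
    set w := piOp Ψ j m k v with hw
    have hwm : w ∈ QF P m := piOp_mem Ψ j hK hΨ m k hv
    -- T_{m+k+1} w = T_m w + (j^m - j^{m+k+1}) w
    have e : Top Ψ j (m + k + 1) w - (((j : ℚ) ^ m - (j : ℚ) ^ (m + k + 1)) * cOp j m k) • v =
        Top Ψ j m w + ((j : ℚ) ^ m - (j : ℚ) ^ (m + k + 1)) • (w - cOp j m k • v) := by
      rw [Top_apply, Top_apply]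
      module
    rw [e]
    exact add_mem (Top_mem_succ Ψ j hK hΨ hwm) (Submodule.smul_mem _ _ ih)

/-- eigenvectors for `j^m` lie in `ℚF^m` -/
theorem eigenspace_le_QF (hj : 2 ≤ j) (m : ℕ) :
    Module.End.eigenspace Ψ ((j : ℚ) ^ m) ≤ QF P m := by
  intro v hv
  rw [Module.End.mem_eigenspace_iff] at hv
  have key : ∀ i, i ≤ m → v ∈ QF P i := by
    intro i
    induction i with
    | zero => intro _; rw [QF_zero]; trivial
    | succ i ih =>
      intro hi
      have hvi := ih (by omega)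
      have h1 := Top_mem_succ Ψ j hK hΨ hvi
      rw [Top_apply, hv, ← sub_smul] at h1
      have hne : (j : ℚ) ^ m - (j : ℚ) ^ i ≠ 0 := by
        rw [sub_ne_zero]
        intro h
        have h' : j ^ m = j ^ i := by exact_mod_cast h
        have := Nat.pow_right_injective hj h'
        omega
      have := Submodule.smul_mem _ ((j : ℚ) ^ m - (j : ℚ) ^ i)⁻¹ h1
      rwa [smul_smul, inv_mul_cancel₀ hne, one_smul] at this
  exact key m le_rfl

theorem eigenspace_inf_QF (hj : 2 ≤ j) {d : ℕ} (hd : gammaFiltration P (d + 1) = ⊥) (m : ℕ) :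
    Module.End.eigenspace Ψ ((j : ℚ) ^ m) ⊓ QF P (m + 1) = ⊥ := by
  rw [eq_bot_iff]
  rintro v ⟨hv1, hv2⟩
  rw [SetLike.mem_coe, Module.End.mem_eigenspace_iff] at hv1
  rw [Submodule.mem_bot]
  -- apply piOp with k = d - m
  have h1 := piOp_mem_add Ψ j hK hΨ m (d - m) hv2
  have hbot : QF P (m + 1 + (d - m)) = ⊥ :=
    eq_bot_iff.mpr ((QF_anti P (by omega)).trans (QF_eq_bot P hd).le)
  rw [hbot, Submodule.mem_bot] at h1
  -- piOp acts on the eigenvector by the scalar c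
  have h2 : ∀ k, piOp Ψ j m k v = cOp j m k • v := by
    intro k
    induction k with
    | zero => simp [piOp, cOp]
    | succ k ih =>
      rw [piOp, cOp, Module.End.mul_apply, ih, map_smul, Top_apply, hv1, ← sub_smul, smul_smul,
        mul_comm]
  rw [h2] at h1
  exact (smul_eq_zero.mp h1).resolve_left (cOp_ne_zero j hj m _)

theorem eigenspace_sup_QF (hj : 2 ≤ j) {d : ℕ} (hd : gammaFiltration P (d + 1) = ⊥) (m : ℕ) :
    Module.End.eigenspace Ψ ((j : ℚ) ^ m) ⊔ QF P (m + 1) = QF P m := by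
  apply le_antisymm
  · exact sup_le (eigenspace_le_QF Ψ j hK hΨ hj m) (QF_anti P (Nat.le_succ m))
  · intro v hv
    set k := d - m with hk
    have hc := cOp_ne_zero j hj m k
    have h1 : piOp Ψ j m k v ∈ Module.End.eigenspace Ψ ((j : ℚ) ^ m) := by
      rw [Module.End.mem_eigenspace_iff, ← sub_eq_zero, ← Top_apply]
      have hcomm := piOp_commute Ψ j m k
      have : Top Ψ j m (piOp Ψ j m k v) = piOp Ψ j m k (Top Ψ j m v) := by
        have := congrArg (fun f => f v) hcomm.eq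
        simpa [Module.End.mul_apply] using this
      rw [this]
      have h2 := piOp_mem_add Ψ j hK hΨ m k (Top_mem_succ Ψ j hK hΨ hv)
      have hbot : QF P (m + 1 + k) = ⊥ :=
        eq_bot_iff.mpr ((QF_anti P (by omega)).trans (QF_eq_bot P hd).le)
      rwa [hbot, Submodule.mem_bot] at h2
    have h2 := piOp_sub_mem Ψ j hK hΨ m k hv
    have e : v = (cOp j m k)⁻¹ • piOp Ψ j m k v +
        (-(cOp j m k)⁻¹) • (piOp Ψ j m k v - cOp j m k • v) := by
      rw [smul_sub, smul_smul, neg_mul, inv_mul_cancel₀ hc]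
      simp
    rw [e]
    exact Submodule.add_mem_sup (Submodule.smul_mem _ _ h1) (Submodule.smul_mem _ _ h2)

end

end Groth.Agent.H2.Lam
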