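import Groth.Agent.Lib.Helper2.KGr3
import Groth.Agent.Lib.Helper2.ChPhi
import Groth.Agent.Lib.Helper2.ChNewton
import Groth.Agent.Lib.Helper2.LamQ

/-!
# The Chern character `chK` of `Def_KGr`: formula, additivity, bijectivity after `ℚ ⊗`
-/

set_option autoImplicit false

namespace Groth.Agent.H2.KGrS

open LambdaRing TensorProduct Finset
open Groth.Agent.H2.Lam

universe v

variable {K : Type v} [CommRing K] [LambdaOps K] {P : PosStructure K}

theorem stirling_top (m : ℕ) :
    ∑ j ∈ range (m + 1), ((-1 : ℤ) ^ (m - j) * (m.choose j : ℤ)) * (j : ℤ) ^ m = (m.factorial : ℤ) := by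
  have h := fwdDiff_iter_eq_sum_shift (1 : ℤ) (fun r : ℤ => r ^ m) m 0
  rw [fwdDiff_iter_eq_factorial] at h
  simp only [smul_eq_mul, zero_add] at h
  simpa using h.symm

theorem fdAdams_mem (hK : HasSplitting K P) (k m : ℕ) {x : K} (hx : x ∈ gammaFiltration P m) :
    fdAdams P k x ∈ gammaFiltration P m := by
  unfold fdAdams
  exact AddSubgroup.sum_mem _ fun j _ => AddSubgroup.zsmul_mem _ (adams_mem_filt hK j m hx) _

theorem fdAdams_sub_mem (hK : HasSplitting K P) (m : ℕ) {x : K} (hx : x ∈ gammaFiltration P m) :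
    fdAdams P m x - (m.factorial : K) * x ∈ gammaFiltration P (m + 1) := by
  have e : fdAdams P m x - (m.factorial : K) * x =
      ∑ j ∈ range (m + 1), ((-1 : ℤ) ^ (m - j) * (m.choose j : ℤ) : ℤ) •
        (adams P j x - (j : K) ^ m * x) := by
    simp only [smul_sub, Finset.sum_sub_distrib]
    unfold fdAdams
    congr 1
    have h : ((∑ j ∈ range (m + 1), ((-1 : ℤ) ^ (m - j) * (m.choose j : ℤ)) * (j : ℤ) ^ m : ℤ) : K) * x
        = ((m.factorial : ℤ) : K) * x := by rw [stirling_top m]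
    rw [Int.cast_natCast] at h
    rw [← h, Int.cast_sum, Finset.sum_mul]
    refine Finset.sum_congr rfl fun j _ => ?_
    rw [zsmul_eq_mul]
    push_cast
    ring
  rw [e]
  exact AddSubgroup.sum_mem _ fun j _ => AddSubgroup.zsmul_mem _ (adams_sub_mem hK j m hx) _


omit [LambdaOps K] in
theorem neg_one_pow_cast (n : ℕ) : ((-1 : K)) ^ n = (((-1 : ℤ) ^ n : ℤ) : K) := by push_cast; rfl

theorem newton_term_mem {y : K} (hy0 : P.aug y = 0) {k : ℕ} {a : ℕ × ℕ} (ha : a.1 + a.2 = k) :
    (-1) ^ a.1 * gamma a.1 y * phi a.2 y ∈ gammaFiltration P k := by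
  have h1 := mul_mem_filt P (gamma_mem P hy0 a.1) (phi_mem P hy0 a.2)
  rw [ha] at h1
  rw [mul_assoc]
  exact mul_mem_left P k _ h1

theorem grK_newton_term {y : K} (hy0 : P.aug y = 0) {k : ℕ} {a : ℕ × ℕ} (ha : a.1 + a.2 = k) :
    KGr.grK P (k : ℤ) ((-1) ^ a.1 * gamma a.1 y * phi a.2 y) =
      (-1) ^ a.1 * KGr.grK P (a.1 : ℤ) (gamma a.1 y) * KGr.grK P (a.2 : ℤ) (phi a.2 y) := by
  have h1 := mul_mem_filt P (gamma_mem P hy0 a.1) (phi_mem P hy0 a.2)
  have h2 := grK_mul P a.1 a.2 (gamma_mem P hy0 a.1) (phi_mem P hy0 a.2)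
  rw [ha] at h1 h2
  rw [mul_assoc, neg_one_pow_cast, grK_intCast_mul P k _ h1, h2, mul_assoc]
  push_cast
  rfl

theorem chK_eq {d : ℕ} (hd : gammaFiltration P (d + 1) = ⊥) (x : K) :
    KGr.chK P d x = algebraMap ℚ (KGr.Gr P) (P.aug x) +
      ∑ k ∈ Ico 1 (d + 1), (1 / (k.factorial : ℚ)) •
        KGr.grK P (k : ℤ) (phi k (x - (P.aug x : K))) := by
  have hy0 : P.aug (x - (P.aug x : K)) = 0 := by simp
  unfold KGr.chK
  rw [ChN.aeval_chPoly d (fun i : Fin d => KGr.chern P (i.1 + 1) x)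
    (fun a => KGr.grK P (a : ℤ) (gamma a (x - (P.aug x : K))))
    (fun k => KGr.grK P (k : ℤ) (phi k (x - (P.aug x : K)))) ?_ ?_ ?_ ?_]
  · rw [map_sub, map_natCast]; ring
  · show KGr.grK P ((0 : ℕ) : ℤ) (gamma 0 (x - (P.aug x : K))) = 1
    rw [gamma_zero, grK_zero_one]
  · intro i; rfl
  · intro a ha
    have : gamma a (x - (P.aug x : K)) = 0 := by
      have := gammaFiltration_anti P (show d + 1 ≤ a by omega) (gamma_mem P hy0 a)
      rwa [hd, AddSubgroup.mem_bot] at this
    show KGr.grK P (a : ℤ) (gamma a (x - (P.aug x : K))) = 0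
    rw [this, grK_zero]
  · intro k _
    have h := congrArg (KGr.grK P (k : ℤ)) (newton_K k (x - (P.aug x : K)))
    have hsum : ∑ a ∈ antidiagonal k with a.1 < k,
        (-1) ^ a.1 * gamma a.1 (x - (P.aug x : K)) * phi a.2 (x - (P.aug x : K)) ∈ gammaFiltration P k := by
      refine AddSubgroup.sum_mem _ fun a ha => ?_
      rw [mem_filter, HasAntidiagonal.mem_antidiagonal] at ha
      exact newton_term_mem hy0 ha.1
    rw [← Int.cast_natCast (R := K), grK_intCast_mul P k _ (gamma_mem P hy0 k), neg_one_pow_cast,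
      grK_intCast_mul P k _ hsum, grK_sum P k] at h
    · rw [Int.cast_natCast] at h
      show (k : KGr.Gr P) * KGr.grK P (k : ℤ) (gamma k (x - (P.aug x : K))) = _
      rw [h]
      push_cast
      congr 1
      refine Finset.sum_congr rfl fun a ha => ?_
      rw [mem_filter, HasAntidiagonal.mem_antidiagonal] at ha
      exact grK_newton_term hy0 ha.1
    · intro a ha
      rw [mem_filter, HasAntidiagonal.mem_antidiagonal] at ha
      exact newton_term_mem hy0 ha.1


theorem chK_add {d : ℕ} (hd : gammaFiltration P (d + 1) = ⊥) (x y : K) :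
    KGr.chK P d (x + y) = KGr.chK P d x + KGr.chK P d y := by
  have hx0 : P.aug (x - (P.aug x : K)) = 0 := by simp
  have hy0 : P.aug (y - (P.aug y : K)) = 0 := by simp
  rw [chK_eq hd, chK_eq hd, chK_eq hd]
  have e : x + y - ((P.aug (x + y) : ℤ) : K) = (x - (P.aug x : K)) + (y - (P.aug y : K)) := by
    rw [map_add]; push_cast; ring
  rw [e]
  simp only [phi_add]
  have : ∀ k : ℕ, KGr.grK P (k : ℤ) (phi k (x - (P.aug x : K)) + phi k (y - (P.aug y : K))) =
      KGr.grK P (k : ℤ) (phi k (x - (P.aug x : K))) + KGr.grK P (k : ℤ) (phi k (y - (P.aug y : K))) :=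
    fun k => grK_add P k (phi_mem P hx0 k) (phi_mem P hy0 k)
  simp only [this, smul_add, Finset.sum_add_distrib, map_add, Int.cast_add]
  abel

/-- the Chern character as an additive map -/
noncomputable def chHom {d : ℕ} (hd : gammaFiltration P (d + 1) = ⊥) : K →+ KGr.Gr P where
  toFun := KGr.chK P d
  map_zero' := by
    have h := chK_add hd (0 : K) 0
    rw [add_zero] at h
    exact left_eq_add.mp h
  map_add' := chK_add hd

/-- the `ℚ`-linear extension of the Chern character -/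
noncomputable def PhiQ {d : ℕ} (hd : gammaFiltration P (d + 1) = ⊥) : ℚ ⊗[ℤ] K →ₗ[ℚ] KGr.Gr P :=
  LinearMap.liftBaseChange ℚ (chHom hd).toIntLinearMap

theorem PhiQ_tmul {d : ℕ} (hd : gammaFiltration P (d + 1) = ⊥) (q : ℚ) (x : K) :
    PhiQ hd (q ⊗ₜ[ℤ] x) = q • KGr.chK P d x := rfl

/-- the homogeneous components of `ch x` -/
theorem PiQ_chK {d : ℕ} (hd : gammaFiltration P (d + 1) = ⊥) (j : ℕ) (x : K) :
    PiQ P j (KGr.chK P d x) = if j = 0 then algebraMap ℚ (KGr.Gr P) (P.aug x) else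
      if j ≤ d then (1 / (j.factorial : ℚ)) • KGr.grK P (j : ℤ) (phi j (x - (P.aug x : K))) else 0 := by
  have hx0 : P.aug (x - (P.aug x : K)) = 0 := by simp
  rw [chK_eq hd, map_add, map_sum]
  simp only [map_smul]
  split_ifs with h0 h1
  · subst h0
    rw [PiQ_algebraMap_zero, Finset.sum_eq_zero, add_zero]
    intro k hk
    rw [Finset.mem_Ico] at hk
    rw [PiQ_grK_ne P (by omega) (phi_mem P hx0 k), smul_zero]
  · rw [PiQ_algebraMap_ne P h0, zero_add, Finset.sum_eq_single j]
    · rw [PiQ_grK_self P j (phi_mem P hx0 j)]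
    · intro k _ hk
      rw [PiQ_grK_ne P hk (phi_mem P hx0 k), smul_zero]
    · intro h
      exact absurd (Finset.mem_Ico.mpr ⟨by omega, by omega⟩) h
  · rw [PiQ_algebraMap_ne P h0, zero_add, Finset.sum_eq_zero]
    intro k hk
    rw [Finset.mem_Ico] at hk
    rw [PiQ_grK_ne P (by omega) (phi_mem P hx0 k), smul_zero]

theorem PiQ_chK_of_lt (hK : HasSplitting K P) {d : ℕ} (hd : gammaFiltration P (d + 1) = ⊥)
    {m : ℕ} {x : K} (hx : x ∈ gammaFiltration P m) {j : ℕ} (hj : j < m) :
    PiQ P j (KGr.chK P d x) = 0 := by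
  have haug : P.aug x = 0 :=
    aug_eq_zero_of_mem_filt_one hK (gammaFiltration_anti P (by omega) hx)
  rw [PiQ_chK hd]
  split_ifs with h0 h1
  · rw [haug]; simp
  · rw [haug, Int.cast_zero, sub_zero, phi_eq_fd hK haug j (by omega),
      grK_eq_zero_of_mem_succ P j (gammaFiltration_anti P (by omega) (fdAdams_mem hK j m hx)),
      smul_zero]
  · rfl

theorem PiQ_chK_self (hK : HasSplitting K P) {d : ℕ} (hd : gammaFiltration P (d + 1) = ⊥)
    {m : ℕ} {x : K} (hx : x ∈ gammaFiltration P m) :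
    PiQ P m (KGr.chK P d x) = KGr.grK P (m : ℤ) x := by
  rw [PiQ_chK hd]
  split_ifs with h0 h1
  · subst h0
    have h1 : x = ((P.aug x : ℤ) : K) + (x - (P.aug x : K)) := by ring
    have h2 : x - (P.aug x : K) ∈ gammaFiltration P 1 := mem_one_of_aug_eq_zero P (by simp)
    conv_rhs => rw [h1]
    rw [grK_add P 0 (by rw [gammaFiltration_zero]; trivial) (by rw [gammaFiltration_zero]; trivial),
      grK_eq_zero_of_mem_succ P 0 h2, add_zero, grK_zero_intCast]
  · have haug : P.aug x = 0 :=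
      aug_eq_zero_of_mem_filt_one hK (gammaFiltration_anti P (by omega) hx)
    rw [haug, Int.cast_zero, sub_zero, phi_eq_fd hK haug m (by omega)]
    have h3 := fdAdams_sub_mem hK m hx
    have h4 : fdAdams P m x = ((m.factorial : ℤ) : K) * x + (fdAdams P m x - (m.factorial : K) * x) := by
      push_cast; ring
    rw [h4, grK_add P m (mul_mem_left P m _ hx) (gammaFiltration_anti P (Nat.le_succ m) h3),
      grK_eq_zero_of_mem_succ P m h3, add_zero, grK_intCast_mul P m _ hx]
    rw [Int.cast_natCast, ← nsmul_eq_mul, ← Nat.cast_smul_eq_nsmul ℚ, smul_smul]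
    have : (1 / (m.factorial : ℚ)) * (m.factorial : ℚ) = 1 := by
      have : (m.factorial : ℚ) ≠ 0 := by positivity
      field_simp
    rw [this, one_smul]
  · have : x = 0 := by
      have := gammaFiltration_anti P (show d + 1 ≤ m by omega) hx
      rwa [hd, AddSubgroup.mem_bot] at this
    rw [this, grK_zero]


omit [LambdaOps K] in
theorem tmul_div_eq (a : ℤ) (N : ℕ) (x : K) :
    ((a : ℚ) / (N : ℚ)) ⊗ₜ[ℤ] x = (1 / (N : ℚ)) ⊗ₜ[ℤ] (a • x) := by
  rw [← TensorProduct.smul_tmul, zsmul_eq_mul]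
  congr 1
  ring

/-- elements of `ℚF^n` are of the form `(1/N) ⊗ x` with `x ∈ F^n` -/
theorem QF_repr {n : ℕ} {v : ℚ ⊗[ℤ] K} (hv : v ∈ QF P n) :
    ∃ N : ℕ, 1 ≤ N ∧ ∃ x ∈ gammaFiltration P n, v = (1 / (N : ℚ)) ⊗ₜ[ℤ] x := by
  unfold QF at hv
  induction hv using Submodule.span_induction with
  | mem v hv =>
    obtain ⟨x, hx, rfl⟩ := hv
    exact ⟨1, le_rfl, x, hx, by simp⟩
  | zero => exact ⟨1, le_rfl, 0, zero_mem _, by simp⟩
  | add v w _ _ hv hw =>
    obtain ⟨N, hN, x, hx, rfl⟩ := hv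
    obtain ⟨M, hM, y, hy, rfl⟩ := hw
    refine ⟨N * M, Nat.one_le_iff_ne_zero.mpr (by positivity), (M : ℤ) • x + (N : ℤ) • y,
      add_mem (AddSubgroup.zsmul_mem _ hx _) (AddSubgroup.zsmul_mem _ hy _), ?_⟩
    rw [TensorProduct.tmul_add, ← tmul_div_eq, ← tmul_div_eq]
    have hN0 : (N : ℚ) ≠ 0 := by positivity
    have hM0 : (M : ℚ) ≠ 0 := by positivity
    congr 2
    · push_cast; field_simp
    · push_cast; field_simp
  | smul q v _ hv =>
    obtain ⟨N, hN, x, hx, rfl⟩ := hv
    refine ⟨q.den * N, Nat.one_le_iff_ne_zero.mpr (by have := q.den_pos; positivity), q.num • x,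
      AddSubgroup.zsmul_mem _ hx _, ?_⟩
    rw [← tmul_div_eq, TensorProduct.smul_tmul', smul_eq_mul]
    congr 1
    have hN0 : (N : ℚ) ≠ 0 := by positivity
    have hd0 : (q.den : ℚ) ≠ 0 := by have := q.den_pos; positivity
    push_cast
    nth_rewrite 1 [← Rat.num_div_den q]
    field_simp

theorem PhiQ_injective (hK : HasSplitting K P) {d : ℕ} (hd : gammaFiltration P (d + 1) = ⊥) :
    Function.Injective (PhiQ hd) := by
  rw [injective_iff_map_eq_zero]
  intro v hv
  have key : ∀ n, v ∈ QF P n := by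
    intro n
    induction n with
    | zero => rw [QF_zero]; trivial
    | succ n ih =>
      obtain ⟨N, hN, x, hx, rfl⟩ := QF_repr ih
      rw [PhiQ_tmul] at hv
      have hch : KGr.chK P d x = 0 := by
        rcases smul_eq_zero.mp hv with h | h
        · exfalso
          have : (N : ℚ) ≠ 0 := by positivity
          simp at h
          omega
        · exact h
      have h1 : KGr.grK P (n : ℤ) x = 0 := by rw [← PiQ_chK_self hK hd hx, hch, map_zero]
      rw [grK_of_mem P n x hx] at h1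
      obtain ⟨M, hM, hMx⟩ := exists_nsmul_eq_zero _ h1
      rw [← map_nsmul, clHom_eq_zero_iff] at hMx
      have e : (1 / (N : ℚ)) ⊗ₜ[ℤ] x =
          (1 / ((N * M : ℕ) : ℚ)) ⊗ₜ[ℤ] ((M • (⟨x, hx⟩ : gammaFiltration P n) : gammaFiltration P n) : K) := by
        rw [AddSubmonoidClass.coe_nsmul, ← natCast_zsmul, ← tmul_div_eq]
        congr 1
        have hN0 : (N : ℚ) ≠ 0 := by positivity
        have hM0 : (M : ℚ) ≠ 0 := by positivity
        push_cast; field_simp
      rw [e]
      exact tmul_mem_QF P hMx _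
  have := key (d + 1)
  rwa [QF_eq_bot P hd, Submodule.mem_bot] at this

theorem grK_mem_range (hK : HasSplitting K P) {d : ℕ} (hd : gammaFiltration P (d + 1) = ⊥) :
    ∀ t n : ℕ, d + 1 ≤ n + t → ∀ x ∈ gammaFiltration P n,
      KGr.grK P (n : ℤ) x ∈ LinearMap.range (PhiQ hd) := by
  intro t
  induction t with
  | zero =>
    intro n hn x hx
    have : x = 0 := by
      have := gammaFiltration_anti P (show d + 1 ≤ n by omega) hx
      rwa [hd, AddSubgroup.mem_bot] at this
    rw [this, grK_zero]; exact zero_mem _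
  | succ t ih =>
    intro n hn x hx
    by_cases hnd : d < n
    · have : x = 0 := by
        have := gammaFiltration_anti P (show d + 1 ≤ n by omega) hx
        rwa [hd, AddSubgroup.mem_bot] at this
      rw [this, grK_zero]; exact zero_mem _
    · have hsum := sum_PiQ P hd (KGr.chK P d x)
      have hmem : n ∈ range (d + 1) := mem_range.mpr (by omega)
      rw [← Finset.add_sum_erase _ _ hmem, PiQ_chK_self hK hd hx] at hsum
      have h1 : KGr.chK P d x ∈ LinearMap.range (PhiQ hd) :=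
        ⟨1 ⊗ₜ x, by rw [PhiQ_tmul, one_smul]⟩
      have h2 : ∑ j ∈ (range (d + 1)).erase n, PiQ P j (KGr.chK P d x) ∈
          LinearMap.range (PhiQ hd) := by
        refine Submodule.sum_mem _ fun j hj => ?_
        rw [mem_erase, mem_range] at hj
        rcases lt_or_gt_of_ne hj.1 with hlt | hgt
        · rw [PiQ_chK_of_lt hK hd hx hlt]; exact zero_mem _
        · rw [PiQ_chK hd, if_neg (by omega), if_pos (by omega)]
          exact Submodule.smul_mem _ _ (ih j (by omega) _ (phi_mem P (by simp) j))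
      rw [eq_sub_of_add_eq hsum]
      exact sub_mem h1 h2

theorem PhiQ_surjective (hK : HasSplitting K P) {d : ℕ} (hd : gammaFiltration P (d + 1) = ⊥) :
    Function.Surjective (PhiQ hd) := by
  rw [← LinearMap.range_eq_top, eq_top_iff]
  intro w hw
  clear hw
  induction w using TensorProduct.induction_on with
  | zero => exact zero_mem _
  | tmul q z =>
    obtain ⟨f, rfl⟩ := Ideal.Quotient.mk_surjective z
    have hz := sum_piZ P hd (Ideal.Quotient.mk _ f)
    rw [← hz, TensorProduct.tmul_sum]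
    refine Submodule.sum_mem _ fun n _ => ?_
    rw [piZ_mk, coefHom_apply]
    have hc : (f : LaurentPolynomial K).coeff (-(n : ℤ)) ∈ gammaFiltration P n := by
      simpa using rees_le P f f.2 (-(n : ℤ))
    have : q ⊗ₜ[ℤ] clHom P n ⟨(f : LaurentPolynomial K).coeff (-(n : ℤ)), hc⟩ =
        q • KGr.grK P (n : ℤ) ((f : LaurentPolynomial K).coeff (-(n : ℤ))) := by
      rw [grK_of_mem P n _ hc, TensorProduct.smul_tmul', smul_eq_mul, mul_one]
    rw [this]
    exact Submodule.smul_mem _ _ (grK_mem_range hK hd (d + 1) n (by omega) _ hc)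
  | add a b ha hb => exact add_mem ha hb

theorem main (hK : HasSplitting K P) (d : ℕ) (hd : gammaFiltration P (d + 1) = ⊥) :
    ∃ Φ : TensorProduct ℤ ℚ K →ₗ[ℚ] KGr.Gr P,
      (∀ x : K, Φ ((1 : ℚ) ⊗ₜ[ℤ] x) = KGr.chK P d x) ∧ Function.Bijective Φ :=
  ⟨PhiQ hd, fun x => by rw [PhiQ_tmul, one_smul], PhiQ_injective hK hd, PhiQ_surjective hK hd⟩

end Groth.Agent.H2.KGrS
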