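import Groth.Agent.Lib.Helper2.LamQ

set_option autoImplicit false

namespace Groth.Agent.H2.Lam

open LambdaRing Finset TensorProduct

universe u

variable {K : Type u} [CommRing K] [LambdaOps K] {P : PosStructure K}

theorem psi_comm (hK : HasSplitting K P) (j l : ℕ) (Ψj Ψl : ℚ ⊗[ℤ] K →ₗ[ℚ] ℚ ⊗[ℤ] K)
    (hΨj : ∀ x : K, Ψj (1 ⊗ₜ[ℤ] x) = 1 ⊗ₜ[ℤ] adams P j x)
    (hΨl : ∀ x : K, Ψl (1 ⊗ₜ[ℤ] x) = 1 ⊗ₜ[ℤ] adams P l x) (v : ℚ ⊗[ℤ] K) :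
    Ψj (Ψl v) = Ψl (Ψj v) := by
  induction v using TensorProduct.induction_on with
  | zero => simp
  | tmul q x =>
    have : q ⊗ₜ[ℤ] x = q • ((1 : ℚ) ⊗ₜ[ℤ] x) := by
      rw [TensorProduct.smul_tmul', smul_eq_mul, mul_one]
    rw [this, map_smul, map_smul, map_smul, map_smul, hΨl, hΨj, hΨj, hΨl, adams_adams hK,
      adams_adams hK, mul_comm]
  | add a b ha hb => rw [map_add, map_add, map_add, map_add, ha, hb]

theorem iSup_eigenspace_eq_top (hK : HasSplitting K P) {d : ℕ}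
    (hd : gammaFiltration P (d + 1) = ⊥) (j : ℕ) (hj : 2 ≤ j)
    (Ψ : ℚ ⊗[ℤ] K →ₗ[ℚ] ℚ ⊗[ℤ] K) (hΨ : ∀ x : K, Ψ (1 ⊗ₜ[ℤ] x) = 1 ⊗ₜ[ℤ] adams P j x) :
    (⨆ m ∈ range (d + 1), Module.End.eigenspace Ψ ((j : ℚ) ^ m)) = ⊤ := by
  rw [eq_top_iff, ← QF_zero P]
  have key : ∀ k, QF P (d + 1 - k) ≤ ⨆ m ∈ range (d + 1), Module.End.eigenspace Ψ ((j : ℚ) ^ m) := by
    intro k
    induction k with
    | zero => rw [Nat.sub_zero, QF_eq_bot P hd]; exact bot_le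
    | succ k ih =>
      by_cases hk : d + 1 ≤ k
      · rw [show d + 1 - (k + 1) = d + 1 - k by omega]; exact ih
      · rw [← eigenspace_sup_QF Ψ j hK hΨ hj hd (d + 1 - (k + 1)),
          show d + 1 - (k + 1) + 1 = d + 1 - k by omega]
        refine sup_le ?_ ih
        exact le_biSup (fun m => Module.End.eigenspace Ψ ((j : ℚ) ^ m))
          (mem_range.mpr (by omega))
  have := key (d + 1)
  rwa [Nat.sub_self] at this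

theorem eigenspace_le_eigenspace (hK : HasSplitting K P) {d : ℕ}
    (hd : gammaFiltration P (d + 1) = ⊥) (j l : ℕ) (hj : 2 ≤ j)
    (Ψj Ψl : ℚ ⊗[ℤ] K →ₗ[ℚ] ℚ ⊗[ℤ] K)
    (hΨj : ∀ x : K, Ψj (1 ⊗ₜ[ℤ] x) = 1 ⊗ₜ[ℤ] adams P j x)
    (hΨl : ∀ x : K, Ψl (1 ⊗ₜ[ℤ] x) = 1 ⊗ₜ[ℤ] adams P l x) (m : ℕ) :
    Module.End.eigenspace Ψj ((j : ℚ) ^ m) ≤ Module.End.eigenspace Ψl ((l : ℚ) ^ m) := by
  intro v hv
  have hvQ := eigenspace_le_QF Ψj j hK hΨj hj m hv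
  rw [Module.End.mem_eigenspace_iff] at hv ⊢
  have h1 : Top Ψl l m v ∈ QF P (m + 1) := Top_mem_succ Ψl l hK hΨl hvQ
  have h2 : Top Ψl l m v ∈ Module.End.eigenspace Ψj ((j : ℚ) ^ m) := by
    rw [Module.End.mem_eigenspace_iff, Top_apply, map_sub, map_smul,
      psi_comm hK j l Ψj Ψl hΨj hΨl, hv, map_smul, smul_sub, smul_comm]
  have h3 : Top Ψl l m v ∈ Module.End.eigenspace Ψj ((j : ℚ) ^ m) ⊓ QF P (m + 1) := ⟨h2, h1⟩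
  rw [eigenspace_inf_QF Ψj j hK hΨj hj hd m, Submodule.mem_bot, Top_apply, sub_eq_zero] at h3
  exact h3

end Groth.Agent.H2.Lam
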