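import Groth.Agent.Lib.Helper2.ChMain
import Groth.Agent.Lib.Helper2.LamQ2

/-!
# Multiplicativity of the Chern character `chK` of `Def_KGr`
-/

set_option autoImplicit false

namespace Groth.Agent.H2.KGrS

open LambdaRing TensorProduct Finset
open Groth.Agent.H2.Lam

universe v

variable {K : Type v} [CommRing K] [LambdaOps K] {P : PosStructure K}

/-- Adams operations on `ℚ ⊗ K` -/
noncomputable def PsiQ (P : PosStructure K) (j : ℕ) : ℚ ⊗[ℤ] K →ₗ[ℚ] ℚ ⊗[ℤ] K :=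
  LinearMap.baseChange ℚ (adamsAddHom P j).toIntLinearMap

theorem PsiQ_tmul (j : ℕ) (q : ℚ) (x : K) : PsiQ P j (q ⊗ₜ[ℤ] x) = q ⊗ₜ[ℤ] adams P j x := by
  rw [PsiQ, LinearMap.baseChange_tmul]; rfl

theorem PsiQ_mul (hK : HasSplitting K P) (j : ℕ) (v w : ℚ ⊗[ℤ] K) :
    PsiQ P j (v * w) = PsiQ P j v * PsiQ P j w := by
  induction v using TensorProduct.induction_on with
  | zero => simp
  | tmul q x =>
    induction w using TensorProduct.induction_on with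
    | zero => simp
    | tmul r y =>
      rw [Algebra.TensorProduct.tmul_mul_tmul, PsiQ_tmul, PsiQ_tmul, PsiQ_tmul,
        Algebra.TensorProduct.tmul_mul_tmul, adams_mul hK]
    | add a b ha hb => rw [mul_add, map_add, ha, hb, map_add, mul_add]
  | add a b ha hb => rw [add_mul, map_add, ha, hb, map_add, add_mul]

/-- the weight-`m` eigenspace -/
noncomputable def V (P : PosStructure K) (m : ℕ) : Submodule ℚ (ℚ ⊗[ℤ] K) :=
  Module.End.eigenspace (PsiQ P 2) (((2 : ℕ) : ℚ) ^ m)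

theorem V_mul (hK : HasSplitting K P) {a b : ℕ} {v w : ℚ ⊗[ℤ] K} (hv : v ∈ V P a) (hw : w ∈ V P b) :
    v * w ∈ V P (a + b) := by
  unfold V at *
  rw [Module.End.mem_eigenspace_iff] at *
  rw [PsiQ_mul hK, hv, hw, smul_mul_smul_comm, pow_add]

theorem iSup_V (hK : HasSplitting K P) {d : ℕ} (hd : gammaFiltration P (d + 1) = ⊥) :
    (⨆ m, V P m) = ⊤ := by
  rw [eq_top_iff, ← iSup_eigenspace_eq_top hK hd 2 le_rfl (PsiQ P 2) (fun x => PsiQ_tmul 2 1 x)]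
  exact iSup₂_le fun m _ => le_iSup (fun m => V P m) m

theorem V_le_QF (hK : HasSplitting K P) (m : ℕ) : V P m ≤ QF P m :=
  eigenspace_le_QF (PsiQ P 2) 2 hK (fun x => PsiQ_tmul 2 1 x) le_rfl m

theorem V_le_eigenspace (hK : HasSplitting K P) {d : ℕ} (hd : gammaFiltration P (d + 1) = ⊥)
    (l m : ℕ) : V P m ≤ Module.End.eigenspace (PsiQ P l) ((l : ℚ) ^ m) :=
  eigenspace_le_eigenspace hK hd 2 l le_rfl (PsiQ P 2) (PsiQ P l) (fun x => PsiQ_tmul 2 1 x)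
    (fun x => PsiQ_tmul l 1 x) m

theorem stirling_zero {m j : ℕ} (h : m < j) :
    ∑ l ∈ range (j + 1), ((-1 : ℤ) ^ (j - l) * (j.choose l : ℤ)) * (l : ℤ) ^ m = 0 := by
  have h1 := fwdDiff_iter_eq_sum_shift (1 : ℤ) (fun r : ℤ => r ^ m) j 0
  rw [fwdDiff_iter_pow_eq_zero_of_lt h] at h1
  simp only [smul_eq_mul, zero_add, Pi.zero_apply] at h1
  simpa using h1.symm

theorem fdAdams_intCast (P : PosStructure K) {j : ℕ} (hj : 0 < j) (n : ℤ) : fdAdams P j (n : K) = 0 := by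
  unfold fdAdams
  simp only [adams_intCast]
  rw [← Finset.sum_smul]
  have := stirling_zero (m := 0) hj
  simp only [pow_zero, mul_one] at this
  rw [this, zero_smul]

theorem phi_sub_aug (hK : HasSplitting K P) {j : ℕ} (hj : 0 < j) (x : K) :
    phi j (x - (P.aug x : K)) = fdAdams P j x := by
  rw [phi_eq_fd hK (by simp) j hj, fdAdams_sub, fdAdams_intCast P hj, sub_zero]


theorem one_tmul_fdAdams_eq_zero (hK : HasSplitting K P) {d : ℕ}
    (hd : gammaFiltration P (d + 1) = ⊥) {m j : ℕ} (hmj : m < j) {x : K}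
    (hx : (1 : ℚ) ⊗ₜ[ℤ] x ∈ V P m) : (1 : ℚ) ⊗ₜ[ℤ] fdAdams P j x = 0 := by
  unfold fdAdams
  rw [TensorProduct.tmul_sum]
  have h1 : ∀ l : ℕ, (1 : ℚ) ⊗ₜ[ℤ] adams P l x = ((l : ℚ) ^ m) • ((1 : ℚ) ⊗ₜ[ℤ] x) := by
    intro l
    have := V_le_eigenspace hK hd l m hx
    rw [Module.End.mem_eigenspace_iff, PsiQ_tmul] at this
    exact this
  simp only [TensorProduct.tmul_smul, h1]
  have h2 : ∀ l : ℕ, ((-1 : ℤ) ^ (j - l) * (j.choose l : ℤ)) • ((l : ℚ) ^ m) • ((1 : ℚ) ⊗ₜ[ℤ] x) =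
      ((((-1 : ℤ) ^ (j - l) * (j.choose l : ℤ)) * (l : ℤ) ^ m : ℤ) : ℚ) • ((1 : ℚ) ⊗ₜ[ℤ] x) := by
    intro l
    rw [← Int.cast_smul_eq_zsmul ℚ, smul_smul]
    congr 1
    push_cast; ring
  simp only [h2]
  rw [← Finset.sum_smul, ← Int.cast_sum, stirling_zero hmj, Int.cast_zero, zero_smul]

theorem PiQ_PhiQ_eigen (hK : HasSplitting K P) {d : ℕ} (hd : gammaFiltration P (d + 1) = ⊥)
    {m : ℕ} {v : ℚ ⊗[ℤ] K} (hv : v ∈ V P m) {j : ℕ} (hj : j ≠ m) :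
    PiQ P j (PhiQ hd v) = 0 := by
  obtain ⟨N, hN, x, hx, rfl⟩ := QF_repr (V_le_QF hK m hv)
  rw [PhiQ_tmul, map_smul]
  have hN0 : (N : ℚ) ≠ 0 := by positivity
  have hxV : (1 : ℚ) ⊗ₜ[ℤ] x ∈ V P m := by
    have : (1 : ℚ) ⊗ₜ[ℤ] x = (N : ℚ) • ((1 / (N : ℚ)) ⊗ₜ[ℤ] x) := by
      rw [TensorProduct.smul_tmul', smul_eq_mul]
      congr 1
      field_simp
    rw [this]
    exact Submodule.smul_mem _ _ hv
  rcases lt_or_gt_of_ne hj with hlt | hgt
  · rw [PiQ_chK_of_lt hK hd hx hlt, smul_zero]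
  · rw [PiQ_chK hd, if_neg (by omega)]
    split_ifs with hjd
    · rw [phi_sub_aug hK (by omega)]
      have hz := one_tmul_fdAdams_eq_zero hK hd hgt hxV
      obtain ⟨M, hM, hMz⟩ := exists_nsmul_eq_zero _ hz
      have hmem : fdAdams P j x ∈ gammaFiltration P j := by
        rw [← phi_sub_aug hK (show 0 < j by omega)]
        exact phi_mem P (by simp) j
      have h2 : (M : ℤ) • KGr.grK P (j : ℤ) (fdAdams P j x) = 0 := by
        rw [zsmul_eq_mul, ← grK_intCast_mul P j _ hmem, Int.cast_natCast, ← nsmul_eq_mul, hMz,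
          grK_zero]
      have h3 : KGr.grK P (j : ℤ) (fdAdams P j x) = 0 := by
        rw [← Int.cast_smul_eq_zsmul ℚ] at h2
        refine (smul_eq_zero.mp h2).resolve_left ?_
        have : (M : ℚ) ≠ 0 := by positivity
        simpa using this
      rw [h3, smul_zero, smul_zero]
    · rw [smul_zero]

theorem PhiQ_eigen (hK : HasSplitting K P) {d : ℕ} (hd : gammaFiltration P (d + 1) = ⊥)
    {m : ℕ} {v : ℚ ⊗[ℤ] K} (hv : v ∈ V P m) : PhiQ hd v = PiQ P m (PhiQ hd v) := by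
  have h := sum_PiQ P hd (PhiQ hd v)
  by_cases hm : m ∈ range (d + 1)
  · rw [Finset.sum_eq_single_of_mem m hm (fun j _ hj => PiQ_PhiQ_eigen hK hd hv hj)] at h
    exact h.symm
  · rw [Finset.sum_eq_zero (fun j hj => PiQ_PhiQ_eigen hK hd hv (by rintro rfl; exact hm hj))] at h
    rw [← h, map_zero]

theorem PhiQ_eigen_tmul (hK : HasSplitting K P) {d : ℕ} (hd : gammaFiltration P (d + 1) = ⊥)
    {m : ℕ} {q : ℚ} {x : K} (hx : x ∈ gammaFiltration P m) (hv : q ⊗ₜ[ℤ] x ∈ V P m) :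
    PhiQ hd (q ⊗ₜ[ℤ] x) = q • KGr.grK P (m : ℤ) x := by
  rw [PhiQ_eigen hK hd hv, PhiQ_tmul, map_smul, PiQ_chK_self hK hd hx]

theorem PhiQ_mul_eigen (hK : HasSplitting K P) {d : ℕ} (hd : gammaFiltration P (d + 1) = ⊥)
    {a b : ℕ} {v w : ℚ ⊗[ℤ] K} (hv : v ∈ V P a) (hw : w ∈ V P b) :
    PhiQ hd (v * w) = PhiQ hd v * PhiQ hd w := by
  obtain ⟨N, hN, x, hx, rfl⟩ := QF_repr (V_le_QF hK a hv)
  obtain ⟨M, hM, y, hy, rfl⟩ := QF_repr (V_le_QF hK b hw)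
  have hvw := V_mul hK hv hw
  rw [Algebra.TensorProduct.tmul_mul_tmul] at hvw ⊢
  rw [PhiQ_eigen_tmul hK hd (mul_mem_filt P hx hy) hvw, PhiQ_eigen_tmul hK hd hx hv,
    PhiQ_eigen_tmul hK hd hy hw, grK_mul P a b hx hy, smul_mul_smul_comm]

theorem PhiQ_mul (hK : HasSplitting K P) {d : ℕ} (hd : gammaFiltration P (d + 1) = ⊥)
    (v w : ℚ ⊗[ℤ] K) : PhiQ hd (v * w) = PhiQ hd v * PhiQ hd w := by
  have hv : v ∈ ⨆ m, V P m := by rw [iSup_V hK hd]; trivial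
  have hw : w ∈ ⨆ m, V P m := by rw [iSup_V hK hd]; trivial
  refine Submodule.iSup_induction (V P) (motive := fun v => PhiQ hd (v * w) = PhiQ hd v * PhiQ hd w)
    hv ?_ ?_ ?_
  · intro a v hva
    refine Submodule.iSup_induction (V P)
      (motive := fun w => PhiQ hd (v * w) = PhiQ hd v * PhiQ hd w) hw ?_ ?_ ?_
    · intro b w hwb
      exact PhiQ_mul_eigen hK hd hva hwb
    · simp
    · intro w1 w2 h1 h2
      rw [mul_add, map_add, h1, h2, map_add, mul_add]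
  · simp
  · intro v1 v2 h1 h2
    rw [add_mul, map_add, h1, h2, map_add, add_mul]

theorem chK_mul (hK : HasSplitting K P) {d : ℕ} (hd : gammaFiltration P (d + 1) = ⊥) (x y : K) :
    KGr.chK P d (x * y) = KGr.chK P d x * KGr.chK P d y := by
  have := PhiQ_mul hK hd ((1 : ℚ) ⊗ₜ[ℤ] x) ((1 : ℚ) ⊗ₜ[ℤ] y)
  rwa [Algebra.TensorProduct.tmul_mul_tmul, one_mul, PhiQ_tmul, PhiQ_tmul, PhiQ_tmul, one_smul,
    one_smul, one_smul] at this

theorem chK_one {d : ℕ} (hd : gammaFiltration P (d + 1) = ⊥) : KGr.chK P d (1 : K) = 1 := by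
  rw [chK_eq hd, map_one]
  simp only [Int.cast_one, sub_self, phi_zero', grK_zero, smul_zero, Finset.sum_const_zero,
    add_zero, map_one]

end Groth.Agent.H2.KGrS
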