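import Mathlib
universe u
open IntermediateField Module Matrix Polynomial

namespace Groth.Agent.H2.CharpolyTower

lemma charmatrix_blockDiagonal {R : Type*} [CommRing R] {n o : Type*} [Fintype n] [DecidableEq n]
    [Fintype o] [DecidableEq o] (M : o → Matrix n n R) :
    charmatrix (blockDiagonal M) = blockDiagonal (fun k => charmatrix (M k)) := by
  ext ⟨i, k⟩ ⟨j, k'⟩
  simp only [charmatrix_apply, blockDiagonal_apply, diagonal_apply, Prod.mk.injEq]
  by_cases hk : k = k'
  · subst hk
    by_cases hi : i = j
    · subst hi; simp
    · simp [hi]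
  · simp [hk]

lemma charpoly_blockDiagonal_const {R : Type*} [CommRing R] {n o : Type*} [Fintype n] [DecidableEq n]
    [Fintype o] [DecidableEq o] (N : Matrix n n R) :
    (blockDiagonal (fun _ : o => N)).charpoly = N.charpoly ^ Fintype.card o := by
  rw [Matrix.charpoly, charmatrix_blockDiagonal, det_blockDiagonal]
  simp [Matrix.charpoly, Finset.prod_const, Finset.card_univ]

theorem charpoly_lmul {K L : Type u} [Field K] [Field L] [Algebra K L] [FiniteDimensional K L]
    (a : L) :
    (Algebra.lmul K L a).charpoly = minpoly K a ^ Module.finrank K⟮a⟯ L ∧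
      Module.finrank K⟮a⟯ L * (minpoly K a).natDegree = Module.finrank K L := by
  classical
  have hint : IsIntegral K a := .of_finite K a
  constructor
  · let pb := IntermediateField.adjoin.powerBasis hint
    let c := Module.finBasis K⟮a⟯ L
    let B := pb.basis.smulTower c
    have hgen : algebraMap K⟮a⟯ L pb.gen = a := by
      simp [pb]
    rw [← LinearMap.charpoly_toMatrix (Algebra.lmul K L a) B]
    have h1 : LinearMap.toMatrix B B (Algebra.lmul K L a) = Algebra.leftMulMatrix B a := rfl
    have h2 : Algebra.leftMulMatrix B a =
        blockDiagonal fun _ => Algebra.leftMulMatrix pb.basis pb.gen := by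
      rw [← Algebra.smulTower_leftMulMatrix_algebraMap pb.basis c pb.gen, hgen]
    have h3 : minpoly K pb.gen = minpoly K a := by
      have := minpoly.algebraMap_eq (A := K) (algebraMap K⟮a⟯ L).injective pb.gen
      rw [← this, hgen]
    rw [h1, h2, charpoly_blockDiagonal_const, charpoly_leftMulMatrix, Fintype.card_fin, h3]
  · rw [← IntermediateField.adjoin.finrank hint, mul_comm]
    exact Module.finrank_mul_finrank K K⟮a⟯ L

end Groth.Agent.H2.CharpolyTower
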