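import Mathlib
import Groth.Agent.Lib.Lead.QC.QuotSupp
import Groth.Agent.Lib.Lead.QC.IdealMod
import Groth.Agent.Lib.Lead.SC.SerreCrit
import Groth.Agent.Lib.Helper5.Lim.ModuleBridge
import Groth.Agent.Lib.Helper5.DegC.Cartier
import Groth.Agent.Lib.Helper3.ZClosCover

/-! The sequence `0 → O_X → O_X/I₁ ⊕ O_X/I₂ → O_X/(I₁ + I₂) → 0` for `I₁ ∩ I₂ = 0` (helper2). -/

set_option autoImplicit false
universe u
open CategoryTheory CategoryTheory.Limits AlgebraicGeometry TopologicalSpace Opposite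

namespace Groth.Agent.H2.ClSubPair

open Groth.Agent.LD

variable {X : Scheme.{u}}

section Biprod
variable {A B C : X.Modules}

lemma fst_lift_app (a : C ⟶ A) (b : C ⟶ B) (W : X.Opens) (s : Γ(C, W)) :
    (biprod.fst : A ⊞ B ⟶ A).app W ((biprod.lift a b).app W s) = a.app W s := by
  rw [← SC.comp_app_apply, biprod.lift_fst]

lemma snd_lift_app (a : C ⟶ A) (b : C ⟶ B) (W : X.Opens) (s : Γ(C, W)) :
    (biprod.snd : A ⊞ B ⟶ B).app W ((biprod.lift a b).app W s) = b.app W s := by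
  rw [← SC.comp_app_apply, biprod.lift_snd]

lemma total_app (W : X.Opens) (t : Γ(A ⊞ B, W)) :
    t = (biprod.inl : A ⟶ A ⊞ B).app W ((biprod.fst : A ⊞ B ⟶ A).app W t) +
      (biprod.inr : B ⟶ A ⊞ B).app W ((biprod.snd : A ⊞ B ⟶ B).app W t) := by
  have h := congrArg (fun φ : A ⊞ B ⟶ A ⊞ B => φ.app W t) (biprod.total (X := A) (Y := B))
  exact h.symm

lemma biprod_app_ext (W : X.Opens) (t t' : Γ(A ⊞ B, W))
    (h1 : (biprod.fst : A ⊞ B ⟶ A).app W t = (biprod.fst : A ⊞ B ⟶ A).app W t')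
    (h2 : (biprod.snd : A ⊞ B ⟶ B).app W t = (biprod.snd : A ⊞ B ⟶ B).app W t') : t = t' :=
  calc t = _ := total_app W t
    _ = _ := by rw [h1, h2]
    _ = t' := (total_app W t').symm

end Biprod

variable (I₁ I₂ : X.IdealSheafData)

theorem mono_lift (h : I₁ ⊓ I₂ = ⊥) :
    Mono (biprod.lift (ClSub.toSubscheme I₁) (ClSub.toSubscheme I₂)) := by
  refine Groth.Agent.H3.ZClosCover.mono_of_injective_basis _ X.affineOpens
    X.isBasis_affineOpens ?_
  intro V hV a b hab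
  have h1 : (ClSub.toSubscheme I₁).app V a = (ClSub.toSubscheme I₁).app V b := by
    rw [← fst_lift_app (ClSub.toSubscheme I₁) (ClSub.toSubscheme I₂) V a,
      ← fst_lift_app (ClSub.toSubscheme I₁) (ClSub.toSubscheme I₂) V b, hab]
  have h2 : (ClSub.toSubscheme I₂).app V a = (ClSub.toSubscheme I₂).app V b := by
    rw [← snd_lift_app (ClSub.toSubscheme I₁) (ClSub.toSubscheme I₂) V a,
      ← snd_lift_app (ClSub.toSubscheme I₁) (ClSub.toSubscheme I₂) V b, hab]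
  have h1' : (ClSub.toSubscheme I₁).app V (a - b) = 0 := by
    rw [map_sub, h1, sub_self]
  have h2' : (ClSub.toSubscheme I₂).app V (a - b) = 0 := by
    rw [map_sub, h2, sub_self]
  have m1 := (QC.toSubscheme_app_eq_zero_iff I₁ ⟨V, hV⟩ (a - b)).mp h1'
  have m2 := (QC.toSubscheme_app_eq_zero_iff I₂ ⟨V, hV⟩ (a - b)).mp h2'
  have m3 : (show Γ(X, V) from a - b) ∈ (I₁ ⊓ I₂).ideal ⟨V, hV⟩ := ⟨m1, m2⟩
  rw [h] at m3
  have m4 : a - b = 0 := m3
  exact sub_eq_zero.mp m4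

variable {I₁ I₂}
variable (q₁ : ClSub.quotMod I₁ ⟶ ClSub.quotMod (I₁ ⊔ I₂))
  (q₂ : ClSub.quotMod I₂ ⟶ ClSub.quotMod (I₁ ⊔ I₂))
  (hq₁ : ClSub.toSubscheme I₁ ≫ q₁ = ClSub.toSubscheme (I₁ ⊔ I₂))
  (hq₂ : ClSub.toSubscheme I₂ ≫ q₂ = ClSub.toSubscheme (I₁ ⊔ I₂))

include hq₁ in
theorem epi_desc : Epi (biprod.desc q₁ (-q₂)) := by
  haveI : Epi (ClSub.toSubscheme (I₁ ⊔ I₂)) :=
    (Groth.Agent.H5.DegC.shortExact_idealMod (I₁ ⊔ I₂)).epi_g
  haveI : Epi (ClSub.toSubscheme I₁ ≫ q₁) := by rw [hq₁]; infer_instance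
  haveI : Epi q₁ := epi_of_epi (ClSub.toSubscheme I₁) q₁
  haveI : Epi (biprod.inl ≫ biprod.desc q₁ (-q₂)) := by rw [biprod.inl_desc]; infer_instance
  exact epi_of_epi biprod.inl _

include hq₁ hq₂ in
theorem lift_desc_zero :
    biprod.lift (ClSub.toSubscheme I₁) (ClSub.toSubscheme I₂) ≫ biprod.desc q₁ (-q₂) = 0 := by
  rw [biprod.lift_desc, Preadditive.comp_neg, hq₁, hq₂, add_neg_cancel]

include hq₁ hq₂ in
theorem exact_app (U : X.affineOpens) :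
    Function.Exact ((biprod.lift (ClSub.toSubscheme I₁) (ClSub.toSubscheme I₂)).app U.1)
      ((biprod.desc q₁ (-q₂)).app U.1) := by
  intro t
  constructor
  · intro ht
    rw [SC.desc_app] at ht
    obtain ⟨x, hx⟩ := QC.toSubscheme_app_surjective I₁ U
      ((biprod.fst : ClSub.quotMod I₁ ⊞ ClSub.quotMod I₂ ⟶ _).app U.1 t)
    obtain ⟨y, hy⟩ := QC.toSubscheme_app_surjective I₂ U
      ((biprod.snd : ClSub.quotMod I₁ ⊞ ClSub.quotMod I₂ ⟶ _).app U.1 t)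
    have e1 : q₁.app U.1 ((biprod.fst : ClSub.quotMod I₁ ⊞ ClSub.quotMod I₂ ⟶ _).app U.1 t) =
        (ClSub.toSubscheme (I₁ ⊔ I₂)).app U.1 x := by
      rw [← hx, ← SC.comp_app_apply, hq₁]
    have e2 : q₂.app U.1 ((biprod.snd : ClSub.quotMod I₁ ⊞ ClSub.quotMod I₂ ⟶ _).app U.1 t) =
        (ClSub.toSubscheme (I₁ ⊔ I₂)).app U.1 y := by
      rw [← hy, ← SC.comp_app_apply, hq₂]
    have e3 : (-q₂).app U.1 ((biprod.snd : ClSub.quotMod I₁ ⊞ ClSub.quotMod I₂ ⟶ _).app U.1 t) =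
        - q₂.app U.1 ((biprod.snd : ClSub.quotMod I₁ ⊞ ClSub.quotMod I₂ ⟶ _).app U.1 t) := rfl
    rw [e3, e1, e2, ← sub_eq_add_neg, ← map_sub] at ht
    have hxy : (show Γ(X, U.1) from x - y) ∈ I₁.ideal U ⊔ I₂.ideal U :=
      (QC.toSubscheme_app_eq_zero_iff (I₁ ⊔ I₂) U (x - y)).mp ht
    obtain ⟨i₁, hi₁, i₂, hi₂, hsum⟩ := Submodule.mem_sup.mp hxy
    have z1 : (ClSub.toSubscheme I₁).app U.1 i₁ = 0 :=
      (QC.toSubscheme_app_eq_zero_iff I₁ U i₁).mpr hi₁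
    have z2 : (ClSub.toSubscheme I₂).app U.1 i₂ = 0 :=
      (QC.toSubscheme_app_eq_zero_iff I₂ U i₂).mpr hi₂
    have hsum' : (show Γ(Coh.structureModule X, U.1) from i₁) +
        (show Γ(Coh.structureModule X, U.1) from i₂) = x - y := hsum
    have hx' : x - (show Γ(Coh.structureModule X, U.1) from i₁) =
        y + (show Γ(Coh.structureModule X, U.1) from i₂) := by
      rw [sub_eq_iff_eq_add, sub_eq_iff_eq_add.mp hsum'.symm]
      abel
    refine ⟨x - (show Γ(Coh.structureModule X, U.1) from i₁), ?_⟩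
    apply biprod_app_ext
    · rw [fst_lift_app, map_sub, hx]
      have : (ClSub.toSubscheme I₁).app U.1 (show Γ(Coh.structureModule X, U.1) from i₁) = 0 := z1
      rw [this, sub_zero]
    · rw [snd_lift_app, hx', map_add, hy]
      have : (ClSub.toSubscheme I₂).app U.1 (show Γ(Coh.structureModule X, U.1) from i₂) = 0 := z2
      rw [this, add_zero]
  · rintro ⟨s, rfl⟩
    rw [← SC.comp_app_apply, lift_desc_zero q₁ q₂ hq₁ hq₂]
    rfl

include hq₁ hq₂ in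
/-- **the statement of S19606.** -/
theorem main (h : I₁ ⊓ I₂ = ⊥) :
    Epi (biprod.desc q₁ (-q₂)) ∧
      ∃ w : biprod.lift (ClSub.toSubscheme I₁) (ClSub.toSubscheme I₂) ≫ biprod.desc q₁ (-q₂) = 0,
        Nonempty (IsLimit (KernelFork.ofι
          (biprod.lift (ClSub.toSubscheme I₁) (ClSub.toSubscheme I₂)) w)) := by
  refine ⟨epi_desc q₁ q₂ hq₁, lift_desc_zero q₁ q₂ hq₁ hq₂, ?_⟩
  let S : ShortComplex X.Modules :=
    ShortComplex.mk (biprod.lift (ClSub.toSubscheme I₁) (ClSub.toSubscheme I₂))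
      (biprod.desc q₁ (-q₂)) (lift_desc_zero q₁ q₂ hq₁ hq₂)
  haveI : Mono S.f := mono_lift I₁ I₂ h
  have hS : S.Exact := by
    refine Groth.Agent.H5.Lim.exact_of_affine_cover S
      (h₁ := (inferInstance : (Coh.structureModule X).IsQuasicoherent))
      (h₂ := SC.qc_biprod _ _ inferInstance inferInstance)
      (h₃ := (inferInstance : (ClSub.quotMod (I₁ ⊔ I₂)).IsQuasicoherent)) ?_
    intro x
    obtain ⟨_, ⟨U, hU, rfl⟩, hxU, -⟩ := X.isBasis_affineOpens.exists_subset_of_mem_open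
      (Set.mem_univ x) isOpen_univ
    exact ⟨U, hU, hxU, exact_app q₁ q₂ hq₁ hq₂ ⟨U, hU⟩⟩
  exact ⟨hS.fIsKernel⟩

end Groth.Agent.H2.ClSubPair
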