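import Mathlib

/-!
# Resolutions of complexes by a class of objects: the one-step construction
-/

universe v u

open CategoryTheory CategoryTheory.Limits

namespace Groth.Agent.H2.ClassRes

variable {A : Type u} [Category.{v} A] [Abelian A]

/-- The hypotheses on the two classes `K'' ⊆ K'`. -/
structure Hyp (K' K'' : ObjectProperty A) : Prop where
  isoK' : ∀ ⦃X Y : A⦄ (_ : X ≅ Y), K' X → K' Y
  isoK'' : ∀ ⦃X Y : A⦄ (_ : X ≅ Y), K'' X → K'' Y
  sub : ∀ ⦃X : A⦄, K'' X → K' X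
  h1 : ∀ ⦃M' M : A⦄ (u : M' ⟶ M), K' M' → Mono u → ∃ (B : A) (v : M ⟶ B), K'' B ∧ Mono (u ≫ v)
  h2 : ∀ ⦃A₁ A₂ : A⦄ (u : A₁ ⟶ A₂), K' A₁ → K' A₂ → Mono u → K' (cokernel u)
  h3 : ∀ ⦃B B' : A⦄, K'' B → K'' B' → K'' (B ⊞ B')

/-- the output of the one-step construction -/
structure StepOut (K' K'' : ObjectProperty A)
    {O Xn O' H H' C : A} (ιH : H ⟶ O) (t : O ⟶ Xn) (π : Xn ⟶ O') (ιH' : H' ⟶ O')
    (g : O ⟶ C) where
  I' : A
  C' : A
  c : C ⟶ I'
  p' : I' ⟶ C'
  f' : Xn ⟶ I'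
  g' : O' ⟶ C'
  hI' : K'' I'
  hC' : K' C'
  comm₁ : g ≫ c = t ≫ f'
  comm₂ : π ≫ g' = f' ≫ p'
  w₁ : (ιH ≫ g) ≫ c = 0
  isLimit : IsLimit (KernelFork.ofι (ιH ≫ g) w₁)
  w₂ : c ≫ p' = 0
  isColimit : IsColimit (CokernelCofork.ofπ p' w₂)
  mono : Mono (ιH' ≫ g')

section Pushout

variable {N B X O' : A} (gb : B ⟶ N) (b : B ⟶ X) (π : X ⟶ O') (wπ : b ≫ π = 0)
  (hπ : IsColimit (CokernelCofork.ofπ π wπ))

/-- the map from the pushout to the cokernel -/
noncomputable def ρ : pushout gb b ⟶ O' :=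
  pushout.desc 0 π (by rw [comp_zero, wπ])

@[reassoc (attr := simp)]
lemma inl_ρ : pushout.inl gb b ≫ ρ gb b π wπ = 0 := pushout.inl_desc _ _ _

@[reassoc (attr := simp)]
lemma inr_ρ : pushout.inr gb b ≫ ρ gb b π wπ = π := pushout.inr_desc _ _ _

include hπ in
lemma epi_π : Epi π := epi_of_isColimit_cofork hπ

/-- `ρ` is a cokernel of `pushout.inl` -/
noncomputable def isColimitρ :
    IsColimit (CokernelCofork.ofπ (ρ gb b π wπ) (inl_ρ gb b π wπ)) :=
  CokernelCofork.IsColimit.ofπ _ _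
    (fun {T} h hh => hπ.desc (CokernelCofork.ofπ (pushout.inr gb b ≫ h) (by
      rw [← pushout.condition_assoc, hh, comp_zero])))
    (fun {T} h hh => by
      have e : π ≫ hπ.desc (CokernelCofork.ofπ (pushout.inr gb b ≫ h) (by
        rw [← pushout.condition_assoc, hh, comp_zero])) = pushout.inr gb b ≫ h :=
        hπ.fac _ WalkingParallelPair.one
      apply pushout.hom_ext
      · rw [inl_ρ_assoc, zero_comp, hh]
      · rw [inr_ρ_assoc, e])
    (fun {T} h hh m hm => by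
      have : Epi π := epi_π b π wπ hπ
      have e : π ≫ hπ.desc (CokernelCofork.ofπ (pushout.inr gb b ≫ h) (by
        rw [← pushout.condition_assoc, hh, comp_zero])) = pushout.inr gb b ≫ h :=
        hπ.fac _ WalkingParallelPair.one
      rw [← cancel_epi π, e, ← hm, inr_ρ_assoc])

end Pushout

theorem nonempty_stepOut {K' K'' : ObjectProperty A} (hK : Hyp K' K'')
    {O Xn O' H H' C : A} (ιH : H ⟶ O) (t : O ⟶ Xn) (π : Xn ⟶ O') (ιH' : H' ⟶ O') (g : O ⟶ C)
    (wt : ιH ≫ t = 0) (hH : IsLimit (KernelFork.ofι ιH wt))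
    (wπ : t ≫ π = 0) (hπ : IsColimit (CokernelCofork.ofπ π wπ))
    [Mono ιH'] (kH : K' H) (kH' : K' H') (kC : K' C) [Mono (ιH ≫ g)] :
    Nonempty (StepOut K' K'' ιH t π ιH' g) := by
  let q : C ⟶ cokernel (ιH ≫ g) := cokernel.π _
  have kN : K' (cokernel (ιH ≫ g)) := hK.h2 _ kH kC inferInstance
  have hk : kernel.ι t ≫ g ≫ q = 0 := by
    obtain ⟨l, hl⟩ := KernelFork.IsLimit.lift' hH (kernel.ι t) (kernel.condition t)
    change l ≫ ιH = _ at hl
    rw [← hl, Category.assoc, ← Category.assoc ιH, cokernel.condition, comp_zero]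
  let gb : Abelian.coimage t ⟶ cokernel (ιH ≫ g) := cokernel.desc (kernel.ι t) (g ≫ q) hk
  let b : Abelian.coimage t ⟶ Xn := Abelian.factorThruCoimage t
  have hgb : Abelian.coimage.π t ≫ gb = g ≫ q := cokernel.π_desc _ _ _
  have hb : Abelian.coimage.π t ≫ b = t := Abelian.coimage.fac t
  have wb : b ≫ π = 0 := by
    rw [← cancel_epi (Abelian.coimage.π t), ← Category.assoc, hb, wπ, comp_zero]
  have hπb : IsColimit (CokernelCofork.ofπ π wb) :=
    isCokernelOfComp (Abelian.coimage.π t) t hπ wb hb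
  -- the pushout
  let n : cokernel (ιH ≫ g) ⟶ pushout gb b := pushout.inl gb b
  let r : Xn ⟶ pushout gb b := pushout.inr gb b
  have hn : Mono n := inferInstance
  have hcond : gb ≫ n = b ≫ r := pushout.condition
  -- the two embeddings
  obtain ⟨B₁, v₁, kB₁, hv₁⟩ := hK.h1 n kN hn
  obtain ⟨B₂, v₂, kB₂, hv₂⟩ := hK.h1 ιH' kH' inferInstance
  let v : pushout gb b ⟶ B₁ ⊞ B₂ := biprod.lift v₁ (ρ gb b π wb ≫ v₂)
  let m : cokernel (ιH ≫ g) ⟶ B₁ ⊞ B₂ := n ≫ v
  have hm1 : m ≫ biprod.fst = n ≫ v₁ := by simp [m, v]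
  have hm2 : m ≫ biprod.snd = 0 := by
    simp only [m, v, Category.assoc, biprod.lift_snd]
    rw [← Category.assoc, inl_ρ, zero_comp]
  have hmono : Mono m := by
    have : Mono (m ≫ biprod.fst) := by rw [hm1]; exact hv₁
    exact mono_of_mono m biprod.fst
  have hρcok := isColimitρ gb b π wb hπb
  -- g'
  have hvp : n ≫ v ≫ cokernel.π m = 0 := by
    rw [← Category.assoc]
    exact cokernel.condition m
  let g' : O' ⟶ cokernel m := hρcok.desc (CokernelCofork.ofπ (v ≫ cokernel.π m) hvp)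
  have hg' : ρ gb b π wb ≫ g' = v ≫ cokernel.π m := hρcok.fac _ WalkingParallelPair.one
  have hρepi : Epi (ρ gb b π wb) := epi_of_isColimit_cofork hρcok
  -- kernel of c
  have hq : IsLimit (KernelFork.ofι (ιH ≫ g) (cokernel.condition (ιH ≫ g))) :=
    Abelian.monoIsKernelOfCokernel (CokernelCofork.ofπ (cokernel.π (ιH ≫ g))
      (cokernel.condition _)) (cokernelIsCokernel (ιH ≫ g))
  have hc : q ≫ n ≫ v = q ≫ m := rfl
  refine ⟨{
    I' := B₁ ⊞ B₂
    C' := cokernel m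
    c := q ≫ m
    p' := cokernel.π m
    f' := r ≫ v
    g' := g'
    hI' := hK.h3 kB₁ kB₂
    hC' := hK.h2 m kN (hK.sub (hK.h3 kB₁ kB₂)) hmono
    comm₁ := by
      dsimp only [m]
      rw [← reassoc_of% hgb, reassoc_of% hcond, reassoc_of% hb]
    comm₂ := by
      rw [Category.assoc, ← hg', inr_ρ_assoc]
    w₁ := by
      have : (ιH ≫ g) ≫ q = 0 := cokernel.condition _
      rw [← Category.assoc, this, zero_comp]
    isLimit := isKernelCompMono hq m rfl
    w₂ := by rw [Category.assoc, cokernel.condition, comp_zero]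
    isColimit := isCokernelEpiComp (cokernelIsCokernel m) q rfl
    mono := ?_ }⟩
  let s : cokernel m ⟶ B₂ := cokernel.desc m biprod.snd hm2
  have hs : g' ≫ s = v₂ := by
    rw [← cancel_epi (ρ gb b π wb), reassoc_of% hg', cokernel.π_desc]
    simp [v]
  have : Mono ((ιH' ≫ g') ≫ s) := by
    rw [Category.assoc, hs]
    exact hv₂
  exact mono_of_mono (ιH' ≫ g') s

end Groth.Agent.H2.ClassRes
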