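import Mathlib
import Groth.Agent.Lib.Helper2.ClassRes1

/-!
# Resolutions of `ℕ`-indexed cochain complexes by a class of objects
-/

universe v u

open CategoryTheory CategoryTheory.Limits

namespace Groth.Agent.H2.ClassRes

variable {A : Type u} [Category.{v} A] [Abelian A]

/-- constructor for right homology data with a given `g'` -/
noncomputable def mkRHD (S : ShortComplex A) {Q H : A} (p : S.X₂ ⟶ Q) (ι : H ⟶ Q)
    (g' : Q ⟶ S.X₃) (wp : S.f ≫ p = 0) (hp : IsColimit (CokernelCofork.ofπ p wp))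
    (hg' : p ≫ g' = S.g) (wι : ι ≫ g' = 0) (hι : IsLimit (KernelFork.ofι ι wι)) :
    S.RightHomologyData where
  Q := Q
  H := H
  p := p
  ι := ι
  wp := wp
  hp := hp
  wι := by
    have e : g' = hp.desc (CokernelCofork.ofπ _ S.zero) := by
      apply Cofork.IsColimit.hom_ext hp
      rw [Cofork.IsColimit.π_desc]
      exact hg'
    rw [← e, wι]
  hι := by
    have e : g' = hp.desc (CokernelCofork.ofπ _ S.zero) := by
      apply Cofork.IsColimit.hom_ext hp
      rw [Cofork.IsColimit.π_desc]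
      exact hg'
    subst e
    exact hι

lemma mkRHD_g' (S : ShortComplex A) {Q H : A} (p : S.X₂ ⟶ Q) (ι : H ⟶ Q)
    (g' : Q ⟶ S.X₃) (wp : S.f ≫ p = 0) (hp : IsColimit (CokernelCofork.ofπ p wp))
    (hg' : p ≫ g' = S.g) (wι : ι ≫ g' = 0) (hι : IsLimit (KernelFork.ofι ι wι)) :
    (mkRHD S p ι g' wp hp hg' wι hι).g' = g' := by
  apply Cofork.IsColimit.hom_ext hp
  have := (mkRHD S p ι g' wp hp hg' wι hι).p_g'
  change p ≫ _ = _ at this
  rw [Cofork.π_ofπ, this, hg']

variable (K' K'' : ObjectProperty A) (Y : CochainComplex A ℕ)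

/-- the state of the construction at degree `k` -/
structure St (k : ℕ) where
  I : A
  C : A
  p : I ⟶ C
  f : Y.X k ⟶ I
  g : Y.opcycles k ⟶ C
  hI : K'' I
  hC : K' C
  epi_p : Epi p
  fac : Y.pOpcycles k ≫ g = f ≫ p
  mono : Mono (Y.homologyι k ≫ g)

variable {K' K'' Y}
variable (hK : Hyp K' K'') (hY : ∀ k, K' (Y.homology k))

include hK hY in
lemma nonempty_stepOut' {k : ℕ} (s : St K' K'' Y k) :
    Nonempty (StepOut K' K'' (Y.homologyι k) (Y.fromOpcycles k (k + 1)) (Y.pOpcycles (k + 1))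
      (Y.homologyι (k + 1)) s.g) := by
  have wπ : Y.fromOpcycles k (k + 1) ≫ Y.pOpcycles (k + 1) = 0 := by
    rw [← cancel_epi (Y.pOpcycles k), Y.p_fromOpcycles_assoc, Y.d_pOpcycles, comp_zero]
  have hπ : IsColimit (CokernelCofork.ofπ (Y.pOpcycles (k + 1)) wπ) :=
    isCokernelOfComp (Y.pOpcycles k) (Y.d k (k + 1))
      (Y.opcyclesIsCokernel k (k + 1) (CochainComplex.prev_nat_succ k)) wπ
      (Y.p_fromOpcycles k (k + 1))
  have := s.mono
  exact nonempty_stepOut hK (Y.homologyι k) (Y.fromOpcycles k (k + 1)) (Y.pOpcycles (k + 1))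
    (Y.homologyι (k + 1)) s.g (Y.homologyι_comp_fromOpcycles k (k + 1))
    (Y.homologyIsKernel k (k + 1) (CochainComplex.next ℕ k)) wπ hπ (hY k) (hY (k + 1)) s.hC

/-- the chosen output of the step -/
noncomputable def stepOut {k : ℕ} (s : St K' K'' Y k) :
    StepOut K' K'' (Y.homologyι k) (Y.fromOpcycles k (k + 1)) (Y.pOpcycles (k + 1))
      (Y.homologyι (k + 1)) s.g :=
  (nonempty_stepOut' hK hY s).some

/-- the next state -/
noncomputable def next {k : ℕ} (s : St K' K'' Y k) : St K' K'' Y (k + 1) where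
  I := (stepOut hK hY s).I'
  C := (stepOut hK hY s).C'
  p := (stepOut hK hY s).p'
  f := (stepOut hK hY s).f'
  g := (stepOut hK hY s).g'
  hI := (stepOut hK hY s).hI'
  hC := (stepOut hK hY s).hC'
  epi_p := epi_of_isColimit_cofork (stepOut hK hY s).isColimit
  fac := (stepOut hK hY s).comm₂
  mono := (stepOut hK hY s).mono

include hK hY in
lemma exists_base : ∃ (B : A) (v : Y.opcycles 0 ⟶ B), K'' B ∧ Mono (Y.homologyι 0 ≫ v) :=
  hK.h1 (Y.homologyι 0) (hY 0) inferInstance

/-- the initial state -/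
noncomputable def base : St K' K'' Y 0 where
  I := (exists_base hK hY).choose
  C := (exists_base hK hY).choose
  p := 𝟙 _
  f := Y.pOpcycles 0 ≫ (exists_base hK hY).choose_spec.choose
  g := (exists_base hK hY).choose_spec.choose
  hI := (exists_base hK hY).choose_spec.choose_spec.1
  hC := hK.sub (exists_base hK hY).choose_spec.choose_spec.1
  epi_p := inferInstance
  fac := by rw [Category.comp_id]
  mono := (exists_base hK hY).choose_spec.choose_spec.2

/-- the sequence of states -/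
noncomputable def seq : (k : ℕ) → St K' K'' Y k
  | 0 => base hK hY
  | k + 1 => next hK hY (seq k)

lemma isIso_seq_zero_p : IsIso (seq hK hY 0).p := by
  change IsIso (𝟙 _)
  infer_instance

/-- the map `C_k ⟶ I_{k+1}` -/
noncomputable def cI (k : ℕ) : (seq hK hY k).C ⟶ (seq hK hY (k + 1)).I :=
  (stepOut hK hY (seq hK hY k)).c

lemma cI_p (k : ℕ) : cI hK hY k ≫ (seq hK hY (k + 1)).p = 0 :=
  (stepOut hK hY (seq hK hY k)).w₂

lemma g_cI (k : ℕ) : (seq hK hY k).g ≫ cI hK hY k =
    Y.fromOpcycles k (k + 1) ≫ (seq hK hY (k + 1)).f :=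
  (stepOut hK hY (seq hK hY k)).comm₁

lemma ι_g_cI (k : ℕ) : (Y.homologyι k ≫ (seq hK hY k).g) ≫ cI hK hY k = 0 :=
  (stepOut hK hY (seq hK hY k)).w₁

/-- `H^k(Y)` is the kernel of `cI k` -/
noncomputable def isLimitCI (k : ℕ) :
    IsLimit (KernelFork.ofι (Y.homologyι k ≫ (seq hK hY k).g) (ι_g_cI hK hY k)) :=
  (stepOut hK hY (seq hK hY k)).isLimit

/-- `p_{k+1}` is the cokernel of `cI k` -/
noncomputable def isColimitCI (k : ℕ) :
    IsColimit (CokernelCofork.ofπ (seq hK hY (k + 1)).p (cI_p hK hY k)) :=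
  (stepOut hK hY (seq hK hY k)).isColimit

/-- the differential of the resolution -/
noncomputable def dI (k : ℕ) : (seq hK hY k).I ⟶ (seq hK hY (k + 1)).I :=
  (seq hK hY k).p ≫ cI hK hY k

lemma dI_comp (k : ℕ) : dI hK hY k ≫ dI hK hY (k + 1) = 0 := by
  dsimp only [dI]
  rw [Category.assoc, reassoc_of% (cI_p hK hY k), zero_comp, comp_zero]

/-- the resolution -/
noncomputable def res : CochainComplex A ℕ :=
  CochainComplex.of (fun k => (seq hK hY k).I) (dI hK hY) (dI_comp hK hY)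

lemma res_d (k : ℕ) : (res hK hY).d k (k + 1) = dI hK hY k := by
  dsimp only [res, CochainComplex.of]
  exact CochainComplex.of_d _ _ _

lemma seq_f_comm (k : ℕ) :
    (seq hK hY k).f ≫ dI hK hY k = Y.d k (k + 1) ≫ (seq hK hY (k + 1)).f := by
  dsimp only [dI]
  rw [← reassoc_of% (seq hK hY k).fac, g_cI, Y.p_fromOpcycles_assoc]

/-- the map to the resolution -/
noncomputable def toRes : Y ⟶ res hK hY where
  f k := (seq hK hY k).f
  comm' i j hij := by
    obtain rfl : i + 1 = j := hij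
    rw [res_d]
    exact seq_f_comm hK hY i

/-- `p_k` with source `(res).X k` -/
noncomputable def pR (k : ℕ) : (res hK hY).X k ⟶ (seq hK hY k).C := (seq hK hY k).p

/-- `c_k` with target `(res).X (k + 1)` -/
noncomputable def cR (k : ℕ) : (seq hK hY k).C ⟶ (res hK hY).X (k + 1) := cI hK hY k

lemma res_d' (k : ℕ) : (res hK hY).d k (k + 1) = pR hK hY k ≫ cR hK hY k := res_d hK hY k

lemma cR_pR (k : ℕ) : cR hK hY k ≫ pR hK hY (k + 1) = 0 := cI_p hK hY k

lemma toRes_f_pR (k : ℕ) :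
    Y.pOpcycles k ≫ (seq hK hY k).g = (toRes hK hY).f k ≫ pR hK hY k := (seq hK hY k).fac

lemma g_cR (k : ℕ) : (seq hK hY k).g ≫ cR hK hY k =
    Y.fromOpcycles k (k + 1) ≫ (toRes hK hY).f (k + 1) := g_cI hK hY k

lemma ι_g_cR (k : ℕ) : (Y.homologyι k ≫ (seq hK hY k).g) ≫ cR hK hY k = 0 := ι_g_cI hK hY k

/-- `H^k(Y)` is the kernel of `cR k` -/
noncomputable def isLimitCR (k : ℕ) :
    IsLimit (KernelFork.ofι (Y.homologyι k ≫ (seq hK hY k).g) (ι_g_cR hK hY k)) :=
  isLimitCI hK hY k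

/-- `pR (k + 1)` is the cokernel of `cR k` -/
noncomputable def isColimitCR (k : ℕ) :
    IsColimit (CokernelCofork.ofπ (pR hK hY (k + 1)) (cR_pR hK hY k)) :=
  isColimitCI hK hY k

instance (k : ℕ) : Epi (pR hK hY k) := (seq hK hY k).epi_p

instance : IsIso (pR hK hY 0) := isIso_seq_zero_p hK hY

/-- an isomorphism is a cokernel of a zero map -/
noncomputable def isColimitOfIsIso {X Y Q : A} (f : X ⟶ Y) (hf : f = 0) (p : Y ⟶ Q)
    (hp : IsIso p) :
    IsColimit (CokernelCofork.ofπ p (show f ≫ p = 0 by rw [hf, zero_comp])) :=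
  CokernelCofork.IsColimit.ofπ _ _ (fun h _ => inv p ≫ h) (fun h _ => by simp)
    (fun h _ m hm => by rw [← hm]; simp)

/-- the right homology data of `Y` -/
noncomputable def rhdY (i j k : ℕ) (hi : (ComplexShape.up ℕ).prev j = i)
    (hk : (ComplexShape.up ℕ).next j = k) : (Y.sc' i j k).RightHomologyData :=
  mkRHD (Y.sc' i j k) (Y.pOpcycles j) (Y.homologyι j) (Y.fromOpcycles j k)
    (Y.d_pOpcycles i j) (Y.opcyclesIsCokernel i j hi) (Y.p_fromOpcycles j k)
    (Y.homologyι_comp_fromOpcycles j k) (Y.homologyIsKernel j k hk)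

lemma quasiIsoAt_zero : QuasiIsoAt (toRes hK hY) 0 := by
  rw [quasiIsoAt_iff' _ 0 0 1 CochainComplex.prev_nat_zero (CochainComplex.next ℕ 0)]
  have hf : ((res hK hY).sc' 0 0 1).f = 0 := by
    change (res hK hY).d 0 0 = 0
    exact (res hK hY).shape 0 0 (by simp)
  let h₂ : ((res hK hY).sc' 0 0 1).RightHomologyData :=
    mkRHD _ (pR hK hY 0) (Y.homologyι 0 ≫ (seq hK hY 0).g) (cR hK hY 0)
      (by rw [hf, zero_comp]) (isColimitOfIsIso _ hf _ (isIso_seq_zero_p hK hY)) (res_d' hK hY 0).symm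
      (ι_g_cR hK hY 0) (isLimitCR hK hY 0)
  let γ : ShortComplex.RightHomologyMapData
      ((HomologicalComplex.shortComplexFunctor' A (ComplexShape.up ℕ) 0 0 1).map (toRes hK hY))
      (rhdY 0 0 1 CochainComplex.prev_nat_zero (CochainComplex.next ℕ 0)) h₂ :=
    { φQ := (seq hK hY 0).g
      φH := 𝟙 _
      commp := toRes_f_pR hK hY 0
      commg' := by
        dsimp only [h₂, rhdY]
        rw [mkRHD_g', mkRHD_g']
        exact g_cR hK hY 0
      commι := by
        dsimp only [h₂, rhdY, mkRHD]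
        rw [Category.id_comp] }
  rw [γ.quasiIso_iff]
  change IsIso (𝟙 _)
  infer_instance

lemma quasiIsoAt_succ (j : ℕ) : QuasiIsoAt (toRes hK hY) (j + 1) := by
  rw [quasiIsoAt_iff' _ j (j + 1) (j + 1 + 1) (CochainComplex.prev_nat_succ j)
    (CochainComplex.next ℕ (j + 1))]
  let h₂ : ((res hK hY).sc' j (j + 1) (j + 1 + 1)).RightHomologyData :=
    mkRHD _ (pR hK hY (j + 1)) (Y.homologyι (j + 1) ≫ (seq hK hY (j + 1)).g)
      (cR hK hY (j + 1))
      (by
        change (res hK hY).d j (j + 1) ≫ _ = 0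
        rw [res_d', Category.assoc, cR_pR, comp_zero])
      (isCokernelEpiComp (isColimitCR hK hY j) (pR hK hY j) (res_d' hK hY j))
      (res_d' hK hY (j + 1)).symm
      (ι_g_cR hK hY (j + 1)) (isLimitCR hK hY (j + 1))
  let γ : ShortComplex.RightHomologyMapData
      ((HomologicalComplex.shortComplexFunctor' A (ComplexShape.up ℕ) j (j + 1) (j + 1 + 1)).map
        (toRes hK hY))
      (rhdY j (j + 1) (j + 1 + 1) (CochainComplex.prev_nat_succ j)
        (CochainComplex.next ℕ (j + 1))) h₂ :=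
    { φQ := (seq hK hY (j + 1)).g
      φH := 𝟙 _
      commp := toRes_f_pR hK hY (j + 1)
      commg' := by
        dsimp only [h₂, rhdY]
        rw [mkRHD_g', mkRHD_g']
        exact g_cR hK hY (j + 1)
      commι := by
        dsimp only [h₂, rhdY, mkRHD]
        rw [Category.id_comp] }
  rw [γ.quasiIso_iff]
  change IsIso (𝟙 _)
  infer_instance

instance : QuasiIso (toRes hK hY) where
  quasiIsoAt k := by
    cases k with
    | zero => exact quasiIsoAt_zero hK hY
    | succ j => exact quasiIsoAt_succ hK hY j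

lemma res_X_mem (k : ℕ) : K'' ((res hK hY).X k) := (seq hK hY k).hI

/-- the resolution theorem for `ℕ`-indexed cochain complexes -/
theorem exists_res_nat {K' K'' : ObjectProperty A} (hK : Hyp K' K'') (Y : CochainComplex A ℕ)
    (hY : ∀ k, K' (Y.homology k)) :
    ∃ (I : CochainComplex A ℕ) (f : Y ⟶ I), (∀ k, K'' (I.X k)) ∧ QuasiIso f :=
  ⟨res hK hY, toRes hK hY, res_X_mem hK hY, inferInstance⟩

end Groth.Agent.H2.ClassRes
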