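import Mathlib
import Groth.Agent.Lib.Helper2.ClassRes2

/-!
# Resolutions of `ℤ`-indexed cochain complexes by a class of objects
-/

universe v u

open CategoryTheory CategoryTheory.Limits

namespace Groth.Agent.H2.ClassRes

variable {A : Type u} [Category.{v} A] [Abelian A]

theorem exists_res_int {K' K'' : ObjectProperty A} (hK : Hyp K' K'') (X : CochainComplex A ℤ)
    (a : ℤ) (hX : ∀ i, K' (X.homology i)) [X.IsGE a] :
    ∃ (I : CochainComplex A ℤ) (f : X ⟶ I), I.IsStrictlyGE a ∧ (∀ i, a ≤ i → K'' (I.X i)) ∧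
      QuasiIso f := by
  let e := ComplexShape.embeddingUpIntGE a
  let Y : CochainComplex A ℕ := X.truncGE' e
  have hY : ∀ k, K' (Y.homology k) := by
    intro k
    have e1 : (Y.extend e).homology (e.f k) ≅ Y.homology k := Y.extendHomologyIso e rfl
    have e2 : X.homology (e.f k) ≅ (HomologicalComplex.truncGE X e).homology (e.f k) :=
      isoOfQuasiIsoAt (HomologicalComplex.πTruncGE X e) (e.f k)
    exact hK.isoK' (e2 ≪≫ e1) (hX _)
  obtain ⟨I₀, f₀, hI₀, hf₀⟩ := exists_res_nat hK Y hY
  have hq : QuasiIso (HomologicalComplex.πTruncGE X e) :=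
    (X.quasiIso_πTruncGE_iff a).2 inferInstance
  let g : HomologicalComplex.truncGE X e ⟶ I₀.extend e := HomologicalComplex.extendMap f₀ e
  have hg : QuasiIso g := (HomologicalComplex.quasiIso_extendMap_iff f₀ e).2 hf₀
  refine ⟨I₀.extend e, HomologicalComplex.πTruncGE X e ≫ g, ?_, ?_, ?_⟩
  · change (I₀.extend e).IsStrictlySupported e
    infer_instance
  · intro i hi
    obtain ⟨k, rfl⟩ := Int.le.dest hi
    exact hK.isoK'' (I₀.extendXIso e (i := k) rfl).symm (hI₀ k)
  · exact quasiIso_comp _ _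

end Groth.Agent.H2.ClassRes
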