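import Mathlib
import Groth.Agent.Lib.Helper2.AssSch1
import Groth.Agent.Lib.Helper9.Misc.HeightOne

/-!
# Closed points of locally Noetherian schemes (helper2)

Every point of a locally Noetherian scheme specializes to a closed point.
-/

set_option autoImplicit false
set_option linter.style.haveILetI false
universe u
open CategoryTheory Limits AlgebraicGeometry TopologicalSpace Opposite

namespace Groth.Agent.H2.ClosedPt

open Groth.Agent.LD.QC

/-- ring-level core: if `q` is the only prime above `q` not containing `f`, then there are no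
chains `q < q₁ < q₂` of primes -/
theorem eq_of_lt_of_le {B : Type*} [CommRing B] [IsNoetherianRing B] (q : Ideal B) [q.IsPrime]
    (f : B) (hf : f ∉ q)
    (h : ∀ q' : Ideal B, q'.IsPrime → q ≤ q' → f ∉ q' → q' = q)
    (q₁ q₂ : Ideal B) [q₁.IsPrime] [q₂.IsPrime] (h1 : q < q₁) (h2 : q₁ ≤ q₂) : q₁ = q₂ := by
  let π := Ideal.Quotient.mk q
  have hπ : Function.Surjective π := Ideal.Quotient.mk_surjective
  have hker : RingHom.ker π = q := Ideal.mk_ker
  have hfb : π f ≠ 0 := by rwa [Ne, Ideal.Quotient.eq_zero_iff_mem]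
  have hall : ∀ Q : Ideal (B ⧸ q), Q.IsPrime → Q ≠ ⊥ → π f ∈ Q := by
    intro Q hQ hQ0
    by_contra hfQ
    have hq' : (Q.comap π).IsPrime := Ideal.comap_isPrime π Q
    have hle : q ≤ Q.comap π := by
      intro b hb
      rw [Ideal.mem_comap]
      have : π b = 0 := Ideal.Quotient.eq_zero_iff_mem.mpr hb
      rw [this]
      exact Q.zero_mem
    have heq := h (Q.comap π) hq' hle (fun hm => hfQ (Ideal.mem_comap.mp hm))
    apply hQ0
    rw [eq_bot_iff]
    intro z hz
    obtain ⟨b, rfl⟩ := hπ z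
    have hb : b ∈ Q.comap π := hz
    rw [heq] at hb
    rw [Ideal.mem_bot]
    exact Ideal.Quotient.eq_zero_iff_mem.mpr hb
  have hk1 : RingHom.ker π ≤ q₁ := by rw [hker]; exact h1.le
  have hk2 : RingHom.ker π ≤ q₂ := by rw [hker]; exact h1.le.trans h2
  haveI hP1 : (q₁.map π).IsPrime := Ideal.map_isPrime_of_surjective hπ hk1
  haveI hP2 : (q₂.map π).IsPrime := Ideal.map_isPrime_of_surjective hπ hk2
  have hc1 : (q₁.map π).comap π = q₁ := by
    rw [Ideal.comap_map_of_surjective π hπ, ← RingHom.ker_eq_comap_bot, sup_eq_left.mpr hk1]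
  have hc2 : (q₂.map π).comap π = q₂ := by
    rw [Ideal.comap_map_of_surjective π hπ, ← RingHom.ker_eq_comap_bot, sup_eq_left.mpr hk2]
  have hP1ne : q₁.map π ≠ ⊥ := by
    intro h0
    have : q₁ = q := by
      rw [← hc1, h0, ← RingHom.ker_eq_comap_bot, hker]
    exact h1.ne this.symm
  have hmax := Groth.Agent.H9.HeightOne.isMaximal_of_forall_mem hfb hall (q₁.map π) hP1ne
  have heq : q₁.map π = q₂.map π :=
    hmax.eq_of_le hP2.ne_top (Ideal.map_mono h2)
  rw [← hc1, heq, hc2]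

variable {X : Scheme.{u}}

lemma mem_basicOpen_of_notMem {U : X.Opens} (hU : IsAffineOpen U) (x : X) (hx : x ∈ U)
    (f : Γ(X, U)) (hf : f ∉ (hU.primeIdealOf ⟨x, hx⟩).asIdeal) : x ∈ X.basicOpen f := by
  letI : Algebra Γ(X, U) (X.presheaf.stalk x) :=
    TopCat.Presheaf.algebra_section_stalk X.presheaf ⟨x, hx⟩
  haveI := hU.isLocalization_stalk ⟨x, hx⟩
  rw [X.mem_basicOpen f x hx]
  exact (IsLocalization.AtPrime.isUnit_to_map_iff (X.presheaf.stalk x)
    (hU.primeIdealOf ⟨x, hx⟩).asIdeal f).mpr hf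

lemma exists_primeIdealOf_eq {U : X.Opens} (hU : IsAffineOpen U) (p : PrimeSpectrum Γ(X, U)) :
    ∃ (w : X) (hw : w ∈ U), hU.primeIdealOf ⟨w, hw⟩ = p := by
  refine ⟨(hU.isoSpec.inv p).1, (hU.isoSpec.inv p).2, ?_⟩
  change hU.isoSpec.hom (hU.isoSpec.inv p) = p
  rw [← Scheme.Hom.comp_apply, Iso.inv_hom_id]
  rfl

lemma eq_of_primeIdealOf_eq {U : X.Opens} (hU : IsAffineOpen U) (x y : X) (hx : x ∈ U)
    (hy : y ∈ U) (h : hU.primeIdealOf ⟨x, hx⟩ = hU.primeIdealOf ⟨y, hy⟩) : x = y := by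
  have h1 := hU.fromSpec_primeIdealOf ⟨x, hx⟩
  have h2 := hU.fromSpec_primeIdealOf ⟨y, hy⟩
  rw [h] at h1
  exact h1.symm.trans h2

/-- a point of an affine open specializes to a point which is closed in that affine open -/
theorem exists_specializes_closed_in {U : X.Opens} (hU : IsAffineOpen U) (x : X) (hx : x ∈ U) :
    ∃ (u : X) (_ : u ∈ U), x ⤳ u ∧ ∀ w ∈ U, u ⤳ w → w = u := by
  obtain ⟨m, hm, hle⟩ := Ideal.exists_le_maximal (hU.primeIdealOf ⟨x, hx⟩).asIdeal
    (hU.primeIdealOf ⟨x, hx⟩).isPrime.ne_top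
  obtain ⟨u, hu, hum⟩ := exists_primeIdealOf_eq hU ⟨m, hm.isPrime⟩
  refine ⟨u, hu, ?_, fun w hw huw => ?_⟩
  · apply Groth.Agent.H2.AssSch.specializes_of_primeIdealOf_le hU x u hx hu
    rw [hum]
    exact hle
  · have h1 := Groth.Agent.H2.AssSch.primeIdealOf_le_of_specializes hU w u hw hu huw
    rw [hum] at h1
    have h2 : m = (hU.primeIdealOf ⟨w, hw⟩).asIdeal :=
      hm.eq_of_le (hU.primeIdealOf ⟨w, hw⟩).isPrime.ne_top h1
    apply eq_of_primeIdealOf_eq hU w u hw hu
    rw [hum]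
    exact PrimeSpectrum.ext h2.symm

/-- a proper specialization of a point closed in an affine open is a closed point -/
theorem isClosed_of_specializes [IsLocallyNoetherian X] {U : X.Opens} (u : X) (huU : u ∈ U)
    (hclosed : ∀ w ∈ U, u ⤳ w → w = u) (y : X) (huy : u ⤳ y) (hne : y ≠ u) :
    IsClosed ({y} : Set X) := by
  rw [← closure_subset_iff_isClosed]
  intro z hz
  have hyz : y ⤳ z := specializes_iff_mem_closure.mpr hz
  rw [Set.mem_singleton_iff]
  obtain ⟨V, hV, hzV, -⟩ := exists_isAffineOpen_mem_and_subset (x := z) (U := ⊤) trivial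
  have hyV : y ∈ V := hyz.mem_open V.2 hzV
  have huV : u ∈ V := huy.mem_open V.2 hyV
  haveI : IsNoetherianRing Γ(X, V) := IsLocallyNoetherian.component_noetherian ⟨V, hV⟩
  obtain ⟨f, hfU, huf⟩ := hV.exists_basicOpen_le (V := U) ⟨u, huU⟩ huV
  have hfq : f ∉ (hV.primeIdealOf ⟨u, huV⟩).asIdeal :=
    mem_primeCompl_of_mem_basicOpen hV u huV f huf
  have hkey : ∀ q' : Ideal Γ(X, V), q'.IsPrime → (hV.primeIdealOf ⟨u, huV⟩).asIdeal ≤ q' →
      f ∉ q' → q' = (hV.primeIdealOf ⟨u, huV⟩).asIdeal := by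
    intro q' hq' hle hfq'
    obtain ⟨w, hw, hwq⟩ := exists_primeIdealOf_eq hV ⟨q', hq'⟩
    have huw : u ⤳ w := by
      apply Groth.Agent.H2.AssSch.specializes_of_primeIdealOf_le hV u w huV hw
      rw [hwq]
      exact hle
    have hwf : w ∈ X.basicOpen f := by
      apply mem_basicOpen_of_notMem hV w hw
      rw [hwq]
      exact hfq'
    have hwu : w = u := hclosed w (hfU hwf) huw
    subst hwu
    have := congrArg PrimeSpectrum.asIdeal hwq
    exact this.symm
  have h1 : (hV.primeIdealOf ⟨u, huV⟩).asIdeal < (hV.primeIdealOf ⟨y, hyV⟩).asIdeal := by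
    refine lt_of_le_of_ne
      (Groth.Agent.H2.AssSch.primeIdealOf_le_of_specializes hV y u hyV huV huy) ?_
    intro heq
    exact hne (eq_of_primeIdealOf_eq hV y u hyV huV (PrimeSpectrum.ext heq.symm))
  have h2 := Groth.Agent.H2.AssSch.primeIdealOf_le_of_specializes hV z y hzV hyV hyz
  have h3 := eq_of_lt_of_le (hV.primeIdealOf ⟨u, huV⟩).asIdeal f hfq hkey
    (hV.primeIdealOf ⟨y, hyV⟩).asIdeal (hV.primeIdealOf ⟨z, hzV⟩).asIdeal h1 h2
  exact eq_of_primeIdealOf_eq hV z y hzV hyV (PrimeSpectrum.ext h3.symm)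

/-- **every point of a locally Noetherian scheme specializes to a closed point** -/
theorem exists_isClosed_specializes (X : Scheme.{u}) [IsLocallyNoetherian X] (x : X) :
    ∃ y : X, x ⤳ y ∧ IsClosed ({y} : Set X) := by
  obtain ⟨U, hU, hxU, -⟩ := exists_isAffineOpen_mem_and_subset (x := x) (U := ⊤) trivial
  obtain ⟨u, huU, hxu, hclosed⟩ := exists_specializes_closed_in hU x hxU
  by_cases hu : IsClosed ({u} : Set X)
  · exact ⟨u, hxu, hu⟩
  · have : ∃ y, u ⤳ y ∧ y ≠ u := by
      by_contra hcon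
      push Not at hcon
      apply hu
      rw [← closure_subset_iff_isClosed]
      intro z hz
      exact hcon z (specializes_iff_mem_closure.mpr hz)
    obtain ⟨y, huy, hne⟩ := this
    exact ⟨y, hxu.trans huy, isClosed_of_specializes u huU hclosed y huy hne⟩

end Groth.Agent.H2.ClosedPt
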