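import Mathlib
universe u
open CategoryTheory CategoryTheory.Limits Opposite AlgebraicTopology Simplicial

namespace Groth.Agent.H2.CofaceHomotopy

variable {𝒞 : Type*} [Category 𝒞] {A : Type*} [Category A] [Preadditive A]
    {K L : SimplicialObject 𝒞} {a b : L ⟶ K}

/-- The cosimplicial object `Φ ∘ K`. -/
abbrev cosimp (K : SimplicialObject 𝒞) (Φ : 𝒞ᵒᵖ ⥤ A) : CosimplicialObject A :=
  Functor.rightOp K ⋙ Φ

/-- The map of cosimplicial objects induced by a map of simplicial objects. -/
abbrev cosimpMap (a : L ⟶ K) (Φ : 𝒞ᵒᵖ ⥤ A) : cosimp K Φ ⟶ cosimp L Φ :=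
  Functor.whiskerRight (NatTrans.rightOp a) Φ

lemma d_unop (K : SimplicialObject 𝒞) (Φ : 𝒞ᵒᵖ ⥤ A) (n : ℕ) :
    (((alternatingFaceMapComplex Aᵒᵖ).obj
      (((SimplicialObject.whiskering 𝒞 Aᵒᵖ).obj Φ.rightOp).obj K)).d (n + 1) n).unop =
    ((alternatingCofaceMapComplex A).obj (cosimp K Φ)).d n (n + 1) := by
  have hd : ((alternatingCofaceMapComplex A).obj (cosimp K Φ)).d n (n + 1) =
      AlternatingCofaceMapComplex.objD (cosimp K Φ) n := by
    change CochainComplex.of.d (fun n => (cosimp K Φ).obj ⦋n⦌)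
      (AlternatingCofaceMapComplex.objD (cosimp K Φ)) n (n + 1) = _
    exact CochainComplex.of_d _ _ n
  refine Eq.trans ?_ hd.symm
  simp only [alternatingFaceMapComplex_obj_d, AlternatingFaceMapComplex.objD,
    AlternatingCofaceMapComplex.objD, unop_sum, unop_zsmul]
  rfl

lemma f_unop (Φ : 𝒞ᵒᵖ ⥤ A) (a : L ⟶ K) (n : ℕ) :
    (((alternatingFaceMapComplex Aᵒᵖ).map
      (((SimplicialObject.whiskering 𝒞 Aᵒᵖ).obj Φ.rightOp).map a)).f n).unop =
    ((alternatingCofaceMapComplex A).map (cosimpMap a Φ)).f n := by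
  rfl

noncomputable def chainH (H : SimplicialObject.Homotopy a b) (Φ : 𝒞ᵒᵖ ⥤ A) :=
  (H.whiskerRight Φ.rightOp).toChainHomotopy

noncomputable def cofaceHomotopy (H : SimplicialObject.Homotopy a b) (Φ : 𝒞ᵒᵖ ⥤ A) :
    Homotopy ((alternatingCofaceMapComplex A).map (cosimpMap a Φ))
      ((alternatingCofaceMapComplex A).map (cosimpMap b Φ)) where
  hom i j := ((chainH H Φ).hom j i).unop
  zero i j hij := by
    have := (chainH H Φ).zero j i hij
    rw [this]
    rfl
  comm i := by
    cases i with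
    | zero =>
      have h0 := (chainH H Φ).comm 0
      rw [prevD_eq (j' := 1) (w := by simp), dNext_eq_zero _ _ (by simp), zero_add] at h0
      rw [dNext_eq (i' := 1) (w := by simp), prevD_eq_zero _ _ (by simp), add_zero]
      have h1 := congrArg Quiver.Hom.unop h0
      rw [unop_add, unop_comp, f_unop, f_unop, d_unop] at h1
      exact h1
    | succ n =>
      have h0 := (chainH H Φ).comm (n + 1)
      rw [dNext_eq (i' := n) (w := by simp), prevD_eq (j' := n + 2) (w := by simp)] at h0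
      rw [dNext_eq (i' := n + 2) (w := by simp), prevD_eq (j' := n) (w := by simp)]
      have h1 := congrArg Quiver.Hom.unop h0
      rw [unop_add, unop_add, unop_comp, unop_comp, f_unop, f_unop, d_unop, d_unop] at h1
      rw [h1, add_comm (((chainH H Φ).hom n (n + 1)).unop ≫ _)]
      rfl

end Groth.Agent.H2.CofaceHomotopy
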