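import Groth.Agent.Lib.Helper2.CohPushUC
import Groth.Agent.Lib.Helper6.DimLemmas
import Groth.Agent.S1763

/-!
# Finiteness of `H^1_I(M)` from chain conditions (helper2)
-/

set_option autoImplicit false
set_option linter.style.haveILetI false
set_option linter.unusedSectionVars false
universe u

namespace Groth.Agent.H2.CohPushChain

open Groth.Agent.H6 LocCoh

variable {A : Type u} [CommRing A]

/-- heights in `A/p` of primes containing the image of `I`, from heights in `Set.Ici p` -/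
theorem two_le_height_map (p : PrimeSpectrum A) (I : Ideal A) (n : ℕ∞)
    (h : ∀ (q : PrimeSpectrum A) (hpq : p ≤ q), I ≤ q.asIdeal →
      n ≤ Order.height (⟨q, hpq⟩ : Set.Ici p)) :
    n ≤ (I.map (Ideal.Quotient.mk p.asIdeal)).height := by
  rw [Ideal.height_eq_inf_minimalPrimes]
  refine le_iInf₂ fun Q hQ => ?_
  haveI hQp : Q.IsPrime := hQ.1.1
  let q : PrimeSpectrum A := ⟨Q.comap (Ideal.Quotient.mk p.asIdeal), Ideal.comap_isPrime _ _⟩
  have hpq : p ≤ q := by
    intro x hx
    change Ideal.Quotient.mk p.asIdeal x ∈ Q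
    rw [Ideal.Quotient.eq_zero_iff_mem.mpr hx]
    exact zero_mem _
  have hIq : I ≤ q.asIdeal := Ideal.map_le_iff_le_comap.mp hQ.1.2
  have h2 := h q hpq hIq
  let e := (Ideal.primeSpectrumQuotientOrderIsoZeroLocus p.asIdeal).trans
    (OrderIso.setCongr _ _ (Dim.zeroLocus_eq_Ici p))
  have h3 := Order.height_orderIso e (⟨Q, hQp⟩ : PrimeSpectrum (A ⧸ p.asIdeal))
  have h4 : e ⟨Q, hQp⟩ = ⟨q, hpq⟩ := rfl
  rw [h4] at h3
  rw [h3, ← PrimeSpectrum.height_eq_orderHeight] at h2
  exact h2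

variable [IsNoetherianRing A]

/-- `H^1_I(M)` is finite when all components `A/p` are universally catenary with finite
normalization and `V(I)` has codimension `≥ 2` in them -/
theorem finite_H1_of_chain (hU : CAlg.IsUniversallyCatenary A) (I : Ideal A)
    (M : Type u) [AddCommGroup M] [Module A M] [Module.Finite A M]
    (hint : ∀ p ∈ associatedPrimes A M, ∀ [p.IsPrime], ¬ I ≤ p →
      Module.Finite (A ⧸ p) (integralClosure (A ⧸ p) (FractionRing (A ⧸ p))))
    (h : ∀ (p q : PrimeSpectrum A) (hpq : p ≤ q), p.asIdeal ∈ associatedPrimes A M →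
      ¬ I ≤ p.asIdeal → I ≤ q.asIdeal → (2 : ℕ∞) ≤ Order.height (⟨q, hpq⟩ : Set.Ici p)) :
    Module.Finite A (H I 1 M) := by
  rw [Groth.Agent.S1763.result A I M]
  intro p hp hIp
  haveI hpp : p.IsPrime := hp.isPrime
  rw [← Groth.Agent.H2.CohPushH1.coh_quot_iff A I p, Groth.Agent.H2.CohPushH1.coh_iff_DT]
  have hUC : CAlg.IsUniversallyCatenary (A ⧸ p) :=
    Groth.Agent.H1.DimLoc.isUniversallyCatenary_of_surjective (Ideal.Quotient.mk p)
      Ideal.Quotient.mk_surjective hU
  refine Groth.Agent.H2.CohPushUC.finite_DT_of_two_le_height hUC (hint p hp hIp) _ ?_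
  exact two_le_height_map ⟨p, hpp⟩ I 2 fun q hpq hIq => h ⟨p, hpp⟩ q hpq hp hIp hIq

end Groth.Agent.H2.CohPushChain
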