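import Groth.Agent.Lib.Helper2.PFSecA

/-!
# Ideal transforms: left exactness and lifting along surjections (helper2)
-/

set_option autoImplicit false
set_option linter.style.haveILetI false
universe u
open CategoryTheory CategoryTheory.Abelian

namespace Groth.Agent.H2.PFSec

open Groth.Agent.H6 LocCoh

variable {R : Type u} [CommRing R] [IsNoetherianRing R] {I : Ideal R}
  {N₁ N₂ N₃ : Type u} [AddCommGroup N₁] [Module R N₁] [AddCommGroup N₂] [Module R N₂]
  [AddCommGroup N₃] [Module R N₃] (f : N₁ →ₗ[R] N₂) (g : N₂ →ₗ[R] N₃)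

theorem dmap_injective (hf : Function.Injective f) : Function.Injective (dmap I f) := by
  apply DT.map_injective f
  rw [LinearMap.ker_eq_bot.mpr hf]
  exact bot_le

/-- left exactness of the ideal transform. -/
theorem exists_dmap_eq_of_dmap_eq_zero (hf : Function.Injective f) (hex : Function.Exact f g)
    (x : DT I N₂) (hx : dmap I g x = 0) : ∃ x' : DT I N₁, dmap I f x' = x := by
  obtain ⟨n, φ, rfl⟩ := DT.ι_surj x
  rw [dmap, DT.map_ι, DT.ι_eq_zero_iff] at hx
  obtain ⟨k, hk, h0⟩ := hx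
  let φ' : ↥(I ^ k) →ₗ[R] N₂ := φ ∘ₗ Submodule.inclusion (Ideal.pow_le_pow_right hk)
  have hrange : ∀ c, φ' c ∈ LinearMap.range f := by
    intro c
    have h1 : g (φ' c) = 0 := LinearMap.congr_fun h0 c
    exact (hex _).mp h1
  let e := LinearEquiv.ofInjective f hf
  let ψ : ↥(I ^ k) →ₗ[R] N₁ := e.symm.toLinearMap ∘ₗ LinearMap.codRestrict (LinearMap.range f) φ' hrange
  have hψ : f ∘ₗ ψ = φ' := by
    ext c
    have h2 : (e (ψ c) : N₂) = f (ψ c) := rfl
    change f (ψ c) = φ' c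
    rw [← h2]
    change ((e (e.symm _) : LinearMap.range f) : N₂) = _
    rw [LinearEquiv.apply_symm_apply]
    rfl
  refine ⟨DT.ι I N₁ k ψ, ?_⟩
  rw [dmap, DT.map_ι, hψ]
  exact DT.ι_restrict hk φ

/-- an element of `D(N₃)` lifts to `D(N₂)` when its obstruction in `H²(N₁)` vanishes. -/
theorem exists_dmap_eq_of_δ_eq_zero {w : ModuleCat.ofHom f ≫ ModuleCat.ofHom g = 0}
    (hS : (ShortComplex.mk (ModuleCat.ofHom f) (ModuleCat.ofHom g) w).ShortExact)
    (hg : Function.Surjective g) (y : DT I N₃)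
    (h0 : LC.δ hS I 1 (LC.dtToH1 I N₃ y) = 0) : ∃ x : DT I N₂, dmap I g x = y := by
  obtain ⟨ξ', hξ'⟩ := LC.exact₃ hS _ h0
  obtain ⟨ξ, rfl⟩ := LC.dtToH1_surjective I N₂ ξ'
  have h1 : LC.dtToH1 I N₃ (y - dmap I g ξ) = 0 := by
    rw [map_sub, dtToH1_naturality, sub_eq_zero]
    exact hξ'.symm
  have h2 : y - dmap I g ξ ∈ LinearMap.range (toDT I N₃) := by
    rw [← LC.ker_dtToH1]
    exact h1
  obtain ⟨n₃, hn₃⟩ := h2
  obtain ⟨n₂, rfl⟩ := hg n₃
  refine ⟨ξ + toDT I N₂ n₂, ?_⟩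
  rw [map_add, dmap, DT.toDT_naturality, hn₃]
  abel

omit [IsNoetherianRing R] in
/-- annihilation of local cohomology of a quotient by a submodule killed by `a`. -/
theorem smul_H_eq_zero_of_ses {w : ModuleCat.ofHom f ≫ ModuleCat.ofHom g = 0}
    (hS : (ShortComplex.mk (ModuleCat.ofHom f) (ModuleCat.ofHom g) w).ShortExact)
    (a b : R) (i : ℕ) (ha : ∀ m : N₁, a • m = 0)
    (hb : ∀ x : LocCoh.H I i N₂, b • x = 0) (z : LocCoh.H I i N₃) : (b * a) • z = 0 := by
  have h1 : LC.δ hS I i (a • z) = 0 := by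
    rw [map_smul]
    exact LC.smul_eq_zero_of_smul_eq_zero (I := I) (i := i + 1) (M := ModuleCat.of R N₁) a ha _
  obtain ⟨y, hy⟩ := LC.exact₃ hS _ h1
  rw [mul_smul, ← hy, ← map_smul, hb, map_zero]

end Groth.Agent.H2.PFSec
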