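import Mathlib
import Groth.Prelude.Def_EtBase
import Groth.Prelude.Def_PBC
import Groth.Agent.Lib.Helper2.ColimA
import Groth.Agent.Lib.Helper7.GalCov2

set_option autoImplicit false
set_option linter.style.haveILetI false
set_option linter.unusedSectionVars false
set_option linter.unusedVariables false
universe u

open CategoryTheory CategoryTheory.Limits Opposite AlgebraicGeometry
open scoped ZeroObject

namespace Groth.Agent.H2.Colim

open Groth.Agent.H2.StalkLC Groth.Agent.H2.LCModel Groth.Agent.H2.PtSec Groth.Agent.H2.Gen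

variable {X : Scheme.{u}}

/-- Stalks of torsion sheaves are torsion. -/
lemma exists_nsmul_stalk_eq_zero (F : EtCoh.Ab X) (hF : EtCoh.IsTorsion F)
    {Ω : Type u} [Field Ω] [IsSepClosed Ω] (ξ : Spec (CommRingCat.of Ω) ⟶ X)
    (a : (EtCoh.stalk ξ).obj F) : ∃ n : ℕ, 0 < n ∧ n • a = 0 := by
  obtain ⟨U, t, z, rfl⟩ := exists_germ_eq (Scheme.pointSmallEtale ξ) F.obj a
  let y : Spec (CommRingCat.of Ω) ⟶ U.left := CommaMorphism.left t
  have h2 : y ≫ U.hom = ξ := Over.w t
  obtain ⟨V, g, ⟨v, hv⟩, hfin⟩ := hF U z (y default)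
  haveI : Etale g.left := Groth.Agent.H7.GalCov.etale_left g
  obtain ⟨l, hl, -⟩ := Scheme.exists_fac_of_etale_of_isSepClosed g.left y v hv
  have hlV : l ≫ V.hom = ξ := by
    have h1 : g.left ≫ U.hom = V.hom := MorphismProperty.Over.w g
    rw [← h1, ← Category.assoc, hl]
    exact h2
  let t' : (Scheme.pointSmallEtale ξ).fiber.obj V := Over.homMk l hlV
  have ht' : (Scheme.pointSmallEtale ξ).fiber.map g t' = t := by
    apply Over.OverMorphism.ext
    exact hl
  obtain ⟨n, hn, hn0⟩ := hfin.exists_nsmul_eq_zero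
  refine ⟨n, hn, ?_⟩
  have h1 : germ (Scheme.pointSmallEtale ξ) F.obj V t' ((F.obj.map g.op).hom z) =
      germ (Scheme.pointSmallEtale ξ) F.obj U t z := by
    rw [germ_map, ht']
  have h2 := (map_nsmul (germ (Scheme.pointSmallEtale ξ) F.obj V t') n
    ((F.obj.map g.op).hom z)).symm
  rw [hn0, map_zero, h1] at h2
  exact h2

variable [CompactSpace X] [QuasiSeparatedSpace X] (F : EtCoh.Ab X)

/-- The comparison morphism. -/
noncomputable def κ : colimit (D F) ⟶ F := colimit.desc (D F) (coconeF F)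

lemma ι_κ (j : Obj F) : colimit.ι (D F) j ≫ κ F = j.s := colimit.ι_desc _ _

lemma epi_κ (hF : EtCoh.IsTorsion F) : Epi (κ F) := by
  rw [Groth.Agent.H7.ST.ab_epi_iff]
  intro Ω _ _ ξ a
  obtain ⟨n, hn, ha⟩ := exists_nsmul_stalk_eq_zero F hF ξ a
  obtain ⟨U, hU, s, hs, b, hb⟩ := exists_gen_of_germ F n ξ a ha
  haveI := hU
  haveI : NeZero n := ⟨hn.ne'⟩
  obtain ⟨j, e, he⟩ := exists_obj (F := F) _ (Groth.Agent.H2.ExtConst.S0133_main U (ZMod n))
    (gen U F n s hs)
  refine ⟨(EtCoh.stalk ξ).map (e.hom ≫ colimit.ι (D F) j) b, ?_⟩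
  have h2 : (EtCoh.stalk ξ).map (e.hom ≫ colimit.ι (D F) j) ≫ (EtCoh.stalk ξ).map (κ F) =
      (EtCoh.stalk ξ).map (gen U F n s hs) := by
    rw [← Functor.map_comp, Category.assoc, ι_κ, he]
  exact ((ConcreteCategory.comp_apply _ _ _).symm.trans (ConcreteCategory.congr_hom h2 b)).trans hb

/-- A germ of an object of the diagram dying in `F` dies further along the diagram. -/
lemma exists_kill (j : Obj F) {Ω : Type u} [Field Ω] [IsSepClosed Ω]
    (ξ : Spec (CommRingCat.of Ω) ⟶ X) (b : (EtCoh.stalk ξ).obj j.p.sheaf)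
    (hb : (EtCoh.stalk ξ).map j.s b = 0) :
    ∃ (k : Obj F) (f : j ⟶ k), (EtCoh.stalk ξ).map f.h b = 0 := by
  have hGc := j.p.isConstructible
  obtain ⟨N, hN, hGk⟩ := exists_killedBy X j.p.sheaf hGc
  haveI : NeZero N := ⟨hN.ne'⟩
  have hKk : EtCoh.KilledBy N (kernel j.s) :=
    killedBy_of_kil (kil_of_mono (kernel.ι j.s) (kil_of_killedBy hGk))
  have hex : (ShortComplex.mk (kernel.ι j.s) j.s (kernel.condition j.s)).Exact :=
    ShortComplex.exact_of_f_is_kernel _ (kernelIsKernel j.s)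
  have hex' := (Groth.Agent.H7.ST.ab_exact_iff _).1 hex Ω ξ
  obtain ⟨b', hb'⟩ := (ShortComplex.ab_exact_iff _).1 hex' b hb
  obtain ⟨U, hU, s, hs, b'', hb''⟩ := exists_gen_of_germ (kernel j.s) N ξ b'
    (nsmul_stalk_eq_zero hKk ξ b')
  haveI := hU
  have hQc : EtPBC.IsConstructible (cokernel (gen U (kernel j.s) N s hs ≫ kernel.ι j.s)) :=
    (Groth.Agent.H2.Strata.S0131_main _ (Groth.Agent.H2.ExtConst.S0133_main U (ZMod N)) hGc).2
  have hz : (gen U (kernel j.s) N s hs ≫ kernel.ι j.s) ≫ j.s = 0 := by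
    rw [Category.assoc, kernel.condition, comp_zero]
  obtain ⟨k, e, he⟩ := exists_obj (F := F) _ hQc (cokernel.desc _ j.s hz)
  refine ⟨k, ⟨cokernel.π _ ≫ e.hom, by rw [Category.assoc, he, cokernel.π_desc]⟩, ?_⟩
  have h0 : (EtCoh.stalk ξ).map (gen U (kernel j.s) N s hs) ≫
      (EtCoh.stalk ξ).map (kernel.ι j.s) ≫
      (EtCoh.stalk ξ).map (cokernel.π (gen U (kernel j.s) N s hs ≫ kernel.ι j.s) ≫ e.hom) = 0 := by
    rw [← Functor.map_comp, ← Functor.map_comp, ← Category.assoc, cokernel.condition_assoc,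
      zero_comp, Functor.map_zero]
  have e1 := ConcreteCategory.congr_hom h0 b''
  rw [ConcreteCategory.comp_apply, ConcreteCategory.comp_apply] at e1
  have hb2 : ((EtCoh.stalk ξ).map (kernel.ι j.s))
      (((EtCoh.stalk ξ).map (gen U (kernel j.s) N s hs)) b'') = b := by
    rw [hb'']
    exact hb'
  rw [hb2] at e1
  exact e1

lemma mono_κ : Mono (κ F) := by
  rw [Groth.Agent.H7.ST.ab_mono_iff]
  intro Ω _ _ ξ
  refine (injective_iff_map_eq_zero ((EtCoh.stalk ξ).map (κ F)).hom).2 ?_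
  intro x hx
  have hcol : IsColimit ((EtCoh.stalk ξ).mapCocone (colimit.cocone (D F))) :=
    isColimitOfPreserves _ (colimit.isColimit _)
  obtain ⟨j, b, rfl⟩ := Concrete.isColimit_exists_rep (D F ⋙ EtCoh.stalk ξ) hcol x
  have hb : (EtCoh.stalk ξ).map j.s b = 0 := by
    have h1 : (EtCoh.stalk ξ).map (colimit.ι (D F) j) ≫ (EtCoh.stalk ξ).map (κ F) =
        (EtCoh.stalk ξ).map j.s := by
      rw [← Functor.map_comp, ι_κ]
    exact ((ConcreteCategory.congr_hom h1 b).symm.trans (ConcreteCategory.comp_apply _ _ _)).trans hx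
  obtain ⟨k, f, hf⟩ := exists_kill F j ξ b hb
  have hw : (EtCoh.stalk ξ).map ((D F).map f) ≫ (EtCoh.stalk ξ).map (colimit.ι (D F) k) =
      (EtCoh.stalk ξ).map (colimit.ι (D F) j) := by
    rw [← Functor.map_comp, colimit.w]
  have h3 := ConcreteCategory.congr_hom hw b
  rw [ConcreteCategory.comp_apply] at h3
  refine h3.symm.trans ?_
  have h4 : ((EtCoh.stalk ξ).map ((D F).map f)) b = 0 := hf
  rw [h4, map_zero]

theorem S0134_main (X : Scheme.{u}) [CompactSpace X] [QuasiSeparatedSpace X]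
    (F : EtCoh.Ab X) (hF : EtCoh.IsTorsion F) :
    ∃ (J : Type (u + 1)) (_ : SmallCategory J) (_ : IsFiltered J) (D : J ⥤ EtCoh.Ab X)
      (c : Cocone D) (_ : IsColimit c), (∀ j, EtPBC.IsConstructible (D.obj j)) ∧
        Nonempty (c.pt ≅ F) := by
  haveI := mono_κ F
  haveI := epi_κ F hF
  haveI : IsIso (κ F) := isIso_of_mono_of_epi _
  exact ⟨Obj F, inferInstance, inferInstance, D F, colimit.cocone (D F), colimit.isColimit _,
    fun j => j.p.isConstructible, ⟨asIso (κ F)⟩⟩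

end Groth.Agent.H2.Colim
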