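import Mathlib
import Groth.Prelude.Def_EtBase
import Groth.Prelude.Def_PBC
import Groth.Agent.Lib.Helper2.ColimB

set_option autoImplicit false
set_option linter.style.haveILetI false
set_option linter.unusedSectionVars false
set_option linter.unusedVariables false
universe u

open CategoryTheory CategoryTheory.Limits Opposite AlgebraicGeometry
open scoped ZeroObject

namespace Groth.Agent.H2.Colim

open Groth.Agent.H2.StalkLC Groth.Agent.H2.LCModel Groth.Agent.H2.PtSec Groth.Agent.H2.Gen

variable {X : Scheme.{u}}

/-- A retract of a constructible sheaf is constructible. -/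
theorem isConstructible_of_retract {F G : EtCoh.Ab X} (r : F ⟶ G) (s : G ⟶ F)
    (h : r ≫ s = 𝟙 F) (hG : EtPBC.IsConstructible G) : EtPBC.IsConstructible F := by
  have hK : EtPBC.IsConstructible (kernel (𝟙 G - s ≫ r)) :=
    (Groth.Agent.H2.Strata.S0131_main (𝟙 G - s ≫ r) hG hG).1
  have hr : r ≫ (𝟙 G - s ≫ r) = 0 := by
    rw [Preadditive.comp_sub, Category.comp_id, ← Category.assoc, h, Category.id_comp, sub_self]
  let e : F ≅ kernel (𝟙 G - s ≫ r) :=
    { hom := kernel.lift _ r hr
      inv := kernel.ι _ ≫ s
      hom_inv_id := by rw [← Category.assoc, kernel.lift_ι, h]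
      inv_hom_id := by
        rw [← cancel_mono (kernel.ι (𝟙 G - s ≫ r)), Category.assoc, Category.assoc, kernel.lift_ι,
          Category.id_comp]
        have h1 : kernel.ι (𝟙 G - s ≫ r) ≫ (𝟙 G - s ≫ r) = 0 := kernel.condition _
        rw [Preadditive.comp_sub, Category.comp_id, sub_eq_zero] at h1
        exact h1.symm }
  exact Groth.Agent.H2.SubFLC.isConstructible_of_iso e.symm hK

theorem S13501_main (X : Scheme.{u}) [CompactSpace X]
    [QuasiSeparatedSpace X] (F : EtCoh.Ab X) (hF : EtCoh.IsTorsion F)
    (hc : ∀ (J : Type (u + 1)) [SmallCategory J] [IsFiltered J],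
      PreservesColimitsOfShape J (coyoneda.obj (op F))) :
    EtPBC.IsConstructible F := by
  haveI := mono_κ F
  haveI := epi_κ F hF
  haveI : IsIso (κ F) := isIso_of_mono_of_epi _
  haveI := hc (Obj F)
  have hcol : IsColimit ((coyoneda.obj (op F)).mapCocone (colimit.cocone (D F))) :=
    isColimitOfPreserves _ (colimit.isColimit _)
  obtain ⟨j, r, hr⟩ := Types.jointly_surjective_of_isColimit hcol (inv (κ F))
  have hr' : r ≫ colimit.ι (D F) j = inv (κ F) := hr
  refine isConstructible_of_retract (G := j.p.sheaf) r j.s ?_ j.p.isConstructible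
  rw [← ι_κ F j, ← Category.assoc, hr', IsIso.inv_hom_id]

end Groth.Agent.H2.Colim
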