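import Mathlib
import Groth.Prelude.Def_EtBase
import Groth.Prelude.Def_PBC
import Groth.Agent.Lib.Helper2.ColimB
import Groth.Agent.Lib.Helper2.SpecClA
import Groth.Agent.Lib.Helper2.SubFLCE
import Groth.Agent.Lib.Helper2.StalkLCF

set_option autoImplicit false
set_option linter.style.haveILetI false
set_option linter.unusedSectionVars false
set_option linter.unusedVariables false
universe u

open CategoryTheory CategoryTheory.Limits Opposite AlgebraicGeometry
open scoped ZeroObject

namespace Groth.Agent.H2.Colim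

open Groth.Agent.H2.StalkLC Groth.Agent.H2.LCModel Groth.Agent.H2.PtSec Groth.Agent.H2.Gen

variable {X : Scheme.{u}}

/-- The support of a subsheaf is contained in the support of the sheaf. -/
lemma supp_subset_of_mono {I F : EtCoh.Ab X} (ι : I ⟶ F) [Mono ι] :
    EtPBC.supp I ⊆ EtPBC.supp F := by
  rintro x ⟨Ω, i1, i2, ξ, hξ, hnz⟩
  refine ⟨Ω, i1, i2, ξ, hξ, fun hz => hnz ?_⟩
  have hinj := (Groth.Agent.H7.ST.ab_mono_iff ι).1 inferInstance Ω ξ
  haveI : Subsingleton ((EtCoh.stalk ξ).obj F) := AddCommGrpCat.subsingleton_of_isZero hz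
  haveI : Subsingleton ((EtCoh.stalk ξ).obj I) := hinj.subsingleton
  exact AddCommGrpCat.isZero_of_subsingleton _

variable (F : EtCoh.Ab X)

/-- The diagram of images in `F` of the presented sheaves over `F`. -/
noncomputable def imgMap {j k : Obj F} (f : j ⟶ k) : Limits.image j.s ⟶ Limits.image k.s :=
  image.lift (MonoFactorisation.mk (Limits.image k.s) (image.ι k.s) (f.h ≫ factorThruImage k.s)
    (by rw [Category.assoc, image.fac, f.w]))

lemma imgMap_ι {j k : Obj F} (f : j ⟶ k) : imgMap F f ≫ image.ι k.s = image.ι j.s :=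
  image.lift_fac _

noncomputable abbrev Dimg : Obj F ⥤ EtCoh.Ab X where
  obj j := Limits.image j.s
  map f := imgMap F f
  map_id j := by
    rw [← cancel_mono (image.ι j.s), imgMap_ι, Category.id_comp]
  map_comp f g := by
    rw [← cancel_mono (image.ι _), Category.assoc, imgMap_ι, imgMap_ι, imgMap_ι]

noncomputable def coconeImgι : Dimg F ⟶ (Functor.const (Obj F)).obj F where
  app j := image.ι j.s
  naturality j k f := by
    change imgMap F f ≫ image.ι k.s = image.ι j.s ≫ 𝟙 F
    rw [imgMap_ι, Category.comp_id]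

noncomputable def coconeImg : Cocone (Dimg F) where
  pt := F
  ι := coconeImgι F

variable [CompactSpace X] [QuasiSeparatedSpace X]

noncomputable def κi : colimit (Dimg F) ⟶ F := colimit.desc (Dimg F) (coconeImg F)

lemma ι_κi (j : Obj F) : colimit.ι (Dimg F) j ≫ κi F = image.ι j.s := colimit.ι_desc _ _

lemma epi_κi (hF : EtCoh.IsTorsion F) : Epi (κi F) := by
  haveI := epi_κ F hF
  rw [Groth.Agent.H7.ST.ab_epi_iff]
  intro Ω _ _ ξ a
  obtain ⟨x, rfl⟩ := (Groth.Agent.H7.ST.ab_epi_iff (κ F)).1 inferInstance Ω ξ a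
  have hcol : IsColimit ((EtCoh.stalk ξ).mapCocone (colimit.cocone (D F))) :=
    isColimitOfPreserves _ (colimit.isColimit _)
  obtain ⟨j, b, rfl⟩ := Concrete.isColimit_exists_rep (D F ⋙ EtCoh.stalk ξ) hcol x
  refine ⟨(EtCoh.stalk ξ).map (factorThruImage j.s ≫ colimit.ι (Dimg F) j) b, ?_⟩
  have h2 : (EtCoh.stalk ξ).map (factorThruImage j.s ≫ colimit.ι (Dimg F) j) ≫
      (EtCoh.stalk ξ).map (κi F) =
      (EtCoh.stalk ξ).map (colimit.ι (D F) j) ≫ (EtCoh.stalk ξ).map (κ F) := by
    rw [← Functor.map_comp, ← Functor.map_comp, Category.assoc, ι_κi, image.fac, ι_κ]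
  exact ((ConcreteCategory.comp_apply _ _ _).symm.trans (ConcreteCategory.congr_hom h2 b)).trans
    (ConcreteCategory.comp_apply _ _ _)

lemma mono_κi : Mono (κi F) := by
  rw [Groth.Agent.H7.ST.ab_mono_iff]
  intro Ω _ _ ξ
  refine (injective_iff_map_eq_zero ((EtCoh.stalk ξ).map (κi F)).hom).2 ?_
  intro x hx
  have hcol : IsColimit ((EtCoh.stalk ξ).mapCocone (colimit.cocone (Dimg F))) :=
    isColimitOfPreserves _ (colimit.isColimit _)
  obtain ⟨j, b, rfl⟩ := Concrete.isColimit_exists_rep (Dimg F ⋙ EtCoh.stalk ξ) hcol x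
  have hb : (EtCoh.stalk ξ).map (image.ι j.s) b = 0 := by
    have h1 : (EtCoh.stalk ξ).map (colimit.ι (Dimg F) j) ≫ (EtCoh.stalk ξ).map (κi F) =
        (EtCoh.stalk ξ).map (image.ι j.s) := by
      rw [← Functor.map_comp, ι_κi]
    exact ((ConcreteCategory.congr_hom h1 b).symm.trans (ConcreteCategory.comp_apply _ _ _)).trans hx
  have hinj := (Groth.Agent.H7.ST.ab_mono_iff (image.ι j.s)).1 inferInstance Ω ξ
  have hb0 : b = 0 := hinj (hb.trans (map_zero ((EtCoh.stalk ξ).map (image.ι j.s)).hom).symm)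
  rw [hb0]
  exact map_zero _

theorem S0145_main (X : Scheme.{u}) [IsNoetherian X]
    (E : Set X) (hE : StableUnderSpecialization E)
    (F : EtCoh.Ab X) (hF : EtCoh.IsTorsion F) (hsupp : EtPBC.supp F ⊆ E) :
    ∃ (J : Type (u + 1)) (_ : SmallCategory J) (_ : IsFiltered J) (D : J ⥤ EtCoh.Ab X)
      (c : Cocone D) (_ : IsColimit c), Nonempty (c.pt ≅ F) ∧
      ∀ j, EtPBC.IsConstructible (D.obj j) ∧
        ∃ Z : Set X, IsClosed Z ∧ Z ⊆ E ∧ EtPBC.supp (D.obj j) ⊆ Z := by
  haveI := mono_κi F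
  haveI := epi_κi F hF
  haveI : IsIso (κi F) := isIso_of_mono_of_epi _
  refine ⟨Obj F, inferInstance, inferInstance, Dimg F, colimit.cocone (Dimg F),
    colimit.isColimit _, ⟨asIso (κi F)⟩, fun j => ?_⟩
  have hc : EtPBC.IsConstructible (Limits.image j.s) :=
    Groth.Agent.H2.SubFLC.S0141_main X (factorThruImage j.s) j.p.isConstructible
  refine ⟨hc, closure (EtPBC.supp (Limits.image j.s)), isClosed_closure, ?_, subset_closure⟩
  intro z hz
  have hcons : Topology.IsConstructible (EtPBC.supp (Limits.image j.s)) :=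
    (S8526_main _ hc).isConstructible
  obtain ⟨y, hy, hyz⟩ := Groth.Agent.H2.SpecCl.exists_specializes_of_mem_closure hcons hz
  exact hE hyz (hsupp (supp_subset_of_mono (image.ι j.s) hy))

end Groth.Agent.H2.Colim
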