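import Mathlib
import Groth.Prelude.Def_EtBase
import Groth.Prelude.Def_PBC
import Groth.Agent.Lib.Helper2.ColimB

set_option autoImplicit false
set_option linter.style.haveILetI false
set_option linter.unusedSectionVars false
set_option linter.unusedVariables false
universe u

open CategoryTheory CategoryTheory.Limits Opposite AlgebraicGeometry
open scoped ZeroObject

namespace Groth.Agent.H2.Colim

open Groth.Agent.H2.StalkLC Groth.Agent.H2.LCModel Groth.Agent.H2.PtSec Groth.Agent.H2.Gen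

variable {X : Scheme.{u}}

/-- A class of sheaves stable under isomorphisms, quotients, binary sums and containing zero. -/
structure GoodProp (P : EtCoh.Ab X → Prop) : Prop where
  iso : ∀ {A B : EtCoh.Ab X}, (A ≅ B) → P A → P B
  quot : ∀ {A B : EtCoh.Ab X} (π : A ⟶ B) [Epi π], P A → P B
  sum : ∀ {A B : EtCoh.Ab X}, P A → P B → P (A ⊞ B)
  zero : P (0 : EtCoh.Ab X)

variable (F : EtCoh.Ab X) (P : EtCoh.Ab X → Prop)

/-- Presented sheaves with property `P` over `F`. -/
structure ObjP where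
  p : Pres X
  s : p.sheaf ⟶ F
  hP : P p.sheaf

variable {F P}

/-- Morphisms over `F`. -/
@[ext]
structure HomP (j k : ObjP F P) where
  h : j.p.sheaf ⟶ k.p.sheaf
  w : h ≫ k.s = j.s

noncomputable instance : Category (ObjP F P) where
  Hom := HomP
  id j := ⟨𝟙 _, Category.id_comp _⟩
  comp f g := ⟨f.h ≫ g.h, by rw [Category.assoc, g.w, f.w]⟩
  id_comp f := HomP.ext (Category.id_comp _)
  comp_id f := HomP.ext (Category.comp_id _)
  assoc f g h := HomP.ext (Category.assoc _ _ _)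

lemma compP_h {j k l : ObjP F P} (f : j ⟶ k) (g : k ⟶ l) : (f ≫ g).h = f.h ≫ g.h := rfl

variable (F P) in
/-- The diagram of presented sheaves with `P` over `F`. -/
noncomputable abbrev DP : ObjP F P ⥤ EtCoh.Ab X where
  obj j := j.p.sheaf
  map f := f.h

variable (F P) in
noncomputable def coconePι : DP F P ⟶ (Functor.const (ObjP F P)).obj F where
  app j := j.s
  naturality j k f := by
    change f.h ≫ k.s = j.s ≫ 𝟙 F
    rw [f.w, Category.comp_id]

variable (F P) in
/-- The tautological cocone. -/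
noncomputable def coconeP : Cocone (DP F P) where
  pt := F
  ι := coconePι F P

variable [CompactSpace X] [QuasiSeparatedSpace X]

lemma exists_objP (hP : GoodProp P) (G : EtCoh.Ab X)
    (hG : EtPBC.IsConstructible G) (hPG : P G) (g : G ⟶ F) :
    ∃ (j : ObjP F P) (e : G ≅ j.p.sheaf), e.hom ≫ j.s = g := by
  obtain ⟨p, ⟨e⟩⟩ := exists_pres G hG
  exact ⟨⟨p, e.inv ≫ g, hP.iso e hPG⟩, e, Iso.hom_inv_id_assoc e g⟩

lemma isFiltered_objP (hP : GoodProp P) : IsFiltered (ObjP F P) := by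
  haveI : Nonempty (ObjP F P) := by
    obtain ⟨j, -, -⟩ := exists_objP (F := F) hP 0 isConstructible_zero hP.zero 0
    exact ⟨j⟩
  haveI : IsFilteredOrEmpty (ObjP F P) := by
    refine IsFilteredOrEmpty.mk ?_ ?_
    · intro j₁ j₂
      obtain ⟨k, e, he⟩ := exists_objP (F := F) hP (j₁.p.sheaf ⊞ j₂.p.sheaf)
        (isConstructible_biprod _ _ j₁.p.isConstructible j₂.p.isConstructible)
        (hP.sum j₁.hP j₂.hP) (biprod.desc j₁.s j₂.s)
      refine ⟨k, ⟨biprod.inl ≫ e.hom, ?_⟩, ⟨biprod.inr ≫ e.hom, ?_⟩, trivial⟩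
      · rw [Category.assoc, he, biprod.inl_desc]
      · rw [Category.assoc, he, biprod.inr_desc]
    · intro j₁ j₂ f g
      have hz : (f.h - g.h) ≫ j₂.s = 0 := by
        rw [Preadditive.sub_comp, f.w, g.w, sub_self]
      obtain ⟨k, e, he⟩ := exists_objP (F := F) hP (cokernel (f.h - g.h))
        (Groth.Agent.H2.Strata.S0131_main (f.h - g.h) j₁.p.isConstructible
          j₂.p.isConstructible).2 (hP.quot (cokernel.π (f.h - g.h)) j₂.hP)
        (cokernel.desc _ j₂.s hz)
      refine ⟨k, ⟨cokernel.π _ ≫ e.hom, ?_⟩, ?_⟩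
      · rw [Category.assoc, he, cokernel.π_desc]
      · apply HomP.ext
        rw [compP_h, compP_h]
        change f.h ≫ cokernel.π (f.h - g.h) ≫ e.hom = g.h ≫ cokernel.π (f.h - g.h) ≫ e.hom
        rw [← sub_eq_zero, ← Preadditive.sub_comp, cokernel.condition_assoc, zero_comp]
  exact { }

variable (F P) in
/-- The comparison morphism. -/
noncomputable def κP : colimit (DP F P) ⟶ F := colimit.desc (DP F P) (coconeP F P)

lemma ι_κP (j : ObjP F P) : colimit.ι (DP F P) j ≫ κP F P = j.s := colimit.ι_desc _ _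

/-- If every germ of `F` is hit by a constructible sheaf with `P`, the comparison morphism is an
epimorphism. -/
lemma epi_κP (hP : GoodProp P)
    (hgen : ∀ {Ω : Type u} [Field Ω] [IsSepClosed Ω] (ξ : Spec (CommRingCat.of Ω) ⟶ X)
      (a : (EtCoh.stalk ξ).obj F), ∃ (G : EtCoh.Ab X) (_ : EtPBC.IsConstructible G) (_ : P G)
        (g : G ⟶ F), a ∈ Set.range ((EtCoh.stalk ξ).map g)) : Epi (κP F P) := by
  rw [Groth.Agent.H7.ST.ab_epi_iff]
  intro Ω _ _ ξ a
  obtain ⟨G, hG, hPG, g, b, hb⟩ := hgen ξ a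
  obtain ⟨j, e, he⟩ := exists_objP (F := F) hP G hG hPG g
  refine ⟨(EtCoh.stalk ξ).map (e.hom ≫ colimit.ι (DP F P) j) b, ?_⟩
  have h2 : (EtCoh.stalk ξ).map (e.hom ≫ colimit.ι (DP F P) j) ≫ (EtCoh.stalk ξ).map (κP F P) =
      (EtCoh.stalk ξ).map g := by
    rw [← Functor.map_comp, Category.assoc, ι_κP, he]
  exact ((ConcreteCategory.comp_apply _ _ _).symm.trans (ConcreteCategory.congr_hom h2 b)).trans hb

lemma exists_killP (hP : GoodProp P) (j : ObjP F P) {Ω : Type u} [Field Ω] [IsSepClosed Ω]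
    (ξ : Spec (CommRingCat.of Ω) ⟶ X) (b : (EtCoh.stalk ξ).obj j.p.sheaf)
    (hb : (EtCoh.stalk ξ).map j.s b = 0) :
    ∃ (k : ObjP F P) (f : j ⟶ k), (EtCoh.stalk ξ).map f.h b = 0 := by
  have hGc := j.p.isConstructible
  obtain ⟨N, hN, hGk⟩ := exists_killedBy X j.p.sheaf hGc
  haveI : NeZero N := ⟨hN.ne'⟩
  have hKk : EtCoh.KilledBy N (kernel j.s) :=
    killedBy_of_kil (kil_of_mono (kernel.ι j.s) (kil_of_killedBy hGk))
  have hex : (ShortComplex.mk (kernel.ι j.s) j.s (kernel.condition j.s)).Exact :=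
    ShortComplex.exact_of_f_is_kernel _ (kernelIsKernel j.s)
  have hex' := (Groth.Agent.H7.ST.ab_exact_iff _).1 hex Ω ξ
  obtain ⟨b', hb'⟩ := (ShortComplex.ab_exact_iff _).1 hex' b hb
  obtain ⟨U, hU, s, hs, b'', hb''⟩ := exists_gen_of_germ (kernel j.s) N ξ b'
    (nsmul_stalk_eq_zero hKk ξ b')
  haveI := hU
  have hQc : EtPBC.IsConstructible (cokernel (gen U (kernel j.s) N s hs ≫ kernel.ι j.s)) :=
    (Groth.Agent.H2.Strata.S0131_main _ (Groth.Agent.H2.ExtConst.S0133_main U (ZMod N)) hGc).2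
  have hz : (gen U (kernel j.s) N s hs ≫ kernel.ι j.s) ≫ j.s = 0 := by
    rw [Category.assoc, kernel.condition, comp_zero]
  obtain ⟨k, e, he⟩ := exists_objP (F := F) hP _ hQc
    (hP.quot (cokernel.π (gen U (kernel j.s) N s hs ≫ kernel.ι j.s)) j.hP)
    (cokernel.desc _ j.s hz)
  refine ⟨k, ⟨cokernel.π _ ≫ e.hom, by rw [Category.assoc, he, cokernel.π_desc]⟩, ?_⟩
  have h0 : (EtCoh.stalk ξ).map (gen U (kernel j.s) N s hs) ≫
      (EtCoh.stalk ξ).map (kernel.ι j.s) ≫
      (EtCoh.stalk ξ).map (cokernel.π (gen U (kernel j.s) N s hs ≫ kernel.ι j.s) ≫ e.hom) = 0 := by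
    rw [← Functor.map_comp, ← Functor.map_comp, ← Category.assoc, cokernel.condition_assoc,
      zero_comp, Functor.map_zero]
  have e1 := ConcreteCategory.congr_hom h0 b''
  rw [ConcreteCategory.comp_apply, ConcreteCategory.comp_apply] at e1
  have hb2 : ((EtCoh.stalk ξ).map (kernel.ι j.s))
      (((EtCoh.stalk ξ).map (gen U (kernel j.s) N s hs)) b'') = b := by
    rw [hb'']
    exact hb'
  rw [hb2] at e1
  exact e1

lemma mono_κP (hP : GoodProp P) : Mono (κP F P) := by
  haveI := isFiltered_objP (F := F) hP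
  rw [Groth.Agent.H7.ST.ab_mono_iff]
  intro Ω _ _ ξ
  refine (injective_iff_map_eq_zero ((EtCoh.stalk ξ).map (κP F P)).hom).2 ?_
  intro x hx
  have hcol : IsColimit ((EtCoh.stalk ξ).mapCocone (colimit.cocone (DP F P))) :=
    isColimitOfPreserves _ (colimit.isColimit _)
  obtain ⟨j, b, rfl⟩ := Concrete.isColimit_exists_rep (DP F P ⋙ EtCoh.stalk ξ) hcol x
  have hb : (EtCoh.stalk ξ).map j.s b = 0 := by
    have h1 : (EtCoh.stalk ξ).map (colimit.ι (DP F P) j) ≫ (EtCoh.stalk ξ).map (κP F P) =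
        (EtCoh.stalk ξ).map j.s := by
      rw [← Functor.map_comp, ι_κP]
    exact ((ConcreteCategory.congr_hom h1 b).symm.trans (ConcreteCategory.comp_apply _ _ _)).trans hx
  obtain ⟨k, f, hf⟩ := exists_killP hP j ξ b hb
  have hw : (EtCoh.stalk ξ).map ((DP F P).map f) ≫ (EtCoh.stalk ξ).map (colimit.ι (DP F P) k) =
      (EtCoh.stalk ξ).map (colimit.ι (DP F P) j) := by
    rw [← Functor.map_comp, colimit.w]
  have h3 := ConcreteCategory.congr_hom hw b
  rw [ConcreteCategory.comp_apply] at h3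
  refine h3.symm.trans ?_
  have h4 : ((EtCoh.stalk ξ).map ((DP F P).map f)) b = 0 := hf
  rw [h4, map_zero]

/-- **Filtered colimit presentation with a property.** -/
theorem exists_colimit_presentation (hP : GoodProp P)
    (hgen : ∀ {Ω : Type u} [Field Ω] [IsSepClosed Ω] (ξ : Spec (CommRingCat.of Ω) ⟶ X)
      (a : (EtCoh.stalk ξ).obj F), ∃ (G : EtCoh.Ab X) (_ : EtPBC.IsConstructible G) (_ : P G)
        (g : G ⟶ F), a ∈ Set.range ((EtCoh.stalk ξ).map g)) :
    ∃ (J : Type (u + 1)) (_ : SmallCategory J) (_ : IsFiltered J) (D : J ⥤ EtCoh.Ab X)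
      (c : Cocone D) (_ : IsColimit c), Nonempty (c.pt ≅ F) ∧
      ∀ j, EtPBC.IsConstructible (D.obj j) ∧ P (D.obj j) := by
  haveI := isFiltered_objP (F := F) hP
  haveI := mono_κP (F := F) hP
  haveI := epi_κP (F := F) hP hgen
  haveI : IsIso (κP F P) := isIso_of_mono_of_epi _
  exact ⟨ObjP F P, inferInstance, inferInstance, DP F P, colimit.cocone (DP F P),
    colimit.isColimit _, ⟨asIso (κP F P)⟩, fun j => ⟨j.p.isConstructible, j.hP⟩⟩

end Groth.Agent.H2.Colim
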