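import Mathlib
import Groth.Prelude.Def_EtBase
import Groth.Prelude.Def_PBC
import Groth.Agent.Lib.Helper2.ColimE
import Groth.Agent.Lib.Helper2.ColimD

set_option autoImplicit false
set_option linter.style.haveILetI false
set_option linter.unusedSectionVars false
set_option linter.unusedVariables false
universe u

open CategoryTheory CategoryTheory.Limits Opposite AlgebraicGeometry
open scoped ZeroObject

namespace Groth.Agent.H2.Colim

open Groth.Agent.H2.StalkLC Groth.Agent.H2.LCModel Groth.Agent.H2.PtSec Groth.Agent.H2.Gen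

variable {X : Scheme.{u}}

/-- A point is outside the support iff all geometric stalks over it vanish. -/
lemma notMem_supp_iff (G : EtCoh.Ab X) (x : X) :
    x ∉ EtPBC.supp G ↔ ∀ (Ω : Type u) [Field Ω] [IsSepClosed Ω]
      (ξ : Spec (CommRingCat.of Ω) ⟶ X), ξ default = x → IsZero ((EtCoh.stalk ξ).obj G) := by
  constructor
  · intro h Ω _ _ ξ hξ
    by_contra hnz
    exact h ⟨Ω, inferInstance, inferInstance, ξ, (range_geomPt_eq_iff ξ x).2 hξ, hnz⟩
  · rintro h ⟨Ω, _, _, ξ, hξ, hnz⟩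
    exact hnz (h Ω ξ ((range_geomPt_eq_iff ξ x).1 hξ))

lemma supp_subset_of_epi {A B : EtCoh.Ab X} (π : A ⟶ B) [Epi π] :
    EtPBC.supp B ⊆ EtPBC.supp A := by
  rintro x ⟨Ω, i1, i2, ξ, hξ, hnz⟩
  refine ⟨Ω, i1, i2, ξ, hξ, fun hz => hnz ?_⟩
  have hsurj := (Groth.Agent.H7.ST.ab_epi_iff π).1 inferInstance Ω ξ
  haveI : Subsingleton ((EtCoh.stalk ξ).obj A) := AddCommGrpCat.subsingleton_of_isZero hz
  haveI : Subsingleton ((EtCoh.stalk ξ).obj B) := hsurj.subsingleton
  exact AddCommGrpCat.isZero_of_subsingleton _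

lemma isZero_stalk_biprod {A B : EtCoh.Ab X} {Ω : Type u} [Field Ω] [IsSepClosed Ω]
    (ξ : Spec (CommRingCat.of Ω) ⟶ X) (hA : IsZero ((EtCoh.stalk ξ).obj A))
    (hB : IsZero ((EtCoh.stalk ξ).obj B)) : IsZero ((EtCoh.stalk ξ).obj (A ⊞ B)) := by
  let S : ShortComplex (EtCoh.Ab X) :=
    ShortComplex.mk (biprod.inl : A ⟶ A ⊞ B) (biprod.snd : A ⊞ B ⟶ B) (by simp)
  have hex : S.Exact := (ShortComplex.Splitting.ofHasBinaryBiproduct A B).shortExact.exact
  have hex' : (S.map (EtCoh.stalk ξ)).Exact := (Groth.Agent.H7.ST.ab_exact_iff S).1 hex Ω ξ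
  haveI hsA : Subsingleton ((EtCoh.stalk ξ).obj A) := AddCommGrpCat.subsingleton_of_isZero hA
  haveI hsB : Subsingleton ((EtCoh.stalk ξ).obj B) := AddCommGrpCat.subsingleton_of_isZero hB
  haveI h1 : Subsingleton ((S.map (EtCoh.stalk ξ)).X₁) := hsA
  haveI h3 : Subsingleton ((S.map (EtCoh.stalk ξ)).X₃) := hsB
  haveI : Subsingleton ((EtCoh.stalk ξ).obj (A ⊞ B)) := by
    refine ⟨fun x y => ?_⟩
    obtain ⟨x', hx'⟩ := (ShortComplex.ab_exact_iff _).1 hex' x (Subsingleton.elim _ _)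
    obtain ⟨y', hy'⟩ := (ShortComplex.ab_exact_iff _).1 hex' y (Subsingleton.elim _ _)
    rw [← hx', ← hy', Subsingleton.elim x' y']
  exact AddCommGrpCat.isZero_of_subsingleton _

/-- The property of having vanishing stalk at `x`. -/
lemma goodProp_notMem_supp (x : X) : GoodProp (fun G : EtCoh.Ab X => x ∉ EtPBC.supp G) where
  iso e h := fun hx => h (supp_subset_of_mono e.inv hx)
  quot π _ h := fun hx => h (supp_subset_of_epi π hx)
  sum {A B} hA hB := by
    rw [notMem_supp_iff] at hA hB ⊢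
    intro Ω _ _ ξ hξ
    exact isZero_stalk_biprod ξ (hA Ω ξ hξ) (hB Ω ξ hξ)
  zero := by
    rw [notMem_supp_iff]
    intro Ω _ _ ξ hξ
    exact (EtCoh.stalk ξ).map_isZero (isZero_zero _)

variable [CompactSpace X] [QuasiSeparatedSpace X]

/-- Generation by constructible sheaves with vanishing stalk at `x`. -/
lemma exists_gen_notMem_supp (F : EtCoh.Ab X) (hF : EtCoh.IsTorsion F) (x : X)
    (hx : x ∉ EtPBC.supp F) {Ω : Type u} [Field Ω] [IsSepClosed Ω]
    (ξ : Spec (CommRingCat.of Ω) ⟶ X) (a : (EtCoh.stalk ξ).obj F) :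
    ∃ (G : EtCoh.Ab X) (_ : EtPBC.IsConstructible G) (_ : x ∉ EtPBC.supp G)
      (g : G ⟶ F), a ∈ Set.range ((EtCoh.stalk ξ).map g) := by
  classical
  obtain ⟨n, hn, ha⟩ := exists_nsmul_stalk_eq_zero F hF ξ a
  obtain ⟨U, hU, s, hs, b, hb⟩ := exists_gen_of_germ F n ξ a ha
  haveI := hU
  haveI : NeZero n := ⟨hn.ne'⟩
  have hEc : EtPBC.IsConstructible (EtPBC.extZeroConst U (ZMod n)) :=
    Groth.Agent.H2.ExtConst.S0133_main U (ZMod n)
  obtain ⟨Ωx, _, _, ηb, hηb⟩ := exists_geomPt x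
  haveI := finite_stalk_of_isConstructible _ hEc ηb
  haveI := Fintype.ofFinite ((EtCoh.stalk ηb).obj (EtPBC.extZeroConst U (ZMod n)))
  have hFz : IsZero ((EtCoh.stalk ηb).obj F) := (notMem_supp_iff F x).1 hx Ωx ηb hηb
  have hKk : EtCoh.KilledBy n (kernel (gen U F n s hs)) :=
    killedBy_of_kil (kil_of_mono (kernel.ι _) (kil_extZeroConst U n))
  have hex : (ShortComplex.mk (kernel.ι (gen U F n s hs)) (gen U F n s hs)
      (kernel.condition _)).Exact :=
    ShortComplex.exact_of_f_is_kernel _ (kernelIsKernel _)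
  have hex' := (Groth.Agent.H7.ST.ab_exact_iff _).1 hex Ωx ηb
  haveI : Subsingleton ((EtCoh.stalk ηb).obj F) := AddCommGrpCat.subsingleton_of_isZero hFz
  have hlift : ∀ e : (EtCoh.stalk ηb).obj (EtPBC.extZeroConst U (ZMod n)),
      ∃ (i : Idx (kernel (gen U F n s hs)) n),
        e ∈ Set.range ((EtCoh.stalk ηb).map (i.gen ≫ kernel.ι (gen U F n s hs))) := by
    intro e
    obtain ⟨e', he'⟩ := (ShortComplex.ab_exact_iff _).1 hex' e
      (@Subsingleton.elim ((EtCoh.stalk ηb).obj F) _ _ _)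
    obtain ⟨V, hV, t, ht, e'', he''⟩ := exists_gen_of_germ (kernel (gen U F n s hs)) n ηb e'
      (nsmul_stalk_eq_zero hKk ηb e')
    refine ⟨⟨V, hV, t, ht⟩, e'', ?_⟩
    rw [Functor.map_comp, ConcreteCategory.comp_apply]
    have : ((EtCoh.stalk ηb).map (Idx.gen ⟨V, hV, t, ht⟩)) e'' = e' := he''
    rw [this]
    exact he'
  choose idx hidx using hlift
  let I : Finset (Idx (kernel (gen U F n s hs)) n) := Finset.univ.image idx
  let φ : ⨁ (fam I) ⟶ EtPBC.extZeroConst U (ZMod n) := Ψ I ≫ kernel.ι (gen U F n s hs)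
  have hPc : EtPBC.IsConstructible (⨁ (fam I)) := isConstructible_biproduct _ _ (fun i => by
    haveI := i.1.aff
    exact Groth.Agent.H2.ExtConst.S0133_main i.1.U (ZMod n))
  have hGc : EtPBC.IsConstructible (cokernel φ) :=
    (Groth.Agent.H2.Strata.S0131_main φ hPc hEc).2
  have hφz : φ ≫ gen U F n s hs = 0 := by
    rw [Category.assoc, kernel.condition, comp_zero]
  have hsurj : Function.Surjective ((EtCoh.stalk ηb).map φ) := by
    intro e
    obtain ⟨e'', he''⟩ := hidx e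
    have hmem : idx e ∈ I := Finset.mem_image_of_mem _ (Finset.mem_univ e)
    have hfac : biproduct.ι (fam I) ⟨idx e, hmem⟩ ≫ φ =
        (idx e).gen ≫ kernel.ι (gen U F n s hs) := by
      change biproduct.ι (fam I) ⟨idx e, hmem⟩ ≫ Ψ I ≫ kernel.ι _ = _
      rw [← Category.assoc]
      congr 1
      exact biproduct.ι_desc _ _
    refine ⟨((EtCoh.stalk ηb).map (biproduct.ι (fam I) ⟨idx e, hmem⟩)) e'', ?_⟩
    have h2 : (EtCoh.stalk ηb).map (biproduct.ι (fam I) ⟨idx e, hmem⟩) ≫ (EtCoh.stalk ηb).map φ =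
        (EtCoh.stalk ηb).map ((idx e).gen ≫ kernel.ι (gen U F n s hs)) := by
      rw [← Functor.map_comp, hfac]
    exact ((ConcreteCategory.comp_apply _ _ _).symm.trans
      (ConcreteCategory.congr_hom h2 e'')).trans he''
  have hGx : x ∉ EtPBC.supp (cokernel φ) := by
    rw [notMem_supp_iff]
    intro Ω' _ _ ξ' hξ'
    rw [isZero_stalk_of_same_point _ ξ' ηb (hξ'.trans hηb.symm)]
    exact (surjective_stalk_map_iff φ ηb).1 hsurj
  refine ⟨cokernel φ, hGc, hGx, cokernel.desc φ (gen U F n s hs) hφz, ?_⟩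
  refine ⟨((EtCoh.stalk ξ).map (cokernel.π φ)) b, ?_⟩
  have h3 : (EtCoh.stalk ξ).map (cokernel.π φ) ≫
      (EtCoh.stalk ξ).map (cokernel.desc φ (gen U F n s hs) hφz) =
      (EtCoh.stalk ξ).map (gen U F n s hs) := by
    rw [← Functor.map_comp, cokernel.π_desc]
  exact ((ConcreteCategory.comp_apply _ _ _).symm.trans (ConcreteCategory.congr_hom h3 b)).trans hb

theorem S0173_main (X : Scheme.{u}) [CompactSpace X] [QuasiSeparatedSpace X]
    [IrreducibleSpace X] (F : EtCoh.Ab X) (hF : EtCoh.IsTorsion F)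
    (hη : genericPoint X ∉ EtPBC.supp F) :
    ∃ (J : Type (u + 1)) (_ : SmallCategory J) (_ : IsFiltered J) (D : J ⥤ EtCoh.Ab X)
      (c : Cocone D) (_ : IsColimit c), Nonempty (c.pt ≅ F) ∧
      ∀ j, EtPBC.IsConstructible (D.obj j) ∧
        ∃ Z : Set X, IsClosed Z ∧ genericPoint X ∉ Z ∧ EtPBC.supp (D.obj j) ⊆ Z := by
  obtain ⟨J, i1, i2, D, c, hc, hiso, hD⟩ := exists_colimit_presentation
    (F := F) (goodProp_notMem_supp (genericPoint X))
    (fun ξ a => exists_gen_notMem_supp F hF (genericPoint X) hη ξ a)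
  refine ⟨J, i1, i2, D, c, hc, hiso, fun j => ⟨(hD j).1, closure (EtPBC.supp (D.obj j)),
    isClosed_closure, ?_, subset_closure⟩⟩
  intro hz
  have hcons : Topology.IsConstructible (EtPBC.supp (D.obj j)) :=
    (S8526_main _ (hD j).1).isConstructible
  obtain ⟨y, hy, hyz⟩ := Groth.Agent.H2.SpecCl.exists_specializes_of_mem_closure hcons hz
  have hgen : genericPoint X ⤳ y := genericPoint_specializes y
  have : y = genericPoint X := (hyz.antisymm hgen).eq
  rw [this] at hy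
  exact (hD j).2 hy

end Groth.Agent.H2.Colim
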