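import Mathlib
open CategoryTheory CategoryTheory.Limits
universe v u

namespace Groth.Agent.H2.ColimSpan

variable {I : Type u} [Category.{v} I]

/-- Under span completion, the equivalence relation defining the colimit type is explicit. -/
lemma exists_of_eqvGen (F : I ⥤ Type v)
    (hI : ∀ ⦃x y z : I⦄ (f : x ⟶ y) (g : x ⟶ z), ∃ (w : I) (f' : y ⟶ w) (g' : z ⟶ w), f ≫ f' = g ≫ g')
    {p q : Σ j, F.obj j} (h : Relation.EqvGen F.ColimitTypeRel p q) :
    ∃ (k : I) (f : p.1 ⟶ k) (g : q.1 ⟶ k), F.map f p.2 = F.map g q.2 := by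
  induction h with
  | rel p q h =>
    obtain ⟨f, hf⟩ := h
    exact ⟨q.1, f, 𝟙 _, by simp [hf]⟩
  | refl p => exact ⟨p.1, 𝟙 _, 𝟙 _, rfl⟩
  | symm p q _ ih =>
    obtain ⟨k, f, g, h⟩ := ih
    exact ⟨k, g, f, h.symm⟩
  | trans p q r _ _ ih₁ ih₂ =>
    obtain ⟨k, f, g, h⟩ := ih₁
    obtain ⟨k', g', l, h'⟩ := ih₂
    obtain ⟨w, c, d, hcd⟩ := hI g g'
    refine ⟨w, f ≫ c, l ≫ d, ?_⟩
    rw [F.map_comp, F.map_comp]
    simp only [types_comp_apply] 
    rw [h, ← h']
    have := congrArg (fun t => F.map t q.2) hcd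
    simpa using this

theorem colimMap_injective {I : Type v} [SmallCategory I]
    (hI : ∀ ⦃x y z : I⦄ (f : x ⟶ y) (g : x ⟶ z), ∃ (w : I) (f' : y ⟶ w) (g' : z ⟶ w), f ≫ f' = g ≫ g')
    {M N : I ⥤ Type v} (φ : M ⟶ N) (hφ : ∀ i, Function.Injective (φ.app i)) :
    Function.Injective (colimMap φ) := by
  intro a b hab
  obtain ⟨i, x, rfl⟩ := Types.jointly_surjective' a
  obtain ⟨j, y, rfl⟩ := Types.jointly_surjective' b
  have h1 : colimMap φ (colimit.ι M i x) = colimit.ι N i (φ.app i x) := colimit.ι_map_apply φ i x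
  have h2 : colimMap φ (colimit.ι M j y) = colimit.ι N j (φ.app j y) := colimit.ι_map_apply φ j y
  rw [h1, h2] at hab
  obtain ⟨k, f, g, hfg⟩ := exists_of_eqvGen N hI (Types.colimit_eq hab)
  dsimp at f g hfg
  have : φ.app k (M.map f x) = φ.app k (M.map g y) := by
    have n1 := NatTrans.naturality_apply φ f x
    have n2 := NatTrans.naturality_apply φ g y
    rw [n1, n2, hfg]
  exact Types.colimit_sound' f g (hφ k this)



lemma types_prod_ext {X Y : Type v} (z z' : (X ⨯ Y : Type v))
    (h1 : (prod.fst : X ⨯ Y ⟶ X) z = (prod.fst : X ⨯ Y ⟶ X) z')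
    (h2 : (prod.snd : X ⨯ Y ⟶ Y) z = (prod.snd : X ⨯ Y ⟶ Y) z') : z = z' := by
  apply (Types.binaryProductIso X Y).toEquiv.injective
  apply Prod.ext
  · have e := ConcreteCategory.congr_hom (Types.binaryProductIso_hom_comp_fst X Y)
    have e1 := e z
    have e2 := e z'
    simp only [ConcreteCategory.comp_apply] at e1 e2
    exact e1.trans (h1.trans e2.symm)
  · have e := ConcreteCategory.congr_hom (Types.binaryProductIso_hom_comp_snd X Y)
    have e1 := e z
    have e2 := e z'
    simp only [ConcreteCategory.comp_apply] at e1 e2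
    exact e1.trans (h2.trans e2.symm)

lemma types_prod_exists {X Y : Type v} (x : X) (y : Y) :
    ∃ z : (X ⨯ Y : Type v), (prod.fst : X ⨯ Y ⟶ X) z = x ∧ (prod.snd : X ⨯ Y ⟶ Y) z = y := by
  refine ⟨(Types.binaryProductIso X Y).inv (x, y), ?_, ?_⟩
  · have e := ConcreteCategory.congr_hom (Types.binaryProductIso_inv_comp_fst X Y)
    have e1 := e (x, y)
    simp only [ConcreteCategory.comp_apply] at e1
    exact e1
  · have e := ConcreteCategory.congr_hom (Types.binaryProductIso_inv_comp_snd X Y)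
    have e1 := e (x, y)
    simp only [ConcreteCategory.comp_apply] at e1
    exact e1

theorem prodComparison_colim_surjective {I : Type v} [SmallCategory I]
    (hI : ∀ x y : I, ∃ (z : I) (_ : x ⟶ z) (_ : y ⟶ z), True) (M N : I ⥤ Type v) :
    Function.Surjective (prodComparison (colim : (I ⥤ Type v) ⥤ Type v) M N) := by
  intro z
  obtain ⟨i, a, ha⟩ := Types.jointly_surjective' ((prod.fst : colimit M ⨯ colimit N ⟶ colimit M) z)
  obtain ⟨j, b, hb⟩ := Types.jointly_surjective' ((prod.snd : colimit M ⨯ colimit N ⟶ colimit N) z)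
  obtain ⟨k, f, g, -⟩ := hI i j
  obtain ⟨w₀, hw1, hw2⟩ := types_prod_exists (M.map f a) (N.map g b)
  let ev := (evaluation I (Type v)).obj k
  let w : (M ⨯ N).obj k := inv (prodComparison ev M N) w₀
  have hw : prodComparison ev M N w = w₀ := by
    have := ConcreteCategory.congr_hom (IsIso.inv_hom_id (prodComparison ev M N))
    have e1 := this w₀
    simp only [ConcreteCategory.comp_apply] at e1
    exact e1
  have hwf : (prod.fst : M ⨯ N ⟶ M).app k w = M.map f a := by
    have := ConcreteCategory.congr_hom (prodComparison_fst ev (A := M) (B := N))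
    have e1 := this w
    simp only [ConcreteCategory.comp_apply] at e1
    rw [hw] at e1
    exact e1.symm.trans hw1
  have hws : (prod.snd : M ⨯ N ⟶ N).app k w = N.map g b := by
    have := ConcreteCategory.congr_hom (prodComparison_snd ev (A := M) (B := N))
    have e1 := this w
    simp only [ConcreteCategory.comp_apply] at e1
    rw [hw] at e1
    exact e1.symm.trans hw2
  refine ⟨colimit.ι (M ⨯ N) k w, ?_⟩
  apply types_prod_ext
  · have := ConcreteCategory.congr_hom (prodComparison_fst (colim : (I ⥤ Type v) ⥤ Type v) (A := M) (B := N))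
    have e1 := this (colimit.ι (M ⨯ N) k w)
    simp only [ConcreteCategory.comp_apply] at e1
    rw [e1]
    have e2 : colimMap (prod.fst : M ⨯ N ⟶ M) (colimit.ι (M ⨯ N) k w) =
        colimit.ι M k ((prod.fst : M ⨯ N ⟶ M).app k w) := colimit.ι_map_apply (prod.fst : M ⨯ N ⟶ M) k w
    change colimMap (prod.fst : M ⨯ N ⟶ M) (colimit.ι (M ⨯ N) k w) = _
    rw [e2, hwf]
    exact (colimit.w_apply M f a).trans ha
  · have := ConcreteCategory.congr_hom (prodComparison_snd (colim : (I ⥤ Type v) ⥤ Type v) (A := M) (B := N))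
    have e1 := this (colimit.ι (M ⨯ N) k w)
    simp only [ConcreteCategory.comp_apply] at e1
    rw [e1]
    have e2 : colimMap (prod.snd : M ⨯ N ⟶ N) (colimit.ι (M ⨯ N) k w) =
        colimit.ι N k ((prod.snd : M ⨯ N ⟶ N).app k w) := colimit.ι_map_apply (prod.snd : M ⨯ N ⟶ N) k w
    change colimMap (prod.snd : M ⨯ N ⟶ N) (colimit.ι (M ⨯ N) k w) = _
    rw [e2, hws]
    exact (colimit.w_apply N g b).trans hb



theorem colimit_post_forget_surjective {I : Type v} [SmallCategory I] [Nonempty I]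
    (hI : ∀ x y : I, ∃ (z : I) (_ : x ⟶ z) (_ : y ⟶ z), True) (M : I ⥤ AddCommGrpCat.{v}) :
    Function.Surjective (colimit.post M (forget AddCommGrpCat.{v})) := by
  have hι : ∀ (i : I) (a : M.obj i), colimit.post M (forget AddCommGrpCat.{v})
      (colimit.ι (M ⋙ forget AddCommGrpCat.{v}) i a) = colimit.ι M i a := by
    intro i a
    have := ConcreteCategory.congr_hom (colimit.ι_post M (forget AddCommGrpCat.{v}) i)
    have e1 := this a
    simp only [ConcreteCategory.comp_apply] at e1
    exact e1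
  let S : AddSubgroup (colimit M : AddCommGrpCat.{v}) :=
    { carrier := {y | ∃ (i : I) (a : M.obj i), colimit.ι M i a = y}
      zero_mem' := by
        obtain ⟨i⟩ := ‹Nonempty I›
        exact ⟨i, 0, map_zero _⟩
      add_mem' := by
        rintro x y ⟨i, a, rfl⟩ ⟨j, b, rfl⟩
        obtain ⟨k, f, g, -⟩ := hI i j
        refine ⟨k, M.map f a + M.map g b, ?_⟩
        rw [map_add]
        congr 1
        · exact colimit.w_apply M f a
        · exact colimit.w_apply M g b
      neg_mem' := by
        rintro x ⟨i, a, rfl⟩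
        exact ⟨i, -a, map_neg _ _⟩ }
  have hS : S = ⊤ := by
    let q : colimit M ⟶ AddCommGrpCat.of ((colimit M : AddCommGrpCat.{v}) ⧸ S) :=
      AddCommGrpCat.ofHom (QuotientAddGroup.mk' S)
    have hq : q = 0 := by
      apply colimit.hom_ext
      intro i
      ext a
      have : colimit.ι M i a ∈ S := ⟨i, a, rfl⟩
      simpa [q] using (QuotientAddGroup.eq_zero_iff _).mpr this
    rw [eq_top_iff]
    intro y _
    have := ConcreteCategory.congr_hom hq y
    simpa [q] using this
  intro y
  have : y ∈ S := hS ▸ AddSubgroup.mem_top y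
  obtain ⟨i, a, rfl⟩ := this
  exact ⟨_, hι i a⟩

end Groth.Agent.H2.ColimSpan
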