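import Mathlib

/-!
# The subalgebra `S + f·S[x]` of `S[x]` for a monic quadratic `f` (S19184)
-/

namespace Groth.Agent.H2.CollapseQuad

open Polynomial

universe u

variable (S : Type u) [CommRing S] (a b : S)

noncomputable def f : S[X] := X ^ 2 + C a * X + C b

lemma f_monic : (f S a b).Monic := by
  unfold f
  have : (X ^ 2 + C a * X + C b : S[X]) = X ^ 2 + (C a * X + C b) := by ring
  rw [this]
  nontriviality S
  apply Polynomial.monic_X_pow_add
  calc (C a * X + C b : S[X]).degree ≤ 1 := Polynomial.degree_linear_le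
    _ < 2 := by norm_num

lemma f_natDegree [Nontrivial S] : (f S a b).natDegree = 2 := by
  unfold f
  have : (X ^ 2 + C a * X + C b : S[X]) = X ^ 2 + (C a * X + C b) := by ring
  rw [this]
  rw [Polynomial.natDegree_add_eq_left_of_natDegree_lt, Polynomial.natDegree_X_pow]
  rw [Polynomial.natDegree_X_pow]
  calc (C a * X + C b : S[X]).natDegree ≤ 1 := Polynomial.natDegree_linear_le
    _ < 2 := by norm_num

noncomputable abbrev I : Ideal S[X] := Ideal.span ({X ^ 2 + C a * X + C b} : Set S[X])

/-- the subalgebra -/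
noncomputable abbrev B : Subalgebra S S[X] :=
  (⊥ : Subalgebra S (S[X] ⧸ I S a b)).comap (Ideal.Quotient.mkₐ S (I S a b))

lemma mem_B_iff (p : S[X]) : p ∈ B S a b ↔ ∃ (c : S) (q : S[X]), p = C c + f S a b * q := by
  rw [Subalgebra.mem_comap, Algebra.mem_bot]
  constructor
  · rintro ⟨c, hc⟩
    have h1 : Ideal.Quotient.mk (I S a b) (C c) = Ideal.Quotient.mk (I S a b) p := hc
    rw [Ideal.Quotient.eq, Ideal.mem_span_singleton] at h1
    obtain ⟨q, hq⟩ := h1
    refine ⟨c, -q, ?_⟩
    unfold f
    linear_combination -hq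
  · rintro ⟨c, q, rfl⟩
    refine ⟨c, ?_⟩
    change Ideal.Quotient.mk (I S a b) (C c) = Ideal.Quotient.mk (I S a b) _
    rw [Ideal.Quotient.eq, Ideal.mem_span_singleton]
    exact ⟨-q, by unfold f; ring⟩

/-- the parametrisation `(c, q) ↦ c + f q` -/
noncomputable def param : (S × S[X]) →ₗ[S] S[X] where
  toFun x := C x.1 + f S a b * x.2
  map_add' x y := by simp only [Prod.fst_add, Prod.snd_add, map_add]; ring
  map_smul' r x := by
    simp only [Prod.smul_fst, Prod.smul_snd, smul_eq_mul, map_mul, RingHom.id_apply]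
    rw [Polynomial.smul_eq_C_mul, Polynomial.smul_eq_C_mul]; ring

lemma param_injective : Function.Injective (param S a b) := by
  rw [← LinearMap.ker_eq_bot, LinearMap.ker_eq_bot']
  rintro ⟨c, q⟩ h
  change C c + f S a b * q = 0 at h
  nontriviality S
  have hq : q = 0 := by
    by_contra hne
    have h1 : (f S a b * q).natDegree = 2 + q.natDegree := by
      rw [(f_monic S a b).natDegree_mul' hne, f_natDegree]
    have h2 : f S a b * q = - C c := by linear_combination h
    rw [h2, Polynomial.natDegree_neg, Polynomial.natDegree_C] at h1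
    omega
  rw [hq, mul_zero, add_zero] at h
  have hc : c = 0 := Polynomial.C_eq_zero.1 h
  rw [hq, hc]
  rfl

lemma range_param : LinearMap.range (param S a b) = Subalgebra.toSubmodule (B S a b) := by
  ext p
  rw [LinearMap.mem_range, Subalgebra.mem_toSubmodule, mem_B_iff]
  constructor
  · rintro ⟨⟨c, q⟩, rfl⟩
    exact ⟨c, q, rfl⟩
  · rintro ⟨c, q, rfl⟩
    exact ⟨⟨c, q⟩, rfl⟩

theorem free : Module.Free S (B S a b) := by
  have e1 : (S × S[X]) ≃ₗ[S] LinearMap.range (param S a b) :=
    LinearEquiv.ofInjective (param S a b) (param_injective S a b)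
  have e2 : LinearMap.range (param S a b) ≃ₗ[S] Subalgebra.toSubmodule (B S a b) :=
    LinearEquiv.ofEq _ _ (range_param S a b)
  exact Module.Free.of_equiv (e1.trans e2)

theorem finite : Module.Finite (B S a b) S[X] := by
  classical
  rw [Module.finite_def]
  refine ⟨{1, X}, ?_⟩
  rw [eq_top_iff]
  intro p _
  -- p = f * q + r, r = r0 + r1 X
  have hmon := f_monic S a b
  have hdiv : p %ₘ f S a b + f S a b * (p /ₘ f S a b) = p := Polynomial.modByMonic_add_div p (f S a b)
  set r := p %ₘ f S a b with hr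
  set q := p /ₘ f S a b with hq
  have hrdeg : r.natDegree ≤ 1 := by
    rcases subsingleton_or_nontrivial S with hS | hS
    · have : r = 0 := Subsingleton.elim _ _
      rw [this]; simp
    · by_cases hr0 : r = 0
      · rw [hr0]; simp
      · have h1 := Polynomial.degree_modByMonic_lt p hmon
        rw [Polynomial.degree_eq_natDegree hmon.ne_zero, f_natDegree, ← hr,
          ← Polynomial.natDegree_lt_iff_degree_lt hr0] at h1
        omega
  have hr' : r = C (r.coeff 1) * X + C (r.coeff 0) :=
    Polynomial.eq_X_add_C_of_degree_le_one (Polynomial.degree_le_of_natDegree_le hrdeg)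
  have m0 : (C (r.coeff 0) + f S a b * q) ∈ B S a b :=
    (mem_B_iff S a b _).2 ⟨_, _, rfl⟩
  have m1 : (C (r.coeff 1) : S[X]) ∈ B S a b :=
    (mem_B_iff S a b _).2 ⟨r.coeff 1, 0, by rw [mul_zero, add_zero]⟩
  have e : p = (⟨_, m0⟩ : B S a b) • (1 : S[X]) + (⟨_, m1⟩ : B S a b) • (X : S[X]) := by
    rw [Subalgebra.smul_def, Subalgebra.smul_def, smul_eq_mul, smul_eq_mul, mul_one]
    conv_lhs => rw [← hdiv, hr']
    ring
  rw [e]
  refine Submodule.add_mem _ (Submodule.smul_mem _ _ (Submodule.subset_span ?_))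
    (Submodule.smul_mem _ _ (Submodule.subset_span ?_))
  · simp
  · simp

end Groth.Agent.H2.CollapseQuad
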