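import Groth.Prelude.Def_HopfRep
import Mathlib.RingTheory.Flat.Basic
import Mathlib.RingTheory.Noetherian.Basic
import Mathlib.LinearAlgebra.TensorProduct.RightExactness

set_option autoImplicit false
universe u
open TensorProduct

namespace Groth.Agent.H2

section
variable {R : Type u} [CommRing R] {C : Type u} [AddCommGroup C] [Module R C] [Coalgebra R C]
  {V : Type u} [AddCommGroup V] [Module R V] [HopfRep.Comod R C V]

local notation "ρ" => (HopfRep.Comod.coact (k := R) (A := C) (V := V))

/-- (id ⊗ ε) ∘ ρ = id, read in `V`. -/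
lemma rid_counit_coact (x : V) :
    TensorProduct.rid R V ((CoalgebraStruct.counit (R := R) (A := C)).lTensor V (ρ x)) = x := by
  have := LinearMap.congr_fun (HopfRep.Comod.counit_comp (k := R) (A := C) (V := V)) x
  simp only [LinearMap.coe_comp, Function.comp_apply, LinearMap.flip_apply,
    TensorProduct.mk_apply] at this
  rw [this]
  simp

/-- The preimage under the coaction of `N ⊗ C`. -/
noncomputable def coactPre (N : Submodule R V) : Submodule R V :=
  Submodule.comap ρ (LinearMap.range (N.subtype.rTensor C))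

omit [HopfRep.Comod R C V] in
lemma rid_counit_rTensor_mem (N : Submodule R V) (y : N ⊗[R] C) :
    TensorProduct.rid R V ((CoalgebraStruct.counit (R := R) (A := C)).lTensor V
      (N.subtype.rTensor C y)) ∈ N := by
  induction y using TensorProduct.induction_on with
  | zero => simp
  | tmul n c => simp [Submodule.smul_mem]
  | add a b ha hb =>
    simp only [map_add]
    exact Submodule.add_mem _ ha hb

lemma coactPre_le (N : Submodule R V) : coactPre (C := C) N ≤ N := by
  intro x hx
  obtain ⟨y, hy⟩ := hx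
  rw [← rid_counit_coact (R := R) (C := C) x, ← hy]
  exact rid_counit_rTensor_mem N y


/-- the map `V → (V/N) ⊗ C` -/
noncomputable def coactQuot (N : Submodule R V) : V →ₗ[R] (V ⧸ N) ⊗[R] C :=
  N.mkQ.rTensor C ∘ₗ ρ

lemma coactPre_eq_ker (N : Submodule R V) :
    coactPre (C := C) N = LinearMap.ker (coactQuot (C := C) N) := by
  have hex : Function.Exact (N.subtype.rTensor C) (N.mkQ.rTensor C) :=
    rTensor_exact C (LinearMap.exact_subtype_mkQ N) (Submodule.mkQ_surjective N)
  ext x
  simp only [coactPre, coactQuot, Submodule.mem_comap, LinearMap.mem_ker, LinearMap.coe_comp,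
    Function.comp_apply]
  exact (hex (ρ x)).symm

lemma coactQuot_rTensor_coact (N : Submodule R V) (x : V) :
    (coactQuot (C := C) N).rTensor C (ρ x) =
      (TensorProduct.assoc R (V ⧸ N) C C).symm
        ((CoalgebraStruct.comul (R := R) (A := C)).lTensor (V ⧸ N) (coactQuot (C := C) N x)) := by
  have hco := LinearMap.congr_fun (HopfRep.Comod.coassoc (k := R) (A := C) (V := V)) x
  simp only [LinearMap.coe_comp, Function.comp_apply, LinearEquiv.coe_coe] at hco
  have h1 : (ρ).rTensor C (ρ x) = (TensorProduct.assoc R V C C).symm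
      ((CoalgebraStruct.comul (R := R) (A := C)).lTensor V (ρ x)) := by
    rw [← hco, LinearEquiv.symm_apply_apply]
  have hI : ((N.mkQ.rTensor C).rTensor C) ∘ₗ (TensorProduct.assoc R V C C).symm.toLinearMap =
      (TensorProduct.assoc R (V ⧸ N) C C).symm.toLinearMap ∘ₗ (N.mkQ.rTensor (C ⊗[R] C)) := by
    apply TensorProduct.ext_threefold'
    intro v c d
    simp
  have hII : (N.mkQ.rTensor (C ⊗[R] C)) ∘ₗ ((CoalgebraStruct.comul (R := R) (A := C)).lTensor V) =
      ((CoalgebraStruct.comul (R := R) (A := C)).lTensor (V ⧸ N)) ∘ₗ (N.mkQ.rTensor C) := by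
    rw [LinearMap.rTensor_comp_lTensor, LinearMap.lTensor_comp_rTensor]
  unfold coactQuot
  rw [LinearMap.rTensor_comp, LinearMap.comp_apply, h1]
  have e1 := LinearMap.congr_fun hI ((CoalgebraStruct.comul (R := R) (A := C)).lTensor V (ρ x))
  have e2 := LinearMap.congr_fun hII (ρ x)
  simp only [LinearMap.coe_comp, Function.comp_apply, LinearEquiv.coe_coe] at e1 e2
  rw [e1, e2]
  rfl

theorem isSubcomod_coactPre [Module.Flat R C] (N : Submodule R V) :
    HopfRep.IsSubcomod (k := R) (A := C) (coactPre (C := C) N) := by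
  rw [coactPre_eq_ker]
  intro x hx
  have hex : Function.Exact ((LinearMap.ker (coactQuot (C := C) N)).subtype.rTensor C)
      ((coactQuot (C := C) N).rTensor C) :=
    Module.Flat.rTensor_exact C (LinearMap.exact_subtype_ker_map _)
  apply (hex _).mp
  rw [coactQuot_rTensor_coact, LinearMap.mem_ker.mp hx, map_zero, map_zero]

theorem exists_fg_subcomod [IsNoetherianRing R] [Module.Flat R C] (M : Submodule R V) (hM : M.FG) :
    ∃ W : Submodule R V, HopfRep.IsSubcomod (k := R) (A := C) W ∧ M ≤ W ∧ W.FG := by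
  -- find a finitely generated N with ρ(M) ⊆ N ⊗ C
  have key : ∀ y : V ⊗[R] C, ∃ N : Submodule R V, N.FG ∧ y ∈ LinearMap.range (N.subtype.rTensor C) := by
    intro y
    induction y using TensorProduct.induction_on with
    | zero => exact ⟨⊥, Submodule.fg_bot, Submodule.zero_mem _⟩
    | tmul v c =>
      refine ⟨Submodule.span R {v}, Submodule.fg_span_singleton v, ?_⟩
      exact ⟨(⟨v, Submodule.mem_span_singleton_self v⟩ : Submodule.span R {v}) ⊗ₜ c, by simp⟩
    | add a b ha hb =>
      obtain ⟨N₁, h₁, ⟨y₁, hy₁⟩⟩ := ha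
      obtain ⟨N₂, h₂, ⟨y₂, hy₂⟩⟩ := hb
      refine ⟨N₁ ⊔ N₂, h₁.sup h₂, ?_⟩
      refine ⟨(Submodule.inclusion (le_sup_left : N₁ ≤ N₁ ⊔ N₂)).rTensor C y₁ +
        (Submodule.inclusion (le_sup_right : N₂ ≤ N₁ ⊔ N₂)).rTensor C y₂, ?_⟩
      rw [map_add, ← hy₁, ← hy₂, ← LinearMap.comp_apply, ← LinearMap.comp_apply,
        ← LinearMap.rTensor_comp, ← LinearMap.rTensor_comp]
      rfl
  obtain ⟨S, hS⟩ := hM
  choose N hNfg hN using fun m : V => key (ρ m)
  let N₀ : Submodule R V := ⨆ m ∈ S, N m
  have hN₀fg : N₀.FG := by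
    have : N₀ = S.sup N := by
      simp [N₀, Finset.sup_eq_iSup]
    rw [this]
    exact Submodule.fg_finset_sup S N fun m _ => hNfg m
  refine ⟨coactPre (C := C) N₀, isSubcomod_coactPre N₀, ?_, ?_⟩
  · rw [← hS, Submodule.span_le]
    intro m hm
    obtain ⟨y, hy⟩ := hN m
    have hle : N m ≤ N₀ := le_iSup₂_of_le m hm le_rfl
    refine ⟨(Submodule.inclusion hle).rTensor C y, ?_⟩
    rw [← hy, ← LinearMap.comp_apply, ← LinearMap.rTensor_comp]
    rfl
  · have : IsNoetherian R N₀ := isNoetherian_of_fg_of_noetherian N₀ hN₀fg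
    have hle := coactPre_le (C := C) N₀
    have hfg' : (Submodule.comap N₀.subtype (coactPre (C := C) N₀)).FG := IsNoetherian.noetherian _
    have := hfg'.map N₀.subtype
    rwa [Submodule.map_comap_subtype, inf_eq_right.mpr hle] at this

end
end Groth.Agent.H2
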