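import Mathlib
open CategoryTheory
universe v u

namespace Groth.Agent.H2.CompFiltered

variable {I : Type u} [Category.{v} I]

lemma exists_cocone_of_zigzag
    (h1 : ∀ ⦃w x y : I⦄ (a : w ⟶ x) (b : w ⟶ y), ∃ (z : I) (c : x ⟶ z) (d : y ⟶ z), a ≫ c = b ≫ d)
    {x y : I} (h : Zigzag x y) : ∃ (z : I) (_ : x ⟶ z) (_ : y ⟶ z), True := by
  induction h with
  | refl => exact ⟨x, 𝟙 x, 𝟙 x, trivial⟩
  | tail _ hz ih =>
    obtain ⟨z, f, g, -⟩ := ih
    rcases hz with ⟨⟨m⟩⟩ | ⟨⟨m⟩⟩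
    · obtain ⟨w, c, d, -⟩ := h1 g m
      exact ⟨w, f ≫ c, d, trivial⟩
    · exact ⟨z, f, m ≫ g, trivial⟩

theorem isFiltered_component
    (h1 : ∀ ⦃w x y : I⦄ (a : w ⟶ x) (b : w ⟶ y), ∃ (z : I) (c : x ⟶ z) (d : y ⟶ z), a ≫ c = b ≫ d)
    (h2 : ∀ ⦃x y : I⦄ (a b : x ⟶ y), ∃ (z : I) (c : y ⟶ z), a ≫ c = b ≫ c)
    (j : ConnectedComponents I) : IsFiltered j.Component := by
  have hmem : ∀ (X : j.Component) {z : I} (_ : X.obj ⟶ z), j.objectProperty z := by
    intro X z f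
    have : (Quotient.mk'' z : ConnectedComponents I) = Quotient.mk'' X.obj :=
      Quotient.sound' (Zigzag.of_hom f).symm
    exact this.trans X.property
  have : IsFilteredOrEmpty j.Component := by
    refine ⟨?_, ?_⟩
    · intro X Y
      have hz : Zigzag X.obj Y.obj := Quotient.exact' (X.property.trans Y.property.symm)
      obtain ⟨z, f, g, -⟩ := exists_cocone_of_zigzag h1 hz
      exact ⟨⟨z, hmem X f⟩, ObjectProperty.homMk f, ObjectProperty.homMk g, trivial⟩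
    · intro X Y f g
      obtain ⟨z, c, hc⟩ := h2 f.hom g.hom
      refine ⟨⟨z, hmem Y c⟩, ObjectProperty.homMk c, ?_⟩
      apply ObjectProperty.hom_ext
      simpa using hc
  exact { }

end Groth.Agent.H2.CompFiltered
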