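import Groth.Agent.Lib.Helper2.Brown8
import Mathlib.CategoryTheory.Triangulated.Generators
import Mathlib.CategoryTheory.Limits.Shapes.ZeroMorphisms

/-!
# Weakly compact objects: maps into coproducts factor through finite subsums
-/

universe v u

open CategoryTheory CategoryTheory.Limits Opposite Pretriangulated

namespace Groth.Agent.H2.CompGen

open Groth.Agent.H2.Brown

section FF

variable {D : Type u} [Category.{v} D] [Preadditive D] [HasCoproducts.{v} D]

/-- The subgroup of maps into a coproduct which are finite sums of maps into the summands. -/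
noncomputable def FF (C : D) {κ : Type v} (Z : κ → D) : AddSubgroup (C ⟶ ∐ Z) :=
  (CohDer.homSumToHomCoprod C Z).range

lemma comp_ι_mem {C : D} {κ : Type v} (Z : κ → D) (k : κ) (x : C ⟶ Z k) :
    x ≫ Sigma.ι Z k ∈ FF C Z := by
  classical
  refine ⟨DirectSum.of (fun k => C ⟶ Z k) k x, ?_⟩
  unfold CohDer.homSumToHomCoprod
  rw [DirectSum.toAddMonoid_of]
  rfl

lemma mem_FF_iff {C : D} {κ : Type v} (Z : κ → D) (α : C ⟶ ∐ Z) :
    α ∈ FF C Z ↔ ∃ (S : Finset κ) (x : ∀ k, C ⟶ Z k), α = ∑ k ∈ S, x k ≫ Sigma.ι Z k := by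
  constructor
  · rintro ⟨x, rfl⟩
    obtain ⟨S, hS⟩ := homSumToHomCoprod_apply C Z x
    exact ⟨S, fun k => x k, hS⟩
  · rintro ⟨S, x, rfl⟩
    exact AddSubgroup.sum_mem _ (fun k _ => comp_ι_mem Z k (x k))

lemma precomp_mem {C C' : D} {κ : Type v} (Z : κ → D) (v : C' ⟶ C) {α : C ⟶ ∐ Z}
    (hα : α ∈ FF C Z) : v ≫ α ∈ FF C' Z := by
  rw [mem_FF_iff] at hα ⊢
  obtain ⟨S, x, rfl⟩ := hα
  refine ⟨S, fun k => v ≫ x k, ?_⟩
  rw [Preadditive.comp_sum]
  refine Finset.sum_congr rfl (fun k _ => ?_)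
  rw [Category.assoc]

/-- Weakly compact objects. -/
def WC : ObjectProperty D := fun C =>
  ∀ (κ : Type v) (Z : κ → D) (α : C ⟶ ∐ Z), α ∈ FF C Z

lemma wc_of_isCompactObject {C : D} (hC : CohDer.IsCompactObject C) : WC C := by
  intro κ Z α
  exact (hC κ Z).2 α

instance : (WC (D := D)).IsStableUnderRetracts where
  of_retract := by
    intro C' C r hC κ Z α
    have h := precomp_mem Z r.i (hC κ Z (r.r ≫ α))
    rwa [← Category.assoc, r.retract, Category.id_comp] at h

end FF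

section tri

variable {D : Type u} [Category.{v} D] [Preadditive D] [HasZeroObject D] [HasShift D ℤ]
  [∀ n : ℤ, (shiftFunctor D n).Additive] [Pretriangulated D] [HasCoproducts.{v} D]

lemma wc_of_isZero {C : D} (hC : IsZero C) : WC C := by
  intro κ Z α
  rw [hC.eq_of_src α 0]
  exact zero_mem _

open Classical in
lemma wc_ext₂ (T : Triangle D) (hT : T ∈ distTriang D) (h₁ : WC T.obj₁) (h₃ : WC T.obj₃) :
    WC T.obj₂ := by
  intro κ Z α
  have hu := h₁ κ Z (T.mor₁ ≫ α)
  rw [mem_FF_iff] at hu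
  obtain ⟨S, x, hx⟩ := hu
  -- the idempotent projecting onto the summands in `S`
  have he : ∀ k ∈ S, Sigma.ι Z k ≫ (∑ j ∈ S, Sigma.π Z j ≫ Sigma.ι Z j) = Sigma.ι Z k := by
    intro k hk
    rw [Preadditive.comp_sum, Finset.sum_eq_single k]
    · rw [Sigma.ι_π_eq_id_assoc]
    · intro j _ hjk
      rw [Sigma.ι_π_of_ne_assoc _ (Ne.symm hjk), zero_comp]
    · intro h
      exact (h hk).elim
  have h0 : T.mor₁ ≫ (α ≫ (𝟙 _ - ∑ j ∈ S, Sigma.π Z j ≫ Sigma.ι Z j)) = 0 := by
    rw [← Category.assoc, hx, Preadditive.sum_comp]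
    apply Finset.sum_eq_zero
    intro k hk
    rw [Category.assoc, Preadditive.comp_sub, Category.comp_id, he k hk, sub_self, comp_zero]
  obtain ⟨β, hβ⟩ := Triangle.yoneda_exact₂ T hT _ h0
  have h1 : α ≫ (∑ j ∈ S, Sigma.π Z j ≫ Sigma.ι Z j) ∈ FF T.obj₂ Z := by
    rw [Preadditive.comp_sum]
    refine AddSubgroup.sum_mem _ (fun k _ => ?_)
    rw [← Category.assoc]
    exact comp_ι_mem Z k _
  have h2 : T.mor₂ ≫ β ∈ FF T.obj₂ Z := precomp_mem Z T.mor₂ (h₃ κ Z β)
  have h3 : α = α ≫ (∑ j ∈ S, Sigma.π Z j ≫ Sigma.ι Z j) + T.mor₂ ≫ β := by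
    rw [← hβ, Preadditive.comp_sub, Category.comp_id]
    abel
  rw [h3]
  exact add_mem h1 h2

/-- Weak compactness is preserved by equivalence-like functors. -/
lemma wc_map (G : D ⥤ D) [G.Full] [G.EssSurj] [G.Additive]
    [∀ κ : Type v, PreservesColimitsOfShape (Discrete κ) G] {C : D} (hC : WC C) :
    WC (G.obj C) := by
  intro κ Z α
  let Z' : κ → D := fun k => G.objPreimage (Z k)
  let ε : ∀ k, G.obj (Z' k) ≅ Z k := fun k => G.objObjPreimageIso (Z k)
  let d' : G.obj (∐ Z') ≅ ∐ (fun k => G.obj (Z' k)) := PreservesCoproduct.iso G Z'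
  obtain ⟨α', hα'⟩ := G.map_surjective (α ≫ Limits.Sigma.map (fun k => (ε k).inv) ≫ d'.inv)
  obtain ⟨S, x, hx⟩ := (mem_FF_iff Z' α').1 (hC κ Z' α')
  rw [mem_FF_iff]
  refine ⟨S, fun k => G.map (x k) ≫ (ε k).hom, ?_⟩
  have hd' : ∀ k, G.map (Sigma.ι Z' k) ≫ d'.hom = Sigma.ι (fun k => G.obj (Z' k)) k := by
    intro k
    rw [← cancel_mono d'.inv, Category.assoc, Iso.hom_inv_id, Category.comp_id,
      PreservesCoproduct.inv_hom]
    exact (ι_comp_sigmaComparison G _ k).symm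
  have hεε : Limits.Sigma.map (fun k => (ε k).inv) ≫ Limits.Sigma.map (fun k => (ε k).hom) =
      𝟙 _ := by
    apply Sigma.hom_ext
    intro k
    simp
  calc α = (α ≫ Limits.Sigma.map (fun k => (ε k).inv) ≫ d'.inv) ≫ d'.hom ≫
        Limits.Sigma.map (fun k => (ε k).hom) := by
        simp only [Category.assoc, Iso.inv_hom_id_assoc]
        rw [hεε, Category.comp_id]
    _ = G.map (∑ k ∈ S, x k ≫ Sigma.ι Z' k) ≫ d'.hom ≫
        Limits.Sigma.map (fun k => (ε k).hom) := by rw [← hα', hx]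
    _ = ∑ k ∈ S, (G.map (x k) ≫ (ε k).hom) ≫ Sigma.ι Z k := by
        rw [G.map_sum, Preadditive.sum_comp]
        refine Finset.sum_congr rfl (fun k _ => ?_)
        rw [G.map_comp, Category.assoc, ← Category.assoc (G.map (Sigma.ι Z' k)), hd',
          Sigma.ι_map, Category.assoc]

instance : (WC (D := D)).IsStableUnderShift ℤ where
  isStableUnderShiftBy a := ObjectProperty.IsStableUnderShiftBy.mk (fun C hC => by
    rw [ObjectProperty.prop_shift_iff]
    exact wc_map (shiftFunctor D a) hC)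

instance : (WC (D := D)).ContainsZero where
  exists_zero := by
    obtain ⟨Z, hZ⟩ := HasZeroObject.zero (C := D)
    exact ⟨Z, hZ, wc_of_isZero hZ⟩

instance : (WC (D := D)).IsTriangulatedClosed₂ :=
  ObjectProperty.IsTriangulatedClosed₂.mk' (fun T hT h₁ h₃ => wc_ext₂ T hT h₁ h₃)

instance : (WC (D := D)).IsTriangulated where

end tri

end Groth.Agent.H2.CompGen
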