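import Groth.Agent.Lib.Helper2.CompGen1

/-!
# Maps from compact objects into towers factor through the envelope of finitely many generators
-/

universe v u

open CategoryTheory CategoryTheory.Limits Opposite Pretriangulated

namespace Groth.Agent.H2.CompGen

variable {D : Type u} [Category.{v} D] [Preadditive D] [HasZeroObject D] [HasShift D ℤ]
  [∀ n : ℤ, (shiftFunctor D n).Additive] [Pretriangulated D] [IsTriangulated D]
variable {ι : Type*} (E : ι → D)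

/-- The triangulated envelope of a finite subfamily. -/
abbrev Env (s : Finset ι) : ObjectProperty D :=
  ObjectProperty.triangEnvelope (fun Y : D => ∃ i ∈ s, Y = E i)

lemma env_mono {s s' : Finset ι} (h : s ⊆ s') : Env E s ≤ Env E s' :=
  ObjectProperty.monotone_triangEnvelope (fun _ ⟨i, hi, hY⟩ => ⟨i, h hi, hY⟩)

lemma env_self (i : ι) {s : Finset ι} (hi : i ∈ s) : Env E s (E i) :=
  ObjectProperty.le_triangEnvelope _ _ ⟨i, hi, rfl⟩

lemma env_biprod {s : Finset ι} {A B : D} (hA : Env E s A) (hB : Env E s B) :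
    Env E s (A ⊞ B) :=
  (Env E s).ext_of_isTriangulatedClosed₂ _ (binaryBiproductTriangle_distinguished A B) hA hB

lemma env_ext₃ {s : Finset ι} (T : Triangle D) (hT : T ∈ distTriang D)
    (h₁ : Env E s T.obj₁) (h₂ : Env E s T.obj₂) : Env E s T.obj₃ :=
  (Env E s).ext_of_isTriangulatedClosed₂ _ (rot_of_distTriang _ hT) h₂
    ((Env E s).le_shift (1 : ℤ) _ h₁)

lemma env_exists_zero (i₀ : ι) : ∃ Z : D, IsZero Z ∧ Env E {i₀} Z := by
  haveI : ObjectProperty.Nonempty (fun Y : D => ∃ i ∈ ({i₀} : Finset ι), Y = E i) :=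
    ⟨⟨E i₀, i₀, Finset.mem_singleton_self _, rfl⟩⟩
  exact ObjectProperty.ContainsZero.exists_zero

/-- A morphism factors through an object of the envelope of finitely many members. -/
def Fac {C X : D} (φ : C ⟶ X) : Prop :=
  ∃ (s : Finset ι) (E' : D) (g : C ⟶ E') (h : E' ⟶ X), Env E s E' ∧ g ≫ h = φ

variable {E}

lemma Fac.of_env {C X : D} (φ : C ⟶ X) {s : Finset ι} (hX : Env E s X) : Fac E φ :=
  ⟨s, X, φ, 𝟙 _, hX, Category.comp_id _⟩

lemma Fac.postcomp {C X X' : D} {φ : C ⟶ X} (h : Fac E φ) (w : X ⟶ X') : Fac E (φ ≫ w) := by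
  obtain ⟨s, E', g, h, hE', rfl⟩ := h
  exact ⟨s, E', g, h ≫ w, hE', (Category.assoc _ _ _).symm⟩

lemma Fac.precomp {C C' X : D} {φ : C ⟶ X} (h : Fac E φ) (v : C' ⟶ C) : Fac E (v ≫ φ) := by
  obtain ⟨s, E', g, h, hE', rfl⟩ := h
  exact ⟨s, E', v ≫ g, h, hE', Category.assoc _ _ _⟩

lemma Fac.zero [Nonempty ι] {C X : D} : Fac E (0 : C ⟶ X) := by
  obtain ⟨i₀⟩ := ‹Nonempty ι›
  obtain ⟨Z, hZ, hZ'⟩ := env_exists_zero E i₀
  exact ⟨{i₀}, Z, 0, 0, hZ', comp_zero⟩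

open Classical in
lemma Fac.add {C X : D} {φ₁ φ₂ : C ⟶ X} (h₁ : Fac E φ₁) (h₂ : Fac E φ₂) : Fac E (φ₁ + φ₂) := by
  obtain ⟨s₁, E₁, g₁, k₁, hE₁, rfl⟩ := h₁
  obtain ⟨s₂, E₂, g₂, k₂, hE₂, rfl⟩ := h₂
  refine ⟨s₁ ∪ s₂, E₁ ⊞ E₂, biprod.lift g₁ g₂, biprod.desc k₁ k₂,
    env_biprod E (env_mono E Finset.subset_union_left _ hE₁)
      (env_mono E Finset.subset_union_right _ hE₂), ?_⟩
  rw [biprod.lift_desc]

end Groth.Agent.H2.CompGen
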