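import Groth.Agent.Lib.Helper2.CompGen2

/-!
# Maps from compact objects into towers factor through the envelope of finitely many generators:
the induction
-/

universe v u

open CategoryTheory CategoryTheory.Limits Opposite Pretriangulated

namespace Groth.Agent.H2.CompGen

variable {D : Type u} [Category.{v} D] [Preadditive D] [HasZeroObject D] [HasShift D ℤ]
  [∀ n : ℤ, (shiftFunctor D n).Additive] [Pretriangulated D] [IsTriangulated D]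
  [HasCoproducts.{v} D]
variable {ι : Type*} {E : ι → D}

lemma env_le_wc (hE : ∀ i, WC (E i)) (s : Finset ι) : Env E s ≤ WC := by
  rw [ObjectProperty.triangEnvelope_le_iff]
  rintro Y ⟨i, -, rfl⟩
  exact hE i

lemma fac_of_coprod [Nonempty ι] {κ : Type v} (Z : κ → D) (hZ : ∀ k, ∃ i, Env E {i} (Z k))
    {C : D} (hC : WC C) (α : C ⟶ ∐ Z) : Fac E α := by
  obtain ⟨S, x, rfl⟩ := (mem_FF_iff Z α).1 (hC κ Z α)
  refine Finset.sum_induction _ (fun φ : C ⟶ ∐ Z => Fac E φ) (fun _ _ h₁ h₂ => h₁.add h₂)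
    Fac.zero ?_
  intro k _
  obtain ⟨i, hi⟩ := hZ k
  exact (Fac.of_env (x k) hi).postcomp _

theorem fac_tower [Nonempty ι] (hE : ∀ i, WC (E i)) (K : ℕ → D) (f : ∀ n, K n ⟶ K (n + 1))
    (h0 : ∃ (κ : Type v) (Z : κ → D), (∀ k, ∃ i, Env E {i} (Z k)) ∧ Nonempty (K 0 ≅ ∐ Z))
    (hstep : ∀ n, ∃ (κ : Type v) (Z : κ → D), (∀ k, ∃ i, Env E {i} (Z k)) ∧
      ∃ (y : ∐ Z ⟶ K n) (z : K (n + 1) ⟶ (∐ Z)⟦(1 : ℤ)⟧),
        Triangle.mk y (f n) z ∈ distTriang D)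
    (n : ℕ) : ∀ (C : D), WC C → ∀ φ : C ⟶ K n, Fac E φ := by
  classical
  induction n with
  | zero =>
    intro C hC φ
    obtain ⟨κ, Z, hZ, ⟨e0⟩⟩ := h0
    have h := (fac_of_coprod Z hZ hC (φ ≫ e0.hom)).postcomp e0.inv
    rwa [Category.assoc, Iso.hom_inv_id, Category.comp_id] at h
  | succ n ih =>
    intro C hC φ
    obtain ⟨κ, Z, hZ, y, z, hT⟩ := hstep n
    -- the composite into the shifted coproduct factors through the envelope
    have hψ : Fac E (φ ≫ z) := by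
      have hZ' : ∀ k, ∃ i, Env E {i} ((Z k)⟦(1 : ℤ)⟧) := fun k => by
        obtain ⟨i, hi⟩ := hZ k
        exact ⟨i, (Env E {i}).le_shift (1 : ℤ) _ hi⟩
      have h := (fac_of_coprod (fun k => (Z k)⟦(1 : ℤ)⟧) hZ' hC
        ((φ ≫ z) ≫ (PreservesCoproduct.iso (shiftFunctor D (1 : ℤ)) Z).hom)).postcomp
          (PreservesCoproduct.iso (shiftFunctor D (1 : ℤ)) Z).inv
      rwa [Category.assoc, Iso.hom_inv_id, Category.comp_id] at h
    obtain ⟨s₁, F₁, g₁, h₁, hF₁, hgh⟩ := hψ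
    obtain ⟨C', u, w, hT'⟩ := distinguished_cocone_triangle₁ g₁
    have hC' : WC C' :=
      (WC (D := D)).ext_of_isTriangulatedClosed₁ _ hT' hC (env_le_wc hE s₁ _ hF₁)
    have hug : u ≫ g₁ = 0 := comp_distTriang_mor_zero₁₂ _ hT'
    have h0' : (u ≫ φ) ≫ z = 0 := by
      rw [Category.assoc, ← hgh, ← Category.assoc, hug, zero_comp]
    obtain ⟨φ', hφ'⟩ : ∃ φ' : C' ⟶ K n, u ≫ φ = φ' ≫ f n :=
      Triangle.coyoneda_exact₃ _ hT (u ≫ φ) h0'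
    obtain ⟨s'', E'', g', h', hE'', hgh'⟩ := ih C' hC' φ'
    -- the rotated triangle
    obtain ⟨t, g₁', hR⟩ : ∃ (t : F₁⟦(-1 : ℤ)⟧ ⟶ C') (g₁' : C ⟶ (F₁⟦(-1 : ℤ)⟧)⟦(1 : ℤ)⟧),
        Triangle.mk t u g₁' ∈ distTriang D := ⟨_, _, inv_rot_of_distTriang _ hT'⟩
    have htu : t ≫ u = 0 := comp_distTriang_mor_zero₁₂ _ hR
    obtain ⟨E', a, b, hTE⟩ := distinguished_cocone_triangle (t ≫ g')
    have hE' : Env E (s₁ ∪ s'') E' :=
      env_ext₃ E _ hTE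
        ((Env E (s₁ ∪ s'')).le_shift (-1 : ℤ) _ (env_mono E Finset.subset_union_left _ hF₁))
        (env_mono E Finset.subset_union_right _ hE'')
    obtain ⟨γ, hγ'⟩ : ∃ γ : C ⟶ E', u ≫ γ = g' ≫ a := by
      obtain ⟨γ, hγ, -⟩ := complete_distinguished_triangle_morphism _ _ hR hTE (𝟙 _) g'
        (by
          change t ≫ g' = 𝟙 _ ≫ (t ≫ g')
          rw [Category.id_comp])
      exact ⟨γ, hγ⟩
    have h0'' : (t ≫ φ') ≫ f n = 0 := by
      rw [Category.assoc, ← hφ', ← Category.assoc, htu, zero_comp]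
    obtain ⟨lam, hlam⟩ : ∃ lam : F₁⟦(-1 : ℤ)⟧ ⟶ ∐ Z, t ≫ φ' = lam ≫ y :=
      Triangle.coyoneda_exact₂ _ hT (t ≫ φ') h0''
    obtain ⟨η, hη'⟩ : ∃ η : E' ⟶ K (n + 1), a ≫ η = h' ≫ f n := by
      obtain ⟨η, hη, -⟩ := complete_distinguished_triangle_morphism _ _ hTE hT lam h'
        (by
          change (t ≫ g') ≫ h' = lam ≫ y
          rw [Category.assoc, hgh', hlam])
      exact ⟨η, hη⟩
    have h3 : u ≫ (φ - γ ≫ η) = 0 := by
      rw [Preadditive.comp_sub, hφ', ← Category.assoc u, hγ', Category.assoc, hη',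
        ← Category.assoc, hgh', sub_self]
    obtain ⟨θ, hθ⟩ : ∃ θ : F₁ ⟶ K (n + 1), φ - γ ≫ η = g₁ ≫ θ :=
      Triangle.yoneda_exact₂ _ hT' (φ - γ ≫ η) h3
    have h4 : φ = γ ≫ η + g₁ ≫ θ := by
      rw [← hθ]
      abel
    rw [h4]
    exact Fac.add ⟨s₁ ∪ s'', E', γ, η, hE', rfl⟩ ⟨s₁, F₁, g₁, θ, hF₁, rfl⟩

end Groth.Agent.H2.CompGen
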