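import Groth.Agent.Lib.Helper2.CompGen3
import Groth.Prelude.Def_DerLim

/-!
# Maps from weakly compact objects into homotopy colimits factor through a stage
-/

universe v u

open CategoryTheory CategoryTheory.Limits Opposite Pretriangulated

namespace Groth.Agent.H2.CompGen

section nat

variable {D : Type u} [Category.{v} D] [Preadditive D] [HasCoproducts.{v} D]
  [HasColimitsOfShape (Discrete ℕ) D]

lemma wc_nat {C : D} (hC : WC C) (Z : ℕ → D) (α : C ⟶ ∐ Z) :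
    ∃ (S : Finset ℕ) (x : ∀ k, C ⟶ Z k), α = ∑ k ∈ S, x k ≫ Sigma.ι Z k := by
  let Z' : ULift.{v} ℕ → D := Z ∘ Equiv.ulift
  let r : ∐ Z' ≅ ∐ Z := Sigma.reindex Equiv.ulift Z
  obtain ⟨S, x, hx⟩ := (mem_FF_iff Z' _).1 (hC _ Z' (α ≫ r.inv))
  refine ⟨S.map Equiv.ulift.toEmbedding, fun k => x ⟨k⟩, ?_⟩
  rw [Finset.sum_map]
  calc α = (α ≫ r.inv) ≫ r.hom := by rw [Category.assoc, Iso.inv_hom_id, Category.comp_id]
    _ = _ := by
      rw [hx, Preadditive.sum_comp]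
      refine Finset.sum_congr rfl (fun k _ => ?_)
      rw [Category.assoc]
      congr 1
      exact Sigma.ι_reindex_hom Equiv.ulift Z k

lemma eq_sum_proj (Z : ℕ → D) {C : D} (α : C ⟶ ∐ Z) (S : Finset ℕ) (x : ∀ k, C ⟶ Z k)
    (h : α = ∑ k ∈ S, x k ≫ Sigma.ι Z k) :
    α = ∑ k ∈ S, (α ≫ Sigma.π Z k) ≫ Sigma.ι Z k := by
  have hx : ∀ j ∈ S, α ≫ Sigma.π Z j = x j := by
    intro j hj
    rw [h, Preadditive.sum_comp, Finset.sum_eq_single j]
    · rw [Category.assoc, Sigma.ι_π_eq_id, Category.comp_id]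
    · intro k _ hkj
      rw [Category.assoc, Sigma.ι_π_of_ne _ hkj, comp_zero]
    · intro hj'
      exact (hj' hj).elim
  conv_lhs => rw [h]
  exact Finset.sum_congr rfl (fun j hj => by rw [hx j hj])

variable (K : ℕ → D) (f : ∀ n, K n ⟶ K (n + 1))

lemma ι_shiftMap (n : ℕ) :
    Sigma.ι K n ≫ DerLim.shiftMap K f = f n ≫ Sigma.ι K (n + 1) := by
  dsimp only [DerLim.shiftMap]
  rw [Sigma.ι_desc]

lemma shiftMap_π_zero : DerLim.shiftMap K f ≫ Sigma.π K 0 = 0 := by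
  apply Sigma.hom_ext
  intro k
  rw [← Category.assoc, ι_shiftMap, Category.assoc, Sigma.ι_π_of_ne _ (Nat.succ_ne_zero k),
    comp_zero, comp_zero]

lemma shiftMap_π_succ (j : ℕ) :
    DerLim.shiftMap K f ≫ Sigma.π K (j + 1) = Sigma.π K j ≫ f j := by
  apply Sigma.hom_ext
  intro k
  rw [← Category.assoc, ι_shiftMap, Category.assoc, ← Category.assoc (Sigma.ι K k)]
  by_cases hkj : k = j
  · subst hkj
    rw [Sigma.ι_π_eq_id, Sigma.ι_π_eq_id, Category.comp_id, Category.id_comp]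
  · rw [Sigma.ι_π_of_ne _ hkj, Sigma.ι_π_of_ne _ (fun h => hkj (Nat.succ_injective h)),
      comp_zero, zero_comp]

lemma eq_zero_of_comp_shiftMap {C : D} (hC : WC C) (α : C ⟶ ∐ K)
    (hα : α ≫ DerLim.shiftMap K f = α) : α = 0 := by
  have hy : ∀ j, α ≫ Sigma.π K j = 0 := by
    intro j
    induction j with
    | zero => rw [← hα, Category.assoc, shiftMap_π_zero, comp_zero]
    | succ j ih => rw [← hα, Category.assoc, shiftMap_π_succ, ← Category.assoc, ih, zero_comp]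
  obtain ⟨S, x, hx⟩ := wc_nat hC K α
  rw [eq_sum_proj K α S x hx]
  apply Finset.sum_eq_zero
  intro k _
  rw [hy, zero_comp]

end nat

section hocolim

variable {D : Type u} [Category.{v} D] [Preadditive D] [HasZeroObject D] [HasShift D ℤ]
  [∀ n : ℤ, (shiftFunctor D n).Additive] [Pretriangulated D] [HasCoproducts.{v} D]
  [HasColimitsOfShape (Discrete ℕ) D]
variable (K : ℕ → D) (f : ∀ n, K n ⟶ K (n + 1))

lemma eq_zero_of_comp_shift_shiftMap {C : D} (hC : WC C) (α : C ⟶ (∐ K)⟦(1 : ℤ)⟧)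
    (hα : α ≫ (𝟙 _ - DerLim.shiftMap K f)⟦(1 : ℤ)⟧' = 0) : α = 0 := by
  let e : (C⟦(-1 : ℤ)⟧)⟦(1 : ℤ)⟧ ≅ C := (shiftFunctorCompIsoId D (-1 : ℤ) 1 (by omega)).app C
  obtain ⟨α', hα'⟩ := (shiftFunctor D (1 : ℤ)).map_surjective (e.hom ≫ α)
  have h1 : α' ≫ (𝟙 _ - DerLim.shiftMap K f) = 0 := by
    apply (shiftFunctor D (1 : ℤ)).map_injective
    rw [Functor.map_comp, hα', Functor.map_zero, Category.assoc, hα, comp_zero]
  have h2 : α' ≫ DerLim.shiftMap K f = α' := by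
    rw [Preadditive.comp_sub, Category.comp_id, sub_eq_zero] at h1
    exact h1.symm
  have h3 : α' = 0 :=
    eq_zero_of_comp_shiftMap K f ((WC (D := D)).le_shift (-1 : ℤ) _ hC) α' h2
  rw [h3, Functor.map_zero] at hα'
  rw [← cancel_epi e.hom, comp_zero, ← hα']

variable {K f}

lemma hocolim_comp_eq {L : D} {i : ∀ n, K n ⟶ L} (h : DerLim.IsHocolim K f L i) (n : ℕ) :
    i n = f n ≫ i (n + 1) := by
  obtain ⟨c, hT⟩ := h
  have h0 : (𝟙 _ - DerLim.shiftMap K f) ≫ Sigma.desc i = 0 := comp_distTriang_mor_zero₁₂ _ hT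
  have h1 := congrArg (fun g => Sigma.ι K n ≫ g) h0
  simp only [Preadditive.sub_comp, Category.id_comp, Preadditive.comp_sub, Sigma.ι_desc,
    comp_zero] at h1
  rw [← Category.assoc, ι_shiftMap, Category.assoc, Sigma.ι_desc, sub_eq_zero] at h1
  exact h1

lemma hocolim_exists_trans {L : D} {i : ∀ n, K n ⟶ L} (h : DerLim.IsHocolim K f L i)
    (N : ℕ) : ∀ k, k ≤ N → ∃ g : K k ⟶ K N, i k = g ≫ i N := by
  induction N with
  | zero =>
    intro k hk
    obtain rfl : k = 0 := Nat.le_zero.1 hk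
    exact ⟨𝟙 _, (Category.id_comp _).symm⟩
  | succ N ih =>
    intro k hk
    rcases Nat.lt_or_ge k (N + 1) with hlt | hge
    · obtain ⟨g, hg⟩ := ih k (Nat.lt_succ_iff.1 hlt)
      exact ⟨g ≫ f N, by rw [Category.assoc, ← hocolim_comp_eq h N, hg]⟩
    · obtain rfl : k = N + 1 := le_antisymm hk hge
      exact ⟨𝟙 _, (Category.id_comp _).symm⟩

/-- Maps from weakly compact objects into a homotopy colimit factor through a stage. -/
theorem hocolim_exists_factor {L : D} {i : ∀ n, K n ⟶ L} (h : DerLim.IsHocolim K f L i)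
    {C : D} (hC : WC C) (φ : C ⟶ L) : ∃ (n : ℕ) (φ' : C ⟶ K n), φ = φ' ≫ i n := by
  classical
  have h' := h
  obtain ⟨c, hT⟩ := h'
  have hc : c ≫ (𝟙 _ - DerLim.shiftMap K f)⟦(1 : ℤ)⟧' = 0 := comp_distTriang_mor_zero₃₁ _ hT
  have h0 : φ ≫ c = 0 :=
    eq_zero_of_comp_shift_shiftMap K f hC (φ ≫ c) (by rw [Category.assoc, hc, comp_zero])
  obtain ⟨φ'', hφ''⟩ : ∃ φ'' : C ⟶ ∐ K, φ = φ'' ≫ Sigma.desc i :=
    Triangle.coyoneda_exact₃ _ hT φ h0
  obtain ⟨S, x, hx⟩ := wc_nat hC K φ''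
  have key : ∀ (S : Finset ℕ), ∃ (n : ℕ) (φ' : C ⟶ K n),
      ∑ k ∈ S, x k ≫ i k = φ' ≫ i n := by
    intro S
    induction S using Finset.induction_on with
    | empty => exact ⟨0, 0, by rw [Finset.sum_empty, zero_comp]⟩
    | insert k S hk ih =>
      obtain ⟨n, φ', hφ'⟩ := ih
      obtain ⟨g, hg⟩ := hocolim_exists_trans h (max k n) k (le_max_left _ _)
      obtain ⟨g', hg'⟩ := hocolim_exists_trans h (max k n) n (le_max_right _ _)
      refine ⟨max k n, x k ≫ g + φ' ≫ g', ?_⟩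
      rw [Finset.sum_insert hk, hφ', Preadditive.add_comp, Category.assoc, Category.assoc,
        ← hg, ← hg']
  obtain ⟨n, φ', hφ'⟩ := key S
  refine ⟨n, φ', ?_⟩
  rw [hφ'', hx, Preadditive.sum_comp, ← hφ']
  refine Finset.sum_congr rfl (fun k _ => ?_)
  rw [Category.assoc, Sigma.ι_desc]

end hocolim

end Groth.Agent.H2.CompGen
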