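import Groth.Agent.Lib.Helper2.Hopres1

/-!
# Presenting objects as homotopy colimits of towers built from a generating family, II
-/

universe v u

open CategoryTheory CategoryTheory.Limits Opposite Pretriangulated
open CategoryTheory.Pretriangulated.Opposite

namespace Groth.Agent.H2.Brown

section yel

variable {D : Type u} [Category.{v} D] [Preadditive D]

/-- A morphism as an element of the preadditive Yoneda functor. -/
def yel {Y X : D} (g : Y ⟶ X) : (preadditiveYoneda.obj X).obj (op Y) := g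

/-- An element of the preadditive Yoneda functor as a morphism. -/
def yun {Y X : D} (x : (preadditiveYoneda.obj X).obj (op Y)) : Y ⟶ X := x

@[simp] lemma yel_yun {Y X : D} (x : (preadditiveYoneda.obj X).obj (op Y)) : yel (yun x) = x := rfl

@[simp] lemma yun_yel {Y X : D} (g : Y ⟶ X) : yun (yel g) = g := rfl

lemma pull_yel {Y Y' X : D} (g : Y ⟶ X) (f : Y' ⟶ Y) :
    pull (preadditiveYoneda.obj X) (yel g) f = yel (f ≫ g) := rfl

lemma yun_pull {Y Y' X : D} (x : (preadditiveYoneda.obj X).obj (op Y)) (f : Y' ⟶ Y) :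
    yun (pull (preadditiveYoneda.obj X) x f) = f ≫ yun x := rfl

end yel

variable {D : Type u} [Category.{v} D] [Preadditive D] [HasZeroObject D] [HasShift D ℤ]
  [∀ n : ℤ, (shiftFunctor D n).Additive] [Pretriangulated D] [HasCoproducts.{v} D]
  [HasColimitsOfShape (Discrete ℕ) D]
variable {ι' : Type v} {Ê : ι' → D}

lemma good_yoneda (X : D) : Good (H := preadditiveYoneda.obj X) Ê X (yel (𝟙 X)) := by
  intro e
  constructor
  · intro f g hfg
    have h : f ≫ 𝟙 X = g ≫ 𝟙 X := hfg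
    simpa using h
  · intro b
    refine ⟨yun b, ?_⟩
    change yel (yun b ≫ 𝟙 X) = b
    rw [Category.comp_id, yel_yun]

theorem exists_hocolim_presentation
    (h1 : ∀ X : D, ¬ IsZero X → ∃ (e : ι') (f : Ê e ⟶ X), f ≠ 0)
    (hF : ∀ e, Fact Ê (Ê e))
    (hS : ∀ e, ∃ e', Nonempty ((Ê e')⟦(1 : ℤ)⟧ ≅ Ê e)) (X : D) :
    ∃ (K : ℕ → D) (f : ∀ n, K n ⟶ K (n + 1)) (i : ∀ n, K n ⟶ X),
      DerLim.IsHocolim K f X i ∧
      (∃ (κ : Type v) (c : κ → ι'), Nonempty (K 0 ≅ ∐ (fun k => Ê (c k)))) ∧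
      ∀ n, ∃ (κ : Type v) (c : κ → ι') (y : (∐ fun k => Ê (c k)) ⟶ K n)
        (z : K (n + 1) ⟶ (∐ fun k => Ê (c k))⟦(1 : ℤ)⟧),
        Triangle.mk y (f n) z ∈ distTriang D := by
  obtain ⟨S⟩ := exists_stower (preadditiveYoneda.obj X) Ê
  obtain ⟨L⟩ := S.toTower.exists_hocolim
  have hu : IsIso (yun L.ah) :=
    Good.isIso h1 hS (L.bijective hF hS) (good_yoneda X) (yun L.ah) (by
      rw [pull_yel, Category.comp_id, yel_yun])
  refine ⟨S.X, S.φ, fun n => yun (S.a n), ⟨inv (yun L.ah) ≫ L.q, ?_⟩, S.shape0, S.shapeS⟩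
  refine isomorphic_distinguished _ L.dist _ ?_
  refine Triangle.isoMk _ _ (Iso.refl _) (Iso.refl _) (asIso (yun L.ah)).symm ?_ ?_ ?_
  · change (𝟙 _ - S.sh) ≫ 𝟙 _ = 𝟙 _ ≫ (𝟙 _ - S.sh)
    rw [Category.comp_id, Category.id_comp]
  · change (Sigma.desc fun n => yun (S.a n)) ≫ inv (yun L.ah) = 𝟙 _ ≫ L.p
    rw [Category.id_comp, ← cancel_mono (yun L.ah), Category.assoc, IsIso.inv_hom_id,
      Category.comp_id]
    apply Sigma.hom_ext
    intro n
    rw [Sigma.ι_desc, ← Category.assoc, ← yun_pull, L.hah]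
  · change (inv (yun L.ah) ≫ L.q) ≫ (shiftFunctor D (1 : ℤ)).map (𝟙 _) = inv (yun L.ah) ≫ L.q
    rw [CategoryTheory.Functor.map_id, Category.comp_id]

end Groth.Agent.H2.Brown
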