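import Groth.Agent.Lib.Helper2.CompGen4
import Groth.Agent.Lib.Helper2.Hopres2

/-!
# Compact generators versus classical generators
-/

universe v u

open CategoryTheory CategoryTheory.Limits Opposite Pretriangulated

namespace Groth.Agent.H2.CompGen

open Groth.Agent.H2.Brown

section orth

variable {D : Type u} [Category.{v} D] [Preadditive D] [HasZeroObject D] [HasShift D ℤ]
  [∀ n : ℤ, (shiftFunctor D n).Additive] [Pretriangulated D]

/-- Objects all of whose maps to all shifts of `K` vanish. -/
def LOrth (K : D) : ObjectProperty D := fun Y => ∀ (n : ℤ) (f : Y ⟶ K⟦n⟧), f = 0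

variable (K : D)

instance : (LOrth K).IsStableUnderRetracts where
  of_retract := by
    intro Y' Y r hY n f
    have h := hY n (r.r ≫ f)
    rw [← Category.id_comp f, ← r.retract, Category.assoc, h, comp_zero]

instance : (LOrth K).ContainsZero where
  exists_zero := by
    obtain ⟨Z, hZ⟩ := HasZeroObject.zero (C := D)
    exact ⟨Z, hZ, fun n f => hZ.eq_of_src _ _⟩

instance : (LOrth K).IsStableUnderShift ℤ where
  isStableUnderShiftBy b := ObjectProperty.IsStableUnderShiftBy.mk (fun Y hY => by
    rw [ObjectProperty.prop_shift_iff]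
    intro n f
    let u : Y ≅ (Y⟦b⟧)⟦-b⟧ := ((shiftFunctorCompIsoId D b (-b) (by omega)).app Y).symm
    let w : (K⟦n⟧)⟦-b⟧ ≅ K⟦n + -b⟧ := ((shiftFunctorAdd' D n (-b) (n + -b) rfl).app K).symm
    have h := hY (n + -b) (u.hom ≫ f⟦-b⟧' ≫ w.hom)
    rw [← cancel_epi u.inv, Iso.inv_hom_id_assoc, comp_zero, ← cancel_mono w.inv,
      Category.assoc, Iso.hom_inv_id, Category.comp_id, zero_comp] at h
    apply (shiftFunctor D (-b)).map_injective
    rw [Functor.map_zero]
    exact h)

instance : (LOrth K).IsTriangulatedClosed₂ :=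
  ObjectProperty.IsTriangulatedClosed₂.mk' (fun T hT h₁ h₃ n f => by
    have h0 : T.mor₁ ≫ f = 0 := h₁ n _
    obtain ⟨g, hg⟩ := Triangle.yoneda_exact₂ T hT f h0
    rw [hg, h₃ n g, comp_zero])

instance : (LOrth K).IsTriangulated where

lemma generates_of_envelope {ι : Type*} (E' : ι → D) (hg : CohDer.Generates E')
    (P : ObjectProperty D) (hP : ∀ i, P.triangEnvelope (E' i)) :
    ∀ (K : D), (∀ Y, P Y → ∀ (n : ℤ) (f : Y ⟶ K⟦n⟧), f = 0) → IsZero K := by
  intro K hK
  apply hg
  intro i n f
  have hle : P.triangEnvelope ≤ LOrth K := by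
    rw [ObjectProperty.triangEnvelope_le_iff]
    exact fun Y hY => hK Y hY
  exact hle _ (hP i) n f

end orth

section main

variable {D : Type u} [Category.{v} D] [Preadditive D] [HasZeroObject D] [HasShift D ℤ]
  [∀ n : ℤ, (shiftFunctor D n).Additive] [Pretriangulated D] [IsTriangulated D]
  [HasCoproducts.{v} D] [HasColimitsOfShape (Discrete ℕ) D]

/-- Every compact object lies in the envelope of a generating family of compact objects
(more precisely, in the envelope of finitely many of its members). -/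
theorem exists_env_of_isCompactObject {ι : Type v} [Nonempty ι] (E : ι → D)
    (hc : ∀ i, CohDer.IsCompactObject (E i)) (hg : CohDer.Generates E) (X : D)
    (hX : CohDer.IsCompactObject X) : ∃ s : Finset ι, Env E s X := by
  have hpres := exists_hocolim_presentation
    (Ê := fun p : ι × ℤ => (shiftFunctor D p.2).obj (E p.1))
    (fun X hX => by
      obtain ⟨i, n, f, hf⟩ := detects_of_generates E hg X hX
      exact ⟨(i, n), f, hf⟩)
    (by
      rintro ⟨i, k⟩
      have hi : Fact E (E i) := fact_of_isCompactObject E i (hc i)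
      have := Fact.map hi (shiftFunctor D k)
      exact Fact.reindex (fun i' => (i', k)) (fun _ => rfl) this)
    (by
      rintro ⟨i, k⟩
      exact ⟨(i, k - 1), ⟨((shiftFunctorAdd' D (k - 1) 1 k (by omega)).app (E i)).symm⟩⟩) X
  obtain ⟨K, f, i, hK, ⟨κ, c, hiso⟩, hstep⟩ := hpres
  obtain ⟨n, φ', hφ'⟩ := hocolim_exists_factor hK (wc_of_isCompactObject hX) (𝟙 X)
  have hshape : ∀ {κ : Type v} (c : κ → ι × ℤ) (k : κ),
      ∃ i, Env E {i} ((shiftFunctor D (c k).2).obj (E (c k).1)) :=
    fun c k => ⟨(c k).1, (Env E {(c k).1}).le_shift (c k).2 _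
      (env_self E (c k).1 (Finset.mem_singleton_self _))⟩
  obtain ⟨s, E'', g, h, hE'', hgh⟩ := fac_tower (E := E)
    (fun i => wc_of_isCompactObject (hc i)) K f
    ⟨κ, fun k => (shiftFunctor D (c k).2).obj (E (c k).1), hshape c, hiso⟩
    (fun n => by
      obtain ⟨κ, c, y, z, hT⟩ := hstep n
      exact ⟨κ, fun k => (shiftFunctor D (c k).2).obj (E (c k).1), hshape c, y, z, hT⟩)
    n X (wc_of_isCompactObject hX) φ'
  refine ⟨s, (Env E s).prop_of_retract ⟨g, h ≫ i n, ?_⟩ hE''⟩
  rw [← Category.assoc, hgh, ← hφ']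

end main

end Groth.Agent.H2.CompGen
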