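import Groth.Agent.Lib.Helper2.CompGen1

/-!
# Compact objects are the weakly compact objects
-/

universe v u

open CategoryTheory CategoryTheory.Limits Opposite Pretriangulated

namespace Groth.Agent.H2.CompGen

open Groth.Agent.H2.Brown

section

variable {D : Type u} [Category.{v} D] [Preadditive D] [HasCoproducts.{v} D]

open Classical in
lemma homSumToHomCoprod_apply' (K : D) {κ : Type v} (X : κ → D)
    (x : DirectSum κ (fun k => K ⟶ X k)) :
    ∃ S : Finset κ, (∀ k, k ∉ S → x k = 0) ∧
      CohDer.homSumToHomCoprod K X x = ∑ k ∈ S, x k ≫ Sigma.ι X k := by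
  refine ⟨DFinsupp.support x, fun k hk => DFinsupp.notMem_support_iff.1 hk, ?_⟩
  unfold CohDer.homSumToHomCoprod
  simp only [DirectSum.toAddMonoid, DFinsupp.liftAddHom, AddEquiv.coe_mk]
  exact DFinsupp.sumAddHom_apply _ x

open Classical in
lemma homSumToHomCoprod_injective (K : D) {κ : Type v} (X : κ → D) :
    Function.Injective (CohDer.homSumToHomCoprod K X) := by
  rw [injective_iff_map_eq_zero]
  intro x hx
  obtain ⟨S, hS, hsum⟩ := homSumToHomCoprod_apply' K X x
  rw [hx] at hsum
  apply DFinsupp.ext
  intro j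
  by_cases hj : j ∈ S
  · have h := congrArg (fun g => g ≫ Sigma.π X j) hsum
    simp only [zero_comp, Preadditive.sum_comp] at h
    rw [Finset.sum_eq_single j] at h
    · rw [Category.assoc, Sigma.ι_π_eq_id, Category.comp_id] at h
      exact h.symm
    · intro k _ hkj
      rw [Category.assoc, Sigma.ι_π_of_ne _ hkj, comp_zero]
    · intro hj'
      exact (hj' hj).elim
  · exact hS j hj

lemma isCompactObject_iff_wc (C : D) : CohDer.IsCompactObject C ↔ WC C :=
  ⟨wc_of_isCompactObject, fun h κ Z => ⟨homSumToHomCoprod_injective C Z, fun α => h κ Z α⟩⟩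

lemma isCompactObject_eq_wc : (fun K : D => CohDer.IsCompactObject K) = WC := by
  funext C
  exact propext (isCompactObject_iff_wc C)

end

end Groth.Agent.H2.CompGen
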