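import Mathlib

/-! Lattice index computations for component groups (helper2, S14805/S14806). -/

namespace Groth.Agent.H2.CompLat

open Finset

variable {n : ℕ}

/-- translation: card of a quotient of submodules as a relative index -/
lemma card_quot_eq_relIndex (K P : Submodule ℤ (Fin n → ℤ)) :
    Nat.card (K ⧸ P.comap K.subtype) = P.toAddSubgroup.relIndex K.toAddSubgroup := by
  rfl

/-- the sum map -/
def Sh : (Fin n → ℤ) →+ ℤ :=
  (∑ i : Fin n, (LinearMap.proj i : (Fin n → ℤ) →ₗ[ℤ] ℤ)).toAddMonoidHom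

lemma Sh_apply (v : Fin n → ℤ) : Sh v = ∑ i, v i := by
  simp [Sh, LinearMap.sum_apply]

/-- the diagonal map -/
def Dh (δ : Fin n → ℤ) : (Fin n → ℤ) →+ (Fin n → ℤ) :=
  (Matrix.mulVecLin (Matrix.diagonal δ)).toAddMonoidHom

lemma Dh_apply (δ v : Fin n → ℤ) (i : Fin n) : Dh δ v i = δ i * v i := by
  simp [Dh, Matrix.mulVec_diagonal]

lemma Dh_injective (δ : Fin n → ℤ) (hδ : ∀ i, δ i ≠ 0) : Function.Injective (Dh δ) := by
  intro x y hxy
  ext i
  have := congrFun hxy i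
  rw [Dh_apply, Dh_apply] at this
  exact mul_left_cancel₀ (hδ i) this

lemma range_Dh (δ : Fin n → ℤ) :
    (Dh δ).range = AddSubgroup.pi Set.univ (fun i => AddSubgroup.zmultiples (δ i)) := by
  ext x
  simp only [AddMonoidHom.mem_range, AddSubgroup.mem_pi, Set.mem_univ, forall_true_left,
    Int.mem_zmultiples_iff]
  constructor
  · rintro ⟨y, rfl⟩ i
    rw [Dh_apply]
    exact dvd_mul_right _ _
  · intro h
    choose y hy using h
    refine ⟨y, ?_⟩
    ext i
    rw [Dh_apply, hy i]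

lemma mem_range_Dh (δ x : Fin n → ℤ) : x ∈ (Dh δ).range ↔ ∀ i, δ i ∣ x i := by
  rw [range_Dh]
  simp only [AddSubgroup.mem_pi, Set.mem_univ, forall_true_left, Int.mem_zmultiples_iff]

lemma index_range_Dh (δ : Fin n → ℤ) : (Dh δ).range.index = (∏ i, δ i).natAbs := by
  rw [range_Dh, AddSubgroup.index_pi]
  simp only [Int.index_zmultiples]
  exact (map_prod Int.natAbsHom δ Finset.univ).symm

lemma map_Sh_range_Dh (δ : Fin n → ℤ) :
    (Dh δ).range.map Sh = AddSubgroup.zmultiples (univ.gcd δ) := by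
  ext t
  simp only [AddSubgroup.mem_map, AddMonoidHom.mem_range, Int.mem_zmultiples_iff]
  constructor
  · rintro ⟨_, ⟨y, rfl⟩, rfl⟩
    rw [Sh_apply]
    apply Finset.dvd_sum
    intro i _
    rw [Dh_apply]
    exact Dvd.dvd.mul_right (Finset.gcd_dvd (Finset.mem_univ i)) _
  · rintro ⟨m, rfl⟩
    obtain ⟨g, hg⟩ := Finset.gcd_eq_sum_mul (univ : Finset (Fin n)) δ
    refine ⟨Dh δ (fun i => g i * m), ⟨_, rfl⟩, ?_⟩
    rw [Sh_apply, hg, Finset.sum_mul]
    apply Finset.sum_congr rfl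
    intro i _
    rw [Dh_apply]; ring

lemma Sh_surjective (hn : 0 < n) : Function.Surjective (Sh (n := n)) := by
  intro t
  refine ⟨Pi.single ⟨0, hn⟩ t, ?_⟩
  rw [Sh_apply, Finset.sum_eq_single ⟨0, hn⟩]
  · simp
  · intro b _ hb; simp [Pi.single_apply, hb]
  · intro h; exact absurd (Finset.mem_univ _) h

lemma index_sup (hn : 0 < n) (δ : Fin n → ℤ) :
    ((Dh δ).range ⊔ (Sh (n := n)).ker).index = (univ.gcd δ).natAbs := by
  rw [← AddSubgroup.comap_map_eq, map_Sh_range_Dh,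
    AddSubgroup.index_comap_of_surjective _ (Sh_surjective hn), Int.index_zmultiples]

/-- first index theorem -/
theorem T1 (hn : 0 < n) (δ : Fin n → ℤ) (hδ : ∀ i, δ i ≠ 0) (P : AddSubgroup (Fin n → ℤ))
    (hP : P ≤ ((Sh (n := n)).comp (Dh δ)).ker) :
    P.relIndex ((Sh (n := n)).comp (Dh δ)).ker * (∏ i, δ i).natAbs =
      (univ.gcd δ).natAbs * (P.map (Dh δ)).relIndex (Sh (n := n)).ker := by
  have hinj := Dh_injective δ hδ
  have e1 : P.relIndex ((Sh (n := n)).comp (Dh δ)).ker =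
      (P.map (Dh δ)).relIndex ((((Sh (n := n)).comp (Dh δ)).ker).map (Dh δ)) :=
    (AddSubgroup.relIndex_map_map_of_injective P _ hinj).symm
  have e2 : (((Sh (n := n)).comp (Dh δ)).ker).map (Dh δ) = (Sh (n := n)).ker ⊓ (Dh δ).range := by
    ext x
    simp only [AddSubgroup.mem_map, AddMonoidHom.mem_ker, AddMonoidHom.comp_apply,
      AddSubgroup.mem_inf, AddMonoidHom.mem_range]
    constructor
    · rintro ⟨y, hy, rfl⟩
      exact ⟨hy, y, rfl⟩
    · rintro ⟨hx, y, rfl⟩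
      exact ⟨y, hx, rfl⟩
  have e3 : P.map (Dh δ) ≤ (Sh (n := n)).ker ⊓ (Dh δ).range := by
    rw [← e2]
    exact AddSubgroup.map_mono hP
  have e4 := AddSubgroup.relIndex_mul_relIndex (P.map (Dh δ)) ((Sh (n := n)).ker ⊓ (Dh δ).range)
    (Sh (n := n)).ker e3 inf_le_left
  have e5 : ((Sh (n := n)).ker ⊓ (Dh δ).range).relIndex (Sh (n := n)).ker =
      (Dh δ).range.relIndex (Sh (n := n)).ker := AddSubgroup.inf_relIndex_left _ _
  have e6 : (Dh δ).range.relIndex (Sh (n := n)).ker * ((Dh δ).range ⊔ (Sh (n := n)).ker).index =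
      (Dh δ).range.index := by
    rw [← AddSubgroup.relIndex_sup_left (Sh (n := n)).ker (Dh δ).range]
    exact AddSubgroup.relIndex_mul_index le_sup_left
  rw [e1, e2, ← index_range_Dh, ← e6, index_sup hn, ← e4, e5]
  ring

end Groth.Agent.H2.CompLat

namespace Groth.Agent.H2.CompLat

open Finset

variable {n : ℕ}

lemma gcd_cast (δ : Fin n → ℤ) : ((univ.gcd δ).natAbs : ℤ) = univ.gcd δ := by
  have h : 0 ≤ univ.gcd δ := Int.nonneg_of_normalize_eq_self (Finset.normalize_gcd)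
  exact Int.natAbs_of_nonneg h

lemma ker_toAddSubgroup (δ : Fin n → ℤ) :
    (LinearMap.ker ((∑ i : Fin n, (LinearMap.proj i : (Fin n → ℤ) →ₗ[ℤ] ℤ)) ∘ₗ
      (Matrix.mulVecLin (Matrix.diagonal δ)))).toAddSubgroup =
      ((Sh (n := n)).comp (Dh δ)).ker := by
  ext x
  rfl

lemma kerS_toAddSubgroup :
    (LinearMap.ker (∑ i : Fin n, (LinearMap.proj i : (Fin n → ℤ) →ₗ[ℤ] ℤ))).toAddSubgroup =
      (Sh (n := n)).ker := by
  ext x
  rfl

lemma range_comp_toAddSubgroup (δ : Fin n → ℤ) (f : (Fin n → ℤ) →ₗ[ℤ] (Fin n → ℤ)) :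
    (LinearMap.range ((Matrix.mulVecLin (Matrix.diagonal δ)) ∘ₗ f)).toAddSubgroup =
      ((LinearMap.range f).toAddSubgroup).map (Dh δ) := by
  ext x
  simp only [Submodule.mem_toAddSubgroup, LinearMap.mem_range, LinearMap.comp_apply,
    AddSubgroup.mem_map]
  constructor
  · rintro ⟨y, rfl⟩
    exact ⟨f y, ⟨y, rfl⟩, rfl⟩
  · rintro ⟨_, ⟨y, rfl⟩, rfl⟩
    exact ⟨y, rfl⟩

theorem S14805_main (hn : 0 < n) (δ : Fin n → ℤ) (hδ : ∀ i, δ i ≠ 0)
    (f : (Fin n → ℤ) →ₗ[ℤ] (Fin n → ℤ))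
    (hSDA : (∑ i : Fin n, (LinearMap.proj i : (Fin n → ℤ) →ₗ[ℤ] ℤ)) ∘ₗ
        (Matrix.mulVecLin (Matrix.diagonal δ)) ∘ₗ f = 0) :
    (Nat.card (LinearMap.ker ((∑ i : Fin n, (LinearMap.proj i : (Fin n → ℤ) →ₗ[ℤ] ℤ)) ∘ₗ (Matrix.mulVecLin (Matrix.diagonal δ))) ⧸
          (LinearMap.range f).comap (LinearMap.ker ((∑ i : Fin n, (LinearMap.proj i : (Fin n → ℤ) →ₗ[ℤ] ℤ)) ∘ₗ (Matrix.mulVecLin (Matrix.diagonal δ)))).subtype) : ℤ) * |∏ i, δ i| =
      (univ.gcd δ) * Nat.card (LinearMap.ker (∑ i : Fin n, (LinearMap.proj i : (Fin n → ℤ) →ₗ[ℤ] ℤ)) ⧸ (LinearMap.range ((Matrix.mulVecLin (Matrix.diagonal δ)) ∘ₗ f)).comap (LinearMap.ker (∑ i : Fin n, (LinearMap.proj i : (Fin n → ℤ) →ₗ[ℤ] ℤ))).subtype) := by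
  rw [card_quot_eq_relIndex, card_quot_eq_relIndex, ker_toAddSubgroup, kerS_toAddSubgroup,
    range_comp_toAddSubgroup, Int.abs_eq_natAbs, ← gcd_cast]
  have hP : (LinearMap.range f).toAddSubgroup ≤ ((Sh (n := n)).comp (Dh δ)).ker := by
    rintro _ ⟨y, rfl⟩
    have := congrArg (fun g => g y) hSDA
    exact this
  have := T1 hn δ hδ _ hP
  exact_mod_cast this

end Groth.Agent.H2.CompLat

namespace Groth.Agent.H2.CompLat

open Finset

variable {n : ℕ}

section T3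

variable (hn : 0 < n) (f : (Fin n → ℤ) →ₗ[ℤ] (Fin n → ℤ))
  (hrank : Module.finrank ℤ (LinearMap.range f) = n - 1)
  (δ' : Fin n → ℤ) (hδ' : ∀ i, δ' i ≠ 0) (hker : f δ' = 0)

include hn hrank in
lemma finrank_ker : Module.finrank ℤ (LinearMap.ker f) = 1 := by
  have h1 := Submodule.finrank_quotient_add_finrank (LinearMap.ker f)
  rw [f.quotKerEquivRange.finrank_eq, hrank, Module.finrank_pi, Fintype.card_fin] at h1
  omega

include hn hδ' in
lemma gcd_ne_zero : univ.gcd δ' ≠ 0 := by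
  intro h
  rw [Finset.gcd_eq_zero_iff] at h
  exact hδ' ⟨0, hn⟩ (h _ (Finset.mem_univ _))

/-- the primitive vector -/
def v₀ : Fin n → ℤ := fun i => δ' i / univ.gcd δ'

lemma v₀_spec (i : Fin n) : δ' i = univ.gcd δ' * v₀ δ' i := by
  rw [v₀, Int.mul_ediv_cancel' (Finset.gcd_dvd (Finset.mem_univ i))]

include hn hδ' in
lemma exists_bezout : ∃ c : Fin n → ℤ, ∑ i, v₀ δ' i * c i = 1 := by
  have h1 : univ.gcd (v₀ δ') = 1 :=
    Finset.gcd_div_eq_one (Finset.mem_univ ⟨0, hn⟩) (hδ' ⟨0, hn⟩)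
  obtain ⟨c, hc⟩ := Finset.gcd_eq_sum_mul (univ : Finset (Fin n)) (v₀ δ')
  exact ⟨c, by rw [← hc, h1]⟩

include hn hrank hδ' hker in
/-- every element of `ker f` is `λ(x) • v₀` -/
lemma ker_eq (c : Fin n → ℤ) (hc : ∑ i, v₀ δ' i * c i = 1) (x : Fin n → ℤ) (hx : f x = 0) :
    x = (∑ i, x i * c i) • v₀ δ' := by
  have hg := gcd_ne_zero hn δ' hδ'
  have hfin := finrank_ker hn f hrank
  have hnli : ¬ LinearIndependent ℤ ![(⟨x, hx⟩ : LinearMap.ker f), ⟨δ', hker⟩] := by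
    intro hli
    have := hli.fintype_card_le_finrank
    rw [hfin] at this
    simp at this
  rw [LinearIndependent.pair_iff] at hnli
  push Not at hnli
  obtain ⟨s, t, hst, hne⟩ := hnli
  have hst' : s • x + t • δ' = 0 := by
    have := congrArg Subtype.val hst
    simpa using this
  have hs : s ≠ 0 := by
    intro hs0
    apply hne hs0
    rw [hs0, zero_smul, zero_add] at hst'
    have := congrFun hst' ⟨0, hn⟩
    simp only [Pi.smul_apply, smul_eq_mul, Pi.zero_apply, mul_eq_zero] at this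
    exact this.resolve_right (hδ' _)
  -- coordinates
  have hcoord : ∀ i, s * x i = -t * (univ.gcd δ' * v₀ δ' i) := by
    intro i
    have := congrFun hst' i
    simp only [Pi.add_apply, Pi.smul_apply, smul_eq_mul, Pi.zero_apply] at this
    rw [← v₀_spec]
    linarith
  have hm : s * (∑ i, x i * c i) = -t * univ.gcd δ' := by
    rw [Finset.mul_sum]
    calc ∑ i, s * (x i * c i) = ∑ i, (-t * univ.gcd δ') * (v₀ δ' i * c i) := by
          apply Finset.sum_congr rfl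
          intro i _
          rw [← mul_assoc, hcoord i]; ring
      _ = -t * univ.gcd δ' := by rw [← Finset.mul_sum, hc, mul_one]
  ext i
  simp only [Pi.smul_apply, smul_eq_mul]
  have : s * (univ.gcd δ' * x i) = s * (univ.gcd δ' * ((∑ i, x i * c i) * v₀ δ' i)) := by
    calc s * (univ.gcd δ' * x i) = univ.gcd δ' * (s * x i) := by ring
      _ = univ.gcd δ' * (-t * (univ.gcd δ' * v₀ δ' i)) := by rw [hcoord i]
      _ = (-t * univ.gcd δ') * (univ.gcd δ' * v₀ δ' i) := by ring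
      _ = (s * (∑ i, x i * c i)) * (univ.gcd δ' * v₀ δ' i) := by rw [hm]
      _ = s * (univ.gcd δ' * ((∑ i, x i * c i) * v₀ δ' i)) := by ring
  exact mul_left_cancel₀ hg (mul_left_cancel₀ hs this)

include hn hδ' hker in
lemma v₀_mem_ker : f (v₀ δ') = 0 := by
  have hg := gcd_ne_zero hn δ' hδ'
  have h1 : δ' = univ.gcd δ' • v₀ δ' := by
    ext i; simp only [Pi.smul_apply, smul_eq_mul]; exact v₀_spec δ' i
  rw [h1, map_smul] at hker
  exact (smul_eq_zero.mp hker).resolve_left hg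

include hn hrank hδ' hker in
theorem T3 : (Dh δ').range.relIndex f.toAddMonoidHom.ker = (univ.gcd δ').natAbs := by
  classical
  have hg := gcd_ne_zero hn δ' hδ'
  obtain ⟨c, hc⟩ := exists_bezout hn δ' hδ'
  -- the functional λ
  let lam : (Fin n → ℤ) →+ ℤ :=
    { toFun := fun x => ∑ i, x i * c i
      map_zero' := by simp
      map_add' := fun x y => by simp [add_mul, Finset.sum_add_distrib] }
  have hlam : ∀ x, lam x = ∑ i, x i * c i := fun x => rfl
  have hv0 : f (v₀ δ') = 0 := v₀_mem_ker hn f δ' hδ' hker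
  have hkey : (Dh δ').range ⊓ f.toAddMonoidHom.ker =
      (AddSubgroup.zmultiples (univ.gcd δ')).comap lam ⊓ f.toAddMonoidHom.ker := by
    ext x
    simp only [AddSubgroup.mem_inf, AddSubgroup.mem_comap, Int.mem_zmultiples_iff,
      AddMonoidHom.mem_ker, LinearMap.toAddMonoidHom_coe, mem_range_Dh]
    constructor
    · rintro ⟨h1, hx⟩
      refine ⟨?_, hx⟩
      have hxe := ker_eq hn f hrank δ' hδ' hker c hc x hx
      have h2 := h1 ⟨0, hn⟩
      rw [hxe, v₀_spec δ' ⟨0, hn⟩] at h2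
      simp only [Pi.smul_apply, smul_eq_mul] at h2
      have hv0ne : v₀ δ' ⟨0, hn⟩ ≠ 0 := by
        intro h0
        apply hδ' ⟨0, hn⟩
        rw [v₀_spec δ' ⟨0, hn⟩, h0, mul_zero]
      rw [hlam]
      exact (mul_dvd_mul_iff_right hv0ne).mp h2
    · rintro ⟨h1, hx⟩
      refine ⟨?_, hx⟩
      intro i
      have hxe := ker_eq hn f hrank δ' hδ' hker c hc x hx
      rw [hxe, v₀_spec δ' i]
      simp only [Pi.smul_apply, smul_eq_mul]
      rw [hlam] at h1
      exact mul_dvd_mul_right h1 _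
  have hmap : f.toAddMonoidHom.ker.map lam = ⊤ := by
    rw [eq_top_iff]
    intro t _
    refine ⟨t • v₀ δ', ?_, ?_⟩
    · show f (t • v₀ δ') = 0
      rw [map_smul, hv0, smul_zero]
    · rw [hlam]
      simp only [Pi.smul_apply, smul_eq_mul]
      calc ∑ i, t * v₀ δ' i * c i = t * ∑ i, v₀ δ' i * c i := by
            rw [Finset.mul_sum]; apply Finset.sum_congr rfl; intro i _; ring
        _ = t := by rw [hc, mul_one]
  rw [← AddSubgroup.inf_relIndex_right, hkey, AddSubgroup.inf_relIndex_right,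
    AddSubgroup.relIndex_comap, hmap, AddSubgroup.relIndex_top_right, Int.index_zmultiples]

include hn hrank hδ' hker in
theorem T2 : ((Dh δ').range.map f.toAddMonoidHom).relIndex ((⊤ : AddSubgroup _).map f.toAddMonoidHom) *
    (univ.gcd δ').natAbs = (∏ i, δ' i).natAbs := by
  rw [AddSubgroup.relIndex_map_map, top_sup_eq, AddSubgroup.relIndex_top_right,
    ← index_range_Dh, ← T3 hn f hrank δ' hδ' hker,
    ← AddSubgroup.relIndex_sup_left f.toAddMonoidHom.ker (Dh δ').range, mul_comm]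
  exact AddSubgroup.relIndex_mul_index le_sup_left

end T3

end Groth.Agent.H2.CompLat

namespace Groth.Agent.H2.CompLat

open Finset

variable {n : ℕ}

lemma range_toAddSubgroup_eq_map_top (f : (Fin n → ℤ) →ₗ[ℤ] (Fin n → ℤ)) :
    (LinearMap.range f).toAddSubgroup = (⊤ : AddSubgroup _).map f.toAddMonoidHom := by
  ext x
  simp only [Submodule.mem_toAddSubgroup, LinearMap.mem_range, AddSubgroup.mem_map,
    AddSubgroup.mem_top, true_and, LinearMap.toAddMonoidHom_coe]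

lemma range_comp_diag_toAddSubgroup (δ' : Fin n → ℤ) (f : (Fin n → ℤ) →ₗ[ℤ] (Fin n → ℤ)) :
    (LinearMap.range (f ∘ₗ (Matrix.mulVecLin (Matrix.diagonal δ')))).toAddSubgroup =
      (Dh δ').range.map f.toAddMonoidHom := by
  ext x
  simp only [Submodule.mem_toAddSubgroup, LinearMap.mem_range, LinearMap.comp_apply,
    AddSubgroup.mem_map, AddMonoidHom.mem_range, LinearMap.toAddMonoidHom_coe]
  constructor
  · rintro ⟨y, rfl⟩
    exact ⟨_, ⟨y, rfl⟩, rfl⟩
  · rintro ⟨_, ⟨y, rfl⟩, rfl⟩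
    exact ⟨y, rfl⟩

theorem S14806_main (hn : 0 < n) (δ δ' : Fin n → ℤ) (hδ : ∀ i, δ i ≠ 0) (hδ' : ∀ i, δ' i ≠ 0)
    (f : (Fin n → ℤ) →ₗ[ℤ] (Fin n → ℤ))
    (hrank : Module.finrank ℤ (LinearMap.range f) = n - 1)
    (hSDA : (∑ i : Fin n, (LinearMap.proj i : (Fin n → ℤ) →ₗ[ℤ] ℤ)) ∘ₗ
        (Matrix.mulVecLin (Matrix.diagonal δ)) ∘ₗ f = 0)
    (hker : f δ' = 0) :
    (Nat.card (LinearMap.ker ((∑ i : Fin n, (LinearMap.proj i : (Fin n → ℤ) →ₗ[ℤ] ℤ)) ∘ₗ (Matrix.mulVecLin (Matrix.diagonal δ))) ⧸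
          (LinearMap.range f).comap (LinearMap.ker ((∑ i : Fin n, (LinearMap.proj i : (Fin n → ℤ) →ₗ[ℤ] ℤ)) ∘ₗ (Matrix.mulVecLin (Matrix.diagonal δ)))).subtype) : ℤ) * |∏ i, δ i| * |∏ i, δ' i| =
      (univ.gcd δ) * (univ.gcd δ') * Nat.card (LinearMap.ker (∑ i : Fin n, (LinearMap.proj i : (Fin n → ℤ) →ₗ[ℤ] ℤ)) ⧸
          (LinearMap.range ((Matrix.mulVecLin (Matrix.diagonal δ)) ∘ₗ f ∘ₗ (Matrix.mulVecLin (Matrix.diagonal δ')))).comap (LinearMap.ker (∑ i : Fin n, (LinearMap.proj i : (Fin n → ℤ) →ₗ[ℤ] ℤ))).subtype) := by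
  rw [card_quot_eq_relIndex, card_quot_eq_relIndex, ker_toAddSubgroup, kerS_toAddSubgroup,
    range_comp_toAddSubgroup, Int.abs_eq_natAbs, Int.abs_eq_natAbs, ← gcd_cast δ, ← gcd_cast δ',
    range_comp_diag_toAddSubgroup, range_toAddSubgroup_eq_map_top]
  have hP : (⊤ : AddSubgroup _).map f.toAddMonoidHom ≤ ((Sh (n := n)).comp (Dh δ)).ker := by
    rintro _ ⟨y, -, rfl⟩
    have := congrArg (fun g => g y) hSDA
    exact this
  have hP'P : (Dh δ').range.map f.toAddMonoidHom ≤ (⊤ : AddSubgroup _).map f.toAddMonoidHom :=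
    AddSubgroup.map_mono le_top
  have h1 := T1 hn δ hδ _ (hP'P.trans hP)
  have h2 := AddSubgroup.relIndex_mul_relIndex _ _ _ hP'P hP
  have h3 := T2 hn f hrank δ' hδ' hker
  have : ((⊤ : AddSubgroup _).map f.toAddMonoidHom).relIndex ((Sh (n := n)).comp (Dh δ)).ker *
      (∏ i, δ i).natAbs * (∏ i, δ' i).natAbs =
      (univ.gcd δ).natAbs * (univ.gcd δ').natAbs *
        (((Dh δ').range.map f.toAddMonoidHom).map (Dh δ)).relIndex (Sh (n := n)).ker := by
    rw [← h3]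
    calc ((⊤ : AddSubgroup _).map f.toAddMonoidHom).relIndex ((Sh (n := n)).comp (Dh δ)).ker *
          (∏ i, δ i).natAbs *
          (((Dh δ').range.map f.toAddMonoidHom).relIndex ((⊤ : AddSubgroup _).map f.toAddMonoidHom) *
            (univ.gcd δ').natAbs)
        = (((Dh δ').range.map f.toAddMonoidHom).relIndex ((⊤ : AddSubgroup _).map f.toAddMonoidHom) *
            ((⊤ : AddSubgroup _).map f.toAddMonoidHom).relIndex ((Sh (n := n)).comp (Dh δ)).ker) *
            (∏ i, δ i).natAbs * (univ.gcd δ').natAbs := by ring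
      _ = _ := by rw [h2, h1]; ring
  exact_mod_cast this

end Groth.Agent.H2.CompLat
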