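import Mathlib
import Groth.Prelude.Def_EtBase
import Groth.Prelude.Def_PBC
import Groth.Agent.Lib.Helper2.DisjCovA
import Groth.Agent.Lib.Helper2.PtSecA
import Groth.Agent.Lib.Helper7.GalCov2

set_option autoImplicit false
set_option linter.style.haveILetI false
set_option linter.unusedSectionVars false
set_option linter.unusedVariables false
universe u

open CategoryTheory CategoryTheory.Limits Opposite AlgebraicGeometry

namespace Groth.Agent.H2.SecColim

open Groth.Agent.H2.PtSec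

variable {X : Scheme.{u}}

/-- Restriction of sections. -/
noncomputable def res (G : EtCoh.Ab X) {W U : X.Etale} (g : W ⟶ U) :
    G.obj.obj (op U) →+ G.obj.obj (op W) :=
  (G.obj.map g.op).hom

lemma res_comp (G : EtCoh.Ab X) {W' W U : X.Etale} (g' : W' ⟶ W) (g : W ⟶ U)
    (z : G.obj.obj (op U)) : res G (g' ≫ g) z = res G g' (res G g z) := by
  unfold res
  rw [op_comp, G.obj.map_comp]
  rfl

lemma res_nat {G H : EtCoh.Ab X} (φ : G ⟶ H) {W U : X.Etale} (g : W ⟶ U)
    (z : G.obj.obj (op U)) :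
    res H g ((φ.hom.app (op U)).hom z) = (φ.hom.app (op W)).hom (res G g z) := by
  have h := φ.hom.naturality g.op
  exact (ConcreteCategory.congr_hom h z).symm

/-- The underlying sheaf of types. -/
lemma isSheaf_forget (G : EtCoh.Ab X) :
    Presieve.IsSheaf X.smallEtaleTopology (G.obj ⋙ forget AddCommGrpCat.{u + 1}) := by
  rw [← isSheaf_iff_isSheaf_of_type]
  exact (Presheaf.isSheaf_iff_isSheaf_forget _ _ (forget AddCommGrpCat.{u + 1})).1 G.property

/-- Sections agreeing on a jointly surjective family agree. -/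
theorem res_ext (G : EtCoh.Ab X) {ι : Type*} {U : X.Etale} (W : ι → X.Etale) (g : ∀ i, W i ⟶ U)
    (hcov : ∀ b : U.left, ∃ k z, (g k).left z = b) (s s' : G.obj.obj (op U))
    (h : ∀ k, res G (g k) s = res G (g k) s') : s = s' :=
  Groth.Agent.H2.DisjCov.ext_of_cover (isSheaf_forget G) W g hcov s s' h

/-! ### Explicit fibre products in the small étale site -/

/-- The fibre product of two étale `U`-schemes. -/
noncomputable def pb {U W₁ W₂ : X.Etale} (g₁ : W₁ ⟶ U) (g₂ : W₂ ⟶ U) : X.Etale :=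
  haveI : Etale g₂.left := Groth.Agent.H7.GalCov.etale_left g₂
  haveI : Etale W₁.hom := W₁.prop
  MorphismProperty.Over.mk ⊤ (pullback.fst g₁.left g₂.left ≫ W₁.hom)
    (inferInstanceAs (Etale (pullback.fst g₁.left g₂.left ≫ W₁.hom)))

noncomputable def pbFst {U W₁ W₂ : X.Etale} (g₁ : W₁ ⟶ U) (g₂ : W₂ ⟶ U) : pb g₁ g₂ ⟶ W₁ :=
  MorphismProperty.Over.homMk (pullback.fst g₁.left g₂.left) rfl

noncomputable def pbSnd {U W₁ W₂ : X.Etale} (g₁ : W₁ ⟶ U) (g₂ : W₂ ⟶ U) : pb g₁ g₂ ⟶ W₂ :=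
  MorphismProperty.Over.homMk (pullback.snd g₁.left g₂.left) (by
    have h1 : g₁.left ≫ U.hom = W₁.hom := MorphismProperty.Over.w g₁
    have h2 : g₂.left ≫ U.hom = W₂.hom := MorphismProperty.Over.w g₂
    change pullback.snd g₁.left g₂.left ≫ W₂.hom = pullback.fst g₁.left g₂.left ≫ W₁.hom
    rw [← h1, ← h2, ← Category.assoc, ← Category.assoc, pullback.condition])

lemma pb_condition {U W₁ W₂ : X.Etale} (g₁ : W₁ ⟶ U) (g₂ : W₂ ⟶ U) :
    pbFst g₁ g₂ ≫ g₁ = pbSnd g₁ g₂ ≫ g₂ := by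
  apply MorphismProperty.Over.Hom.ext
  exact pullback.condition

lemma exists_pb_lift {U W₁ W₂ W : X.Etale} (g₁ : W₁ ⟶ U) (g₂ : W₂ ⟶ U) (a : W ⟶ W₁)
    (b : W ⟶ W₂) (h : a ≫ g₁ = b ≫ g₂) :
    ∃ l : W ⟶ pb g₁ g₂, l ≫ pbFst g₁ g₂ = a ∧ l ≫ pbSnd g₁ g₂ = b := by
  have hl : a.left ≫ g₁.left = b.left ≫ g₂.left := congrArg (fun m => m.left) h
  refine ⟨MorphismProperty.Over.homMk (pullback.lift a.left b.left hl) ?_, ?_, ?_⟩
  · change pullback.lift a.left b.left hl ≫ pullback.fst g₁.left g₂.left ≫ W₁.hom = W.hom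
    rw [pullback.lift_fst_assoc]
    exact MorphismProperty.Over.w a
  · apply MorphismProperty.Over.Hom.ext
    exact pullback.lift_fst _ _ _
  · apply MorphismProperty.Over.Hom.ext
    exact pullback.lift_snd _ _ _

instance isAffine_pb {U W₁ W₂ : X.Etale} (g₁ : W₁ ⟶ U) (g₂ : W₂ ⟶ U) [IsAffine U.left]
    [IsAffine W₁.left] [IsAffine W₂.left] : IsAffine (pb g₁ g₂).left :=
  inferInstanceAs (IsAffine (pullback g₁.left g₂.left))

/-- Gluing sections along a jointly surjective family, compatibility being checked on the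
explicit fibre products. -/
theorem glue (G : EtCoh.Ab X) {ι : Type*} {U : X.Etale} (W : ι → X.Etale) (g : ∀ i, W i ⟶ U)
    (hcov : ∀ b : U.left, ∃ k z, (g k).left z = b)
    (x : ∀ i, G.obj.obj (op (W i)))
    (hx : ∀ i i', res G (pbFst (g i) (g i')) (x i) = res G (pbSnd (g i) (g i')) (x i')) :
    ∃ s : G.obj.obj (op U), ∀ i, res G (g i) s = x i := by
  have hF := isSheaf_forget G
  have hsh : Presieve.IsSheafFor (G.obj ⋙ forget AddCommGrpCat.{u + 1})
      (Presieve.ofArrows W g) := by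
    rw [Presieve.isSheafFor_iff_generate]
    exact hF _ (Groth.Agent.H2.DisjCov.ofArrows_mem W g hcov)
  have hcompat : Presieve.Arrows.Compatible (G.obj ⋙ forget AddCommGrpCat.{u + 1}) g x := by
    intro i j Z gi gj hgij
    obtain ⟨l, hl1, hl2⟩ := exists_pb_lift (g i) (g j) gi gj hgij
    change res G gi (x i) = res G gj (x j)
    rw [← hl1, ← hl2, res_comp, res_comp, hx i j]
  obtain ⟨y, hy, -⟩ := (Presieve.isSheafFor_arrows_iff _ _).1 hsh x hcompat
  exact ⟨y, hy⟩

end Groth.Agent.H2.SecColim
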