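import Mathlib
import Groth.Prelude.Def_EtBase
import Groth.Prelude.Def_PBC
import Groth.Agent.Lib.Helper2.SecColimA
import Groth.Agent.Lib.Helper2.GenD
import Groth.Agent.Lib.Helper2.StalkLCE

set_option autoImplicit false
set_option linter.style.haveILetI false
set_option linter.unusedSectionVars false
set_option linter.unusedVariables false
universe u w w'

open CategoryTheory CategoryTheory.Limits Opposite AlgebraicGeometry

namespace Groth.Agent.H2.SecColim

open Groth.Agent.H2.PtSec Groth.Agent.H2.StalkLC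

variable {X : Scheme.{u}}

/-- Naturality of germs. -/
lemma germ_nat {G H : EtCoh.Ab X} (φ : G ⟶ H) {Ω : Type u} [Field Ω] [IsSepClosed Ω]
    (ξ : Spec (CommRingCat.of Ω) ⟶ X) (U : X.Etale) (τ : (Scheme.pointSmallEtale ξ).fiber.obj U)
    (z : G.obj.obj (op U)) :
    ((EtCoh.stalk ξ).map φ) (germ (Scheme.pointSmallEtale ξ) G.obj U τ z) =
      germ (Scheme.pointSmallEtale ξ) H.obj U τ ((φ.hom.app (op U)).hom z) :=
  (Scheme.pointSmallEtale ξ).toPresheafFiber_naturality_apply φ.hom U τ z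

lemma germ_res (G : EtCoh.Ab X) {Ω : Type u} [Field Ω] [IsSepClosed Ω]
    (ξ : Spec (CommRingCat.of Ω) ⟶ X) {W U : X.Etale} (g : W ⟶ U)
    (τ : (Scheme.pointSmallEtale ξ).fiber.obj W) (z : G.obj.obj (op U)) :
    germ (Scheme.pointSmallEtale ξ) G.obj W τ (res G g z) =
      germ (Scheme.pointSmallEtale ξ) G.obj U ((Scheme.pointSmallEtale ξ).fiber.map g τ) z :=
  germ_map (Scheme.pointSmallEtale ξ) G.obj g τ z

/-- The point of `U` under an element of the fibre. -/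
noncomputable def ptOf {Ω : Type u} [Field Ω] [IsSepClosed Ω]
    {ξ : Spec (CommRingCat.of Ω) ⟶ X} {U : X.Etale}
    (τ : (Scheme.pointSmallEtale ξ).fiber.obj U) : U.left :=
  (CommaMorphism.left τ : Spec (CommRingCat.of Ω) ⟶ U.left)
    (default : ↥(Spec (CommRingCat.of Ω)))

/-- The geometric point of `U` over a point, as an element of the fibre. -/
lemma exists_fiber_pt (U : X.Etale) (u : U.left) :
    ∃ (Ω : Type u) (_ : Field Ω) (_ : IsSepClosed Ω) (ξ : Spec (CommRingCat.of Ω) ⟶ X)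
      (τ : (Scheme.pointSmallEtale ξ).fiber.obj U), ptOf τ = u := by
  obtain ⟨Ω, i1, i2, ū, hū⟩ := exists_geomPt u
  exact ⟨Ω, i1, i2, ū ≫ U.hom, Over.homMk ū rfl, hū⟩

lemma fiber_map_left {Ω : Type u} [Field Ω] [IsSepClosed Ω]
    (ξ : Spec (CommRingCat.of Ω) ⟶ X) {W U : X.Etale} (g : W ⟶ U)
    (τ' : (Scheme.pointSmallEtale ξ).fiber.obj W) (τ : (Scheme.pointSmallEtale ξ).fiber.obj U)
    (h : (Scheme.pointSmallEtale ξ).fiber.map g τ' = τ) :
    g.left (ptOf τ') = ptOf τ := by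
  subst h
  rfl

section

variable {J : Type w} [Category.{w'} J] [IsFiltered J]
  [PreservesColimitsOfShape J (forget AddCommGrpCat.{u + 1})]
  (D : J ⥤ EtCoh.Ab X) (c : Cocone D) (hc : IsColimit c)

include hc

/-- Elements of the stalk of the colimit come from some stage. -/
lemma exists_stalk_rep {Ω : Type u} [Field Ω] [IsSepClosed Ω]
    (ξ : Spec (CommRingCat.of Ω) ⟶ X) (β : (EtCoh.stalk ξ).obj c.pt) :
    ∃ (k : J) (β' : (EtCoh.stalk ξ).obj (D.obj k)), ((EtCoh.stalk ξ).map (c.ι.app k)) β' = β := by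
  have hcξ : IsColimit ((EtCoh.stalk ξ).mapCocone c) := isColimitOfPreserves _ hc
  exact Concrete.isColimit_exists_rep (D ⋙ EtCoh.stalk ξ) hcξ β

/-- Elements of a stalk dying in the colimit die at a later stage. -/
lemma exists_stalk_kill {Ω : Type u} [Field Ω] [IsSepClosed Ω]
    (ξ : Spec (CommRingCat.of Ω) ⟶ X) (j : J) (β' : (EtCoh.stalk ξ).obj (D.obj j))
    (h : ((EtCoh.stalk ξ).map (c.ι.app j)) β' = 0) :
    ∃ (k : J) (f : j ⟶ k), ((EtCoh.stalk ξ).map (D.map f)) β' = 0 := by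
  have hcξ : IsColimit ((EtCoh.stalk ξ).mapCocone c) := isColimitOfPreserves _ hc
  have h' : ((EtCoh.stalk ξ).mapCocone c).ι.app j β' =
      ((EtCoh.stalk ξ).mapCocone c).ι.app j (0 : (EtCoh.stalk ξ).obj (D.obj j)) := by
    refine h.trans ?_
    exact (map_zero ((EtCoh.stalk ξ).map (c.ι.app j)).hom).symm
  obtain ⟨k, f, g, hfg⟩ := Concrete.isColimit_exists_of_rep_eq (D ⋙ EtCoh.stalk ξ) hcξ _ _ h'
  refine ⟨k, f, ?_⟩
  refine hfg.trans ?_
  exact map_zero ((EtCoh.stalk ξ).map (D.map g)).hom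

/-- Local injectivity: a section dying in the colimit dies, near a given geometric point, at a
later stage. -/
lemma exists_local_kill {Ω : Type u} [Field Ω] [IsSepClosed Ω]
    (ξ : Spec (CommRingCat.of Ω) ⟶ X) (U : X.Etale) (τ : (Scheme.pointSmallEtale ξ).fiber.obj U)
    (j : J) (s : (D.obj j).obj.obj (op U))
    (hs : ((c.ι.app j).hom.app (op U)).hom s = 0) :
    ∃ (k : J) (f : j ⟶ k) (W : X.Etale) (g : W ⟶ U)
      (τ' : (Scheme.pointSmallEtale ξ).fiber.obj W),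
      (Scheme.pointSmallEtale ξ).fiber.map g τ' = τ ∧
        res (D.obj k) g (((D.map f).hom.app (op U)).hom s) = 0 := by
  have h1 : ((EtCoh.stalk ξ).map (c.ι.app j))
      (germ (Scheme.pointSmallEtale ξ) (D.obj j).obj U τ s) = 0 := by
    rw [germ_nat, hs, map_zero]
    rfl
  obtain ⟨k, f, hf⟩ := exists_stalk_kill D c hc ξ j _ h1
  rw [germ_nat] at hf
  have hf' : germ (Scheme.pointSmallEtale ξ) (D.obj k).obj U τ (((D.map f).hom.app (op U)).hom s) =
      germ (Scheme.pointSmallEtale ξ) (D.obj k).obj U τ 0 := by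
    rw [hf, map_zero]
    rfl
  obtain ⟨W, g, τ', hτ', hg⟩ := (germ_eq_iff (Scheme.pointSmallEtale ξ) (D.obj k).obj U τ _ _).1 hf'
  refine ⟨k, f, W, g, τ', hτ', ?_⟩
  refine hg.trans ?_
  exact map_zero _

/-- **Injectivity**: over a quasi-compact étale `X`-scheme, a section dying in the filtered
colimit dies at a later stage. -/
theorem exists_kill_of_compact (U : X.Etale) [CompactSpace U.left] (j : J)
    (s : (D.obj j).obj.obj (op U)) (hs : ((c.ι.app j).hom.app (op U)).hom s = 0) :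
    ∃ (k : J) (f : j ⟶ k), ((D.map f).hom.app (op U)).hom s = 0 := by
  classical
  let I := Σ k : J, (j ⟶ k)
  let zsec : ∀ a : I, (D.obj a.1).obj.obj (op U) := fun a => ((D.map a.2).hom.app (op U)).hom s
  let Wfam : I → Type _ := fun a =>
    {p : Σ W : X.Etale, (W ⟶ U) // res (D.obj a.1) p.2 (zsec a) = 0}
  let O : I → Set U.left := fun a => ⋃ p : Wfam a, Set.range p.1.2.left
  have hopen : ∀ a, IsOpen (O a) := by
    intro a
    refine isOpen_iUnion (fun p => ?_)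
    haveI : Etale p.1.2.left := Groth.Agent.H7.GalCov.etale_left p.1.2
    exact p.1.2.left.isOpenMap.isOpen_range
  have hmono : ∀ (a : I) (k' : J) (h : a.1 ⟶ k'), O a ⊆ O ⟨k', a.2 ≫ h⟩ := by
    intro a k' h u hu
    obtain ⟨⟨⟨W, g⟩, hp⟩, hu'⟩ := Set.mem_iUnion.1 hu
    refine Set.mem_iUnion.2 ⟨⟨⟨W, g⟩, ?_⟩, hu'⟩
    have hz : zsec ⟨k', a.2 ≫ h⟩ = ((D.map h).hom.app (op U)).hom (zsec a) := by
      change ((D.map (a.2 ≫ h)).hom.app (op U)).hom s = _
      rw [D.map_comp]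
      rfl
    change res (D.obj k') g (zsec ⟨k', a.2 ≫ h⟩) = 0
    rw [hz, res_nat]
    have hp' : res (D.obj a.1) g (zsec a) = 0 := hp
    rw [hp', map_zero]
  have hdir : Directed (· ⊆ ·) O := by
    intro a b
    obtain ⟨k, h₁, h₂, e⟩ := IsFiltered.span a.2 b.2
    refine ⟨⟨k, a.2 ≫ h₁⟩, hmono a k h₁, ?_⟩
    have := hmono b k h₂
    rw [← e] at this
    exact this
  have hcov : (Set.univ : Set U.left) ⊆ ⋃ a, O a := by
    intro u _
    obtain ⟨Ω, _, _, ξ, τ, hτ⟩ := exists_fiber_pt U u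
    obtain ⟨k, f, W, g, τ', hτ', hg⟩ := exists_local_kill D c hc ξ U τ j s hs
    refine Set.mem_iUnion.2 ⟨⟨k, f⟩, Set.mem_iUnion.2 ⟨⟨⟨W, g⟩, hg⟩, ptOf τ', ?_⟩⟩
    rw [← hτ]
    exact fiber_map_left ξ g τ' τ hτ'
  haveI : Nonempty I := ⟨⟨j, 𝟙 j⟩⟩
  obtain ⟨a, ha⟩ := isCompact_univ.elim_directed_cover O hopen hcov hdir
  refine ⟨a.1, a.2, ?_⟩
  refine res_ext (D.obj a.1) (fun p : Wfam a => p.1.1) (fun p => p.1.2) ?_ _ _ ?_
  · intro b
    obtain ⟨p, z, hz⟩ := Set.mem_iUnion.1 (ha (Set.mem_univ b))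
    exact ⟨p, z, hz⟩
  · intro p
    rw [map_zero]
    exact p.2

end

end Groth.Agent.H2.SecColim
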