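import Mathlib
import Groth.Prelude.Def_EtBase
import Groth.Prelude.Def_PBC
import Groth.Agent.Lib.Helper2.SecColimB

set_option autoImplicit false
set_option linter.style.haveILetI false
set_option linter.unusedSectionVars false
set_option linter.unusedVariables false
universe u w w'

open CategoryTheory CategoryTheory.Limits Opposite AlgebraicGeometry

namespace Groth.Agent.H2.SecColim

open Groth.Agent.H2.PtSec Groth.Agent.H2.StalkLC Groth.Agent.H2.Gen

/-- In a filtered category, finitely many non-empty upward closed families of arrows out of `j`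
have a common member. -/
lemma fin_inter {J : Type w} [Category.{w'} J] [IsFiltered J] (j : J) {ι : Type*} [Finite ι]
    (Q : ι → (Σ k : J, (j ⟶ k)) → Prop)
    (hup : ∀ i (a : Σ k : J, (j ⟶ k)) (k' : J) (h : a.1 ⟶ k'), Q i a → Q i ⟨k', a.2 ≫ h⟩)
    (hne : ∀ i, ∃ a, Q i a) : ∃ a, ∀ i, Q i a := by
  classical
  haveI := Fintype.ofFinite ι
  suffices H : ∀ s : Finset ι, ∃ a, ∀ i ∈ s, Q i a by
    obtain ⟨a, ha⟩ := H Finset.univ
    exact ⟨a, fun i => ha i (Finset.mem_univ i)⟩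
  intro s
  induction s using Finset.induction_on with
  | empty => exact ⟨⟨j, 𝟙 j⟩, fun i hi => (Finset.notMem_empty i hi).elim⟩
  | insert i₀ s hi₀ ih =>
    obtain ⟨a, ha⟩ := ih
    obtain ⟨b, hb⟩ := hne i₀
    obtain ⟨k, h₁, h₂, e⟩ := IsFiltered.span a.2 b.2
    refine ⟨⟨k, a.2 ≫ h₁⟩, fun i hi => ?_⟩
    rcases Finset.mem_insert.1 hi with rfl | hi'
    · rw [e]
      exact hup _ b k h₂ hb
    · exact hup i a k h₁ (ha i hi')

variable {X : Scheme.{u}}

section

variable {J : Type w} [Category.{w'} J] [IsFiltered J]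
  [PreservesColimitsOfShape J (forget AddCommGrpCat.{u + 1})]
  (D : J ⥤ EtCoh.Ab X) (c : Cocone D) (hc : IsColimit c)

/-- The cocone maps are compatible with the transition maps, on sections. -/
lemma cocone_w_apply {k k' : J} (h : k ⟶ k') (W : X.Etale) (s : (D.obj k).obj.obj (op W)) :
    ((c.ι.app k').hom.app (op W)).hom (((D.map h).hom.app (op W)).hom s) =
      ((c.ι.app k).hom.app (op W)).hom s := by
  have := c.w h
  rw [← this]
  rfl

lemma ι_res {k : J} {W' W : X.Etale} (g : W' ⟶ W) (s : (D.obj k).obj.obj (op W)) :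
    ((c.ι.app k).hom.app (op W')).hom (res (D.obj k) g s) =
      res c.pt g (((c.ι.app k).hom.app (op W)).hom s) :=
  (res_nat (c.ι.app k) g s).symm

include hc

/-- Local surjectivity: a section of the colimit comes, near a given geometric point, from some
stage. -/
lemma exists_local_lift {Ω : Type u} [Field Ω] [IsSepClosed Ω]
    (ξ : Spec (CommRingCat.of Ω) ⟶ X) (U : X.Etale) (τ : (Scheme.pointSmallEtale ξ).fiber.obj U)
    (t : c.pt.obj.obj (op U)) :
    ∃ (k : J) (W : X.Etale) (g : W ⟶ U) (τ' : (Scheme.pointSmallEtale ξ).fiber.obj W)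
      (s : (D.obj k).obj.obj (op W)), IsAffine W.left ∧
        (Scheme.pointSmallEtale ξ).fiber.map g τ' = τ ∧
        ((c.ι.app k).hom.app (op W)).hom s = res c.pt g t := by
  obtain ⟨k, β', hβ'⟩ := exists_stalk_rep D c hc ξ
    (germ (Scheme.pointSmallEtale ξ) c.pt.obj U τ t)
  obtain ⟨W₀, τ₀, s₀, rfl⟩ := exists_germ_eq (Scheme.pointSmallEtale ξ) (D.obj k).obj β'
  rw [germ_nat] at hβ'
  let m : (Scheme.pointSmallEtale ξ).fiber.Elements :=
    IsCofiltered.min (⟨W₀, τ₀⟩ : (Scheme.pointSmallEtale ξ).fiber.Elements) ⟨U, τ⟩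
  let fL : m ⟶ (⟨W₀, τ₀⟩ : (Scheme.pointSmallEtale ξ).fiber.Elements) :=
    IsCofiltered.minToLeft _ _
  let fR : m ⟶ (⟨U, τ⟩ : (Scheme.pointSmallEtale ξ).fiber.Elements) :=
    IsCofiltered.minToRight _ _
  have h1 : germ (Scheme.pointSmallEtale ξ) c.pt.obj m.1 m.2
      (res c.pt fL.1 (((c.ι.app k).hom.app (op W₀)).hom s₀)) =
      germ (Scheme.pointSmallEtale ξ) c.pt.obj m.1 m.2 (res c.pt fR.1 t) := by
    rw [germ_res, germ_res, fL.2, fR.2]
    exact hβ'
  obtain ⟨W₂, f₂, τ₂, hτ₂, h2⟩ := (germ_eq_iff (Scheme.pointSmallEtale ξ) c.pt.obj m.1 m.2 _ _).1 h1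
  obtain ⟨W, f₃, τ₃, hW, hτ₃⟩ := exists_affine_refinement ξ W₂ τ₂
  refine ⟨k, W, f₃ ≫ f₂ ≫ fR.1, τ₃, res (D.obj k) (f₃ ≫ f₂ ≫ fL.1) s₀, hW, ?_, ?_⟩
  · rw [Functor.map_comp_apply, Functor.map_comp_apply, hτ₃, hτ₂]
    exact fR.2
  · rw [ι_res, res_comp, res_comp, res_comp, res_comp]
    exact congrArg (res c.pt f₃) h2

/-- **Surjectivity**: over an affine étale `X`-scheme, every section of the filtered colimit
comes from some stage. -/
theorem exists_lift_of_affine (U : X.Etale) [IsAffine U.left] (t : c.pt.obj.obj (op U)) :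
    ∃ (k : J) (s : (D.obj k).obj.obj (op U)), ((c.ι.app k).hom.app (op U)).hom s = t := by
  classical
  let Loc : J → Type _ := fun k =>
    {p : Σ W : X.Etale, (W ⟶ U) // IsAffine p.1.left ∧
      ∃ s : (D.obj k).obj.obj (op p.1), ((c.ι.app k).hom.app (op p.1)).hom s = res c.pt p.2 t}
  let O : J → Set U.left := fun k => ⋃ p : Loc k, Set.range p.1.2.left
  have hopen : ∀ k, IsOpen (O k) := by
    intro k
    refine isOpen_iUnion (fun p => ?_)
    haveI : Etale p.1.2.left := Groth.Agent.H7.GalCov.etale_left p.1.2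
    exact p.1.2.left.isOpenMap.isOpen_range
  have hmono : ∀ (k k' : J) (h : k ⟶ k'), O k ⊆ O k' := by
    intro k k' h u hu
    obtain ⟨⟨⟨W, g⟩, hWa, s, hs⟩, hu'⟩ := Set.mem_iUnion.1 hu
    refine Set.mem_iUnion.2 ⟨⟨⟨W, g⟩, hWa, ((D.map h).hom.app (op W)).hom s, ?_⟩, hu'⟩
    rw [cocone_w_apply]
    exact hs
  have hdir : Directed (· ⊆ ·) O := by
    intro a b
    exact ⟨IsFiltered.max a b, hmono _ _ (IsFiltered.leftToMax a b),
      hmono _ _ (IsFiltered.rightToMax a b)⟩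
  have hcov : (Set.univ : Set U.left) ⊆ ⋃ k, O k := by
    intro u _
    obtain ⟨Ω, _, _, ξ, τ, hτ⟩ := exists_fiber_pt U u
    obtain ⟨k, W, g, τ', s, hW, hτ', hs⟩ := exists_local_lift D c hc ξ U τ t
    refine Set.mem_iUnion.2 ⟨k, Set.mem_iUnion.2 ⟨⟨⟨W, g⟩, hW, s, hs⟩, ptOf τ', ?_⟩⟩
    rw [← hτ]
    exact fiber_map_left ξ g τ' τ hτ'
  haveI : Nonempty J := IsFiltered.nonempty
  obtain ⟨k, hk⟩ := isCompact_univ.elim_directed_cover O hopen hcov hdir
  -- a finite subfamily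
  have hk' : ∀ u : U.left, ∃ p : Loc k, u ∈ Set.range p.1.2.left := fun u =>
    Set.mem_iUnion.1 (hk (Set.mem_univ u))
  choose p hp using hk'
  have hopen' : ∀ u : U.left, IsOpen (Set.range (p u).1.2.left) := by
    intro u
    haveI : Etale (p u).1.2.left := Groth.Agent.H7.GalCov.etale_left (p u).1.2
    exact (p u).1.2.left.isOpenMap.isOpen_range
  obtain ⟨T, hT⟩ := isCompact_univ.elim_finite_subcover (fun u => Set.range (p u).1.2.left) hopen'
    (fun u _ => Set.mem_iUnion.2 ⟨u, hp u⟩)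
  let W : ↥T → X.Etale := fun i => (p i.1).1.1
  let g : ∀ i : ↥T, W i ⟶ U := fun i => (p i.1).1.2
  haveI hWa : ∀ i : ↥T, IsAffine (W i).left := fun i => (p i.1).2.1
  have hs : ∀ i : ↥T, ∃ s : (D.obj k).obj.obj (op (W i)),
      ((c.ι.app k).hom.app (op (W i))).hom s = res c.pt (g i) t := fun i => (p i.1).2.2
  choose s hs using hs
  have hcovT : ∀ b : U.left, ∃ i z, (g i).left z = b := by
    intro b
    obtain ⟨u, huT, z, hz⟩ := Set.mem_iUnion₂.1 (hT (Set.mem_univ b))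
    exact ⟨⟨u, huT⟩, z, hz⟩
  -- kill the differences on the overlaps
  let δ : ∀ q : ↥T × ↥T, (D.obj k).obj.obj (op (pb (g q.1) (g q.2))) := fun q =>
    res (D.obj k) (pbFst (g q.1) (g q.2)) (s q.1) - res (D.obj k) (pbSnd (g q.1) (g q.2)) (s q.2)
  have hδ : ∀ q, ((c.ι.app k).hom.app (op (pb (g q.1) (g q.2)))).hom (δ q) = 0 := by
    intro q
    change ((c.ι.app k).hom.app (op (pb (g q.1) (g q.2)))).hom
      (res (D.obj k) (pbFst (g q.1) (g q.2)) (s q.1) -
        res (D.obj k) (pbSnd (g q.1) (g q.2)) (s q.2)) = 0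
    rw [map_sub, ι_res, ι_res, hs, hs, ← res_comp, ← res_comp, pb_condition, sub_self]
  let Q : ↥T × ↥T → (Σ k' : J, (k ⟶ k')) → Prop := fun q a =>
    ((D.map a.2).hom.app (op (pb (g q.1) (g q.2)))).hom (δ q) = 0
  have hup : ∀ q (a : Σ k' : J, (k ⟶ k')) (k' : J) (h : a.1 ⟶ k'), Q q a → Q q ⟨k', a.2 ≫ h⟩ := by
    intro q a k' h hq
    change ((D.map (a.2 ≫ h)).hom.app (op (pb (g q.1) (g q.2)))).hom (δ q) = 0
    rw [D.map_comp]
    change ((D.map h).hom.app (op (pb (g q.1) (g q.2)))).hom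
      (((D.map a.2).hom.app (op (pb (g q.1) (g q.2)))).hom (δ q)) = 0
    have hq' : ((D.map a.2).hom.app (op (pb (g q.1) (g q.2)))).hom (δ q) = 0 := hq
    rw [hq', map_zero]
  have hne : ∀ q, ∃ a, Q q a := by
    intro q
    haveI := hWa q.1
    haveI := hWa q.2
    obtain ⟨k', f, hf⟩ := exists_kill_of_compact D c hc (pb (g q.1) (g q.2)) k (δ q) (hδ q)
    exact ⟨⟨k', f⟩, hf⟩
  obtain ⟨a, ha⟩ := fin_inter k Q hup hne
  -- glue
  let x : ∀ i : ↥T, (D.obj a.1).obj.obj (op (W i)) := fun i =>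
    ((D.map a.2).hom.app (op (W i))).hom (s i)
  have hx : ∀ i i', res (D.obj a.1) (pbFst (g i) (g i')) (x i) =
      res (D.obj a.1) (pbSnd (g i) (g i')) (x i') := by
    intro i i'
    change res (D.obj a.1) (pbFst (g i) (g i')) (((D.map a.2).hom.app (op (W i))).hom (s i)) =
      res (D.obj a.1) (pbSnd (g i) (g i')) (((D.map a.2).hom.app (op (W i'))).hom (s i'))
    rw [res_nat, res_nat, ← sub_eq_zero, ← map_sub]
    exact ha (i, i')
  obtain ⟨y, hy⟩ := glue (D.obj a.1) W g hcovT x hx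
  refine ⟨a.1, y, ?_⟩
  refine res_ext c.pt W g hcovT _ _ (fun i => ?_)
  rw [← ι_res, hy i]
  change ((c.ι.app a.1).hom.app (op (W i))).hom (((D.map a.2).hom.app (op (W i))).hom (s i)) = _
  rw [cocone_w_apply, hs]

end

end Groth.Agent.H2.SecColim
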