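import Mathlib
import Groth.Prelude.Def_EtBase
import Groth.Prelude.Def_PBC
import Groth.Agent.Lib.Helper2.SecColimC
import Groth.Agent.Lib.Helper2.GenF

set_option autoImplicit false
set_option linter.style.haveILetI false
set_option linter.unusedSectionVars false
set_option linter.unusedVariables false
universe u w w'

open CategoryTheory CategoryTheory.Limits Opposite AlgebraicGeometry

namespace Groth.Agent.H2.Compact

open Groth.Agent.H2.PtSec Groth.Agent.H2.StalkLC Groth.Agent.H2.Gen Groth.Agent.H2.SecColim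

section Abstract

variable {C : Type*} [Category C] {J : Type w} [Category.{w'} J] (D : J ⥤ C) (c : Cocone D)

/-- `A` is compact with respect to the cocone `c`. -/
def CompactFor (A : C) : Prop :=
  (∀ h : A ⟶ c.pt, ∃ (i : J) (hi : A ⟶ D.obj i), h = hi ≫ c.ι.app i) ∧
  (∀ (i : J) (x y : A ⟶ D.obj i), x ≫ c.ι.app i = y ≫ c.ι.app i →
    ∃ (k : J) (f : i ⟶ k), x ≫ D.map f = y ≫ D.map f)

variable {D c}

lemma compactFor_of_iso {A B : C} (e : A ≅ B) (hA : CompactFor D c A) : CompactFor D c B := by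
  refine ⟨fun h => ?_, fun i x y hxy => ?_⟩
  · obtain ⟨i, hi, hh⟩ := hA.1 (e.hom ≫ h)
    refine ⟨i, e.inv ≫ hi, ?_⟩
    rw [Category.assoc, ← hh, Iso.inv_hom_id_assoc]
  · obtain ⟨k, f, hf⟩ := hA.2 i (e.hom ≫ x) (e.hom ≫ y) (by
      rw [Category.assoc, Category.assoc, hxy])
    refine ⟨k, f, ?_⟩
    rw [← cancel_epi e.hom]
    simpa using hf

variable [IsFiltered J]

lemma compactFor_cokernel [Preadditive C] {B A : C} (φ : B ⟶ A) [HasCokernel φ]
    (hB : CompactFor D c B) (hA : CompactFor D c A) : CompactFor D c (cokernel φ) := by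
  refine ⟨fun h => ?_, fun i x y hxy => ?_⟩
  · obtain ⟨i, hi, hh⟩ := hA.1 (cokernel.π φ ≫ h)
    have h0 : (φ ≫ hi) ≫ c.ι.app i = (0 : B ⟶ D.obj i) ≫ c.ι.app i := by
      rw [Category.assoc, ← hh, cokernel.condition_assoc, zero_comp, zero_comp]
    obtain ⟨k, f, hf⟩ := hB.2 i (φ ≫ hi) 0 h0
    have hz : φ ≫ (hi ≫ D.map f) = 0 := by
      rw [← Category.assoc, hf, zero_comp]
    refine ⟨k, cokernel.desc φ (hi ≫ D.map f) hz, ?_⟩
    rw [← cancel_epi (cokernel.π φ), hh, cokernel.π_desc_assoc, Category.assoc, c.w]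
  · obtain ⟨k, f, hf⟩ := hA.2 i (cokernel.π φ ≫ x) (cokernel.π φ ≫ y) (by
      rw [Category.assoc, Category.assoc, hxy])
    refine ⟨k, f, ?_⟩
    rw [← cancel_epi (cokernel.π φ)]
    simpa using hf

lemma compactFor_biproduct [Preadditive C] {ι : Type*} [Finite ι] (A : ι → C) [HasBiproduct A]
    (hA : ∀ i, CompactFor D c (A i)) : CompactFor D c (⨁ A) := by
  classical
  haveI := Fintype.ofFinite ι
  refine ⟨fun h => ?_, fun i x y hxy => ?_⟩
  · have hex : ∀ a, ∃ (k : J) (ha : A a ⟶ D.obj k), biproduct.ι A a ≫ h = ha ≫ c.ι.app k :=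
      fun a => (hA a).1 _
    choose k ha hha using hex
    obtain ⟨S, hS⟩ := IsFiltered.sup_objs_exists (Finset.univ.image k)
    have hu : ∀ a, Nonempty (k a ⟶ S) := fun a =>
      hS (Finset.mem_image_of_mem k (Finset.mem_univ a))
    choose u _ using fun a => (hu a).elim (fun f => (⟨f, trivial⟩ : ∃ f : k a ⟶ S, True))
    refine ⟨S, biproduct.desc (fun a => ha a ≫ D.map (u a)), ?_⟩
    apply biproduct.hom_ext'
    intro a
    rw [biproduct.ι_desc_assoc, Category.assoc, c.w, hha]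
  · let Q : ι → (Σ k : J, (i ⟶ k)) → Prop := fun a p =>
      biproduct.ι A a ≫ x ≫ D.map p.2 = biproduct.ι A a ≫ y ≫ D.map p.2
    have hup : ∀ a (p : Σ k : J, (i ⟶ k)) (k' : J) (h : p.1 ⟶ k'), Q a p → Q a ⟨k', p.2 ≫ h⟩ := by
      intro a p k' h hq
      change biproduct.ι A a ≫ x ≫ D.map (p.2 ≫ h) = biproduct.ι A a ≫ y ≫ D.map (p.2 ≫ h)
      have hq' : biproduct.ι A a ≫ x ≫ D.map p.2 = biproduct.ι A a ≫ y ≫ D.map p.2 := hq
      rw [D.map_comp, ← Category.assoc x, ← Category.assoc (biproduct.ι A a), hq']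
      simp
    have hne : ∀ a, ∃ p, Q a p := by
      intro a
      obtain ⟨k, f, hf⟩ := (hA a).2 i (biproduct.ι A a ≫ x) (biproduct.ι A a ≫ y) (by
        rw [Category.assoc, Category.assoc, hxy])
      exact ⟨⟨k, f⟩, by simpa [Q] using hf⟩
    obtain ⟨p, hp⟩ := fin_inter i Q hup hne
    refine ⟨p.1, p.2, ?_⟩
    apply biproduct.hom_ext'
    intro a
    exact hp a

end Abstract

end Groth.Agent.H2.Compact
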