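import Mathlib
import Groth.Prelude.Def_EtBase
import Groth.Prelude.Def_PBC
import Groth.Agent.Lib.Helper2.CompactA
import Groth.Agent.Lib.Helper7.ST4

set_option autoImplicit false
set_option linter.style.haveILetI false
set_option linter.unusedSectionVars false
set_option linter.unusedVariables false
universe u w w'

open CategoryTheory CategoryTheory.Limits Opposite AlgebraicGeometry

namespace Groth.Agent.H2.Compact

open Groth.Agent.H2.PtSec Groth.Agent.H2.StalkLC Groth.Agent.H2.Gen Groth.Agent.H2.SecColim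

variable {X : Scheme.{u}}

/-- Homomorphisms out of `ℤ/n` are determined by the image of `1`. -/
lemma zn_hom_ext {n : ℕ} {A : AddCommGrpCat.{u + 1}} (f f' : Zn.{u} n ⟶ A)
    (h : f.hom (ULift.up 1) = f'.hom (ULift.up 1)) : f = f' := by
  apply AddCommGrpCat.hom_ext
  apply AddMonoidHom.ext
  intro x
  have hx : x = (x.down.cast : ℤ) • (ULift.up 1 : ULift.{u + 1} (ZMod n)) := by
    apply ULift.ext
    change x.down = (x.down.cast : ℤ) • (1 : ZMod n)
    rw [zsmul_one, ZMod.intCast_zmod_cast]
  rw [hx, map_zsmul, map_zsmul, h]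

set_option backward.isDefEq.respectTransparency.types false in
/-- Morphisms out of `j_! ℤ/n` are determined by the image of the tautological section. -/
lemma hom_ext_unitSec (U : X.Etale) (n : ℕ) {G : EtCoh.Ab X}
    (h h' : EtPBC.extZeroConst U (ZMod n) ⟶ G)
    (heq : (h.hom.app (op U)).hom (unitSec U n) = (h'.hom.app (op U)).hom (unitSec U n)) :
    h = h' := by
  apply ((adjC U).homEquiv (Zn.{u} n) G).injective
  rw [(adjC U).homEquiv_unit, (adjC U).homEquiv_unit]
  apply zn_hom_ext
  exact heq

section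

variable {J : Type w} [Category.{w'} J] [IsFiltered J]
  [PreservesColimitsOfShape J (forget AddCommGrpCat.{u + 1})]
  (D : J ⥤ EtCoh.Ab X) (c : Cocone D) (hc : IsColimit c)

include hc

/-- `j_! ℤ/n` with affine `j` is compact with respect to filtered colimits. -/
theorem compactFor_extZeroConst (U : X.Etale) [IsAffine U.left] (n : ℕ) :
    CompactFor D c (EtPBC.extZeroConst U (ZMod n)) := by
  have hun : n • unitSec U n = 0 := killedBy_of_kil (kil_extZeroConst U n) U (unitSec U n)
  refine ⟨fun h => ?_, fun i x y hxy => ?_⟩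
  · have ht : n • (h.hom.app (op U)).hom (unitSec U n) = 0 := by
      rw [← map_nsmul, hun, map_zero]
    obtain ⟨k₀, s₀, hs₀⟩ := exists_lift_of_affine D c hc U ((h.hom.app (op U)).hom (unitSec U n))
    have h0 : ((c.ι.app k₀).hom.app (op U)).hom (n • s₀) = 0 := by
      rw [map_nsmul, hs₀, ht]
    obtain ⟨k, f, hf⟩ := exists_kill_of_compact D c hc U k₀ (n • s₀) h0
    have hs : n • ((D.map f).hom.app (op U)).hom s₀ = 0 := by
      rw [← map_nsmul]
      exact hf
    refine ⟨k, gen U (D.obj k) n _ hs, ?_⟩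
    apply hom_ext_unitSec
    change _ = ((c.ι.app k).hom.app (op U)).hom
      (((gen U (D.obj k) n _ hs).hom.app (op U)).hom (unitSec U n))
    rw [gen_unitSec, cocone_w_apply, hs₀]
  · have h0 : ((c.ι.app i).hom.app (op U)).hom
        ((x.hom.app (op U)).hom (unitSec U n) - (y.hom.app (op U)).hom (unitSec U n)) = 0 := by
      rw [map_sub, sub_eq_zero]
      have := congrArg (fun m : EtPBC.extZeroConst U (ZMod n) ⟶ c.pt =>
        (m.hom.app (op U)).hom (unitSec U n)) hxy
      exact this
    obtain ⟨k, f, hf⟩ := exists_kill_of_compact D c hc U i _ h0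
    refine ⟨k, f, ?_⟩
    apply hom_ext_unitSec
    rw [map_sub, sub_eq_zero] at hf
    exact hf

/-- Constructible sheaves on a qcqs scheme are compact with respect to filtered colimits. -/
theorem compactFor_of_isConstructible [CompactSpace X] [QuasiSeparatedSpace X]
    (F : EtCoh.Ab X) (hF : EtPBC.IsConstructible F) : CompactFor D c F := by
  obtain ⟨a, b, U, V, n, m, hU, hV, φ, ⟨e⟩⟩ := (S3508_main X F).1 hF
  refine compactFor_of_iso e.symm (compactFor_cokernel φ ?_ ?_)
  · exact compactFor_biproduct _ (fun j => by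
      haveI := (hV j).2
      exact compactFor_extZeroConst D c hc (V j) (m j))
  · exact compactFor_biproduct _ (fun i => by
      haveI := (hU i).2
      exact compactFor_extZeroConst D c hc (U i) (n i))

end

theorem S0139_main (X : Scheme.{u}) [CompactSpace X] [QuasiSeparatedSpace X]
    (F : EtCoh.Ab X) (hF : EtPBC.IsConstructible F) (J : Type u) [SmallCategory J] [IsFiltered J] :
    PreservesColimitsOfShape J (coyoneda.obj (op F)) := by
  haveI : PreservesColimitsOfShape J (forget AddCommGrpCat.{u + 1}) :=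
    PreservesFilteredColimitsOfSize.preserves_filtered_colimits J
  constructor
  intro D
  constructor
  intro c hc
  have hcomp := compactFor_of_isConstructible D c hc F hF
  refine ⟨Types.FilteredColimit.isColimitOf' _ _ ?_ ?_⟩
  · intro h
    obtain ⟨i, hi, e⟩ := hcomp.1 h
    exact ⟨i, hi, e⟩
  · intro i x y hxy
    obtain ⟨k, f, e⟩ := hcomp.2 i x y hxy
    exact ⟨k, f, e⟩

theorem S0181_main (X : Scheme.{u}) [CompactSpace X] [QuasiSeparatedSpace X]
    {J : Type u} [SmallCategory J] [IsFiltered J] (D : J ⥤ EtCoh.Ab X)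
    (c : Cocone D) (hc : IsColimit c)
    (hD : ∀ j, EtPBC.IsConstructible (D.obj j)) (hF : EtPBC.IsConstructible c.pt) :
    ∃ (i : J) (s : c.pt ⟶ D.obj i), s ≫ c.ι.app i = 𝟙 c.pt ∧
      ∀ j : J, ∃ (k : J) (a : i ⟶ k) (b : j ⟶ k), D.map b = c.ι.app j ≫ s ≫ D.map a := by
  haveI : PreservesColimitsOfShape J (forget AddCommGrpCat.{u + 1}) :=
    PreservesFilteredColimitsOfSize.preserves_filtered_colimits J
  obtain ⟨i, s, hs⟩ := (compactFor_of_isConstructible D c hc c.pt hF).1 (𝟙 c.pt)
  refine ⟨i, s, hs.symm, fun j => ?_⟩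
  have hj := compactFor_of_isConstructible D c hc (D.obj j) (hD j)
  obtain ⟨k, f, hf⟩ := hj.2 (IsFiltered.max i j) (D.map (IsFiltered.rightToMax i j))
    (c.ι.app j ≫ s ≫ D.map (IsFiltered.leftToMax i j)) (by
      rw [c.w, Category.assoc, Category.assoc, c.w, ← hs]
      exact (Category.comp_id _).symm)
  refine ⟨k, IsFiltered.leftToMax i j ≫ f, IsFiltered.rightToMax i j ≫ f, ?_⟩
  rw [D.map_comp, hf, D.map_comp]
  simp

end Groth.Agent.H2.Compact
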