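import Mathlib

/-!
# Comparison theorem: complex of projectives with augmentation → resolution

Generalises `ProjectiveResolution.lift`/`liftHomotopy`: the source only needs to be degreewise
projective (not exact), the target only needs to be a resolution (not projective).
-/

universe v u

namespace Groth.Agent.H2.CompareRes

open CategoryTheory Category Limits ChainComplex HomologicalComplex

variable {C : Type u} [Category.{v} C] [Abelian C]

/-- A resolution: a chain complex with a quasi-isomorphism to `Z` in degree 0. -/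
structure Res (Z : C) where
  complex : ChainComplex C ℕ
  π : complex ⟶ (ChainComplex.single₀ C).obj Z
  quasiIso : QuasiIso π

attribute [instance] Res.quasiIso

namespace Res

variable {Z : C} (Q : Res Z)

lemma complex_exactAt_succ (n : ℕ) : Q.complex.ExactAt (n + 1) := by
  rw [← quasiIsoAt_iff_exactAt' Q.π (n + 1) (exactAt_succ_single_obj _ _)]
  infer_instance

lemma exact_succ (n : ℕ) :
    (ShortComplex.mk _ _ (Q.complex.d_comp_d (n + 2) (n + 1) n)).Exact :=
  ((HomologicalComplex.exactAt_iff' _ (n + 2) (n + 1) n) (by simp only [ChainComplex.prev]; rfl)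
    (by simp)).1 (Q.complex_exactAt_succ n)

@[simp]
theorem π_f_succ (n : ℕ) : Q.π.f (n + 1) = 0 :=
  (isZero_single_obj_X _ _ _ _ (by simp)).eq_of_tgt _ _

@[reassoc (attr := simp)]
theorem complex_d_comp_π_f_zero : Q.complex.d 1 0 ≫ Q.π.f 0 = 0 := by
  rw [← Q.π.comm 1 0, single_obj_d, comp_zero]

/-- The cokernel cofork. -/
@[simp]
noncomputable def cokernelCofork : CokernelCofork (Q.complex.d 1 0) :=
  CokernelCofork.ofπ _ Q.complex_d_comp_π_f_zero

set_option backward.isDefEq.respectTransparency.types false in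
set_option backward.defeqAttrib.useBackward true in
/-- `Z` is the cokernel of `d 1 0`. -/
noncomputable def isColimitCokernelCofork : IsColimit (Q.cokernelCofork) := by
  refine IsColimit.ofIsoColimit (Q.complex.opcyclesIsCokernel 1 0 (by simp)) ?_
  refine Cofork.ext (Q.complex.isoHomologyι₀.symm ≪≫ isoOfQuasiIsoAt Q.π 0 ≪≫
    singleObjHomologySelfIso _ _ _) ?_
  rw [← cancel_mono (singleObjHomologySelfIso (ComplexShape.down ℕ) 0 _).inv,
    ← cancel_mono (isoHomologyι₀ _).hom]
  dsimp
  simp only [isoHomologyι₀_inv_naturality_assoc, p_opcyclesMap_assoc, single₀_obj_zero, assoc,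
    Iso.hom_inv_id, comp_id, isoHomologyι_inv_hom_id, singleObjHomologySelfIso_inv_homologyι,
    singleObjOpcyclesSelfIso_hom, single₀ObjXSelf, Iso.refl_inv, id_comp]

set_option backward.isDefEq.respectTransparency false in
instance (n : ℕ) : Epi (Q.π.f n) := by
  cases n
  · exact epi_of_isColimit_cofork Q.isColimitCokernelCofork
  · rw [π_f_succ]; infer_instance

lemma exact₀ : (ShortComplex.mk _ _ Q.complex_d_comp_π_f_zero).Exact :=
  ShortComplex.exact_of_g_is_cokernel _ Q.isColimitCokernelCofork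

end Res

/-- A complex of projectives with an augmentation (no exactness). -/
structure PAug (Y : C) where
  complex : ChainComplex C ℕ
  projective : ∀ n, Projective (complex.X n)
  π : complex ⟶ (ChainComplex.single₀ C).obj Y

attribute [instance] PAug.projective

namespace PAug

variable {Y : C} (P : PAug Y)

@[simp]
theorem π_f_succ (n : ℕ) : P.π.f (n + 1) = 0 :=
  (isZero_single_obj_X _ _ _ _ (by simp)).eq_of_tgt _ _

@[reassoc (attr := simp)]
theorem complex_d_comp_π_f_zero : P.complex.d 1 0 ≫ P.π.f 0 = 0 := by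
  rw [← P.π.comm 1 0, single_obj_d, comp_zero]

end PAug

section lift

variable {Y Z : C}

set_option backward.isDefEq.respectTransparency false in
/-- Auxiliary construction for `lift`. -/
noncomputable def liftFZero (f : Y ⟶ Z) (P : PAug Y) (Q : Res Z) :
    P.complex.X 0 ⟶ Q.complex.X 0 :=
  Projective.factorThru (P.π.f 0 ≫ f) (Q.π.f 0)

set_option backward.isDefEq.respectTransparency false in
/-- Auxiliary construction for `lift`. -/
noncomputable def liftFOne (f : Y ⟶ Z) (P : PAug Y) (Q : Res Z) :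
    P.complex.X 1 ⟶ Q.complex.X 1 :=
  Q.exact₀.liftFromProjective (P.complex.d 1 0 ≫ liftFZero f P Q) (by simp [liftFZero])

@[simp]
theorem liftFOne_zero_comm (f : Y ⟶ Z) (P : PAug Y) (Q : Res Z) :
    liftFOne f P Q ≫ Q.complex.d 1 0 = P.complex.d 1 0 ≫ liftFZero f P Q := by
  apply Q.exact₀.liftFromProjective_comp

/-- Auxiliary construction for `lift`. -/
noncomputable def liftFSucc (P : PAug Y) (Q : Res Z) (n : ℕ)
    (g : P.complex.X n ⟶ Q.complex.X n) (g' : P.complex.X (n + 1) ⟶ Q.complex.X (n + 1))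
    (w : g' ≫ Q.complex.d (n + 1) n = P.complex.d (n + 1) n ≫ g) :
    Σ' g'' : P.complex.X (n + 2) ⟶ Q.complex.X (n + 2),
      g'' ≫ Q.complex.d (n + 2) (n + 1) = P.complex.d (n + 2) (n + 1) ≫ g' :=
  ⟨(Q.exact_succ n).liftFromProjective
    (P.complex.d (n + 2) (n + 1) ≫ g') (by simp [w]),
      (Q.exact_succ n).liftFromProjective_comp _ _⟩

/-- A morphism lifts to a chain map. -/
noncomputable def lift (f : Y ⟶ Z) (P : PAug Y) (Q : Res Z) :
    P.complex ⟶ Q.complex :=
  ChainComplex.mkHom _ _ (liftFZero f _ _) (liftFOne f _ _) (liftFOne_zero_comm f P Q)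
    fun n ⟨g, g', w⟩ => ⟨(liftFSucc P Q n g g' w).1, (liftFSucc P Q n g g' w).2⟩

set_option backward.isDefEq.respectTransparency.types false in
/-- The resolution maps intertwine the lift of a morphism and that morphism. -/
@[reassoc (attr := simp)]
theorem lift_commutes (f : Y ⟶ Z) (P : PAug Y) (Q : Res Z) :
    lift f P Q ≫ Q.π = P.π ≫ (ChainComplex.single₀ C).map f := by
  ext
  simp [lift, liftFZero, liftFOne]

/-- An auxiliary definition for `liftHomotopyZero`. -/
noncomputable def liftHomotopyZeroZero {P : PAug Y} {Q : Res Z}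
    (f : P.complex ⟶ Q.complex) (comm : f ≫ Q.π = 0) : P.complex.X 0 ⟶ Q.complex.X 1 :=
  Q.exact₀.liftFromProjective (f.f 0) (congr_fun (congr_arg HomologicalComplex.Hom.f comm) 0)

@[reassoc (attr := simp)]
lemma liftHomotopyZeroZero_comp {P : PAug Y} {Q : Res Z}
    (f : P.complex ⟶ Q.complex) (comm : f ≫ Q.π = 0) :
    liftHomotopyZeroZero f comm ≫ Q.complex.d 1 0 = f.f 0 :=
  Q.exact₀.liftFromProjective_comp _ _

/-- An auxiliary definition for `liftHomotopyZero`. -/
noncomputable def liftHomotopyZeroOne {P : PAug Y} {Q : Res Z}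
    (f : P.complex ⟶ Q.complex) (comm : f ≫ Q.π = 0) :
    P.complex.X 1 ⟶ Q.complex.X 2 :=
  (Q.exact_succ 0).liftFromProjective (f.f 1 - P.complex.d 1 0 ≫ liftHomotopyZeroZero f comm)
    (by rw [Preadditive.sub_comp, assoc, HomologicalComplex.Hom.comm,
              liftHomotopyZeroZero_comp, sub_self])

@[reassoc (attr := simp)]
lemma liftHomotopyZeroOne_comp {P : PAug Y} {Q : Res Z}
    (f : P.complex ⟶ Q.complex) (comm : f ≫ Q.π = 0) :
    liftHomotopyZeroOne f comm ≫ Q.complex.d 2 1 =
      f.f 1 - P.complex.d 1 0 ≫ liftHomotopyZeroZero f comm :=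
  (Q.exact_succ 0).liftFromProjective_comp _ _

/-- An auxiliary definition for `liftHomotopyZero`. -/
noncomputable def liftHomotopyZeroSucc {P : PAug Y} {Q : Res Z}
    (f : P.complex ⟶ Q.complex) (n : ℕ) (g : P.complex.X n ⟶ Q.complex.X (n + 1))
    (g' : P.complex.X (n + 1) ⟶ Q.complex.X (n + 2))
    (w : f.f (n + 1) = P.complex.d (n + 1) n ≫ g + g' ≫ Q.complex.d (n + 2) (n + 1)) :
    P.complex.X (n + 2) ⟶ Q.complex.X (n + 3) :=
  (Q.exact_succ (n + 1)).liftFromProjective (f.f (n + 2) - P.complex.d _ _ ≫ g') (by simp [w])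

@[reassoc (attr := simp)]
lemma liftHomotopyZeroSucc_comp {P : PAug Y} {Q : Res Z}
    (f : P.complex ⟶ Q.complex) (n : ℕ) (g : P.complex.X n ⟶ Q.complex.X (n + 1))
    (g' : P.complex.X (n + 1) ⟶ Q.complex.X (n + 2))
    (w : f.f (n + 1) = P.complex.d (n + 1) n ≫ g + g' ≫ Q.complex.d (n + 2) (n + 1)) :
    liftHomotopyZeroSucc f n g g' w ≫ Q.complex.d (n + 3) (n + 2) =
      f.f (n + 2) - P.complex.d _ _ ≫ g' :=
  (Q.exact_succ (n + 1)).liftFromProjective_comp _ _

/-- Any lift of the zero morphism is homotopic to zero. -/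
noncomputable def liftHomotopyZero {P : PAug Y} {Q : Res Z}
    (f : P.complex ⟶ Q.complex) (comm : f ≫ Q.π = 0) : Homotopy f 0 :=
  Homotopy.mkInductive _ (liftHomotopyZeroZero f comm) (by simp)
    (liftHomotopyZeroOne f comm) (by simp) fun n ⟨g, g', w⟩ =>
    ⟨liftHomotopyZeroSucc f n g g' w, by simp⟩

/-- Two lifts of the same morphism are homotopic. -/
noncomputable def liftHomotopy (f : Y ⟶ Z) {P : PAug Y} {Q : Res Z}
    (g h : P.complex ⟶ Q.complex) (g_comm : g ≫ Q.π = P.π ≫ (ChainComplex.single₀ C).map f)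
    (h_comm : h ≫ Q.π = P.π ≫ (ChainComplex.single₀ C).map f) : Homotopy g h :=
  Homotopy.equivSubZero.invFun (liftHomotopyZero _ (by simp [g_comm, h_comm]))

end lift

end Groth.Agent.H2.CompareRes
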