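import Groth.Agent.Lib.Helper2.ComplBasis

namespace Groth.Agent.H2.CB

open UniformSpace Topology Filter

universe u v

section Seq

variable {G : Type*} [AddCommGroup G] [UniformSpace G] [IsUniformAddGroup G]

theorem cauchySeq_of_diff (V : ℕ → AddSubgroup G)
    (hVb : ∀ T ∈ 𝓝 (0 : G), ∃ k, (V k : Set G) ⊆ T) (m : ℕ → G)
    (hdiff : ∀ k l, k ≤ l → m l - m k ∈ V k) : CauchySeq m := by
  rw [cauchySeq_iff]
  intro W hW
  rw [uniformity_eq_comap_nhds_zero G] at hW
  obtain ⟨T, hT, hTW⟩ := hW
  obtain ⟨k, hk⟩ := hVb T hT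
  refine ⟨k, fun a ha b hb => hTW ?_⟩
  change m b - m a ∈ T
  apply hk
  have e : m b - m a = (m b - m k) - (m a - m k) := by abel
  rw [e]
  exact (V k).sub_mem (hdiff k b hb) (hdiff k a ha)

theorem tendsto_of_sub_mem_cl [NonarchimedeanAddGroup G] (V : ℕ → AddSubgroup G)
    (hanti : Antitone V)
    (hVb : ∀ T ∈ 𝓝 (0 : G), ∃ k, (V k : Set G) ⊆ T) (m : ℕ → G) (x : Completion G)
    (h : ∀ k, ((m k : G) : Completion G) - x ∈ cl (V k)) :
    Tendsto ((fun g : G => (g : Completion G)) ∘ m) atTop (𝓝 x) := by
  rw [tendsto_def]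
  intro W hW
  have hW0 : {z : Completion G | x + z ∈ W} ∈ 𝓝 (0 : Completion G) := by
    have : Tendsto (fun z => x + z) (𝓝 0) (𝓝 (x + 0)) :=
      (continuous_const.add continuous_id).tendsto 0
    rw [add_zero] at this
    exact this hW
  obtain ⟨U, hU⟩ := exists_cl_subset hW0
  obtain ⟨k0, hk0⟩ := hVb _ (U.isOpen.mem_nhds (U : AddSubgroup G).zero_mem)
  rw [Filter.mem_atTop_sets]
  refine ⟨k0, fun k hk => ?_⟩
  change ((m k : G) : Completion G) ∈ W
  have e : ((m k : G) : Completion G) = x + (((m k : G) : Completion G) - x) := by abel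
  rw [e]
  apply hU
  refine cl_mono ?_ (h k)
  intro g hg
  exact hk0 (hanti hk hg)

end Seq

section Adic

variable {R : Type u} [CommRing R] {M : Type v} [AddCommGroup M] [Module R M] [UniformSpace M]
  [IsUniformAddGroup M] [UniformContinuousConstSMul R M]

/-- the canonical linear map to the completion. -/
noncomputable def toComplL : M →ₗ[R] Completion M where
  toFun := fun m => (m : Completion M)
  map_add' := Completion.coe_add
  map_smul' := fun c m => Completion.coe_smul c m

/-- closure of the image of a submodule in the completion, as a submodule. -/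
noncomputable def clS (P : Submodule R M) : Submodule R (Completion M) :=
  { cl P.toAddSubgroup with
    smul_mem' := by
      intro c x hx
      have hx' : x ∈ closure ((fun g : M => (g : Completion M)) '' (P : Set M)) := hx
      change c • x ∈ closure ((fun g : M => (g : Completion M)) '' (P : Set M))
      refine map_mem_closure (continuous_const_smul c) hx' ?_
      rintro _ ⟨p, hp, rfl⟩
      exact ⟨c • p, P.smul_mem c hp, Completion.coe_smul c p⟩ }

theorem clS_toAddSubgroup (P : Submodule R M) : (clS P).toAddSubgroup = cl P.toAddSubgroup := rfl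

theorem mem_clS_iff (P : Submodule R M) (x : Completion M) :
    x ∈ clS P ↔ x ∈ cl P.toAddSubgroup := Iff.rfl

/-- elements of `span (range g) • P` are combinations `∑ g j • p j`. -/
theorem exists_sum_of_mem_span_smul {N : Type*} [AddCommGroup N] [Module R N]
    {r : ℕ} (g : Fin r → R) (P : Submodule R N) {x : N}
    (hx : x ∈ (Ideal.span (Set.range g)) • P) :
    ∃ p : Fin r → N, (∀ j, p j ∈ P) ∧ x = ∑ j, g j • p j := by
  induction hx using Submodule.smul_induction_on' with
  | smul a ha n hn =>
    obtain ⟨c, rfl⟩ := (Submodule.mem_span_range_iff_exists_fun R).mp ha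
    refine ⟨fun j => c j • n, fun j => P.smul_mem _ hn, ?_⟩
    rw [Finset.sum_smul]
    refine Finset.sum_congr rfl fun j _ => ?_
    rw [smul_eq_mul, mul_comm, mul_smul]
  | add x hx y hy ihx ihy =>
    obtain ⟨p, hp, rfl⟩ := ihx
    obtain ⟨q, hq, rfl⟩ := ihy
    refine ⟨fun j => p j + q j, fun j => P.add_mem (hp j) (hq j), ?_⟩
    rw [← Finset.sum_add_distrib]
    refine Finset.sum_congr rfl fun j _ => ?_
    rw [smul_add]

theorem smul_clS_le (J : Ideal R) (P : Submodule R M) : J • clS P ≤ clS (J • P) := by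
  rw [Submodule.smul_le]
  intro c hc x hx
  have hx' : x ∈ closure ((fun g : M => (g : Completion M)) '' (P : Set M)) := hx
  change c • x ∈ closure ((fun g : M => (g : Completion M)) '' ((J • P : Submodule R M) : Set M))
  refine map_mem_closure (continuous_const_smul c) hx' ?_
  rintro _ ⟨p, hp, rfl⟩
  exact ⟨c • p, Submodule.smul_mem_smul hc hp, Completion.coe_smul c p⟩

theorem clS_pow_smul_le (I : Ideal R) (M' : Submodule R M)
    (hopen : ∀ k : ℕ, IsOpen ((I ^ k • M' : Submodule R M) : Set M))
    (hbasis : ∀ U ∈ 𝓝 (0 : M), ∃ k : ℕ, ((I ^ k • M' : Submodule R M) : Set M) ⊆ U)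
    (n : ℕ) {r : ℕ} (g : Fin r → R) (hg : I ^ n = Ideal.span (Set.range g)) :
    clS (I ^ n • M') ≤ I ^ n • clS M' := by
  haveI : NonarchimedeanAddGroup M :=
    { is_nonarchimedean := by
        intro T hT
        obtain ⟨k, hk⟩ := hbasis T hT
        exact ⟨⟨(I ^ k • M').toAddSubgroup, hopen k⟩, hk⟩ }
  intro x hx
  let V : ℕ → AddSubgroup M := fun k => (I ^ (n + k) • M').toAddSubgroup
  have hVopen : ∀ k, IsOpen (V k : Set M) := fun k => hopen (n + k)
  have hpowanti : ∀ a b : ℕ, a ≤ b → I ^ b • M' ≤ I ^ a • M' := fun a b hab =>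
    Submodule.smul_mono_left (Ideal.pow_le_pow_right hab)
  have hanti : Antitone V := fun a b hab => hpowanti _ _ (Nat.add_le_add_left hab n)
  have hVb : ∀ T ∈ 𝓝 (0 : M), ∃ k, (V k : Set M) ⊆ T := by
    intro T hT
    obtain ⟨k, hk⟩ := hbasis T hT
    exact ⟨k, fun z hz => hk (hpowanti k (n + k) (Nat.le_add_left k n) hz)⟩
  -- approximations
  have h1 : ∀ k, ∃ m ∈ (I ^ n • M' : Submodule R M),
      ((m : M) : Completion M) - x ∈ cl (V k) := by
    intro k
    have hopen' : IsOpen {z : Completion M | z - x ∈ cl (V k)} :=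
      (isOpen_cl (hVopen k)).preimage (continuous_id.sub continuous_const)
    have hx' : x ∈ closure ((fun g : M => (g : Completion M)) ''
        ((I ^ n • M' : Submodule R M) : Set M)) := hx
    rw [mem_closure_iff] at hx'
    obtain ⟨z, hz, ⟨m, hm, rfl⟩⟩ := hx' _ hopen' (by simp [(cl _).zero_mem])
    exact ⟨m, hm, hz⟩
  choose m hm0 hm using h1
  have h2 : ∀ k, ∃ a : Fin r → M, (∀ j, a j ∈ I ^ k • M') ∧
      m (k + 1) - m k = ∑ j, g j • a j := by
    intro k
    have h3 : ((m (k + 1) - m k : M) : Completion M) ∈ cl (V k) := by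
      have e : ((m (k + 1) - m k : M) : Completion M) =
          (((m (k + 1) : M) : Completion M) - x) - (((m k : M) : Completion M) - x) := by
        rw [Completion.coe_sub]; abel
      rw [e]
      exact (cl _).sub_mem (cl_mono (hanti (Nat.le_succ k)) (hm (k + 1))) (hm k)
    rw [coe_mem_cl_iff (hVopen k)] at h3
    have h4 : m (k + 1) - m k ∈ (Ideal.span (Set.range g)) • (I ^ k • M') := by
      rw [← hg, ← mul_smul, ← pow_add]
      exact h3
    exact exists_sum_of_mem_span_smul g _ h4
  choose a ha hma using h2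
  obtain ⟨b, hb, hmb⟩ : ∃ b : Fin r → M, (∀ j, b j ∈ M') ∧ m 0 = ∑ j, g j • b j := by
    have h4 : m 0 ∈ (Ideal.span (Set.range g)) • M' := by
      rw [← hg]; exact hm0 0
    exact exists_sum_of_mem_span_smul g _ h4
  let A : Fin r → ℕ → M := fun j K => b j + ∑ k ∈ Finset.range K, a k j
  have hA0 : ∀ j, A j 0 = b j := fun j => by simp [A]
  have hAs : ∀ j K, A j (K + 1) = A j K + a K j := fun j K => by
    simp only [A, Finset.sum_range_succ]; abel
  have hmA : ∀ K, m K = ∑ j, g j • A j K := by
    intro K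
    induction K with
    | zero => simp only [hA0]; exact hmb
    | succ K ih =>
      have e : m (K + 1) = m K + (m (K + 1) - m K) := by abel
      rw [e, hma, ih, ← Finset.sum_add_distrib]
      refine Finset.sum_congr rfl fun j _ => ?_
      rw [hAs j K, smul_add (g j) (A j K) (a K j)]
  have haM' : ∀ k j, a k j ∈ M' := fun k j => by
    have := hpowanti 0 k (Nat.zero_le k) (ha k j)
    rwa [pow_zero, Ideal.one_eq_top, Submodule.top_smul] at this
  have hAM' : ∀ j K, A j K ∈ M' := by
    intro j K
    induction K with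
    | zero => rw [hA0]; exact hb j
    | succ K ih => rw [hAs]; exact M'.add_mem ih (haM' K j)
  have hAdiff : ∀ j K L, K ≤ L → A j L - A j K ∈ (I ^ K • M').toAddSubgroup := by
    intro j K L hKL
    induction L, hKL using Nat.le_induction with
    | base => rw [sub_self]; exact AddSubgroup.zero_mem _
    | succ L hKL ih =>
      have e : A j (L + 1) - A j K = (A j L - A j K) + a L j := by rw [hAs]; abel
      rw [e]
      exact AddSubgroup.add_mem _ ih (hpowanti K L hKL (ha L j))
  have hAcau : ∀ j, CauchySeq (A j) := fun j =>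
    cauchySeq_of_diff (fun k => (I ^ k • M').toAddSubgroup) hbasis (A j) (hAdiff j)
  have hlim : ∀ j, ∃ α : Completion M,
      Tendsto ((fun g : M => (g : Completion M)) ∘ A j) atTop (𝓝 α) := fun j =>
    cauchySeq_tendsto_of_complete ((Completion.uniformContinuous_coe M).comp_cauchySeq (hAcau j))
  choose α hα using hlim
  have hαmem : ∀ j, α j ∈ clS M' := fun j =>
    (isClosed_cl M'.toAddSubgroup).mem_of_tendsto (hα j)
      (Filter.Eventually.of_forall fun K => coe_mem_cl (hAM' j K))
  have ht1 : Tendsto ((fun g : M => (g : Completion M)) ∘ m) atTop (𝓝 x) :=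
    tendsto_of_sub_mem_cl V hanti hVb m x hm
  have ht2 : Tendsto ((fun g : M => (g : Completion M)) ∘ m) atTop (𝓝 (∑ j, g j • α j)) := by
    have e : ((fun g : M => (g : Completion M)) ∘ m) =
        fun K => ∑ j, g j • ((fun g : M => (g : Completion M)) ∘ A j) K := by
      funext K
      simp only [Function.comp_apply]
      rw [hmA K]
      change toComplL (R := R) (∑ j, g j • A j K) = _
      rw [map_sum]
      refine Finset.sum_congr rfl fun j _ => ?_
      rw [map_smul]; rfl
    rw [e]
    exact tendsto_finsetSum _ fun j _ => (hα j).const_smul (g j)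
  rw [tendsto_nhds_unique ht1 ht2]
  refine Submodule.sum_mem _ fun j _ => Submodule.smul_mem_smul ?_ (hαmem j)
  rw [hg]
  exact Ideal.subset_span ⟨j, rfl⟩

theorem S10173
    (I : Ideal R) (hI : I.FG)
    (M' : Submodule R M) (hopen : ∀ n : ℕ, IsOpen ((I ^ n • M' : Submodule R M) : Set M))
    (hbasis : ∀ U ∈ nhds (0 : M), ∃ n : ℕ, ((I ^ n • M' : Submodule R M) : Set M) ⊆ U) :
    (∃ M'' : Submodule R (UniformSpace.Completion M),
        (∀ n : ℕ, IsOpen ((I ^ n • M'' : Submodule R (UniformSpace.Completion M)) :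
          Set (UniformSpace.Completion M))) ∧
        ∀ U ∈ nhds (0 : UniformSpace.Completion M), ∃ n : ℕ,
          ((I ^ n • M'' : Submodule R (UniformSpace.Completion M)) :
            Set (UniformSpace.Completion M)) ⊆ U) ∧
      ∀ n : ℕ, 0 < n →
        Function.Surjective ((QuotientAddGroup.mk' (I ^ n • ⊤ : Submodule R (UniformSpace.Completion M)).toAddSubgroup).comp
          (UniformSpace.Completion.toCompl : M →+ UniformSpace.Completion M)) ∧
        ((QuotientAddGroup.mk' (I ^ n • ⊤ : Submodule R (UniformSpace.Completion M)).toAddSubgroup).comp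
          (UniformSpace.Completion.toCompl : M →+ UniformSpace.Completion M)).ker = (I ^ n • ⊤ : Submodule R M).toAddSubgroup := by
  haveI : NonarchimedeanAddGroup M :=
    { is_nonarchimedean := by
        intro T hT
        obtain ⟨k, hk⟩ := hbasis T hT
        exact ⟨⟨(I ^ k • M').toAddSubgroup, hopen k⟩, hk⟩ }
  have hgen : ∀ n : ℕ, ∃ (r : ℕ) (g : Fin r → R), I ^ n = Ideal.span (Set.range g) := by
    intro n
    obtain ⟨r, g, hg⟩ := Submodule.fg_iff_exists_fin_generating_family.mp (hI.pow (n := n))
    exact ⟨r, g, hg.symm⟩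
  have heq : ∀ n : ℕ, I ^ n • clS M' = clS (I ^ n • M') := fun n => by
    obtain ⟨r, g, hg⟩ := hgen n
    exact le_antisymm (smul_clS_le _ _) (clS_pow_smul_le I M' hopen hbasis n g hg)
  have hM'open : IsOpen ((M' : Submodule R M).toAddSubgroup : Set M) := by
    have := hopen 0
    rwa [pow_zero, Ideal.one_eq_top, Submodule.top_smul] at this
  refine ⟨⟨clS M', fun n => ?_, fun U hU => ?_⟩, fun n _ => ⟨?_, ?_⟩⟩
  · rw [heq]; exact isOpen_cl (hopen n)
  · obtain ⟨U0, hU0⟩ := exists_cl_subset hU
    obtain ⟨n, hn⟩ := hbasis _ (U0.isOpen.mem_nhds (U0 : AddSubgroup M).zero_mem)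
    refine ⟨n, ?_⟩
    rw [heq]
    refine Set.Subset.trans ?_ hU0
    exact cl_mono (U := (I ^ n • M').toAddSubgroup) (fun z hz => hn hz)
  · intro y
    obtain ⟨x, rfl⟩ := QuotientAddGroup.mk'_surjective _ y
    obtain ⟨m, hm⟩ := exists_coe_sub_mem_cl (U := (I ^ n • M').toAddSubgroup) (hopen n) x
    refine ⟨m, ?_⟩
    rw [AddMonoidHom.comp_apply]
    apply (QuotientAddGroup.eq).mpr
    have h1 : ((m : M) : Completion M) - x ∈ I ^ n • clS M' := by rw [heq]; exact hm
    have h2 : ((m : M) : Completion M) - x ∈ (I ^ n • ⊤ : Submodule R (Completion M)) :=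
      Submodule.smul_mono le_rfl le_top h1
    have e : -(Completion.toCompl m) + x = -(((m : M) : Completion M) - x) := by
      change -((m : M) : Completion M) + x = _
      abel
    rw [e]
    exact (Submodule.neg_mem _ h2)
  · ext m
    rw [AddMonoidHom.mem_ker, AddMonoidHom.comp_apply]
    change (QuotientAddGroup.mk ((m : M) : Completion M) : _ ⧸ _) = 0 ↔ m ∈ (I ^ n • ⊤ : Submodule R M)
    rw [QuotientAddGroup.eq_zero_iff]
    change ((m : M) : Completion M) ∈ (I ^ n • ⊤ : Submodule R (Completion M)) ↔ _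
    obtain ⟨r, g, hg⟩ := hgen n
    constructor
    · intro h
      rw [hg] at h
      obtain ⟨xs, -, hxs⟩ := exists_sum_of_mem_span_smul g ⊤ h
      have h3 : ∀ j, ∃ mj : M, ((mj : M) : Completion M) - xs j ∈ cl M'.toAddSubgroup :=
        fun j => exists_coe_sub_mem_cl hM'open (xs j)
      choose ms hms using h3
      have h4 : ((m - ∑ j, g j • ms j : M) : Completion M) ∈ I ^ n • clS M' := by
        have e : ((m - ∑ j, g j • ms j : M) : Completion M) =
            -∑ j, g j • (((ms j : M) : Completion M) - xs j) := by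
          rw [Completion.coe_sub, hxs]
          change _ - toComplL (R := R) (∑ j, g j • ms j) = _
          rw [map_sum, ← Finset.sum_sub_distrib, ← Finset.sum_neg_distrib]
          refine Finset.sum_congr rfl fun j _ => ?_
          rw [map_smul, smul_sub]
          change _ - g j • ((ms j : M) : Completion M) = _
          abel
        rw [e]
        refine Submodule.neg_mem _ (Submodule.sum_mem _ fun j _ => ?_)
        refine Submodule.smul_mem_smul ?_ (hms j)
        rw [hg]; exact Ideal.subset_span ⟨j, rfl⟩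
      rw [heq] at h4
      have h5 : m - ∑ j, g j • ms j ∈ (I ^ n • M').toAddSubgroup :=
        (coe_mem_cl_iff (U := (I ^ n • M').toAddSubgroup) (hopen n) _).mp h4
      have e2 : m = (m - ∑ j, g j • ms j) + ∑ j, g j • ms j := by abel
      rw [e2]
      refine Submodule.add_mem _ (Submodule.smul_mono le_rfl le_top h5)
        (Submodule.sum_mem _ fun j _ => ?_)
      refine Submodule.smul_mem_smul ?_ Submodule.mem_top
      rw [hg]; exact Ideal.subset_span ⟨j, rfl⟩
    · intro h
      have h6 : toComplL (R := R) m ∈ (I ^ n • (⊤ : Submodule R M)).map toComplL :=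
        Submodule.mem_map_of_mem h
      rw [Submodule.map_smul''] at h6
      exact Submodule.smul_mono le_rfl le_top h6

end Adic

end Groth.Agent.H2.CB
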