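import Mathlib

namespace Groth.Agent.H2.CB

open UniformSpace Topology Filter

variable {G : Type*} [AddCommGroup G] [UniformSpace G] [IsUniformAddGroup G]

/-- closure of the image of a subgroup in the completion. -/
noncomputable def cl (U : AddSubgroup G) : AddSubgroup (Completion G) :=
  (U.map (Completion.toCompl : G →+ Completion G)).topologicalClosure

theorem coe_cl (U : AddSubgroup G) :
    (cl U : Set (Completion G)) = closure ((fun g : G => (g : Completion G)) '' (U : Set G)) := rfl

theorem cl_mono {U V : AddSubgroup G} (h : U ≤ V) : cl U ≤ cl V := by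
  intro x hx
  have hx' : x ∈ (cl U : Set (Completion G)) := hx
  rw [coe_cl] at hx'
  change x ∈ (cl V : Set (Completion G))
  rw [coe_cl]
  exact closure_mono (Set.image_mono h) hx'

theorem coe_mem_cl {U : AddSubgroup G} {g : G} (hg : g ∈ U) : (g : Completion G) ∈ cl U := by
  change (g : Completion G) ∈ (cl U : Set (Completion G))
  rw [coe_cl]
  exact subset_closure ⟨g, hg, rfl⟩

theorem isClosed_cl (U : AddSubgroup G) : IsClosed (cl U : Set (Completion G)) := by
  rw [coe_cl]; exact isClosed_closure

theorem cl_mem_nhds {U : AddSubgroup G} (hU : (U : Set G) ∈ 𝓝 (0 : G)) :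
    (cl U : Set (Completion G)) ∈ 𝓝 (0 : Completion G) := by
  rw [coe_cl, ← Completion.coe_zero]
  exact Completion.isDenseInducing_coe.closure_image_mem_nhds hU

theorem isOpen_cl {U : AddSubgroup G} (hU : IsOpen (U : Set G)) :
    IsOpen (cl U : Set (Completion G)) :=
  AddSubgroup.isOpen_of_mem_nhds _ (cl_mem_nhds (hU.mem_nhds U.zero_mem))

theorem coe_mem_cl_iff {U : AddSubgroup G} (hU : IsOpen (U : Set G)) (g : G) :
    (g : Completion G) ∈ cl U ↔ g ∈ U := by
  refine ⟨fun h => ?_, coe_mem_cl⟩
  have hcl : IsClosed (U : Set G) := AddSubgroup.isClosed_of_isOpen U hU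
  have h2 := Completion.isDenseInducing_coe.isInducing.closure_eq_preimage_closure_image (U : Set G)
  rw [hcl.closure_eq] at h2
  have h3 : g ∈ (U : Set G) := by
    rw [h2]
    exact h
  exact h3

theorem exists_cl_subset [NonarchimedeanAddGroup G] {W : Set (Completion G)}
    (hW : W ∈ 𝓝 (0 : Completion G)) :
    ∃ U : OpenAddSubgroup G, (cl (U : AddSubgroup G) : Set (Completion G)) ⊆ W := by
  obtain ⟨W', hW', hcl, hsub⟩ := exists_mem_nhds_isClosed_subset hW
  have h1 : (fun g : G => (g : Completion G)) ⁻¹' W' ∈ 𝓝 (0 : G) := by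
    apply (Completion.continuous_coe G).continuousAt
    rw [Completion.coe_zero]
    exact hW'
  obtain ⟨U, hU⟩ := NonarchimedeanAddGroup.is_nonarchimedean _ h1
  refine ⟨U, ?_⟩
  rw [coe_cl]
  refine (closure_minimal ?_ hcl).trans hsub
  rintro _ ⟨g, hg, rfl⟩
  exact hU hg

/-- density: every element is approximated modulo `cl U`. -/
theorem exists_coe_sub_mem_cl {U : AddSubgroup G} (hU : IsOpen (U : Set G)) (x : Completion G) :
    ∃ g : G, (g : Completion G) - x ∈ cl U := by
  have hopen : IsOpen {y : Completion G | y - x ∈ cl U} :=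
    (isOpen_cl hU).preimage (continuous_id.sub continuous_const)
  have hne : ({y : Completion G | y - x ∈ cl U}).Nonempty := ⟨x, by simp [(cl U).zero_mem]⟩
  obtain ⟨g, hg⟩ := Completion.denseRange_coe.exists_mem_open hopen hne
  exact ⟨g, hg⟩

section Quot

variable {Q : Type*} [AddCommGroup Q] [UniformSpace Q] [IsUniformAddGroup Q]

theorem nonarch_of_open [NonarchimedeanAddGroup G] (π : G →+ Q) (hc : Continuous π)
    (ho : IsOpenMap π) : NonarchimedeanAddGroup Q where
  is_nonarchimedean := by
    intro T hT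
    have h1 : π ⁻¹' T ∈ 𝓝 (0 : G) := by
      apply hc.continuousAt
      rw [map_zero]; exact hT
    obtain ⟨U, hU⟩ := NonarchimedeanAddGroup.is_nonarchimedean _ h1
    refine ⟨⟨(U : AddSubgroup G).map π, ?_⟩, ?_⟩
    · change IsOpen (((U : AddSubgroup G).map π : AddSubgroup Q) : Set Q)
      rw [AddSubgroup.coe_map]; exact ho _ U.isOpen
    · rintro _ ⟨g, hg, rfl⟩
      exact hU hg

theorem image_cl_subset (π : G →+ Q) (hc : Continuous π) (U : AddSubgroup G) :
    (AddMonoidHom.completion π hc) '' (cl U : Set (Completion G)) ⊆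
      (cl (U.map π) : Set (Completion Q)) := by
  rw [coe_cl, coe_cl]
  refine (image_closure_subset_closure_image
    (AddMonoidHom.continuous_completion π hc)).trans (closure_mono ?_)
  rintro _ ⟨_, ⟨g, hg, rfl⟩, rfl⟩
  exact ⟨π g, ⟨g, hg, rfl⟩, (AddMonoidHom.completion_coe π hc g).symm⟩

theorem map_preimage_zero [NonarchimedeanAddGroup G] (π : G →+ Q) (hc : Continuous π)
    (ho : IsOpenMap π) :
    (Completion.map π) ⁻¹' {0} =
      closure (Set.range (fun n : π.ker => ((n : G) : Completion G))) := by
  set F : Completion G →+ Completion Q := AddMonoidHom.completion π hc with hF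
  have hFc : Continuous F := AddMonoidHom.continuous_completion π hc
  have hFcoe : ∀ g : G, F g = (π g : Completion Q) := AddMonoidHom.completion_coe π hc
  have hFeq : (F : Completion G → Completion Q) = Completion.map π := rfl
  rw [← hFeq]
  apply Set.Subset.antisymm
  · intro x hx
    have hx0 : F x = 0 := hx
    rw [mem_closure_iff_nhds]
    intro W hW
    have hW0 : {z : Completion G | x + z ∈ W} ∈ 𝓝 (0 : Completion G) := by
      have : Tendsto (fun z => x + z) (𝓝 0) (𝓝 (x + 0)) :=
        (continuous_const.add continuous_id).tendsto 0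
      rw [add_zero] at this
      exact this hW
    obtain ⟨U, hU⟩ := exists_cl_subset hW0
    obtain ⟨m, hm⟩ := exists_coe_sub_mem_cl U.isOpen x
    have h1 : F ((m : Completion G) - x) ∈ cl ((U : AddSubgroup G).map π) :=
      image_cl_subset π hc _ ⟨_, hm, rfl⟩
    rw [map_sub, hx0, sub_zero, hFcoe] at h1
    have hopenQ : IsOpen (((U : AddSubgroup G).map π : AddSubgroup Q) : Set Q) := by
      rw [AddSubgroup.coe_map]; exact ho _ U.isOpen
    rw [coe_mem_cl_iff hopenQ] at h1
    obtain ⟨u, hu, hum⟩ := h1
    refine ⟨((m - u : G) : Completion G), ?_, ⟨⟨m - u, ?_⟩, rfl⟩⟩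
    · have : ((m - u : G) : Completion G) =
          x + (((m : Completion G) - x) - (u : Completion G)) := by
        rw [Completion.coe_sub]; abel
      rw [this]
      apply hU
      exact (cl _).sub_mem hm (coe_mem_cl hu)
    · rw [AddMonoidHom.mem_ker, map_sub, hum, sub_self]
  · apply closure_minimal
    · rintro _ ⟨n, rfl⟩
      change F _ = 0
      rw [hFcoe, AddMonoidHom.mem_ker.mp n.2, Completion.coe_zero]
    · exact isClosed_singleton.preimage hFc

/-- a decreasing sequence of open subgroups inside `U0` forming a basis at `0`. -/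
theorem exists_antitone_open [NonarchimedeanAddGroup G]
    (hcount : (𝓝 (0 : G)).IsCountablyGenerated) (U0 : OpenAddSubgroup G) :
    ∃ V : ℕ → OpenAddSubgroup G, Antitone V ∧ (∀ k, V k ≤ U0) ∧
      ∀ T ∈ 𝓝 (0 : G), ∃ k, ((V k : OpenAddSubgroup G) : Set G) ⊆ T := by
  obtain ⟨s, hs⟩ := (𝓝 (0 : G)).exists_antitone_basis
  have h1 : ∀ k, ∃ V' : OpenAddSubgroup G, (V' : Set G) ⊆ s k := fun k =>
    NonarchimedeanAddGroup.is_nonarchimedean _ (hs.mem k)
  choose V' hV' using h1
  let V : ℕ → OpenAddSubgroup G := fun k => Nat.rec (U0 ⊓ V' 0) (fun j W => W ⊓ V' (j + 1)) k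
  have hV0 : V 0 = U0 ⊓ V' 0 := rfl
  have hVs : ∀ k, V (k + 1) = V k ⊓ V' (k + 1) := fun k => rfl
  have hanti : Antitone V := antitone_nat_of_succ_le (fun k => by rw [hVs]; exact inf_le_left)
  have hle : ∀ k, V k ≤ V' k := by
    intro k
    cases k with
    | zero => rw [hV0]; exact inf_le_right
    | succ j => rw [hVs]; exact inf_le_right
  refine ⟨V, hanti, fun k => (hanti (Nat.zero_le k)).trans (by rw [hV0]; exact inf_le_left), ?_⟩
  intro T hT
  obtain ⟨k, hk⟩ := hs.mem_iff.mp hT
  refine ⟨k, fun g hg => hk (hV' k (hle k hg))⟩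

theorem cl_map_subset_image [NonarchimedeanAddGroup G] (π : G →+ Q) (hc : Continuous π)
    (ho : IsOpenMap π) (hcount : (𝓝 (0 : G)).IsCountablyGenerated) (U0 : OpenAddSubgroup G) :
    (cl ((U0 : AddSubgroup G).map π) : Set (Completion Q)) ⊆
      (Completion.map π) '' (cl (U0 : AddSubgroup G) : Set (Completion G)) := by
  haveI : NonarchimedeanAddGroup Q := nonarch_of_open π hc ho
  set F : Completion G →+ Completion Q := AddMonoidHom.completion π hc with hF
  have hFc : Continuous F := AddMonoidHom.continuous_completion π hc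
  have hFcoe : ∀ g : G, F g = (π g : Completion Q) := AddMonoidHom.completion_coe π hc
  have hFeq : (F : Completion G → Completion Q) = Completion.map π := rfl
  rw [← hFeq]
  obtain ⟨V, hanti, hVU, hVb⟩ := exists_antitone_open hcount U0
  have hopenQ : ∀ k, IsOpen (((V k : AddSubgroup G).map π : AddSubgroup Q) : Set Q) := by
    intro k
    rw [AddSubgroup.coe_map]; exact ho _ (V k).isOpen
  intro y hy
  -- approximations
  have h1 : ∀ k, ∃ u ∈ (U0 : AddSubgroup G),
      ((π u : Q) : Completion Q) - y ∈ cl ((V k : AddSubgroup G).map π) := by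
    intro k
    have hopen : IsOpen {z : Completion Q | z - y ∈ cl ((V k : AddSubgroup G).map π)} :=
      (isOpen_cl (hopenQ k)).preimage (continuous_id.sub continuous_const)
    have hy' : y ∈ closure ((fun q : Q => (q : Completion Q)) ''
        (((U0 : AddSubgroup G).map π : AddSubgroup Q) : Set Q)) := hy
    rw [mem_closure_iff] at hy'
    obtain ⟨z, hz, ⟨_, ⟨u, hu, rfl⟩, rfl⟩⟩ := hy' _ hopen (by simp [(cl _).zero_mem])
    exact ⟨u, hu, hz⟩
  choose u hu0 hu using h1
  have h2 : ∀ k, ∃ v ∈ (V k : AddSubgroup G), π v = π (u (k + 1) - u k) := by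
    intro k
    have h3 : ((π (u (k + 1) - u k) : Q) : Completion Q) ∈ cl ((V k : AddSubgroup G).map π) := by
      have e : ((π (u (k + 1) - u k) : Q) : Completion Q) =
          (((π (u (k + 1)) : Q) : Completion Q) - y) - (((π (u k) : Q) : Completion Q) - y) := by
        rw [map_sub, Completion.coe_sub]; abel
      rw [e]
      refine (cl _).sub_mem (cl_mono ?_ (hu (k + 1))) (hu k)
      exact AddSubgroup.map_mono (hanti (Nat.le_succ k))
    rw [coe_mem_cl_iff (hopenQ k)] at h3
    obtain ⟨v, hv, hvπ⟩ := h3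
    exact ⟨v, hv, hvπ⟩
  choose v hv hvπ using h2
  let m : ℕ → G := fun k => Nat.rec (u 0) (fun j w => w + v j) k
  have hm0 : m 0 = u 0 := rfl
  have hms : ∀ k, m (k + 1) = m k + v k := fun k => rfl
  have hmπ : ∀ k, π (m k) = π (u k) := by
    intro k
    induction k with
    | zero => rw [hm0]
    | succ j ih => rw [hms, map_add, ih, hvπ, map_sub]; abel
  have hmU : ∀ k, m k ∈ (U0 : AddSubgroup G) := by
    intro k
    induction k with
    | zero => rw [hm0]; exact hu0 0
    | succ j ih => rw [hms]; exact (U0 : AddSubgroup G).add_mem ih (hVU j (hv j))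
  have hdiff : ∀ k l, k ≤ l → m l - m k ∈ (V k : AddSubgroup G) := by
    intro k l hkl
    induction l, hkl using Nat.le_induction with
    | base => rw [sub_self]; exact (V k : AddSubgroup G).zero_mem
    | succ l hkl ih =>
      have e : m (l + 1) - m k = (m l - m k) + v l := by rw [hms]; abel
      rw [e]
      exact (V k : AddSubgroup G).add_mem ih (hanti hkl (hv l))
  -- Cauchy
  have hcau : CauchySeq m := by
    rw [cauchySeq_iff]
    intro W hW
    rw [uniformity_eq_comap_nhds_zero G] at hW
    obtain ⟨T, hT, hTW⟩ := hW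
    obtain ⟨k, hk⟩ := hVb T hT
    refine ⟨k, fun a ha b hb => hTW ?_⟩
    change m b - m a ∈ T
    apply hk
    have e : m b - m a = (m b - m k) - (m a - m k) := by abel
    rw [e]
    exact (V k : AddSubgroup G).sub_mem (hdiff k b hb) (hdiff k a ha)
  have hcau' : CauchySeq ((fun g : G => (g : Completion G)) ∘ m) :=
    (Completion.uniformContinuous_coe G).comp_cauchySeq hcau
  obtain ⟨x, hx⟩ := cauchySeq_tendsto_of_complete hcau'
  refine ⟨x, ?_, ?_⟩
  · exact (isClosed_cl _).mem_of_tendsto hx (Filter.Eventually.of_forall fun k => coe_mem_cl (hmU k))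
  · have ht1 : Tendsto (⇑F ∘ (fun g : G => (g : Completion G)) ∘ m) atTop (𝓝 (F x)) :=
      Tendsto.comp (hFc.tendsto x) hx
    have ht2 : Tendsto (⇑F ∘ (fun g : G => (g : Completion G)) ∘ m) atTop (𝓝 y) := by
      rw [tendsto_def]
      intro W hW
      have hW0 : {z : Completion Q | y + z ∈ W} ∈ 𝓝 (0 : Completion Q) := by
        have : Tendsto (fun z => y + z) (𝓝 0) (𝓝 (y + 0)) :=
          (continuous_const.add continuous_id).tendsto 0
        rw [add_zero] at this
        exact this hW
      obtain ⟨U'', hU''⟩ := exists_cl_subset hW0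
      have h4 : π ⁻¹' (U'' : Set Q) ∈ 𝓝 (0 : G) := by
        apply hc.continuousAt
        rw [map_zero]
        exact U''.isOpen.mem_nhds (U'' : AddSubgroup Q).zero_mem
      obtain ⟨k0, hk0⟩ := hVb _ h4
      rw [Filter.mem_atTop_sets]
      refine ⟨k0, fun k hk => ?_⟩
      change F ((fun g : G => (g : Completion G)) (m k)) ∈ W
      rw [hFcoe, hmπ]
      have e : ((π (u k) : Q) : Completion Q) = y + (((π (u k) : Q) : Completion Q) - y) := by abel
      rw [e]
      apply hU''
      refine cl_mono ?_ (hu k)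
      rintro _ ⟨g, hg, rfl⟩
      exact hk0 (hanti hk hg)
    exact tendsto_nhds_unique ht1 ht2

theorem cl_top : (cl (⊤ : AddSubgroup G) : Set (Completion G)) = Set.univ := by
  rw [coe_cl, AddSubgroup.coe_top, Set.image_univ]
  exact Completion.denseRange_coe.closure_range

theorem surjective_and_open [NonarchimedeanAddGroup G] (π : G →+ Q) (hc : Continuous π)
    (ho : IsOpenMap π) (hs : Function.Surjective π)
    (hcount : (𝓝 (0 : G)).IsCountablyGenerated) :
    Function.Surjective (Completion.map π) ∧ IsOpenMap (Completion.map π) := by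
  haveI : NonarchimedeanAddGroup Q := nonarch_of_open π hc ho
  set F : Completion G →+ Completion Q := AddMonoidHom.completion π hc with hF
  have hFeq : (F : Completion G → Completion Q) = Completion.map π := rfl
  constructor
  · intro y
    have h := cl_map_subset_image π hc ho hcount ⊤
    have htop : ((⊤ : OpenAddSubgroup G) : AddSubgroup G).map π = ⊤ := by
      rw [OpenAddSubgroup.toAddSubgroup_top, ← AddMonoidHom.range_eq_map,
        AddMonoidHom.range_eq_top.mpr hs]
    rw [htop, cl_top] at h
    obtain ⟨x, -, hx⟩ := h (Set.mem_univ y)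
    exact ⟨x, hx⟩
  · rw [← hFeq]
    rw [IsTopologicalAddGroup.isOpenMap_iff_nhds_zero]
    intro T hT
    rw [Filter.mem_map] at hT
    obtain ⟨U, hU⟩ := exists_cl_subset hT
    have h := cl_map_subset_image π hc ho hcount U
    have hopenQ : IsOpen (((U : AddSubgroup G).map π : AddSubgroup Q) : Set Q) := by
      rw [AddSubgroup.coe_map]; exact ho _ U.isOpen
    refine Filter.mem_of_superset (cl_mem_nhds (hopenQ.mem_nhds (AddSubgroup.zero_mem _))) ?_
    intro y hy
    obtain ⟨x, hx, rfl⟩ := h hy
    exact hU hx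

end Quot

section Final

universe u v

theorem nonarch_of_linear {R : Type u} [Ring R] {M : Type v} [AddCommGroup M] [Module R M]
    [UniformSpace M] [IsUniformAddGroup M] [IsLinearTopology R M] : NonarchimedeanAddGroup M where
  is_nonarchimedean := by
    intro T hT
    obtain ⟨P, hP, hPT⟩ := (IsLinearTopology.hasBasis_open_submodule R).mem_iff.mp hT
    exact ⟨⟨P.toAddSubgroup, hP⟩, hPT⟩

theorem S10171
    {R : Type u} [Ring R] {M : Type v} [AddCommGroup M] [Module R M] [UniformSpace M]
    [IsUniformAddGroup M] [IsLinearTopology R M] (N : Submodule R M) :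
    (@UniformSpace.Completion.map M _ (M ⧸ N.toAddSubgroup)
        (IsTopologicalAddGroup.rightUniformSpace (M ⧸ N.toAddSubgroup))
        (QuotientAddGroup.mk' N.toAddSubgroup)) ⁻¹' {0} =
      closure (Set.range (fun n : N => ((n : M) : UniformSpace.Completion M))) := by
  letI : UniformSpace (M ⧸ N.toAddSubgroup) := IsTopologicalAddGroup.rightUniformSpace _
  haveI : IsUniformAddGroup (M ⧸ N.toAddSubgroup) := isUniformAddGroup_of_addCommGroup
  haveI : NonarchimedeanAddGroup M := nonarch_of_linear (R := R)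
  have h := map_preimage_zero (QuotientAddGroup.mk' N.toAddSubgroup) continuous_quot_mk
    QuotientAddGroup.isOpenMap_coe
  rw [h]
  congr 1
  ext z
  constructor
  · rintro ⟨⟨n, hn⟩, rfl⟩
    rw [QuotientAddGroup.ker_mk'] at hn
    exact ⟨⟨n, hn⟩, rfl⟩
  · rintro ⟨⟨n, hn⟩, rfl⟩
    refine ⟨⟨n, ?_⟩, rfl⟩
    rw [QuotientAddGroup.ker_mk']
    exact hn

theorem S10172
    {R : Type u} [Ring R] {M : Type v} [AddCommGroup M] [Module R M] [UniformSpace M]
    [IsUniformAddGroup M] [IsLinearTopology R M] (hc : (nhds (0 : M)).IsCountablyGenerated)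
    (N : Submodule R M) :
    Function.Surjective (@UniformSpace.Completion.map M _ (M ⧸ N.toAddSubgroup)
        (IsTopologicalAddGroup.rightUniformSpace (M ⧸ N.toAddSubgroup))
        (QuotientAddGroup.mk' N.toAddSubgroup)) ∧
      IsOpenMap (@UniformSpace.Completion.map M _ (M ⧸ N.toAddSubgroup)
        (IsTopologicalAddGroup.rightUniformSpace (M ⧸ N.toAddSubgroup))
        (QuotientAddGroup.mk' N.toAddSubgroup)) := by
  letI : UniformSpace (M ⧸ N.toAddSubgroup) := IsTopologicalAddGroup.rightUniformSpace _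
  haveI : IsUniformAddGroup (M ⧸ N.toAddSubgroup) := isUniformAddGroup_of_addCommGroup
  haveI : NonarchimedeanAddGroup M := nonarch_of_linear (R := R)
  exact surjective_and_open (QuotientAddGroup.mk' N.toAddSubgroup) continuous_quot_mk
    QuotientAddGroup.isOpenMap_coe (QuotientAddGroup.mk'_surjective _) hc

end Final

end Groth.Agent.H2.CB
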