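import Groth.Agent.Lib.Helper1.LocalCriterion2

/-!
# The local criterion of flatness for complexes (Stacks 00MI style)
-/

open TensorProduct

namespace Groth.Agent.H2.ComplexLocalCrit

section gen
variable {A : Type*} [CommRing A] (a : Ideal A) {M : Type*} [AddCommGroup M] [Module A M]

theorem exists_one_tmul (z : (A ⧸ a) ⊗[A] M) : ∃ x : M, z = (1 : A ⧸ a) ⊗ₜ[A] x := by
  induction z using TensorProduct.induction_on with
  | zero => exact ⟨0, by simp⟩
  | tmul r x =>
    obtain ⟨r, rfl⟩ := Ideal.Quotient.mk_surjective r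
    refine ⟨r • x, ?_⟩
    rw [← TensorProduct.smul_tmul]
    congr 1
    rw [← Ideal.Quotient.algebraMap_eq, Algebra.smul_def, mul_one]
  | add z w hz hw =>
    obtain ⟨x, rfl⟩ := hz
    obtain ⟨y, rfl⟩ := hw
    exact ⟨x + y, by rw [TensorProduct.tmul_add]⟩

theorem one_tmul_eq_zero_iff (x : M) :
    (1 : A ⧸ a) ⊗ₜ[A] x = 0 ↔ x ∈ a • (⊤ : Submodule A M) := by
  rw [← (TensorProduct.quotTensorEquivQuotSMul M a).map_eq_zero_iff,
    TensorProduct.quotTensorEquivQuotSMul_mk_one_tmul, Submodule.Quotient.mk_eq_zero]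

end gen

variable {R : Type*} {S : Type*} [CommRing R] [CommRing S] [IsLocalRing R] [IsLocalRing S]
  [IsNoetherianRing S] [Algebra R S] [IsLocalHom (algebraMap R S)]
  {F2 F1 F0 : Type*} [AddCommGroup F2] [Module S F2] [AddCommGroup F1] [Module S F1]
  [AddCommGroup F0] [Module S F0]
  [Module R F1] [IsScalarTower R S F1] [Module R F0] [IsScalarTower R S F0]
  [Module.Finite S F1] [Module.Flat R F0]

theorem concrete (d1 : F2 →ₗ[S] F1) (d0 : F1 →ₗ[S] F0) (hd : d0 ∘ₗ d1 = 0)
    (hres : ∀ x : F1, d0 x ∈ (IsLocalRing.maximalIdeal R).map (algebraMap R S) •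
        (⊤ : Submodule S F0) →
      ∃ y, x - d1 y ∈ (IsLocalRing.maximalIdeal R).map (algebraMap R S) • (⊤ : Submodule S F1)) :
    Function.Exact d1 d0 ∧ Module.Flat R (F0 ⧸ LinearMap.range d0) := by
  set m := IsLocalRing.maximalIdeal R with hm
  have hle : LinearMap.range d1 ≤ LinearMap.ker d0 := by
    rintro _ ⟨y, rfl⟩
    exact LinearMap.congr_fun hd y
  let uS : (F1 ⧸ LinearMap.range d1) →ₗ[S] F0 := (LinearMap.range d1).liftQ d0 hle
  let u : (F1 ⧸ LinearMap.range d1) →ₗ[R] F0 := uS.restrictScalars R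
  have hmem1 : ∀ x : F1, x ∈ m • (⊤ : Submodule R F1) ↔
      x ∈ m.map (algebraMap R S) • (⊤ : Submodule S F1) := by
    intro x
    have := Ideal.smul_restrictScalars m (⊤ : Submodule S F1)
    rw [Submodule.restrictScalars_top] at this
    rw [← this]; rfl
  have hmem0 : ∀ x : F0, x ∈ m • (⊤ : Submodule R F0) ↔
      x ∈ m.map (algebraMap R S) • (⊤ : Submodule S F0) := by
    intro x
    have := Ideal.smul_restrictScalars m (⊤ : Submodule S F0)
    rw [Submodule.restrictScalars_top] at this
    rw [← this]; rfl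
  have hinj : Function.Injective (u.lTensor (R ⧸ m)) := by
    rw [injective_iff_map_eq_zero]
    intro z hz
    obtain ⟨n, rfl⟩ := exists_one_tmul m z
    obtain ⟨x, rfl⟩ := Submodule.Quotient.mk_surjective _ n
    rw [LinearMap.lTensor_tmul] at hz
    have hux : u (Submodule.Quotient.mk x) = d0 x := rfl
    rw [hux, one_tmul_eq_zero_iff, hmem0] at hz
    obtain ⟨y, hy⟩ := hres x hz
    rw [one_tmul_eq_zero_iff]
    have hxy : (Submodule.Quotient.mk x : F1 ⧸ LinearMap.range d1)
        = Submodule.Quotient.mk (x - d1 y) := by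
      rw [Submodule.Quotient.eq]
      simp
    rw [hxy]
    rw [← hmem1] at hy
    have : (Submodule.Quotient.mk (x - d1 y) : F1 ⧸ LinearMap.range d1)
        = ((LinearMap.range d1).mkQ.restrictScalars R) (x - d1 y) := rfl
    rw [this]
    have hmap := Submodule.map_smul'' m (⊤ : Submodule R F1)
      ((LinearMap.range d1).mkQ.restrictScalars R)
    have : ((LinearMap.range d1).mkQ.restrictScalars R) (x - d1 y) ∈
        Submodule.map ((LinearMap.range d1).mkQ.restrictScalars R) (m • ⊤) :=
      Submodule.mem_map_of_mem hy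
    rw [hmap] at this
    exact Submodule.smul_mono le_rfl le_top this
  obtain ⟨huinj, hflat⟩ :=
    Groth.Agent.H1.injective_and_flat_quotient_of_lTensor_residue_injective S u hinj
  constructor
  · intro x
    constructor
    · intro hx
      have : u (Submodule.Quotient.mk x) = 0 := hx
      have := huinj (this.trans (map_zero u).symm)
      rwa [Submodule.Quotient.mk_eq_zero] at this
    · rintro ⟨y, rfl⟩
      exact LinearMap.congr_fun hd y
  · have hrange : LinearMap.range u = (LinearMap.range d0).restrictScalars R := by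
      ext x
      constructor
      · rintro ⟨n, rfl⟩
        obtain ⟨x, rfl⟩ := Submodule.Quotient.mk_surjective _ n
        exact ⟨x, rfl⟩
      · rintro ⟨x, rfl⟩
        exact ⟨Submodule.Quotient.mk x, rfl⟩
    have e1 : (F0 ⧸ LinearMap.range u) ≃ₗ[R] (F0 ⧸ (LinearMap.range d0).restrictScalars R) :=
      Submodule.quotEquivOfEq _ _ hrange
    have e2 : (F0 ⧸ (LinearMap.range d0).restrictScalars R) ≃ₗ[R] (F0 ⧸ LinearMap.range d0) :=
      Submodule.Quotient.restrictScalarsEquiv R _
    exact Module.Flat.of_linearEquiv (e1.trans e2).symm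

end Groth.Agent.H2.ComplexLocalCrit
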