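import Groth.Agent.Lib.Helper2.ComplexLocalCrit

/-!
# The local criterion of flatness for complexes: categorical form
-/

open CategoryTheory TensorProduct

universe u

namespace Groth.Agent.H2.ComplexLocalCrit

variable {R S : Type u} [CommRing R] [CommRing S]
    [IsLocalRing R] [IsLocalRing S] [IsNoetherianRing S] [Algebra R S]
    [IsLocalHom (algebraMap R S)] (C : ChainComplex (ModuleCat.{u} S) ℕ)

/-- residue exactness in elementwise form -/
theorem hres_of_exactAt (i : ℕ)
    (hex : (((MonoidalCategory.tensorLeft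
          (ModuleCat.of S (S ⧸ (IsLocalRing.maximalIdeal R).map (algebraMap R S)))).mapHomologicalComplex
          (ComplexShape.down ℕ)).obj C).ExactAt (i + 1)) :
    ∀ x : C.X (i + 1), (C.d (i + 1) i).hom x ∈ (IsLocalRing.maximalIdeal R).map (algebraMap R S) •
        (⊤ : Submodule S (C.X i)) →
      ∃ y : C.X (i + 2), x - (C.d (i + 2) (i + 1)).hom y ∈
        (IsLocalRing.maximalIdeal R).map (algebraMap R S) • (⊤ : Submodule S (C.X (i + 1))) := by
  set a := (IsLocalRing.maximalIdeal R).map (algebraMap R S) with ha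
  rw [HomologicalComplex.exactAt_iff' _ (i + 2) (i + 1) i (by simp) (by simp),
    ShortComplex.moduleCat_exact_iff] at hex
  intro x hx
  have h0 : (LinearMap.lTensor (S ⧸ a) (C.d (i + 1) i).hom) ((1 : S ⧸ a) ⊗ₜ[S] x) = 0 := by
    rw [LinearMap.lTensor_tmul]
    exact (one_tmul_eq_zero_iff a _).2 hx
  obtain ⟨w, hw⟩ := hex ((1 : S ⧸ a) ⊗ₜ[S] x) h0
  obtain ⟨y, rfl⟩ := exists_one_tmul a (M := C.X (i + 2)) w
  refine ⟨y, ?_⟩
  rw [← one_tmul_eq_zero_iff a, TensorProduct.tmul_sub, sub_eq_zero]
  have : (LinearMap.lTensor (S ⧸ a) (C.d (i + 2) (i + 1)).hom) ((1 : S ⧸ a) ⊗ₜ[S] y)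
      = (1 : S ⧸ a) ⊗ₜ[S] x := hw
  rw [LinearMap.lTensor_tmul] at this
  exact this.symm

end Groth.Agent.H2.ComplexLocalCrit

namespace Groth.Agent.H2.ComplexLocalCrit

variable {R S : Type u} [CommRing R] [CommRing S]
    [IsLocalRing R] [IsLocalRing S] [IsNoetherianRing S] [Algebra R S]
    [IsLocalHom (algebraMap R S)] (C : ChainComplex (ModuleCat.{u} S) ℕ)

/-- the `R`-module structure on an `S`-module by restriction of scalars -/
@[reducible] def modR (M : Type u) [AddCommGroup M] [Module S M] : Module R M :=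
  Module.compHom M (algebraMap R S)

theorem towerR (R : Type u) {S : Type u} [CommRing R] [CommRing S] [Algebra R S]
    (M : Type u) [AddCommGroup M] [Module S M] :
    letI := modR (R := R) (S := S) M
    IsScalarTower R S M :=
  letI := modR (R := R) (S := S) M
  IsScalarTower.of_algebraMap_smul fun _ _ => rfl

theorem step (i : ℕ) (hfin : Module.Finite S (C.X (i + 1)))
    (hflat : Module.Flat R ((ModuleCat.restrictScalars (algebraMap R S)).obj (C.X i)))
    (hex : (((MonoidalCategory.tensorLeft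
          (ModuleCat.of S (S ⧸ (IsLocalRing.maximalIdeal R).map (algebraMap R S)))).mapHomologicalComplex
          (ComplexShape.down ℕ)).obj C).ExactAt (i + 1)) :
    C.ExactAt (i + 1) ∧
      (letI := modR (R := R) (S := S) (C.X i)
       haveI := towerR R (S := S) (C.X i)
       Module.Flat R (C.X i ⧸ LinearMap.range (C.d (i + 1) i).hom)) := by
  letI := modR (R := R) (S := S) (C.X i)
  letI := modR (R := R) (S := S) (C.X (i + 1))
  haveI := towerR R (S := S) (C.X i)
  haveI := towerR R (S := S) (C.X (i + 1))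
  haveI : Module.Flat R (C.X i) := hflat
  have hd : (C.d (i + 1) i).hom ∘ₗ (C.d (i + 2) (i + 1)).hom = 0 := by
    rw [← ModuleCat.hom_comp, C.d_comp_d]; rfl
  obtain ⟨h1, h2⟩ := concrete (R := R) (S := S) (C.d (i + 2) (i + 1)).hom (C.d (i + 1) i).hom hd
    (hres_of_exactAt C i hex)
  refine ⟨?_, h2⟩
  rw [HomologicalComplex.exactAt_iff' _ (i + 2) (i + 1) i (by simp) (by simp),
    ShortComplex.moduleCat_exact_iff]
  intro x hx
  exact (h1 x).1 hx

/-- homology in degree zero as a quotient -/
noncomputable def homologyZeroEquiv :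
    (C.homology 0) ≃ₗ[S] (C.X 0 ⧸ LinearMap.range (C.d 1 0).hom) :=
  (C.isoHomologyι₀ ≪≫
    Limits.IsColimit.coconePointUniqueUpToIso (C.opcyclesIsCokernel 1 0 (by simp))
      (ModuleCat.cokernelIsColimit (C.d 1 0))).toLinearEquiv

theorem flat_homology_zero
    (h : letI := modR (R := R) (S := S) (C.X 0)
       haveI := towerR R (S := S) (C.X 0)
       Module.Flat R (C.X 0 ⧸ LinearMap.range (C.d 1 0).hom)) :
    Module.Flat R ((ModuleCat.restrictScalars (algebraMap R S)).obj (C.homology 0)) := by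
  letI := modR (R := R) (S := S) (C.X 0)
  haveI := towerR R (S := S) (C.X 0)
  letI : Module R (C.homology 0) := modR (R := R) (S := S) (C.homology 0)
  haveI : IsScalarTower R S (C.homology 0) := towerR R (S := S) (C.homology 0)
  haveI : Module.Flat R (C.X 0 ⧸ LinearMap.range (C.d 1 0).hom) := h
  have : Module.Flat R (C.homology 0) :=
    Module.Flat.of_linearEquiv ((homologyZeroEquiv C).restrictScalars R)
  exact this

theorem main [IsNoetherianRing R] (e : ℕ)
    (hzero : ∀ j, e < j → Limits.IsZero (C.X j)) (hfin : ∀ j, Module.Finite S (C.X j))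
    (hflat : ∀ j, Module.Flat R ((ModuleCat.restrictScalars (algebraMap R S)).obj (C.X j)))
    (hex : ∀ j, 1 ≤ j → j ≤ e →
      (((MonoidalCategory.tensorLeft
          (ModuleCat.of S (S ⧸ (IsLocalRing.maximalIdeal R).map (algebraMap R S)))).mapHomologicalComplex
          (ComplexShape.down ℕ)).obj C).ExactAt j) :
    (∀ j, 1 ≤ j → j ≤ e → C.ExactAt j) ∧
      Module.Flat R ((ModuleCat.restrictScalars (algebraMap R S)).obj (C.homology 0)) := by
  constructor
  · intro j hj hje
    obtain ⟨i, rfl⟩ := Nat.exists_eq_add_of_le' hj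
    exact (step C i (hfin _) (hflat i) (hex _ hj hje)).1
  · apply flat_homology_zero
    by_cases he : 1 ≤ e
    · exact (step C 0 (hfin _) (hflat 0) (hex 1 le_rfl he)).2
    · have h1 : Limits.IsZero (C.X 1) := hzero 1 (by omega)
      letI := modR (R := R) (S := S) (C.X 0)
      haveI := towerR R (S := S) (C.X 0)
      haveI : Module.Flat R (C.X 0) := hflat 0
      have hr : LinearMap.range (C.d 1 0).hom = ⊥ := by
        rw [LinearMap.range_eq_bot]
        have : C.d 1 0 = 0 := h1.eq_of_src _ _
        rw [this]; rfl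
      rw [hr]
      have e2 : (C.X 0 ⧸ ((⊥ : Submodule S (C.X 0)).restrictScalars R)) ≃ₗ[R]
          (C.X 0 ⧸ (⊥ : Submodule S (C.X 0))) :=
        Submodule.Quotient.restrictScalarsEquiv R _
      have e1 : (C.X 0 ⧸ ((⊥ : Submodule S (C.X 0)).restrictScalars R)) ≃ₗ[R] C.X 0 :=
        (Submodule.quotEquivOfEq _ _ (by simp)).trans (Submodule.quotEquivOfEqBot ⊥ rfl)
      exact Module.Flat.of_linearEquiv (e2.symm.trans e1)

end Groth.Agent.H2.ComplexLocalCrit
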