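import Mathlib
import Groth.Agent.Lib.Helper2.ConeE

/-!
# The section at infinity of the pointed projective cone (helper2)
-/

open CategoryTheory CategoryTheory.Limits AlgebraicGeometry HomogeneousLocalization

universe u

namespace Groth.Agent.H2.Cone

variable {R A : Type u} [CommRing R] [CommRing A] [Algebra R A] {𝒜 : ℕ → Submodule R A}
  [GradedAlgebra 𝒜] {B : Type u} [CommRing B] [Algebra R B] {ℬ : ℕ → Submodule R B}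
  [GradedAlgebra ℬ] (φ : 𝒜 →+*ᵍ ℬ)
  (ψ : ℬ →+*ᵍ 𝒜) (hψφ : ∀ a : A, ψ (φ a) = a)
  (hψ : HomogeneousIdeal.irrelevant 𝒜 ≤ (HomogeneousIdeal.irrelevant ℬ).map ψ)

include hψφ in
lemma range_map_subset_dom :
    Set.range (Proj.map ψ hψ) ⊆ Set.range (PCone.dom φ).ι := by
  rw [Scheme.Opens.range_ι]
  rintro _ ⟨x, rfl⟩
  obtain ⟨d, f, hd, hf, hfx⟩ := Groth.Agent.H1.PB.exists_homogeneous_pos_notMem 𝒜 x
  refine TopologicalSpace.Opens.mem_iSup.mpr ⟨⟨f, d, hd, hf⟩, ?_⟩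
  change x ∈ Proj.map ψ hψ ⁻¹ᵁ Proj.basicOpen ℬ (φ f)
  rw [Proj.map_preimage_basicOpen, hψφ]
  exact (Proj.mem_basicOpen 𝒜 f x).mpr hfx

/-- The section `j : Proj 𝒜 → G(φ)` induced by the retraction `ψ`. -/
noncomputable def sectionJ : Proj 𝒜 ⟶ (PCone.dom φ : Scheme.{u}) :=
  IsOpenImmersion.lift (PCone.dom φ).ι (Proj.map ψ hψ) (range_map_subset_dom φ ψ hψφ hψ)

@[reassoc]
lemma sectionJ_ι : sectionJ φ ψ hψφ hψ ≫ (PCone.dom φ).ι = Proj.map ψ hψ :=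
  IsOpenImmersion.lift_fac _ _ _

lemma SpecMap_awayMap_of_eq_id {θ : 𝒜 →+*ᵍ 𝒜} (hθ : θ = GradedRingHom.id 𝒜) {d : ℕ} {f : A}
    (hf : f ∈ 𝒜 d) (hd : 0 < d) :
    Spec.map (CommRingCat.ofHom (Away.map θ f)) ≫ Proj.awayι 𝒜 f hf hd =
      Proj.awayι 𝒜 (θ f) (θ.2 hf) hd := by
  subst hθ
  rw [Away.map_id]
  have h1 : Spec.map (CommRingCat.ofHom (RingHom.id (Away 𝒜 f))) = 𝟙 _ := by
    rw [show CommRingCat.ofHom (RingHom.id (Away 𝒜 f)) = 𝟙 _ from rfl, Spec.map_id]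
  exact (congrArg (· ≫ Proj.awayι 𝒜 f hf hd) h1).trans (Category.id_comp _)

variable (p : (PCone.dom φ : Scheme.{u}) ⟶ Proj 𝒜)
  (hp : ∀ (d : ℕ) (f : A) (hd : 0 < d) (hf : f ∈ 𝒜 d),
    PCone.chart φ hf hd ≫ p =
      Spec.map (CommRingCat.ofHom (HomogeneousLocalization.Away.map φ f)) ≫
        Proj.awayι 𝒜 f hf hd)

include hp in
theorem sectionJ_p : sectionJ φ ψ hψφ hψ ≫ p = 𝟙 (Proj 𝒜) := by
  classical
  let I := Σ' (d : ℕ) (f : A), 0 < d ∧ f ∈ 𝒜 d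
  let 𝒱 : (Proj 𝒜).OpenCover := Scheme.Cover.mkOfCovers I
    (fun i => Spec (CommRingCat.of (Away 𝒜 (ψ (φ i.2.1)))))
    (fun i => Proj.awayι 𝒜 (ψ (φ i.2.1)) (ψ.2 (φ.2 i.2.2.2)) i.2.2.1)
    (fun x => by
      obtain ⟨d, f, hd, hf, hfx⟩ := Groth.Agent.H1.PB.exists_homogeneous_pos_notMem 𝒜 x
      have hx : x ∈ (Proj.awayι 𝒜 (ψ (φ f)) (ψ.2 (φ.2 hf)) hd).opensRange := by
        rw [Proj.opensRange_awayι, hψφ]
        exact (Proj.mem_basicOpen 𝒜 f x).mpr hfx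
      obtain ⟨y, hy⟩ := hx
      exact ⟨⟨d, f, hd, hf⟩, y, hy⟩)
    (fun i => inferInstance)
  refine 𝒱.hom_ext _ _ fun i => ?_
  obtain ⟨d, f, hd, hf⟩ := i
  change Proj.awayι 𝒜 (ψ (φ f)) (ψ.2 (φ.2 hf)) hd ≫ sectionJ φ ψ hψφ hψ ≫ p =
    Proj.awayι 𝒜 (ψ (φ f)) (ψ.2 (φ.2 hf)) hd ≫ 𝟙 _
  have hA : Proj.awayι 𝒜 (ψ (φ f)) (ψ.2 (φ.2 hf)) hd ≫ sectionJ φ ψ hψφ hψ =
      Spec.map (CommRingCat.ofHom (Away.map ψ (φ f))) ≫ PCone.chart φ hf hd := by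
    rw [← cancel_mono (PCone.dom φ).ι, Category.assoc, Category.assoc, sectionJ_ι, pchart_ι]
    exact Proj.awayι_comp_map ψ hψ hd (φ f) (φ.2 hf)
  have hθ : ψ.comp φ = GradedRingHom.id 𝒜 := by
    ext a
    exact hψφ a
  rw [← Category.assoc, hA, Category.assoc, hp, ← Category.assoc, ← Spec.map_comp,
    ← CommRingCat.ofHom_comp, ← Away.map_comp, Category.comp_id]
  exact SpecMap_awayMap_of_eq_id hθ hf hd

include hp hψφ hψ in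
theorem surjective_p : Surjective p := by
  refine ⟨fun x => ⟨sectionJ φ ψ hψφ hψ x, ?_⟩⟩
  rw [← Scheme.Hom.comp_apply, sectionJ_p φ ψ hψφ hψ p hp]
  rfl

end Groth.Agent.H2.Cone
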