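import Mathlib
import Groth.Agent.Lib.Helper2.ConeA

/-!
# The closed immersion at infinity of a projective cone: its image (helper2)
-/

open CategoryTheory CategoryTheory.Limits AlgebraicGeometry HomogeneousLocalization

universe u

namespace Groth.Agent.H2.Cone

variable {R A : Type u} [CommRing R] [CommRing A] [Algebra R A] {𝒜 : ℕ → Submodule R A}
  [GradedAlgebra 𝒜] {B : Type u} [CommRing B] [Algebra R B] {ℬ : ℕ → Submodule R B}
  [GradedAlgebra ℬ] [Algebra A B] (φ : 𝒜 →+*ᵍ ℬ) (hφ : ∀ a : A, φ a = algebraMap A B a)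
  (z : B) (hhat : Function.Bijective (Polynomial.aeval (R := A) z))
  (ψ : ℬ →+*ᵍ 𝒜) (hψφ : ∀ a : A, ψ (φ a) = a) (hψz : ψ z = 0)

include hφ hhat hψφ hψz in
lemma sub_mem_span (b : B) : b - φ (ψ b) ∈ Ideal.span ({z} : Set B) := by
  obtain ⟨P, rfl⟩ := hhat.2 b
  have h1 : ψ (Polynomial.aeval z P) = P.coeff 0 := by
    have : ψ (Polynomial.aeval z P) =
        P.eval₂ ((ψ : B →+* A).comp (algebraMap A B)) (ψ z) := by
      rw [Polynomial.aeval_def]
      exact Polynomial.hom_eval₂ P (algebraMap A B) (ψ : B →+* A) z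
    rw [this, hψz]
    have h2 : ((ψ : B →+* A).comp (algebraMap A B)) = RingHom.id A := by
      ext a
      simp only [RingHom.comp_apply, RingHom.id_apply]
      rw [← hφ a]
      exact hψφ a
    rw [h2, Polynomial.eval₂_id, Polynomial.coeff_zero_eq_eval_zero]
  rw [h1, hφ]
  have h3 : Polynomial.aeval z P - algebraMap A B (P.coeff 0) =
      Polynomial.aeval z (P.divX) * z := by
    conv_lhs => rw [← Polynomial.divX_mul_X_add P]
    simp
  rw [h3]
  exact Ideal.mul_mem_left _ _ (Ideal.subset_span rfl)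

variable (hψ : HomogeneousIdeal.irrelevant 𝒜 ≤ (HomogeneousIdeal.irrelevant ℬ).map ψ)

include hφ hhat hψφ hψz in
theorem range_map_eq :
    Set.range (Proj.map ψ hψ) = ((Proj.basicOpen ℬ z : Set (Proj ℬ)))ᶜ := by
  apply Set.Subset.antisymm
  · rintro _ ⟨x, rfl⟩ hx
    have hx' : x ∈ Proj.map ψ hψ ⁻¹ᵁ Proj.basicOpen ℬ z := hx
    rw [Proj.map_preimage_basicOpen, hψz, Proj.basicOpen_zero] at hx'
    exact hx'
  · intro Q hQ
    have hzQ : z ∈ (Q : ProjectiveSpectrum ℬ).asHomogeneousIdeal := by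
      by_contra h
      exact hQ ((Proj.mem_basicOpen ℬ z Q).mpr h)
    have hspan : ∀ b : B, b - φ (ψ b) ∈ (Q : ProjectiveSpectrum ℬ).asHomogeneousIdeal.toIdeal :=
      fun b => (Ideal.span_le.mpr (Set.singleton_subset_iff.mpr hzQ))
        (sub_mem_span φ hφ z hhat ψ hψφ hψz b)
    have hiff : ∀ b : B, φ (ψ b) ∈ (Q : ProjectiveSpectrum ℬ).asHomogeneousIdeal.toIdeal ↔
        b ∈ (Q : ProjectiveSpectrum ℬ).asHomogeneousIdeal.toIdeal := by
      intro b
      constructor
      · intro h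
        have := add_mem (hspan b) h
        rwa [sub_add_cancel] at this
      · intro h
        have := sub_mem h (hspan b)
        rwa [sub_sub_cancel] at this
    have hrel : ¬ HomogeneousIdeal.irrelevant 𝒜 ≤
        (Q : ProjectiveSpectrum ℬ).asHomogeneousIdeal.comap φ := by
      intro hle
      apply (Q : ProjectiveSpectrum ℬ).not_irrelevant_le
      rw [HomogeneousIdeal.irrelevant_le]
      intro i hi b hb
      change b ∈ (Q : ProjectiveSpectrum ℬ).asHomogeneousIdeal.toIdeal
      rw [← hiff]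
      apply hle
      have hψb : ψ b ∈ 𝒜 i := ψ.2 hb
      rw [HomogeneousIdeal.mem_irrelevant_iff, GradedRing.proj_apply,
        DirectSum.decompose_of_mem_ne 𝒜 hψb hi.ne']
    let P : ProjectiveSpectrum 𝒜 :=
      ⟨(Q : ProjectiveSpectrum ℬ).asHomogeneousIdeal.comap φ,
        (Q : ProjectiveSpectrum ℬ).isPrime.comap φ, hrel⟩
    refine ⟨P, ?_⟩
    apply ProjectiveSpectrum.ext
    change (P.asHomogeneousIdeal.comap ψ) = _
    apply HomogeneousIdeal.toIdeal_injective
    ext b
    exact hiff b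

end Groth.Agent.H2.Cone
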