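import Mathlib

/-!
# Helper2: finite connected limits from equalizers and pullbacks
-/

namespace Groth.Agent.H2.ConnLim

open CategoryTheory CategoryTheory.Limits

universe v u w

variable {C : Type u} [Category.{v} C]

/-- Joint equalizers of finite families of parallel pairs with a common source. -/
lemma exists_jointEqualizer [HasEqualizers C] (α : Type w) [Finite α] :
    ∀ (Q : C) (Y : α → C) (f g : ∀ a, Q ⟶ Y a),
      ∃ (E : C) (e : E ⟶ Q), (∀ a, e ≫ f a = e ≫ g a) ∧
        ∀ (T : C) (t : T ⟶ Q), (∀ a, t ≫ f a = t ≫ g a) → ∃! m : T ⟶ E, m ≫ e = t := by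
  induction α using Finite.induction_empty_option with
  | of_equiv eqv ih =>
    intro Q Y f g
    obtain ⟨E, e, h1, h2⟩ := ih Q (fun a => Y (eqv a)) (fun a => f (eqv a)) (fun a => g (eqv a))
    refine ⟨E, e, fun b => ?_, fun T t ht => h2 T t (fun a => ht _)⟩
    obtain ⟨a, rfl⟩ := eqv.surjective b
    exact h1 a
  | h_empty =>
    intro Q Y f g
    exact ⟨Q, 𝟙 Q, fun a => a.elim, fun T t _ => ⟨t, by simp, fun m hm => by simpa using hm⟩⟩
  | h_option ih =>
    intro Q Y f g
    obtain ⟨E₀, e₀, h1, h2⟩ := ih Q (fun a => Y (some a)) (fun a => f (some a))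
      (fun a => g (some a))
    refine ⟨equalizer (e₀ ≫ f none) (e₀ ≫ g none), equalizer.ι _ _ ≫ e₀, ?_, ?_⟩
    · intro a
      cases a with
      | none => simp only [Category.assoc]; exact equalizer.condition _ _
      | some a => simp only [Category.assoc]; rw [h1 a]
    · intro T t ht
      obtain ⟨m₀, hm₀, hu₀⟩ := h2 T t (fun a => ht (some a))
      have hm₀' : m₀ ≫ e₀ ≫ f none = m₀ ≫ e₀ ≫ g none := by
        rw [← Category.assoc, ← Category.assoc, hm₀]
        exact ht none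
      refine ⟨equalizer.lift m₀ hm₀', ?_, ?_⟩
      · simp only [← Category.assoc, equalizer.lift_ι]
        exact hm₀
      · intro m hm
        apply equalizer.hom_ext
        rw [equalizer.lift_ι]
        apply hu₀
        rw [Category.assoc]
        exact hm

variable {J : Type} [SmallCategory J] [FinCategory J] (F : J ⥤ C)

/-- A partial cone over the set `S` of objects of `J`. -/
structure PCone (S : Set J) where
  pt : C
  π : ∀ j, j ∈ S → (pt ⟶ F.obj j)
  w : ∀ {j j' : J} (hj : j ∈ S) (hj' : j' ∈ S) (f : j ⟶ j'), π j hj ≫ F.map f = π j' hj'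

variable {F}

/-- A partial cone is limiting. -/
def PCone.IsLim {S : Set J} (c : PCone F S) : Prop :=
  ∀ d : PCone F S, ∃! m : d.pt ⟶ c.pt, ∀ j hj, m ≫ c.π j hj = d.π j hj

lemma exists_isLim_of_weak [HasEqualizers C] {S : Set J} (Q : C)
    (π' : ∀ j, j ∈ S → (Q ⟶ F.obj j))
    (hQ : ∀ d : PCone F S, ∃! m₀ : d.pt ⟶ Q, ∀ j hj, m₀ ≫ π' j hj = d.π j hj) :
    ∃ c : PCone F S, c.IsLim := by
  classical
  let α := {x : Σ (j j' : J), (j ⟶ j') // x.1 ∈ S ∧ x.2.1 ∈ S}
  obtain ⟨E, e, h1, h2⟩ := exists_jointEqualizer (C := C) α Q (fun a => F.obj a.1.2.1)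
    (fun a => π' a.1.1 a.2.1 ≫ F.map a.1.2.2) (fun a => π' a.1.2.1 a.2.2)
  let c : PCone F S :=
    { pt := E
      π := fun j hj => e ≫ π' j hj
      w := fun {j j'} hj hj' f => by
        have := h1 ⟨⟨j, j', f⟩, hj, hj'⟩
        simpa using this }
  refine ⟨c, fun d => ?_⟩
  obtain ⟨m₀, hm₀, hu₀⟩ := hQ d
  obtain ⟨m, hm, hu⟩ := h2 d.pt m₀ (fun a => by
    rw [← Category.assoc, hm₀, hm₀, d.w])
  refine ⟨m, fun j hj => ?_, fun m' hm' => ?_⟩
  · change m ≫ e ≫ π' j hj = _
    rw [← Category.assoc, hm, hm₀]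
  · apply hu
    apply hu₀
    intro j hj
    rw [Category.assoc]
    exact hm' j hj

lemma exists_isLim_singleton [HasEqualizers C] (j₀ : J) :
    ∃ c : PCone F ({j₀} : Set J), c.IsLim := by
  refine exists_isLim_of_weak (F.obj j₀)
    (fun j hj => eqToHom (by rw [Set.mem_singleton_iff.1 hj])) (fun d => ?_)
  refine ⟨d.π j₀ rfl, ?_, ?_⟩
  · intro j hj
    obtain rfl := Set.mem_singleton_iff.1 hj
    simp
  · intro m hm
    have := hm j₀ rfl
    simpa using this

/-- The step: adding an object `k`. -/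
lemma exists_isLim_insert [HasEqualizers C] {S : Set J} (c : PCone F S) (hc : c.IsLim) (k : J)
    (hk : k ∉ S) (Q : C) (ρ : Q ⟶ c.pt) (σ : Q ⟶ F.obj k)
    (hex : ∀ (d : PCone F (insert k S)) (x : d.pt ⟶ c.pt),
      (∀ j hj, x ≫ c.π j hj = d.π j (Set.mem_insert_of_mem k hj)) →
        ∃ m₀ : d.pt ⟶ Q, m₀ ≫ ρ = x ∧ m₀ ≫ σ = d.π k (Set.mem_insert k S))
    (huniq : ∀ {T : C} (m m' : T ⟶ Q), m ≫ ρ = m' ≫ ρ → m ≫ σ = m' ≫ σ → m = m') :
    ∃ c' : PCone F (insert k S), c'.IsLim := by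
  classical
  have hmem : ∀ j, j ∈ insert k S → j ≠ k → j ∈ S := fun j hj hne =>
    (Set.mem_insert_iff.1 hj).resolve_left hne
  let π' : ∀ j, j ∈ insert k S → (Q ⟶ F.obj j) := fun j hj =>
    if h : j = k then σ ≫ eqToHom (by rw [h]) else ρ ≫ c.π j (hmem j hj h)
  have hπ'k : π' k (Set.mem_insert k S) = σ := by simp [π']
  have hπ'S : ∀ j (hj : j ∈ S), π' j (Set.mem_insert_of_mem k hj) = ρ ≫ c.π j hj := by
    intro j hj
    have : j ≠ k := fun h => hk (h ▸ hj)
    simp [π', this]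
  refine exists_isLim_of_weak Q π' (fun d => ?_)
  let dS : PCone F S :=
    { pt := d.pt
      π := fun j hj => d.π j (Set.mem_insert_of_mem k hj)
      w := fun hj hj' f => d.w _ _ f }
  obtain ⟨x, hx, hxu⟩ := hc dS
  obtain ⟨m₀, hm₀ρ, hm₀σ⟩ := hex d x hx
  refine ⟨m₀, ?_, ?_⟩
  · intro j hj
    by_cases h : j = k
    · subst h
      rw [hπ'k, hm₀σ]
    · rw [hπ'S j (hmem j hj h), ← Category.assoc, hm₀ρ]
      exact hx j (hmem j hj h)
  · intro m hm
    apply huniq
    · rw [hm₀ρ]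
      apply hxu
      intro j hj
      have := hm j (Set.mem_insert_of_mem k hj)
      rw [hπ'S j hj, ← Category.assoc] at this
      exact this
    · rw [hm₀σ]
      have := hm k (Set.mem_insert k S)
      rwa [hπ'k] at this

lemma exists_isLim_insert_of_hom_to [HasEqualizers C] [HasPullbacks C] {S : Set J}
    (c : PCone F S) (hc : c.IsLim) (k : J) (hk : k ∉ S) (s₀ : J) (hs₀ : s₀ ∈ S) (a : k ⟶ s₀) :
    ∃ c' : PCone F (insert k S), c'.IsLim := by
  refine exists_isLim_insert c hc k hk (pullback (c.π s₀ hs₀) (F.map a))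
    (pullback.fst _ _) (pullback.snd _ _) ?_ ?_
  · intro d x hx
    refine ⟨pullback.lift x (d.π k (Set.mem_insert k S)) ?_, pullback.lift_fst _ _ _,
      pullback.lift_snd _ _ _⟩
    rw [hx s₀ hs₀, d.w]
  · intro T m m' h1 h2
    exact pullback.hom_ext h1 h2

lemma exists_isLim_insert_of_hom_from [HasEqualizers C] {S : Set J}
    (c : PCone F S) (hc : c.IsLim) (k : J) (hk : k ∉ S) (s₀ : J) (hs₀ : s₀ ∈ S) (a : s₀ ⟶ k) :
    ∃ c' : PCone F (insert k S), c'.IsLim := by
  refine exists_isLim_insert c hc k hk c.pt (𝟙 _) (c.π s₀ hs₀ ≫ F.map a) ?_ ?_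
  · intro d x hx
    refine ⟨x, Category.comp_id _, ?_⟩
    rw [← Category.assoc, hx s₀ hs₀, d.w]
  · intro T m m' h1 h2
    simpa using h1

lemma exists_isLim_univ [HasEqualizers C] [HasPullbacks C] [IsConnected J] :
    ∃ c : PCone F (Set.univ : Set J), c.IsLim := by
  classical
  suffices ∀ (n : ℕ) (S : Set J), S.Nonempty → Sᶜ.ncard = n → (∃ c : PCone F S, c.IsLim) →
      ∃ c : PCone F (Set.univ : Set J), c.IsLim by
    obtain ⟨j₀⟩ := (inferInstance : Nonempty J)
    exact this _ {j₀} ⟨j₀, rfl⟩ rfl (exists_isLim_singleton j₀)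
  intro n
  induction n with
  | zero =>
    intro S hS hn hc
    have : S = Set.univ := by
      have := (Set.ncard_eq_zero (Set.toFinite _)).1 hn
      exact Set.compl_empty_iff.1 this
    rw [← this]
    exact hc
  | succ n ih =>
    intro S hS hn ⟨c, hc⟩
    obtain ⟨s, hs⟩ := hS
    have hex : ∃ (j₁ j₂ : J) (_ : j₁ ⟶ j₂), ¬ (j₁ ∈ S ↔ j₂ ∈ S) := by
      by_contra hcon
      push Not at hcon
      have : ∀ j, j ∈ S := induct_on_objects S hs (fun {j₁ j₂} f => hcon j₁ j₂ f)
      have hS' : Sᶜ = ∅ := by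
        ext j
        simp [this j]
      rw [hS', Set.ncard_empty] at hn
      exact Nat.succ_ne_zero n hn.symm
    obtain ⟨j₁, j₂, f, hf⟩ := hex
    have hstep : ∀ (k : J), k ∉ S → (∃ c' : PCone F (insert k S), c'.IsLim) →
        ∃ c : PCone F (Set.univ : Set J), c.IsLim := by
      intro k hk hc'
      refine ih (insert k S) ⟨k, Set.mem_insert k S⟩ ?_ hc'
      have h1 : (insert k S)ᶜ = Sᶜ \ {k} := by
        ext j
        simp [Set.mem_insert_iff, not_or, and_comm]
      rw [h1, Set.ncard_sdiff_singleton_of_mem (show k ∈ Sᶜ from hk), hn]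
      rfl
    by_cases h1 : j₁ ∈ S
    · have h2 : j₂ ∉ S := fun h2 => hf ⟨fun _ => h2, fun _ => h1⟩
      exact hstep j₂ h2 (exists_isLim_insert_of_hom_from c hc j₂ h2 j₁ h1 f)
    · have h2 : j₂ ∈ S := by
        by_contra h2
        exact hf ⟨fun h => absurd h h1, fun h => absurd h h2⟩
      exact hstep j₁ h1 (exists_isLim_insert_of_hom_to c hc j₁ h1 j₂ h2 f)

variable (F) in
lemma hasLimit [HasEqualizers C] [HasPullbacks C] [IsConnected J] : HasLimit F := by
  obtain ⟨c, hc⟩ := exists_isLim_univ (F := F)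
  let t : Cone F :=
    { pt := c.pt
      π :=
        { app := fun j => c.π j (Set.mem_univ j)
          naturality := fun j j' f => by
            simp only [Functor.const_obj_obj, Functor.const_obj_map, Category.id_comp]
            exact (c.w _ _ f).symm } }
  refine ⟨⟨⟨t, IsLimit.ofExistsUnique (fun s => ?_)⟩⟩⟩
  let d : PCone F (Set.univ : Set J) :=
    { pt := s.pt
      π := fun j _ => s.π.app j
      w := fun _ _ f => by simp }
  obtain ⟨m, hm, hu⟩ := hc d
  exact ⟨m, fun j => hm j (Set.mem_univ j), fun m' hm' => hu m' (fun j _ => hm' j)⟩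

end Groth.Agent.H2.ConnLim
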