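import Groth.Agent.Lib.Helper2.ColimSpan

/-!
# Colimits over "unions of filtered categories" commute with finite connected limits in `Type`
-/

open CategoryTheory CategoryTheory.Limits

universe v u

namespace Groth.Agent.H2.ConnLimColim

variable {I : Type u} [Category.{v} I]

/-- finitely many maps out of `x` can be equalised after post-composition -/
theorem common_target
    (h1 : ∀ ⦃w x y : I⦄ (a : w ⟶ x) (b : w ⟶ y), ∃ (z : I) (c : x ⟶ z) (d : y ⟶ z), a ≫ c = b ≫ d)
    {α : Type*} (T : Finset α) {x : I} (z : α → I) (h : ∀ t, x ⟶ z t) :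
    ∃ (k : I) (m : x ⟶ k), ∀ t ∈ T, ∃ n : z t ⟶ k, h t ≫ n = m := by
  classical
  induction T using Finset.induction_on with
  | empty => exact ⟨x, 𝟙 x, by simp⟩
  | insert t0 T _ ih =>
    obtain ⟨k, m, hk⟩ := ih
    obtain ⟨w, c, d, hcd⟩ := h1 m (h t0)
    refine ⟨w, m ≫ c, fun t ht => ?_⟩
    rcases Finset.mem_insert.1 ht with rfl | ht
    · exact ⟨d, hcd.symm⟩
    · obtain ⟨n, hn⟩ := hk t ht
      exact ⟨n ≫ c, by rw [← Category.assoc, hn]⟩

/-- finitely many cospans between `i` and `i'` can be simultaneously refined -/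
theorem common_cospan
    (h1 : ∀ ⦃w x y : I⦄ (a : w ⟶ x) (b : w ⟶ y), ∃ (z : I) (c : x ⟶ z) (d : y ⟶ z), a ≫ c = b ≫ d)
    (h2 : ∀ ⦃x y : I⦄ (a b : x ⟶ y), ∃ (z : I) (c : y ⟶ z), a ≫ c = b ≫ c)
    {α : Type*} (T : Finset α) (hT : T.Nonempty) {i i' : I} (kk : α → I)
    (f : ∀ t, i ⟶ kk t) (g : ∀ t, i' ⟶ kk t) :
    ∃ (k : I) (F : i ⟶ k) (G : i' ⟶ k), ∀ t ∈ T, ∃ n : kk t ⟶ k, f t ≫ n = F ∧ g t ≫ n = G := by
  classical
  induction hT using Finset.Nonempty.cons_induction with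
  | singleton t0 =>
    refine ⟨kk t0, f t0, g t0, fun t ht => ?_⟩
    rw [Finset.mem_singleton] at ht
    subst ht
    exact ⟨𝟙 _, by simp, by simp⟩
  | cons t1 T ht1 _ ih =>
    obtain ⟨k, F, G, hk⟩ := ih
    obtain ⟨w, c, d, hcd⟩ := h1 F (f t1)
    obtain ⟨z, e, he⟩ := h2 (G ≫ c) (g t1 ≫ d)
    refine ⟨z, F ≫ c ≫ e, G ≫ c ≫ e, fun t ht => ?_⟩
    rcases Finset.mem_cons.1 ht with rfl | ht
    · refine ⟨d ≫ e, ?_, ?_⟩
      · rw [← Category.assoc, ← hcd, Category.assoc]
      · rw [← Category.assoc, ← he, Category.assoc]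
    · obtain ⟨n, hn1, hn2⟩ := hk t ht
      exact ⟨n ≫ c ≫ e, by rw [← Category.assoc, hn1], by rw [← Category.assoc, hn2]⟩

/-- objects indexed by a finite connected category, related along morphisms, have a common target -/
theorem common_object
    (h1 : ∀ ⦃w x y : I⦄ (a : w ⟶ x) (b : w ⟶ y), ∃ (z : I) (c : x ⟶ z) (d : y ⟶ z), a ≫ c = b ≫ d)
    {J : Type*} [Category J] [Finite J] [IsConnected J] (i : J → I)
    (hrel : ∀ ⦃j j' : J⦄ (_ : j ⟶ j'), ∃ k : I, Nonempty (i j ⟶ k) ∧ Nonempty (i j' ⟶ k)) :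
    ∃ (i0 : I), ∀ j, Nonempty (i j ⟶ i0) := by
  classical
  let R : J → J → Prop := fun j j' => ∃ k : I, Nonempty (i j ⟶ k) ∧ Nonempty (i j' ⟶ k)
  have hRrefl : ∀ j, R j j := fun j => ⟨i j, ⟨𝟙 _⟩, ⟨𝟙 _⟩⟩
  have hRsymm : ∀ j j', R j j' → R j' j := fun j j' ⟨k, a, b⟩ => ⟨k, b, a⟩
  have hRtrans : ∀ a b c, R a b → R b c → R a c := by
    rintro a b c ⟨k, ⟨f⟩, ⟨g⟩⟩ ⟨k', ⟨f'⟩, ⟨g'⟩⟩
    obtain ⟨w, p, q, -⟩ := h1 g f'
    exact ⟨w, ⟨f ≫ p⟩, ⟨g' ≫ q⟩⟩
  have hzig : ∀ j j', Zigzag j j' → R j j' := by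
    intro j j' hz
    induction hz with
    | refl => exact hRrefl j
    | tail _ hz ih =>
      rcases hz with ⟨⟨m⟩⟩ | ⟨⟨m⟩⟩
      · exact hRtrans _ _ _ ih (hrel m)
      · exact hRtrans _ _ _ ih (hRsymm _ _ (hrel m))
  have hall : ∀ j j', R j j' := fun j j' => hzig j j' (isPreconnected_zigzag j j')
  obtain ⟨j0⟩ := (inferInstance : Nonempty J)
  choose kk hk1 hk2 using fun j => hall j0 j
  haveI := Fintype.ofFinite J
  obtain ⟨k, m, hk⟩ := common_target h1 (Finset.univ : Finset J) kk (fun j => (hk1 j).some)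
  refine ⟨k, fun j => ?_⟩
  obtain ⟨n, -⟩ := hk j (Finset.mem_univ j)
  exact ⟨(hk2 j).some ≫ n⟩

end Groth.Agent.H2.ConnLimColim

namespace Groth.Agent.H2.ConnLimColim

open Groth.Agent.H2.ColimSpan

variable {I : Type v} [SmallCategory I]

section
variable {J : Type} [SmallCategory J] [FinCategory J] (K : J ⥤ I ⥤ Type v)

/-- elements of the pointwise limit are determined by, and can be built from, their components -/
theorem limit_obj_existsUnique (i : I) (y : ∀ j, (K.obj j).obj i)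
    (hy : ∀ ⦃j j' : J⦄ (u : j ⟶ j'), (K.map u).app i (y j) = y j') :
    ∃! Y : (limit K).obj i, ∀ j, (limit.π K j).app i Y = y j := by
  have hlim : IsLimit (((evaluation I (Type v)).obj i).mapCone (limit.cone K)) :=
    isLimitOfPreserves _ (limit.isLimit K)
  have := (Types.isLimit_iff _).1 ⟨hlim⟩ y (fun {j j'} u => hy u)
  exact this

end

theorem main
    (h1 : ∀ ⦃w x y : I⦄ (a : w ⟶ x) (b : w ⟶ y), ∃ (z : I) (c : x ⟶ z) (d : y ⟶ z), a ≫ c = b ≫ d)
    (h2 : ∀ ⦃x y : I⦄ (a b : x ⟶ y), ∃ (z : I) (c : y ⟶ z), a ≫ c = b ≫ c)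
    (J : Type) [SmallCategory J] [FinCategory J] [IsConnected J] :
    PreservesLimitsOfShape J (colim : (I ⥤ Type v) ⥤ Type v) := by
  classical
  constructor
  intro K
  apply preservesLimit_of_preserves_limit_cone (limit.isLimit K)
  apply Nonempty.some
  rw [Types.isLimit_iff]
  intro s hs
  have hs' : ∀ ⦃j j' : J⦄ (u : j ⟶ j'), colimMap (K.map u) (s j) = s j' := fun j j' u => hs u
  -- projections of the mapped cone
  have hπ : ∀ (j : J) (i : I) (Y : (limit K).obj i),
      (colim.mapCone (limit.cone K)).π.app j (colimit.ι (limit K) i Y)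
        = colimit.ι (K.obj j) i ((limit.π K j).app i Y) := by
    intro j i Y
    exact colimit.ι_map_apply (limit.π K j) i Y
  -- uniqueness first
  have huniq : ∀ X X' : colimit (limit K),
      (∀ j, (colim.mapCone (limit.cone K)).π.app j X = (colim.mapCone (limit.cone K)).π.app j X') →
      X = X' := by
    intro X X' hXX
    obtain ⟨i, Y, rfl⟩ := Types.jointly_surjective' X
    obtain ⟨i', Y', rfl⟩ := Types.jointly_surjective' X'
    have hj : ∀ j : J, ∃ (k : I) (f : i ⟶ k) (g : i' ⟶ k),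
        (K.obj j).map f ((limit.π K j).app i Y) = (K.obj j).map g ((limit.π K j).app i' Y') := by
      intro j
      have := hXX j
      rw [hπ, hπ] at this
      exact exists_of_eqvGen (K.obj j) h1 (Types.colimit_eq this)
    choose kk f g hfg using hj
    haveI : Fintype J := FinCategory.fintypeObj
    obtain ⟨k, F, G, hk⟩ := common_cospan h1 h2 (Finset.univ : Finset J)
      Finset.univ_nonempty kk f g
    have hFG : ∀ j, (K.obj j).map F ((limit.π K j).app i Y)
        = (K.obj j).map G ((limit.π K j).app i' Y') := by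
      intro j
      obtain ⟨n, hn1, hn2⟩ := hk j (Finset.mem_univ j)
      rw [← hn1, ← hn2, Functor.map_comp_apply, Functor.map_comp_apply, hfg j]
    apply Types.colimit_sound' F G
    have hcompat : ∀ ⦃j j' : J⦄ (u : j ⟶ j'),
        (K.map u).app k ((K.obj j).map F ((limit.π K j).app i Y))
          = (K.obj j').map F ((limit.π K j').app i Y) := by
      intro j j' u
      rw [NatTrans.naturality_apply]
      congr 1
      have := congrArg (fun t : limit K ⟶ K.obj j' => t.app i Y) (limit.w K u)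
      exact this
    obtain ⟨Z, -, hZ⟩ := limit_obj_existsUnique K k
      (fun j => (K.obj j).map F ((limit.π K j).app i Y)) hcompat
    have e1 : (limit K).map F Y = Z := hZ _ (fun j => by
      rw [NatTrans.naturality_apply])
    have e2 : (limit K).map G Y' = Z := hZ _ (fun j => by
      rw [NatTrans.naturality_apply, hFG j])
    rw [e1, e2]
  -- existence
  suffices hex : ∃ X : colimit (limit K), ∀ j, (colim.mapCone (limit.cone K)).π.app j X = s j by
    obtain ⟨X, hX⟩ := hex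
    exact ⟨X, hX, fun X' hX' => huniq X' X (fun j => by rw [hX' j, hX j])⟩
  choose i x hx using fun j => Types.jointly_surjective' (s j)
  have hrel0 : ∀ ⦃j j' : J⦄ (u : j ⟶ j'), ∃ (k : I) (f : i j ⟶ k) (g : i j' ⟶ k),
      (K.obj j').map f ((K.map u).app (i j) (x j)) = (K.obj j').map g (x j') := by
    intro j j' u
    have := hs' u
    rw [← hx j, ← hx j'] at this
    have e : colimMap (K.map u) (colimit.ι (K.obj j) (i j) (x j))
        = colimit.ι (K.obj j') (i j) ((K.map u).app (i j) (x j)) :=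
      colimit.ι_map_apply (K.map u) (i j) (x j)
    rw [e] at this
    exact exists_of_eqvGen (K.obj j') h1 (Types.colimit_eq this)
  haveI : Fintype J := FinCategory.fintypeObj
  obtain ⟨i0, ha⟩ := common_object h1 i (fun j j' u => by
    obtain ⟨k, f, g, -⟩ := hrel0 u
    exact ⟨k, ⟨f⟩, ⟨g⟩⟩)
  let a : ∀ j, i j ⟶ i0 := fun j => (ha j).some
  let x' : ∀ j, (K.obj j).obj i0 := fun j => (K.obj j).map (a j) (x j)
  have hx' : ∀ j, colimit.ι (K.obj j) i0 (x' j) = s j := by
    intro j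
    rw [← hx j]
    exact colimit.w_apply (K.obj j) (a j) (x j)
  -- arrows of J
  let T := Σ p : J × J, (p.1 ⟶ p.2)
  haveI : Fintype T := by
    haveI : ∀ p : J × J, Fintype (p.1 ⟶ p.2) := fun p => FinCategory.fintypeHom _ _
    infer_instance
  have hrel1 : ∀ t : T, ∃ (z : I) (h : i0 ⟶ z),
      (K.obj t.1.2).map h ((K.map t.2).app i0 (x' t.1.1)) = (K.obj t.1.2).map h (x' t.1.2) := by
    rintro ⟨⟨j, j'⟩, u⟩
    dsimp only
    have := hs' u
    rw [← hx' j, ← hx' j'] at this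
    have e : colimMap (K.map u) (colimit.ι (K.obj j) i0 (x' j))
        = colimit.ι (K.obj j') i0 ((K.map u).app i0 (x' j)) :=
      colimit.ι_map_apply (K.map u) i0 (x' j)
    rw [e] at this
    obtain ⟨k, f, g, hfg⟩ := exists_of_eqvGen (K.obj j') h1 (Types.colimit_eq this)
    dsimp only at f g hfg
    obtain ⟨z, c, hc⟩ := h2 f g
    refine ⟨z, f ≫ c, ?_⟩
    rw [Functor.map_comp_apply, hfg, hc, Functor.map_comp_apply]
  choose zz hh hhh using hrel1
  obtain ⟨k, m, hk⟩ := common_target h1 (Finset.univ : Finset T) zz hh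
  have hm : ∀ ⦃j j' : J⦄ (u : j ⟶ j'),
      (K.obj j').map m ((K.map u).app i0 (x' j)) = (K.obj j').map m (x' j') := by
    intro j j' u
    obtain ⟨n, hn⟩ := hk ⟨⟨j, j'⟩, u⟩ (Finset.mem_univ _)
    rw [← hn, Functor.map_comp_apply, Functor.map_comp_apply]
    congr 1
    exact hhh ⟨⟨j, j'⟩, u⟩
  obtain ⟨Y, hY, -⟩ := limit_obj_existsUnique K k (fun j => (K.obj j).map m (x' j)) (by
    intro j j' u
    rw [NatTrans.naturality_apply]
    exact hm u)
  refine ⟨colimit.ι (limit K) k Y, fun j => ?_⟩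
  rw [hπ, hY j, ← hx' j]
  exact colimit.w_apply (K.obj j) m (x' j)

end Groth.Agent.H2.ConnLimColim
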