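import Mathlib

set_option autoImplicit false
set_option linter.style.haveILetI false
set_option linter.unusedSectionVars false
open TopologicalSpace Topology

namespace Groth.Agent.H2.ConsOpen

variable {Z : Type*} [TopologicalSpace Z]

/-- A constructible set either contains or avoids an open part of the closure of each point. -/
theorem exists_open_of_isConstructible {C : Set Z} (hC : IsConstructible C) :
    ∀ x : Z, (x ∈ C → ∃ O, IsOpen O ∧ x ∈ O ∧ O ∩ closure {x} ⊆ C) ∧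
      (x ∉ C → ∃ O, IsOpen O ∧ x ∈ O ∧ O ∩ closure {x} ⊆ Cᶜ) := by
  induction hC using IsConstructible.empty_union_induction with
  | open_retrocompact U hU _ =>
    intro x
    refine ⟨fun hx => ⟨U, hU, hx, Set.inter_subset_left⟩, fun hx => ⟨Set.univ, isOpen_univ,
      trivial, ?_⟩⟩
    rintro y ⟨-, hy⟩ hyU
    have : x ⤳ y := specializes_iff_mem_closure.2 hy
    exact hx (this.mem_open hU hyU)
  | union s hs t ht ihs iht =>
    intro x
    constructor
    · rintro (hx | hx)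
      · obtain ⟨O, hO, hxO, hsub⟩ := (ihs x).1 hx
        exact ⟨O, hO, hxO, hsub.trans Set.subset_union_left⟩
      · obtain ⟨O, hO, hxO, hsub⟩ := (iht x).1 hx
        exact ⟨O, hO, hxO, hsub.trans Set.subset_union_right⟩
    · intro hx
      have hxs : x ∉ s := fun h => hx (Or.inl h)
      have hxt : x ∉ t := fun h => hx (Or.inr h)
      obtain ⟨O₁, hO₁, hxO₁, hsub₁⟩ := (ihs x).2 hxs
      obtain ⟨O₂, hO₂, hxO₂, hsub₂⟩ := (iht x).2 hxt
      refine ⟨O₁ ∩ O₂, hO₁.inter hO₂, ⟨hxO₁, hxO₂⟩, ?_⟩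
      rintro y ⟨⟨hy1, hy2⟩, hyc⟩ (hys | hyt)
      · exact hsub₁ ⟨hy1, hyc⟩ hys
      · exact hsub₂ ⟨hy2, hyc⟩ hyt
  | compl s hs ih =>
    intro x
    constructor
    · intro hx
      exact (ih x).2 hx
    · intro hx
      have hx' : x ∈ s := not_not.1 hx
      obtain ⟨O, hO, hxO, hsub⟩ := (ih x).1 hx'
      exact ⟨O, hO, hxO, by rwa [compl_compl]⟩

/-- A locally constructible set contains an open part of the closure of each of its points. -/
theorem exists_open_of_isLocallyConstructible {E : Set Z} (hE : IsLocallyConstructible E)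
    (x : Z) (hx : x ∈ E) : ∃ O, IsOpen O ∧ x ∈ O ∧ O ∩ closure {x} ⊆ E := by
  obtain ⟨U, hUn, hUo, hUc⟩ := hE x
  have hxU : x ∈ U := mem_of_mem_nhds hUn
  obtain ⟨O₁, hO₁, hxO₁, hsub⟩ := (exists_open_of_isConstructible hUc ⟨x, hxU⟩).1 hx
  refine ⟨Subtype.val '' O₁, hUo.isOpenMap_subtype_val _ hO₁, ⟨⟨x, hxU⟩, hxO₁, rfl⟩, ?_⟩
  rintro _ ⟨⟨y, hy, rfl⟩, hyc⟩
  have hyc' : y ∈ closure ({⟨x, hxU⟩} : Set ↥U) := by
    have := (closure_subtype (x := y) (s := ({⟨x, hxU⟩} : Set ↥U))).2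
    apply this
    rw [Set.image_singleton]
    exact hyc
  exact hsub ⟨hy, hyc'⟩

end Groth.Agent.H2.ConsOpen
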