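import Mathlib
import Groth.Agent.Lib.Helper2.ConsTypeA

set_option autoImplicit false
set_option linter.style.haveILetI false
set_option linter.unusedSectionVars false
set_option linter.unusedVariables false
universe u

open Topology TopologicalSpace Set

namespace Groth.Agent.H2.ConsType

variable {X : Type*} [TopologicalSpace X]

/-- If every member of `L` is open and relatively closed in `Q`, then every `L`-saturated set is
relatively open in `Q`. -/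
theorem exists_open_inter_eq (L : List (Set X)) (Q : Set X)
    (hL : ∀ O ∈ L, IsOpen O ∧ ∀ x ∈ Q, x ∈ closure (O ∩ Q) → x ∈ O) (R : Set X)
    (hR : Sat L R) : ∃ Ω : Set X, IsOpen Ω ∧ R ∩ Q = Ω ∩ Q := by
  classical
  let Nb : X → Set X := fun x =>
    (⋂ O ∈ {O | O ∈ L ∧ x ∈ O}, O) ∩ (⋂ O ∈ {O | O ∈ L ∧ x ∉ O}, (closure (O ∩ Q))ᶜ)
  have hfin : ∀ p : Set X → Prop, {O | O ∈ L ∧ p O}.Finite := fun p =>
    (List.finite_toSet L).subset (fun O hO => hO.1)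
  have hNb : ∀ x, IsOpen (Nb x) := fun x =>
    ((hfin _).isOpen_biInter (fun O hO => (hL O hO.1).1)).inter
      ((hfin _).isOpen_biInter (fun O hO => isClosed_closure.isOpen_compl))
  have hmem : ∀ x ∈ Q, x ∈ Nb x := by
    intro x hxQ
    refine ⟨Set.mem_iInter₂.2 (fun O hO => hO.2), Set.mem_iInter₂.2 (fun O hO => ?_)⟩
    intro hcl
    exact hO.2 ((hL O hO.1).2 x hxQ hcl)
  refine ⟨⋃ x ∈ R ∩ Q, Nb x, isOpen_biUnion (fun x _ => hNb x), ?_⟩
  ext y
  constructor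
  · rintro ⟨hyR, hyQ⟩
    exact ⟨Set.mem_iUnion₂.2 ⟨y, ⟨hyR, hyQ⟩, hmem y hyQ⟩, hyQ⟩
  · rintro ⟨hy, hyQ⟩
    obtain ⟨x, ⟨hxR, hxQ⟩, hyx⟩ := Set.mem_iUnion₂.1 hy
    refine ⟨hR x y (fun O hO => ?_) hxR, hyQ⟩
    constructor
    · intro hxO
      exact Set.mem_iInter₂.1 hyx.1 O ⟨hO, hxO⟩
    · intro hyO
      by_contra hxO
      exact Set.mem_iInter₂.1 hyx.2 O ⟨hO, hxO⟩ (subset_closure ⟨hyO, hyQ⟩)

end Groth.Agent.H2.ConsType
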