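import Mathlib
import Groth.Agent.Lib.Helper2.ProjDimTop
import Groth.Prelude.Def_CohB1
set_option autoImplicit false
universe u
open HomogeneousIdeal DirectSum AlgebraicGeometry

/-! Projective dimension theorem: at most `n` forms of positive degree in `n + 1` variables over a
field have a common zero in `Proj`. -/

namespace Groth.Agent.H2.ConstMor
open Groth.Agent.H2.ProjDim

theorem exists_common_zero (k : Type u) [Field k] (n : ℕ)
    (s : Finset (MvPolynomial (Fin (n + 1)) k)) (hs : s.card ≤ n)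
    (hhom : ∀ F ∈ s, ∃ d, 0 < d ∧ F ∈ CohB1.polyGrading n k d) :
    ∃ x : ProjectiveSpectrum (CohB1.polyGrading n k),
      ∀ F ∈ s, F ∈ x.asHomogeneousIdeal.toIdeal := by
  classical
  have h0 := mvPolynomial_h0 k (Fin (n + 1))
  have hmax := irrelevant_isMaximal (CohB1.polyGrading n k) h0
  have hI : (Ideal.span (s : Set (MvPolynomial (Fin (n + 1)) k))).IsHomogeneous
      (CohB1.polyGrading n k) := by
    apply Ideal.homogeneous_span
    intro F hF
    obtain ⟨d, -, hd⟩ := hhom F hF
    exact ⟨d, hd⟩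
  have hle : Ideal.span (s : Set (MvPolynomial (Fin (n + 1)) k)) ≤
      (HomogeneousIdeal.irrelevant (CohB1.polyGrading n k)).toIdeal := by
    rw [Ideal.span_le]
    intro F hF
    obtain ⟨d, hd0, hd⟩ := hhom F hF
    exact HomogeneousIdeal.mem_irrelevant_of_mem _ hd0 hd
  haveI := hmax.isPrime
  obtain ⟨q, hq, hqle⟩ := Ideal.exists_minimalPrimes_le hle
  have hqp : q.IsPrime := hq.1.1
  have hqh := isHomogeneous_of_mem_minimalPrimes (CohB1.polyGrading n k) hI hq
  haveI : (⊥ : Ideal (MvPolynomial (Fin (n + 1)) k)).IsPrime := Ideal.isPrime_bot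
  have hq' : q ∈ ((⊥ : Ideal (MvPolynomial (Fin (n + 1)) k)) ⊔
      Ideal.span (s : Set (MvPolynomial (Fin (n + 1)) k))).minimalPrimes := by
    rw [bot_sup_eq]; exact hq
  have hdim := ringKrullDim_le_of_mem_minimalPrimes k
    (⊥ : Ideal (MvPolynomial (Fin (n + 1)) k)) q s hq'
  have hA : ((n + 1 : ℕ) : WithBot ℕ∞) ≤
      ringKrullDim (MvPolynomial (Fin (n + 1)) k ⧸ (⊥ : Ideal (MvPolynomial (Fin (n + 1)) k))) := by
    rw [ringKrullDim_eq_of_ringEquiv (RingEquiv.quotientBot (MvPolynomial (Fin (n + 1)) k))]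
    have h1 := ringKrullDim_add_natCard_le_ringKrullDim_mvPolynomial (R := k) (Fin (n + 1))
    rw [ringKrullDim_eq_zero_of_field, zero_add, Nat.card_fin] at h1
    exact h1
  have hne : q ≠ (HomogeneousIdeal.irrelevant (CohB1.polyGrading n k)).toIdeal := by
    rintro rfl
    rw [ringKrullDim_quotient_irrelevant (CohB1.polyGrading n k) h0, zero_add] at hdim
    have h2 := hA.trans hdim
    have h3 : (s.card : WithBot ℕ∞) ≤ (n : WithBot ℕ∞) := by exact_mod_cast hs
    have h4 := h2.trans h3
    have h5 : n + 1 ≤ n := by exact_mod_cast h4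
    omega
  have hnot : ¬ (HomogeneousIdeal.irrelevant (CohB1.polyGrading n k)).toIdeal ≤ q := by
    intro h
    exact hne (le_antisymm hqle h)
  refine ⟨mkPoint (CohB1.polyGrading n k) q hqp hqh hnot, ?_⟩
  intro F hF
  exact hq.1.2 (Ideal.subset_span hF)

end Groth.Agent.H2.ConstMor
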