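import Groth.Agent.Lib.Lead.TW.Ample
set_option autoImplicit false
universe u
open CategoryTheory AlgebraicGeometry TopologicalSpace Opposite

/-! Where `F / 1` (`F` homogeneous of degree `n`) is a basis of `O(n)`, `F` does not vanish. -/

namespace Groth.Agent.H2.ConstMor
open Groth.Agent.LD Groth.Agent.LD.TW Twist

variable {R A : Type u} [CommRing R] [CommRing A] [Algebra R A] {𝒜 : ℕ → Submodule R A}
  [GradedAlgebra 𝒜]

theorem le_basicOpen_of_isBasisOver {s : Set A} (hs1 : ∀ f ∈ s, f ∈ 𝒜 1)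
    (hgen : (HomogeneousIdeal.irrelevant 𝒜).toIdeal = Ideal.span s)
    (n : ℕ) (F : 𝒜 n) (U : (Proj 𝒜).Opens)
    (hU : QC.IsBasisOver (twist 𝒜 (n : ℤ)) U
      ((twist 𝒜 (n : ℤ)).presheaf.map (homOfLE (le_top : U ≤ ⊤)).op
        (show Γ(twist 𝒜 (n : ℤ), ⊤) from globalOf 𝒜 F))) :
    U ≤ Proj.basicOpen 𝒜 (F : A) := by
  intro y hyU
  obtain ⟨g, hgs, hyg⟩ := exists_mem_basicOpen_of_span hgen y
  have hV : U ⊓ Proj.basicOpen 𝒜 g ≤ U := inf_le_left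
  obtain ⟨a, ha⟩ := (hU (U ⊓ Proj.basicOpen 𝒜 g) hV).2
    (show Γ(twist 𝒜 (n : ℤ), U ⊓ Proj.basicOpen 𝒜 g) from
      resSec (le_top : U ⊓ Proj.basicOpen 𝒜 g ≤ ⊤) (powGlobal g (hs1 g hgs) n))
  let y' : (U ⊓ Proj.basicOpen 𝒜 g : (Proj 𝒜).Opens) := ⟨y, hyU, hyg⟩
  have h1 := congrArg (fun t : Γ(twist 𝒜 (n : ℤ), U ⊓ Proj.basicOpen 𝒜 g) =>
    (((show sectN (𝒜 := 𝒜) (n : ℤ) (op (U ⊓ Proj.basicOpen 𝒜 g)) from t).1 y' :
      twistAt 𝒜 n y) : Loc 𝒜 y)) ha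
  simp only [smul_sec_val, res_sec_val] at h1
  have h2 : ((resSec (le_top : U ⊓ Proj.basicOpen 𝒜 g ≤ ⊤) (powGlobal g (hs1 g hgs) n)).1 y').1 =
      algebraMap A (Loc 𝒜 y) (g ^ n) := powGlobal_val g (hs1 g hgs) n ⟨y, trivial⟩
  have h3 : ((globalOf 𝒜 F).1 ⟨y'.1, trivial⟩).1 = algebraMap A (Loc 𝒜 y) (F : A) := by
    rw [globalOf_val]
    exact Localization.mk_one_eq_algebraMap _
  have h1' : ((show O (𝒜 := 𝒜) (op (U ⊓ Proj.basicOpen 𝒜 g)) from a).1 y').val *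
      algebraMap A (Loc 𝒜 y) (F : A) = algebraMap A (Loc 𝒜 y) (g ^ n) := by
    rw [← h2, ← h3]; exact h1
  have hgu : IsUnit (algebraMap A (Loc 𝒜 y) (g ^ n)) := by
    rw [IsLocalization.AtPrime.isUnit_to_map_iff (Loc 𝒜 y) y.asHomogeneousIdeal.toIdeal]
    intro hmem
    exact hyg (y.isPrime.mem_of_pow_mem n hmem)
  rw [← h1'] at hgu
  have hfu := isUnit_of_mul_isUnit_right hgu
  rw [IsLocalization.AtPrime.isUnit_to_map_iff (Loc 𝒜 y) y.asHomogeneousIdeal.toIdeal] at hfu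
  exact hfu

end Groth.Agent.H2.ConstMor
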