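import Mathlib
set_option autoImplicit false
universe u
open CategoryTheory CategoryTheory.Limits AlgebraicGeometry TopologicalSpace Opposite

/-! A morphism landing in an affine open factors through `Spec` of the global functions. -/

namespace Groth.Agent.H2.ConstMor

theorem exists_factor_of_le_affine {X S Y : Scheme.{u}} (p : X ⟶ S) [IsAffine S]
    [IsIso p.appTop] (f : X ⟶ Y) (D : Y.Opens) (hD : IsAffineOpen D) (h : ⊤ ≤ f ⁻¹ᵁ D) :
    ∃ q : S ⟶ Y, f = p ≫ q := by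
  haveI : IsAffine D := hD
  have hr : Set.range f ⊆ Set.range D.ι := by
    rw [Scheme.Opens.range_ι]
    rintro _ ⟨x, rfl⟩
    exact h (show x ∈ (⊤ : X.Opens) from trivial)
  let f' : X ⟶ D.toScheme := IsOpenImmersion.lift D.ι f hr
  have hf' : f' ≫ D.ι = f := IsOpenImmersion.lift_fac D.ι f hr
  have h1 : f' ≫ D.toScheme.toSpecΓ = X.toSpecΓ ≫ Spec.map f'.appTop :=
    Scheme.toSpecΓ_naturality f'
  have h2 : p ≫ S.toSpecΓ = X.toSpecΓ ≫ Spec.map p.appTop := Scheme.toSpecΓ_naturality p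
  haveI : IsIso (Spec.map p.appTop) := inferInstance
  have h3 : X.toSpecΓ = p ≫ S.toSpecΓ ≫ inv (Spec.map p.appTop) := by
    rw [← Category.assoc, h2, Category.assoc, IsIso.hom_inv_id, Category.comp_id]
  obtain ⟨g, hg⟩ : ∃ g, g = Spec.map f'.appTop := ⟨_, rfl⟩
  rw [← hg] at h1
  have h4 : f' = X.toSpecΓ ≫ g ≫ inv D.toScheme.toSpecΓ := by
    rw [← Category.assoc, ← h1, Category.assoc, IsIso.hom_inv_id, Category.comp_id]
  refine ⟨S.toSpecΓ ≫ inv (Spec.map p.appTop) ≫ g ≫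
    inv D.toScheme.toSpecΓ ≫ D.ι, ?_⟩
  rw [← hf', h4, h3]
  simp only [Category.assoc]

end Groth.Agent.H2.ConstMor
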