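import Mathlib
import Groth.Agent.Lib.Lead.QC.FreeHom
import Groth.Agent.Lib.Lead.QC.TensorPow
import Groth.Agent.Lib.Lead.QC.TensorExact
import Groth.Agent.Lib.Lead.CohLES.H0
import Groth.Agent.Lib.Helper5.CV.A

set_option autoImplicit false
universe u
open CategoryTheory AlgebraicGeometry TopologicalSpace Opposite Limits

namespace Groth.Agent.H2.JTw

open Groth.Agent.LD Groth.Agent.LD.QC

variable {X : Scheme.{u}}

lemma sectionOfHom_injective {M : X.Modules} {s t : unitMod X ⟶ M}
    (h : sectionOfHom s = sectionOfHom t) : s = t := by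
  rw [← homOfSection_sectionOfHom s, ← homOfSection_sectionOfHom t, h]

lemma sectionOfHom_zero (M : X.Modules) : sectionOfHom (0 : unitMod X ⟶ M) = 0 := by
  rw [sectionOfHom]
  simp

/-- `H^0` vanishes iff there are no nonzero global sections. -/
theorem subsingleton_HH0_iff (M : X.Modules) :
    Subsingleton (Coh.HH X M 0) ↔ ∀ s : unitMod X ⟶ M, s = 0 := by
  rw [(CL.HH0Equiv M).toEquiv.subsingleton_congr]
  constructor
  · intro h s
    apply sectionOfHom_injective
    exact Subsingleton.elim _ _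
  · intro h
    refine ⟨fun a b => ?_⟩
    have ha := h (homOfSection M a)
    have hb := h (homOfSection M b)
    rw [← sectionOfHom_homOfSection M a, ← sectionOfHom_homOfSection M b, ha, hb]

theorem tmulHom_comp_left {M M' N : X.Modules} (σ : unitMod X ⟶ M) (φ : M ⟶ M')
    (u : unitMod X ⟶ N) :
    SecTwist.tmulHom (σ ≫ φ) u = SecTwist.tmulHom σ u ≫ KoszTw.tensorMap φ (𝟙 N) := by
  apply sectionOfHom_injective
  change SecTwist.val (SecTwist.tmulHom (σ ≫ φ) u) ⊤ =
    SecTwist.val (SecTwist.tmulHom σ u ≫ KoszTw.tensorMap φ (𝟙 N)) ⊤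
  rw [val_comp, SecTwist.val_tmulHom, SecTwist.val_tmulHom, val_comp, KoszTw.tensorMap_tmul]
  rfl

/-- on an integral scheme, a section of a submodule `J` of an invertible module is zero as soon as
its product with a nonzero section of an invertible module is zero. -/
theorem eq_zero_of_tmulHom_eq_zero [IsIntegral X] {J L N : X.Modules} (ι : J ⟶ L) [Mono ι]
    (hL : PicF.IsInvertible L) (hN : PicF.IsInvertible N) (u : unitMod X ⟶ N) (hu : u ≠ 0)
    (σ : unitMod X ⟶ J) (h : SecTwist.tmulHom σ u = 0) : σ = 0 := by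
  have h1 : SecTwist.tmulHom (σ ≫ ι) u = 0 := by
    rw [tmulHom_comp_left, h, zero_comp]
  have h2 : σ ≫ ι = 0 := by
    by_contra hne
    exact Groth.Agent.H5.CV.tmulHom_ne_zero hL hN (σ ≫ ι) u hne hu h1
  exact (cancel_mono ι).mp (h2.trans zero_comp.symm)

end Groth.Agent.H2.JTw
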