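import Mathlib
import Groth.Agent.Lib.Lead.QC.TensorDesc
import Groth.Agent.Lib.Lead.QC.Extend
import Groth.Agent.Lib.Lead.QC.PullInv
import Groth.Agent.Lib.Lead.QC.Compact
import Groth.Agent.Lib.Helper5.Glue.F

set_option autoImplicit false
universe u
open CategoryTheory Limits AlgebraicGeometry TopologicalSpace Opposite TensorProduct

namespace Groth.Agent.H2.PicPn

open Groth.Agent.LD Groth.Agent.LD.QC

variable {X : Scheme.{u}}

/-- the linear map underlying a morphism of modules on sections. -/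
noncomputable def appLin {M N : X.Modules} (φ : M ⟶ N) (U : X.Opens) :
    Γ(M, U) →ₗ[Γ(X, U)] Γ(N, U) where
  toFun := fun m => φ.app U m
  map_add' := fun a b => map_add (φ.app U).hom a b
  map_smul' := fun r m => Scheme.Modules.Hom.app_smul φ r m

/-- **invertible modules are trivial over affine opens with trivial Picard group.** -/
theorem exists_isBasisOver_of_affine {U : X.Opens} (hU : IsAffineOpen U)
    [Subsingleton (CommRing.Pic Γ(X, U))] (L : X.Modules) (hL : PicF.IsInvertible L) :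
    ∃ e : Γ(L, U), IsBasisOver L U e := by
  obtain ⟨L', hL', ⟨φ⟩⟩ := Groth.Agent.H5.Glue.exists_inverse L hL
  haveI := qc_of_isInvertible L hL
  haveI := qc_of_isInvertible L' hL'
  have hbij : Function.Bijective (appLin φ.hom U) := app_bijective_of_isIso φ.hom U
  let E : Γ(L, U) ⊗[Γ(X, U)] Γ(L', U) ≃ₗ[Γ(X, U)] Γ(X, U) :=
    (tensorSecEquiv L L' hU) ≪≫ₗ LinearEquiv.ofBijective (appLin φ.hom U) hbij
  haveI : Module.Invertible Γ(X, U) Γ(L, U) := Module.Invertible.left E
  haveI hfree : Module.Free Γ(X, U) Γ(L, U) := inferInstance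
  obtain ⟨ε⟩ := Module.Invertible.free_iff_linearEquiv.mp hfree
  let e : Γ(L, U) := ε.symm 1
  have hgen : ∀ m : Γ(L, U), ∃ b : Γ(X, U), m = b • e := by
    intro m
    refine ⟨ε m, ?_⟩
    change m = ε m • ε.symm 1
    rw [← map_smul, smul_eq_mul, mul_one, LinearEquiv.symm_apply_apply]
  refine ⟨e, isBasisOver_of_local e ?_⟩
  intro x hx W hxW
  obtain ⟨U₁, ε₁, hx₁, hε₁⟩ := (isInvertible_iff_exists_isBasisOver L).mp hL x
  obtain ⟨g, hgle, hxg⟩ := hU.exists_basicOpen_le (V := U₁ ⊓ W) ⟨x, hx₁, hxW⟩ hx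
  have hVU : X.basicOpen g ≤ U := X.basicOpen_le g
  have hV₁ : X.basicOpen g ≤ U₁ := hgle.trans inf_le_left
  refine ⟨X.basicOpen g, hVU, hxg, hgle.trans inf_le_right, ?_⟩
  -- the local basis restricted to `V`
  have hεV : IsBasisOver L (X.basicOpen g) (L.presheaf.map (homOfLE hV₁).op ε₁) := hε₁.mono hV₁
  obtain ⟨n, s, hs⟩ := compact_qs_surj L hU.isCompact hU.isQuasiSeparated g
    (L.presheaf.map (homOfLE hV₁).op ε₁)
  obtain ⟨b, hb⟩ := hgen s
  obtain ⟨c, hc⟩ := hεV.exists_coord (L.presheaf.map (homOfLE hVU).op e)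
  have hgu : IsUnit (X.presheaf.map (homOfLE hVU).op g) := RingedSpace.isUnit_res_basicOpen _ g
  have h1 : (X.presheaf.map (homOfLE hVU).op b * c) • L.presheaf.map (homOfLE hV₁).op ε₁ =
      (X.presheaf.map (homOfLE hVU).op g) ^ n • L.presheaf.map (homOfLE hV₁).op ε₁ := by
    rw [← hs, hb, smul_res, hc, smul_smul]
  have h2 := hεV.coord_injective h1
  have hcu : IsUnit c := by
    have h3 : IsUnit (X.presheaf.map (homOfLE hVU).op b * c) := by rw [h2]; exact hgu.pow n
    exact isUnit_of_mul_isUnit_right h3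
  have h4 := (hεV.smul_iff c).mpr hcu
  rw [← hc] at h4
  have h5 := h4 (X.basicOpen g) le_rfl
  simp only [res_self] at h5
  exact h5

end Groth.Agent.H2.PicPn
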