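import Mathlib
import Groth.Agent.Lib.Helper2.ProjUPE

/-! # The standard affine charts of projective space are affine spaces. -/

set_option autoImplicit false
universe u
open HomogeneousLocalization

namespace Groth.Agent.H2.PnChart

open Groth.Agent.H2.PUP

variable (n : ℕ) (R : Type u) [CommRing R] (i : Fin (n + 1))

/-- the chart ring. -/
abbrev Aw : Type u :=
  Away (CohB1.polyGrading n R) (MvPolynomial.X i : MvPolynomial (Fin (n + 1)) R)

lemma hX : (MvPolynomial.X i : MvPolynomial (Fin (n + 1)) R) ∈ CohB1.polyGrading n R 1 :=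
  MvPolynomial.isHomogeneous_X R i

/-- scalars. -/
noncomputable def sc : R →+* Aw n R i :=
  (HomogeneousLocalization.fromZeroRingHom (CohB1.polyGrading n R)
    (Submonoid.powers (MvPolynomial.X i))).comp (algebraMap R (CohB1.polyGrading n R 0))

/-- the fractions `T_j / T_i`. -/
noncomputable def fr (j : Fin (n + 1)) : Aw n R i :=
  HomogeneousLocalization.mk ⟨1, ⟨MvPolynomial.X j, MvPolynomial.isHomogeneous_X R j⟩,
    ⟨MvPolynomial.X i, MvPolynomial.isHomogeneous_X R i⟩, ⟨1, pow_one _⟩⟩

/-- the chart map. -/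
noncomputable def phi : MvPolynomial {j : Fin (n + 1) // j ≠ i} R →+* Aw n R i :=
  MvPolynomial.eval₂Hom (sc n R i) (fun j => fr n R i j.1)

/-- dehomogenisation `T_i ↦ 1`. -/
noncomputable def dehom : MvPolynomial (Fin (n + 1)) R →+* MvPolynomial {j : Fin (n + 1) // j ≠ i} R :=
  MvPolynomial.eval₂Hom MvPolynomial.C
    (fun j => if h : j = i then 1 else MvPolynomial.X ⟨j, h⟩)

lemma dehom_X_self : dehom n R i (MvPolynomial.X i) = 1 := by
  simp [dehom]

lemma dehom_X_ne (j : Fin (n + 1)) (h : j ≠ i) : dehom n R i (MvPolynomial.X j) =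
    MvPolynomial.X ⟨j, h⟩ := by
  simp [dehom, h]

lemma dehom_C (r : R) : dehom n R i (MvPolynomial.C r) = MvPolynomial.C r := by
  simp [dehom]

/-- the extension of dehomogenisation to the localisation. -/
noncomputable def dehomLoc :
    Localization.Away (MvPolynomial.X i : MvPolynomial (Fin (n + 1)) R) →+*
      MvPolynomial {j : Fin (n + 1) // j ≠ i} R :=
  IsLocalization.Away.lift (MvPolynomial.X i : MvPolynomial (Fin (n + 1)) R)
    (g := dehom n R i) (by rw [dehom_X_self]; exact isUnit_one)

/-- the inverse of the chart map. -/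
noncomputable def psi : Aw n R i →+* MvPolynomial {j : Fin (n + 1) // j ≠ i} R :=
  (dehomLoc n R i).comp (algebraMap (Aw n R i)
    (Localization.Away (MvPolynomial.X i : MvPolynomial (Fin (n + 1)) R)))

lemma psi_sc (r : R) : psi n R i (sc n R i r) = MvPolynomial.C r := by
  have h : algebraMap (Aw n R i) (Localization.Away
      (MvPolynomial.X i : MvPolynomial (Fin (n + 1)) R)) (sc n R i r) =
      algebraMap _ _ (MvPolynomial.C r : MvPolynomial (Fin (n + 1)) R) := by
    change (sc n R i r).val = _
    rw [sc, RingHom.comp_apply]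
    change Localization.mk (MvPolynomial.C r : MvPolynomial (Fin (n + 1)) R) 1 = _
    rw [Localization.mk_one_eq_algebraMap]
  rw [psi, RingHom.comp_apply, h, dehomLoc, IsLocalization.Away.lift_eq, dehom_C]

lemma val_fr (j : Fin (n + 1)) : (fr n R i j).val =
    Localization.mk (MvPolynomial.X j) (⟨MvPolynomial.X i, ⟨1, pow_one _⟩⟩ : Submonoid.powers
      (MvPolynomial.X i : MvPolynomial (Fin (n + 1)) R)) := by
  rw [fr, HomogeneousLocalization.val_mk]

lemma psi_fr (j : Fin (n + 1)) :
    psi n R i (fr n R i j) = dehom n R i (MvPolynomial.X j) := by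
  have h : algebraMap (Aw n R i) (Localization.Away
      (MvPolynomial.X i : MvPolynomial (Fin (n + 1)) R)) (fr n R i j) =
      IsLocalization.mk' _ (MvPolynomial.X j : MvPolynomial (Fin (n + 1)) R)
        (⟨MvPolynomial.X i, ⟨1, pow_one _⟩⟩ : Submonoid.powers
          (MvPolynomial.X i : MvPolynomial (Fin (n + 1)) R)) := by
    change (fr n R i j).val = _
    rw [val_fr, Localization.mk_eq_mk']
  rw [psi, RingHom.comp_apply, h, dehomLoc, IsLocalization.Away.lift, IsLocalization.lift_mk'_spec]
  change _ = dehom n R i (MvPolynomial.X i) * _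
  rw [dehom_X_self, one_mul]

lemma psi_phi : (psi n R i).comp (phi n R i) = RingHom.id _ := by
  apply MvPolynomial.ringHom_ext
  · intro r
    rw [RingHom.comp_apply, phi, MvPolynomial.eval₂Hom_C, psi_sc]
    rfl
  · intro j
    rw [RingHom.comp_apply, phi, MvPolynomial.eval₂Hom_X', psi_fr, dehom_X_ne n R i j.1 j.2]
    rfl

lemma fr_self : fr n R i i = 1 := by
  apply HomogeneousLocalization.val_injective
  rw [val_fr, HomogeneousLocalization.val_one]
  exact Localization.mk_self ⟨_, _⟩

lemma frac1_single (j : Fin (n + 1)) :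
    frac1 (CohB1.polyGrading n R) (ιPn n R) (ιPn_mem n R) (hX n R i) (Pi.single j 1) =
      fr n R i j := by
  apply HomogeneousLocalization.val_injective
  rw [frac1, Away.val_mk, val_fr, ιPn_single]
  simp only [pow_one]

lemma phi_psi : (phi n R i).comp (psi n R i) = RingHom.id _ := by
  refine away_ringHom_ext' (CohB1.polyGrading n R) (ιPn n R) (ιPn_mem n R)
    (isSymmetricAlgebra_ιPn n R) (fun j : Fin (n + 1) => (Pi.single j 1 : Fin (n + 1) → R))
    (span_single n R) (hX n R i) _ _ ?_ ?_
  · intro a
    change (phi n R i) (psi n R i (sc n R i a)) = sc n R i a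
    rw [psi_sc, phi, MvPolynomial.eval₂Hom_C]
  · intro j
    rw [frac1_single, RingHom.comp_apply, psi_fr, RingHom.id_apply]
    by_cases h : j = i
    · subst h
      rw [dehom_X_self, map_one, fr_self]
    · rw [dehom_X_ne n R i j h, phi, MvPolynomial.eval₂Hom_X']

theorem bijective_phi : Function.Bijective (phi n R i) := by
  constructor
  · intro a b hab
    have := congrArg (psi n R i) hab
    have h1 : ∀ x, psi n R i (phi n R i x) = x := fun x =>
      congrArg (fun ρ : _ →+* _ => ρ x) (psi_phi n R i)
    rwa [h1, h1] at this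
  · intro y
    exact ⟨psi n R i y, congrArg (fun ρ : _ →+* _ => ρ y) (phi_psi n R i)⟩

theorem iSup_basicOpen :
    (⨆ i : Fin (n + 1), AlgebraicGeometry.Proj.basicOpen (CohB1.polyGrading n R)
      (MvPolynomial.X i)) = ⊤ := by
  have h := iSup_basicOpen_eq_top' (CohB1.polyGrading n R) (ιPn n R) (ιPn_mem n R)
    (isSymmetricAlgebra_ιPn n R) (fun j : Fin (n + 1) => (Pi.single j 1 : Fin (n + 1) → R))
    (span_single n R)
  simp only [ιPn_single] at h
  exact h

end Groth.Agent.H2.PnChart
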