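import Mathlib
import Groth.Agent.Lib.Helper2.PicPnA
import Groth.Agent.Lib.Helper2.PnChart
import Groth.Agent.Lib.Lead.PN.Theta

set_option autoImplicit false
universe u
open CategoryTheory Limits AlgebraicGeometry TopologicalSpace Opposite TensorProduct

namespace Groth.Agent.H2.PicPn

open Groth.Agent.LD Groth.Agent.LD.QC

variable (n : ℕ) (R : Type u) [CommRing R]

/-- the standard chart `D₊(X_i)`. -/
noncomputable abbrev DD (i : Fin (n+1)) : (Proj (CohB1.polyGrading n R)).Opens :=
  Proj.basicOpen (CohB1.polyGrading n R) (MvPolynomial.X i)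

lemma isAffineOpen_DD (i : Fin (n+1)) : IsAffineOpen (DD n R i) :=
  Proj.isAffineOpen_basicOpen (CohB1.polyGrading n R) (MvPolynomial.X i)
    (Groth.Agent.LD.PN.X_mem i) Nat.one_pos

/-- the ring of functions of a standard chart is a polynomial ring. -/
noncomputable def chartEquiv (i : Fin (n+1)) :
    Γ(Proj (CohB1.polyGrading n R), DD n R i) ≃+* MvPolynomial {j : Fin (n+1) // j ≠ i} R :=
  ((Proj.basicOpenIsoAway (CohB1.polyGrading n R) (MvPolynomial.X i)
    (Groth.Agent.LD.PN.X_mem i) Nat.one_pos).commRingCatIsoToRingEquiv).symm.trans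
    (RingEquiv.ofBijective (Groth.Agent.H2.PnChart.phi n R i)
      (Groth.Agent.H2.PnChart.bijective_phi n R i)).symm

theorem subsingleton_pic_chart [IsDomain R] [UniqueFactorizationMonoid R] (i : Fin (n+1)) :
    Subsingleton (CommRing.Pic Γ(Proj (CohB1.polyGrading n R), DD n R i)) := by
  haveI : IsDomain Γ(Proj (CohB1.polyGrading n R), DD n R i) :=
    (chartEquiv n R i).toMulEquiv.isDomain _
  haveI : UniqueFactorizationMonoid Γ(Proj (CohB1.polyGrading n R), DD n R i) :=
    (chartEquiv n R i).symm.toMulEquiv.uniqueFactorizationMonoid inferInstance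
  infer_instance

/-- **invertible modules on projective space over a factorial ring are trivial on the standard charts.** -/
theorem exists_isBasisOver_chart [IsDomain R] [UniqueFactorizationMonoid R]
    (L : (Proj (CohB1.polyGrading n R)).Modules) (hL : PicF.IsInvertible L) (i : Fin (n+1)) :
    ∃ e : Γ(L, DD n R i), IsBasisOver L (DD n R i) e := by
  haveI := subsingleton_pic_chart n R i
  exact exists_isBasisOver_of_affine (isAffineOpen_DD n R i) L hL

end Groth.Agent.H2.PicPn
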