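import Mathlib
import Groth.Agent.Lib.Helper2.JTwA
import Groth.Agent.Lib.Helper2.HypCohA
import Groth.Agent.Lib.Helper2.PicPnB
import Groth.Agent.Lib.Lead.PN.MulSurj2
import Groth.Agent.Lib.Lead.TW.GlobalGen

/-! # Sections of twists of rank-2 bundles belonging to a subscheme of `P^n` (stability criteria). -/

set_option autoImplicit false
universe u
open CategoryTheory AlgebraicGeometry TopologicalSpace Opposite Limits

namespace Groth.Agent.H2.JTw

open Groth.Agent.LD Groth.Agent.LD.QC Groth.Agent.LD.PN Groth.Agent.LD.TW Twist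

lemma not_isBasisOver_zero {X : Scheme.{u}} {L : X.Modules} {U : X.Opens} [Nontrivial Γ(X, U)]
    {e : Γ(L, U)} (he : IsBasisOver L U e) (h0 : e = 0) : False := by
  have h1 := (he U le_rfl).1
  have h2 : (1 : Γ(X, U)) = 0 := by
    apply h1
    simp only [h0, map_zero, smul_zero]
  exact one_ne_zero h2

variable (k : Type u) [Field k] (n : ℕ)

/-- a nonzero section of `O(e)`, `e ≥ 0`. -/
theorem exists_section_ne_zero (e : ℕ) :
    ∃ u : unitMod (Proj (CohB1.polyGrading n k)) ⟶ twist (CohB1.polyGrading n k) (e : ℤ), u ≠ 0 := by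
  have hf := X_mem (n := n) (R := k) 0
  obtain ⟨p, hp⟩ : ∃ p : Γ(twist (CohB1.polyGrading n k) (e : ℤ), ⊤),
      p = (show Γ(twist (CohB1.polyGrading n k) (e : ℤ), ⊤) from powGlobal _ hf e) := ⟨_, rfl⟩
  refine ⟨homOfSection _ p, fun h0 => ?_⟩
  have h1 : p = 0 := by
    have h2 := sectionOfHom_homOfSection _ p
    rw [h0, sectionOfHom_zero] at h2
    exact h2.symm
  have h3 := (isUnitSec_powGlobal (MvPolynomial.X 0) hf e
    (le_refl (ProjectiveSpectrum.basicOpen (CohB1.polyGrading n k) (MvPolynomial.X 0)))).isBasisOver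
  haveI : Nontrivial Γ(Proj (CohB1.polyGrading n k), PicPn.DD n k 0) :=
    (PicPn.chartEquiv n k 0).toEquiv.nontrivial
  refine not_isBasisOver_zero (U := PicPn.DD n k 0) h3 ?_
  have h4 := congrArg ((twist (CohB1.polyGrading n k) (e : ℤ)).presheaf.map
    (homOfLE (le_top : PicPn.DD n k 0 ≤ ⊤)).op) (hp.symm.trans h1)
  rw [map_zero] at h4
  exact h4

end Groth.Agent.H2.JTw

namespace Groth.Agent.H2.JTw

open Groth.Agent.LD Groth.Agent.LD.QC Groth.Agent.LD.PN Groth.Agent.LD.TW Twist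

variable (k : Type u) [Field k] (n : ℕ)

/-- monotonicity of the vanishing of `H^0` of the twists of a submodule of an invertible module. -/
theorem subsingleton_HH0_of_le {J L₀ : (Proj (CohB1.polyGrading n k)).Modules} [J.IsQuasicoherent]
    (ι : J ⟶ L₀) [Mono ι] (hL₀ : PicF.IsInvertible L₀) {d d₀ : ℤ} (hd : d ≤ d₀)
    (h : Subsingleton (Coh.HH (Proj (CohB1.polyGrading n k))
      (CohB1.tensorMod J (twist (CohB1.polyGrading n k) d₀)) 0)) :
    Subsingleton (Coh.HH (Proj (CohB1.polyGrading n k))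
      (CohB1.tensorMod J (twist (CohB1.polyGrading n k) d)) 0) := by
  haveI := Groth.Agent.H2.HypCoh.isIntegral_proj k n
  obtain ⟨e, rfl⟩ : ∃ e : ℕ, d₀ = d + (e : ℤ) :=
    ⟨(d₀ - d).toNat, by rw [Int.toNat_of_nonneg (by omega)]; ring⟩
  rw [subsingleton_HH0_iff] at h ⊢
  intro σ
  obtain ⟨u, hu⟩ := exists_section_ne_zero k n e
  have h1 := h (SecTwist.tmulHom σ u ≫ (assocIso2 n k J d e).hom)
  have h2 : SecTwist.tmulHom σ u = 0 := by
    rw [← cancel_mono (assocIso2 n k J d e).hom, h1, zero_comp]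
  haveI := mono_tensorMap_of_isInvertible ι _ (isInvertible_twist n k d)
  exact eq_zero_of_tmulHom_eq_zero (KoszTw.tensorMap ι (𝟙 (twist (CohB1.polyGrading n k) d)))
    (isInvertible_tensorMod hL₀ (isInvertible_twist n k d)) (isInvertible_twist n k e) u hu σ h2

end Groth.Agent.H2.JTw

namespace Groth.Agent.H2.JTw

open Groth.Agent.LD Groth.Agent.LD.QC Groth.Agent.LD.PN Groth.Agent.LD.TW Twist

variable (k : Type u) [Field k] (n : ℕ)

/-- sections of the twists of an extension of `J(c)` by `O`, `J` a submodule of `O`, on `P^n`,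
`n ≥ 2`. -/
theorem subsingleton_HH0_mid_iff (hn : 2 ≤ n) (J : (Proj (CohB1.polyGrading n k)).Modules)
    [J.IsQuasicoherent] (S : ShortComplex (Proj (CohB1.polyGrading n k)).Modules)
    (hS : S.ShortExact) (h₁ : Nonempty (S.X₁ ≅ unitMod (Proj (CohB1.polyGrading n k)))) (c : ℤ)
    (h₃ : Nonempty (S.X₃ ≅ CohB1.tensorMod J (twist (CohB1.polyGrading n k) c))) (e : ℤ) :
    Subsingleton (Coh.HH (Proj (CohB1.polyGrading n k))
      (CohB1.tensorMod S.X₂ (twist (CohB1.polyGrading n k) e)) 0) ↔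
    (e < 0 ∧ Subsingleton (Coh.HH (Proj (CohB1.polyGrading n k))
      (CohB1.tensorMod J (twist (CohB1.polyGrading n k) (c + e))) 0)) := by
  obtain ⟨α⟩ := h₁
  obtain ⟨β⟩ := h₃
  have hL := isInvertible_twist n k e
  have hS' := shortExact_tensorMap_of_isInvertible hS _ hL
  let a₁ : CohB1.tensorMod S.X₁ (twist (CohB1.polyGrading n k) e) ≅
      twist (CohB1.polyGrading n k) e :=
    tensorIso' α (Iso.refl _) ≪≫ unitorL' _
  let a₃ : CohB1.tensorMod S.X₃ (twist (CohB1.polyGrading n k) e) ≅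
      CohB1.tensorMod J (twist (CohB1.polyGrading n k) (c + e)) :=
    tensorIso' β (Iso.refl _) ≪≫ assocIso2 n k J c e
  have hH1 : Subsingleton (Coh.HH (Proj (CohB1.polyGrading n k))
      (CohB1.tensorMod S.X₁ (twist (CohB1.polyGrading n k) e)) 1) := by
    refine CL.subsingleton_of_iso a₁.symm 1 ?_
    apply subsingleton_HH_twist_all n k e 1
    · rintro ⟨h, -⟩
      exact absurd h one_ne_zero
    · rintro ⟨h, -⟩
      omega
  constructor
  · intro h₂
    have h3 := CL.subsingleton_right hS' 0 h₂ hH1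
    refine ⟨?_, CL.subsingleton_of_iso a₃ 0 h3⟩
    by_contra hneg
    obtain ⟨e', rfl⟩ : ∃ e' : ℕ, e = (e' : ℤ) := ⟨e.toNat, (Int.toNat_of_nonneg (by omega)).symm⟩
    obtain ⟨u, hu⟩ := exists_section_ne_zero k n e'
    rw [subsingleton_HH0_iff] at h₂
    have h4 := h₂ ((u ≫ a₁.inv) ≫ KoszTw.tensorMap S.f (𝟙 _))
    haveI : Mono (KoszTw.tensorMap S.f (𝟙 (twist (CohB1.polyGrading n k) (e' : ℤ)))) := hS'.mono_f
    have h5 : u ≫ a₁.inv = 0 := (cancel_mono _).mp (h4.trans zero_comp.symm)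
    apply hu
    have h6 := congrArg (· ≫ a₁.hom) h5
    simpa using h6
  · rintro ⟨he, h3⟩
    refine CL.subsingleton_mid hS' 0 ?_ (CL.subsingleton_of_iso a₃.symm 0 h3)
    refine CL.subsingleton_of_iso a₁.symm 0 ?_
    apply subsingleton_HH_twist_all n k e 0
    · rintro ⟨-, h⟩
      omega
    · rintro ⟨h, -⟩
      omega

end Groth.Agent.H2.JTw

namespace Groth.Agent.H2.JTw

open Groth.Agent.LD Groth.Agent.LD.QC Groth.Agent.LD.PN Groth.Agent.LD.TW Twist

variable (k : Type u) [Field k] (n : ℕ)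

/-- **rank-2 bundles belonging to a codimension 2 subscheme: stability criterion.** -/
theorem stable_iff (hn : 2 ≤ n) (I : (Proj (CohB1.polyGrading n k)).IdealSheafData)
    (S : ShortComplex (Proj (CohB1.polyGrading n k)).Modules)
    (hS : S.ShortExact) (h₁ : Nonempty (S.X₁ ≅ unitMod (Proj (CohB1.polyGrading n k)))) (c : ℤ)
    (h₃ : Nonempty (S.X₃ ≅ CohB1.tensorMod (ClSub.idealMod I) (twist (CohB1.polyGrading n k) c)))
    (k₀ : ℤ) (hk₀ : c + 2 * k₀ = 0 ∨ c + 2 * k₀ = -1) :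
    Subsingleton (Coh.HH (Proj (CohB1.polyGrading n k))
      (CohB1.tensorMod S.X₂ (twist (CohB1.polyGrading n k) k₀)) 0) ↔
    (0 < c ∧ ∀ d : ℤ, 2 * d ≤ c → Subsingleton (Coh.HH (Proj (CohB1.polyGrading n k))
      (CohB1.tensorMod (ClSub.idealMod I) (twist (CohB1.polyGrading n k) d)) 0)) := by
  rw [subsingleton_HH0_mid_iff k n hn (ClSub.idealMod I) S hS h₁ c h₃ k₀]
  constructor
  · rintro ⟨hk, h⟩
    refine ⟨by omega, fun d hd => ?_⟩
    exact subsingleton_HH0_of_le k n (ClSub.idealModι I) (isInvertible_unit _)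
      (show d ≤ c + k₀ by omega) h
  · rintro ⟨hc, h⟩
    exact ⟨by omega, h (c + k₀) (by omega)⟩

/-- **rank-2 bundles belonging to a codimension 2 subscheme: semistability criterion.** -/
theorem semistable_iff (hn : 2 ≤ n) (I : (Proj (CohB1.polyGrading n k)).IdealSheafData)
    (S : ShortComplex (Proj (CohB1.polyGrading n k)).Modules)
    (hS : S.ShortExact) (h₁ : Nonempty (S.X₁ ≅ unitMod (Proj (CohB1.polyGrading n k)))) (m : ℤ)
    (h₃ : Nonempty (S.X₃ ≅ CohB1.tensorMod (ClSub.idealMod I)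
      (twist (CohB1.polyGrading n k) (2 * m)))) :
    Subsingleton (Coh.HH (Proj (CohB1.polyGrading n k))
      (CohB1.tensorMod S.X₂ (twist (CohB1.polyGrading n k) (-m - 1))) 0) ↔
    (0 ≤ m ∧ ∀ d : ℤ, d ≤ m - 1 → Subsingleton (Coh.HH (Proj (CohB1.polyGrading n k))
      (CohB1.tensorMod (ClSub.idealMod I) (twist (CohB1.polyGrading n k) d)) 0)) := by
  rw [subsingleton_HH0_mid_iff k n hn (ClSub.idealMod I) S hS h₁ (2 * m) h₃ (-m - 1)]
  have e : 2 * m + (-m - 1) = m - 1 := by ring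
  rw [e]
  constructor
  · rintro ⟨hk, h⟩
    refine ⟨by omega, fun d hd => ?_⟩
    exact subsingleton_HH0_of_le k n (ClSub.idealModι I) (isInvertible_unit _) hd h
  · rintro ⟨hc, h⟩
    exact ⟨by omega, h (m - 1) le_rfl⟩

end Groth.Agent.H2.JTw
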