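import Mathlib
import Groth.Agent.Lib.Lead.PN.Theta
import Groth.Agent.Lib.Lead.PN.ThetaSmul

set_option autoImplicit false
universe u
open CategoryTheory AlgebraicGeometry TopologicalSpace Opposite

namespace Groth.Agent.H2.PicPn

open Groth.Agent.LD Groth.Agent.LD.PN Groth.Agent.LD.TW Twist

section generic
variable {R A : Type u} [CommRing R] [CommRing A] [Algebra R A] {𝒜 : ℕ → Submodule R A}
  [GradedAlgebra 𝒜]

theorem isHomog_mul {g : A} {m : ℕ} {d d' : ℤ} {ℓ ℓ' : Localization.Away g}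
    (h : IsHomog 𝒜 g m d ℓ) (h' : IsHomog 𝒜 g m d' ℓ') : IsHomog 𝒜 g m (d + d') (ℓ * ℓ') := by
  obtain ⟨k, j, b, hb, hj, rfl⟩ := h
  obtain ⟨k', j', b', hb', hj', rfl⟩ := h'
  refine ⟨k + k', j + j', b * b', SetLike.mul_mem_graded hb hb',
    by push_cast; rw [hj, hj']; ring, ?_⟩
  rw [Localization.mk_mul, gpow_mul]

theorem isHomog_one {g : A} {m : ℕ} : IsHomog 𝒜 g m 0 (1 : Localization.Away g) :=
  ⟨0, 0, 1, SetLike.GradedOne.one_mem, by simp, by
    rw [← Localization.mk_one]; congr 1; exact Subtype.ext (pow_zero g).symm⟩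

end generic

variable {n : ℕ} {R : Type u} [CommRing R]

section
variable {c c' : Fin (n+1) →₀ ℕ} {v : Fin (n+1)} (hc : c = c' + Finsupp.single v 1)
  {V : (Proj (CohB1.polyGrading n R)).Opens}
  (hV : V = ProjectiveSpectrum.basicOpen (CohB1.polyGrading n R) (G c))

include hc in
theorem theta_mulSec (d d' : ℤ)
    (s : sectN (𝒜 := CohB1.polyGrading n R) d (op V))
    (t : sectN (𝒜 := CohB1.polyGrading n R) d' (op V)) :
    theta n R c (d + d') hV.le (mulSec (le_refl V) s t) =
      theta n R c d hV.le s * theta n R c d' hV.le t := by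
  obtain ⟨ℓ, h, h'⟩ := exists_isRep hc d hV s
  obtain ⟨ℓ₂, h₂, h₂'⟩ := exists_isRep hc d' hV t
  rw [theta_eq hc d hV s h h', theta_eq hc d' hV t h₂ h₂',
    theta_eq hc (d + d') hV (mulSec (le_refl V) s t) (isHomog_mul h h₂) (fun x => by
      rw [mulSec_apply, map_mul, ← h' x, ← h₂' x]), map_mul]

/-- the Laurent polynomial of a function on `D₊(X^c)`. -/
noncomputable def Θ (c : Fin (n+1) →₀ ℕ) {V : (Proj (CohB1.polyGrading n R)).Opens}
    (hV : V ≤ ProjectiveSpectrum.basicOpen (CohB1.polyGrading n R) (G c))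
    (a : Γ(Proj (CohB1.polyGrading n R), V)) : Lau n R :=
  theta n R c 0 hV (ofO (op V) a)

include hc in
theorem theta_smul_sec (d : ℤ) (a : Γ(Proj (CohB1.polyGrading n R), V))
    (s : Γ(twist (CohB1.polyGrading n R) d, V)) :
    theta n R c d hV.le (show sectN (𝒜 := CohB1.polyGrading n R) d (op V) from a • s) =
      Θ c hV.le a * theta n R c d hV.le (show sectN (𝒜 := CohB1.polyGrading n R) d (op V) from s) := by
  obtain ⟨ℓ, h, h'⟩ := exists_isRep hc 0 hV (ofO (op V) a)
  obtain ⟨ℓ₂, h₂, h₂'⟩ := exists_isRep hc d hV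
    (show sectN (𝒜 := CohB1.polyGrading n R) d (op V) from s)
  have h3 : IsHomog (CohB1.polyGrading n R) (G c) (Finsupp.degree c) d (ℓ * ℓ₂) := by
    have := isHomog_mul h h₂
    rwa [zero_add] at this
  rw [Θ, theta_eq hc 0 hV _ h h', theta_eq hc d hV _ h₂ h₂',
    theta_eq hc d hV _ h3 (fun x => by
      rw [smul_sec_val, map_mul, ← h' x, ← h₂' x]
      rfl), map_mul]

include hc in
theorem Θ_mul (a b : Γ(Proj (CohB1.polyGrading n R), V)) :
    Θ c hV.le (a * b) = Θ c hV.le a * Θ c hV.le b := by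
  have h1 : ofO (op V) (a * b) =
      (show O (𝒜 := CohB1.polyGrading n R) (op V) from a) • ofO (op V) b := ofO_mul (op V) a b
  rw [Θ, h1]
  exact theta_smul_sec hc hV 0 a (show Γ(twist (CohB1.polyGrading n R) 0, V) from ofO (op V) b)

include hc in
theorem Θ_one : Θ c hV.le (1 : Γ(Proj (CohB1.polyGrading n R), V)) = 1 := by
  have h1 : IsRep (G c) hV.le (ofO (op V) (1 : Γ(Proj (CohB1.polyGrading n R), V))) 1 := by
    intro x
    rw [ofO_val, map_one]
    exact HomogeneousLocalization.val_one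
  rw [Θ, theta_eq hc 0 hV _ isHomog_one h1, map_one]

include hc in
theorem Θ_injective : Function.Injective (Θ (R := R) c hV.le) := by
  intro a b hab
  exact ofO_injective (op V) (theta_injective hc 0 hV hab)

include hc in
theorem Θ_mem (a : Γ(Proj (CohB1.polyGrading n R), V)) : Θ c hV.le a ∈ Mset n R c 0 :=
  theta_mem_Mset hc 0 hV _

end

end Groth.Agent.H2.PicPn
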