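import Mathlib
import Groth.Agent.Lib.Lead.PN.Laurent
import Groth.Agent.Lib.Lead.PN.Lam

set_option autoImplicit false
universe u
open AddMonoidAlgebra

namespace Groth.Agent.H2.PicPn

open Groth.Agent.LD.PN

section poly
variable {σ : Type*} {R : Type u} [CommRing R] [IsDomain R]

omit [IsDomain R] in
/-- a product of variables is a monomial. -/
lemma exists_monomial_eq_prod {ι : Type*} (t : Finset ι) (f : ι → σ) :
    ∃ β : σ →₀ ℕ, ∏ i ∈ t, (MvPolynomial.X (f i) : MvPolynomial σ R) = MvPolynomial.monomial β 1 := by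
  classical
  induction t using Finset.induction_on with
  | empty => exact ⟨0, by simp⟩
  | insert a s ha ih =>
    obtain ⟨β, hβ⟩ := ih
    refine ⟨Finsupp.single (f a) 1 + β, ?_⟩
    rw [Finset.prod_insert ha, hβ, MvPolynomial.X, MvPolynomial.monomial_mul, one_mul]

/-- a divisor of a monomial (with coefficient one) over a domain is a unit multiple of a monomial. -/
theorem exists_monomial_of_mul_eq_monomial (b b' : MvPolynomial σ R) (γ : σ →₀ ℕ)
    (h : b * b' = MvPolynomial.monomial γ 1) :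
    ∃ (r : Rˣ) (β : σ →₀ ℕ), b = MvPolynomial.monomial β (r : R) := by
  classical
  let s : Finset (Σ _ : σ, ℕ) := γ.support.sigma (fun j => Finset.range (γ j))
  let p : (Σ _ : σ, ℕ) → MvPolynomial σ R := fun i => MvPolynomial.X i.1
  have hprod : MvPolynomial.monomial γ (1 : R) = 1 * ∏ i ∈ s, p i := by
    rw [one_mul, Finset.prod_sigma, MvPolynomial.monomial_eq, MvPolynomial.C_1, one_mul,
      Finsupp.prod]
    refine Finset.prod_congr rfl (fun j _ => ?_)
    change _ = ∏ _m ∈ Finset.range (γ j), (MvPolynomial.X j : MvPolynomial σ R)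
    rw [Finset.prod_const, Finset.card_range]
  obtain ⟨t, t', u, u', -, -, huu, hb, -⟩ := mul_eq_mul_prime_prod
    (fun i _ => (MvPolynomial.X_prime : Prime (MvPolynomial.X i.1 : MvPolynomial σ R)))
    (h.trans hprod)
  have hu : IsUnit u := IsUnit.of_mul_eq_one u' huu.symm
  obtain ⟨r, hr, rfl⟩ := MvPolynomial.isUnit_iff_eq_C_of_isReduced.mp hu
  obtain ⟨β, hβ⟩ := exists_monomial_eq_prod (R := R) t (fun i : (Σ _ : σ, ℕ) => i.1)
  refine ⟨hr.unit, β, ?_⟩
  rw [hb, hβ, MvPolynomial.C_mul_monomial, mul_one]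
  rfl

end poly

end Groth.Agent.H2.PicPn

namespace Groth.Agent.H2.PicPn

open Groth.Agent.LD.PN

variable {n : ℕ} {R : Type u} [CommRing R]

/-- **units of the Laurent model**: an element of the degree-`d` part of `R[X][1/X^c]` which is
invertible there is a unit multiple of a Laurent monomial. -/
theorem exists_single_of_mul_eq_one [IsDomain R] (c : Fin (n+1) →₀ ℕ) (hc : 0 < Finsupp.degree c)
    (d d' : ℤ) (ℓ ℓ' : Lau n R) (h : ℓ ∈ Mset n R c d) (h' : ℓ' ∈ Mset n R c d')
    (hmul : ℓ * ℓ' = 1) :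
    ∃ (r : Rˣ) (α : Fin (n+1) →₀ ℤ), ℓ = single α (r : R) := by
  obtain ⟨k, j, b, hb, hj, rfl⟩ := exists_of_mem_Mset c hc d ℓ h
  obtain ⟨k', j', b', hb', hj', rfl⟩ := exists_of_mem_Mset c hc d' ℓ' h'
  have h1 : ιL n R (b * b') = ιL n R (G c ^ (k + k')) := by
    rw [map_mul, ιL_G_pow]
    have h2 := congrArg (· * (mono n R (k • castE n c) * mono n R (k' • castE n c))) hmul
    simp only [one_mul] at h2
    rw [mono_mul_mono, ← add_smul] at h2
    rw [← h2]
    have h3 : ιL n R b * mono n R (-(k • castE n c)) * (ιL n R b' * mono n R (-(k' • castE n c))) *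
        mono n R ((k + k') • castE n c) =
        ιL n R b * ιL n R b' * (mono n R (-(k • castE n c)) * mono n R (-(k' • castE n c)) *
          mono n R ((k + k') • castE n c)) := by ring
    rw [h3, mono_mul_mono, mono_mul_mono]
    have h4 : -(k • castE n c) + -(k' • castE n c) + (k + k') • castE n c = 0 := by
      rw [add_smul]; abel
    rw [h4, mono_zero, mul_one]
  have h5 : b * b' = MvPolynomial.monomial ((k + k') • c) 1 := by
    have := ιL_injective n R h1
    rw [this, G, MvPolynomial.monomial_pow, one_pow]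
  obtain ⟨r, β, rfl⟩ := exists_monomial_of_mul_eq_monomial b b' _ h5
  refine ⟨r, castE n β + -(k • castE n c), ?_⟩
  rw [ιL_monomial, mono, single_mul_single, mul_one]

end Groth.Agent.H2.PicPn

namespace Groth.Agent.H2.PicPn

open Groth.Agent.LD.PN

variable {n : ℕ} {R : Type u} [CommRing R]

lemma single_eq_single' {a a' : Fin (n+1) →₀ ℤ} {r r' : R} (hr : r ≠ 0)
    (h : (single a r : Lau n R) = single a' r') : a = a' ∧ r = r' := by
  have h1 := congrArg AddMonoidAlgebra.coeff h
  rw [coeff_single, coeff_single, Finsupp.single_eq_single_iff] at h1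
  rcases h1 with h1 | h1
  · exact h1
  · exact absurd h1.1 hr

lemma mem_Mset_single {c : Fin (n+1) →₀ ℕ} {d : ℤ} {α : Fin (n+1) →₀ ℤ} {r : R} (hr : r ≠ 0)
    (h : (single α r : Lau n R) ∈ Mset n R c d) :
    Finsupp.degree α = d ∧ ∀ j, c j = 0 → 0 ≤ α j := by
  apply h α
  rw [coeff_single, Finsupp.single_eq_same]
  exact hr

/-- the structure of a cocycle of degree-zero units on the standard cover of projective space. -/
theorem cocycle_structure [IsDomain R] (T : Fin (n+1) → Fin (n+1) → Lau n R)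
    (hT : ∀ i j, T i j ∈ Mset n R (Finsupp.single i 1 + Finsupp.single j 1) 0)
    (hone : ∀ i, T i i = 1)
    (hcoc : ∀ i j l, T i j * T j l = T i l) :
    ∃ (d : ℤ) (r : Fin (n+1) → Rˣ), ∀ i j,
      T i j = single (d • ((Finsupp.single i 1 : Fin (n+1) →₀ ℤ) - Finsupp.single j 1))
        ((r i : R) * ((r j)⁻¹ : Rˣ)) := by
  classical
  have hU : ∀ i j, ∃ (ρ : Rˣ) (α : Fin (n+1) →₀ ℤ), T i j = single α (ρ : R) := by
    intro i j
    have hdeg : 0 < Finsupp.degree ((Finsupp.single i 1 : Fin (n+1) →₀ ℕ) + Finsupp.single j 1) := by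
      rw [map_add, Finsupp.degree_single, Finsupp.degree_single]; norm_num
    have h' : T j i ∈ Mset n R (Finsupp.single i 1 + Finsupp.single j 1) 0 := by
      rw [add_comm]; exact hT j i
    exact exists_single_of_mul_eq_one _ hdeg 0 0 (T i j) (T j i) (hT i j) h'
      ((hcoc i j i).trans (hone i))
  choose ρ α hρα using hU
  have hne : ∀ i j, ((ρ i j : Rˣ) : R) ≠ 0 := fun i j => (ρ i j).ne_zero
  -- cocycle identities
  have f1 : ∀ i j l, α i j + α j l = α i l ∧ ((ρ i j : R) * ρ j l = ρ i l) := by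
    intro i j l
    have h := hcoc i j l
    rw [hρα i j, hρα j l, hρα i l, single_mul_single] at h
    exact single_eq_single' (mul_ne_zero (hne i j) (hne j l)) h
  have f2 : ∀ i, α i i = 0 ∧ ((ρ i i : R) = 1) := by
    intro i
    have h := hone i
    rw [hρα i i, one_def] at h
    exact single_eq_single' (hne i i) h
  have f3 : ∀ i j, Finsupp.degree (α i j) = 0 ∧ ∀ l, l ≠ i → l ≠ j → 0 ≤ α i j l := by
    intro i j
    have h := hT i j
    rw [hρα i j] at h
    obtain ⟨h1, h2⟩ := mem_Mset_single (hne i j) h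
    refine ⟨h1, fun l hli hlj => h2 l ?_⟩
    rw [Finsupp.add_apply, Finsupp.single_apply, Finsupp.single_apply, if_neg (Ne.symm hli),
      if_neg (Ne.symm hlj), add_zero]
  have f4 : ∀ i j, α j i = - α i j := by
    intro i j
    have h := (f1 i j i).1
    rw [(f2 i).1] at h
    exact (neg_eq_of_add_eq_zero_right h).symm
  have f5 : ∀ i j l, l ≠ i → l ≠ j → α i j l = 0 := by
    intro i j l hli hlj
    have h1 := (f3 i j).2 l hli hlj
    have h2 := (f3 j i).2 l hlj hli
    rw [f4 i j, Finsupp.neg_apply] at h2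
    omega
  -- normal form of `α i 0`
  have f6 : ∀ i : Fin (n+1), i ≠ 0 → α i 0 0 = - α i 0 i := by
    intro i hi
    have h := (f3 i 0).1
    rw [Finsupp.degree_eq_sum, Finset.sum_eq_add i 0 hi (fun l _ hl => f5 i 0 l hl.1 hl.2)
      (fun h => absurd (Finset.mem_univ _) h) (fun h => absurd (Finset.mem_univ _) h)] at h
    omega
  have hA : ∀ i : Fin (n+1), α i 0 =
      (α i 0 i) • ((Finsupp.single i 1 : Fin (n+1) →₀ ℤ) - Finsupp.single 0 1) := by
    intro i
    by_cases hi : i = 0
    · subst hi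
      rw [(f2 0).1, sub_self, smul_zero]
    · ext l
      rw [Finsupp.smul_apply, Finsupp.sub_apply, smul_eq_mul]
      by_cases hli : l = i
      · subst hli
        rw [Finsupp.single_eq_same, Finsupp.single_apply, if_neg (Ne.symm hi)]; ring
      · by_cases hl0 : l = 0
        · subst hl0
          rw [f6 i hi, Finsupp.single_apply, if_neg (Ne.symm hli), Finsupp.single_eq_same]; ring
        · rw [f5 i 0 l hli hl0, Finsupp.single_apply, Finsupp.single_apply,
            if_neg (Ne.symm hli), if_neg (Ne.symm hl0)]; ring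
  have hB : ∀ i j : Fin (n+1), i ≠ 0 → j ≠ 0 → i ≠ j → α i 0 i = α j 0 j := by
    intro i j hi hj hij
    have h1 : α i j = α i 0 - α j 0 := by
      have := (f1 i 0 j).1
      rw [f4 j 0] at this
      rw [← this, sub_eq_add_neg]
    have h2 := f5 i j 0 (Ne.symm hi) (Ne.symm hj)
    rw [h1, Finsupp.sub_apply, f6 i hi, f6 j hj] at h2
    omega
  let d : ℤ := if h : ∃ i : Fin (n+1), i ≠ 0 then α h.choose 0 h.choose else 0
  have hC : ∀ i : Fin (n+1), i ≠ 0 → α i 0 i = d := by
    intro i hi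
    have h : ∃ i : Fin (n+1), i ≠ 0 := ⟨i, hi⟩
    change _ = dite _ _ _
    rw [dif_pos h]
    by_cases hci : h.choose = i
    · rw [hci]
    · exact hB i h.choose hi h.choose_spec (Ne.symm hci)
  have hA' : ∀ i : Fin (n+1), α i 0 =
      d • ((Finsupp.single i 1 : Fin (n+1) →₀ ℤ) - Finsupp.single 0 1) := by
    intro i
    by_cases hi : i = 0
    · subst hi
      rw [(f2 0).1, sub_self, smul_zero]
    · rw [← hC i hi]; exact hA i
  refine ⟨d, fun i => ρ i 0, fun i j => ?_⟩
  rw [hρα i j]
  have h1 : α i j = d • ((Finsupp.single i 1 : Fin (n+1) →₀ ℤ) - Finsupp.single j 1) := by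
    have := (f1 i 0 j).1
    rw [f4 j 0, hA' i, hA' j] at this
    rw [← this, ← smul_neg, ← smul_add]
    congr 1
    abel
  have h2 : (ρ i j : R) = (ρ i 0 : R) * ((ρ j 0)⁻¹ : Rˣ) := by
    have h3 := (f1 i 0 j).2
    have h4 : (ρ 0 j : R) = ((ρ j 0)⁻¹ : Rˣ) := by
      have h5 := (f1 0 j 0).2
      rw [(f2 0).2] at h5
      have h6 : ρ 0 j * ρ j 0 = 1 := Units.ext h5
      rw [← mul_eq_one_iff_eq_inv.mp h6]
    rw [← h3, h4]
  rw [h1, h2]

end Groth.Agent.H2.PicPn
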