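import Mathlib
import Groth.Agent.Lib.Helper2.PicPnB
import Groth.Agent.Lib.Helper2.PicPnC
import Groth.Agent.Lib.Helper2.PicPnD
import Groth.Agent.Lib.Lead.TW.UnitBasis
import Groth.Agent.Lib.Helper5.Glue.H

/-! # The Picard group of projective space over a factorial ring: every invertible module is `O(d)`. -/

set_option autoImplicit false
universe u
open CategoryTheory AlgebraicGeometry TopologicalSpace Opposite AddMonoidAlgebra

namespace Groth.Agent.H2.PicPn

open Groth.Agent.LD Groth.Agent.LD.PN Groth.Agent.LD.TW Twist Groth.Agent.LD.QC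
open Groth.Agent.H5.Glue

variable {n : ℕ} {R : Type u} [CommRing R]


section
variable {c c' c'' c₂ : Fin (n+1) →₀ ℕ} {v : Fin (n+1)} (hc : c = c' + Finsupp.single v 1)
  (hc₂ : c₂ = c + c'')
  {V V₂ : (Proj (CohB1.polyGrading n R)).Opens}
  (hV : V = ProjectiveSpectrum.basicOpen (CohB1.polyGrading n R) (G c))
  (hV₂ : V₂ = ProjectiveSpectrum.basicOpen (CohB1.polyGrading n R) (G c₂)) (hle : V₂ ≤ V)

include hc hc₂ in
theorem Θ_res (a : Γ(Proj (CohB1.polyGrading n R), V)) :
    Θ c₂ hV₂.le ((Proj (CohB1.polyGrading n R)).presheaf.map (homOfLE hle).op a) =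
      Θ c hV.le a := by
  have h1 : ofO (op V₂) ((Proj (CohB1.polyGrading n R)).presheaf.map (homOfLE hle).op a) =
      resSec hle (ofO (op V) a) := by
    apply sectN_ext
    intro x
    rfl
  rw [Θ, h1]
  exact theta_res hc hc₂ 0 hV hV₂ hle (ofO (op V) a)

include hc hc₂ in
theorem theta_res' (d : ℤ) (s : Γ(twist (CohB1.polyGrading n R) d, V)) :
    theta n R c₂ d hV₂.le (show sectN (𝒜 := CohB1.polyGrading n R) d (op V₂) from
      (twist (CohB1.polyGrading n R) d).presheaf.map (homOfLE hle).op s) =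
      theta n R c d hV.le (show sectN (𝒜 := CohB1.polyGrading n R) d (op V) from s) :=
  theta_res hc hc₂ d hV hV₂ hle (show sectN (𝒜 := CohB1.polyGrading n R) d (op V) from s)

include hc in
theorem exists_Θ_eq (ℓ : Lau n R) (hℓ : ℓ ∈ Mset n R c 0) :
    ∃ a : Γ(Proj (CohB1.polyGrading n R), V), Θ c hV.le a = ℓ := by
  obtain ⟨s, hs⟩ := exists_theta_eq hc 0 hV ℓ hℓ
  obtain ⟨a, ha⟩ := ofO_surjective (op V) s
  exact ⟨a, by rw [Θ, ha, hs]⟩

end



section
variable {c c' : Fin (n+1) →₀ ℕ} {v : Fin (n+1)} (hc : c = c' + Finsupp.single v 1)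
  {V : (Proj (CohB1.polyGrading n R)).Opens}
  (hV : V = ProjectiveSpectrum.basicOpen (CohB1.polyGrading n R) (G c))

include hc in
theorem isUnitSec_of_theta_mul (d : ℤ) (u : sectN (𝒜 := CohB1.polyGrading n R) d (op V))
    (w : sectN (𝒜 := CohB1.polyGrading n R) (-d) (op V))
    (h : theta n R c d hV.le u * theta n R c (-d) hV.le w = 1) : IsUnitSec u := by
  obtain ⟨ℓ, h1, h1'⟩ := exists_isRep hc d hV u
  obtain ⟨ℓ₂, h₂, h₂'⟩ := exists_isRep hc (-d) hV w
  rw [theta_eq hc d hV u h1 h1', theta_eq hc (-d) hV w h₂ h₂', ← map_mul] at h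
  have h3 : ℓ * ℓ₂ = 1 := lam_injective c (h.trans (map_one _).symm)
  refine ⟨w, fun x => ?_⟩
  rw [h1' x, h₂' x, ← map_mul, h3, map_one]

end

lemma DD_eq (i : Fin (n+1)) : DD n R i =
    ProjectiveSpectrum.basicOpen (CohB1.polyGrading n R) (G (Finsupp.single i 1)) := rfl

lemma mono_mem_Mset (i : Fin (n+1)) (d : ℤ) :
    mono n R (d • (Finsupp.single i 1 : Fin (n+1) →₀ ℤ)) ∈ Mset n R (Finsupp.single i 1) d := by
  classical
  intro e he
  rw [mono, coeff_single, Finsupp.single_apply] at he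
  split_ifs at he with h
  · subst h
    refine ⟨by rw [map_zsmul, Finsupp.degree_single]; simp, fun j hj => ?_⟩
    by_cases hij : i = j
    · subst hij
      rw [Finsupp.single_eq_same] at hj
      exact absurd hj one_ne_zero
    · rw [Finsupp.smul_apply, Finsupp.single_apply, if_neg hij, smul_zero]
  · exact absurd rfl he

/-- a pointwise invertible section of `O(d)` on the `i`th chart corresponding to `X_i^d`. -/
theorem exists_unit_basis (i : Fin (n+1)) (d : ℤ) :
    ∃ u : sectN (𝒜 := CohB1.polyGrading n R) d (op (DD n R i)), IsUnitSec u ∧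
      theta n R (Finsupp.single i 1) d (DD_eq i).le u =
        mono n R (d • (Finsupp.single i 1 : Fin (n+1) →₀ ℤ)) := by
  have hc : (Finsupp.single i 1 : Fin (n+1) →₀ ℕ) = 0 + Finsupp.single i 1 := (zero_add _).symm
  obtain ⟨u, hu⟩ := exists_theta_eq hc d (DD_eq (R := R) i) _ (mono_mem_Mset i d)
  obtain ⟨w, hw⟩ := exists_theta_eq hc (-d) (DD_eq (R := R) i) _ (mono_mem_Mset i (-d))
  refine ⟨u, isUnitSec_of_theta_mul hc (DD_eq i) d u w ?_, hu⟩
  rw [hu, hw, mono_mul_mono, neg_smul, add_neg_cancel, mono_zero]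



variable (n R) in
/-- the standard cover, indexed in the right universe. -/
noncomputable abbrev UU (i : ULift.{u} (Fin (n+1))) : (Proj (CohB1.polyGrading n R)).Opens :=
  DD n R i.down

lemma iSup_UU : iSup (UU n R) = ⊤ := by
  rw [eq_top_iff, ← Groth.Agent.H2.PnChart.iSup_basicOpen n R]
  exact iSup_le fun i => le_iSup (UU n R) ⟨i⟩

lemma DD_inf (i j : Fin (n+1)) : DD n R i ⊓ DD n R j =
    ProjectiveSpectrum.basicOpen (CohB1.polyGrading n R)
      (G (Finsupp.single i 1 + Finsupp.single j 1)) := by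
  rw [G_add]
  exact (ProjectiveSpectrum.basicOpen_mul (CohB1.polyGrading n R) _ _).symm

lemma DD_inf3 (i j l : Fin (n+1)) : DD n R i ⊓ DD n R j ⊓ DD n R l =
    ProjectiveSpectrum.basicOpen (CohB1.polyGrading n R)
      (G (Finsupp.single i 1 + Finsupp.single j 1 + Finsupp.single l 1)) := by
  rw [G_add, DD_inf]
  exact (ProjectiveSpectrum.basicOpen_mul (CohB1.polyGrading n R) _ _).symm

lemma single_zero_mem_Mset (c : Fin (n+1) →₀ ℕ) (r : R) :
    (single 0 r : Lau n R) ∈ Mset n R c 0 := by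
  classical
  intro e he
  rw [coeff_single, Finsupp.single_apply] at he
  split_ifs at he with h
  · subst h
    exact ⟨map_zero _, fun j _ => le_rfl⟩
  · exact absurd rfl he



lemma hc1 (i : Fin (n+1)) : (Finsupp.single i 1 : Fin (n+1) →₀ ℕ) = 0 + Finsupp.single i 1 :=
  (zero_add _).symm

/-- the transition functions of the standard bases of `O(d)`. -/
theorem Θ_transition_twist (d : ℤ)
    (u : ∀ i : Fin (n+1), sectN (𝒜 := CohB1.polyGrading n R) d (op (DD n R i)))
    (hu : ∀ i, theta n R (Finsupp.single i 1) d (DD_eq i).le (u i) =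
        mono n R (d • (Finsupp.single i 1 : Fin (n+1) →₀ ℤ)))
    (hub : ∀ i : ULift.{u} (Fin (n+1)), IsBasisOver (twist (CohB1.polyGrading n R) d) (UU n R i)
      (show Γ(twist (CohB1.polyGrading n R) d, UU n R i) from u i.down))
    (i j : Fin (n+1)) :
    Θ (Finsupp.single i 1 + Finsupp.single j 1) (DD_inf i j).le
      (transition hub ⟨i⟩ ⟨j⟩) =
      mono n R (d • ((Finsupp.single i 1 : Fin (n+1) →₀ ℤ) - Finsupp.single j 1)) := by
  have h := transition_spec hub ⟨i⟩ ⟨j⟩
  have h1 := congrArg (fun s => theta n R (Finsupp.single i 1 + Finsupp.single j 1) d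
    (DD_inf i j).le (show sectN (𝒜 := CohB1.polyGrading n R) d (op (DD n R i ⊓ DD n R j)) from s)) h
  simp only at h1
  have e1 := theta_res' (hc1 i) (c'' := Finsupp.single j 1) rfl (DD_eq i) (DD_inf i j)
    inf_le_left d (show Γ(twist (CohB1.polyGrading n R) d, DD n R i) from u i)
  have e2 := theta_res' (hc1 j) (c'' := Finsupp.single i 1) (add_comm _ _) (DD_eq j) (DD_inf i j)
    inf_le_right d (show Γ(twist (CohB1.polyGrading n R) d, DD n R j) from u j)
  have e3 := theta_smul_sec (c' := Finsupp.single i 1) rfl (DD_inf i j) d (transition hub ⟨i⟩ ⟨j⟩)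
    (mres (twist (CohB1.polyGrading n R) d) (inf_le_right : DD n R i ⊓ DD n R j ≤ DD n R j)
      (show Γ(twist (CohB1.polyGrading n R) d, DD n R j) from u j))
  have h2 : mono n R (d • (Finsupp.single i 1 : Fin (n+1) →₀ ℤ)) =
      Θ (Finsupp.single i 1 + Finsupp.single j 1) (DD_inf i j).le (transition hub ⟨i⟩ ⟨j⟩) *
        mono n R (d • (Finsupp.single j 1 : Fin (n+1) →₀ ℤ)) := by
    rw [← hu i, ← hu j]
    exact (e1.symm.trans h1).trans (e3.trans (congrArg _ e2))
  have h3 := congrArg (· * mono n R (-(d • (Finsupp.single j 1 : Fin (n+1) →₀ ℤ)))) h2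
  simp only at h3
  rw [mul_assoc, mono_mul_mono, mono_mul_mono, add_neg_cancel, mono_zero, mul_one] at h3
  rw [← h3, smul_sub, sub_eq_add_neg]



/-- **every invertible module on projective space over a factorial ring is a twisting sheaf.** -/
theorem exists_iso_twist [IsDomain R] [UniqueFactorizationMonoid R]
    (L : (Proj (CohB1.polyGrading n R)).Modules) (hL : PicF.IsInvertible L) :
    ∃ d : ℤ, Nonempty (L ≅ twist (CohB1.polyGrading n R) d) := by
  choose e he using fun i : ULift.{u} (Fin (n+1)) => exists_isBasisOver_chart n R L hL i.down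
  have he' : ∀ i : ULift.{u} (Fin (n+1)), IsBasisOver L (UU n R i) (e i) := he
  have hcocη := isCocycle_transition he'
  let T : Fin (n+1) → Fin (n+1) → Lau n R := fun i j =>
    Θ (Finsupp.single i 1 + Finsupp.single j 1) (DD_inf i j).le (transition he' ⟨i⟩ ⟨j⟩)
  have hT : ∀ i j, T i j ∈ Mset n R (Finsupp.single i 1 + Finsupp.single j 1) 0 := fun i j =>
    Θ_mem (c' := Finsupp.single i 1) rfl (DD_inf i j) _
  have hone : ∀ i, T i i = 1 := by
    intro i
    have h1 := hcocη.self_eq_one ⟨i⟩ (isUnit_transition he' ⟨i⟩ ⟨i⟩)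
    change Θ _ _ (transition he' ⟨i⟩ ⟨i⟩) = 1
    rw [h1]
    exact Θ_one (c' := Finsupp.single i 1) rfl (DD_inf i i)
  have hcoc : ∀ i j l, T i j * T j l = T i l := by
    intro i j l
    have h := hcocη ⟨i⟩ ⟨j⟩ ⟨l⟩
    have h1 := congrArg (Θ (Finsupp.single i 1 + Finsupp.single j 1 + Finsupp.single l 1)
      (DD_inf3 i j l).le) h
    rw [Θ_mul (c' := Finsupp.single i 1 + Finsupp.single j 1) rfl (DD_inf3 i j l)] at h1
    have e1 := Θ_res (c' := Finsupp.single i 1) (c'' := Finsupp.single j 1) rfl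
      (add_right_comm _ _ _) (DD_inf i l) (DD_inf3 i j l)
      (inf_le_inf_right (DD n R l) inf_le_left) (transition he' ⟨i⟩ ⟨l⟩)
    have e2 := Θ_res (c' := Finsupp.single i 1) (c'' := Finsupp.single l 1) rfl
      rfl (DD_inf i j) (DD_inf3 i j l) inf_le_left (transition he' ⟨i⟩ ⟨j⟩)
    have e3 := Θ_res (c' := Finsupp.single j 1) (c'' := Finsupp.single i 1) rfl
      (by rw [add_comm (Finsupp.single i 1) (Finsupp.single j 1), add_right_comm])
      (DD_inf j l) (DD_inf3 i j l)
      (inf_le_inf_right (DD n R l) inf_le_right) (transition he' ⟨j⟩ ⟨l⟩)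
    exact ((congrArg₂ (· * ·) e2 e3).symm.trans h1.symm).trans e1
  obtain ⟨d, r, hdr⟩ := cocycle_structure T hT hone hcoc
  refine ⟨d, ?_⟩
  choose u hu hu' using fun i => exists_unit_basis (R := R) i d
  have hub : ∀ i : ULift.{u} (Fin (n+1)), IsBasisOver (twist (CohB1.polyGrading n R) d) (UU n R i)
      (show Γ(twist (CohB1.polyGrading n R) d, UU n R i) from u i.down) :=
    fun i => (hu i.down).isBasisOver
  have hη' := Θ_transition_twist d u hu' hub
  choose a ha using fun i : Fin (n+1) => exists_Θ_eq (hc1 i) (DD_eq (R := R) i)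
    (single 0 (r i : R)) (single_zero_mem_Mset _ _)
  choose b hb using fun i : Fin (n+1) => exists_Θ_eq (hc1 i) (DD_eq (R := R) i)
    (single 0 (((r i)⁻¹ : Rˣ) : R)) (single_zero_mem_Mset _ _)
  have hab : ∀ i, a i * b i = 1 := by
    intro i
    apply Θ_injective (hc1 i) (DD_eq (R := R) i)
    rw [Θ_mul (hc1 i) (DD_eq (R := R) i), ha, hb, Θ_one (hc1 i) (DD_eq (R := R) i),
      single_mul_single, add_zero, Units.mul_inv]
    rfl
  refine (nonempty_iso_iff_cohomologous iSup_UU L (twist (CohB1.polyGrading n R) d) e _ he' hub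
    (transition he') (transition hub) (transition_spec he') (transition_spec hub)).mpr
    ⟨fun i => ⟨a i.down, b i.down, hab i.down, (mul_comm _ _).trans (hab i.down)⟩, fun i j => ?_⟩
  obtain ⟨i⟩ := i
  obtain ⟨j⟩ := j
  apply Θ_injective (c' := Finsupp.single i 1) rfl (DD_inf i j)
  rw [Θ_mul (c' := Finsupp.single i 1) rfl (DD_inf i j),
    Θ_mul (c' := Finsupp.single i 1) rfl (DD_inf i j)]
  have e1 := Θ_res (hc1 i) (c'' := Finsupp.single j 1) rfl (DD_eq i) (DD_inf i j)
    inf_le_left (a i)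
  have e2 := Θ_res (hc1 j) (c'' := Finsupp.single i 1) (add_comm _ _) (DD_eq j) (DD_inf i j)
    inf_le_right (a j)
  have e3 : Θ (Finsupp.single i 1 + Finsupp.single j 1) (DD_inf i j).le
      (transition he' ⟨i⟩ ⟨j⟩) = T i j := rfl
  refine (congrArg₂ (· * ·) (hη' i j) e1).trans (Eq.trans ?_ (congrArg₂ (· * ·) e2 e3).symm)
  rw [ha, ha, hdr, single_mul_single, single_mul_single, add_zero, zero_add, one_mul,
    ← mul_assoc, mul_comm (r j : R), mul_assoc, Units.mul_inv, mul_one]

end Groth.Agent.H2.PicPn
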