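import Groth.Agent.Lib.Helper2.ConstMorA
import Groth.Agent.Lib.Helper2.ConstMorB
import Groth.Agent.Lib.Helper2.ConstMorC
import Groth.Agent.Lib.Helper2.PicPnE
import Groth.Agent.Lib.Helper2.ProjUPD
import Groth.Agent.Lib.Helper2.ProjUPE
import Groth.Agent.Lib.Helper2.JTwB
import Groth.Agent.Lib.Lead.QC.PullInv
import Groth.Agent.Lib.Lead.PN.H0
import Groth.Agent.Lib.Lead.PN.GlobalFn
import Groth.Agent.Lib.Lead.CohLES.H0
set_option autoImplicit false
universe u
open CategoryTheory CategoryTheory.Limits AlgebraicGeometry TopologicalSpace Opposite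

/-! Morphisms `P^n_k ⟶ P^m_k` with `m < n` land in a standard affine chart. -/

namespace Groth.Agent.H2.ConstMor
open Groth.Agent.LD Groth.Agent.LD.QC Groth.Agent.LD.PN Groth.Agent.LD.TW Twist
open Groth.Agent.H2.PUP Groth.Agent.H2.ProjDim

theorem nonempty_projSpace (k : Type u) [Field k] (n : ℕ) :
    Nonempty (Proj (CohB1.polyGrading n k)) := by
  have hbij := Groth.Agent.LD.PN.toGlobal_bijective n k
  by_contra hne
  rw [not_nonempty_iff] at hne
  have htop : (⊤ : (Proj (CohB1.polyGrading n k)).Opens) = ⊥ := by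
    ext x
    exact (hne.false x).elim
  have hsub : Subsingleton Γ(Proj (CohB1.polyGrading n k), ⊤) := by
    rw [htop]
    infer_instance
  have h01 : (0 : k) = 1 := hbij.1 (hsub.elim _ _)
  exact zero_ne_one h01

theorem exists_top_le_preimage (k : Type u) [Field k] (n m : ℕ) (hmn : m < n)
    (f : Proj (CohB1.polyGrading n k) ⟶ Proj (CohB1.polyGrading m k)) :
    ∃ i : Fin (m + 1), ⊤ ≤ f ⁻¹ᵁ Proj.basicOpen (CohB1.polyGrading m k) (MvPolynomial.X i) := by
  classical
  have hι := ιPn_mem m k
  have hsym := isSymmetricAlgebra_ιPn m k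
  obtain ⟨L, hLdef⟩ : ∃ L, L = (Scheme.Modules.pullback f).obj (twist (CohB1.polyGrading m k) 1) :=
    ⟨_, rfl⟩
  have hL : PicF.IsInvertible L := by
    rw [hLdef]
    exact QC.isInvertible_pullback (g := f) (PN.isInvertible_twist m k 1)
  obtain ⟨d, ⟨τ⟩⟩ := PicPn.exists_iso_twist (n := n) (R := k) L hL
  subst hLdef
  let e : Fin (m + 1) → (Fin (m + 1) → k) := fun i => Pi.single i 1
  let t : Fin (m + 1) → Γ((Scheme.Modules.pullback f).obj (twist (CohB1.polyGrading m k) 1), ⊤) :=
    fun i => ProjUP.pullSec f (twist (CohB1.polyGrading m k) 1)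
      (sec1 (CohB1.polyGrading m k) (hι (e i)))
  let U : Fin (m + 1) → (Proj (CohB1.polyGrading n k)).Opens :=
    fun i => f ⁻¹ᵁ Proj.basicOpen (CohB1.polyGrading m k) (ιPn m k (e i))
  have hbas : ∀ i, IsBasisOver ((Scheme.Modules.pullback f).obj (twist (CohB1.polyGrading m k) 1))
      (U i) (((Scheme.Modules.pullback f).obj (twist (CohB1.polyGrading m k) 1)).presheaf.map
        (homOfLE (le_top : U i ≤ ⊤)).op (t i)) := fun i =>
    isBasisOver_res_pullSec_sec1 (CohB1.polyGrading m k) (ιPn m k) hι hsym f (hι (e i)) le_rfl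
  have hcov : ⨆ i, U i = ⊤ := by
    have h1 := iSup_basicOpen_eq_top' (CohB1.polyGrading m k) (ιPn m k) hι hsym e (span_single m k)
    change ⨆ i, f ⁻¹ᵁ Proj.basicOpen (CohB1.polyGrading m k) (ιPn m k (e i)) = ⊤
    rw [← Scheme.Hom.preimage_iSup, h1]
    rfl
  have hcov' : ∀ x : Proj (CohB1.polyGrading n k), ∃ i, x ∈ U i := by
    intro x
    have hx : x ∈ (⊤ : (Proj (CohB1.polyGrading n k)).Opens) := trivial
    rw [← hcov] at hx
    exact Opens.mem_iSup.mp hx
  let σ : Fin (m + 1) → Γ(twist (CohB1.polyGrading n k) d, ⊤) := fun i => τ.hom.app ⊤ (t i)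
  have hbas' : ∀ i, IsBasisOver (twist (CohB1.polyGrading n k) d) (U i)
      ((twist (CohB1.polyGrading n k) d).presheaf.map (homOfLE (le_top : U i ≤ ⊤)).op (σ i)) := by
    intro i
    have h1 := (hbas i).map_of_bijective τ.hom (fun W _ => app_bijective_of_isIso τ.hom W)
    rw [app_res] at h1
    exact h1
  obtain ⟨x₀⟩ := nonempty_projSpace k n
  rcases lt_or_ge d 0 with hd | hd
  · exfalso
    have hsubH := subsingleton_HH_twist_all n k d 0 (fun h => by omega) (fun h => by omega)
    have hsub : Subsingleton Γ(twist (CohB1.polyGrading n k) d, ⊤) :=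
      (CL.HH0Equiv (twist (CohB1.polyGrading n k) d)).symm.toEquiv.subsingleton
    obtain ⟨i, hi⟩ := hcov' x₀
    haveI : Nonempty (U i) := ⟨⟨x₀, hi⟩⟩
    haveI := Scheme.component_nontrivial (Proj (CohB1.polyGrading n k)) (U i)
    refine JTw.not_isBasisOver_zero (hbas' i) ?_
    rw [hsub.elim (σ i) 0, map_zero]
  · obtain ⟨e', rfl⟩ := Int.eq_ofNat_of_zero_le hd
    choose F hF using fun i => PN.globalOf_surjective (n := n) (R := k) e' (σ i)
    have hUF : ∀ i, U i ≤ Proj.basicOpen (CohB1.polyGrading n k)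
        ((F i : CohB1.polyGrading n k e') : MvPolynomial (Fin (n + 1)) k) := by
      intro i
      refine le_basicOpen_of_isBasisOver (X_range_mem n k) (PN.irrelevant_eq_span n k) e' (F i)
        (U i) ?_
      have h1 := hbas' i
      rw [← hF i] at h1
      exact h1
    rcases Nat.eq_zero_or_pos e' with rfl | hpos
    · obtain ⟨i, hi⟩ := hcov' x₀
      refine ⟨i, ?_⟩
      have hFx : ((F i : CohB1.polyGrading n k 0) : MvPolynomial (Fin (n + 1)) k) ∉
          (show ProjectiveSpectrum (CohB1.polyGrading n k) from x₀).asHomogeneousIdeal :=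
        hUF i hi
      have hF0 : ((F i : CohB1.polyGrading n k 0) : MvPolynomial (Fin (n + 1)) k) ≠ 0 := by
        intro h0
        apply hFx
        rw [h0]
        exact Submodule.zero_mem _
      have hFu := mvPolynomial_h0 k (Fin (n + 1)) _ (F i).2 hF0
      have htopF : (⊤ : Opens (ProjectiveSpectrum.top (CohB1.polyGrading n k))) ≤
          ProjectiveSpectrum.basicOpen (CohB1.polyGrading n k)
            ((F i : CohB1.polyGrading n k 0) : MvPolynomial (Fin (n + 1)) k) := by
        intro y _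
        intro hy
        exact y.isPrime.ne_top (Ideal.eq_top_of_isUnit_mem _ hy hFu)
      have h2 := (isUnitSec_globalOf (F i) htopF).isBasisOver
      have h2' : IsBasisOver (twist (CohB1.polyGrading n k) ((0 : ℕ) : ℤ)) ⊤ (σ i) := by
        rw [← hF i]
        exact h2
      have h4 := h2'.map_of_bijective τ.inv (fun W _ => app_bijective_of_isIso τ.inv W)
      have h5 : τ.inv.app ⊤ (σ i) = t i := by
        change τ.inv.app ⊤ (τ.hom.app ⊤ (t i)) = t i
        rw [← ConcreteCategory.comp_apply, ← Scheme.Modules.Hom.comp_app, Iso.hom_inv_id]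
        rfl
      rw [h5] at h4
      have h6 := le_preimage_basicOpen_of_isBasisOver (CohB1.polyGrading m k) (ιPn m k) hι hsym f
        (hι (e i)) (U := ⊤) (by rw [res_self]; exact h4)
      rw [ιPn_single] at h6
      exact h6
    · exfalso
      obtain ⟨x, hx⟩ := exists_common_zero k n
        (Finset.univ.image (fun i : Fin (m + 1) =>
          ((F i : CohB1.polyGrading n k e') : MvPolynomial (Fin (n + 1)) k)))
        (Finset.card_image_le.trans (by simp; omega))
        (fun G hG => by
          obtain ⟨i, -, rfl⟩ := Finset.mem_image.mp hG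
          exact ⟨e', hpos, (F i).2⟩)
      obtain ⟨i, hi⟩ := hcov' (show Proj (CohB1.polyGrading n k) from x)
      exact (hUF i hi) (hx _ (Finset.mem_image_of_mem _ (Finset.mem_univ i)))

end Groth.Agent.H2.ConstMor
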