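import Mathlib

/-! # The copairing of two closed immersions with disjoint images is a closed immersion. -/

universe u
open CategoryTheory CategoryTheory.Limits AlgebraicGeometry TopologicalSpace Topology

namespace Groth.Agent.H2.CoprodCI

variable {Y₁ Y₂ P : Scheme.{u}} (f₁ : Y₁ ⟶ P) (f₂ : Y₂ ⟶ P)

lemma desc_inl_apply (x : Y₁) :
    (coprod.desc f₁ f₂ : Y₁ ⨿ Y₂ ⟶ P) ((coprod.inl : Y₁ ⟶ Y₁ ⨿ Y₂) x) = f₁ x := by
  rw [← Scheme.Hom.comp_apply, coprod.inl_desc]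

lemma desc_inr_apply (y : Y₂) :
    (coprod.desc f₁ f₂ : Y₁ ⨿ Y₂ ⟶ P) ((coprod.inr : Y₂ ⟶ Y₁ ⨿ Y₂) y) = f₂ y := by
  rw [← Scheme.Hom.comp_apply, coprod.inr_desc]

lemma cases_point (z : (Y₁ ⨿ Y₂ : Scheme.{u})) :
    (∃ x : Y₁, (coprod.inl : Y₁ ⟶ Y₁ ⨿ Y₂) x = z) ∨
      ∃ y : Y₂, (coprod.inr : Y₂ ⟶ Y₁ ⨿ Y₂) y = z := by
  obtain ⟨x | y, rfl⟩ := (coprodMk Y₁ Y₂).surjective z
  · exact Or.inl ⟨x, (coprodMk_inl Y₁ Y₂ x).symm⟩
  · exact Or.inr ⟨y, (coprodMk_inr Y₁ Y₂ y).symm⟩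

theorem isClosedImmersion_desc [IsClosedImmersion f₁] [IsClosedImmersion f₂]
    (hd : Disjoint (Set.range f₁) (Set.range f₂)) :
    IsClosedImmersion (coprod.desc f₁ f₂ : Y₁ ⨿ Y₂ ⟶ P) := by
  have hne : ∀ (x : Y₁) (y : Y₂), f₁ x ≠ f₂ y := fun x y =>
    Set.disjoint_iff_forall_ne.mp hd ⟨x, rfl⟩ ⟨y, rfl⟩
  have h1 := f₁.isClosedEmbedding
  have h2 := f₂.isClosedEmbedding
  rw [isClosedImmersion_iff]
  refine ⟨⟨fun z => ?_⟩, ?_⟩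
  · -- surjectivity on stalks
    rcases cases_point z with ⟨x, rfl⟩ | ⟨y, rfl⟩
    · have hcomp := Scheme.Hom.stalkMap_comp (coprod.inl : Y₁ ⟶ Y₁ ⨿ Y₂) (coprod.desc f₁ f₂) x
      have hS : SurjectiveOnStalks ((coprod.inl : Y₁ ⟶ Y₁ ⨿ Y₂) ≫ coprod.desc f₁ f₂) := by
        rw [coprod.inl_desc]; infer_instance
      have hs := hS.stalkMap_surjective x
      have hb := ConcreteCategory.bijective_of_isIso ((coprod.inl : Y₁ ⟶ Y₁ ⨿ Y₂).stalkMap x)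
      intro b
      obtain ⟨a, ha⟩ := hs (((coprod.inl : Y₁ ⟶ Y₁ ⨿ Y₂).stalkMap x).hom b)
      refine ⟨a, hb.1 ?_⟩
      refine Eq.trans ?_ ha
      exact (ConcreteCategory.congr_hom hcomp a).symm
    · have hcomp := Scheme.Hom.stalkMap_comp (coprod.inr : Y₂ ⟶ Y₁ ⨿ Y₂) (coprod.desc f₁ f₂) y
      have hS : SurjectiveOnStalks ((coprod.inr : Y₂ ⟶ Y₁ ⨿ Y₂) ≫ coprod.desc f₁ f₂) := by
        rw [coprod.inr_desc]; infer_instance
      have hs := hS.stalkMap_surjective y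
      have hb := ConcreteCategory.bijective_of_isIso ((coprod.inr : Y₂ ⟶ Y₁ ⨿ Y₂).stalkMap y)
      intro b
      obtain ⟨a, ha⟩ := hs (((coprod.inr : Y₂ ⟶ Y₁ ⨿ Y₂).stalkMap y).hom b)
      refine ⟨a, hb.1 ?_⟩
      refine Eq.trans ?_ ha
      exact (ConcreteCategory.congr_hom hcomp a).symm
  · -- closed embedding
    refine IsClosedEmbedding.of_continuous_injective_isClosedMap
      (coprod.desc f₁ f₂ : Y₁ ⨿ Y₂ ⟶ P).continuous ?_ ?_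
    · intro z z' hzz'
      rcases cases_point z with ⟨x, rfl⟩ | ⟨y, rfl⟩ <;>
        rcases cases_point z' with ⟨x', rfl⟩ | ⟨y', rfl⟩
      · rw [desc_inl_apply, desc_inl_apply] at hzz'
        rw [h1.injective hzz']
      · rw [desc_inl_apply, desc_inr_apply] at hzz'
        exact absurd hzz' (hne x y')
      · rw [desc_inr_apply, desc_inl_apply] at hzz'
        exact absurd hzz'.symm (hne x' y)
      · rw [desc_inr_apply, desc_inr_apply] at hzz'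
        rw [h2.injective hzz']
    · intro C hC
      have hC1 : IsClosed ((coprod.inl : Y₁ ⟶ Y₁ ⨿ Y₂) ⁻¹' C) :=
        hC.preimage (coprod.inl : Y₁ ⟶ Y₁ ⨿ Y₂).continuous
      have hC2 : IsClosed ((coprod.inr : Y₂ ⟶ Y₁ ⨿ Y₂) ⁻¹' C) :=
        hC.preimage (coprod.inr : Y₂ ⟶ Y₁ ⨿ Y₂).continuous
      have himg : (coprod.desc f₁ f₂ : Y₁ ⨿ Y₂ ⟶ P) '' C =
          f₁ '' ((coprod.inl : Y₁ ⟶ Y₁ ⨿ Y₂) ⁻¹' C) ∪
            f₂ '' ((coprod.inr : Y₂ ⟶ Y₁ ⨿ Y₂) ⁻¹' C) := by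
        ext p
        constructor
        · rintro ⟨z, hz, rfl⟩
          rcases cases_point z with ⟨x, rfl⟩ | ⟨y, rfl⟩
          · exact Or.inl ⟨x, hz, (desc_inl_apply f₁ f₂ x).symm⟩
          · exact Or.inr ⟨y, hz, (desc_inr_apply f₁ f₂ y).symm⟩
        · rintro (⟨x, hx, rfl⟩ | ⟨y, hy, rfl⟩)
          · exact ⟨_, hx, desc_inl_apply f₁ f₂ x⟩
          · exact ⟨_, hy, desc_inr_apply f₁ f₂ y⟩
      rw [himg]
      exact (h1.isClosedMap _ hC1).union (h2.isClosedMap _ hC2)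

end Groth.Agent.H2.CoprodCI
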