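import Mathlib
import Groth.Prelude.Def_ega3

/-! # Corepresentability of left exact `T`-functors (EGA III 7.4.?):
`M ↦ H(X₁ ⊗ M → X₂ ⊗ M → X₃ ⊗ M) ≅ Hom(Q, M)` when `coker (X₁ → X₂)` and `X₃` are finite
projective. -/

set_option autoImplicit false
set_option linter.style.haveILetI false
universe u

open CategoryTheory CategoryTheory.Limits TensorProduct Opposite MonoidalCategory

namespace Groth.Agent.H2.Corep

section rhd

variable {A : Type u} [Ring A]

/-- transport of a kernel fork along an equality of morphisms. -/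
noncomputable def kernelForkCongr {X Y K : ModuleCat.{u} A} {f f' : X ⟶ Y} (h : f = f')
    (ι : K ⟶ X) (w : ι ≫ f = 0) (hl : IsLimit (KernelFork.ofι ι w)) :
    IsLimit (KernelFork.ofι ι (show ι ≫ f' = 0 by rw [← h]; exact w)) := by
  subst h
  exact hl

variable (S : ShortComplex (ModuleCat.{u} A)) {Q H : ModuleCat.{u} A}
  (p : S.X₂ ⟶ Q) (g' : Q ⟶ S.X₃) (ι : H ⟶ Q) (hpg : p ≫ g' = S.g)
  (hp1 : Function.Exact S.f.hom p.hom) (hp2 : Function.Surjective p.hom)
  (hι1 : Function.Exact ι.hom g'.hom) (hι2 : Function.Injective ι.hom)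

include hp1 in
lemma wp_of_exact : S.f ≫ p = 0 := by
  ext x
  exact hp1.apply_apply_eq_zero x

/-- the cokernel cofork from exactness. -/
noncomputable def hpOfExact : IsColimit (CokernelCofork.ofπ p (wp_of_exact S p hp1)) :=
  haveI : Epi p := (ModuleCat.epi_iff_surjective _).2 hp2
  ShortComplex.Exact.gIsCokernel (S := ShortComplex.mk S.f p (wp_of_exact S p hp1))
    (ModuleCat.shortComplex_exact _ hp1)

include hpg in
lemma desc_eq : (hpOfExact S p hp1 hp2).desc (CokernelCofork.ofπ S.g S.zero) = g' := by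
  haveI : Epi p := (ModuleCat.epi_iff_surjective _).2 hp2
  apply (cancel_epi p).1
  rw [hpg]
  exact (hpOfExact S p hp1 hp2).fac (CokernelCofork.ofπ S.g S.zero) WalkingParallelPair.one

include hι1 in
lemma wι_of_exact : ι ≫ g' = 0 := by
  ext x
  exact hι1.apply_apply_eq_zero x

/-- right homology data from exactness facts. -/
noncomputable def rhdOfExact : S.RightHomologyData where
  Q := Q
  H := H
  p := p
  ι := ι
  wp := wp_of_exact S p hp1
  hp := hpOfExact S p hp1 hp2
  wι := by rw [desc_eq S p g' hpg hp1 hp2]; exact wι_of_exact S g' ι hι1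
  hι :=
    haveI : Mono ι := (ModuleCat.mono_iff_injective _).2 hι2
    kernelForkCongr (desc_eq S p g' hpg hp1 hp2).symm ι (wι_of_exact S g' ι hι1)
      (ShortComplex.Exact.fIsKernel (S := ShortComplex.mk ι g' (wι_of_exact S g' ι hι1))
        (ModuleCat.shortComplex_exact _ hι1))

lemma rhdOfExact_g' : (rhdOfExact S p g' ι hpg hp1 hp2 hι1 hι2).g' = g' :=
  desc_eq S p g' hpg hp1 hp2

end rhd

section linear

variable (A : Type u) [CommRing A] (W V N N' : Type u) [AddCommGroup W] [Module A W]
  [AddCommGroup V] [Module A V] [AddCommGroup N] [Module A N] [AddCommGroup N'] [Module A N']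

/-- `W ⊗ N → Hom(W^∨, N)`, `w ⊗ n ↦ (φ ↦ φ w • n)`. -/
noncomputable def ev : W ⊗[A] N →ₗ[A] (Module.Dual A W →ₗ[A] N) :=
  dualTensorHom A (Module.Dual A W) N ∘ₗ (Module.Dual.eval A W).rTensor N

lemma ev_tmul (w : W) (n : N) (φ : Module.Dual A W) : ev A W N (w ⊗ₜ n) φ = φ w • n := by
  simp [ev, dualTensorHom_apply]

lemma ev_bijective [Module.Finite A W] [Module.Projective A W] : Function.Bijective (ev A W N) := by
  have h1 : Function.Bijective ((Module.Dual.eval A W).rTensor N) := by
    exact (LinearEquiv.rTensor N (Module.evalEquiv A W)).bijective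
  exact (dualTensorHom_bijective (R := A) (M := Module.Dual A W) (N := N)).comp h1

variable {N N'} in
lemma ev_natural_right (g : N →ₗ[A] N') (x : W ⊗[A] N) :
    ev A W N' (g.lTensor W x) = g ∘ₗ ev A W N x := by
  induction x using TensorProduct.induction_on with
  | zero => simp
  | tmul w n =>
    ext φ
    simp [ev_tmul]
  | add x y hx hy => simp only [map_add, hx, hy, LinearMap.comp_add]

variable {W V} in
lemma ev_natural_left (u : W →ₗ[A] V) (x : W ⊗[A] N) :
    ev A V N (u.rTensor N x) = ev A W N x ∘ₗ u.dualMap := by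
  induction x using TensorProduct.induction_on with
  | zero => simp
  | tmul w n =>
    ext φ
    simp [ev_tmul]
  | add x y hx hy => simp only [map_add, hx, hy, LinearMap.add_comp]

variable {W V} (δ : W →ₗ[A] V)

/-- the corepresenting module `coker (δ^∨ : V^∨ → W^∨)`. -/
abbrev Q₀ : Type u := Module.Dual A W ⧸ LinearMap.range δ.dualMap

variable [Module.Finite A W] [Module.Projective A W]

/-- `Hom(Q₀, N) → W ⊗ N`. -/
noncomputable def ιlin : (Q₀ A δ →ₗ[A] N) →ₗ[A] W ⊗[A] N :=
  (LinearEquiv.ofBijective (ev A W N) (ev_bijective A W N)).symm.toLinearMap ∘ₗ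
    LinearMap.lcomp A N (LinearMap.range δ.dualMap).mkQ

lemma ev_ιlin (φ : Q₀ A δ →ₗ[A] N) :
    ev A W N (ιlin A N δ φ) = φ ∘ₗ (LinearMap.range δ.dualMap).mkQ := by
  unfold ιlin
  exact (LinearEquiv.ofBijective (ev A W N) (ev_bijective A W N)).apply_symm_apply _

lemma ιlin_injective : Function.Injective (ιlin A N δ) := by
  intro φ ψ h
  have h2 : φ ∘ₗ (LinearMap.range δ.dualMap).mkQ = ψ ∘ₗ (LinearMap.range δ.dualMap).mkQ := by
    rw [← ev_ιlin, ← ev_ιlin, h]
  ext x
  exact congr($h2 x)

lemma ιlin_exact [Module.Finite A V] [Module.Projective A V] :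
    Function.Exact (ιlin A N δ) (δ.rTensor N) := by
  intro x
  constructor
  · intro hx
    have h1 : ev A W N x ∘ₗ δ.dualMap = 0 := by
      rw [← ev_natural_left, hx, map_zero]
    have h2 : LinearMap.range δ.dualMap ≤ LinearMap.ker (ev A W N x) := by
      rintro _ ⟨ψ, rfl⟩
      exact congr($h1 ψ)
    refine ⟨(LinearMap.range δ.dualMap).liftQ (ev A W N x) h2, ?_⟩
    apply (ev_bijective A W N).1
    rw [ev_ιlin]
    exact (LinearMap.range δ.dualMap).liftQ_mkQ _ h2
  · rintro ⟨φ, rfl⟩
    apply (ev_bijective A V N).1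
    rw [ev_natural_left, ev_ιlin, map_zero]
    ext ψ
    have : (LinearMap.range δ.dualMap).mkQ (δ.dualMap ψ) = 0 :=
      (Submodule.Quotient.mk_eq_zero _).2 ⟨ψ, rfl⟩
    simp only [LinearMap.comp_apply, LinearMap.zero_apply]
    rw [this, map_zero]

variable {N N'} in
lemma ιlin_natural (g : N →ₗ[A] N') (φ : Q₀ A δ →ₗ[A] N) :
    ιlin A N' δ (g ∘ₗ φ) = g.lTensor W (ιlin A N δ φ) := by
  apply (ev_bijective A W N').1
  rw [ev_ιlin, ev_natural_right, ev_ιlin, LinearMap.comp_assoc]

end linear

section assemble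

variable {A : Type u} [CommRing A] (S : ShortComplex (ModuleCat.{u} A))

/-- `W = coker S.f`. -/
abbrev Wm : Type u := S.X₂ ⧸ LinearMap.range S.f.hom

/-- the induced map `W → X₃`. -/
noncomputable def dbar : Wm S →ₗ[A] S.X₃ :=
  (LinearMap.range S.f.hom).liftQ S.g.hom (by
    rintro _ ⟨x, rfl⟩
    exact congr($(S.zero) x))

lemma dbar_comp_mkQ : dbar S ∘ₗ (LinearMap.range S.f.hom).mkQ = S.g.hom :=
  (LinearMap.range S.f.hom).liftQ_mkQ _ _

variable [Module.Finite A (Wm S)] [Module.Projective A (Wm S)]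
  [Module.Finite A S.X₃] [Module.Projective A S.X₃]

/-- the corepresenting object. -/
noncomputable abbrev Qm : ModuleCat.{u} A := ModuleCat.of A (Q₀ A (dbar S))

/-- the inclusion `Hom(Q, N) → W ⊗ N` in `ModuleCat`. -/
noncomputable def ιm (N : ModuleCat.{u} A) :
    ((linearCoyoneda A (ModuleCat.{u} A)).obj (op (Qm S))).obj N ⟶
      ModuleCat.of A (Wm S ⊗[A] N) :=
  ModuleCat.ofHom (ιlin A N (dbar S) ∘ₗ (ModuleCat.homLinearEquiv (S := A)).toLinearMap)

/-- the right homology data of `S ⊗ N` with `H = Hom(Q, N)`. -/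
noncomputable def rhd (N : ModuleCat.{u} A) : (S.map (tensorRight N)).RightHomologyData :=
  rhdOfExact (S.map (tensorRight N))
    (Q := ModuleCat.of A (Wm S ⊗[A] N))
    (H := ((linearCoyoneda A (ModuleCat.{u} A)).obj (op (Qm S))).obj N)
    (ModuleCat.ofHom ((LinearMap.range S.f.hom).mkQ.rTensor N))
    (ModuleCat.ofHom ((dbar S).rTensor N))
    (ιm S N)
    (by
      ext x
      change (dbar S).rTensor N ((LinearMap.range S.f.hom).mkQ.rTensor N x) =
        S.g.hom.rTensor N x
      rw [← LinearMap.comp_apply, ← LinearMap.rTensor_comp, dbar_comp_mkQ])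
    (by
      change Function.Exact (S.f.hom.rTensor N) ((LinearMap.range S.f.hom).mkQ.rTensor N)
      exact rTensor_exact N (LinearMap.exact_map_mkQ_range S.f.hom)
        (LinearMap.range S.f.hom).mkQ_surjective)
    (by
      change Function.Surjective ((LinearMap.range S.f.hom).mkQ.rTensor N)
      exact LinearMap.rTensor_surjective N (LinearMap.range S.f.hom).mkQ_surjective)
    (by
      change Function.Exact (ιlin A N (dbar S) ∘
        ⇑(ModuleCat.homLinearEquiv (S := A) (M := Qm S) (N := N))) ((dbar S).rTensor N)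
      intro x
      rw [ιlin_exact A N (dbar S) x]
      constructor
      · rintro ⟨φ, rfl⟩
        exact ⟨(ModuleCat.homLinearEquiv (S := A)).symm φ, by simp⟩
      · rintro ⟨φ, rfl⟩
        exact ⟨_, rfl⟩)
    (by
      change Function.Injective (ιlin A N (dbar S) ∘
        ⇑(ModuleCat.homLinearEquiv (S := A) (M := Qm S) (N := N)))
      exact (ιlin_injective A N (dbar S)).comp (ModuleCat.homLinearEquiv (S := A)).injective)

lemma rhd_g' (N : ModuleCat.{u} A) :
    (rhd S N).g' = ModuleCat.ofHom ((dbar S).rTensor N) :=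
  rhdOfExact_g' _ _ _ _ _ _ _ _ _

/-- functoriality of `rhd` in `N`. -/
noncomputable def rhmd {N N' : ModuleCat.{u} A} (g : N ⟶ N') :
    ShortComplex.RightHomologyMapData
      (S.mapNatTrans ((tensoringRight (ModuleCat.{u} A)).map g)) (rhd S N) (rhd S N') where
  φQ := ModuleCat.ofHom (g.hom.lTensor (Wm S))
  φH := ((linearCoyoneda A (ModuleCat.{u} A)).obj (op (Qm S))).map g
  commp := by
    ext x
    change g.hom.lTensor (Wm S) ((LinearMap.range S.f.hom).mkQ.rTensor N x) =
      (LinearMap.range S.f.hom).mkQ.rTensor N' (g.hom.lTensor S.X₂ x)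
    rw [← LinearMap.comp_apply, ← LinearMap.comp_apply, LinearMap.lTensor_comp_rTensor,
      LinearMap.rTensor_comp_lTensor]
  commg' := by
    rw [rhd_g', rhd_g']
    ext x
    change (dbar S).rTensor N' (g.hom.lTensor (Wm S) x) =
      g.hom.lTensor S.X₃ ((dbar S).rTensor N x)
    rw [← LinearMap.comp_apply, ← LinearMap.comp_apply, LinearMap.lTensor_comp_rTensor,
      LinearMap.rTensor_comp_lTensor]
  commι := by
    ext φ
    change ιlin A N' (dbar S) (ModuleCat.homLinearEquiv (S := A) (φ ≫ g)) =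
      g.hom.lTensor (Wm S) (ιlin A N (dbar S) (ModuleCat.homLinearEquiv (S := A) φ))
    rw [← ιlin_natural]
    rfl

end assemble

section complex

variable {A : Type u} [CommRing A] [IsNoetherianRing A] (P : ChainComplex (ModuleCat.{u} A) ℤ)

/-- **corepresentability**: a left exact `T_q` of a complex of finite flat modules over a
Noetherian ring is `Hom(Q, -)` with `Q` finite. -/
theorem exists_corep_of_flat_coker
    (hP : ∀ i, Module.Finite A (P.X i) ∧ Module.Flat A (P.X i)) (q : ℤ)
    (hW : Module.Flat A (P.X q ⧸ LinearMap.range (P.d (q + 1) q).hom)) :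
    ∃ Q : ModuleCat.{u} A, Module.Finite A Q ∧
      Nonempty (CohIII.TFun P q ≅ (linearCoyoneda A (ModuleCat.{u} A)).obj (op Q)) := by
  have hprev : (ComplexShape.down ℤ).prev q = q + 1 := by simp
  haveI : Module.Finite A (P.X q) := (hP q).1
  haveI : Module.Finite A (P.sc q).X₂ := (hP q).1
  haveI hWf : Module.Flat A (Wm (P.sc q)) := by
    change Module.Flat A (P.X q ⧸ LinearMap.range (P.d ((ComplexShape.down ℤ).prev q) q).hom)
    rw [hprev]
    exact hW
  haveI : Module.Finite A (Wm (P.sc q)) :=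
    Module.Finite.quotient A (LinearMap.range (P.sc q).f.hom)
  haveI : Module.FinitePresentation A (Wm (P.sc q)) := Module.finitePresentation_of_finite A _
  haveI : Module.Projective A (Wm (P.sc q)) := Module.Flat.projective_of_finitePresentation
  haveI : Module.Finite A (P.sc q).X₃ := (hP _).1
  haveI : Module.Flat A (P.sc q).X₃ := (hP _).2
  haveI : Module.FinitePresentation A (P.sc q).X₃ := Module.finitePresentation_of_finite A _
  haveI : Module.Projective A (P.sc q).X₃ := Module.Flat.projective_of_finitePresentation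
  refine ⟨Qm (P.sc q), inferInstanceAs (Module.Finite A (Module.Dual A (Wm (P.sc q)) ⧸ _)), ⟨?_⟩⟩
  haveI hH : ∀ N : ModuleCat.{u} A, ((P.sc q).map (tensorRight N)).HasHomology := fun N =>
    (inferInstance : CategoryWithHomology (ModuleCat.{u} A)).hasHomology _
  refine NatIso.ofComponents (fun N => (rhd (P.sc q) N).homologyIso) ?_
  intro N N' g
  haveI := hH N
  haveI := hH N'
  exact (rhmd (P.sc q) g).homologyMap_comm

end complex

section coyoneda

variable {A : Type u} [CommRing A]

/-- `Hom(Q, -)` preserves monomorphisms. -/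
instance preservesMono_linearCoyoneda (Q : ModuleCat.{u} A) :
    ((linearCoyoneda A (ModuleCat.{u} A)).obj (op Q)).PreservesMonomorphisms where
  preserves {N N'} f hf := by
    rw [ModuleCat.mono_iff_injective]
    intro φ ψ h
    exact (cancel_mono f).1 h

/-- uniqueness of the corepresenting object. -/
noncomputable def isoOfCoyonedaIso {Q Q' : ModuleCat.{u} A}
    (e : (linearCoyoneda A (ModuleCat.{u} A)).obj (op Q) ≅
      (linearCoyoneda A (ModuleCat.{u} A)).obj (op Q')) : Q' ≅ Q :=
  ((linearCoyoneda A (ModuleCat.{u} A)).preimageIso e).unop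

end coyoneda

end Groth.Agent.H2.Corep
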