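import Mathlib
import Groth.Prelude.Def_CohDer

/-!
# Compact objects via finite sub-coproduct idempotents (helper2)

`pS X s : ∐ X ⟶ ∐ X` is the idempotent projecting to the finite sub-coproduct indexed by `s`.
`CompactFor K Ψ`: every map `K ⟶ Ψ (∐ X)` is fixed by some `Ψ (pS X s)`.
-/

universe v u w

open CategoryTheory CategoryTheory.Limits

namespace Groth.Agent.H2.Cpt

section basic

variable {S : Type u} [Category.{v} S] [Preadditive S] {ι : Type w} [DecidableEq ι]
  (X : ι → S) [HasCoproduct X]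

/-- the idempotent projecting onto a finite sub-coproduct -/
noncomputable def pS (s : Finset ι) : ∐ X ⟶ ∐ X := ∑ i ∈ s, Sigma.π X i ≫ Sigma.ι X i

lemma ι_pS (s : Finset ι) (i : ι) (hi : i ∈ s) : Sigma.ι X i ≫ pS X s = Sigma.ι X i := by
  unfold pS
  rw [Preadditive.comp_sum, Finset.sum_eq_single i]
  · rw [Sigma.ι_π_eq_id_assoc]
  · intro j _ hji
    rw [Sigma.ι_π_of_ne_assoc _ (Ne.symm hji), zero_comp]
  · intro h
    exact absurd hi h

lemma ι_pS_of_notMem (s : Finset ι) (i : ι) (hi : i ∉ s) : Sigma.ι X i ≫ pS X s = 0 := by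
  unfold pS
  rw [Preadditive.comp_sum]
  apply Finset.sum_eq_zero
  intro j hj
  have : i ≠ j := fun h => hi (h ▸ hj)
  rw [Sigma.ι_π_of_ne_assoc _ this, zero_comp]

lemma pS_comp_pS {s s' : Finset ι} (h : s ⊆ s') : pS X s ≫ pS X s' = pS X s := by
  have h1 : pS X s = ∑ i ∈ s, Sigma.π X i ≫ Sigma.ι X i := rfl
  rw [h1, Preadditive.sum_comp]
  apply Finset.sum_congr rfl
  intro i hi
  rw [Category.assoc, ι_pS X s' i (h hi)]

lemma comp_pS_mono {T : Type*} [Category T] (Ψ : S ⥤ T) {K : T} (φ : K ⟶ Ψ.obj (∐ X))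
    {s s' : Finset ι} (h : s ⊆ s') (hφ : φ ≫ Ψ.map (pS X s) = φ) : φ ≫ Ψ.map (pS X s') = φ := by
  calc φ ≫ Ψ.map (pS X s') = (φ ≫ Ψ.map (pS X s)) ≫ Ψ.map (pS X s') := by rw [hφ]
    _ = φ ≫ Ψ.map (pS X s ≫ pS X s') := by rw [Category.assoc, Functor.map_comp]
    _ = φ := by rw [pS_comp_pS X h, hφ]

end basic

/-- `K` is compact with respect to the functor `Ψ`: every map `K ⟶ Ψ (∐ X)` factors through a
finite sub-coproduct. -/
def CompactFor {S : Type u} [Category.{v} S] [Preadditive S] [HasCoproducts.{v} S]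
    {T : Type*} [Category T] (K : T) (Ψ : S ⥤ T) : Prop :=
  ∀ (ι : Type v) [DecidableEq ι] (X : ι → S) (φ : K ⟶ Ψ.obj (∐ X)),
    ∃ s : Finset ι, φ ≫ Ψ.map (pS X s) = φ

section equiv

variable {T : Type u} [Category.{v} T] [Preadditive T]

lemma homSum_of (K : T) {ι : Type v} (X : ι → T) [HasCoproduct X] [d : DecidableEq ι] (i : ι)
    (f : K ⟶ X i) :
    CohDer.homSumToHomCoprod K X (DirectSum.of (fun i => K ⟶ X i) i f) = f ≫ Sigma.ι X i := by
  unfold CohDer.homSumToHomCoprod
  have : d = (fun a b => Classical.propDecidable (a = b)) := Subsingleton.elim _ _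
  subst this
  classical
  exact DirectSum.toAddMonoid_of _ _ _

variable [HasCoproducts.{v} T]

theorem compactFor_id_of_isCompact {K : T} (h : CohDer.IsCompactObject K) : CompactFor K (𝟭 T) := by
  intro ι _ X φ
  obtain ⟨x, rfl⟩ := (h ι X).2 φ
  induction x using DirectSum.induction_on with
  | zero => exact ⟨∅, by rw [map_zero, zero_comp]⟩
  | of i f =>
    refine ⟨{i}, ?_⟩
    rw [homSum_of, Category.assoc]
    change f ≫ Sigma.ι X i ≫ pS X {i} = _
    rw [ι_pS X {i} i (Finset.mem_singleton_self i)]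
  | add x y hx hy =>
    obtain ⟨s, hs⟩ := hx
    obtain ⟨s', hs'⟩ := hy
    refine ⟨s ∪ s', ?_⟩
    rw [map_add, Preadditive.add_comp, comp_pS_mono X (𝟭 T) _ Finset.subset_union_left hs,
      comp_pS_mono X (𝟭 T) _ Finset.subset_union_right hs']

theorem isCompact_of_compactFor_id {K : T} (h : CompactFor K (𝟭 T)) : CohDer.IsCompactObject K := by
  classical
  intro ι X
  constructor
  · rw [injective_iff_map_eq_zero]
    intro x hx
    have key : ∀ j, (Preadditive.rightComp K (Sigma.π X j)).comp (CohDer.homSumToHomCoprod K X) =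
        DFinsupp.evalAddMonoidHom j := by
      intro j
      apply DirectSum.addHom_ext
      intro i f
      rw [AddMonoidHom.comp_apply, homSum_of]
      change (f ≫ Sigma.ι X i) ≫ Sigma.π X j = (DirectSum.of (fun i => K ⟶ X i) i f) j
      rw [Category.assoc, Sigma.ι_π, DirectSum.of_apply]
      by_cases hij : i = j
      · subst hij
        simp
      · simp [hij]
    apply DFinsupp.ext
    intro j
    have := DFunLike.congr_fun (key j) x
    rw [AddMonoidHom.comp_apply, hx, map_zero] at this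
    exact this.symm
  · intro φ
    obtain ⟨s, hs⟩ := h ι X φ
    refine ⟨∑ i ∈ s, DirectSum.of (fun i => K ⟶ X i) i (φ ≫ Sigma.π X i), ?_⟩
    rw [map_sum]
    simp only [homSum_of]
    refine Eq.trans ?_ hs
    change _ = φ ≫ pS X s
    unfold pS
    rw [Preadditive.comp_sum]
    apply Finset.sum_congr rfl
    intro i _
    rw [Category.assoc]

end equiv

section transport

variable {S : Type u} [Category.{v} S] [Preadditive S] [HasCoproducts.{v} S]

/-- adjunction transport -/
theorem compactFor_adj_iff {T T' : Type*} [Category T] [Category T'] {L : T ⥤ T'} {G : T' ⥤ T}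
    (adj : L ⊣ G) (K : T) (Ψ : S ⥤ T') : CompactFor (L.obj K) Ψ ↔ CompactFor K (Ψ ⋙ G) := by
  constructor
  · intro h ι _ X φ
    obtain ⟨s, hs⟩ := h ι X ((adj.homEquiv _ _).symm φ)
    refine ⟨s, ?_⟩
    have := congrArg (adj.homEquiv _ _) hs
    rw [Adjunction.homEquiv_naturality_right, Equiv.apply_symm_apply] at this
    exact this
  · intro h ι _ X φ
    obtain ⟨s, hs⟩ := h ι X (adj.homEquiv _ _ φ)
    refine ⟨s, ?_⟩
    apply (adj.homEquiv _ _).injective
    rw [Adjunction.homEquiv_naturality_right]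
    exact hs

theorem compactFor_of_natIso {T : Type*} [Category T] {K : T} {Ψ Ψ' : S ⥤ T} (α : Ψ ≅ Ψ')
    (h : CompactFor K Ψ) : CompactFor K Ψ' := by
  intro ι _ X φ
  obtain ⟨s, hs⟩ := h ι X (φ ≫ α.inv.app _)
  refine ⟨s, ?_⟩
  rw [← cancel_mono (α.inv.app _), Category.assoc, α.inv.naturality, ← Category.assoc]
  exact hs

theorem compactFor_of_iso {T : Type*} [Category T] {K K' : T} (e : K ≅ K') (Ψ : S ⥤ T)
    (h : CompactFor K Ψ) : CompactFor K' Ψ := by
  intro ι _ X φ
  obtain ⟨s, hs⟩ := h ι X (e.hom ≫ φ)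
  refine ⟨s, ?_⟩
  rw [← cancel_epi e.hom, ← Category.assoc]
  exact hs

/-- a compact object is compact for every coproduct-preserving functor -/
theorem compactFor_of_preserves {T : Type u} [Category.{v} T] [Preadditive T] [HasCoproducts.{v} T]
    {K : T} (h : CompactFor K (𝟭 T)) (L : S ⥤ T) [L.PreservesZeroMorphisms]
    [∀ (ι : Type v), PreservesColimitsOfShape (Discrete ι) L] : CompactFor K L := by
  intro ι _ X φ
  have hσ : IsIso (sigmaComparison L X) := inferInstance
  obtain ⟨s, hs⟩ := h ι (fun i => L.obj (X i)) (φ ≫ inv (sigmaComparison L X))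
  refine ⟨s, ?_⟩
  have key : pS (fun i => L.obj (X i)) s ≫ sigmaComparison L X =
      sigmaComparison L X ≫ L.map (pS X s) := by
    apply Sigma.hom_ext
    intro k
    rw [ι_comp_sigmaComparison_assoc, ← Functor.map_comp]
    by_cases hk : k ∈ s
    · rw [ι_pS X s k hk, ← Category.assoc, ι_pS _ s k hk, ι_comp_sigmaComparison]
    · rw [ι_pS_of_notMem X s k hk, ← Category.assoc, ι_pS_of_notMem _ s k hk, zero_comp,
        Functor.map_zero]
  have h2 : φ = (φ ≫ inv (sigmaComparison L X)) ≫ sigmaComparison L X := by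
    rw [Category.assoc, IsIso.inv_hom_id, Category.comp_id]
  conv_lhs => rw [h2]
  rw [Category.assoc, ← key, ← Category.assoc]
  change ((φ ≫ inv (sigmaComparison L X)) ≫ (𝟭 T).map (pS (fun i => L.obj (X i)) s)) ≫ _ = _
  rw [hs, ← h2]

end transport

end Groth.Agent.H2.Cpt
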