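import Groth.Agent.Lib.Helper2.FormalIFT

/-!
# Cube roots of power series in characteristic two

Helper library (helper2) for S13127.
-/

namespace Groth.Agent.H2.FormalIFT

open MvPowerSeries

variable {σ R : Type*} [CommRing R]

lemma substEquiv_C (u : σ → MvPowerSeries σ R)
    (hu : ∀ s, IsUnit (constantCoeff (u s))) (r : R) :
    substEquiv u hu (C r) = C r := by
  rw [c_eq_algebraMap]
  exact (substEquiv u hu).commutes r

section CharTwo

variable [CharP R 2]

/-- the one-variable series `ρ` with `ρ + ρ² + ρ³ = X` -/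
lemma exists_rho : ∃ ρ : PowerSeries R, PowerSeries.constantCoeff ρ = 0 ∧
    ρ + ρ ^ 2 + ρ ^ 3 = PowerSeries.X := by
  set θ : PowerSeries R := PowerSeries.X + PowerSeries.X ^ 2 + PowerSeries.X ^ 3 with hθ
  have h0 : PowerSeries.constantCoeff θ = 0 := by simp [hθ]
  have h1 : IsUnit (PowerSeries.coeff 1 θ) := by
    have : PowerSeries.coeff 1 θ = 1 := by
      simp [hθ, PowerSeries.coeff_X_pow]
    rw [this]; exact isUnit_one
  refine ⟨θ.substInvOfIsUnit h1, PowerSeries.constantCoeff_substInvOfIsUnit θ h1, ?_⟩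
  have hs := PowerSeries.subst_substInvOfIsUnit_right θ h0 h1
  have hρ : PowerSeries.HasSubst (θ.substInvOfIsUnit h1) :=
    PowerSeries.HasSubst.substInvOfIsUnit θ h1
  generalize θ.substInvOfIsUnit h1 = ρ at hs hρ ⊢
  rw [hθ, PowerSeries.subst_add hρ, PowerSeries.subst_add hρ, PowerSeries.subst_pow hρ,
    PowerSeries.subst_pow hρ, PowerSeries.subst_X hρ] at hs
  exact hs

/-- cube roots of `1 + z` for `z` without constant term -/
lemma exists_cube_root_one_add (z : MvPowerSeries σ R) (hz : constantCoeff z = 0) :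
    ∃ w : MvPowerSeries σ R, constantCoeff w = 1 ∧ w ^ 3 = 1 + z := by
  obtain ⟨ρ, hρ0, hρ⟩ := exists_rho (R := R)
  have hsz : PowerSeries.HasSubst z := PowerSeries.HasSubst.of_constantCoeff_zero hz
  set y : MvPowerSeries σ R := PowerSeries.subst z ρ with hy
  have hy0 : constantCoeff y = 0 := PowerSeries.constantCoeff_subst_eq_zero hz ρ hρ0
  have hyz : y + y ^ 2 + y ^ 3 = z := by
    have := congrArg (PowerSeries.subst z) hρ
    rw [PowerSeries.subst_add hsz, PowerSeries.subst_add hsz, PowerSeries.subst_pow hsz,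
      PowerSeries.subst_pow hsz, PowerSeries.subst_X hsz] at this
    exact this
  have h2 : (2 : MvPowerSeries σ R) = 0 := by
    have : (2 : R) = 0 := CharTwo.two_eq_zero
    rw [show (2 : MvPowerSeries σ R) = C (2 : R) by rw [map_ofNat], this, map_zero]
  refine ⟨1 + y, by simp [hy0], ?_⟩
  linear_combination hyz + (y + y ^ 2) * h2

/-- scaled cube roots: `C m * u ^ 3 = Q` -/
lemma exists_cube (Q : MvPowerSeries σ R) (m κ : R) (hQ : IsUnit (constantCoeff Q))
    (hκ : IsUnit κ) (h : constantCoeff Q * κ ^ 3 = m) :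
    ∃ u : MvPowerSeries σ R, IsUnit (constantCoeff u) ∧ C m * u ^ 3 = Q := by
  obtain ⟨qi, hqi⟩ := hQ.exists_left_inv
  obtain ⟨κi, hκi⟩ := hκ.exists_left_inv
  set z : MvPowerSeries σ R := C qi * Q - 1 with hz
  have hz0 : constantCoeff z = 0 := by
    simp [hz, hqi]
  obtain ⟨w, hw1, hw⟩ := exists_cube_root_one_add z hz0
  refine ⟨C κi * w, ?_, ?_⟩
  · rw [map_mul, constantCoeff_C, hw1, mul_one]
    exact IsUnit.of_mul_eq_one κ hκi
  · have e1 : m * κi ^ 3 * qi = 1 := by
      rw [← h]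
      linear_combination (κi ^ 3 * κ ^ 3) * hqi + (κi ^ 2 * κ ^ 2 + κi * κ + 1) * hκi
    have e1' : C m * C κi ^ 3 * C qi = (1 : MvPowerSeries σ R) := by
      rw [← map_pow, ← map_mul, ← map_mul, e1, map_one]
    calc C m * (C κi * w) ^ 3 = C m * C κi ^ 3 * w ^ 3 := by ring
      _ = C m * C κi ^ 3 * (C qi * Q) := by rw [hw, hz]; ring
      _ = (C m * C κi ^ 3 * C qi) * Q := by ring
      _ = Q := by rw [e1', one_mul]

end CharTwo

end Groth.Agent.H2.FormalIFT
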