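import Mathlib

/-!
# Charts of the blow-up of a nodal/cuspidal Weierstrass cubic (S19181, S19182)
-/

namespace Groth.Agent.H2.CubicCharts

open MvPolynomial

universe u

variable (R : Type u) [CommRing R] (a₁ a₂ : R)

/-- second chart generator -/
noncomputable def g₂ : MvPolynomial (Fin 2) R := X 1 ^ 2 + C a₁ * X 1 - X 0 - C a₂

/-- first chart generator -/
noncomputable def g₁ : MvPolynomial (Fin 2) R := 1 + C a₁ * X 1 - X 0 * X 1 ^ 3 - C a₂ * X 1 ^ 2

section chart2

noncomputable def φ₂ : MvPolynomial (Fin 2) R →ₐ[R] Polynomial R :=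
  aeval ![Polynomial.X ^ 2 + Polynomial.C a₁ * Polynomial.X - Polynomial.C a₂, Polynomial.X]

lemma φ₂_g₂ : φ₂ R a₁ a₂ (g₂ R a₁ a₂) = 0 := by
  simp only [φ₂, g₂, map_sub, map_add, map_mul, map_pow, aeval_X, aeval_C,
    Matrix.cons_val_zero, Matrix.cons_val_one, Polynomial.algebraMap_eq]
  ring

noncomputable def φ₂bar :
    (MvPolynomial (Fin 2) R ⧸ Ideal.span ({g₂ R a₁ a₂} : Set (MvPolynomial (Fin 2) R))) →ₐ[R]
      Polynomial R :=
  Ideal.Quotient.liftₐ _ (φ₂ R a₁ a₂) (by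
    intro x hx
    rw [Ideal.mem_span_singleton] at hx
    obtain ⟨c, rfl⟩ := hx
    rw [map_mul, φ₂_g₂, zero_mul])

noncomputable def ψ₂ : Polynomial R →ₐ[R]
    (MvPolynomial (Fin 2) R ⧸ Ideal.span ({g₂ R a₁ a₂} : Set (MvPolynomial (Fin 2) R))) :=
  Polynomial.aeval (Ideal.Quotient.mk _ (X 1))

noncomputable def equiv₂ :
    Polynomial R ≃ₐ[R]
      (MvPolynomial (Fin 2) R ⧸ Ideal.span ({g₂ R a₁ a₂} : Set (MvPolynomial (Fin 2) R))) :=
  AlgEquiv.ofAlgHom (ψ₂ R a₁ a₂) (φ₂bar R a₁ a₂)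
    (by
      apply Ideal.Quotient.algHom_ext
      apply MvPolynomial.algHom_ext
      intro i
      set I := Ideal.span ({g₂ R a₁ a₂} : Set (MvPolynomial (Fin 2) R)) with hI
      have hg : (Ideal.Quotient.mk I (X 1)) ^ 2 + Ideal.Quotient.mk I (C a₁) * Ideal.Quotient.mk I (X 1)
          - Ideal.Quotient.mk I (X 0) - Ideal.Quotient.mk I (C a₂) = 0 := by
        rw [← map_pow, ← map_mul, ← map_add, ← map_sub, ← map_sub]
        exact Ideal.Quotient.eq_zero_iff_mem.2 (Ideal.mem_span_singleton_self _)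
      fin_cases i
      · simp only [AlgHom.comp_apply, Ideal.Quotient.mkₐ_eq_mk, φ₂bar, Ideal.Quotient.liftₐ_apply,
          Ideal.Quotient.lift_mk, AlgHom.id_apply, Fin.zero_eta]
        change ψ₂ R a₁ a₂ (φ₂ R a₁ a₂ (X 0)) = _
        simp only [φ₂, aeval_X, Matrix.cons_val_zero, ψ₂, map_sub, map_add, map_mul, map_pow,
          Polynomial.aeval_X, Polynomial.aeval_C]
        have h3 : (algebraMap R (MvPolynomial (Fin 2) R ⧸ I)) a₁ =
            Ideal.Quotient.mk _ (C a₁) := rfl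
        have h4 : (algebraMap R (MvPolynomial (Fin 2) R ⧸ I)) a₂ =
            Ideal.Quotient.mk _ (C a₂) := rfl
        rw [h3, h4]
        linear_combination hg
      · simp only [AlgHom.comp_apply, Ideal.Quotient.mkₐ_eq_mk, φ₂bar, Ideal.Quotient.liftₐ_apply,
          Ideal.Quotient.lift_mk, AlgHom.id_apply, Fin.mk_one]
        change ψ₂ R a₁ a₂ (φ₂ R a₁ a₂ (X 1)) = _
        simp only [φ₂, aeval_X, Matrix.cons_val_one, Matrix.cons_val_fin_one, ψ₂, Polynomial.aeval_X])
    (by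
      apply Polynomial.algHom_ext
      simp only [AlgHom.comp_apply, ψ₂, Polynomial.aeval_X, AlgHom.id_apply]
      change φ₂ R a₁ a₂ (X 1) = _
      simp only [φ₂, aeval_X, Matrix.cons_val_one, Matrix.cons_val_fin_one])

theorem smooth₂ : Algebra.Smooth R
    (MvPolynomial (Fin 2) R ⧸ Ideal.span ({g₂ R a₁ a₂} : Set (MvPolynomial (Fin 2) R))) := by
  have : Algebra.Smooth R (Polynomial R) :=
    { formallySmooth := inferInstance, finitePresentation := inferInstance }
  exact Algebra.Smooth.of_equiv (equiv₂ R a₁ a₂)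

end chart2

section chart1

open Polynomial in
/-- the Laurent ring `R[α, α⁻¹]` -/
abbrev L : Type u := Localization.Away (Polynomial.X : Polynomial R)

noncomputable def α : L R := algebraMap (Polynomial R) (L R) Polynomial.X

noncomputable def αi : L R := IsLocalization.Away.invSelf (Polynomial.X : Polynomial R)

lemma α_mul_αi : α R * αi R = 1 := IsLocalization.Away.mul_invSelf _

noncomputable def φ₁ : MvPolynomial (Fin 2) R →ₐ[R] L R :=
  aeval ![(1 + algebraMap R (L R) a₁ * α R - algebraMap R (L R) a₂ * α R ^ 2) * αi R ^ 3, α R]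

lemma φ₁_g₁ : φ₁ R a₁ a₂ (g₁ R a₁ a₂) = 0 := by
  simp only [φ₁, g₁, map_sub, map_add, map_mul, map_pow, map_one, aeval_X, aeval_C,
    Matrix.cons_val_zero, Matrix.cons_val_one, Matrix.cons_val_fin_one]
  have h := α_mul_αi R
  have h3 : αi R ^ 3 * α R ^ 3 = 1 := by rw [← mul_pow, mul_comm, h, one_pow]
  linear_combination (-(1 + algebraMap R (L R) a₁ * α R - algebraMap R (L R) a₂ * α R ^ 2)) * h3

noncomputable def φ₁bar :
    (MvPolynomial (Fin 2) R ⧸ Ideal.span ({g₁ R a₁ a₂} : Set (MvPolynomial (Fin 2) R))) →ₐ[R] L R :=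
  Ideal.Quotient.liftₐ _ (φ₁ R a₁ a₂) (by
    intro x hx
    rw [Ideal.mem_span_singleton] at hx
    obtain ⟨c, rfl⟩ := hx
    rw [map_mul, φ₁_g₁, zero_mul])

/-- the relation in the quotient -/
lemma rel₁ :
    let I := Ideal.span ({g₁ R a₁ a₂} : Set (MvPolynomial (Fin 2) R))
    (1 : MvPolynomial (Fin 2) R ⧸ I) + Ideal.Quotient.mk I (C a₁) * Ideal.Quotient.mk I (X 1)
      - Ideal.Quotient.mk I (X 0) * Ideal.Quotient.mk I (X 1) ^ 3
      - Ideal.Quotient.mk I (C a₂) * Ideal.Quotient.mk I (X 1) ^ 2 = 0 := by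
  intro I
  rw [← map_pow, ← map_pow, ← map_mul, ← map_mul, ← map_mul, ← map_one (Ideal.Quotient.mk I),
    ← map_add, ← map_sub, ← map_sub]
  exact Ideal.Quotient.eq_zero_iff_mem.2 (Ideal.mem_span_singleton_self _)

lemma isUnit_x₁ :
    IsUnit (Polynomial.aeval (R := R) (Ideal.Quotient.mk
      (Ideal.span ({g₁ R a₁ a₂} : Set (MvPolynomial (Fin 2) R))) (X 1)) Polynomial.X) := by
  rw [Polynomial.aeval_X]
  have h := rel₁ R a₁ a₂
  simp only at h
  set I := Ideal.span ({g₁ R a₁ a₂} : Set (MvPolynomial (Fin 2) R))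
  refine IsUnit.of_mul_eq_one (Ideal.Quotient.mk I (X 0) * Ideal.Quotient.mk I (X 1) ^ 2
    - Ideal.Quotient.mk I (C a₁) + Ideal.Quotient.mk I (C a₂) * Ideal.Quotient.mk I (X 1)) ?_
  linear_combination (-1 : MvPolynomial (Fin 2) R ⧸ I) * h

noncomputable def ψ₁ : L R →ₐ[R]
    (MvPolynomial (Fin 2) R ⧸ Ideal.span ({g₁ R a₁ a₂} : Set (MvPolynomial (Fin 2) R))) :=
  IsLocalization.Away.liftAlgHom (A := R) (Polynomial.X : Polynomial R)
    (f := Polynomial.aeval (Ideal.Quotient.mk _ (X 1))) (isUnit_x₁ R a₁ a₂)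

lemma ψ₁_α : ψ₁ R a₁ a₂ (α R) = Ideal.Quotient.mk _ (X 1) := by
  rw [ψ₁, α, IsLocalization.Away.liftAlgHom_apply, IsLocalization.Away.lift_eq]
  exact Polynomial.aeval_X _

lemma ψ₁_αi_mul : ψ₁ R a₁ a₂ (αi R) * Ideal.Quotient.mk _ (X 1) = 1 := by
  rw [← ψ₁_α, ← map_mul, mul_comm, α_mul_αi, map_one]

noncomputable def equiv₁ :
    L R ≃ₐ[R]
      (MvPolynomial (Fin 2) R ⧸ Ideal.span ({g₁ R a₁ a₂} : Set (MvPolynomial (Fin 2) R))) :=
  AlgEquiv.ofAlgHom (ψ₁ R a₁ a₂) (φ₁bar R a₁ a₂)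
    (by
      apply Ideal.Quotient.algHom_ext
      apply MvPolynomial.algHom_ext
      intro i
      have h := rel₁ R a₁ a₂
      have hu := ψ₁_αi_mul R a₁ a₂
      simp only at h
      set I := Ideal.span ({g₁ R a₁ a₂} : Set (MvPolynomial (Fin 2) R)) with hI
      fin_cases i
      · simp only [AlgHom.comp_apply, Ideal.Quotient.mkₐ_eq_mk, φ₁bar, Ideal.Quotient.liftₐ_apply,
          Ideal.Quotient.lift_mk, AlgHom.id_apply, Fin.zero_eta]
        change ψ₁ R a₁ a₂ (φ₁ R a₁ a₂ (X 0)) = _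
        simp only [φ₁, aeval_X, Matrix.cons_val_zero, map_sub, map_add, map_mul, map_pow, map_one,
          AlgHom.commutes]
        rw [ψ₁_α]
        have h3 : (algebraMap R (MvPolynomial (Fin 2) R ⧸ I)) a₁ =
            Ideal.Quotient.mk _ (C a₁) := rfl
        have h4 : (algebraMap R (MvPolynomial (Fin 2) R ⧸ I)) a₂ =
            Ideal.Quotient.mk _ (C a₂) := rfl
        rw [h3, h4]
        have hu3 : ψ₁ R a₁ a₂ (αi R) ^ 3 * Ideal.Quotient.mk I (X 1) ^ 3 = 1 := by
          rw [← mul_pow, hu, one_pow]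
        linear_combination (ψ₁ R a₁ a₂ (αi R) ^ 3) * h
          + (Ideal.Quotient.mk I (X 0)) * hu3
      · simp only [AlgHom.comp_apply, Ideal.Quotient.mkₐ_eq_mk, φ₁bar, Ideal.Quotient.liftₐ_apply,
          Ideal.Quotient.lift_mk, AlgHom.id_apply, Fin.mk_one]
        change ψ₁ R a₁ a₂ (φ₁ R a₁ a₂ (X 1)) = _
        simp only [φ₁, aeval_X, Matrix.cons_val_one, Matrix.cons_val_fin_one]
        exact ψ₁_α R a₁ a₂)
    (by
      apply IsLocalization.algHom_ext (Submonoid.powers (Polynomial.X : Polynomial R))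
      apply Polynomial.algHom_ext
      simp only [AlgHom.comp_apply, AlgHom.id_apply]
      change φ₁bar R a₁ a₂ (ψ₁ R a₁ a₂ (α R)) = α R
      rw [ψ₁_α]
      change φ₁ R a₁ a₂ (X 1) = _
      simp only [φ₁, aeval_X, Matrix.cons_val_one, Matrix.cons_val_fin_one])

theorem smooth₁ : Algebra.Smooth R
    (MvPolynomial (Fin 2) R ⧸ Ideal.span ({g₁ R a₁ a₂} : Set (MvPolynomial (Fin 2) R))) := by
  have h1 : Algebra.Smooth R (Polynomial R) :=
    { formallySmooth := inferInstance, finitePresentation := inferInstance }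
  have h2 : Algebra.Smooth (Polynomial R) (L R) :=
    Algebra.Smooth.of_isLocalization_Away (Polynomial.X : Polynomial R)
  have h3 : Algebra.Smooth R (L R) := Algebra.Smooth.comp R (Polynomial R) (L R)
  exact Algebra.Smooth.of_equiv (equiv₁ R a₁ a₂)

end chart1

section saturation

/-- evaluation `X 0 ↦ 0`, `X 1 ↦ X` -/
noncomputable def ε : MvPolynomial (Fin 2) R →ₐ[R] Polynomial R :=
  aeval ![0, Polynomial.X]

/-- `X ↦ X 1` -/
noncomputable def ιP : Polynomial R →ₐ[R] MvPolynomial (Fin 2) R :=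
  Polynomial.aeval (X 1)

lemma X0_dvd_sub (p : MvPolynomial (Fin 2) R) : (X 0 : MvPolynomial (Fin 2) R) ∣ p - ιP R (ε R p) := by
  induction p using MvPolynomial.induction_on with
  | C a =>
    simp only [ε, ιP, aeval_C, Polynomial.algebraMap_eq, Polynomial.aeval_C, MvPolynomial.algebraMap_eq,
      sub_self, dvd_zero]
  | add p q hp hq =>
    rw [map_add, map_add, add_sub_add_comm]
    exact dvd_add hp hq
  | mul_X p i hp =>
    rw [map_mul, map_mul]
    fin_cases i
    · have : ε R (X 0) = 0 := by simp [ε]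
      simp only [Fin.zero_eta]
      rw [this, map_zero, mul_zero, sub_zero]
      exact Dvd.intro_left p rfl
    · have : ιP R (ε R (X 1)) = X 1 := by simp [ε, ιP]
      simp only [Fin.mk_one]
      rw [this, ← sub_mul]
      exact Dvd.dvd.mul_right hp _

lemma X0_dvd_of_ε_eq_zero (p : MvPolynomial (Fin 2) R) (h : ε R p = 0) :
    (X 0 : MvPolynomial (Fin 2) R) ∣ p := by
  have := X0_dvd_sub R p
  rwa [h, map_zero, sub_zero] at this

lemma ε_X0_mul (p : MvPolynomial (Fin 2) R) : ε R (X 0 * p) = 0 := by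
  rw [map_mul]
  have : ε R (X 0) = 0 := by simp [ε]
  rw [this, zero_mul]

lemma nzd_of_coeff_eq_one (p : Polynomial R) (k : ℕ) (hk : p.coeff k = 1) :
    p ∈ nonZeroDivisors (Polynomial R) := by
  by_contra h
  rw [Polynomial.notMem_nonZeroDivisors_iff] at h
  obtain ⟨a, ha, hap⟩ := h
  apply ha
  have := congrArg (fun q => Polynomial.coeff q k) hap
  simpa [hk] using this

/-- The general saturation statement. -/
theorem saturation (g : MvPolynomial (Fin 2) R) (hg : ε R g ∈ nonZeroDivisors (Polynomial R))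
    (s : MvPolynomial (Fin 2) R) :
    (∃ n : ℕ, X 0 ^ n * s ∈ Ideal.span ({X 0 ^ 2 * g} : Set (MvPolynomial (Fin 2) R))) ↔
      s ∈ Ideal.span ({g} : Set (MvPolynomial (Fin 2) R)) := by
  constructor
  · rintro ⟨n, hn⟩
    rw [Ideal.mem_span_singleton] at hn
    obtain ⟨c, hc⟩ := hn
    have key : ∀ (n m : ℕ) (s c : MvPolynomial (Fin 2) R),
        X 0 ^ n * s = X 0 ^ m * g * c → s ∈ Ideal.span ({g} : Set (MvPolynomial (Fin 2) R)) := by
      intro n
      induction n with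
      | zero =>
        intro m s c h
        rw [pow_zero, one_mul] at h
        rw [h, Ideal.mem_span_singleton]
        exact ⟨X 0 ^ m * c, by ring⟩
      | succ n ih =>
        intro m s c h
        rcases m with _ | m
        · rw [pow_zero, one_mul] at h
          have h1 : ε R (g * c) = 0 := by
            rw [← h, pow_succ', mul_assoc, ε_X0_mul]
          rw [map_mul] at h1
          have h2 : ε R c = 0 := by
            have := (mem_nonZeroDivisors_iff.1 hg).1 (ε R c)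
            exact this h1
          obtain ⟨c', rfl⟩ := X0_dvd_of_ε_eq_zero R c h2
          have h3 : X 0 * (X 0 ^ n * s) = X 0 * (X 0 ^ 0 * g * c') := by
            rw [← mul_assoc, ← pow_succ', h]; ring
          exact ih 0 s c' ((isRegular_X (n := (0 : Fin 2)) (R := R)).left h3)
        · have h3 : X 0 * (X 0 ^ n * s) = X 0 * (X 0 ^ m * g * c) := by
            rw [← mul_assoc, ← pow_succ', h]; ring
          exact ih m s c ((isRegular_X (n := (0 : Fin 2)) (R := R)).left h3)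
    exact key n 2 s c hc
  · intro h
    rw [Ideal.mem_span_singleton] at h
    obtain ⟨c, rfl⟩ := h
    refine ⟨2, ?_⟩
    rw [Ideal.mem_span_singleton]
    exact ⟨c, by ring⟩

lemma ε_g₁ : ε R (g₁ R a₁ a₂) =
    1 + Polynomial.C a₁ * Polynomial.X - Polynomial.C a₂ * Polynomial.X ^ 2 := by
  simp [ε, g₁]

lemma ε_g₂ : ε R (g₂ R a₁ a₂) =
    Polynomial.X ^ 2 + Polynomial.C a₁ * Polynomial.X - Polynomial.C a₂ := by
  simp [ε, g₂]

theorem saturation₁ (s : MvPolynomial (Fin 2) R) :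
    (∃ n : ℕ, X 0 ^ n * s ∈ Ideal.span ({X 0 ^ 2 * g₁ R a₁ a₂} : Set (MvPolynomial (Fin 2) R))) ↔
      s ∈ Ideal.span ({g₁ R a₁ a₂} : Set (MvPolynomial (Fin 2) R)) := by
  apply saturation
  rw [ε_g₁]
  apply nzd_of_coeff_eq_one R _ 0
  simp

theorem saturation₂ (s : MvPolynomial (Fin 2) R) :
    (∃ n : ℕ, X 0 ^ n * s ∈ Ideal.span ({X 0 ^ 2 * g₂ R a₁ a₂} : Set (MvPolynomial (Fin 2) R))) ↔
      s ∈ Ideal.span ({g₂ R a₁ a₂} : Set (MvPolynomial (Fin 2) R)) := by
  apply saturation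
  rw [ε_g₂]
  apply nzd_of_coeff_eq_one R _ 2
  simp

end saturation

end Groth.Agent.H2.CubicCharts
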