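import Mathlib

/-!
Curvilinear clusters: a finite local `k`-algebra with residue field `k` and principal maximal ideal
is `k[x]/(x^n)`.
-/

namespace Groth.Agent.H2.Curvi

open IsLocalRing Polynomial

universe u

theorem curvilinear (k : Type u) [Field k] (B : Type u) [CommRing B] [Algebra k B] [IsLocalRing B]
    [Module.Finite k B]
    (hdec : ∀ b : B, ∃ c : k, b - algebraMap k B c ∈ maximalIdeal B)
    (t : B) (ht : maximalIdeal B = Ideal.span {t}) (n : ℕ) (hn : Module.finrank k B = n) :
    Nonempty (B ≃ₐ[k] (k[X] ⧸ Ideal.span {(X : k[X]) ^ n})) := by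
  haveI : IsArtinianRing B := IsArtinianRing.of_finite k B
  -- t is nilpotent
  obtain ⟨N, hN⟩ : ∃ N, t ^ N = 0 := by
    obtain ⟨N, hN⟩ := IsArtinianRing.isNilpotent_jacobson_bot (R := B)
    refine ⟨N, ?_⟩
    have h1 : t ∈ Ideal.jacobson (⊥ : Ideal B) := by
      rw [jacobson_eq_maximalIdeal _ bot_ne_top, ht]
      exact Ideal.subset_span rfl
    have h2 := Ideal.pow_mem_pow h1 N
    rw [hN] at h2
    exact h2
  set φ : k[X] →ₐ[k] B := aeval t with hφ
  -- approximation
  have happ : ∀ j : ℕ, ∀ b : B, ∃ P : k[X], ∃ b' : B, b = φ P + t ^ j * b' := by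
    intro j
    induction j with
    | zero => intro b; exact ⟨0, b, by simp⟩
    | succ j ih =>
      intro b
      obtain ⟨P, b', hb⟩ := ih b
      obtain ⟨c, hc⟩ := hdec b'
      rw [ht, Ideal.mem_span_singleton'] at hc
      obtain ⟨b'', hb''⟩ := hc
      refine ⟨P + C c * X ^ j, b'', ?_⟩
      rw [hb, map_add, map_mul, map_pow, hφ, aeval_C, aeval_X]
      have : b' = algebraMap k B c + b'' * t := by rw [hb'']; ring
      rw [this]
      ring
  have hsurj : Function.Surjective φ := by
    intro b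
    obtain ⟨P, b', hb⟩ := happ N b
    exact ⟨P, by rw [hb, hN, zero_mul, add_zero]⟩
  -- kernel
  have hXN : (X : k[X]) ^ N ∈ RingHom.ker (φ : k[X] →+* B) := by
    rw [RingHom.mem_ker]
    change φ (X ^ N) = 0
    rw [map_pow, hφ, aeval_X, hN]
  obtain ⟨f, hf⟩ : ∃ f : k[X], RingHom.ker (φ : k[X] →+* B) = Ideal.span {f} :=
    ⟨_, (Ideal.span_singleton_generator _).symm⟩
  have hdvd : f ∣ X ^ N := by
    rw [hf, Ideal.mem_span_singleton] at hXN
    exact hXN
  obtain ⟨i, -, hi⟩ := (dvd_prime_pow (Polynomial.prime_X (R := k)) N).mp hdvd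
  have hker : RingHom.ker (φ : k[X] →+* B) = Ideal.span {(X : k[X]) ^ i} := by
    rw [hf]
    exact Ideal.span_singleton_eq_span_singleton.mpr hi
  let e1 : (k[X] ⧸ RingHom.ker (φ : k[X] →+* B)) ≃ₐ[k] B :=
    Ideal.quotientKerAlgEquivOfSurjective hsurj
  let e2 : (k[X] ⧸ RingHom.ker (φ : k[X] →+* B)) ≃ₐ[k] (k[X] ⧸ Ideal.span {(X : k[X]) ^ i}) :=
    Ideal.quotientEquivAlgOfEq k hker
  have hfin : Module.finrank k B = i := by
    rw [(e1.symm.trans e2).toLinearEquiv.finrank_eq, finrank_quotient_span_eq_natDegree,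
      natDegree_X_pow]
  have hin : i = n := by rw [← hfin, hn]
  subst hin
  exact ⟨e1.symm.trans e2⟩

theorem exists_span_pair (A : Type u) [CommRing A] [IsRegularLocalRing A]
    (hdim : ringKrullDim A = 2) (g : A) (hgm : g ∈ maximalIdeal A) (hg : g ∉ maximalIdeal A ^ 2) :
    ∃ t ∈ maximalIdeal A, maximalIdeal A ≤ Ideal.span {g, t} := by
  classical
  have h2 : (maximalIdeal A).spanFinrank = 2 := by
    have := IsRegularLocalRing.spanFinrank_maximalIdeal (R := A)
    rw [hdim] at this
    exact_mod_cast this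
  have hfg : (maximalIdeal A).FG := IsNoetherian.noetherian _
  obtain ⟨s, hcard, hspan⟩ := Submodule.FG.exists_span_finset_card_eq_spanFinrank hfg
  rw [h2, Finset.card_eq_two] at hcard
  obtain ⟨a, b, -, rfl⟩ := hcard
  have hspan' : Ideal.span {a, b} = maximalIdeal A := by
    rw [← hspan]; simp [Ideal.span]
  · have hgm' := hgm
    rw [← hspan', Ideal.mem_span_pair] at hgm'
    obtain ⟨α, β, hαβ⟩ := hgm'
    have ha : a ∈ maximalIdeal A := by rw [← hspan']; exact Ideal.subset_span (by simp)
    have hb : b ∈ maximalIdeal A := by rw [← hspan']; exact Ideal.subset_span (by simp)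
    by_cases hα : α ∈ maximalIdeal A
    · by_cases hβ : β ∈ maximalIdeal A
      · exfalso
        apply hg
        rw [← hαβ, pow_two]
        exact Ideal.add_mem _ (Ideal.mul_mem_mul hα ha) (Ideal.mul_mem_mul hβ hb)
      · -- β unit: b ∈ span {g, a}
        have hu : IsUnit β := by
          by_contra h; exact hβ ((mem_maximalIdeal _).mpr h)
        obtain ⟨u, rfl⟩ := hu
        refine ⟨a, ha, ?_⟩
        rw [← hspan', Ideal.span_le]
        intro x hx
        rcases hx with rfl | rfl
        · exact Ideal.subset_span (by simp)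
        · have : x = (↑u⁻¹ : A) * g + (-(↑u⁻¹ : A) * α) * a := by
            rw [← hαβ]
            have h1 : (↑u⁻¹ : A) * (u : A) = 1 := Units.inv_mul u
            linear_combination (-x) * h1
          rw [this]
          exact Ideal.add_mem _ (Ideal.mul_mem_left _ _ (Ideal.subset_span (by simp)))
            (Ideal.mul_mem_left _ _ (Ideal.subset_span (by simp)))
    · have hu : IsUnit α := by
        by_contra h; exact hα ((mem_maximalIdeal _).mpr h)
      obtain ⟨u, rfl⟩ := hu
      refine ⟨b, hb, ?_⟩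
      rw [← hspan', Ideal.span_le]
      intro x hx
      rcases hx with rfl | rfl
      · have : x = (↑u⁻¹ : A) * g + (-(↑u⁻¹ : A) * β) * b := by
          rw [← hαβ]
          have h1 : (↑u⁻¹ : A) * (u : A) = 1 := Units.inv_mul u
          linear_combination (-x) * h1
        rw [this]
        exact Ideal.add_mem _ (Ideal.mul_mem_left _ _ (Ideal.subset_span (by simp)))
          (Ideal.mul_mem_left _ _ (Ideal.subset_span (by simp)))
      · exact Ideal.subset_span (by simp)

theorem main (k : Type u) [Field k]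
    (A : Type u) [CommRing A] [Algebra k A] [IsRegularLocalRing A] (hdim : ringKrullDim A = 2)
    (hres : Function.Surjective (algebraMap k (IsLocalRing.ResidueField A)))
    (I : Ideal A) [Module.Finite k (A ⧸ I)] (n : ℕ) (hn : Module.finrank k (A ⧸ I) = n) (h1 : 1 ≤ n)
    (g : A) (hgI : g ∈ I) (hg : g ∉ IsLocalRing.maximalIdeal A ^ 2) :
    Nonempty ((A ⧸ I) ≃ₐ[k] (Polynomial k ⧸ Ideal.span {(Polynomial.X : Polynomial k) ^ n})) := by
  haveI : Nontrivial (A ⧸ I) := by
    apply Module.nontrivial_of_finrank_pos (R := k)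
    omega
  haveI : IsLocalRing (A ⧸ I) :=
    IsLocalRing.of_surjective' (Ideal.Quotient.mk I) Ideal.Quotient.mk_surjective
  have hmax : (maximalIdeal A).map (Ideal.Quotient.mk I) = maximalIdeal (A ⧸ I) :=
    map_maximalIdeal_of_surjective _ Ideal.Quotient.mk_surjective
  have hItop : I ≠ ⊤ := Ideal.Quotient.nontrivial_iff.mp inferInstance
  obtain ⟨t, htm, ht⟩ := exists_span_pair A hdim g (le_maximalIdeal hItop hgI) hg
  have hmaxt : maximalIdeal (A ⧸ I) = Ideal.span {Ideal.Quotient.mk I t} := by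
    apply le_antisymm
    · rw [← hmax]
      refine (Ideal.map_mono ht).trans ?_
      rw [Ideal.map_span, Ideal.span_le]
      rintro _ ⟨x, hx, rfl⟩
      rcases hx with rfl | rfl
      · rw [Ideal.Quotient.eq_zero_iff_mem.mpr hgI]
        exact Ideal.zero_mem _
      · exact Ideal.subset_span rfl
    · rw [Ideal.span_le, Set.singleton_subset_iff, SetLike.mem_coe, ← hmax]
      exact Ideal.mem_map_of_mem _ htm
  have hdec : ∀ b : A ⧸ I, ∃ c : k, b - algebraMap k (A ⧸ I) c ∈ maximalIdeal (A ⧸ I) := by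
    intro b
    obtain ⟨a, rfl⟩ := Ideal.Quotient.mk_surjective b
    obtain ⟨c, hc⟩ := hres (residue A a)
    refine ⟨c, ?_⟩
    rw [← hmax]
    have : Ideal.Quotient.mk I a - algebraMap k (A ⧸ I) c =
        Ideal.Quotient.mk I (a - algebraMap k A c) := by
      rw [map_sub]; rfl
    rw [this]
    apply Ideal.mem_map_of_mem
    rw [← residue_eq_zero_iff, map_sub, ← hc, sub_eq_zero]
    rfl
  exact curvilinear k (A ⧸ I) hdec _ hmaxt n hn

end Groth.Agent.H2.Curvi
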