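import Mathlib

/-!
# Curvilinear finite subschemes lie on a smooth hypersurface germ (S19438)
-/

namespace Groth.Agent.H2.Curvilinear

open IsLocalRing

universe u

variable (k : Type u) [Field k] (A : Type u) [CommRing A] [Algebra k A] [IsLocalRing A]

/-- elements congruent to `α + β m` modulo `M²` -/
def S (m : A) (hm : m ∈ maximalIdeal A) : Subalgebra k A where
  carrier := {b | ∃ α β : k, b - (algebraMap k A α + algebraMap k A β * m) ∈ maximalIdeal A ^ 2}
  mul_mem' := by
    rintro b₁ b₂ ⟨α₁, β₁, h₁⟩ ⟨α₂, β₂, h₂⟩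
    refine ⟨α₁ * α₂, α₁ * β₂ + α₂ * β₁, ?_⟩
    have hm2 : m ^ 2 ∈ maximalIdeal A ^ 2 := Ideal.pow_mem_pow hm 2
    have e : b₁ * b₂ - (algebraMap k A (α₁ * α₂) + algebraMap k A (α₁ * β₂ + α₂ * β₁) * m) =
        (b₁ - (algebraMap k A α₁ + algebraMap k A β₁ * m)) * b₂ +
          (algebraMap k A α₁ + algebraMap k A β₁ * m) *
            (b₂ - (algebraMap k A α₂ + algebraMap k A β₂ * m)) +
          (algebraMap k A β₁ * algebraMap k A β₂) * m ^ 2 := by
      simp only [map_mul, map_add]; ring
    rw [e]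
    exact Ideal.add_mem _ (Ideal.add_mem _ (Ideal.mul_mem_right _ _ h₁) (Ideal.mul_mem_left _ _ h₂))
      (Ideal.mul_mem_left _ _ hm2)
  add_mem' := by
    rintro b₁ b₂ ⟨α₁, β₁, h₁⟩ ⟨α₂, β₂, h₂⟩
    refine ⟨α₁ + α₂, β₁ + β₂, ?_⟩
    have e : b₁ + b₂ - (algebraMap k A (α₁ + α₂) + algebraMap k A (β₁ + β₂) * m) =
        (b₁ - (algebraMap k A α₁ + algebraMap k A β₁ * m)) +
            (b₂ - (algebraMap k A α₂ + algebraMap k A β₂ * m)) := by
      simp only [map_add]; ring
    rw [e]
    exact Ideal.add_mem _ h₁ h₂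
  algebraMap_mem' := by
    intro r
    refine ⟨r, 0, ?_⟩
    simp

theorem main [IsNoetherianRing A]
    (hres : Function.Surjective (algebraMap k (IsLocalRing.ResidueField A)))
    (hemb : 2 ≤ Module.finrank (IsLocalRing.ResidueField A) (IsLocalRing.CotangentSpace A))
    (I : Ideal A) (hI : I ≠ ⊤)
    (f : A ⧸ I) (hf : Algebra.adjoin k {f} = ⊤) :
    ∃ g ∈ I, g ∉ IsLocalRing.maximalIdeal A ^ 2 := by
  by_contra hcon
  push_neg at hcon
  have hIM : I ≤ maximalIdeal A ^ 2 := hcon
  obtain ⟨a, rfl⟩ := Ideal.Quotient.mk_surjective f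
  obtain ⟨c, hc⟩ := hres (residue A a)
  have hm : a - algebraMap k A c ∈ maximalIdeal A := by
    rw [← IsLocalRing.residue_eq_zero_iff, map_sub, ← hc,
      IsScalarTower.algebraMap_apply k A (ResidueField A), IsLocalRing.ResidueField.algebraMap_eq,
      sub_self]
  set m := a - algebraMap k A c with hmdef
  -- every element is in S
  have hS : ∀ b : A, b ∈ S k A m hm := by
    intro b
    have ha : a ∈ S k A m hm := by
      refine ⟨c, 1, ?_⟩
      have : a - (algebraMap k A c + algebraMap k A 1 * m) = 0 := by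
        rw [map_one, one_mul, hmdef]; ring
      rw [this]; exact Ideal.zero_mem _
    have h1 : (S k A m hm).map (Ideal.Quotient.mkₐ k I) = ⊤ := by
      rw [eq_top_iff, ← hf, Algebra.adjoin_le_iff]
      rintro _ rfl
      exact ⟨a, ha, rfl⟩
    have h2 : Ideal.Quotient.mkₐ k I b ∈ (S k A m hm).map (Ideal.Quotient.mkₐ k I) := by
      rw [h1]; trivial
    obtain ⟨b', ⟨α, β, hb'⟩, hbb'⟩ := h2
    refine ⟨α, β, ?_⟩
    have h3 : b - b' ∈ I := by
      rw [← Ideal.Quotient.eq]
      exact hbb'.symm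
    have e : b - (algebraMap k A α + algebraMap k A β * m) =
        (b - b') + (b' - (algebraMap k A α + algebraMap k A β * m)) := by ring
    rw [e]
    exact Ideal.add_mem _ (hIM h3) hb'
  -- elements of M are multiples of m mod M²
  have hM : ∀ b ∈ maximalIdeal A, ∃ β : k, b - algebraMap k A β * m ∈ maximalIdeal A ^ 2 := by
    intro b hb
    obtain ⟨α, β, h⟩ := hS b
    refine ⟨β, ?_⟩
    have hα : algebraMap k A α ∈ maximalIdeal A := by
      have h1 : b - (algebraMap k A α + algebraMap k A β * m) ∈ maximalIdeal A :=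
        Ideal.pow_le_self two_ne_zero h
      have e : algebraMap k A α = b - algebraMap k A β * m -
          (b - (algebraMap k A α + algebraMap k A β * m)) := by ring
      rw [e]
      exact Ideal.sub_mem _ (Ideal.sub_mem _ hb (Ideal.mul_mem_left _ _ hm)) h1
    have hα0 : α = 0 := by
      by_contra hne
      have hu : IsUnit (algebraMap k A α) := (IsUnit.mk0 α hne).map (algebraMap k A)
      exact (IsLocalRing.mem_maximalIdeal _).1 hα hu
    rw [hα0, map_zero, zero_add] at h
    exact h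
  -- finrank ≤ 1
  have hle : Module.finrank (ResidueField A) (CotangentSpace A) ≤ 1 := by
    apply finrank_le_one ((maximalIdeal A).toCotangent ⟨m, hm⟩)
    intro w
    obtain ⟨⟨b, hb⟩, rfl⟩ := (maximalIdeal A).toCotangent_surjective w
    obtain ⟨β, hβ⟩ := hM b hb
    refine ⟨algebraMap A (ResidueField A) (algebraMap k A β), ?_⟩
    rw [algebraMap_smul, ← map_smul, Ideal.toCotangent_eq]
    have e : (((algebraMap k A β) • (⟨m, hm⟩ : maximalIdeal A) : maximalIdeal A) : A) - b =
        - (b - algebraMap k A β * m) := by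
      simp only [Submodule.coe_smul, smul_eq_mul]; ring
    rw [e]
    exact Ideal.neg_mem_iff _ |>.2 hβ
  omega

end Groth.Agent.H2.Curvilinear
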