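import Mathlib
import Groth.Agent.Lib.Helper5.CA.RegHom1
import Groth.Agent.S9250

/-!
# The Kummer algebra `C[X]/(X^n - c)[1/c]` over a regular ring is regular
-/

set_option autoImplicit false

namespace Groth.Agent.H2.Cyc

open Polynomial

universe u

theorem isRegularRing_of_smooth (A B : Type u) [CommRing A] [CommRing B] [Algebra A B]
    [IsRegularRing A] [Algebra.Smooth A B] : IsRegularRing B := by
  haveI : Algebra.FinitePresentation A B := Algebra.Smooth.finitePresentation
  haveI : IsNoetherianRing B := Algebra.FiniteType.isNoetherianRing A B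
  exact Groth.Agent.S9250.result A B (Groth.Agent.H5.RegHom.isRegularHom_of_smooth A B)

/-- the standard étale pair for `X^n - c`, localized at `c` -/
noncomputable def kummerPair (C : Type u) [CommRing C] (n : ℕ) (hn0 : 0 < n) (ν : C)
    (hν : (n : C) * ν = 1) (c : C) : StandardEtalePair C where
  f := X ^ n - Polynomial.C c
  monic_f := monic_X_pow_sub_C c hn0.ne'
  g := Polynomial.C c
  cond := ⟨Polynomial.C ν * X, -1, 1, by
    obtain ⟨m, rfl⟩ : ∃ m, n = m + 1 := ⟨n - 1, by omega⟩
    rw [derivative_sub, derivative_C, sub_zero, derivative_X_pow, pow_one]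
    have h : (Polynomial.C ((m + 1 : ℕ) : C) * Polynomial.C ν : C[X]) = 1 := by
      rw [← Polynomial.C_mul, hν, Polynomial.C_1]
    have h' : (((m + 1 : ℕ) : C[X]) * Polynomial.C ν : C[X]) = 1 := by
      rw [← h]; simp
    calc ((m + 1 : ℕ) : C[X]) * X ^ (m + 1 - 1) * (Polynomial.C ν * X) + (X ^ (m + 1) - Polynomial.C c) * -1
        = (((m + 1 : ℕ) : C[X]) * Polynomial.C ν) * X ^ (m + 1) - X ^ (m + 1) + Polynomial.C c := by
          rw [Nat.add_sub_cancel, pow_succ]; ring
      _ = Polynomial.C c := by rw [h']; ring⟩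

theorem isRegularRing_kummer (C : Type u) [CommRing C] [IsRegularRing C] (n : ℕ) (hn0 : 0 < n)
    (ν : C) (hν : (n : C) * ν = 1) (c : C) :
    IsRegularRing (Localization.Away
      (AdjoinRoot.mk (X ^ n - Polynomial.C c : C[X]) (Polynomial.C c))) := by
  let P := kummerPair C n hn0 ν hν c
  haveI : IsRegularRing P.Ring := isRegularRing_of_smooth C P.Ring
  exact IsRegularRing.of_ringEquiv P.equivAwayAdjoinRoot.toRingEquiv

end Groth.Agent.H2.Cyc
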