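import Mathlib
import Groth.Agent.Lib.Helper2.CycE
import Groth.Agent.Lib.Helper1.Regular
import Groth.Agent.Lib.Helper1.RegRing

/-!
# `C[T]/(T^n - c)` is regular when `C` and `C/c` are regular, `c` a non-zero-divisor, `n` invertible
-/

set_option autoImplicit false

namespace Groth.Agent.H2.Cyc

open Polynomial IsLocalRing

universe u

/-- regularity at a prime not containing `x`, from regularity of the localization away from `x` -/
theorem isRegularLocalRing_of_away (S : Type u) [CommRing S] (x : S) (Q : Ideal S) [hQ : Q.IsPrime]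
    (hx : x ∉ Q) [IsRegularRing (Localization.Away x)] :
    IsRegularLocalRing (Localization.AtPrime Q) := by
  set S' := Localization.Away x
  have hdisj : Disjoint (Submonoid.powers x : Set S) (Q : Set S) := by
    rw [Set.disjoint_left]
    rintro y ⟨k, rfl⟩ hy
    exact hx (hQ.mem_of_pow_mem k hy)
  let p : Ideal S' := Q.map (algebraMap S S')
  haveI hp : p.IsPrime := IsLocalization.isPrime_of_isPrime_disjoint (Submonoid.powers x) _ Q hQ hdisj
  have hcomap : p.comap (algebraMap S S') = Q :=
    IsLocalization.under_map_of_isPrime_disjoint (Submonoid.powers x) _ hQ hdisj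
  haveI : IsRegularLocalRing (Localization.AtPrime p) := inferInstance
  have hsub : (p.comap (algebraMap S S')).primeCompl = Q.primeCompl := by
    ext y
    rw [Ideal.mem_primeCompl_iff, Ideal.mem_primeCompl_iff, hcomap]
  haveI : IsLocalization.AtPrime (Localization.AtPrime p) Q := by
    have := IsLocalization.isLocalization_isLocalization_atPrime_isLocalization
      (Submonoid.powers x) (Localization.AtPrime p) p
    unfold IsLocalization.AtPrime at this ⊢
    rw [hsub] at this
    exact this
  exact IsRegularLocalRing.of_ringEquiv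
    (IsLocalization.algEquiv Q.primeCompl (Localization.AtPrime p)
      (Localization.AtPrime Q)).toRingEquiv

/-- the local ring of `A/tA` at `q/tA` is `A_q / t A_q` (after helper6) -/
theorem isRegularLocalRing_quotient_localization {A : Type u} [CommRing A] (t : A) (q : Ideal A)
    [q.IsPrime] (Q : Ideal (A ⧸ Ideal.span {t})) [Q.IsPrime]
    (hQ : Q.comap (Ideal.Quotient.mk (Ideal.span {t})) = q)
    (hQreg : IsRegularLocalRing (Localization.AtPrime Q)) :
    IsRegularLocalRing (Localization.AtPrime q ⧸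
      Ideal.span {algebraMap A (Localization.AtPrime q) t}) := by
  haveI : Q.LiesOver q := ⟨hQ.symm⟩
  have heq : Algebra.algebraMapSubmonoid (A ⧸ Ideal.span {t}) q.primeCompl = Q.primeCompl :=
    Ideal.algebraMapSubmonoid_primeCompl_of_liesOver_surjective Q q Ideal.Quotient.mk_surjective
  haveI : IsLocalization Q.primeCompl (Localization.AtPrime q ⧸
      (Ideal.span {t}).map (algebraMap A (Localization.AtPrime q))) := by
    rw [← heq]
    infer_instance
  let e : Localization.AtPrime Q ≃ₐ[A ⧸ Ideal.span {t}] (Localization.AtPrime q ⧸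
      (Ideal.span {t}).map (algebraMap A (Localization.AtPrime q))) :=
    IsLocalization.algEquiv Q.primeCompl _ _
  have hI : (Ideal.span {t}).map (algebraMap A (Localization.AtPrime q)) =
      Ideal.span {algebraMap A (Localization.AtPrime q) t} := by
    rw [Ideal.map_span, Set.image_singleton]
  let e2 := e.toRingEquiv.trans (Ideal.quotEquivOfEq hI)
  exact IsRegularLocalRing.of_ringEquiv e2

/-- regularity at a prime containing a non-zero-divisor `t` with `S/t` regular -/
theorem isRegularLocalRing_of_quotient (S : Type u) [CommRing S] [IsNoetherianRing S] (t : S)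
    (ht : t ∈ nonZeroDivisors S) [IsRegularRing (S ⧸ Ideal.span {t})] (Q : Ideal S) [hQ : Q.IsPrime]
    (htQ : t ∈ Q) : IsRegularLocalRing (Localization.AtPrime Q) := by
  haveI : IsNoetherianRing (Localization.AtPrime Q) :=
    IsLocalization.isNoetherianRing Q.primeCompl _ inferInstance
  have hker : RingHom.ker (Ideal.Quotient.mk (Ideal.span {t})) ≤ Q := by
    rw [Ideal.mk_ker, Ideal.span_le, Set.singleton_subset_iff]
    exact htQ
  haveI hQp : (Q.map (Ideal.Quotient.mk (Ideal.span {t}))).IsPrime :=
    Ideal.map_isPrime_of_surjective Ideal.Quotient.mk_surjective hker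
  have hQ' : (Q.map (Ideal.Quotient.mk (Ideal.span {t}))).comap
      (Ideal.Quotient.mk (Ideal.span {t})) = Q := by
    rw [Ideal.comap_map_of_surjective _ Ideal.Quotient.mk_surjective, sup_eq_left]
    exact hker
  have hreg' : algebraMap S (Localization.AtPrime Q) t ∈
      nonZeroDivisors (Localization.AtPrime Q) :=
    IsLocalization.map_nonZeroDivisors_le Q.primeCompl (Localization.AtPrime Q)
      (Submonoid.mem_map_of_mem _ ht)
  have hmem : algebraMap S (Localization.AtPrime Q) t ∈ maximalIdeal (Localization.AtPrime Q) :=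
    (IsLocalization.AtPrime.to_map_mem_maximal_iff (Localization.AtPrime Q) Q t).mpr htQ
  haveI := isRegularLocalRing_quotient_localization t Q
    (Q.map (Ideal.Quotient.mk (Ideal.span {t}))) hQ' inferInstance
  exact Groth.Agent.H1.isRegularLocalRing_of_quotient_span_singleton (Localization.AtPrime Q)
    (algebraMap S (Localization.AtPrime Q) t) hmem hreg'


theorem root_pow_eq (C : Type u) [CommRing C] (n : ℕ) (c : C) :
    AdjoinRoot.root (X ^ n - Polynomial.C c : C[X]) ^ n =
      AdjoinRoot.of (X ^ n - Polynomial.C c : C[X]) c := by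
  have h := AdjoinRoot.eval₂_root (X ^ n - Polynomial.C c : C[X])
  rw [eval₂_sub, eval₂_pow, eval₂_X, eval₂_C, sub_eq_zero] at h
  exact h

theorem smul_eq_zero_of_nonZeroDivisor {C M : Type*} [CommRing C] [AddCommGroup M] [Module C M]
    [Module.Free C M] (c : C) (hc : c ∈ nonZeroDivisors C) (z : M) (h : c • z = 0) : z = 0 := by
  let b := Module.Free.chooseBasis C M
  apply b.repr.injective
  rw [map_zero]
  ext i
  have h1 := congrArg (fun w => b.repr w i) h
  simp only [map_smul, Finsupp.smul_apply, smul_eq_mul, map_zero, Finsupp.zero_apply] at h1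
  rw [Finsupp.zero_apply]
  rw [mul_comm] at h1
  exact (mem_nonZeroDivisors_iff_right.mp hc) _ h1

theorem root_nonZeroDivisor (C : Type u) [CommRing C] (n : ℕ) (hn0 : 0 < n) (c : C)
    (hc : c ∈ nonZeroDivisors C) :
    AdjoinRoot.root (X ^ n - Polynomial.C c : C[X]) ∈
      nonZeroDivisors (AdjoinRoot (X ^ n - Polynomial.C c : C[X])) := by
  have hmonic : (X ^ n - Polynomial.C c : C[X]).Monic := monic_X_pow_sub_C c hn0.ne'
  haveI : Module.Free C (AdjoinRoot (X ^ n - Polynomial.C c : C[X])) :=
    Module.Free.of_basis (AdjoinRoot.powerBasis' hmonic).basis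
  rw [mem_nonZeroDivisors_iff_right]
  intro z hz
  have h0 : ∀ k : ℕ, 0 < k → z * AdjoinRoot.root (X ^ n - Polynomial.C c : C[X]) ^ k = 0 := by
    intro k hk
    obtain ⟨m, rfl⟩ := Nat.exists_eq_succ_of_ne_zero hk.ne'
    rw [pow_succ', ← mul_assoc, hz, zero_mul]
  have h1 := h0 n hn0
  rw [root_pow_eq] at h1
  apply smul_eq_zero_of_nonZeroDivisor c hc z
  rw [Algebra.smul_def, mul_comm]
  exact h1

/-- `(C[T]/(T^n - c))/(T) ≃ C/(c)` -/
noncomputable def quotRootEquiv (C : Type u) [CommRing C] (n : ℕ) (hn0 : 0 < n) (c : C) :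
    (AdjoinRoot (X ^ n - Polynomial.C c : C[X]) ⧸
      Ideal.span {AdjoinRoot.root (X ^ n - Polynomial.C c : C[X])}) ≃+* (C ⧸ Ideal.span {c}) := by
  set f := (X ^ n - Polynomial.C c : C[X]) with hf
  have hc0 : Ideal.Quotient.mk (Ideal.span {c}) c = 0 :=
    Ideal.Quotient.eq_zero_iff_mem.mpr (Ideal.mem_span_singleton_self c)
  let φ : AdjoinRoot f →+* C ⧸ Ideal.span {c} :=
    AdjoinRoot.lift (Ideal.Quotient.mk (Ideal.span {c})) 0 (by
      rw [hf, eval₂_sub, eval₂_pow, eval₂_X, eval₂_C, zero_pow hn0.ne', hc0, sub_zero])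
  have hφT : φ (AdjoinRoot.root f) = 0 := AdjoinRoot.lift_root _
  let φ' : AdjoinRoot f ⧸ Ideal.span {AdjoinRoot.root f} →+* C ⧸ Ideal.span {c} :=
    Ideal.Quotient.lift _ φ (by
      intro a ha
      rw [Ideal.mem_span_singleton'] at ha
      obtain ⟨b, rfl⟩ := ha
      rw [map_mul, hφT, mul_zero])
  let ψ : C ⧸ Ideal.span {c} →+* AdjoinRoot f ⧸ Ideal.span {AdjoinRoot.root f} :=
    Ideal.Quotient.lift _ ((Ideal.Quotient.mk _).comp (AdjoinRoot.of f)) (by
      intro a ha
      rw [Ideal.mem_span_singleton'] at ha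
      obtain ⟨b, rfl⟩ := ha
      rw [RingHom.comp_apply, map_mul, ← root_pow_eq, Ideal.Quotient.eq_zero_iff_mem]
      apply Ideal.mul_mem_left
      have hk : ∀ k : ℕ, 0 < k → AdjoinRoot.root f ^ k ∈ Ideal.span {AdjoinRoot.root f} := by
        intro k hk
        obtain ⟨m, rfl⟩ := Nat.exists_eq_succ_of_ne_zero hk.ne'
        rw [pow_succ]
        exact Ideal.mul_mem_left _ _ (Ideal.mem_span_singleton_self _)
      exact hk n hn0)
  refine RingEquiv.ofRingHom φ' ψ ?_ ?_
  · apply Ideal.Quotient.ringHom_ext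
    ext x
    simp only [RingHom.comp_apply, RingHom.id_apply]
    show φ (AdjoinRoot.of f x) = _
    rw [AdjoinRoot.lift_of]
  · apply Ideal.Quotient.ringHom_ext
    apply AdjoinRoot.ringHom_ext
    · ext x
      simp only [RingHom.comp_apply, RingHom.id_apply]
      show ψ (φ (AdjoinRoot.of f x)) = _
      rw [AdjoinRoot.lift_of]
      rfl
    · simp only [RingHom.comp_apply, RingHom.id_apply]
      show ψ (φ (AdjoinRoot.root f)) = _
      rw [hφT, map_zero, eq_comm, Ideal.Quotient.eq_zero_iff_mem]
      exact Ideal.mem_span_singleton_self _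

theorem isRegularRing_eisenstein (C : Type u) [CommRing C] [IsRegularRing C] (n : ℕ) (hn0 : 0 < n)
    (ν : C) (hν : (n : C) * ν = 1) (c : C) (hc : c ∈ nonZeroDivisors C)
    [IsRegularRing (C ⧸ Ideal.span {c})] :
    IsRegularRing (AdjoinRoot (X ^ n - Polynomial.C c : C[X])) := by
  set f := (X ^ n - Polynomial.C c : C[X]) with hf
  haveI : IsNoetherianRing (AdjoinRoot f) := inferInstance
  rw [isRegularRing_iff]
  intro Q hQ
  by_cases hcQ : AdjoinRoot.of f c ∈ Q
  · have hT : AdjoinRoot.root f ∈ Q := by
      have h1 : AdjoinRoot.root f ^ n = AdjoinRoot.of f c := root_pow_eq C n c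
      rw [← h1] at hcQ
      exact hQ.mem_of_pow_mem n hcQ
    haveI : IsRegularRing (AdjoinRoot f ⧸ Ideal.span {AdjoinRoot.root f}) :=
      IsRegularRing.of_ringEquiv (quotRootEquiv C n hn0 c).symm
    exact isRegularLocalRing_of_quotient (AdjoinRoot f) (AdjoinRoot.root f)
      (root_nonZeroDivisor C n hn0 c hc) Q hT
  · haveI : IsRegularRing (Localization.Away (AdjoinRoot.of f c)) :=
      isRegularRing_kummer C n hn0 ν hν c
    exact isRegularLocalRing_of_away (AdjoinRoot f) (AdjoinRoot.of f c) Q hcQ

end Groth.Agent.H2.Cyc
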