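import Mathlib
import Groth.Agent.Lib.Helper1.RegNormal
import Groth.Agent.Lib.Helper7.Reg1

/-!
# A ring with regular local rings is integrally closed in `R[1/f]`, `f` a non-zero-divisor
-/

set_option autoImplicit false

namespace Groth.Agent.H2.Cyc

universe u

theorem mem_range_of_isIntegral (R : Type u) [CommRing R]
    (hR : ∀ m : Ideal R, ∀ hm : m.IsMaximal,
      IsRegularLocalRing (Localization.AtPrime m (hp := hm.isPrime)))
    (K : Type u) [CommRing K] [Algebra R K] (f : R) [IsLocalization.Away f K]
    (hf : f ∈ nonZeroDivisors R) (x : K) (hx : IsIntegral R x) :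
    x ∈ (algebraMap R K).range := by
  classical
  -- the conductor ideal of `x`
  let I : Ideal R :=
    { carrier := {c | algebraMap R K c * x ∈ (algebraMap R K).range}
      add_mem' := by
        intro a b ha hb
        simp only [Set.mem_ofPred_eq] at *
        rw [map_add, add_mul]
        exact add_mem ha hb
      zero_mem' := by
        show algebraMap R K 0 * x ∈ (algebraMap R K).range
        rw [map_zero, zero_mul]; exact zero_mem _
      smul_mem' := by
        intro c a ha
        simp only [Set.mem_ofPred_eq, smul_eq_mul] at *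
        rw [map_mul, mul_assoc]
        exact mul_mem ⟨c, rfl⟩ ha }
  by_contra hxr
  have hI : I ≠ ⊤ := by
    intro h
    have : (1 : R) ∈ I := by rw [h]; trivial
    have h1 : algebraMap R K 1 * x ∈ (algebraMap R K).range := this
    rw [map_one, one_mul] at h1
    exact hxr h1
  obtain ⟨m, hm, hIm⟩ := Ideal.exists_le_maximal I hI
  have := hm.isPrime
  have := hR m hm
  set Rm := Localization.AtPrime m
  have : IsDomain Rm := Groth.Agent.H7.Reg.isDomain Rm
  have : IsIntegrallyClosed Rm := Groth.Agent.H1.Reg.isIntegrallyClosed Rm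
  set L := FractionRing Rm
  have hfm : algebraMap R Rm f ≠ 0 := by
    have : algebraMap R Rm f ∈ nonZeroDivisors Rm :=
      IsLocalization.map_nonZeroDivisors_le m.primeCompl Rm (Submonoid.mem_map_of_mem _ hf)
    exact nonZeroDivisors.ne_zero this
  have hfL : IsUnit (((algebraMap Rm L).comp (algebraMap R Rm)) f) := by
    rw [RingHom.comp_apply]
    apply IsUnit.mk0
    rwa [Ne, IsFractionRing.to_map_eq_zero_iff]
  let φ : K →+* L := IsLocalization.Away.lift f hfL
  have hφ : ∀ r : R, φ (algebraMap R K r) = algebraMap Rm L (algebraMap R Rm r) := by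
    intro r
    exact IsLocalization.Away.lift_eq f hfL r
  -- `φ x` is integral over `Rm`
  have hint : IsIntegral Rm (φ x) := by
    obtain ⟨p, hp, hpx⟩ := hx
    refine ⟨p.map (algebraMap R Rm), hp.map _, ?_⟩
    rw [Polynomial.eval₂_map]
    have : Polynomial.eval₂ ((algebraMap Rm L).comp (algebraMap R Rm)) (φ x) p =
        φ (Polynomial.eval₂ (algebraMap R K) x p) := by
      rw [Polynomial.hom_eval₂]
      congr 1
      ext r
      exact (hφ r).symm
    rw [this, hpx, map_zero]
  obtain ⟨y, hy⟩ := IsIntegrallyClosed.isIntegral_iff.mp hint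
  obtain ⟨r', c', rfl⟩ := IsLocalization.exists_mk'_eq m.primeCompl y
  obtain ⟨⟨r, s⟩, hrs⟩ := IsLocalization.surj (Submonoid.powers f) x
  obtain ⟨n, hn⟩ := s.2
  have hxr' : x * algebraMap R K (f ^ n) = algebraMap R K r := by
    have hn' : f ^ n = (s : R) := hn
    rw [hn']; exact hrs
  -- in `Rm`: `mk' r' c' * f^n = r`
  have h1 : IsLocalization.mk' Rm r' c' * algebraMap R Rm (f ^ n) = algebraMap R Rm r := by
    apply IsFractionRing.injective Rm L
    rw [map_mul, hy, ← hφ, ← hφ, ← map_mul, hxr']
  have h2 : algebraMap R Rm (r' * f ^ n) = algebraMap R Rm (r * c') := by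
    rw [map_mul, map_mul, ← h1]
    have := IsLocalization.mk'_spec Rm r' c'
    calc algebraMap R Rm r' * algebraMap R Rm (f ^ n)
        = (IsLocalization.mk' Rm r' c' * algebraMap R Rm c') * algebraMap R Rm (f ^ n) := by
          rw [this]
      _ = _ := by ring
  obtain ⟨c'', hc''⟩ := (IsLocalization.eq_iff_exists m.primeCompl Rm).mp h2
  -- so `c'' c' ∈ I`
  have hmem : (c'' : R) * (c' : R) ∈ I := by
    show algebraMap R K ((c'' : R) * (c' : R)) * x ∈ (algebraMap R K).range
    refine ⟨(c'' : R) * r', ?_⟩
    have hfu : IsUnit (algebraMap R K (f ^ n)) := by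
      rw [map_pow]
      exact (IsLocalization.Away.algebraMap_isUnit f).pow n
    apply hfu.mul_right_cancel
    rw [← map_mul, mul_assoc, hc'', mul_assoc, hxr', map_mul, map_mul, map_mul]
    ring
  have : (c'' : R) * (c' : R) ∈ m := hIm hmem
  rcases hm.isPrime.mem_or_mem this with h | h
  · exact c''.2 h
  · exact c'.2 h

end Groth.Agent.H2.Cyc
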