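import Mathlib
import Groth.Agent.Lib.Helper2.CycG

/-!
# From a regular presentation of a subalgebra `A ⊆ K = A'[1/f]` to normality and regularity
-/

set_option autoImplicit false

namespace Groth.Agent.H2.Cyc

universe u

theorem conclude (B A' K : Type u) [CommRing B] [CommRing A'] [CommRing K] [Algebra B A']
    [Algebra A' K] [Algebra B K] [IsScalarTower B A' K] [Algebra.IsIntegral B A'] (f₁ : B)
    [IsLocalization.Away (algebraMap B A' f₁) K] (A : Subalgebra B K)
    (hint : ∀ x ∈ A, IsIntegral B x)
    (R : Type u) [CommRing R] [IsRegularRing R] (Ψ : R →+* K) (hinj : Function.Injective Ψ)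
    (hrange : ∀ x : K, x ∈ A ↔ x ∈ Ψ.range) (hA' : ∀ a' : A', algebraMap A' K a' ∈ A) :
    IsIntegralClosure A A' K ∧
      ∀ (Q : Ideal A) [Q.IsPrime], IsRegularLocalRing (Localization.AtPrime Q) := by
  -- the ring isomorphism `R ≃ A`
  have hmem : ∀ r : R, Ψ r ∈ A := fun r => (hrange _).mpr ⟨r, rfl⟩
  let ΨA : R →+* A := Ψ.codRestrict A.toSubring hmem
  have hΨA : Function.Bijective ΨA := by
    constructor
    · intro x y hxy
      apply hinj
      exact congrArg Subtype.val hxy
    · rintro ⟨x, hx⟩
      obtain ⟨r, hr⟩ := (hrange x).mp hx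
      exact ⟨r, Subtype.ext hr⟩
  let e : R ≃+* A := RingEquiv.ofBijective ΨA hΨA
  haveI : IsRegularRing A := IsRegularRing.of_ringEquiv e
  refine ⟨?_, fun Q _ => inferInstance⟩
  -- `K` is the localization of `A` away from `f₁`
  let fA : A := algebraMap B A f₁
  have hfK : algebraMap A K fA = algebraMap A' K (algebraMap B A' f₁) := by
    show algebraMap B K f₁ = _
    rw [IsScalarTower.algebraMap_apply B A' K]
  have hunit : IsUnit (algebraMap A K fA) := by
    rw [hfK]
    exact IsLocalization.Away.algebraMap_isUnit _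
  haveI : IsLocalization.Away fA K := by
    show IsLocalization (Submonoid.powers fA) K
    rw [isLocalization_iff]
    refine ⟨?_, ?_, ?_⟩
    · rintro ⟨y, n, rfl⟩
      simp only [map_pow]
      exact hunit.pow n
    · intro z
      obtain ⟨⟨a', s⟩, hs⟩ := IsLocalization.surj (Submonoid.powers (algebraMap B A' f₁)) z
      obtain ⟨n, hn⟩ := s.2
      refine ⟨⟨⟨algebraMap A' K a', hA' a'⟩, ⟨fA ^ n, n, rfl⟩⟩, ?_⟩
      show z * algebraMap A K (fA ^ n) = algebraMap A' K a'
      rw [map_pow, hfK, ← map_pow]
      have hn' : algebraMap B A' f₁ ^ n = (s : A') := hn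
      rw [hn']
      exact hs
    · intro x y hxy
      refine ⟨1, ?_⟩
      have : x = y := Subtype.ext hxy
      rw [this]
  have hnzd : fA ∈ nonZeroDivisors A := by
    rw [mem_nonZeroDivisors_iff_right]
    intro z hz
    apply Subtype.ext
    have h1 : (z : K) * algebraMap A K fA = 0 := by
      have := congrArg (algebraMap A K) hz
      rwa [map_mul, map_zero] at this
    exact (hunit.mul_left_eq_zero).mp h1
  constructor
  · exact Subtype.val_injective
  · intro x
    constructor
    · intro hx
      have hxB : IsIntegral B x := isIntegral_trans (A := A') x hx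
      have hxA : IsIntegral A x := hxB.tower_top
      have := mem_range_of_isIntegral A (fun m hm => inferInstance) K fA hnzd x hxA
      obtain ⟨y, hy⟩ := this
      exact ⟨y, hy⟩
    · rintro ⟨y, rfl⟩
      have h1 : IsIntegral B ((y : A) : K) := hint _ y.2
      exact h1.tower_top

end Groth.Agent.H2.Cyc
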