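import Mathlib
import Groth.Agent.Lib.Helper2.CycF

/-!
# The model ring `R = B[S,T]/(S^d - u, T^{N'} - S^a f₁)` and its regularity
-/

set_option autoImplicit false

namespace Groth.Agent.H2.Cyc

open Polynomial

universe u

variable {B : Type u} [CommRing B]

/-- `B₁ = B[S]/(S^d - u)` -/
abbrev B1 (u : Bˣ) (d : ℕ) : Type u := AdjoinRoot (X ^ d - C (u : B) : B[X])

/-- the element `S^a f₁` of `B₁` -/
noncomputable abbrev cR (u : Bˣ) (f₁ : B) (d a : ℕ) : B1 u d :=
  AdjoinRoot.root (X ^ d - C (u : B) : B[X]) ^ a * AdjoinRoot.of (X ^ d - C (u : B) : B[X]) f₁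

/-- `R = B₁[T]/(T^{N'} - S^a f₁)` -/
abbrev RR (u : Bˣ) (f₁ : B) (d N' a : ℕ) : Type u :=
  AdjoinRoot (X ^ N' - C (cR u f₁ d a) : (B1 u d)[X])

theorem isRegularRing_of_subsingleton (S : Type u) [CommRing S] [Subsingleton S] : IsRegularRing S := by
  haveI : IsNoetherianRing S := inferInstance
  rw [isRegularRing_iff]
  intro p hp
  exact absurd (Subsingleton.elim _ _) hp.ne_top

theorem isUnit_root_B1 (u : Bˣ) (d : ℕ) (hd : 0 < d) :
    IsUnit (AdjoinRoot.root (X ^ d - C (u : B) : B[X])) := by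
  have h := root_pow_eq B d (u : B)
  have hu : IsUnit (AdjoinRoot.of (X ^ d - C (u : B) : B[X]) (u : B)) := u.isUnit.map _
  rw [← h] at hu
  exact (isUnit_pow_iff hd.ne').mp hu

/-- `B₁` is regular when `B` is and `d` is invertible -/
theorem isRegularRing_B1 [IsRegularRing B] (u : Bˣ) (d : ℕ) (hd : 0 < d) (ν : B)
    (hν : (d : B) * ν = 1) : IsRegularRing (B1 u d) := by
  haveI : Subsingleton (B ⧸ Ideal.span {(u : B)}) := by
    rw [Ideal.Quotient.subsingleton_iff, Ideal.span_singleton_eq_top]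
    exact u.isUnit
  haveI : IsRegularRing (B ⧸ Ideal.span {(u : B)}) := isRegularRing_of_subsingleton _
  exact isRegularRing_eisenstein B d hd ν hν (u : B) u.isUnit.mem_nonZeroDivisors

theorem of_mem_nonZeroDivisors_B1 [IsDomain B] (u : Bˣ) (d : ℕ) (hd : 0 < d) (x : B) (hx : x ≠ 0) :
    AdjoinRoot.of (X ^ d - C (u : B) : B[X]) x ∈ nonZeroDivisors (B1 u d) := by
  have hmonic : (X ^ d - C (u : B) : B[X]).Monic := monic_X_pow_sub_C _ hd.ne'
  haveI : Module.Free B (B1 u d) := hmonic.free_adjoinRoot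
  rw [mem_nonZeroDivisors_iff_right]
  intro z hz
  apply smul_eq_zero_of_nonZeroDivisor x (mem_nonZeroDivisors_of_ne_zero hx) z
  rw [Algebra.smul_def, mul_comm]
  exact hz

/-- `B₁/(f₁) ≃ (B/f₁)[S]/(S^d - ū)` is regular -/
theorem isRegularRing_B1_quot [IsRegularRing B] (u : Bˣ) (f₁ : B) (d : ℕ) (hd : 0 < d) (ν : B)
    (hν : (d : B) * ν = 1) [IsRegularRing (B ⧸ Ideal.span {f₁})] :
    IsRegularRing (B1 u d ⧸ Ideal.span {AdjoinRoot.of (X ^ d - C (u : B) : B[X]) f₁}) := by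
  set I : Ideal B := Ideal.span {f₁}
  set ubar : (B ⧸ I)ˣ := Units.map (Ideal.Quotient.mk I).toMonoidHom u
  haveI : IsRegularRing (B1 ubar d) :=
    isRegularRing_B1 ubar d hd (Ideal.Quotient.mk I ν) (by
      rw [← map_natCast (Ideal.Quotient.mk I), ← map_mul, hν, map_one])
  have hmap : (X ^ d - C (u : B) : B[X]).map (Ideal.Quotient.mk I) = X ^ d - C (ubar : B ⧸ I) := by
    rw [Polynomial.map_sub, Polynomial.map_pow, Polynomial.map_X, Polynomial.map_C]
    rfl
  have hI : I.map (AdjoinRoot.of (X ^ d - C (u : B) : B[X])) =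
      Ideal.span {AdjoinRoot.of (X ^ d - C (u : B) : B[X]) f₁} := by
    rw [Ideal.map_span, Set.image_singleton]
  let e1 := AdjoinRoot.quotAdjoinRootEquivQuotPolynomialQuot I (X ^ d - C (u : B) : B[X])
  let e2 : (B ⧸ I)[X] ⧸ Ideal.span {(X ^ d - C (u : B) : B[X]).map (Ideal.Quotient.mk I)} ≃+*
      B1 ubar d := Ideal.quotEquivOfEq (by rw [hmap])
  let e3 := (Ideal.quotEquivOfEq hI).symm.trans (e1.trans e2)
  exact IsRegularRing.of_ringEquiv e3.symm

/-- the model ring is regular -/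
theorem isRegularRing_RR [IsDomain B] [IsRegularRing B] (u : Bˣ) (f₁ : B) (hf₁ : f₁ ≠ 0)
    [IsRegularRing (B ⧸ Ideal.span {f₁})] (d N' a : ℕ) (hd : 0 < d) (hN' : 0 < N')
    (νd : B) (hνd : (d : B) * νd = 1) (νN : B) (hνN : (N' : B) * νN = 1) :
    IsRegularRing (RR u f₁ d N' a) := by
  haveI : IsRegularRing (B1 u d) := isRegularRing_B1 u d hd νd hνd
  have hSu : IsUnit (AdjoinRoot.root (X ^ d - C (u : B) : B[X]) ^ a) := (isUnit_root_B1 u d hd).pow a
  have hspan : Ideal.span {cR u f₁ d a} =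
      Ideal.span {AdjoinRoot.of (X ^ d - C (u : B) : B[X]) f₁} :=
    Ideal.span_singleton_mul_left_unit hSu _
  haveI : IsRegularRing (B1 u d ⧸ Ideal.span {cR u f₁ d a}) := by
    haveI := isRegularRing_B1_quot u f₁ d hd νd hνd
    exact IsRegularRing.of_ringEquiv (Ideal.quotEquivOfEq hspan).symm
  have hnzd : cR u f₁ d a ∈ nonZeroDivisors (B1 u d) :=
    mul_mem hSu.mem_nonZeroDivisors (of_mem_nonZeroDivisors_B1 u d hd f₁ hf₁)
  exact isRegularRing_eisenstein (B1 u d) N' hN' (AdjoinRoot.of _ νN) (by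
    rw [← map_natCast (AdjoinRoot.of (X ^ d - C (u : B) : B[X])), ← map_mul, hνN, map_one])
    (cR u f₁ d a) hnzd

end Groth.Agent.H2.Cyc
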