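import Mathlib
import Groth.Agent.Lib.Helper2.CycP1

/-!
# The presentation map `Ψ : R → K` and the section `Θ₀ : A' → R`
-/

set_option autoImplicit false

namespace Groth.Agent.H2.Cyc

open Polynomial

universe u

section KSide

variable {B : Type u} [CommRing B] (u : Bˣ) (f₁ : B) (N α d N' α' a b : ℕ)
  {K : Type u} [CommRing K] [Algebra B K] (tK iK : K)

/-- `s = t^{N'} f₁^{-α'}` -/
def sK : K := tK ^ N' * iK ^ α'

/-- `τ = t^a f₁^{-b}` -/
def tauK : K := tK ^ a * iK ^ b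

variable {u f₁ N α d N' α' a b tK iK}
variable (hNd : N = d * N') (hαd : α = d * α') (hab : a * α' = 1 + b * N')
  (hφi : algebraMap B K f₁ * iK = 1)
  (htK : tK ^ N = algebraMap B K (u : B) * algebraMap B K f₁ ^ α)

include hNd hαd hφi htK in
theorem sK_pow : sK N' α' tK iK ^ d = algebraMap B K (u : B) := by
  unfold sK
  rw [mul_pow, ← pow_mul, ← pow_mul, mul_comm N' d, mul_comm α' d, ← hNd, ← hαd, htK, mul_assoc,
    ← mul_pow, hφi, one_pow, mul_one]

include hab hφi in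
theorem tauK_pow : tauK a b tK iK ^ N' = sK N' α' tK iK ^ a * algebraMap B K f₁ := by
  unfold tauK sK
  rw [mul_pow, mul_pow, ← pow_mul, ← pow_mul, ← pow_mul, ← pow_mul, mul_comm α' a, hab, pow_add,
    pow_one, mul_comm N' a]
  have : iK * iK ^ (b * N') * algebraMap B K f₁ = iK ^ (b * N') := by
    rw [mul_comm iK, mul_assoc, mul_comm iK, hφi, mul_one]
  rw [mul_assoc, this]

/-- `Ψ₁ : B₁ → K`, `S ↦ s` -/
noncomputable def Psi1 (hs : sK N' α' tK iK ^ d = algebraMap B K (u : B)) : B1 u d →+* K :=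
  AdjoinRoot.lift (algebraMap B K) (sK N' α' tK iK) (by
    rw [eval₂_sub, eval₂_pow, eval₂_X, eval₂_C, hs, sub_self])

theorem Psi1_root (hs : sK N' α' tK iK ^ d = algebraMap B K (u : B)) :
    Psi1 hs (AdjoinRoot.root _) = sK N' α' tK iK := AdjoinRoot.lift_root _

theorem Psi1_of (hs : sK N' α' tK iK ^ d = algebraMap B K (u : B)) (x : B) :
    Psi1 hs (AdjoinRoot.of _ x) = algebraMap B K x := AdjoinRoot.lift_of _

/-- `Ψ : R → K`, `S ↦ s`, `T ↦ τ` -/
noncomputable def Psi (hs : sK N' α' tK iK ^ d = algebraMap B K (u : B))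
    (hτ : tauK a b tK iK ^ N' = sK N' α' tK iK ^ a * algebraMap B K f₁) : RR u f₁ d N' a →+* K :=
  AdjoinRoot.lift (Psi1 hs) (tauK a b tK iK) (by
    rw [eval₂_sub, eval₂_pow, eval₂_X, eval₂_C, cR, map_mul, map_pow, Psi1_root, Psi1_of, hτ,
      sub_self])

theorem Psi_root (hs : sK N' α' tK iK ^ d = algebraMap B K (u : B))
    (hτ : tauK a b tK iK ^ N' = sK N' α' tK iK ^ a * algebraMap B K f₁) :
    Psi hs hτ (AdjoinRoot.root _) = tauK a b tK iK := AdjoinRoot.lift_root _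

theorem Psi_of (hs : sK N' α' tK iK ^ d = algebraMap B K (u : B))
    (hτ : tauK a b tK iK ^ N' = sK N' α' tK iK ^ a * algebraMap B K f₁) (x : B1 u d) :
    Psi hs hτ (AdjoinRoot.of _ x) = Psi1 hs x := AdjoinRoot.lift_of _

theorem Psi_algebraMap (hs : sK N' α' tK iK ^ d = algebraMap B K (u : B))
    (hτ : tauK a b tK iK ^ N' = sK N' α' tK iK ^ a * algebraMap B K f₁) (x : B) :
    Psi hs hτ (algebraMap B (RR u f₁ d N' a) x) = algebraMap B K x := by
  rw [AdjoinRoot.algebraMap_eq', RingHom.comp_apply, Psi_of, AdjoinRoot.algebraMap_eq, Psi1_of]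

end KSide

end Groth.Agent.H2.Cyc
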