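import Mathlib
import Groth.Agent.Lib.Helper2.CycP2

/-!
# The section `Θ₀ : A' → R` and injectivity of `Ψ`
-/

set_option autoImplicit false

namespace Groth.Agent.H2.Cyc

open Polynomial

universe u

theorem inv_pow_mul_pow {M : Type*} [CommMonoid M] {x y : M} (h : x * y = 1) (n m : ℕ) :
    y ^ n * x ^ (n + m) = x ^ m := by
  rw [pow_add, ← mul_assoc, ← mul_pow, mul_comm y, h, one_pow, one_mul]

section RSide

variable {B : Type u} [CommRing B] (u : Bˣ) (f₁ : B) (d N' a : ℕ)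

/-- `σ`, the image of `S` in `R` -/
noncomputable def sigR : RR u f₁ d N' a := AdjoinRoot.of _ (AdjoinRoot.root (X ^ d - C (u : B) : B[X]))

/-- the inverse of `σ` -/
noncomputable def sigInvR : RR u f₁ d N' a :=
  AdjoinRoot.of _ (AdjoinRoot.of (X ^ d - C (u : B) : B[X]) ((u⁻¹ : Bˣ) : B) *
    AdjoinRoot.root (X ^ d - C (u : B) : B[X]) ^ (d - 1))

/-- `T`, the root in `R` -/
noncomputable def TR : RR u f₁ d N' a := AdjoinRoot.root _

/-- the image of `f₁` in `R` -/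
noncomputable def FR : RR u f₁ d N' a := algebraMap B (RR u f₁ d N' a) f₁

variable {u f₁ d N' a}

theorem sigR_pow : sigR u f₁ d N' a ^ d = algebraMap B (RR u f₁ d N' a) (u : B) := by
  unfold sigR
  rw [← map_pow, root_pow_eq]
  rfl

theorem sigR_mul_inv (hd : 0 < d) : sigR u f₁ d N' a * sigInvR u f₁ d N' a = 1 := by
  unfold sigR sigInvR
  rw [← map_mul]
  have : AdjoinRoot.root (X ^ d - C (u : B) : B[X]) *
      (AdjoinRoot.of (X ^ d - C (u : B) : B[X]) ((u⁻¹ : Bˣ) : B) *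
        AdjoinRoot.root (X ^ d - C (u : B) : B[X]) ^ (d - 1)) = 1 := by
    have h1 : AdjoinRoot.root (X ^ d - C (u : B) : B[X]) *
        AdjoinRoot.root (X ^ d - C (u : B) : B[X]) ^ (d - 1) =
        AdjoinRoot.root (X ^ d - C (u : B) : B[X]) ^ d := by
      rw [← pow_succ', Nat.sub_add_cancel hd]
    rw [mul_left_comm, h1, root_pow_eq, ← map_mul, Units.inv_mul, map_one]
  rw [this, map_one]

theorem TR_pow : TR u f₁ d N' a ^ N' = sigR u f₁ d N' a ^ a * FR u f₁ d N' a := by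
  unfold TR sigR FR
  rw [root_pow_eq]
  show AdjoinRoot.of _ (AdjoinRoot.root (X ^ d - C (u : B) : B[X]) ^ a *
    AdjoinRoot.of (X ^ d - C (u : B) : B[X]) f₁) = _
  refine (RingHom.map_mul (AdjoinRoot.of (X ^ N' - C (cR u f₁ d a) : (B1 u d)[X])) _ _).trans ?_
  refine congrArg₂ (· * ·) ?_ rfl
  exact RingHom.map_pow (AdjoinRoot.of (X ^ N' - C (cR u f₁ d a) : (B1 u d)[X])) _ _

/-- `t' = σ^{-b} T^{α'}`, the image of `t` in `R` -/
noncomputable def tR (u : Bˣ) (f₁ : B) (d N' a b α' : ℕ) : RR u f₁ d N' a :=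
  sigInvR u f₁ d N' a ^ b * TR u f₁ d N' a ^ α'

variable {N α α' b : ℕ}

theorem tR_pow_N (hd : 0 < d) (hNd : N = d * N') (hαd : α = d * α') (hab : a * α' = 1 + b * N') :
    tR u f₁ d N' a b α' ^ N = algebraMap B (RR u f₁ d N' a) ((u : B) * f₁ ^ α) := by
  unfold tR
  have e1 : α' * N = N' * α := by rw [hNd, hαd]; ring
  have e2 : a * α = b * N + d := by
    rw [hαd, hNd]
    calc a * (d * α') = d * (a * α') := by ring
      _ = d * (1 + b * N') := by rw [hab]
      _ = b * (d * N') + d := by ring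
  have hT : TR u f₁ d N' a ^ (α' * N) = sigR u f₁ d N' a ^ (b * N + d) * FR u f₁ d N' a ^ α := by
    rw [e1, pow_mul, TR_pow, mul_pow, ← pow_mul, e2]
  rw [mul_pow, ← pow_mul, ← pow_mul, hT, ← mul_assoc, inv_pow_mul_pow (sigR_mul_inv hd), sigR_pow]
  refine Eq.symm ((RingHom.map_mul (algebraMap B (RR u f₁ d N' a)) _ _).trans ?_)
  refine congrArg₂ (· * ·) rfl ?_
  exact RingHom.map_pow (algebraMap B (RR u f₁ d N' a)) _ _

theorem rel_S (hd : 0 < d) (hab : a * α' = 1 + b * N') :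
    FR u f₁ d N' a ^ α' * sigR u f₁ d N' a = tR u f₁ d N' a b α' ^ N' := by
  unfold tR
  have hT : TR u f₁ d N' a ^ (α' * N') = sigR u f₁ d N' a ^ (b * N' + 1) * FR u f₁ d N' a ^ α' := by
    rw [mul_comm α' N', pow_mul, TR_pow, mul_pow, ← pow_mul, hab, add_comm 1]
  rw [mul_pow, ← pow_mul, ← pow_mul, hT, ← mul_assoc, inv_pow_mul_pow (sigR_mul_inv hd), pow_one,
    mul_comm]

theorem rel_T (hd : 0 < d) (hab : a * α' = 1 + b * N') :
    FR u f₁ d N' a ^ b * TR u f₁ d N' a = tR u f₁ d N' a b α' ^ a := by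
  unfold tR
  have hT : TR u f₁ d N' a ^ (α' * a) =
      TR u f₁ d N' a * (sigR u f₁ d N' a ^ (a * b) * FR u f₁ d N' a ^ b) := by
    rw [mul_comm α' a, hab, pow_add, pow_one, mul_comm b N', pow_mul, TR_pow, mul_pow, ← pow_mul]
  have h := inv_pow_mul_pow (sigR_mul_inv (u := u) (f₁ := f₁) (N' := N') (a := a) hd) (b * a) 0
  rw [add_zero, pow_zero, mul_comm b a] at h
  rw [mul_pow, ← pow_mul, ← pow_mul, hT, mul_comm b a]
  calc FR u f₁ d N' a ^ b * TR u f₁ d N' a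
      = (sigInvR u f₁ d N' a ^ (a * b) * sigR u f₁ d N' a ^ (a * b)) *
          (FR u f₁ d N' a ^ b * TR u f₁ d N' a) := by rw [h, one_mul]
    _ = _ := by ring

/-- `Θ₀ : A' → R`, `t ↦ t'` -/
noncomputable def Theta0 (hd : 0 < d) (hNd : N = d * N') (hαd : α = d * α')
    (hab : a * α' = 1 + b * N') :
    AdjoinRoot (X ^ N - C ((u : B) * f₁ ^ α) : B[X]) →+* RR u f₁ d N' a :=
  AdjoinRoot.lift (algebraMap B (RR u f₁ d N' a)) (tR u f₁ d N' a b α') (by
    rw [eval₂_sub, eval₂_pow, eval₂_X, eval₂_C, tR_pow_N hd hNd hαd hab, sub_self])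

theorem Theta0_root (hd : 0 < d) (hNd : N = d * N') (hαd : α = d * α')
    (hab : a * α' = 1 + b * N') :
    Theta0 hd hNd hαd hab (AdjoinRoot.root _) = tR u f₁ d N' a b α' := AdjoinRoot.lift_root _

theorem Theta0_of (hd : 0 < d) (hNd : N = d * N') (hαd : α = d * α')
    (hab : a * α' = 1 + b * N') (x : B) :
    Theta0 (u := u) (f₁ := f₁) hd hNd hαd hab (AdjoinRoot.of _ x) =
      algebraMap B (RR u f₁ d N' a) x := AdjoinRoot.lift_of _

/-- every element of `R`, multiplied by a power of `f₁`, lies in the image of `Θ₀` -/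
theorem exists_pow_mul_mem_range (hd : 0 < d) (hNd : N = d * N') (hαd : α = d * α')
    (hab : a * α' = 1 + b * N') (r : RR u f₁ d N' a) :
    ∃ (M : ℕ) (a' : AdjoinRoot (X ^ N - C ((u : B) * f₁ ^ α) : B[X])),
      FR u f₁ d N' a ^ M * r = Theta0 hd hNd hαd hab a' := by
  set Θ := Theta0 (u := u) (f₁ := f₁) hd hNd hαd hab with hΘ
  -- the predicate
  let P : RR u f₁ d N' a → Prop := fun r => ∃ (M : ℕ) (a' : _), FR u f₁ d N' a ^ M * r = Θ a'
  have hadd : ∀ r₁ r₂, P r₁ → P r₂ → P (r₁ + r₂) := by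
    rintro r₁ r₂ ⟨M₁, a₁, h₁⟩ ⟨M₂, a₂, h₂⟩
    refine ⟨M₁ + M₂, algebraMap B _ (f₁ ^ M₂) * a₁ + algebraMap B _ (f₁ ^ M₁) * a₂, ?_⟩
    have e : ∀ k : ℕ, Θ (algebraMap B _ (f₁ ^ k)) = FR u f₁ d N' a ^ k := by
      intro k
      rw [AdjoinRoot.algebraMap_eq, hΘ, Theta0_of]
      exact RingHom.map_pow (algebraMap B (RR u f₁ d N' a)) _ _
    rw [Θ.map_add, Θ.map_mul, Θ.map_mul, e, e, ← h₁, ← h₂, pow_add]
    ring
  have hmul : ∀ r₁ r₂, P r₁ → P r₂ → P (r₁ * r₂) := by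
    rintro r₁ r₂ ⟨M₁, a₁, h₁⟩ ⟨M₂, a₂, h₂⟩
    refine ⟨M₁ + M₂, a₁ * a₂, ?_⟩
    rw [Θ.map_mul, ← h₁, ← h₂, pow_add]
    ring
  have hB : ∀ x : B, P (algebraMap B _ x) := by
    intro x
    refine ⟨0, AdjoinRoot.of _ x, ?_⟩
    rw [pow_zero, one_mul, hΘ, Theta0_of]
  have hσ : P (sigR u f₁ d N' a) :=
    ⟨α', AdjoinRoot.root _ ^ N', by rw [Θ.map_pow, hΘ, Theta0_root, rel_S hd hab]⟩
  have hT : P (TR u f₁ d N' a) :=
    ⟨b, AdjoinRoot.root _ ^ a, by rw [Θ.map_pow, hΘ, Theta0_root, rel_T hd hab]⟩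
  have hpow : ∀ r, P r → ∀ k : ℕ, P (r ^ k) := by
    intro r hr k
    induction k with
    | zero => rw [pow_zero]; simpa using hB 1
    | succ k ih => rw [pow_succ]; exact hmul _ _ ih hr
  -- elements of `B₁`
  have hB1 : ∀ x : B1 u d, P (AdjoinRoot.of _ x) := by
    intro x
    induction x using AdjoinRoot.induction_on with
    | ih p =>
      induction p using Polynomial.induction_on' with
      | add p q hp hq => rw [RingHom.map_add, RingHom.map_add]; exact hadd _ _ hp hq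
      | monomial n c =>
        rw [← C_mul_X_pow_eq_monomial]
        have e0 : AdjoinRoot.mk (X ^ d - C (u : B) : B[X]) (C c * X ^ n) =
            AdjoinRoot.of _ c * AdjoinRoot.root _ ^ n := by
          rw [(AdjoinRoot.mk (X ^ d - C (u : B) : B[X])).map_mul,
            (AdjoinRoot.mk (X ^ d - C (u : B) : B[X])).map_pow, AdjoinRoot.mk_C, AdjoinRoot.mk_X]
        have e : AdjoinRoot.of (X ^ N' - C (cR u f₁ d a) : (B1 u d)[X])
            (AdjoinRoot.mk (X ^ d - C (u : B) : B[X]) (C c * X ^ n)) =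
            algebraMap B (RR u f₁ d N' a) c * sigR u f₁ d N' a ^ n := by
          rw [e0]
          refine (RingHom.map_mul (AdjoinRoot.of (X ^ N' - C (cR u f₁ d a) : (B1 u d)[X])) _ _).trans ?_
          refine congrArg₂ (· * ·) rfl ?_
          exact RingHom.map_pow (AdjoinRoot.of (X ^ N' - C (cR u f₁ d a) : (B1 u d)[X])) _ _
        rw [e]
        exact hmul _ _ (hB c) (hpow _ hσ n)
  induction r using AdjoinRoot.induction_on with
  | ih p =>
    induction p using Polynomial.induction_on' with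
    | add p q hp hq => rw [RingHom.map_add]; exact hadd _ _ hp hq
    | monomial n c =>
      rw [← C_mul_X_pow_eq_monomial]
      have e : AdjoinRoot.mk (X ^ N' - C (cR u f₁ d a) : (B1 u d)[X]) (C c * X ^ n) =
          AdjoinRoot.of _ c * TR u f₁ d N' a ^ n := by
        refine (RingHom.map_mul (AdjoinRoot.mk (X ^ N' - C (cR u f₁ d a) : (B1 u d)[X])) _ _).trans ?_
        refine congrArg₂ (· * ·) (AdjoinRoot.mk_C _) ?_
        refine (RingHom.map_pow (AdjoinRoot.mk (X ^ N' - C (cR u f₁ d a) : (B1 u d)[X])) _ _).trans ?_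
        rw [AdjoinRoot.mk_X]
        rfl
      rw [e]
      exact hmul _ _ (hB1 c) (hpow _ hT n)

end RSide

end Groth.Agent.H2.Cyc
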