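import Mathlib
import Groth.Agent.Lib.Helper2.CycP3

/-!
# `Ψ : R → K` is injective with image the subalgebra generated by the `t^i f₁^{-⌊iα/N⌋}`
-/

set_option autoImplicit false

namespace Groth.Agent.H2.Cyc

open Polynomial

universe u

section Induction

variable {B : Type u} [CommRing B] {u : Bˣ} {f₁ : B} {d N' a : ℕ}

theorem RR_induction (P : RR u f₁ d N' a → Prop)
    (hadd : ∀ r₁ r₂, P r₁ → P r₂ → P (r₁ + r₂)) (hmul : ∀ r₁ r₂, P r₁ → P r₂ → P (r₁ * r₂))
    (hB : ∀ x : B, P (algebraMap B (RR u f₁ d N' a) x)) (hσ : P (sigR u f₁ d N' a))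
    (hT : P (TR u f₁ d N' a)) : ∀ r, P r := by
  intro r
  have hpow : ∀ r, P r → ∀ k : ℕ, P (r ^ k) := by
    intro r hr k
    induction k with
    | zero => rw [pow_zero]; simpa using hB 1
    | succ k ih => rw [pow_succ]; exact hmul _ _ ih hr
  have hB1 : ∀ x : B1 u d, P (AdjoinRoot.of _ x) := by
    intro x
    induction x using AdjoinRoot.induction_on with
    | ih p =>
      induction p using Polynomial.induction_on' with
      | add p q hp hq => rw [RingHom.map_add, RingHom.map_add]; exact hadd _ _ hp hq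
      | monomial n c =>
        rw [← C_mul_X_pow_eq_monomial]
        have e0 : AdjoinRoot.mk (X ^ d - C (u : B) : B[X]) (C c * X ^ n) =
            AdjoinRoot.of _ c * AdjoinRoot.root _ ^ n := by
          rw [(AdjoinRoot.mk (X ^ d - C (u : B) : B[X])).map_mul,
            (AdjoinRoot.mk (X ^ d - C (u : B) : B[X])).map_pow, AdjoinRoot.mk_C, AdjoinRoot.mk_X]
        have e : AdjoinRoot.of (X ^ N' - C (cR u f₁ d a) : (B1 u d)[X])
            (AdjoinRoot.mk (X ^ d - C (u : B) : B[X]) (C c * X ^ n)) =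
            algebraMap B (RR u f₁ d N' a) c * sigR u f₁ d N' a ^ n := by
          rw [e0]
          refine (RingHom.map_mul (AdjoinRoot.of (X ^ N' - C (cR u f₁ d a) : (B1 u d)[X])) _ _).trans ?_
          refine congrArg₂ (· * ·) rfl ?_
          exact RingHom.map_pow (AdjoinRoot.of (X ^ N' - C (cR u f₁ d a) : (B1 u d)[X])) _ _
        rw [e]
        exact hmul _ _ (hB c) (hpow _ hσ n)
  induction r using AdjoinRoot.induction_on with
  | ih p =>
    induction p using Polynomial.induction_on' with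
    | add p q hp hq => rw [RingHom.map_add]; exact hadd _ _ hp hq
    | monomial n c =>
      rw [← C_mul_X_pow_eq_monomial]
      have e : AdjoinRoot.mk (X ^ N' - C (cR u f₁ d a) : (B1 u d)[X]) (C c * X ^ n) =
          AdjoinRoot.of _ c * TR u f₁ d N' a ^ n := by
        refine (RingHom.map_mul (AdjoinRoot.mk (X ^ N' - C (cR u f₁ d a) : (B1 u d)[X])) _ _).trans ?_
        refine congrArg₂ (· * ·) (AdjoinRoot.mk_C _) ?_
        refine (RingHom.map_pow (AdjoinRoot.mk (X ^ N' - C (cR u f₁ d a) : (B1 u d)[X])) _ _).trans ?_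
        rw [AdjoinRoot.mk_X]
        rfl
      rw [e]
      exact hmul _ _ (hB1 c) (hpow _ hT n)

theorem of_mem_nonZeroDivisors_of_monic [IsDomain B] (p : B[X]) (hp : p.Monic) (x : B) (hx : x ≠ 0) :
    AdjoinRoot.of p x ∈ nonZeroDivisors (AdjoinRoot p) := by
  haveI : Module.Free B (AdjoinRoot p) := hp.free_adjoinRoot
  rw [mem_nonZeroDivisors_iff_right]
  intro z hz
  apply smul_eq_zero_of_nonZeroDivisor x (mem_nonZeroDivisors_of_ne_zero hx) z
  rw [Algebra.smul_def, mul_comm]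
  exact hz

theorem FR_mem_nonZeroDivisors [IsDomain B] (hd : 0 < d) (hN' : 0 < N') (hf₁ : f₁ ≠ 0) :
    FR u f₁ d N' a ∈ nonZeroDivisors (RR u f₁ d N' a) := by
  have hmonic : (X ^ N' - C (cR u f₁ d a) : (B1 u d)[X]).Monic := monic_X_pow_sub_C _ hN'.ne'
  haveI : Module.Free (B1 u d) (RR u f₁ d N' a) := hmonic.free_adjoinRoot
  have h1 := of_mem_nonZeroDivisors_B1 u d hd f₁ hf₁
  rw [mem_nonZeroDivisors_iff_right]
  intro z hz
  apply smul_eq_zero_of_nonZeroDivisor _ h1 z
  rw [Algebra.smul_def, mul_comm]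
  exact hz

end Induction

section KSide

variable {B : Type u} [CommRing B] {u : Bˣ} {f₁ : B} {N α d N' α' a b : ℕ}
  {K : Type u} [CommRing K] [Algebra B K] {tK iK : K}

theorem Psi_sigR (hs : sK N' α' tK iK ^ d = algebraMap B K (u : B))
    (hτ : tauK a b tK iK ^ N' = sK N' α' tK iK ^ a * algebraMap B K f₁) :
    Psi hs hτ (sigR u f₁ d N' a) = sK N' α' tK iK := by
  unfold sigR
  rw [Psi_of, Psi1_root]

theorem Psi_TR (hs : sK N' α' tK iK ^ d = algebraMap B K (u : B))
    (hτ : tauK a b tK iK ^ N' = sK N' α' tK iK ^ a * algebraMap B K f₁) :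
    Psi hs hτ (TR u f₁ d N' a) = tauK a b tK iK := Psi_root hs hτ

theorem Psi_FR (hs : sK N' α' tK iK ^ d = algebraMap B K (u : B))
    (hτ : tauK a b tK iK ^ N' = sK N' α' tK iK ^ a * algebraMap B K f₁) :
    Psi hs hτ (FR u f₁ d N' a) = algebraMap B K f₁ := Psi_algebraMap hs hτ f₁

theorem Psi_sigInvR_mul (hd : 0 < d) (hs : sK N' α' tK iK ^ d = algebraMap B K (u : B))
    (hτ : tauK a b tK iK ^ N' = sK N' α' tK iK ^ a * algebraMap B K f₁) :
    Psi hs hτ (sigInvR u f₁ d N' a) * sK N' α' tK iK = 1 := by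
  have h := congrArg (Psi hs hτ) (sigR_mul_inv (u := u) (f₁ := f₁) (N' := N') (a := a) hd)
  rw [(Psi hs hτ).map_mul, (Psi hs hτ).map_one, Psi_sigR] at h
  rw [mul_comm]
  exact h

theorem tauK_pow_alpha (hab : a * α' = 1 + b * N') :
    tauK a b tK iK ^ α' = tK * sK N' α' tK iK ^ b := by
  unfold tauK sK
  rw [mul_pow, mul_pow, ← pow_mul, ← pow_mul, ← pow_mul, ← pow_mul, hab, pow_add, pow_one,
    mul_comm N' b, mul_comm α' b, mul_assoc]

theorem Psi_tR (hd : 0 < d) (hab : a * α' = 1 + b * N')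
    (hs : sK N' α' tK iK ^ d = algebraMap B K (u : B))
    (hτ : tauK a b tK iK ^ N' = sK N' α' tK iK ^ a * algebraMap B K f₁) :
    Psi hs hτ (tR u f₁ d N' a b α') = tK := by
  unfold tR
  rw [(Psi hs hτ).map_mul, (Psi hs hτ).map_pow, (Psi hs hτ).map_pow, Psi_TR, tauK_pow_alpha hab]
  have h := Psi_sigInvR_mul hd hs hτ
  calc Psi hs hτ (sigInvR u f₁ d N' a) ^ b * (tK * sK N' α' tK iK ^ b)
      = tK * (Psi hs hτ (sigInvR u f₁ d N' a) * sK N' α' tK iK) ^ b := by rw [mul_pow]; ring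
    _ = tK := by rw [h, one_pow, mul_one]

/-- the canonical map `A' → K`, `t ↦ tK` -/
noncomputable def canK (htK : tK ^ N = algebraMap B K (u : B) * algebraMap B K f₁ ^ α) :
    AdjoinRoot (X ^ N - C ((u : B) * f₁ ^ α) : B[X]) →+* K :=
  AdjoinRoot.lift (algebraMap B K) tK (by
    rw [eval₂_sub, eval₂_pow, eval₂_X, eval₂_C, htK]
    have : algebraMap B K ((u : B) * f₁ ^ α) = algebraMap B K (u : B) * algebraMap B K f₁ ^ α := by
      rw [(algebraMap B K).map_mul, (algebraMap B K).map_pow]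
    rw [this, sub_self])

theorem canK_root (htK : tK ^ N = algebraMap B K (u : B) * algebraMap B K f₁ ^ α) :
    canK htK (AdjoinRoot.root _) = tK := AdjoinRoot.lift_root _

theorem canK_of (htK : tK ^ N = algebraMap B K (u : B) * algebraMap B K f₁ ^ α) (x : B) :
    canK htK (AdjoinRoot.of _ x) = algebraMap B K x := AdjoinRoot.lift_of _

theorem Psi_comp_Theta0 (hd : 0 < d) (hNd : N = d * N') (hαd : α = d * α')
    (hab : a * α' = 1 + b * N')
    (htK : tK ^ N = algebraMap B K (u : B) * algebraMap B K f₁ ^ α)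
    (hs : sK N' α' tK iK ^ d = algebraMap B K (u : B))
    (hτ : tauK a b tK iK ^ N' = sK N' α' tK iK ^ a * algebraMap B K f₁)
    (x : AdjoinRoot (X ^ N - C ((u : B) * f₁ ^ α) : B[X])) :
    Psi hs hτ (Theta0 hd hNd hαd hab x) = canK htK x := by
  have : (Psi hs hτ).comp (Theta0 (u := u) (f₁ := f₁) hd hNd hαd hab) = canK htK := by
    apply AdjoinRoot.ringHom_ext
    · ext y
      rw [RingHom.comp_apply, RingHom.comp_apply, RingHom.comp_apply, Theta0_of, Psi_algebraMap,
        canK_of]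
    · rw [RingHom.comp_apply, Theta0_root, Psi_tR hd hab, canK_root]
  exact RingHom.congr_fun this x

theorem Psi_injective [IsDomain B] (hf₁ : f₁ ≠ 0) (hd : 0 < d) (hN' : 0 < N') (hNd : N = d * N')
    (hαd : α = d * α') (hab : a * α' = 1 + b * N')
    (htK : tK ^ N = algebraMap B K (u : B) * algebraMap B K f₁ ^ α)
    (hs : sK N' α' tK iK ^ d = algebraMap B K (u : B))
    (hτ : tauK a b tK iK ^ N' = sK N' α' tK iK ^ a * algebraMap B K f₁)
    (hcan : Function.Injective (canK (u := u) (f₁ := f₁) htK)) :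
    Function.Injective (Psi hs hτ) := by
  rw [injective_iff_map_eq_zero]
  intro r hr
  obtain ⟨M, a', ha'⟩ := exists_pow_mul_mem_range hd hNd hαd hab r
  have h1 : canK htK a' = 0 := by
    rw [← Psi_comp_Theta0 hd hNd hαd hab htK hs hτ, ← ha', (Psi hs hτ).map_mul, hr, mul_zero]
  have h2 : a' = 0 := by
    apply hcan
    rw [h1, map_zero]
  rw [h2, map_zero] at ha'
  have hF := pow_mem (FR_mem_nonZeroDivisors (u := u) (a := a) hd hN' hf₁) M
  rw [mul_comm] at ha'
  exact (mem_nonZeroDivisors_iff_right.mp hF) r ha'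

/-- the generators `G_i = t^i f₁^{-⌊iα/N⌋}` -/
def GK (N α : ℕ) (tK iK : K) (i : ℕ) : K := tK ^ i * iK ^ (i * α / N)

theorem tK_pow_mul_iK_pow (hφi : algebraMap B K f₁ * iK = 1)
    (htK : tK ^ N = algebraMap B K (u : B) * algebraMap B K f₁ ^ α) :
    tK ^ N * iK ^ α = algebraMap B K (u : B) := by
  rw [htK, mul_assoc, ← mul_pow, hφi, one_pow, mul_one]

theorem GK_add (hN : 0 < N) (hφi : algebraMap B K f₁ * iK = 1)
    (htK : tK ^ N = algebraMap B K (u : B) * algebraMap B K f₁ ^ α) (i : ℕ) :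
    GK N α tK iK (i + N) = algebraMap B K (u : B) * GK N α tK iK i := by
  unfold GK
  have : (i + N) * α / N = i * α / N + α := by
    rw [add_mul, mul_comm N α, Nat.add_mul_div_right _ _ hN]
  rw [this, pow_add, pow_add, ← tK_pow_mul_iK_pow hφi htK]
  ring

theorem GK_mem (hN : 0 < N) (hφi : algebraMap B K f₁ * iK = 1)
    (htK : tK ^ N = algebraMap B K (u : B) * algebraMap B K f₁ ^ α) (A : Subalgebra B K)
    (hA : ∀ i < N, GK N α tK iK i ∈ A) : ∀ i, GK N α tK iK i ∈ A := by
  intro i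
  induction i using Nat.strong_induction_on with
  | _ i ih =>
    by_cases hi : i < N
    · exact hA i hi
    · have hi' : i = (i - N) + N := by omega
      rw [hi', GK_add hN hφi htK]
      exact A.mul_mem (A.algebraMap_mem _) (ih _ (by omega))

theorem tK_mem (hN : 0 < N) (hφi : algebraMap B K f₁ * iK = 1)
    (htK : tK ^ N = algebraMap B K (u : B) * algebraMap B K f₁ ^ α) (A : Subalgebra B K)
    (hA : ∀ i < N, GK N α tK iK i ∈ A) : tK ∈ A := by
  have h1 := GK_mem hN hφi htK A hA 1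
  have : tK = algebraMap B K (f₁ ^ (1 * α / N)) * GK N α tK iK 1 := by
    unfold GK
    rw [(algebraMap B K).map_pow, pow_one]
    calc tK = tK * (algebraMap B K f₁ * iK) ^ (1 * α / N) := by rw [hφi, one_pow, mul_one]
      _ = _ := by rw [mul_pow]; ring
  rw [this]
  exact A.mul_mem (A.algebraMap_mem _) h1

theorem sK_mem (hN : 0 < N) (hd : 0 < d) (hN' : 0 < N') (hNd : N = d * N') (hαd : α = d * α')
    (hφi : algebraMap B K f₁ * iK = 1)
    (htK : tK ^ N = algebraMap B K (u : B) * algebraMap B K f₁ ^ α) (A : Subalgebra B K)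
    (hA : ∀ i < N, GK N α tK iK i ∈ A) : sK N' α' tK iK ∈ A := by
  have h1 := GK_mem hN hφi htK A hA N'
  have : N' * α / N = α' := by
    rw [hNd, hαd, mul_comm d N', mul_comm d α', ← mul_assoc, Nat.mul_div_mul_right _ _ hd,
      Nat.mul_div_cancel_left _ hN']
  unfold GK at h1
  rw [this] at h1
  exact h1

theorem tauK_mem (hN : 0 < N) (hd : 0 < d) (hN' : 0 < N') (hNd : N = d * N') (hαd : α = d * α')
    (hab : a * α' = 1 + b * N') (hφi : algebraMap B K f₁ * iK = 1)
    (htK : tK ^ N = algebraMap B K (u : B) * algebraMap B K f₁ ^ α) (A : Subalgebra B K)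
    (hA : ∀ i < N, GK N α tK iK i ∈ A) : tauK a b tK iK ∈ A := by
  have h1 := GK_mem hN hφi htK A hA a
  have hb : b ≤ a * α / N := by
    rw [hNd, hαd, mul_comm d α', ← mul_assoc, mul_comm d N', Nat.mul_div_mul_right _ _ hd, hab,
      Nat.le_div_iff_mul_le hN']
    omega
  obtain ⟨c, hc⟩ := Nat.exists_eq_add_of_le hb
  have : tauK a b tK iK = algebraMap B K (f₁ ^ c) * GK N α tK iK a := by
    unfold GK tauK
    rw [hc, (algebraMap B K).map_pow, pow_add]
    calc tK ^ a * iK ^ b = tK ^ a * iK ^ b * (algebraMap B K f₁ * iK) ^ c := by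
          rw [hφi, one_pow, mul_one]
      _ = _ := by rw [mul_pow]; ring
  rw [this]
  exact A.mul_mem (A.algebraMap_mem _) h1

theorem Psi_mem (hN : 0 < N) (hd : 0 < d) (hN' : 0 < N') (hNd : N = d * N') (hαd : α = d * α')
    (hab : a * α' = 1 + b * N') (hφi : algebraMap B K f₁ * iK = 1)
    (htK : tK ^ N = algebraMap B K (u : B) * algebraMap B K f₁ ^ α)
    (hs : sK N' α' tK iK ^ d = algebraMap B K (u : B))
    (hτ : tauK a b tK iK ^ N' = sK N' α' tK iK ^ a * algebraMap B K f₁) (A : Subalgebra B K)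
    (hA : ∀ i < N, GK N α tK iK i ∈ A) (r : RR u f₁ d N' a) : Psi hs hτ r ∈ A := by
  refine RR_induction (fun r => Psi hs hτ r ∈ A) ?_ ?_ ?_ ?_ ?_ r
  · intro r₁ r₂ h₁ h₂
    show Psi hs hτ (r₁ + r₂) ∈ A
    rw [(Psi hs hτ).map_add]
    exact A.add_mem h₁ h₂
  · intro r₁ r₂ h₁ h₂
    show Psi hs hτ (r₁ * r₂) ∈ A
    rw [(Psi hs hτ).map_mul]
    exact A.mul_mem h₁ h₂
  · intro x
    show Psi hs hτ _ ∈ A
    rw [Psi_algebraMap]
    exact A.algebraMap_mem _
  · show Psi hs hτ _ ∈ A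
    rw [Psi_sigR]
    exact sK_mem hN hd hN' hNd hαd hφi htK A hA
  · show Psi hs hτ _ ∈ A
    rw [Psi_TR]
    exact tauK_mem hN hd hN' hNd hαd hab hφi htK A hA

theorem GK_eq (hd : 0 < d) (hNd : N = d * N') (hαd : α = d * α')
    (hab : a * α' = 1 + b * N') (hφi : algebraMap B K f₁ * iK = 1)
    (htK : tK ^ N = algebraMap B K (u : B) * algebraMap B K f₁ ^ α) (i : ℕ) :
    algebraMap B K (u : B) ^ (b * i) * GK N α tK iK i =
      sK N' α' tK iK ^ (a * (i * α' / N') + b * i * (d - 1)) * tauK a b tK iK ^ (i * α' % N') := by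
  obtain ⟨d', rfl⟩ := Nat.exists_eq_succ_of_ne_zero hd.ne'
  have he : i * α / N = i * α' / N' := by
    rw [hNd, hαd, mul_comm (d' + 1) α', ← mul_assoc, mul_comm (d' + 1) N',
      Nat.mul_div_mul_right _ _ hd]
  set e := i * α' / N' with hedef
  set l := i * α' % N' with hldef
  have h1 : i * α' = N' * e + l := (Nat.div_add_mod (i * α') N').symm
  have id1 : N' * (a * e + b * i * d') + a * l = i + N * (b * i) := by
    calc N' * (a * e + b * i * d') + a * l = a * (N' * e + l) + N' * b * i * d' := by ring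
      _ = a * (i * α') + N' * b * i * d' := by rw [h1]
      _ = i * (a * α') + N' * b * i * d' := by ring
      _ = i * (1 + b * N') + N' * b * i * d' := by rw [hab]
      _ = i + (d' + 1) * N' * (b * i) := by ring
      _ = i + N * (b * i) := by rw [hNd]
  have id2 : α' * (a * e + b * i * d') + b * l = e + α * (b * i) := by
    calc α' * (a * e + b * i * d') + b * l = e * (a * α') + α' * b * i * d' + b * l := by ring
      _ = e * (1 + b * N') + α' * b * i * d' + b * l := by rw [hab]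
      _ = e + b * (N' * e + l) + α' * b * i * d' := by ring
      _ = e + b * (i * α') + α' * b * i * d' := by rw [h1]
      _ = e + (d' + 1) * α' * (b * i) := by ring
      _ = e + α * (b * i) := by rw [hαd]
  have hrhs : sK N' α' tK iK ^ (a * e + b * i * (d' + 1 - 1)) * tauK a b tK iK ^ l =
      tK ^ (i + N * (b * i)) * iK ^ (e + α * (b * i)) := by
    rw [Nat.add_sub_cancel, ← id1, ← id2]
    unfold sK tauK
    rw [mul_pow, mul_pow, ← pow_mul, ← pow_mul, ← pow_mul, ← pow_mul, pow_add, pow_add]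
    ring
  rw [hrhs, ← tK_pow_mul_iK_pow hφi htK]
  unfold GK
  rw [he, pow_add, pow_add, pow_mul, pow_mul, mul_pow]
  ring

theorem GK_mem_range (hd : 0 < d) (hNd : N = d * N') (hαd : α = d * α')
    (hab : a * α' = 1 + b * N') (hφi : algebraMap B K f₁ * iK = 1)
    (htK : tK ^ N = algebraMap B K (u : B) * algebraMap B K f₁ ^ α)
    (hs : sK N' α' tK iK ^ d = algebraMap B K (u : B))
    (hτ : tauK a b tK iK ^ N' = sK N' α' tK iK ^ a * algebraMap B K f₁) (i : ℕ) :
    GK N α tK iK i ∈ (Psi hs hτ).range := by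
  refine ⟨algebraMap B (RR u f₁ d N' a) (((u⁻¹ : Bˣ) : B) ^ (b * i)) *
    (sigR u f₁ d N' a ^ (a * (i * α' / N') + b * i * (d - 1)) * TR u f₁ d N' a ^ (i * α' % N')), ?_⟩
  rw [(Psi hs hτ).map_mul, (Psi hs hτ).map_mul, (Psi hs hτ).map_pow, (Psi hs hτ).map_pow,
    Psi_sigR, Psi_TR, Psi_algebraMap, ← GK_eq hd hNd hαd hab hφi htK i, ← mul_assoc,
    (algebraMap B K).map_pow, ← mul_pow, ← (algebraMap B K).map_mul, Units.inv_mul,
    (algebraMap B K).map_one, one_pow, one_mul]

theorem GK_pow (hφi : algebraMap B K f₁ * iK = 1)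
    (htK : tK ^ N = algebraMap B K (u : B) * algebraMap B K f₁ ^ α) (i : ℕ) :
    GK N α tK iK i ^ N = algebraMap B K ((u : B) ^ i * f₁ ^ (i * α - i * α / N * N)) := by
  unfold GK
  generalize he : i * α / N = e
  have hle : e * N ≤ i * α := by rw [← he]; exact Nat.div_mul_le_self _ _
  obtain ⟨c, hc⟩ := Nat.exists_eq_add_of_le hle
  have hc' : i * α - e * N = c := by omega
  rw [hc', (algebraMap B K).map_mul, (algebraMap B K).map_pow, (algebraMap B K).map_pow, mul_pow,
    ← pow_mul, ← pow_mul, mul_comm i N, pow_mul, htK, mul_pow, ← pow_mul, mul_comm α i, hc, pow_add]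
  calc algebraMap B K (u : B) ^ i * (algebraMap B K f₁ ^ (e * N) * algebraMap B K f₁ ^ c) *
        iK ^ (e * N)
      = algebraMap B K (u : B) ^ i * algebraMap B K f₁ ^ c *
          (algebraMap B K f₁ * iK) ^ (e * N) := by rw [mul_pow]; ring
    _ = _ := by rw [hφi, one_pow, mul_one]

theorem GK_isIntegral (hN : 0 < N) (hφi : algebraMap B K f₁ * iK = 1)
    (htK : tK ^ N = algebraMap B K (u : B) * algebraMap B K f₁ ^ α) (i : ℕ) :
    IsIntegral B (GK N α tK iK i) := by
  refine ⟨X ^ N - C ((u : B) ^ i * f₁ ^ (i * α - i * α / N * N)), monic_X_pow_sub_C _ hN.ne', ?_⟩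
  rw [eval₂_sub, eval₂_pow, eval₂_X, eval₂_C, GK_pow hφi htK, sub_self]

end KSide

end Groth.Agent.H2.Cyc
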