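import Mathlib
import Groth.Agent.Lib.Helper2.CycP4
import Groth.Agent.Lib.Helper2.CycH

/-!
# The cyclic cover algebra: finiteness, normality, regularity
-/

set_option autoImplicit false

namespace Groth.Agent.H2.Cyc

open Polynomial

universe u

theorem exists_bezout (N α : ℕ) (hN : 0 < N) (hα : 0 < α) :
    ∃ d N' α' a b : ℕ, 0 < d ∧ 0 < N' ∧ N = d * N' ∧ α = d * α' ∧ a * α' = 1 + b * N' := by
  have hd : 0 < Nat.gcd N α := Nat.gcd_pos_of_pos_left _ hN
  have hNd : N = Nat.gcd N α * (N / Nat.gcd N α) := (Nat.mul_div_cancel' (Nat.gcd_dvd_left N α)).symm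
  have hαd : α = Nat.gcd N α * (α / Nat.gcd N α) := (Nat.mul_div_cancel' (Nat.gcd_dvd_right N α)).symm
  have hcop : Nat.Coprime (N / Nat.gcd N α) (α / Nat.gcd N α) := Nat.coprime_div_gcd_div_gcd hd
  generalize Nat.gcd N α = d at hd hNd hαd hcop
  generalize N / d = N' at hNd hcop
  generalize α / d = α' at hαd hcop
  have hN' : 0 < N' := by
    rcases Nat.eq_zero_or_pos N' with h | h
    · rw [h, mul_zero] at hNd; omega
    · exact h
  have hα' : 0 < α' := by
    rcases Nat.eq_zero_or_pos α' with h | h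
    · rw [h, mul_zero] at hαd; omega
    · exact h
  by_cases h1 : N' = 1
  · refine ⟨d, N', α', 1, α' - 1, hd, hN', hNd, hαd, ?_⟩
    rw [h1]; omega
  · have h2 : 1 < N' := by omega
    obtain ⟨m, -, hm⟩ := Nat.exists_mul_mod_eq_one_of_coprime hcop.symm h2
    refine ⟨d, N', α', m, α' * m / N', hd, hN', hNd, hαd, ?_⟩
    have := Nat.div_add_mod (α' * m) N'
    rw [hm] at this
    rw [mul_comm m α', mul_comm _ N']
    omega

/-- the ring `A' = B[t]/(t^N - u f₁^α)` -/
abbrev Ap {B : Type u} [CommRing B] (u : Bˣ) (f₁ : B) (N α : ℕ) : Type u :=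
  AdjoinRoot (X ^ N - C ((u : B) * f₁ ^ α) : B[X])

theorem main (B : Type u) [CommRing B] [IsDomain B] [IsRegularRing B] (N : ℕ) (hN : 0 < N)
    (ν : B) (hν : (N : B) * ν = 1) (u : Bˣ) (α : ℕ) (f₁ : B) (hf₁ : f₁ ≠ 0)
    [IsRegularRing (B ⧸ Ideal.span {f₁})]
    (K : Type u) [CommRing K] [Algebra B K] [Algebra (Ap u f₁ N α) K]
    [IsScalarTower B (Ap u f₁ N α) K]
    [IsLocalization.Away (algebraMap B (Ap u f₁ N α) f₁) K]
    (A : Subalgebra B K)
    (hA : A = Algebra.adjoin B (Set.range fun i : Fin N =>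
      algebraMap (Ap u f₁ N α) K (AdjoinRoot.root _ ^ (i : ℕ)) *
      IsLocalization.Away.invSelf (S := K) (algebraMap B (Ap u f₁ N α) f₁) ^ ((i : ℕ) * α / N))) :
    Module.Finite B A ∧ IsIntegralClosure A (Ap u f₁ N α) K ∧
      ∀ (Q : Ideal A) [Q.IsPrime], IsRegularLocalRing (Localization.AtPrime Q) := by
  classical
  set φ : Ap u f₁ N α := algebraMap B _ f₁ with hφ
  set tK : K := algebraMap (Ap u f₁ N α) K (AdjoinRoot.root _) with htKdef
  set iK : K := IsLocalization.Away.invSelf (S := K) φ with hiK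
  have hφi : algebraMap B K f₁ * iK = 1 := by
    rw [IsScalarTower.algebraMap_apply B (Ap u f₁ N α) K]
    exact IsLocalization.Away.mul_invSelf φ
  have htK : tK ^ N = algebraMap B K (u : B) * algebraMap B K f₁ ^ α := by
    rw [htKdef, ← map_pow, root_pow_eq, ← (algebraMap B K).map_pow, ← (algebraMap B K).map_mul,
      IsScalarTower.algebraMap_apply B (Ap u f₁ N α) K]
    rfl
  have hgen : (fun i : Fin N => algebraMap (Ap u f₁ N α) K (AdjoinRoot.root _ ^ (i : ℕ)) *
      iK ^ ((i : ℕ) * α / N)) = fun i : Fin N => GK N α tK iK i := by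
    funext i
    unfold GK
    rw [map_pow]
  rw [hgen] at hA
  have hAmem : ∀ i < N, GK N α tK iK i ∈ A := by
    intro i hi
    rw [hA]
    exact Algebra.subset_adjoin ⟨⟨i, hi⟩, rfl⟩
  have hgint : ∀ x ∈ Set.range (fun i : Fin N => GK N α tK iK i), IsIntegral B x := by
    rintro _ ⟨i, rfl⟩
    exact GK_isIntegral hN hφi htK i
  have hint : ∀ x ∈ A, IsIntegral B x := by
    intro x hx
    have : A ≤ integralClosure B K := by
      rw [hA]
      exact Algebra.adjoin_le hgint
    exact this hx
  have hfin : Module.Finite B A := by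
    rw [hA]
    exact Algebra.finite_adjoin_of_finite_of_isIntegral (Set.finite_range _) hgint
  refine ⟨hfin, ?_⟩
  have hmonic : (X ^ N - C ((u : B) * f₁ ^ α) : B[X]).Monic := monic_X_pow_sub_C _ hN.ne'
  haveI : Module.Finite B (Ap u f₁ N α) := hmonic.finite_adjoinRoot
  haveI : Algebra.IsIntegral B (Ap u f₁ N α) := Algebra.IsIntegral.of_finite B _
  have hφnzd : φ ∈ nonZeroDivisors (Ap u f₁ N α) :=
    of_mem_nonZeroDivisors_of_monic _ hmonic f₁ hf₁
  have hcaninj : Function.Injective (algebraMap (Ap u f₁ N α) K) :=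
    IsLocalization.injective K (M := Submonoid.powers φ) (Submonoid.powers_le.mpr hφnzd)
  have hcan : canK (u := u) (f₁ := f₁) htK = algebraMap (Ap u f₁ N α) K := by
    apply AdjoinRoot.ringHom_ext
    · ext y
      rw [RingHom.comp_apply, RingHom.comp_apply, canK_of, ← AdjoinRoot.algebraMap_eq,
        ← IsScalarTower.algebraMap_apply]
    · rw [canK_root]
  have htKmem : tK ∈ A := tK_mem hN hφi htK A hAmem
  have hA'mem : ∀ a' : Ap u f₁ N α, algebraMap _ K a' ∈ A := by
    intro a'
    induction a' using AdjoinRoot.induction_on with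
    | ih p =>
      induction p using Polynomial.induction_on' with
      | add p q hp hq =>
        rw [(AdjoinRoot.mk _).map_add, (algebraMap (Ap u f₁ N α) K).map_add]
        exact A.add_mem hp hq
      | monomial n c =>
        rw [← C_mul_X_pow_eq_monomial, (AdjoinRoot.mk _).map_mul, (AdjoinRoot.mk _).map_pow,
          AdjoinRoot.mk_C, AdjoinRoot.mk_X, (algebraMap (Ap u f₁ N α) K).map_mul,
          (algebraMap (Ap u f₁ N α) K).map_pow]
        refine A.mul_mem ?_ (pow_mem htKmem n)
        rw [← AdjoinRoot.algebraMap_eq, ← IsScalarTower.algebraMap_apply]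
        exact A.algebraMap_mem c
  rcases Nat.eq_zero_or_pos α with hα | hα
  · -- `α = 0`: `A = A'`
    have hunit : IsUnit ((u : B) * f₁ ^ α) := by
      rw [hα, pow_zero, mul_one]
      exact u.isUnit
    haveI : Subsingleton (B ⧸ Ideal.span {(u : B) * f₁ ^ α}) := by
      rw [Ideal.Quotient.subsingleton_iff, Ideal.span_singleton_eq_top]
      exact hunit
    haveI : IsRegularRing (B ⧸ Ideal.span {(u : B) * f₁ ^ α}) := isRegularRing_of_subsingleton _
    haveI : IsRegularRing (Ap u f₁ N α) :=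
      isRegularRing_eisenstein B N hN ν hν _ hunit.mem_nonZeroDivisors
    refine conclude B (Ap u f₁ N α) K f₁ A hint (Ap u f₁ N α) (algebraMap _ K) hcaninj ?_ hA'mem
    intro x
    constructor
    · intro hx
      rw [hA] at hx
      induction hx using Algebra.adjoin_induction with
      | mem x hx =>
        obtain ⟨i, rfl⟩ := hx
        refine ⟨AdjoinRoot.root _ ^ (i : ℕ), ?_⟩
        show _ = GK N α tK iK i
        unfold GK
        have h0 : (i : ℕ) * α / N = 0 := by rw [hα, mul_zero, Nat.zero_div]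
        rw [h0, pow_zero, mul_one, map_pow]
      | algebraMap r => exact ⟨algebraMap B _ r, (IsScalarTower.algebraMap_apply B _ K r).symm⟩
      | add x y _ _ hx hy => exact Subring.add_mem _ hx hy
      | mul x y _ _ hx hy => exact Subring.mul_mem _ hx hy
    · rintro ⟨a', rfl⟩
      exact hA'mem a'
  · obtain ⟨d, N', α', a, b, hd, hN', hNd, hαd, hab⟩ := exists_bezout N α hN hα
    have hs := sK_pow hNd hαd hφi htK
    have hτ := tauK_pow (N' := N') (α' := α') (a := a) (b := b) (tK := tK) hab hφi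
    have hνd : (d : B) * ((N' : B) * ν) = 1 := by
      rw [← mul_assoc, ← Nat.cast_mul, ← hNd, hν]
    have hνN : (N' : B) * ((d : B) * ν) = 1 := by
      rw [← mul_assoc, ← Nat.cast_mul, mul_comm N' d, ← hNd, hν]
    haveI : IsRegularRing (RR u f₁ d N' a) :=
      isRegularRing_RR u f₁ hf₁ d N' a hd hN' _ hνd _ hνN
    refine conclude B (Ap u f₁ N α) K f₁ A hint (RR u f₁ d N' a) (Psi hs hτ)
      (Psi_injective hf₁ hd hN' hNd hαd hab htK hs hτ (by rw [hcan]; exact hcaninj)) ?_ hA'mem
    intro x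
    constructor
    · intro hx
      rw [hA] at hx
      induction hx using Algebra.adjoin_induction with
      | mem x hx =>
        obtain ⟨i, rfl⟩ := hx
        exact GK_mem_range hd hNd hαd hab hφi htK hs hτ i
      | algebraMap r => exact ⟨algebraMap B _ r, Psi_algebraMap hs hτ r⟩
      | add x y _ _ hx hy => exact Subring.add_mem _ hx hy
      | mul x y _ _ hx hy => exact Subring.mul_mem _ hx hy
    · rintro ⟨r, rfl⟩
      exact Psi_mem hN hd hN' hNd hαd hab hφi htK hs hτ A hAmem r

end Groth.Agent.H2.Cyc
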