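import Mathlib
import Groth.Agent.Lib.Helper2.BInj1

/-!
# `D⁺(A') ⥤ D⁺(A)` is fully faithful when `A'` has enough `A`-injectives
-/

universe w w' v v' u u'

open CategoryTheory CategoryTheory.Limits

namespace Groth.Agent.H2.DPlusFF

open BInj

variable {A' : Type u'} [Category.{v'} A'] [Abelian A'] [HasDerivedCategory.{w'} A']
  {A : Type u} [Category.{v} A] [Abelian A] [HasDerivedCategory.{w} A]
  (ι : A' ⥤ A) [ι.Additive] [PreservesFiniteLimits ι] [PreservesFiniteColimits ι]
  [ι.Full] [ι.Faithful]
  (hinj : ∀ X' : A', ∃ (Y' : A') (i : X' ⟶ Y'), Mono i ∧ Injective (ι.obj Y'))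

include hinj

omit [HasDerivedCategory A'] [HasDerivedCategory A] [PreservesFiniteColimits ι]
  [Abelian A'] [Abelian A] [ι.Additive] in
lemma enoughInjectives : EnoughInjectives A' where
  presentation X' := by
    obtain ⟨Y', i, hi, hY'⟩ := hinj X'
    exact ⟨{ J := Y', injective := ι.injective_of_map_injective hY', f := i, mono := hi }⟩

omit [HasDerivedCategory A'] [HasDerivedCategory A] [PreservesFiniteColimits ι]
  [Abelian A'] [Abelian A] [ι.Additive] [PreservesFiniteLimits ι] [ι.Full] [ι.Faithful] in
lemma injective_map_of_injective (J : A') [Injective J] : Injective (ι.obj J) := by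
  obtain ⟨Y', i, hi, hY'⟩ := hinj J
  have r : Retract J Y' :=
    { i := i, r := Injective.factorThru (𝟙 J) i, retract := Injective.comp_factorThru _ _ }
  exact (r.map ι).injective

lemma map_bijective_Q (K L : CochainComplex A' ℤ) (b : ℤ) [L.IsStrictlyGE b]
    [∀ n, Injective (L.X n)] :
    Function.Bijective (fun f : DerivedCategory.Q.obj K ⟶ DerivedCategory.Q.obj L =>
      ι.mapDerivedCategory.map f) := by
  have : L.IsKInjective := CochainComplex.isKInjective_of_injective L b
  let ιL : CochainComplex A ℤ := (ι.mapHomologicalComplex (ComplexShape.up ℤ)).obj L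
  have h1 : ιL.IsStrictlyGE b := by
    dsimp only [ιL]
    infer_instance
  have h2 : ∀ n, Injective (ιL.X n) := fun n => injective_map_of_injective ι hinj (L.X n)
  have : ιL.IsKInjective := CochainComplex.isKInjective_of_injective ιL b
  constructor
  · intro f g hfg
    dsimp only at hfg
    obtain ⟨f', rfl⟩ := exists_Q_map_eq f
    obtain ⟨g', rfl⟩ := exists_Q_map_eq g
    have h3 : DerivedCategory.Q.map ((ι.mapHomologicalComplex (ComplexShape.up ℤ)).map f') =
        DerivedCategory.Q.map ((ι.mapHomologicalComplex (ComplexShape.up ℤ)).map g') := by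
      have e1 := ι.mapDerivedCategoryFactors_hom_naturality f'
      have e2 := ι.mapDerivedCategoryFactors_hom_naturality g'
      rw [hfg] at e1
      rw [← cancel_epi (ι.mapDerivedCategoryFactors.hom.app K), ← e1, e2]
    have h4 : DerivedCategory.Q.map ((ι.mapHomologicalComplex (ComplexShape.up ℤ)).map f' -
        (ι.mapHomologicalComplex (ComplexShape.up ℤ)).map g') = 0 := by
      rw [Functor.map_sub, h3, sub_self]
    obtain ⟨H⟩ := homotopy_zero_of_Q_map_eq_zero (J := ιL) _ h4
    have H' : Homotopy ((ι.mapHomologicalComplex (ComplexShape.up ℤ)).map f')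
        ((ι.mapHomologicalComplex (ComplexShape.up ℤ)).map g') :=
      Homotopy.equivSubZero.symm H
    have H'' : Homotopy f' g' := ι.preimageHomotopy H'
    exact DerivedCategory.Q_map_eq_of_homotopy _ H''
  · intro g
    dsimp only
    obtain ⟨g₂, hg₂⟩ := exists_Q_map_eq (K := (ι.mapHomologicalComplex (ComplexShape.up ℤ)).obj K)
      (J := ιL) (ι.mapDerivedCategoryFactors.inv.app K ≫ g ≫
        ι.mapDerivedCategoryFactors.hom.app L)
    obtain ⟨g₃, rfl⟩ := (ι.mapHomologicalComplex (ComplexShape.up ℤ)).map_surjective g₂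
    refine ⟨DerivedCategory.Q.map g₃, ?_⟩
    have e1 := ι.mapDerivedCategoryFactors_hom_naturality g₃
    rw [← cancel_mono (ι.mapDerivedCategoryFactors.hom.app L), e1, hg₂]
    simp

theorem map_bijective (X Y : DerivedCategory A') (b : ℤ) [Y.IsGE b] :
    Function.Bijective (fun f : X ⟶ Y => ι.mapDerivedCategory.map f) := by
  have := enoughInjectives ι hinj
  obtain ⟨L, hL, hLinj, ⟨e₂⟩⟩ := exists_injective_rep Y b
  let e₁ := DerivedCategory.Q.objObjPreimageIso X
  have h := map_bijective_Q ι hinj (DerivedCategory.Q.objPreimage X) L b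
  constructor
  · intro f g hfg
    dsimp only at hfg
    have : e₁.hom ≫ f ≫ e₂.inv = e₁.hom ≫ g ≫ e₂.inv := h.1 (by
      dsimp only
      rw [Functor.map_comp, Functor.map_comp, Functor.map_comp, Functor.map_comp, hfg])
    rw [cancel_epi, cancel_mono] at this
    exact this
  · intro g
    obtain ⟨f, hf⟩ := h.2 (ι.mapDerivedCategory.map e₁.hom ≫ g ≫ ι.mapDerivedCategory.map e₂.inv)
    dsimp only at hf
    refine ⟨e₁.inv ≫ f ≫ e₂.hom, ?_⟩
    dsimp only
    rw [Functor.map_comp, Functor.map_comp, hf]
    simp only [Category.assoc, ← Functor.map_comp, Iso.inv_hom_id,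
      CategoryTheory.Functor.map_id, Category.comp_id]
    rw [← Functor.map_comp_assoc, Iso.inv_hom_id, CategoryTheory.Functor.map_id, Category.id_comp]

end Groth.Agent.H2.DPlusFF
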