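import Mathlib
import Groth.Agent.Lib.Helper2.DPlusFF1
import Groth.Agent.Lib.Helper2.ClassRes3

/-!
# Essential surjectivity of `D⁺(A') ⥤ D⁺_{A'}(A)`
-/

universe w w' v v' u u'

open CategoryTheory CategoryTheory.Limits

namespace Groth.Agent.H2.DPlusFF

section Lift

variable {A' : Type u'} [Category.{v'} A'] [Preadditive A']
  {A : Type u} [Category.{v} A] [Preadditive A]
  (ι : A' ⥤ A) [ι.Additive] [ι.Full] [ι.Faithful]
  {α : Type*} {c : ComplexShape α} (K : HomologicalComplex A c) (hK : ∀ n, ι.essImage (K.X n))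

/-- lift a complex whose terms are in the essential image of a fully faithful functor -/
noncomputable def liftComplex : HomologicalComplex A' c where
  X n := (hK n).witness
  d n m := ι.preimage ((hK n).getIso.hom ≫ K.d n m ≫ (hK m).getIso.inv)
  shape n m h := by
    apply ι.map_injective
    rw [ι.map_preimage, K.shape n m h, zero_comp, comp_zero, Functor.map_zero]
  d_comp_d' i j k _ _ := by
    apply ι.map_injective
    simp

/-- the lifted complex maps to the original one -/
noncomputable def liftComplexIso :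
    (ι.mapHomologicalComplex c).obj (liftComplex ι K hK) ≅ K :=
  HomologicalComplex.Hom.isoOfComponents (fun n => (hK n).getIso) (by
    intro i j _
    change (hK i).getIso.hom ≫ K.d i j =
      ι.map (ι.preimage ((hK i).getIso.hom ≫ K.d i j ≫ (hK j).getIso.inv)) ≫ (hK j).getIso.hom
    rw [ι.map_preimage, Category.assoc, Category.assoc, Iso.inv_hom_id, Category.comp_id])

end Lift

open ClassRes BInj
open scoped ZeroObject

variable {A' : Type u'} [Category.{v'} A'] [Abelian A']
  {A : Type u} [Category.{v} A] [Abelian A]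
  (ι : A' ⥤ A) [ι.Additive] [PreservesFiniteLimits ι] [PreservesFiniteColimits ι]
  [ι.Full] [ι.Faithful]
  (hinj : ∀ X' : A', ∃ (Y' : A') (i : X' ⟶ Y'), Mono i ∧ Injective (ι.obj Y'))

omit [ι.Faithful] in
include hinj in
lemma hyp : Hyp (ι.essImage) (fun M => ι.essImage M ∧ Injective M) where
  isoK' := fun _ _ e h => ι.essImage.prop_of_iso e h
  isoK'' := fun _ _ e h => ⟨ι.essImage.prop_of_iso e h.1, Injective.of_iso e h.2⟩
  sub := fun _ h => h.1
  h1 := by
    intro M' M u hM' hu
    obtain ⟨Y', i, hi, hY'⟩ := hinj hM'.witness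
    let j : M' ⟶ ι.obj Y' := hM'.getIso.inv ≫ ι.map i
    have hj : Mono j := inferInstance
    refine ⟨ι.obj Y', Injective.factorThru j u, ⟨ι.obj_mem_essImage Y', hY'⟩, ?_⟩
    rw [Injective.comp_factorThru]
    exact hj
  h2 := by
    intro A₁ A₂ u h₁ h₂ _
    let u' : h₁.witness ⟶ h₂.witness := ι.preimage (h₁.getIso.hom ≫ u ≫ h₂.getIso.inv)
    have e : cokernel (ι.map u') ≅ cokernel u :=
      cokernel.mapIso _ _ h₁.getIso h₂.getIso (by
        dsimp only [u']
        rw [ι.map_preimage, Category.assoc, Category.assoc, Iso.inv_hom_id, Category.comp_id])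
    exact ι.essImage.prop_of_iso ((PreservesCokernel.iso ι u') ≪≫ e)
      (ι.obj_mem_essImage _)
  h3 := by
    rintro B B' ⟨hB, hBi⟩ ⟨hB', hBi'⟩
    refine ⟨?_, inferInstance⟩
    have : PreservesBinaryBiproducts ι := preservesBinaryBiproducts_of_preservesBiproducts ι
    exact ι.essImage.prop_of_iso
      ((ι.mapBiprod hB.witness hB'.witness) ≪≫ biprod.mapIso hB.getIso hB'.getIso)
      (ι.obj_mem_essImage _)

variable [HasDerivedCategory.{w'} A'] [HasDerivedCategory.{w} A]

include hinj in
theorem essSurj (Z : DerivedCategory A) (a : ℤ) [Z.IsGE a]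
    (hZ : ∀ i : ℤ, ι.essImage ((DerivedCategory.homologyFunctor A i).obj Z)) :
    ∃ (I : CochainComplex A' ℤ), I.IsStrictlyGE a ∧ (∀ n : ℤ, Injective (ι.obj (I.X n))) ∧
      Nonempty (ι.mapDerivedCategory.obj (DerivedCategory.Q.obj I) ≅ Z) := by
  let X := DerivedCategory.Q.objPreimage Z
  let e0 : DerivedCategory.Q.obj X ≅ Z := DerivedCategory.Q.objObjPreimageIso Z
  have h1 : (DerivedCategory.Q.obj X).IsGE a := DerivedCategory.TStructure.t.isGE_of_iso e0.symm a
  have h2 : X.IsGE a := by
    rw [← DerivedCategory.isGE_Q_obj_iff]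
    exact h1
  have hX : ∀ i, ι.essImage (X.homology i) := fun i =>
    ι.essImage.prop_of_iso ((DerivedCategory.homologyFunctor A i).mapIso e0.symm ≪≫
      (DerivedCategory.homologyFunctorFactors A i).app X) (hZ i)
  obtain ⟨J, f, hJ, hJ', hf⟩ := exists_res_int (hyp ι hinj) X a hX
  have hJ'' : ∀ n, ι.essImage (J.X n) ∧ Injective (J.X n) := by
    intro n
    by_cases hn : a ≤ n
    · exact hJ' n hn
    · have hz : IsZero (J.X n) := J.isZero_of_isStrictlyGE a n (by omega)
      exact ⟨ι.essImage.prop_of_iso (ι.mapZeroObject ≪≫ hz.isoZero.symm) (ι.obj_mem_essImage 0),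
        hz.injective⟩
  let I : CochainComplex A' ℤ := liftComplex ι J (fun n => (hJ'' n).1)
  let eI : (ι.mapHomologicalComplex (ComplexShape.up ℤ)).obj I ≅ J :=
    liftComplexIso ι J (fun n => (hJ'' n).1)
  have hI1 : CochainComplex.IsStrictlyGE
      ((ι.mapHomologicalComplex (ComplexShape.up ℤ)).obj I) a :=
    CochainComplex.isStrictlyGE_of_iso eI.symm a
  have hI2 : I.IsStrictlyGE a := by
    rw [← CochainComplex.isStrictlyGE_mapHomologicalComplex_obj_iff I ι]
    exact hI1
  have : IsIso (DerivedCategory.Q.map f) := by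
    rw [DerivedCategory.isIso_Q_map_iff_quasiIso]
    exact hf
  refine ⟨I, hI2, fun n => Injective.of_iso ((HomologicalComplex.eval A _ n).mapIso eI.symm)
    (hJ'' n).2, ⟨ι.mapDerivedCategoryFactors.app I ≪≫ DerivedCategory.Q.mapIso eI ≪≫
      (asIso (DerivedCategory.Q.map f)).symm ≪≫ e0⟩⟩

end Groth.Agent.H2.DPlusFF
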