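import Mathlib

/-!
# Four-lemma chases for a triangulated functor, injectivity and surjectivity separately (helper2)
-/

set_option autoImplicit false
set_option linter.unusedSectionVars false

open CategoryTheory Limits Pretriangulated

namespace Groth.Agent.H2.DRA

universe v₁ v₂ u₁ u₂

variable {C : Type u₁} [Category.{v₁} C] {D : Type u₂} [Category.{v₂} D]
  [HasShift C ℤ] [HasShift D ℤ] [Preadditive C] [Preadditive D]
  [HasZeroObject C] [HasZeroObject D]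
  [∀ n : ℤ, (shiftFunctor C n).Additive] [∀ n : ℤ, (shiftFunctor D n).Additive]
  [Pretriangulated C] [Pretriangulated D]
  (F : C ⥤ D) [F.CommShift ℤ]

/-- `F` is injective on `Hom(K, X)` -/
def Inj (K X : C) : Prop := Function.Injective (fun φ : K ⟶ X => F.map φ)

/-- `F` is surjective on `Hom(K, X)` -/
def Surj (K X : C) : Prop := Function.Surjective (fun φ : K ⟶ X => F.map φ)

variable {F}

lemma inj_iso_right {K X X' : C} (e : X ≅ X') (h : Inj F K X) : Inj F K X' := by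
  intro φ ψ hφψ
  have hφψ' : F.map φ = F.map ψ := hφψ
  have h1 : F.map (φ ≫ e.inv) = F.map (ψ ≫ e.inv) := by
    rw [F.map_comp, F.map_comp, hφψ']
  have h2 : φ ≫ e.inv = ψ ≫ e.inv := h h1
  exact (cancel_mono e.inv).1 h2

lemma surj_iso_right {K X X' : C} (e : X ≅ X') (h : Surj F K X) : Surj F K X' := by
  intro φ'
  obtain ⟨ψ, hψ⟩ := h (φ' ≫ F.map e.inv)
  have hψ' : F.map ψ = φ' ≫ F.map e.inv := hψ
  refine ⟨ψ ≫ e.hom, ?_⟩
  change F.map (ψ ≫ e.hom) = φ'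
  rw [F.map_comp, hψ', Category.assoc, ← F.map_comp, e.inv_hom_id, F.map_id, Category.comp_id]

variable [F.IsTriangulated]

/-- the covariant four-lemma chase, injectivity -/
lemma inj_obj₂ (T : Triangle C) (hT : T ∈ distTriang C) (K : C)
    (h₁ : Inj F K T.obj₁) (h₃ : Inj F K T.obj₃) (hs : Surj F K T.invRotate.obj₁) :
    Inj F K T.obj₂ := by
  have hTi := inv_rot_of_distTriang T hT
  have hTi' := F.map_distinguished _ hTi
  intro φ ψ hφψ
  have hφψ' : F.map φ = F.map ψ := hφψ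
  suffices hz : ∀ θ : K ⟶ T.obj₂, F.map θ = 0 → θ = 0 by
    have := hz (φ - ψ) (by rw [F.map_sub, hφψ', sub_self])
    exact sub_eq_zero.1 this
  intro θ hθ
  have h1 : θ ≫ T.mor₂ = 0 := by
    apply h₃
    change F.map (θ ≫ T.mor₂) = F.map 0
    rw [F.map_comp, hθ, zero_comp, F.map_zero]
  obtain ⟨ψ₁, hψ₁⟩ := Triangle.coyoneda_exact₂ T hT θ h1
  let u : T.invRotate.obj₁ ⟶ T.obj₁ := T.invRotate.mor₁
  have hu : u ≫ T.mor₁ = 0 := comp_distTriang_mor_zero₁₂ _ hTi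
  have hex : ∀ ξ : F.obj K ⟶ F.obj T.obj₁, ξ ≫ F.map T.mor₁ = 0 →
      ∃ χ' : F.obj K ⟶ F.obj T.invRotate.obj₁, ξ = χ' ≫ F.map u :=
    fun ξ hξ => Triangle.coyoneda_exact₂ _ hTi' ξ hξ
  have h2 : F.map ψ₁ ≫ F.map T.mor₁ = 0 := by
    rw [← F.map_comp, ← hψ₁, hθ]
  obtain ⟨χ', hχ'⟩ := hex (F.map ψ₁) h2
  obtain ⟨χ, hχ⟩ := hs χ'
  have hχ2 : F.map χ = χ' := hχ
  have h3 : ψ₁ = χ ≫ u := by
    apply h₁
    change F.map ψ₁ = F.map (χ ≫ u)
    rw [F.map_comp, hχ2, hχ']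
  rw [hψ₁, h3, Category.assoc, hu, comp_zero]

/-- the covariant four-lemma chase, surjectivity -/
lemma surj_obj₂ (T : Triangle C) (hT : T ∈ distTriang C) (K : C)
    (h₁ : Surj F K T.obj₁) (h₃ : Surj F K T.obj₃) (hi : Inj F K (T.obj₁⟦(1 : ℤ)⟧)) :
    Surj F K T.obj₂ := by
  have hT' := F.map_distinguished T hT
  intro φ'
  obtain ⟨α, hα⟩ := h₃ (φ' ≫ F.map T.mor₂)
  have hα' : F.map α = φ' ≫ F.map T.mor₂ := hα
  have h1 : α ≫ T.mor₃ = 0 := by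
    apply hi
    change F.map (α ≫ T.mor₃) = F.map 0
    rw [F.map_comp, hα', Category.assoc, ← F.map_comp, comp_distTriang_mor_zero₂₃ T hT,
      F.map_zero, comp_zero, F.map_zero]
  obtain ⟨β, hβ⟩ := Triangle.coyoneda_exact₃ T hT α h1
  have hex : ∀ ξ : F.obj K ⟶ F.obj T.obj₂, ξ ≫ F.map T.mor₂ = 0 →
      ∃ γ' : F.obj K ⟶ F.obj T.obj₁, ξ = γ' ≫ F.map T.mor₁ :=
    fun ξ hξ => Triangle.coyoneda_exact₂ _ hT' ξ hξ
  have h2 : (φ' - F.map β) ≫ F.map T.mor₂ = 0 := by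
    rw [Preadditive.sub_comp, ← hα', ← F.map_comp, ← hβ, sub_self]
  obtain ⟨γ', hγ'2⟩ := hex (φ' - F.map β) h2
  obtain ⟨γ, hγ⟩ := h₁ γ'
  have hγ2 : F.map γ = γ' := hγ
  refine ⟨β + γ ≫ T.mor₁, ?_⟩
  change F.map (β + γ ≫ T.mor₁) = φ'
  rw [F.map_add, F.map_comp, hγ2, ← hγ'2]
  abel

/-- shifted version, injectivity -/
lemma inj_step (T : Triangle C) (hT : T ∈ distTriang C) (K : C) (m m' : ℤ) (hm : m' + 1 = m)
    (h₁ : Inj F K (T.obj₁⟦m⟧)) (h₃ : Inj F K (T.obj₃⟦m⟧)) (hs : Surj F K (T.obj₃⟦m'⟧)) :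
    Inj F K (T.obj₂⟦m⟧) := by
  have hTm := Triangle.shift_distinguished T hT m
  refine inj_obj₂ _ hTm K h₁ h₃ ?_
  exact surj_iso_right ((shiftFunctorAdd' C m (-1) m' (by omega)).app T.obj₃) hs

/-- shifted version, surjectivity -/
lemma surj_step (T : Triangle C) (hT : T ∈ distTriang C) (K : C) (m m' : ℤ) (hm : m + 1 = m')
    (h₁ : Surj F K (T.obj₁⟦m⟧)) (h₃ : Surj F K (T.obj₃⟦m⟧)) (hi : Inj F K (T.obj₁⟦m'⟧)) :
    Surj F K (T.obj₂⟦m⟧) := by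
  have hTm := Triangle.shift_distinguished T hT m
  refine surj_obj₂ _ hTm K h₁ h₃ ?_
  exact inj_iso_right ((shiftFunctorAdd' C m 1 m' hm).app T.obj₁) hi

end Groth.Agent.H2.DRA
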