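import Groth.Agent.Lib.Helper2.DRLinB

/-!
# Linear dévissage: finiteness and the single surviving piece (helper2)
-/

universe w v u u'

set_option linter.style.haveILetI false
set_option linter.unusedSectionVars false

open CategoryTheory CategoryTheory.Limits CategoryTheory.Pretriangulated Opposite

namespace Groth.Agent.H2.DRL

open Groth.Agent.H2.DRS DerivedCategory KLinDR

variable {C : Type u} [Category.{v} C] [Abelian C] [HasDerivedCategory.{w} C]
  {R : Type u'} [Ring R]

/-- the middle term of an exact sequence of modules over a noetherian ring is finite if the outer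
ones are. -/
lemma finite_of_exact_of_noetherian [IsNoetherianRing R] {M N P : Type*} [AddCommGroup M]
    [Module R M] [AddCommGroup N] [Module R N] [AddCommGroup P] [Module R P]
    (f : M →ₗ[R] N) (g : N →ₗ[R] P) (h : Function.Exact f g) [Module.Finite R M]
    [Module.Finite R P] : Module.Finite R N := by
  haveI : IsNoetherian R P := isNoetherian_of_isNoetherianRing_of_finite R P
  refine Module.Finite.of_exact (f := f) (g := g.rangeRestrict) ?_ g.surjective_rangeRestrict
  intro y
  rw [← h y]
  constructor
  · intro hy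
    exact congrArg Subtype.val hy
  · intro hy
    exact Subtype.ext hy

section

variable (L : CochainComplex C ℤ) (a : ℤ) (h : IsZero (L.X (a - 1))) (ρ : R →+* End L)

lemma isZero_upper_lo (hlo : ∀ i, i < a → IsZero (L.X i)) :
    ∀ i, i < a + 1 → IsZero ((upper L a h).X i) := by
  intro i hi
  by_cases hia : i = a
  · subst hia
    exact isZero_upper_X_self L i h
  · exact isZero_upper_X L a h i (hlo i (by omega))

/-- the graded pieces of the upper part are those of the complex. -/
noncomputable def upperPieceEquiv (T : C) (p m : ℤ) (hp : p ≠ a) :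
    PieceR T ((upper L a h).X p) (bottomρ (upper L a h) (upperρ L a h ρ) p) p m ≃ₗ[R]
      PieceR T (L.X p) (bottomρ L ρ p) p m :=
  pieceREquiv T _ _ (upperXIso L a h p hp)
    (fun r => upperMap_f_comp_upperXIso L a h (ρ r) p hp) p m

end

/-- a complex vanishing below degree `a` has no hypercohomology below degree `a`. -/
lemma subsingleton_HT_of_lt (T : C) (L : CochainComplex C ℤ) (a m : ℤ)
    (hlo : ∀ i, i < a → IsZero (L.X i)) (hm : m < a) :
    Subsingleton ((singleFunctor C 0).obj T ⟶ (Q.obj L)⟦m⟧) := by
  haveI : L.IsStrictlyGE a := (L.isStrictlyGE_iff a).2 (fun i hi => hlo i hi)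
  haveI : (Q.obj L).IsGE a := inferInstance
  haveI : ((Q.obj L)⟦m⟧).IsGE (a - m) := TStructure.t.isGE_shift (Q.obj L) a m (a - m) (by omega)
  refine subsingleton_of_forall_eq 0 (fun x => ?_)
  exact TStructure.t.zero_of_isLE_of_isGE x 0 (a - m) (by omega)
    (inferInstanceAs (((singleFunctor C 0).obj T).IsLE 0)) inferInstance

/-- **Finiteness** of the hypercohomology from finiteness of the graded pieces (no upper bound on
the complex is needed: only the pieces in degrees `≤ m` matter). -/
theorem finite_of_pieces [IsNoetherianRing R] (T : C) (m : ℤ) :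
    ∀ (N : ℕ) (L : CochainComplex C ℤ) (a : ℤ) (ρ : R →+* End L),
      (∀ i, i < a → IsZero (L.X i)) → m < a + N →
      (∀ p, a ≤ p → p < a + N → Module.Finite R (PieceR T (L.X p) (bottomρ L ρ p) p m)) →
      Module.Finite R (HTρ T L ρ m) := by
  intro N
  induction N with
  | zero =>
    intro L a ρ hlo hm _
    haveI : Subsingleton (HTρ T L ρ m) :=
      subsingleton_HT_of_lt T L a m hlo (by push_cast at hm; omega)
    infer_instance
  | succ N ih =>
    intro L a ρ hlo hm hfin
    have h := hlo (a - 1) (by omega)
    haveI : Module.Finite R (HTρ T (upper L a h) (upperρ L a h ρ) m) := by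
      refine ih (upper L a h) (a + 1) (upperρ L a h ρ) (isZero_upper_lo L a h hlo)
        (by push_cast at hm; omega) (fun p hp1 hp2 => ?_)
      haveI := hfin p (by omega) (by push_cast; omega)
      exact Module.Finite.equiv (upperPieceEquiv L a h ρ T p m (by omega)).symm
    haveI := hfin a le_rfl (by push_cast; omega)
    exact finite_of_exact_of_noetherian _ _ (exact_middle L a h ρ T m)

/-- **One surviving piece**, linearly. -/
theorem nonempty_linearEquiv_piece (T : C) (m p₀ : ℤ) :
    ∀ (N : ℕ) (L : CochainComplex C ℤ) (a : ℤ) (ρ : R →+* End L),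
      (∀ i, i < a → IsZero (L.X i)) → (∀ i, a + N ≤ i → IsZero (L.X i)) →
      a ≤ p₀ → p₀ < a + N →
      (∀ p, a ≤ p → p < a + N → p ≠ p₀ →
        Subsingleton (Piece ((singleFunctor C 0).obj T) (L.X p) p m)) →
      (∀ p, p₀ < p → p < a + N →
        Subsingleton (Piece ((singleFunctor C 0).obj T) (L.X p) p (m + 1))) →
      (∀ p, a ≤ p → p < p₀ →
        Subsingleton (Piece ((singleFunctor C 0).obj T) (L.X p) p (m - 1))) →
      Nonempty (HTρ T L ρ m ≃ₗ[R] PieceR T (L.X p₀) (bottomρ L ρ p₀) p₀ m) := by
  intro N
  induction N with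
  | zero =>
    intro L a ρ _ _ h1 h2 _ _ _
    exfalso
    push_cast at h2
    omega
  | succ N ih =>
    intro L a ρ hlo hhi hap hpN hpc hpc1 hpc2
    have h := hlo (a - 1) (by omega)
    have hupper_lo := isZero_upper_lo L a h hlo
    have hupper_hi : ∀ i, a + 1 + N ≤ i → IsZero ((upper L a h).X i) := fun i hi =>
      isZero_upper_X L a h i (hhi i (by push_cast; omega))
    have hupper_iso : ∀ p, a + 1 ≤ p → p < a + 1 + N →
        Nonempty ((upper L a h).X p ≅ L.X p) := fun p hp1 _ =>
      ⟨upperXIso L a h p (by omega)⟩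
    by_cases hap' : a = p₀
    · subst hap'
      have h₁ : Subsingleton (((singleFunctor C 0).obj T) ⟶ (tri L a h).obj₁⟦m⟧) :=
        subsingleton_of_pieces _ m (fun p => L.X p) N (upper L a h) (a + 1) hupper_lo hupper_hi
          hupper_iso (fun p hp1 hp2 => hpc p (by omega) (by push_cast; omega) (by omega))
      have h₁' : Subsingleton (((singleFunctor C 0).obj T) ⟶ (tri L a h).obj₁⟦m + 1⟧) :=
        subsingleton_of_pieces _ (m + 1) (fun p => L.X p) N (upper L a h) (a + 1) hupper_lo
          hupper_hi hupper_iso (fun p hp1 hp2 => hpc1 p (by omega) (by push_cast; omega))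
      have hb := bijective_postShift_mor₂ (tri L a h) (tri_distinguished L a h)
        ((singleFunctor C 0).obj T) m (m + 1) rfl h₁ h₁'
      have hb' : Function.Bijective
          (HTρmap T (toSingle L a h) (commutes_toSingle L a h ρ) m) := hb
      exact ⟨LinearEquiv.ofBijective _ hb'⟩
    · have hap'' : a < p₀ := lt_of_le_of_ne hap hap'
      have h₃' : Subsingleton (((singleFunctor C 0).obj T) ⟶ (tri L a h).obj₃⟦m - 1⟧) :=
        hpc2 a le_rfl hap''
      have h₃ : Subsingleton (((singleFunctor C 0).obj T) ⟶ (tri L a h).obj₃⟦m⟧) :=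
        hpc a le_rfl (by push_cast; omega) hap'
      have hb := bijective_postShift_mor₁ (tri L a h) (tri_distinguished L a h)
        ((singleFunctor C 0).obj T) (m - 1) m (by omega) h₃' h₃
      have hb' : Function.Bijective
          (HTρmap T (upperι L a h) (commutes_upperι L a h ρ) m) := hb
      have hsub : ∀ (p m' : ℤ), p ≠ a →
          Subsingleton (Piece ((singleFunctor C 0).obj T) (L.X p) p m') →
          Subsingleton (Piece ((singleFunctor C 0).obj T) ((upper L a h).X p) p m') := by
        intro p m' hp hs
        exact (pieceEquiv ((singleFunctor C 0).obj T) (upperXIso L a h p hp) p m').toEquiv.subsingleton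
      obtain ⟨e'⟩ := ih (upper L a h) (a + 1) (upperρ L a h ρ) hupper_lo hupper_hi (by omega)
        (by push_cast at hpN ⊢; omega)
        (fun p hp1 hp2 hp3 => hsub p m (by omega) (hpc p (by omega) (by push_cast; omega) hp3))
        (fun p hp1 hp2 => hsub p (m + 1) (by omega) (hpc1 p hp1 (by push_cast; omega)))
        (fun p hp1 hp2 => hsub p (m - 1) (by omega) (hpc2 p (by omega) hp2))
      exact ⟨(LinearEquiv.ofBijective _ hb').symm ≪≫ₗ e' ≪≫ₗ
        upperPieceEquiv L a h ρ T p₀ m (by omega)⟩

end Groth.Agent.H2.DRL
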