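import Groth.Agent.Lib.Helper2.DRAffA
import Groth.Agent.Lib.Helper2.DRLinC

/-!
# Morphisms in the homotopy category versus the derived category, from a single object to a bounded
# below complex of acyclic objects (helper2)
-/

universe w v u

set_option autoImplicit false
set_option linter.style.haveILetI false
set_option linter.unusedSectionVars false

open CategoryTheory CategoryTheory.Limits CategoryTheory.Pretriangulated Opposite

namespace Groth.Agent.H2.DRA

open DerivedCategory Groth.Agent.H2.DRS CochainComplex.HomComplex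

variable {C : Type u} [Category.{v} C] [Abelian C] [HasDerivedCategory.{w} C]

/-- the quotient functor to the homotopy category. -/
noncomputable abbrev hq (C : Type u) [Category.{v} C] [Abelian C] :
    CochainComplex C ℤ ⥤ HomotopyCategory C (ComplexShape.up ℤ) :=
  HomotopyCategory.quotient C (ComplexShape.up ℤ)

/-- the source: an object in degree `0`, in the homotopy category. -/
noncomputable abbrev srcK (T : C) : HomotopyCategory C (ComplexShape.up ℤ) :=
  (hq C).obj ((CochainComplex.singleFunctor C 0).obj T)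

/-- `M` has no higher `Ext` from `T`. -/
def Acyc (T M : C) : Prop :=
  ∀ p m : ℤ, p < m → Subsingleton (Piece ((singleFunctor C 0).obj T) M p m)

lemma Acyc.of_iso {T M M' : C} (e : M ≅ M') (h : Acyc T M) : Acyc T M' := by
  intro p m hpm
  have := h p m hpm
  exact (pieceEquiv ((singleFunctor C 0).obj T) e p m).symm.toEquiv.subsingleton

/-- no maps in the homotopy category to a shift whose relevant term vanishes. -/
lemma subsingleton_homK (T : C) (L : CochainComplex C ℤ) (m : ℤ) (h : IsZero (L.X m)) :
    Subsingleton (srcK T ⟶ ((hq C).obj L)⟦m⟧) := by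
  have h1 : Subsingleton (T ⟶ L.X m) := ⟨fun x y => h.eq_of_tgt x y⟩
  have h2 : Subsingleton (Cochain ((CochainComplex.singleFunctor C 0).obj T) L m) :=
    (Cochain.fromSingleEquiv (X := T) (K := L) (p := 0) (q := m) (n := m)
      (zero_add m)).toEquiv.subsingleton
  have h3 : Subsingleton (Cocycle ((CochainComplex.singleFunctor C 0).obj T) L m) :=
    ⟨fun x y => Subtype.ext (Subsingleton.elim _ _)⟩
  have h4 : Subsingleton (CohomologyClass ((CochainComplex.singleFunctor C 0).obj T) L m) := by
    refine ⟨fun x y => ?_⟩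
    obtain ⟨x, rfl⟩ := x.mk_surjective
    obtain ⟨y, rfl⟩ := y.mk_surjective
    rw [Subsingleton.elim x y]
  have h5 : Subsingleton (srcK T ⟶ (hq C).obj (L⟦m⟧)) :=
    (CohomologyClass.homAddEquiv (K := (CochainComplex.singleFunctor C 0).obj T) (L := L)
      (n := m)).symm.toEquiv.subsingleton
  have e : (hq C).obj (L⟦m⟧) ≅ ((hq C).obj L)⟦m⟧ := ((hq C).commShiftIso m).app L
  exact (Iso.homCongr (Iso.refl (srcK T)) e).symm.subsingleton

/-- the image of the source in the derived category. -/
noncomputable def srcIso (T : C) : Qh.obj (srcK T) ≅ (singleFunctor C 0).obj T :=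
  (quotientCompQhIso C).app _ ≪≫ ((singleFunctorIsoCompQ C 0).app T).symm

/-- the image of a shifted complex in the derived category. -/
noncomputable def tgtIso (L : CochainComplex C ℤ) (m : ℤ) :
    Qh.obj (((hq C).obj L)⟦m⟧) ≅ (Q.obj L)⟦m⟧ :=
  (Qh.commShiftIso m).app ((hq C).obj L) ≪≫
    (shiftFunctor (DerivedCategory C) m).mapIso ((quotientCompQhIso C).app L)

lemma subsingleton_homD (T : C) (L : CochainComplex C ℤ) (m : ℤ)
    (h : Subsingleton ((singleFunctor C 0).obj T ⟶ (Q.obj L)⟦m⟧)) :
    Subsingleton (Qh.obj (srcK T) ⟶ Qh.obj (((hq C).obj L)⟦m⟧)) :=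
  (Iso.homCongr (srcIso T) (tgtIso L m)).subsingleton

lemma inj_of_subsingleton {X Y : HomotopyCategory C (ComplexShape.up ℤ)}
    (h : Subsingleton (X ⟶ Y)) : Inj (Qh (C := C)) X Y :=
  fun _ _ _ => Subsingleton.elim _ _

lemma surj_of_subsingleton {X Y : HomotopyCategory C (ComplexShape.up ℤ)}
    (h : Subsingleton (Qh.obj X ⟶ Qh.obj Y)) : Surj (Qh (C := C)) X Y :=
  fun _ => ⟨0, Subsingleton.elim _ _⟩


/-- the composite `C ⥤ K(C) ⥤ D(C)` through complexes in degree `0`. -/
noncomputable abbrev singleKD (C : Type u) [Category.{v} C] [Abelian C] [HasDerivedCategory.{w} C] :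
    C ⥤ DerivedCategory C :=
  CochainComplex.singleFunctor C 0 ⋙ hq C ⋙ Qh

noncomputable def singleKDIso : singleKD C ≅ singleFunctor C 0 :=
  Functor.isoWhiskerLeft (CochainComplex.singleFunctor C 0) (quotientCompQhIso C) ≪≫
    (singleFunctorIsoCompQ C 0).symm

instance : (singleKD C).Full := Functor.Full.of_iso singleKDIso.symm

instance : (singleKD C).Faithful := Functor.Faithful.of_iso singleKDIso.symm

lemma inj_single₀ (T M : C) :
    Inj (Qh (C := C)) (srcK T) ((hq C).obj ((CochainComplex.singleFunctor C 0).obj M)) := by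
  intro φ ψ hφψ
  have hφψ' : Qh.map φ = Qh.map ψ := hφψ
  obtain ⟨f, rfl⟩ := (hq C).map_surjective φ
  obtain ⟨g, rfl⟩ := (hq C).map_surjective ψ
  obtain ⟨f₀, rfl⟩ := (CochainComplex.singleFunctor C 0).map_surjective f
  obtain ⟨g₀, rfl⟩ := (CochainComplex.singleFunctor C 0).map_surjective g
  have h : (singleKD C).map f₀ = (singleKD C).map g₀ := hφψ'
  rw [(singleKD C).map_injective h]

lemma surj_single₀ (T M : C) :
    Surj (Qh (C := C)) (srcK T) ((hq C).obj ((CochainComplex.singleFunctor C 0).obj M)) := by
  intro y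
  obtain ⟨g, hg⟩ := (singleKD C).map_surjective (X := T) (Y := M) y
  exact ⟨(hq C).map ((CochainComplex.singleFunctor C 0).map g), hg⟩

/-- `(M[-a])⟦a⟧ ≅ M[0]` in the homotopy category. -/
noncomputable def singleShiftIsoK (M : C) (a : ℤ) :
    ((hq C).obj ((CochainComplex.singleFunctor C a).obj M))⟦a⟧ ≅
      (hq C).obj ((CochainComplex.singleFunctor C 0).obj M) :=
  (((hq C).commShiftIso a).app _).symm ≪≫
    (hq C).mapIso (((CochainComplex.singleFunctors C).shiftIso a 0 a (add_zero a)).app M)

lemma piece_subsingleton_iff (T M : C) (a m : ℤ) :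
    Subsingleton (Piece ((singleFunctor C 0).obj T) M a m) →
    Subsingleton ((singleFunctor C 0).obj T ⟶
      (Q.obj ((CochainComplex.singleFunctor C a).obj M))⟦m⟧) := by
  intro h
  exact (homAddEquivOfIso ((singleFunctor C 0).obj T)
    ((shiftFunctor (DerivedCategory C) m).mapIso
      ((singleFunctorIsoCompQ C a).app M))).symm.toEquiv.subsingleton

/-- the case of a single object in degree `a`. -/
lemma inj_surj_single (T M : C) (hM : Acyc T M) (a m : ℤ) :
    Inj (Qh (C := C)) (srcK T) (((hq C).obj ((CochainComplex.singleFunctor C a).obj M))⟦m⟧) ∧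
    Surj (Qh (C := C)) (srcK T) (((hq C).obj ((CochainComplex.singleFunctor C a).obj M))⟦m⟧) := by
  by_cases hma : m = a
  · subst hma
    exact ⟨inj_iso_right (singleShiftIsoK M m).symm (inj_single₀ T M),
      surj_iso_right (singleShiftIsoK M m).symm (surj_single₀ T M)⟩
  · refine ⟨inj_of_subsingleton (subsingleton_homK T _ m ?_),
      surj_of_subsingleton (subsingleton_homD T _ m (piece_subsingleton_iff T M a m ?_))⟩
    · exact HomologicalComplex.isZero_single_obj_X (ComplexShape.up ℤ) a M m hma
    · by_cases h : a < m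
      · exact hM a m h
      · exact subsingleton_piece_of_lt T M a m (by omega)

end Groth.Agent.H2.DRA
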