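import Groth.Agent.Lib.Helper2.DRAffB

/-!
# Dévissage: `K(C) → D(C)` is bijective on maps from a single object to a bounded below complex of
# acyclic objects (helper2)
-/

universe w v u

set_option autoImplicit false
set_option linter.style.haveILetI false
set_option linter.unusedSectionVars false

open CategoryTheory CategoryTheory.Limits CategoryTheory.Pretriangulated Opposite

namespace Groth.Agent.H2.DRA

open DerivedCategory Groth.Agent.H2.DRS CochainComplex.HomComplex

variable {C : Type u} [Category.{v} C] [Abelian C] [HasDerivedCategory.{w} C]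

/-- the degreewise splittings of `0 → σ_{>a} L → L → L^a[-a] → 0`. -/
noncomputable def scSplitting (L : CochainComplex C ℤ) (a : ℤ) (h : IsZero (L.X (a - 1))) (n : ℤ) :
    ((sc L a h).map (HomologicalComplex.eval C (ComplexShape.up ℤ) n)).Splitting :=
  if hn : n = a then
    ShortComplex.Splitting.ofIsZeroOfIsIso _ (by
      subst hn
      exact isZero_upper_X_self L n h) (by
      subst hn
      exact isIso_toSingle_f L n h)
  else
    ShortComplex.Splitting.ofIsIsoOfIsZero _ (isIso_upper_ι_f L a h n hn)
      (HomologicalComplex.isZero_single_obj_X (ComplexShape.up ℤ) a (L.X a) n hn)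

/-- the distinguished triangle in the homotopy category. -/
noncomputable def triK (L : CochainComplex C ℤ) (a : ℤ) (h : IsZero (L.X (a - 1))) :
    Triangle (HomotopyCategory C (ComplexShape.up ℤ)) :=
  CochainComplex.trianglehOfDegreewiseSplit (sc L a h) (scSplitting L a h)

lemma triK_distinguished (L : CochainComplex C ℤ) (a : ℤ) (h : IsZero (L.X (a - 1))) :
    triK L a h ∈ distTriang (HomotopyCategory C (ComplexShape.up ℤ)) := by
  rw [HomotopyCategory.distinguished_iff_iso_trianglehOfDegreewiseSplit]
  exact ⟨_, _, ⟨Iso.refl _⟩⟩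

theorem inj_of_bddBelow (T : C) (m : ℤ) :
    ∀ (N : ℕ) (L : CochainComplex C ℤ) (a : ℤ),
      (∀ i, i < a → IsZero (L.X i)) → m < a + N → (∀ p, a ≤ p → Acyc T (L.X p)) →
      Inj (Qh (C := C)) (srcK T) (((hq C).obj L)⟦m⟧) := by
  intro N
  induction N with
  | zero =>
    intro L a hlo hm _
    exact inj_of_subsingleton (subsingleton_homK T L m (hlo m (by push_cast at hm; omega)))
  | succ N ih =>
    intro L a hlo hm hac
    have h := hlo (a - 1) (by omega)
    have h₁ := ih (upper L a h) (a + 1) (Groth.Agent.H2.DRL.isZero_upper_lo L a h hlo)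
      (by push_cast at hm; omega)
      (fun p hp => (hac p (by omega)).of_iso (upperXIso L a h p (by omega)).symm)
    have h₃ := inj_surj_single T (L.X a) (hac a le_rfl) a
    exact inj_step (triK L a h) (triK_distinguished L a h) (srcK T) m (m - 1) (by omega)
      h₁ (h₃ m).1 (h₃ (m - 1)).2

theorem surj_of_bddBelow (T : C) (m : ℤ) :
    ∀ (N : ℕ) (L : CochainComplex C ℤ) (a : ℤ),
      (∀ i, i < a → IsZero (L.X i)) → m < a + N → (∀ p, a ≤ p → Acyc T (L.X p)) →
      Surj (Qh (C := C)) (srcK T) (((hq C).obj L)⟦m⟧) := by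
  intro N
  induction N with
  | zero =>
    intro L a hlo hm _
    exact surj_of_subsingleton (subsingleton_homD T L m
      (Groth.Agent.H2.DRL.subsingleton_HT_of_lt T L a m hlo (by push_cast at hm; omega)))
  | succ N ih =>
    intro L a hlo hm hac
    have h := hlo (a - 1) (by omega)
    have hlo' := Groth.Agent.H2.DRL.isZero_upper_lo L a h hlo
    have hac' : ∀ p, a + 1 ≤ p → Acyc T ((upper L a h).X p) :=
      fun p hp => (hac p (by omega)).of_iso (upperXIso L a h p (by omega)).symm
    have h₁ := ih (upper L a h) (a + 1) hlo' (by push_cast at hm; omega) hac'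
    have h₃ := inj_surj_single T (L.X a) (hac a le_rfl) a
    have hi := inj_of_bddBelow T (m + 1) (N + 1) (upper L a h) (a + 1) hlo'
      (by push_cast at hm ⊢; omega) hac'
    exact surj_step (triK L a h) (triK_distinguished L a h) (srcK T) m (m + 1) rfl
      h₁ (h₃ m).2 hi

/-- **Main dévissage**: bijectivity of `K(C) → D(C)`. -/
theorem bijective_Qh_map (T : C) (L : CochainComplex C ℤ) (a : ℤ)
    (hlo : ∀ i, i < a → IsZero (L.X i)) (hac : ∀ p, a ≤ p → Acyc T (L.X p)) (m : ℤ) :
    Function.Bijective (fun φ : (srcK T ⟶ ((hq C).obj L)⟦m⟧) => Qh.map φ) :=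
  ⟨inj_of_bddBelow T m (m - a + 1).toNat L a hlo (by omega) hac,
    surj_of_bddBelow T m (m - a + 1).toNat L a hlo (by omega) hac⟩

end Groth.Agent.H2.DRA
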