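import Groth.Agent.Lib.Helper2.DRAffC

/-!
# Hypercohomology of a bounded below complex of acyclic objects is computed by the complex of
# morphisms from the source (helper2)
-/

universe w v u

set_option autoImplicit false
set_option linter.style.haveILetI false
set_option linter.unusedSectionVars false

open CategoryTheory CategoryTheory.Limits CategoryTheory.Pretriangulated Opposite

namespace Groth.Agent.H2.DRA

open DerivedCategory Groth.Agent.H2.DRS CochainComplex.HomComplex

variable {C : Type u} [Category.{v} C] [Abelian C] [HasDerivedCategory.{w} C]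

/-- post-composition with the differential. -/
noncomputable def postD (T : C) (L : CochainComplex C ℤ) (i j : ℤ) : (T ⟶ L.X i) →+ (T ⟶ L.X j) where
  toFun x := x ≫ L.d i j
  map_zero' := by simp
  map_add' x y := by simp

lemma postD_apply (T : C) (L : CochainComplex C ℤ) (i j : ℤ) (x : T ⟶ L.X i) :
    postD T L i j x = x ≫ L.d i j := rfl

/-- the cohomology of the complex `Hom(T, L^•)` in degree `n`. -/
abbrev Hn (T : C) (L : CochainComplex C ℤ) (n : ℤ) : Type v :=
  (postD T L n (n + 1)).ker ⧸ ((postD T L (n - 1) n).range.addSubgroupOf (postD T L n (n + 1)).ker)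

/-- cocycles of `Hom(T, L^•)` to cohomology classes of the hom complex. -/
noncomputable def toClass (T : C) (L : CochainComplex C ℤ) (n : ℤ) :
    (postD T L n (n + 1)).ker →+ CohomologyClass ((CochainComplex.singleFunctor C 0).obj T) L n where
  toFun f := CohomologyClass.mk (Cocycle.fromSingleMk f.1 (zero_add n) (n + 1) rfl f.2)
  map_zero' := by
    have := Cocycle.fromSingleMk_zero T L (p := 0) (q := n) (n := n) (zero_add n) (n + 1) rfl
    change CohomologyClass.mk (Cocycle.fromSingleMk 0 (zero_add n) (n + 1) rfl _) = 0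
    rw [this]
    rfl
  map_add' f g := by
    change CohomologyClass.mk (Cocycle.fromSingleMk (f.1 + g.1) (zero_add n) (n + 1) rfl _) = _
    rw [Cocycle.fromSingleMk_add f.1 g.1 (zero_add n) (n + 1) rfl f.2 g.2]
    rfl

lemma toClass_surjective (T : C) (L : CochainComplex C ℤ) (n : ℤ) :
    Function.Surjective (toClass T L n) := by
  intro x
  obtain ⟨x, rfl⟩ := x.mk_surjective
  obtain ⟨f, hf, rfl⟩ := Cocycle.fromSingleMk_surjective x n (zero_add n) (n + 1) rfl
  exact ⟨⟨f, hf⟩, rfl⟩

lemma toClass_ker (T : C) (L : CochainComplex C ℤ) (n : ℤ) :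
    (toClass T L n).ker = (postD T L (n - 1) n).range.addSubgroupOf (postD T L n (n + 1)).ker := by
  ext f
  rw [AddMonoidHom.mem_ker, AddSubgroup.mem_addSubgroupOf, AddMonoidHom.mem_range]
  change CohomologyClass.mk (Cocycle.fromSingleMk f.1 (zero_add n) (n + 1) rfl f.2) = 0 ↔ _
  rw [CohomologyClass.mk_eq_zero_iff,
    Cocycle.fromSingleMk_mem_coboundaries_iff f.1 (zero_add n) (n + 1) rfl f.2 (n - 1) (by omega)]
  rfl

/-- `H^n(Hom(T, L^•)) ≃ H^n` of the hom complex. -/
noncomputable def hnEquivClass (T : C) (L : CochainComplex C ℤ) (n : ℤ) :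
    Hn T L n ≃+ CohomologyClass ((CochainComplex.singleFunctor C 0).obj T) L n :=
  (QuotientAddGroup.quotientAddEquivOfEq (toClass_ker T L n).symm).trans
    (QuotientAddGroup.quotientKerEquivOfSurjective (toClass T L n) (toClass_surjective T L n))

/-- transport of `Hom` along isomorphisms on both sides, additively. -/
noncomputable def homCongrAdd {D : Type*} [Category D] [Preadditive D] {X X' Y Y' : D}
    (e : X ≅ X') (e' : Y ≅ Y') : (X ⟶ Y) ≃+ (X' ⟶ Y') where
  toFun x := e.inv ≫ x ≫ e'.hom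
  invFun y := e.hom ≫ y ≫ e'.inv
  left_inv x := by simp
  right_inv y := by simp
  map_add' x y := by simp

/-- **Hypercohomology of a bounded below complex of acyclic objects.** -/
theorem nonempty_equiv_Hn (T : C) (L : CochainComplex C ℤ) (a : ℤ)
    (hlo : ∀ i, i < a → IsZero (L.X i)) (hac : ∀ p, a ≤ p → Acyc T (L.X p)) (n : ℤ) :
    Nonempty (((singleFunctor C 0).obj T ⟶ (Q.obj L)⟦n⟧) ≃+ Hn T L n) := by
  have e1 := CohomologyClass.homAddEquiv (K := (CochainComplex.singleFunctor C 0).obj T) (L := L)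
    (n := n)
  have e2 : (srcK T ⟶ (hq C).obj (L⟦n⟧)) ≃+ (srcK T ⟶ ((hq C).obj L)⟦n⟧) :=
    homCongrAdd (Iso.refl _) (((hq C).commShiftIso n).app L)
  have e3 : (srcK T ⟶ ((hq C).obj L)⟦n⟧) ≃+ (Qh.obj (srcK T) ⟶ Qh.obj (((hq C).obj L)⟦n⟧)) :=
    AddEquiv.ofBijective (Qh.mapAddHom (X := srcK T) (Y := ((hq C).obj L)⟦n⟧))
      (bijective_Qh_map T L a hlo hac n)
  have e4 : (Qh.obj (srcK T) ⟶ Qh.obj (((hq C).obj L)⟦n⟧)) ≃+
      ((singleFunctor C 0).obj T ⟶ (Q.obj L)⟦n⟧) := homCongrAdd (srcIso T) (tgtIso L n)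
  exact ⟨((((hnEquivClass T L n).trans e1).trans e2).trans e3).trans e4 |>.symm⟩

end Groth.Agent.H2.DRA
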