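import Mathlib

/-!
# Cohomology of a sequence of additive groups, as a quotient of subgroups (helper2)
-/

set_option autoImplicit false

namespace Groth.Agent.H2.DRA

/-- congruence of subquotients along an additive equivalence. -/
noncomputable def quotCongr {B B' : Type*} [AddCommGroup B] [AddCommGroup B'] (β : B ≃+ B')
    (Z I : AddSubgroup B) (Z' I' : AddSubgroup B') (hZ : ∀ x, x ∈ Z ↔ β x ∈ Z')
    (hI : ∀ x, x ∈ I ↔ β x ∈ I') :
    (Z ⧸ I.addSubgroupOf Z) ≃+ (Z' ⧸ I'.addSubgroupOf Z') := by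
  let e : Z ≃+ Z' :=
    { toFun := fun x => ⟨β x, (hZ x).1 x.2⟩
      invFun := fun y => ⟨β.symm y, (hZ _).2 (by simp)⟩
      left_inv := fun x => by ext; simp
      right_inv := fun y => by ext; simp
      map_add' := fun x y => by ext; simp }
  refine QuotientAddGroup.congr _ _ e ?_
  ext y
  constructor
  · rintro ⟨x, hx, rfl⟩
    rw [AddSubgroup.mem_addSubgroupOf]
    exact (hI _).1 hx
  · intro hy
    rw [AddSubgroup.mem_addSubgroupOf] at hy
    refine ⟨e.symm y, ?_, by simp⟩
    change (e.symm y : B) ∈ I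
    rw [hI]
    change β (β.symm y) ∈ I'
    simpa using hy

section Seq

variable (G : ℕ → Type*) [∀ p, AddCommGroup (G p)] (d : ∀ p, G p →+ G (p + 1))

/-- coboundaries: `0` in degree `0`, the image of the previous differential otherwise. -/
def bd : ∀ n : ℕ, AddSubgroup (G n)
  | 0 => ⊥
  | p + 1 => (d p).range

/-- the cohomology of a sequence of additive groups. -/
abbrev Hseq (n : ℕ) : Type _ := (d n).ker ⧸ ((bd G d n).addSubgroupOf (d n).ker)

variable {G d}
variable {G' : ℕ → Type*} [∀ p, AddCommGroup (G' p)] {d' : ∀ p, G' p →+ G' (p + 1)}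

/-- an isomorphism of sequences induces an isomorphism on cohomology. -/
noncomputable def hseqCongr (e : ∀ p, G p ≃+ G' p)
    (h : ∀ p x, e (p + 1) (d p x) = d' p (e p x)) (n : ℕ) : Hseq G d n ≃+ Hseq G' d' n := by
  refine quotCongr (e n) _ _ _ _ (fun x => ?_) (fun x => ?_)
  · rw [AddMonoidHom.mem_ker, AddMonoidHom.mem_ker, ← h]
    exact (EmbeddingLike.map_eq_zero_iff (f := e (n + 1))).symm
  · cases n with
    | zero =>
      change x ∈ (⊥ : AddSubgroup (G 0)) ↔ e 0 x ∈ (⊥ : AddSubgroup (G' 0))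
      rw [AddSubgroup.mem_bot, AddSubgroup.mem_bot, EmbeddingLike.map_eq_zero_iff]
    | succ p =>
      change x ∈ (d p).range ↔ e (p + 1) x ∈ (d' p).range
      constructor
      · rintro ⟨y, rfl⟩
        exact ⟨e p y, (h p y).symm⟩
      · rintro ⟨y, hy⟩
        refine ⟨(e p).symm y, (e (p + 1)).injective ?_⟩
        rw [h, AddEquiv.apply_symm_apply, hy]

end Seq

end Groth.Agent.H2.DRA
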