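import Groth.Agent.Lib.Helper2.DRAffE
import Groth.Prelude.Def_DeRham

/-!
# The cohomology of the ring-level de Rham complex as a quotient of subgroups (helper2)
-/

universe v u

set_option autoImplicit false

open CategoryTheory

namespace Groth.Agent.H2.DRA

section ModuleCat

variable {R : Type v} [Ring R]

/-- the homology of a short complex of modules, additively. -/
noncomputable def scHomologyAddEquiv (S : ShortComplex (ModuleCat.{u} R)) :
    S.homology ≃+ (S.g.hom.toAddMonoidHom.ker ⧸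
      (S.f.hom.toAddMonoidHom.range).addSubgroupOf S.g.hom.toAddMonoidHom.ker) := by
  refine S.moduleCatHomologyIso.toLinearEquiv.toAddEquiv.trans ?_
  let e : (LinearMap.ker S.g.hom) ≃+ S.g.hom.toAddMonoidHom.ker :=
    { toFun := fun x => ⟨x.1, x.2⟩
      invFun := fun x => ⟨x.1, x.2⟩
      left_inv := fun _ => rfl
      right_inv := fun _ => rfl
      map_add' := fun _ _ => rfl }
  refine QuotientAddGroup.congr (LinearMap.range S.moduleCatToCycles).toAddSubgroup _ e ?_
  ext y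
  constructor
  · rintro ⟨x, ⟨z, rfl⟩, rfl⟩
    rw [AddSubgroup.mem_addSubgroupOf]
    exact ⟨z, rfl⟩
  · intro hy
    rw [AddSubgroup.mem_addSubgroupOf] at hy
    obtain ⟨z, hz⟩ := hy
    refine ⟨e.symm y, ⟨z, ?_⟩, by simp⟩
    ext
    exact hz

end ModuleCat


section DeRham

open exteriorPower

variable {R : Type v} {A M : Type u} [CommRing R] [CommRing A] [Algebra R A]
  [AddCommGroup M] [Module A M] [Module R M] [IsScalarTower R A M]
  {δ : Derivation R A M} {d : ∀ p : ℕ, ↥(⋀[A]^p M) →ₗ[R] ↥(⋀[A]^(p + 1) M)}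

/-- the additive maps underlying the de Rham differential. -/
def dAdd (d : ∀ p : ℕ, ↥(⋀[A]^p M) →ₗ[R] ↥(⋀[A]^(p + 1) M)) (p : ℕ) :
    ↥(⋀[A]^p M) →+ ↥(⋀[A]^(p + 1) M) := (d p).toAddMonoidHom

lemma cx_d (hd : DeRham.IsDiff δ d) (p : ℕ) :
    (DeRham.cx hd).d p (p + 1) = ModuleCat.ofHom (d p) := by
  exact CochainComplex.of_d (fun p => ModuleCat.of R ↥(⋀[A]^p M))
    (fun p => ModuleCat.ofHom (d p)) p

/-- **the de Rham cohomology of the ring-level complex as a subquotient**. -/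
noncomputable def derhamHEquiv (hd : DeRham.IsDiff δ d) (n : ℕ) :
    DeRham.H hd n ≃+ Hseq (fun p => ↥(⋀[A]^p M)) (dAdd d) n := by
  cases n with
  | zero =>
    let S' : ShortComplex (ModuleCat.{u} R) :=
      ShortComplex.mk (0 : ModuleCat.of R ↥(⋀[A]^0 M) ⟶ ModuleCat.of R ↥(⋀[A]^0 M))
        (ModuleCat.ofHom (d 0)) Limits.zero_comp
    let e : (DeRham.cx hd).sc 0 ≅ S' :=
      (DeRham.cx hd).isoSc' 0 0 1 (CochainComplex.prev_nat_zero) (by simp) ≪≫
        ShortComplex.isoMk (Iso.refl _) (Iso.refl _) (Iso.refl _)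
          (by
            change 𝟙 ((DeRham.cx hd).X 0) ≫ 0 = (DeRham.cx hd).d 0 0 ≫ 𝟙 ((DeRham.cx hd).X 0)
            rw [(DeRham.cx hd).shape 0 0 (by simp), Limits.comp_zero, Limits.zero_comp])
          (by
            change 𝟙 ((DeRham.cx hd).X 0) ≫ ModuleCat.ofHom (d 0) =
              (DeRham.cx hd).d 0 1 ≫ 𝟙 ((DeRham.cx hd).X 1)
            rw [Category.comp_id, Category.id_comp, cx_d])
    refine ((ShortComplex.homologyMapIso e).toLinearEquiv.toAddEquiv).trans ?_
    refine (scHomologyAddEquiv S').trans ?_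
    refine quotCongr (AddEquiv.refl _) _ _ _ _ (fun x => Iff.rfl) (fun x => ?_)
    change x ∈ (0 : ↥(⋀[A]^0 M) →+ ↥(⋀[A]^0 M)).range ↔ x ∈ (⊥ : AddSubgroup _)
    rw [AddSubgroup.mem_bot]
    constructor
    · rintro ⟨y, rfl⟩
      rfl
    · rintro rfl
      exact ⟨0, rfl⟩
  | succ p =>
    let S' : ShortComplex (ModuleCat.{u} R) :=
      ShortComplex.mk (ModuleCat.ofHom (d p)) (ModuleCat.ofHom (d (p + 1))) (by
        rw [← ModuleCat.ofHom_comp, hd.2 p]
        rfl)
    let e : (DeRham.cx hd).sc (p + 1) ≅ S' :=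
      (DeRham.cx hd).isoSc' p (p + 1) (p + 1 + 1) (CochainComplex.prev_nat_succ p) (by simp) ≪≫
        ShortComplex.isoMk (Iso.refl _) (Iso.refl _) (Iso.refl _)
          (by
            change 𝟙 ((DeRham.cx hd).X p) ≫ ModuleCat.ofHom (d p) =
              (DeRham.cx hd).d p (p + 1) ≫ 𝟙 ((DeRham.cx hd).X (p + 1))
            rw [Category.comp_id, Category.id_comp, cx_d])
          (by
            change 𝟙 ((DeRham.cx hd).X (p + 1)) ≫ ModuleCat.ofHom (d (p + 1)) =
              (DeRham.cx hd).d (p + 1) (p + 1 + 1) ≫ 𝟙 ((DeRham.cx hd).X (p + 1 + 1))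
            rw [Category.comp_id, Category.id_comp, cx_d])
    refine ((ShortComplex.homologyMapIso e).toLinearEquiv.toAddEquiv).trans ?_
    refine (scHomologyAddEquiv S').trans ?_
    exact quotCongr (AddEquiv.refl _) _ _ _ _ (fun x => Iff.rfl) (fun x => Iff.rfl)

end DeRham

end Groth.Agent.H2.DRA
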