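import Groth.Agent.Lib.Helper2.DRStupidD
import Groth.Agent.Lib.Lead.SC.Global
import Groth.Prelude.Def_DeRham2

/-!
# Hodge-to-de Rham dévissage for a de Rham complex with finitely many non-zero terms (helper2)
-/

universe u

set_option linter.style.haveILetI false
set_option linter.unusedSectionVars false

open CategoryTheory CategoryTheory.Limits CategoryTheory.Pretriangulated Opposite AlgebraicGeometry
  TopologicalSpace

namespace Groth.Agent.H2.DRS

open DerivedCategory

variable {X S : Scheme.{u}} {f : X ⟶ S} {Ω' : X.Modules} {δ : OmegaSh.Der f Ω'}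
  (D : DeRhamSh.Cx f Ω' δ)
  [HasDerivedCategory.{u} (Sheaf (Opens.grothendieckTopology X) AddCommGrpCat.{u})]

/-- the abelian sheaves of the terms, indexed by the integers. -/
noncomputable abbrev termZ (p : ℤ) : Sheaf (Opens.grothendieckTopology X) AddCommGrpCat.{u} :=
  Coh.toAb (D.term p.toNat)

lemma isZero_KZ_of_neg (i : ℤ) (hi : i < 0) : IsZero (D.KZ.X i) := by
  apply HomologicalComplex.isZero_extend_X
  intro j hj
  simp only [ComplexShape.embeddingUpNat_f] at hj
  omega

/-- the terms of the extended complex. -/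
noncomputable def KZXIso (p : ℤ) (hp : 0 ≤ p) : D.KZ.X p ≅ termZ D p :=
  D.K.extendXIso ComplexShape.embeddingUpNat (i := p.toNat) (by
    simp only [ComplexShape.embeddingUpNat_f]
    omega) ≪≫ D.iso p.toNat

lemma isZero_toAb {M : X.Modules} (h : IsZero M) : IsZero (Coh.toAb M) :=
  Functor.map_isZero (SheafOfModules.toSheaf X.ringCatSheaf) h

/-- the graded pieces of the Hodge filtration, `m < p`. -/
lemma subsingleton_piece_lt (p m : ℤ) (h : m < p) :
    Subsingleton (Piece ((singleFunctor _ 0).obj
      (CohCx.freeSheaf (Opens.grothendieckTopology X) ⊤)) (termZ D p) p m) :=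
  subsingleton_piece_of_lt _ _ p m h

/-- the graded pieces of the Hodge filtration are the Hodge cohomology groups. -/
lemma nonempty_piece_equiv_HH (p q : ℕ) (m : ℤ) (h : (p : ℤ) + q = m) :
    Nonempty (Piece ((singleFunctor _ 0).obj
      (CohCx.freeSheaf (Opens.grothendieckTopology X) ⊤)) (termZ D p) p m ≃+
        Coh.HH X (D.term p) q) := by
  obtain ⟨e⟩ := nonempty_piece_equiv_ext.{u}
    (CohCx.freeSheaf (Opens.grothendieckTopology X) ⊤) (termZ D p) p m q h
  have e' := Groth.Agent.LD.SC.HEquiv (J := Opens.grothendieckTopology X)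
    (T := (⊤ : X.Opens)) isTerminalTop (Coh.toAb (D.term p)) q
  have h1 : termZ D (p : ℤ) = Coh.toAb (D.term p) := by
    simp only [termZ, Int.toNat_natCast]
  rw [h1] at e
  exact ⟨e.trans e'.symm⟩

end Groth.Agent.H2.DRS
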