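import Groth.Agent.Lib.Helper2.ExtPowLocB
import Groth.Agent.Lib.Lead.QC.Push
import Groth.Agent.Lib.Lead.QC.FinType
import Groth.Prelude.Def_ExtPow2

/-!
# An exterior power (in the frozen affine-local sense) of a quasi-coherent module is quasi-coherent;
# of a coherent module, coherent (helper2)
-/

universe u

set_option linter.style.haveILetI false
set_option linter.unusedSectionVars false

open CategoryTheory CategoryTheory.Limits Opposite AlgebraicGeometry TopologicalSpace

namespace Groth.Agent.H2.EPL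

open Groth.Agent.LD.QC

variable {X : Scheme.{u}} (E L : X.Modules) (p : ℕ)
  (φ : ∀ U : X.affineOpens, Γ(L, U.1) ≃ₗ[Γ(X, U.1)] ↥(⋀[Γ(X, U.1)]^p Γ(E, U.1)))
  (hφ : ∀ (U V : X.affineOpens) (h : V.1 ≤ U.1) (e : Fin p → Γ(E, U.1)),
    L.presheaf.map (homOfLE h).op ((φ U).symm (exteriorPower.ιMulti _ p e)) =
      (φ V).symm (exteriorPower.ιMulti _ p (fun j => E.presheaf.map (homOfLE h).op (e j))))

/-- the restriction map of `L` read on the exterior powers. -/
noncomputable def wedgeRes (U V : X.affineOpens) (h : V.1 ≤ U.1) :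
    ↥(⋀[Γ(X, U.1)]^p Γ(E, U.1)) → ↥(⋀[Γ(X, V.1)]^p Γ(E, V.1)) :=
  fun σ => φ V (L.presheaf.map (homOfLE h).op ((φ U).symm σ))

lemma wedgeRes_add (U V : X.affineOpens) (h : V.1 ≤ U.1) (σ τ : ↥(⋀[Γ(X, U.1)]^p Γ(E, U.1))) :
    wedgeRes E L p φ U V h (σ + τ) = wedgeRes E L p φ U V h σ + wedgeRes E L p φ U V h τ := by
  simp only [wedgeRes, map_add]

lemma wedgeRes_smul (U V : X.affineOpens) (h : V.1 ≤ U.1) (r : Γ(X, U.1))
    (σ : ↥(⋀[Γ(X, U.1)]^p Γ(E, U.1))) :
    wedgeRes E L p φ U V h (r • σ) =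
      (X.presheaf.map (homOfLE h).op r) • wedgeRes E L p φ U V h σ := by
  simp only [wedgeRes]
  rw [LinearEquiv.map_smul]
  erw [Scheme.Modules.map_smul]
  rw [LinearEquiv.map_smul]

include hφ in
lemma wedgeRes_ι (U V : X.affineOpens) (h : V.1 ≤ U.1) (e : Fin p → Γ(E, U.1)) :
    wedgeRes E L p φ U V h (exteriorPower.ιMulti _ p e) =
      exteriorPower.ιMulti _ p (fun j => E.presheaf.map (homOfLE h).op (e j)) := by
  simp only [wedgeRes]
  rw [hφ U V h e, LinearEquiv.apply_symm_apply]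

variable [E.IsQuasicoherent]

include hφ in
lemma extPow_inj (U : X.Opens) (hU : IsAffineOpen U) (f : Γ(X, U)) (s : Γ(L, U))
    (hs : L.presheaf.map (homOfLE (X.basicOpen_le f)).op s = 0) : ∃ n : ℕ, f ^ n • s = 0 := by
  letI := resModule E (X.basicOpen_le f)
  haveI := resModule_isScalarTower E (X.basicOpen_le f)
  haveI : IsLocalization (Submonoid.powers f) Γ(X, X.basicOpen f) := hU.isLocalization_basicOpen f
  haveI : IsLocalizedModule (Submonoid.powers f) (resLinear E (X.basicOpen_le f)) :=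
    isLocalizedModule_basicOpen E hU f
  let U' : X.affineOpens := ⟨U, hU⟩
  let V' : X.affineOpens := ⟨X.basicOpen f, hU.basicOpen f⟩
  have hσ : wedgeRes E L p φ U' V' (X.basicOpen_le f) (φ U' s) = 0 := by
    simp only [wedgeRes]
    rw [LinearEquiv.symm_apply_apply]
    erw [hs]
    rw [map_zero]
  obtain ⟨⟨t, n, rfl⟩, ht⟩ := exists_smul_eq_zero_of_wedge_eq_zero (Submonoid.powers f)
    (resLinear E (X.basicOpen_le f)) Γ(X, X.basicOpen f)
    (wedgeRes E L p φ U' V' (X.basicOpen_le f))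
    (wedgeRes_add E L p φ U' V' (X.basicOpen_le f))
    (wedgeRes_smul E L p φ U' V' (X.basicOpen_le f))
    (wedgeRes_ι E L p φ hφ U' V' (X.basicOpen_le f)) (φ U' s) hσ
  refine ⟨n, ?_⟩
  apply (φ U').injective
  rw [LinearEquiv.map_smul, map_zero]
  exact ht

include hφ in
lemma extPow_surj (U : X.Opens) (hU : IsAffineOpen U) (f : Γ(X, U))
    (t : Γ(L, X.basicOpen f)) :
    ∃ (n : ℕ) (s : Γ(L, U)), L.presheaf.map (homOfLE (X.basicOpen_le f)).op s =
      (X.presheaf.map (homOfLE (X.basicOpen_le f)).op f) ^ n • t := by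
  letI := resModule E (X.basicOpen_le f)
  haveI := resModule_isScalarTower E (X.basicOpen_le f)
  haveI : IsLocalization (Submonoid.powers f) Γ(X, X.basicOpen f) := hU.isLocalization_basicOpen f
  haveI : IsLocalizedModule (Submonoid.powers f) (resLinear E (X.basicOpen_le f)) :=
    isLocalizedModule_basicOpen E hU f
  let U' : X.affineOpens := ⟨U, hU⟩
  let V' : X.affineOpens := ⟨X.basicOpen f, hU.basicOpen f⟩
  obtain ⟨⟨t', n, rfl⟩, σ, hσ⟩ := exists_smul_eq_wedge (Submonoid.powers f)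
    (resLinear E (X.basicOpen_le f)) Γ(X, X.basicOpen f)
    (wedgeRes E L p φ U' V' (X.basicOpen_le f))
    (wedgeRes_add E L p φ U' V' (X.basicOpen_le f))
    (wedgeRes_smul E L p φ U' V' (X.basicOpen_le f))
    (wedgeRes_ι E L p φ hφ U' V' (X.basicOpen_le f)) (φ V' t)
  refine ⟨n, (φ U').symm σ, ?_⟩
  apply (φ V').injective
  rw [LinearEquiv.map_smul]
  refine Eq.trans ?_ (Eq.trans hσ.symm ?_)
  · rfl
  · congr 1
    exact map_pow _ _ _

include hφ in
/-- an exterior power of a quasi-coherent module is quasi-coherent. -/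
theorem isQuasicoherent_of_wedge : L.IsQuasicoherent :=
  qc_of_surj_inj L (fun U hU f t => extPow_surj E L p φ hφ U hU f t)
    (fun U hU f s hs => extPow_inj E L p φ hφ U hU f s hs)

omit [E.IsQuasicoherent] in
/-- an exterior power of a quasi-coherent module is quasi-coherent. -/
theorem isQuasicoherent_of_isExtPow (hE : E.IsQuasicoherent) (hL : ExtPow.IsExtPow p E L) :
    L.IsQuasicoherent := by
  obtain ⟨φ, hφ⟩ := hL
  exact isQuasicoherent_of_wedge E L p φ hφ

omit [E.IsQuasicoherent] in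
/-- an exterior power of a quasi-coherent module of finite type is quasi-coherent of finite
type. -/
theorem isCoh_of_isExtPow (hE : Coh.IsCoh E) (hL : ExtPow.IsExtPow p E L) : Coh.IsCoh L := by
  haveI : E.IsQuasicoherent := hE.1
  haveI : L.IsQuasicoherent := isQuasicoherent_of_isExtPow E L p hE.1 hL
  refine ⟨inferInstance, ?_⟩
  obtain ⟨φ, hφ⟩ := hL
  apply isFiniteType_of_finite_sections
  intro x
  obtain ⟨U, hU, hxU, -⟩ := exists_isAffineOpen_mem_and_subset (x := x) (U := (⊤ : X.Opens))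
    trivial
  refine ⟨U, hU, hxU, ?_⟩
  haveI : Module.Finite Γ(X, U) Γ(E, U) := finite_sections_of_isFiniteType E hE.2 hU
  have h2 : Module.Finite Γ(X, U) ↥(⋀[Γ(X, U)]^p Γ(E, U)) := exteriorPower.instFinite
  exact @Module.Finite.equiv Γ(X, U) ↥(⋀[Γ(X, U)]^p Γ(E, U)) Γ(L, U) _ _ _ _ _ h2
    (φ ⟨U, hU⟩).symm

end Groth.Agent.H2.EPL
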