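import Groth.Agent.Lib.Helper2.DRAffD
import Groth.Agent.Lib.Helper2.DRAffE
import Groth.Agent.Lib.Helper2.DRStupidE
import Groth.Agent.Lib.Helper2.ExtPowQC
import Groth.Agent.Lib.Lead.SC.Affine

/-!
# de Rham cohomology of an affine scheme is the cohomology of the complex of global sections
(helper2)
-/

universe u

set_option autoImplicit false
set_option linter.style.haveILetI false
set_option linter.unusedSectionVars false

open CategoryTheory CategoryTheory.Limits Opposite AlgebraicGeometry TopologicalSpace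

namespace Groth.Agent.H2.DRA

open DerivedCategory Groth.Agent.H2.DRS

variable {X S : Scheme.{u}} {f : X ⟶ S} {Ω' : X.Modules} {δ : OmegaSh.Der f Ω'}
  (D : DeRhamSh.Cx f Ω' δ)
  [HasDerivedCategory.{u} (Sheaf (Opens.grothendieckTopology X) AddCommGrpCat.{u})]

/-- the source: the free abelian sheaf on the whole space. -/
noncomputable abbrev TX (X : Scheme.{u}) : Sheaf (Opens.grothendieckTopology X) AddCommGrpCat.{u} :=
  CohCx.freeSheaf (Opens.grothendieckTopology X) ⊤

/-- quasi-coherent modules on an affine scheme are acyclic. -/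
lemma acyc_of_isQuasicoherent [IsAffine X] (M : X.Modules) [M.IsQuasicoherent] :
    Acyc (TX X) (Coh.toAb M) := by
  intro p m hpm
  obtain ⟨q, hq⟩ : ∃ q : ℕ, p + ((q + 1 : ℕ) : ℤ) = m := ⟨(m - p - 1).toNat, by push_cast; omega⟩
  obtain ⟨e⟩ := nonempty_piece_equiv_ext.{u} (TX X) (Coh.toAb M) p m (q + 1) hq
  have h := Groth.Agent.LD.SC.subsingleton_ext_of_isAffineOpen M q ⊤ (isAffineOpen_top X)
  exact e.toEquiv.subsingleton

lemma acyc_KZ [IsAffine X] (hΩ : Ω'.IsQuasicoherent) (p : ℤ) (hp : 0 ≤ p) :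
    Acyc (TX X) (D.KZ.X p) := by
  haveI : (D.term p.toNat).IsQuasicoherent :=
    Groth.Agent.H2.EPL.isQuasicoherent_of_isExtPow Ω' (D.term p.toNat) p.toNat hΩ
      (D.isExtPow p.toNat)
  exact (acyc_of_isQuasicoherent (D.term p.toNat)).of_iso (KZXIso D p hp).symm

/-- de Rham cohomology of an affine scheme: first form. -/
theorem nonempty_HdR_equiv_Hn [IsAffine X] (hΩ : Ω'.IsQuasicoherent) (n : ℤ) :
    Nonempty (DeRhamSh.HdR D n ≃+ Hn (TX X) D.KZ n) :=
  nonempty_equiv_Hn (TX X) D.KZ 0 (fun i hi => isZero_KZ_of_neg D i hi)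
    (fun p hp => acyc_KZ D hΩ p hp) n

end Groth.Agent.H2.DRA
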