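import Groth.Agent.Lib.Helper2.DRAffG

/-!
# The complex of global sections of a de Rham complex (helper2)
-/

universe u

set_option autoImplicit false
set_option linter.style.haveILetI false
set_option linter.unusedSectionVars false

open CategoryTheory CategoryTheory.Limits Opposite AlgebraicGeometry TopologicalSpace

namespace Groth.Agent.H2.DRA

open DerivedCategory Groth.Agent.H2.DRS

variable {X S : Scheme.{u}} {f : X ⟶ S} {Ω' : X.Modules} {δ : OmegaSh.Der f Ω'}
  (D : DeRhamSh.Cx f Ω' δ)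

/-- global sections of the terms of the complex. -/
abbrev GS (p : ℕ) : Type u := (D.K.X p).obj.obj (op (⊤ : X.Opens))

/-- the differential on global sections. -/
noncomputable def dGS (p : ℕ) : GS D p →+ GS D (p + 1) :=
  ((D.K.d p (p + 1)).hom.app (op (⊤ : X.Opens))).hom

/-- morphisms from the free sheaf to a term of the extended complex are global sections. -/
noncomputable def secEquiv (p : ℕ) (i : ℤ) (hi : (p : ℤ) = i) : (TX X ⟶ D.KZ.X i) ≃+ GS D p :=
  (homCongrAdd (Iso.refl (TX X))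
    (D.K.extendXIso ComplexShape.embeddingUpNat (i := p) (i' := i) hi)).trans
    (Groth.Agent.LD.SC.homAddEquiv (⊤ : X.Opens) (D.K.X p))

lemma secEquiv_apply (p : ℕ) (i : ℤ) (hi : (p : ℤ) = i) (x : TX X ⟶ D.KZ.X i) :
    secEquiv D p i hi x = Groth.Agent.LD.SC.homEquiv (⊤ : X.Opens) (D.K.X p)
      (x ≫ (D.K.extendXIso ComplexShape.embeddingUpNat (i := p) (i' := i) hi).hom) := by
  change Groth.Agent.LD.SC.homEquiv (⊤ : X.Opens) (D.K.X p) (𝟙 _ ≫ x ≫ _) = _
  rw [Category.id_comp]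

lemma secEquiv_d (p : ℕ) (i j : ℤ) (hi : (p : ℤ) = i) (hj : ((p + 1 : ℕ) : ℤ) = j)
    (x : TX X ⟶ D.KZ.X i) :
    secEquiv D (p + 1) j hj (x ≫ D.KZ.d i j) = dGS D p (secEquiv D p i hi x) := by
  rw [secEquiv_apply, secEquiv_apply, dGS,
    D.K.extend_d_eq ComplexShape.embeddingUpNat (i := p) (j := p + 1) hi hj]
  simp only [Category.assoc, Iso.inv_hom_id, Category.comp_id]
  rw [← Category.assoc, Groth.Agent.LD.SC.homEquiv_comp]


variable [HasDerivedCategory.{u} (Sheaf (Opens.grothendieckTopology X) AddCommGrpCat.{u})]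

/-- the cohomology of `Hom(ℤ_X, K^•)` is the cohomology of the complex of global sections. -/
noncomputable def hnEquivHseq (n : ℕ) : Hn (TX X) D.KZ (n : ℤ) ≃+ Hseq (GS D) (dGS D) n := by
  refine quotCongr (secEquiv D n (n : ℤ) rfl) _ _ _ _ (fun x => ?_) (fun x => ?_)
  · rw [AddMonoidHom.mem_ker, AddMonoidHom.mem_ker, postD_apply,
      ← secEquiv_d D n (n : ℤ) ((n : ℤ) + 1) rfl (by push_cast; rfl)]
    exact (EmbeddingLike.map_eq_zero_iff (f := secEquiv D (n + 1) ((n : ℤ) + 1) _)).symm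
  · cases n with
    | zero =>
      change x ∈ (postD (TX X) D.KZ (((0 : ℕ) : ℤ) - 1) ((0 : ℕ) : ℤ)).range ↔
        secEquiv D 0 _ rfl x ∈ (⊥ : AddSubgroup (GS D 0))
      rw [AddSubgroup.mem_bot, EmbeddingLike.map_eq_zero_iff]
      have hz : IsZero (D.KZ.X (((0 : ℕ) : ℤ) - 1)) := isZero_KZ_of_neg D _ (by simp)
      constructor
      · rintro ⟨y, rfl⟩
        rw [postD_apply, hz.eq_of_tgt y 0, zero_comp]
      · rintro rfl
        exact ⟨0, map_zero _⟩
    | succ p =>
      change x ∈ (postD (TX X) D.KZ (((p + 1 : ℕ) : ℤ) - 1) ((p + 1 : ℕ) : ℤ)).range ↔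
        secEquiv D (p + 1) _ rfl x ∈ (dGS D p).range
      have hp : (p : ℤ) = ((p + 1 : ℕ) : ℤ) - 1 := by push_cast; ring
      constructor
      · rintro ⟨y, rfl⟩
        exact ⟨secEquiv D p _ hp y, (secEquiv_d D p _ _ hp rfl y).symm⟩
      · rintro ⟨z, hz⟩
        refine ⟨(secEquiv D p _ hp).symm z, (secEquiv D (p + 1) _ rfl).injective ?_⟩
        rw [postD_apply, secEquiv_d D p _ _ hp rfl, AddEquiv.apply_symm_apply, hz]

end Groth.Agent.H2.DRA
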