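import Mathlib

/-!
# Exterior powers along a ring isomorphism and a semilinear bijection (helper2)
-/

set_option autoImplicit false
set_option linter.unusedSectionVars false

namespace Groth.Agent.H2.EPS

open exteriorPower

variable {A A' : Type*} [CommRing A] [CommRing A'] (σ : A ≃+* A')
  {N N' : Type*} [AddCommGroup N] [Module A N] [AddCommGroup N'] [Module A' N']
  (θ : N ≃+ N') (hθ : ∀ (a : A) (n : N), θ (a • n) = σ a • θ n) (p : ℕ)

/-- the `A`-linear map `⋀[A]^p N → ⋀[A']^p N'`, the target being an `A`-module through `σ`. -/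
noncomputable def fwdLin :
    letI : Module A ↥(⋀[A']^p N') := Module.compHom _ σ.toRingHom
    ↥(⋀[A]^p N) →ₗ[A] ↥(⋀[A']^p N') :=
  letI : Module A ↥(⋀[A']^p N') := Module.compHom _ σ.toRingHom
  alternatingMapLinearEquiv
    { toFun := fun n => ιMulti A' p (θ ∘ n)
      map_update_add' := fun n i x y => by
        rw [Function.comp_update, Function.comp_update, Function.comp_update, map_add,
          (ιMulti A' p).map_update_add]
      map_update_smul' := fun n i a x => by
        rw [Function.comp_update, Function.comp_update, hθ, (ιMulti A' p).map_update_smul]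
        rfl
      map_eq_zero_of_eq' := fun n i j h hij =>
        (ιMulti A' p).map_eq_zero_of_eq (θ ∘ n) (by simp [h]) hij }

/-- the induced additive map on exterior powers. -/
noncomputable def fwd : ↥(⋀[A]^p N) →+ ↥(⋀[A']^p N') :=
  letI : Module A ↥(⋀[A']^p N') := Module.compHom _ σ.toRingHom
  (fwdLin σ θ hθ p).toAddMonoidHom

lemma fwd_ιMulti (n : Fin p → N) : fwd σ θ hθ p (ιMulti A p n) = ιMulti A' p (θ ∘ n) := by
  letI : Module A ↥(⋀[A']^p N') := Module.compHom _ σ.toRingHom
  change fwdLin σ θ hθ p (ιMulti A p n) = _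
  rw [fwdLin, alternatingMapLinearEquiv_apply_ιMulti]
  rfl

lemma fwd_smul (a : A) (x : ↥(⋀[A]^p N)) : fwd σ θ hθ p (a • x) = σ a • fwd σ θ hθ p x := by
  letI : Module A ↥(⋀[A']^p N') := Module.compHom _ σ.toRingHom
  change fwdLin σ θ hθ p (a • x) = _
  rw [map_smul]
  rfl

include hθ in
lemma symm_semilinear (a' : A') (n' : N') : θ.symm (a' • n') = σ.symm a' • θ.symm n' := by
  apply θ.injective
  rw [hθ, AddEquiv.apply_symm_apply, AddEquiv.apply_symm_apply, RingEquiv.apply_symm_apply]

lemma fwd_fwd (x : ↥(⋀[A]^p N)) :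
    fwd σ.symm θ.symm (symm_semilinear σ θ hθ) p (fwd σ θ hθ p x) = x := by
  have hx : x ∈ Submodule.span A (Set.range (ιMulti A p (M := N))) := by
    rw [ιMulti_span]; trivial
  induction hx using Submodule.span_induction with
  | mem y hy =>
    obtain ⟨n, rfl⟩ := hy
    rw [fwd_ιMulti, fwd_ιMulti]
    congr 1
    ext i
    simp
  | zero => rw [map_zero, map_zero]
  | add y z _ _ hy hz => rw [map_add, map_add, hy, hz]
  | smul a y _ hy => rw [fwd_smul, fwd_smul, hy, RingEquiv.symm_apply_apply]

/-- **exterior powers along a semilinear bijection**. -/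
noncomputable def equiv : ↥(⋀[A]^p N) ≃+ ↥(⋀[A']^p N') where
  toFun := fwd σ θ hθ p
  invFun := fwd σ.symm θ.symm (symm_semilinear σ θ hθ) p
  left_inv := fwd_fwd σ θ hθ p
  right_inv := fun y => by
    have := fwd_fwd σ.symm θ.symm (symm_semilinear σ θ hθ) p y
    exact this
  map_add' := map_add _

lemma equiv_smul_ιMulti (a : A) (n : Fin p → N) :
    equiv σ θ hθ p (a • ιMulti A p n) = σ a • ιMulti A' p (fun i => θ (n i)) := by
  change fwd σ θ hθ p (a • ιMulti A p n) = _
  rw [fwd_smul, fwd_ιMulti]
  rfl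

end Groth.Agent.H2.EPS
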