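import Groth.Agent.Lib.Helper2.DRAffH
import Groth.Agent.Lib.Helper2.DRAffF
import Groth.Agent.Lib.Helper2.ExtPowSemi
import Groth.Agent.Lib.Helper6.DeRhamGen
import Groth.Agent.Lib.Helper3.OmAff1
import Groth.Agent.Lib.Helper3.OmQC

/-!
# The affine comparison: sheaf-level versus ring-level de Rham cohomology (helper2)
-/

universe u

set_option autoImplicit false
set_option linter.style.haveILetI false
set_option linter.unusedSectionVars false

open CategoryTheory CategoryTheory.Limits Opposite AlgebraicGeometry TopologicalSpace exteriorPower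

namespace Groth.Agent.H2.DRA

section Iso

variable {X S : Scheme.{u}} {f : X ⟶ S} {Ω' : X.Modules} {δ : OmegaSh.Der f Ω'}
  (D : DeRhamSh.Cx f Ω' δ)

/-- global sections of `K^p` are the global sections of the module `term p`. -/
noncomputable def isoSec (p : ℕ) : GS D p ≃+ Γ(D.term p, (⊤ : X.Opens)) where
  toFun := (D.iso p).hom.hom.app (op (⊤ : X.Opens))
  invFun := (D.iso p).inv.hom.app (op (⊤ : X.Opens))
  left_inv x := by
    have h := congrArg (fun φ => φ.hom.app (op (⊤ : X.Opens))) (D.iso p).hom_inv_id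
    exact congr($h x)
  right_inv x := by
    have h := congrArg (fun φ => φ.hom.app (op (⊤ : X.Opens))) (D.iso p).inv_hom_id
    exact congr($h x)
  map_add' x y := map_add _ x y

end Iso


section Spec

variable (R A : Type u) [CommRing R] [CommRing A] [Algebra R A]

/-- the structure morphism `Spec A ⟶ Spec R`. -/
noncomputable abbrev fSpec : Spec (CommRingCat.of A) ⟶ Spec (CommRingCat.of R) :=
  Spec.map (CommRingCat.ofHom (algebraMap R A))

/-- `A ≃ Γ(Spec A, ⊤)`. -/
noncomputable def σΓ : A ≃+* Γ(Spec (CommRingCat.of A), ⊤) :=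
  (Scheme.ΓSpecIso (CommRingCat.of A)).symm.commRingCatIsoToRingEquiv

lemma σΓ_apply (a : A) : σΓ A a = OmAff.toΓ A a := rfl

/-- `Ω[A⁄R] ≃ Γ(Spec A, Ω)`. -/
noncomputable def θΩ : Ω[A⁄R] ≃+ Γ(Omega.sheaf (fSpec R A), ⊤) :=
  AddEquiv.ofBijective (OmAff.toSpec R A).toAddMonoidHom (Groth.Agent.H3.Om.bijective_toSpec R A)

lemma θΩ_smul (a : A) (n : Ω[A⁄R]) : θΩ R A (a • n) = σΓ A a • θΩ R A n :=
  (OmAff.toSpec R A).map_smulₛₗ a n

lemma θΩ_D (b : A) :
    θΩ R A (KaehlerDifferential.D R A b) = (OmegaSh.dOmega (fSpec R A)).app ⊤ (σΓ A b) :=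
  OmAff.toSpec_D R A b

/-- the whole space as an affine open. -/
noncomputable abbrev topAff : (Spec (CommRingCat.of A)).affineOpens := ⟨⊤, isAffineOpen_top _⟩

variable (D : DeRhamSh.OmegaCx (fSpec R A))

/-- the comparison of the terms. -/
noncomputable def Θ (p : ℕ) : ↥(⋀[A]^p (Ω[A⁄R])) ≃+ GS D p :=
  ((Groth.Agent.H2.EPS.equiv (σΓ A) (θΩ R A) (θΩ_smul R A) p).trans
    (D.loc p (topAff A)).symm.toAddEquiv).trans (isoSec D p).symm

lemma Θ_smul_ιMulti (p : ℕ) (a : A) (n : Fin p → Ω[A⁄R]) :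
    Θ R A D p (a • ιMulti A p n) = (D.iso p).inv.hom.app (op ⊤)
      ((D.loc p (topAff A)).symm (σΓ A a • ιMulti _ p (fun i => θΩ R A (n i)))) := by
  change (D.iso p).inv.hom.app (op ⊤) ((D.loc p (topAff A)).symm
    (Groth.Agent.H2.EPS.equiv (σΓ A) (θΩ R A) (θΩ_smul R A) p (a • ιMulti A p n))) = _
  rw [Groth.Agent.H2.EPS.equiv_smul_ιMulti]


variable {R A}
variable {d : ∀ p : ℕ, ↥(⋀[A]^p (Ω[A⁄R])) →ₗ[R] ↥(⋀[A]^(p + 1) (Ω[A⁄R]))}

/-- the comparison of the terms commutes with the differentials. -/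
theorem Θ_d (hd : DeRham.IsDiff (KaehlerDifferential.D R A) d) (p : ℕ)
    (x : ↥(⋀[A]^p (Ω[A⁄R]))) :
    Θ R A D (p + 1) (dAdd d p x) = dGS D p (Θ R A D p x) := by
  have key : ((Θ R A D (p + 1)).toAddMonoidHom.comp (dAdd d p)) =
      (dGS D p).comp (Θ R A D p).toAddMonoidHom := by
    refine Groth.Agent.H6.DR.addHom_ext (KaehlerDifferential.D R A)
      (KaehlerDifferential.span_range_derivation R A) p (fun b₀ b => ?_)
    change Θ R A D (p + 1) (d p (DeRham.gen (KaehlerDifferential.D R A) p b₀ b)) =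
      dGS D p (Θ R A D p (DeRham.gen (KaehlerDifferential.D R A) p b₀ b))
    rw [hd.1 p b₀ b, DeRham.gen, Θ_smul_ιMulti, ← one_smul A (ιMulti A (p + 1) _),
      Θ_smul_ιMulti, map_one, one_smul]
    have h1 : (fun i => θΩ R A ((Fin.cons ((KaehlerDifferential.D R A) b₀)
        (fun i => (KaehlerDifferential.D R A) (b i)) : Fin (p + 1) → Ω[A⁄R]) i)) =
        Fin.cons ((OmegaSh.dOmega (fSpec R A)).app ⊤ (σΓ A b₀))
          (fun i => (OmegaSh.dOmega (fSpec R A)).app ⊤ (σΓ A (b i))) := by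
      funext i
      refine Fin.cases ?_ (fun j => ?_) i
      · simp only [Fin.cons_zero]
        exact θΩ_D R A b₀
      · simp only [Fin.cons_succ]
        exact θΩ_D R A (b j)
    have h2 : (fun i => θΩ R A ((KaehlerDifferential.D R A) (b i))) =
        fun i => (OmegaSh.dOmega (fSpec R A)).app ⊤ (σΓ A (b i)) := by
      funext i
      exact θΩ_D R A (b i)
    rw [h1, h2]
    exact (D.rule p (topAff A) (σΓ A b₀) (fun i => σΓ A (b i))).symm
  exact congr($key x)

/-- **Affine comparison** (additive form): the de Rham cohomology of `Spec A` over `Spec R` is the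
cohomology of the ring-level de Rham complex. -/
theorem nonempty_HdR_equiv_H
    [HasDerivedCategory.{u} (Sheaf (Opens.grothendieckTopology ↥(Spec (CommRingCat.of A)))
      AddCommGrpCat.{u})]
    (hd : DeRham.IsDiff (KaehlerDifferential.D R A) d) (n : ℕ) :
    Nonempty (DeRhamSh.HdR D (n : ℤ) ≃+ ↑(DeRham.H hd n)) := by
  have hΩ : (Omega.sheaf (fSpec R A)).IsQuasicoherent :=
    Groth.Agent.H3.Om.isQuasicoherent_of_isUniversal
      (Groth.Agent.H3.Om.isUniversal_dOmega (fSpec R A))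
  obtain ⟨e1⟩ := nonempty_HdR_equiv_Hn D hΩ (n : ℤ)
  have e2 := hnEquivHseq D n
  have e3 : Hseq (fun p => ↥(⋀[A]^p (Ω[A⁄R]))) (dAdd d) n ≃+ Hseq (GS D) (dGS D) n :=
    hseqCongr (Θ R A D) (fun p x => Θ_d D hd p x) n
  have e4 := derhamHEquiv hd n
  exact ⟨((e1.trans e2).trans e3.symm).trans e4.symm⟩

end Spec

end Groth.Agent.H2.DRA
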