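import Groth.Agent.Lib.Helper2.DRAffI

/-!
# The ring-level de Rham differential obtained from a sheaf-level de Rham complex on `Spec A`
(helper2)
-/

universe u

set_option autoImplicit false
set_option linter.style.haveILetI false
set_option linter.unusedSectionVars false

open CategoryTheory CategoryTheory.Limits Opposite AlgebraicGeometry TopologicalSpace exteriorPower

namespace Groth.Agent.H2.DRA

variable {R A : Type u} [CommRing R] [CommRing A] [Algebra R A]
  (D : DeRhamSh.OmegaCx (fSpec R A))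

/-- the rule, transported to the ring level. -/
lemma Θ_rule (p : ℕ) (b₀ : A) (b : Fin p → A) :
    Θ R A D (p + 1) (ιMulti A (p + 1) (Fin.cons ((KaehlerDifferential.D R A) b₀)
      (fun i => (KaehlerDifferential.D R A) (b i)))) =
    dGS D p (Θ R A D p (DeRham.gen (KaehlerDifferential.D R A) p b₀ b)) := by
  rw [DeRham.gen, Θ_smul_ιMulti, ← one_smul A (ιMulti A (p + 1) _),
    Θ_smul_ιMulti, map_one, one_smul]
  have h1 : (fun i => θΩ R A ((Fin.cons ((KaehlerDifferential.D R A) b₀)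
      (fun i => (KaehlerDifferential.D R A) (b i)) : Fin (p + 1) → Ω[A⁄R]) i)) =
      Fin.cons ((OmegaSh.dOmega (fSpec R A)).app ⊤ (σΓ A b₀))
        (fun i => (OmegaSh.dOmega (fSpec R A)).app ⊤ (σΓ A (b i))) := by
    funext i
    refine Fin.cases ?_ (fun j => ?_) i
    · simp only [Fin.cons_zero]
      exact θΩ_D R A b₀
    · simp only [Fin.cons_succ]
      exact θΩ_D R A (b j)
  have h2 : (fun i => θΩ R A ((KaehlerDifferential.D R A) (b i))) =
      fun i => (OmegaSh.dOmega (fSpec R A)).app ⊤ (σΓ A (b i)) := by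
    funext i
    exact θΩ_D R A (b i)
  rw [h1, h2]
  exact (D.rule p (topAff A) (σΓ A b₀) (fun i => σΓ A (b i))).symm

/-- the ring-level differential, additively. -/
noncomputable def dRingAdd (p : ℕ) : ↥(⋀[A]^p (Ω[A⁄R])) →+ ↥(⋀[A]^(p + 1) (Ω[A⁄R])) :=
  ((Θ R A D (p + 1)).symm.toAddMonoidHom.comp (dGS D p)).comp (Θ R A D p).toAddMonoidHom

lemma dRingAdd_apply (p : ℕ) (x : ↥(⋀[A]^p (Ω[A⁄R]))) :
    dRingAdd D p x = (Θ R A D (p + 1)).symm (dGS D p (Θ R A D p x)) := rfl

lemma dRingAdd_gen (p : ℕ) (b₀ : A) (b : Fin p → A) :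
    dRingAdd D p (DeRham.gen (KaehlerDifferential.D R A) p b₀ b) =
      ιMulti A (p + 1) (Fin.cons ((KaehlerDifferential.D R A) b₀)
        (fun i => (KaehlerDifferential.D R A) (b i))) := by
  rw [dRingAdd_apply, ← Θ_rule, AddEquiv.symm_apply_apply]

lemma ιMulti_cons_smul (p : ℕ) (r : R) (x : Ω[A⁄R]) (m : Fin p → Ω[A⁄R]) :
    ιMulti A (p + 1) (Fin.cons (r • x) m) = r • ιMulti A (p + 1) (Fin.cons x m) := by
  have h1 : (Fin.cons (r • x) m : Fin (p + 1) → Ω[A⁄R]) =
      Function.update (Fin.cons x m : Fin (p + 1) → Ω[A⁄R]) 0 (algebraMap R A r • x) := by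
    rw [Fin.update_cons_zero, algebraMap_smul]
  rw [h1, (ιMulti A (p + 1)).map_update_smul, Fin.update_cons_zero, algebraMap_smul]

lemma dRingAdd_smul (p : ℕ) (r : R) (x : ↥(⋀[A]^p (Ω[A⁄R]))) :
    dRingAdd D p (r • x) = r • dRingAdd D p x := by
  have key : (dRingAdd D p).comp (DistribSMul.toAddMonoidHom ↥(⋀[A]^p (Ω[A⁄R])) r) =
      (DistribSMul.toAddMonoidHom ↥(⋀[A]^(p + 1) (Ω[A⁄R])) r).comp (dRingAdd D p) := by
    refine Groth.Agent.H6.DR.addHom_ext (KaehlerDifferential.D R A)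
      (KaehlerDifferential.span_range_derivation R A) p (fun b₀ b => ?_)
    change dRingAdd D p (r • DeRham.gen (KaehlerDifferential.D R A) p b₀ b) =
      r • dRingAdd D p (DeRham.gen (KaehlerDifferential.D R A) p b₀ b)
    have h : r • DeRham.gen (KaehlerDifferential.D R A) p b₀ b =
        DeRham.gen (KaehlerDifferential.D R A) p (r • b₀) b := by
      unfold DeRham.gen
      rw [smul_assoc]
    rw [h, dRingAdd_gen, dRingAdd_gen, Derivation.map_smul, ιMulti_cons_smul]
  exact congr($key x)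

/-- the ring-level differential. -/
noncomputable def dRing (p : ℕ) : ↥(⋀[A]^p (Ω[A⁄R])) →ₗ[R] ↥(⋀[A]^(p + 1) (Ω[A⁄R])) where
  toFun := dRingAdd D p
  map_add' := map_add _
  map_smul' := dRingAdd_smul D p

lemma dGS_dGS (p : ℕ) (y : GS D p) : dGS D (p + 1) (dGS D p y) = 0 := by
  have h := congrArg (fun φ => φ.hom.app (op (⊤ : (Spec (CommRingCat.of A)).Opens)))
    (D.K.d_comp_d p (p + 1) (p + 1 + 1))
  exact congr($h y)

/-- **a de Rham complex on `Spec A` induces a de Rham differential on `⋀^• Ω[A⁄R]`**. -/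
theorem isDiff_dRing : DeRham.IsDiff (KaehlerDifferential.D R A) (dRing D) := by
  refine ⟨fun p b₀ b => dRingAdd_gen D p b₀ b, fun p => LinearMap.ext fun x => ?_⟩
  change dRingAdd D (p + 1) (dRingAdd D p x) = 0
  rw [dRingAdd_apply, dRingAdd_apply, AddEquiv.apply_symm_apply, dGS_dGS, map_zero]

end Groth.Agent.H2.DRA
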