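import Groth.Agent.Lib.Helper2.PoincPolyA

/-!
# The Poincaré lemma for polynomial rings in characteristic zero (helper2)

Adapted from helper5's proof of the formal Poincaré lemma (`Lib/Helper5/Poinc/E.lean`).
-/

universe u v

set_option autoImplicit false
set_option linter.unusedSectionVars false

open exteriorPower MvPolynomial

namespace Groth.Agent.H2.PoincPoly

open Groth.Agent.Lib.Helper5.Poinc

variable {k : Type u} [Field k] {σ : Type v} [Fintype σ] [LinearOrder σ]

/-- the standard basis of `q`-forms -/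
noncomputable def BB (k : Type u) [Field k] (σ : Type v) [Fintype σ] [LinearOrder σ] (q : ℕ) :
    Module.Basis (Set.powersetCard σ q) (MvPolynomial σ k)
      ↥(⋀[MvPolynomial σ k]^q (Ω[MvPolynomial σ k⁄k])) :=
  (KaehlerDifferential.mvPolynomialBasis k σ).exteriorPower q

theorem smul_BB_eq_gen (q : ℕ) (s : Set.powersetCard σ q) (f : MvPolynomial σ k) :
    f • BB k σ q s = DeRham.gen (KaehlerDifferential.D k (MvPolynomial σ k)) q f
      (fun j => X (Set.powersetCard.ofFinEmbEquiv.symm s j)) := by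
  classical
  unfold DeRham.gen
  congr 1
  rw [BB, exteriorPower.basis_apply]
  unfold ιMulti_family
  congr 1
  funext j
  rw [Function.comp_apply, KaehlerDifferential.mvPolynomialBasis_apply]

variable (d : ∀ p : ℕ, ↥(⋀[MvPolynomial σ k]^p (Ω[MvPolynomial σ k⁄k])) →ₗ[k]
      ↥(⋀[MvPolynomial σ k]^(p + 1) (Ω[MvPolynomial σ k⁄k])))

/-- the Lie derivative along the Euler field, as a function -/
noncomputable def lie (p : ℕ) (y : ↥(⋀[MvPolynomial σ k]^(p+1) (Ω[MvPolynomial σ k⁄k]))) :
    ↥(⋀[MvPolynomial σ k]^(p+1) (Ω[MvPolynomial σ k⁄k])) :=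
  d p (contrG eps p y) + contrG eps (p+1) (d (p+1) y)

theorem lie_add (p : ℕ) (x y) : lie d p (x + y) = lie d p x + lie d p y := by
  unfold lie
  rw [map_add, map_add, map_add, map_add]; abel

theorem lie_zero (p : ℕ) : lie d p 0 = 0 := by
  unfold lie; simp

theorem lie_sum (p : ℕ) {ι : Type*} (S : Finset ι)
    (g : ι → ↥(⋀[MvPolynomial σ k]^(p+1) (Ω[MvPolynomial σ k⁄k]))) :
    lie d p (∑ s ∈ S, g s) = ∑ s ∈ S, lie d p (g s) := by
  classical
  induction S using Finset.induction_on with
  | empty => simp [lie_zero]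
  | insert a S ha ih => rw [Finset.sum_insert ha, Finset.sum_insert ha, lie_add, ih]

theorem lie_smul_BB (hd : DeRham.IsDiff (KaehlerDifferential.D k (MvPolynomial σ k)) d) (p : ℕ)
    (s : Set.powersetCard σ (p+1)) (f : MvPolynomial σ k) :
    lie d p (f • BB k σ (p+1) s) = (euler f + (p+1) • f) • BB k σ (p+1) s := by
  rw [smul_BB_eq_gen]
  unfold lie
  rw [lieG_gen_succ (KaehlerDifferential.D k (MvPolynomial σ k)) eps d hd p f _ (fun _ => 1)
    (fun j => eps_D_X _)]
  rw [← smul_BB_eq_gen, ← smul_BB_eq_gen, add_smul, eps_D]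
  congr 1
  rw [smul_assoc]
  simp

theorem lie_surjective [CharZero k]
    (hd : DeRham.IsDiff (KaehlerDifferential.D k (MvPolynomial σ k)) d) (p : ℕ)
    (y : ↥(⋀[MvPolynomial σ k]^(p+1) (Ω[MvPolynomial σ k⁄k]))) :
    ∃ y', lie d p y' = y := by
  classical
  set c := (BB k σ (p+1)).repr y with hc
  have hy : y = ∑ s ∈ c.support, c s • BB k σ (p+1) s := by
    conv_lhs => rw [← (BB k σ (p+1)).linearCombination_repr y]
    rw [Finsupp.linearCombination_apply, Finsupp.sum]
  choose T hT using euler_add_surjective (k := k) (σ := σ) (p+1) (by omega)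
  refine ⟨∑ s ∈ c.support, T (c s) • BB k σ (p+1) s, ?_⟩
  rw [lie_sum]
  conv_rhs => rw [hy]
  refine Finset.sum_congr rfl fun s _ => ?_
  rw [lie_smul_BB d hd, hT]

theorem lie_injective [CharZero k]
    (hd : DeRham.IsDiff (KaehlerDifferential.D k (MvPolynomial σ k)) d) (p : ℕ)
    (y : ↥(⋀[MvPolynomial σ k]^(p+1) (Ω[MvPolynomial σ k⁄k]))) (h : lie d p y = 0) : y = 0 := by
  classical
  set c := (BB k σ (p+1)).repr y with hc
  have hy : y = ∑ s ∈ c.support, c s • BB k σ (p+1) s := by
    conv_lhs => rw [← (BB k σ (p+1)).linearCombination_repr y]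
    rw [Finsupp.linearCombination_apply, Finsupp.sum]
  have h1 : ∑ s ∈ c.support, (euler (c s) + (p+1) • c s) • BB k σ (p+1) s = 0 := by
    rw [← h]
    conv_rhs => rw [hy]
    rw [lie_sum]
    refine Finset.sum_congr rfl fun s _ => ?_
    rw [lie_smul_BB d hd]
  have h2 : ∀ t ∈ c.support, c t = 0 := by
    intro t ht
    have h3 := congrArg (fun z => (BB k σ (p+1)).repr z t) h1
    simp only [map_sum, map_smul, Module.Basis.repr_self, Finsupp.coe_finsetSum, Finsupp.coe_smul,
      Finset.sum_apply, Pi.smul_apply, map_zero, Finsupp.coe_zero, Pi.zero_apply,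
      Finsupp.single_apply, smul_eq_mul, mul_ite, mul_one, mul_zero] at h3
    rw [Finset.sum_ite_eq' c.support t, if_pos ht] at h3
    exact euler_add_injective (p+1) (by omega) _ h3
  rw [hy]
  exact Finset.sum_eq_zero fun s hs => by rw [h2 s hs, zero_smul]

/-- **Poincaré lemma** for polynomial rings over a field of characteristic zero. -/
theorem poincare_poly [CharZero k]
    (hd : DeRham.IsDiff (KaehlerDifferential.D k (MvPolynomial σ k)) d) (p : ℕ) :
    DeRham.cocycles d (p + 1) ≤ DeRham.coboundaries d (p + 1) := by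
  intro y hy
  have hy0 : d (p+1) y = 0 := hy
  obtain ⟨y', hy'⟩ := lie_surjective d hd p y
  have hdd : ∀ q z, d (q+1) (d q z) = 0 := fun q z => LinearMap.congr_fun (hd.2 q) z
  have hu : d (p+1) y' = 0 := by
    apply lie_injective d hd (p+1)
    unfold lie
    rw [hdd, map_zero, add_zero]
    have : d (p+1) y = d (p+1) (contrG eps (p+1) (d (p+1) y')) := by
      rw [← hy']
      unfold lie
      rw [map_add, hdd, zero_add]
    rw [← this, hy0]
  show y ∈ LinearMap.range (d p)
  refine ⟨contrG eps p y', ?_⟩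
  rw [← hy']
  unfold lie
  rw [hu, map_zero, add_zero]

end Groth.Agent.H2.PoincPoly
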