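import Groth.Agent.Lib.Helper2.DRAffJ
import Groth.Agent.Lib.Helper2.PoincPolyB

/-!
# de Rham cohomology of affine space in characteristic zero (helper2)
-/

universe u

set_option autoImplicit false
set_option linter.style.haveILetI false
set_option linter.unusedSectionVars false

open CategoryTheory CategoryTheory.Limits Opposite AlgebraicGeometry TopologicalSpace exteriorPower

namespace Groth.Agent.H2.DRA

section Seq

variable (G : ℕ → Type*) [∀ p, AddCommGroup (G p)] (d : ∀ p, G p →+ G (p + 1))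

/-- degree zero cohomology is the kernel. -/
noncomputable def hseqZeroEquiv : Hseq G d 0 ≃+ (d 0).ker :=
  (QuotientAddGroup.quotientAddEquivOfEq
    (show (bd G d 0).addSubgroupOf (d 0).ker = ⊥ from AddSubgroup.bot_addSubgroupOf _)).trans
    (QuotientAddGroup.quotientBot (G := (d 0).ker))

lemma subsingleton_hseq_succ (p : ℕ) (h : (d (p + 1)).ker ≤ (d p).range) :
    Subsingleton (Hseq G d (p + 1)) := by
  have h1 : (bd G d (p + 1)).addSubgroupOf (d (p + 1)).ker = ⊤ :=
    AddSubgroup.addSubgroupOf_eq_top.2 h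
  rw [Hseq, h1]
  exact QuotientAddGroup.subsingleton_quotient_top

end Seq

section Poly

open MvPolynomial Groth.Agent.H2.PoincPoly

variable {k : Type u} [Field k] [CharZero k] {σ : Type*} [Fintype σ] [LinearOrder σ]
  (d : ∀ p : ℕ, ↥(⋀[MvPolynomial σ k]^p (Ω[MvPolynomial σ k⁄k])) →ₗ[k]
      ↥(⋀[MvPolynomial σ k]^(p + 1) (Ω[MvPolynomial σ k⁄k])))

lemma oneEquiv_d0 (hd : DeRham.IsRule (KaehlerDifferential.D k (MvPolynomial σ k)) d)
    (x : ↥(⋀[MvPolynomial σ k]^0 (Ω[MvPolynomial σ k⁄k]))) :
    oneEquiv (MvPolynomial σ k) (Ω[MvPolynomial σ k⁄k]) (d 0 x) =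
      KaehlerDifferential.D k (MvPolynomial σ k)
        (zeroEquiv (MvPolynomial σ k) (Ω[MvPolynomial σ k⁄k]) x) := by
  have hx : x = DeRham.gen (KaehlerDifferential.D k (MvPolynomial σ k)) 0
      (zeroEquiv (MvPolynomial σ k) (Ω[MvPolynomial σ k⁄k]) x) Fin.elim0 := by
    apply (zeroEquiv (MvPolynomial σ k) (Ω[MvPolynomial σ k⁄k])).injective
    unfold DeRham.gen
    rw [map_smul, zeroEquiv_ιMulti, smul_eq_mul, mul_one]
  conv_lhs => rw [hx]
  rw [hd 0, oneEquiv_ιMulti]
  rfl

/-- closed `0`-forms on affine space are the constants. -/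
theorem nonempty_ker_d0_equiv
    (hd : DeRham.IsRule (KaehlerDifferential.D k (MvPolynomial σ k)) d) :
    Nonempty ((dAdd d 0).ker ≃+ k) := by
  let ze := zeroEquiv (MvPolynomial σ k) (Ω[MvPolynomial σ k⁄k])
  have hmem : ∀ c : k, ze.symm (C c) ∈ (dAdd d 0).ker := by
    intro c
    rw [AddMonoidHom.mem_ker]
    change d 0 (ze.symm (C c)) = 0
    apply (oneEquiv (MvPolynomial σ k) (Ω[MvPolynomial σ k⁄k])).injective
    rw [oneEquiv_d0 d hd, map_zero, LinearEquiv.apply_symm_apply]
    exact (KaehlerDifferential.D k (MvPolynomial σ k)).map_algebraMap c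
  let φ : k →+ (dAdd d 0).ker :=
    { toFun := fun c => ⟨ze.symm (C c), hmem c⟩
      map_zero' := by
        ext
        simp
      map_add' := fun a b => by
        ext
        simp }
  have hφ : Function.Bijective φ := by
    constructor
    · intro a b hab
      have h1 : ze.symm (C a) = ze.symm (C b) := congrArg Subtype.val hab
      exact C_injective σ k (ze.symm.injective h1)
    · intro x
      have hx : d 0 x.1 = 0 := x.2
      have h1 : KaehlerDifferential.D k (MvPolynomial σ k) (ze x.1) = 0 := by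
        rw [← oneEquiv_d0 d hd, hx, map_zero]
      have h2 : euler (ze x.1) = 0 := by
        rw [← eps_D, h1, map_zero]
      refine ⟨coeff 0 (ze x.1), Subtype.ext ?_⟩
      change ze.symm (C (coeff 0 (ze x.1))) = x.1
      rw [← eq_C_of_euler_eq_zero _ h2, LinearEquiv.symm_apply_apply]
  exact ⟨(AddEquiv.ofBijective φ hφ).symm⟩

end Poly

end Groth.Agent.H2.DRA
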