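import Groth.Agent.Lib.Helper2.DRStupidA

/-!
# Endomorphisms of a complex and the removal of its bottom term (helper2)

An endomorphism `φ` of a cochain complex `L` with `L.X (a - 1) = 0` induces endomorphisms of the two
outer terms of the short exact sequence `0 → σ_{>a} L → L → L^a[-a] → 0` of `DRStupidA`, compatibly
with the maps; all these are ring homomorphisms on endomorphism rings.
-/

universe w v u

set_option linter.style.haveILetI false
set_option linter.unusedSectionVars false

open CategoryTheory CategoryTheory.Limits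

namespace Groth.Agent.H2.DRL

open Groth.Agent.H2.DRS

section General

variable {C : Type*} [Category C] [Preadditive C] {D : Type*} [Category D] [Preadditive D]

/-- an additive functor induces ring homomorphisms of endomorphism rings. -/
def mapEndRing (F : C ⥤ D) [F.Additive] (X : C) : End X →+* End (F.obj X) where
  toFun f := F.map f
  map_one' := F.map_id X
  map_mul' _ _ := F.map_comp _ _
  map_zero' := F.map_zero X X
  map_add' f g := F.map_add

@[simp]
lemma mapEndRing_apply (F : C ⥤ D) [F.Additive] (X : C) (f : End X) :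
    mapEndRing F X f = F.map f := rfl

end General

variable {C : Type u} [Category.{v} C] [Abelian C]

/-- evaluation in degree `p` on endomorphisms. -/
noncomputable def evalEnd (L : CochainComplex C ℤ) (p : ℤ) : End L →+* End (L.X p) :=
  mapEndRing (HomologicalComplex.eval C (ComplexShape.up ℤ) p) L

@[simp]
lemma evalEnd_apply (L : CochainComplex C ℤ) (p : ℤ) (φ : End L) :
    evalEnd L p φ = (φ : L ⟶ L).f p := rfl

/-- the single complex functor on endomorphisms. -/
noncomputable def singleEnd (p : ℤ) (M : C) :
    End M →+* End ((HomologicalComplex.single C (ComplexShape.up ℤ) p).obj M) :=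
  mapEndRing (HomologicalComplex.single C (ComplexShape.up ℤ) p) M

@[simp]
lemma singleEnd_apply (p : ℤ) (M : C) (g : End M) :
    singleEnd p M g = (HomologicalComplex.single C (ComplexShape.up ℤ) p).map g := rfl

lemma toSingle_naturality (L : CochainComplex C ℤ) (a : ℤ) (h : IsZero (L.X (a - 1)))
    (φ : L ⟶ L) :
    φ ≫ toSingle L a h =
      toSingle L a h ≫ (HomologicalComplex.single C (ComplexShape.up ℤ) a).map (φ.f a) := by
  apply HomologicalComplex.to_single_hom_ext
  simp [toSingle, HomologicalComplex.mkHomToSingle_f, HomologicalComplex.single_map_f_self]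

/-- the induced endomorphism of the upper part. -/
noncomputable def upperMap (L : CochainComplex C ℤ) (a : ℤ) (h : IsZero (L.X (a - 1)))
    (φ : L ⟶ L) : upper L a h ⟶ upper L a h :=
  kernel.map (toSingle L a h) (toSingle L a h) φ
    ((HomologicalComplex.single C (ComplexShape.up ℤ) a).map (φ.f a))
    (toSingle_naturality L a h φ).symm

/-- the inclusion of the upper part. -/
noncomputable def upperι (L : CochainComplex C ℤ) (a : ℤ) (h : IsZero (L.X (a - 1))) :
    upper L a h ⟶ L := (sc L a h).f

lemma upperι_eq (L : CochainComplex C ℤ) (a : ℤ) (h : IsZero (L.X (a - 1))) :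
    upperι L a h = kernel.ι (toSingle L a h) := rfl

instance mono_upperι (L : CochainComplex C ℤ) (a : ℤ) (h : IsZero (L.X (a - 1))) :
    Mono (upperι L a h) := (sc_shortExact L a h).mono_f

@[reassoc (attr := simp)]
lemma upperMap_ι (L : CochainComplex C ℤ) (a : ℤ) (h : IsZero (L.X (a - 1))) (φ : L ⟶ L) :
    upperMap L a h φ ≫ upperι L a h = upperι L a h ≫ φ :=
  kernel.lift_ι _ _ _

lemma upperMap_id (L : CochainComplex C ℤ) (a : ℤ) (h : IsZero (L.X (a - 1))) :
    upperMap L a h (𝟙 L) = 𝟙 _ := by
  rw [← cancel_mono (upperι L a h), upperMap_ι, Category.comp_id, Category.id_comp]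

lemma upperMap_comp (L : CochainComplex C ℤ) (a : ℤ) (h : IsZero (L.X (a - 1)))
    (φ ψ : L ⟶ L) :
    upperMap L a h (φ ≫ ψ) = upperMap L a h φ ≫ upperMap L a h ψ := by
  rw [← cancel_mono (upperι L a h), upperMap_ι, Category.assoc, upperMap_ι, upperMap_ι_assoc]

lemma upperMap_zero (L : CochainComplex C ℤ) (a : ℤ) (h : IsZero (L.X (a - 1))) :
    upperMap L a h (0 : L ⟶ L) = 0 := by
  rw [← cancel_mono (upperι L a h), upperMap_ι, comp_zero, zero_comp]

lemma upperMap_add (L : CochainComplex C ℤ) (a : ℤ) (h : IsZero (L.X (a - 1)))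
    (φ ψ : L ⟶ L) :
    upperMap L a h (φ + ψ) = upperMap L a h φ + upperMap L a h ψ := by
  rw [← cancel_mono (upperι L a h), upperMap_ι, Preadditive.comp_add, Preadditive.add_comp,
    upperMap_ι, upperMap_ι]

/-- the induced ring homomorphism on endomorphisms of the upper part. -/
noncomputable def upperEnd (L : CochainComplex C ℤ) (a : ℤ) (h : IsZero (L.X (a - 1))) :
    End L →+* End (upper L a h) where
  toFun φ := upperMap L a h φ
  map_one' := upperMap_id L a h
  map_mul' φ ψ := upperMap_comp L a h ψ φ
  map_zero' := upperMap_zero L a h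
  map_add' φ ψ := upperMap_add L a h φ ψ

@[simp]
lemma upperEnd_apply (L : CochainComplex C ℤ) (a : ℤ) (h : IsZero (L.X (a - 1))) (φ : End L) :
    upperEnd L a h φ = upperMap L a h φ := rfl

lemma upperXIso_hom (L : CochainComplex C ℤ) (a : ℤ) (h : IsZero (L.X (a - 1))) (i : ℤ)
    (hi : i ≠ a) : (upperXIso L a h i hi).hom = (upperι L a h).f i := rfl

/-- the induced endomorphism of the upper part, in degree `i ≠ a`. -/
lemma upperMap_f_comp_upperXIso (L : CochainComplex C ℤ) (a : ℤ) (h : IsZero (L.X (a - 1)))
    (φ : L ⟶ L) (i : ℤ) (hi : i ≠ a) :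
    (upperMap L a h φ).f i ≫ (upperXIso L a h i hi).hom =
      (upperXIso L a h i hi).hom ≫ φ.f i := by
  rw [upperXIso_hom, ← HomologicalComplex.comp_f, upperMap_ι, HomologicalComplex.comp_f]

end Groth.Agent.H2.DRL
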