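import Groth.Agent.Lib.Helper2.DRStupidC

/-!
# The graded pieces of the stupid filtration are `Ext` groups (helper2)
-/

universe w' w v u

set_option linter.style.haveILetI false
set_option linter.unusedSectionVars false

open CategoryTheory CategoryTheory.Limits CategoryTheory.Pretriangulated Opposite

namespace Groth.Agent.H2.DRS

open DerivedCategory

variable {C : Type u} [Category.{v} C] [Abelian C] [HasDerivedCategory.{w} C]

/-- `M[-p]⟦p + q⟧ ≅ M⟦q⟧`. -/
noncomputable def singleShiftIso (M : C) (p q m : ℤ) (h : p + q = m) :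
    ((singleFunctor C p).obj M)⟦m⟧ ≅ ((singleFunctor C 0).obj M)⟦q⟧ :=
  (shiftFunctorAdd' (DerivedCategory C) p q m h).app _ ≪≫
    (shiftFunctor (DerivedCategory C) q).mapIso
      (((singleFunctors C).shiftIso p 0 p (add_zero p)).app M)

/-- the graded piece in total degree `m = p + q` is `Ext^q`. -/
theorem nonempty_piece_equiv_ext [HasExt.{w'} C] (F M : C) (p m : ℤ) (q : ℕ)
    (h : p + q = m) :
    Nonempty (Piece ((singleFunctor C 0).obj F) M p m ≃+ Abelian.Ext.{w'} F M q) :=
  ⟨(homAddEquivOfIso _ (singleShiftIso M p q m h)).trans Abelian.Ext.homAddEquiv.symm⟩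

/-- the graded piece in total degree `m < p` vanishes. -/
theorem subsingleton_piece_of_lt (F M : C) (p m : ℤ) (h : m < p) :
    Subsingleton (Piece ((singleFunctor C 0).obj F) M p m) := by
  let e : ((singleFunctor C p).obj M)⟦m⟧ ≅ (singleFunctor C (p - m)).obj M :=
    ((singleFunctors C).shiftIso m (p - m) p (by omega)).app M
  refine subsingleton_of_forall_eq 0 (fun x => ?_)
  have h0 : x ≫ e.hom = 0 :=
    TStructure.t.zero_of_isLE_of_isGE (x ≫ e.hom) 0 (p - m) (by omega)
      (inferInstanceAs (((singleFunctor C 0).obj F).IsLE 0))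
      (inferInstanceAs (((singleFunctor C (p - m)).obj M).IsGE (p - m)))
  calc x = (x ≫ e.hom) ≫ e.inv := by simp
    _ = 0 := by rw [h0, zero_comp]

end Groth.Agent.H2.DRS
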