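import Groth.Agent.Lib.Helper2.DRLinA
import Groth.Agent.Lib.Helper2.DRStupidD
import Groth.Prelude.Def_KLinDR

/-!
# The stupid-filtration dévissage, linearly over a ring acting on the complex (helper2)

For a ring `R` acting on a bounded cochain complex `L` through `ρ : R →+* End L`, the hypercohomology
groups `KLinDR.HTρ T L ρ m` are `R`-modules; the long exact sequences of the dévissage of
`DRStupidC` are `R`-linear.  Consequences: finiteness from finiteness of the graded pieces
(over a noetherian ring), and a linear isomorphism with the single surviving piece.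
-/

universe w v u u'

set_option linter.style.haveILetI false
set_option linter.unusedSectionVars false

open CategoryTheory CategoryTheory.Limits CategoryTheory.Pretriangulated Opposite

namespace Groth.Agent.H2.DRL

open Groth.Agent.H2.DRS DerivedCategory KLinDR

variable {C : Type u} [Category.{v} C] [Abelian C] [HasDerivedCategory.{w} C]
  {R : Type u'} [Ring R]

lemma commutes_symm {K L : CochainComplex C ℤ} {ρ : R →+* End K} {ρ' : R →+* End L}
    (e : K ≅ L) (h : Commutes ρ ρ' e.hom) : Commutes ρ' ρ e.inv := by
  intro a
  have := h a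
  rw [← cancel_mono e.hom, Category.assoc, Category.assoc, Iso.inv_hom_id, Category.comp_id,
    this, Iso.inv_hom_id_assoc]

/-- an isomorphism of complexes intertwining the actions induces a linear equivalence. -/
noncomputable def HTρequiv (T : C) {K L : CochainComplex C ℤ} {ρ : R →+* End K}
    {ρ' : R →+* End L} (e : K ≅ L) (h : Commutes ρ ρ' e.hom) (n : ℤ) :
    HTρ T K ρ n ≃ₗ[R] HTρ T L ρ' n :=
  LinearEquiv.ofLinearMap (HTρmap T e.hom h n) (HTρmap T e.inv (commutes_symm e h) n)
    (by
      ext x
      apply HTρ.toHT.injective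
      change E1Deg.HTmap T e.hom n (E1Deg.HTmap T e.inv n (HTρ.toHT x)) = HTρ.toHT x
      rw [← E1Deg.HTmap_comp, Iso.inv_hom_id, E1Deg.HTmap_id])
    (by
      ext x
      apply HTρ.toHT.injective
      change E1Deg.HTmap T e.inv n (E1Deg.HTmap T e.hom n (HTρ.toHT x)) = HTρ.toHT x
      rw [← E1Deg.HTmap_comp, Iso.hom_inv_id, E1Deg.HTmap_id])

/-- the action on a module placed in a single degree. -/
noncomputable def pieceρ (p : ℤ) {M : C} (r : R →+* End M) :
    R →+* End ((HomologicalComplex.single C (ComplexShape.up ℤ) p).obj M) :=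
  (singleEnd p M).comp r

lemma pieceρ_apply (p : ℤ) {M : C} (r : R →+* End M) (a : R) :
    (pieceρ p r a : _ ⟶ _) =
      (HomologicalComplex.single C (ComplexShape.up ℤ) p).map (r a) := rfl

/-- the graded piece of a module with an action, as a module. -/
abbrev PieceR (T : C) (M : C) (r : R →+* End M) (p m : ℤ) : Type w :=
  HTρ T ((HomologicalComplex.single C (ComplexShape.up ℤ) p).obj M) (pieceρ p r) m

/-- the graded pieces of isomorphic modules with compatible actions. -/
noncomputable def pieceREquiv (T : C) {M M' : C} (r : R →+* End M) (r' : R →+* End M')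
    (e : M ≅ M') (h : ∀ a, (r a : M ⟶ M) ≫ e.hom = e.hom ≫ (r' a : M' ⟶ M')) (p m : ℤ) :
    PieceR T M r p m ≃ₗ[R] PieceR T M' r' p m :=
  HTρequiv T ((HomologicalComplex.single C (ComplexShape.up ℤ) p).mapIso e) (by
    intro a
    rw [pieceρ_apply, pieceρ_apply, Functor.mapIso_hom, ← Functor.map_comp, ← Functor.map_comp,
      h a]) m

variable (L : CochainComplex C ℤ) (a : ℤ) (h : IsZero (L.X (a - 1))) (ρ : R →+* End L)

/-- the action on the bottom piece. -/
noncomputable abbrev bottomρ (p : ℤ) : R →+* End (L.X p) := (evalEnd L p).comp ρ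

/-- the action on the upper part. -/
noncomputable abbrev upperρ : R →+* End (upper L a h) := (upperEnd L a h).comp ρ

lemma commutes_toSingle :
    Commutes ρ (pieceρ a (bottomρ L ρ a)) (toSingle L a h) := by
  intro r
  exact toSingle_naturality L a h (ρ r)

lemma commutes_upperι : Commutes (upperρ L a h ρ) ρ (upperι L a h) := by
  intro r
  exact upperMap_ι L a h (ρ r)

/-- exactness in the middle of the linear sequence of the dévissage. -/
lemma exact_middle (T : C) (m : ℤ) :
    Function.Exact (HTρmap T (upperι L a h) (commutes_upperι L a h ρ) m)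
      (HTρmap T (toSingle L a h) (commutes_toSingle L a h ρ) m) := by
  intro x
  constructor
  · intro hx
    obtain ⟨y, hy⟩ := exists_of_comp_mor₂_eq_zero (tri L a h) (tri_distinguished L a h)
      ((singleFunctor C 0).obj T) m (HTρ.toHT x) (congrArg HTρ.toHT hx)
    exact ⟨HTρ.toHT.symm y, HTρ.toHT.injective hy⟩
  · rintro ⟨y, rfl⟩
    apply HTρ.toHT.injective
    change E1Deg.HTmap T (toSingle L a h) m (E1Deg.HTmap T (upperι L a h) m (HTρ.toHT y)) = 0
    rw [← E1Deg.HTmap_comp]
    have : upperι L a h ≫ toSingle L a h = 0 := (sc L a h).zero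
    rw [this, E1Deg.HTmap_apply, Functor.map_zero, Functor.map_zero, comp_zero]

end Groth.Agent.H2.DRL
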