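import Groth.Agent.Lib.Helper2.DRLinC
import Groth.Agent.Lib.Helper2.DRStupidE

/-!
# The graded pieces of the linear dévissage are the Hodge cohomology groups, linearly (helper2)
-/

universe w' w v u u'

set_option linter.style.haveILetI false
set_option linter.unusedSectionVars false

open CategoryTheory CategoryTheory.Limits CategoryTheory.Pretriangulated Opposite

namespace Groth.Agent.H2.DRL

open Groth.Agent.H2.DRS DerivedCategory KLinDR

section General

variable {C : Type u} [Category.{v} C] [Abelian C] [HasDerivedCategory.{w} C]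

lemma singleShiftIso_naturality {M M' : C} (g : M ⟶ M') (p q m : ℤ) (h : p + q = m) :
    ((singleFunctor C p).map g)⟦m⟧' ≫ (singleShiftIso M' p q m h).hom =
      (singleShiftIso M p q m h).hom ≫ ((singleFunctor C 0).map g)⟦q⟧' := by
  dsimp only [singleShiftIso, Iso.trans_hom, Iso.app_hom, Functor.mapIso_hom]
  rw [← Category.assoc]
  erw [(shiftFunctorAdd' (DerivedCategory C) p q m h).hom.naturality ((singleFunctor C p).map g)]
  rw [Category.assoc, Category.assoc]
  congr 1
  dsimp only [Functor.comp_map]
  rw [← Functor.map_comp, ← Functor.map_comp]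
  congr 1
  exact ((singleFunctors C).shiftIso p 0 p (add_zero p)).hom.naturality g

variable [HasExt.{w'} C]

/-- the graded piece in total degree `m = p + q` is `Ext^q`. -/
noncomputable def pieceExtEquiv (F M : C) (p m : ℤ) (q : ℕ) (h : p + q = m) :
    Piece ((singleFunctor C 0).obj F) M p m ≃+ Abelian.Ext.{w'} F M q :=
  (homAddEquivOfIso _ (singleShiftIso M p q m h)).trans Abelian.Ext.homAddEquiv.symm

lemma pieceExtEquiv_hom (F M : C) (p m : ℤ) (q : ℕ) (h : p + q = m)
    (x : Piece ((singleFunctor C 0).obj F) M p m) :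
    (pieceExtEquiv.{w'} F M p m q h x).hom = x ≫ (singleShiftIso M p q m h).hom := by
  change Abelian.Ext.homAddEquiv (Abelian.Ext.homAddEquiv.symm _) = _
  rw [AddEquiv.apply_symm_apply]
  rfl

lemma pieceExtEquiv_comp (F : C) {M M' : C} (g : M ⟶ M') (p m : ℤ) (q : ℕ) (h : p + q = m)
    (x : Piece ((singleFunctor C 0).obj F) M p m) :
    pieceExtEquiv.{w'} F M' p m q h (x ≫ ((singleFunctor C p).map g)⟦m⟧') =
      (pieceExtEquiv.{w'} F M p m q h x).comp (Abelian.Ext.mk₀ g) (add_zero q) := by
  apply Abelian.Ext.ext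
  rw [pieceExtEquiv_hom, Abelian.Ext.comp_hom, Abelian.Ext.mk₀_hom, ShiftedHom.comp_mk₀,
    pieceExtEquiv_hom, Category.assoc, Category.assoc, singleShiftIso_naturality]

/-- the underlying group of the graded piece. -/
noncomputable def pieceRToPiece {R : Type u'} [Ring R] (T M : C) (r : R →+* End M) (p m : ℤ) :
    PieceR T M r p m ≃+ Piece ((singleFunctor C 0).obj T) M p m :=
  AddEquiv.refl (Piece ((singleFunctor C 0).obj T) M p m)

lemma pieceRToPiece_smul {R : Type u'} [Ring R] (T M : C) (r : R →+* End M) (p m : ℤ) (a : R)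
    (x : PieceR T M r p m) :
    pieceRToPiece T M r p m (a • x) =
      pieceRToPiece T M r p m x ≫ ((singleFunctor C p).map (r a))⟦m⟧' := rfl

end General

end Groth.Agent.H2.DRL
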