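import Groth.Agent.Lib.Helper2.DRLinD

/-!
# Linear Hodge-to-de Rham dévissage on a scheme (helper2)
-/

universe u u'

set_option linter.style.haveILetI false
set_option linter.unusedSectionVars false

open CategoryTheory CategoryTheory.Limits CategoryTheory.Pretriangulated Opposite AlgebraicGeometry
  TopologicalSpace

namespace Groth.Agent.H2.DRL

open Groth.Agent.H2.DRS DerivedCategory KLinDR

variable {X : Scheme.{u}}
  [HasDerivedCategory.{u} (Sheaf (Opens.grothendieckTopology X) AddCommGrpCat.{u})]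

/-- the test object `ℤ_X`. -/
noncomputable abbrev TX (X : Scheme.{u}) : Sheaf (Opens.grothendieckTopology X) AddCommGrpCat.{u} :=
  CohCx.freeSheaf (Opens.grothendieckTopology X) ⊤

/-- multiplication by global functions, as a ring homomorphism. -/
noncomputable def smulRing (M : X.Modules) : Coh.Γtop X →+* End (Coh.toAb M) where
  toFun r := Coh.smulAb M r
  map_one' := Coh.smulAb_one M
  map_mul' r s := Coh.smulAb_mul M r s
  map_zero' := Coh.smulAb_zero M
  map_add' r s := Coh.smulAb_add M r s

@[simp]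
lemma smulRing_apply (M : X.Modules) (r : Coh.Γtop X) : smulRing M r = Coh.smulAb M r := rfl

/-- the graded piece in total degree `m = p + q` is `H^q`. -/
noncomputable def pieceHHEquiv (M : X.Modules) (p m : ℤ) (q : ℕ) (h : p + q = m) :
    Piece ((singleFunctor _ 0).obj (TX X)) (Coh.toAb M) p m ≃+ Coh.HH X M q :=
  (pieceExtEquiv.{u} (TX X) (Coh.toAb M) p m q h).trans
    (Groth.Agent.LD.SC.HEquiv (J := Opens.grothendieckTopology X)
      (T := (⊤ : X.Opens)) isTerminalTop (Coh.toAb M) q).symm

lemma HEquiv_map {F G : Sheaf (Opens.grothendieckTopology X) AddCommGrpCat.{u}} (g : F ⟶ G)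
    (q : ℕ) (y : Sheaf.H F q) :
    Groth.Agent.LD.SC.HEquiv (J := Opens.grothendieckTopology X)
      (T := (⊤ : X.Opens)) isTerminalTop G q (Sheaf.H.map g q y) =
    (Groth.Agent.LD.SC.HEquiv (J := Opens.grothendieckTopology X)
      (T := (⊤ : X.Opens)) isTerminalTop F q y).comp (Abelian.Ext.mk₀ g) (add_zero q) := by
  change (Abelian.Ext.mk₀ _).comp (y.comp (Abelian.Ext.mk₀ g) (add_zero q)) (zero_add q) =
    ((Abelian.Ext.mk₀ _).comp y (zero_add q)).comp (Abelian.Ext.mk₀ g) (add_zero q)
  rw [Abelian.Ext.comp_assoc_of_third_deg_zero]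

lemma pieceHHEquiv_comp (M : X.Modules) (g : Coh.toAb M ⟶ Coh.toAb M) (p m : ℤ) (q : ℕ)
    (h : p + q = m) (x : Piece ((singleFunctor _ 0).obj (TX X)) (Coh.toAb M) p m) :
    pieceHHEquiv M p m q h (x ≫ ((singleFunctor _ p).map g)⟦m⟧') =
      Sheaf.H.map g q (pieceHHEquiv M p m q h x) := by
  apply (Groth.Agent.LD.SC.HEquiv (J := Opens.grothendieckTopology X)
      (T := (⊤ : X.Opens)) isTerminalTop (Coh.toAb M) q).injective
  rw [HEquiv_map]
  dsimp only [pieceHHEquiv, AddEquiv.trans_apply]
  rw [AddEquiv.apply_symm_apply, AddEquiv.apply_symm_apply, pieceExtEquiv_comp]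

variable {k : Type u'} [CommRing k] (c : k →+* Coh.Γtop X)

/-- the action of `k` on the abelian sheaf of a module. -/
noncomputable abbrev smulρ (M : X.Modules) : k →+* End (Coh.toAb M) := (smulRing M).comp c

lemma pieceHHEquiv_smul (M : X.Modules) (p m : ℤ) (q : ℕ) (h : p + q = m) (a : k)
    (x : PieceR (TX X) (Coh.toAb M) (smulρ c M) p m) :
    pieceHHEquiv M p m q h (pieceRToPiece _ _ _ p m (a • x)) =
      Sheaf.H.map (Coh.smulAb M (c a)) q (pieceHHEquiv M p m q h (pieceRToPiece _ _ _ p m x)) := by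
  rw [pieceRToPiece_smul]
  exact pieceHHEquiv_comp M (Coh.smulAb M (c a)) p m q h _

/-- the graded piece as a module is `H^q` with the action through `c`. -/
noncomputable def pieceHHLinearEquiv (M : X.Modules) (p m : ℤ) (q : ℕ) (h : p + q = m) :
    letI := Module.compHom (Coh.HH X M q) c
    PieceR (TX X) (Coh.toAb M) (smulρ c M) p m ≃ₗ[k] Coh.HH X M q :=
  letI := Module.compHom (Coh.HH X M q) c
  { toFun := fun x => pieceHHEquiv M p m q h (pieceRToPiece _ _ _ p m x)
    invFun := fun y => (pieceRToPiece _ _ _ p m).symm ((pieceHHEquiv M p m q h).symm y)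
    left_inv := fun x => by
      simp only [AddEquiv.symm_apply_apply]
    right_inv := fun y => by
      simp only [AddEquiv.apply_symm_apply]
    map_add' := fun x y => by
      rw [map_add, map_add]
    map_smul' := fun a x => pieceHHEquiv_smul c M p m q h a x }

end Groth.Agent.H2.DRL
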