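import Groth.Agent.Lib.Helper2.DRStupidE

/-!
# de Rham cohomology from Hodge cohomology when the Hodge numbers are sparse (helper2)
-/

universe u

set_option linter.style.haveILetI false
set_option linter.unusedSectionVars false

open CategoryTheory CategoryTheory.Limits CategoryTheory.Pretriangulated Opposite AlgebraicGeometry
  TopologicalSpace

namespace Groth.Agent.H2.DRS

open DerivedCategory

variable {X S : Scheme.{u}} {f : X ⟶ S} {Ω' : X.Modules} {δ : OmegaSh.Der f Ω'}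
  (D : DeRhamSh.Cx f Ω' δ)
  [HasDerivedCategory.{u} (Sheaf (Opens.grothendieckTopology X) AddCommGrpCat.{u})]

lemma isZero_KZ_of_gt (n : ℕ) (hzero : ∀ p, n < p → IsZero (D.term p)) (i : ℤ)
    (hi : (0 : ℤ) + ((n + 1 : ℕ) : ℤ) ≤ i) : IsZero (D.KZ.X i) := by
  have hi0 : 0 ≤ i := by omega
  refine (isZero_toAb (hzero i.toNat ?_)).of_iso (KZXIso D i hi0)
  push_cast at hi
  omega

lemma subsingleton_piece_of_HH (m : ℤ) (p : ℤ) (hp : 0 ≤ p)
    (hvan : ∀ q : ℕ, p + q = m → Subsingleton (Coh.HH X (D.term p.toNat) q)) :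
    Subsingleton (Piece ((singleFunctor _ 0).obj
      (CohCx.freeSheaf (Opens.grothendieckTopology X) ⊤)) (termZ D p) p m) := by
  by_cases hmp : m < p
  · exact subsingleton_piece_lt D p m hmp
  · obtain ⟨p', rfl⟩ := Int.eq_ofNat_of_zero_le hp
    obtain ⟨e⟩ := nonempty_piece_equiv_HH D p' (m - p').toNat m (by omega)
    have := hvan (m - p').toNat (by omega)
    rw [Int.toNat_natCast] at this
    exact e.toEquiv.subsingleton

/-- **Vanishing of de Rham cohomology** from vanishing of the Hodge groups on the anti-diagonal. -/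
theorem subsingleton_HdR (m : ℤ) (n : ℕ) (hzero : ∀ p, n < p → IsZero (D.term p))
    (hvan : ∀ p q : ℕ, p ≤ n → (p : ℤ) + q = m → Subsingleton (Coh.HH X (D.term p) q)) :
    Subsingleton (DeRhamSh.HdR D m) := by
  refine subsingleton_of_pieces _ m (termZ D) (n + 1) D.KZ 0 (fun i hi => isZero_KZ_of_neg D i hi)
    (isZero_KZ_of_gt D n hzero) (fun p hp _ => ⟨KZXIso D p hp⟩) (fun p hp1 hp2 => ?_)
  refine subsingleton_piece_of_HH D m p hp1 (fun q hq => ?_)
  exact hvan p.toNat q (by push_cast at hp2; omega) (by omega)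

/-- **One surviving Hodge group.** -/
theorem nonempty_HdR_equiv (m : ℤ) (n : ℕ) (hzero : ∀ p, n < p → IsZero (D.term p))
    (p₀ q₀ : ℕ) (hp₀ : p₀ ≤ n) (hpq : (p₀ : ℤ) + q₀ = m)
    (hvan : ∀ p q : ℕ, p ≤ n → p ≠ p₀ → (p : ℤ) + q = m →
      Subsingleton (Coh.HH X (D.term p) q))
    (hvan1 : ∀ p q : ℕ, p₀ < p → p ≤ n → (p : ℤ) + q = m + 1 →
      Subsingleton (Coh.HH X (D.term p) q))
    (hvan2 : ∀ p q : ℕ, p < p₀ → (p : ℤ) + q = m - 1 →
      Subsingleton (Coh.HH X (D.term p) q)) :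
    Nonempty (DeRhamSh.HdR D m ≃+ Coh.HH X (D.term p₀) q₀) := by
  obtain ⟨e⟩ := nonempty_equiv_piece ((singleFunctor _ 0).obj
      (CohCx.freeSheaf (Opens.grothendieckTopology X) ⊤)) m (p₀ : ℤ) (termZ D) (n + 1) D.KZ 0
    (fun i hi => isZero_KZ_of_neg D i hi)
    (isZero_KZ_of_gt D n hzero) (fun p hp _ => ⟨KZXIso D p hp⟩) (by omega)
    (by push_cast; omega)
    (fun p hp1 hp2 hp3 => subsingleton_piece_of_HH D m p hp1 (fun q hq =>
      hvan p.toNat q (by push_cast at hp2; omega) (by omega) (by omega)))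
    (fun p hp1 hp2 => subsingleton_piece_of_HH D (m + 1) p (by omega) (fun q hq =>
      hvan1 p.toNat q (by omega) (by push_cast at hp2; omega) (by omega)))
    (fun p hp1 hp2 => subsingleton_piece_of_HH D (m - 1) p hp1 (fun q hq =>
      hvan2 p.toNat q (by omega) (by omega)))
  obtain ⟨e'⟩ := nonempty_piece_equiv_HH D p₀ q₀ m hpq
  exact ⟨e.trans e'⟩

end Groth.Agent.H2.DRS
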