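import Groth.Agent.Lib.Helper2.DRLinE
import Groth.Agent.Lib.Helper2.DRStupidF

/-!
# Linear Hodge-to-de Rham dévissage for a de Rham complex (helper2)
-/

universe u u'

set_option linter.style.haveILetI false
set_option linter.unusedSectionVars false

open CategoryTheory CategoryTheory.Limits CategoryTheory.Pretriangulated Opposite AlgebraicGeometry
  TopologicalSpace

namespace Groth.Agent.H2.DRL

open Groth.Agent.H2.DRS DerivedCategory KLinDR

variable {X S : Scheme.{u}} {f : X ⟶ S} {Ω' : X.Modules} {δ : OmegaSh.Der f Ω'}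
  (D : DeRhamSh.Cx f Ω' δ)
  [HasDerivedCategory.{u} (Sheaf (Opens.grothendieckTopology X) AddCommGrpCat.{u})]
  {k : Type u'} [CommRing k] {c : k →+* Coh.Γtop X} (h : TermwiseLinear c D.K D.term D.iso)

lemma scalar_f_KZXIso (a : k) (p : ℤ) (hp : 0 ≤ p) :
    ((scalar h a : D.KZ ⟶ D.KZ)).f p ≫ (KZXIso D p hp).hom =
      (KZXIso D p hp).hom ≫ Coh.smulAb (D.term p.toNat) (c a) := by
  have hi : ComplexShape.embeddingUpNat.f p.toNat = p := by
    simp only [ComplexShape.embeddingUpNat_f]
    omega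
  have h1 : ((scalar h a : D.KZ ⟶ D.KZ)).f p =
      (D.K.extendXIso ComplexShape.embeddingUpNat hi).hom ≫
        scalarEnd c D.term D.iso a p.toNat ≫
          (D.K.extendXIso ComplexShape.embeddingUpNat hi).inv :=
    HomologicalComplex.extendMap_f (scalarN h a) ComplexShape.embeddingUpNat hi
  rw [h1]
  simp only [KZXIso, scalarEnd, Iso.trans_hom, Category.assoc, Iso.inv_hom_id_assoc,
    Iso.inv_hom_id, Category.comp_id]

/-- the graded pieces of the de Rham complex, as modules. -/
noncomputable def pieceKZEquiv (p : ℤ) (hp : 0 ≤ p) (m : ℤ) :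
    PieceR (TX X) (D.KZ.X p) (bottomρ D.KZ (scalar h) p) p m ≃ₗ[k]
      PieceR (TX X) (Coh.toAb (D.term p.toNat)) (smulρ c (D.term p.toNat)) p m :=
  pieceREquiv (TX X) _ _ (KZXIso D p hp) (fun a => scalar_f_KZXIso D h a p hp) p m

/-- finiteness of a graded piece from finiteness of the Hodge cohomology group. -/
lemma finite_pieceR_of_finite_HH (c : k →+* Coh.Γtop X) (M : X.Modules) (p m : ℤ) (q : ℕ)
    (hpq : p + q = m)
    (hfin : @Module.Finite k (Coh.HH X M q) _ _ (Module.compHom _ c)) :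
    Module.Finite k (PieceR (TX X) (Coh.toAb M) (smulρ c M) p m) :=
  @Module.Finite.equiv k (Coh.HH X M q) (PieceR (TX X) (Coh.toAb M) (smulρ c M) p m) _ _
    (Module.compHom _ c) _ _ hfin (pieceHHLinearEquiv c M p m q hpq).symm

/-- **Finiteness of de Rham cohomology** from finiteness of the Hodge cohomology groups. -/
theorem finite_HdR [IsNoetherianRing k] (m : ℤ)
    (hfin : ∀ p q : ℕ, (p : ℤ) + q = m →
      @Module.Finite k (Coh.HH X (D.term p) q) _ _ (Module.compHom _ c)) :
    Module.Finite k (HdR c D h m) := by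
  refine finite_of_pieces (TX X) m (m + 1).toNat D.KZ 0 (scalar h)
    (fun i hi => isZero_KZ_of_neg D i hi) (by omega) (fun p hp1 hp2 => ?_)
  obtain ⟨p', rfl⟩ := Int.eq_ofNat_of_zero_le hp1
  have hq : ((p' : ℕ) : ℤ) + ((m - p').toNat : ℕ) = m := by omega
  haveI := finite_pieceR_of_finite_HH c (D.term ((p' : ℕ) : ℤ).toNat) (p' : ℤ) m (m - p').toNat hq
    (hfin ((p' : ℕ) : ℤ).toNat (m - p').toNat (by simpa using hq))
  exact Module.Finite.equiv (pieceKZEquiv D h (p' : ℤ) hp1 m).symm

end Groth.Agent.H2.DRL
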