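import Groth.Agent.Lib.Helper2.DRLinF

/-!
# One surviving Hodge group, linearly (helper2)
-/

universe u u'

set_option linter.style.haveILetI false
set_option linter.unusedSectionVars false

open CategoryTheory CategoryTheory.Limits CategoryTheory.Pretriangulated Opposite AlgebraicGeometry
  TopologicalSpace

namespace Groth.Agent.H2.DRL

open Groth.Agent.H2.DRS DerivedCategory KLinDR

variable {X S : Scheme.{u}} {f : X ⟶ S} {Ω' : X.Modules} {δ : OmegaSh.Der f Ω'}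
  (D : DeRhamSh.Cx f Ω' δ)
  [HasDerivedCategory.{u} (Sheaf (Opens.grothendieckTopology X) AddCommGrpCat.{u})]
  {k : Type u'} [CommRing k] {c : k →+* Coh.Γtop X} (h : TermwiseLinear c D.K D.term D.iso)

lemma subsingleton_pieceKZ_of_HH (m : ℤ) (p : ℤ) (hp : 0 ≤ p)
    (hvan : ∀ q : ℕ, p + q = m → Subsingleton (Coh.HH X (D.term p.toNat) q)) :
    Subsingleton (Piece ((singleFunctor _ 0).obj (TX X)) (D.KZ.X p) p m) := by
  have := subsingleton_piece_of_HH D m p hp hvan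
  exact (pieceEquiv ((singleFunctor _ 0).obj (TX X)) (KZXIso D p hp) p m).toEquiv.subsingleton

/-- **One surviving Hodge group**, compatibly with the actions of `k`. -/
theorem exists_HdR_equiv (m : ℤ) (n : ℕ) (hzero : ∀ p, n < p → IsZero (D.term p))
    (p₀ q₀ : ℕ) (hp₀ : p₀ ≤ n) (hpq : (p₀ : ℤ) + q₀ = m)
    (hvan : ∀ p q : ℕ, p ≤ n → p ≠ p₀ → (p : ℤ) + q = m →
      Subsingleton (Coh.HH X (D.term p) q))
    (hvan1 : ∀ p q : ℕ, p₀ < p → p ≤ n → (p : ℤ) + q = m + 1 →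
      Subsingleton (Coh.HH X (D.term p) q))
    (hvan2 : ∀ p q : ℕ, p < p₀ → (p : ℤ) + q = m - 1 →
      Subsingleton (Coh.HH X (D.term p) q)) :
    ∃ e : HdR c D h m ≃+ Coh.HH X (D.term p₀) q₀, ∀ (a : k) (x : HdR c D h m),
      e (a • x) = Sheaf.H.map (Coh.smulAb (D.term p₀) (c a)) q₀ (e x) := by
  obtain ⟨e₁⟩ := nonempty_linearEquiv_piece (R := k) (TX X) m (p₀ : ℤ) (n + 1) D.KZ 0 (scalar h)
    (fun i hi => isZero_KZ_of_neg D i hi)
    (isZero_KZ_of_gt D n hzero) (by omega) (by push_cast; omega)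
    (fun p hp1 hp2 hp3 => subsingleton_pieceKZ_of_HH D m p hp1 (fun q hq =>
      hvan p.toNat q (by push_cast at hp2; omega) (by omega) (by omega)))
    (fun p hp1 hp2 => subsingleton_pieceKZ_of_HH D (m + 1) p (by omega) (fun q hq =>
      hvan1 p.toNat q (by omega) (by push_cast at hp2; omega) (by omega)))
    (fun p hp1 hp2 => subsingleton_pieceKZ_of_HH D (m - 1) p hp1 (fun q hq =>
      hvan2 p.toNat q (by omega) (by omega)))
  have e₂ := pieceKZEquiv D h (p₀ : ℤ) (by omega) m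
  refine ⟨(e₁.trans e₂).toAddEquiv.trans ((pieceRToPiece _ _ _ (p₀ : ℤ) m).trans
    (pieceHHEquiv (D.term ((p₀ : ℕ) : ℤ).toNat) (p₀ : ℤ) m q₀ hpq)), fun a x => ?_⟩
  change pieceHHEquiv (D.term ((p₀ : ℕ) : ℤ).toNat) (p₀ : ℤ) m q₀ hpq
    (pieceRToPiece _ _ _ (p₀ : ℤ) m ((e₁.trans e₂) (a • x))) = _
  rw [map_smul]
  exact pieceHHEquiv_smul c (D.term ((p₀ : ℕ) : ℤ).toNat) (p₀ : ℤ) m q₀ hpq a _

end Groth.Agent.H2.DRL
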