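import Groth.Agent.Lib.Helper2.DRStupidF
import Groth.Agent.Lib.Helper2.BottM

/-!
# de Rham cohomology of projective space (helper2)
-/

universe u

set_option linter.style.haveILetI false
set_option linter.unusedSectionVars false

open CategoryTheory CategoryTheory.Limits Opposite AlgebraicGeometry TopologicalSpace

namespace Groth.Agent.H2.DRS

variable (A : Type u) [CommRing A] (n : ℕ) (hn : 1 ≤ n)
  [QuasiSeparated (CohB1.ProjSpace.toSpec n A)] (D : DeRhamSh.OmegaCx (CohB1.ProjSpace.toSpec n A))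
  [HasDerivedCategory.{u} (Sheaf (Opens.grothendieckTopology ↥(CohB1.ProjSpace n A)) AddCommGrpCat.{u})]

lemma isZero_term_proj (p : ℕ) (hp : n < p) : IsZero (D.term p) := by
  obtain ⟨e⟩ := Groth.Agent.H2.Bott.nonempty_iso_Z (n := n) (R := A) (D.term p) (D.isExtPow p)
  exact (Groth.Agent.H2.Bott.isZero_Z n A p (by omega)).of_iso e

include hn in
theorem subsingleton_HdR_proj (m : ℤ) (hm : ∀ i : ℕ, i ≤ n → m ≠ 2 * (i : ℤ)) :
    Subsingleton (DeRhamSh.HdR D m) := by
  refine subsingleton_HdR D m n (isZero_term_proj A n D) (fun p q hp hpq => ?_)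
  refine Groth.Agent.H2.Bott.subsingleton_HH_extPow (n := n) (R := A) (D.term p) (D.isExtPow p) hn q
    (Or.inl ?_)
  intro h
  subst h
  exact hm p hp (by omega)

include hn in
theorem nonempty_HdR_proj_equiv (i : ℕ) (hi : i ≤ n) :
    Nonempty (DeRhamSh.HdR D (2 * (i : ℤ)) ≃+ A) := by
  obtain ⟨e⟩ := nonempty_HdR_equiv D (2 * (i : ℤ)) n (isZero_term_proj A n D) i i hi (by ring)
    (fun p q hp hpi hpq => Groth.Agent.H2.Bott.subsingleton_HH_extPow (n := n) (R := A)
      (D.term p) (D.isExtPow p) hn q (Or.inl (by omega)))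
    (fun p q hp1 hp2 hpq => Groth.Agent.H2.Bott.subsingleton_HH_extPow (n := n) (R := A)
      (D.term p) (D.isExtPow p) hn q (Or.inl (by omega)))
    (fun p q hp1 hpq => Groth.Agent.H2.Bott.subsingleton_HH_extPow (n := n) (R := A)
      (D.term p) (D.isExtPow p) hn q (Or.inl (by omega)))
  obtain ⟨e'⟩ := Groth.Agent.H2.Bott.nonempty_HH_extPow_equiv (n := n) (R := A) (D.term i)
    (D.isExtPow i) hi
  exact ⟨e.trans e'.toAddEquiv⟩

end Groth.Agent.H2.DRS
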