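import Groth.Agent.Lib.Lead.QC.BasisFamPull
import Groth.Agent.Lib.Lead.QC.LocFree
import Groth.Prelude.Def_ExtPow2

/-!
# An exterior power of a finite locally free module is finite locally free (helper2)
-/

universe u

set_option linter.style.haveILetI false
set_option linter.unusedSectionVars false

open CategoryTheory CategoryTheory.Limits Opposite AlgebraicGeometry TopologicalSpace

namespace Groth.Agent.H2.DRS

open Groth.Agent.LD.QC

/-- the ordered wedges of a basis form a basis of the exterior power (bijective form). -/
lemma bijective_sum_wedge {R M : Type*} [CommRing R] [AddCommGroup M] [Module R M] {m : ℕ} (p : ℕ)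
    (v : Fin m → M) (h : Function.Bijective (fun a : Fin m → R => ∑ i, a i • v i)) :
    Function.Bijective (fun c : Set.powersetCard (Fin m) p → R =>
      ∑ s, c s • exteriorPower.ιMulti_family R p v s) := by
  classical
  have h' : Function.Bijective (Fintype.linearCombination R v) := by
    have : ⇑(Fintype.linearCombination R v) = fun a : Fin m → R => ∑ i, a i • v i := by
      funext a
      rw [Fintype.linearCombination_apply]
    rw [this]
    exact h
  let ψ₀ : (Fin m → R) ≃ₗ[R] M := LinearEquiv.ofBijective (Fintype.linearCombination R v) h'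
  let b : Module.Basis (Fin m) R M := Module.Basis.ofEquivFun ψ₀.symm
  have hb : ⇑b = v := by
    funext i
    rw [Module.Basis.coe_ofEquivFun]
    change ψ₀ (Pi.single i 1) = v i
    change Fintype.linearCombination R v (Pi.single i 1) = v i
    rw [Fintype.linearCombination_apply_single, one_smul]
  let B := b.exteriorPower p
  have : (fun c : Set.powersetCard (Fin m) p → R =>
      ∑ s, c s • exteriorPower.ιMulti_family R p v s) = fun c => B.equivFun.symm c := by
    funext c
    rw [Module.Basis.equivFun_symm_apply]
    refine Finset.sum_congr rfl (fun s _ => ?_)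
    rw [exteriorPower.basis_apply, hb]
  rw [this]
  exact B.equivFun.symm.bijective

variable {X : Scheme.{u}} (E L : X.Modules) (p : ℕ)
  (φ : ∀ U : X.affineOpens, Γ(L, U.1) ≃ₗ[Γ(X, U.1)] ↥(⋀[Γ(X, U.1)]^p Γ(E, U.1)))
  (hφ : ∀ (U V : X.affineOpens) (h : V.1 ≤ U.1) (e : Fin p → Γ(E, U.1)),
    L.presheaf.map (homOfLE h).op ((φ U).symm (exteriorPower.ιMulti _ p e)) =
      (φ V).symm (exteriorPower.ιMulti _ p (fun j => E.presheaf.map (homOfLE h).op (e j))))

/-- the wedges of a family of sections, as sections of the exterior power. -/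
noncomputable def wedgeFam {m : ℕ} (U : X.affineOpens) (e : Fin m → Γ(E, U.1))
    (s : Set.powersetCard (Fin m) p) : Γ(L, U.1) :=
  (φ U).symm (exteriorPower.ιMulti_family Γ(X, U.1) p e s)

include hφ in
lemma wedgeFam_res {m : ℕ} (U V : X.affineOpens) (h : V.1 ≤ U.1) (e : Fin m → Γ(E, U.1))
    (s : Set.powersetCard (Fin m) p) :
    L.presheaf.map (homOfLE h).op (wedgeFam E L p φ U e s) =
      wedgeFam E L p φ V (fun i => E.presheaf.map (homOfLE h).op (e i)) s := by
  unfold wedgeFam exteriorPower.ιMulti_family
  exact hφ U V h _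

lemma bijective_sum_wedgeFam {m : ℕ} (V : X.affineOpens) (v : Fin m → Γ(E, V.1))
    (h : Function.Bijective (fun a : Fin m → Γ(X, V.1) => ∑ i, a i • v i)) :
    Function.Bijective (fun c : Set.powersetCard (Fin m) p → Γ(X, V.1) =>
      ∑ s, c s • wedgeFam E L p φ V v s) := by
  have h1 := bijective_sum_wedge p v h
  have h2 : Function.Bijective (φ V).symm := (φ V).symm.bijective
  have h3 := h2.comp h1
  convert h3 using 1
  funext c
  rw [Function.comp_apply, map_sum]
  refine Finset.sum_congr rfl (fun s _ => ?_)
  rw [map_smul]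
  rfl

end Groth.Agent.H2.DRS
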