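import Groth.Agent.Lib.Helper2.DRSmoothA

/-!
# An exterior power of a finite locally free module is finite locally free, II (helper2)
-/

universe u

set_option linter.style.haveILetI false
set_option linter.unusedSectionVars false

open CategoryTheory CategoryTheory.Limits Opposite AlgebraicGeometry TopologicalSpace

namespace Groth.Agent.H2.DRS

open Groth.Agent.LD.QC

variable {X : Scheme.{u}} (E L : X.Modules) (p : ℕ)
  (φ : ∀ U : X.affineOpens, Γ(L, U.1) ≃ₗ[Γ(X, U.1)] ↥(⋀[Γ(X, U.1)]^p Γ(E, U.1)))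
  (hφ : ∀ (U V : X.affineOpens) (h : V.1 ≤ U.1) (e : Fin p → Γ(E, U.1)),
    L.presheaf.map (homOfLE h).op ((φ U).symm (exteriorPower.ιMulti _ p e)) =
      (φ V).symm (exteriorPower.ιMulti _ p (fun j => E.presheaf.map (homOfLE h).op (e j))))

include hφ in
/-- the wedges of a local basis of `E` form a local basis of the exterior power. -/
theorem isBasisFam_wedge {m : ℕ} (U : X.affineOpens) (e : Fin m → Γ(E, U.1))
    (he : IsBasisFam E U.1 e) {N : ℕ} (σ : Fin N ≃ Set.powersetCard (Fin m) p) :
    IsBasisFam L U.1 (fun i => wedgeFam E L p φ U e (σ i)) := by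
  apply isBasisFam_of_local
  intro x hx W hxW
  obtain ⟨V, hV, hxV, hVle⟩ := exists_isAffineOpen_mem_and_subset (x := x) (U := U.1 ⊓ W) ⟨hx, hxW⟩
  have hVU : V ≤ U.1 := fun y hy => (hVle hy).1
  have hVW : V ≤ W := fun y hy => (hVle hy).2
  refine ⟨V, hVU, hxV, hVW, ?_⟩
  have h1 := bijective_sum_wedgeFam E L p φ ⟨V, hV⟩
    (fun i => E.presheaf.map (homOfLE hVU).op (e i)) (he V hVU)
  have h2 : Function.Bijective (fun (a : Fin N → Γ(X, V)) (s : Set.powersetCard (Fin m) p) =>
      a (σ.symm s)) := by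
    constructor
    · intro a a' haa
      funext i
      have := congrFun haa (σ i)
      simpa using this
    · intro c
      exact ⟨fun i => c (σ i), by funext s; simp⟩
  have h3 := h1.comp h2
  convert h3 using 1
  funext a
  rw [Function.comp_apply]
  rw [← Equiv.sum_comp σ]
  refine Finset.sum_congr rfl (fun i _ => ?_)
  have h4 : (fun s => a (σ.symm s)) (σ i) = a i := by simp
  rw [h4]
  congr 1
  exact wedgeFam_res E L p φ hφ U ⟨V, hV⟩ hVU e (σ i)

end Groth.Agent.H2.DRS
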