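import Groth.Agent.Lib.Helper2.DRSmoothB
import Groth.Agent.H4.PSch4

/-!
# An exterior power of a finite locally free module is finite locally free, III (helper2)
-/

universe u

set_option linter.style.haveILetI false
set_option linter.unusedSectionVars false

open CategoryTheory CategoryTheory.Limits Opposite AlgebraicGeometry TopologicalSpace

namespace Groth.Agent.H2.DRS

open Groth.Agent.LD.QC

variable {X : Scheme.{u}}

/-- a local basis trivialises the module. -/
theorem nonempty_restrict_iso_freeMod_of_isBasisFam {L : X.Modules} {U : X.Opens} {N : ℕ}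
    {ℓ : Fin N → Γ(L, U)} (h : IsBasisFam L U ℓ) :
    Nonempty (L.restrict U.ι ≅ FlatMod.freeMod (U : Scheme.{u}) N) := by
  haveI : IsIso (homOfSecFam L U ℓ) := by
    rw [Scheme.Modules.Hom.isIso_iff_isIso_app]
    intro W
    rw [ConcreteCategory.isIso_iff_bijective]
    exact (bijective_app_homOfSecFam_iff L U ℓ W).mpr (h _ _)
  exact ⟨(asIso (homOfSecFam L U ℓ)).symm⟩

lemma isZero_freeMod_zero (Y : Scheme.{u}) : IsZero (FlatMod.freeMod Y 0) := by
  rw [IsZero.iff_id_eq_zero]
  apply Sigma.hom_ext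
  intro i
  exact Fin.elim0 i

lemma card_powersetCard_eq_zero (m p : ℕ) (h : m < p) :
    Fintype.card (Set.powersetCard (Fin m) p) = 0 := by
  rw [Fintype.card_eq_zero_iff]
  refine ⟨fun s => ?_⟩
  have h1 : s.1.card = p := s.2
  have h2 : s.1.card ≤ Fintype.card (Fin m) := Finset.card_le_univ _
  rw [Fintype.card_fin] at h2
  omega

variable (E L : X.Modules) (p : ℕ)

/-- **local freeness of an exterior power**: if `E` is free of rank `m` on `U ∋ x` then an exterior
power `L` of `E` is free on a smaller neighbourhood of `x`, of rank the number of `p`-subsets. -/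
theorem exists_restrict_iso_freeMod_extPow (hL : ExtPow.IsExtPow p E L) (x : X) (U : X.Opens)
    (m : ℕ) (hx : x ∈ U) (e : E.restrict U.ι ≅ FlatMod.freeMod (U : Scheme.{u}) m) :
    ∃ U' : X.Opens, x ∈ U' ∧ U' ≤ U ∧
      Nonempty (L.restrict U'.ι ≅
        FlatMod.freeMod (U' : Scheme.{u}) (Fintype.card (Set.powersetCard (Fin m) p))) := by
  obtain ⟨φ, hφ⟩ := hL
  let D : FreeData (E.restrict U.ι) m := (FreeData.free (U : Scheme.{u}) m).ofIso e.symm
  have hb := isBasisFam_of_freeData E U D
  obtain ⟨U', hU', hxU', hU'U⟩ := exists_isAffineOpen_mem_and_subset (x := x) (U := U) hx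
  have hb' := hb.mono (show U' ≤ U from hU'U)
  have hw := isBasisFam_wedge E L p φ hφ ⟨U', hU'⟩ _ hb'
    (Fintype.equivFin (Set.powersetCard (Fin m) p)).symm
  exact ⟨U', hxU', hU'U, nonempty_restrict_iso_freeMod_of_isBasisFam hw⟩

/-- an exterior power of a finite locally free module is finite locally free. -/
theorem isFinLocFree_of_isExtPow (hE : FlatMod.IsFinLocFree E) (hL : ExtPow.IsExtPow p E L) :
    FlatMod.IsFinLocFree L := by
  intro x
  obtain ⟨U, m, hx, ⟨e⟩⟩ := hE x
  obtain ⟨U', hxU', -, hiso⟩ := exists_restrict_iso_freeMod_extPow E L p hL x U m hx e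
  exact ⟨U', _, hxU', hiso⟩

/-- an exterior power of degree above the local ranks vanishes. -/
theorem isZero_of_isExtPow_of_rank_lt (hL : ExtPow.IsExtPow p E L)
    (h : ∀ x : X, ∃ (U : X.Opens) (m : ℕ), x ∈ U ∧ m < p ∧
      Nonempty (E.restrict U.ι ≅ FlatMod.freeMod (U : Scheme.{u}) m)) : IsZero L := by
  apply Groth.Agent.H4.PSch4.isZero_of_local
  intro x
  obtain ⟨U, m, hx, hmp, ⟨e⟩⟩ := h x
  obtain ⟨U', hxU', -, ⟨e'⟩⟩ := exists_restrict_iso_freeMod_extPow E L p hL x U m hx e
  refine ⟨U', U'.ι, inferInstance, ?_, ?_⟩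
  · rw [Scheme.Opens.range_ι]
    exact hxU'
  · rw [card_powersetCard_eq_zero m p hmp] at e'
    exact (isZero_freeMod_zero _).of_iso e'

end Groth.Agent.H2.DRS
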