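import Groth.Agent.Lib.Helper2.DRSmoothC
import Groth.Agent.Lib.Helper2.DRStupidF
import Groth.Agent.Lib.Helper3.OmSm3
import Groth.Agent.Lib.Helper3.OmU3
import Groth.Agent.Lib.Helper3.TopDim
import Groth.Agent.Lib.Helper1.DimFormula4

/-!
# The terms of the de Rham complex of a smooth scheme over a field (helper2)
-/

universe u

set_option linter.style.haveILetI false
set_option linter.unusedSectionVars false

open CategoryTheory CategoryTheory.Limits Opposite AlgebraicGeometry TopologicalSpace

namespace Groth.Agent.H2.DRS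

variable {k : Type u} [Field k] {X : Scheme.{u}} (f : X ⟶ Spec (CommRingCat.of k))
  [QuasiSeparated f] [Smooth f]

/-- the sheaf of differentials of a smooth scheme over a field is locally free of rank at most the
dimension. -/
lemma exists_free_rank_le (n : ℕ) (hn : topologicalKrullDim X ≤ n) (x : X) :
    ∃ (U : X.Opens) (m : ℕ), x ∈ U ∧ m ≤ n ∧
      Nonempty ((Omega.sheaf f).restrict U.ι ≅ FlatMod.freeMod (U : Scheme.{u}) m) := by
  obtain ⟨U, m, hxU, e, hm⟩ := Groth.Agent.H3.Om.exists_free_of_smooth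
    (Groth.Agent.H3.Om.isUniversal_dOmega f) x
  rw [Groth.Agent.H1.DimFormula.fibreDimAt_eq_localDim_of_field] at hm
  have h1 : FlatMor.localDim X x ≤ topologicalKrullDim X := Groth.Agent.H3.TopDim.localDim_le_dim x
  rw [hm] at h1
  have h2 : ((m : ℕ) : WithBot ℕ∞) ≤ ((n : ℕ) : WithBot ℕ∞) := h1.trans hn
  exact ⟨U, m, hxU, by exact_mod_cast h2, e⟩

lemma isFinLocFree_omega : FlatMod.IsFinLocFree (Omega.sheaf f) := by
  intro x
  obtain ⟨U, m, hxU, e, -⟩ := Groth.Agent.H3.Om.exists_free_of_smooth
    (Groth.Agent.H3.Om.isUniversal_dOmega f) x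
  exact ⟨U, m, hxU, e⟩

variable (D : DeRhamSh.OmegaCx f)

/-- the terms of the de Rham complex of a smooth morphism are finite locally free. -/
theorem isFinLocFree_term (p : ℕ) : FlatMod.IsFinLocFree (D.term p) :=
  isFinLocFree_of_isExtPow _ _ p (isFinLocFree_omega f) (D.isExtPow p)

/-- the terms of the de Rham complex of a smooth scheme over a field vanish above the dimension. -/
theorem isZero_term_of_dim_lt (n : ℕ) (hn : topologicalKrullDim X ≤ n) (p : ℕ) (hp : n < p) :
    IsZero (D.term p) := by
  apply isZero_of_isExtPow_of_rank_lt _ _ p (D.isExtPow p)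
  intro x
  obtain ⟨U, m, hxU, hm, e⟩ := exists_free_rank_le f n hn x
  exact ⟨U, m, hxU, by omega, e⟩

end Groth.Agent.H2.DRS
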