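import Groth.Agent.Lib.Helper2.DRSmoothD
import Groth.Agent.Lib.Lead.SC.Affine
import Groth.Agent.Lib.Helper5.GV.Main

/-!
# Vanishing of de Rham cohomology of smooth schemes over a field (helper2)
-/

universe u

set_option linter.style.haveILetI false
set_option linter.unusedSectionVars false

open CategoryTheory CategoryTheory.Limits Opposite AlgebraicGeometry TopologicalSpace

namespace Groth.Agent.H2.DRS

/-- Serre vanishing on an affine scheme. -/
theorem subsingleton_HH_of_isAffine {X : Scheme.{u}} [IsAffine X] (M : X.Modules)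
    [M.IsQuasicoherent] (q : ℕ) (hq : 0 < q) : Subsingleton (Coh.HH X M q) := by
  obtain ⟨q, rfl⟩ : ∃ q', q = q' + 1 := ⟨q - 1, by omega⟩
  have h := Groth.Agent.LD.SC.subsingleton_ext_of_isAffineOpen M q ⊤ (isAffineOpen_top X)
  exact (Groth.Agent.LD.SC.HEquiv (J := Opens.grothendieckTopology X)
    (T := (⊤ : X.Opens)) isTerminalTop (Coh.toAb M) (q + 1)).toEquiv.subsingleton

variable {k : Type u} [Field k] {X : Scheme.{u}} (f : X ⟶ Spec (CommRingCat.of k))
  [QuasiSeparated f] [Smooth f] (D : DeRhamSh.OmegaCx f)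
  [HasDerivedCategory.{u} (Sheaf (Opens.grothendieckTopology X) AddCommGrpCat.{u})]

/-- de Rham cohomology of a smooth scheme of dimension `≤ n` and cohomological dimension `< r`
vanishes in degrees `≥ n + r`. -/
theorem subsingleton_HdR_of_cohDim (n : ℕ) (hn : topologicalKrullDim X ≤ n) (r : ℕ)
    (hcd : ∀ (F : X.Modules), Coh.IsQCoh F → ∀ q : ℕ, r ≤ q → Subsingleton (Coh.HH X F q))
    (i : ℤ) (hi : (n : ℤ) + r ≤ i) : Subsingleton (DeRhamSh.HdR D i) := by
  refine subsingleton_HdR D i n (isZero_term_of_dim_lt f D n hn) (fun p q hp hpq => ?_)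
  exact hcd (D.term p) (Groth.Agent.LD.QC.qc_of_isFinLocFree _ (isFinLocFree_term f D p)) q
    (by omega)

/-- de Rham cohomology of a smooth affine scheme of dimension `≤ n` vanishes above `n`. -/
theorem subsingleton_HdR_of_isAffine [IsAffine X] (n : ℕ) (hn : topologicalKrullDim X ≤ n)
    (i : ℤ) (hi : (n : ℤ) < i) : Subsingleton (DeRhamSh.HdR D i) := by
  refine subsingleton_HdR_of_cohDim f D n hn 1 (fun F hF q hq => ?_) i (by omega)
  haveI : F.IsQuasicoherent := hF
  exact subsingleton_HH_of_isAffine F q (by omega)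

/-- de Rham cohomology of a smooth quasi-compact scheme of dimension `≤ n` vanishes above `2n`. -/
theorem subsingleton_HdR_of_two_mul_lt [QuasiCompact f] (n : ℕ) (hn : topologicalKrullDim X ≤ n)
    (q : ℤ) (hq : 2 * (n : ℤ) < q) : Subsingleton (DeRhamSh.HdR D q) := by
  haveI : IsLocallyNoetherian X := LocallyOfFiniteType.isLocallyNoetherian f
  haveI : CompactSpace X := QuasiCompact.compactSpace_of_compactSpace f
  refine subsingleton_HdR D q n (isZero_term_of_dim_lt f D n hn) (fun p q' hp hpq => ?_)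
  exact Groth.Agent.H5.GV.subsingleton_HH_of_isCoh n hn (D.term p)
    (Groth.Agent.H4.PSch4.isCoh_of_isFinLocFree _ (isFinLocFree_term f D p)) q' (by omega)

end Groth.Agent.H2.DRS
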