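import Mathlib

/-!
# Removing the bottom term of a bounded below cochain complex (helper2)

For a cochain complex `L` with `L.X (a - 1) = 0` we build the degreewise split short exact sequence
`0 → σ_{>a} L → L → L^a[-a] → 0` (the first term being defined as a kernel).
-/

universe w v u

open CategoryTheory CategoryTheory.Limits

namespace Groth.Agent.H2.DRS

variable {C : Type u} [Category.{v} C] [Abelian C]

/-- the projection of a complex vanishing in degree `a - 1` onto its term of degree `a`. -/
noncomputable def toSingle (L : CochainComplex C ℤ) (a : ℤ) (h : IsZero (L.X (a - 1))) :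
    L ⟶ (HomologicalComplex.single C (ComplexShape.up ℤ) a).obj (L.X a) :=
  HomologicalComplex.mkHomToSingle (𝟙 _) (by
    intro i hi
    have hi' : i = a - 1 := by
      simp only [ComplexShape.up_Rel] at hi
      omega
    subst hi'
    exact h.eq_of_src _ _)

lemma isIso_toSingle_f (L : CochainComplex C ℤ) (a : ℤ) (h : IsZero (L.X (a - 1))) :
    IsIso ((toSingle L a h).f a) := by
  rw [toSingle, HomologicalComplex.mkHomToSingle_f]
  infer_instance

instance epi_toSingle (L : CochainComplex C ℤ) (a : ℤ) (h : IsZero (L.X (a - 1))) :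
    Epi (toSingle L a h) := by
  apply HomologicalComplex.epi_of_epi_f
  intro i
  by_cases hi : i = a
  · subst hi
    have := isIso_toSingle_f L i h
    infer_instance
  · exact ((HomologicalComplex.isZero_single_obj_X (ComplexShape.up ℤ) a (L.X a) i hi)).epi _

/-- the short complex `0 → ker → L → L^a[-a] → 0`. -/
noncomputable def sc (L : CochainComplex C ℤ) (a : ℤ) (h : IsZero (L.X (a - 1))) :
    ShortComplex (CochainComplex C ℤ) :=
  ShortComplex.mk (kernel.ι (toSingle L a h)) (toSingle L a h) (kernel.condition _)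

lemma sc_shortExact (L : CochainComplex C ℤ) (a : ℤ) (h : IsZero (L.X (a - 1))) :
    (sc L a h).ShortExact where
  exact := ShortComplex.exact_of_f_is_kernel _ (kernelIsKernel _)
  mono_f := by dsimp [sc]; infer_instance
  epi_g := by dsimp [sc]; infer_instance

/-- the upper part of the complex -/
noncomputable abbrev upper (L : CochainComplex C ℤ) (a : ℤ) (h : IsZero (L.X (a - 1))) :
    CochainComplex C ℤ := (sc L a h).X₁

lemma sc_eval_shortExact (L : CochainComplex C ℤ) (a : ℤ) (h : IsZero (L.X (a - 1))) (i : ℤ) :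
    ((sc L a h).map (HomologicalComplex.eval C (ComplexShape.up ℤ) i)).ShortExact :=
  (sc_shortExact L a h).map_of_exact _

lemma isZero_upper_X_self (L : CochainComplex C ℤ) (a : ℤ) (h : IsZero (L.X (a - 1))) :
    IsZero ((upper L a h).X a) := by
  have hS := sc_eval_shortExact L a h a
  have : IsIso ((sc L a h).map (HomologicalComplex.eval C (ComplexShape.up ℤ) a)).g :=
    isIso_toSingle_f L a h
  exact hS.isIso_g_iff.1 this

lemma isIso_upper_ι_f (L : CochainComplex C ℤ) (a : ℤ) (h : IsZero (L.X (a - 1))) (i : ℤ)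
    (hi : i ≠ a) : IsIso ((sc L a h).f.f i) := by
  have hS := sc_eval_shortExact L a h i
  exact hS.isIso_f_iff.2 (HomologicalComplex.isZero_single_obj_X (ComplexShape.up ℤ) a (L.X a) i hi)

/-- `(σ_{>a} L)^i ≅ L^i` for `i ≠ a`. -/
noncomputable def upperXIso (L : CochainComplex C ℤ) (a : ℤ) (h : IsZero (L.X (a - 1))) (i : ℤ)
    (hi : i ≠ a) : (upper L a h).X i ≅ L.X i :=
  @asIso _ _ _ _ ((sc L a h).f.f i) (isIso_upper_ι_f L a h i hi)

lemma isZero_upper_X (L : CochainComplex C ℤ) (a : ℤ) (h : IsZero (L.X (a - 1))) (i : ℤ)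
    (hi : IsZero (L.X i)) : IsZero ((upper L a h).X i) := by
  by_cases hia : i = a
  · subst hia
    exact isZero_upper_X_self L i h
  · exact hi.of_iso (upperXIso L a h i hia)

lemma isZero_of_forall_isZero_X (L : CochainComplex C ℤ) (h : ∀ i, IsZero (L.X i)) : IsZero L := by
  rw [IsZero.iff_id_eq_zero]
  ext i
  exact (h i).eq_of_src _ _

end Groth.Agent.H2.DRS
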