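import Mathlib

/-!
# Long exact sequence of `Hom(Z, -⟦m⟧)` for a distinguished triangle: three consequences (helper2)
-/

universe w v u

set_option linter.style.haveILetI false
set_option linter.unusedSectionVars false

open CategoryTheory CategoryTheory.Limits CategoryTheory.Pretriangulated Opposite

namespace Groth.Agent.H2.DRS

variable {D : Type u} [Category.{v} D] [Preadditive D] [HasZeroObject D] [HasShift D ℤ]
  [∀ n : ℤ, (shiftFunctor D n).Additive] [Pretriangulated D]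

/-- post-composition with `f⟦m⟧'` as an additive map. -/
noncomputable def postShift (Z : D) {X Y : D} (f : X ⟶ Y) (m : ℤ) :
    (Z ⟶ X⟦m⟧) →+ (Z ⟶ Y⟦m⟧) where
  toFun x := x ≫ f⟦m⟧'
  map_zero' := by simp
  map_add' x y := by simp

lemma postShift_apply (Z : D) {X Y : D} (f : X ⟶ Y) (m : ℤ) (x : Z ⟶ X⟦m⟧) :
    postShift Z f m x = x ≫ f⟦m⟧' := rfl

section

variable (T : Triangle D) (hT : T ∈ distTriang D) (Z : D)

include hT

lemma exists_of_comp_mor₂_eq_zero (m : ℤ) (x : Z ⟶ T.obj₂⟦m⟧) (hx : x ≫ T.mor₂⟦m⟧' = 0) :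
    ∃ y : Z ⟶ T.obj₁⟦m⟧, y ≫ T.mor₁⟦m⟧' = x := by
  letI := Functor.ShiftSequence.tautological (preadditiveCoyoneda.obj (op Z)) ℤ
  have h := (preadditiveCoyoneda.obj (op Z)).homologySequence_exact₂ T hT m
  rw [ShortComplex.ab_exact_iff] at h
  obtain ⟨y, hy⟩ := h x hx
  exact ⟨y, hy⟩

lemma exists_of_comp_mor₁_eq_zero (m' m : ℤ) (hm : m' + 1 = m) (x : Z ⟶ T.obj₁⟦m⟧)
    (hx : x ≫ T.mor₁⟦m⟧' = 0) (h₃ : Subsingleton (Z ⟶ T.obj₃⟦m'⟧)) : x = 0 := by
  letI := Functor.ShiftSequence.tautological (preadditiveCoyoneda.obj (op Z)) ℤ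
  have h := (preadditiveCoyoneda.obj (op Z)).homologySequence_exact₁ T hT m' m hm
  rw [ShortComplex.ab_exact_iff] at h
  obtain ⟨y, hy⟩ := h x hx
  have hy0 : y = 0 := Subsingleton.elim (α := Z ⟶ T.obj₃⟦m'⟧) _ _
  rw [← hy, hy0, map_zero]
  rfl

lemma exists_of_subsingleton_obj₁ (m m' : ℤ) (hm : m + 1 = m') (z : Z ⟶ T.obj₃⟦m⟧)
    (h₁ : Subsingleton (Z ⟶ T.obj₁⟦m'⟧)) : ∃ x : Z ⟶ T.obj₂⟦m⟧, x ≫ T.mor₂⟦m⟧' = z := by
  letI := Functor.ShiftSequence.tautological (preadditiveCoyoneda.obj (op Z)) ℤ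
  have h := (preadditiveCoyoneda.obj (op Z)).homologySequence_exact₃ T hT m m' hm
  rw [ShortComplex.ab_exact_iff] at h
  obtain ⟨x, hx⟩ := h z (Subsingleton.elim (α := Z ⟶ T.obj₁⟦m'⟧) _ _)
  exact ⟨x, hx⟩

/-- the middle term vanishes if the outer ones do. -/
lemma subsingleton_obj₂ (m : ℤ) (h₁ : Subsingleton (Z ⟶ T.obj₁⟦m⟧))
    (h₃ : Subsingleton (Z ⟶ T.obj₃⟦m⟧)) : Subsingleton (Z ⟶ T.obj₂⟦m⟧) := by
  refine subsingleton_of_forall_eq 0 (fun x => ?_)
  obtain ⟨y, hy⟩ := exists_of_comp_mor₂_eq_zero T hT Z m x (Subsingleton.elim _ _)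
  rw [← hy, Subsingleton.elim y 0, zero_comp]

/-- `mor₁` induces a bijection when the third vertex has no cohomology in degrees `m - 1`, `m`. -/
lemma bijective_postShift_mor₁ (m' m : ℤ) (hm : m' + 1 = m)
    (h₃' : Subsingleton (Z ⟶ T.obj₃⟦m'⟧)) (h₃ : Subsingleton (Z ⟶ T.obj₃⟦m⟧)) :
    Function.Bijective (postShift Z T.mor₁ m) := by
  constructor
  · rw [injective_iff_map_eq_zero]
    intro x hx
    exact exists_of_comp_mor₁_eq_zero T hT Z m' m hm x hx h₃'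
  · intro x
    exact exists_of_comp_mor₂_eq_zero T hT Z m x (Subsingleton.elim _ _)

/-- `mor₂` induces a bijection when the first vertex has no cohomology in degrees `m`, `m + 1`. -/
lemma bijective_postShift_mor₂ (m m' : ℤ) (hm : m + 1 = m')
    (h₁ : Subsingleton (Z ⟶ T.obj₁⟦m⟧)) (h₁' : Subsingleton (Z ⟶ T.obj₁⟦m'⟧)) :
    Function.Bijective (postShift Z T.mor₂ m) := by
  constructor
  · rw [injective_iff_map_eq_zero]
    intro x hx
    obtain ⟨y, hy⟩ := exists_of_comp_mor₂_eq_zero T hT Z m x hx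
    rw [← hy, Subsingleton.elim y 0, zero_comp]
  · intro z
    exact exists_of_subsingleton_obj₁ T hT Z m m' hm z h₁'

end

end Groth.Agent.H2.DRS
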