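import Groth.Agent.Lib.Helper2.DRStupidA
import Groth.Agent.Lib.Helper2.DRStupidB

/-!
# Dévissage of `Hom(Z, Q(L)⟦m⟧)` along the stupid filtration of a bounded complex (helper2)
-/

universe w v u

set_option linter.style.haveILetI false
set_option linter.unusedSectionVars false

open CategoryTheory CategoryTheory.Limits CategoryTheory.Pretriangulated Opposite

namespace Groth.Agent.H2.DRS

open DerivedCategory

variable {C : Type u} [Category.{v} C] [Abelian C] [HasDerivedCategory.{w} C]

/-- transport of `Hom(Z, -)` along an isomorphism, additively. -/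
noncomputable def homAddEquivOfIso {D : Type*} [Category D] [Preadditive D] (Z : D) {X Y : D}
    (e : X ≅ Y) : (Z ⟶ X) ≃+ (Z ⟶ Y) where
  toFun x := x ≫ e.hom
  invFun y := y ≫ e.inv
  left_inv x := by simp
  right_inv y := by simp
  map_add' x y := by simp

/-- the graded piece `Hom(Z, M[-p]⟦m⟧)`. -/
abbrev Piece (Z : DerivedCategory C) (M : C) (p m : ℤ) : Type w :=
  Z ⟶ ((singleFunctor C p).obj M)⟦m⟧

/-- the graded pieces of isomorphic objects. -/
noncomputable def pieceEquiv (Z : DerivedCategory C) {M M' : C} (e : M ≅ M') (p m : ℤ) :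
    Piece Z M p m ≃+ Piece Z M' p m :=
  homAddEquivOfIso Z ((shiftFunctor (DerivedCategory C) m).mapIso ((singleFunctor C p).mapIso e))

lemma subsingleton_of_isZero_complex (Z : DerivedCategory C) (m : ℤ) (L : CochainComplex C ℤ)
    (h : ∀ i, IsZero (L.X i)) : Subsingleton (Z ⟶ (Q.obj L)⟦m⟧) := by
  have h1 : IsZero L := isZero_of_forall_isZero_X L h
  have h2 : IsZero (Q.obj L) := Functor.map_isZero Q h1
  have h3 : IsZero ((Q.obj L)⟦m⟧) := Functor.map_isZero (shiftFunctor (DerivedCategory C) m) h2
  exact ⟨fun x y => h3.eq_of_tgt x y⟩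

/-- the distinguished triangle `σ_{>a} L → L → L^a[-a] →`. -/
noncomputable def tri (L : CochainComplex C ℤ) (a : ℤ) (h : IsZero (L.X (a - 1))) :
    Triangle (DerivedCategory C) :=
  triangleOfSES (sc_shortExact L a h)

lemma tri_distinguished (L : CochainComplex C ℤ) (a : ℤ) (h : IsZero (L.X (a - 1))) :
    tri L a h ∈ distTriang (DerivedCategory C) :=
  triangleOfSES_distinguished _

/-- **Vanishing**: if all graded pieces vanish then so does the hypercohomology. -/
theorem subsingleton_of_pieces (Z : DerivedCategory C) (m : ℤ) (M : ℤ → C) :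
    ∀ (N : ℕ) (L : CochainComplex C ℤ) (a : ℤ),
      (∀ i, i < a → IsZero (L.X i)) → (∀ i, a + N ≤ i → IsZero (L.X i)) →
      (∀ p, a ≤ p → p < a + N → Nonempty (L.X p ≅ M p)) →
      (∀ p, a ≤ p → p < a + N → Subsingleton (Piece Z (M p) p m)) →
      Subsingleton (Z ⟶ (Q.obj L)⟦m⟧) := by
  intro N
  induction N with
  | zero =>
    intro L a hlo hhi _ _
    refine subsingleton_of_isZero_complex Z m L (fun i => ?_)
    by_cases hi : i < a
    · exact hlo i hi
    · exact hhi i (by push_cast; omega)
  | succ N ih =>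
    intro L a hlo hhi hiso hpc
    have h := hlo (a - 1) (by omega)
    have h₁ : Subsingleton (Z ⟶ (tri L a h).obj₁⟦m⟧) := by
      refine ih (upper L a h) (a + 1) (fun i hi => ?_) (fun i hi => ?_) (fun p hp1 hp2 => ?_)
        (fun p hp1 hp2 => ?_)
      · by_cases hia : i = a
        · subst hia
          exact isZero_upper_X_self L i h
        · exact isZero_upper_X L a h i (hlo i (by omega))
      · exact isZero_upper_X L a h i (hhi i (by push_cast; omega))
      · obtain ⟨e⟩ := hiso p (by omega) (by push_cast; omega)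
        exact ⟨upperXIso L a h p (by omega) ≪≫ e⟩
      · exact hpc p (by omega) (by push_cast; omega)
    have h₃ : Subsingleton (Z ⟶ (tri L a h).obj₃⟦m⟧) := by
      obtain ⟨e⟩ := hiso a le_rfl (by push_cast; omega)
      have := hpc a le_rfl (by push_cast; omega)
      exact (pieceEquiv Z e a m).toEquiv.subsingleton
    exact subsingleton_obj₂ (tri L a h) (tri_distinguished L a h) Z m h₁ h₃

/-- **One surviving piece**: if only the piece in degree `p₀` can contribute to degree `m`, and the
neighbouring pieces cannot interfere, the hypercohomology is that piece. -/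
theorem nonempty_equiv_piece (Z : DerivedCategory C) (m p₀ : ℤ) (M : ℤ → C) :
    ∀ (N : ℕ) (L : CochainComplex C ℤ) (a : ℤ),
      (∀ i, i < a → IsZero (L.X i)) → (∀ i, a + N ≤ i → IsZero (L.X i)) →
      (∀ p, a ≤ p → p < a + N → Nonempty (L.X p ≅ M p)) →
      a ≤ p₀ → p₀ < a + N →
      (∀ p, a ≤ p → p < a + N → p ≠ p₀ → Subsingleton (Piece Z (M p) p m)) →
      (∀ p, p₀ < p → p < a + N → Subsingleton (Piece Z (M p) p (m + 1))) →
      (∀ p, a ≤ p → p < p₀ → Subsingleton (Piece Z (M p) p (m - 1))) →
      Nonempty ((Z ⟶ (Q.obj L)⟦m⟧) ≃+ Piece Z (M p₀) p₀ m) := by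
  intro N
  induction N with
  | zero =>
    intro L a _ _ _ h1 h2 _ _ _
    exfalso
    push_cast at h2
    omega
  | succ N ih =>
    intro L a hlo hhi hiso hap hpN hpc hpc1 hpc2
    have h := hlo (a - 1) (by omega)
    have hupper_lo : ∀ i, i < a + 1 → IsZero ((upper L a h).X i) := by
      intro i hi
      by_cases hia : i = a
      · subst hia
        exact isZero_upper_X_self L i h
      · exact isZero_upper_X L a h i (hlo i (by omega))
    have hupper_hi : ∀ i, a + 1 + N ≤ i → IsZero ((upper L a h).X i) := fun i hi =>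
      isZero_upper_X L a h i (hhi i (by push_cast; omega))
    have hupper_iso : ∀ p, a + 1 ≤ p → p < a + 1 + N → Nonempty ((upper L a h).X p ≅ M p) := by
      intro p hp1 hp2
      obtain ⟨e⟩ := hiso p (by omega) (by push_cast; omega)
      exact ⟨upperXIso L a h p (by omega) ≪≫ e⟩
    by_cases hap' : a = p₀
    · subst hap'
      have h₁ : Subsingleton (Z ⟶ (tri L a h).obj₁⟦m⟧) :=
        subsingleton_of_pieces Z m M N (upper L a h) (a + 1) hupper_lo hupper_hi hupper_iso
          (fun p hp1 hp2 => hpc p (by omega) (by push_cast; omega) (by omega))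
      have h₁' : Subsingleton (Z ⟶ (tri L a h).obj₁⟦m + 1⟧) :=
        subsingleton_of_pieces Z (m + 1) M N (upper L a h) (a + 1) hupper_lo hupper_hi hupper_iso
          (fun p hp1 hp2 => hpc1 p (by omega) (by push_cast; omega))
      have hb := bijective_postShift_mor₂ (tri L a h) (tri_distinguished L a h) Z m (m + 1) rfl
        h₁ h₁'
      obtain ⟨e⟩ := hiso a le_rfl (by push_cast; omega)
      exact ⟨(AddEquiv.ofBijective _ hb).trans (pieceEquiv Z e a m)⟩
    · have hap'' : a < p₀ := lt_of_le_of_ne hap hap'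
      obtain ⟨e⟩ := hiso a le_rfl (by push_cast; omega)
      have h₃' : Subsingleton (Z ⟶ (tri L a h).obj₃⟦m - 1⟧) := by
        have := hpc2 a le_rfl hap''
        exact (pieceEquiv Z e a (m - 1)).toEquiv.subsingleton
      have h₃ : Subsingleton (Z ⟶ (tri L a h).obj₃⟦m⟧) := by
        have := hpc a le_rfl (by push_cast; omega) hap'
        exact (pieceEquiv Z e a m).toEquiv.subsingleton
      have hb := bijective_postShift_mor₁ (tri L a h) (tri_distinguished L a h) Z (m - 1) m
        (by omega) h₃' h₃
      obtain ⟨e'⟩ := ih (upper L a h) (a + 1) hupper_lo hupper_hi hupper_iso (by omega)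
        (by push_cast at hpN ⊢; omega)
        (fun p hp1 hp2 hp3 => hpc p (by omega) (by push_cast; omega) hp3)
        (fun p hp1 hp2 => hpc1 p hp1 (by push_cast; omega))
        (fun p hp1 hp2 => hpc2 p (by omega) hp2)
      exact ⟨(AddEquiv.ofBijective _ hb).symm.trans e'⟩

end Groth.Agent.H2.DRS
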