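import Groth.Agent.Lib.Helper2.DTrunc4

/-!
# Splitting of objects of the derived category: vanishing dévissage
-/

universe w v u

open CategoryTheory CategoryTheory.Limits Opposite Pretriangulated Triangulated

namespace Groth.Agent.H2.DSplit

variable {A : Type u} [Category.{v} A] [Abelian A] [HasDerivedCategory.{w} A]

open DerivedCategory DTrunc

/-- In a distinguished triangle `X ⟶ Y ⟶ Z ⟶ X⟦1⟧`, a map to `Y⟦1⟧` killed by `Y⟦1⟧ ⟶ Z⟦1⟧`
lifts to `X⟦1⟧`. -/
lemma exists_lift_shift {T : Triangle (DerivedCategory A)} (hT : T ∈ distTriang _)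
    {M : DerivedCategory A} (f : M ⟶ T.obj₂⟦(1 : ℤ)⟧) (hf : f ≫ T.mor₂⟦(1 : ℤ)⟧' = 0) :
    ∃ g : M ⟶ T.obj₁⟦(1 : ℤ)⟧, f = g ≫ T.mor₁⟦(1 : ℤ)⟧' := by
  have h2 := rot_of_distTriang _ (rot_of_distTriang _ hT)
  obtain ⟨g, hg'⟩ : ∃ g : M ⟶ T.obj₁⟦(1 : ℤ)⟧, f = g ≫ (-(T.mor₁⟦(1 : ℤ)⟧')) :=
    Triangle.coyoneda_exact₃ _ h2 f (by
      change f ≫ (-(T.mor₂⟦(1 : ℤ)⟧')) = 0
      rw [Preadditive.comp_neg, hf, neg_zero])
  refine ⟨-g, ?_⟩
  rw [hg', Preadditive.comp_neg, Preadditive.neg_comp]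

theorem hom_shift_eq_zero_aux (M : DerivedCategory A) (k : ℕ) :
    ∀ (a c : ℤ) (_ : c < a + k) (L : DerivedCategory A), tt.IsGE L a → tt.IsLE L c →
    (∀ j : ℤ, a ≤ j → j ≤ c → ∀ (N : A) (_ : N ≅ (homologyFunctor A j).obj L)
      (f : M ⟶ ((singleFunctor A j).obj N)⟦(1 : ℤ)⟧), f = 0) →
    ∀ f : M ⟶ L⟦(1 : ℤ)⟧, f = 0 := by
  induction k with
  | zero =>
    intro a c hk L hGE hLE _ f
    have hz : IsZero L := tt.isZero L c a (by simpa using hk)
    exact ((shiftFunctor (DerivedCategory A) (1 : ℤ)).map_isZero hz).eq_of_tgt _ _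
  | succ k ih =>
    intro a c hk L hGE hLE hyp f
    by_cases hac : a ≤ c
    · -- the top piece
      haveI : tt.IsLE ((tt.truncGE c).obj L) c := inferInstance
      obtain ⟨N, ⟨e⟩⟩ := exists_iso_singleFunctor_obj_of_isGE_of_isLE ((tt.truncGE c).obj L) c
      haveI := isIso_homology_truncGEπ L c c le_rfl
      let eN : N ≅ (homologyFunctor A c).obj L :=
        ((singleFunctorCompHomologyFunctorIso A c).app N).symm ≪≫
          ((homologyFunctor A c).mapIso e).symm ≪≫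
          (asIso ((homologyFunctor A c).map ((tt.truncGEπ c).app L))).symm
      have h1 : f ≫ (πGE c L)⟦(1 : ℤ)⟧' = 0 := by
        have := hyp c hac le_rfl N eN (f ≫ (πGE c L)⟦(1 : ℤ)⟧' ≫ e.hom⟦(1 : ℤ)⟧')
        rw [← Category.assoc] at this
        rw [← cancel_mono (e.hom⟦(1 : ℤ)⟧'), this, zero_comp]
      obtain ⟨g, hg⟩ := exists_lift_shift (tt.triangleLTGE_distinguished c L) f h1
      have hg' : f = g ≫ (ιLT c L)⟦(1 : ℤ)⟧' := hg
      have hg0 : g = 0 := by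
        haveI : tt.IsLE ((tt.truncLT c).obj L) (c - 1) := inferInstance
        refine ih a (c - 1) (by push_cast at hk; omega) ((tt.truncLT c).obj L) inferInstance
          inferInstance ?_ g
        intro j hj1 hj2 N' eN' f'
        haveI := isIso_homology_truncLTι L c j (by omega)
        exact hyp j hj1 (by omega) N'
          (eN' ≪≫ asIso ((homologyFunctor A j).map ((tt.truncLTι c).app L))) f'
      rw [hg', hg0, zero_comp]
    · have hz : IsZero L := tt.isZero L c a (by omega)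
      exact ((shiftFunctor (DerivedCategory A) (1 : ℤ)).map_isZero hz).eq_of_tgt _ _

theorem hom_shift_eq_zero (M L : DerivedCategory A) (a c : ℤ) [tt.IsGE L a] [tt.IsLE L c]
    (hyp : ∀ j : ℤ, a ≤ j → j ≤ c → ∀ (N : A) (_ : N ≅ (homologyFunctor A j).obj L)
      (f : M ⟶ ((singleFunctor A j).obj N)⟦(1 : ℤ)⟧), f = 0)
    (f : M ⟶ L⟦(1 : ℤ)⟧) : f = 0 := by
  refine hom_shift_eq_zero_aux M (c - a + 1).toNat a c ?_ L inferInstance inferInstance hyp f
  have : ((c - a + 1).toNat : ℤ) = max (c - a + 1) 0 := Int.toNat_eq_max _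
  omega

end Groth.Agent.H2.DSplit
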