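import Groth.Agent.Lib.Helper2.DSplit1

/-!
# Splitting of objects of the derived category
-/

universe w v u

open CategoryTheory CategoryTheory.Limits Opposite Pretriangulated Triangulated

namespace Groth.Agent.H2.DSplit

section general

variable {C : Type*} [Category C] [Preadditive C] [HasShift C ℤ]
  [∀ n : ℤ, (shiftFunctor C n).Additive]

lemma shift_hom_eq_zero {X Y : C} (a b c : ℤ) (h : c + a = b)
    (hyp : ∀ g : X ⟶ Y⟦c⟧, g = 0) (f : X⟦a⟧ ⟶ Y⟦b⟧) : f = 0 := by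
  let e : Y⟦c⟧⟦a⟧ ≅ Y⟦b⟧ := (shiftFunctorAdd' C c a b h).symm.app Y
  obtain ⟨g, hg⟩ := (shiftFunctor C a).map_surjective (f ≫ e.inv)
  have hg0 : g = 0 := hyp g
  rw [hg0, Functor.map_zero] at hg
  rw [← cancel_mono e.inv, ← hg, zero_comp]

end general

variable {A : Type u} [Category.{v} A] [Abelian A] [HasDerivedCategory.{w} A]

open DerivedCategory DTrunc

lemma single_hom_eq_zero (M N : A) (i j : ℤ) (p : ℕ) (hp : (p : ℤ) = i - j + 1)
    (hyp : ∀ g : (singleFunctor A 0).obj M ⟶ ((singleFunctor A 0).obj N)⟦(p : ℤ)⟧, g = 0)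
    (f : (singleFunctor A i).obj M ⟶ ((singleFunctor A j).obj N)⟦(1 : ℤ)⟧) : f = 0 := by
  let eM : ((singleFunctor A 0).obj M)⟦-i⟧ ≅ (singleFunctor A i).obj M :=
    ((singleFunctors A).shiftIso (-i) i 0 (by omega)).app M
  let eN : ((singleFunctor A 0).obj N)⟦-j⟧ ≅ (singleFunctor A j).obj N :=
    ((singleFunctors A).shiftIso (-j) j 0 (by omega)).app N
  let e1 : (((singleFunctor A 0).obj N)⟦-j⟧)⟦(1 : ℤ)⟧ ≅ ((singleFunctor A 0).obj N)⟦-j + 1⟧ :=
    (shiftFunctorAdd' (DerivedCategory A) (-j) 1 (-j + 1) rfl).symm.app _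
  have h0 : eM.hom ≫ f ≫ eN.inv⟦(1 : ℤ)⟧' ≫ e1.hom = 0 :=
    shift_hom_eq_zero (-i) (-j + 1) (p : ℤ) (by omega) hyp _
  have h1 : (eM.hom ≫ f) ≫ (eN.inv⟦(1 : ℤ)⟧' ≫ e1.hom) = 0 := by
    rw [Category.assoc]; exact h0
  haveI : IsIso (eN.inv⟦(1 : ℤ)⟧' ≫ e1.hom) := inferInstance
  rw [← cancel_mono (eN.inv⟦(1 : ℤ)⟧' ≫ e1.hom), zero_comp, ← cancel_epi eM.hom, comp_zero,
    ← Category.assoc]
  exact h1

end Groth.Agent.H2.DSplit

namespace Groth.Agent.H2.DSplit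

section biprod

variable {C : Type*} [Category C] [Preadditive C] {C' : Type*} [Category C'] [Preadditive C']
  (G : C ⥤ C') [G.Additive] {ι : Type} [Fintype ι] (X : ι → C) [HasBiproduct X]

lemma isIso_map_biproduct_ι (k₀ : ι) (hz : ∀ i : ι, i ≠ k₀ → IsZero (G.obj (X i))) :
    IsIso (G.map (biproduct.ι X k₀)) := by
  refine ⟨G.map (biproduct.π X k₀), ?_, ?_⟩
  · rw [← G.map_comp, biproduct.ι_π_self, G.map_id]
  · have h : G.map (∑ j : ι, biproduct.π X j ≫ biproduct.ι X j) = G.map (𝟙 (⨁ X)) := by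
      rw [biproduct.total]
    rw [G.map_sum, G.map_id] at h
    rw [← h, Finset.sum_eq_single k₀]
    · rw [G.map_comp]
    · intro i _ hi
      rw [G.map_comp, (hz i hi).eq_of_tgt (G.map (biproduct.π X i)) 0, zero_comp]
    · intro h'
      exact absurd (Finset.mem_univ k₀) h'

lemma isZero_map_biproduct (hz : ∀ i : ι, IsZero (G.obj (X i))) : IsZero (G.obj (⨁ X)) := by
  rw [IsZero.iff_id_eq_zero]
  have h : G.map (∑ j : ι, biproduct.π X j ≫ biproduct.ι X j) = G.map (𝟙 (⨁ X)) := by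
    rw [biproduct.total]
  rw [G.map_sum, G.map_id] at h
  rw [← h]
  apply Finset.sum_eq_zero
  intro i _
  rw [G.map_comp, (hz i).eq_of_tgt (G.map (biproduct.π X i)) 0, zero_comp]

end biprod

end Groth.Agent.H2.DSplit
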