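import Groth.Agent.Lib.Helper2.DSplit2
import Mathlib.Data.Int.Interval

/-!
# Splitting of objects of the derived category: the sections and the assembly
-/

universe w v u

open CategoryTheory CategoryTheory.Limits Opposite Pretriangulated Triangulated

namespace Groth.Agent.H2.DSplit

variable {A : Type u} [Category.{v} A] [Abelian A] [HasDerivedCategory.{w} A]

open DerivedCategory DTrunc

lemma exists_section (K : DerivedCategory A) (a : ℤ) [K.IsGE a]
    (hExt : ∀ (i j : ℤ) (p : ℕ), j < i → 2 ≤ p →
      ∀ f : (singleFunctor A 0).obj ((homologyFunctor A i).obj K) ⟶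
        ((singleFunctor A 0).obj ((homologyFunctor A j).obj K))⟦(p : ℤ)⟧, f = 0) (i : ℤ) :
    ∃ σ : (singleFunctor A i).obj ((homologyFunctor A i).obj K) ⟶ K,
      IsIso ((homologyFunctor A i).map σ) := by
  let L : DerivedCategory A := (tt.truncLT (i + 1)).obj K
  haveI : tt.IsLE L i := tt.isLE_truncLT_obj _ _ _ (by omega)
  haveI : tt.IsGE L a := inferInstance
  let Hi : DerivedCategory A := (tt.truncGE i).obj L
  haveI : tt.IsLE Hi i := inferInstance
  haveI : tt.IsGE Hi i := inferInstance
  obtain ⟨N, ⟨e⟩⟩ := exists_iso_singleFunctor_obj_of_isGE_of_isLE Hi i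
  haveI := isIso_homology_truncGEπ L i i le_rfl
  haveI := isIso_homology_truncLTι K (i + 1) i (by omega)
  let eN : N ≅ (homologyFunctor A i).obj K :=
    ((singleFunctorCompHomologyFunctorIso A i).app N).symm ≪≫
      ((homologyFunctor A i).mapIso e).symm ≪≫
      (asIso ((homologyFunctor A i).map ((tt.truncGEπ i).app L))).symm ≪≫
      asIso ((homologyFunctor A i).map ((tt.truncLTι (i + 1)).app K))
  -- the connecting map vanishes
  have hδ : (tt.truncGEδLT i).app L = 0 := by
    haveI : tt.IsLE ((tt.truncLT i).obj L) (i - 1) := inferInstance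
    haveI : tt.IsGE ((tt.truncLT i).obj L) a := inferInstance
    refine hom_shift_eq_zero Hi ((tt.truncLT i).obj L) a (i - 1) ?_ _
    intro j hj1 hj2 N' eN' f
    haveI := isIso_homology_truncLTι L i j (by omega)
    haveI := isIso_homology_truncLTι K (i + 1) j (by omega)
    let eN'K : N' ≅ (homologyFunctor A j).obj K :=
      eN' ≪≫ asIso ((homologyFunctor A j).map ((tt.truncLTι i).app L)) ≪≫
        asIso ((homologyFunctor A j).map ((tt.truncLTι (i + 1)).app K))
    have hp : (((i - j + 1).toNat : ℕ) : ℤ) = i - j + 1 := Int.toNat_of_nonneg (by omega)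
    have h0 := single_hom_eq_zero ((homologyFunctor A i).obj K) ((homologyFunctor A j).obj K)
      i j (i - j + 1).toNat hp (hExt i j _ (by omega) (by omega))
      ((singleFunctor A i).map eN.inv ≫ e.inv ≫ f ≫
        ((singleFunctor A j).map eN'K.hom)⟦(1 : ℤ)⟧')
    have h1 : ((singleFunctor A i).map eN.inv ≫ e.inv) ≫ f ≫
        ((singleFunctor A j).map eN'K.hom)⟦(1 : ℤ)⟧' = 0 := by
      rw [Category.assoc]; exact h0
    haveI : IsIso ((singleFunctor A i).map eN.inv ≫ e.inv) := inferInstance
    haveI : IsIso (((singleFunctor A j).map eN'K.hom)⟦(1 : ℤ)⟧') := inferInstance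
    rw [← cancel_epi ((singleFunctor A i).map eN.inv ≫ e.inv),
      ← cancel_mono (((singleFunctor A j).map eN'K.hom)⟦(1 : ℤ)⟧'), comp_zero, zero_comp,
      Category.assoc]
    exact h1
  -- the section
  obtain ⟨s, hs⟩ : ∃ s : Hi ⟶ L, 𝟙 Hi = s ≫ πGE i L :=
    Triangle.coyoneda_exact₃ _ (tt.triangleLTGE_distinguished i L) (𝟙 Hi) (by
      change 𝟙 Hi ≫ (tt.truncGEδLT i).app L = 0
      rw [hδ, comp_zero])
  refine ⟨(singleFunctor A i).map eN.inv ≫ e.inv ≫ s ≫ ιLT (i + 1) K, ?_⟩
  have hs' : IsIso ((homologyFunctor A i).map s) := by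
    have e1 : (homologyFunctor A i).map s ≫ (homologyFunctor A i).map ((tt.truncGEπ i).app L) =
        𝟙 _ := by
      rw [← Functor.map_comp]
      change (homologyFunctor A i).map (s ≫ πGE i L) = _
      rw [← hs, CategoryTheory.Functor.map_id]
    exact IsIso.of_isIso_fac_right e1
  rw [Functor.map_comp, Functor.map_comp, Functor.map_comp]
  change IsIso (_ ≫ _ ≫ _ ≫ (homologyFunctor A i).map ((tt.truncLTι (i + 1)).app K))
  infer_instance

theorem splits (K : DerivedCategory A) (a b : ℤ) [K.IsGE a] [K.IsLE b]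
    (hExt : ∀ (i j : ℤ) (p : ℕ), j < i → 2 ≤ p →
      ∀ f : (singleFunctor A 0).obj ((homologyFunctor A i).obj K) ⟶
        ((singleFunctor A 0).obj ((homologyFunctor A j).obj K))⟦(p : ℤ)⟧, f = 0)
    [HasBiproduct (fun i : Finset.Icc a b =>
      (singleFunctor A (i : ℤ)).obj ((homologyFunctor A (i : ℤ)).obj K))] :
    Nonempty (K ≅ ⨁ (fun i : Finset.Icc a b =>
      (singleFunctor A (i : ℤ)).obj ((homologyFunctor A (i : ℤ)).obj K))) := by
  have hσ := exists_section K a hExt
  choose σ hσ using hσ
  let X : Finset.Icc a b → DerivedCategory A := fun i =>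
    (singleFunctor A (i : ℤ)).obj ((homologyFunctor A (i : ℤ)).obj K)
  let Φ : (⨁ X) ⟶ K := biproduct.desc (fun i : Finset.Icc a b => σ (i : ℤ))
  have hX : ∀ (k : ℤ) (i : Finset.Icc a b), (i : ℤ) ≠ k →
      IsZero ((homologyFunctor A k).obj (X i)) := by
    intro k i hik
    rcases lt_or_gt_of_ne hik with h | h
    · exact isZero_of_isLE (X i) (i : ℤ) k h
    · exact isZero_of_isGE (X i) (i : ℤ) k h
  have hΦ : IsIso Φ := by
    rw [isIso_iff]
    intro k
    by_cases hk : k ∈ Finset.Icc a b
    · haveI : IsIso ((homologyFunctor A k).map (biproduct.ι X ⟨k, hk⟩)) :=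
        isIso_map_biproduct_ι (homologyFunctor A k) X ⟨k, hk⟩ (fun i hi => hX k i (by
          intro h
          exact hi (Subtype.ext h)))
      haveI : IsIso ((homologyFunctor A k).map (σ k)) := hσ k
      have e1 : (homologyFunctor A k).map (biproduct.ι X ⟨k, hk⟩) ≫ (homologyFunctor A k).map Φ =
          (homologyFunctor A k).map (σ k) := by
        rw [← Functor.map_comp, biproduct.ι_desc]
      exact IsIso.of_isIso_fac_left e1
    · have h1 : IsZero ((homologyFunctor A k).obj (⨁ X)) :=
        isZero_map_biproduct (homologyFunctor A k) X (fun i => hX k i (by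
          intro h
          exact hk (h ▸ i.2)))
      have h2 : IsZero ((homologyFunctor A k).obj K) := by
        rw [Finset.mem_Icc, not_and_or] at hk
        rcases hk with h | h
        · exact isZero_of_isGE K a k (by omega)
        · exact isZero_of_isLE K b k (by omega)
      exact ⟨0, h1.eq_of_src _ _, h2.eq_of_src _ _⟩
  exact ⟨(asIso Φ).symm⟩

end Groth.Agent.H2.DSplit
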