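import Groth.Agent.Lib.Helper2.DTrunc1

/-!
# Essentially constant systems in the derived category with bounded amplitude
-/

universe w v u

open CategoryTheory CategoryTheory.Limits Opposite Pretriangulated Triangulated

namespace Groth.Agent.H2.DTrunc

variable {A : Type u} [Category.{v} A] [Abelian A] [HasDerivedCategory.{w} A]

open DerivedCategory

/-- The homology functor in degree `b` is fully faithful on objects concentrated in degree `b`. -/
lemma bijective_homology_map (b : ℤ) (U V : DerivedCategory A)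
    (hU : tt.IsGE U b ∧ tt.IsLE U b) (hV : tt.IsGE V b ∧ tt.IsLE V b) :
    Function.Bijective (fun φ : U ⟶ V => (homologyFunctor A b).map φ) := by
  haveI := hU.1
  haveI := hU.2
  haveI := hV.1
  haveI := hV.2
  obtain ⟨N, ⟨eU⟩⟩ := exists_iso_singleFunctor_obj_of_isGE_of_isLE U b
  obtain ⟨N', ⟨eV⟩⟩ := exists_iso_singleFunctor_obj_of_isGE_of_isLE V b
  exact ProSys.bijective_map_of_section (singleFunctor A b) (homologyFunctor A b)
    (singleFunctorCompHomologyFunctorIso A b) eU eV

theorem essConstant_aux (k : ℕ) : ∀ (a b : ℤ) (_ : b < a + k)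
    (X : ARSys.PS (DerivedCategory A)),
    (∀ n : ℕ, tt.IsGE (X.obj (op n)) a) → (∀ n : ℕ, tt.IsLE (X.obj (op n)) b) →
    (∀ i : ℤ, ∃ (B : A) (c : (Functor.const ℕᵒᵖ).obj B ⟶ X ⋙ homologyFunctor A i),
      DerCA.IsEssConstant (X ⋙ homologyFunctor A i) B c) →
    ∃ (L : DerivedCategory A) (c : (Functor.const ℕᵒᵖ).obj L ⟶ X),
      DerCA.IsEssConstant X L c := by
  induction k with
  | zero =>
    intro a b hk X hGE hLE _
    have hz : ∀ n : ℕ, IsZero (X.obj (op n)) := fun n =>
      haveI := hGE n
      haveI := hLE n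
      tt.isZero (X.obj (op n)) b a (by simpa using hk)
    obtain ⟨Z, hZ⟩ : ∃ Z : DerivedCategory A, IsZero Z :=
      ⟨_, (HasZeroObject.zero (C := DerivedCategory A)).choose_spec⟩
    obtain ⟨c, hc⟩ := ProSys.isEssConstant_of_isZero hz hZ
    exact ⟨Z, c, hc⟩
  | succ k ih =>
    intro a b hk X hGE hLE hH
    have h' : ∃ (L : DerivedCategory A) (c : (Functor.const ℕᵒᵖ).obj L ⟶ sysLT X b),
        DerCA.IsEssConstant (sysLT X b) L c := by
      apply ih a (b - 1) (by push_cast at hk; omega) (sysLT X b)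
      · intro n
        haveI := hGE n
        exact sysLT_isGE X b a n
      · intro n
        infer_instance
      · intro i
        by_cases hi : i < b
        · obtain ⟨B, c, hc⟩ := hH i
          exact ⟨B, _, ProSys.isEssConstant_of_iso (homologyLTIso X b i hi).symm hc⟩
        · have hz : ∀ n : ℕ, IsZero ((sysLT X b ⋙ homologyFunctor A i).obj (op n)) :=
            fun n => isZero_of_isLE ((sysLT X b).obj (op n)) (b - 1) i (by omega)
          obtain ⟨Z, hZ⟩ : ∃ Z : A, IsZero Z := ⟨_, (HasZeroObject.zero (C := A)).choose_spec⟩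
          obtain ⟨c, hc⟩ := ProSys.isEssConstant_of_isZero hz hZ
          exact ⟨Z, c, hc⟩
    have h'' : ∃ (L : DerivedCategory A) (c : (Functor.const ℕᵒᵖ).obj L ⟶ sysGE X b),
        DerCA.IsEssConstant (sysGE X b) L c := by
      obtain ⟨B, c, hc⟩ := hH b
      have hc' := ProSys.isEssConstant_of_iso (homologyGEIso X b b le_rfl) hc
      refine ⟨(singleFunctor A b).obj B, ?_⟩
      refine ProSys.isEssConstant_lift (homologyFunctor A b)
        (fun U => tt.IsGE U b ∧ tt.IsLE U b) (bijective_homology_map b) (sysGE X b) ?_ _ ?_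
        ((singleFunctorCompHomologyFunctorIso A b).app B) hc'
      · intro n
        haveI := hLE n
        exact ⟨inferInstance, sysGE_isLE X b b n⟩
      · exact ⟨inferInstance, inferInstance⟩
    exact ProTri.main (sysι X b) (sysπ X b) (sysδ X b) (sys_dist X b) h' h''

theorem essConstant_of_homology (X : ARSys.PS (DerivedCategory A)) (a b : ℤ)
    (hX : ∀ (n : ℕ) (i : ℤ), i < a ∨ b < i →
      IsZero ((homologyFunctor A i).obj (X.obj (op n))))
    (hH : ∀ i : ℤ, ∃ (B : A) (c : (Functor.const ℕᵒᵖ).obj B ⟶ X ⋙ homologyFunctor A i),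
      DerCA.IsEssConstant (X ⋙ homologyFunctor A i) B c) :
    ∃ (L : DerivedCategory A) (c : (Functor.const ℕᵒᵖ).obj L ⟶ X),
      DerCA.IsEssConstant X L c := by
  refine essConstant_aux (b - a + 1).toNat a b ?_ X ?_ ?_ hH
  · have : ((b - a + 1).toNat : ℤ) = max (b - a + 1) 0 := Int.toNat_eq_max _
    omega
  · intro n
    exact (isGE_iff _ _).2 (fun i hi => hX n i (Or.inl hi))
  · intro n
    exact (isLE_iff _ _).2 (fun i hi => hX n i (Or.inr hi))

end Groth.Agent.H2.DTrunc
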