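import Groth.Agent.Lib.Helper2.ProSys1
import Mathlib.CategoryTheory.Functor.OfSequence

/-!
# Pro-zero systems
-/

universe v v' u u'

open CategoryTheory CategoryTheory.Limits Opposite Pretriangulated

namespace Groth.Agent.H2.ProSys

section general

variable {C : Type u} [Category.{v} C] [HasZeroMorphisms C]

lemma isProZero_of_iso {X X' : ARSys.PS C} (α : X ≅ X') (h : DerCA.IsProZero X) :
    DerCA.IsProZero X' := by
  intro n
  obtain ⟨m, hm, e⟩ := h n
  refine ⟨m, hm, ?_⟩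
  have e1 : ARSys.tr X' hm = α.inv.app (op m) ≫ ARSys.tr X hm ≫ α.hom.app (op n) := by
    have := α.hom.naturality (homOfLE hm).op
    rw [this, ← Category.assoc, Iso.inv_hom_id_app, Category.id_comp]
  rw [e1, e, zero_comp, comp_zero]

lemma isProZero_of_isZero {X : ARSys.PS C} (hX : ∀ n : ℕ, IsZero (X.obj (op n))) :
    DerCA.IsProZero X :=
  fun n => ⟨n, le_refl _, (hX n).eq_of_src _ _⟩

lemma tr_tr (X : ARSys.PS C) {n m k : ℕ} (h : n ≤ m) (h' : m ≤ k) :
    ARSys.tr X h' ≫ ARSys.tr X h = ARSys.tr X (h.trans h') := by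
  dsimp only [ARSys.tr]
  rw [← X.map_comp]
  rfl

end general

section abelian

variable {C : Type u} [Category.{v} C] [Abelian C]

/-- The diagram chase: in a levelwise exact sequence `P → Q → R → P' → Q'` of inverse systems
with `P → Q` and `P' → Q'` pro-isomorphisms, the system `R` is pro-zero. -/
lemma isProZero_of_exact {P Q R P' Q' : ARSys.PS C} (α : P ⟶ Q) (β : Q ⟶ R)
    (γ : ∀ n : ℕ, R.obj (op n) ⟶ P'.obj (op n))
    (hγ : ∀ {n m : ℕ} (h : n ≤ m), ARSys.tr R h ≫ γ n = γ m ≫ ARSys.tr P' h)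
    (α' : P' ⟶ Q')
    (hαβ : ∀ n : ℕ, ap α n ≫ ap β n = 0)
    (hβγ : ∀ n : ℕ, ap β n ≫ γ n = 0)
    (hex : ∀ n : ℕ, (ShortComplex.mk (ap β n) (γ n) (hβγ n)).Exact)
    (hγα' : ∀ n : ℕ, γ n ≫ ap α' n = 0)
    (hα : DerCA.IsProIso α) (hα' : DerCA.IsProIso α') : DerCA.IsProZero R := by
  intro n
  obtain ⟨m, hnm, b, -, hb⟩ := hα n
  have hb' : b ≫ ap α n = ARSys.tr Q hnm := hb
  have h1 : ap β m ≫ ARSys.tr R hnm = 0 := by
    rw [← ap_tr, ← hb', Category.assoc, hαβ, comp_zero]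
  obtain ⟨l, hml, b', hb', -⟩ := hα' m
  have hb'' : ap α' l ≫ b' = ARSys.tr P' hml := hb'
  have h2 : ARSys.tr R hml ≫ γ m = 0 := by
    rw [hγ, ← hb'', ← Category.assoc, hγα', zero_comp]
  refine ⟨l, hnm.trans hml, ?_⟩
  rw [← tr_tr R hnm hml]
  let S := ShortComplex.mk (ap β m) (γ m) (hβγ m)
  have hS : S.Exact := hex m
  haveI := hS.epi_toCycles
  have h3 : S.iCycles ≫ ARSys.tr R hnm = 0 := by
    rw [← cancel_epi S.toCycles, ← Category.assoc, S.toCycles_i, comp_zero]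
    exact h1
  have h4 : ARSys.tr R hml = S.liftCycles (ARSys.tr R hml) h2 ≫ S.iCycles :=
    (S.liftCycles_i _ _).symm
  rw [h4, Category.assoc, h3, comp_zero]

end abelian

section triangulated

variable {D : Type u} [Category.{v} D] [Preadditive D] [HasZeroObject D] [HasShift D ℤ]
  [∀ n : ℤ, (shiftFunctor D n).Additive] [Pretriangulated D]

/-- In an inverse system of distinguished triangles with pro-zero outer terms, the middle
term is pro-zero. -/
lemma isProZero_middle {X Y Z : ARSys.PS D} (f : X ⟶ Y) (g : Y ⟶ Z)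
    (h : Z ⟶ X ⋙ shiftFunctor D (1 : ℤ))
    (hT : ∀ n : ℕ, Triangle.mk (f.app (op n)) (g.app (op n)) (h.app (op n)) ∈ distTriang D)
    (hX : DerCA.IsProZero X) (hZ : DerCA.IsProZero Z) : DerCA.IsProZero Y := by
  intro n
  obtain ⟨m, hnm, e1⟩ := hX n
  obtain ⟨l, hml, e2⟩ := hZ m
  refine ⟨l, hnm.trans hml, ?_⟩
  have h1 : ARSys.tr Y hml ≫ ap g m = 0 := by
    rw [ap_tr, e2, comp_zero]
  obtain ⟨v, hv⟩ : ∃ v : Y.obj (op l) ⟶ X.obj (op m), ARSys.tr Y hml = v ≫ ap f m :=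
    Triangle.coyoneda_exact₂ _ (hT m) (ARSys.tr Y hml) h1
  rw [← tr_tr Y hnm hml, hv, Category.assoc, ← ap_tr, e1, zero_comp, comp_zero]

/-- Extension of a levelwise map of inverse systems to an inverse system of distinguished
triangles. -/
lemma exists_cone_system {X Y : ARSys.PS D} (f : X ⟶ Y) :
    ∃ (Z : ARSys.PS D) (g : Y ⟶ Z) (h : Z ⟶ X ⋙ shiftFunctor D (1 : ℤ)),
      ∀ n : ℕ, Triangle.mk (f.app (op n)) (g.app (op n)) (h.app (op n)) ∈ distTriang D := by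
  have h1 : ∀ n : ℕ, ∃ (Zn : D) (gn : Y.obj (op n) ⟶ Zn) (hn : Zn ⟶ (X.obj (op n))⟦(1 : ℤ)⟧),
      Triangle.mk (ap f n) gn hn ∈ distTriang D := fun n => distinguished_cocone_triangle _
  choose Zo go ho hdist using h1
  have h2 : ∀ n : ℕ, ∃ z : Zo (n + 1) ⟶ Zo n,
      go (n + 1) ≫ z = ARSys.tr Y (Nat.le_add_right n 1) ≫ go n ∧
      ho (n + 1) ≫ (ARSys.tr X (Nat.le_add_right n 1))⟦(1 : ℤ)⟧' = z ≫ ho n := by
    intro n
    exact complete_distinguished_triangle_morphism _ _ (hdist (n + 1)) (hdist n)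
      (ARSys.tr X (Nat.le_add_right n 1)) (ARSys.tr Y (Nat.le_add_right n 1))
      (ap_tr f (Nat.le_add_right n 1)).symm
  choose z hz1 hz2 using h2
  let Z : ARSys.PS D := Functor.ofOpSequence z
  have hZmap : ∀ n : ℕ, Z.map (homOfLE (Nat.le_add_right n 1)).op = z n :=
    fun n => Functor.ofOpSequence_map_homOfLE_succ z n
  let g : Y ⟶ Z := NatTrans.ofOpSequence (fun n => go n) (fun n => by
    rw [hZmap]
    exact (hz1 n).symm)
  let h : Z ⟶ X ⋙ shiftFunctor D (1 : ℤ) := NatTrans.ofOpSequence (fun n => ho n) (fun n => by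
    rw [hZmap]
    exact (hz2 n).symm)
  exact ⟨Z, g, h, fun n => hdist n⟩

end triangulated

end Groth.Agent.H2.ProSys
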