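import Groth.Agent.Lib.Helper2.DTrunc2
import Groth.Agent.Lib.Helper2.ProSys2
import Groth.Agent.S6587

/-!
# Pro-isomorphisms in the derived category detected on cohomology (bounded amplitude)
-/

universe w v u

open CategoryTheory CategoryTheory.Limits Opposite Pretriangulated Triangulated

namespace Groth.Agent.H2.DTrunc

variable {A : Type u} [Category.{v} A] [Abelian A] [HasDerivedCategory.{w} A]

open DerivedCategory

theorem proZero_aux (k : ℕ) : ∀ (a b : ℤ) (_ : b < a + k)
    (X : ARSys.PS (DerivedCategory A)),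
    (∀ n : ℕ, tt.IsGE (X.obj (op n)) a) → (∀ n : ℕ, tt.IsLE (X.obj (op n)) b) →
    (∀ i : ℤ, DerCA.IsProZero (X ⋙ homologyFunctor A i)) → DerCA.IsProZero X := by
  induction k with
  | zero =>
    intro a b hk X hGE hLE _
    have hz : ∀ n : ℕ, IsZero (X.obj (op n)) := fun n =>
      haveI := hGE n
      haveI := hLE n
      tt.isZero (X.obj (op n)) b a (by simpa using hk)
    exact ProSys.isProZero_of_isZero hz
  | succ k ih =>
    intro a b hk X hGE hLE hH
    have h' : DerCA.IsProZero (sysLT X b) := by
      apply ih a (b - 1) (by push_cast at hk; omega) (sysLT X b)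
      · intro n
        haveI := hGE n
        exact sysLT_isGE X b a n
      · intro n
        infer_instance
      · intro i
        by_cases hi : i < b
        · exact ProSys.isProZero_of_iso (homologyLTIso X b i hi).symm (hH i)
        · have hz : ∀ n : ℕ, IsZero ((sysLT X b ⋙ homologyFunctor A i).obj (op n)) :=
            fun n => isZero_of_isLE ((sysLT X b).obj (op n)) (b - 1) i (by omega)
          exact ProSys.isProZero_of_isZero hz
    have h'' : DerCA.IsProZero (sysGE X b) := by
      have hb := ProSys.isProZero_of_iso (homologyGEIso X b b le_rfl) (hH b)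
      intro n
      obtain ⟨m, hnm, e⟩ := hb n
      refine ⟨m, hnm, ?_⟩
      have hP : ∀ j : ℕ, tt.IsGE ((sysGE X b).obj (op j)) b ∧ tt.IsLE ((sysGE X b).obj (op j)) b :=
        fun j => by
          haveI := hLE j
          exact ⟨inferInstance, sysGE_isLE X b b j⟩
      apply (bijective_homology_map b _ _ (hP m) (hP n)).1
      dsimp only
      rw [Functor.map_zero]
      exact e
    exact ProSys.isProZero_middle (sysι X b) (sysπ X b) (sysδ X b) (sys_dist X b) h' h''

theorem proZero_of_homology (X : ARSys.PS (DerivedCategory A)) (a b : ℤ)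
    (hX : ∀ (n : ℕ) (i : ℤ), i < a ∨ b < i →
      IsZero ((homologyFunctor A i).obj (X.obj (op n))))
    (hH : ∀ i : ℤ, DerCA.IsProZero (X ⋙ homologyFunctor A i)) : DerCA.IsProZero X := by
  refine proZero_aux (b - a + 1).toNat a b ?_ X ?_ ?_ hH
  · have : ((b - a + 1).toNat : ℤ) = max (b - a + 1) 0 := Int.toNat_eq_max _
    omega
  · intro n
    exact (isGE_iff _ _).2 (fun i hi => hX n i (Or.inl hi))
  · intro n
    exact (isLE_iff _ _).2 (fun i hi => hX n i (Or.inr hi))

section

variable {X Y Z : ARSys.PS (DerivedCategory A)} (f : X ⟶ Y) (g : Y ⟶ Z)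
  (h : Z ⟶ X ⋙ shiftFunctor (DerivedCategory A) (1 : ℤ))

/-- The triangle at level `n`. -/
@[simps!]
noncomputable def triAt (n : ℕ) : Triangle (DerivedCategory A) :=
  Triangle.mk (ProSys.ap f n) (ProSys.ap g n) (ProTri.hh h n)

/-- The transition morphism of triangles. -/
noncomputable def triTr {n m : ℕ} (hnm : n ≤ m) : triAt f g h m ⟶ triAt f g h n :=
  Triangle.homMk _ _ (ARSys.tr X hnm) (ARSys.tr Y hnm) (ARSys.tr Z hnm)
    (ProSys.ap_tr f hnm).symm (ProSys.ap_tr g hnm).symm (ProTri.hh_tr h hnm).symm

/-- If `f` induces pro-isomorphisms on all cohomology, the cone system has pro-zero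
cohomology. -/
lemma proZero_homology_cone
    (hT : ∀ n : ℕ, triAt f g h n ∈ distTriang (DerivedCategory A))
    (hH : ∀ i : ℤ, DerCA.IsProIso (Functor.whiskerRight f (homologyFunctor A i))) (i : ℤ) :
    DerCA.IsProZero (Z ⋙ homologyFunctor A i) := by
  refine ProSys.isProZero_of_exact (P := X ⋙ homologyFunctor A i)
    (Q := Y ⋙ homologyFunctor A i) (R := Z ⋙ homologyFunctor A i)
    (P' := X ⋙ homologyFunctor A (i + 1)) (Q' := Y ⋙ homologyFunctor A (i + 1))
    (Functor.whiskerRight f (homologyFunctor A i))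
    (Functor.whiskerRight g (homologyFunctor A i))
    (fun n => HomologySequence.δ (triAt f g h n) i (i + 1) rfl) ?_
    (Functor.whiskerRight f (homologyFunctor A (i + 1))) ?_ ?_ ?_ ?_ (hH i) (hH (i + 1))
  · intro n m hnm
    exact (homologyFunctor A 0).homologySequenceδ_naturality _ _ (triTr f g h hnm) i (i + 1) rfl
  · intro n
    have e0 : ProSys.ap f n ≫ ProSys.ap g n = 0 := comp_distTriang_mor_zero₁₂ _ (hT n)
    change (homologyFunctor A i).map (ProSys.ap f n) ≫ (homologyFunctor A i).map (ProSys.ap g n)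
      = 0
    rw [← Functor.map_comp, e0, Functor.map_zero]
  · intro n
    exact HomologySequence.comp_δ _ (hT n) i (i + 1) rfl
  · intro n
    exact HomologySequence.exact₃ _ (hT n) i (i + 1) rfl
  · intro n
    exact HomologySequence.δ_comp _ (hT n) i (i + 1) rfl

end

theorem isProIso_of_homology (X Y : ARSys.PS (DerivedCategory A)) (f : X ⟶ Y) (a b : ℤ)
    (hX : ∀ (n : ℕ) (i : ℤ), i < a ∨ b < i →
      IsZero ((homologyFunctor A i).obj (X.obj (op n))))
    (hY : ∀ (n : ℕ) (i : ℤ), i < a ∨ b < i →
      IsZero ((homologyFunctor A i).obj (Y.obj (op n))))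
    (hH : ∀ i : ℤ, DerCA.IsProIso (Functor.whiskerRight f (homologyFunctor A i))) :
    DerCA.IsProIso f := by
  obtain ⟨Z, g, h, hT⟩ := ProSys.exists_cone_system f
  have hT' : ∀ n : ℕ, triAt f g h n ∈ distTriang (DerivedCategory A) := hT
  have hZ : DerCA.IsProZero Z := by
    refine proZero_of_homology Z (a - 1) b ?_ (proZero_homology_cone f g h hT' hH)
    intro n i hi
    have hex := HomologySequence.exact₃ _ (hT' n) i (i + 1) rfl
    refine hex.isZero_of_both_zeros ?_ ?_
    · exact (hY n i (by omega)).eq_of_src _ _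
    · exact (hX n (i + 1) (by omega)).eq_of_tgt _ _
  exact Groth.Agent.S6587.result X Y Z f g h hT hZ

end Groth.Agent.H2.DTrunc
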