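import Groth.Agent.Lib.Helper2.DTrunc2

/-!
# Factorisation through truncations for sequences with vanishing cohomology maps
-/

universe w v u

open CategoryTheory CategoryTheory.Limits Opposite Pretriangulated Triangulated

namespace Groth.Agent.H2.DTrunc

variable {A : Type u} [Category.{v} A] [Abelian A] [HasDerivedCategory.{w} A]

open DerivedCategory

/-- A map from `D^{≤ j}` to `D^{≥ j}` is determined by its effect on `H^j`. -/
lemma eq_zero_of_homology_eq_zero {C Z : DerivedCategory A} (j : ℤ) [tt.IsLE C j] [tt.IsGE Z j]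
    (f : C ⟶ Z) (hf : (homologyFunctor A j).map f = 0) : f = 0 := by
  have hg' : tt.liftTruncLT (tt.descTruncGE f j) j (j + 1) rfl = 0 := by
    apply (bijective_homology_map j _ _ ⟨inferInstance, inferInstance⟩
      ⟨inferInstance, inferInstance⟩).1
    dsimp only
    rw [Functor.map_zero]
    haveI := isIso_homology_truncGEπ C j j le_rfl
    haveI := isIso_homology_truncLTι Z (j + 1) j (by omega)
    rw [← cancel_epi ((homologyFunctor A j).map ((tt.truncGEπ j).app C)),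
      ← cancel_mono ((homologyFunctor A j).map ((tt.truncLTι (j + 1)).app Z))]
    rw [comp_zero, zero_comp, ← Functor.map_comp, ← Functor.map_comp, Category.assoc,
      tt.liftTruncLT_ι, tt.π_descTruncGE, hf]
  rw [← tt.π_descTruncGE f j, ← tt.liftTruncLT_ι (tt.descTruncGE f j) j (j + 1) rfl, hg',
    zero_comp, comp_zero]

/-- `τ_{<n} X ⟶ X` with a clean type. -/
noncomputable def ιLT (n : ℤ) (X : DerivedCategory A) : (tt.truncLT n).obj X ⟶ X :=
  (tt.truncLTι n).app X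

/-- `X ⟶ τ_{≥n} X` with a clean type. -/
noncomputable def πGE (n : ℤ) (X : DerivedCategory A) : X ⟶ (tt.truncGE n).obj X :=
  (tt.truncGEπ n).app X

lemma exists_lift_ιLT (n : ℤ) {W X : DerivedCategory A} (w : W ⟶ X) (h : w ≫ πGE n X = 0) :
    ∃ v : W ⟶ (tt.truncLT n).obj X, w = v ≫ ιLT n X :=
  Triangle.coyoneda_exact₂ _ (tt.triangleLTGE_distinguished n X) w h

lemma exists_desc_πGE (n : ℤ) {X W : DerivedCategory A} (w : X ⟶ W) (h : ιLT n X ≫ w = 0) :
    ∃ v : (tt.truncGE n).obj X ⟶ W, w = πGE n X ≫ v :=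
  Triangle.yoneda_exact₂ _ (tt.triangleLTGE_distinguished n X) w h

section down

variable (X : ℕ → DerivedCategory A) (t : ∀ j : ℕ, X (j + 1) ⟶ X j)

/-- The composite `X j ⟶ X 0`. -/
noncomputable def compDown : ∀ j : ℕ, X j ⟶ X 0
  | 0 => 𝟙 _
  | j + 1 => t j ≫ compDown j

lemma ιLT_compDown [tt.IsGE (X 0) 0] (n : ℕ)
    (hz : ∀ j : ℕ, j < n → (homologyFunctor A (j : ℤ)).map (t j) = 0) :
    ∀ j : ℕ, j ≤ n → ιLT (j : ℤ) (X j) ≫ compDown X t j = 0 := by
  intro j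
  induction j with
  | zero =>
    intro _
    haveI : tt.IsLE ((tt.truncLT ((0 : ℕ) : ℤ)).obj (X 0)) (-1) :=
      tt.isLE_truncLT_obj _ _ _ (by simp)
    exact tt.zero_of_isLE_of_isGE _ (-1) 0 (by omega) inferInstance inferInstance
  | succ j ih =>
    intro hj
    haveI : tt.IsLE ((tt.truncLT ((j + 1 : ℕ) : ℤ)).obj (X (j + 1))) (j : ℤ) :=
      tt.isLE_truncLT_obj _ _ _ (by push_cast; omega)
    have h1 : (ιLT ((j + 1 : ℕ) : ℤ) (X (j + 1)) ≫ t j) ≫ πGE (j : ℤ) (X j) = 0 := by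
      apply eq_zero_of_homology_eq_zero (j : ℤ)
      rw [Functor.map_comp, Functor.map_comp, hz j (by omega), comp_zero, zero_comp]
    obtain ⟨v, hv⟩ := exists_lift_ιLT (j : ℤ) _ h1
    change ιLT ((j + 1 : ℕ) : ℤ) (X (j + 1)) ≫ t j ≫ compDown X t j = 0
    rw [← Category.assoc, hv, Category.assoc, ih (by omega), comp_zero]

end down

/-- Comparison of the two truncations: a map to an object of `D^{≥ n}` which is an isomorphism
on `H^i` for `i ≥ n` identifies its target with the truncation. -/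
lemma isIso_descTruncGE {X Y : DerivedCategory A} (n : ℤ) [tt.IsGE Y n] (π : X ⟶ Y)
    (hπ : ∀ i : ℤ, n ≤ i → IsIso ((homologyFunctor A i).map π)) :
    IsIso (tt.descTruncGE π n) := by
  rw [isIso_iff]
  intro i
  by_cases hi : n ≤ i
  · haveI := hπ i hi
    haveI := isIso_homology_truncGEπ X n i hi
    have e : (homologyFunctor A i).map ((tt.truncGEπ n).app X) ≫
        (homologyFunctor A i).map (tt.descTruncGE π n) = (homologyFunctor A i).map π := by
      rw [← Functor.map_comp, tt.π_descTruncGE]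
    exact IsIso.of_isIso_fac_left e
  · have h1 : IsZero ((homologyFunctor A i).obj ((tt.truncGE n).obj X)) :=
      isZero_of_isGE _ n i (by omega)
    have h2 : IsZero ((homologyFunctor A i).obj Y) := isZero_of_isGE _ n i (by omega)
    exact ⟨0, h1.eq_of_src _ _, h2.eq_of_src _ _⟩

lemma isIso_homology_map_Q {K L : CochainComplex A ℤ} (f : K ⟶ L) (i : ℤ) [QuasiIsoAt f i] :
    IsIso ((homologyFunctor A i).map (Q.map f)) := by
  have h := (NatIso.isIso_map_iff (homologyFunctorFactors A i) f).2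
    (by
      change IsIso (HomologicalComplex.homologyMap f i)
      exact (quasiIsoAt_iff_isIso_homologyMap f i).1 inferInstance)
  exact h

lemma homology_map_Q_eq_zero {K L : CochainComplex A ℤ} (f : K ⟶ L) (i : ℤ)
    (h : HomologicalComplex.homologyMap f i = 0) : (homologyFunctor A i).map (Q.map f) = 0 := by
  have h1 := homologyFunctorFactors_hom_naturality f i
  rw [← cancel_mono ((homologyFunctorFactors A i).hom.app L), zero_comp, h1, h]
  exact comp_zero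

theorem factor_truncGE (K : ℕᵒᵖ ⥤ CochainComplex A ℤ) (n : ℕ)
    (h0 : ∀ i : ℤ, i < 0 → IsZero ((K.obj (op 0)).homology i))
    (hz : ∀ j : ℕ, j < n →
      HomologicalComplex.homologyMap (K.map (homOfLE (Nat.le_succ j)).op) (j : ℤ) = 0) :
    ∃ φ : Q.obj ((K.obj (op n)).truncGE (n : ℤ)) ⟶ Q.obj (K.obj (op 0)),
      Q.map ((K.obj (op n)).πTruncGE (n : ℤ)) ≫ φ =
        Q.map (K.map (homOfLE (Nat.zero_le n)).op) := by
  let X : ℕ → DerivedCategory A := fun j => Q.obj (K.obj (op j))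
  let t : ∀ j : ℕ, X (j + 1) ⟶ X j := fun j => Q.map (K.map (homOfLE (Nat.le_succ j)).op)
  have hc : ∀ j : ℕ, compDown X t j = Q.map (K.map (homOfLE (Nat.zero_le j)).op) := by
    intro j
    induction j with
    | zero =>
      have : (homOfLE (Nat.zero_le 0)).op = 𝟙 (op 0) := Subsingleton.elim _ _
      rw [this, K.map_id, Q.map_id]
      rfl
    | succ j ih =>
      change t j ≫ compDown X t j = _
      rw [ih, ← Q.map_comp, ← K.map_comp]
      rfl
  haveI : tt.IsGE (X 0) 0 := (isGE_iff _ _).2 (fun i hi =>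
    IsZero.of_iso (h0 i hi) ((homologyFunctorFactors A i).app _))
  have hA := ιLT_compDown X t n (fun j hj => homology_map_Q_eq_zero _ _ (hz j hj)) n le_rfl
  obtain ⟨ψ, hψ⟩ := exists_desc_πGE (n : ℤ) _ hA
  let π : X n ⟶ Q.obj ((K.obj (op n)).truncGE (n : ℤ)) :=
    Q.map ((K.obj (op n)).πTruncGE (n : ℤ))
  haveI : IsIso (tt.descTruncGE π (n : ℤ)) := isIso_descTruncGE (n : ℤ) π (fun i hi => by
    haveI := (K.obj (op n)).quasiIsoAt_πTruncGE (n : ℤ) i hi
    exact isIso_homology_map_Q _ i)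
  refine ⟨inv (tt.descTruncGE π (n : ℤ)) ≫ ψ, ?_⟩
  rw [← hc n, hψ]
  have e : π = πGE (n : ℤ) (X n) ≫ tt.descTruncGE π (n : ℤ) := (tt.π_descTruncGE π (n : ℤ)).symm
  change π ≫ _ = _
  calc π ≫ inv (tt.descTruncGE π (n : ℤ)) ≫ ψ
      = (πGE (n : ℤ) (X n) ≫ tt.descTruncGE π (n : ℤ)) ≫ inv (tt.descTruncGE π (n : ℤ)) ≫ ψ :=
        congrArg (fun z => z ≫ inv (tt.descTruncGE π (n : ℤ)) ≫ ψ) e
    _ = πGE (n : ℤ) (X n) ≫ ψ := by rw [Category.assoc, IsIso.hom_inv_id_assoc]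

section up

variable (X : ℕ → DerivedCategory A) (t : ∀ j : ℕ, X j ⟶ X (j + 1))

/-- The composite `X 0 ⟶ X j`. -/
noncomputable def compUp : ∀ j : ℕ, X 0 ⟶ X j
  | 0 => 𝟙 _
  | j + 1 => compUp j ≫ t j

lemma compUp_πGE [tt.IsLE (X 0) 0] (n : ℕ)
    (hz : ∀ j : ℕ, j < n → (homologyFunctor A (-(j : ℤ))).map (t j) = 0) :
    ∀ j : ℕ, j ≤ n → ∀ m : ℤ, m = 1 - (j : ℤ) → compUp X t j ≫ πGE m (X j) = 0 := by
  intro j
  induction j with
  | zero =>
    intro _ m hm
    haveI : tt.IsGE ((tt.truncGE m).obj (X 0)) 1 :=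
      tt.isGE_truncGE_obj _ _ _ (by rw [hm]; simp)
    exact tt.zero_of_isLE_of_isGE _ 0 1 (by omega) inferInstance inferInstance
  | succ j ih =>
    intro hj m hm
    obtain ⟨v, hv⟩ := exists_lift_ιLT (1 - (j : ℤ)) _ (ih (by omega) _ rfl)
    haveI : tt.IsLE ((tt.truncLT (1 - (j : ℤ))).obj (X j)) (-(j : ℤ)) :=
      tt.isLE_truncLT_obj _ _ _ (by omega)
    haveI : tt.IsGE ((tt.truncGE m).obj (X (j + 1))) (-(j : ℤ)) :=
      tt.isGE_truncGE_obj _ _ _ (by rw [hm]; push_cast; omega)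
    have h1 : (ιLT (1 - (j : ℤ)) (X j) ≫ t j) ≫ πGE m (X (j + 1)) = 0 := by
      apply eq_zero_of_homology_eq_zero (-(j : ℤ))
      rw [Functor.map_comp, Functor.map_comp, hz j (by omega), comp_zero, zero_comp]
    change (compUp X t j ≫ t j) ≫ πGE m (X (j + 1)) = 0
    rw [hv, Category.assoc, Category.assoc, ← Category.assoc (ιLT _ _), h1, comp_zero]

end up

lemma isIso_liftTruncLT {X Y : DerivedCategory A} (n₀ n₁ : ℤ) (h : n₀ + 1 = n₁) [tt.IsLE Y n₀]
    (ι : Y ⟶ X) (hι : ∀ i : ℤ, i ≤ n₀ → IsIso ((homologyFunctor A i).map ι)) :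
    IsIso (tt.liftTruncLT ι n₀ n₁ h) := by
  rw [isIso_iff]
  intro i
  by_cases hi : i ≤ n₀
  · haveI := hι i hi
    haveI := isIso_homology_truncLTι X n₁ i (by omega)
    have e : (homologyFunctor A i).map (tt.liftTruncLT ι n₀ n₁ h) ≫
        (homologyFunctor A i).map ((tt.truncLTι n₁).app X) = (homologyFunctor A i).map ι := by
      rw [← Functor.map_comp, tt.liftTruncLT_ι]
    exact IsIso.of_isIso_fac_right e
  · have h1 : IsZero ((homologyFunctor A i).obj Y) := isZero_of_isLE _ n₀ i (by omega)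
    haveI : tt.IsLE ((tt.truncLT n₁).obj X) n₀ := tt.isLE_truncLT_obj _ _ _ (by omega)
    have h2 : IsZero ((homologyFunctor A i).obj ((tt.truncLT n₁).obj X)) :=
      isZero_of_isLE _ n₀ i (by omega)
    exact ⟨0, h1.eq_of_src _ _, h2.eq_of_src _ _⟩

theorem factor_truncLE (K : ℕ ⥤ CochainComplex A ℤ) (n : ℕ)
    (h0 : ∀ i : ℤ, 0 < i → IsZero ((K.obj 0).homology i))
    (hz : ∀ j : ℕ, j < n →
      HomologicalComplex.homologyMap (K.map (homOfLE (Nat.le_succ j))) (-(j : ℤ)) = 0) :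
    ∃ φ : Q.obj (K.obj 0) ⟶ Q.obj ((K.obj n).truncLE (-(n : ℤ))),
      φ ≫ Q.map ((K.obj n).ιTruncLE (-(n : ℤ))) = Q.map (K.map (homOfLE (Nat.zero_le n))) := by
  let X : ℕ → DerivedCategory A := fun j => Q.obj (K.obj j)
  let t : ∀ j : ℕ, X j ⟶ X (j + 1) := fun j => Q.map (K.map (homOfLE (Nat.le_succ j)))
  have hc : ∀ j : ℕ, compUp X t j = Q.map (K.map (homOfLE (Nat.zero_le j))) := by
    intro j
    induction j with
    | zero =>
      have : homOfLE (Nat.zero_le 0) = 𝟙 (0 : ℕ) := Subsingleton.elim _ _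
      rw [this, K.map_id, Q.map_id]
      rfl
    | succ j ih =>
      change compUp X t j ≫ t j = _
      rw [ih, ← Q.map_comp, ← K.map_comp]
      rfl
  haveI : tt.IsLE (X 0) 0 := (isLE_iff _ _).2 (fun i hi =>
    IsZero.of_iso (h0 i hi) ((homologyFunctorFactors A i).app _))
  have hA := compUp_πGE X t n (fun j hj => homology_map_Q_eq_zero _ _ (hz j hj)) n le_rfl
    (1 - (n : ℤ)) rfl
  obtain ⟨ψ, hψ⟩ := exists_lift_ιLT (1 - (n : ℤ)) _ hA
  let ι : Q.obj ((K.obj n).truncLE (-(n : ℤ))) ⟶ X n := Q.map ((K.obj n).ιTruncLE (-(n : ℤ)))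
  have hn : -(n : ℤ) + 1 = 1 - (n : ℤ) := by omega
  haveI : IsIso (tt.liftTruncLT ι (-(n : ℤ)) (1 - (n : ℤ)) hn) :=
    isIso_liftTruncLT (-(n : ℤ)) (1 - (n : ℤ)) hn ι (fun i hi => by
      haveI := (K.obj n).quasiIsoAt_ιTruncLE (-(n : ℤ)) i hi
      exact isIso_homology_map_Q _ i)
  refine ⟨ψ ≫ inv (tt.liftTruncLT ι (-(n : ℤ)) (1 - (n : ℤ)) hn), ?_⟩
  rw [← hc n, hψ]
  have e : ι = tt.liftTruncLT ι (-(n : ℤ)) (1 - (n : ℤ)) hn ≫ ιLT (1 - (n : ℤ)) (X n) :=
    (tt.liftTruncLT_ι ι (-(n : ℤ)) (1 - (n : ℤ)) hn).symm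
  change _ ≫ ι = _
  calc (ψ ≫ inv (tt.liftTruncLT ι (-(n : ℤ)) (1 - (n : ℤ)) hn)) ≫ ι
      = (ψ ≫ inv (tt.liftTruncLT ι (-(n : ℤ)) (1 - (n : ℤ)) hn)) ≫
          tt.liftTruncLT ι (-(n : ℤ)) (1 - (n : ℤ)) hn ≫ ιLT (1 - (n : ℤ)) (X n) :=
        congrArg (fun z => (ψ ≫ inv (tt.liftTruncLT ι (-(n : ℤ)) (1 - (n : ℤ)) hn)) ≫ z) e
    _ = ψ ≫ ιLT (1 - (n : ℤ)) (X n) := by
        rw [Category.assoc, IsIso.inv_hom_id_assoc]

end Groth.Agent.H2.DTrunc
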