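import Groth.Agent.Lib.Helper2.DTrunc4

/-!
# The unique factorisation of a two-step truncated map with vanishing cohomology maps
-/

universe w v u

open CategoryTheory CategoryTheory.Limits Opposite Pretriangulated Triangulated

namespace Groth.Agent.H2.DTrunc

variable {A : Type u} [Category.{v} A] [Abelian A] [HasDerivedCategory.{w} A]

open DerivedCategory

/-- The connecting map of the truncation triangle, with a clean type. -/
noncomputable def δLT (n : ℤ) (X : DerivedCategory A) :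
    (tt.truncGE n).obj X ⟶ ((tt.truncLT n).obj X)⟦(1 : ℤ)⟧ :=
  (tt.truncGEδLT n).app X

lemma tri_dist (n : ℤ) (X : DerivedCategory A) :
    Triangle.mk (ιLT n X) (πGE n X) (δLT n X) ∈ distTriang (DerivedCategory A) :=
  tt.triangleLTGE_distinguished n X

lemma ιLT_naturality (n : ℤ) {X Y : DerivedCategory A} (f : X ⟶ Y) :
    (tt.truncLT n).map f ≫ ιLT n Y = ιLT n X ≫ f :=
  (tt.truncLTι n).naturality f

lemma πGE_naturality (n : ℤ) {X Y : DerivedCategory A} (f : X ⟶ Y) :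
    f ≫ πGE n Y = πGE n X ≫ (tt.truncGE n).map f :=
  ((tt.truncGEπ n).naturality f)

/-- The core statement, for the truncation triangles themselves. -/
theorem existsUnique_core (q : ℤ) {M M' : DerivedCategory A} [tt.IsLE M q] [tt.IsGE M' (q - 1)]
    (φ : M ⟶ M') (h₁ : (homologyFunctor A (q - 1)).map φ = 0)
    (h₂ : (homologyFunctor A q).map φ = 0) :
    ∃! L₀ : (tt.truncGE q).obj M ⟶ (tt.truncLT q).obj M', φ = πGE q M ≫ L₀ ≫ ιLT q M' := by
  have hex : ∃ L₀ : (tt.truncGE q).obj M ⟶ (tt.truncLT q).obj M',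
      φ = πGE q M ≫ L₀ ≫ ιLT q M' := by
    have h1 : (ιLT q M ≫ φ) ≫ πGE q M' = 0 := tt.zero _ (q - 1) q (by omega)
    obtain ⟨v, hv⟩ := exists_lift_ιLT q (ιLT q M ≫ φ) h1
    have hv0 : v = 0 := by
      apply eq_zero_of_homology_eq_zero (q - 1) v
      haveI := isIso_homology_truncLTι M' q (q - 1) (by omega)
      have hmono : Mono ((homologyFunctor A (q - 1)).map (ιLT q M')) := by
        change Mono ((homologyFunctor A (q - 1)).map ((tt.truncLTι q).app M'))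
        infer_instance
      rw [← cancel_mono ((homologyFunctor A (q - 1)).map (ιLT q M')), ← Functor.map_comp, ← hv,
        Functor.map_comp, h₁, comp_zero, zero_comp]
    rw [hv0, zero_comp] at hv
    obtain ⟨ψ, hψ⟩ := exists_desc_πGE q φ hv
    have h2 : ψ ≫ πGE q M' = 0 := by
      apply eq_zero_of_homology_eq_zero q
      haveI := isIso_homology_truncGEπ M q q le_rfl
      have hepi : Epi ((homologyFunctor A q).map (πGE q M)) := by
        change Epi ((homologyFunctor A q).map ((tt.truncGEπ q).app M))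
        infer_instance
      rw [← cancel_epi ((homologyFunctor A q).map (πGE q M)), ← Functor.map_comp,
        ← Category.assoc, ← hψ, Functor.map_comp, h₂, zero_comp, comp_zero]
    obtain ⟨L₀, hL₀⟩ := exists_lift_ιLT q ψ h2
    exact ⟨L₀, by rw [hψ, hL₀]⟩
  obtain ⟨L₀, hL₀⟩ := hex
  refine ⟨L₀, hL₀, ?_⟩
  intro L₁ hL₁
  have hΔ : πGE q M ≫ ((L₁ - L₀) ≫ ιLT q M') = 0 := by
    rw [Preadditive.sub_comp, Preadditive.comp_sub, ← hL₁, ← hL₀, sub_self]
  have ha : (L₁ - L₀) ≫ ιLT q M' = 0 := by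
    obtain ⟨g, hg⟩ : ∃ g : ((tt.truncLT q).obj M)⟦(1 : ℤ)⟧ ⟶ M',
        (L₁ - L₀) ≫ ιLT q M' = δLT q M ≫ g :=
      Triangle.yoneda_exact₃ _ (tri_dist q M) _ hΔ
    haveI : tt.IsLE (((tt.truncLT q).obj M)⟦(1 : ℤ)⟧) (q - 2) :=
      tt.isLE_shift _ (q - 1) 1 (q - 2) (by omega)
    rw [hg, tt.zero g (q - 2) (q - 1) (by omega), comp_zero]
  have hb : L₁ - L₀ = 0 := by
    have hR := inv_rot_of_distTriang _ (tri_dist q M')
    obtain ⟨g, hg⟩ : ∃ g : (tt.truncGE q).obj M ⟶ ((tt.truncGE q).obj M')⟦(-1 : ℤ)⟧,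
        L₁ - L₀ = g ≫ (Triangle.mk (ιLT q M') (πGE q M') (δLT q M')).invRotate.mor₁ :=
      Triangle.coyoneda_exact₂ _ hR (L₁ - L₀) ha
    haveI : tt.IsGE (((tt.truncGE q).obj M')⟦(-1 : ℤ)⟧) (q + 1) :=
      tt.isGE_shift _ q (-1) (q + 1) (by omega)
    rw [hg, tt.zero g q (q + 1) (by omega)]
    exact zero_comp
  exact sub_eq_zero.1 hb

/-- The general statement. -/
theorem existsUnique_factor (q : ℤ) {M M' Top Bot : DerivedCategory A}
    [tt.IsLE M q] [tt.IsGE M' (q - 1)] [tt.IsGE Top q] [tt.IsLE Bot (q - 1)]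
    (π : M ⟶ Top) (hπ : ∀ i : ℤ, q ≤ i → IsIso ((homologyFunctor A i).map π))
    (ι : Bot ⟶ M') (hι : ∀ i : ℤ, i ≤ q - 1 → IsIso ((homologyFunctor A i).map ι))
    (φ : M ⟶ M') (h₁ : (homologyFunctor A (q - 1)).map φ = 0)
    (h₂ : (homologyFunctor A q).map φ = 0) :
    ∃! L : Top ⟶ Bot, φ = π ≫ L ≫ ι := by
  have hq : q - 1 + 1 = q := by omega
  obtain ⟨d, hd, hπ'⟩ : ∃ d : (tt.truncGE q).obj M ⟶ Top, IsIso d ∧ πGE q M ≫ d = π :=
    ⟨_, isIso_descTruncGE q π hπ, tt.π_descTruncGE π q⟩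
  obtain ⟨l, hl, hι'⟩ : ∃ l : Bot ⟶ (tt.truncLT q).obj M', IsIso l ∧ l ≫ ιLT q M' = ι :=
    ⟨_, isIso_liftTruncLT (q - 1) q hq ι hι, tt.liftTruncLT_ι ι (q - 1) q hq⟩
  obtain ⟨L₀, hL₀, huniq⟩ := existsUnique_core q φ h₁ h₂
  subst hπ' hι'
  refine ⟨inv d ≫ L₀ ≫ inv l, ?_, ?_⟩
  · change φ = (πGE q M ≫ d) ≫ (inv d ≫ L₀ ≫ inv l) ≫ l ≫ ιLT q M'
    simp only [Category.assoc, IsIso.hom_inv_id_assoc, IsIso.inv_hom_id_assoc]
    exact hL₀
  · intro L hL
    have h := huniq (d ≫ L ≫ l) (by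
      change φ = πGE q M ≫ (d ≫ L ≫ l) ≫ ιLT q M'
      simp only [Category.assoc]
      simp only [Category.assoc] at hL
      exact hL)
    rw [← h]
    simp only [Category.assoc, IsIso.hom_inv_id, Category.comp_id, IsIso.inv_hom_id_assoc]

end Groth.Agent.H2.DTrunc
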