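import Groth.Agent.Lib.Helper2.DTrunc5

/-!
# The unique factorisation of `τ_[q-1,q](f)` when `H^{q-1}(f) = 0 = H^q(f)`
-/

universe w v u

open CategoryTheory CategoryTheory.Limits Opposite Pretriangulated Triangulated

namespace Groth.Agent.H2.DTrunc

variable {A : Type u} [Category.{v} A] [Abelian A] [HasDerivedCategory.{w} A]

open DerivedCategory

lemma homology_truncLT_map_eq_zero (b i : ℤ) (hb : i < b) {K K' : DerivedCategory A} (f : K ⟶ K')
    (h : (homologyFunctor A i).map f = 0) : (homologyFunctor A i).map ((tt.truncLT b).map f) = 0 := by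
  haveI := isIso_homology_truncLTι K' b i hb
  have hmono : Mono ((homologyFunctor A i).map (ιLT b K')) := by
    change Mono ((homologyFunctor A i).map ((tt.truncLTι b).app K'))
    infer_instance
  rw [← cancel_mono ((homologyFunctor A i).map (ιLT b K')), ← Functor.map_comp, ιLT_naturality,
    Functor.map_comp, h, comp_zero, zero_comp]

lemma homology_truncGE_map_eq_zero (a i : ℤ) (ha : a ≤ i) {K K' : DerivedCategory A} (f : K ⟶ K')
    (h : (homologyFunctor A i).map f = 0) : (homologyFunctor A i).map ((tt.truncGE a).map f) = 0 := by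
  haveI := isIso_homology_truncGEπ K a i ha
  have hepi : Epi ((homologyFunctor A i).map (πGE a K)) := by
    change Epi ((homologyFunctor A i).map ((tt.truncGEπ a).app K))
    infer_instance
  rw [← cancel_epi ((homologyFunctor A i).map (πGE a K)), ← Functor.map_comp, ← πGE_naturality,
    Functor.map_comp, h, zero_comp, comp_zero]

lemma homology_truncGELT_map_eq_zero (a b i : ℤ) (ha : a ≤ i) (hb : i < b)
    {K K' : DerivedCategory A} (f : K ⟶ K') (h : (homologyFunctor A i).map f = 0) :
    (homologyFunctor A i).map ((tt.truncGELT a b).map f) = 0 :=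
  homology_truncGE_map_eq_zero a i ha _ (homology_truncLT_map_eq_zero b i hb f h)

lemma isIso_homology_natTransTruncGEOfLE (a b : ℤ) (h : a ≤ b) (X : DerivedCategory A) (i : ℤ)
    (hi : b ≤ i) : IsIso ((homologyFunctor A i).map ((tt.natTransTruncGEOfLE a b h).app X)) := by
  haveI := isIso_homology_truncGEπ X a i (by omega)
  haveI := isIso_homology_truncGEπ X b i hi
  have hfac : (homologyFunctor A i).map ((tt.truncGEπ a).app X) ≫
      (homologyFunctor A i).map ((tt.natTransTruncGEOfLE a b h).app X) =
      (homologyFunctor A i).map ((tt.truncGEπ b).app X) := by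
    rw [← Functor.map_comp, tt.π_natTransTruncGEOfLE_app]
  exact IsIso.of_isIso_fac_left hfac

lemma isIso_homology_natTransTruncLTOfLE (a b : ℤ) (h : a ≤ b) (X : DerivedCategory A) (i : ℤ)
    (hi : i < a) : IsIso ((homologyFunctor A i).map ((tt.natTransTruncLTOfLE a b h).app X)) := by
  haveI := isIso_homology_truncLTι X a i hi
  haveI := isIso_homology_truncLTι X b i (by omega)
  have hfac : (homologyFunctor A i).map ((tt.natTransTruncLTOfLE a b h).app X) ≫
      (homologyFunctor A i).map ((tt.truncLTι b).app X) =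
      (homologyFunctor A i).map ((tt.truncLTι a).app X) := by
    rw [← Functor.map_comp, tt.natTransTruncLTOfLE_ι_app]
  exact IsIso.of_isIso_fac_right hfac

lemma isIso_homology_truncGE_map (a i : ℤ) (ha : a ≤ i) {X Y : DerivedCategory A} (g : X ⟶ Y)
    [IsIso ((homologyFunctor A i).map g)] :
    IsIso ((homologyFunctor A i).map ((tt.truncGE a).map g)) := by
  haveI := isIso_homology_truncGEπ X a i ha
  haveI := isIso_homology_truncGEπ Y a i ha
  have hfac : (homologyFunctor A i).map ((tt.truncGEπ a).app X) ≫
      (homologyFunctor A i).map ((tt.truncGE a).map g) =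
      (homologyFunctor A i).map g ≫ (homologyFunctor A i).map ((tt.truncGEπ a).app Y) := by
    rw [← Functor.map_comp, ← Functor.map_comp]
    congr 1
    exact ((tt.truncGEπ a).naturality g).symm
  haveI : IsIso ((homologyFunctor A i).map ((tt.truncGEπ a).app X) ≫
      (homologyFunctor A i).map ((tt.truncGE a).map g)) := by
    rw [hfac]
    infer_instance
  exact IsIso.of_isIso_comp_left ((homologyFunctor A i).map ((tt.truncGEπ a).app X)) _

theorem existsUnique_truncMap {K K' : DerivedCategory A} (f : K ⟶ K') (q : ℤ)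
    (h₁ : (homologyFunctor A (q - 1)).map f = 0)
    (h₂ : (homologyFunctor A q).map f = 0) :
    ∃! L : (tt.truncGELT q (q + 1)).obj K ⟶ (tt.truncGELT (q - 1) q).obj K',
      (tt.truncGELT (q - 1) (q + 1)).map f =
        (tt.natTransTruncGEOfLE (q - 1) q (sub_one_lt q).le).app ((tt.truncLT (q + 1)).obj K) ≫ L ≫
          (tt.truncGE (q - 1)).map ((tt.natTransTruncLTOfLE q (q + 1) (lt_add_one q).le).app K') := by
  haveI : tt.IsLE ((tt.truncGELT (q - 1) (q + 1)).obj K) q :=
    tt.isLE_of_le _ (q + 1 - 1) q (by omega)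
  refine existsUnique_factor q _ ?_ _ ?_ _
    (homology_truncGELT_map_eq_zero (q - 1) (q + 1) (q - 1) le_rfl (by omega) f h₁)
    (homology_truncGELT_map_eq_zero (q - 1) (q + 1) q (by omega) (by omega) f h₂)
  · intro i hi
    exact isIso_homology_natTransTruncGEOfLE (q - 1) q _ _ i hi
  · intro i hi
    by_cases hi' : i = q - 1
    · subst hi'
      haveI := isIso_homology_natTransTruncLTOfLE q (q + 1) (lt_add_one q).le K' (q - 1) (by omega)
      exact isIso_homology_truncGE_map (q - 1) (q - 1) le_rfl _
    · have hlt : i < q - 1 := lt_of_le_of_ne hi hi'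
      have hz1 : IsZero ((homologyFunctor A i).obj ((tt.truncGELT (q - 1) q).obj K')) :=
        isZero_of_isGE _ (q - 1) i hlt
      have hz2 : IsZero ((homologyFunctor A i).obj ((tt.truncGELT (q - 1) (q + 1)).obj K')) :=
        isZero_of_isGE _ (q - 1) i hlt
      exact ⟨0, hz1.eq_of_src _ _, hz2.eq_of_src _ _⟩

end Groth.Agent.H2.DTrunc
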