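import Mathlib
import Groth.Agent.Lib.Helper2.DVRGen2
import Groth.Agent.Lib.Helper8.DVRProper
import Groth.Agent.Lib.Helper6.VC6

/-!
# Properness from discrete valuation rings at the generic points of the irreducible components
-/

set_option autoImplicit false

universe u

open AlgebraicGeometry CategoryTheory CategoryTheory.Limits IsLocalRing

namespace Groth.Agent.H2.DVRGen

open Groth.Agent.H8.DVRSch

theorem isProper_of_generic_dvr {X S : Scheme.{u}} [IsLocallyNoetherian S] (f : X ⟶ S)
    [LocallyOfFiniteType f] [QuasiCompact f]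
    (H : ∀ (η : X), closure {η} ∈ irreducibleComponents (X : Type u) →
      ∀ (A : ValuationSubring (X.residueField η)), IsDiscreteValuationRing A →
        ∀ y : Spec (CommRingCat.of A) ⟶ S,
          Spec.map (CommRingCat.ofHom A.subtype) ≫ y = X.fromSpecResidueField η ≫ f →
          ∃! l : Spec (CommRingCat.of A) ⟶ X,
            l ≫ f = y ∧ Spec.map (CommRingCat.ofHom A.subtype) ≫ l = X.fromSpecResidueField η) :
    IsProper f := by
  have hsep : IsSeparated f := by
    refine isSeparated_of_generic_dvrUniqueness f (fun η hη A hA l₁ l₂ hl h1 h2 => ?_)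
    have hy : Spec.map (CommRingCat.ofHom A.subtype) ≫ (l₁ ≫ f) = X.fromSpecResidueField η ≫ f := by
      rw [← Category.assoc, h1]
    exact (H η hη A hA (l₁ ≫ f) hy).unique ⟨rfl, h1⟩ ⟨hl.symm, h2⟩
  have P : ∀ (y : X) (A : ValuationSubring (X.residueField y))
      (i₂ : Spec (CommRingCat.of A) ⟶ S),
      Spec.map (CommRingCat.ofHom A.subtype) ≫ i₂ = X.fromSpecResidueField y ≫ f →
      ∃ l : Spec (CommRingCat.of A) ⟶ X,
        Spec.map (CommRingCat.ofHom A.subtype) ≫ l = X.fromSpecResidueField y ∧ l ≫ f = i₂ := by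
    intro y A i₂ hi
    obtain ⟨η, hη, hηy⟩ := exists_generic_specializes y
    refine Groth.Agent.H6.VC.keyP' f (X.residueField η) (X.fromSpecResidueField η) ?_ y ?_ A i₂ hi
    · intro R φ hφ
      obtain ⟨l, hl1, hl2⟩ := exists_lift_of_dvr f f η (X.fromSpecResidueField η) rfl
        (fun A hA y hy => (H η hη A hA y hy).exists) R φ hφ
      refine ⟨l, ⟨hl2, hl1⟩, fun l' hl' => ?_⟩
      exact generic_dvrUniqueness_of_isSeparated f η R l' l (hl'.2.trans hl1.symm) hl'.1 hl2
    · rw [Scheme.fromSpecResidueField_apply]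
      exact hηy
  have : UniversallyClosed f :=
    UniversallyClosed.of_valuativeCriterion f (Groth.Agent.H6.VC.existence_of_key f P)
  exact { }

end Groth.Agent.H2.DVRGen
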