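import Mathlib
import Groth.Agent.Lib.Helper6.VC1

/-!
# Centers of valuation rings of the function field on an integral scheme
-/

set_option autoImplicit false

universe u

open CategoryTheory AlgebraicGeometry IsLocalRing

namespace Groth.Agent.H2.DVRProp

variable {X : Scheme.{u}} [IsIntegral X]

/-- `R` dominates the local ring of `X` at `x`. -/
def Dominates (R : ValuationSubring X.functionField) (x : X) : Prop :=
  (∀ a : X.presheaf.stalk x, algebraMap (X.presheaf.stalk x) X.functionField a ∈ R) ∧
    ∀ a ∈ maximalIdeal (X.presheaf.stalk x),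
      R.valuation (algebraMap (X.presheaf.stalk x) X.functionField a) < 1

/-- If all sections over an affine open `U` lie in `R`, then `R` has a center in `U`. -/
theorem exists_center_of_affine (R : ValuationSubring X.functionField) (U : X.Opens)
    (hU : IsAffineOpen U) (hξ : genericPoint X ∈ U)
    (hR : ∀ b : Γ(X, U), (X.presheaf.germ U (genericPoint X) hξ).hom b ∈ R) :
    ∃ x ∈ U, Dominates R x := by
  let g : Γ(X, U) ⟶ CommRingCat.of R :=
    CommRingCat.ofHom ((X.presheaf.germ U (genericPoint X) hξ).hom.codRestrict R.toSubring hR)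
  have hg : g ≫ CommRingCat.ofHom R.subtype = X.presheaf.germ U (genericPoint X) hξ := rfl
  let φ : Spec (CommRingCat.of R) ⟶ X := Spec.map g ≫ hU.fromSpec
  have hφ : Spec.map (CommRingCat.ofHom R.subtype) ≫ φ = X.fromSpecStalk (genericPoint X) := by
    rw [← Spec.map_comp_assoc, hg, ← hU.fromSpecStalk_eq_fromSpecStalk hξ]
    rfl
  let x : X := φ.base (closedPoint R)
  let χ : X.presheaf.stalk x ⟶ CommRingCat.of R := Scheme.stalkClosedPointTo φ
  have hχ : Spec.map χ ≫ X.fromSpecStalk x = φ := Scheme.Spec_stalkClosedPointTo_fromSpecStalk φ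
  have hχloc : IsLocalHom χ.hom := Scheme.isLocalHom_stalkClosedPointTo φ
  haveI : IsLocalHom (CommRingCat.Hom.hom (𝟙 (X.presheaf.stalk (genericPoint X)))) := by
    rw [CommRingCat.hom_id]
    infer_instance
  have h0 : Spec.map (χ ≫ CommRingCat.ofHom R.subtype) ≫ X.fromSpecStalk x =
      Spec.map (𝟙 (X.presheaf.stalk (genericPoint X))) ≫ X.fromSpecStalk (genericPoint X) := by
    rw [Spec.map_comp, Category.assoc, hχ, hφ, Spec.map_id, Category.id_comp]
  obtain ⟨hs, he⟩ := H6.VC.specializes_and_eq (χ ≫ CommRingCat.ofHom R.subtype)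
    (𝟙 (X.presheaf.stalk (genericPoint X))) h0
  rw [Category.comp_id] at he
  have hval : ∀ a : X.presheaf.stalk x,
      algebraMap (X.presheaf.stalk x) X.functionField a = ((χ.hom a : R) : X.functionField) := by
    intro a
    have := congrArg (fun q => q.hom a) he
    exact this.symm
  refine ⟨x, ?_, fun a => ?_, fun a ha => ?_⟩
  · have : x ∈ Set.range hU.fromSpec.base := ⟨(Spec.map g).base (closedPoint R), rfl⟩
    rw [hU.range_fromSpec] at this
    exact this
  · rw [hval]
    exact (χ.hom a).2
  · rw [hval]
    apply (R.valuation_lt_one_iff _).1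
    rw [mem_maximalIdeal] at ha ⊢
    intro hu
    exact ha (hχloc.map_nonunit _ hu)

end Groth.Agent.H2.DVRProp
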