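import Groth.Agent.Lib.Helper2.DVRProp1

/-!
# Uniqueness of the center on a separated target
-/

set_option autoImplicit false

universe u

open CategoryTheory CategoryTheory.Limits AlgebraicGeometry IsLocalRing

namespace Groth.Agent.H2.DVRProp

variable {X Y : Scheme.{u}} [IsIntegral X] [IsIntegral Y] (f : X ⟶ Y)

/-- `R` dominates the local ring of `Y` at `y` (through `O_{Y,y} → O_{Y,f ξ} → K(X)`). -/
def DominatesY (R : ValuationSubring X.functionField) (y : Y)
    (hy : f.base (genericPoint X) ⤳ y) : Prop :=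
  (∀ a : Y.presheaf.stalk y,
      (Y.presheaf.stalkSpecializes hy ≫ f.stalkMap (genericPoint X)).hom a ∈ R) ∧
    ∀ a ∈ maximalIdeal (Y.presheaf.stalk y),
      R.valuation ((Y.presheaf.stalkSpecializes hy ≫ f.stalkMap (genericPoint X)).hom a) < 1

theorem eq_of_dominates [Y.IsSeparated] (R : ValuationSubring X.functionField) (x : X)
    (hx : Dominates R x) (y : Y) (hy : f.base (genericPoint X) ⤳ y) (hRy : DominatesY f R y hy) :
    f.base x = y := by
  classical
  obtain ⟨hx1, hx2⟩ := hx
  obtain ⟨hy1, hy2⟩ := hRy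
  let ζ : Spec (CommRingCat.of X.functionField) ⟶ X := X.fromSpecStalk (genericPoint X)
  let φx : X.presheaf.stalk x ⟶ CommRingCat.of R :=
    CommRingCat.ofHom ((algebraMap (X.presheaf.stalk x) X.functionField).codRestrict
      R.toSubring hx1)
  have hφxsub : φx ≫ CommRingCat.ofHom R.subtype =
      X.presheaf.stalkSpecializes ((genericPoint_spec X).specializes trivial) := rfl
  have hφxloc : IsLocalHom φx.hom := by
    constructor
    intro a ha
    by_contra hna
    have hm : a ∈ maximalIdeal (X.presheaf.stalk x) := (mem_maximalIdeal _).2 hna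
    have h1 := hx2 a hm
    have h2 : R.valuation ((φx.hom a : R) : X.functionField) = 1 :=
      (R.valuation_eq_one_iff _).1 ha
    exact absurd h2 (ne_of_lt h1)
  let β : Y.presheaf.stalk y ⟶ CommRingCat.of R :=
    CommRingCat.ofHom ((Y.presheaf.stalkSpecializes hy ≫
      f.stalkMap (genericPoint X)).hom.codRestrict R.toSubring hy1)
  have hβsub : β ≫ CommRingCat.ofHom R.subtype =
      Y.presheaf.stalkSpecializes hy ≫ f.stalkMap (genericPoint X) := rfl
  have hβloc : IsLocalHom β.hom := by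
    constructor
    intro a ha
    by_contra hna
    have hm : a ∈ maximalIdeal (Y.presheaf.stalk y) := (mem_maximalIdeal _).2 hna
    have h1 := hy2 a hm
    have h2 : R.valuation ((β.hom a : R) : X.functionField) = 1 :=
      (R.valuation_eq_one_iff _).1 ha
    exact absurd h2 (ne_of_lt h1)
  let ℓ₁ : Spec (CommRingCat.of R) ⟶ Y := (Spec.map φx ≫ X.fromSpecStalk x) ≫ f
  let ℓ₂ : Spec (CommRingCat.of R) ⟶ Y := Spec.map β ≫ Y.fromSpecStalk y
  have h₁ : Spec.map (CommRingCat.ofHom R.subtype) ≫ ℓ₁ = ζ ≫ f := by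
    change Spec.map (CommRingCat.ofHom R.subtype) ≫ (Spec.map φx ≫ X.fromSpecStalk x) ≫ f = _
    rw [← Category.assoc, ← Spec.map_comp_assoc, hφxsub,
      Scheme.SpecMap_stalkSpecializes_fromSpecStalk]
  have h₂ : Spec.map (CommRingCat.ofHom R.subtype) ≫ ℓ₂ = ζ ≫ f := by
    change Spec.map (CommRingCat.ofHom R.subtype) ≫ Spec.map β ≫ Y.fromSpecStalk y = _
    rw [← Spec.map_comp_assoc, hβsub, Spec.map_comp, Category.assoc,
      Scheme.SpecMap_stalkSpecializes_fromSpecStalk, Scheme.SpecMap_stalkMap_fromSpecStalk]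
  let t : Spec (CommRingCat.of ↥R) ⟶ ⊤_ Scheme := terminal.from _
  have w : (ζ ≫ f) ≫ terminal.from Y =
      Spec.map (CommRingCat.ofHom (algebraMap ↥R ↑X.functionField)) ≫ t :=
    terminal.hom_ext _ _
  let Sq : ValuativeCommSq (terminal.from Y) :=
    { R := ↥R, K := ↑X.functionField, i₁ := ζ ≫ f, i₂ := t, commSq := ⟨w⟩ }
  have hsub : Subsingleton Sq.commSq.LiftStruct :=
    IsSeparated.valuativeCriterion (terminal.from Y) Sq
  have hl := Subsingleton.elim
    (⟨ℓ₁, h₁, terminal.hom_ext _ _⟩ : Sq.commSq.LiftStruct) ⟨ℓ₂, h₂, terminal.hom_ext _ _⟩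
  have hℓ : ℓ₁ = ℓ₂ := congrArg CommSq.LiftStruct.l hl
  have e₁ : ℓ₁.base (closedPoint R) = f.base x := by
    change f.base ((X.fromSpecStalk x).base ((Spec.map φx).base (closedPoint R))) = _
    rw [Spec_closedPoint, Scheme.fromSpecStalk_closedPoint]
  have e₂ : ℓ₂.base (closedPoint R) = y := by
    change (Y.fromSpecStalk y).base ((Spec.map β).base (closedPoint R)) = _
    rw [Spec_closedPoint, Scheme.fromSpecStalk_closedPoint]
  rw [← e₁, hℓ, e₂]

end Groth.Agent.H2.DVRProp
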