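import Groth.Agent.Lib.Helper2.DVRProp2

/-!
# Compatibility of germs and generation of the function field
-/

set_option autoImplicit false

universe u

open CategoryTheory CategoryTheory.Limits AlgebraicGeometry IsLocalRing

namespace Groth.Agent.H2.DVRProp

variable {X Y : Scheme.{u}} [IsIntegral X] [IsIntegral Y] (f : X ⟶ Y)

lemma stalk_germ_compat (y : Y) (hy : f.base (genericPoint X) ⤳ y) (V : Y.Opens) (hyV : y ∈ V)
    (U : X.Opens) (e : U ≤ f ⁻¹ᵁ V) (hξ : genericPoint X ∈ U) (a : Γ(Y, V)) :
    (Y.presheaf.stalkSpecializes hy ≫ f.stalkMap (genericPoint X)).hom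
        ((Y.presheaf.germ V y hyV).hom a) =
      (X.presheaf.germ U (genericPoint X) hξ).hom ((f.appLE V U e).hom a) := by
  have h1 : Y.presheaf.germ V y hyV ≫ Y.presheaf.stalkSpecializes hy ≫
      f.stalkMap (genericPoint X) = f.appLE V U e ≫ X.presheaf.germ U (genericPoint X) hξ := by
    rw [← Category.assoc, TopCat.Presheaf.germ_stalkSpecializes, Scheme.Hom.germ_stalkMap,
      Scheme.Hom.appLE, Category.assoc, TopCat.Presheaf.germ_res]
  exact congrArg (fun q => q.hom a) h1

/-- The function field of `X` is generated, as a field, by the image of `O_{Y,y}` and finitely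
many elements. -/
lemma exists_finset_generating [LocallyOfFiniteType f] (y : Y)
    (hy : f.base (genericPoint X) ⤳ y) (V : Y.Opens) (hV : IsAffineOpen V) (hyV : y ∈ V)
    (U : X.Opens) (hU : IsAffineOpen U) (e : U ≤ f ⁻¹ᵁ V) (hξ : genericPoint X ∈ U) :
    ∃ S : Finset X.functionField, ∀ F : Subfield X.functionField,
      (∀ a : Y.presheaf.stalk y,
        (Y.presheaf.stalkSpecializes hy ≫ f.stalkMap (genericPoint X)).hom a ∈ F) →
      (∀ z ∈ S, z ∈ F) → F = ⊤ := by
  classical
  have hft : (f.appLE V U e).hom.FiniteType :=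
    HasRingHomProperty.appLE @LocallyOfFiniteType f inferInstance ⟨V, hV⟩ ⟨U, hU⟩ e
  letI : Algebra Γ(Y, V) Γ(X, U) := (f.appLE V U e).hom.toAlgebra
  obtain ⟨T, hT⟩ := (show Algebra.FiniteType Γ(Y, V) Γ(X, U) from hft).out
  refine ⟨T.image (X.presheaf.germ U (genericPoint X) hξ).hom, fun F h1 h2 => ?_⟩
  have hall : ∀ b : Γ(X, U), (X.presheaf.germ U (genericPoint X) hξ).hom b ∈ F := by
    intro b
    have hb : b ∈ Algebra.adjoin Γ(Y, V) (T : Set Γ(X, U)) := by rw [hT]; trivial
    induction hb using Algebra.adjoin_induction with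
    | mem x hx => exact h2 _ (Finset.mem_image_of_mem _ hx)
    | algebraMap a =>
      have := stalk_germ_compat f y hy V hyV U e hξ a
      change (X.presheaf.germ U (genericPoint X) hξ).hom ((f.appLE V U e).hom a) ∈ F
      rw [← this]
      exact h1 _
    | add x y _ _ hx hy =>
      rw [map_add]
      exact F.add_mem hx hy
    | mul x y _ _ hx hy =>
      rw [map_mul]
      exact F.mul_mem hx hy
  haveI : Nonempty U := ⟨⟨genericPoint X, hξ⟩⟩
  haveI := functionField_isFractionRing_of_isAffineOpen X U hU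
  rw [eq_top_iff]
  intro z _
  obtain ⟨a, b, _, rfl⟩ := IsFractionRing.div_surjective (A := Γ(X, U)) z
  exact F.div_mem (hall a) (hall b)

end Groth.Agent.H2.DVRProp
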