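import Groth.Agent.Lib.Helper2.DVRProp3
import Groth.Agent.Lib.Helper8.DVRDominate

/-!
# From discrete valuation rings to all valuation rings (locally Noetherian base)
-/

set_option autoImplicit false

universe u

open CategoryTheory CategoryTheory.Limits AlgebraicGeometry IsLocalRing

namespace Groth.Agent.H2.DVRProp

variable {X Y : Scheme.{u}} [IsIntegral X] [IsIntegral Y] (f : X ⟶ Y)

theorem exists_center_of_dvr [Y.IsSeparated] [IsLocallyNoetherian Y] [LocallyOfFiniteType f]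
    [QuasiCompact f]
    (h : ∀ (B : ValuationSubring X.functionField), IsDiscreteValuationRing B →
      ∀ (y : Y) (hy : f.base (genericPoint X) ⤳ y), DominatesY f B y hy → ∃ x : X, Dominates B x)
    (R : ValuationSubring X.functionField) (hRtop : R ≠ ⊤)
    (y : Y) (hy : f.base (genericPoint X) ⤳ y) (hRy : DominatesY f R y hy) :
    ∃ x : X, Dominates R x := by
  classical
  by_contra hno
  push Not at hno
  set ξ : X := genericPoint X with hξdef
  set φy := (Y.presheaf.stalkSpecializes hy ≫ f.stalkMap (genericPoint X)).hom with hφy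
  obtain ⟨hRy1, hRy2⟩ := hRy
  -- an affine neighbourhood of `y`
  obtain ⟨_, ⟨V, hV, rfl⟩, hyV, -⟩ := Y.isBasis_affineOpens.exists_subset_of_mem_open
    (Set.mem_univ y) isOpen_univ
  have hfξV : f.base ξ ∈ V := hy.mem_open V.isOpen hyV
  -- finite affine cover of the preimage
  have hcomp : IsCompact ((f ⁻¹ᵁ V : X.Opens) : Set X) := f.isCompact_preimage hV.isCompact
  obtain ⟨s, hsfin, hs⟩ := isCompact_and_isOpen_iff_finite_and_eq_biUnion_affineOpens.1
    ⟨hcomp, (f ⁻¹ᵁ V).isOpen⟩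
  haveI : Finite s := hsfin.to_subtype
  have hsle : ∀ U ∈ s, (U : X.Opens) ≤ f ⁻¹ᵁ V := by
    intro U hU x hx
    have : x ∈ ((f ⁻¹ᵁ V : X.Opens) : Set X) := by
      rw [hs]
      exact Set.mem_biUnion hU hx
    exact this
  have hcover : ∀ x : X, f.base x ∈ V → ∃ U ∈ s, x ∈ (U : X.Opens) := by
    intro x hx
    have : x ∈ ((f ⁻¹ᵁ V : X.Opens) : Set X) := hx
    rw [hs] at this
    obtain ⟨U, hU, hxU⟩ := Set.mem_iUnion₂.1 this
    exact ⟨U, hU, hxU⟩
  -- elements not in `R`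
  obtain ⟨c₀, hc₀⟩ : ∃ c₀ : X.functionField, c₀ ∉ R := by
    by_contra hall
    push Not at hall
    exact hRtop (eq_top_iff.2 fun z _ => hall z)
  have hex : ∀ U : s, ξ ∈ (U.1 : X.Opens) →
      ∃ b : Γ(X, (U.1 : X.Opens)), ∀ hξ : ξ ∈ (U.1 : X.Opens),
        (X.presheaf.germ (U.1 : X.Opens) ξ hξ).hom b ∉ R := by
    intro U hξ
    by_contra hall
    push Not at hall
    obtain ⟨x, -, hx⟩ := exists_center_of_affine R U.1.1 U.1.2 hξ (fun b => by
      obtain ⟨hξ', hb⟩ := hall b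
      exact hb)
    exact hno x hx
  let c : s → X.functionField := fun U =>
    if hξ : ξ ∈ (U.1 : X.Opens) then
      (X.presheaf.germ (U.1 : X.Opens) ξ hξ).hom (hex U hξ).choose else c₀
  have hc : ∀ U : s, c U ∉ R := by
    intro U
    dsimp only [c]
    split_ifs with hξ
    · exact (hex U hξ).choose_spec hξ
    · exact hc₀
  have hc0 : ∀ U : s, c U ≠ 0 := fun U h0 => hc U (h0 ▸ R.zero_mem)
  have hdR : ∀ U : s, (c U)⁻¹ ∈ R := by
    intro U
    rcases R.mem_or_inv_mem (c U) with h | h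
    · exact absurd h (hc U)
    · exact h
  have hdm : ∀ U : s, (⟨(c U)⁻¹, hdR U⟩ : R) ∈ maximalIdeal R := by
    intro U
    rw [mem_maximalIdeal, mem_nonunits_iff]
    intro hu
    obtain ⟨v, hv⟩ := hu.exists_right_inv
    have h1 : (c U)⁻¹ * (v : X.functionField) = 1 := congrArg Subtype.val hv
    have h2 : (v : X.functionField) = c U := by
      have := eq_inv_of_mul_eq_one_right h1
      rwa [inv_inv] at this
    exact hc U (h2 ▸ v.2)
  -- the polynomial ring
  let ψR : MvPolynomial s (Y.presheaf.stalk y) →+* R :=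
    MvPolynomial.eval₂Hom (φy.codRestrict R.toSubring hRy1) (fun U => ⟨(c U)⁻¹, hdR U⟩)
  let ψ : MvPolynomial s (Y.presheaf.stalk y) →+* X.functionField := R.subtype.comp ψR
  have hψC : ∀ a, ψ (MvPolynomial.C a) = φy a := by
    intro a
    simp [ψ, ψR]
  have hψX : ∀ U : s, ψ (MvPolynomial.X U) = (c U)⁻¹ := by
    intro U
    simp [ψ, ψR]
  let p : Ideal (MvPolynomial s (Y.presheaf.stalk y)) := (maximalIdeal R).comap ψR
  have hp : p.IsPrime := Ideal.comap_isPrime _ _
  -- a member of the cover containing the generic point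
  obtain ⟨U₁, hU₁s, hξU₁⟩ := hcover ξ hfξV
  have hlt : RingHom.ker ψ < p := by
    refine lt_of_le_of_ne (fun q hq => ?_) (fun heq => ?_)
    · rw [RingHom.mem_ker] at hq
      change ψR q ∈ maximalIdeal R
      have : ψR q = 0 := Subtype.ext hq
      rw [this]
      exact Ideal.zero_mem _
    · have h1 : (MvPolynomial.X ⟨U₁, hU₁s⟩ : MvPolynomial s (Y.presheaf.stalk y)) ∈ p := by
        change ψR (MvPolynomial.X ⟨U₁, hU₁s⟩) ∈ maximalIdeal R
        have : ψR (MvPolynomial.X ⟨U₁, hU₁s⟩) = ⟨(c ⟨U₁, hU₁s⟩)⁻¹, hdR _⟩ := by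
          simp [ψR]
        rw [this]
        exact hdm _
      rw [← heq, RingHom.mem_ker, hψX] at h1
      exact hc0 _ (inv_eq_zero.1 h1)
  obtain ⟨S, hS⟩ := exists_finset_generating f y hy V hV hyV U₁.1 U₁.2 (hsle U₁ hU₁s) hξU₁
  have hgen : Subfield.closure (Set.range ψ ∪ (S : Set X.functionField)) = ⊤ := by
    apply hS
    · intro a
      exact Subfield.subset_closure (Or.inl ⟨MvPolynomial.C a, hψC a⟩)
    · intro z hz
      exact Subfield.subset_closure (Or.inr hz)
  obtain ⟨B, hBdvr, hB, hcomap⟩ :=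
    Groth.Agent.H8.KA.exists_dvr_valuationSubring_of_lt ψ p hlt S hgen
  have hmemB : ∀ q, q ∈ p ↔ (⟨ψ q, hB q⟩ : B) ∈ maximalIdeal B := by
    intro q
    rw [← hcomap]
    rfl
  -- `B` dominates `O_{Y,y}`
  have hBy : DominatesY f B y hy := by
    refine ⟨fun a => ?_, fun a ha => ?_⟩
    · change φy a ∈ B
      rw [← hψC]
      exact hB _
    · change B.valuation (φy a) < 1
      have h1 : MvPolynomial.C a ∈ p := by
        change ψR (MvPolynomial.C a) ∈ maximalIdeal R
        have : ψR (MvPolynomial.C a) = ⟨φy a, hRy1 a⟩ := by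
          apply Subtype.ext
          simp [ψR]
        rw [this]
        exact (R.valuation_lt_one_iff _).2 (hRy2 a ha)
      have h2 := (hmemB _).1 h1
      have h3 : B.valuation (ψ (MvPolynomial.C a)) < 1 := (B.valuation_lt_one_iff _).1 h2
      rwa [hψC] at h3
  obtain ⟨x, hx⟩ := h B hBdvr y hy hBy
  have hfx : f.base x = y := eq_of_dominates f B x hx y hy hBy
  obtain ⟨U, hUs, hxU⟩ := hcover x (hfx ▸ hyV)
  have hξU : ξ ∈ (U : X.Opens) :=
    ((genericPoint_spec X).specializes trivial : ξ ⤳ x).mem_open U.1.isOpen hxU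
  -- the contradiction
  have hcB : c ⟨U, hUs⟩ ∈ B := by
    dsimp only [c]
    rw [dif_pos hξU]
    have := hx.1 ((X.presheaf.germ (U : X.Opens) x hxU).hom (hex ⟨U, hUs⟩ hξU).choose)
    have e : algebraMap (X.presheaf.stalk x) X.functionField
        ((X.presheaf.germ (U : X.Opens) x hxU).hom (hex ⟨U, hUs⟩ hξU).choose) =
        (X.presheaf.germ (U : X.Opens) ξ hξU).hom (hex ⟨U, hUs⟩ hξU).choose := by
      have h1 := TopCat.Presheaf.germ_stalkSpecializes X.presheaf hxU
        ((genericPoint_spec X).specializes trivial : ξ ⤳ x)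
      exact congrArg (fun q => q.hom (hex ⟨U, hUs⟩ hξU).choose) h1
    rw [e] at this
    exact this
  have hXp : (MvPolynomial.X ⟨U, hUs⟩ : MvPolynomial s (Y.presheaf.stalk y)) ∈ p := by
    change ψR (MvPolynomial.X ⟨U, hUs⟩) ∈ maximalIdeal R
    have : ψR (MvPolynomial.X ⟨U, hUs⟩) = ⟨(c ⟨U, hUs⟩)⁻¹, hdR _⟩ := by
      simp [ψR]
    rw [this]
    exact hdm _
  have hdB := (hmemB _).1 hXp
  rw [mem_maximalIdeal, mem_nonunits_iff] at hdB
  apply hdB
  refine IsUnit.of_mul_eq_one (⟨c ⟨U, hUs⟩, hcB⟩ : B) ?_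
  apply Subtype.ext
  change ψ (MvPolynomial.X ⟨U, hUs⟩) * c ⟨U, hUs⟩ = 1
  rw [hψX]
  exact inv_mul_cancel₀ (hc0 _)

end Groth.Agent.H2.DVRProp
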