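import Mathlib.Algebra.Homology.HomotopyCategory.DegreewiseSplit

set_option autoImplicit false
universe v u
open CategoryTheory CategoryTheory.Limits CochainComplex HomComplex

namespace Groth.Agent.H2.DegSplit

variable {V : Type u} [Category.{v} V] [Preadditive V]
  (S : ShortComplex (CochainComplex V ℤ))
  (σ : ∀ n : ℤ, (S.map (HomologicalComplex.eval V (ComplexShape.up ℤ) n)).Splitting)

/-- typed retraction -/
def r (n : ℤ) : S.X₂.X n ⟶ S.X₁.X n := (σ n).r
/-- typed section -/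
def s (n : ℤ) : S.X₃.X n ⟶ S.X₂.X n := (σ n).s

theorem f_r (n : ℤ) : S.f.f n ≫ r S σ n = 𝟙 (S.X₁.X n) := (σ n).f_r
theorem s_g (n : ℤ) : s S σ n ≫ S.g.f n = 𝟙 (S.X₃.X n) := (σ n).s_g
theorem id_eq (n : ℤ) : r S σ n ≫ S.f.f n + S.g.f n ≫ s S σ n = 𝟙 (S.X₂.X n) := (σ n).id
theorem r_f (n : ℤ) : r S σ n ≫ S.f.f n = 𝟙 (S.X₂.X n) - S.g.f n ≫ s S σ n := by
  rw [← id_eq S σ n, add_sub_cancel_right]
theorem g_s (n : ℤ) : S.g.f n ≫ s S σ n = 𝟙 (S.X₂.X n) - r S σ n ≫ S.f.f n := by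
  rw [← id_eq S σ n, add_sub_cancel_left]

/-- The termwise retractions as a 0-cochain. -/
def rho : Cochain S.X₂ S.X₁ 0 := Cochain.ofHoms (r S σ)

/-- The termwise sections as a 0-cochain. -/
def sig : Cochain S.X₃ S.X₂ 0 := Cochain.ofHoms (s S σ)

/-- Minus the connecting 1-cocycle. -/
def tau : Cochain S.X₃ S.X₁ 1 := -Cochain.mk (fun p q _ => s S σ p ≫ S.X₂.d p q ≫ r S σ q)

theorem tau_eq : tau S σ = -(cocycleOfDegreewiseSplit S σ).1 := rfl

theorem δ_tau : δ 1 2 (tau S σ) = 0 := by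
  rw [tau_eq, δ_neg, Cocycle.δ_eq_zero, neg_zero]

theorem rho_f_add_g_sig :
    (rho S σ).comp (Cochain.ofHom S.f) (zero_add 0) + (Cochain.ofHom S.g).comp (sig S σ) (zero_add 0) =
      Cochain.ofHom (𝟙 S.X₂) := by
  ext p
  simp only [Cochain.add_v, Cochain.comp_zero_cochain_v, rho, sig, Cochain.ofHoms_v, Cochain.ofHom_v,
    HomologicalComplex.id_f]
  exact id_eq S σ p

theorem δ_rho : δ 0 1 (rho S σ) = (Cochain.ofHom S.g).comp (tau S σ) (zero_add 1) := by
  ext p q hpq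
  simp only [δ_zero_cochain_v, rho, Cochain.ofHoms_v, Cochain.zero_cochain_comp_v, Cochain.ofHom_v, tau,
    Cochain.neg_v, Cochain.mk_v, Preadditive.comp_neg]
  rw [← Category.assoc, g_s, Preadditive.sub_comp, Category.id_comp, Category.assoc, ← Category.assoc (S.f.f p),
    S.f.comm, Category.assoc, f_r, Category.comp_id]
  abel

theorem δ_sig : δ 0 1 (sig S σ) = -(tau S σ).comp (Cochain.ofHom S.f) (add_zero 1) := by
  ext p q hpq
  simp only [δ_zero_cochain_v, sig, Cochain.ofHoms_v, Cochain.comp_zero_cochain_v, Cochain.ofHom_v, tau,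
    Cochain.neg_v, Cochain.mk_v, Preadditive.neg_comp, neg_neg,
    Category.assoc]
  rw [r_f, Preadditive.comp_sub, Preadditive.comp_sub, Category.comp_id, ← S.g.comm_assoc, ← Category.assoc,
    s_g, Category.id_comp]

theorem exists_lift_of_homotopy
    (σ : ∀ n : ℤ, (S.map (HomologicalComplex.eval V (ComplexShape.up ℤ) n)).Splitting)
    {B₁ : CochainComplex V ℤ} (b : B₁ ⟶ S.X₂)
    (H : Homotopy (b ≫ S.g) 0) :
    ∃ u : B₁ ⟶ S.X₁, Nonempty (Homotopy b (u ≫ S.f)) := by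
  have hH : δ (-1) 0 (Cochain.ofHomotopy H) = (Cochain.ofHom b).comp (Cochain.ofHom S.g) (zero_add 0) := by
    rw [δ_ofHomotopy, Cochain.ofHom_zero, sub_zero, Cochain.ofHom_comp]
  have hu : δ 0 1 ((Cochain.ofHom b).comp (rho S σ) (zero_add 0) +
      (Cochain.ofHomotopy H).comp (tau S σ) (neg_add_cancel 1)) = 0 := by
    rw [δ_add, δ_ofHom_comp, δ_rho,
      δ_comp (Cochain.ofHomotopy H) (tau S σ) (neg_add_cancel 1) 0 2 1 (zero_add 1) (neg_add_cancel 1) (by norm_num),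
      δ_tau, Cochain.comp_zero, zero_add, hH, Cochain.comp_assoc_of_first_is_zero_cochain]
    simp
  let u : B₁ ⟶ S.X₁ := Cocycle.homOf (Cocycle.mk _ 1 (zero_add 1) hu)
  have hu' : Cochain.ofHom u = (Cochain.ofHom b).comp (rho S σ) (zero_add 0) +
      (Cochain.ofHomotopy H).comp (tau S σ) (neg_add_cancel 1) :=
    Cocycle.cochain_ofHom_homOf_eq_coe _
  refine ⟨u, ⟨(Cochain.equivHomotopy b (u ≫ S.f)).symm
    ⟨(Cochain.ofHomotopy H).comp (sig S σ) (add_zero (-1)), ?_⟩⟩⟩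
  rw [δ_comp_zero_cochain _ _ _ (neg_add_cancel 1), δ_sig, hH, Cochain.ofHom_comp, hu',
    Cochain.add_comp, Cochain.comp_neg, Cochain.comp_assoc_of_first_is_zero_cochain,
    Cochain.comp_assoc_of_first_is_zero_cochain, Cochain.comp_assoc_of_third_is_zero_cochain]
  have key := congrArg (fun z => (Cochain.ofHom b).comp z (zero_add 0)) (rho_f_add_g_sig S σ)
  simp only [Cochain.comp_add, Cochain.comp_id] at key
  conv_lhs => rw [← key]
  abel


end Groth.Agent.H2.DegSplit
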