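import Mathlib.RingTheory.Depth.Rees
import Mathlib.RingTheory.Regular.Flat
import Mathlib.RingTheory.Flat.FaithfullyFlat.Algebra
import Groth.Prelude.Def_CAlg

/-! Depth and (faithfully) flat base change, via the Rees theorem. -/

universe u

namespace Groth.Agent.H2

open RingTheory.Sequence CategoryTheory Abelian Pointwise

section Step

variable {R : Type u} [CommRing R]

lemma smul_top_quotSMulTop_ne_top {M : Type*} [AddCommGroup M]
    [Module R M] {I : Ideal R} {r : R} (hr : r ∈ I)
    (hI : I • (⊤ : Submodule R M) ≠ ⊤) :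
    I • (⊤ : Submodule R (QuotSMulTop r M)) ≠ ⊤ := by
  by_contra eq
  absurd congrArg (Submodule.comap (Submodule.mkQ _)) eq
  simpa [Submodule.comap_smul_top_of_surjective I _ (Submodule.mkQ_surjective _),
    Submodule.smul_mono_left ((Ideal.span_singleton_le_iff_mem I).mpr hr),
    ← Submodule.ideal_span_singleton_smul] using hI

/-- If `M` has a regular sequence of length `n+1` in `I` and `a ∈ I` is `M`-regular, then
`M/aM` has a regular sequence of length `n` in `I`. -/
lemma exists_isRegular_quotSMulTop [IsNoetherianRing R] {I : Ideal R} (M : Type u) [AddCommGroup M]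
    [Module R M] [Module.Finite R M]
    (hI : I • (⊤ : Submodule R M) ≠ ⊤) (n : ℕ)
    (h : ∃ rs : List R, rs.length = n + 1 ∧ (∀ r ∈ rs, r ∈ I) ∧ IsRegular M rs)
    {a : R} (ha : a ∈ I) (hreg : IsSMulRegular M a) :
    ∃ rs : List R, rs.length = n ∧ (∀ r ∈ rs, r ∈ I) ∧ IsRegular (QuotSMulTop a M) rs := by
  have h1 := ModuleCat.exists_isRegular_tfae I (n + 1) (ModuleCat.of R M) hI.lt_top
  have h2 := ModuleCat.exists_isRegular_tfae I n (ModuleCat.of R (QuotSMulTop a M))
    (smul_top_quotSMulTop_ne_top ha hI).lt_top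
  have h_ext := (h1.out 3 1).mp h
  refine (h2.out 1 3).mp ?_
  intro i hi
  have hreg' : IsSMulRegular (ModuleCat.of R M) a := hreg
  have zero1 := AddCommGrpCat.isZero_of_iff_subsingleton.mpr (h_ext i (by omega))
  have zero2 := AddCommGrpCat.isZero_of_iff_subsingleton.mpr (h_ext (i + 1) (by omega))
  exact AddCommGrpCat.subsingleton_of_isZero <| ShortComplex.Exact.isZero_of_both_zeros
    ((Ext.covariant_sequence_exact₃' _ hreg'.smulShortComplex_shortExact) i (i + 1) rfl)
    (zero1.eq_zero_of_src _) (zero2.eq_zero_of_tgt _)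

end Step

open scoped TensorProduct

/-- Over a Noetherian ring, a finite module either has a regular element in `I` or a nonzero
element killed by `I`. -/
lemma exists_isSMulRegular_or_exists_ne_zero {R : Type u} [CommRing R] [IsNoetherianRing R]
    (I : Ideal R) (M : Type u) [AddCommGroup M] [Module R M] [Module.Finite R M] :
    (∃ a ∈ I, IsSMulRegular M a) ∨ ∃ m : M, m ≠ 0 ∧ ∀ a ∈ I, a • m = 0 := by
  by_cases h : ∃ a ∈ I, IsSMulRegular M a
  · exact Or.inl h
  · right
    have h2 : ¬ Subsingleton ((R ⧸ I) →ₗ[R] M) := by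
      rw [IsSMulRegular.subsingleton_linearMap_iff, Ideal.annihilator_quotient]
      exact h
    rw [not_subsingleton_iff_nontrivial] at h2
    obtain ⟨f, hf⟩ := exists_ne (0 : (R ⧸ I) →ₗ[R] M)
    refine ⟨f 1, ?_, ?_⟩
    · intro h0
      apply hf
      ext
      simpa using h0
    · intro a ha
      rw [← map_smul]
      have : a • (1 : R ⧸ I) = 0 := by
        rw [Algebra.smul_def, mul_one]
        exact Ideal.Quotient.eq_zero_iff_mem.mpr ha
      rw [this, map_zero]

lemma IsBaseChange.injective_of_faithfullyFlat {A B : Type*} [CommRing A] [CommRing B] [Algebra A B]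
    [Module.FaithfullyFlat A B] {M N : Type*} [AddCommGroup M] [Module A M] [AddCommGroup N]
    [Module A N] [Module B N] [IsScalarTower A B N] {f : M →ₗ[A] N} (hf : IsBaseChange B f) :
    Function.Injective f := by
  have : ⇑f = hf.equiv ∘ TensorProduct.mk A B M 1 := by
    ext m
    simp [IsBaseChange.equiv_tmul]
  rw [this]
  exact hf.equiv.injective.comp (Module.FaithfullyFlat.tensorProduct_mk_injective M)

lemma IsBaseChange.finite' {A B : Type*} [CommRing A] [CommRing B] [Algebra A B]
    {M N : Type*} [AddCommGroup M] [Module A M] [AddCommGroup N]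
    [Module A N] [Module B N] [IsScalarTower A B N] {f : M →ₗ[A] N} (hf : IsBaseChange B f)
    [Module.Finite A M] : Module.Finite B N :=
  Module.Finite.equiv hf.equiv

theorem exists_isRegular_of_faithfullyFlat {A B : Type u} [CommRing A] [CommRing B]
    [IsNoetherianRing A] [IsNoetherianRing B] [Algebra A B] [Module.FaithfullyFlat A B]
    (I : Ideal A) (n : ℕ) :
    ∀ (M : Type u) [AddCommGroup M] [Module A M] [Module.Finite A M] (N : Type u) [AddCommGroup N]
      [Module A N] [Module B N] [IsScalarTower A B N] (f : M →ₗ[A] N) (_ : IsBaseChange B f),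
      I • (⊤ : Submodule A M) ≠ ⊤ →
      (∃ ts : List B, ts.length = n ∧ (∀ t ∈ ts, t ∈ I.map (algebraMap A B)) ∧ IsRegular N ts) →
      ∃ rs : List A, rs.length = n ∧ (∀ r ∈ rs, r ∈ I) ∧ IsRegular M rs := by
  induction n with
  | zero =>
    intro M _ _ _ N _ _ _ _ f hf hI _
    have : Nontrivial M := by
      by_contra hM
      rw [not_nontrivial_iff_subsingleton] at hM
      exact hI (Subsingleton.elim _ _)
    exact ⟨[], rfl, by simp, by simp [isRegular_iff]⟩
  | succ n ih =>
    intro M _ _ _ N _ _ _ _ f hf hI hts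
    have hfinN : Module.Finite B N := IsBaseChange.finite' hf
    have hJ : I.map (algebraMap A B) • (⊤ : Submodule B N) ≠ ⊤ :=
      (hf.map_smul_top_ne_top_iff_of_faithfullyFlat A M I).mpr hI
    -- find a regular element
    have hreg : ∃ a ∈ I, IsSMulRegular M a := by
      rcases exists_isSMulRegular_or_exists_ne_zero I M with h | ⟨m, hm, hIm⟩
      · exact h
      · exfalso
        obtain ⟨ts, hlen, hmem, hregts⟩ := hts
        match ts, hlen with
        | t :: ts', _ =>
          have ht : t ∈ I.map (algebraMap A B) := hmem t List.mem_cons_self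
          have htreg : IsSMulRegular N t := ((isRegular_cons_iff N t ts').mp hregts).1
          have hfm : f m ≠ 0 := fun h0 =>
            hm (IsBaseChange.injective_of_faithfullyFlat hf (h0.trans (map_zero f).symm))
          have hkill : ∀ t ∈ I.map (algebraMap A B), t • f m = 0 := by
            intro t ht
            refine Submodule.span_induction (p := fun t _ => t • f m = 0) ?_ ?_ ?_ ?_ ht
            · rintro _ ⟨a, ha, rfl⟩
              rw [algebraMap_smul, ← map_smul, hIm a ha, map_zero]
            · simp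
            · intro x y _ _ hx hy
              rw [add_smul, hx, hy, add_zero]
            · intro b x _ hx
              rw [smul_eq_mul, mul_smul, hx, smul_zero]
          exact hfm (htreg (by simp only [hkill t ht, smul_zero]))
    obtain ⟨a, haI, hareg⟩ := hreg
    have haJ : algebraMap A B a ∈ I.map (algebraMap A B) := Ideal.mem_map_of_mem _ haI
    have hareg' : IsSMulRegular N (algebraMap A B a) := hareg.of_flat_of_isBaseChange hf
    obtain ⟨ts', hlen', hmem', hreg'⟩ := exists_isRegular_quotSMulTop N hJ n hts haJ hareg'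
    have e := (QuotSMulTop.algebraMapTensorEquivTensorQuotSMulTop a M B).symm ≪≫ₗ
      QuotSMulTop.congr ((algebraMap A B) a) hf.equiv
    have hg : IsBaseChange B <|
        e.toLinearMap.restrictScalars A ∘ₗ TensorProduct.mk A B (QuotSMulTop a M) 1 :=
      IsBaseChange.of_equiv e (fun _ ↦ by simp)
    obtain ⟨rs, hrl, hrm, hrr⟩ := ih (QuotSMulTop a M) (QuotSMulTop (algebraMap A B a) N) _ hg
      (smul_top_quotSMulTop_ne_top haI hI) ⟨ts', hlen', hmem', hreg'⟩
    refine ⟨a :: rs, by simp [hrl], ?_, ?_⟩
    · intro r hr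
      rcases List.mem_cons.mp hr with rfl | hr
      · exact haI
      · exact hrm r hr
    · exact (isRegular_cons_iff M a rs).mpr ⟨hareg, hrr⟩

lemma map_smul_top_eq_top_of_smul_top_eq_top {A B : Type*} [CommRing A] [CommRing B] [Algebra A B]
    (I : Ideal A) (M : Type*) [AddCommGroup M] [Module A M]
    (h : I • (⊤ : Submodule A M) = ⊤) :
    I.map (algebraMap A B) • (⊤ : Submodule B (B ⊗[A] M)) = ⊤ := by
  rw [eq_top_iff]
  have key : ∀ x : B ⊗[A] M, x ∈ I.map (algebraMap A B) • (⊤ : Submodule B (B ⊗[A] M)) := by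
    intro x
    induction x using TensorProduct.induction_on with
    | zero => exact Submodule.zero_mem _
    | add x y hx hy => exact Submodule.add_mem _ hx hy
    | tmul b m =>
      have hm : m ∈ I • (⊤ : Submodule A M) := by rw [h]; exact Submodule.mem_top
      refine Submodule.smul_induction_on hm ?_ ?_
      · intro a ha m' _
        have : b ⊗ₜ[A] (a • m') = algebraMap A B a • (b ⊗ₜ[A] m') := by
          rw [TensorProduct.tmul_smul, algebraMap_smul]
        rw [this]
        exact Submodule.smul_mem_smul (Ideal.mem_map_of_mem _ ha) Submodule.mem_top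
      · intro x y hx hy
        rw [TensorProduct.tmul_add]
        exact Submodule.add_mem _ hx hy
  exact fun x _ => key x

theorem idealDepth_le_of_flat {A B : Type u} [CommRing A] [CommRing B] [Algebra A B]
    [Module.Flat A B] (I : Ideal A) (M : Type u) [AddCommGroup M] [Module A M] :
    LocCoh.idealDepth I M ≤ LocCoh.idealDepth (I.map (algebraMap A B)) (B ⊗[A] M) := by
  unfold LocCoh.idealDepth
  split_ifs with h1 h2 h2
  · exact le_rfl
  · exact absurd (map_smul_top_eq_top_of_smul_top_eq_top I M h1) h2
  · exact le_top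
  · refine iSup₂_le fun rs hrs => ?_
    refine le_iSup₂_of_le (rs.map (algebraMap A B))
      ⟨hrs.1.of_flat_of_isBaseChange (TensorProduct.isBaseChange A M B), ?_⟩ (by simp)
    intro r hr
    obtain ⟨a, ha, rfl⟩ := List.mem_map.mp hr
    exact Ideal.mem_map_of_mem _ (hrs.2 a ha)

theorem idealDepth_eq_of_faithfullyFlat {A B : Type u} [CommRing A] [CommRing B] [Algebra A B]
    [IsNoetherianRing A] [IsNoetherianRing B] [Module.FaithfullyFlat A B] (I : Ideal A)
    (M : Type u) [AddCommGroup M] [Module A M] [Module.Finite A M] :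
    LocCoh.idealDepth (I.map (algebraMap A B)) (B ⊗[A] M) = LocCoh.idealDepth I M := by
  apply le_antisymm _ (idealDepth_le_of_flat I M)
  unfold LocCoh.idealDepth
  have hiff := ((TensorProduct.isBaseChange A M B).map_smul_top_ne_top_iff_of_faithfullyFlat A M I)
  split_ifs with h1 h2 h2
  · exact le_rfl
  · exact absurd h1 (hiff.mpr h2)
  · exact le_top
  · refine iSup₂_le fun ts hts => ?_
    have hreg : IsRegular (B ⊗[A] M) ts := by
      refine ⟨hts.1, fun h => h1 ?_⟩
      have hle : Ideal.ofList ts ≤ I.map (algebraMap A B) :=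
        Ideal.span_le.mpr fun t ht => hts.2 t ht
      have h3 : Ideal.ofList ts • (⊤ : Submodule B (B ⊗[A] M)) ≤
          I.map (algebraMap A B) • (⊤ : Submodule B (B ⊗[A] M)) := Submodule.smul_mono_left hle
      exact eq_top_iff.mpr (h.le.trans h3)
    obtain ⟨rs, hl, hm, hr⟩ := exists_isRegular_of_faithfullyFlat I ts.length M (B ⊗[A] M)
      (TensorProduct.mk A B M 1) (TensorProduct.isBaseChange A M B) h2 ⟨ts, rfl, hts.2, hreg⟩
    exact le_iSup₂_of_le rs ⟨hr.1, hm⟩ (by simp [hl])

end Groth.Agent.H2
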