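import Mathlib
import Groth.Agent.Lib.Helper2.DepthRes8

/-!
# The `S₂` locus of a coherent module with full support (helper2): S5861
-/

set_option autoImplicit false
set_option linter.style.haveILetI false
universe u
open CategoryTheory Limits AlgebraicGeometry TopologicalSpace Opposite IsLocalRing

namespace Groth.Agent.H2.DepthRes

open Groth.Agent.LD.QC ZClos Groth.Agent.H3.ZClosStalk

section Alg

/-- the support of a localized module contains the primes lying over the support -/
theorem mem_support_of_isLocalizedModule {A : Type*} [CommRing A] (S : Submonoid A)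
    {R : Type*} [CommRing R] [Algebra A R] [IsLocalization S R]
    {N M : Type*} [AddCommGroup N] [Module A N] [AddCommGroup M] [Module A M] [Module R M]
    [IsScalarTower A R M] (f : N →ₗ[A] M) [IsLocalizedModule S f] (p : PrimeSpectrum R)
    (h : PrimeSpectrum.comap (algebraMap A R) p ∈ Module.support A N) :
    p ∈ Module.support R M := by
  rw [Module.mem_support_iff'] at h ⊢
  obtain ⟨n, hn⟩ := h
  refine ⟨f n, ?_⟩
  intro r hr hrn
  obtain ⟨⟨a, s⟩, has⟩ := IsLocalization.surj S r
  have hunit : IsUnit (algebraMap A R s) := IsLocalization.map_units R s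
  have ha : a ∉ (PrimeSpectrum.comap (algebraMap A R) p).asIdeal := by
    intro ha
    have ha' : algebraMap A R a ∈ p.asIdeal := ha
    rw [← has] at ha'
    rcases p.2.mem_or_mem ha' with h1 | h1
    · exact hr h1
    · exact p.2.ne_top (Ideal.eq_top_of_isUnit_mem _ h1 hunit)
  have h0 : f (a • n) = 0 := by
    rw [map_smul, ← algebraMap_smul R a (f n), ← has, mul_comm, mul_smul, hrn, smul_zero]
  obtain ⟨t, ht⟩ := (IsLocalizedModule.eq_zero_iff S f).mp h0
  have hts : (t : A) ∉ (PrimeSpectrum.comap (algebraMap A R) p).asIdeal := by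
    intro h1
    have h1' : algebraMap A R t ∈ p.asIdeal := h1
    exact p.2.ne_top (Ideal.eq_top_of_isUnit_mem _ h1' (IsLocalization.map_units R t))
  have hta : (t : A) * a ∉ (PrimeSpectrum.comap (algebraMap A R) p).asIdeal := by
    intro h1
    rcases (PrimeSpectrum.comap (algebraMap A R) p).2.mem_or_mem h1 with h2 | h2
    · exact hts h2
    · exact ha h2
  apply hn _ hta
  rw [mul_smul]
  exact ht

end Alg

variable {X : Scheme.{u}}

/-- a quasi-coherent module all of whose stalks are nontrivial has full support on affine charts -/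
theorem mem_support_sections (F : X.Modules) [F.IsQuasicoherent]
    (hsupp : ∀ x : X, Nontrivial (F.presheaf.stalk x)) {W : X.Opens} (hW : IsAffineOpen W)
    (q : PrimeSpectrum Γ(X, W)) : q ∈ Module.support Γ(X, W) Γ(F, W) := by
  have hy : hW.fromSpec q ∈ W := by
    have h1 : hW.fromSpec q ∈ hW.fromSpec.opensRange := ⟨q, rfl⟩
    rw [hW.opensRange_fromSpec] at h1
    exact h1
  have hq : hW.primeIdealOf ⟨hW.fromSpec q, hy⟩ = q := by
    apply hW.fromSpec.isOpenEmbedding.injective
    exact hW.fromSpec_primeIdealOf ⟨hW.fromSpec q, hy⟩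
  letI := stalkΓModule F (hW.fromSpec q) W hy
  haveI hloc := isLocalizedModule_germ F hW (hW.fromSpec q) hy
  rw [hq] at hloc
  rw [Module.mem_support_iff]
  haveI := hsupp (hW.fromSpec q)
  exact (IsLocalizedModule.iso q.asIdeal.primeCompl
    (germLinear F (hW.fromSpec q) W hy)).toEquiv.nontrivial

/-- full support on stalks -/
theorem supportDim_stalk_eq [IsLocallyNoetherian X] (F : X.Modules) [F.IsQuasicoherent]
    (hsupp : ∀ x : X, Nontrivial (F.presheaf.stalk x)) (x : X) :
    Module.supportDim (X.presheaf.stalk x) (F.presheaf.stalk x) =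
      ringKrullDim (X.presheaf.stalk x) := by
  obtain ⟨W, hW, hxW, -⟩ := exists_isAffineOpen_mem_and_subset (x := x) (U := ⊤) trivial
  letI algBA : Algebra Γ(X, W) (X.presheaf.stalk x) :=
    TopCat.Presheaf.algebra_section_stalk X.presheaf ⟨x, hxW⟩
  haveI hloc := hW.isLocalization_stalk ⟨x, hxW⟩
  letI mB := stalkΓModule F x W hxW
  haveI tower : IsScalarTower Γ(X, W) (X.presheaf.stalk x) (F.presheaf.stalk x) :=
    ⟨fun r a m => by
      change (X.presheaf.germ W x hxW r * a) • m = X.presheaf.germ W x hxW r • (a • m)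
      rw [mul_smul]⟩
  haveI hlm := isLocalizedModule_germ F hW x hxW
  have hall : Module.support (X.presheaf.stalk x) (F.presheaf.stalk x) = Set.univ := by
    apply Set.eq_univ_of_forall
    intro p
    exact mem_support_of_isLocalizedModule (hW.primeIdealOf ⟨x, hxW⟩).asIdeal.primeCompl
      (germLinear F x W hxW) p (mem_support_sections F hsupp hW _)
  unfold Module.supportDim ringKrullDim
  rw [hall]
  exact Order.krullDim_eq_of_orderIso (OrderIso.Set.univ)

end Groth.Agent.H2.DepthRes

namespace Groth.Agent.H2.DepthRes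

open Groth.Agent.LD.QC ZClos Groth.Agent.H3.ZClosStalk

variable {X : Scheme.{u}}

/-- **S5861** -/
theorem s5861 [IsLocallyNoetherian X] (F : X.Modules) (hF : Coh.IsCoh F)
    (hsupp : ∀ x : X, Nontrivial (F.presheaf.stalk x))
    (hass : ∀ x ∈ _root_.AssSch.Ass F, ringKrullDim (X.presheaf.stalk x) ≠ 1)
    (hH : Coh.IsCoh ((ZClos.H0 (ZClos.dimGe X 2)).obj F)) :
    IsOpen {x : X | ∀ x' : X, x' ⤳ x →
        min (2 : WithBot ℕ∞) (Module.supportDim (X.presheaf.stalk x') (F.presheaf.stalk x')) ≤
          ((LocCoh.depth (X.presheaf.stalk x') (F.presheaf.stalk x') : ℕ∞) : WithBot ℕ∞)} ∧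
      ∀ x : X, (¬ ∀ x' : X, x' ⤳ x →
        min (2 : WithBot ℕ∞) (Module.supportDim (X.presheaf.stalk x') (F.presheaf.stalk x')) ≤
          ((LocCoh.depth (X.presheaf.stalk x') (F.presheaf.stalk x') : ℕ∞) : WithBot ℕ∞)) →
        (2 : WithBot ℕ∞) ≤ ringKrullDim (X.presheaf.stalk x) := by
  have hZ := stableUnderSpecialization_dimGe X 2
  haveI hFq : F.IsQuasicoherent := hF.1
  obtain ⟨U, hU, hUc, -, -⟩ := s5859 (ZClos.dimGe X 2) hZ F hF hH
  have hset : {x : X | ∀ x' : X, x' ⤳ x →
      min (2 : WithBot ℕ∞) (Module.supportDim (X.presheaf.stalk x') (F.presheaf.stalk x')) ≤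
        ((LocCoh.depth (X.presheaf.stalk x') (F.presheaf.stalk x') : ℕ∞) : WithBot ℕ∞)} =
      (U : Set X) := by
    rw [hU]
    ext x
    constructor
    · intro h x' hsp hx'Z
      have h1 := h x' hsp
      rw [supportDim_stalk_eq F hsupp x'] at h1
      have hx'Z' : (2 : WithBot ℕ∞) ≤ ringKrullDim (X.presheaf.stalk x') := hx'Z
      rw [min_eq_left hx'Z'] at h1
      exact WithBot.coe_le_coe.mp h1
    · intro h x' hsp
      by_cases hx'Z : x' ∈ ZClos.dimGe X 2
      · exact (min_le_left _ _).trans (WithBot.coe_le_coe.mpr (h x' hsp hx'Z))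
      · haveI := hsupp x'
        haveI : Module.Finite (X.presheaf.stalk x') (F.presheaf.stalk x') :=
          Groth.Agent.H1.CohLen.finite_stalk F hF.2 x'
        exact s2_of_dim_le_one hx'Z (fun ha => hass x' ha)
  constructor
  · rw [hset]
    exact U.2
  · intro x hx
    have hxU : x ∉ (U : Set X) := by
      rw [← hset]
      exact hx
    exact hUc hxU

end Groth.Agent.H2.DepthRes
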