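import Mathlib
open CategoryTheory Limits

namespace Groth.Agent.H2.DerivedExact
universe v u v' u'
variable {C : Type u} [Category.{v} C] [Abelian C] [HasProjectiveResolutions C]
  {D : Type u'} [Category.{v'} D] [Abelian D]

lemma isZero_leftDerived_succ_of_preservesHomology (F : C ⥤ D) [F.Additive] [F.PreservesHomology]
    (n : ℕ) (X : C) : IsZero ((F.leftDerived (n+1)).obj X) := by
  let P := projectiveResolution X
  refine IsZero.of_iso ?_ (P.isoLeftDerivedObj F (n+1))
  erw [← HomologicalComplex.exactAt_iff_isZero_homology]
  have := P.complex_exactAt_succ n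
  rw [HomologicalComplex.exactAt_iff] at this ⊢
  exact this.map F

end Groth.Agent.H2.DerivedExact
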