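import Mathlib
import Groth.Agent.Lib.Helper2.DimFG

/-! Krull dimension of finitely generated algebras over a field is invariant under extension of
the base field (helper2). -/

set_option autoImplicit false
set_option linter.style.haveILetI false
universe u v w
open TensorProduct

namespace Groth.Agent.H2.DimBC

open Groth.Agent.H2.DimFG

/-- **the Krull dimension of a finitely generated algebra over a field is invariant under
extension of the base field.** -/
theorem ringKrullDim_tensorProduct (k : Type u) (K : Type v) (A : Type w) [Field k] [Field K]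
    [Algebra k K] [CommRing A] [Algebra k A] [Algebra.FiniteType k A] :
    ringKrullDim (K ⊗[k] A) = ringKrullDim A := by
  rcases subsingleton_or_nontrivial A with hA | hA
  · haveI : Subsingleton (K ⊗[k] A) := by
      refine ⟨fun x y => ?_⟩
      have h1 : ∀ z : K ⊗[k] A, z = 0 := by
        intro z
        induction z using TensorProduct.induction_on with
        | zero => rfl
        | tmul a b => rw [Subsingleton.elim b 0, TensorProduct.tmul_zero]
        | add a b ha hb => rw [ha, hb, add_zero]
      rw [h1 x, h1 y]
    rw [ringKrullDim_eq_bot_of_subsingleton, ringKrullDim_eq_bot_of_subsingleton]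
  · obtain ⟨s, g, hinj, hint⟩ := exists_integral_inj_algHom_of_fg k A
    -- dimension of `A`
    letI := g.toRingHom.toAlgebra
    haveI : Algebra.IsIntegral (MvPolynomial (Fin s) k) A := ⟨hint⟩
    have h1 : ringKrullDim A = s := by
      rw [ringKrullDim_eq_of_integral_injective (MvPolynomial (Fin s) k) A hinj,
        ringKrullDim_mvPolynomial_fin]
    rw [h1]
    -- the base-changed normalization
    let G : K ⊗[k] MvPolynomial (Fin s) k →ₐ[K] K ⊗[k] A :=
      Algebra.TensorProduct.map (AlgHom.id K K) g
    have hGinj : Function.Injective G := by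
      have h2 : (G : K ⊗[k] MvPolynomial (Fin s) k → K ⊗[k] A) =
          (g.toLinearMap.lTensor K : K ⊗[k] MvPolynomial (Fin s) k → K ⊗[k] A) := by
        funext z
        induction z using TensorProduct.induction_on with
        | zero => simp
        | tmul a b => rfl
        | add a b ha hb => rw [map_add, map_add, ha, hb]
      rw [h2]
      exact Module.Flat.lTensor_preserves_injective_linearMap _ hinj
    have hGint : G.toRingHom.IsIntegral := by
      intro z
      induction z using TensorProduct.induction_on with
      | zero => exact RingHom.isIntegralElem_zero _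
      | tmul a b =>
        have h3 : a ⊗ₜ[k] b = G (a ⊗ₜ[k] 1) * ((1 : K) ⊗ₜ[k] b) := by
          change _ = (a ⊗ₜ[k] g 1) * ((1 : K) ⊗ₜ[k] b)
          rw [map_one, Algebra.TensorProduct.tmul_mul_tmul, mul_one, one_mul]
        rw [h3]
        refine RingHom.IsIntegralElem.mul _ (RingHom.isIntegralElem_map _) ?_
        obtain ⟨p, hp, hp0⟩ := hint b
        refine ⟨p.map (Algebra.TensorProduct.includeRight :
          MvPolynomial (Fin s) k →ₐ[k] K ⊗[k] MvPolynomial (Fin s) k).toRingHom, hp.map _, ?_⟩
        rw [Polynomial.eval₂_map]
        have h4 : G.toRingHom.comp (Algebra.TensorProduct.includeRight :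
            MvPolynomial (Fin s) k →ₐ[k] K ⊗[k] MvPolynomial (Fin s) k).toRingHom =
            (Algebra.TensorProduct.includeRight : A →ₐ[k] K ⊗[k] A).toRingHom.comp
              g.toRingHom := by
          ext x <;> rfl
        rw [h4]
        have h5 := Polynomial.hom_eval₂ p g.toRingHom
          (Algebra.TensorProduct.includeRight : A →ₐ[k] K ⊗[k] A).toRingHom b
        rw [hp0, map_zero] at h5
        exact h5.symm
      | add a b ha hb => exact RingHom.IsIntegralElem.add _ ha hb
    letI := G.toRingHom.toAlgebra
    haveI : Algebra.IsIntegral (K ⊗[k] MvPolynomial (Fin s) k) (K ⊗[k] A) := ⟨hGint⟩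
    rw [ringKrullDim_eq_of_integral_injective (K ⊗[k] MvPolynomial (Fin s) k) (K ⊗[k] A) hGinj,
      ringKrullDim_eq_of_ringEquiv (MvPolynomial.algebraTensorAlgEquiv k K).toRingEquiv,
      ringKrullDim_mvPolynomial_fin]

/-- the base change of a quotient of a polynomial ring. -/
noncomputable def tensorQuotientMvPolynomialEquiv (k : Type u) (K : Type v) [Field k] [Field K]
    [Algebra k K] (σ : Type w) (I : Ideal (MvPolynomial σ k)) :
    K ⊗[k] (MvPolynomial σ k ⧸ I) ≃+*
      MvPolynomial σ K ⧸ I.map (MvPolynomial.map (algebraMap k K)) :=
  (Algebra.TensorProduct.tensorQuotientEquiv (R := k) K (MvPolynomial σ k) K I).toRingEquiv.trans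
    (Ideal.quotientEquiv _ _ (MvPolynomial.algebraTensorAlgEquiv k K).toRingEquiv (by
      have h1 : MvPolynomial.map (algebraMap k K) =
          ((MvPolynomial.algebraTensorAlgEquiv (σ := σ) k K).toRingEquiv.toRingHom).comp
            (Algebra.TensorProduct.includeRight :
              MvPolynomial σ k →ₐ[k] K ⊗[k] MvPolynomial σ k).toRingHom := by
        ext x
        · simp
        · simp
      rw [h1, ← Ideal.map_map]
      rfl))

set_option backward.isDefEq.respectTransparency false in
/-- **dimension of a quotient of a polynomial ring after extension of the base field.** -/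
theorem ringKrullDim_quotient_map (k : Type u) (K : Type v) [Field k] [Field K]
    [Algebra k K] (σ : Type w) [Finite σ] (I : Ideal (MvPolynomial σ k)) :
    ringKrullDim (MvPolynomial σ K ⧸ I.map (MvPolynomial.map (algebraMap k K))) =
      ringKrullDim (MvPolynomial σ k ⧸ I) := by
  rw [← ringKrullDim_eq_of_ringEquiv (R := K ⊗[k] (MvPolynomial σ k ⧸ I))
    (tensorQuotientMvPolynomialEquiv k K σ I)]
  exact ringKrullDim_tensorProduct k K (MvPolynomial σ k ⧸ I)

end Groth.Agent.H2.DimBC
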