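import Groth.Agent.Lib.Helper2.ConeCM
import Groth.Agent.Lib.Helper2.NatZ
import Groth.Agent.Lib.Helper6.GrModDim
import Groth.Agent.Lib.Helper6.GrCMCrit2
import Groth.Agent.Lib.Helper6.DepthKit
import Groth.Agent.Lib.Helper2.HilbDim2

/-! Cohen–Macaulayness at the irrelevant ideal of `A/(I ∩ J)` from that of `A/I`, `A/J`,
`A/(I+J)` (graded case). -/

universe u v
set_option linter.unusedSectionVars false
set_option linter.style.haveILetI false

namespace Groth.Agent.H2.InterCM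

open Groth.Agent.H6

section SES

variable {A : Type v} [CommRing A] (I J : Ideal A)

/-- `A/(I ∩ J) → A/I × A/J` -/
noncomputable def fMap : (A ⧸ (I ⊓ J)) →ₗ[A] (A ⧸ I) × (A ⧸ J) :=
  LinearMap.prod (Submodule.mapQ (I ⊓ J) I LinearMap.id (by
      intro x hx
      exact hx.1))
    (Submodule.mapQ (I ⊓ J) J LinearMap.id (by
      intro x hx
      exact hx.2))

/-- `A/I × A/J → A/(I + J)` -/
noncomputable def gMap : (A ⧸ I) × (A ⧸ J) →ₗ[A] (A ⧸ (I ⊔ J)) :=
  LinearMap.coprod (Submodule.mapQ I (I ⊔ J) LinearMap.id (by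
      intro x hx
      exact Ideal.mem_sup_left hx))
    (-(Submodule.mapQ J (I ⊔ J) LinearMap.id (by
      intro x hx
      exact Ideal.mem_sup_right hx)))

theorem fMap_mk (x : A) :
    fMap I J (Submodule.Quotient.mk x) = (Submodule.Quotient.mk x, Submodule.Quotient.mk x) := rfl

theorem gMap_mk (x y : A) :
    gMap I J (Submodule.Quotient.mk x, Submodule.Quotient.mk y) =
      Submodule.Quotient.mk (x - y) := by
  unfold gMap
  rw [LinearMap.coprod_apply, LinearMap.neg_apply, Submodule.mapQ_apply, Submodule.mapQ_apply,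
    LinearMap.id_apply, LinearMap.id_apply, Submodule.Quotient.mk_sub, sub_eq_add_neg]

theorem fMap_injective : Function.Injective (fMap I J) := by
  rw [← LinearMap.ker_eq_bot, eq_bot_iff]
  intro x hx
  rw [Submodule.mem_bot]
  obtain ⟨a, rfl⟩ := Submodule.Quotient.mk_surjective _ x
  rw [LinearMap.mem_ker, fMap_mk, Prod.mk_eq_zero, Submodule.Quotient.mk_eq_zero,
    Submodule.Quotient.mk_eq_zero] at hx
  rw [Submodule.Quotient.mk_eq_zero]
  exact ⟨hx.1, hx.2⟩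

theorem gMap_surjective : Function.Surjective (gMap I J) := by
  intro z
  obtain ⟨a, rfl⟩ := Submodule.Quotient.mk_surjective _ z
  refine ⟨(Submodule.Quotient.mk a, Submodule.Quotient.mk 0), ?_⟩
  rw [gMap_mk, sub_zero]

theorem exact_fMap_gMap : Function.Exact (fMap I J) (gMap I J) := by
  intro y
  obtain ⟨y1, y2⟩ := y
  obtain ⟨a, rfl⟩ := Submodule.Quotient.mk_surjective _ y1
  obtain ⟨b, rfl⟩ := Submodule.Quotient.mk_surjective _ y2
  rw [gMap_mk, Submodule.Quotient.mk_eq_zero]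
  constructor
  · intro h
    obtain ⟨i, hi, j, hj, hij⟩ := Submodule.mem_sup.mp h
    refine ⟨Submodule.Quotient.mk (a - i), ?_⟩
    rw [fMap_mk, Prod.mk.injEq]
    constructor
    · rw [Submodule.Quotient.eq]
      have : a - i - a = -i := by ring
      rw [this]
      exact I.neg_mem hi
    · rw [Submodule.Quotient.eq]
      have : a - i - b = j := by
        have : a - b = i + j := hij.symm
        linear_combination this
      rw [this]
      exact hj
  · rintro ⟨x, hx⟩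
    obtain ⟨c, rfl⟩ := Submodule.Quotient.mk_surjective _ x
    rw [fMap_mk, Prod.mk.injEq, Submodule.Quotient.eq, Submodule.Quotient.eq] at hx
    have : a - b = (c - b) - (c - a) := by ring
    rw [this]
    exact Submodule.sub_mem _ (Ideal.mem_sup_right hx.2) (Ideal.mem_sup_left hx.1)

end SES

section DepthLemma

variable {A : Type v} [CommRing A] [IsNoetherianRing A] (m I J : Ideal A)

theorem vanish_prod (e : ℕ) (hI : ∀ i < e, Subsingleton (LocCoh.H m i (A ⧸ I)))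
    (hJ : ∀ i < e, Subsingleton (LocCoh.H m i (A ⧸ J))) :
    ∀ i < e, Subsingleton (LocCoh.H m i ((A ⧸ I) × (A ⧸ J))) := by
  intro i hi
  exact Depth.subsingleton_mid (LinearMap.inl A (A ⧸ I) (A ⧸ J)) (LinearMap.snd A (A ⧸ I) (A ⧸ J))
    m i LinearMap.inl_injective LinearMap.snd_surjective Function.Exact.inl_snd (hI i hi) (hJ i hi)

theorem vanish_inf (e : ℕ) (hI : ∀ i < e, Subsingleton (LocCoh.H m i (A ⧸ I)))
    (hJ : ∀ i < e, Subsingleton (LocCoh.H m i (A ⧸ J)))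
    (hIJ : ∀ i, i + 1 < e → Subsingleton (LocCoh.H m i (A ⧸ (I ⊔ J)))) :
    ∀ i < e, Subsingleton (LocCoh.H m i (A ⧸ (I ⊓ J))) := by
  intro i hi
  have h2 := vanish_prod m I J e hI hJ
  cases i with
  | zero =>
    exact Depth.subsingleton_left_zero (fMap I J) m (fMap_injective I J) (h2 0 hi)
  | succ k =>
    exact Depth.subsingleton_left_succ (fMap I J) (gMap I J) m k (fMap_injective I J)
      (gMap_surjective I J) (exact_fMap_gMap I J) (h2 (k + 1) hi) (hIJ k hi)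

/-- depth of the localization at a maximal ideal via local cohomology over the ring -/
theorem le_depth_localized_iff [hm : m.IsMaximal] (M : Type v) [AddCommGroup M] [Module A M]
    [Module.Finite A M] (n : ℕ) :
    (n : ℕ∞) ≤ LocCoh.depth (Localization.AtPrime m) (LocalizedModule m.primeCompl M) ↔
      ∀ i < n, Subsingleton (LocCoh.H m i M) := by
  haveI : IsNoetherianRing (Localization.AtPrime m) :=
    IsLocalization.isNoetherianRing m.primeCompl _ inferInstance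
  haveI : Module.Finite (Localization.AtPrime m) (LocalizedModule m.primeCompl M) :=
    Module.Finite.of_isLocalizedModule m.primeCompl (LocalizedModule.mkLinearMap m.primeCompl M)
  unfold LocCoh.depth
  rw [Depth.le_idealDepth_iff]
  constructor
  · intro h i hi
    rw [MaxLoc.subsingleton_iff]
    exact h i hi
  · intro h i hi
    rw [← MaxLoc.subsingleton_iff]
    exact h i hi

end DepthLemma

section Dim

variable {R : Type v} [CommRing R] [IsNoetherianRing R]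

theorem ringKrullDim_localization_quot (I : Ideal R) (P : Ideal (R ⧸ I)) [hP : P.IsPrime]
    (p : Ideal R) [hp : p.IsPrime] (hPp : P.comap (algebraMap R (R ⧸ I)) = p) :
    ringKrullDim (Localization.AtPrime P) =
      Module.supportDim (Localization.AtPrime p) (LocalizedModule p.primeCompl (R ⧸ I)) := by
  subst hPp
  let e0 : LocalizedModule P.primeCompl (R ⧸ I) ≃ₗ[R ⧸ I] Localization.AtPrime P :=
    IsLocalizedModule.linearEquiv P.primeCompl (LocalizedModule.mkLinearMap P.primeCompl (R ⧸ I))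
      (Algebra.linearMap (R ⧸ I) (Localization.AtPrime P))
  let e : LocalizedModule P.primeCompl (R ⧸ I) ≃ₗ[Localization.AtPrime P] Localization.AtPrime P :=
    LinearEquiv.extendScalarsOfIsLocalization P.primeCompl (Localization.AtPrime P) e0
  rw [← Module.supportDim_self_eq_ringKrullDim, ← Module.supportDim_eq_of_equiv e]
  exact (SkSurj.depth_and_dim_comap (A := R) (C := R ⧸ I)
    Ideal.Quotient.mk_surjective (R ⧸ I) P).2

end Dim

section Main

variable {K : Type u} [Field K] {A : Type v} [CommRing A] [Algebra K A] [IsNoetherianRing A]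
  (𝒜 : ℕ → Submodule K A) [GradedAlgebra 𝒜]

local notation "𝔪" => HomogeneousIdeal.toIdeal (HomogeneousIdeal.irrelevant 𝒜)

/-- data: the localized quotient at the irrelevant ideal has the dimension of the quotient, and
a Cohen–Macaulay quotient has vanishing local cohomology below its dimension -/
theorem quot_facts [Nontrivial A] (h0 : ∀ a ∈ 𝒜 0, ∃ c : K, algebraMap K A c = a)
    [hmax : (𝔪).IsMaximal]
    (𝔞 : Ideal A) (h𝔞 : 𝔞.IsHomogeneous 𝒜) (d : ℕ)
    (hd : ringKrullDim (A ⧸ 𝔞) = (d : WithBot ℕ∞)) :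
    𝔞 ≤ 𝔪 ∧
    Module.supportDim (Localization.AtPrime 𝔪) (LocalizedModule (𝔪).primeCompl (A ⧸ 𝔞)) = d ∧
    (LocCoh.IsCohenMacaulayRing (A ⧸ 𝔞) → ∀ i < d, Subsingleton (LocCoh.H 𝔪 i (A ⧸ 𝔞))) := by
  classical
  letI : GradedRing (NatZ.zGr 𝒜) := NatZ.gradedRing_zGr 𝒜
  have hpos := NatZ.zGr_neg 𝒜
  have hfield : IsField (GrLC.deg0 (NatZ.zGr 𝒜)) :=
    NatZ.isField_deg0 𝒜 h0 (fun c => SetLike.algebraMap_mem_graded (A := 𝒜) c)
  have hmsp : 𝔪 = Ideal.span (⋃ n ∈ Set.Ioi (0 : ℤ), ((NatZ.zGr 𝒜 n : AddSubgroup A) : Set A)) :=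
    (NatZ.span_pos_eq_irrelevant 𝒜).symm
  have h𝔞z : 𝔞.IsHomogeneous (NatZ.zGr 𝒜) := (NatZ.isHomogeneous_iff 𝒜 𝔞).mpr h𝔞
  have hne : 𝔞 ≠ ⊤ := by
    intro h
    have : Subsingleton (A ⧸ 𝔞) := by
      rw [h]
      exact Ideal.Quotient.subsingleton_iff.mpr rfl
    rw [ringKrullDim_eq_bot_of_subsingleton] at hd
    exact WithBot.bot_ne_coe hd
  have hle : 𝔞 ≤ 𝔪 := Gr.le_irrelevant (NatZ.zGr 𝒜) hpos hfield 𝔪 hmsp 𝔞 h𝔞z hne
  have hker : (LinearMap.ker (Submodule.mkQ 𝔞)).IsHomogeneous (NatZ.zGr 𝒜) := by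
    rw [Submodule.ker_mkQ]
    exact h𝔞z
  letI : DirectSum.Decomposition (Gr.quotGr (NatZ.zGr 𝒜) (Submodule.mkQ 𝔞)) :=
    Gr.quotDecomposition (NatZ.zGr 𝒜) (Submodule.mkQ_surjective 𝔞) hker
  haveI : SetLike.GradedSMul (NatZ.zGr 𝒜) (Gr.quotGr (NatZ.zGr 𝒜) (Submodule.mkQ 𝔞)) :=
    Gr.quot_gradedSMul (NatZ.zGr 𝒜) (NatZ.zGr 𝒜) (q := Submodule.mkQ 𝔞)
  have hsd : Module.supportDim A (A ⧸ 𝔞) = (d : WithBot ℕ∞) := by
    rw [Module.supportDim_quotient_eq_ringKrullDim, hd]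
  have hdim := GrMD.supportDim_localized_irrelevant (NatZ.zGr 𝒜) hpos hfield 𝔪 hmsp
    (Gr.quotGr (NatZ.zGr 𝒜) (Submodule.mkQ 𝔞)) d hsd
  refine ⟨hle, hdim, fun hcm i hi => ?_⟩
  haveI hP : ((𝔪).map (Ideal.Quotient.mk 𝔞)).IsPrime :=
    Ideal.map_isPrime_of_surjective Ideal.Quotient.mk_surjective (by rwa [Ideal.mk_ker])
  have hcomap : (((𝔪).map (Ideal.Quotient.mk 𝔞)).comap (algebraMap A (A ⧸ 𝔞))) = 𝔪 := by
    rw [Ideal.Quotient.algebraMap_eq, Ideal.comap_map_of_surjective _ Ideal.Quotient.mk_surjective,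
      ← RingHom.ker_eq_comap_bot, Ideal.mk_ker, sup_eq_left.mpr hle]
  have hcmm := ConeCM.cmModule_of_cmLocal 𝔞 ((𝔪).map (Ideal.Quotient.mk 𝔞)) 𝔪 hcomap
    (hcm.isCohenMacaulayLocalRing_localization _)
  unfold LocCoh.IsCohenMacaulayModule at hcmm
  rw [hdim] at hcmm
  have hdep : LocCoh.depth (Localization.AtPrime 𝔪) (LocalizedModule (𝔪).primeCompl (A ⧸ 𝔞)) =
      (d : ℕ∞) := by
    have h1 : ((d : ℕ∞) : WithBot ℕ∞) = ((LocCoh.depth (Localization.AtPrime 𝔪)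
      (LocalizedModule (𝔪).primeCompl (A ⧸ 𝔞)) : ℕ∞) : WithBot ℕ∞) := hcmm
    exact (WithBot.coe_injective h1).symm
  exact (le_depth_localized_iff 𝔪 (A ⧸ 𝔞) d).mp (by rw [hdep]) i hi

theorem main (h0 : ∀ a ∈ 𝒜 0, ∃ c : K, algebraMap K A c = a) (I J : Ideal A)
    (hI : I.IsHomogeneous 𝒜) (hJ : J.IsHomogeneous 𝒜) (e : ℕ) (he : 1 ≤ e)
    (hIcm : LocCoh.IsCohenMacaulayRing (A ⧸ I)) (hJcm : LocCoh.IsCohenMacaulayRing (A ⧸ J))
    (hIJcm : LocCoh.IsCohenMacaulayRing (A ⧸ (I ⊔ J)))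
    (hIdim : ringKrullDim (A ⧸ I) = (e : WithBot ℕ∞))
    (hJdim : ringKrullDim (A ⧸ J) = (e : WithBot ℕ∞))
    (hIJdim : ringKrullDim (A ⧸ (I ⊔ J)) = ((e - 1 : ℕ) : WithBot ℕ∞))
    [hm : ((𝔪).map (Ideal.Quotient.mk (I ⊓ J))).IsPrime] :
    LocCoh.IsCohenMacaulayLocalRing (Localization.AtPrime
        ((𝔪).map (Ideal.Quotient.mk (I ⊓ J)))) ∧
      ringKrullDim (Localization.AtPrime
        ((𝔪).map (Ideal.Quotient.mk (I ⊓ J)))) = (e : WithBot ℕ∞) := by
  classical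
  haveI : Nontrivial A := by
    by_contra hcon
    rw [not_nontrivial_iff_subsingleton] at hcon
    have : Subsingleton (A ⧸ I) := Function.Surjective.subsingleton Ideal.Quotient.mk_surjective
    rw [ringKrullDim_eq_bot_of_subsingleton] at hIdim
    exact WithBot.bot_ne_coe hIdim
  letI : GradedRing (NatZ.zGr 𝒜) := NatZ.gradedRing_zGr 𝒜
  have hpos := NatZ.zGr_neg 𝒜
  have hfield : IsField (GrLC.deg0 (NatZ.zGr 𝒜)) :=
    NatZ.isField_deg0 𝒜 h0 (fun c => SetLike.algebraMap_mem_graded (A := 𝒜) c)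
  have hmsp : 𝔪 = Ideal.span (⋃ n ∈ Set.Ioi (0 : ℤ), ((NatZ.zGr 𝒜 n : AddSubgroup A) : Set A)) :=
    (NatZ.span_pos_eq_irrelevant 𝒜).symm
  haveI hmax : (𝔪).IsMaximal := by
    have hz : (𝔪).IsHomogeneous (NatZ.zGr 𝒜) :=
      (NatZ.isHomogeneous_iff 𝒜 _).mpr (HomogeneousIdeal.irrelevant 𝒜).isHomogeneous
    exact GrCM.isMaximal_irrelevant (NatZ.zGr 𝒜) hpos hfield ⟨𝔪, hz⟩ hmsp
  obtain ⟨hIm, hIsd, hIv⟩ := quot_facts 𝒜 h0 I hI e hIdim
  obtain ⟨hJm, hJsd, hJv⟩ := quot_facts 𝒜 h0 J hJ e hJdim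
  obtain ⟨hIJm, hIJsd, hIJv⟩ := quot_facts 𝒜 h0 (I ⊔ J) (hI.sup hJ) (e - 1) hIJdim
  -- the dimension of `A/(I ∩ J)`
  have hdimInf : ringKrullDim (A ⧸ (I ⊓ J)) = (e : WithBot ℕ∞) := by
    apply le_antisymm
    · have := Groth.Agent.H2.HilbDim.ringKrullDim_quotient_le_max (I ⊓ J) I J Ideal.mul_le_inf
      rw [hIdim, hJdim, max_self] at this
      exact this
    · rw [← hIdim]
      exact ringKrullDim_le_of_surjective (Ideal.Quotient.factor (inf_le_left : I ⊓ J ≤ I))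
        (Ideal.Quotient.factor_surjective _)
  obtain ⟨hInfm, hInfsd, -⟩ := quot_facts 𝒜 h0 (I ⊓ J) (hI.inf hJ) e hdimInf
  -- the depth
  have hvan := vanish_inf 𝔪 I J e (hIv hIcm) (hJv hJcm) (fun i hi => hIJv hIJcm i (by omega))
  have hdepth_ge := (le_depth_localized_iff 𝔪 (A ⧸ (I ⊓ J)) e).mpr hvan
  haveI : IsNoetherianRing (Localization.AtPrime 𝔪) :=
    IsLocalization.isNoetherianRing (𝔪).primeCompl _ inferInstance
  haveI : Module.Finite (Localization.AtPrime 𝔪) (LocalizedModule (𝔪).primeCompl (A ⧸ (I ⊓ J))) :=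
    Module.Finite.of_isLocalizedModule (𝔪).primeCompl
      (LocalizedModule.mkLinearMap (𝔪).primeCompl (A ⧸ (I ⊓ J)))
  haveI : Nontrivial (LocalizedModule (𝔪).primeCompl (A ⧸ (I ⊓ J))) :=
    ConeCM.nontrivial_localized_quot (I ⊓ J) 𝔪 hInfm
  obtain ⟨D, hD, hDle⟩ := Depth.exists_depth_eq (R := Localization.AtPrime 𝔪)
    (LocalizedModule (𝔪).primeCompl (A ⧸ (I ⊓ J)))
  rw [hInfsd] at hDle
  rw [hD] at hdepth_ge
  have hDe : D = e := by
    have h1 : D ≤ e := by exact_mod_cast hDle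
    have h2 : e ≤ D := by exact_mod_cast hdepth_ge
    omega
  have hcmmod : LocCoh.IsCohenMacaulayModule (Localization.AtPrime 𝔪)
      (LocalizedModule (𝔪).primeCompl (A ⧸ (I ⊓ J))) := by
    unfold LocCoh.IsCohenMacaulayModule
    rw [hInfsd, hD, hDe]
    rfl
  have hcomap : (((𝔪).map (Ideal.Quotient.mk (I ⊓ J))).comap
      (algebraMap A (A ⧸ (I ⊓ J)))) = 𝔪 := by
    rw [Ideal.Quotient.algebraMap_eq, Ideal.comap_map_of_surjective _ Ideal.Quotient.mk_surjective,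
      ← RingHom.ker_eq_comap_bot, Ideal.mk_ker, sup_eq_left.mpr hInfm]
  have hcmloc := ConeCM.cmLocal_of_cmModule (I ⊓ J) ((𝔪).map (Ideal.Quotient.mk (I ⊓ J))) 𝔪
    hcomap hcmmod
  refine ⟨hcmloc, ?_⟩
  -- the dimension of the local ring
  rw [ringKrullDim_localization_quot (I ⊓ J) ((𝔪).map (Ideal.Quotient.mk (I ⊓ J))) 𝔪 hcomap,
    hInfsd]

end Main

end Groth.Agent.H2.InterCM
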