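import Mathlib
import Groth.Agent.Lib.Helper2.DimBC
import Groth.Agent.Lib.Helper9.Misc.DetC

/-! The dimension of the generic determinantal ring over an arbitrary field (helper2), from
helper9's computation over infinite fields. -/

set_option autoImplicit false
set_option linter.style.haveILetI false
universe u
open MvPolynomial

namespace Groth.Agent.H2.DetDim

/-- ideals of minors are compatible with ring homomorphisms. -/
theorem minorIdeal_map {R S : Type u} [CommRing R] [CommRing S] (φ : R →+* S) {m n : Type}
    [Fintype m] [Fintype n] (A : Matrix m n R) (t : ℕ) :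
    (CAlgX.minorIdeal A t).map φ = CAlgX.minorIdeal (A.map φ) t := by
  unfold CAlgX.minorIdeal
  rw [Ideal.map_span, ← Set.range_comp]
  congr 2
  funext fg
  rw [Function.comp_apply, RingHom.map_det]
  rfl

/-- minors of size larger than the number of rows vanish. -/
theorem minorIdeal_eq_bot_of_lt_rows {R : Type u} [CommRing R] {n m : ℕ}
    (A : Matrix (Fin n) (Fin m) R) (t : ℕ) (h : n < t) : CAlgX.minorIdeal A t = ⊥ := by
  unfold CAlgX.minorIdeal
  rw [Ideal.span_eq_bot]
  rintro _ ⟨fg, rfl⟩
  obtain ⟨i, j, hij, hf⟩ : ∃ i j, i ≠ j ∧ fg.1 i = fg.1 j := by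
    by_contra hcon
    push Not at hcon
    have hinj : Function.Injective fg.1 := fun i j hf => by
      by_contra hne
      exact hcon i j hne hf
    have := Fintype.card_le_of_injective _ hinj
    simp at this
    omega
  exact Matrix.det_zero_of_row_eq hij (by
    funext c
    simp [Matrix.submatrix_apply, hf])

/-- minors of size larger than the number of columns vanish. -/
theorem minorIdeal_eq_bot_of_lt_cols {R : Type u} [CommRing R] {n m : ℕ}
    (A : Matrix (Fin n) (Fin m) R) (t : ℕ) (h : m < t) : CAlgX.minorIdeal A t = ⊥ := by
  unfold CAlgX.minorIdeal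
  rw [Ideal.span_eq_bot]
  rintro _ ⟨fg, rfl⟩
  obtain ⟨i, j, hij, hf⟩ : ∃ i j, i ≠ j ∧ fg.2 i = fg.2 j := by
    by_contra hcon
    push Not at hcon
    have hinj : Function.Injective fg.2 := fun i j hf => by
      by_contra hne
      exact hcon i j hne hf
    have := Fintype.card_le_of_injective _ hinj
    simp at this
    omega
  exact Matrix.det_zero_of_column_eq hij (by
    intro c
    simp [Matrix.submatrix_apply, hf])

/-- the dimension of a polynomial ring in `n * m` variables indexed by pairs. -/
theorem ringKrullDim_mvPolynomial_prod (k : Type u) [Field k] (n m : ℕ) :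
    ringKrullDim (MvPolynomial (Fin n × Fin m) k) = ((n * m : ℕ) : WithBot ℕ∞) := by
  rw [ringKrullDim_eq_of_ringEquiv
    (MvPolynomial.renameEquiv k (finProdFinEquiv (m := n) (n := m))).toRingEquiv,
    Groth.Agent.H2.DimFG.ringKrullDim_mvPolynomial_fin]

/-- **S10870**: the dimension of the generic determinantal ring. -/
theorem ringKrullDim_genericDeterminantal (k : Type u) [Field k] (n m r : ℕ)
    (hr : r ≤ min n m) :
    ringKrullDim (MvPolynomial (Fin n × Fin m) k ⧸
      CAlgX.minorIdeal (Matrix.of fun (i : Fin n) (j : Fin m) =>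
        (MvPolynomial.X (i, j) : MvPolynomial (Fin n × Fin m) k)) (r + 1)) =
      ((r * (m + n - r) : ℕ) : WithBot ℕ∞) := by
  by_cases hlt : r + 1 ≤ min n m
  · -- the generic case, after extension to an infinite field
    have hn : r + 1 ≤ n := hlt.trans (min_le_left _ _)
    have hm : r + 1 ≤ m := hlt.trans (min_le_right _ _)
    let K := AlgebraicClosure k
    have h1 := Groth.Agent.H2.DimBC.ringKrullDim_quotient_map k K (Fin n × Fin m)
      (CAlgX.minorIdeal (Matrix.of fun (i : Fin n) (j : Fin m) =>
        (MvPolynomial.X (i, j) : MvPolynomial (Fin n × Fin m) k)) (r + 1))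
    rw [minorIdeal_map] at h1
    have h2 : (Matrix.of fun (i : Fin n) (j : Fin m) =>
        (MvPolynomial.X (i, j) : MvPolynomial (Fin n × Fin m) k)).map
          (MvPolynomial.map (algebraMap k K)) =
        W4bk4grassmannian.genMatrix K n m := by
      ext i j : 1
      simp [W4bk4grassmannian.genMatrix]
    rw [h2] at h1
    rw [← h1]
    have h3 := (Groth.Agent.H9.Det.main K n m (r + 1) (by omega) (by omega) (by omega) hn hm).2.2.2
    rw [h3]
    have e : (r + 1 - 1) * (n + m - (r + 1) + 1) = r * (m + n - r) := by
      rw [show r + 1 - 1 = r by omega, show n + m - (r + 1) + 1 = m + n - r by omega]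
    rw [e]
  · -- no minors of that size
    have hbot : CAlgX.minorIdeal (Matrix.of fun (i : Fin n) (j : Fin m) =>
        (MvPolynomial.X (i, j) : MvPolynomial (Fin n × Fin m) k)) (r + 1) = ⊥ := by
      rcases le_total n m with hnm | hnm
      · exact minorIdeal_eq_bot_of_lt_rows _ _ (by
          rw [min_eq_left hnm] at hlt hr
          omega)
      · exact minorIdeal_eq_bot_of_lt_cols _ _ (by
          rw [min_eq_right hnm] at hlt hr
          omega)
    rw [hbot, ringKrullDim_eq_of_ringEquiv (RingEquiv.quotientBot _),
      ringKrullDim_mvPolynomial_prod]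
    have e : n * m = r * (m + n - r) := by
      rcases le_total n m with hnm | hnm
      · rw [min_eq_left hnm] at hlt hr
        have : r = n := by omega
        subst this
        rw [Nat.add_sub_cancel]
      · rw [min_eq_right hnm] at hlt hr
        have : r = m := by omega
        subst this
        rw [Nat.add_sub_cancel_left, Nat.mul_comm]
    rw [e]

end Groth.Agent.H2.DetDim
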