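import Mathlib

/-! Irreducibility of the generic determinant (S6485). -/

namespace Groth.Agent.H2.DetIrred
open MvPolynomial Matrix
universe u

section general
variable {σ : Type*} {R : Type*} [CommRing R]

theorem pderiv_comm (v w : σ) (p : MvPolynomial σ R) :
    pderiv v (pderiv w p) = pderiv w (pderiv v p) := by
  classical
  by_cases hvw : v = w
  · subst hvw; rfl
  ext m
  simp only [coeff_pderiv]
  have h1 : (m + Finsupp.single v 1 : σ →₀ ℕ) w = m w := by
    simp [Finsupp.single_eq_of_ne (Ne.symm hvw), Finsupp.single_eq_of_ne hvw, hvw]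
  have h2 : (m + Finsupp.single w 1 : σ →₀ ℕ) v = m v := by
    simp [Finsupp.single_eq_of_ne (Ne.symm hvw), Finsupp.single_eq_of_ne hvw, Ne.symm hvw]
  rw [h1, h2, add_right_comm]
  ring

theorem pderiv_ne_zero_of_degreeOf_eq_one {v : σ} {p : MvPolynomial σ R} (h : degreeOf v p = 1) :
    pderiv v p ≠ 0 := by
  classical
  have hp : p.support.Nonempty := by
    by_contra hne
    rw [Finset.not_nonempty_iff_eq_empty, support_eq_empty] at hne
    rw [hne, degreeOf_zero] at h
    exact zero_ne_one h
  rw [degreeOf_eq_sup] at h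
  obtain ⟨m, hm, hmv⟩ := Finset.exists_mem_eq_sup p.support hp (fun m => m v)
  rw [h] at hmv
  intro h0
  have h1 := coeff_pderiv (i := v) p (m - Finsupp.single v 1)
  rw [h0, coeff_zero] at h1
  have h2 : m - Finsupp.single v 1 + Finsupp.single v 1 = m := by
    ext x
    by_cases hx : x = v
    · subst hx; simp [← hmv]
    · simp [Finsupp.single_eq_of_ne (Ne.symm hx), Finsupp.single_eq_of_ne hx, hx]
  have h3 : (m - Finsupp.single v 1 : σ →₀ ℕ) v = 0 := by simp [← hmv]
  rw [h2, h3] at h1
  simp only [Nat.cast_zero, zero_add, mul_one] at h1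
  exact (mem_support_iff.1 hm) h1.symm

end general

variable (k : Type u) [Field k] (n : ℕ)

variable {k n}

local notation "𝐆" => mvPolynomialX (Fin n) (Fin n) k

theorem det_mem (S : Subalgebra k (MvPolynomial (Fin n × Fin n) k))
    (B : Matrix (Fin n) (Fin n) (MvPolynomial (Fin n × Fin n) k)) (h : ∀ r c, B r c ∈ S) :
    B.det ∈ S := by
  rw [Matrix.det_apply]
  refine Subalgebra.sum_mem _ fun τ _ => ?_
  rw [Units.smul_def]
  exact Subalgebra.zsmul_mem _ (Subalgebra.prod_mem _ fun i _ => h _ _) _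

theorem adjugate_mem_rowFree (i j : Fin n) :
    adjugate 𝐆 j i ∈ supported k {v : Fin n × Fin n | v.1 ≠ i} := by
  rw [adjugate_apply]
  refine det_mem _ _ fun r c => ?_
  by_cases hr : r = i
  · subst hr
    rw [updateRow_self]
    by_cases hc : c = j
    · subst hc; rw [Pi.single_eq_same]; exact Subalgebra.one_mem _
    · rw [Pi.single_eq_of_ne hc]; exact Subalgebra.zero_mem _
  · rw [updateRow_ne hr, mvPolynomialX_apply, X_mem_supported]
    exact hr

theorem adjugate_mem_colFree (i j : Fin n) :
    adjugate 𝐆 j i ∈ supported k {v : Fin n × Fin n | v.2 ≠ j} := by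
  have h1 : adjugate 𝐆 j i = (𝐆.updateCol j (Pi.single i 1)).det := by
    rw [← transpose_apply (adjugate 𝐆) i j, adjugate_transpose, adjugate_apply,
      updateRow_transpose, det_transpose]
  rw [h1]
  refine det_mem _ _ fun r c => ?_
  by_cases hc : c = j
  · subst hc
    rw [updateCol_self]
    by_cases hr : r = i
    · subst hr; rw [Pi.single_eq_same]; exact Subalgebra.one_mem _
    · rw [Pi.single_eq_of_ne hr]; exact Subalgebra.zero_mem _
  · rw [updateCol_ne hc, mvPolynomialX_apply, X_mem_supported]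
    exact hc

theorem pderiv_eq_zero_of_mem_supported {s : Set (Fin n × Fin n)} {v : Fin n × Fin n}
    (hv : v ∉ s) {p : MvPolynomial (Fin n × Fin n) k} (hp : p ∈ supported k s) :
    pderiv v p = 0 := by
  apply pderiv_eq_zero_of_notMem_vars
  intro hmem
  exact hv ((mem_supported.1 hp) hmem)

theorem degreeOf_eq_zero_of_mem_supported {s : Set (Fin n × Fin n)} {v : Fin n × Fin n}
    (hv : v ∉ s) {p : MvPolynomial (Fin n × Fin n) k} (hp : p ∈ supported k s) :
    degreeOf v p = 0 := by
  by_contra hne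
  exact hv ((mem_supported.1 hp) (mem_vars_iff_degreeOf_ne_zero.2 hne))

theorem pderiv_det (i j : Fin n) :
    pderiv (i, j) 𝐆.det = adjugate 𝐆 j i := by
  classical
  rw [det_eq_sum_mul_adjugate_row 𝐆 i, map_sum]
  rw [Finset.sum_eq_single j]
  · rw [pderiv_mul, mvPolynomialX_apply, pderiv_X_self, one_mul,
      pderiv_eq_zero_of_mem_supported (s := {v : Fin n × Fin n | v.1 ≠ i}) (by simp)
        (adjugate_mem_rowFree i j), mul_zero, add_zero]
  · intro c _ hc
    rw [pderiv_mul, mvPolynomialX_apply, pderiv_X_of_ne (by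
        intro h; exact hc (congrArg Prod.snd h)), zero_mul,
      pderiv_eq_zero_of_mem_supported (s := {v : Fin n × Fin n | v.1 ≠ i}) (by simp)
        (adjugate_mem_rowFree i c), mul_zero, add_zero]
  · intro h; exact absurd (Finset.mem_univ j) h

theorem adjugate_ne_zero (i j : Fin n) : adjugate 𝐆 j i ≠ 0 := by
  classical
  intro h0
  let τ : Equiv.Perm (Fin n) := Equiv.swap i j
  let M : Matrix (Fin n) (Fin n) k := τ.permMatrix k
  have hM : ∀ r c, M r c = if τ r = c then 1 else 0 := by
    intro r c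
    simp [M, Equiv.Perm.permMatrix, PEquiv.toMatrix_apply, Equiv.toPEquiv_apply, eq_comm]
  have h1 := RingHom.map_adjugate (MvPolynomial.eval fun p : Fin n × Fin n => M p.1 p.2) 𝐆
  rw [mvPolynomialX_mapMatrix_eval] at h1
  have h2 := congrFun (congrFun h1 j) i
  rw [RingHom.mapMatrix_apply, map_apply, h0, map_zero] at h2
  have h3 := det_eq_sum_mul_adjugate_row M i
  rw [Finset.sum_eq_single j] at h3
  · rw [← h2, mul_zero] at h3
    have h4 : M.det = Equiv.Perm.sign τ := det_permutation τ
    rw [h4] at h3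
    have h5 : ((Equiv.Perm.sign τ : ℤˣ) : k) ≠ 0 := by
      rcases Int.units_eq_one_or (Equiv.Perm.sign τ) with h | h <;> simp [h]
    exact h5 (by exact_mod_cast h3)
  · intro c _ hc
    rw [hM, if_neg (by simpa [τ] using Ne.symm hc), zero_mul]
  · intro h; exact absurd (Finset.mem_univ j) h

theorem degreeOf_det (v : Fin n × Fin n) : degreeOf v 𝐆.det = 1 := by
  classical
  obtain ⟨i, j⟩ := v
  apply le_antisymm
  · rw [det_eq_sum_mul_adjugate_row 𝐆 i]
    refine (degreeOf_sum_le _ _ _).trans ?_
    refine Finset.sup_le fun c _ => ?_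
    refine (degreeOf_mul_le _ _ _).trans ?_
    rw [degreeOf_eq_zero_of_mem_supported (s := {v : Fin n × Fin n | v.1 ≠ i}) (by simp)
      (adjugate_mem_rowFree i c), add_zero, mvPolynomialX_apply, degreeOf_X]
    split_ifs <;> simp
  · have h1 : pderiv (i, j) 𝐆.det ≠ 0 := by
      rw [pderiv_det]; exact adjugate_ne_zero i j
    have h2 : (i, j) ∈ 𝐆.det.vars := by
      by_contra hne
      exact h1 (pderiv_eq_zero_of_notMem_vars hne)
    exact Nat.one_le_iff_ne_zero.2 (mem_vars_iff_degreeOf_ne_zero.1 h2)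

theorem pderiv_pderiv_det_eq_zero (v w : Fin n × Fin n) (h : v.1 = w.1 ∨ v.2 = w.2) :
    pderiv v (pderiv w 𝐆.det) = 0 := by
  obtain ⟨i, j⟩ := v
  obtain ⟨i', j'⟩ := w
  rw [pderiv_det]
  rcases h with h | h
  · simp only at h
    subst h
    exact pderiv_eq_zero_of_mem_supported (s := {v : Fin n × Fin n | v.1 ≠ i}) (by simp)
      (adjugate_mem_rowFree i j')
  · simp only at h
    subst h
    exact pderiv_eq_zero_of_mem_supported (s := {v : Fin n × Fin n | v.2 ≠ j}) (by simp)
      (adjugate_mem_colFree i' j)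

theorem isUnit_of_forall_degreeOf_eq_zero {g : MvPolynomial (Fin n × Fin n) k} (hg0 : g ≠ 0)
    (hg : ∀ w, degreeOf w g = 0) : IsUnit g := by
  have h1 : g.vars = ∅ := by
    rw [Finset.eq_empty_iff_forall_notMem]
    intro w hw
    exact (mem_vars_iff_degreeOf_ne_zero.1 hw) (hg w)
  rw [vars_eq_empty_iff_eq_C] at h1
  rw [h1]
  have h2 : g.coeff 0 ≠ 0 := by
    intro h0
    rw [h0, map_zero] at h1
    exact hg0 h1
  exact (isUnit_iff_ne_zero.2 h2).map C

theorem S6485 (k : Type u) [Field k] (n : ℕ) (hn : 1 ≤ n) :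
    Irreducible (Matrix.mvPolynomialX (Fin n) (Fin n) k).det := by
  classical
  have hdet0 : (mvPolynomialX (Fin n) (Fin n) k).det ≠ 0 := det_mvPolynomialX_ne_zero (Fin n) k
  rw [irreducible_iff]
  constructor
  · intro hu
    obtain ⟨u, hu'⟩ := hu.exists_right_inv
    have hu0 : u ≠ 0 := by
      rintro rfl
      simp at hu'
    have h1 := degreeOf_mul_eq (n := ((⟨0, hn⟩, ⟨0, hn⟩) : Fin n × Fin n)) hdet0 hu0
    rw [hu', degreeOf_one, degreeOf_det] at h1
    omega
  · intro f g hfg
    have hf0 : f ≠ 0 := by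
      rintro rfl
      rw [zero_mul] at hfg
      exact hdet0 hfg
    have hg0 : g ≠ 0 := by
      rintro rfl
      rw [mul_zero] at hfg
      exact hdet0 hfg
    have hsum : ∀ v, degreeOf v f + degreeOf v g = 1 := fun v => by
      rw [← degreeOf_mul_eq hf0 hg0, ← hfg, degreeOf_det]
    have key : ∀ v w : Fin n × Fin n, (v.1 = w.1 ∨ v.2 = w.2) → degreeOf v f = 1 →
        degreeOf w g = 1 → False := by
      intro v w hvw hv hw
      have hvg : degreeOf v g = 0 := by have := hsum v; omega
      have hwf : degreeOf w f = 0 := by have := hsum w; omega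
      have e1 : pderiv v g = 0 :=
        pderiv_eq_zero_of_notMem_vars (fun h => (mem_vars_iff_degreeOf_ne_zero.1 h) hvg)
      have e2 : pderiv w f = 0 :=
        pderiv_eq_zero_of_notMem_vars (fun h => (mem_vars_iff_degreeOf_ne_zero.1 h) hwf)
      have e3 : pderiv v f ≠ 0 := pderiv_ne_zero_of_degreeOf_eq_one hv
      have e4 : pderiv w g ≠ 0 := pderiv_ne_zero_of_degreeOf_eq_one hw
      have e5 : pderiv v (pderiv w (f * g)) = pderiv v f * pderiv w g := by
        rw [pderiv_mul, e2, zero_mul, zero_add, pderiv_mul, pderiv_comm v w g, e1, map_zero,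
          mul_zero, add_zero]
      rw [← hfg, pderiv_pderiv_det_eq_zero v w hvw] at e5
      exact mul_ne_zero e3 e4 e5.symm
    by_cases hfv : ∀ v, degreeOf v f = 0
    · left
      exact isUnit_of_forall_degreeOf_eq_zero hf0 hfv
    · right
      push Not at hfv
      obtain ⟨v, hv⟩ := hfv
      have hv1 : degreeOf v f = 1 := by have := hsum v; omega
      apply isUnit_of_forall_degreeOf_eq_zero hg0
      intro w
      by_contra hw
      have hw1 : degreeOf w g = 1 := by have := hsum w; omega
      have hu : degreeOf ((v.1, w.2) : Fin n × Fin n) f = 1 ∨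
          degreeOf ((v.1, w.2) : Fin n × Fin n) g = 1 := by
        have := hsum (v.1, w.2); omega
      rcases hu with hu | hu
      · exact key (v.1, w.2) w (Or.inr rfl) hu hw1
      · exact key v (v.1, w.2) (Or.inl rfl) hv1 hu

end Groth.Agent.H2.DetIrred
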