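import Mathlib
set_option autoImplicit false
universe u

/-! Pure algebra on top exterior powers used for S11489. -/

namespace Groth.Agent.H2.DetTriv

open Submodule

/-- if the family `w` spans `M` and all `r`-fold wedges of members of `w` vanish then
`⋀^r M = 0`. -/
lemma subsingleton_extPow_of_forall_ιMulti_eq_zero {A M : Type*} [CommRing A] [AddCommGroup M]
    [Module A M] {N r : ℕ} (w : Fin N → M) (hw : span A (Set.range w) = ⊤)
    (h : ∀ a : Fin r → Fin N, exteriorPower.ιMulti A r (fun j => w (a j)) = 0) :
    Subsingleton (⋀[A]^r M) := by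
  have h1 := exteriorPower.ιMulti_span_of_span A r M hw
  have h2 : span A (exteriorPower.ιMulti A r '' {a | Set.range a ⊆ Set.range w}) = ⊥ := by
    rw [Submodule.span_eq_bot]
    rintro _ ⟨a, ha, rfl⟩
    have ha' : ∀ j, ∃ i, w i = a j := fun j => ha ⟨j, rfl⟩
    choose a' ha' using ha'
    have : a = fun j => w (a' j) := funext fun j => (ha' j).symm
    rw [this]
    exact h a'
  rw [h2] at h1
  exact (Submodule.subsingleton_iff A).mp (subsingleton_of_bot_eq_top h1)

/-- if `M` is free with a basis indexed by `Fin r` and the wedge of the `r`-tuple `v` generates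
`⋀^r M`, then `v` spans `M`. -/
lemma span_range_eq_top_of_span_ιMulti {A M : Type*} [CommRing A] [AddCommGroup M]
    [Module A M] {r : ℕ} (b : Module.Basis (Fin r) A M) (v : Fin r → M)
    (h : span A {exteriorPower.ιMulti A r v} = ⊤) : span A (Set.range v) = ⊤ := by
  have h1 : exteriorPower.ιMulti A r (fun i => b i) ∈ span A {exteriorPower.ιMulti A r v} := by
    rw [h]; trivial
  obtain ⟨c, hc⟩ := Submodule.mem_span_singleton.mp h1
  have h2 := congrArg (exteriorPower.alternatingMapLinearEquiv b.det) hc
  rw [map_smul, exteriorPower.alternatingMapLinearEquiv_apply_ιMulti,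
    exteriorPower.alternatingMapLinearEquiv_apply_ιMulti] at h2
  have h3 : b.det (fun i => b i) = 1 := b.det_self
  rw [h3] at h2
  have hu : IsUnit (b.det v) := by
    refine IsUnit.of_mul_eq_one c ?_
    rw [mul_comm]; exact h2
  exact ((Module.Basis.is_basis_iff_det b).mpr hu).2

end Groth.Agent.H2.DetTriv
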