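import Groth.Agent.Lib.Helper2.DetTrivA
import Groth.Agent.H4.GenSec
import Groth.Agent.Lib.Lead.QC.AmpleExt
import Groth.Agent.Lib.Lead.QC.Extend
import Groth.Agent.Lib.Lead.QC.IdealMod
import Groth.Agent.Lib.Lead.QC.LocFree2
import Groth.Agent.Lib.Helper3.OmIsoCover
import Groth.Agent.Lib.Helper5.Lim.ModuleLocFreeRank
import Groth.Prelude.Def_ExtPow2
set_option autoImplicit false
universe u
open CategoryTheory CategoryTheory.Limits AlgebraicGeometry TopologicalSpace Opposite

/-! A globally generated finite locally free module with trivial determinant on a scheme whose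
global functions are `0` or units is free (S11489). -/

namespace Groth.Agent.H2.DetTriv
open Groth.Agent.LD.QC

variable {X : Scheme.{u}}

/-- gluing a compatible family of sections over the affine opens to a global section. -/
theorem exists_glue_affine (M : X.Modules) (s : ∀ U : X.affineOpens, Γ(M, U.1))
    (hs : ∀ (U V : X.affineOpens) (h : V.1 ≤ U.1),
      M.presheaf.map (homOfLE h).op (s U) = s V) :
    ∃ σ : Γ(M, ⊤), ∀ U : X.affineOpens,
      M.presheaf.map (homOfLE (le_top : U.1 ≤ ⊤)).op σ = s U := by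
  refine exists_glue_section M (fun U : X.affineOpens => U.1) ⊤ (fun _ => le_top) ?_ s ?_
  · intro x _
    obtain ⟨U, hU, hxU, -⟩ := exists_isAffineOpen_mem_and_subset (x := x) (U := ⊤) trivial
    exact Opens.mem_iSup.mpr ⟨⟨U, hU⟩, hxU⟩
  · intro U U'
    refine section_ext_of_cover M
      (fun W : {W : X.affineOpens // W.1 ≤ U.1 ⊓ U'.1} => W.1.1) (fun W => W.2) ?_ _ _ ?_
    · intro x hx
      obtain ⟨W, hW, hxW, hWU⟩ :=
        exists_isAffineOpen_mem_and_subset (x := x) (U := U.1 ⊓ U'.1) hx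
      exact Opens.mem_iSup.mpr ⟨⟨⟨W, hW⟩, hWU⟩, hxW⟩
    · rintro ⟨W, hW⟩
      rw [res_res, res_res, hs U W _, hs U' W _]

/-- a section of a module isomorphic to the structure sheaf whose image is a global unit
generates the sections over every open. -/
theorem exists_smul_eq_of_isUnit (L : X.Modules) (α : L ≅ unitMod X) (δ : Γ(L, ⊤))
    (hc : IsUnit (show Γ(X, ⊤) from α.hom.app ⊤ δ)) (U : X.Opens) (l : Γ(L, U)) :
    ∃ t : Γ(X, U), t • L.presheaf.map (homOfLE (le_top : U ≤ ⊤)).op δ = l := by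
  obtain ⟨c, hcdef⟩ : ∃ c : Γ(X, ⊤), c = (show Γ(X, ⊤) from α.hom.app ⊤ δ) := ⟨_, rfl⟩
  rw [← hcdef] at hc
  have hcU : IsUnit ((X.presheaf.map (homOfLE (le_top : U ≤ ⊤)).op).hom c) := hc.map _
  obtain ⟨d, hd⟩ := hcU.exists_left_inv
  have h1 : α.hom.app U (L.presheaf.map (homOfLE (le_top : U ≤ ⊤)).op δ) =
      (unitMod X).presheaf.map (homOfLE (le_top : U ≤ ⊤)).op (α.hom.app ⊤ δ) :=
    app_res α.hom le_top δ
  obtain ⟨a, hadef⟩ : ∃ a : Γ(X, U), a = (show Γ(X, U) from α.hom.app U l) := ⟨_, rfl⟩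
  refine ⟨a * d, ?_⟩
  apply (app_bijective_of_isIso α.hom U).1
  rw [Scheme.Modules.Hom.app_smul, h1]
  have h2 : (a * d) * (X.presheaf.map (homOfLE (le_top : U ≤ ⊤)).op).hom c = a := by
    rw [mul_assoc, hd, mul_one]
  subst hcdef
  subst hadef
  exact h2

end Groth.Agent.H2.DetTriv
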