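import Groth.Agent.Lib.Helper2.DetTrivB
set_option autoImplicit false
universe u
open CategoryTheory CategoryTheory.Limits AlgebraicGeometry TopologicalSpace Opposite

namespace Groth.Agent.H2.DetTriv
open Groth.Agent.LD.QC

variable {X : Scheme.{u}}

/-- **A globally generated finite locally free module of rank `r` whose `r`-th exterior power is
trivial, on a nonempty scheme all of whose global functions are `0` or units, is free.** -/
theorem nonempty_iso_freeMod [Nonempty X] (hX : ∀ c : Γ(X, ⊤), c = 0 ∨ IsUnit c)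
    (r : ℕ) (E : X.Modules) (hE : FlatMod.IsFinLocFreeOfRank r E)
    (N : ℕ) (ψ : FlatMod.freeMod X N ⟶ E) [Epi ψ]
    (L : X.Modules) (hL : ExtPow.IsExtPow r E L) (α : L ≅ unitMod X) :
    Nonempty (E ≅ FlatMod.freeMod X r) := by
  classical
  haveI : E.IsQuasicoherent :=
    qc_of_isFinLocFree E (Groth.Agent.H5.Lim.isFinLocFree_of_isFinLocFreeOfRank hE)
  obtain ⟨φ, hφ⟩ := hL
  -- the generating sections
  let v : ∀ (U : X.Opens), Fin N → Γ(E, U) := fun U j =>
    (Sigma.ι (fun _ : Fin N => unitMod X) j ≫ ψ).app U (1 : Γ(X, U))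
  have hvres : ∀ {U V : X.Opens} (h : V ≤ U) (j : Fin N),
      E.presheaf.map (homOfLE h).op (v U j) = v V j := fun h j => unitHom_app_one_res E _ h
  have hvspan : ∀ {U : X.Opens} (hU : IsAffineOpen U),
      Submodule.span Γ(X, U) (Set.range (v U)) = ⊤ :=
    fun hU => Groth.Agent.H4.GenSec.span_eq_top_of_epi ψ hU
  -- the wedge sections
  let w : (Fin r → Fin N) → ∀ U : X.affineOpens, Γ(L, U.1) := fun a U =>
    (φ U).symm (exteriorPower.ιMulti Γ(X, U.1) r (fun j => v U.1 (a j)))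
  have hwres : ∀ (a : Fin r → Fin N) (U V : X.affineOpens) (h : V.1 ≤ U.1),
      L.presheaf.map (homOfLE h).op (w a U) = w a V := by
    intro a U V h
    refine (hφ U V h (fun j => v U.1 (a j))).trans ?_
    have : (fun j => E.val.map (homOfLE h).op (v U.1 (a j))) = fun j => v V.1 (a j) :=
      funext fun j => hvres h (a j)
    rw [this]
  choose δ hδ using fun a => exists_glue_affine L (w a) (hwres a)
  -- some wedge is a nonzero global function
  have hex : ∃ a, (show Γ(X, ⊤) from α.hom.app ⊤ (δ a)) ≠ 0 := by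
    by_contra hcon
    push Not at hcon
    have hδ0 : ∀ a, δ a = 0 := fun a =>
      (app_bijective_of_isIso α.hom ⊤).1 ((hcon a).trans (map_zero _).symm)
    obtain ⟨x⟩ := ‹Nonempty X›
    obtain ⟨U, hU, hxU, -⟩ := exists_isAffineOpen_mem_and_subset (x := x) (U := ⊤) trivial
    have hw0 : ∀ a, w a ⟨U, hU⟩ = 0 := by
      intro a
      rw [← hδ a ⟨U, hU⟩, hδ0 a, map_zero]
    have hι0 : ∀ a : Fin r → Fin N,
        exteriorPower.ιMulti Γ(X, U) r (fun j => v U (a j)) = 0 := by
      intro a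
      exact (φ ⟨U, hU⟩).symm.map_eq_zero_iff.mp (hw0 a)
    have hsub := subsingleton_extPow_of_forall_ιMulti_eq_zero (v U) (hvspan hU) hι0
    have hsubL : Subsingleton Γ(L, U) := @Equiv.subsingleton _ _ (φ ⟨U, hU⟩).toEquiv hsub
    have hsubO : Subsingleton Γ(X, U) := by
      constructor
      intro p q
      exact (app_bijective_of_isIso α.inv U).1
        (Subsingleton.elim (α.inv.app U p) (α.inv.app U q))
    haveI : Nonempty U := ⟨⟨x, hxU⟩⟩
    haveI := Scheme.component_nontrivial X U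
    exact not_subsingleton _ hsubO
  obtain ⟨a, ha⟩ := hex
  have hunit : IsUnit (show Γ(X, ⊤) from α.hom.app ⊤ (δ a)) := (hX _).resolve_left ha
  -- the morphism
  let Φ : FlatMod.freeMod X r ⟶ E :=
    Sigma.desc (fun i => Sigma.ι (fun _ : Fin N => unitMod X) (a i) ≫ ψ)
  have hΦ : ∀ i, Sigma.ι (fun _ : Fin r => unitMod X) i ≫ Φ =
      Sigma.ι (fun _ : Fin N => unitMod X) (a i) ≫ ψ := fun i => Sigma.ι_desc _ i
  haveI : IsIso Φ := by
    apply Groth.Agent.H3.Om.isIso_of_bijective_affine_cover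
    intro x
    obtain ⟨U, hU, hxU, ⟨ℓ⟩⟩ := (isFinLocFreeOfRank_iff E r).mp hE x
    refine ⟨U, hU, hxU, ?_⟩
    have hsp1 : Submodule.span Γ(X, U)
        {exteriorPower.ιMulti Γ(X, U) r (fun j => v U (a j))} = ⊤ := by
      rw [eq_top_iff]
      rintro z -
      obtain ⟨t, ht⟩ := exists_smul_eq_of_isUnit L α (δ a) hunit U ((φ ⟨U, hU⟩).symm z)
      rw [hδ a ⟨U, hU⟩] at ht
      have h1 := congrArg (φ ⟨U, hU⟩) ht
      rw [LinearEquiv.apply_symm_apply] at h1
      rw [← h1]
      have h2 : (φ ⟨U, hU⟩) (t • w a ⟨U, hU⟩) =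
          t • exteriorPower.ιMulti Γ(X, U) r (fun j => v U (a j)) :=
        ((φ ⟨U, hU⟩).map_smul t (w a ⟨U, hU⟩)).trans
          (congrArg (fun y => t • y) ((φ ⟨U, hU⟩).apply_symm_apply _))
      rw [h2]
      exact Submodule.smul_mem _ _ (Submodule.subset_span rfl)
    let b : Module.Basis (Fin r) Γ(X, U) Γ(E, U) := Module.Basis.ofEquivFun ℓ
    have hsp2 := span_range_eq_top_of_span_ιMulti b (fun j => v U (a j)) hsp1
    have hsurj : Function.Surjective (appLinear Φ U) := by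
      rw [← LinearMap.range_eq_top, eq_top_iff, ← hsp2, Submodule.span_le]
      rintro _ ⟨j, rfl⟩
      refine ⟨(Sigma.ι (fun _ : Fin r => unitMod X) j).app U (1 : Γ(X, U)), ?_⟩
      have h3 : (Sigma.ι (fun _ : Fin r => unitMod X) j ≫ Φ).app U (1 : Γ(X, U)) =
          v U (a j) := by rw [hΦ j]
      exact h3
    obtain ⟨ℓ'⟩ := freeMod_sections_equiv (X := X) hU r
    let f : (Fin r → Γ(X, U)) →ₗ[Γ(X, U)] (Fin r → Γ(X, U)) :=
      ℓ.toLinearMap ∘ₗ appLinear Φ U ∘ₗ ℓ'.symm.toLinearMap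
    have hf : Function.Surjective f := ℓ.surjective.comp (hsurj.comp ℓ'.symm.surjective)
    have hfi : Function.Injective f := OrzechProperty.injective_of_surjective_endomorphism f hf
    refine ⟨?_, hsurj⟩
    intro p q hpq
    have h4 : f (ℓ' p) = f (ℓ' q) := by
      change ℓ (appLinear Φ U (ℓ'.symm (ℓ' p))) = ℓ (appLinear Φ U (ℓ'.symm (ℓ' q)))
      rw [ℓ'.symm_apply_apply, ℓ'.symm_apply_apply]
      exact congrArg ℓ hpq
    exact ℓ'.injective (hfi h4)
  exact ⟨(asIso Φ).symm⟩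

end Groth.Agent.H2.DetTriv
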