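import Mathlib

/-!
# `k`-linear maps out of Kähler differentials from "Leibniz" bilinear maps
-/

open TensorProduct

namespace Groth.Agent.H2.DiagId

variable {k : Type*} [CommRing k] {A : Type*} [CommRing A] [Algebra k A]
  {M : Type*} [AddCommGroup M] [Module k M]

/-- the `k`-linear map on the free `A`-module on `A` attached to a `k`-bilinear map -/
noncomputable def preLift (φ : A →ₗ[k] A →ₗ[k] M) : (A →₀ A) →ₗ[k] M :=
  Finsupp.lsum k (fun b => φ.flip b)

@[simp]
lemma preLift_single (φ : A →ₗ[k] A →ₗ[k] M) (a b : A) :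
    preLift φ (Finsupp.single b a) = φ a b := by
  simp [preLift]

lemma preLift_kerTotal (φ : A →ₗ[k] A →ₗ[k] M)
    (h1 : ∀ a x y : A, φ a (x * y) = φ (a * x) y + φ (a * y) x)
    (h2 : ∀ a : A, φ a 1 = 0) (z : A →₀ A) (hz : z ∈ KaehlerDifferential.kerTotal k A) :
    preLift φ z = 0 := by
  suffices h : ∀ a : A, preLift φ (a • z) = 0 by simpa using h 1
  induction hz using Submodule.span_induction with
  | mem z hz =>
    intro a
    rcases hz with (⟨⟨x, y⟩, rfl⟩ | ⟨⟨x, y⟩, rfl⟩) | ⟨x, rfl⟩
    · simp [smul_add, smul_sub, map_add, map_sub]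
    · simp only [smul_add, smul_sub, Finsupp.smul_single, smul_eq_mul, map_add, map_sub,
        preLift_single, mul_one]
      rw [h1 a x y, add_comm, sub_self]
    · simp only [Finsupp.smul_single, smul_eq_mul, mul_one, preLift_single]
      rw [Algebra.algebraMap_eq_smul_one, map_smul, h2, smul_zero]
  | zero => simp
  | add x y _ _ hx hy =>
    intro a
    rw [smul_add, map_add, hx a, hy a, add_zero]
  | smul c x _ hx =>
    intro a
    rw [smul_smul]
    exact hx _

/-- A `k`-bilinear map `φ` on `A` satisfying the Leibniz rule in the second variable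
induces a `k`-linear map on `Ω[A⁄k]` sending `a • d b` to `φ a b`. -/
theorem exists_linearMap_of_leibniz (φ : A →ₗ[k] A →ₗ[k] M)
    (h1 : ∀ a x y : A, φ a (x * y) = φ (a * x) y + φ (a * y) x)
    (h2 : ∀ a : A, φ a 1 = 0) :
    ∃ Φ : Ω[A⁄k] →ₗ[k] M, ∀ a b : A, Φ (a • KaehlerDifferential.D k A b) = φ a b := by
  let f : (A →₀ A) →ₗ[k] Ω[A⁄k] :=
    (Finsupp.linearCombination A (KaehlerDifferential.D k A)).restrictScalars k
  have hf : Function.Surjective f := KaehlerDifferential.linearCombination_surjective k A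
  have hker : LinearMap.ker f ≤ LinearMap.ker (preLift φ) := by
    intro z hz
    rw [LinearMap.mem_ker] at hz ⊢
    apply preLift_kerTotal φ h1 h2
    rw [← KaehlerDifferential.kerTotal_eq]
    exact hz
  refine ⟨(LinearMap.ker f).liftQ (preLift φ) hker ∘ₗ
    (f.quotKerEquivOfSurjective hf).symm.toLinearMap, fun a b => ?_⟩
  have : a • KaehlerDifferential.D k A b = f (Finsupp.single b a) := by
    simp [f]
  rw [this]
  simp only [LinearMap.coe_comp, LinearEquiv.coe_coe, Function.comp_apply]
  have h3 : (f.quotKerEquivOfSurjective hf).symm (f (Finsupp.single b a)) =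
      Submodule.Quotient.mk (Finsupp.single b a) := by
    rw [LinearEquiv.symm_apply_eq]
    rfl
  rw [h3, Submodule.liftQ_apply, preLift_single]

end Groth.Agent.H2.DiagId
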