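import Groth.Agent.Lib.Helper2.DiagId1

/-!
# Invariants of the big diagonal on the symmetric cube: the last two places of the resolution
-/

universe u v

open TensorProduct

namespace Groth.Agent.H2.DiagId

variable {k : Type u} [Field k] [CharZero k] {A : Type v} [CommRing A] [Algebra k A]

lemma eq_zero_of_tmul3 {N : Type*} [AddCommGroup N] [Module k N]
    (f : A ⊗[k] (A ⊗[k] A) →ₗ[k] N) (h : ∀ a b c : A, f (a ⊗ₜ[k] (b ⊗ₜ[k] c)) = 0)
    (x : A ⊗[k] (A ⊗[k] A)) : f x = 0 := by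
  induction x using TensorProduct.induction_on with
  | zero => simp
  | tmul a t =>
    induction t using TensorProduct.induction_on with
    | zero => simp
    | tmul b c => exact h a b c
    | add t₁ t₂ h₁ h₂ => rw [tmul_add, map_add, h₁, h₂, add_zero]
  | add x y hx hy => rw [map_add, hx, hy, add_zero]

variable (k) in
/-- the sum of the six permutations of a pure tensor -/
def sym3 (a b c : A) : A ⊗[k] (A ⊗[k] A) :=
  a ⊗ₜ[k] (b ⊗ₜ[k] c) + a ⊗ₜ[k] (c ⊗ₜ[k] b) + b ⊗ₜ[k] (a ⊗ₜ[k] c) + b ⊗ₜ[k] (c ⊗ₜ[k] a) +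
    c ⊗ₜ[k] (a ⊗ₜ[k] b) + c ⊗ₜ[k] (b ⊗ₜ[k] a)

lemma leftComm_sym3 (a b c : A) :
    TensorProduct.leftComm k A A A (sym3 k a b c) = sym3 k a b c := by
  simp only [sym3, map_add, TensorProduct.leftComm_tmul]
  abel

lemma lTensor_comm_sym3 (a b c : A) :
    LinearMap.lTensor A (TensorProduct.comm k A A).toLinearMap (sym3 k a b c) = sym3 k a b c := by
  simp only [sym3, map_add, LinearMap.lTensor_tmul, LinearEquiv.coe_coe, TensorProduct.comm_tmul]
  abel

variable (k A) in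
/-- the invariants of the symmetric group in the triple tensor product -/
def inv3 : Submodule k (A ⊗[k] (A ⊗[k] A)) :=
  LinearMap.eqLocus (TensorProduct.leftComm k A A A).toLinearMap LinearMap.id ⊓
    LinearMap.eqLocus (LinearMap.lTensor A (TensorProduct.comm k A A).toLinearMap) LinearMap.id

lemma mem_inv3 (x : A ⊗[k] (A ⊗[k] A)) :
    x ∈ inv3 k A ↔ TensorProduct.leftComm k A A A x = x ∧
      LinearMap.lTensor A (TensorProduct.comm k A A).toLinearMap x = x := by
  simp [inv3, LinearMap.mem_eqLocus]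

lemma sym3_mem_inv3 (a b c : A) : sym3 k a b c ∈ inv3 k A := by
  rw [mem_inv3]
  exact ⟨leftComm_sym3 a b c, lTensor_comm_sym3 a b c⟩

variable (k) in
/-- the element `ab ⊗ c + ac ⊗ b + bc ⊗ a` -/
def P (a b c : A) : A ⊗[k] A := (a * b) ⊗ₜ[k] c + (a * c) ⊗ₜ[k] b + (b * c) ⊗ₜ[k] a

section

variable (r : A ⊗[k] (A ⊗[k] A) →ₗ[k] A ⊗[k] A)
    (hr : ∀ a b c : A, r (a ⊗ₜ[k] (b ⊗ₜ[k] c)) = (a * b) ⊗ₜ[k] c)

include hr

lemma r_sym3 (a b c : A) : r (sym3 k a b c) = (2 : k) • P k a b c := by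
  simp only [sym3, map_add, hr, P]
  rw [mul_comm b a, mul_comm c a, mul_comm c b, two_smul]
  abel

lemma P_mem (a b c : A) : P k a b c ∈ (inv3 k A).map r := by
  have h : (2 : k) • P k a b c ∈ (inv3 k A).map r :=
    ⟨sym3 k a b c, sym3_mem_inv3 a b c, r_sym3 r hr a b c⟩
  have := Submodule.smul_mem _ (2⁻¹ : k) h
  rwa [smul_smul, inv_mul_cancel₀ (two_ne_zero), one_smul] at this

end

section

variable (r : A ⊗[k] (A ⊗[k] A) →ₗ[k] A ⊗[k] A)
    (hr : ∀ a b c : A, r (a ⊗ₜ[k] (b ⊗ₜ[k] c)) = (a * b) ⊗ₜ[k] c)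
    (D : A ⊗[k] A →ₗ[k] Ω[A⁄k])
    (hD : ∀ a b : A, D (a ⊗ₜ[k] b) =
      (2 : A) • (a • KaehlerDifferential.D k A b) - b • KaehlerDifferential.D k A a)

include hD

lemma D_P (a b c : A) : D (P k a b c) = 0 := by
  simp only [P, map_add, hD, Derivation.leibniz]
  module

variable (k A) in
/-- the sum of the six permutations, as a linear map -/
noncomputable def symMap : A ⊗[k] (A ⊗[k] A) →ₗ[k] A ⊗[k] (A ⊗[k] A) :=
  LinearMap.id + (TensorProduct.leftComm k A A A).toLinearMap +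
    LinearMap.lTensor A (TensorProduct.comm k A A).toLinearMap +
    (TensorProduct.leftComm k A A A).toLinearMap ∘ₗ
      LinearMap.lTensor A (TensorProduct.comm k A A).toLinearMap +
    LinearMap.lTensor A (TensorProduct.comm k A A).toLinearMap ∘ₗ
      (TensorProduct.leftComm k A A A).toLinearMap +
    (TensorProduct.leftComm k A A A).toLinearMap ∘ₗ
      LinearMap.lTensor A (TensorProduct.comm k A A).toLinearMap ∘ₗ
      (TensorProduct.leftComm k A A A).toLinearMap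

omit hD in
lemma symMap_tmul (a b c : A) : symMap k A (a ⊗ₜ[k] (b ⊗ₜ[k] c)) = sym3 k a b c := by
  simp only [symMap, LinearMap.add_apply, LinearMap.id_apply, LinearMap.comp_apply,
    LinearEquiv.coe_coe, TensorProduct.leftComm_tmul, LinearMap.lTensor_tmul,
    TensorProduct.comm_tmul, sym3]
  abel

omit hD in
lemma symMap_of_mem {x : A ⊗[k] (A ⊗[k] A)} (hx : x ∈ inv3 k A) : symMap k A x = (6 : k) • x := by
  rw [mem_inv3] at hx
  obtain ⟨h1, h2⟩ := hx
  simp only [symMap, LinearMap.add_apply, LinearMap.id_apply, LinearMap.comp_apply,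
    LinearEquiv.coe_coe, h1, h2]
  module

include hr

lemma D_r_of_mem {x : A ⊗[k] (A ⊗[k] A)} (hx : x ∈ inv3 k A) : D (r x) = 0 := by
  have h0 : (D ∘ₗ r ∘ₗ symMap k A) x = 0 := by
    apply eq_zero_of_tmul3
    intro a b c
    simp only [LinearMap.comp_apply, symMap_tmul, r_sym3 r hr, map_smul, D_P D hD, smul_zero]
  simp only [LinearMap.comp_apply, symMap_of_mem hx, map_smul] at h0
  exact (smul_eq_zero.1 h0).resolve_left (by norm_num)

end

variable (k A) in
/-- the map `a ⊗ b ↦ (2 a ⊗ b + b ⊗ a) / 3` -/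
noncomputable def psi : A ⊗[k] A →ₗ[k] A ⊗[k] A :=
  (3⁻¹ : k) • ((2 : k) • LinearMap.id + (TensorProduct.comm k A A).toLinearMap)

lemma psi_tmul (a b : A) :
    psi k A (a ⊗ₜ[k] b) = (3⁻¹ : k) • ((2 : k) • a ⊗ₜ[k] b + b ⊗ₜ[k] a) := by
  simp [psi]

lemma psi_leibniz (a x y : A) :
    psi k A (a ⊗ₜ[k] (x * y)) - (psi k A ((a * x) ⊗ₜ[k] y) + psi k A ((a * y) ⊗ₜ[k] x)) =
      (3⁻¹ : k) • ((2 : k) • P k a (x * y) 1 - P k y (a * x) 1 - P k x (a * y) 1 - P k a x y) := by
  have e1 : y * (a * x) = a * (x * y) := by ring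
  have e2 : x * (a * y) = a * (x * y) := by ring
  simp only [psi_tmul, P, mul_one, e1, e2]
  module

lemma psi_one (a : A) : psi k A (a ⊗ₜ[k] 1) = (3⁻¹ : k) • P k a 1 1 := by
  simp only [psi_tmul, P, mul_one, one_mul]
  module

section

variable (r : A ⊗[k] (A ⊗[k] A) →ₗ[k] A ⊗[k] A)
    (hr : ∀ a b c : A, r (a ⊗ₜ[k] (b ⊗ₜ[k] c)) = (a * b) ⊗ₜ[k] c)
    (D : A ⊗[k] A →ₗ[k] Ω[A⁄k])
    (hD : ∀ a b : A, D (a ⊗ₜ[k] b) =
      (2 : A) • (a • KaehlerDifferential.D k A b) - b • KaehlerDifferential.D k A a)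

include hr hD

lemma mem_of_D_eq_zero (y : A ⊗[k] A) (hy : D y = 0) : y ∈ (inv3 k A).map r := by
  set V := (inv3 k A).map r with hV
  let φ : A →ₗ[k] A →ₗ[k] (A ⊗[k] A) ⧸ V :=
    (TensorProduct.mk k A A).compr₂ (V.mkQ ∘ₗ psi k A)
  have hφ : ∀ a b : A, φ a b = V.mkQ (psi k A (a ⊗ₜ[k] b)) := fun a b => rfl
  obtain ⟨Φ, hΦ⟩ := exists_linearMap_of_leibniz φ
    (by
      intro a x y
      rw [hφ, hφ, hφ, ← map_add, ← sub_eq_zero, ← map_sub, psi_leibniz]
      simp only [Submodule.mkQ_apply, Submodule.Quotient.mk_eq_zero]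
      apply Submodule.smul_mem
      exact V.sub_mem (V.sub_mem (V.sub_mem (V.smul_mem _ (P_mem r hr _ _ _))
        (P_mem r hr _ _ _)) (P_mem r hr _ _ _)) (P_mem r hr _ _ _))
    (by
      intro a
      rw [hφ, psi_one]
      simp only [Submodule.mkQ_apply, Submodule.Quotient.mk_eq_zero]
      exact V.smul_mem _ (P_mem r hr _ _ _))
  have key : ∀ z : A ⊗[k] A, Φ (D z) = V.mkQ z := by
    intro z
    induction z using TensorProduct.induction_on with
    | zero => simp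
    | tmul a b =>
      rw [hD, smul_smul, map_sub, hΦ, hΦ, hφ, hφ, ← map_sub]
      congr 1
      have : ((2 : A) * a) ⊗ₜ[k] b = (2 : k) • (a ⊗ₜ[k] b) := by
        rw [two_mul, two_smul, TensorProduct.add_tmul]
      rw [this, map_smul, psi_tmul, psi_tmul]
      module
    | add z₁ z₂ h₁ h₂ => rw [map_add, map_add, h₁, h₂, map_add]
  have := key y
  rw [hy, map_zero] at this
  exact (Submodule.Quotient.mk_eq_zero V).1 this.symm

end

section

variable (D : A ⊗[k] A →ₗ[k] Ω[A⁄k])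
    (hD : ∀ a b : A, D (a ⊗ₜ[k] b) =
      (2 : A) • (a • KaehlerDifferential.D k A b) - b • KaehlerDifferential.D k A a)

include hD

lemma D_surjective : Function.Surjective D := by
  intro ω
  have h : ∀ ω : Ω[A⁄k], ω ∈ Submodule.span A (Set.range (KaehlerDifferential.D k A)) →
      ∀ a : A, a • ω ∈ LinearMap.range D := by
    intro ω hω
    induction hω using Submodule.span_induction with
    | mem z hz =>
      obtain ⟨b, rfl⟩ := hz
      intro a
      refine ⟨(3⁻¹ : k) • ((2 : k) • a ⊗ₜ[k] b + b ⊗ₜ[k] a), ?_⟩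
      simp only [map_smul, map_add, hD, ofNat_smul_eq_nsmul A 2]
      generalize a • KaehlerDifferential.D k A b = X
      generalize b • KaehlerDifferential.D k A a = Y
      module
    | zero => intro a; simp
    | add x y _ _ hx hy =>
      intro a
      rw [smul_add]
      exact Submodule.add_mem _ (hx a) (hy a)
    | smul c x _ hx =>
      intro a
      rw [smul_smul]
      exact hx _
  have := h ω (by rw [KaehlerDifferential.span_range_derivation]; trivial) 1
  rwa [one_smul] at this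

end

/-- exactness of the last two places of the resolution of the invariants of the big diagonal
ideal on the symmetric cube -/
theorem bigDiagonal_sym3 (r : A ⊗[k] (A ⊗[k] A) →ₗ[k] A ⊗[k] A)
    (hr : ∀ a b c : A, r (a ⊗ₜ[k] (b ⊗ₜ[k] c)) = (a * b) ⊗ₜ[k] c)
    (D : A ⊗[k] A →ₗ[k] Ω[A⁄k])
    (hD : ∀ a b : A, D (a ⊗ₜ[k] b) =
      (2 : A) • (a • KaehlerDifferential.D k A b) - b • KaehlerDifferential.D k A a) :
    (∀ y : A ⊗[k] A, D y = 0 ↔ ∃ x : A ⊗[k] (A ⊗[k] A),
        TensorProduct.leftComm k A A A x = x ∧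
        LinearMap.lTensor A (TensorProduct.comm k A A).toLinearMap x = x ∧ r x = y) ∧
    Function.Surjective D := by
  refine ⟨fun y => ⟨fun hy => ?_, ?_⟩, D_surjective D hD⟩
  · obtain ⟨x, hx, rfl⟩ := mem_of_D_eq_zero r hr D hD y hy
    rw [SetLike.mem_coe, mem_inv3] at hx
    exact ⟨x, hx.1, hx.2, rfl⟩
  · rintro ⟨x, h1, h2, rfl⟩
    exact D_r_of_mem r hr D hD ((mem_inv3 x).2 ⟨h1, h2⟩)

end Groth.Agent.H2.DiagId
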