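import Groth.Agent.Lib.Helper2.DiagId2

/-!
# Invariants of the big diagonal under a transposition: the last two places of the resolution
-/

universe u v

open TensorProduct

namespace Groth.Agent.H2.DiagId

variable {k : Type u} [Field k] [CharZero k] {A : Type v} [CommRing A] [Algebra k A]

variable (k A) in
/-- the invariants of the swap of the last two factors -/
def inv23 : Submodule k (A ⊗[k] (A ⊗[k] A)) :=
  LinearMap.eqLocus (LinearMap.lTensor A (TensorProduct.comm k A A).toLinearMap) LinearMap.id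

lemma mem_inv23 (x : A ⊗[k] (A ⊗[k] A)) :
    x ∈ inv23 k A ↔ LinearMap.lTensor A (TensorProduct.comm k A A).toLinearMap x = x := by
  simp [inv23, LinearMap.mem_eqLocus]

section

variable (r₁₂ r₂₃ : A ⊗[k] (A ⊗[k] A) →ₗ[k] A ⊗[k] A)
    (h₁₂ : ∀ a u v : A, r₁₂ (a ⊗ₜ[k] (u ⊗ₜ[k] v)) = (a * u) ⊗ₜ[k] v)
    (h₂₃ : ∀ a u v : A, r₂₃ (a ⊗ₜ[k] (u ⊗ₜ[k] v)) = (u * v) ⊗ₜ[k] a)
    (ψ : (A ⊗[k] A) × (A ⊗[k] A) →ₗ[k] Ω[A⁄k])
    (hψ : ∀ a u b v : A, ψ (a ⊗ₜ[k] u, b ⊗ₜ[k] v) =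
      (2 : A) • (a • KaehlerDifferential.D k A u) - v • KaehlerDifferential.D k A b)

include h₁₂ h₂₃

/-- the image of the invariants in pairs -/
def Wsub : Submodule k ((A ⊗[k] A) × (A ⊗[k] A)) := (inv23 k A).map (r₁₂.prod r₂₃)

omit h₁₂ h₂₃ in
lemma mem_Wsub (z : (A ⊗[k] A) × (A ⊗[k] A)) :
    z ∈ Wsub r₁₂ r₂₃ ↔ ∃ x, LinearMap.lTensor A (TensorProduct.comm k A A).toLinearMap x = x ∧
      r₁₂ x = z.1 ∧ r₂₃ x = z.2 := by
  constructor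
  · rintro ⟨x, hx, rfl⟩
    exact ⟨x, (mem_inv23 x).1 hx, rfl, rfl⟩
  · rintro ⟨x, hx, h1, h2⟩
    exact ⟨x, (mem_inv23 x).2 hx, Prod.ext h1 h2⟩

lemma mem_W_one (a : A) : (a ⊗ₜ[k] (1 : A), (1 : A) ⊗ₜ[k] a) ∈ Wsub r₁₂ r₂₃ := by
  rw [mem_Wsub]
  refine ⟨a ⊗ₜ[k] (1 ⊗ₜ[k] 1), ?_, ?_, ?_⟩
  · simp
  · simp [h₁₂]
  · simp [h₂₃]

lemma mem_W_swap (b v : A) :
    (v ⊗ₜ[k] b, (2 : k) • b ⊗ₜ[k] v - (1 : A) ⊗ₜ[k] (b * v)) ∈ Wsub r₁₂ r₂₃ := by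
  rw [mem_Wsub]
  refine ⟨v ⊗ₜ[k] (b ⊗ₜ[k] 1) + v ⊗ₜ[k] (1 ⊗ₜ[k] b) - (v * b) ⊗ₜ[k] (1 ⊗ₜ[k] 1), ?_, ?_, ?_⟩
  · simp only [map_add, map_sub, LinearMap.lTensor_tmul, LinearEquiv.coe_coe,
      TensorProduct.comm_tmul]
    abel
  · simp only [map_add, map_sub, h₁₂, mul_one]
    abel
  · simp only [map_add, map_sub, h₂₃, mul_one, one_mul, two_smul, mul_comm v b]

lemma mem_W_leibniz (a x y : A) :
    (a ⊗ₜ[k] (x * y) - (a * x) ⊗ₜ[k] y - (a * y) ⊗ₜ[k] x, - (1 : A) ⊗ₜ[k] (a * x * y)) ∈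
      Wsub r₁₂ r₂₃ := by
  rw [mem_Wsub]
  refine ⟨- a ⊗ₜ[k] (x ⊗ₜ[k] y) - a ⊗ₜ[k] (y ⊗ₜ[k] x) + a ⊗ₜ[k] ((x * y) ⊗ₜ[k] 1) +
    a ⊗ₜ[k] (1 ⊗ₜ[k] (x * y)) - (a * x * y) ⊗ₜ[k] (1 ⊗ₜ[k] 1), ?_, ?_, ?_⟩
  · simp only [map_add, map_sub, map_neg, LinearMap.lTensor_tmul, LinearEquiv.coe_coe,
      TensorProduct.comm_tmul]
    abel
  · simp only [map_add, map_sub, map_neg, h₁₂, mul_one]
    rw [show a * (x * y) = a * x * y by ring]
    abel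
  · simp only [map_add, map_sub, map_neg, h₂₃, mul_one, one_mul, mul_comm y x]
    abel

end

section

variable (r₁₂ r₂₃ : A ⊗[k] (A ⊗[k] A) →ₗ[k] A ⊗[k] A)
    (h₁₂ : ∀ a u v : A, r₁₂ (a ⊗ₜ[k] (u ⊗ₜ[k] v)) = (a * u) ⊗ₜ[k] v)
    (h₂₃ : ∀ a u v : A, r₂₃ (a ⊗ₜ[k] (u ⊗ₜ[k] v)) = (u * v) ⊗ₜ[k] a)
    (ψ : (A ⊗[k] A) × (A ⊗[k] A) →ₗ[k] Ω[A⁄k])
    (hψ : ∀ a u b v : A, ψ (a ⊗ₜ[k] u, b ⊗ₜ[k] v) =
      (2 : A) • (a • KaehlerDifferential.D k A u) - v • KaehlerDifferential.D k A b)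

include h₁₂ h₂₃ hψ

lemma psi_of_mem_inv23 {x : A ⊗[k] (A ⊗[k] A)} (hx : x ∈ inv23 k A) :
    ψ (r₁₂ x, r₂₃ x) = 0 := by
  have h0 : (ψ ∘ₗ (r₁₂.prod r₂₃) ∘ₗ (LinearMap.id +
      LinearMap.lTensor A (TensorProduct.comm k A A).toLinearMap)) x = 0 := by
    apply eq_zero_of_tmul3
    intro a u v
    simp only [LinearMap.comp_apply, LinearMap.add_apply, LinearMap.id_apply,
      LinearMap.lTensor_tmul, LinearEquiv.coe_coe, TensorProduct.comm_tmul, map_add,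
      LinearMap.prod_apply, Function.prod, h₁₂, h₂₃, hψ, Derivation.leibniz]
    module
  rw [mem_inv23] at hx
  simp only [LinearMap.comp_apply, LinearMap.add_apply, LinearMap.id_apply, hx] at h0
  rw [← two_smul k x, map_smul, map_smul] at h0
  exact (smul_eq_zero.1 h0).resolve_left two_ne_zero

omit h₁₂ h₂₃ in
lemma psi_inl (a u : A) : ψ (a ⊗ₜ[k] u, 0) = (2 : A) • (a • KaehlerDifferential.D k A u) := by
  have := hψ a u 0 0
  simpa using this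

omit h₁₂ h₂₃ in
lemma psi_inr (b v : A) : ψ (0, b ⊗ₜ[k] v) = - (v • KaehlerDifferential.D k A b) := by
  have := hψ 0 0 b v
  simpa using this

/-- the bilinear map `(a, b) ↦ (a ⊗ b, 1 ⊗ ab) / 2` modulo `W` -/
noncomputable def phiW : A →ₗ[k] A →ₗ[k] ((A ⊗[k] A) × (A ⊗[k] A)) ⧸ Wsub r₁₂ r₂₃ :=
  ((2⁻¹ : k) • ((TensorProduct.mk k A A).compr₂ (LinearMap.inl k (A ⊗[k] A) (A ⊗[k] A)) +
    (LinearMap.mul k A).compr₂ (LinearMap.inr k (A ⊗[k] A) (A ⊗[k] A) ∘ₗ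
      (TensorProduct.mk k A A 1)))).compr₂ (Wsub r₁₂ r₂₃).mkQ

omit h₁₂ h₂₃ hψ in
lemma phiW_apply (a b : A) : phiW r₁₂ r₂₃ a b =
    (Wsub r₁₂ r₂₃).mkQ ((2⁻¹ : k) • (a ⊗ₜ[k] b, (1 : A) ⊗ₜ[k] (a * b))) := by
  simp [phiW]

omit hψ in
lemma exists_Phi : ∃ Φ : Ω[A⁄k] →ₗ[k] ((A ⊗[k] A) × (A ⊗[k] A)) ⧸ Wsub r₁₂ r₂₃,
    ∀ a b : A, Φ (a • KaehlerDifferential.D k A b) = phiW r₁₂ r₂₃ a b := by
  apply exists_linearMap_of_leibniz
  · intro a x y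
    rw [phiW_apply, phiW_apply, phiW_apply, ← map_add, ← sub_eq_zero, ← map_sub]
    simp only [Submodule.mkQ_apply, Submodule.Quotient.mk_eq_zero]
    have := Submodule.smul_mem _ (2⁻¹ : k) (mem_W_leibniz r₁₂ r₂₃ h₁₂ h₂₃ a x y)
    convert this using 1
    ext
    · simp only [Prod.smul_mk, Prod.fst_sub, Prod.fst_add, Prod.mk_sub_mk, Prod.mk_add_mk]
      module
    · simp only [Prod.smul_mk, Prod.snd_sub, Prod.snd_add, Prod.mk_sub_mk, Prod.mk_add_mk]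
      rw [show a * (x * y) = a * x * y by ring, show a * y * x = a * x * y by ring]
      module
  · intro a
    rw [phiW_apply, mul_one]
    simp only [Submodule.mkQ_apply, Submodule.Quotient.mk_eq_zero]
    exact Submodule.smul_mem _ _ (mem_W_one r₁₂ r₂₃ h₁₂ h₂₃ a)

lemma mem_W_of_psi_eq_zero (p q : A ⊗[k] A) (hm : LinearMap.mul' k A p = LinearMap.mul' k A q)
    (h0 : ψ (p, q) = 0) : (p, q) ∈ Wsub r₁₂ r₂₃ := by
  obtain ⟨Φ, hΦ⟩ := exists_Phi r₁₂ r₂₃ h₁₂ h₂₃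
  let W := Wsub r₁₂ r₂₃
  let L₂ : (A ⊗[k] A) × (A ⊗[k] A) →ₗ[k] ((A ⊗[k] A) × (A ⊗[k] A)) ⧸ W :=
    W.mkQ + W.mkQ ∘ₗ LinearMap.inr k (A ⊗[k] A) (A ⊗[k] A) ∘ₗ (TensorProduct.mk k A A 1) ∘ₗ
      (LinearMap.mul' k A ∘ₗ LinearMap.fst k _ _ - LinearMap.mul' k A ∘ₗ LinearMap.snd k _ _)
  have key : Φ ∘ₗ ψ = L₂ := by
    apply LinearMap.prod_ext
    · apply TensorProduct.ext'
      intro a u
      simp only [LinearMap.comp_apply, LinearMap.inl_apply, L₂, LinearMap.add_apply,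
        LinearMap.sub_apply, LinearMap.fst_apply, LinearMap.snd_apply, map_zero, sub_zero,
        LinearMap.mul'_apply, LinearMap.inr_apply, TensorProduct.mk_apply]
      rw [psi_inl ψ hψ, ofNat_smul_eq_nsmul A 2, map_nsmul, hΦ, phiW_apply, ← map_nsmul,
        ← map_add]
      congr 1
      ext
      · simp only [Prod.smul_mk, Prod.fst_add, Prod.smul_fst]
        module
      · simp only [Prod.smul_mk, Prod.snd_add, Prod.smul_snd]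
        module
    · apply TensorProduct.ext'
      intro b v
      simp only [LinearMap.comp_apply, LinearMap.inr_apply, L₂, LinearMap.add_apply,
        LinearMap.sub_apply, LinearMap.fst_apply, LinearMap.snd_apply, map_zero, zero_sub,
        LinearMap.mul'_apply, TensorProduct.mk_apply]
      rw [psi_inr ψ hψ, map_neg, hΦ, phiW_apply, ← map_neg, ← map_add, ← sub_eq_zero, ← map_sub]
      simp only [Submodule.mkQ_apply, Submodule.Quotient.mk_eq_zero]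
      have := Submodule.smul_mem _ (-2⁻¹ : k) (mem_W_swap r₁₂ r₂₃ h₁₂ h₂₃ b v)
      convert this using 1
      ext
      · simp only [Prod.smul_mk, Prod.fst_sub, Prod.fst_add, Prod.fst_neg]
        module
      · simp only [Prod.smul_mk, Prod.snd_sub, Prod.snd_add, Prod.snd_neg, TensorProduct.tmul_neg,
          mul_comm v b]
        module
  have h1 := LinearMap.congr_fun key (p, q)
  simp only [LinearMap.comp_apply, h0, map_zero, L₂, LinearMap.add_apply, LinearMap.sub_apply,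
    LinearMap.fst_apply, LinearMap.snd_apply, hm, sub_self, add_zero] at h1
  exact (Submodule.Quotient.mk_eq_zero W).1 h1.symm

omit h₁₂ h₂₃ in
lemma psi_surjective (ω : Ω[A⁄k]) :
    ∃ p q : A ⊗[k] A, LinearMap.mul' k A p = LinearMap.mul' k A q ∧ ψ (p, q) = ω := by
  have h : ∀ ω : Ω[A⁄k], ω ∈ Submodule.span A (Set.range (KaehlerDifferential.D k A)) →
      ∀ a : A, ∃ p q : A ⊗[k] A, LinearMap.mul' k A p = LinearMap.mul' k A q ∧
        ψ (p, q) = a • ω := by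
    intro ω hω
    induction hω using Submodule.span_induction with
    | mem z hz =>
      obtain ⟨b, rfl⟩ := hz
      intro a
      refine ⟨(2⁻¹ : k) • a ⊗ₜ[k] b, (2⁻¹ : k) • (1 : A) ⊗ₜ[k] (a * b), by simp, ?_⟩
      have e : ((2⁻¹ : k) • a ⊗ₜ[k] b, (2⁻¹ : k) • (1 : A) ⊗ₜ[k] (a * b)) =
          (2⁻¹ : k) • ((a ⊗ₜ[k] b, (1 : A) ⊗ₜ[k] (a * b)) :
            (A ⊗[k] A) × (A ⊗[k] A)) := by
        simp
      rw [e, map_smul, hψ, ofNat_smul_eq_nsmul A 2]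
      simp only [Derivation.map_one_eq_zero, smul_zero, sub_zero]
      generalize a • KaehlerDifferential.D k A b = X
      module
    | zero => intro a; exact ⟨0, 0, rfl, by rw [smul_zero]; exact map_zero ψ⟩
    | add x y _ _ hx hy =>
      intro a
      obtain ⟨p₁, q₁, hm₁, h₁⟩ := hx a
      obtain ⟨p₂, q₂, hm₂, h₂⟩ := hy a
      refine ⟨p₁ + p₂, q₁ + q₂, by rw [map_add, map_add, hm₁, hm₂], ?_⟩
      rw [smul_add, ← h₁, ← h₂, ← map_add]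
      rfl
    | smul c x _ hx =>
      intro a
      rw [smul_smul]
      exact hx _
  obtain ⟨p, q, hm, h1⟩ :=
    h ω (by rw [KaehlerDifferential.span_range_derivation]; trivial) 1
  exact ⟨p, q, hm, by rw [h1, one_smul]⟩

/-- exactness of the last two places of the resolution of the invariants of the big diagonal
ideal under a transposition on the symmetric cube -/
theorem transposition_sym3 :
    (∀ p q : A ⊗[k] A, LinearMap.mul' k A p = LinearMap.mul' k A q →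
      (ψ (p, q) = 0 ↔ ∃ x : A ⊗[k] (A ⊗[k] A),
        LinearMap.lTensor A (TensorProduct.comm k A A).toLinearMap x = x ∧ r₁₂ x = p ∧ r₂₃ x = q)) ∧
    (∀ ω : Ω[A⁄k], ∃ p q : A ⊗[k] A, LinearMap.mul' k A p = LinearMap.mul' k A q ∧ ψ (p, q) = ω) := by
  refine ⟨fun p q hm => ⟨fun h0 => ?_, ?_⟩, psi_surjective ψ hψ⟩
  · exact (mem_Wsub r₁₂ r₂₃ (p, q)).1 (mem_W_of_psi_eq_zero r₁₂ r₂₃ h₁₂ h₂₃ ψ hψ p q hm h0)
  · rintro ⟨x, hx, rfl, rfl⟩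
    exact psi_of_mem_inv23 r₁₂ r₂₃ h₁₂ h₂₃ ψ hψ ((mem_inv23 x).2 hx)

end

end Groth.Agent.H2.DiagId
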