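import Mathlib
import Groth.Prelude.Def_DiffOp
import Groth.Agent.Lib.Lead.DiffOpMono

/-!
# Differential operators `D_p` dual to the monomials `ζ^p`
-/

noncomputable section

namespace Groth.Agent.H2.DiffBasis

open scoped TensorProduct
open Groth.Agent.LD

universe u

variable {A B : Type u} [CommRing A] [CommRing B] [Algebra A B]

section linearity

theorem linearize_add (D D' : B →ₗ[A] B) (x : B ⊗[A] B) :
    Diff16.linearize A B B B (D + D') x =
      Diff16.linearize A B B B D x + Diff16.linearize A B B B D' x := by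
  induction x using TensorProduct.induction_on with
  | zero => simp
  | tmul b c => simp only [linearize_tmul, LinearMap.add_apply, smul_add]
  | add x y hx hy => rw [map_add, map_add, map_add, hx, hy]; abel

theorem linearize_smul (b : B) (D : B →ₗ[A] B) (x : B ⊗[A] B) :
    Diff16.linearize A B B B (b • D) x = b • Diff16.linearize A B B B D x := by
  induction x using TensorProduct.induction_on with
  | zero => simp
  | tmul c c' =>
    simp only [linearize_tmul, LinearMap.smul_apply]
    rw [smul_comm]
  | add x y hx hy => rw [map_add, map_add, hx, hy, smul_add]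

/-- `D ↦ linearize D x` as a `B`-linear map. -/
def cLin (x : B ⊗[A] B) : (B →ₗ[A] B) →ₗ[B] B where
  toFun D := Diff16.linearize A B B B D x
  map_add' D D' := linearize_add D D' x
  map_smul' b D := linearize_smul b D x

@[simp] theorem cLin_apply (x : B ⊗[A] B) (D : B →ₗ[A] B) :
    cLin x D = Diff16.linearize A B B B D x := rfl

theorem linearize_zero (x : B ⊗[A] B) : Diff16.linearize A B B B (0 : B →ₗ[A] B) x = 0 := by
  have := (cLin (A := A) x).map_zero
  simpa using this

theorem linearize_left_mul (D : B →ₗ[A] B) (b : B) (x : B ⊗[A] B) :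
    Diff16.linearize A B B B D ((b ⊗ₜ[A] (1 : B)) * x) = b • Diff16.linearize A B B B D x := by
  induction x using TensorProduct.induction_on with
  | zero => simp
  | tmul c c' =>
    rw [Algebra.TensorProduct.tmul_mul_tmul, linearize_tmul, linearize_tmul, one_mul, mul_smul]
  | add x y hx hy => rw [mul_add, map_add, map_add, hx, hy, smul_add]

theorem isDiffOpLE_smul {n : ℕ} {E : B →ₗ[A] B} (h : Diff16.IsDiffOpLE A B B B n E) (b : B) :
    Diff16.IsDiffOpLE A B B B n (b • E) := by
  have : b • E = ((LinearMap.lsmul B B b).restrictScalars A) ∘ₗ E := by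
    ext x; simp
  rw [this]
  exact isDiffOpLE_comp_lsmul_left h b

theorem isDiffOpLE_sum' {κ : Type*} (s : Finset κ) (n : ℕ) (f : κ → (B →ₗ[A] B))
    (h : ∀ i ∈ s, Diff16.IsDiffOpLE A B B B n (f i)) :
    Diff16.IsDiffOpLE A B B B n (∑ i ∈ s, f i) := by
  classical
  induction s using Finset.induction_on with
  | empty => simpa using isDiffOpLE_zero_map A B B B n
  | insert a s ha ih =>
    rw [Finset.sum_insert ha]
    exact isDiffOpLE_add (h a (Finset.mem_insert_self a s))
      (ih (fun i hi => h i (Finset.mem_insert_of_mem hi)))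

end linearity

section zeta

variable {ι : Type} [Fintype ι] [DecidableEq ι] (z : ι → B)

/-- `ζ_i = 1 ⊗ z_i - z_i ⊗ 1` -/
def zeta (i : ι) : B ⊗[A] B := (1 : B) ⊗ₜ[A] z i - z i ⊗ₜ[A] (1 : B)

/-- `ζ^p` -/
def zetaPow (p : ι → ℕ) : B ⊗[A] B := ∏ i, zeta (A := A) z i ^ p i

theorem zeta_mem (i : ι) : zeta (A := A) z i ∈ KaehlerDifferential.ideal A B :=
  gen_mem_ideal (z i)

theorem zetaPow_mem (p : ι → ℕ) :
    zetaPow (A := A) z p ∈ KaehlerDifferential.ideal A B ^ (∑ i, p i) := by
  rw [← Finset.prod_pow_eq_pow_sum]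
  exact Ideal.prod_mem_prod fun i _ => Ideal.pow_mem_pow (zeta_mem z i) _

theorem zetaPow_zero : zetaPow (A := A) z (fun _ => 0) = 1 := by
  simp [zetaPow]

theorem zetaPow_add (p q : ι → ℕ) :
    zetaPow (A := A) z (p + q) = zetaPow z p * zetaPow z q := by
  simp only [zetaPow, Pi.add_apply, pow_add, Finset.prod_mul_distrib]

theorem zetaPow_single (i : ι) : zetaPow (A := A) z (Pi.single i 1) = zeta z i := by
  rw [zetaPow, Finset.prod_eq_single i]
  · simp
  · intro j _ hj
    rw [Pi.single_eq_of_ne hj, pow_zero]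
  · intro h; exact absurd (Finset.mem_univ i) h

theorem zetaPow_update (p : ι → ℕ) (i : ι) (hi : 1 ≤ p i) :
    zetaPow (A := A) z p = zetaPow z (Function.update p i (p i - 1)) * zeta z i := by
  have : p = Function.update p i (p i - 1) + Pi.single i 1 := by
    funext j
    by_cases hj : j = i
    · subst hj; simp; omega
    · simp [Function.update_of_ne hj, Pi.single_eq_of_ne hj]
  conv_lhs => rw [this]
  rw [zetaPow_add, zetaPow_single]

/-- every element of `I` is congruent mod `I²` to an element of the ideal generated by the `ζ_i`. -/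
theorem exists_zeta_sub_mem_sq
    (hz : Submodule.span B (Set.range fun i => KaehlerDifferential.D A B (z i)) = ⊤) :
    ∀ x ∈ KaehlerDifferential.ideal A B,
      ∃ y ∈ Ideal.span (Set.range (zeta (A := A) z)), x - y ∈ KaehlerDifferential.ideal A B ^ 2 := by
  intro x hx
  have hmem : KaehlerDifferential.fromIdeal A B ⟨x, hx⟩ ∈
      Submodule.span B (Set.range fun i => KaehlerDifferential.D A B (z i)) := by
    rw [hz]; trivial
  have key : ∀ ω ∈ Submodule.span B (Set.range fun i => KaehlerDifferential.D A B (z i)),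
      ∃ y : KaehlerDifferential.ideal A B, KaehlerDifferential.fromIdeal A B y = ω ∧
        (y : B ⊗[A] B) ∈ Ideal.span (Set.range (zeta (A := A) z)) := by
    intro ω hω
    induction hω using Submodule.span_induction with
    | mem ω h =>
      obtain ⟨i, rfl⟩ := h
      exact ⟨⟨zeta z i, zeta_mem z i⟩, rfl, Ideal.subset_span ⟨i, rfl⟩⟩
    | zero => exact ⟨0, map_zero _, Ideal.zero_mem _⟩
    | add ω ω' _ _ h h' =>
      obtain ⟨y, rfl, hy⟩ := h
      obtain ⟨y', rfl, hy'⟩ := h'
      exact ⟨y + y', map_add _ _ _, Ideal.add_mem _ hy hy'⟩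
    | smul b ω _ h =>
      obtain ⟨y, rfl, hy⟩ := h
      refine ⟨b • y, LinearMap.map_smul_of_tower (KaehlerDifferential.fromIdeal A B) b y, ?_⟩
      have : ((b • y : KaehlerDifferential.ideal A B) : B ⊗[A] B) = (b ⊗ₜ[A] (1 : B)) * y := by
        rw [Submodule.coe_smul_of_tower, Algebra.smul_def,
          Algebra.TensorProduct.algebraMap_apply]
        rfl
      rw [this]
      exact Ideal.mul_mem_left _ _ hy
  obtain ⟨y, hy, hyS⟩ := key _ hmem
  refine ⟨y, hyS, ?_⟩
  have := (Ideal.toCotangent_eq (I := KaehlerDifferential.ideal A B)).mp hy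
  have h2 : x - (y : B ⊗[A] B) = -((y : B ⊗[A] B) - x) := by ring
  rw [h2]
  exact Ideal.neg_mem_iff _ |>.mpr this

theorem linearize_mul_zetaIdeal (n : ℕ) (D : B →ₗ[A] B)
    (h : ∀ i, Vanishes n (Diff16.commutator A B B B D (z i))) :
    ∀ y ∈ Ideal.span (Set.range (zeta (A := A) z)),
      ∀ x ∈ (KaehlerDifferential.ideal A B) ^ n, Diff16.linearize A B B B D (x * y) = 0 := by
  intro y hy
  induction hy using Submodule.span_induction with
  | mem y hy =>
    obtain ⟨i, rfl⟩ := hy
    intro x hx
    rw [zeta, linearize_mul_gen]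
    exact h i x hx
  | zero => intro x hx; simp
  | add y y' _ _ hy hy' => intro x hx; rw [mul_add, map_add, hy x hx, hy' x hx, add_zero]
  | smul r y _ hy =>
    intro x hx
    rw [smul_eq_mul, ← mul_assoc]
    exact hy (x * r) (Ideal.mul_mem_right _ _ hx)

/-- order reduction: finite order + commutators with the `z_i` of order `< n` implies order `≤ n`. -/
theorem vanishes_succ_of_gens
    (hz : Submodule.span B (Set.range fun i => KaehlerDifferential.D A B (z i)) = ⊤)
    (D : B →ₗ[A] B) (k n : ℕ) (hk : Vanishes (k + 1) D)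
    (h : ∀ i, Vanishes n (Diff16.commutator A B B B D (z i))) : Vanishes (n + 1) D := by
  by_cases hkn : k ≤ n
  · intro x hx
    exact hk x (Ideal.pow_le_pow_right (by omega) hx)
  · push_neg at hkn
    have key : ∀ d j : ℕ, j + d = k → n ≤ j → Vanishes (j + 1) D := by
      intro d
      induction d with
      | zero =>
        intro j hj _
        have : j = k := by omega
        subst this
        exact hk
      | succ d ih =>
        intro j hj hnj
        have ih' := ih (j + 1) (by omega) (by omega)
        intro x hx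
        rw [pow_succ] at hx
        refine Submodule.mul_induction_on hx ?_ ?_
        · intro u hu v hv
          obtain ⟨y, hy, hvy⟩ := exists_zeta_sub_mem_sq z hz v hv
          have : u * v = u * y + u * (v - y) := by ring
          rw [this, map_add,
            linearize_mul_zetaIdeal z n D h y hy u (Ideal.pow_le_pow_right hnj hu), zero_add]
          apply ih'
          have := Ideal.mul_mem_mul hu hvy
          rwa [← pow_add] at this
        · intro x y hx hy
          rw [map_add, hx, hy, add_zero]
    exact key (k - n) n (by omega) le_rfl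

end zeta

section family

variable {ι : Type} [Fintype ι] [DecidableEq ι] (z : ι → B)

/-- the one-variable term `binom(a,b) z_j^(a-b)` -/
def t (j : ι) (a b : ℕ) : B := (a.choose b : B) * z j ^ (a - b)

theorem t_succ (j : ι) (a b : ℕ) :
    t z j (a + 1) (b + 1) - z j * t z j a (b + 1) = t z j a b := by
  unfold t
  rw [Nat.choose_succ_succ, Nat.add_sub_add_right, Nat.cast_add]
  by_cases h : b + 1 ≤ a
  · have : a - b = (a - (b + 1)) + 1 := by omega
    rw [this, pow_succ]
    ring
  · push_neg at h
    rw [Nat.choose_eq_zero_of_lt h]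
    simp

theorem t_zero (j : ι) (a : ℕ) : t z j (a + 1) 0 - z j * t z j a 0 = 0 := by
  unfold t
  simp [pow_succ, mul_comm]

theorem prod_split (F : ι → ℕ → B) (q : ι → ℕ) (i : ι) :
    ∏ j, F j (q j) = F i (q i) * ∏ j ∈ Finset.univ.erase i, F j (q j) :=
  (Finset.mul_prod_erase Finset.univ (fun j => F j (q j)) (Finset.mem_univ i)).symm

theorem prod_update (F : ι → ℕ → B) (q : ι → ℕ) (i : ι) (v : ℕ) :
    ∏ j, F j (Function.update q i v j) = F i v * ∏ j ∈ Finset.univ.erase i, F j (q j) := by
  rw [prod_split F (Function.update q i v) i, Function.update_self]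
  congr 1
  refine Finset.prod_congr rfl fun j hj => ?_
  rw [Function.update_of_ne (Finset.ne_of_mem_erase hj)]

variable (hz : Submodule.span B (Set.range fun i => KaehlerDifferential.D A B (z i)) = ⊤)
  (Dp : (ι → ℕ) → (B →ₗ[A] B)) (hD : ∀ p, ∃ k : ℕ, Diff16.IsDiffOpLE A B B B k (Dp p))
  (hDz : ∀ p q : ι → ℕ, Dp p (∏ i, z i ^ q i) =
        ((∏ i, Nat.choose (q i) (p i) : ℕ) : B) * ∏ i, z i ^ (q i - p i))

include hDz in
theorem hDz' (p q : ι → ℕ) : Dp p (∏ i, z i ^ q i) = ∏ i, t z i (q i) (p i) := by
  rw [hDz, Nat.cast_prod, ← Finset.prod_mul_distrib]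
  rfl

theorem mono_update (q : ι → ℕ) (i : ι) :
    z i * ∏ j, z j ^ q j = ∏ j, z j ^ (Function.update q i (q i + 1) j) := by
  rw [prod_update (fun j a => z j ^ a) q i (q i + 1), prod_split (fun j a => z j ^ a) q i, pow_succ]
  ring

include hz hD hDz in
theorem comm_Dp (p : ι → ℕ) (i : ι) :
    Diff16.commutator A B B B (Dp p) (z i) =
      if 1 ≤ p i then Dp (Function.update p i (p i - 1)) else 0 := by
  rw [← sub_eq_zero]
  obtain ⟨k, hk⟩ := hD p
  obtain ⟨k', hk'⟩ := hD (Function.update p i (p i - 1))
  have h1 : Diff16.IsDiffOpLE A B B B (max k k') (Diff16.commutator A B B B (Dp p) (z i)) := by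
    have : Diff16.IsDiffOpLE A B B B (k + 1) (Dp p) := isDiffOpLE_succ hk
    exact isDiffOpLE_mono (this (z i)) (le_max_left _ _)
  have h2 : Diff16.IsDiffOpLE A B B B (max k k')
      (if 1 ≤ p i then Dp (Function.update p i (p i - 1)) else 0) := by
    split_ifs
    · exact isDiffOpLE_mono hk' (le_max_right _ _)
    · exact isDiffOpLE_zero_map A B B B _
  refine eq_zero_of_isDiffOpLE_of_mono z hz (max k k') _ (isDiffOpLE_sub h1 h2) ?_
  intro q
  rw [LinearMap.sub_apply, commutator_apply, smul_eq_mul, smul_eq_mul, mono_update,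
    hDz' z Dp hDz, hDz' z Dp hDz, prod_update (fun j a => t z j a (p j)) q i (q i + 1),
    prod_split (fun j a => t z j a (p j)) q i]
  by_cases hp : 1 ≤ p i
  · rw [if_pos hp, hDz' z Dp hDz]
    have := prod_update (fun j b => t z j (q j) b) p i (p i - 1)
    rw [this]
    obtain ⟨b, hb⟩ : ∃ b, p i = b + 1 := ⟨p i - 1, by omega⟩
    rw [hb, Nat.add_sub_cancel]
    have h3 := t_succ z i (q i) b
    rw [← h3]
    ring
  · rw [if_neg hp, LinearMap.zero_apply, sub_zero]
    have hp0 : p i = 0 := by omega
    rw [hp0]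
    have h3 := t_zero z i (q i)
    rw [← mul_assoc, ← sub_mul, h3, zero_mul]

include hz hD hDz in
/-- Part (a): `D_p` has order at most `|p|`. -/
theorem order_Dp : ∀ (n : ℕ) (p : ι → ℕ), ∑ i, p i = n → Diff16.IsDiffOpLE A B B B n (Dp p) := by
  intro n
  induction n with
  | zero =>
    intro p hp
    obtain ⟨k, hk⟩ := hD p
    rw [isDiffOpLE_iff_vanishes] at hk ⊢
    refine vanishes_succ_of_gens z hz (Dp p) k 0 hk ?_
    intro i
    rw [comm_Dp z hz Dp hD hDz p i]
    have : p i = 0 := by
      have := Finset.sum_eq_zero_iff.1 hp i (Finset.mem_univ i)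
      exact this
    rw [if_neg (by omega)]
    exact (vanishes_zero_iff _).2 rfl
  | succ n ih =>
    intro p hp
    obtain ⟨k, hk⟩ := hD p
    rw [isDiffOpLE_iff_vanishes] at hk ⊢
    refine vanishes_succ_of_gens z hz (Dp p) k (n + 1) hk ?_
    intro i
    rw [comm_Dp z hz Dp hD hDz p i]
    split_ifs with hpi
    · rw [← isDiffOpLE_iff_vanishes]
      apply ih
      have hsum : ∑ j, p j = p i + ∑ j ∈ Finset.univ.erase i, p j :=
        (Finset.add_sum_erase Finset.univ p (Finset.mem_univ i)).symm
      have hsum' : ∑ j, Function.update p i (p i - 1) j =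
          (p i - 1) + ∑ j ∈ Finset.univ.erase i, p j := by
        rw [← Finset.add_sum_erase Finset.univ _ (Finset.mem_univ i), Function.update_self]
        congr 1
        refine Finset.sum_congr rfl fun j hj => ?_
        rw [Function.update_of_ne (Finset.ne_of_mem_erase hj)]
      omega
    · intro x _
      exact linearize_zero x

/-- the coefficient functional `c_q(D) = linearize D (ζ^q)`. -/
def coeff (q : ι → ℕ) : (B →ₗ[A] B) →ₗ[B] B := cLin (zetaPow (A := A) z q)

include hz hD hDz in
theorem coeff_Dp : ∀ (n : ℕ) (q p : ι → ℕ), ∑ i, q i = n →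
    coeff z q (Dp p) = if q = p then 1 else 0 := by
  intro n
  induction n with
  | zero =>
    intro q p hq
    have hq0 : q = fun _ => 0 := by
      funext i
      exact Finset.sum_eq_zero_iff.1 hq i (Finset.mem_univ i)
    subst hq0
    rw [coeff, cLin_apply, zetaPow_zero, Algebra.TensorProduct.one_def, linearize_tmul, one_smul]
    have h1 : (1 : B) = ∏ i, z i ^ (fun _ : ι => 0) i := by simp
    rw [h1, hDz]
    by_cases hp : (fun _ : ι => 0) = p
    · subst hp
      simp
    · rw [if_neg hp]
      have : ∃ i, p i ≠ 0 := by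
        by_contra hcon
        push_neg at hcon
        exact hp (funext fun i => (hcon i).symm)
      obtain ⟨i, hi⟩ := this
      have : (∏ i, Nat.choose ((fun _ : ι => 0) i) (p i)) = 0 := by
        apply Finset.prod_eq_zero (Finset.mem_univ i)
        exact Nat.choose_eq_zero_of_lt (Nat.pos_of_ne_zero hi)
      rw [this]
      simp
  | succ n ih =>
    intro q p hq
    have : ∃ i, 1 ≤ q i := by
      by_contra hcon
      push_neg at hcon
      have : ∑ i, q i = 0 := Finset.sum_eq_zero fun i _ => by have := hcon i; omega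
      omega
    obtain ⟨i, hi⟩ := this
    rw [coeff, cLin_apply, zetaPow_update z q i hi, zeta, linearize_mul_gen,
      comm_Dp z hz Dp hD hDz p i]
    have hsum : ∑ j, Function.update q i (q i - 1) j = n := by
      have hsum : ∑ j, q j = q i + ∑ j ∈ Finset.univ.erase i, q j :=
        (Finset.add_sum_erase Finset.univ q (Finset.mem_univ i)).symm
      have hsum' : ∑ j, Function.update q i (q i - 1) j =
          (q i - 1) + ∑ j ∈ Finset.univ.erase i, q j := by
        rw [← Finset.add_sum_erase Finset.univ _ (Finset.mem_univ i), Function.update_self]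
        congr 1
        refine Finset.sum_congr rfl fun j hj => ?_
        rw [Function.update_of_ne (Finset.ne_of_mem_erase hj)]
      omega
    by_cases hpi : 1 ≤ p i
    · rw [if_pos hpi]
      have := ih (Function.update q i (q i - 1)) (Function.update p i (p i - 1)) hsum
      rw [coeff, cLin_apply] at this
      rw [this]
      by_cases hqp : q = p
      · rw [if_pos hqp, if_pos (by rw [hqp])]
      · rw [if_neg hqp, if_neg]
        intro heq
        apply hqp
        funext j
        by_cases hj : j = i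
        · subst hj
          have := congrFun heq j
          rw [Function.update_self, Function.update_self] at this
          omega
        · have := congrFun heq j
          rwa [Function.update_of_ne hj, Function.update_of_ne hj] at this
    · rw [if_neg hpi, linearize_zero, if_neg]
      intro hqp
      subst hqp
      exact hpi hi

/-- the `A`-submodule spanned by the `(b ⊗ 1) ζ^q`. -/
def V : Submodule A (B ⊗[A] B) :=
  Submodule.span A {x | ∃ (b : B) (q : ι → ℕ), x = (b ⊗ₜ[A] (1 : B)) * zetaPow z q}

theorem one_mem_V : (1 : B ⊗[A] B) ∈ V (A := A) z := by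
  refine Submodule.subset_span ⟨1, fun _ => 0, ?_⟩
  rw [zetaPow_zero, mul_one, Algebra.TensorProduct.one_def]

theorem V_mul (x y : B ⊗[A] B) (hx : x ∈ V (A := A) z) (hy : y ∈ V (A := A) z) :
    x * y ∈ V (A := A) z := by
  have h := Submodule.mul_mem_mul hx hy
  rw [V, Submodule.span_mul_span] at h
  refine Submodule.span_mono ?_ h
  rintro _ ⟨_, ⟨b, q, rfl⟩, _, ⟨b', q', rfl⟩, rfl⟩
  refine ⟨b * b', q + q', ?_⟩
  rw [zetaPow_add, ← mul_one (1 : B), ← Algebra.TensorProduct.tmul_mul_tmul, mul_one]
  ring

/-- `V` as a subalgebra -/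
def VAlg : Subalgebra A (B ⊗[A] B) :=
  Submodule.toSubalgebra (V (A := A) z) (one_mem_V z) (V_mul z)

theorem one_tmul_mono_mem (q : ι → ℕ) :
    (1 : B) ⊗ₜ[A] (∏ i, z i ^ q i) ∈ V (A := A) z := by
  have h : (1 : B) ⊗ₜ[A] (∏ i, z i ^ q i) =
      ∏ i, (Algebra.TensorProduct.includeRight (R := A) (A := B) (B := B) (z i)) ^ q i := by
    rw [← Algebra.TensorProduct.includeRight_apply, map_prod]
    simp only [map_pow]
  rw [h]
  change _ ∈ VAlg (A := A) z
  refine Subalgebra.prod_mem _ fun i _ => Subalgebra.pow_mem _ ?_ _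
  change _ ∈ V (A := A) z
  have : (Algebra.TensorProduct.includeRight (R := A) (A := B) (B := B) (z i)) =
      (z i ⊗ₜ[A] (1 : B)) * zetaPow z (fun _ => 0) +
        ((1 : B) ⊗ₜ[A] (1 : B)) * zetaPow z (Pi.single i 1) := by
    rw [zetaPow_zero, zetaPow_single, zeta, Algebra.TensorProduct.includeRight_apply,
      ← Algebra.TensorProduct.one_def]
    ring
  rw [this]
  exact add_mem (Submodule.subset_span ⟨_, _, rfl⟩) (Submodule.subset_span ⟨_, _, rfl⟩)

theorem linearize_V (E : B →ₗ[A] B) (h : ∀ q, coeff z q E = 0) :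
    ∀ x ∈ V (A := A) z, Diff16.linearize A B B B E x = 0 := by
  intro x hx
  induction hx using Submodule.span_induction with
  | mem x hx =>
    obtain ⟨b, q, rfl⟩ := hx
    rw [linearize_left_mul]
    have := h q
    rw [coeff, cLin_apply] at this
    rw [this, smul_zero]
  | zero => simp
  | add x y _ _ hx hy => rw [map_add, hx, hy, add_zero]
  | smul a x _ hx => rw [map_smul, hx, smul_zero]

include hz in
theorem eq_zero_of_coeff (E : B →ₗ[A] B) (k : ℕ) (hk : Diff16.IsDiffOpLE A B B B k E)
    (h : ∀ q, coeff z q E = 0) : E = 0 := by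
  refine eq_zero_of_isDiffOpLE_of_mono z hz k E hk ?_
  intro q
  have := linearize_V z E h _ (one_tmul_mono_mem z q)
  rwa [linearize_tmul, one_smul] at this

theorem coeff_eq_zero_of_order (m : ℕ) (D : B →ₗ[A] B) (hDm : Diff16.IsDiffOpLE A B B B m D)
    (q : ι → ℕ) (hq : m < ∑ i, q i) : coeff z q D = 0 := by
  rw [coeff, cLin_apply]
  rw [isDiffOpLE_iff_vanishes] at hDm
  exact hDm _ (Ideal.pow_le_pow_right (by omega) (zetaPow_mem z q))

/-- the index type -/
abbrev T (ι : Type) [Fintype ι] (m : ℕ) : Type := {p : ι → ℕ // ∑ i, p i ≤ m}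

instance (m : ℕ) : Finite (T ι m) := by
  refine Finite.of_injective (fun p : T ι m => (fun i =>
    (⟨p.1 i, lt_of_le_of_lt (le_trans (Finset.single_le_sum (fun _ _ => Nat.zero_le _)
      (Finset.mem_univ i)) p.2) (Nat.lt_succ_self m)⟩ : Fin (m + 1)))) ?_
  intro p p' h
  apply Subtype.ext
  funext i
  have := congrFun h i
  exact congrArg Fin.val this

include hz hD hDz in
theorem coeff_sum (m : ℕ) [Fintype (T ι m)] (a : T ι m → B) (q : ι → ℕ) :
    coeff z q (∑ p : T ι m, a p • Dp p.1) =
      if h : ∑ i, q i ≤ m then a ⟨q, h⟩ else 0 := by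
  rw [map_sum]
  simp_rw [map_smul, coeff_Dp z hz Dp hD hDz _ q _ rfl]
  split_ifs with h
  · rw [Finset.sum_eq_single ⟨q, h⟩]
    · simp
    · intro p _ hp
      rw [if_neg, smul_zero]
      intro hq
      apply hp
      exact Subtype.ext hq.symm
    · intro h'; exact absurd (Finset.mem_univ _) h'
  · apply Finset.sum_eq_zero
    intro p _
    rw [if_neg, smul_zero]
    intro hq
    apply h
    rw [hq]
    exact p.2

include hz hD hDz in
theorem main :
    (∀ p, Diff16.IsDiffOpLE A B B B (∑ i, p i) (Dp p)) ∧
      ∀ (m : ℕ) (D : B →ₗ[A] B), Diff16.IsDiffOpLE A B B B m D →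
        ∃! a : {p : ι → ℕ // ∑ i, p i ≤ m} →₀ B, D = a.sum fun p c => c • Dp p.1 := by
  refine ⟨fun p => order_Dp z hz Dp hD hDz _ p rfl, ?_⟩
  intro m D hDm
  haveI : Fintype (T ι m) := Fintype.ofFinite _
  have hsum : ∀ a : T ι m →₀ B, (a.sum fun p c => c • Dp p.1) = ∑ p : T ι m, a p • Dp p.1 := by
    intro a
    exact Finsupp.sum_fintype _ _ (fun p => zero_smul _ _)
  refine ⟨Finsupp.equivFunOnFinite.symm (fun p : T ι m => coeff z p.1 D), ?_, ?_⟩
  · dsimp only
    rw [hsum]
    have hE : D - ∑ p : T ι m, (Finsupp.equivFunOnFinite.symm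
        (fun p : T ι m => coeff z p.1 D)) p • Dp p.1 = 0 := by
      refine eq_zero_of_coeff z hz _ m ?_ ?_
      · refine isDiffOpLE_sub hDm (isDiffOpLE_sum' _ m _ fun p _ => isDiffOpLE_smul ?_ _)
        exact isDiffOpLE_mono (order_Dp z hz Dp hD hDz _ p.1 rfl) p.2
      · intro q
        rw [map_sub, coeff_sum z hz Dp hD hDz m]
        split_ifs with h
        · simp
        · rw [sub_zero]
          exact coeff_eq_zero_of_order z m D hDm q (by omega)
    exact sub_eq_zero.1 hE
  · intro a' ha'
    rw [hsum] at ha'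
    ext p
    have := coeff_sum z hz Dp hD hDz m (fun p => a' p) p.1
    rw [← ha', dif_pos p.2] at this
    simp [this]

end family

end Groth.Agent.H2.DiffBasis
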