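import Mathlib

/-!
# The `p`-adic dilatation algebra `A⟨a_i / p⟩` (ring level)
-/

set_option autoImplicit false
universe u
open MvPolynomial

namespace Groth.Agent.H2.Dilat

section Constr

variable (p : ℕ) {A : Type u} [CommRing A] {n : ℕ} (a : Fin n → A)

/-- the ideal generated by `p X_i - a_i`. -/
noncomputable def J₀ : Ideal (MvPolynomial (Fin n) A) :=
  Ideal.span (Set.range fun i : Fin n => (p : MvPolynomial (Fin n) A) * X i - C (a i))

/-- its `p`-saturation. -/
noncomputable def J : Ideal (MvPolynomial (Fin n) A) where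
  carrier := {f | ∃ k : ℕ, (p : MvPolynomial (Fin n) A) ^ k * f ∈ J₀ p a}
  add_mem' := by
    rintro f g ⟨k, hk⟩ ⟨l, hl⟩
    refine ⟨k + l, ?_⟩
    have : (p : MvPolynomial (Fin n) A) ^ (k + l) * (f + g) =
        (p : MvPolynomial (Fin n) A) ^ l * ((p : MvPolynomial (Fin n) A) ^ k * f) +
          (p : MvPolynomial (Fin n) A) ^ k * ((p : MvPolynomial (Fin n) A) ^ l * g) := by ring
    rw [this]
    exact (J₀ p a).add_mem ((J₀ p a).mul_mem_left _ hk) ((J₀ p a).mul_mem_left _ hl)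
  zero_mem' := ⟨0, by simp⟩
  smul_mem' := by
    rintro c f ⟨k, hk⟩
    refine ⟨k, ?_⟩
    have : (p : MvPolynomial (Fin n) A) ^ k * (c • f) =
        c * ((p : MvPolynomial (Fin n) A) ^ k * f) := by rw [smul_eq_mul]; ring
    rw [this]
    exact (J₀ p a).mul_mem_left _ hk

lemma mem_J (f : MvPolynomial (Fin n) A) :
    f ∈ J p a ↔ ∃ k : ℕ, (p : MvPolynomial (Fin n) A) ^ k * f ∈ J₀ p a := Iff.rfl

lemma le_J : J₀ p a ≤ J p a := fun f hf => (mem_J p a f).2 ⟨0, by simpa using hf⟩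

/-- the uncompleted dilatation algebra. -/
abbrev D₁ : Type u := MvPolynomial (Fin n) A ⧸ J p a

lemma reg₁ (x : D₁ p a) (hx : (p : D₁ p a) * x = 0) : x = 0 := by
  obtain ⟨f, rfl⟩ := Ideal.Quotient.mk_surjective x
  have h1 : (Ideal.Quotient.mk (J p a)) ((p : MvPolynomial (Fin n) A) * f) = 0 := by
    rw [map_mul, map_natCast]
    exact hx
  rw [Ideal.Quotient.eq_zero_iff_mem] at h1 ⊢
  obtain ⟨k, hk⟩ := (mem_J p a _).1 h1
  refine (mem_J p a _).2 ⟨k + 1, ?_⟩
  have : (p : MvPolynomial (Fin n) A) ^ (k + 1) * f =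
      (p : MvPolynomial (Fin n) A) ^ k * ((p : MvPolynomial (Fin n) A) * f) := by ring
  rw [this]
  exact hk

lemma a_eq (i : Fin n) :
    algebraMap A (D₁ p a) (a i) = (p : D₁ p a) * Ideal.Quotient.mk (J p a) (X i) := by
  have h : (p : MvPolynomial (Fin n) A) * X i - C (a i) ∈ J p a :=
    le_J p a (Ideal.subset_span ⟨i, rfl⟩)
  have h2 := (Ideal.Quotient.eq_zero_iff_mem).mpr h
  rw [map_sub, map_mul, map_natCast, sub_eq_zero] at h2
  rw [h2]
  rfl

section Lift

variable {p a} {B : Type u} [CommRing B] [Algebra A B]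

lemma aeval_J (hB : ∀ y : B, (p : B) * y = 0 → y = 0)
    (b : Fin n → B) (hb : ∀ i, algebraMap A B (a i) = (p : B) * b i)
    (f : MvPolynomial (Fin n) A) (hf : f ∈ J p a) : aeval b f = 0 := by
  obtain ⟨k, hk⟩ := (mem_J p a f).1 hf
  have h0 : J₀ p a ≤ RingHom.ker (aeval b : MvPolynomial (Fin n) A →ₐ[A] B) := by
    rw [J₀, Ideal.span_le]
    rintro _ ⟨i, rfl⟩
    rw [SetLike.mem_coe, RingHom.mem_ker, map_sub, map_mul, map_natCast, aeval_X, aeval_C, hb i,
      sub_self]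
  have h1 : aeval b ((p : MvPolynomial (Fin n) A) ^ k * f) = 0 := h0 hk
  rw [map_mul, map_pow, map_natCast] at h1
  clear hk
  induction k with
  | zero => simpa using h1
  | succ k ih =>
    apply ih
    apply hB
    rw [← mul_assoc, ← pow_succ']
    exact h1

/-- the map out of the uncompleted dilatation algebra. -/
noncomputable def g₁ (hB : ∀ y : B, (p : B) * y = 0 → y = 0)
    (b : Fin n → B) (hb : ∀ i, algebraMap A B (a i) = (p : B) * b i) : D₁ p a →ₐ[A] B :=
  Ideal.Quotient.liftₐ (J p a) (aeval b) (aeval_J hB b hb)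

lemma uniq₁ (hB : ∀ y : B, (p : B) * y = 0 → y = 0) (φ ψ : D₁ p a →ₐ[A] B) : φ = ψ := by
  apply Ideal.Quotient.algHom_ext
  apply MvPolynomial.algHom_ext
  intro i
  show φ (Ideal.Quotient.mk (J p a) (X i)) = ψ (Ideal.Quotient.mk (J p a) (X i))
  have hφ : ∀ θ : D₁ p a →ₐ[A] B,
      (p : B) * θ (Ideal.Quotient.mk (J p a) (X i)) = algebraMap A B (a i) := by
    intro θ
    rw [← map_natCast θ p, ← map_mul, ← a_eq, AlgHom.commutes]
  apply sub_eq_zero.mp
  apply hB
  rw [mul_sub, hφ φ, hφ ψ, sub_self]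

end Lift

/-- the ideal `(p)` of `D₁`. -/
noncomputable abbrev I₁ : Ideal (D₁ p a) := Ideal.span {(p : D₁ p a)}

/-- the dilatation algebra. -/
abbrev D : Type u := AdicCompletion (I₁ p a) (D₁ p a)

instance : IsScalarTower A (D₁ p a) (D p a) :=
  IsScalarTower.of_algebraMap_eq' (R := A) (S := D₁ p a) (A := D p a) (RingHom.ext fun _ => rfl)

lemma fg_I₁ : (I₁ p a).FG := ⟨{(p : D₁ p a)}, by rw [Finset.coe_singleton]⟩

lemma complete_D : IsAdicComplete (Ideal.span {(p : D p a)}) (D p a) := by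
  have h1 : IsAdicComplete (I₁ p a) (D p a) :=
    AdicCompletion.isAdicComplete (I := I₁ p a) (M := D₁ p a) (fg_I₁ p a)
  have h2 := (IsAdicComplete.map_algebraMap_iff (I := I₁ p a) (S := D p a) (M := D p a)).mpr h1
  have h3 : (I₁ p a).map (algebraMap (D₁ p a) (D p a)) = Ideal.span {(p : D p a)} := by
    rw [Ideal.map_span, Set.image_singleton, map_natCast]
  rwa [h3] at h2

lemma cauchy_sub (s : AdicCompletion.AdicCauchySequence (I₁ p a) (D₁ p a)) {m k : ℕ}
    (h : m ≤ k) : s.val m - s.val k ∈ (I₁ p a) ^ m := by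
  have := s.property h
  rw [SModEq.sub_mem] at this
  simpa using this

lemma reg_D (x : D p a) (hx : (p : D p a) * x = 0) : x = 0 := by
  obtain ⟨s, rfl⟩ := AdicCompletion.mk_surjective (I₁ p a) (D₁ p a) x
  apply AdicCompletion.ext_evalₐ
  intro k
  rw [map_zero, AdicCompletion.evalₐ_mk, Ideal.Quotient.eq_zero_iff_mem]
  have h1 : (p : D₁ p a) * s.val (k + 1) ∈ (I₁ p a) ^ (k + 1) := by
    have := congrArg (AdicCompletion.evalₐ (I₁ p a) (k + 1)) hx
    rw [map_mul, map_natCast, map_zero, AdicCompletion.evalₐ_mk,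
      ← map_natCast (Ideal.Quotient.mk ((I₁ p a) ^ (k + 1))), ← map_mul,
      Ideal.Quotient.eq_zero_iff_mem] at this
    exact this
  rw [Ideal.span_singleton_pow, Ideal.mem_span_singleton'] at h1
  obtain ⟨z, hz⟩ := h1
  have h2 : s.val (k + 1) = (p : D₁ p a) ^ k * z := by
    apply sub_eq_zero.mp
    apply reg₁
    rw [mul_sub, ← hz]
    ring
  have h3 : s.val (k + 1) ∈ (I₁ p a) ^ k := by
    rw [h2, Ideal.span_singleton_pow]
    exact Ideal.mul_mem_right _ _ (Ideal.mem_span_singleton_self _)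
  have h4 := cauchy_sub p a s (Nat.le_succ k)
  have := Ideal.add_mem _ h4 h3
  simpa using this

lemma mem_D (i : Fin n) : algebraMap A (D p a) (a i) ∈ Ideal.span {(p : D p a)} := by
  have : algebraMap A (D p a) (a i) =
      (p : D p a) * algebraMap (D₁ p a) (D p a) (Ideal.Quotient.mk (J p a) (X i)) := by
    rw [IsScalarTower.algebraMap_apply A (D₁ p a) (D p a), a_eq, map_mul, map_natCast]
  rw [this]
  exact Ideal.mul_mem_right _ _ (Ideal.mem_span_singleton_self _)

lemma decomp (x : D p a) (k : ℕ) :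
    ∃ (y : D₁ p a) (z : D p a), x = algebraMap (D₁ p a) (D p a) y + (p : D p a) ^ k * z := by
  obtain ⟨s, rfl⟩ := AdicCompletion.mk_surjective (I₁ p a) (D₁ p a) x
  have h1 : AdicCompletion.mk (I₁ p a) (D₁ p a) s - AdicCompletion.of (I₁ p a) (D₁ p a) (s.val k) ∈
      LinearMap.ker (AdicCompletion.eval (I₁ p a) (D₁ p a) k) := by
    rw [LinearMap.mem_ker, map_sub, sub_eq_zero]
    rfl
  rw [← AdicCompletion.pow_smul_top_eq_ker_eval (fg_I₁ p a), Ideal.span_singleton_pow,
    Submodule.ideal_span_singleton_smul, Submodule.mem_smul_pointwise_iff_exists] at h1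
  obtain ⟨z, -, hz⟩ := h1
  refine ⟨s.val k, z, ?_⟩
  have h2 : ((p : D₁ p a) ^ k) • z = (p : D p a) ^ k * z := by
    rw [← map_natCast (algebraMap (D₁ p a) (D p a)), ← map_pow]
    exact Algebra.smul_def (R := D₁ p a) (A := D p a) _ z
  rw [← h2, hz]
  show _ = AdicCompletion.of (I₁ p a) (D₁ p a) (s.val k) + _
  abel

section UP

variable {p a} {B : Type u} [CommRing B] [Algebra A B]

lemma hle (hB : ∀ y : B, (p : B) * y = 0 → y = 0)
    (b : Fin n → B) (hb : ∀ i, algebraMap A B (a i) = (p : B) * b i) (k : ℕ) :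
    (I₁ p a) ^ k ≤ ((Ideal.span {(p : B)}) ^ k).comap (g₁ hB b hb) := by
  rw [Ideal.span_singleton_pow, Ideal.span_le, Set.singleton_subset_iff]
  show g₁ hB b hb ((p : D₁ p a) ^ k) ∈ (Ideal.span {(p : B)}) ^ k
  rw [map_pow, map_natCast, Ideal.span_singleton_pow]
  exact Ideal.mem_span_singleton_self _

/-- the level maps. -/
noncomputable def fk (hB : ∀ y : B, (p : B) * y = 0 → y = 0)
    (b : Fin n → B) (hb : ∀ i, algebraMap A B (a i) = (p : B) * b i) (k : ℕ) :
    D p a →ₐ[A] B ⧸ (Ideal.span {(p : B)}) ^ k :=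
  (Ideal.quotientMapₐ ((Ideal.span {(p : B)}) ^ k) (g₁ hB b hb) (hle hB b hb k)).comp
    ((AdicCompletion.evalₐ (I₁ p a) k).restrictScalars A)

lemma fk_mk (hB : ∀ y : B, (p : B) * y = 0 → y = 0)
    (b : Fin n → B) (hb : ∀ i, algebraMap A B (a i) = (p : B) * b i) (k : ℕ)
    (s : AdicCompletion.AdicCauchySequence (I₁ p a) (D₁ p a)) :
    fk hB b hb k (AdicCompletion.mk (I₁ p a) (D₁ p a) s) =
      Ideal.Quotient.mk _ (g₁ hB b hb (s.val k)) := by
  rw [fk, AlgHom.comp_apply, AlgHom.restrictScalars_apply, AdicCompletion.evalₐ_mk]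
  rfl

lemma fk_compat (hB : ∀ y : B, (p : B) * y = 0 → y = 0)
    (b : Fin n → B) (hb : ∀ i, algebraMap A B (a i) = (p : B) * b i) {m k : ℕ} (h : m ≤ k) :
    (Ideal.Quotient.factorₐ A (Ideal.pow_le_pow_right h)).comp (fk hB b hb k) = fk hB b hb m := by
  apply AlgHom.ext
  intro x
  obtain ⟨s, rfl⟩ := AdicCompletion.mk_surjective (I₁ p a) (D₁ p a) x
  rw [AlgHom.comp_apply, fk_mk, fk_mk]
  show Ideal.Quotient.mk _ (g₁ hB b hb (s.val k)) = Ideal.Quotient.mk _ (g₁ hB b hb (s.val m))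
  rw [eq_comm, Ideal.Quotient.eq, ← map_sub]
  exact hle hB b hb m (cauchy_sub p a s h)

variable [IsAdicComplete (Ideal.span {(p : B)}) B]

/-- the universal map. -/
noncomputable def G (hB : ∀ y : B, (p : B) * y = 0 → y = 0)
    (b : Fin n → B) (hb : ∀ i, algebraMap A B (a i) = (p : B) * b i) : D p a →ₐ[A] B :=
  IsAdicComplete.liftAlgHom (Ideal.span {(p : B)}) (fk hB b hb) (fun h => fk_compat hB b hb h)

lemma uniq (hB : ∀ y : B, (p : B) * y = 0 → y = 0) (φ ψ : D p a →ₐ[A] B) : φ = ψ := by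
  apply IsAdicComplete.algHom_ext (Ideal.span {(p : B)})
  intro k
  apply AlgHom.ext
  intro x
  obtain ⟨y, z, rfl⟩ := decomp p a x k
  have h1 : φ.comp (IsScalarTower.toAlgHom A (D₁ p a) (D p a)) =
      ψ.comp (IsScalarTower.toAlgHom A (D₁ p a) (D p a)) := uniq₁ hB _ _
  have h2 : φ (algebraMap (D₁ p a) (D p a) y) = ψ (algebraMap (D₁ p a) (D p a) y) :=
    congrArg (fun t => t y) h1
  have e : φ (algebraMap (D₁ p a) (D p a) y + (p : D p a) ^ k * z) -
      ψ (algebraMap (D₁ p a) (D p a) y + (p : D p a) ^ k * z) = (p : B) ^ k * (φ z - ψ z) := by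
    rw [map_add, map_add, h2, map_mul, map_mul, map_pow, map_pow, map_natCast, map_natCast]
    ring
  show Ideal.Quotient.mk _ (φ _) = Ideal.Quotient.mk _ (ψ _)
  rw [Ideal.Quotient.eq, e, Ideal.span_singleton_pow]
  exact Ideal.mul_mem_right _ _ (Ideal.mem_span_singleton_self _)

end UP

end Constr

theorem main (p : ℕ) (A : Type u) [CommRing A] {n : ℕ} (a : Fin n → A) :
    ∃ (D : Type u) (_ : CommRing D) (_ : Algebra A D),
      IsAdicComplete (Ideal.span {(p : D)}) D ∧ IsSMulRegular D (p : D) ∧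
      (∀ i, algebraMap A D (a i) ∈ Ideal.span {(p : D)}) ∧
      ∀ (B : Type u) [CommRing B] [Algebra A B] [IsAdicComplete (Ideal.span {(p : B)}) B],
        IsSMulRegular B (p : B) → (∀ i, algebraMap A B (a i) ∈ Ideal.span {(p : B)}) →
          Nonempty (D →ₐ[A] B) ∧ Subsingleton (D →ₐ[A] B) ∧
            (Function.Surjective (algebraMap A B) → ∀ f : D →ₐ[A] B, Function.Surjective f) := by
  refine ⟨D p a, inferInstance, inferInstance, complete_D p a, ?_, mem_D p a, ?_⟩
  · intro x y hxy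
    apply sub_eq_zero.mp
    apply reg_D p a
    rw [mul_sub, sub_eq_zero]
    exact hxy
  · intro B _ _ _ hB hmem
    have hB' : ∀ y : B, (p : B) * y = 0 → y = 0 := by
      intro y hy
      apply hB
      show (p : B) • y = (p : B) • 0
      rw [smul_eq_mul, smul_eq_mul, hy, mul_zero]
    have hb : ∀ i, ∃ c : B, algebraMap A B (a i) = (p : B) * c := by
      intro i
      obtain ⟨c, hc⟩ := Ideal.mem_span_singleton'.1 (hmem i)
      exact ⟨c, by rw [← hc, mul_comm]⟩
    choose b hb using hb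
    refine ⟨⟨G hB' b hb⟩, ⟨fun φ ψ => uniq hB' φ ψ⟩, ?_⟩
    intro hs f y
    obtain ⟨r, rfl⟩ := hs y
    exact ⟨algebraMap A (D p a) r, f.commutes r⟩

end Groth.Agent.H2.Dilat
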