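import Mathlib

/-! A closed subspace of an irreducible space of the same finite dimension is everything. helper2 -/

set_option autoImplicit false
universe u

open CategoryTheory AlgebraicGeometry Topology TopologicalSpace

namespace Groth.Agent.H2.DimClosed

theorem surjective_of_dim_eq {S T : Type*} [TopologicalSpace S] [TopologicalSpace T]
    [IrreducibleSpace T] (g : S → T) (hg : IsClosedEmbedding g)
    (hfin : topologicalKrullDim T ≠ ⊤)
    (hdim : topologicalKrullDim T = topologicalKrullDim S) : Function.Surjective g := by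
  by_contra hns
  have hne : Set.range g ≠ Set.univ := fun h => hns (Set.range_eq_univ.mp h)
  have hbot : topologicalKrullDim T ≠ ⊥ := by
    have : Nonempty (IrreducibleCloseds T) :=
      ⟨⟨Set.univ, IrreducibleSpace.isIrreducible_univ T, isClosed_univ⟩⟩
    exact (Order.krullDim_ne_bot_iff).mpr this
  obtain ⟨n, hn⟩ : ∃ n : ℕ, topologicalKrullDim T = n := by
    match h : topologicalKrullDim T with
    | ⊥ => exact absurd h hbot
    | ((⊤ : ℕ∞) : WithBot ℕ∞) => exact absurd h hfin
    | ((n : ℕ) : WithBot ℕ∞) => exact ⟨n, rfl⟩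
  have h1 : (n : WithBot ℕ∞) ≤ Order.krullDim (IrreducibleCloseds S) := by
    rw [← hn, hdim]; rfl
  obtain ⟨l, hl⟩ := Order.le_krullDim_iff.mp h1
  let l' : LTSeries (IrreducibleCloseds T) :=
    LTSeries.map l (IrreducibleCloseds.map g hg.continuous)
      (IrreducibleCloseds.map_strictMono_of_isInducing hg.isInducing)
  let top : IrreducibleCloseds T := ⟨Set.univ, IrreducibleSpace.isIrreducible_univ T, isClosed_univ⟩
  have hlt : l'.last < top := by
    rw [← SetLike.coe_ssubset_coe]
    refine ⟨Set.subset_univ _, fun h => hne ?_⟩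
    have hsub : ((l'.last : IrreducibleCloseds T) : Set T) ⊆ Set.range g := by
      change closure (g '' (l.last : Set S)) ⊆ Set.range g
      exact closure_minimal (Set.image_subset_range _ _) hg.isClosed_range
    exact Set.eq_univ_of_univ_subset (h.trans hsub)
  have h2 := Order.LTSeries.length_le_krullDim (l'.snoc top hlt)
  have h3 : (l'.snoc top hlt).length = n + 1 := by simp [l', hl]
  rw [h3] at h2
  have h4 : ((n + 1 : ℕ) : WithBot ℕ∞) ≤ (n : WithBot ℕ∞) := by
    rw [← hn]; exact h2
  have : n + 1 ≤ n := by exact_mod_cast h4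
  omega

theorem isIso_of_isClosedImmersion_of_dim_eq {X Y : Scheme.{u}} (i : Y ⟶ X)
    [IsClosedImmersion i] [IsIntegral X] (hfin : topologicalKrullDim ↥X ≠ ⊤)
    (hdim : topologicalKrullDim ↥X = topologicalKrullDim ↥Y) : IsIso i := by
  have hs : Function.Surjective i.base :=
    surjective_of_dim_eq i.base i.isClosedEmbedding hfin hdim
  have : Surjective i := ⟨hs⟩
  exact isIso_of_isClosedImmersion_of_surjective i

end Groth.Agent.H2.DimClosed
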