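import Groth.Agent.Lib.Lead.QC.FinType

/-!
# Sections of a quasi-coherent module over a basic open of an affine open (helper2)

Two "fraction" lemmas, written so that the basic open may be given up to an equality of opens.
-/

set_option autoImplicit false
set_option linter.style.haveILetI false
universe u

open CategoryTheory CategoryTheory.Limits AlgebraicGeometry Opposite TopologicalSpace

namespace Groth.Agent.H2.DirFT

open Groth.Agent.LD.QC

variable {X : Scheme.{u}}

/-- every section over `D(g)` is a combination of the restrictions of a spanning family. -/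
theorem exists_coeff_of_span (F : X.Modules) [F.IsQuasicoherent] {U : X.Opens}
    (hU : IsAffineOpen U) {ι : Type u} [Fintype ι] (s : ι → Γ(F, U))
    (hs : Submodule.span Γ(X, U) (Set.range s) = ⊤) (g : Γ(X, U))
    (D : X.Opens) (hD : D = X.basicOpen g) (hDU : D ≤ U) (t : Γ(F, D)) :
    ∃ r : ι → Γ(X, D), t = ∑ i, r i • F.presheaf.map (homOfLE hDU).op (s i) := by
  subst hD
  obtain ⟨n, m, hm⟩ := affine_surj F hU g t
  have hm' : m ∈ Submodule.span Γ(X, U) (Set.range s) := by rw [hs]; trivial
  obtain ⟨a, ha⟩ := (Submodule.mem_span_range_iff_exists_fun _).mp hm'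
  have hu : IsUnit (X.presheaf.map (homOfLE (X.basicOpen_le g)).op g) :=
    RingedSpace.isUnit_res_basicOpen _ g
  obtain ⟨v, hv⟩ := hu
  have hv' : (X.presheaf.map (homOfLE (X.basicOpen_le g)).op g) = (v : Γ(X, X.basicOpen g)) :=
    hv.symm
  refine ⟨fun i => (↑(v⁻¹ ^ n) : Γ(X, X.basicOpen g)) *
    X.presheaf.map (homOfLE (X.basicOpen_le g)).op (a i), ?_⟩
  have h1 : t = (↑(v⁻¹ ^ n) : Γ(X, X.basicOpen g)) •
      F.presheaf.map (homOfLE (X.basicOpen_le g)).op m := by
    rw [hm, hv', smul_smul, ← Units.val_pow_eq_pow_val, ← Units.val_mul, ← mul_pow,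
      inv_mul_cancel, one_pow, Units.val_one, one_smul]
  rw [h1, ← ha, map_sum, Finset.smul_sum]
  refine Finset.sum_congr rfl fun i _ => ?_
  rw [Scheme.Modules.map_smul, smul_smul]

/-- if over `D(g)` a section is a combination of the `s i`, then a power of `g` times it lies in
their span. -/
theorem exists_pow_smul_mem_span (F : X.Modules) [F.IsQuasicoherent] {U : X.Opens}
    (hU : IsAffineOpen U) {ι : Type u} [Fintype ι] (s : ι → Γ(F, U)) (g : Γ(X, U))
    (D : X.Opens) (hD : D = X.basicOpen g) (hDU : D ≤ U) (m : Γ(F, U)) (r : ι → Γ(X, D))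
    (h : F.presheaf.map (homOfLE hDU).op m = ∑ i, r i • F.presheaf.map (homOfLE hDU).op (s i)) :
    ∃ n : ℕ, g ^ n • m ∈ Submodule.span Γ(X, U) (Set.range s) := by
  subst hD
  haveI : IsLocalization.Away g Γ(X, X.basicOpen g) := hU.isLocalization_basicOpen g
  obtain ⟨⟨b, N, hN⟩, hb⟩ := IsLocalization.exist_integer_multiples (Submonoid.powers g)
    Finset.univ r
  have hb' : ∀ i, ∃ a : Γ(X, U),
      X.presheaf.map (homOfLE (X.basicOpen_le g)).op a =
        X.presheaf.map (homOfLE (X.basicOpen_le g)).op (g ^ N) * r i := by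
    intro i
    obtain ⟨a, ha⟩ := hb i (Finset.mem_univ i)
    refine ⟨a, ?_⟩
    have : algebraMap Γ(X, U) Γ(X, X.basicOpen g) a = b • r i := ha
    rw [Algebra.smul_def, ← hN] at this
    exact this
  choose a ha using hb'
  have h2 : F.presheaf.map (homOfLE (X.basicOpen_le g)).op (g ^ N • m - ∑ i, a i • s i) = 0 := by
    rw [map_sub, Scheme.Modules.map_smul, map_sum, h, Finset.smul_sum, sub_eq_zero]
    refine Finset.sum_congr rfl fun i _ => ?_
    rw [Scheme.Modules.map_smul, ha i, smul_smul]
  obtain ⟨n, hn⟩ := affine_inj F hU g _ h2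
  refine ⟨n + N, ?_⟩
  have h3 : g ^ (n + N) • m = ∑ i, (g ^ n * a i) • s i := by
    rw [smul_sub, sub_eq_zero] at hn
    rw [pow_add, mul_smul, hn, Finset.smul_sum]
    refine Finset.sum_congr rfl fun i _ => ?_
    rw [smul_smul]
  rw [h3]
  exact Submodule.sum_mem _ fun i _ =>
    Submodule.smul_mem _ _ (Submodule.subset_span ⟨i, rfl⟩)

end Groth.Agent.H2.DirFT
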