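import Groth.Agent.Lib.Helper2.DirFTA
import Groth.Agent.Lib.Lead.RSp.Top
import Groth.Prelude.Def_RelSpec2

/-!
# Finite type modules and direct images along affine morphisms (helper2)

`F` quasi-coherent on `X`, `f : X ⟶ S` affine: `F` is of finite type iff `f_* F` is of finite type
over `f_* O_X`.
-/

set_option autoImplicit false
set_option linter.style.haveILetI false
set_option linter.unusedVariables false
universe u

open CategoryTheory CategoryTheory.Limits AlgebraicGeometry Opposite TopologicalSpace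

namespace Groth.Agent.H2.DirFT

open Groth.Agent.LD.QC Groth.Agent.LD.RSp

variable {X S : Scheme.{u}} (f : X ⟶ S) [IsAffineHom f] (F : X.Modules)

/-- the direct image algebra as a sheaf of commutative rings. -/
noncomputable abbrev OO : TopCat.Sheaf CommRingCat.{u} S.carrier :=
  ⟨(RelSpec.QCAlg.directImage f).presheaf, (RelSpec.QCAlg.directImage f).isSheaf⟩

/-- the direct image module. -/
noncomputable abbrev FF : ModSite.Mod (OO f) := (AMod.dirImg f).obj F

lemma preimage_le {V W : S.Opens} (h : W ≤ V) : f ⁻¹ᵁ W ≤ f ⁻¹ᵁ V := fun _ hx => h hx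

lemma res_FF {V W : S.Opens} (h : W ≤ V) (t : Γ(F, f ⁻¹ᵁ V)) :
    res (FF f F) h t = F.presheaf.map (homOfLE (preimage_le f h)).op t := rfl

variable [F.IsQuasicoherent]

theorem locGen_of_span {U : S.Opens} (hU : IsAffineOpen U) {ι : Type u} [Fintype ι]
    (s : ι → Γ(F, f ⁻¹ᵁ U))
    (hs : Submodule.span Γ(X, f ⁻¹ᵁ U) (Set.range s) = ⊤) :
    LocGen (FF f F) U s := by
  intro V hV t x hx
  obtain ⟨g, hgV, hxg⟩ := hU.exists_basicOpen_le ⟨x, hx⟩ (hV hx)
  refine ⟨S.basicOpen g, hgV, hxg, ?_⟩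
  have hU' : IsAffineOpen (f ⁻¹ᵁ U) := hU.preimage f
  obtain ⟨r, hr⟩ := exists_coeff_of_span F hU' s hs (f.app U g) (f ⁻¹ᵁ S.basicOpen g)
    (Scheme.preimage_basicOpen f g) (preimage_le f (hgV.trans hV))
    (F.presheaf.map (homOfLE (preimage_le f hgV)).op t)
  exact ⟨r, hr⟩

theorem span_of_locGen {U : S.Opens} (hU : IsAffineOpen U) {ι : Type u} [Fintype ι]
    (s : ι → Γ(F, f ⁻¹ᵁ U)) (h : LocGen (FF f F) U s) :
    Submodule.span Γ(X, f ⁻¹ᵁ U) (Set.range s) = ⊤ := by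
  have hU' : IsAffineOpen (f ⁻¹ᵁ U) := hU.preimage f
  rw [eq_top_iff]
  intro m _
  let T₀ : Set Γ(S, U) := {g | ∃ r : ι → Γ(X, f ⁻¹ᵁ S.basicOpen g),
    F.presheaf.map (homOfLE (preimage_le f (S.basicOpen_le g))).op m =
      ∑ i, r i • F.presheaf.map (homOfLE (preimage_le f (S.basicOpen_le g))).op (s i)}
  have hT₀ : Ideal.span T₀ = ⊤ := by
    rw [← hU.self_le_iSup_basicOpen_iff]
    intro y hy
    obtain ⟨W, hW, hyW, r, hr⟩ := h U le_rfl m y hy
    obtain ⟨g, hgW, hyg⟩ := hU.exists_basicOpen_le ⟨y, hyW⟩ hy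
    refine Opens.mem_iSup.mpr ⟨⟨g, ?_⟩, hyg⟩
    have h1 := congrArg (res (FF f F) hgW) hr
    rw [LD.RSp.res_res, res_sum] at h1
    refine ⟨fun i => rr (OO f) hgW (r i), ?_⟩
    refine h1.trans (Finset.sum_congr rfl fun i _ => ?_)
    rw [res_smul, LD.RSp.res_res]
    rfl
  let T : Set Γ(X, f ⁻¹ᵁ U) := (f.app U).hom '' T₀
  have hT : Ideal.span T = ⊤ := by
    rw [← Ideal.map_span, hT₀, Ideal.map_top]
  refine Submodule.mem_of_span_eq_top_of_smul_pow_mem _ T hT m ?_
  rintro ⟨_, g, ⟨r, hr⟩, rfl⟩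
  exact exists_pow_smul_mem_span F hU' s (f.app U g) (f ⁻¹ᵁ S.basicOpen g)
    (Scheme.preimage_basicOpen f g) (preimage_le f (S.basicOpen_le g)) m r hr

set_option maxHeartbeats 800000 in
/-- **S8303** -/
theorem s8303 (hF : Coh.IsQCoh F) :
    SheafOfModules.IsFiniteType.{u} (R := X.ringCatSheaf) F ↔
      SheafOfModules.IsFiniteType.{u} (R := AMod.ringSheaf (RelSpec.QCAlg.directImage f))
        ((AMod.dirImg f).obj F) := by
  constructor
  · intro hFT
    refine (isFiniteType_iff (O := OO f) (FF f F)).mpr fun y => ?_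
    obtain ⟨U, hU, hyU, -⟩ := exists_isAffineOpen_mem_and_subset (x := y) (U := ⊤) trivial
    have hU' : IsAffineOpen (f ⁻¹ᵁ U) := hU.preimage f
    haveI : Module.Finite Γ(X, f ⁻¹ᵁ U) Γ(F, f ⁻¹ᵁ U) :=
      finite_sections_of_isFiniteType F hFT hU'
    obtain ⟨n, s, hs⟩ := Module.Finite.exists_fin (R := Γ(X, f ⁻¹ᵁ U)) (M := Γ(F, f ⁻¹ᵁ U))
    refine ⟨U, hyU, ULift.{u} (Fin n), inferInstance, fun i : ULift.{u} (Fin n) => s i.down, ?_⟩
    refine locGen_of_span f F hU (fun i : ULift.{u} (Fin n) => s i.down) ?_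
    have : Set.range (fun i : ULift.{u} (Fin n) => s i.down) = Set.range s := by
      ext z
      constructor
      · rintro ⟨i, rfl⟩; exact ⟨i.down, rfl⟩
      · rintro ⟨i, rfl⟩; exact ⟨⟨i⟩, rfl⟩
    rw [this, hs]
  · intro hFT
    refine isFiniteType_of_finite_sections F fun x => ?_
    obtain ⟨U₀, hyU₀, ι, hι, s, hs⟩ := (isFiniteType_iff (O := OO f) (FF f F)).mp hFT (f.base x)
    obtain ⟨U, hU, hyU, hUU₀⟩ := exists_isAffineOpen_mem_and_subset (x := f.base x) (U := U₀) hyU₀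
    have hs' := LocGen.res hs hUU₀
    have hspan := span_of_locGen f F hU _ hs'
    refine ⟨f ⁻¹ᵁ U, hU.preimage f, hyU, ?_⟩
    classical
    refine Module.finite_def.mpr ⟨Finset.univ.image fun i => res (FF f F) hUU₀ (s i), ?_⟩
    rw [Finset.coe_image, Finset.coe_univ, Set.image_univ]
    exact hspan

end Groth.Agent.H2.DirFT
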