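import Mathlib

/-!
# Directed colimits of flat modules are flat (abstract form)

`flat_of_directed`: if `S` is (abstractly) the directed colimit of flat modules `G i`
(jointly surjective structure maps `of i`, and `of i x = 0` iff `x` dies at a later stage),
then `S` is flat.
-/

namespace Groth.Agent.H2.DirLimFlat

open TensorProduct

universe u v w

variable {R : Type u} [CommRing R] {ι : Type v} [Preorder ι] [Nonempty ι] [IsDirected ι (· ≤ ·)]
  (G : ι → Type w) [∀ i, AddCommGroup (G i)] [∀ i, Module R (G i)]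
  {S : Type w} [AddCommGroup S] [Module R S]
  (f : ∀ i j, i ≤ j → G i →ₗ[R] G j) (of : ∀ i, G i →ₗ[R] S)

include f in
/-- Every element of `N ⊗ S` comes from some `N ⊗ G j`. -/
theorem exists_lTensor_eq (hof : ∀ i j (h : i ≤ j) (x : G i), of j (f i j h x) = of i x)
    (hsurj : ∀ s : S, ∃ (i : ι) (x : G i), of i x = s)
    {N : Type*} [AddCommGroup N] [Module R N] (z : N ⊗[R] S) :
    ∃ (j : ι) (w : N ⊗[R] G j), (of j).lTensor N w = z := by
  induction z using TensorProduct.induction_on with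
  | zero =>
    obtain ⟨i⟩ := ‹Nonempty ι›
    exact ⟨i, 0, map_zero _⟩
  | tmul n s =>
    obtain ⟨i, x, rfl⟩ := hsurj s
    exact ⟨i, n ⊗ₜ x, rfl⟩
  | add z₁ z₂ h₁ h₂ =>
    obtain ⟨j₁, w₁, rfl⟩ := h₁
    obtain ⟨j₂, w₂, rfl⟩ := h₂
    obtain ⟨k, h1, h2⟩ := exists_ge_ge j₁ j₂
    refine ⟨k, (f j₁ k h1).lTensor N w₁ + (f j₂ k h2).lTensor N w₂, ?_⟩
    have e1 : (of k).comp (f j₁ k h1) = of j₁ := LinearMap.ext (hof j₁ k h1)
    have e2 : (of k).comp (f j₂ k h2) = of j₂ := LinearMap.ext (hof j₂ k h2)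
    rw [map_add, ← LinearMap.comp_apply, ← LinearMap.comp_apply, ← LinearMap.lTensor_comp,
      ← LinearMap.lTensor_comp, e1, e2]

omit [Nonempty ι] [IsDirected ι (· ≤ ·)] in
theorem lid_lTensor {A B : Type*} [AddCommGroup A] [Module R A] [AddCommGroup B] [Module R B]
    (h : A →ₗ[R] B) (y : R ⊗[R] A) :
    TensorProduct.lid R B (h.lTensor R y) = h (TensorProduct.lid R A y) := by
  induction y using TensorProduct.induction_on with
  | zero => simp
  | tmul r a => simp
  | add y₁ y₂ h₁ h₂ => simp only [map_add, h₁, h₂]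

theorem flat_of_directed (hof : ∀ i j (h : i ≤ j) (x : G i), of j (f i j h x) = of i x)
    (hsurj : ∀ s : S, ∃ (i : ι) (x : G i), of i x = s)
    (hzero : ∀ (i : ι) (x : G i), of i x = 0 → ∃ (j : ι) (h : i ≤ j), f i j h x = 0)
    (hflat : ∀ i, Module.Flat R (G i)) : Module.Flat R S := by
  rw [Module.Flat.iff_rTensor_injective']
  intro I
  rw [injective_iff_map_eq_zero]
  intro z hz
  obtain ⟨j, w, rfl⟩ := exists_lTensor_eq G f of hof hsurj z
  have h1 : (of j).lTensor R (I.subtype.rTensor (G j) w) = 0 := by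
    rw [← LinearMap.comp_apply, LinearMap.lTensor_comp_rTensor, ← LinearMap.rTensor_comp_lTensor,
      LinearMap.comp_apply, hz]
  have h2 : of j (TensorProduct.lid R (G j) (I.subtype.rTensor (G j) w)) = 0 := by
    rw [← lid_lTensor, h1, map_zero]
  obtain ⟨k, hjk, hk⟩ := hzero j _ h2
  have h3 : I.subtype.rTensor (G k) ((f j k hjk).lTensor I w) = 0 := by
    rw [← LinearMap.comp_apply, LinearMap.rTensor_comp_lTensor, ← LinearMap.lTensor_comp_rTensor,
      LinearMap.comp_apply]
    apply (TensorProduct.lid R (G k)).injective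
    rw [lid_lTensor, hk, map_zero]
  have h4 : (f j k hjk).lTensor I w = 0 := by
    have := hflat k
    exact (injective_iff_map_eq_zero _).1
      (Module.Flat.rTensor_preserves_injective_linearMap I.subtype I.injective_subtype) _ h3
  have e1 : (of k).comp (f j k hjk) = of j := LinearMap.ext (hof j k hjk)
  rw [← e1, LinearMap.lTensor_comp, LinearMap.comp_apply, h4, map_zero]

include f in
/-- Elements of `m • ⊤` in the colimit come from `m • ⊤` at a finite stage. -/
theorem exists_mem_smul_top (hof : ∀ i j (h : i ≤ j) (x : G i), of j (f i j h x) = of i x)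
    (hsurj : ∀ s : S, ∃ (i : ι) (x : G i), of i x = s) (m : Ideal R)
    (s : S) (hs : s ∈ m • (⊤ : Submodule R S)) :
    ∃ (j : ι) (t : G j), t ∈ m • (⊤ : Submodule R (G j)) ∧ of j t = s := by
  refine Submodule.smul_induction_on hs ?_ ?_
  · intro a ha s _
    obtain ⟨i, x, rfl⟩ := hsurj s
    exact ⟨i, a • x, Submodule.smul_mem_smul ha Submodule.mem_top, map_smul _ _ _⟩
  · rintro s₁ s₂ ⟨j₁, t₁, ht₁, rfl⟩ ⟨j₂, t₂, ht₂, rfl⟩
    obtain ⟨k, h1, h2⟩ := exists_ge_ge j₁ j₂
    have hmap : ∀ (i : ι) (hi : i ≤ k) (t : G i), t ∈ m • (⊤ : Submodule R (G i)) →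
        f i k hi t ∈ m • (⊤ : Submodule R (G k)) := by
      intro i hi t ht
      have : (m • (⊤ : Submodule R (G i))).map (f i k hi) ≤ m • (⊤ : Submodule R (G k)) := by
        rw [Submodule.map_smul'']
        exact Submodule.smul_mono le_rfl le_top
      exact this ⟨t, ht, rfl⟩
    exact ⟨k, f j₁ k h1 t₁ + f j₂ k h2 t₂, add_mem (hmap _ _ _ ht₁) (hmap _ _ _ ht₂), by
      rw [map_add, hof, hof]⟩

end Groth.Agent.H2.DirLimFlat
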