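import Mathlib.Topology.NoetherianSpace
import Mathlib.Topology.Connected.LocallyConnected
import Mathlib.Topology.Connected.Clopen
import Mathlib.Data.List.TFAE
import Mathlib.Tactic.TFAE

/-! Topological lemmas on (locally) Noetherian spaces. -/

namespace Groth.Agent.H2

open TopologicalSpace Set

/-- In a Noetherian space connected components are open. -/
theorem isOpen_connectedComponent_of_noetherianSpace {α : Type*} [TopologicalSpace α]
    [NoetherianSpace α] (x : α) : IsOpen (connectedComponent x) := by
  have hfin : (irreducibleComponents α).Finite := NoetherianSpace.finite_irreducibleComponents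
  have hcompl : (connectedComponent x)ᶜ =
      ⋃₀ {Z ∈ irreducibleComponents α | ¬ Z ⊆ connectedComponent x} := by
    ext y
    simp only [mem_compl_iff, mem_sUnion, mem_ofPred_eq]
    constructor
    · intro hy
      refine ⟨irreducibleComponent y, ⟨irreducibleComponent_mem_irreducibleComponents y, ?_⟩,
        mem_irreducibleComponent⟩
      intro hsub
      exact hy (hsub mem_irreducibleComponent)
    · rintro ⟨Z, ⟨hZ, hZx⟩, hyZ⟩ hy
      apply hZx
      have hZconn : IsPreconnected Z := hZ.1.isConnected.isPreconnected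
      have : Z ⊆ connectedComponent y := hZconn.subset_connectedComponent hyZ
      rwa [← connectedComponent_eq hy] at this
  rw [← isClosed_compl_iff, hcompl]
  rw [sUnion_eq_biUnion]
  refine Set.Finite.isClosed_biUnion (hfin.subset (fun Z hZ => hZ.1)) ?_
  intro Z hZ
  exact isClosed_of_mem_irreducibleComponents Z hZ.1

/-- A topological space in which every point has a Noetherian neighbourhood is locally
connected. -/
theorem locallyConnectedSpace_of_locally_noetherian (X : Type*) [TopologicalSpace X]
    (hX : ∀ x : X, ∃ U ∈ nhds x, NoetherianSpace U) : LocallyConnectedSpace X := by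
  rw [locallyConnectedSpace_iff_connectedComponentIn_open]
  intro F hF x hxF
  rw [isOpen_iff_mem_nhds]
  intro y hy
  rw [connectedComponentIn_eq hy]
  have hyF : y ∈ F := connectedComponentIn_subset F x hy
  obtain ⟨U, hU, hUN⟩ := hX y
  set W : Set X := interior U ∩ F with hW
  have hWopen : IsOpen W := isOpen_interior.inter hF
  have hyW : y ∈ W := ⟨mem_interior_iff_mem_nhds.mpr hU, hyF⟩
  have : NoetherianSpace W :=
    NoetherianSpace.of_subset (W := U) (inter_subset_left.trans interior_subset)
  have hopen : IsOpen (connectedComponent (⟨y, hyW⟩ : W)) :=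
    isOpen_connectedComponent_of_noetherianSpace _
  have hopen' : IsOpen ((↑) '' connectedComponent (⟨y, hyW⟩ : W) : Set X) :=
    hWopen.isOpenMap_subtype_val _ hopen
  have hconn : IsPreconnected ((↑) '' connectedComponent (⟨y, hyW⟩ : W) : Set X) :=
    (isPreconnected_connectedComponent).image _ continuous_subtype_val.continuousOn
  have hmem : y ∈ ((↑) '' connectedComponent (⟨y, hyW⟩ : W) : Set X) :=
    ⟨⟨y, hyW⟩, mem_connectedComponent, rfl⟩
  have hsub : ((↑) '' connectedComponent (⟨y, hyW⟩ : W) : Set X) ⊆ F := by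
    rintro _ ⟨z, _, rfl⟩
    exact z.2.2
  exact Filter.mem_of_superset (hopen'.mem_nhds hmem)
    (hconn.subset_connectedComponentIn hmem hsub)

end Groth.Agent.H2

namespace Groth.Agent.H2

open TopologicalSpace Set

/-- Only finitely many irreducible components meet a Noetherian open subset. -/
theorem finite_irreducibleComponents_inter_nonempty {α : Type*} [TopologicalSpace α]
    (V : Set α) (hV : IsOpen V) [NoetherianSpace V] :
    {Z ∈ irreducibleComponents α | (Z ∩ V).Nonempty}.Finite := by
  have hfin : (irreducibleComponents V).Finite := NoetherianSpace.finite_irreducibleComponents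
  refine Set.Finite.of_finite_image (f := fun Z : Set α => (Subtype.val ⁻¹' Z : Set V))
    (hfin.subset ?_) ?_
  · rintro _ ⟨Z, ⟨hZ, hne⟩, rfl⟩
    exact preimage_mem_irreducibleComponents hZ hV.isOpenEmbedding_subtypeVal
      (by rwa [Subtype.range_coe])
  · rintro Z₁ ⟨hZ₁, hne₁⟩ Z₂ ⟨hZ₂, hne₂⟩ h
    have e : Z₁ ∩ V = Z₂ ∩ V := by
      have := congr(Subtype.val '' $h)
      simpa [Subtype.image_preimage_coe, inter_comm] using this
    have h1 : Z₁ = closure (Z₁ ∩ V) :=
      subset_antisymm
        (subset_closure_inter_of_isPreirreducible_of_isOpen hZ₁.1.2 hV hne₁)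
        (closure_minimal inter_subset_left (isClosed_of_mem_irreducibleComponents Z₁ hZ₁))
    have h2 : Z₂ = closure (Z₂ ∩ V) :=
      subset_antisymm
        (subset_closure_inter_of_isPreirreducible_of_isOpen hZ₂.1.2 hV hne₂)
        (closure_minimal inter_subset_left (isClosed_of_mem_irreducibleComponents Z₂ hZ₂))
    rw [h1, h2, e]

/-- If every point has a Noetherian neighbourhood and `x` lies on a unique irreducible
component, then `x` has an irreducible open neighbourhood. -/
theorem exists_isOpen_isIrreducible_of_existsUnique {α : Type*} [TopologicalSpace α]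
    (x : α) (V : Set α) (hV : IsOpen V) (hxV : x ∈ V) [NoetherianSpace V]
    (h : ∃! Z : Set α, Z ∈ irreducibleComponents α ∧ x ∈ Z) :
    ∃ U : Set α, IsOpen U ∧ x ∈ U ∧ U ⊆ V ∧ IsIrreducible U := by
  obtain ⟨Z₀, ⟨hZ₀, hxZ₀⟩, huniq⟩ := h
  set S : Set (Set α) := {Z ∈ irreducibleComponents α | (Z ∩ V).Nonempty} with hS
  have hSfin : S.Finite := finite_irreducibleComponents_inter_nonempty V hV
  set C : Set α := ⋃₀ (S \ {Z₀}) with hC
  have hCclosed : IsClosed C := by
    rw [hC, sUnion_eq_biUnion]
    exact (hSfin.subset sdiff_subset).isClosed_biUnion fun Z hZ =>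
      isClosed_of_mem_irreducibleComponents Z hZ.1.1
  have hxC : x ∉ C := by
    rintro ⟨Z, ⟨⟨hZ, _⟩, hne⟩, hxZ⟩
    exact hne (huniq Z ⟨hZ, hxZ⟩)
  have hsub : V ∩ Cᶜ ⊆ Z₀ := by
    rintro y ⟨hyV, hyC⟩
    by_contra hyZ₀
    apply hyC
    refine ⟨irreducibleComponent y, ⟨⟨irreducibleComponent_mem_irreducibleComponents y,
      ⟨y, mem_irreducibleComponent, hyV⟩⟩, ?_⟩, mem_irreducibleComponent⟩
    intro heq
    rw [mem_singleton_iff] at heq
    exact hyZ₀ (heq ▸ mem_irreducibleComponent)
  have hopen : IsOpen (V ∩ Cᶜ) := hV.inter hCclosed.isOpen_compl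
  exact ⟨V ∩ Cᶜ, hopen, ⟨hxV, hxC⟩, inter_subset_left,
    ⟨⟨x, hxV, hxC⟩, hZ₀.1.2.open_subset hopen hsub⟩⟩

end Groth.Agent.H2

namespace Groth.Agent.H2

open TopologicalSpace Set

/-- EGA I 6.1.? : TFAE on irreducible components of a locally Noetherian space. -/
theorem irreducibleComponents_tfae_of_locally_noetherian (X : Type*) [TopologicalSpace X]
    (hX : ∀ x : X, ∃ U ∈ nhds x, NoetherianSpace U) :
    List.TFAE [∀ Z ∈ irreducibleComponents X, IsOpen Z,
      irreducibleComponents X = Set.range (connectedComponent : X → Set X),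
      ∀ x : X, IsIrreducible (connectedComponent x),
      (irreducibleComponents X).PairwiseDisjoint id] := by
  have key : (∀ Z ∈ irreducibleComponents X, IsOpen Z) →
      ∀ Z ∈ irreducibleComponents X, ∀ x ∈ Z, Z = connectedComponent x := by
    intro ha Z hZ x hx
    have hclopen : IsClopen Z := ⟨isClosed_of_mem_irreducibleComponents Z hZ, ha Z hZ⟩
    exact subset_antisymm (hZ.1.isConnected.isPreconnected.subset_connectedComponent hx)
      (hclopen.connectedComponent_subset hx)
  tfae_have 1 → 2 := by
    intro ha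
    ext Z
    constructor
    · intro hZ
      obtain ⟨x, hx⟩ := hZ.1.1
      exact ⟨x, (key ha Z hZ x hx).symm⟩
    · rintro ⟨x, rfl⟩
      rw [← key ha _ (irreducibleComponent_mem_irreducibleComponents x) x
        mem_irreducibleComponent]
      exact irreducibleComponent_mem_irreducibleComponents x
  tfae_have 2 → 3 := by
    intro hb x
    have : connectedComponent x ∈ irreducibleComponents X := hb ▸ ⟨x, rfl⟩
    exact this.1
  tfae_have 3 → 4 := by
    intro hc Z₁ hZ₁ Z₂ hZ₂ hne
    rw [Function.onFun, Set.disjoint_left]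
    intro x hx₁ hx₂
    apply hne
    have h1 : Z₁ = connectedComponent x :=
      subset_antisymm (hZ₁.1.isConnected.isPreconnected.subset_connectedComponent hx₁)
        (hZ₁.2 (hc x) (hZ₁.1.isConnected.isPreconnected.subset_connectedComponent hx₁))
    have h2 : Z₂ = connectedComponent x :=
      subset_antisymm (hZ₂.1.isConnected.isPreconnected.subset_connectedComponent hx₂)
        (hZ₂.2 (hc x) (hZ₂.1.isConnected.isPreconnected.subset_connectedComponent hx₂))
    exact h1.trans h2.symm
  tfae_have 4 → 1 := by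
    intro hd Z₀ hZ₀
    rw [isOpen_iff_mem_nhds]
    intro x hx
    obtain ⟨N, hN, hNN⟩ := hX x
    have : NoetherianSpace (interior N) := NoetherianSpace.of_subset (W := N) interior_subset
    have huniq : ∃! Z : Set X, Z ∈ irreducibleComponents X ∧ x ∈ Z := by
      refine ⟨Z₀, ⟨hZ₀, hx⟩, ?_⟩
      rintro Z ⟨hZ, hxZ⟩
      by_contra hne
      exact Set.disjoint_left.mp (hd hZ hZ₀ hne) hxZ hx
    obtain ⟨U, hUo, hxU, -, hUirr⟩ := exists_isOpen_isIrreducible_of_existsUnique x
      (interior N) isOpen_interior (mem_interior_iff_mem_nhds.mpr hN) huniq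
    obtain ⟨Z, hZ, hUZ⟩ := exists_mem_irreducibleComponents_subset_of_isIrreducible U hUirr
    obtain ⟨Z', _, hu⟩ := huniq
    have : Z = Z₀ := (hu Z ⟨hZ, hUZ hxU⟩).trans (hu Z₀ ⟨hZ₀, hx⟩).symm
    exact Filter.mem_of_superset (hUo.mem_nhds hxU) (this ▸ hUZ)
  tfae_finish

end Groth.Agent.H2
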