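import Mathlib.AlgebraicGeometry.Stalk
import Mathlib.AlgebraicGeometry.Properties
import Mathlib.Topology.Irreducible
import Mathlib.Topology.Sober
import Mathlib.AlgebraicGeometry.Noetherian
import Groth.Agent.Lib.Helper2.NoethTop

/-! Irreducible components through a point versus irreducible components of `Spec 𝒪_{X,x}`. -/

universe u

namespace Groth.Agent.H2

open AlgebraicGeometry CategoryTheory TopologicalSpace

/-- In a quasi-sober T0 space, `closure {y}` is an irreducible component iff `y` has no proper
generization. -/
theorem closure_singleton_mem_irreducibleComponents_iff {α : Type*} [TopologicalSpace α]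
    [QuasiSober α] [T0Space α] (y : α) :
    closure ({y} : Set α) ∈ irreducibleComponents α ↔ ∀ y' : α, y' ⤳ y → y' = y := by
  constructor
  · intro hy y' hsp
    have h1 : closure {y} ⊆ closure {y'} := specializes_iff_closure_subset.mp hsp
    have h2 : closure {y'} ⊆ closure {y} := hy.2 isIrreducible_singleton.closure h1
    exact (hsp.antisymm (specializes_iff_closure_subset.mpr h2)).eq
  · intro h
    refine ⟨isIrreducible_singleton.closure, ?_⟩
    intro Z hZ hyZ
    obtain ⟨x, hx⟩ := QuasiSober.sober hZ.closure isClosed_closure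
    have hyx : x ⤳ y := by
      rw [specializes_iff_mem_closure, hx.def]
      exact subset_closure (hyZ (subset_closure (Set.mem_singleton y)))
    have hxy : x = y := h x hyx
    rw [hxy] at hx
    calc Z ⊆ closure Z := subset_closure
      _ = closure {y} := hx.def.symm

/-- The irreducible components of `Spec 𝒪_{X,x}` correspond to the irreducible components of `X`
through `x`. -/
theorem bijOn_irreducibleComponents_specStalk (X : Scheme.{u}) (x : X) :
    Set.BijOn (fun z : Spec (X.presheaf.stalk x) => closure ({X.fromSpecStalk x z} : Set X))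
      {z | closure ({z} : Set (Spec (X.presheaf.stalk x))) ∈
        irreducibleComponents (Spec (X.presheaf.stalk x) : Type u)}
      {Z | Z ∈ irreducibleComponents (X : Type u) ∧ x ∈ Z} := by
  have hemb := (X.fromSpecStalk x).isEmbedding
  have hinj : Function.Injective (X.fromSpecStalk x) := hemb.injective
  have hrange : ∀ y : X, y ⤳ x → ∃ z, X.fromSpecStalk x z = y := by
    intro y hy
    have : y ∈ Set.range (X.fromSpecStalk x) := by rw [Scheme.range_fromSpecStalk]; exact hy
    exact this
  have hsp : ∀ z, X.fromSpecStalk x z ⤳ x := by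
    intro z
    have : X.fromSpecStalk x z ∈ Set.range (X.fromSpecStalk x) := ⟨z, rfl⟩
    rw [Scheme.range_fromSpecStalk] at this
    exact this
  refine ⟨?_, ?_, ?_⟩
  · intro z hz
    simp only [Set.mem_ofPred_eq] at hz ⊢
    rw [closure_singleton_mem_irreducibleComponents_iff] at hz
    refine ⟨?_, ?_⟩
    · rw [closure_singleton_mem_irreducibleComponents_iff]
      intro y' hy'
      obtain ⟨z', rfl⟩ := hrange y' (hy'.trans (hsp z))
      have : z' ⤳ z := hemb.specializes_iff.mp hy'
      rw [hz z' this]
    · exact specializes_iff_mem_closure.mp (hsp z)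
  · intro z₁ _ z₂ _ h
    apply hinj
    have h1 : X.fromSpecStalk x z₁ ⤳ X.fromSpecStalk x z₂ := by
      rw [specializes_iff_closure_subset]; exact h.ge
    have h2 : X.fromSpecStalk x z₂ ⤳ X.fromSpecStalk x z₁ := by
      rw [specializes_iff_closure_subset]; exact h.le
    exact (h1.antisymm h2).eq
  · rintro Z ⟨hZ, hxZ⟩
    obtain ⟨y, hy⟩ := QuasiSober.sober hZ.1 (isClosed_of_mem_irreducibleComponents Z hZ)
    have hyx : y ⤳ x := by rw [specializes_iff_mem_closure, hy.def]; exact hxZ
    obtain ⟨z, rfl⟩ := hrange y hyx
    refine ⟨z, ?_, hy.def⟩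
    simp only [Set.mem_ofPred_eq]
    rw [closure_singleton_mem_irreducibleComponents_iff]
    intro z' hz'
    apply hinj
    have h1 : X.fromSpecStalk x z' ⤳ X.fromSpecStalk x z := hz'.map (X.fromSpecStalk x).continuous
    have h2 : closure {X.fromSpecStalk x z} ⊆ closure {X.fromSpecStalk x z'} :=
      specializes_iff_closure_subset.mp h1
    rw [hy.def] at h2
    have h3 : closure {X.fromSpecStalk x z'} ⊆ Z := hZ.2 isIrreducible_singleton.closure h2
    have h4 : X.fromSpecStalk x z ⤳ X.fromSpecStalk x z' := by
      rw [specializes_iff_closure_subset, hy.def]; exact h3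
    exact (h1.antisymm h4).eq

end Groth.Agent.H2

namespace Groth.Agent.H2

open AlgebraicGeometry CategoryTheory TopologicalSpace

/-- The nilradical of `𝒪_{X,x}` is prime iff `x` lies on exactly one irreducible component. -/
theorem isPrime_nilradical_stalk_iff (X : Scheme.{u}) (x : X) :
    (nilradical (X.presheaf.stalk x)).IsPrime ↔
      ∃! Z : Set X, Z ∈ irreducibleComponents (X : Type u) ∧ x ∈ Z := by
  have hbij := bijOn_irreducibleComponents_specStalk X x
  rw [← PrimeSpectrum.irreducibleSpace_iff_isPrime_nilradical]
  constructor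
  · intro hirr
    have : IrreducibleSpace (Spec (X.presheaf.stalk x)) := hirr
    let z₀ : Spec (X.presheaf.stalk x) := genericPoint (Spec (X.presheaf.stalk x))
    have hz₀ : closure ({z₀} : Set (Spec (X.presheaf.stalk x))) = Set.univ :=
      (genericPoint_spec (Spec (X.presheaf.stalk x))).def
    have hz₀S : z₀ ∈ {z | closure ({z} : Set (Spec (X.presheaf.stalk x))) ∈
        irreducibleComponents (Spec (X.presheaf.stalk x) : Type u)} := by
      simp only [Set.mem_ofPred_eq]
      rw [hz₀, irreducibleComponents_eq_singleton]
      exact Set.mem_singleton _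
    refine ⟨_, hbij.mapsTo hz₀S, ?_⟩
    intro Z hZ
    obtain ⟨z, hz, rfl⟩ := hbij.surjOn hZ
    simp only [Set.mem_ofPred_eq] at hz
    rw [irreducibleComponents_eq_singleton, Set.mem_singleton_iff] at hz
    have hzz₀ : z = z₀ := by
      have h1 : z ⤳ z₀ := by rw [specializes_iff_mem_closure, hz]; exact Set.mem_univ _
      have h2 : z₀ ⤳ z := by rw [specializes_iff_mem_closure, hz₀]; exact Set.mem_univ _
      exact (h1.antisymm h2).eq
    rw [hzz₀]
  · rintro ⟨Z₀, hZ₀, huniq⟩
    obtain ⟨z₀, hz₀S, hz₀⟩ := hbij.surjOn hZ₀
    have hall : ∀ z, z ∈ {z | closure ({z} : Set (Spec (X.presheaf.stalk x))) ∈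
        irreducibleComponents (Spec (X.presheaf.stalk x) : Type u)} → z = z₀ := by
      intro z hz
      apply hbij.injOn hz hz₀S
      rw [hz₀]
      exact huniq _ (hbij.mapsTo hz)
    have huniv : closure ({z₀} : Set (Spec (X.presheaf.stalk x))) = Set.univ := by
      rw [Set.eq_univ_iff_forall]
      intro w
      obtain ⟨z, hz⟩ := QuasiSober.sober (isIrreducible_irreducibleComponent (x := w))
        isClosed_irreducibleComponent
      have hzS : z ∈ {z | closure ({z} : Set (Spec (X.presheaf.stalk x))) ∈
          irreducibleComponents (Spec (X.presheaf.stalk x) : Type u)} := by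
        simp only [Set.mem_ofPred_eq]
        rw [hz.def]
        exact irreducibleComponent_mem_irreducibleComponents w
      rw [← hall z hzS, hz.def]
      exact mem_irreducibleComponent
    have : IsIrreducible (Set.univ : Set (Spec (X.presheaf.stalk x))) := by
      rw [← huniv]; exact isIrreducible_singleton.closure
    exact (irreducibleSpace_def _).mpr this

end Groth.Agent.H2

namespace Groth.Agent.H2

open AlgebraicGeometry CategoryTheory TopologicalSpace

/-- Pairwise disjointness of irreducible components means every point lies on a unique one. -/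
theorem pairwiseDisjoint_irreducibleComponents_iff (α : Type*) [TopologicalSpace α] :
    (irreducibleComponents α).PairwiseDisjoint id ↔
      ∀ x : α, ∃! Z : Set α, Z ∈ irreducibleComponents α ∧ x ∈ Z := by
  constructor
  · intro h x
    refine ⟨irreducibleComponent x,
      ⟨irreducibleComponent_mem_irreducibleComponents x, mem_irreducibleComponent⟩, ?_⟩
    rintro Z ⟨hZ, hxZ⟩
    by_contra hne
    have := h hZ (irreducibleComponent_mem_irreducibleComponents x) hne
    exact Set.disjoint_left.mp this hxZ mem_irreducibleComponent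
  · intro h Z₁ hZ₁ Z₂ hZ₂ hne
    rw [Function.onFun, Set.disjoint_left]
    intro x hx₁ hx₂
    obtain ⟨Z, _, huniq⟩ := h x
    exact hne ((huniq Z₁ ⟨hZ₁, hx₁⟩).trans (huniq Z₂ ⟨hZ₂, hx₂⟩).symm)

theorem pairwiseDisjoint_irreducibleComponents_iff_nilradical_stalk (X : Scheme.{u}) :
    (irreducibleComponents (X : Type u)).PairwiseDisjoint id ↔
      ∀ x : X, (nilradical (X.presheaf.stalk x)).IsPrime := by
  rw [pairwiseDisjoint_irreducibleComponents_iff]
  exact forall_congr' fun x => (isPrime_nilradical_stalk_iff X x).symm

end Groth.Agent.H2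

namespace Groth.Agent.H2

open AlgebraicGeometry CategoryTheory TopologicalSpace

/-- On a locally Noetherian scheme every point has a Noetherian affine open neighbourhood. -/
theorem exists_affineOpen_noetherianSpace (X : Scheme.{u}) [IsLocallyNoetherian X] (x : X) :
    ∃ V : X.Opens, IsAffineOpen V ∧ x ∈ V ∧ NoetherianSpace (V : Set X) := by
  obtain ⟨_, ⟨V, hV, rfl⟩, hxV, -⟩ :=
    X.isBasis_affineOpens.exists_subset_of_mem_open (Set.mem_univ x) isOpen_univ
  have := IsLocallyNoetherian.component_noetherian (⟨V, hV⟩ : X.affineOpens)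
  exact ⟨V, hV, hxV, noetherianSpace_of_isAffineOpen V hV⟩

/-- EGA I 6.1.13: prime nilradical of the stalk gives an irreducible open neighbourhood. -/
theorem exists_irreducible_nhd_of_isPrime_nilradical_stalk (X : Scheme.{u})
    [IsLocallyNoetherian X] (x : X) (hx : (nilradical (X.presheaf.stalk x)).IsPrime) :
    ∃ U : X.Opens, x ∈ U ∧ IsIrreducible (U : Set X) := by
  obtain ⟨V, _, hxV, hVN⟩ := exists_affineOpen_noetherianSpace X x
  obtain ⟨U, hUo, hxU, -, hUirr⟩ := exists_isOpen_isIrreducible_of_existsUnique x
    (V : Set X) V.2 hxV ((isPrime_nilradical_stalk_iff X x).mp hx)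
  exact ⟨⟨U, hUo⟩, hxU, hUirr⟩

end Groth.Agent.H2
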