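import Mathlib.Algebra.Homology.Opposite
import Mathlib.Algebra.Homology.QuasiIso
import Mathlib.Algebra.Homology.Embedding.CochainComplex

/-!
# The dual of a cochain complex, reindexed by negation
-/

universe v u

open CategoryTheory CategoryTheory.Limits Opposite

namespace Groth.Agent.H2.DualCx

variable {C : Type u} [Category.{v} C] [HasZeroMorphisms C]

/-- the dual complex, in the opposite category, with `X n = op (K.X (-n))` -/
def D (K : CochainComplex C ℤ) : CochainComplex Cᵒᵖ ℤ where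
  X n := op (K.X (-n))
  d n m := (K.d (-m) (-n)).op
  shape n m h := by
    have h' : ¬ (ComplexShape.up ℤ).Rel (-m) (-n) := by
      simp only [ComplexShape.up_Rel] at h ⊢
      omega
    rw [K.shape _ _ h']
    rfl
  d_comp_d' n m k _ _ := by
    rw [← op_comp, K.d_comp_d]
    rfl

/-- the dual of a morphism of complexes -/
def Dmap {K L : CochainComplex C ℤ} (f : K ⟶ L) : D L ⟶ D K where
  f n := (f.f (-n)).op
  comm' n m _ := by
    change (f.f (-n)).op ≫ (K.d (-m) (-n)).op = (L.d (-m) (-n)).op ≫ (f.f (-m)).op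
    rw [← op_comp, ← op_comp, f.comm]

/-- the dual complex of a complex in the opposite category -/
def U (L : CochainComplex Cᵒᵖ ℤ) : CochainComplex C ℤ where
  X n := unop (L.X (-n))
  d n m := (L.d (-m) (-n)).unop
  shape n m h := by
    have h' : ¬ (ComplexShape.up ℤ).Rel (-m) (-n) := by
      simp only [ComplexShape.up_Rel] at h ⊢
      omega
    rw [L.shape _ _ h']
    rfl
  d_comp_d' n m k _ _ := by
    rw [← unop_comp, L.d_comp_d]
    rfl

/-- the dual of a morphism of complexes in the opposite category -/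
def Umap {K L : CochainComplex Cᵒᵖ ℤ} (f : K ⟶ L) : U L ⟶ U K where
  f n := (f.f (-n)).unop
  comm' n m _ := by
    change (f.f (-n)).unop ≫ (K.d (-m) (-n)).unop = (L.d (-m) (-n)).unop ≫ (f.f (-m)).unop
    rw [← unop_comp, ← unop_comp, f.comm]

@[simp] lemma D_X (K : CochainComplex C ℤ) (n : ℤ) : (D K).X n = op (K.X (-n)) := rfl
@[simp] lemma U_X (L : CochainComplex Cᵒᵖ ℤ) (n : ℤ) : (U L).X n = unop (L.X (-n)) := rfl
lemma D_d (K : CochainComplex C ℤ) (n m : ℤ) : (D K).d n m = (K.d (-m) (-n)).op := rfl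
lemma U_d (L : CochainComplex Cᵒᵖ ℤ) (n m : ℤ) : (U L).d n m = (L.d (-m) (-n)).unop := rfl
lemma Dmap_f {K L : CochainComplex C ℤ} (f : K ⟶ L) (n : ℤ) :
    (Dmap f).f n = (f.f (-n)).op := rfl
lemma Umap_f {K L : CochainComplex Cᵒᵖ ℤ} (f : K ⟶ L) (n : ℤ) :
    (Umap f).f n = (f.f (-n)).unop := rfl

lemma Dmap_comp {K L M : CochainComplex C ℤ} (f : K ⟶ L) (g : L ⟶ M) :
    Dmap (f ≫ g) = Dmap g ≫ Dmap f := by
  ext n
  change ((f ≫ g).f (-n)).op = (g.f (-n)).op ≫ (f.f (-n)).op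
  rw [← op_comp]
  rfl

lemma Umap_comp {K L M : CochainComplex Cᵒᵖ ℤ} (f : K ⟶ L) (g : L ⟶ M) :
    Umap (f ≫ g) = Umap g ≫ Umap f := by
  ext n
  change ((f ≫ g).f (-n)).unop = (g.f (-n)).unop ≫ (f.f (-n)).unop
  rw [← unop_comp]
  rfl

lemma Dmap_id (K : CochainComplex C ℤ) : Dmap (𝟙 K) = 𝟙 (D K) := by
  ext n
  rfl

lemma Umap_id (K : CochainComplex Cᵒᵖ ℤ) : Umap (𝟙 K) = 𝟙 (U K) := by
  ext n
  rfl

lemma Dmap_zero [HasZeroObject C] (K L : CochainComplex C ℤ) :
    Dmap (0 : K ⟶ L) = 0 := by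
  ext n
  rfl

lemma Umap_zero (K L : CochainComplex Cᵒᵖ ℤ) : Umap (0 : K ⟶ L) = 0 := by
  ext n
  rfl

/-- the canonical isomorphism `K ≅ U (D K)` -/
def unitIso (K : CochainComplex C ℤ) : K ≅ U (D K) :=
  HomologicalComplex.Hom.isoOfComponents (fun n => K.XIsoOfEq (neg_neg n).symm) (by
    intro i j _
    change (K.XIsoOfEq _).hom ≫ K.d (- -i) (- -j) = K.d i j ≫ (K.XIsoOfEq _).hom
    simp)

lemma unitIso_hom_f (K : CochainComplex C ℤ) (n : ℤ) :
    (unitIso K).hom.f n = (K.XIsoOfEq (neg_neg n).symm).hom := rfl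

lemma unitIso_naturality {K L : CochainComplex C ℤ} (f : K ⟶ L) :
    f ≫ (unitIso L).hom = (unitIso K).hom ≫ Umap (Dmap f) := by
  ext n
  exact HomologicalComplex.XIsoOfEq_hom_naturality f (neg_neg n).symm

end Groth.Agent.H2.DualCx
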