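import Mathlib
import Groth.Agent.Lib.Helper2.DualCx1

/-!
# The dual of a cochain complex in an abelian category: homology, strictness, exactness
-/

universe v u

open CategoryTheory CategoryTheory.Limits Opposite

namespace Groth.Agent.H2.DualCx

variable {C : Type u} [Category.{v} C] [Abelian C]

lemma quasiIso_unopMap_iff {S₁ S₂ : ShortComplex Cᵒᵖ} (φ : S₁ ⟶ S₂) :
    ShortComplex.QuasiIso (ShortComplex.unopMap φ) ↔ ShortComplex.QuasiIso φ := by
  rw [← ShortComplex.quasiIso_opMap_iff (ShortComplex.unopMap φ)]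
  rfl

lemma quasiIsoAt_Umap_iff {K L : CochainComplex Cᵒᵖ ℤ} (f : K ⟶ L) (n : ℤ) :
    QuasiIsoAt (Umap f) n ↔ QuasiIsoAt f (-n) := by
  rw [quasiIsoAt_iff' (Umap f) (n - 1) n (n + 1) (by simp) (by simp),
    quasiIsoAt_iff' f (-(n + 1)) (-n) (-(n - 1)) (by simp; omega) (by simp; omega)]
  rw [← quasiIso_unopMap_iff]
  rfl

lemma quasiIso_Umap_iff {K L : CochainComplex Cᵒᵖ ℤ} (f : K ⟶ L) :
    QuasiIso (Umap f) ↔ QuasiIso f := by
  rw [quasiIso_iff, quasiIso_iff]
  constructor
  · intro h n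
    have := h (-n)
    rw [quasiIsoAt_Umap_iff, neg_neg] at this
    exact this
  · intro h n
    rw [quasiIsoAt_Umap_iff]
    exact h _

lemma quasiIsoAt_Dmap_iff {K L : CochainComplex C ℤ} (f : K ⟶ L) (n : ℤ) :
    QuasiIsoAt (Dmap f) n ↔ QuasiIsoAt f (-n) := by
  rw [quasiIsoAt_iff' (Dmap f) (n - 1) n (n + 1) (by simp) (by simp),
    quasiIsoAt_iff' f (-(n + 1)) (-n) (-(n - 1)) (by simp; omega) (by simp; omega)]
  exact ShortComplex.quasiIso_opMap_iff ((HomologicalComplex.shortComplexFunctor' C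
    (ComplexShape.up ℤ) (-(n + 1)) (-n) (-(n - 1))).map f)

lemma quasiIso_Dmap_iff {K L : CochainComplex C ℤ} (f : K ⟶ L) :
    QuasiIso (Dmap f) ↔ QuasiIso f := by
  rw [quasiIso_iff, quasiIso_iff]
  constructor
  · intro h n
    have := h (-n)
    rw [quasiIsoAt_Dmap_iff, neg_neg] at this
    exact this
  · intro h n
    rw [quasiIsoAt_Dmap_iff]
    exact h _

lemma isStrictlyLE_U (L : CochainComplex Cᵒᵖ ℤ) (a : ℤ) [L.IsStrictlyGE (-a)] :
    (U L).IsStrictlyLE a := by
  rw [CochainComplex.isStrictlyLE_iff]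
  intro i hi
  exact (CochainComplex.isZero_of_isStrictlyGE L (-a) (-i) (by omega)).unop

lemma isStrictlyGE_U (L : CochainComplex Cᵒᵖ ℤ) (a : ℤ) [L.IsStrictlyLE (-a)] :
    (U L).IsStrictlyGE a := by
  rw [CochainComplex.isStrictlyGE_iff]
  intro i hi
  exact (CochainComplex.isZero_of_isStrictlyLE L (-a) (-i) (by omega)).unop

lemma isStrictlyGE_D (K : CochainComplex C ℤ) (a : ℤ) [K.IsStrictlyLE a] :
    (D K).IsStrictlyGE (-a) := by
  rw [CochainComplex.isStrictlyGE_iff]
  intro i hi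
  exact (CochainComplex.isZero_of_isStrictlyLE K a (-i) (by omega)).op

lemma isStrictlyLE_D (K : CochainComplex C ℤ) (a : ℤ) [K.IsStrictlyGE a] :
    (D K).IsStrictlyLE (-a) := by
  rw [CochainComplex.isStrictlyLE_iff]
  intro i hi
  exact (CochainComplex.isZero_of_isStrictlyGE K a (-i) (by omega)).op

lemma epi_Umap_f {K L : CochainComplex Cᵒᵖ ℤ} (f : K ⟶ L) (n : ℤ) [Mono (f.f (-n))] :
    Epi ((Umap f).f n) := by
  change Epi (f.f (-n)).unop
  infer_instance

lemma mono_Umap_f {K L : CochainComplex Cᵒᵖ ℤ} (f : K ⟶ L) (n : ℤ) [Epi (f.f (-n))] :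
    Mono ((Umap f).f n) := by
  change Mono (f.f (-n)).unop
  infer_instance

/-- the dual of a short exact sequence of complexes in the opposite category -/
lemma shortExact_U {S : ShortComplex (CochainComplex Cᵒᵖ ℤ)} (hS : S.ShortExact) :
    (ShortComplex.mk (Umap S.g) (Umap S.f) (by
      rw [← Umap_comp, S.zero, Umap_zero])).ShortExact := by
  apply HomologicalComplex.shortExact_of_degreewise_shortExact
  intro i
  have h := (hS.map_of_exact (HomologicalComplex.eval _ _ (-i))).unop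
  exact h

/-- the dual of a short exact sequence of complexes -/
lemma shortExact_D {S : ShortComplex (CochainComplex C ℤ)} (hS : S.ShortExact) :
    (ShortComplex.mk (Dmap S.g) (Dmap S.f) (by
      rw [← Dmap_comp, S.zero, Dmap_zero])).ShortExact := by
  apply HomologicalComplex.shortExact_of_degreewise_shortExact
  intro i
  have h := (hS.map_of_exact (HomologicalComplex.eval _ _ (-i))).op
  exact h

end Groth.Agent.H2.DualCx
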