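import Groth.Agent.Lib.Helper2.PLieAssoc
import Groth.Agent.Lib.Helper1.PBW

/-!
# Jacobson's theorem: a `p`-mapping from its values on a basis
-/

set_option autoImplicit false
universe u v w

namespace Groth.Agent.H2.PLieBasis
open PLie

section faithful
variable {R : Type u} [CommRing R] {L : Type v} [LieRing L] [LieAlgebra R L]
  {ι : Type w} [LinearOrder ι] (b : Module.Basis ι R L)

theorem rhoLin_injective : Function.Injective (Groth.Agent.H1.PBW.rhoLin b) := by
  rw [injective_iff_map_eq_zero]
  intro x hx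
  have hnil : ([] : List ι).SortedLE := by simp [List.sortedLE_iff_pairwise]
  have hsing : ∀ i : ι, ([i] : List ι).SortedLE := fun i => by simp [List.sortedLE_iff_pairwise]
  let vac : Groth.Agent.H1.PBW.SL ι →₀ R := Finsupp.single ⟨[], hnil⟩ 1
  have h1 : (LinearMap.applyₗ vac).comp (Groth.Agent.H1.PBW.rhoLin b) =
      b.constr R (fun i => Finsupp.single (⟨[i], hsing i⟩ : Groth.Agent.H1.PBW.SL ι) (1 : R)) := by
    apply b.ext
    intro i
    rw [LinearMap.comp_apply, Groth.Agent.H1.PBW.rhoLin_basis, LinearMap.applyₗ_apply_apply,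
      Groth.Agent.H1.PBW.act_single, Module.Basis.constr_basis,
      Groth.Agent.H1.PBW.N_sorted b (hsing i)]
  have h2 : b.constr R (fun i => Finsupp.single (⟨[i], hsing i⟩ : Groth.Agent.H1.PBW.SL ι) (1 : R)) x
      = 0 := by
    rw [← h1, LinearMap.comp_apply, hx]
    simp
  apply b.repr.injective
  rw [map_zero]
  ext i
  have h3 := congrArg (fun v => v (⟨[i], hsing i⟩ : Groth.Agent.H1.PBW.SL ι)) h2
  simp only [Module.Basis.constr_apply, Finsupp.coe_zero, Pi.zero_apply] at h3
  rw [Finsupp.sum_apply] at h3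
  rw [Finsupp.sum_eq_single i] at h3
  · simpa using h3
  · intro j _ hji
    rw [Finsupp.smul_apply, Finsupp.single_apply, if_neg, smul_zero]
    intro h
    apply hji
    have := congrArg Subtype.val h
    simpa using this
  · intro _
    simp

end faithful

section main
variable (R : Type u) [CommRing R] (p : ℕ) [hp : Fact p.Prime] [CharP R p]
variable (L : Type v) [LieRing L] [LieAlgebra R L] {ι : Type w} (b : Module.Basis ι R L)

theorem pmap_ext_of_basis (φ φ' : PMap R p L) (h : ∀ i, φ (b i) = φ' (b i)) : φ = φ' := by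
  apply Groth.Agent.LD.PL.PMap.ext'
  obtain ⟨hadd, hsmul, -⟩ := (Groth.Agent.LD.PL.S13772 R p L φ (fun x => φ' x - φ x)).1
    ⟨φ', fun x => by abel⟩
  have hzero : ∀ x : L, φ' x - φ x = 0 := by
    intro x
    have hx : x ∈ Submodule.span R (Set.range b) := by rw [b.span_eq]; trivial
    induction hx using Submodule.span_induction with
    | mem s hs =>
      obtain ⟨i, rfl⟩ := hs
      rw [h i, sub_self]
    | zero =>
      have := hsmul 0 0
      rw [zero_smul, zero_pow hp.out.ne_zero, zero_smul] at this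
      exact this
    | add x y _ _ hx hy => rw [hadd, hx, hy, add_zero]
    | smul c x _ hx => rw [hsmul, hx, smul_zero]
  intro x
  exact (sub_eq_zero.1 (hzero x)).symm

theorem exists_unique_pmap_of_basis_of_faithful {A : Type*} [Ring A] [Algebra R A]
    (e : L →ₗ[R] A) (he : ∀ x w, e ⁅x, w⁆ = e x * e w - e w * e x)
    (hinj : Function.Injective e) (y : ι → L)
    (hy : ∀ i : ι, LieAlgebra.ad R L (b i) ^ p = LieAlgebra.ad R L (y i)) :
    ∃! φ : PMap R p L, ∀ i : ι, φ (b i) = y i := by
  classical
  let z : ι → A := fun i => e (b i) ^ p - e (y i)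
  have hz_comm : ∀ i w, z i * e w = e w * z i := by
    intro i w
    have h1 := PLieAssoc.map_ad_pow_assoc (R := R) (p := p) (L := L) e he (b i) w
    rw [hy i, LieAlgebra.ad_apply, he] at h1
    simp only [z]
    rw [sub_mul, mul_sub, sub_eq_sub_iff_sub_eq_sub]
    exact h1.symm
  let g : L → A := fun x => (b.repr x).sum (fun i c => c ^ p • z i)
  have hg_add : ∀ x x', g (x + x') = g x + g x' := by
    intro x x'
    simp only [g]
    rw [map_add, Finsupp.sum_add_index']
    · intro i
      rw [zero_pow hp.out.ne_zero, zero_smul]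
    · intro i c c'
      rw [add_pow_char, add_smul]
  have hg_smul : ∀ (c : R) x, g (c • x) = c ^ p • g x := by
    intro c x
    simp only [g]
    rw [map_smul, Finsupp.sum_smul_index', Finsupp.smul_sum]
    · refine Finsupp.sum_congr fun i _ => ?_
      rw [smul_eq_mul, mul_pow, mul_smul]
    · intro i
      rw [zero_pow hp.out.ne_zero, zero_smul]
  have hg_comm : ∀ x w, g x * e w = e w * g x := by
    intro x w
    simp only [g]
    rw [Finsupp.sum, Finset.sum_mul, Finset.mul_sum]
    refine Finset.sum_congr rfl fun i _ => ?_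
    rw [smul_mul_assoc, mul_smul_comm, hz_comm]
  have hg_basis : ∀ i, g (b i) = z i := by
    intro i
    simp only [g]
    rw [b.repr_self, Finsupp.sum_single_index, one_pow, one_smul]
    rw [zero_pow hp.out.ne_zero, zero_smul]
  obtain ⟨φ, hφ⟩ := PLieAssoc.exists_pmap_of_assoc e he hinj g hg_add hg_smul hg_comm
    (Set.range b) b.span_eq (by
      rintro _ ⟨i, rfl⟩
      exact ⟨y i, by rw [hg_basis]; simp only [z]; abel⟩)
  have hφb : ∀ i, φ (b i) = y i := by
    intro i
    apply hinj
    rw [hφ, hg_basis]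
    simp only [z]
    abel
  refine ⟨φ, hφb, ?_⟩
  intro φ' hφ'
  exact pmap_ext_of_basis R p L b φ' φ (fun i => by rw [hφ', hφb])

theorem exists_unique_pmap_of_basis (y : ι → L)
    (hy : ∀ i : ι, LieAlgebra.ad R L (b i) ^ p = LieAlgebra.ad R L (y i)) :
    ∃! φ : PMap R p L, ∀ i : ι, φ (b i) = y i := by
  classical
  letI : LinearOrder ι := linearOrderOfSTO WellOrderingRel
  exact exists_unique_pmap_of_basis_of_faithful
    (A := Module.End R (Groth.Agent.H1.PBW.SL ι →₀ R)) R p L b (Groth.Agent.H1.PBW.rhoLin b)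
    (Groth.Agent.H1.PBW.rhoLin_lie b) (rhoLin_injective b) y hy

end main

end Groth.Agent.H2.PLieBasis
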