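import Groth.Prelude.Def_PLie
import Groth.Agent.Lib.Helper2.PLieBasis
import Groth.Agent.Lib.Lead.PLie

/-!
# `p`-mappings on first-order deformations of three-dimensional Lie algebras (S19868, S13778)

Computations with structure constants over the dual numbers `K[ε]`; the existence criterion is
`PLieBasis.exists_unique_pmap_of_basis` (a `p`-mapping exists iff `(ad bᵢ)^p` is inner for every
basis element).
-/

set_option linter.unusedSimpArgs false
set_option linter.unusedVariables false
set_option linter.unusedTactic false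
set_option linter.unreachableTactic false

open DualNumber TrivSqZeroExt
universe u v
namespace Groth.Agent.H2.DualLie

variable {K : Type u} [Field K]

@[simp] theorem fst_algMap (t : K) : (algebraMap K (DualNumber K) t).fst = t := rfl
@[simp] theorem snd_algMap (t : K) : (algebraMap K (DualNumber K) t).snd = 0 := rfl

theorem repr_ext3 {R : Type*} [CommRing R] {L : Type*} [AddCommGroup L] [Module R L]
    (bs : Module.Basis (Fin 3) R L) {u v : L}
    (h0 : bs.repr u 0 = bs.repr v 0) (h1 : bs.repr u 1 = bs.repr v 1)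
    (h2 : bs.repr u 2 = bs.repr v 2) : u = v := by
  apply bs.repr.injective
  ext k
  fin_cases k
  · exact h0
  · exact h1
  · exact h2

theorem prime_cases {p : ℕ} (hp : p.Prime) : p = 2 ∨ p = 3 ∨ 4 ≤ p := by
  have := hp.two_le
  omega

theorem pow_eq_zero_of_le' {M : Type*} [MonoidWithZero M] {a : M} {m n : ℕ} (h : a ^ m = 0) (hmn : m ≤ n) :
    a ^ n = 0 := by
  rw [← pow_sub_mul_pow a hmn, h, mul_zero]

set_option hygiene false in
macro "lie_simp" loc:(Lean.Parser.Tactic.location)? : tactic => `(tactic| simp only [pow_two, Module.End.mul_apply, LieAlgebra.ad_apply, Fin.zero_eta, Fin.mk_one, Fin.reduceFinMk,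
        hxy, hxz, hyz, hyx, hzx, hzy, lie_add, lie_smul, lie_neg, lie_self, lie_zero, add_lie, smul_lie, neg_lie, zero_lie, 
        smul_zero, zero_add, add_zero, LinearMap.zero_apply] $[$loc]?)

macro "coord" bs:term : tactic =>
  `(tactic| (apply repr_ext3 $bs <;> refine TrivSqZeroExt.ext ?_ ?_ <;> simp <;> try ring))

theorem S19868 (K : Type u) [Field K] (p : ℕ) [Fact p.Prime] [CharP K p]
    [CharP (DualNumber K) p] (a b c d e f g h i : K)
    (L : Type v) [LieRing L] [LieAlgebra (DualNumber K) L] (bs : Module.Basis (Fin 3) (DualNumber K) L)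
    (hxy : ⁅bs 0, bs 1⁆ = (a • ε : DualNumber K) • bs 0 + (b • ε : DualNumber K) • bs 1 + (c • ε : DualNumber K) • bs 2)
    (hxz : ⁅bs 0, bs 2⁆ = (d • ε : DualNumber K) • bs 0 + (e • ε : DualNumber K) • bs 1 + (f • ε : DualNumber K) • bs 2)
    (hyz : ⁅bs 1, bs 2⁆ = (1 + g • ε : DualNumber K) • bs 0 + (h • ε : DualNumber K) • bs 1 + (i • ε : DualNumber K) • bs 2) :
    Nonempty (PLie.PMap (DualNumber K) p L) ↔ (p = 2 → b = 0 ∧ c = 0 ∧ e = 0) := by
  have hyx : ⁅bs 1, bs 0⁆ = -((a • ε : DualNumber K) • bs 0 + (b • ε : DualNumber K) • bs 1 + (c • ε : DualNumber K) • bs 2) := by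
    rw [← lie_skew, hxy]
  have hzx : ⁅bs 2, bs 0⁆ = -((d • ε : DualNumber K) • bs 0 + (e • ε : DualNumber K) • bs 1 + (f • ε : DualNumber K) • bs 2) := by
    rw [← lie_skew, hxz]
  have hzy : ⁅bs 2, bs 1⁆ = -((1 + g • ε : DualNumber K) • bs 0 + (h • ε : DualNumber K) • bs 1 + (i • ε : DualNumber K) • bs 2) := by
    rw [← lie_skew, hyz]
  -- Jacobi
  have hbf : f = -b := by
    have hJ := lie_lie (bs 0) (bs 1) (bs 2)
    rw [hxy, hyz, hxz] at hJ
    lie_simp at hJ
    have h1 := congrArg (fun v => bs.repr v 0) hJ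
    simp at h1
    have h2 := congrArg TrivSqZeroExt.snd h1
    simp at h2
    rw [h2, neg_neg]
  -- powers of ad
  have hX2 : LieAlgebra.ad (DualNumber K) L (bs 0) ^ 2 = 0 := by
    apply bs.ext
    intro j
    fin_cases j <;> lie_simp <;> coord bs
  have hY2x : (LieAlgebra.ad (DualNumber K) L (bs 1) ^ 2) (bs 0) = (-(c • ε) : DualNumber K) • bs 0 := by
    lie_simp
    coord bs
  have hY2y : (LieAlgebra.ad (DualNumber K) L (bs 1) ^ 2) (bs 1) = 0 := by
    lie_simp
  have hY2z : (LieAlgebra.ad (DualNumber K) L (bs 1) ^ 2) (bs 2) =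
      ((i - a) • ε : DualNumber K) • bs 0 + (-(b • ε) : DualNumber K) • bs 1 + (-(c • ε) : DualNumber K) • bs 2 := by
    lie_simp
    coord bs
  have hZ2x : (LieAlgebra.ad (DualNumber K) L (bs 2) ^ 2) (bs 0) = ((e • ε) : DualNumber K) • bs 0 := by
    lie_simp
    coord bs
  have hZ2z : (LieAlgebra.ad (DualNumber K) L (bs 2) ^ 2) (bs 2) = 0 := by
    lie_simp
  have hZ2y : (LieAlgebra.ad (DualNumber K) L (bs 2) ^ 2) (bs 1) =
      ((d + h) • ε : DualNumber K) • bs 0 + ((e • ε) : DualNumber K) • bs 1 + ((f • ε) : DualNumber K) • bs 2 := by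
    lie_simp
    coord bs
  have hY3 : LieAlgebra.ad (DualNumber K) L (bs 1) ^ 3 =
      LieAlgebra.ad (DualNumber K) L ((-(c • ε) : DualNumber K) • bs 1) := by
    apply bs.ext
    intro j
    rw [pow_succ', Module.End.mul_apply]
    fin_cases j <;> simp only [Fin.zero_eta, Fin.mk_one, Fin.reduceFinMk, hY2x, hY2y, hY2z] <;>
      (try lie_simp) <;> coord bs
  have hY4 : LieAlgebra.ad (DualNumber K) L (bs 1) ^ 4 = 0 := by
    rw [pow_succ', hY3]
    apply bs.ext
    intro j
    fin_cases j <;> (try lie_simp) <;> coord bs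
  have hZ3 : LieAlgebra.ad (DualNumber K) L (bs 2) ^ 3 =
      LieAlgebra.ad (DualNumber K) L (((e • ε) : DualNumber K) • bs 2) := by
    apply bs.ext
    intro j
    rw [pow_succ', Module.End.mul_apply]
    fin_cases j <;> simp only [Fin.zero_eta, Fin.mk_one, Fin.reduceFinMk, hZ2x, hZ2y, hZ2z] <;>
      (try lie_simp) <;> coord bs
  have hZ4 : LieAlgebra.ad (DualNumber K) L (bs 2) ^ 4 = 0 := by
    rw [pow_succ', hZ3]
    apply bs.ext
    intro j
    fin_cases j <;> (try lie_simp) <;> coord bs
  have hp := (Fact.out : p.Prime)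
  constructor
  · rintro ⟨φ⟩ rfl
    have hY := φ.ad_map (bs 1)
    have hZ := φ.ad_map (bs 2)
    have y1 := LinearMap.congr_fun hY (bs 1)
    have y2 := LinearMap.congr_fun hY (bs 2)
    have y0 := LinearMap.congr_fun hY (bs 0)
    have z1 := LinearMap.congr_fun hZ (bs 1)
    have z2 := LinearMap.congr_fun hZ (bs 2)
    have z0 := LinearMap.congr_fun hZ (bs 0)
    rw [hY2y, LieAlgebra.ad_apply, Groth.Agent.LD.PL.basis3_expand bs (φ.toFun (bs 1))] at y1
    rw [hY2z, LieAlgebra.ad_apply, Groth.Agent.LD.PL.basis3_expand bs (φ.toFun (bs 1))] at y2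
    rw [hY2x, LieAlgebra.ad_apply, Groth.Agent.LD.PL.basis3_expand bs (φ.toFun (bs 1))] at y0
    rw [hZ2y, LieAlgebra.ad_apply, Groth.Agent.LD.PL.basis3_expand bs (φ.toFun (bs 2))] at z1
    rw [hZ2z, LieAlgebra.ad_apply, Groth.Agent.LD.PL.basis3_expand bs (φ.toFun (bs 2))] at z2
    rw [hZ2x, LieAlgebra.ad_apply, Groth.Agent.LD.PL.basis3_expand bs (φ.toFun (bs 2))] at z0
    lie_simp at y0 y1 y2 z0 z1 z2
    have y10 := congrArg (fun v => (bs.repr v 0).fst) y1
    have y20 := congrArg (fun v => (bs.repr v 0).fst) y2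
    have y00 := congrArg (fun v => (bs.repr v 0).snd) y0
    have y21 := congrArg (fun v => (bs.repr v 1).snd) y2
    have z20 := congrArg (fun v => (bs.repr v 0).fst) z2
    have z10 := congrArg (fun v => (bs.repr v 0).fst) z1
    have z00 := congrArg (fun v => (bs.repr v 0).snd) z0
    simp at y10 y20 y00 y21 z20 z10 z00
    rw [y10, y20] at y00
    rw [z20, z10] at z00
    have he : e = 0 := by simpa using z00.symm
    have hc : c = 0 := by simpa using y00.symm
    rw [he, y20] at y21
    have hb : b = 0 := by simpa using y21.symm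
    exact ⟨hb, hc, he⟩
  · intro hcond
    rcases prime_cases hp with rfl | rfl | h4
    · obtain ⟨hb, hc, he⟩ := hcond rfl
      subst hb hc he
      have hf : f = 0 := by simpa using hbf
      subst hf
      obtain ⟨φ, -, -⟩ := Groth.Agent.H2.PLieBasis.exists_unique_pmap_of_basis (DualNumber K) 2 L bs
        ![0, ((i - a) • ε : DualNumber K) • bs 1, (-((d + h) • ε) : DualNumber K) • bs 2] (by
          intro j
          fin_cases j
          · simp [hX2]
          · apply bs.ext
            intro k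
            fin_cases k <;> simp only [Fin.zero_eta, Fin.mk_one, Fin.reduceFinMk, hY2x, hY2y, hY2z,
              Matrix.cons_val_one, Matrix.cons_val_zero, Matrix.cons_val] <;>
              (try lie_simp) <;> coord bs
          · apply bs.ext
            intro k
            fin_cases k <;> simp only [Fin.zero_eta, Fin.mk_one, Fin.reduceFinMk, hZ2x, hZ2y, hZ2z,
              Matrix.cons_val_one, Matrix.cons_val_zero, Matrix.cons_val] <;>
              (try lie_simp) <;> coord bs)
      exact ⟨φ⟩
    · obtain ⟨φ, -, -⟩ := Groth.Agent.H2.PLieBasis.exists_unique_pmap_of_basis (DualNumber K) 3 L bs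
        ![0, (-(c • ε) : DualNumber K) • bs 1, ((e • ε) : DualNumber K) • bs 2] (by
          intro j
          fin_cases j
          · simp [pow_eq_zero_of_le' hX2 (show 2 ≤ 3 by norm_num)]
          · simpa using hY3
          · simpa using hZ3)
      exact ⟨φ⟩
    · obtain ⟨φ, -, -⟩ := Groth.Agent.H2.PLieBasis.exists_unique_pmap_of_basis (DualNumber K) p L bs
        (fun _ => 0) (by
          intro j
          fin_cases j
          · simp [pow_eq_zero_of_le' hX2 (show 2 ≤ p by omega)]
          · simp [pow_eq_zero_of_le' hY4 h4]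
          · simp [pow_eq_zero_of_le' hZ4 h4])
      exact ⟨φ⟩

theorem S13778 (K : Type u) [Field K] (p : ℕ) [Fact p.Prime] [CharP K p]
    [CharP (DualNumber K) p] (t a b c d e f g h i : K) (ht : t ^ p = t)
    (L : Type v) [LieRing L] [LieAlgebra (DualNumber K) L] (bs : Module.Basis (Fin 3) (DualNumber K) L)
    (hxy : ⁅bs 0, bs 1⁆ = (a • ε : DualNumber K) • bs 0 + (1 + b • ε : DualNumber K) • bs 1 + (c • ε : DualNumber K) • bs 2)
    (hxz : ⁅bs 0, bs 2⁆ = (d • ε : DualNumber K) • bs 0 + (e • ε : DualNumber K) • bs 1 +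
      (algebraMap K (DualNumber K) t + f • ε) • bs 2)
    (hyz : ⁅bs 1, bs 2⁆ = (g • ε : DualNumber K) • bs 0 + (h • ε : DualNumber K) • bs 1 + (i • ε : DualNumber K) • bs 2) :
    Nonempty (PLie.PMap (DualNumber K) p L) ↔ (b * t = f ∧ (t = 1 → c = 0 ∧ e = 0) ∧ (p = 2 → g = 0)) := by
  have hyx : ⁅bs 1, bs 0⁆ = -((a • ε : DualNumber K) • bs 0 + (1 + b • ε : DualNumber K) • bs 1 + (c • ε : DualNumber K) • bs 2) := by
    rw [← lie_skew, hxy]
  have hzx : ⁅bs 2, bs 0⁆ = -((d • ε : DualNumber K) • bs 0 + (e • ε : DualNumber K) • bs 1 +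
      (algebraMap K (DualNumber K) t + f • ε) • bs 2) := by
    rw [← lie_skew, hxz]
  have hzy : ⁅bs 2, bs 1⁆ = -((g • ε : DualNumber K) • bs 0 + (h • ε : DualNumber K) • bs 1 + (i • ε : DualNumber K) • bs 2) := by
    rw [← lie_skew, hyz]
  have hp := (Fact.out : p.Prime)
  -- Jacobi
  have hJac : g * (1 + t) = 0 ∧ d = t * h ∧ i = -(a * t) := by
    have hJ := lie_lie (bs 0) (bs 1) (bs 2)
    rw [hxy, hyz, hxz] at hJ
    lie_simp at hJ
    have h0 := congrArg (fun v => (bs.repr v 0).snd) hJ
    have h1 := congrArg (fun v => (bs.repr v 1).snd) hJ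
    have h2 := congrArg (fun v => (bs.repr v 2).snd) hJ
    simp at h0 h1 h2
    exact ⟨by linear_combination h0, by linear_combination (-1 : K) * h1, by linear_combination h2⟩
  obtain ⟨hJg, hJd, hJi⟩ := hJac
  -- geometric sums
  let S : ℕ → K := fun n => ∑ j ∈ Finset.range n, t ^ j
  have hS0 : S 0 = 0 := by simp [S]
  have hS1 : ∀ n, S (n + 1) = S n + t ^ n := fun n => Finset.sum_range_succ _ _
  have hS2 : ∀ n, S (n + 1) = 1 + t * S n := by
    intro n
    simp only [S]
    rw [Finset.sum_range_succ', Finset.mul_sum, add_comm]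
    simp only [pow_zero, pow_succ']
  have hSp : S p * (t - 1) = t - 1 := by
    simp only [S]
    rw [geom_sum_mul, ht]
  have hpK : (p : K) = 0 := CharP.cast_eq_zero K p
  -- closed forms
  have hXy : ∀ n : ℕ, (LieAlgebra.ad (DualNumber K) L (bs 0) ^ (n + 1)) (bs 1) =
      (a • ε : DualNumber K) • bs 0 + (1 + (((n + 1 : ℕ) : K) * b) • ε : DualNumber K) • bs 1 +
        ((c * S (n + 1)) • ε : DualNumber K) • bs 2 := by
    intro n
    induction n with
    | zero =>
      rw [zero_add, pow_one, LieAlgebra.ad_apply, hxy, hS2, hS0]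
      simp
    | succ n ih =>
      rw [pow_succ', Module.End.mul_apply, ih, hS2 (n + 1)]
      lie_simp
      coord bs
  have hXz : ∀ n : ℕ, (LieAlgebra.ad (DualNumber K) L (bs 0) ^ (n + 1)) (bs 2) =
      ((d * t ^ n) • ε : DualNumber K) • bs 0 + ((e * S (n + 1)) • ε : DualNumber K) • bs 1 +
        (algebraMap K (DualNumber K) (t ^ (n + 1)) + (((n + 1 : ℕ) : K) * f * t ^ n) • ε : DualNumber K) • bs 2 := by
    intro n
    induction n with
    | zero =>
      rw [zero_add, pow_one, LieAlgebra.ad_apply, hxz, hS2, hS0]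
      simp
    | succ n ih =>
      rw [pow_succ', Module.End.mul_apply, ih, hS1 (n + 1)]
      lie_simp
      coord bs
  obtain ⟨m, hm⟩ : ∃ m, p = m + 1 := ⟨p - 1, by have := hp.two_le; omega⟩
  have hXpx : (LieAlgebra.ad (DualNumber K) L (bs 0) ^ p) (bs 0) = 0 := by
    rw [hm, pow_succ, Module.End.mul_apply, LieAlgebra.ad_apply, lie_self, map_zero]
  have htm : d * t ^ m = d := by
    rw [hJd, mul_comm t h, mul_assoc, ← pow_succ', ← hm, ht]
  have hSp1 : t = 1 → S p = 0 := by
    intro h1
    simp [S, h1, hpK]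
  have hSp2 : t ≠ 1 → S p = 1 := by
    intro h1
    have h2 : t - 1 ≠ 0 := sub_ne_zero.2 h1
    have h3 : S p * (t - 1) = 1 * (t - 1) := by rw [hSp, one_mul]
    exact mul_right_cancel₀ h2 h3
  have hXpy : (LieAlgebra.ad (DualNumber K) L (bs 0) ^ p) (bs 1) =
      (a • ε : DualNumber K) • bs 0 + bs 1 + ((c * S p) • ε : DualNumber K) • bs 2 := by
    have h1 := hXy m
    rw [← hm, hpK] at h1
    rw [h1]
    simp
  have hXpz : (LieAlgebra.ad (DualNumber K) L (bs 0) ^ p) (bs 2) =
      (d • ε : DualNumber K) • bs 0 + ((e * S p) • ε : DualNumber K) • bs 1 +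
        (algebraMap K (DualNumber K) t) • bs 2 := by
    have h1 := hXz m
    rw [← hm, hpK, htm, ht] at h1
    rw [h1]
    simp
  -- squares of ad y, ad z
  have hY2x : (LieAlgebra.ad (DualNumber K) L (bs 1) ^ 2) (bs 0) = (a • ε : DualNumber K) • bs 1 := by
    lie_simp
    coord bs
  have hY2y : (LieAlgebra.ad (DualNumber K) L (bs 1) ^ 2) (bs 1) = 0 := by
    lie_simp
  have hY2z : (LieAlgebra.ad (DualNumber K) L (bs 1) ^ 2) (bs 2) = (-(g • ε) : DualNumber K) • bs 1 := by
    lie_simp
    coord bs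
  have hZ2x : (LieAlgebra.ad (DualNumber K) L (bs 2) ^ 2) (bs 0) = ((d * t) • ε : DualNumber K) • bs 2 := by
    lie_simp
    coord bs
  have hZ2y : (LieAlgebra.ad (DualNumber K) L (bs 2) ^ 2) (bs 1) = ((g * t) • ε : DualNumber K) • bs 2 := by
    lie_simp
    coord bs
  have hZ2z : (LieAlgebra.ad (DualNumber K) L (bs 2) ^ 2) (bs 2) = 0 := by
    lie_simp
  have hY3 : LieAlgebra.ad (DualNumber K) L (bs 1) ^ 3 = 0 := by
    apply bs.ext
    intro j
    rw [pow_succ', Module.End.mul_apply]
    fin_cases j <;> simp only [Fin.zero_eta, Fin.mk_one, Fin.reduceFinMk, hY2x, hY2y, hY2z] <;>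
      (try lie_simp) <;> coord bs
  have hZ3 : LieAlgebra.ad (DualNumber K) L (bs 2) ^ 3 = 0 := by
    apply bs.ext
    intro j
    rw [pow_succ', Module.End.mul_apply]
    fin_cases j <;> simp only [Fin.zero_eta, Fin.mk_one, Fin.reduceFinMk, hZ2x, hZ2y, hZ2z] <;>
      (try lie_simp) <;> coord bs
  constructor
  · rintro ⟨φ⟩
    have hX := φ.ad_map (bs 0)
    have x0 := LinearMap.congr_fun hX (bs 0)
    have x1 := LinearMap.congr_fun hX (bs 1)
    have x2 := LinearMap.congr_fun hX (bs 2)
    rw [hXpx, LieAlgebra.ad_apply, Groth.Agent.LD.PL.basis3_expand bs (φ.toFun (bs 0))] at x0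
    rw [hXpy, LieAlgebra.ad_apply, Groth.Agent.LD.PL.basis3_expand bs (φ.toFun (bs 0))] at x1
    rw [hXpz, LieAlgebra.ad_apply, Groth.Agent.LD.PL.basis3_expand bs (φ.toFun (bs 0))] at x2
    lie_simp at x0 x1 x2
    have x01f := congrArg (fun v => (bs.repr v 1).fst) x0
    have x02f := congrArg (fun v => (bs.repr v 2).fst) x0
    have x11f := congrArg (fun v => (bs.repr v 1).fst) x1
    have x11s := congrArg (fun v => (bs.repr v 1).snd) x1
    have x12s := congrArg (fun v => (bs.repr v 2).snd) x1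
    have x22s := congrArg (fun v => (bs.repr v 2).snd) x2
    have x21s := congrArg (fun v => (bs.repr v 1).snd) x2
    simp at x01f x02f x11f x11s x12s x22s x21s
    generalize fst ((bs.repr (φ.toFun (bs 0))) 0) = α₀ at *
    generalize snd ((bs.repr (φ.toFun (bs 0))) 0) = α₁ at *
    generalize fst ((bs.repr (φ.toFun (bs 0))) 1) = β₀ at *
    generalize fst ((bs.repr (φ.toFun (bs 0))) 2) = γ₀ at *
    have hγt : γ₀ * t = 0 := by rcases x02f with h | h <;> simp [h]
    subst x01f x11f
    refine ⟨?_, ?_, ?_⟩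
    · linear_combination t * x11s - x22s + h * hγt
    · intro ht1
      have hγ0 : γ₀ = 0 := by simpa [ht1] using hγt
      rw [hSp1 ht1, hγ0] at x12s
      rw [hSp1 ht1] at x21s
      exact ⟨by simpa using x12s, by simpa using x21s⟩
    · intro hp2
      subst hp2
      have hY := φ.ad_map (bs 1)
      have y1 := LinearMap.congr_fun hY (bs 1)
      have y2 := LinearMap.congr_fun hY (bs 2)
      rw [hY2y, LieAlgebra.ad_apply, Groth.Agent.LD.PL.basis3_expand bs (φ.toFun (bs 1))] at y1
      rw [hY2z, LieAlgebra.ad_apply, Groth.Agent.LD.PL.basis3_expand bs (φ.toFun (bs 1))] at y2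
      lie_simp at y1 y2
      have y11f := congrArg (fun v => (bs.repr v 1).fst) y1
      have y21s := congrArg (fun v => (bs.repr v 1).snd) y2
      have y20s := congrArg (fun v => (bs.repr v 0).snd) y2
      simp at y11f y21s y20s
      rw [y11f] at y21s y20s
      have hgg : g * g = 0 := by
        linear_combination g * y21s - h * y20s
      exact mul_self_eq_zero.1 hgg
  · rintro ⟨hbt, hce, hg⟩
    subst hbt
    have hcS : c * S p = c := by
      by_cases ht1 : t = 1
      · rw [(hce ht1).1, zero_mul]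
      · rw [hSp2 ht1, mul_one]
    have heS : e * S p = e := by
      by_cases ht1 : t = 1
      · rw [(hce ht1).2, zero_mul]
      · rw [hSp2 ht1, mul_one]
    rw [hcS] at hXpy
    rw [heS] at hXpz
    have hXp : LieAlgebra.ad (DualNumber K) L (bs 0) ^ p =
        LieAlgebra.ad (DualNumber K) L ((1 - b • ε : DualNumber K) • bs 0) := by
      apply bs.ext
      intro j
      fin_cases j <;> simp only [Fin.zero_eta, Fin.mk_one, Fin.reduceFinMk, hXpx, hXpy, hXpz] <;>
        (try lie_simp) <;> coord bs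
    rcases prime_cases hp with rfl | h3
    · have hg0 := hg rfl
      subst hg0
      obtain ⟨φ, -, -⟩ := Groth.Agent.H2.PLieBasis.exists_unique_pmap_of_basis (DualNumber K) 2 L bs
        ![(1 - b • ε : DualNumber K) • bs 0, (-(a • ε) : DualNumber K) • bs 1, (-(d • ε) : DualNumber K) • bs 2] (by
          intro j
          fin_cases j
          · simpa using hXp
          · apply bs.ext
            intro k
            fin_cases k <;> simp only [Fin.zero_eta, Fin.mk_one, Fin.reduceFinMk, hY2x, hY2y, hY2z,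
              Matrix.cons_val_one, Matrix.cons_val_zero, Matrix.cons_val] <;>
              (try lie_simp) <;> coord bs
          · apply bs.ext
            intro k
            fin_cases k <;> simp only [Fin.zero_eta, Fin.mk_one, Fin.reduceFinMk, hZ2x, hZ2y, hZ2z,
              Matrix.cons_val_one, Matrix.cons_val_zero, Matrix.cons_val] <;>
              (try lie_simp) <;> coord bs)
      exact ⟨φ⟩
    · have h3' : 3 ≤ p := by rcases h3 with rfl | h4 <;> omega
      obtain ⟨φ, -, -⟩ := Groth.Agent.H2.PLieBasis.exists_unique_pmap_of_basis (DualNumber K) p L bs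
        ![(1 - b • ε : DualNumber K) • bs 0, 0, 0] (by
          intro j
          fin_cases j
          · simpa using hXp
          · simp [pow_eq_zero_of_le' hY3 h3']
          · simp [pow_eq_zero_of_le' hZ3 h3'])
      exact ⟨φ⟩

end Groth.Agent.H2.DualLie
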