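import Mathlib
import Groth.Agent.Lib.Helper2.HomSh5
import Groth.Agent.Lib.Helper2.ClosedPt
import Groth.Agent.Lib.Helper2.DepthS1Sch
import Groth.Prelude.Def_CurvBase

/-! S18916: the dual of a coherent module on a reduced curve without isolated points is torsion
free (has no closed associated point). -/

universe u
set_option autoImplicit false
open CategoryTheory Limits AlgebraicGeometry TopologicalSpace Opposite IsLocalRing

namespace Groth.Agent.H2.DualTF
open Groth.Agent.LD.QC

/-- if the maximal ideal of a reduced local ring is associated to `Hom(M, R)` then it is zero. -/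
theorem maximalIdeal_eq_bot_of_isAssociatedPrime_hom {R : Type*} [CommRing R] [IsLocalRing R]
    [IsReduced R] {M T : Type*} [AddCommGroup M] [Module R M] [AddCommGroup T] [Module R T]
    (e : T ≃ₗ[R] R) (h : IsAssociatedPrime (maximalIdeal R) (M →ₗ[R] T)) :
    maximalIdeal R = ⊥ := by
  obtain ⟨hp, φ, hφ⟩ := h
  have hφ0 : φ ≠ 0 := by
    rintro rfl
    apply hp.ne_top
    rw [hφ, Ideal.radical_eq_top, Ideal.eq_top_iff_one, Submodule.mem_colon_singleton]
    simp
  obtain ⟨v, hv⟩ : ∃ v, φ v ≠ 0 := by
    by_contra hcon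
    push Not at hcon
    exact hφ0 (LinearMap.ext hcon)
  set a : R := e (φ v) with ha
  have ha0 : a ≠ 0 := by
    intro h0
    exact hv (e.map_eq_zero_iff.mp h0)
  have hkey : ∀ r ∈ maximalIdeal R, ∃ n : ℕ, r ^ n * a = 0 := by
    intro r hr
    rw [hφ] at hr
    obtain ⟨n, hn⟩ := hr
    rw [Submodule.mem_colon_singleton, Submodule.mem_bot] at hn
    refine ⟨n, ?_⟩
    have := LinearMap.congr_fun hn v
    rw [LinearMap.smul_apply, LinearMap.zero_apply] at this
    rw [ha, ← smul_eq_mul, ← map_smul, this, map_zero]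
  have hau : IsUnit a := by
    rw [← IsLocalRing.notMem_maximalIdeal]
    intro ham
    obtain ⟨n, hn⟩ := hkey a ham
    rw [← pow_succ] at hn
    exact ha0 (IsNilpotent.eq_zero ⟨n + 1, hn⟩)
  rw [eq_bot_iff]
  intro r hr
  obtain ⟨n, hn⟩ := hkey r hr
  have h0 : r ^ n = 0 := by
    obtain ⟨u, hu⟩ := hau
    rw [← hu] at hn
    exact (Units.mul_left_eq_zero u).mp hn
  exact IsNilpotent.eq_zero ⟨n, h0⟩

/-- a finitely generated prime ideal killed in its localization is killed by one element outside
it. -/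
theorem exists_notMem_forall_mul_eq_zero {A : Type*} [CommRing A] (p : Ideal A) [hp : p.IsPrime]
    (hfg : p.FG) (h : ∀ a ∈ p, ∃ s : A, s ∉ p ∧ s * a = 0) :
    ∃ s : A, s ∉ p ∧ ∀ a ∈ p, s * a = 0 := by
  classical
  obtain ⟨S, hS⟩ := hfg
  have hmem : ∀ t ∈ S, t ∈ p := fun t ht => hS ▸ Submodule.subset_span ht
  choose! σ hσ using h
  refine ⟨∏ t ∈ S, σ t, ?_, ?_⟩
  · intro hprod
    obtain ⟨t, ht, htp⟩ := (hp.prod_mem_iff).mp hprod
    exact (hσ t (hmem t ht)).1 htp
  · intro a ha
    rw [← hS] at ha
    induction ha using Submodule.span_induction with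
    | mem y hy =>
      rw [← Finset.mul_prod_erase S σ hy, mul_comm (σ y), mul_assoc, (hσ y (hmem y hy)).2,
        mul_zero]
    | zero => rw [mul_zero]
    | add y z _ _ hy hz => rw [mul_add, hy, hz, add_zero]
    | smul b y _ hy => rw [smul_eq_mul, mul_left_comm, hy, mul_zero]

variable {X : Scheme.{u}}

/-- a closed point of a locally Noetherian scheme whose local ring is a field is open. -/
theorem isOpen_singleton_of_maximalIdeal_eq_bot [IsLocallyNoetherian X] (x : X)
    (hx : IsClosed ({x} : Set X)) (h : maximalIdeal (X.presheaf.stalk x) = ⊥) :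
    IsOpen ({x} : Set X) := by
  obtain ⟨U, hU, hxU, -⟩ := exists_isAffineOpen_mem_and_subset (x := x) (U := ⊤) trivial
  haveI : IsNoetherianRing Γ(X, U) := IsLocallyNoetherian.component_noetherian ⟨U, hU⟩
  letI : Algebra Γ(X, U) (X.presheaf.stalk x) :=
    TopCat.Presheaf.algebra_section_stalk X.presheaf ⟨x, hxU⟩
  haveI := hU.isLocalization_stalk ⟨x, hxU⟩
  set p := (hU.primeIdealOf ⟨x, hxU⟩).asIdeal with hp
  have hloc : ∀ a ∈ p, ∃ s : Γ(X, U), s ∉ p ∧ s * a = 0 := by
    intro a ha
    have h1 : algebraMap Γ(X, U) (X.presheaf.stalk x) a ∈ maximalIdeal (X.presheaf.stalk x) := by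
      have h2 := IsLocalization.AtPrime.under_maximalIdeal (X.presheaf.stalk x) p
      have h3 : a ∈ Ideal.under Γ(X, U) (maximalIdeal (X.presheaf.stalk x)) := by
        rw [h2]; exact ha
      exact h3
    rw [h, Ideal.mem_bot] at h1
    obtain ⟨s, hs⟩ := (IsLocalization.map_eq_zero_iff p.primeCompl (X.presheaf.stalk x) a).mp h1
    exact ⟨s.1, s.2, hs⟩
  obtain ⟨s, hsp, hs⟩ := exists_notMem_forall_mul_eq_zero p (IsNoetherian.noetherian p) hloc
  have hxs : x ∈ X.basicOpen s := Groth.Agent.H2.ClosedPt.mem_basicOpen_of_notMem hU x hxU s hsp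
  have heq : ({x} : Set X) = (X.basicOpen s : Set X) := by
    ext y
    constructor
    · rintro rfl
      exact hxs
    · intro hy
      have hyU : y ∈ U := X.basicOpen_le s hy
      have hle : (hU.primeIdealOf ⟨x, hxU⟩).asIdeal ≤ (hU.primeIdealOf ⟨y, hyU⟩).asIdeal := by
        intro a ha
        have h1 : s * a ∈ (hU.primeIdealOf ⟨y, hyU⟩).asIdeal := by
          rw [hs a ha]; exact Ideal.zero_mem _
        have h2 : s ∉ (hU.primeIdealOf ⟨y, hyU⟩).asIdeal :=
          mem_primeCompl_of_mem_basicOpen hU y hyU s hy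
        exact ((hU.primeIdealOf ⟨y, hyU⟩).isPrime.mem_or_mem h1).resolve_left h2
      have hsp : x ⤳ y :=
        Groth.Agent.H2.AssSch.specializes_of_primeIdealOf_le hU x y hxU hyU hle
      have : y ∈ closure ({x} : Set X) := specializes_iff_mem_closure.mp hsp
      rw [hx.closure_eq] at this
      exact this
  rw [heq]
  exact (X.basicOpen s).2

end Groth.Agent.H2.DualTF

namespace Groth.Agent.H2.DualTF
open Groth.Agent.LD.QC

attribute [-instance] Groth.Agent.LD.QC.stalkModule

variable {X : Scheme.{u}}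

/-- a closed associated point of the dual of a finitely presented module on a reduced locally
Noetherian scheme is an isolated point. -/
theorem isOpen_singleton_of_isAssPoint_dual [IsLocallyNoetherian X] [AlgebraicGeometry.IsReduced X]
    (F : X.Modules) (hF : F.IsFinitePresentation) (x : X) (hx : IsClosed ({x} : Set X))
    (hass : Curv2.IsAssPoint (RefHull.dual F) x) : IsOpen ({x} : Set X) := by
  apply isOpen_singleton_of_maximalIdeal_eq_bot x hx
  have hbij := Groth.Agent.H2.HomSh.evalStalk_bijective (G := Coh.structureModule X) hF x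
  let ε := LinearEquiv.ofBijective (RefHull.evalStalk F (Coh.structureModule X) x) hbij
  have h2 : IsAssociatedPrime (maximalIdeal (X.presheaf.stalk x))
      (RefHull.StalkHom F (Coh.structureModule X) x) :=
    (LinearEquiv.isAssociatedPrime_iff ε).mp hass
  exact maximalIdeal_eq_bot_of_isAssociatedPrime_hom
    (Groth.Agent.H2.HomSh.unitStalkEquiv x).symm h2

end Groth.Agent.H2.DualTF
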