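import Mathlib
import Groth.Agent.Lib.Helper1.RegFlat
import Groth.Agent.Lib.Helper1.FlatDimLocal
import Groth.Agent.Lib.Helper7.Reg1

/-! Helper2: embedding dimension (`μ(𝔪)`) along quotients and flat local maps with trivial fibre. -/

set_option autoImplicit false

universe u

open IsLocalRing

namespace Groth.Agent.H2.EmbDim

theorem maximalIdeal_quotient (R : Type*) [CommRing R] [IsLocalRing R] (I : Ideal R)
    [IsLocalRing (R ⧸ I)] :
    maximalIdeal (R ⧸ I) = (maximalIdeal R).map (Ideal.Quotient.mk I) := by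
  have hsurj : Function.Surjective (Ideal.Quotient.mk I) := Ideal.Quotient.mk_surjective
  haveI : IsLocalHom (Ideal.Quotient.mk I) := IsLocalHom.of_surjective _ hsurj
  rw [← IsLocalRing.maximalIdeal_comap (Ideal.Quotient.mk I),
    Ideal.map_comap_of_surjective _ hsurj]

/-- `μ(𝔪_{R/y}) + 1 = μ(𝔪_R)` for `y ∈ 𝔪 ∖ 𝔪²`. -/
theorem spanFinrank_quotient_add_one (R : Type u) [CommRing R] [IsLocalRing R] [IsNoetherianRing R]
    (y : R) (hy : y ∈ maximalIdeal R) (hy2 : y ∉ (maximalIdeal R) ^ 2)
    [IsLocalRing (R ⧸ Ideal.span ({y} : Set R))] :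
    (maximalIdeal (R ⧸ Ideal.span ({y} : Set R))).spanFinrank + 1 =
      (maximalIdeal R).spanFinrank := by
  classical
  have hmax := maximalIdeal_quotient R (Ideal.span ({y} : Set R))
  apply le_antisymm
  · obtain ⟨t, ht1, ht2⟩ := Groth.Agent.H7.Reg.exists_finset_span_insert y hy hy2
    have hy0 : Ideal.Quotient.mk (Ideal.span ({y} : Set R)) y = 0 :=
      Ideal.Quotient.eq_zero_iff_mem.mpr (Ideal.subset_span (Set.mem_singleton y))
    have hspan : maximalIdeal (R ⧸ Ideal.span ({y} : Set R)) =
        Ideal.span ((Ideal.Quotient.mk (Ideal.span ({y} : Set R))) '' (t : Set R)) := by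
      rw [hmax, ← ht2, Ideal.map_span, Set.image_insert_eq, hy0, Ideal.span_insert_zero]
    have hfr : (maximalIdeal (R ⧸ Ideal.span ({y} : Set R))).spanFinrank ≤ t.card := by
      rw [hspan]
      calc _ ≤ ((Ideal.Quotient.mk (Ideal.span ({y} : Set R))) '' (t : Set R)).ncard :=
            Submodule.spanFinrank_span_le_ncard_of_finite (t.finite_toSet.image _)
        _ ≤ (t : Set R).ncard := Set.ncard_image_le t.finite_toSet
        _ = t.card := Set.ncard_coe_finset t
    omega
  · have hle : Ideal.span ({y} : Set R) ≤ maximalIdeal R := by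
      rw [Ideal.span_le]; intro z hz; rw [Set.mem_singleton_iff] at hz; rw [hz]; exact hy
    have h1 := Groth.Agent.H1.RegFlat.spanFinrank_le_add (Ideal.span ({y} : Set R))
      (maximalIdeal R) hle
    rw [← hmax] at h1
    have h2 : (Ideal.span ({y} : Set R)).spanFinrank ≤ 1 := by
      have := Submodule.spanFinrank_span_le_ncard_of_finite (R := R) (Set.finite_singleton y)
      rwa [Set.ncard_singleton] at this
    omega

/-- flat local homomorphism with `𝔪_A B = 𝔪_B`: `μ(𝔪_A) ≤ μ(𝔪_B)`. -/
theorem spanFinrank_le_of_map_eq (A B : Type u) [CommRing A] [CommRing B] [IsLocalRing A]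
    [IsNoetherianRing A] [IsLocalRing B] [IsNoetherianRing B] [Algebra A B]
    [IsLocalHom (algebraMap A B)] [Module.Flat A B]
    (h : (maximalIdeal A).map (algebraMap A B) = maximalIdeal B) :
    (maximalIdeal A).spanFinrank ≤ (maximalIdeal B).spanFinrank := by
  classical
  haveI : Module.FaithfullyFlat A B := Module.FaithfullyFlat.of_flat_of_isLocalHom
  have hmem : ∀ a ∈ maximalIdeal A, algebraMap A B a ∈ maximalIdeal B := fun a ha => by
    rw [← h]; exact Ideal.mem_map_of_mem _ ha
  -- spanning sets inside `𝔪_B` coming from subsets of `𝔪_A`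
  have key : ∀ S : Set A, S ⊆ maximalIdeal A →
      Submodule.span B {x : maximalIdeal B | ∃ a ∈ S, algebraMap A B a = x.1} = ⊤ →
      (Ideal.span S).map (algebraMap A B) = maximalIdeal B := by
    intro S hS hsp
    have h1 := congrArg (Submodule.map (maximalIdeal B).subtype) hsp
    rw [Submodule.map_span, Submodule.map_top, Submodule.range_subtype] at h1
    have h2 : (maximalIdeal B).subtype '' {x : maximalIdeal B | ∃ a ∈ S, algebraMap A B a = x.1} =
        algebraMap A B '' S := by
      ext x; constructor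
      · rintro ⟨y, ⟨a, ha, hay⟩, rfl⟩; exact ⟨a, ha, hay⟩
      · rintro ⟨a, ha, rfl⟩; exact ⟨⟨_, hmem a (hS ha)⟩, ⟨a, ha, rfl⟩, rfl⟩
    rw [h2] at h1
    rw [Ideal.map_span]
    exact h1
  set T : Set (maximalIdeal B) := {x : maximalIdeal B | ∃ a ∈ (maximalIdeal A : Set A),
    algebraMap A B a = x.1} with hTdef
  have hT : Submodule.span B T = ⊤ := by
    apply Submodule.map_injective_of_injective (maximalIdeal B).injective_subtype
    rw [Submodule.map_span, Submodule.map_top, Submodule.range_subtype]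
    have h2 : (maximalIdeal B).subtype '' T = algebraMap A B '' (maximalIdeal A : Set A) := by
      ext x; constructor
      · rintro ⟨y, ⟨a, ha, hay⟩, rfl⟩; exact ⟨a, ha, hay⟩
      · rintro ⟨a, ha, rfl⟩; exact ⟨⟨_, hmem a ha⟩, ⟨a, ha, rfl⟩, rfl⟩
    rw [h2]
    exact h
  have hspan := (CotangentSpace.span_image_eq_top_iff (R := B)).mpr hT
  obtain ⟨b, hbsub, hbspan, hbli⟩ := exists_linearIndependent (ResidueField B)
    ((maximalIdeal B).toCotangent '' T)
  rw [hspan] at hbspan
  have hbfin : b.Finite := hbli.setFinite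
  have hcard : b.ncard = Module.finrank (ResidueField B) (CotangentSpace B) := by
    have hb := Module.Basis.mk hbli (by rw [Subtype.range_coe]; exact hbspan.ge)
    rw [Module.finrank_eq_nat_card_basis hb, Nat.card_coe_set_eq]
  have hex : ∀ v ∈ b, ∃ a : A, ∃ ha : a ∈ maximalIdeal A,
      (maximalIdeal B).toCotangent ⟨algebraMap A B a, hmem a ha⟩ = v := by
    intro v hv
    obtain ⟨x, ⟨a, ha, hax⟩, rfl⟩ := hbsub hv
    refine ⟨a, ha, ?_⟩
    congr 1
    exact Subtype.ext hax
  choose! σ hσ1 hσ2 using hex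
  set S : Set A := σ '' b with hSdef
  have hS : S ⊆ maximalIdeal A := by
    rintro _ ⟨v, hv, rfl⟩; exact hσ1 v hv
  have hsp : Submodule.span B {x : maximalIdeal B | ∃ a ∈ S, algebraMap A B a = x.1} = ⊤ := by
    rw [← CotangentSpace.span_image_eq_top_iff (R := B), eq_top_iff, ← hbspan]
    apply Submodule.span_mono
    intro v hv
    exact ⟨⟨algebraMap A B (σ v), hmem _ (hσ1 v hv)⟩, ⟨σ v, ⟨v, hv, rfl⟩, rfl⟩, hσ2 v hv⟩
  have hmap := key S hS hsp
  have hJ : Ideal.span S = maximalIdeal A := by
    rw [← Ideal.comap_map_eq_self_of_faithfullyFlat (B := B) (Ideal.span S), hmap,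
      IsLocalRing.maximalIdeal_comap]
  calc (maximalIdeal A).spanFinrank = (Ideal.span S).spanFinrank := by rw [hJ]
    _ ≤ S.ncard := Submodule.spanFinrank_span_le_ncard_of_finite (hbfin.image _)
    _ ≤ b.ncard := Set.ncard_image_le hbfin
    _ = (maximalIdeal B).spanFinrank := by
        rw [hcard, IsLocalRing.spanFinrank_maximalIdeal_eq_finrank_cotangentSpace]

theorem spanFinrank_eq_of_map_eq (A B : Type u) [CommRing A] [CommRing B] [IsLocalRing A]
    [IsNoetherianRing A] [IsLocalRing B] [IsNoetherianRing B] [Algebra A B]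
    [IsLocalHom (algebraMap A B)] [Module.Flat A B]
    (h : (maximalIdeal A).map (algebraMap A B) = maximalIdeal B) :
    (maximalIdeal B).spanFinrank = (maximalIdeal A).spanFinrank := by
  apply le_antisymm _ (spanFinrank_le_of_map_eq A B h)
  rw [← h]
  exact Ideal.spanFinrank_map_le_of_fg _ (IsNoetherian.noetherian _)

end Groth.Agent.H2.EmbDim
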