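import Mathlib
import Groth.Agent.Lib.Helper2.EmbDim1
import Groth.Agent.Lib.Helper6.FlatDepth

/-! Helper2: additivity of the embedding dimension for flat local homomorphisms with regular
closed fibre. -/

set_option autoImplicit false

universe u

open IsLocalRing Pointwise

namespace Groth.Agent.H2.EmbDim

section Step

variable (A B : Type u) [CommRing A] [CommRing B] [IsLocalRing A] [IsNoetherianRing A]
  [IsLocalRing B] [IsNoetherianRing B] [Algebra A B] [IsLocalHom (algebraMap A B)]

/-- the quotient of `B` by a non-unit is local and the structure map stays local -/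
theorem isLocalRing_quot (y : B) (hy : y ∈ maximalIdeal B) :
    IsLocalRing (B ⧸ Ideal.span ({y} : Set B)) := by
  have hle : Ideal.span ({y} : Set B) ≤ maximalIdeal B := by
    rw [Ideal.span_le]; intro z hz; rw [Set.mem_singleton_iff] at hz; rw [hz]; exact hy
  have hne : Ideal.span ({y} : Set B) ≠ ⊤ := fun h => by
    rw [h] at hle
    exact (maximalIdeal.isMaximal B).ne_top (top_le_iff.mp hle)
  haveI : Nontrivial (B ⧸ Ideal.span ({y} : Set B)) := Ideal.Quotient.nontrivial_iff.mpr hne
  exact IsLocalRing.of_surjective' (Ideal.Quotient.mk _) Ideal.Quotient.mk_surjective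

theorem isLocalHom_quot (y : B) [IsLocalRing (B ⧸ Ideal.span ({y} : Set B))] :
    IsLocalHom (algebraMap A (B ⧸ Ideal.span ({y} : Set B))) := by
  haveI : IsLocalHom (Ideal.Quotient.mk (Ideal.span ({y} : Set B))) :=
    IsLocalHom.of_surjective _ Ideal.Quotient.mk_surjective
  have : algebraMap A (B ⧸ Ideal.span ({y} : Set B)) =
      (Ideal.Quotient.mk (Ideal.span ({y} : Set B))).comp (algebraMap A B) := rfl
  rw [this]
  exact RingHom.isLocalHom_comp _ _

/-- the closed fibre of `B/y` is the closed fibre of `B` modulo `ȳ` -/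
noncomputable def fibreQuotEquiv (y : B) :
    ((B ⧸ (maximalIdeal A).map (algebraMap A B)) ⧸
      Ideal.span ({Ideal.Quotient.mk ((maximalIdeal A).map (algebraMap A B)) y} :
        Set (B ⧸ (maximalIdeal A).map (algebraMap A B)))) ≃+*
    ((B ⧸ Ideal.span ({y} : Set B)) ⧸
      (maximalIdeal A).map (algebraMap A (B ⧸ Ideal.span ({y} : Set B)))) := by
  refine (Ideal.quotEquivOfEq ?_).trans ((DoubleQuot.quotQuotEquivComm
    ((maximalIdeal A).map (algebraMap A B)) (Ideal.span ({y} : Set B))).trans
    (Ideal.quotEquivOfEq ?_))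
  · rw [Ideal.map_span, Set.image_singleton]
  · rw [Ideal.map_map]
    rfl

end Step

theorem main_aux (A : Type u) [CommRing A] [IsLocalRing A] [IsNoetherianRing A] :
    ∀ (d : ℕ) (B : Type u) [CommRing B] [IsLocalRing B] [IsNoetherianRing B] [Algebra A B]
      [IsLocalHom (algebraMap A B)] [Module.Flat A B]
      [IsRegularLocalRing (B ⧸ (maximalIdeal A).map (algebraMap A B))],
      ringKrullDim (B ⧸ (maximalIdeal A).map (algebraMap A B)) = (d : WithBot ℕ∞) →
      (maximalIdeal B).spanFinrank = d + (maximalIdeal A).spanFinrank := by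
  intro d
  induction d with
  | zero =>
    intro B _ _ _ _ _ _ _ hd
    have h0 : (maximalIdeal (B ⧸ (maximalIdeal A).map (algebraMap A B))).spanFinrank = 0 :=
      Groth.Agent.H7.Reg.spanFinrank_eq_of_dim 0 hd
    have h1 : maximalIdeal (B ⧸ (maximalIdeal A).map (algebraMap A B)) = ⊥ :=
      (Submodule.spanFinrank_eq_zero_iff_eq_bot
        (maximalIdeal _).fg_of_isNoetherianRing).mp h0
    rw [maximalIdeal_quotient, Ideal.map_eq_bot_iff_le_ker, Ideal.mk_ker] at h1
    have h2 : (maximalIdeal A).map (algebraMap A B) = maximalIdeal B :=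
      le_antisymm (Groth.Agent.H1.FlatDim.map_maximalIdeal_le A B) h1
    rw [spanFinrank_eq_of_map_eq A B h2]
    simp
  | succ d ih =>
    intro B _ _ _ _ _ _ _ hd
    set I := (maximalIdeal A).map (algebraMap A B) with hI
    obtain ⟨y', hy', hy'2, -⟩ := Groth.Agent.H7.Reg.exists_parameter (R := B ⧸ I) d hd
    obtain ⟨y, rfl⟩ := Ideal.Quotient.mk_surjective y'
    have hmaxI := maximalIdeal_quotient B I
    -- `y ∈ 𝔪_B ∖ 𝔪_B²`
    have hy : y ∈ maximalIdeal B := by
      rw [mem_maximalIdeal, mem_nonunits_iff]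
      intro hu
      exact hy' (hu.map (Ideal.Quotient.mk I))
    have hy2 : y ∉ (maximalIdeal B) ^ 2 := by
      intro h
      apply hy'2
      rw [hmaxI, ← Ideal.map_pow]
      exact Ideal.mem_map_of_mem _ h
    -- `ȳ` is regular on the closed fibre
    haveI : IsDomain (B ⧸ I) := Groth.Agent.H7.Reg.isDomain _
    have hne : Ideal.Quotient.mk I y ≠ 0 := by
      intro h0
      apply hy'2
      rw [h0]
      exact Ideal.zero_mem _
    have hreg0 : IsSMulRegular (B ⧸ I) y := by
      intro a b hab
      simp only [Algebra.smul_def, Ideal.Quotient.algebraMap_eq] at hab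
      exact mul_left_cancel₀ hne hab
    have hIeq : (I • (⊤ : Submodule B B)) = I := by rw [smul_eq_mul, Ideal.mul_top]
    have hreg : IsSMulRegular (Groth.Agent.H6.FlatDepth.Fib A B B) y :=
      ((Submodule.quotEquivOfEq _ _ hIeq).isSMulRegular_congr y).mpr hreg0
    obtain ⟨-, hflat, -⟩ := Groth.Agent.H6.FlatDepth.regular_of_regular_fibre (R := A) (S := B) B y hreg
    have hyeq : (y • (⊤ : Submodule B B)) = Ideal.span ({y} : Set B) := by
      rw [← Submodule.ideal_span_singleton_smul, smul_eq_mul, Ideal.mul_top]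
    haveI : Module.Flat A (B ⧸ Ideal.span ({y} : Set B)) :=
      Module.Flat.of_linearEquiv
        ((Submodule.quotEquivOfEq _ _ hyeq).restrictScalars A).symm
    haveI := isLocalRing_quot B y hy
    haveI := isLocalHom_quot A B y
    -- the closed fibre of `B/y`
    obtain ⟨hregq, hdimq⟩ := Groth.Agent.H7.Reg.quotient_regular (R := B ⧸ I)
      (Ideal.Quotient.mk I y) hy' hy'2 d hd
    have e := fibreQuotEquiv A B y
    haveI : IsRegularLocalRing ((B ⧸ Ideal.span ({y} : Set B)) ⧸
        (maximalIdeal A).map (algebraMap A (B ⧸ Ideal.span ({y} : Set B)))) :=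
      IsRegularLocalRing.of_ringEquiv e
    have hdim' : ringKrullDim ((B ⧸ Ideal.span ({y} : Set B)) ⧸
        (maximalIdeal A).map (algebraMap A (B ⧸ Ideal.span ({y} : Set B)))) = (d : WithBot ℕ∞) := by
      rw [← ringKrullDim_eq_of_ringEquiv e]
      exact hdimq
    have h1 := ih (B ⧸ Ideal.span ({y} : Set B)) hdim'
    have h2 := spanFinrank_quotient_add_one B y hy hy2
    omega

/-- **Embedding dimension is additive** for a flat local homomorphism of Noetherian local rings
with regular closed fibre. -/
theorem main (A B : Type u) [CommRing A] [CommRing B] [IsLocalRing A] [IsNoetherianRing A]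
    [IsLocalRing B] [IsNoetherianRing B] [Algebra A B] [IsLocalHom (algebraMap A B)]
    [Module.Flat A B] [IsRegularLocalRing (B ⧸ (maximalIdeal A).map (algebraMap A B))] :
    (maximalIdeal B).spanFinrank =
      (maximalIdeal (B ⧸ (maximalIdeal A).map (algebraMap A B))).spanFinrank +
        (maximalIdeal A).spanFinrank :=
  main_aux A _ B (IsRegularLocalRing.spanFinrank_maximalIdeal
    (R := B ⧸ (maximalIdeal A).map (algebraMap A B))).symm

end Groth.Agent.H2.EmbDim
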