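import Groth.Agent.Lib.Helper2.SeeQ
import Groth.Agent.Lib.Helper5.Glue.C
import Groth.Prelude.Def_Pic

/-!
# Endomorphisms of an invertible module are global functions (helper2)

`exists_global_coord`: an endomorphism `v` of an invertible module `L` on `Z` is multiplication by a
global function. `eq_id_of_section`: if `p : Z → T` has a section `s`, `Γ(T, O) → Γ(Z, O)` is
surjective and `s^* v = 𝟙`, then `v = 𝟙`.
-/

set_option autoImplicit false
set_option linter.style.haveILetI false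
universe u

open CategoryTheory CategoryTheory.Limits AlgebraicGeometry Opposite TopologicalSpace TensorProduct

namespace Groth.Agent.H2.EndInv

open Groth.Agent.LD Groth.Agent.LD.QC

variable {Z : Scheme.{u}}

/-- morphisms out of an invertible module agreeing on all local bases are equal. -/
theorem hom_ext_of_bases {L L' : Z.Modules} (hL : PicF.IsInvertible L) (v w : L ⟶ L')
    (h : ∀ (W : Z.Opens) (e : Γ(L, W)), IsBasisOver L W e → v.app W e = w.app W e) : v = w := by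
  apply Scheme.Modules.hom_ext
  intro U
  ext s
  let κ := {p : Σ W : Z.Opens, Γ(L, W) // IsBasisOver L p.1 p.2 ∧ p.1 ≤ U}
  refine section_ext_of_cover L' (fun i : κ => i.1.1) (fun i => i.2.2) ?_ _ _ ?_
  · intro x hx
    obtain ⟨W, e, hxW, he⟩ := (isInvertible_iff_exists_isBasisOver L).1 hL x
    exact Opens.mem_iSup.mpr ⟨⟨⟨W ⊓ U, L.presheaf.map (homOfLE inf_le_left).op e⟩,
      he.mono inf_le_left, inf_le_right⟩, ⟨hxW, hx⟩⟩
  · intro i
    rw [← app_res, ← app_res]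
    obtain ⟨c, hc⟩ := i.2.1.exists_coord (L.presheaf.map (homOfLE i.2.2).op s)
    rw [hc, Scheme.Modules.Hom.app_smul, Scheme.Modules.Hom.app_smul, h _ _ i.2.1]

/-- an endomorphism of an invertible module is multiplication by a global function. -/
theorem exists_global_coord (L : Z.Modules) (hL : PicF.IsInvertible L) (v : L ⟶ L) :
    ∃ a : Γ(Z, ⊤), ∀ (W : Z.Opens) (e : Γ(L, W)), IsBasisOver L W e →
      v.app W e = (Z.presheaf.map (homOfLE (le_top : W ≤ ⊤)).op a) • e := by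
  let κ := {p : Σ W : Z.Opens, Γ(L, W) // IsBasisOver L p.1 p.2}
  have hex : ∀ i : κ, ∃ c : Γ(Z, i.1.1), v.app i.1.1 i.1.2 = c • i.1.2 :=
    fun i => i.2.exists_coord _
  choose c hc using hex
  have hcov : (⊤ : Z.Opens) ≤ ⨆ i : κ, i.1.1 := by
    intro x _
    obtain ⟨W, e, hxW, he⟩ := (isInvertible_iff_exists_isBasisOver L).1 hL x
    exact Opens.mem_iSup.mpr ⟨⟨⟨W, e⟩, he⟩, hxW⟩
  have key : ∀ (i : κ) (W : Z.Opens) (hW : W ≤ i.1.1) (e : Γ(L, W)), IsBasisOver L W e →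
      v.app W e = (Z.presheaf.map (homOfLE hW).op (c i)) • e := by
    intro i W hW e _
    have hi := i.2.mono hW
    obtain ⟨u, hu⟩ := hi.exists_coord e
    rw [hu, Scheme.Modules.Hom.app_smul, app_res, hc i, smul_res, smul_smul, smul_smul, mul_comm]
  have hcompat : ∀ i j : κ,
      Groth.Agent.H5.Glue.res (inf_le_left : i.1.1 ⊓ j.1.1 ≤ i.1.1) (c i) =
        Groth.Agent.H5.Glue.res (inf_le_right : i.1.1 ⊓ j.1.1 ≤ j.1.1) (c j) := by
    intro i j
    have hb := i.2.mono (inf_le_left : i.1.1 ⊓ j.1.1 ≤ i.1.1)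
    have h1 := key i _ inf_le_left _ hb
    have h2 := key j _ inf_le_right _ hb
    exact hb.coord_injective (h1.symm.trans h2)
  obtain ⟨a, ha, -⟩ := Groth.Agent.H5.Glue.existsUnique_glue_fn (fun i : κ => i.1.1) ⊤
    (fun _ => le_top) hcov c hcompat
  refine ⟨a, fun W e he => ?_⟩
  have h := key ⟨⟨W, e⟩, he⟩ W le_rfl e he
  rw [h]
  congr 1
  have h2 : Z.presheaf.map (homOfLE (le_top : W ≤ ⊤)).op a = c ⟨⟨W, e⟩, he⟩ := ha ⟨⟨W, e⟩, he⟩
  rw [h2]
  exact Groth.Agent.H5.Glue.res_self _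

/-- pulling back a function along a section of `p` recovers the function on the base. -/
lemma section_appLE {Z T : Scheme.{u}} (p : Z ⟶ T) (s : T ⟶ Z) (hs : s ≫ p = 𝟙 T) (W : Z.Opens)
    (b : Γ(T, ⊤)) :
    s.appLE W (s ⁻¹ᵁ W) le_rfl
        (Z.presheaf.map (homOfLE (show W ≤ p ⁻¹ᵁ ⊤ from fun _ _ => trivial)).op (p.app ⊤ b)) =
      T.presheaf.map (homOfLE (le_top : s ⁻¹ᵁ W ≤ ⊤)).op b := by
  have h1 : Z.presheaf.map (homOfLE (show W ≤ p ⁻¹ᵁ ⊤ from fun _ _ => trivial)).op ≫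
      s.appLE W (s ⁻¹ᵁ W) le_rfl = s.appLE (p ⁻¹ᵁ ⊤) (s ⁻¹ᵁ W) (fun _ _ => trivial) :=
    Scheme.Hom.map_appLE _ _ _
  have h2 : (s ≫ p).appLE ⊤ (s ⁻¹ᵁ W) (fun _ _ => trivial) =
      p.app ⊤ ≫ s.appLE (p ⁻¹ᵁ ⊤) (s ⁻¹ᵁ W) (fun _ _ => trivial) :=
    Scheme.Hom.comp_appLE _ _ _ _ _
  have h3 : ∀ (q : T ⟶ T) (_ : q = 𝟙 T) (e : s ⁻¹ᵁ W ≤ q ⁻¹ᵁ ⊤),
      q.appLE ⊤ (s ⁻¹ᵁ W) e = T.presheaf.map (homOfLE (le_top : s ⁻¹ᵁ W ≤ ⊤)).op := by
    rintro q rfl e
    simp [Scheme.Hom.appLE]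
  have h4 := h3 (s ≫ p) hs (fun _ _ => trivial)
  rw [h2, ← h1] at h4
  exact congr($(h4) b)

set_option maxHeartbeats 800000 in
/-- an automorphism (indeed any endomorphism) of an invertible module which becomes the identity
along a section is the identity, when all global functions come from the base. -/
theorem eq_id_of_section {Z T : Scheme.{u}} (p : Z ⟶ T) (s : T ⟶ Z) (hs : s ≫ p = 𝟙 T)
    (hp : Function.Surjective (p.app ⊤)) (L : Z.Modules) (hL : PicF.IsInvertible L) (v : L ⟶ L)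
    (hv : (Scheme.Modules.pullback s).map v = 𝟙 _) : v = 𝟙 L := by
  haveI : L.IsQuasicoherent := qc_of_isInvertible L hL
  obtain ⟨a, ha⟩ := exists_global_coord L hL v
  obtain ⟨b, hb⟩ := hp a
  let κ := {p : Σ W : Z.Opens, Γ(L, W) // IsBasisOver L p.1 p.2}
  have h1 : ∀ (W : Z.Opens) (e : Γ(L, W)), IsBasisOver L W e →
      s.appLE W (s ⁻¹ᵁ W) le_rfl (Z.presheaf.map (homOfLE (le_top : W ≤ ⊤)).op a) = 1 := by
    intro W e he
    have hb' := IsBasisOver.pullback s he (le_refl (s ⁻¹ᵁ W))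
    have h2 := pbSec_naturality s v (le_refl (s ⁻¹ᵁ W)) e
    rw [hv, ha W e he, pbSec_smul] at h2
    have h3 : (1 : Γ(T, s ⁻¹ᵁ W)) • pbSec s L (le_refl (s ⁻¹ᵁ W)) e =
        s.appLE W (s ⁻¹ᵁ W) le_rfl (Z.presheaf.map (homOfLE (le_top : W ≤ ⊤)).op a) •
          pbSec s L (le_refl (s ⁻¹ᵁ W)) e := by
      rw [one_smul]
      exact h2
    exact (hb'.coord_injective h3).symm
  have hcov : (⊤ : T.Opens) ≤ ⨆ i : κ, s ⁻¹ᵁ i.1.1 := by
    intro t _
    obtain ⟨W, e, hxW, he⟩ := (isInvertible_iff_exists_isBasisOver L).1 hL (s t)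
    exact Opens.mem_iSup.mpr ⟨⟨⟨W, e⟩, he⟩, hxW⟩
  have hb1 : b = 1 := by
    apply Groth.Agent.H5.Glue.fn_ext_of_cover (fun i : κ => s ⁻¹ᵁ i.1.1) ⊤ (fun _ => le_top) hcov
    intro i
    have h4 := section_appLE p s hs i.1.1 b
    have h5 := h1 i.1.1 i.1.2 i.2
    rw [← hb] at h5
    have h6 : T.presheaf.map (homOfLE (le_top : s ⁻¹ᵁ i.1.1 ≤ ⊤)).op b = 1 := h4.symm.trans h5
    have h7 : T.presheaf.map (homOfLE (le_top : s ⁻¹ᵁ i.1.1 ≤ ⊤)).op (1 : Γ(T, ⊤)) = 1 :=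
      map_one (T.presheaf.map (homOfLE (le_top : s ⁻¹ᵁ i.1.1 ≤ ⊤)).op).hom
    exact h6.trans h7.symm
  have ha1 : a = 1 := by
    rw [← hb, hb1]
    exact map_one (p.app ⊤).hom
  apply hom_ext_of_bases hL
  intro W e he
  rw [ha W e he, ha1]
  have h8 : Z.presheaf.map (homOfLE (le_top : W ≤ ⊤)).op (1 : Γ(Z, ⊤)) = 1 :=
    map_one (Z.presheaf.map (homOfLE (le_top : W ≤ ⊤)).op).hom
  rw [h8, one_smul]
  rfl

end Groth.Agent.H2.EndInv
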