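import Mathlib
import Groth.Prelude.Def_EGA4b
import Groth.Prelude.Def_CAlg
import Groth.Agent.Lib.Helper6.Catenary
import Groth.Agent.Lib.Helper1.FormalEquidim

/-! Equidimensionality of `B/pB` for a flat local homomorphism into a catenary equidimensional
local ring. -/

universe u
set_option linter.style.haveILetI false

namespace Groth.Agent.H2.EqFlat

open Groth.Agent.H6 IsLocalRing

/-- a ring all of whose minimal-prime quotients have dimension `c` has dimension `c` -/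
theorem ringKrullDim_eq_of_forall_minimalPrimes {R : Type u} [CommRing R] [Nontrivial R]
    (c : WithBot ℕ∞) (h : ∀ q ∈ minimalPrimes R, ringKrullDim (R ⧸ q) = c) :
    ringKrullDim R = c := by
  apply le_antisymm
  · rw [ringKrullDim, Order.krullDim_eq_iSup_coheight]
    apply iSup_le
    intro x
    obtain ⟨q, hq, hqx⟩ := Ideal.exists_minimalPrimes_le (bot_le : ⊥ ≤ x.asIdeal)
    have h1 := h q hq
    rw [Cat.ringKrullDim_quotient_eq_coheight ⟨q, hq.1.1⟩] at h1
    rw [← h1]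
    have h2 : Order.coheight x ≤ Order.coheight (⟨q, hq.1.1⟩ : PrimeSpectrum R) :=
      Order.coheight_anti (show (⟨q, hq.1.1⟩ : PrimeSpectrum R) ≤ x from hqx)
    exact_mod_cast h2
  · obtain ⟨⟨q, hq⟩⟩ := Ideal.nonempty_minimalPrimes (I := (⊥ : Ideal R)) bot_ne_top
    rw [← h q hq]
    exact ringKrullDim_quotient_le q

section Main

variable {A B : Type u} [CommRing A] [CommRing B] [IsNoetherianRing A] [IsNoetherianRing B]
  [IsLocalRing B] [Algebra A B] [Module.Flat A B]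

/-- for a minimal prime `Q̄` of `B/pB`, `ht p + dim (B/pB)/Q̄ = dim B` -/
theorem height_add_dim (hcat : CAlg.IsCatenary B) (heq : EGA4.IsEquidim B) (p : Ideal A)
    [p.IsPrime] (I : Ideal B) (hI : I = p.map (algebraMap A B)) (Q' : Ideal (B ⧸ I))
    (hQ' : Q' ∈ minimalPrimes (B ⧸ I)) :
    ∃ d : ℕ∞, ringKrullDim ((B ⧸ I) ⧸ Q') = (d : WithBot ℕ∞) ∧
      (((p.height + d : ℕ∞)) : WithBot ℕ∞) = ringKrullDim B := by
  haveI hQ'p : Q'.IsPrime := hQ'.1.1
  set Q := Q'.comap (Ideal.Quotient.mk I) with hQ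
  haveI hQp : Q.IsPrime := Ideal.comap_isPrime _ _
  have hQmin : Q ∈ I.minimalPrimes := by
    rw [Ideal.minimalPrimes_eq_comap]
    exact ⟨Q', hQ', rfl⟩
  have hmap : Q.map (Ideal.Quotient.mk I) = Q' :=
    Ideal.map_comap_of_surjective _ Ideal.Quotient.mk_surjective _
  -- `Q` lies over `p`
  have hpQ : p ≤ Q.under A := by
    rw [Ideal.under_def, ← Ideal.map_le_iff_le_comap, ← hI]
    exact hQmin.1.2
  haveI : Q.LiesOver (Q.under A) := ⟨rfl⟩
  obtain ⟨P, hPQ, hPp, hPl⟩ := Ideal.exists_ideal_le_liesOver_of_le (p := p) (q := Q.under A) Q hpQ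
  have hIP : I ≤ P := by
    rw [hI, Ideal.map_le_iff_le_comap, ← Ideal.under_def, ← hPl.over]
  have hPeq : P = Q := le_antisymm hPQ (hQmin.2 ⟨hPp, hIP⟩ hPQ)
  haveI hlies : Q.LiesOver p := hPeq ▸ hPl
  have hht := Ideal.height_eq_height_add_of_liesOver_of_hasGoingDown p Q
  rw [← hI, hmap, Ideal.height_eq_zero_iff.mpr hQ', add_zero] at hht
  refine ⟨Order.coheight (⟨Q, hQp⟩ : PrimeSpectrum B), ?_, ?_⟩
  · rw [← Groth.Agent.H1.FormalEquidim.ringKrullDim_quotient_comap (Ideal.Quotient.mk I)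
      Ideal.Quotient.mk_surjective Q']
    exact Cat.ringKrullDim_quotient_eq_coheight ⟨Q, hQp⟩
  · rw [← hht]
    exact Cat.height_add_coheight hcat heq ⟨Q, hQp⟩

/-- **S9297** -/
theorem isEquidim_quotient_map [IsLocalRing A] [IsLocalHom (algebraMap A B)]
    (hcat : CAlg.IsCatenary B) (heq : EGA4.IsEquidim B) (p : Ideal A) [hp : p.IsPrime] :
    EGA4.IsEquidim (B ⧸ p.map (algebraMap A B)) := by
  have hne : p.map (algebraMap A B) ≠ ⊤ := by
    have hle : p.map (algebraMap A B) ≤ maximalIdeal B := by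
      rw [Ideal.map_le_iff_le_comap]
      intro x hx
      have hx' : x ∈ maximalIdeal A := IsLocalRing.le_maximalIdeal hp.ne_top hx
      rw [Ideal.mem_comap]
      exact (IsLocalRing.mem_maximalIdeal _).mpr
        (fun hu => ((IsLocalRing.mem_maximalIdeal _).mp hx') (isUnit_of_map_unit _ _ hu))
    intro h
    rw [h] at hle
    exact (maximalIdeal.isMaximal B).ne_top (top_le_iff.mp hle)
  haveI : Nontrivial (B ⧸ p.map (algebraMap A B)) := Ideal.Quotient.nontrivial_iff.mpr hne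
  obtain ⟨⟨Q₀, hQ₀⟩⟩ := Ideal.nonempty_minimalPrimes
    (I := (⊥ : Ideal (B ⧸ p.map (algebraMap A B)))) bot_ne_top
  obtain ⟨d₀, hd₀, hsum₀⟩ := height_add_dim hcat heq p _ rfl Q₀ hQ₀
  have hfin : p.height ≠ ⊤ := Ideal.height_ne_top hp.ne_top
  have hall : ∀ Q' ∈ minimalPrimes (B ⧸ p.map (algebraMap A B)),
      ringKrullDim ((B ⧸ p.map (algebraMap A B)) ⧸ Q') = (d₀ : WithBot ℕ∞) := by
    intro Q' hQ'
    obtain ⟨d, hd, hsum⟩ := height_add_dim hcat heq p _ rfl Q' hQ'
    rw [hd]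
    have h1 : ((p.height + d : ℕ∞) : WithBot ℕ∞) = ((p.height + d₀ : ℕ∞) : WithBot ℕ∞) := by
      rw [hsum, hsum₀]
    have h2 : p.height + d = p.height + d₀ := WithBot.coe_injective h1
    have h3 : d = d₀ := (ENat.add_right_injective_of_ne_top hfin) h2
    rw [h3]
  have hdim := ringKrullDim_eq_of_forall_minimalPrimes _ hall
  intro Q' hQ'
  rw [hall Q' hQ', hdim]

end Main

end Groth.Agent.H2.EqFlat
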