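import Mathlib
import Groth.Agent.Lib.Helper2.EqFlat
import Groth.Agent.Lib.Helper6.FlatDim
import Groth.Agent.Lib.Helper5.CA2.CatDim
import Groth.Agent.Lib.Helper5.Catenary

/-! Flat local homomorphisms into equidimensional catenary rings: the dimension formula
`ht p + dim A/p = dim A` and descent of "equidimensional and catenary". -/

universe u
set_option linter.style.haveILetI false

namespace Groth.Agent.H2.EqFlat

open Groth.Agent.H6 IsLocalRing TensorProduct

theorem withBot_add_nat_cancel (x y : WithBot ℕ∞) (n : ℕ)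
    (h : x + (n : WithBot ℕ∞) = y + (n : WithBot ℕ∞)) : x = y := by
  induction x using WithBot.recBotCoe with
  | bot =>
    induction y using WithBot.recBotCoe with
    | bot => rfl
    | coe b =>
      rw [WithBot.bot_add] at h
      have h2 : ((b + (n : ℕ∞) : ℕ∞) : WithBot ℕ∞) = ⊥ := by
        rw [h]; push_cast; rfl
      exact absurd h2 (WithBot.coe_ne_bot)
  | coe a =>
    induction y using WithBot.recBotCoe with
    | bot =>
      rw [WithBot.bot_add] at h
      have h2 : ((a + (n : ℕ∞) : ℕ∞) : WithBot ℕ∞) = ⊥ := by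
        rw [← h]; push_cast; rfl
      exact absurd h2 (WithBot.coe_ne_bot)
    | coe b =>
      have h2 : ((a + (n : ℕ∞) : ℕ∞) : WithBot ℕ∞) = ((b + (n : ℕ∞) : ℕ∞) : WithBot ℕ∞) := by
        push_cast
        exact h
      have h3 : a + (n : ℕ∞) = b + (n : ℕ∞) := WithBot.coe_injective h2
      have h4 : a = b := (ENat.add_left_injective_of_ne_top (ENat.coe_ne_top n)) h3
      rw [h4]

section Main

variable {A B : Type u} [CommRing A] [CommRing B] [IsNoetherianRing A] [IsNoetherianRing B]
  [IsLocalRing A] [IsLocalRing B] [Algebra A B] [IsLocalHom (algebraMap A B)] [Module.Flat A B]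

/-- `dim B/IB = dim A/I + dim B/𝔪_A B` -/
theorem dim_quotient_map (I : Ideal A) :
    ringKrullDim (B ⧸ I.map (algebraMap A B)) =
      ringKrullDim (A ⧸ I) + Module.supportDim B (FlatDepth.Fib A B B) := by
  have h1 := FlatDim.supportDim_tensor (R := A) (S := B) B (A ⧸ I)
  rw [Module.supportDim_quotient_eq_ringKrullDim] at h1
  rw [← h1, ← Module.supportDim_quotient_eq_ringKrullDim]
  exact Module.supportDim_eq_of_equiv
    (Algebra.TensorProduct.quotIdealMapEquivTensorQuot B I).toLinearEquiv

omit [Module.Flat A B] [IsNoetherianRing A] in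
theorem exists_fib_dim : ∃ n : ℕ, Module.supportDim B (FlatDepth.Fib A B B) = (n : WithBot ℕ∞) := by
  haveI : Nontrivial (FlatDepth.Fib A B B) := FlatDim.nontrivial_fib (R := A) (S := B) B
  exact LC.exists_supportDim_eq (R := B) _

/-- `dim B = dim A + dim B/𝔪_A B` -/
theorem dim_eq_add_fib :
    ringKrullDim B = ringKrullDim A + Module.supportDim B (FlatDepth.Fib A B B) := by
  have h := dim_quotient_map (A := A) (B := B) ⊥
  have e1 : ringKrullDim (B ⧸ (⊥ : Ideal A).map (algebraMap A B)) = ringKrullDim B := by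
    rw [ringKrullDim_eq_of_ringEquiv (Ideal.quotEquivOfEq (Ideal.map_bot (f := algebraMap A B)))]
    exact ringKrullDim_eq_of_ringEquiv (RingEquiv.quotientBot B)
  have e2 : ringKrullDim (A ⧸ (⊥ : Ideal A)) = ringKrullDim A :=
    ringKrullDim_eq_of_ringEquiv (RingEquiv.quotientBot A)
  rw [e1, e2] at h
  exact h

/-- `ht p + dim B/pB = dim B` -/
theorem height_add_dim_quotient_map (hcat : CAlg.IsCatenary B) (heq : EGA4.IsEquidim B)
    (p : Ideal A) [hp : p.IsPrime] :
    (p.height : WithBot ℕ∞) + ringKrullDim (B ⧸ p.map (algebraMap A B)) = ringKrullDim B := by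
  have hne : p.map (algebraMap A B) ≠ ⊤ := by
    have hle : p.map (algebraMap A B) ≤ maximalIdeal B :=
      (Ideal.map_mono (IsLocalRing.le_maximalIdeal hp.ne_top)).trans
        (IsLocalRing.map_maximalIdeal_le (algebraMap A B))
    intro h
    rw [h] at hle
    exact (maximalIdeal.isMaximal B).ne_top (top_le_iff.mp hle)
  haveI : Nontrivial (B ⧸ p.map (algebraMap A B)) := Ideal.Quotient.nontrivial_iff.mpr hne
  obtain ⟨⟨Q₀, hQ₀⟩⟩ := Ideal.nonempty_minimalPrimes
    (I := (⊥ : Ideal (B ⧸ p.map (algebraMap A B)))) bot_ne_top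
  obtain ⟨d₀, hd₀, hsum₀⟩ := height_add_dim hcat heq p _ rfl Q₀ hQ₀
  have heq' := isEquidim_quotient_map hcat heq p
  rw [← heq' Q₀ hQ₀, hd₀, ← hsum₀]
  push_cast
  rfl

/-- **dimension formula**: `ht p + dim A/p = dim A` -/
theorem height_add_dim_quotient (hcat : CAlg.IsCatenary B) (heq : EGA4.IsEquidim B)
    (p : Ideal A) [hp : p.IsPrime] :
    (p.height : WithBot ℕ∞) + ringKrullDim (A ⧸ p) = ringKrullDim A := by
  obtain ⟨n, hn⟩ := exists_fib_dim (A := A) (B := B)
  have h1 := height_add_dim_quotient_map hcat heq p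
  rw [dim_quotient_map, dim_eq_add_fib (A := A) (B := B), hn, ← add_assoc] at h1
  exact withBot_add_nat_cancel _ _ n h1

/-- `A` is equidimensional -/
theorem isEquidim_of_flat (hcat : CAlg.IsCatenary B) (heq : EGA4.IsEquidim B) :
    EGA4.IsEquidim A := by
  intro p hp
  haveI := hp.1.1
  have h := height_add_dim_quotient (B := B) hcat heq p
  rw [Ideal.height_eq_zero_iff.mpr hp] at h
  simpa using h

/-- the dimension formula in the quotient `A/p`: `ht(q/p) + dim A/q = dim A/p` -/
theorem height_map_add_dim_quotient (hcat : CAlg.IsCatenary B) (heq : EGA4.IsEquidim B)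
    (p q : Ideal A) [hp : p.IsPrime] [hq : q.IsPrime] (hpq : p ≤ q) :
    ((q.map (Ideal.Quotient.mk p)).height : WithBot ℕ∞) + ringKrullDim (A ⧸ q) =
      ringKrullDim (A ⧸ p) := by
  have hne : p.map (algebraMap A B) ≠ ⊤ := by
    have hle : p.map (algebraMap A B) ≤ maximalIdeal B :=
      (Ideal.map_mono (IsLocalRing.le_maximalIdeal hp.ne_top)).trans
        (IsLocalRing.map_maximalIdeal_le (algebraMap A B))
    intro h
    rw [h] at hle
    exact (maximalIdeal.isMaximal B).ne_top (top_le_iff.mp hle)
  haveI : Nontrivial (B ⧸ p.map (algebraMap A B)) := Ideal.Quotient.nontrivial_iff.mpr hne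
  haveI : IsLocalRing (A ⧸ p) :=
    IsLocalRing.of_surjective' (Ideal.Quotient.mk p) Ideal.Quotient.mk_surjective
  haveI : IsLocalRing (B ⧸ p.map (algebraMap A B)) :=
    IsLocalRing.of_surjective' (Ideal.Quotient.mk _) Ideal.Quotient.mk_surjective
  haveI : Module.Flat (A ⧸ p) (B ⧸ p.map (algebraMap A B)) :=
    Module.Flat.of_linearEquiv (Algebra.TensorProduct.quotIdealMapEquivQuotTensor B p).toLinearEquiv
  haveI : IsLocalHom (algebraMap (A ⧸ p) (B ⧸ p.map (algebraMap A B))) := by
    constructor
    intro x hx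
    obtain ⟨a, rfl⟩ := Ideal.Quotient.mk_surjective x
    by_contra hnu
    have ha : a ∈ maximalIdeal A := by
      rw [IsLocalRing.mem_maximalIdeal]
      intro hu
      exact hnu (hu.map _)
    have hb : algebraMap A B a ∈ maximalIdeal B :=
      IsLocalRing.map_maximalIdeal_le (algebraMap A B) (Ideal.mem_map_of_mem _ ha)
    have hb' : Ideal.Quotient.mk (p.map (algebraMap A B)) (algebraMap A B a) ∈
        maximalIdeal (B ⧸ p.map (algebraMap A B)) := by
      rw [IsLocalRing.mem_maximalIdeal]
      intro hu
      haveI : IsLocalHom (Ideal.Quotient.mk (p.map (algebraMap A B))) :=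
        Function.Surjective.isLocalHom _ Ideal.Quotient.mk_surjective
      exact ((IsLocalRing.mem_maximalIdeal _).mp hb)
        (isUnit_of_map_unit (Ideal.Quotient.mk (p.map (algebraMap A B))) _ hu)
    exact ((IsLocalRing.mem_maximalIdeal _).mp hb') hx
  have hcat' : CAlg.IsCatenary (B ⧸ p.map (algebraMap A B)) :=
    Groth.Agent.H5.isCatenary_quotient B _ hcat
  have heq' : EGA4.IsEquidim (B ⧸ p.map (algebraMap A B)) := isEquidim_quotient_map hcat heq p
  haveI hq' : (q.map (Ideal.Quotient.mk p)).IsPrime := by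
    apply Ideal.map_isPrime_of_surjective Ideal.Quotient.mk_surjective
    rw [Ideal.mk_ker]
    exact hpq
  have h := height_add_dim_quotient (A := A ⧸ p) (B := B ⧸ p.map (algebraMap A B)) hcat' heq'
    (q.map (Ideal.Quotient.mk p))
  rw [← h]
  congr 1
  have hc : (q.map (Ideal.Quotient.mk p)).comap (Ideal.Quotient.mk p) = q := by
    rw [Ideal.comap_map_of_surjective _ Ideal.Quotient.mk_surjective, ← RingHom.ker_eq_comap_bot,
      Ideal.mk_ker, sup_eq_left.mpr hpq]
  rw [← Groth.Agent.H1.FormalEquidim.ringKrullDim_quotient_comap (Ideal.Quotient.mk p)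
    Ideal.Quotient.mk_surjective (q.map (Ideal.Quotient.mk p))]
  exact ringKrullDim_eq_of_ringEquiv (Ideal.quotEquivOfEq hc.symm)

/-- `A` is catenary -/
theorem isCatenary_of_flat (hcat : CAlg.IsCatenary B) (heq : EGA4.IsEquidim B) :
    CAlg.IsCatenary A := by
  rw [H5CatDim.main]
  intro p q hpq
  haveI := p.2
  haveI := q.2
  refine ⟨?_, fun hcov => ?_⟩
  · rw [H5CatDim.ringKrullDim_quotient_eq_coheight, H5CatDim.ringKrullDim_quotient_eq_coheight]
    exact_mod_cast Order.coheight_strictAnti hpq (Order.coheight_lt_top q)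
  · have hpq' : p.asIdeal ≤ q.asIdeal := hpq.le
    have h := height_map_add_dim_quotient (B := B) hcat heq p.asIdeal q.asIdeal hpq'
    haveI hq' : (q.asIdeal.map (Ideal.Quotient.mk p.asIdeal)).IsPrime := by
      apply Ideal.map_isPrime_of_surjective Ideal.Quotient.mk_surjective
      rw [Ideal.mk_ker]
      exact hpq'
    have hc : (q.asIdeal.map (Ideal.Quotient.mk p.asIdeal)).comap (Ideal.Quotient.mk p.asIdeal) =
        q.asIdeal := by
      rw [Ideal.comap_map_of_surjective _ Ideal.Quotient.mk_surjective,
        ← RingHom.ker_eq_comap_bot, Ideal.mk_ker, sup_eq_left.mpr hpq']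
    have hht : (q.asIdeal.map (Ideal.Quotient.mk p.asIdeal)).height = 1 := by
      apply le_antisymm
      · have : (q.asIdeal.map (Ideal.Quotient.mk p.asIdeal)).height ≤ ((1 : ℕ) : ℕ∞) := by
          rw [Ideal.height_le_iff]
          intro r hr hrq
          haveI := hr
          have hr0 : r = ⊥ := by
            by_contra hne
            set r0 := r.comap (Ideal.Quotient.mk p.asIdeal) with hr0
            haveI : r0.IsPrime := Ideal.comap_isPrime _ _
            have h1 : p.asIdeal ≤ r0 := by
              intro x hx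
              rw [hr0, Ideal.mem_comap, Ideal.Quotient.eq_zero_iff_mem.mpr hx]
              exact r.zero_mem
            have h2 : r0 < q.asIdeal := by
              rw [← hc]
              refine lt_of_le_of_ne (Ideal.comap_mono hrq.le) ?_
              intro h
              have := congrArg (Ideal.map (Ideal.Quotient.mk p.asIdeal)) h
              rw [hr0, Ideal.map_comap_of_surjective _ Ideal.Quotient.mk_surjective,
                Ideal.map_comap_of_surjective _ Ideal.Quotient.mk_surjective] at this
              exact hrq.ne this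
            have h3 : p.asIdeal ≠ r0 := by
              intro h
              apply hne
              have := congrArg (Ideal.map (Ideal.Quotient.mk p.asIdeal)) h
              rw [hr0, Ideal.map_comap_of_surjective _ Ideal.Quotient.mk_surjective,
                Ideal.map_quotient_self] at this
              exact this.symm
            have h4 : p < (⟨r0, inferInstance⟩ : PrimeSpectrum A) :=
              lt_of_le_of_ne (show p.asIdeal ≤ r0 from h1) (fun h => h3 (congrArg PrimeSpectrum.asIdeal h))
            exact hcov.2 (c := ⟨r0, inferInstance⟩) h4 h2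
          rw [hr0]
          simp
        exact_mod_cast this
      · rw [Order.one_le_iff_pos, pos_iff_ne_zero, Ne, Ideal.height_eq_zero_iff]
        intro hmin
        have hbot : q.asIdeal.map (Ideal.Quotient.mk p.asIdeal) = ⊥ := by
          have : (⊥ : Ideal (A ⧸ p.asIdeal)) ∈ minimalPrimes (A ⧸ p.asIdeal) := by
            rw [IsDomain.minimalPrimes_eq_singleton_bot]
            rfl
          exact le_antisymm (hmin.2 this.1 bot_le) bot_le
        have : q.asIdeal ≤ p.asIdeal := by
          rw [← hc, hbot, ← RingHom.ker_eq_comap_bot, Ideal.mk_ker]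
        exact absurd (lt_of_lt_of_le hpq this) (lt_irrefl _)
    rw [hht] at h
    rw [← h, add_comm]
    rfl

/-- **S2630** -/
theorem isEquidim_and_isCatenary_of_flat (hcat : CAlg.IsCatenary B) (heq : EGA4.IsEquidim B) :
    EGA4.IsEquidim A ∧ CAlg.IsCatenary A :=
  ⟨isEquidim_of_flat (B := B) hcat heq, isCatenary_of_flat (B := B) hcat heq⟩

end Main

end Groth.Agent.H2.EqFlat
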