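import Mathlib
import Groth.Agent.Lib.Helper2.EqFlat2

/-! `B/aB` is equidimensional iff `A/a` is, for a flat local homomorphism `A → B` into an
equidimensional catenary local ring. -/

universe u
set_option linter.style.haveILetI false

namespace Groth.Agent.H2.EqFlat

open Groth.Agent.H6 IsLocalRing TensorProduct

section General

variable {R : Type u} [CommRing R]

theorem dim_quotient_quotient (I : Ideal R) (Q' : Ideal (R ⧸ I)) :
    ringKrullDim ((R ⧸ I) ⧸ Q') = ringKrullDim (R ⧸ Q'.comap (Ideal.Quotient.mk I)) := by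
  have hs : Function.Surjective ((Ideal.Quotient.mk Q').comp (Ideal.Quotient.mk I)) :=
    Ideal.Quotient.mk_surjective.comp Ideal.Quotient.mk_surjective
  have hk : RingHom.ker ((Ideal.Quotient.mk Q').comp (Ideal.Quotient.mk I)) =
      Q'.comap (Ideal.Quotient.mk I) := by
    rw [← RingHom.comap_ker, Ideal.mk_ker]
  exact (ringKrullDim_eq_of_ringEquiv
    ((Ideal.quotEquivOfEq hk.symm).trans (RingHom.quotientKerEquivOfSurjective hs))).symm

/-- `R/I` is equidimensional iff all `R/P`, `P` minimal over `I`, have the same dimension -/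
theorem isEquidim_quotient_iff (I : Ideal R) :
    EGA4.IsEquidim (R ⧸ I) ↔
      ∀ P ∈ I.minimalPrimes, ∀ P' ∈ I.minimalPrimes,
        ringKrullDim (R ⧸ P) = ringKrullDim (R ⧸ P') := by
  constructor
  · intro h P hP P' hP'
    rw [Ideal.minimalPrimes_eq_comap] at hP hP'
    obtain ⟨Q, hQ, rfl⟩ := hP
    obtain ⟨Q', hQ', rfl⟩ := hP'
    rw [← dim_quotient_quotient, ← dim_quotient_quotient, h Q hQ, h Q' hQ']
  · intro h
    by_cases hI : I = ⊤
    · intro Q hQ
      exfalso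
      haveI := hQ.1.1
      have : Q.comap (Ideal.Quotient.mk I) = ⊤ := by
        rw [eq_top_iff]
        intro x _
        have hx : x ∈ I := by rw [hI]; trivial
        rw [Ideal.mem_comap, Ideal.Quotient.eq_zero_iff_mem.mpr hx]
        exact Q.zero_mem
      exact (Ideal.comap_isPrime (Ideal.Quotient.mk I) Q).ne_top this
    · haveI : Nontrivial (R ⧸ I) := Ideal.Quotient.nontrivial_iff.mpr hI
      obtain ⟨⟨Q₀, hQ₀⟩⟩ := Ideal.nonempty_minimalPrimes (I := (⊥ : Ideal (R ⧸ I))) bot_ne_top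
      have hmem : ∀ Q ∈ minimalPrimes (R ⧸ I), Q.comap (Ideal.Quotient.mk I) ∈ I.minimalPrimes := by
        intro Q hQ
        rw [Ideal.minimalPrimes_eq_comap]
        exact ⟨Q, hQ, rfl⟩
      have hall : ∀ Q ∈ minimalPrimes (R ⧸ I),
          ringKrullDim ((R ⧸ I) ⧸ Q) = ringKrullDim ((R ⧸ I) ⧸ Q₀) := by
        intro Q hQ
        rw [dim_quotient_quotient, dim_quotient_quotient]
        exact h _ (hmem Q hQ) _ (hmem Q₀ hQ₀)
      have hdim := ringKrullDim_eq_of_forall_minimalPrimes _ hall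
      intro Q hQ
      rw [hall Q hQ, hdim]

end General

section Main

variable {A B : Type u} [CommRing A] [CommRing B] [IsNoetherianRing A] [IsNoetherianRing B]
  [IsLocalRing A] [IsLocalRing B] [Algebra A B] [IsLocalHom (algebraMap A B)] [Module.Flat A B]

omit [IsNoetherianRing A] [IsNoetherianRing B] [IsLocalRing A] [IsLocalRing B]
  [IsLocalHom (algebraMap A B)] in
/-- a prime minimal over `qB` lies over `q` -/
theorem under_eq_of_mem_minimalPrimes_map (q : Ideal A) [q.IsPrime] (Q : Ideal B)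
    (hQ : Q ∈ (q.map (algebraMap A B)).minimalPrimes) : Q.under A = q := by
  haveI := hQ.1.1
  have hqQ : q ≤ Q.under A := by
    rw [Ideal.under_def, ← Ideal.map_le_iff_le_comap]
    exact hQ.1.2
  haveI : Q.LiesOver (Q.under A) := ⟨rfl⟩
  obtain ⟨P, hPQ, hPp, hPl⟩ := Ideal.exists_ideal_le_liesOver_of_le (p := q) (q := Q.under A) Q hqQ
  have hIP : q.map (algebraMap A B) ≤ P := by
    rw [Ideal.map_le_iff_le_comap, ← Ideal.under_def, ← hPl.over]
  have hPeq : P = Q := le_antisymm hPQ (hQ.2 ⟨hPp, hIP⟩ hPQ)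
  subst hPeq
  exact hPl.over.symm

/-- for `Q` minimal over `qB`, `dim B/Q = dim A/q + dim B/𝔪_A B` -/
theorem dim_quotient_of_mem_minimalPrimes_map (hcat : CAlg.IsCatenary B) (heq : EGA4.IsEquidim B)
    (q : Ideal A) [q.IsPrime] (Q : Ideal B) (hQ : Q ∈ (q.map (algebraMap A B)).minimalPrimes) :
    ringKrullDim (B ⧸ Q) =
      ringKrullDim (A ⧸ q) + Module.supportDim B (FlatDepth.Fib A B B) := by
  rw [← dim_quotient_map]
  have h := isEquidim_quotient_map hcat heq q
  rw [Ideal.minimalPrimes_eq_comap] at hQ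
  obtain ⟨Q', hQ', rfl⟩ := hQ
  rw [← dim_quotient_quotient, h Q' hQ']

omit [IsNoetherianRing A] [IsNoetherianRing B] [IsLocalRing A] [IsLocalRing B]
  [IsLocalHom (algebraMap A B)] in
/-- fact 1 -/
theorem under_mem_minimalPrimes (a : Ideal A) (Q : Ideal B)
    (hQ : Q ∈ (a.map (algebraMap A B)).minimalPrimes) :
    Q.under A ∈ a.minimalPrimes ∧ Q ∈ ((Q.under A).map (algebraMap A B)).minimalPrimes := by
  haveI hQp := hQ.1.1
  haveI : (Q.under A).IsPrime := Ideal.IsPrime.under A Q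
  have haq : a ≤ Q.under A := by
    rw [Ideal.under_def, ← Ideal.map_le_iff_le_comap]
    exact hQ.1.2
  have hqQ : (Q.under A).map (algebraMap A B) ≤ Q := by
    rw [Ideal.map_le_iff_le_comap]
  refine ⟨⟨⟨inferInstance, haq⟩, ?_⟩, ⟨⟨hQp, hqQ⟩, ?_⟩⟩
  · intro q₁ ⟨hq₁p, haq₁⟩ hq₁
    haveI := hq₁p
    haveI : Q.LiesOver (Q.under A) := ⟨rfl⟩
    obtain ⟨Q₁, hQ₁Q, hQ₁p, hQ₁l⟩ :=
      Ideal.exists_ideal_le_liesOver_of_le (p := q₁) (q := Q.under A) Q hq₁
    have h1 : a.map (algebraMap A B) ≤ Q₁ := by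
      rw [Ideal.map_le_iff_le_comap, ← Ideal.under_def, ← hQ₁l.over]
      exact haq₁
    have h2 : Q₁ = Q := le_antisymm hQ₁Q (hQ.2 ⟨hQ₁p, h1⟩ hQ₁Q)
    rw [hQ₁l.over, h2]
  · intro Q₁ ⟨hQ₁p, hQ₁⟩ hQ₁Q
    exact hQ.2 ⟨hQ₁p, (Ideal.map_mono haq).trans hQ₁⟩ hQ₁Q

omit [IsNoetherianRing A] [IsNoetherianRing B] [IsLocalRing A] [IsLocalRing B]
  [IsLocalHom (algebraMap A B)] in
/-- fact 2 -/
theorem mem_minimalPrimes_map_of_mem (a : Ideal A) (q : Ideal A) (hq : q ∈ a.minimalPrimes)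
    (Q : Ideal B) (hQ : Q ∈ (q.map (algebraMap A B)).minimalPrimes) :
    Q ∈ (a.map (algebraMap A B)).minimalPrimes := by
  haveI := hq.1.1
  haveI hQp := hQ.1.1
  have hunder := under_eq_of_mem_minimalPrimes_map q Q hQ
  refine ⟨⟨hQp, (Ideal.map_mono hq.1.2).trans hQ.1.2⟩, ?_⟩
  intro Q₁ ⟨hQ₁p, hQ₁⟩ hQ₁Q
  haveI := hQ₁p
  haveI : (Q₁.under A).IsPrime := Ideal.IsPrime.under A Q₁
  have h1 : a ≤ Q₁.under A := by
    rw [Ideal.under_def, ← Ideal.map_le_iff_le_comap]
    exact hQ₁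
  have h2 : Q₁.under A ≤ q := by
    rw [← hunder]
    exact Ideal.comap_mono hQ₁Q
  have h3 : q ≤ Q₁.under A := hq.2 ⟨inferInstance, h1⟩ h2
  have h4 : q.map (algebraMap A B) ≤ Q₁ := by
    rw [Ideal.map_le_iff_le_comap]
    exact h3
  exact hQ.2 ⟨hQ₁p, h4⟩ hQ₁Q

/-- **S2631** (the hypothesis on the closed fibre is not needed) -/
theorem isEquidim_quotient_map_iff (hcat : CAlg.IsCatenary B) (heq : EGA4.IsEquidim B)
    (a : Ideal A) :
    EGA4.IsEquidim (B ⧸ a.map (algebraMap A B)) ↔ EGA4.IsEquidim (A ⧸ a) := by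
  obtain ⟨n, hn⟩ := exists_fib_dim (A := A) (B := B)
  rw [isEquidim_quotient_iff, isEquidim_quotient_iff]
  constructor
  · intro h q hq q' hq'
    haveI := hq.1.1
    haveI := hq'.1.1
    have hne : ∀ r : Ideal A, r.IsPrime → r.map (algebraMap A B) ≠ ⊤ := by
      intro r hr
      have hle : r.map (algebraMap A B) ≤ maximalIdeal B :=
        (Ideal.map_mono (IsLocalRing.le_maximalIdeal hr.ne_top)).trans
          (IsLocalRing.map_maximalIdeal_le (algebraMap A B))
      intro h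
      rw [h] at hle
      exact (maximalIdeal.isMaximal B).ne_top (top_le_iff.mp hle)
    obtain ⟨⟨Q, hQ⟩⟩ := Ideal.nonempty_minimalPrimes (hne q inferInstance)
    obtain ⟨⟨Q', hQ'⟩⟩ := Ideal.nonempty_minimalPrimes (hne q' inferInstance)
    have h1 := h Q (mem_minimalPrimes_map_of_mem a q hq Q hQ) Q'
      (mem_minimalPrimes_map_of_mem a q' hq' Q' hQ')
    rw [dim_quotient_of_mem_minimalPrimes_map hcat heq q Q hQ,
      dim_quotient_of_mem_minimalPrimes_map hcat heq q' Q' hQ', hn] at h1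
    exact withBot_add_nat_cancel _ _ n h1
  · intro h Q hQ Q' hQ'
    haveI := hQ.1.1
    haveI := hQ'.1.1
    haveI : (Q.under A).IsPrime := Ideal.IsPrime.under A Q
    haveI : (Q'.under A).IsPrime := Ideal.IsPrime.under A Q'
    obtain ⟨h1, h2⟩ := under_mem_minimalPrimes a Q hQ
    obtain ⟨h1', h2'⟩ := under_mem_minimalPrimes a Q' hQ'
    rw [dim_quotient_of_mem_minimalPrimes_map hcat heq _ Q h2,
      dim_quotient_of_mem_minimalPrimes_map hcat heq _ Q' h2', h _ h1 _ h1']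

end Main

end Groth.Agent.H2.EqFlat
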