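import Mathlib

/-!
# Equalizer subrings of finite products of normal domains (S11135)
-/

noncomputable section

namespace Groth.Agent.H2.EqNormal

open Classical

universe u

variable {ι : Type u} [Fintype ι] (D : ι → Type u) [∀ i, CommRing (D i)] [∀ i, IsDomain (D i)]

/-- indicator idempotent -/
def ind (T : Set ι) : Π i, D i := fun i => if i ∈ T then 1 else 0

/-- support -/
def supp (a : Π i, D i) : Set ι := {i | a i ≠ 0}

variable {D}

theorem ind_mul_self (T : Set ι) : ind D T * ind D T = ind D T := by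
  funext i; simp only [ind, Pi.mul_apply]; split_ifs <;> simp

theorem ind_supp_mul (a : Π i, D i) : ind D (supp D a) * a = a := by
  funext i
  simp only [ind, supp, Pi.mul_apply, Set.mem_setOf_eq]
  split_ifs with h
  · simp
  · push_neg at h; simp [h]

theorem one_sub_ind (T : Set ι) : 1 - ind D T = ind D Tᶜ := by
  funext i
  simp only [ind, Pi.sub_apply, Pi.one_apply, Set.mem_compl_iff]
  split_ifs <;> simp

theorem pi_nzd (s : Π i, D i) (h : ∀ i, s i ≠ 0) : s ∈ nonZeroDivisors (Π i, D i) := by
  rw [mem_nonZeroDivisors_iff_right]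
  intro x hx
  funext i
  have := congrFun hx i
  simp only [Pi.mul_apply, Pi.zero_apply] at this
  rcases mul_eq_zero.1 this with h1 | h1
  · exact h1
  · exact absurd h1 (h i)

variable {R : Type u} [CommRing R] (F : Set ((Π i, D i) →+* R))
  (hF : ∀ f ∈ F, ∀ s ∈ nonZeroDivisors (Π i, D i), f s ∈ nonZeroDivisors R)
  (A : Subring (Π i, D i)) (hA : ∀ a, a ∈ A ↔ ∀ f ∈ F, ∀ f' ∈ F, f a = f' a)

include hF hA in
/-- the idempotent of the support of an element of `A` lies in `A` -/
theorem ind_supp_mem (a : Π i, D i) (ha : a ∈ A) : ind D (supp D a) ∈ A := by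
  rw [hA]
  intro f hf f' hf'
  set e := ind D (supp D a) with he
  have hr : f a = f' a := (hA a).1 ha f hf f' hf'
  have hea : e * a = a := ind_supp_mul a
  have hee : e * e = e := ind_mul_self _
  have hnzd : a + (1 - e) ∈ nonZeroDivisors (Π i, D i) := by
    apply pi_nzd
    intro i
    simp only [he, ind, supp, Pi.add_apply, Pi.sub_apply, Pi.one_apply, Set.mem_setOf_eq]
    split_ifs with h
    · simpa using h
    · push_neg at h; simp [h]
  have h1 := hF f hf _ hnzd
  have h2 := hF f' hf' _ hnzd
  rw [map_add, map_sub, map_one] at h1 h2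
  have e1 : f e * f a = f a := by rw [← map_mul, hea]
  have e2 : f' e * f' a = f' a := by rw [← map_mul, hea]
  have i1 : f e * f e = f e := by rw [← map_mul, hee]
  have i2 : f' e * f' e = f' e := by rw [← map_mul, hee]
  have k1 : f e * (1 - f' e) = 0 := by
    apply (mem_nonZeroDivisors_iff_right.1 h1)
    have : f e * (1 - f' e) * (f a + (1 - f e)) =
        (f e * f a) * (1 - f' e) + (f e - f e * f e) * (1 - f' e) := by ring
    rw [this, e1, i1, hr, sub_self, zero_mul, add_zero, mul_sub, mul_one, mul_comm, e2, sub_self]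
  have k2 : f' e * (1 - f e) = 0 := by
    apply (mem_nonZeroDivisors_iff_right.1 h2)
    have : f' e * (1 - f e) * (f' a + (1 - f' e)) =
        (f' e * f' a) * (1 - f e) + (f' e - f' e * f' e) * (1 - f e) := by ring
    rw [this, e2, i2, ← hr, sub_self, zero_mul, add_zero, mul_sub, mul_one, mul_comm, e1, sub_self]
  have : f e = f e * f' e := by linear_combination k1
  have : f' e = f' e * f e := by linear_combination k2
  linear_combination k1 - k2

/-- the equivalence relation: same vanishing pattern on `A` -/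
def rel : Setoid ι where
  r i j := ∀ a ∈ A, (a i = 0 ↔ a j = 0)
  iseqv := ⟨fun _ _ _ => Iff.rfl, fun h a ha => (h a ha).symm,
    fun h h' a ha => (h a ha).trans (h' a ha)⟩

include hF hA in
theorem exists_sep (i j : ι) (hij : ¬ (rel A).r i j) :
    ∃ T : Set ι, ind D T ∈ A ∧ i ∈ T ∧ j ∉ T := by
  change ¬ ∀ a ∈ A, (a i = 0 ↔ a j = 0) at hij
  push_neg at hij
  obtain ⟨a, ha, h⟩ := hij
  by_cases hi : a i = 0
  · have hj : a j ≠ 0 := by
      intro hj
      rcases h with ⟨h1, h2⟩ | ⟨h1, h2⟩
      · exact h2 hj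
      · exact h1 hi
    refine ⟨(supp D a)ᶜ, ?_, ?_, ?_⟩
    · rw [← one_sub_ind]
      exact A.sub_mem A.one_mem (ind_supp_mem F hF A hA a ha)
    · simpa [supp] using hi
    · simpa [supp] using hj
  · have hj : a j = 0 := by
      by_contra hj
      rcases h with ⟨h1, h2⟩ | ⟨h1, h2⟩
      · exact hi h1
      · exact hj h2
    refine ⟨supp D a, ind_supp_mem F hF A hA a ha, ?_, ?_⟩
    · simpa [supp] using hi
    · simpa [supp] using hj

include hF hA in
/-- the idempotent of an equivalence class lies in `A` -/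
theorem ind_class_mem (i : ι) : ind D {j | (rel A).r i j} ∈ A := by
  have h := fun j (hj : ¬ (rel A).r i j) => exists_sep F hF A hA i j hj
  choose T hT1 hT2 hT3 using h
  have : ind D {j | (rel A).r i j} =
      ∏ j ∈ Finset.univ.filter (fun j => ¬ (rel A).r i j),
        (if hj : ¬ (rel A).r i j then ind D (T j hj) else 1) := by
    funext k
    rw [Finset.prod_apply]
    by_cases hk : (rel A).r i k
    · have : ind D {j | (rel A).r i j} k = 1 := by simp [ind, hk]
      rw [this]
      symm
      apply Finset.prod_eq_one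
      intro j hj
      have hj' : ¬ (rel A).r i j := (Finset.mem_filter.1 hj).2
      rw [dif_pos hj']
      -- k ∈ T j since ind (T j) ∈ A, i ∈ T j, i ~ k
      have h1 := (hk (ind D (T j hj')) (hT1 j hj'))
      have h2 : ind D (T j hj') i ≠ 0 := by simp [ind, hT2 j hj']
      have h3 : ind D (T j hj') k ≠ 0 := fun h0 => h2 (h1.2 h0)
      by_contra hne
      apply h3
      simp only [ind] at hne ⊢
      split_ifs with hkT
      · simp [hkT] at hne
      · rfl
    · have : ind D {j | (rel A).r i j} k = 0 := by simp [ind, hk]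
      rw [this]
      symm
      apply Finset.prod_eq_zero (i := k) (Finset.mem_filter.2 ⟨Finset.mem_univ _, hk⟩)
      rw [dif_pos hk]
      simp [ind, hT3 k hk]
  rw [this]
  apply Subring.prod_mem
  intro j hj
  have hj' : ¬ (rel A).r i j := (Finset.mem_filter.1 hj).2
  rw [dif_pos hj']
  exact hT1 j hj'

/-- index type: classes -/
abbrev Kap : Type u := Quotient (rel A)

/-- chosen representative -/
def rep (c : Kap A) : ι := c.out

theorem rep_rel (i : ι) : (rel A).r (rep A (Quotient.mk (rel A) i)) i :=
  Quotient.exact (Quotient.out_eq _)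

/-- the idempotent of the class `c` -/
def ec (c : Kap A) : Π i, D i := ind D {j | (rel A).r (rep A c) j}

include hF hA in
theorem ec_mem (c : Kap A) : ec A c ∈ A := ind_class_mem F hF A hA _

theorem ec_apply_rep (c c' : Kap A) : ec A c' (rep A c) = if c = c' then 1 else 0 := by
  simp only [ec, ind, Set.mem_setOf_eq]
  by_cases h : c = c'
  · subst h
    rw [if_pos rfl, if_pos]
    exact (rel A).refl _
  · rw [if_neg h, if_neg]
    intro hr
    apply h
    have h1 : Quotient.mk (rel A) (rep A c') = Quotient.mk (rel A) (rep A c) := Quotient.sound hr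
    rw [rep, rep, Quotient.out_eq, Quotient.out_eq] at h1
    exact h1.symm

/-- projection to the representative coordinate -/
def proj (c : Kap A) : A →+* D (rep A c) := (Pi.evalRingHom D (rep A c)).comp A.subtype

/-- the factor domains -/
abbrev E (c : Kap A) : Subring (D (rep A c)) := (proj A c).range

/-- the comparison map -/
def Phi : A →+* Π c : Kap A, E A c := Pi.ringHom fun c => (proj A c).rangeRestrict

theorem Phi_injective : Function.Injective (Phi A) := by
  rw [injective_iff_map_eq_zero]
  intro a ha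
  apply Subtype.ext
  funext i
  have h1 := congrFun ha (Quotient.mk (rel A) i)
  have h2 : (a : Π i, D i) (rep A (Quotient.mk (rel A) i)) = 0 := congrArg Subtype.val h1
  exact ((rep_rel A i) a a.2).1 h2

include hF hA in
theorem Phi_surjective : Function.Surjective (Phi A) := by
  intro y
  have h : ∀ c, ∃ a : A, proj A c a = (y c : D (rep A c)) := fun c => (y c).2
  choose a ha using h
  refine ⟨∑ c, a c * ⟨ec A c, ec_mem F hF A hA c⟩, ?_⟩
  funext c
  apply Subtype.ext
  change proj A c (∑ c', a c' * ⟨ec A c', ec_mem F hF A hA c'⟩) = _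
  rw [map_sum, Finset.sum_eq_single c]
  · rw [map_mul, ha c]
    change (y c : D (rep A c)) * ec A c (rep A c) = _
    rw [ec_apply_rep, if_pos rfl, mul_one]
  · intro c' _ hc'
    rw [map_mul]
    change _ * ec A c' (rep A c) = 0
    rw [ec_apply_rep, if_neg (Ne.symm hc'), mul_zero]
  · intro h; exact absurd (Finset.mem_univ _) h

/-- full support on a class -/
theorem full_support (c : Kap A) (a : Π i, D i) (ha : a ∈ A) (h0 : a (rep A c) = 0) (j : ι)
    (hj : (rel A).r (rep A c) j) : a j = 0 :=
  (hj a ha).1 h0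

section generic

open Polynomial

theorem IC_of_div (R₀ : Type*) [CommRing R₀] [IsDomain R₀]
    (H : ∀ (a b : R₀) (p : R₀[X]), b ≠ 0 → p.Monic → eval a (scaleRoots p b) = 0 → b ∣ a) :
    IsIntegrallyClosed R₀ := by
  rw [isIntegrallyClosed_iff (FractionRing R₀)]
  intro x hx
  obtain ⟨a, b, hb, rfl⟩ := IsFractionRing.div_surjective (A := R₀) x
  obtain ⟨p, hp, hpx⟩ := hx
  have h1 : aeval (algebraMap R₀ (FractionRing R₀) a) (scaleRoots p b) = 0 :=
    scaleRoots_aeval_eq_zero_of_aeval_div_eq_zero (IsFractionRing.injective R₀ _) hpx hb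
  rw [aeval_algebraMap_apply] at h1
  have h2 : eval a (scaleRoots p b) = 0 := by
    apply IsFractionRing.injective R₀ (FractionRing R₀)
    rw [map_zero, ← h1]
    rfl
  obtain ⟨c, rfl⟩ := H a b p (nonZeroDivisors.ne_zero hb) hp h2
  refine ⟨c, ?_⟩
  rw [map_mul, mul_div_cancel_left₀]
  exact (map_ne_zero_iff _ (IsFractionRing.injective R₀ _)).2 (nonZeroDivisors.ne_zero hb)

theorem div_of_IC (R₀ : Type*) [CommRing R₀] [IsDomain R₀] [IsIntegrallyClosed R₀]
    (a b : R₀) (p : R₀[X]) (hb : b ≠ 0) (hp : p.Monic) (h : eval a (scaleRoots p b) = 0) :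
    b ∣ a := by
  let K := FractionRing R₀
  let f := algebraMap R₀ K
  have hfb : f b ≠ 0 := (map_ne_zero_iff _ (IsFractionRing.injective R₀ K)).2 hb
  have h1 := scaleRoots_eval₂_mul (p := p) f (f a / f b) b
  rw [mul_div_cancel₀ _ hfb, eval₂_at_apply, h, map_zero] at h1
  have h2 : eval₂ f (f a / f b) p = 0 := by
    rcases mul_eq_zero.1 h1.symm with h3 | h3
    · exact absurd ((pow_eq_zero_iff (M₀ := FractionRing R₀) (fun hn => by
        rw [hn, pow_zero] at h3
        exact one_ne_zero h3)).1 h3) hfb
    · exact h3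
  have h3 : IsIntegral R₀ (f a / f b) := ⟨p, hp, h2⟩
  obtain ⟨y, hy⟩ := IsIntegrallyClosed.isIntegral_iff.1 h3
  refine ⟨y, ?_⟩
  apply IsFractionRing.injective R₀ K
  rw [map_mul]
  change f a = f b * f y
  rw [show f y = f a / f b from hy, mul_div_cancel₀ _ hfb]

end generic

section ic

open Polynomial

variable [∀ i, IsIntegrallyClosed (D i)]

/-- evaluation at `j` on `A` -/
def evA (j : ι) : A →+* D j := (Pi.evalRingHom D j).comp A.subtype

include hF hA in
theorem E_integrallyClosed (c : Kap A) : IsIntegrallyClosed (E A c) := by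
  apply IC_of_div
  intro a b p hb hp h
  obtain ⟨a', ha'⟩ := a.2
  obtain ⟨b', hb'⟩ := b.2
  have hsurj : Function.Surjective (proj A c).rangeRestrict := RingHom.rangeRestrict_surjective _
  obtain ⟨P, hP, -, hPmon⟩ :=
    lifts_and_natDegree_eq_and_monic (mem_lifts_of_surjective hsurj p) hp
  have haa : (proj A c).rangeRestrict a' = a := Subtype.ext ha'
  have hbb : (proj A c).rangeRestrict b' = b := Subtype.ext hb'
  -- the relation in `A`
  let r : A := eval a' (scaleRoots P b')
  have hr0 : (proj A c).rangeRestrict r = 0 := by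
    change (proj A c).rangeRestrict (eval a' (scaleRoots P b')) = 0
    rw [← eval_map_apply, map_scaleRoots _ _ _ (by rw [hPmon.leadingCoeff, map_one]; exact one_ne_zero),
      hP, haa, hbb, h]
  have hr0' : (r : Π i, D i) (rep A c) = 0 := congrArg Subtype.val hr0
  have hb0 : (b' : Π i, D i) (rep A c) ≠ 0 := by
    intro h0
    apply hb
    rw [← hbb]
    exact Subtype.ext h0
  -- divisibility on each coordinate of the class
  have hdiv : ∀ j, (rel A).r (rep A c) j → (b' : Π i, D i) j ∣ (a' : Π i, D i) j := by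
    intro j hj
    have hrj : (r : Π i, D i) j = 0 := full_support A c r r.2 hr0' j hj
    have hbj : (b' : Π i, D i) j ≠ 0 := fun h0 => hb0 ((hj b' b'.2).2 h0)
    refine div_of_IC (D j) _ _ (P.map (evA A j)) hbj (hPmon.map _) ?_
    have : evA A j r = 0 := hrj
    change evA A j (eval a' (scaleRoots P b')) = 0 at this
    rw [← eval_map_apply, map_scaleRoots _ _ _ (by rw [hPmon.leadingCoeff, map_one]; exact one_ne_zero)]
      at this
    exact this
  choose! q hq using hdiv
  -- the quotient element
  let s : Π i, D i := fun j => if (rel A).r (rep A c) j then q j else 0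
  have hs_mul : s * ((b' : Π i, D i) * ec A c + (1 - ec A c)) = (a' : Π i, D i) * ec A c := by
    funext j
    simp only [s, ec, ind, Pi.mul_apply, Pi.add_apply, Pi.sub_apply, Pi.one_apply,
      Set.mem_setOf_eq]
    by_cases hj : (rel A).r (rep A c) j
    · rw [if_pos hj, if_pos hj, hq j hj]
      ring
    · rw [if_neg hj, if_neg hj]
      ring
  have hec := ec_mem F hF A hA c
  have hb'' : (b' : Π i, D i) * ec A c + (1 - ec A c) ∈ A :=
    A.add_mem (A.mul_mem b'.2 hec) (A.sub_mem A.one_mem hec)
  have hnzd : (b' : Π i, D i) * ec A c + (1 - ec A c) ∈ nonZeroDivisors (Π i, D i) := by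
    apply pi_nzd
    intro j
    simp only [ec, ind, Pi.mul_apply, Pi.add_apply, Pi.sub_apply, Pi.one_apply, Set.mem_setOf_eq]
    by_cases hj : (rel A).r (rep A c) j
    · rw [if_pos hj]
      simpa using fun h0 => hb0 ((hj b' b'.2).2 h0)
    · rw [if_neg hj]
      simp
  have hsA : s ∈ A := by
    rw [hA]
    intro f hf f' hf'
    have h1 : f s * f ((b' : Π i, D i) * ec A c + (1 - ec A c)) =
        f' s * f ((b' : Π i, D i) * ec A c + (1 - ec A c)) := by
      rw [← map_mul, hs_mul, (hA _).1 (A.mul_mem a'.2 hec) f hf f' hf', ← hs_mul, map_mul,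
        (hA _).1 hb'' f hf f' hf']
    exact (mul_cancel_right_mem_nonZeroDivisors (hF f hf _ hnzd)).1 h1
  refine ⟨(proj A c).rangeRestrict ⟨s, hsA⟩, ?_⟩
  apply Subtype.ext
  rw [← haa, ← hbb]
  change (a' : Π i, D i) (rep A c) = (b' : Π i, D i) (rep A c) * s (rep A c)
  have hrefl : (rel A).r (rep A c) (rep A c) := (rel A).refl _
  simp only [s, if_pos hrefl]
  exact hq _ hrefl

include hF hA in
theorem main :
    ∃ (κ : Type u) (_ : Fintype κ) (E : κ → Type u) (_ : ∀ j, CommRing (E j)) (_ : ∀ j, IsDomain (E j))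
      (_ : ∀ j, IsIntegrallyClosed (E j)), Nonempty (A ≃+* Π j, E j) :=
  ⟨Kap A, inferInstance, fun c => E A c, inferInstance, inferInstance,
    fun c => E_integrallyClosed F hF A hA c,
    ⟨RingEquiv.ofBijective (Phi A) ⟨Phi_injective A, Phi_surjective F hF A hA⟩⟩⟩

end ic

end Groth.Agent.H2.EqNormal
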