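import Mathlib

/-!
# Gluing Hensel lifts (helper2)

A root of a polynomial with invertible derivative lifts uniquely along a surjection with nil
kernel; by uniqueness, lifts of an element of an equalizer of two ring maps stay in the
equalizer.
-/

set_option autoImplicit false
universe u

namespace Groth.Agent.H2.EtH0

open Polynomial

/-- units lift along surjections whose kernel consists of nilpotent elements. -/
lemma isUnit_of_map_of_nil {S S' : Type*} [CommRing S] [CommRing S'] (π : S →+* S')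
    (hπ : Function.Surjective π) (hnil : ∀ x, π x = 0 → IsNilpotent x) {u : S}
    (hu : IsUnit (π u)) : IsUnit u := by
  obtain ⟨w', hw'⟩ := hu.exists_right_inv
  obtain ⟨w, rfl⟩ := hπ w'
  have h1 : IsNilpotent (u * w - 1) :=
    hnil _ (by rw [map_sub, map_mul, hw', map_one, sub_self])
  have h2 : IsUnit (u * w) := by
    have := h1.isUnit_add_one
    rwa [sub_add_cancel] at this
  exact isUnit_of_mul_isUnit_left h2

/-- uniqueness of roots near a given root, when the derivative is invertible there. -/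
lemma root_unique {S : Type*} [CommRing S] (Q : S[X]) {x r : S} (hx : Q.eval x = 0)
    (hu : IsUnit (Q.derivative.eval x)) (hr : Q.eval r = 0) (hn : IsNilpotent (x - r)) :
    x = r := by
  have h1 : IsNilpotent (aeval x Q) := by
    rw [coe_aeval_eq_eval, hx]
    exact IsNilpotent.zero
  have h2 : IsUnit (aeval x (derivative Q)) := by
    rw [coe_aeval_eq_eval]
    exact hu
  have hU := existsUnique_nilpotent_sub_and_aeval_eq_zero h1 h2
  refine hU.unique ⟨by rw [sub_self]; exact IsNilpotent.zero, ?_⟩ ⟨hn, ?_⟩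
  · rw [coe_aeval_eq_eval, hx]
  · rw [coe_aeval_eq_eval, hr]

/-- **gluing Hensel lifts**. -/
theorem hensel_glue {S₀ S₁ S₀' S₁' : Type*} [CommRing S₀] [CommRing S₁] [CommRing S₀']
    [CommRing S₁'] (d0 d1 : S₀ →+* S₁) (d0' d1' : S₀' →+* S₁') (π₀ : S₀ →+* S₀')
    (π₁ : S₁ →+* S₁') (h0 : π₁.comp d0 = d0'.comp π₀) (h1 : π₁.comp d1 = d1'.comp π₀)
    (hπ₀ : Function.Surjective π₀) (hnil₀ : ∀ x, π₀ x = 0 → IsNilpotent x)
    (hnil₁ : ∀ x, π₁ x = 0 → IsNilpotent x)
    (Q : S₀[X]) (hQ : Q.map d0 = Q.map d1)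
    (z' : S₀') (hz' : d0' z' = d1' z') (hq : (Q.map π₀).eval z' = 0)
    (hq' : IsUnit ((Q.map π₀).derivative.eval z')) :
    ∃ z : S₀, d0 z = d1 z ∧ π₀ z = z' := by
  obtain ⟨z₁, hz₁⟩ := hπ₀ z'
  have e0 : ∀ (P : S₀[X]) (x : S₀), π₀ (P.eval x) = (P.map π₀).eval (π₀ x) := fun P x => by
    rw [eval_map, eval₂_hom]
  have hn : IsNilpotent (aeval z₁ Q) := by
    rw [coe_aeval_eq_eval]
    exact hnil₀ _ (by rw [e0, hz₁, hq])
  have hu : IsUnit (aeval z₁ (derivative Q)) := by
    rw [coe_aeval_eq_eval]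
    refine isUnit_of_map_of_nil π₀ hπ₀ hnil₀ ?_
    rw [e0, hz₁, ← derivative_map]
    exact hq'
  obtain ⟨z, ⟨hzn, hzq⟩, -⟩ := existsUnique_nilpotent_sub_and_aeval_eq_zero hn hu
  rw [coe_aeval_eq_eval] at hzq
  -- the image of `z` is `z'`
  have e1 : π₀ z = z' := by
    refine (root_unique (Q.map π₀) hq hq' ?_ ?_).symm
    · rw [← e0, hzq, map_zero]
    · rw [← hz₁, ← map_sub]
      exact hzn.map π₀
  have huz : IsUnit (Q.derivative.eval z) := by
    refine isUnit_of_map_of_nil π₀ hπ₀ hnil₀ ?_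
    rw [e0, e1, ← derivative_map]
    exact hq'
  refine ⟨z, ?_, e1⟩
  have a0 : π₁ (d0 z) = d0' z' := by
    have := congrArg (fun φ => φ z) h0
    simp only [RingHom.comp_apply] at this
    rw [this, e1]
  have a1 : π₁ (d1 z) = d1' z' := by
    have := congrArg (fun φ => φ z) h1
    simp only [RingHom.comp_apply] at this
    rw [this, e1]
  refine root_unique (Q.map d0) ?_ ?_ ?_ ?_
  · rw [eval_map, eval₂_hom, hzq, map_zero]
  · rw [derivative_map, eval_map, eval₂_hom]
    exact huz.map d0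
  · rw [hQ, eval_map, eval₂_hom, hzq, map_zero]
  · apply hnil₁
    rw [map_sub, a0, a1, hz', sub_self]

end Groth.Agent.H2.EtH0
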