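import Groth.Agent.Lib.Helper2.MumV
import Groth.Agent.Lib.Helper2.EtA
import Groth.Agent.Lib.Lead.QC.LocFree3

/-!
# Ring-valued Čech `H⁰` of the structure sheaf with coefficients, and lifting of sections (helper2)

For `X` over `Spec A` with a finite affine cover with affine intersections and an `A`-algebra `R`,
the global sections of `f^*(R~) ⊗ O_X` are the equalizer of two ring maps
`∏ O(U_a) ⊗_A R ⇉ ∏ O(U_c) ⊗_A R`.  Along a surjection `R → R'` with nil kernel, a global section
with coefficients in `R'` which is a root of a polynomial with invertible derivative lifts.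
-/

set_option autoImplicit false
set_option linter.style.haveILetI false
universe u

open CategoryTheory CategoryTheory.Limits AlgebraicGeometry Opposite TopologicalSpace TensorProduct

namespace Groth.Agent.H2.EtH0

open Groth.Agent.H2.Mum Groth.Agent.LD Groth.Agent.LD.QC

/-- sections of the structure sheaf over an open, as an `A`-algebra (type synonym). -/
@[nolint unusedArguments]
def OA (A : Type u) [CommRing A] {X : Scheme.{u}} [X.Over (Spec (CommRingCat.of A))]
    (V : X.Opens) : Type u :=
  let _ := A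
  Γ(X, V)

variable (A : Type u) [CommRing A] {X : Scheme.{u}} [X.Over (Spec (CommRingCat.of A))]

noncomputable instance (V : X.Opens) : CommRing (OA A V) := inferInstanceAs (CommRing Γ(X, V))

noncomputable instance (V : X.Opens) : Algebra A (OA A V) := (ρ A V).toAlgebra

lemma OA.algebraMap_apply (V : X.Opens) (a : A) : algebraMap A (OA A V) a = ρ A V a := rfl

/-- restriction, as an `A`-algebra map. -/
noncomputable def resOA {V W : X.Opens} (h : W ≤ V) : OA A V →ₐ[A] OA A W :=
  { (X.presheaf.map (homOfLE h).op).hom with commutes' := fun a => ρ_res A h a }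

lemma resOA_apply {V W : X.Opens} (h : W ≤ V) (s : OA A V) :
    resOA A h s = X.presheaf.map (homOfLE h).op (show Γ(X, V) from s) := rfl

/-- the structure sheaf as a module. -/
noncomputable abbrev OX (X : Scheme.{u}) : X.Modules := Coh.structureModule X

/-- the identity `O(V) ≃ Γ(V, O_X)`, `A`-linear. -/
noncomputable def oaLin (V : X.Opens) : OA A V ≃ₗ[A] SecA A (OX X) V where
  toFun s := s
  invFun s := s
  map_add' _ _ := rfl
  map_smul' _ _ := rfl
  left_inv _ := rfl
  right_inv _ := rfl

lemma oaLin_res {V W : X.Opens} (h : W ≤ V) (s : OA A V) :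
    resA A (OX X) h (oaLin A V s) = oaLin A W (resOA A h s) := rfl

section coeff

variable (R : Type u) [CommRing R] [Algebra A R]

/-- `O(V) ⊗_A R → Γ(V, f^*(R~) ⊗ O_X)`. -/
noncomputable def σR (V : X.Opens) :
    OA A V ⊗[A] R →ₗ[A] SecA A (TF A (OX X) (ModuleCat.of A R)) V :=
  (σ A (ModuleCat.of A R) (OX X) V) ∘ₗ
    (TensorProduct.congr (oaLin A V) (LinearEquiv.refl A R)).toLinearMap

lemma σR_tmul (V : X.Opens) (s : OA A V) (r : R) :
    σR A R V (s ⊗ₜ r) = σ A (ModuleCat.of A R) (OX X) V ((oaLin A V s) ⊗ₜ r) := rfl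

lemma σR_bijective {V : X.Opens} (hV : IsAffineOpen V) : Function.Bijective (σR A R V) :=
  (σ_bijective A (ModuleCat.of A R) (OX X) hV).comp
    (TensorProduct.congr (oaLin A V) (LinearEquiv.refl A R)).bijective

lemma σR_res {V W : X.Opens} (h : W ≤ V) (z : OA A V ⊗[A] R) :
    resA A (TF A (OX X) (ModuleCat.of A R)) h (σR A R V z) =
      σR A R W (Algebra.TensorProduct.map (resOA A h) (AlgHom.id A R) z) := by
  induction z using TensorProduct.induction_on with
  | zero => simp
  | tmul s r =>
    rw [σR_tmul, σ_res, LinearMap.rTensor_tmul, Algebra.TensorProduct.map_tmul, σR_tmul]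
    rfl
  | add a b ha hb => rw [map_add, map_add, map_add, map_add, ha, hb]

variable {R} in
lemma σR_coeff {R' : Type u} [CommRing R'] [Algebra A R'] (h : R →ₐ[A] R') (V : X.Opens)
    (z : OA A V ⊗[A] R) :
    appA A (TFmap A (OX X) (ModuleCat.ofHom h.toLinearMap)) V (σR A R V z) =
      σR A R' V (Algebra.TensorProduct.map (AlgHom.id A (OA A V)) h z) := by
  induction z using TensorProduct.induction_on with
  | zero => simp
  | tmul s r =>
    rw [σR_tmul, σ_map, LinearMap.lTensor_tmul, Algebra.TensorProduct.map_tmul, σR_tmul]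
    rfl
  | add a b ha hb => rw [map_add, map_add, map_add, map_add, ha, hb]

end coeff

section cochains

variable {ι : Type u} (U : ι → X.Opens) (R : Type u) [CommRing R] [Algebra A R]

/-- ring-valued Čech cochains of the structure sheaf with coefficients in `R`. -/
abbrev SR (n : ℕ) : Type u := ∀ a : Fin (n + 1) → ι, OA A (Wc U a) ⊗[A] R

/-- the two face maps `S⁰ ⇉ S¹`. -/
noncomputable def faceR (k : Fin 2) : SR A U R 0 →+* SR A U R 1 :=
  RingHom.pi fun c =>
    ((Algebra.TensorProduct.map (resOA A (face_le U c k)) (AlgHom.id A R)).toRingHom).comp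
      (Pi.evalRingHom (fun a : Fin 1 → ι => OA A (Wc U a) ⊗[A] R) (c ∘ k.succAbove))

lemma faceR_apply (k : Fin 2) (z : SR A U R 0) (c : Fin 2 → ι) :
    faceR A U R k z c =
      Algebra.TensorProduct.map (resOA A (face_le U c k)) (AlgHom.id A R)
        (z (c ∘ k.succAbove)) := rfl

/-- the structure map `R → Sⁿ`. -/
noncomputable def inclR (n : ℕ) : R →+* SR A U R n :=
  RingHom.pi fun a =>
    (Algebra.TensorProduct.includeRight (R := A) (A := OA A (Wc U a)) (B := R)).toRingHom

lemma inclR_apply (n : ℕ) (r : R) (a : Fin (n + 1) → ι) :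
    inclR A U R n r a = (1 : OA A (Wc U a)) ⊗ₜ[A] r := rfl

lemma faceR_inclR (k : Fin 2) (r : R) : faceR A U R k (inclR A U R 0 r) = inclR A U R 1 r := by
  funext c
  rw [faceR_apply, inclR_apply, inclR_apply, Algebra.TensorProduct.map_tmul, map_one]
  rfl

lemma faceR_comp_inclR (k : Fin 2) : (faceR A U R k).comp (inclR A U R 0) = inclR A U R 1 :=
  RingHom.ext fun r => faceR_inclR A U R k r

variable {R} in
/-- change of coefficients. -/
noncomputable def coeffR {R' : Type u} [CommRing R'] [Algebra A R'] (h : R →ₐ[A] R') (n : ℕ) :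
    SR A U R n →+* SR A U R' n :=
  RingHom.pi fun a =>
    ((Algebra.TensorProduct.map (AlgHom.id A (OA A (Wc U a))) h).toRingHom).comp
      (Pi.evalRingHom (fun a : Fin (n + 1) → ι => OA A (Wc U a) ⊗[A] R) a)

variable {R' : Type u} [CommRing R'] [Algebra A R']

variable {R} in
lemma coeffR_apply (h : R →ₐ[A] R') (n : ℕ) (z : SR A U R n) (a : Fin (n + 1) → ι) :
    coeffR A U h n z a = Algebra.TensorProduct.map (AlgHom.id A (OA A (Wc U a))) h (z a) := rfl

variable {R} in
lemma coeffR_faceR (h : R →ₐ[A] R') (k : Fin 2) :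
    (coeffR A U h 1).comp (faceR A U R k) = (faceR A U R' k).comp (coeffR A U h 0) := by
  refine RingHom.ext fun z => ?_
  funext c
  rw [RingHom.comp_apply, RingHom.comp_apply, coeffR_apply, faceR_apply, faceR_apply, coeffR_apply]
  generalize z (c ∘ k.succAbove) = w
  induction w using TensorProduct.induction_on with
  | zero => simp
  | tmul s r => simp only [Algebra.TensorProduct.map_tmul, AlgHom.coe_id, id_eq]
  | add a b ha hb => rw [map_add, map_add, map_add, map_add, ha, hb]

variable {R} in
lemma coeffR_comp_inclR (h : R →ₐ[A] R') (n : ℕ) :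
    (coeffR A U h n).comp (inclR A U R n) = (inclR A U R' n).comp (h : R →+* R') := by
  refine RingHom.ext fun r => ?_
  funext a
  rw [RingHom.comp_apply, RingHom.comp_apply, coeffR_apply, inclR_apply, inclR_apply,
    Algebra.TensorProduct.map_tmul]
  rfl

variable {R} in
lemma coeffR_surjective (h : R →ₐ[A] R') (hs : Function.Surjective h) (n : ℕ) :
    Function.Surjective (coeffR A U h n) := by
  intro z'
  have : ∀ a, ∃ w, Algebra.TensorProduct.map (AlgHom.id A (OA A (Wc U a))) h w = z' a := by
    intro a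
    have hs' : Function.Surjective
        (TensorProduct.map (LinearMap.id : OA A (Wc U a) →ₗ[A] _) h.toLinearMap) :=
      TensorProduct.map_surjective Function.surjective_id hs
    obtain ⟨w, hw⟩ := hs' (z' a)
    exact ⟨w, hw⟩
  choose w hw using this
  exact ⟨w, funext fun a => (coeffR_apply A U h n w a).trans (hw a)⟩

variable {R} in
/-- the kernel of the change of coefficients along a surjection with nil kernel is nil. -/
lemma coeffR_nil [Finite ι] (h : R →ₐ[A] R') (hs : Function.Surjective h)
    (hnil : ∀ r, h r = 0 → IsNilpotent r) (n : ℕ) (z : SR A U R n)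
    (hz : coeffR A U h n z = 0) : IsNilpotent z := by
  have hcomp : ∀ a, IsNilpotent (z a) := by
    intro a
    have h1 : z a ∈ RingHom.ker (Algebra.TensorProduct.map (AlgHom.id A (OA A (Wc U a))) h) := by
      rw [RingHom.mem_ker]
      exact congrFun hz a
    rw [Algebra.TensorProduct.lTensor_ker _ hs] at h1
    have h2 : (RingHom.ker h).map
        (Algebra.TensorProduct.includeRight : R →ₐ[A] OA A (Wc U a) ⊗[A] R) ≤
        nilradical (OA A (Wc U a) ⊗[A] R) := by
      rw [Ideal.map_le_iff_le_comap]
      intro r hr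
      rw [Ideal.mem_comap, mem_nilradical]
      exact (hnil r ((RingHom.mem_ker).1 hr)).map _
    exact mem_nilradical.1 (h2 h1)
  haveI : Fintype (Fin (n + 1) → ι) := Fintype.ofFinite _
  choose N hN using hcomp
  refine ⟨Finset.univ.sup N, ?_⟩
  funext a
  rw [Pi.pow_apply, Pi.zero_apply]
  exact pow_eq_zero_of_le (Finset.le_sup (Finset.mem_univ a)) (hN a)

/-- the comparison with the Čech cochains of `f^*(R~) ⊗ O_X`. -/
noncomputable def sgR (n : ℕ) :
    SR A U R n →ₗ[A] CochA A U (TF A (OX X) (ModuleCat.of A R)) n :=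
  LinearMap.pi fun a => (σR A R (Wc U a)) ∘ₗ
    (LinearMap.proj (R := A) (φ := fun b : Fin (n + 1) → ι => OA A (Wc U b) ⊗[A] R) a)

lemma sgR_apply (n : ℕ) (z : SR A U R n) (a : Fin (n + 1) → ι) :
    sgR A U R n z a = σR A R (Wc U a) (z a) := rfl

lemma sgR_bijective [Finite ι]
    (haff : ∀ (n : ℕ) (a : Fin (n + 1) → ι), IsAffineOpen (⨅ k, U (a k)))
    (n : ℕ) : Function.Bijective (sgR A U R n) := by
  have hb := fun a : Fin (n + 1) → ι => σR_bijective A R (hW_of_haff U haff n a)
  constructor
  · intro z w hzw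
    funext a
    exact (hb a).1 (congrFun hzw a)
  · intro y
    choose z hz using fun a => (hb a).2 (y a)
    exact ⟨z, funext hz⟩

lemma dA_sgR (z : SR A U R 0) :
    dA A U (TF A (OX X) (ModuleCat.of A R)) 0 (sgR A U R 0 z) =
      sgR A U R 1 (faceR A U R 0 z - faceR A U R 1 z) := by
  funext c
  rw [dA_apply, Fin.sum_univ_two]
  simp only [Fin.val_zero, pow_zero, one_smul, Fin.val_one, pow_one, neg_smul]
  rw [sgR_apply, sgR_apply, σR_res, σR_res, sgR_apply, Pi.sub_apply, map_sub, faceR_apply,
    faceR_apply, sub_eq_add_neg]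

variable {R} in
lemma cochMap_sgR (h : R →ₐ[A] R') (n : ℕ) (z : SR A U R n) :
    cochMap A U (TFmap A (OX X) (ModuleCat.ofHom h.toLinearMap)) n (sgR A U R n z) =
      sgR A U R' n (coeffR A U h n z) := by
  funext a
  rw [cochMap_apply, sgR_apply, σR_coeff, sgR_apply, coeffR_apply]

end cochains

section main

open Polynomial

variable {ι : Type u} (U : ι → X.Opens) [Finite ι]
  (haff : ∀ (n : ℕ) (a : Fin (n + 1) → ι), IsAffineOpen (⨅ k, U (a k))) (hU : iSup U = ⊤)
  {R R' : Type u} [CommRing R] [CommRing R'] [Algebra A R] [Algebra A R']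

include haff hU in
/-- **lifting of sections**: along a surjection `R → R'` of `A`-algebras with nil kernel, the map
`Γ(X, f^*(R~) ⊗ O_X) → Γ(X, f^*(R'~) ⊗ O_X)` is surjective as soon as every compatible family
with coefficients in `R'` is a root of a polynomial over `R'` with invertible derivative. -/
theorem surjective_of_hensel (h : R →ₐ[A] R') (hs : Function.Surjective h)
    (hnil : ∀ r, h r = 0 → IsNilpotent r)
    (hsep : ∀ z' : SR A U R' 0, faceR A U R' 0 z' = faceR A U R' 1 z' →
      ∃ q : R'[X], (q.map (inclR A U R' 0)).eval z' = 0 ∧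
        IsUnit ((q.map (inclR A U R' 0)).derivative.eval z')) :
    Function.Surjective ((CohIII.tensorAFunctor A (OX X) ⋙ CohIII.globalSectionsA A).map
      (ModuleCat.ofHom h.toLinearMap)).hom := by
  intro s'
  obtain ⟨z', hz'⟩ := (sgR_bijective A U R' haff 0).2
    (εlin A U (TF A (OX X) (ModuleCat.of A R')) s')
  have hz'eq : faceR A U R' 0 z' = faceR A U R' 1 z' := by
    have h1 : sgR A U R' 1 (faceR A U R' 0 z' - faceR A U R' 1 z') = 0 := by
      rw [← dA_sgR, hz']
      exact congr($(dA_εlin A U (TF A (OX X) (ModuleCat.of A R'))) s')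
    have h2 := (sgR_bijective A U R' haff 1).1 (h1.trans (map_zero _).symm)
    exact sub_eq_zero.1 h2
  obtain ⟨q, hq, hq'⟩ := hsep z' hz'eq
  obtain ⟨q₀, hq₀⟩ := Polynomial.map_surjective (h : R →+* R') hs q
  have hQ' : (q₀.map (inclR A U R 0)).map (coeffR A U h 0) = q.map (inclR A U R' 0) := by
    rw [Polynomial.map_map, coeffR_comp_inclR, ← Polynomial.map_map, hq₀]
  obtain ⟨z, hz, hzz'⟩ := hensel_glue (faceR A U R 0) (faceR A U R 1) (faceR A U R' 0)
    (faceR A U R' 1) (coeffR A U h 0) (coeffR A U h 1) (coeffR_faceR A U h 0)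
    (coeffR_faceR A U h 1) (coeffR_surjective A U h hs 0) (coeffR_nil A U h hs hnil 0)
    (coeffR_nil A U h hs hnil 1) (q₀.map (inclR A U R 0))
    (by rw [Polynomial.map_map, Polynomial.map_map, faceR_comp_inclR, faceR_comp_inclR])
    z' hz'eq (by rw [hQ']; exact hq) (by rw [hQ']; exact hq')
  obtain ⟨s, hs'⟩ := exists_εlin_eq A U hU (TF A (OX X) (ModuleCat.of A R)) (sgR A U R 0 z)
    (by rw [dA_sgR, hz, sub_self, map_zero])
  refine ⟨s, εlin_injective A U hU _ ?_⟩
  have e : (CohIII.tensorAFunctor A (OX X)).map (ModuleCat.ofHom h.toLinearMap) =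
      TFmap A (OX X) (ModuleCat.ofHom h.toLinearMap) := KoszTw.tensorRightMod_map _ _
  have e3 : ((CohIII.globalSectionsA A).map ((CohIII.tensorAFunctor A (OX X)).map
      (ModuleCat.ofHom h.toLinearMap))).hom s =
      ((CohIII.globalSectionsA A).map (TFmap A (OX X) (ModuleCat.ofHom h.toLinearMap))).hom s :=
    congrArg (fun φ : (CohIII.tensorAFunctor A (OX X)).obj (ModuleCat.of A R) ⟶
      (CohIII.tensorAFunctor A (OX X)).obj (ModuleCat.of A R') =>
      ((CohIII.globalSectionsA A).map φ).hom s) e
  change εlin A U (TF A (OX X) (ModuleCat.of A R'))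
    (((CohIII.globalSectionsA A).map ((CohIII.tensorAFunctor A (OX X)).map
      (ModuleCat.ofHom h.toLinearMap))).hom s) = _
  rw [e3, εlin_map, hs', cochMap_sgR, hzz', hz']
  rfl

end main

end Groth.Agent.H2.EtH0
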