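import Groth.Agent.Lib.Helper2.MumL
import Groth.Agent.Lib.Helper8.ExtScalarsBridge

/-! # Affine base change for the Čech complex: sections of `g^* F` over `g⁻¹ V` -/

set_option autoImplicit false
set_option linter.style.haveILetI false
universe u

open CategoryTheory CategoryTheory.Limits AlgebraicGeometry Opposite TopologicalSpace TensorProduct

namespace Groth.Agent.H2.Mum

open Groth.Agent.LD Groth.Agent.LD.QC

section BC

variable (A B : Type u) [CommRing A] [CommRing B] [Algebra A B]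
  {X X' : Scheme.{u}} [X.Over (Spec (CommRingCat.of A))] [X'.Over (Spec (CommRingCat.of B))]
  (g : X' ⟶ X)
  (hw : g ≫ (X ↘ Spec (CommRingCat.of A)) =
    (X' ↘ Spec (CommRingCat.of B)) ≫ Spec.map (CommRingCat.ofHom (algebraMap A B)))

include hw in
/-- the structure maps are compatible with `g`. -/
lemma ρ_pb {V : X.Opens} {W : X'.Opens} (e : W ≤ g ⁻¹ᵁ V) (a : A) :
    (g.appLE V W e).hom (ρ A V a) = ρ B W (algebraMap A B a) := by
  have key : (Scheme.ΓSpecIso (CommRingCat.of A)).inv ≫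
      (X ↘ Spec (CommRingCat.of A)).appLE ⊤ V le_top ≫ g.appLE V W e =
      CommRingCat.ofHom (algebraMap A B) ≫ (Scheme.ΓSpecIso (CommRingCat.of B)).inv ≫
        (X' ↘ Spec (CommRingCat.of B)).appLE ⊤ W le_top := by
    rw [Scheme.Hom.appLE_comp_appLE]
    have h1 : (g ≫ (X ↘ Spec (CommRingCat.of A))).appLE ⊤ W le_top =
        ((X' ↘ Spec (CommRingCat.of B)) ≫
          Spec.map (CommRingCat.ofHom (algebraMap A B))).appLE ⊤ W le_top := by
      simp only [hw]
    rw [h1, Scheme.Hom.comp_appLE, ← Category.assoc, ← Category.assoc,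
      Scheme.ΓSpecIso_inv_naturality]
    rfl
  exact congr($key a)

/-- `B`-module sections, also seen as an `A`-module through `A → B` (type synonym). -/
@[nolint unusedArguments]
def SecAB (A B : Type u) {X' : Scheme.{u}} (N : X'.Modules) (W : X'.Opens) : Type u :=
  let _ := A
  let _ := B
  Γ(N, W)

noncomputable instance (N : X'.Modules) (W : X'.Opens) : AddCommGroup (SecAB A B N W) :=
  inferInstanceAs (AddCommGroup Γ(N, W))

noncomputable instance (N : X'.Modules) (W : X'.Opens) : Module B (SecAB A B N W) :=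
  inferInstanceAs (Module B (SecA B N W))

noncomputable instance (N : X'.Modules) (W : X'.Opens) : Module A (SecAB A B N W) :=
  Module.compHom (SecAB A B N W) (algebraMap A B)

lemma SecAB.smul_def (N : X'.Modules) (W : X'.Opens) (a : A) (s : SecAB A B N W) :
    a • s = (algebraMap A B a) • s := rfl

instance (N : X'.Modules) (W : X'.Opens) : IsScalarTower A B (SecAB A B N W) :=
  ⟨fun a b s => by
    rw [SecAB.smul_def, Algebra.smul_def, mul_smul]⟩

/-- the identity `SecAB ≃ₗ[B] SecA B`. -/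
noncomputable def secABEquiv (N : X'.Modules) (W : X'.Opens) : SecAB A B N W ≃ₗ[B] SecA B N W :=
  LinearEquiv.refl B _

variable (F : X.Modules)

/-- the pulled back module `g^* F`. -/
noncomputable abbrev pbF : X'.Modules := (Scheme.Modules.pullback g).obj F

include hw in
/-- pullback of sections, `A`-linear. -/
noncomputable def pbLin {V : X.Opens} {W : X'.Opens} (e : W ≤ g ⁻¹ᵁ V) :
    SecA A F V →ₗ[A] SecAB A B (pbF g F) W where
  toFun s := pbSec g F e (show Γ(F, V) from s)
  map_add' s t := pbSec_add g F e _ _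
  map_smul' a s := by
    change pbSec g F e ((ρ A V a) • (show Γ(F, V) from s)) =
      (show Γ(pbF g F, W) from (ρ B W (algebraMap A B a)) • pbSec g F e (show Γ(F, V) from s))
    rw [pbSec_smul, ← ρ_pb A B g hw e a]

lemma pbLin_apply {V : X.Opens} {W : X'.Opens} (e : W ≤ g ⁻¹ᵁ V) (s : SecA A F V) :
    pbLin A B g hw F e s = pbSec g F e (show Γ(F, V) from s) := rfl

/-- restriction on `SecAB`. -/
noncomputable def resAB (N : X'.Modules) {W W₁ : X'.Opens} (h : W₁ ≤ W) :
    SecAB A B N W →ₗ[B] SecAB A B N W₁ :=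
  resA B N h

lemma pbLin_res {V V₁ : X.Opens} {W W₁ : X'.Opens} (e : W ≤ g ⁻¹ᵁ V) (e₁ : W₁ ≤ g ⁻¹ᵁ V₁)
    (hW : W₁ ≤ W) (hV : V₁ ≤ V) (s : SecA A F V) :
    pbLin A B g hw F e₁ (resA A F hV s) = resAB A B (pbF g F) hW (pbLin A B g hw F e s) :=
  pbSec_res g F e e₁ hW hV s

/-- the base change comparison `B ⊗_A Γ(V, F) → Γ(W, g^*F)`. -/
noncomputable def β {V : X.Opens} {W : X'.Opens} (e : W ≤ g ⁻¹ᵁ V) :
    B ⊗[A] SecA A F V →ₗ[B] SecAB A B (pbF g F) W :=
  LinearMap.liftBaseChange B (pbLin A B g hw F e)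

lemma β_tmul {V : X.Opens} {W : X'.Opens} (e : W ≤ g ⁻¹ᵁ V) (b : B) (s : SecA A F V) :
    β A B g hw F e (b ⊗ₜ s) = b • pbLin A B g hw F e s := by
  simp [β]

lemma β_res {V V₁ : X.Opens} {W W₁ : X'.Opens} (e : W ≤ g ⁻¹ᵁ V) (e₁ : W₁ ≤ g ⁻¹ᵁ V₁)
    (hW : W₁ ≤ W) (hV : V₁ ≤ V) (z : B ⊗[A] SecA A F V) :
    β A B g hw F e₁ ((resA A F hV).baseChange B z) =
      resAB A B (pbF g F) hW (β A B g hw F e z) := by
  induction z using TensorProduct.induction_on with
  | zero => simp
  | tmul b s =>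
    rw [LinearMap.baseChange_tmul, β_tmul, β_tmul, pbLin_res A B g hw F e e₁ hW hV, map_smul]
  | add x y hx hy => rw [map_add, map_add, hx, hy, map_add, map_add]

section bij

variable (sq : IsPullback g (X' ↘ Spec (CommRingCat.of B)) (X ↘ Spec (CommRingCat.of A))
  (Spec.map (CommRingCat.ofHom (algebraMap A B))))

include sq in
/-- the ring of sections over `g⁻¹ V` is the pushout `Γ(X, V) ⊗_A B`. -/
lemma isPushout_sections {V : X.Opens} {W : X'.Opens} (hV : IsAffineOpen V)
    (hWeq : W = g ⁻¹ᵁ V ⊓ (X' ↘ Spec (CommRingCat.of B)) ⁻¹ᵁ ⊤) (e : W ≤ g ⁻¹ᵁ V) :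
    IsPushout (CommRingCat.ofHom (ρ A V)) (CommRingCat.ofHom (algebraMap A B))
      (g.appLE V W e) (CommRingCat.ofHom (ρ B W)) := by
  have hUST : (⊤ : (Spec (CommRingCat.of B)).Opens) ≤
      (Spec.map (CommRingCat.ofHom (algebraMap A B))) ⁻¹ᵁ ⊤ := le_top
  have hUSX : V ≤ (X ↘ Spec (CommRingCat.of A)) ⁻¹ᵁ ⊤ := le_top
  have h0 := (isIso_pushoutSection_iff sq hUST hUSX hWeq).mp
    (isIso_pushoutSection_of_isAffineOpen sq hUST hUSX hWeq
      (isAffineOpen_top _) (isAffineOpen_top _) hV)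
  refine h0.of_iso (Scheme.ΓSpecIso (CommRingCat.of A)) (Iso.refl _)
    (Scheme.ΓSpecIso (CommRingCat.of B)) (Iso.refl _) ?_ ?_ ?_ ?_
  · rw [Iso.refl_hom, Category.comp_id]
    change _ = (Scheme.ΓSpecIso (CommRingCat.of A)).hom ≫
      ((Scheme.ΓSpecIso (CommRingCat.of A)).inv ≫
        (X ↘ Spec (CommRingCat.of A)).appLE ⊤ V le_top)
    rw [Iso.hom_inv_id_assoc]
  · exact Scheme.ΓSpecIso_naturality (CommRingCat.ofHom (algebraMap A B))
  · rw [Iso.refl_hom, Iso.refl_hom, Category.comp_id, Category.id_comp]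
  · rw [Iso.refl_hom, Category.comp_id]
    change _ = (Scheme.ΓSpecIso (CommRingCat.of B)).hom ≫
      ((Scheme.ΓSpecIso (CommRingCat.of B)).inv ≫
        (X' ↘ Spec (CommRingCat.of B)).appLE ⊤ W le_top)
    rw [Iso.hom_inv_id_assoc]

include sq in
/-- **affine base change on sections**: `B ⊗_A Γ(V, F) ≃ Γ(g⁻¹ V, g^* F)`. -/
theorem β_bijective [F.IsQuasicoherent] {V : X.Opens} {W : X'.Opens} (hV : IsAffineOpen V)
    (hW : IsAffineOpen W)
    (hWeq : W = g ⁻¹ᵁ V ⊓ (X' ↘ Spec (CommRingCat.of B)) ⁻¹ᵁ ⊤) (e : W ≤ g ⁻¹ᵁ V) :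
    Function.Bijective (β A B g sq.w F e) := by
  letI algAR : Algebra A Γ(X, V) := (ρ A V).toAlgebra
  letI algBR' : Algebra B Γ(X', W) := (ρ B W).toAlgebra
  letI algRR' : Algebra Γ(X, V) Γ(X', W) := (g.appLE V W e).hom.toAlgebra
  letI algAR' : Algebra A Γ(X', W) := ((ρ B W).comp (algebraMap A B)).toAlgebra
  haveI t1 : IsScalarTower A B Γ(X', W) := .of_algebraMap_eq' rfl
  haveI t2 : IsScalarTower A Γ(X, V) Γ(X', W) :=
    .of_algebraMap_eq (fun a => (ρ_pb A B g sq.w e a).symm)
  have hpo : Algebra.IsPushout A Γ(X, V) B Γ(X', W) :=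
    CommRingCat.isPushout_iff_isPushout.mp (isPushout_sections A B g sq hV hWeq e)
  haveI hpo' : Algebra.IsPushout A B Γ(X, V) Γ(X', W) := hpo.symm
  letI mRN : Module Γ(X, V) (SecA A F V) := inferInstanceAs (Module Γ(X, V) Γ(F, V))
  haveI t3 : IsScalarTower A Γ(X, V) (SecA A F V) :=
    .of_algebraMap_smul (fun a s => rfl)
  letI := pbModule g F e
  haveI := pbModule_isScalarTower g F e
  have hbc : IsBaseChange Γ(X', W) (pbSecₗ g F e) := isBaseChange_pbSec g hW hV e F
  let e1 : Γ(X', W) ⊗[Γ(X, V)] (SecA A F V) ≃ₗ[Γ(X', W)] Γ(pbF g F, W) := hbc.equiv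
  let e2 : Γ(X', W) ⊗[Γ(X, V)] (SecA A F V) ≃ₗ[B] B ⊗[A] (SecA A F V) :=
    Algebra.IsPushout.cancelBaseChange A B Γ(X, V) Γ(X', W) (SecA A F V)
  have key : ∀ z, (β A B g sq.w F e z : Γ(pbF g F, W)) = e1 (e2.symm z) := by
    intro z
    induction z using TensorProduct.induction_on with
    | zero =>
      rw [map_zero, map_zero, map_zero]
      rfl
    | tmul b s =>
      rw [β_tmul, Algebra.IsPushout.cancelBaseChange_symm_tmul]
      exact (hbc.equiv_tmul _ _).symm
    | add x y hx hy =>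
      rw [map_add, map_add, map_add]
      exact congrArg₂ (· + ·) hx hy
  have h2 : (β A B g sq.w F e : _ → _) = (e1 : _ → _) ∘ (e2.symm : _ → _) := funext key
  rw [h2]
  exact e1.bijective.comp e2.symm.bijective

end bij

section cochains

variable {ι : Type u} (U : ι → X.Opens)

/-- the pulled back cover. -/
abbrev Upre : ι → X'.Opens := fun i => g ⁻¹ᵁ U i

lemma Wc_pre {n : ℕ} (a : Fin (n + 1) → ι) : Wc (Upre g U) a = g ⁻¹ᵁ (Wc U a) := by
  rw [Wc_eq_iInf, Wc_eq_iInf]
  apply Opens.ext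
  rw [Opens.coe_iInf]
  change _ = g.base ⁻¹' ((⨅ k, U (a k) : X.Opens) : Set X)
  rw [Opens.coe_iInf, Set.preimage_iInter]
  rfl

lemma Wc_pre_le {n : ℕ} (a : Fin (n + 1) → ι) : Wc (Upre g U) a ≤ g ⁻¹ᵁ (Wc U a) :=
  (Wc_pre g U a).le

/-- cochains of `g^*F` for the pulled back cover, with the extra `A`-module structure. -/
abbrev CochAB (n : ℕ) : Type u :=
  ∀ a : Fin (n + 1) → ι, SecAB A B (pbF g F) (Wc (Upre g U) a)

/-- the comparison on cochains. -/
noncomputable def θlin (n : ℕ) : B ⊗[A] CochA A U F n →ₗ[B] CochAB A B g F U n :=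
  LinearMap.pi fun a => (β A B g hw F (Wc_pre_le g U a)) ∘ₗ LinearMap.baseChange B
    (LinearMap.proj (R := A) (φ := fun b : Fin (n + 1) → ι => SecA A F (Wc U b)) a)

lemma θlin_tmul (n : ℕ) (b : B) (x : CochA A U F n) (a : Fin (n + 1) → ι) :
    θlin A B g hw F U n (b ⊗ₜ x) a = β A B g hw F (Wc_pre_le g U a) (b ⊗ₜ x a) := rfl

/-- the Čech differential on `CochAB` (same as `dA B`). -/
noncomputable def dAB (n : ℕ) : CochAB A B g F U n →ₗ[B] CochAB A B g F U (n + 1) :=
  dA B (Upre g U) (pbF g F) n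

lemma θlin_dA (n : ℕ) :
    dAB A B g F U n ∘ₗ θlin A B g hw F U n =
      θlin A B g hw F U (n + 1) ∘ₗ LinearMap.baseChange B (dA A U F n) := by
  refine LinearMap.ext fun z => ?_
  induction z using TensorProduct.induction_on with
  | zero => rw [map_zero, map_zero]
  | tmul b x =>
    funext a
    rw [LinearMap.comp_apply, LinearMap.comp_apply, LinearMap.baseChange_tmul, θlin_tmul]
    change dA B (Upre g U) (pbF g F) n _ a = _
    rw [dA_apply, dA_apply, TensorProduct.tmul_sum, map_sum]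
    refine Finset.sum_congr rfl fun i _ => ?_
    rw [TensorProduct.tmul_smul, map_zsmul]
    congr 1
    have := β_res A B g hw F (Wc_pre_le g U (a ∘ i.succAbove)) (Wc_pre_le g U a)
      (face_le (Upre g U) a i) (face_le U a i) (b ⊗ₜ x (a ∘ i.succAbove))
    rw [LinearMap.baseChange_tmul] at this
    exact this.symm
  | add x y hx hy => rw [map_add, map_add, hx, hy]

lemma θlin_bijective [Finite ι] (n : ℕ)
    (hβ : ∀ a : Fin (n + 1) → ι, Function.Bijective (β A B g hw F (Wc_pre_le g U a))) :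
    Function.Bijective (θlin A B g hw F U n) := by
  classical
  haveI : Fintype (Fin (n + 1) → ι) := Fintype.ofFinite _
  let e := TensorProduct.piRight A B B (fun a : Fin (n + 1) → ι => SecA A F (Wc U a))
  have key : ∀ z, θlin A B g hw F U n z =
      fun a => β A B g hw F (Wc_pre_le g U a) (e z a) := by
    intro z
    induction z using TensorProduct.induction_on with
    | zero =>
      funext a
      simp
    | tmul b x =>
      funext a
      rw [θlin_tmul]
      congr 1
    | add z w hz hw' =>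
      funext a
      rw [map_add, hz, hw', map_add]
      simp
  have h2 : (θlin A B g hw F U n : _ → _) =
      (Pi.map fun a => β A B g hw F (Wc_pre_le g U a)) ∘ e := funext key
  rw [h2]
  exact (Function.Bijective.piMap hβ).comp e.bijective

section complexIso

variable [Finite ι] [F.IsQuasicoherent]
  (sq : IsPullback g (X' ↘ Spec (CommRingCat.of B)) (X ↘ Spec (CommRingCat.of A))
    (Spec.map (CommRingCat.ofHom (algebraMap A B))))
  (haff : ∀ (n : ℕ) (a : Fin (n + 1) → ι), IsAffineOpen (⨅ k, U (a k)))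

include sq in
lemma isAffineHom_of_sq : IsAffineHom g :=
  MorphismProperty.of_isPullback sq.flip
    (inferInstance : IsAffineHom (Spec.map (CommRingCat.ofHom (algebraMap A B))))

include sq haff in
lemma haff_pre (n : ℕ) (a : Fin (n + 1) → ι) : IsAffineOpen (⨅ k, Upre g U (a k)) := by
  haveI := isAffineHom_of_sq A B g sq
  rw [← Wc_eq_iInf, Wc_pre]
  exact (hW_of_haff U haff n a).preimage g

lemma hU_pre (hU : iSup U = ⊤) : iSup (Upre g U) = ⊤ := by
  rw [eq_top_iff]
  intro x _
  have hx : g.base x ∈ (iSup U : X.Opens) := by rw [hU]; trivial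
  obtain ⟨i, hi⟩ := Opens.mem_iSup.1 hx
  exact Opens.mem_iSup.2 ⟨i, hi⟩

include sq haff in
lemma β_Wc_bijective (n : ℕ) (a : Fin (n + 1) → ι) :
    Function.Bijective (β A B g sq.w F (Wc_pre_le g U a)) := by
  refine β_bijective A B g F sq (hW_of_haff U haff n a)
    (hW_of_haff (Upre g U) (haff_pre A B g U sq haff) n a) ?_ _
  rw [Wc_pre]
  ext x
  simp

/-- the comparison as a `B`-linear equivalence. -/
noncomputable def θequiv (n : ℕ) : B ⊗[A] CochA A U F n ≃ₗ[B] CochA B (Upre g U) (pbF g F) n :=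
  LinearEquiv.ofBijective (θlin A B g sq.w F U n)
    (θlin_bijective A B g sq.w F U n (β_Wc_bijective A B g F U sq haff n))

lemma θequiv_dA (n : ℕ) (z : B ⊗[A] CochA A U F n) :
    dA B (Upre g U) (pbF g F) n (θequiv A B g F U sq haff n z) =
      θequiv A B g F U sq haff (n + 1) (LinearMap.baseChange B (dA A U F n) z) :=
  congr($(θlin_dA A B g sq.w F U n) z)

open Groth.Agent.H8.ExtBridge in
/-- **affine base change for the Čech complex**. -/
noncomputable def bcIso :
    CohIII.bcCx (algebraMap A B) (CA A U F) ≅ CA B (Upre g U) (pbF g F) :=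
  HomologicalComplex.Hom.isoOfComponents
    (fun n => ((extEquiv (B := B) (ModuleCat.of A (CochA A U F n))).trans
      (θequiv A B g F U sq haff n)).toModuleIso)
    (fun i j h => by
      obtain rfl : i + 1 = j := h
      rw [CA_d]
      refine ModuleCat.hom_ext (LinearMap.ext fun z => ?_)
      change dA B (Upre g U) (pbF g F) i (θequiv A B g F U sq haff i
          (extEquiv (B := B) (ModuleCat.of A (CochA A U F i)) z)) =
        θequiv A B g F U sq haff (i + 1)
          (extEquiv (B := B) (ModuleCat.of A (CochA A U F (i + 1)))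
            ((ModuleCat.extendScalars (algebraMap A B)).map ((CA A U F).d i (i + 1)) z))
      rw [extEquiv_map, θequiv_dA, CA_d]
      rfl)

end complexIso

end cochains

end BC

end Groth.Agent.H2.Mum
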