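import Groth.Agent.Lib.Helper2.EtB
import Groth.Agent.Lib.Helper2.MumP

/-!
# Compatible families with coefficients in a field and functions on the fibre (helper2)

For a pullback square `X' = X ×_A K` with `K` a field, a compatible family
`z ∈ ∏ O(U_a) ⊗_A K` glues to a global function on `X'`; hence if every global function on `X'`
is a root of a separable polynomial over `K`, so is `z`.
-/

set_option autoImplicit false
set_option linter.style.haveILetI false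
universe u

open CategoryTheory CategoryTheory.Limits AlgebraicGeometry Opposite TopologicalSpace TensorProduct

namespace Groth.Agent.H2.EtH0

open Groth.Agent.H2.Mum Groth.Agent.LD Groth.Agent.LD.QC

section theta

variable (A K : Type u) [CommRing A] [CommRing K] [Algebra A K]
  {X X' : Scheme.{u}} [X.Over (Spec (CommRingCat.of A))] [X'.Over (Spec (CommRingCat.of K))]
  (g : X' ⟶ X)
  (sq : IsPullback g (X' ↘ Spec (CommRingCat.of K)) (X ↘ Spec (CommRingCat.of A))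
    (Spec.map (CommRingCat.ofHom (algebraMap A K))))

/-- `O(V) ⊗_A K ≅ O(g⁻¹ V)` for affine `V`. -/
noncomputable def thetaIso {V : X.Opens} {W : X'.Opens} (hV : IsAffineOpen V)
    (hWeq : W = g ⁻¹ᵁ V ⊓ (X' ↘ Spec (CommRingCat.of K)) ⁻¹ᵁ ⊤) (e : W ≤ g ⁻¹ᵁ V) :
    CommRingCat.of (OA A V ⊗[A] K) ≅ Γ(X', W) :=
  (CommRingCat.isPushout_tensorProduct A (OA A V) K).isoIsPushout _ _
    (isPushout_sections A K g sq hV hWeq e)

/-- the ring map `O(V) ⊗_A K → O(g⁻¹ V)`. -/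
noncomputable def theta {V : X.Opens} {W : X'.Opens} (hV : IsAffineOpen V)
    (hWeq : W = g ⁻¹ᵁ V ⊓ (X' ↘ Spec (CommRingCat.of K)) ⁻¹ᵁ ⊤) (e : W ≤ g ⁻¹ᵁ V) :
    OA A V ⊗[A] K →+* OA K W :=
  (thetaIso A K g sq hV hWeq e).hom.hom

lemma theta_bijective {V : X.Opens} {W : X'.Opens} (hV : IsAffineOpen V)
    (hWeq : W = g ⁻¹ᵁ V ⊓ (X' ↘ Spec (CommRingCat.of K)) ⁻¹ᵁ ⊤) (e : W ≤ g ⁻¹ᵁ V) :
    Function.Bijective (theta A K g sq hV hWeq e) :=
  (ConcreteCategory.isIso_iff_bijective (thetaIso A K g sq hV hWeq e).hom).1 inferInstance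

lemma theta_left {V : X.Opens} {W : X'.Opens} (hV : IsAffineOpen V)
    (hWeq : W = g ⁻¹ᵁ V ⊓ (X' ↘ Spec (CommRingCat.of K)) ⁻¹ᵁ ⊤) (e : W ≤ g ⁻¹ᵁ V) (s : OA A V) :
    theta A K g sq hV hWeq e (s ⊗ₜ[A] (1 : K)) = (g.appLE V W e).hom (show Γ(X, V) from s) := by
  have h := (CommRingCat.isPushout_tensorProduct A (OA A V) K).inl_isoIsPushout_hom _ _
    (isPushout_sections A K g sq hV hWeq e)
  exact congr($h s)

lemma theta_right {V : X.Opens} {W : X'.Opens} (hV : IsAffineOpen V)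
    (hWeq : W = g ⁻¹ᵁ V ⊓ (X' ↘ Spec (CommRingCat.of K)) ⁻¹ᵁ ⊤) (e : W ≤ g ⁻¹ᵁ V) (c : K) :
    theta A K g sq hV hWeq e ((1 : OA A V) ⊗ₜ[A] c) = ρ K W c := by
  have h := (CommRingCat.isPushout_tensorProduct A (OA A V) K).inr_isoIsPushout_hom _ _
    (isPushout_sections A K g sq hV hWeq e)
  exact congr($h c)

lemma theta_tmul {V : X.Opens} {W : X'.Opens} (hV : IsAffineOpen V)
    (hWeq : W = g ⁻¹ᵁ V ⊓ (X' ↘ Spec (CommRingCat.of K)) ⁻¹ᵁ ⊤) (e : W ≤ g ⁻¹ᵁ V) (s : OA A V)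
    (c : K) :
    theta A K g sq hV hWeq e (s ⊗ₜ[A] c) =
      (show OA K W from (g.appLE V W e).hom (show Γ(X, V) from s)) *
        (show OA K W from ρ K W c) := by
  have : s ⊗ₜ[A] c = (s ⊗ₜ[A] (1 : K)) * ((1 : OA A V) ⊗ₜ[A] c) := by
    rw [Algebra.TensorProduct.tmul_mul_tmul, mul_one, one_mul]
  rw [this, map_mul, theta_left, theta_right]

lemma theta_res {V V₁ : X.Opens} {W W₁ : X'.Opens} (hV : IsAffineOpen V) (hV₁ : IsAffineOpen V₁)
    (hWeq : W = g ⁻¹ᵁ V ⊓ (X' ↘ Spec (CommRingCat.of K)) ⁻¹ᵁ ⊤) (e : W ≤ g ⁻¹ᵁ V)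
    (hWeq₁ : W₁ = g ⁻¹ᵁ V₁ ⊓ (X' ↘ Spec (CommRingCat.of K)) ⁻¹ᵁ ⊤) (e₁ : W₁ ≤ g ⁻¹ᵁ V₁)
    (hVV : V₁ ≤ V) (hWW : W₁ ≤ W) (w : OA A V ⊗[A] K) :
    theta A K g sq hV₁ hWeq₁ e₁ (Algebra.TensorProduct.map (resOA A hVV) (AlgHom.id A K) w) =
      resOA K hWW (theta A K g sq hV hWeq e w) := by
  induction w using TensorProduct.induction_on with
  | zero => simp
  | tmul s c =>
    rw [Algebra.TensorProduct.map_tmul, theta_tmul, theta_tmul, map_mul]
    congr 1
    · rw [resOA_apply, resOA_apply]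
      have h1 : X.presheaf.map (homOfLE hVV).op ≫ g.appLE V₁ W₁ e₁ =
          g.appLE V W e ≫ X'.presheaf.map (homOfLE hWW).op := by
        rw [Scheme.Hom.map_appLE, Scheme.Hom.appLE_map]
      exact congr($h1 s)
    · exact (ρ_res K hWW c).symm
  | add a b ha hb => simp only [map_add, ha, hb]

end theta

section main

open Polynomial

variable (A K : Type u) [CommRing A] [Field K] [Algebra A K]
  {X X' : Scheme.{u}} [X.Over (Spec (CommRingCat.of A))] [X'.Over (Spec (CommRingCat.of K))]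
  (g : X' ⟶ X)
  (sq : IsPullback g (X' ↘ Spec (CommRingCat.of K)) (X ↘ Spec (CommRingCat.of A))
    (Spec.map (CommRingCat.ofHom (algebraMap A K))))
  {ι : Type u} (U : ι → X.Opens) [Finite ι]
  (haff : ∀ (n : ℕ) (a : Fin (n + 1) → ι), IsAffineOpen (⨅ k, U (a k))) (hU : iSup U = ⊤)

omit [Finite ι] in
lemma hWeq_Wc (n : ℕ) (a : Fin (n + 1) → ι) :
    Wc (Upre g U) a = g ⁻¹ᵁ (Wc U a) ⊓ (X' ↘ Spec (CommRingCat.of K)) ⁻¹ᵁ ⊤ := by
  rw [Wc_pre]
  ext x
  simp

/-- `θ` for the members of the cover. -/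
noncomputable def thetaW (n : ℕ) (a : Fin (n + 1) → ι) :
    OA A (Wc U a) ⊗[A] K →+* OA K (Wc (Upre g U) a) :=
  theta A K g sq (hW_of_haff U haff n a) (hWeq_Wc K g U n a) (Wc_pre_le g U a)

lemma exists_top_res (W : X'.Opens) (hW : W = ⊤) (t₀ : Γ(X', W)) :
    ∃ t : Γ(X', ⊤), X'.presheaf.map (homOfLE (le_top : W ≤ ⊤)).op t = t₀ := by
  subst hW
  refine ⟨t₀, ?_⟩
  have : (homOfLE (le_top : (⊤ : X'.Opens) ≤ ⊤)) = 𝟙 _ := Subsingleton.elim _ _
  rw [this, op_id, CategoryTheory.Functor.map_id]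
  rfl

include sq haff hU in
/-- **separability of compatible families**. -/
theorem exists_separable_of_fibre
    (hsep : ∀ t : Γ(X', ⊤), ∃ q : K[X], q.Separable ∧ q.eval₂ (ρ K (⊤ : X'.Opens)) t = 0)
    (z' : SR A U K 0) (hz' : faceR A U K 0 z' = faceR A U K 1 z') :
    ∃ q : K[X], q.Separable ∧ (q.map (inclR A U K 0)).eval z' = 0 := by
  -- the glued function
  let y : CochA K (Upre g U) (OX X') 0 := fun a =>
    oaLin K (Wc (Upre g U) a) (thetaW A K g sq U haff 0 a (z' a))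
  have hy : dA K (Upre g U) (OX X') 0 y = 0 := by
    funext c
    rw [dA_apply, Fin.sum_univ_two]
    simp only [Fin.val_zero, pow_zero, one_smul, Fin.val_one, pow_one, neg_smul]
    change resA K (OX X') _ (oaLin K _ _) + -resA K (OX X') _ (oaLin K _ _) = 0
    rw [oaLin_res, oaLin_res, ← sub_eq_add_neg, sub_eq_zero]
    congr 1
    have e0 := theta_res A K g sq (hW_of_haff U haff 0 (c ∘ (0 : Fin 2).succAbove))
      (hW_of_haff U haff 1 c) (hWeq_Wc K g U 0 _) (Wc_pre_le g U _) (hWeq_Wc K g U 1 c)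
      (Wc_pre_le g U c) (face_le U c 0) (face_le (Upre g U) c 0) (z' (c ∘ (0 : Fin 2).succAbove))
    have e1 := theta_res A K g sq (hW_of_haff U haff 0 (c ∘ (1 : Fin 2).succAbove))
      (hW_of_haff U haff 1 c) (hWeq_Wc K g U 0 _) (Wc_pre_le g U _) (hWeq_Wc K g U 1 c)
      (Wc_pre_le g U c) (face_le U c 1) (face_le (Upre g U) c 1) (z' (c ∘ (1 : Fin 2).succAbove))
    refine e0.symm.trans (Eq.trans ?_ e1)
    exact congrArg _ (congrFun hz' c)
  obtain ⟨s, hs⟩ := exists_εlin_eq K (Upre g U) (hU_pre g U hU) (OX X') y hy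
  have hTp : Tp (X := X') K = ⊤ := by
    ext x
    simp
  obtain ⟨t, ht⟩ := exists_top_res (Tp (X := X') K) hTp (show Γ(X', Tp (X := X') K) from s)
  obtain ⟨q, hqs, hq⟩ := hsep t
  refine ⟨q, hqs, ?_⟩
  funext a
  have h1 : ∀ (z : SR A U K 0), (Pi.evalRingHom (fun a : Fin 1 → ι => OA A (Wc U a) ⊗[A] K) a)
      ((q.map (inclR A U K 0)).eval z) = q.eval₂
        ((Algebra.TensorProduct.includeRight (R := A) (A := OA A (Wc U a)) (B := K)).toRingHom)
        (z a) := by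
    intro z
    rw [Polynomial.eval_map, hom_eval₂]
    rfl
  change (Pi.evalRingHom (fun a : Fin 1 → ι => OA A (Wc U a) ⊗[A] K) a)
      ((q.map (inclR A U K 0)).eval z') = 0
  rw [h1]
  apply (theta_bijective A K g sq (hW_of_haff U haff 0 a) (hWeq_Wc K g U 0 a)
    (Wc_pre_le g U a)).1
  rw [map_zero]
  change thetaW A K g sq U haff 0 a _ = 0
  rw [hom_eval₂]
  have h2 : (thetaW A K g sq U haff 0 a).comp
      ((Algebra.TensorProduct.includeRight (R := A) (A := OA A (Wc U a)) (B := K)).toRingHom) =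
      ρ K (Wc (Upre g U) a) := RingHom.ext fun c => theta_right A K g sq _ _ _ c
  rw [h2]
  -- the value of the glued function on the member of the cover
  have h3 : thetaW A K g sq U haff 0 a (z' a) =
      X'.presheaf.map (homOfLE (le_top : Wc (Upre g U) a ≤ ⊤)).op t := by
    have h4 := congrFun hs a
    rw [εlin_apply] at h4
    change X'.presheaf.map (homOfLE (le_pre K (Wc (Upre g U) a))).op
      (show Γ(X', Tp (X := X') K) from s) = thetaW A K g sq U haff 0 a (z' a) at h4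
    rw [← h4, ← ht]
    exact res_res (OX X') _ _ t
  rw [h3]
  have h5 : (X'.presheaf.map (homOfLE (le_top : Wc (Upre g U) a ≤ ⊤)).op).hom.comp
      (ρ K (⊤ : X'.Opens)) = ρ K (Wc (Upre g U) a) :=
    RingHom.ext fun c => ρ_res K le_top c
  have h6 := Polynomial.hom_eval₂ q (ρ K (⊤ : X'.Opens))
    (X'.presheaf.map (homOfLE (le_top : Wc (Upre g U) a ≤ ⊤)).op).hom t
  rw [hq, map_zero, h5] at h6
  exact h6.symm

end main

end Groth.Agent.H2.EtH0
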