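import Groth.Prelude.Def_FSch4
import Groth.Agent.Lib.Helper6.FEtThick4

/-!
# Étale covers of a formal system and of its smallest level (helper2)

Uses helper6's `FEtThick` (unique lifting of finite étale covers along thickenings).
-/

universe u

open CategoryTheory CategoryTheory.Limits AlgebraicGeometry

namespace Groth.Agent.H2.EtCovLevel

open Groth.Agent.H6.FEtThick

variable (𝔛 : FSch.Sys.{u}) (h𝔛 : 𝔛.IsFormal)

section Basic

variable {𝔛} (R : FSch.EtCov 𝔛)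

/-- the system of an étale cover. -/
abbrev src : FSch.Sys.{u} := R.obj.left

/-- the structure morphism of an étale cover. -/
abbrev str : FSch.Hom (src R) 𝔛 := R.obj.hom

lemma adic (n : ℕ) : IsPullback ((src R).ι n) ((str R).app n) ((str R).app (n + 1)) (𝔛.ι n) :=
  R.property.1 n

instance isFinite_str (n : ℕ) : IsFinite ((str R).app n) := (R.property.2 n).1

instance etale_str (n : ℕ) : Etale ((str R).app n) := (R.property.2 n).2

include h𝔛 in
lemma isClosedImmersion_ι (n : ℕ) : IsClosedImmersion ((src R).ι n) :=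
  MorphismProperty.of_isPullback (P := @IsClosedImmersion) (adic R n).flip (h𝔛 n).1

include h𝔛 in
lemma surjective_ι (n : ℕ) : Surjective ((src R).ι n) :=
  MorphismProperty.of_isPullback (P := @Surjective) (adic R n).flip ⟨(h𝔛 n).2⟩

lemma str_comm (n : ℕ) : (str R).app n ≫ 𝔛.ι n = (src R).ι n ≫ (str R).app (n + 1) :=
  (str R).comm n

end Basic

section Faithful

variable {𝔛} {R R' : FSch.EtCov 𝔛} (φ ψ : R ⟶ R')

/-- the levels of a morphism of étale covers. -/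
abbrev lv (n : ℕ) : (src R).X n ⟶ (src R').X n := (φ.hom.left : FSch.Hom _ _).app n

lemma lv_str (n : ℕ) : lv φ n ≫ (str R').app n = (str R).app n := by
  have h := Over.w φ.hom
  exact congrArg (fun f : FSch.Hom (src R) 𝔛 => f.app n) h

lemma lv_comm (n : ℕ) : lv φ n ≫ (src R').ι n = (src R).ι n ≫ lv φ (n + 1) :=
  (φ.hom.left : FSch.Hom _ _).comm n

include h𝔛 in
lemma lv_eq_of_zero (h0 : lv φ 0 = lv ψ 0) (n : ℕ) : lv φ n = lv ψ n := by
  induction n with
  | zero => exact h0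
  | succ n ih =>
    haveI := surjective_ι h𝔛 R n
    refine lift_unique ((str R').app (n + 1)) ((src R).ι n) _ _ ?_ ?_
    · rw [← lv_comm, ← lv_comm, ih]
    · rw [lv_str, lv_str]

include h𝔛 in
theorem faithful : (FSch.EtCov.level 𝔛 0).Faithful := by
  refine ⟨fun {R R'} φ ψ h => ?_⟩
  have h0 : lv φ 0 = lv ψ 0 := congrArg (fun g => g.left) h
  apply ObjectProperty.hom_ext
  apply Over.OverMorphism.ext
  apply FSch.Hom.ext
  funext n
  exact lv_eq_of_zero h𝔛 φ ψ h0 n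

end Faithful

section Full

variable {𝔛} (R R' : FSch.EtCov 𝔛) (g : (src R).X 0 ⟶ (src R').X 0)
  (hg : g ≫ (str R').app 0 = (str R).app 0)

include h𝔛 in
lemma exists_next (n : ℕ) (a : (src R).X n ⟶ (src R').X n)
    (ha : a ≫ (str R').app n = (str R).app n) :
    ∃ b : (src R).X (n + 1) ⟶ (src R').X (n + 1),
      (src R).ι n ≫ b = a ≫ (src R').ι n ∧ b ≫ (str R').app (n + 1) = (str R).app (n + 1) := by
  haveI := surjective_ι h𝔛 R n
  haveI := isClosedImmersion_ι h𝔛 R n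
  refine exists_lift ((str R').app (n + 1)) ((src R).ι n) (a ≫ (src R').ι n)
    ((str R).app (n + 1)) ?_
  rw [Category.assoc, ← str_comm R' n, ← Category.assoc, ha, str_comm R n]

/-- the recursively constructed levels of the lift of a morphism of covers of `X 0`. -/
noncomputable def liftSeq : ∀ n, {a : (src R).X n ⟶ (src R').X n //
    a ≫ (str R').app n = (str R).app n}
  | 0 => ⟨g, hg⟩
  | n + 1 => ⟨(exists_next h𝔛 R R' n (liftSeq n).1 (liftSeq n).2).choose,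
      (exists_next h𝔛 R R' n (liftSeq n).1 (liftSeq n).2).choose_spec.2⟩

lemma liftSeq_comm (n : ℕ) :
    (src R).ι n ≫ (liftSeq h𝔛 R R' g hg (n + 1)).1 =
      (liftSeq h𝔛 R R' g hg n).1 ≫ (src R').ι n :=
  (exists_next h𝔛 R R' n (liftSeq h𝔛 R R' g hg n).1
    (liftSeq h𝔛 R R' g hg n).2).choose_spec.1

/-- the lifted morphism of systems. -/
noncomputable def liftHom : FSch.Hom (src R) (src R') :=
  ⟨fun n => (liftSeq h𝔛 R R' g hg n).1, fun n => (liftSeq_comm h𝔛 R R' g hg n).symm⟩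

lemma liftHom_str : (liftHom h𝔛 R R' g hg : src R ⟶ src R') ≫ R'.obj.hom = R.obj.hom := by
  apply FSch.Hom.ext
  funext n
  exact (liftSeq h𝔛 R R' g hg n).2

/-- the lifted morphism of étale covers. -/
noncomputable def liftMor : R ⟶ R' :=
  ObjectProperty.homMk (Over.homMk (liftHom h𝔛 R R' g hg : src R ⟶ src R')
    (liftHom_str h𝔛 R R' g hg))

lemma liftMor_zero : lv (liftMor h𝔛 R R' g hg) 0 = g := rfl

end Full

include h𝔛 in
theorem full : (FSch.EtCov.level 𝔛 0).Full := by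
  refine ⟨fun {R R'} γ => ?_⟩
  have hγ : γ.left ≫ (str R').app 0 = (str R).app 0 := MorphismProperty.Over.w γ
  refine ⟨liftMor h𝔛 R R' γ.left hγ, ?_⟩
  apply MorphismProperty.Over.Hom.ext
  rfl

section EssSurj

/-- a finite étale cover of the level `n`. -/
structure Lv (n : ℕ) where
  Z : Scheme.{u}
  p : Z ⟶ 𝔛.X n
  fin : IsFinite p
  et : Etale p

variable {𝔛}

include h𝔛 in
lemma exists_nextLv {n : ℕ} (L : Lv 𝔛 n) :
    ∃ (Z : Scheme.{u}) (p : Z ⟶ 𝔛.X (n + 1)) (q : L.Z ⟶ Z),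
      IsFinite p ∧ Etale p ∧ IsPullback q L.p p (𝔛.ι n) := by
  haveI := (h𝔛 n).1
  haveI : Surjective (𝔛.ι n) := ⟨(h𝔛 n).2⟩
  exact lifts_thickening (𝔛.ι n) L.Z L.p L.fin L.et

/-- the chosen lift to the next level. -/
noncomputable def nextLv {n : ℕ} (L : Lv 𝔛 n) : Lv 𝔛 (n + 1) :=
  ⟨(exists_nextLv h𝔛 L).choose, (exists_nextLv h𝔛 L).choose_spec.choose,
    (exists_nextLv h𝔛 L).choose_spec.choose_spec.choose_spec.1,
    (exists_nextLv h𝔛 L).choose_spec.choose_spec.choose_spec.2.1⟩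

noncomputable def nextQ {n : ℕ} (L : Lv 𝔛 n) : L.Z ⟶ (nextLv h𝔛 L).Z :=
  (exists_nextLv h𝔛 L).choose_spec.choose_spec.choose

lemma isPullback_nextQ {n : ℕ} (L : Lv 𝔛 n) :
    IsPullback (nextQ h𝔛 L) L.p (nextLv h𝔛 L).p (𝔛.ι n) :=
  (exists_nextLv h𝔛 L).choose_spec.choose_spec.choose_spec.2.2

variable (Y : FEt.Cat (𝔛.X 0))

/-- the tower of lifts of a finite étale cover of `X 0`. -/
noncomputable def tower : ∀ n, Lv 𝔛 n
  | 0 => ⟨Y.left, Y.hom, Y.prop.1, Y.prop.2⟩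
  | n + 1 => nextLv h𝔛 (tower n)

/-- the system of lifts. -/
noncomputable def towerSys : FSch.Sys.{u} where
  X n := (tower h𝔛 Y n).Z
  ι n := nextQ h𝔛 (tower h𝔛 Y n)

/-- the structure morphism of the system of lifts. -/
noncomputable def towerHom : FSch.Hom (towerSys h𝔛 Y) 𝔛 :=
  ⟨fun n => (tower h𝔛 Y n).p, fun n => (isPullback_nextQ h𝔛 (tower h𝔛 Y n)).w.symm⟩

lemma towerHom_isEtaleCover :
    FSch.IsEtaleCover (towerHom h𝔛 Y : towerSys h𝔛 Y ⟶ 𝔛) :=
  ⟨fun n => isPullback_nextQ h𝔛 (tower h𝔛 Y n),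
    fun n => ⟨(tower h𝔛 Y n).fin, (tower h𝔛 Y n).et⟩⟩

/-- the étale cover of the system lifting `Y`. -/
noncomputable def towerCov : FSch.EtCov 𝔛 :=
  ⟨Over.mk (towerHom h𝔛 Y : towerSys h𝔛 Y ⟶ 𝔛), towerHom_isEtaleCover h𝔛 Y⟩

noncomputable def towerIso : (FSch.EtCov.level 𝔛 0).obj (towerCov h𝔛 Y) ≅ Y :=
  MorphismProperty.Over.isoMk (Iso.refl _) (by
    show 𝟙 _ ≫ Y.hom = Y.hom
    exact Category.id_comp _)

end EssSurj

include h𝔛 in
theorem essSurj : (FSch.EtCov.level 𝔛 0).EssSurj :=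
  ⟨fun Y => ⟨towerCov h𝔛 Y, ⟨towerIso h𝔛 Y⟩⟩⟩

include h𝔛 in
/-- **SGA1 I 8.4 for formal systems** (S12066). -/
theorem main : (FSch.EtCov.level 𝔛 0).IsEquivalence :=
  { faithful := faithful h𝔛
    full := full 𝔛 h𝔛
    essSurj := essSurj 𝔛 h𝔛 }

end Groth.Agent.H2.EtCovLevel
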