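import Groth.Agent.Lib.Helper2.EtC

/-!
# Lifting global functions from a fibre with separable global functions (helper2)

* `exists_separable_of_etale`: elements of an étale algebra over a field are roots of separable
  polynomials;
* `surjective_of_fibre_separable`: the core surjectivity statement;
* epimorphisms of fields are surjective; a ring map to a field inducing a monomorphism on spectra
  is an epimorphism.
-/

set_option autoImplicit false
set_option linter.style.haveILetI false
universe u

open CategoryTheory CategoryTheory.Limits AlgebraicGeometry Opposite TopologicalSpace TensorProduct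

namespace Groth.Agent.H2.EtH0

open Groth.Agent.H2.Mum Groth.Agent.LD Groth.Agent.LD.QC Polynomial

section etale

/-- every element of an étale algebra over a field is a root of a separable polynomial. -/
theorem exists_separable_of_etale (K : Type u) [Field K] (B : Type u) [CommRing B] [Algebra K B]
    [Algebra.Etale K B] (t : B) : ∃ q : K[X], q.Separable ∧ aeval t q = 0 := by
  classical
  obtain ⟨I, hI, Ai, hf, ha, e, he⟩ := (Algebra.Etale.iff_exists_algEquiv_prod (K := K) (A := B)).1
    inferInstance
  haveI : Fintype I := Fintype.ofFinite I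
  let m : I → K[X] := fun i => minpoly K (e t i)
  have hint : ∀ i, IsIntegral K (e t i) := fun i => by
    haveI := (he i).1
    exact Algebra.IsIntegral.isIntegral _
  have hsepm : ∀ i, (m i).Separable := fun i => by
    haveI := (he i).2
    exact Algebra.IsSeparable.isSeparable K (e t i)
  let S : Finset K[X] := Finset.univ.image m
  refine ⟨∏ p ∈ S, p, ?_, ?_⟩
  · refine separable_prod' ?_ ?_
    · intro p hp p' hp' hne
      obtain ⟨i, -, rfl⟩ := Finset.mem_image.1 hp
      obtain ⟨j, -, rfl⟩ := Finset.mem_image.1 hp'
      have hi : Irreducible (m i) := minpoly.irreducible (hint i)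
      refine (hi.coprime_iff_not_dvd).2 fun hdvd => hne ?_
      exact eq_of_monic_of_associated (minpoly.monic (hint i)) (minpoly.monic (hint j))
        (hi.associated_of_dvd (minpoly.irreducible (hint j)) hdvd)
    · intro p hp
      obtain ⟨i, -, rfl⟩ := Finset.mem_image.1 hp
      exact hsepm i
  · apply e.injective
    rw [map_zero, ← aeval_algHom_apply]
    funext i
    have h1 : (aeval (e t) (∏ p ∈ S, p)) i = aeval (e t i) (∏ p ∈ S, p) := by
      have := aeval_algHom_apply (Pi.evalAlgHom K Ai i) (e t) (∏ p ∈ S, p)
      exact this.symm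
    rw [h1, Pi.zero_apply]
    have hdvd : m i ∣ ∏ p ∈ S, p :=
      Finset.dvd_prod_of_mem _ (Finset.mem_image.2 ⟨i, Finset.mem_univ i, rfl⟩)
    obtain ⟨r, hr⟩ := hdvd
    rw [hr, map_mul, minpoly.aeval, zero_mul]

/-- at a root of a separable polynomial the derivative is invertible. -/
lemma isUnit_derivative_of_separable {K S : Type*} [CommRing K] [CommRing S] (φ : K →+* S)
    (q : K[X]) (hq : q.Separable) (z : S) (hz : (q.map φ).eval z = 0) :
    IsUnit ((q.map φ).derivative.eval z) := by
  obtain ⟨u, v, huv⟩ := hq
  have h1 := congrArg (fun p : K[X] => (p.map φ).eval z) huv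
  simp only [Polynomial.map_add, Polynomial.map_mul, Polynomial.map_one, eval_add, eval_mul,
    eval_one, hz, mul_zero, zero_add] at h1
  rw [derivative_map]
  exact IsUnit.of_mul_eq_one_right _ h1

end etale

section epi

/-- an epimorphism of fields is surjective. -/
theorem surjective_algebraMap_of_isEpi_field (k K : Type*) [Field k] [Field K] [Algebra k K]
    [Algebra.IsEpi k K] : Function.Surjective (algebraMap k K) := by
  by_contra hns
  obtain ⟨a, ha⟩ := not_forall.1 hns
  have h1 : (1 : K) ∉ Submodule.span k ({a} : Set K) := by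
    intro h
    obtain ⟨c, hc⟩ := Submodule.mem_span_singleton.1 h
    have hc0 : c ≠ 0 := by
      rintro rfl
      rw [zero_smul] at hc
      exact zero_ne_one hc
    refine ha ⟨c⁻¹, ?_⟩
    have : a = c⁻¹ • (1 : K) := by rw [← hc, smul_smul, inv_mul_cancel₀ hc0, one_smul]
    rw [this, Algebra.smul_def, mul_one]
  obtain ⟨f, hf1, hf2⟩ := Submodule.exists_dual_map_eq_bot_of_notMem h1 inferInstance
  have hfa : f a = 0 := by
    have : f a ∈ (Submodule.span k ({a} : Set K)).map f :=
      Submodule.mem_map_of_mem (Submodule.mem_span_singleton_self a)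
    rw [hf2] at this
    exact (Submodule.mem_bot k).1 this
  let Φ : K ⊗[k] K →ₗ[k] K := TensorProduct.lift ((LinearMap.lsmul k K).comp f)
  have hΦ : ∀ x y : K, Φ (x ⊗ₜ[k] y) = f x • y := fun x y => rfl
  have hepi := (Algebra.isEpi_iff_forall_one_tmul_eq k K).1 inferInstance a
  have h2 := congrArg Φ hepi
  rw [hΦ, hΦ, hfa, zero_smul] at h2
  rcases smul_eq_zero.1 h2 with h3 | h3
  · exact hf1 h3
  · exact ha ⟨0, by rw [map_zero, h3]⟩

/-- a ring map inducing a monomorphism on spectra is an epimorphism. -/
theorem isEpi_of_mono_Spec (A K : Type u) [CommRing A] [CommRing K] [Algebra A K]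
    (h : Mono (Spec.map (CommRingCat.ofHom (algebraMap A K)))) : Algebra.IsEpi A K := by
  rw [← CommRingCat.epi_iff_epi]
  have h1 : Mono (Scheme.Spec.map (CommRingCat.ofHom (algebraMap A K)).op) := h
  have h2 : Mono (CommRingCat.ofHom (algebraMap A K)).op := Scheme.Spec.mono_of_mono_map h1
  exact unop_epi_of_mono (CommRingCat.ofHom (algebraMap A K)).op

/-- epimorphisms pass to the second map of a tower. -/
theorem isEpi_of_tower (A B K : Type*) [CommRing A] [CommRing B] [CommRing K] [Algebra A B]
    [Algebra A K] [Algebra B K] [IsScalarTower A B K] [Algebra.IsEpi A K] : Algebra.IsEpi B K := by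
  rw [Algebra.isEpi_iff_forall_one_tmul_eq]
  intro a
  have h := (Algebra.isEpi_iff_forall_one_tmul_eq A K).1 inferInstance a
  let f : K →+ K →+ K ⊗[B] K :=
    { toFun := fun x =>
        { toFun := fun y => x ⊗ₜ[B] y
          map_zero' := tmul_zero _ _
          map_add' := fun y y' => tmul_add _ _ _ }
      map_zero' := by
        ext y
        exact zero_tmul _ _
      map_add' := fun x x' => by
        ext y
        exact add_tmul _ _ _ }
  let Ψ : K ⊗[A] K →+ K ⊗[B] K := TensorProduct.liftAddHom f (fun c x y => by
    change (c • x) ⊗ₜ[B] y = x ⊗ₜ[B] (c • y)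
    rw [← algebraMap_smul B c x, ← algebraMap_smul B c y, TensorProduct.smul_tmul])
  have := congrArg Ψ h
  exact this

/-- an `A`-algebra map from a field to a field `K` is bijective if `Spec K → Spec A` is a
monomorphism. -/
theorem bijective_of_mono_Spec (A R' K : Type u) [CommRing A] [Field R'] [Field K] [Algebra A R']
    [Algebra A K] (e : R' →ₐ[A] K)
    (h : Mono (Spec.map (CommRingCat.ofHom (algebraMap A K)))) : Function.Bijective e := by
  refine ⟨(e : R' →+* K).injective, ?_⟩
  letI : Algebra R' K := (e : R' →+* K).toAlgebra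
  haveI : IsScalarTower A R' K := IsScalarTower.of_algebraMap_eq fun a => (e.commutes a).symm
  haveI := isEpi_of_mono_Spec A K h
  haveI := isEpi_of_tower A R' K
  exact surjective_algebraMap_of_isEpi_field R' K

end epi

section core

variable (A K : Type u) [CommRing A] [Field K] [Algebra A K]
  {X X' : Scheme.{u}} [X.Over (Spec (CommRingCat.of A))] [X'.Over (Spec (CommRingCat.of K))]
  (g : X' ⟶ X)
  (sq : IsPullback g (X' ↘ Spec (CommRingCat.of K)) (X ↘ Spec (CommRingCat.of A))
    (Spec.map (CommRingCat.ofHom (algebraMap A K))))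
  {ι : Type u} (U : ι → X.Opens) [Finite ι]
  (haff : ∀ (n : ℕ) (a : Fin (n + 1) → ι), IsAffineOpen (⨅ k, U (a k))) (hU : iSup U = ⊤)
  {R R' : Type u} [CommRing R] [CommRing R'] [Algebra A R] [Algebra A R']

omit [Finite ι] in
lemma coeffR_bijective_of_bijective {R₁ R₂ : Type u} [CommRing R₁] [CommRing R₂] [Algebra A R₁]
    [Algebra A R₂] (e : R₁ →ₐ[A] R₂) (he : Function.Bijective e) (n : ℕ) :
    Function.Bijective (coeffR A U e n) := by
  let e' : R₁ ≃ₗ[A] R₂ := LinearEquiv.ofBijective e.toLinearMap he
  have hb : ∀ a : Fin (n + 1) → ι, Function.Bijective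
      (Algebra.TensorProduct.map (AlgHom.id A (OA A (Wc U a))) e) := by
    intro a
    have h1 : (Algebra.TensorProduct.map (AlgHom.id A (OA A (Wc U a))) e : _ → _) =
        (LinearEquiv.lTensor (OA A (Wc U a)) e' : _ → _) := by
      funext w
      induction w using TensorProduct.induction_on with
      | zero => simp
      | tmul s r => rfl
      | add x y hx hy => rw [map_add, map_add, hx, hy]
    rw [h1]
    exact (LinearEquiv.lTensor (OA A (Wc U a)) e').bijective
  constructor
  · intro z w hzw
    funext a
    exact (hb a).1 (congrFun hzw a)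
  · intro y
    choose z hz using fun a => (hb a).2 (y a)
    exact ⟨z, funext hz⟩

include sq haff hU in
/-- **the core surjectivity statement**: if all global functions on the fibre `X' = X ×_A K` are
roots of separable polynomials over the field `K`, then along a surjection `R → R'` of
`A`-algebras with nil kernel and `R' ≅ K`, global sections of `f^*(R'~) ⊗ O_X` lift. -/
theorem surjective_of_fibre_separable
    (hsep : ∀ t : Γ(X', ⊤), ∃ q : K[X], q.Separable ∧ q.eval₂ (ρ K (⊤ : X'.Opens)) t = 0)
    (h : R →ₐ[A] R') (hs : Function.Surjective h) (hnil : ∀ r, h r = 0 → IsNilpotent r)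
    (e : R' →ₐ[A] K) (he : Function.Bijective e) :
    Function.Surjective ((CohIII.tensorAFunctor A (OX X) ⋙ CohIII.globalSectionsA A).map
      (ModuleCat.ofHom h.toLinearMap)).hom := by
  apply surjective_of_hensel A U haff hU h hs hnil
  intro z' hz'
  have hzK : faceR A U K 0 (coeffR A U e 0 z') = faceR A U K 1 (coeffR A U e 0 z') := by
    have a0 := congrArg (fun φ => φ z') (coeffR_faceR A U e 0)
    have a1 := congrArg (fun φ => φ z') (coeffR_faceR A U e 1)
    simp only [RingHom.comp_apply] at a0 a1
    rw [← a0, ← a1, hz']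
  obtain ⟨qK, hsepq, hqK⟩ := exists_separable_of_fibre A K g sq U haff hU hsep _ hzK
  let eR : R' ≃+* K := RingEquiv.ofBijective (e : R' →+* K) he
  let q : R'[X] := qK.map (eR.symm : K →+* R')
  have hqmap : q.map (e : R' →+* K) = qK := by
    change (qK.map (eR.symm : K →+* R')).map (e : R' →+* K) = qK
    rw [Polynomial.map_map]
    have : (e : R' →+* K).comp (eR.symm : K →+* R') = RingHom.id K :=
      RingHom.ext fun c => eR.apply_symm_apply c
    rw [this, Polynomial.map_id]
  have hcomp : (q.map (inclR A U R' 0)).map (coeffR A U e 0) = qK.map (inclR A U K 0) := by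
    rw [Polynomial.map_map, coeffR_comp_inclR, ← Polynomial.map_map, hqmap]
  have hbij := coeffR_bijective_of_bijective A U e he 0
  have key : ∀ P : (SR A U R' 0)[X],
      coeffR A U e 0 (P.eval z') = (P.map (coeffR A U e 0)).eval (coeffR A U e 0 z') :=
    fun P => by rw [Polynomial.eval_map, Polynomial.eval₂_hom]
  refine ⟨q, hbij.1 (by rw [key, hcomp, hqK, map_zero]), ?_⟩
  have hu := isUnit_derivative_of_separable (inclR A U K 0) qK hsepq _ hqK
  have h2 : coeffR A U e 0 ((q.map (inclR A U R' 0)).derivative.eval z') =
      (qK.map (inclR A U K 0)).derivative.eval (coeffR A U e 0 z') := by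
    rw [key, ← Polynomial.derivative_map, hcomp]
  rw [← h2] at hu
  exact (isUnit_map_iff (RingEquiv.ofBijective (coeffR A U e 0) hbij) _).1 hu

end core

end Groth.Agent.H2.EtH0
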