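import Groth.Agent.Lib.Helper8.TFunLenA
import Groth.Agent.Lib.Helper8.TFunLocal3

/-! # `T_p` exact iff the length formula holds on `A/𝔪^{n+1}` for large `n` (helper2)

Noetherian local base, EGA III 7.8.?: (b) ⇔ (c). -/

set_option autoImplicit false
set_option linter.style.haveILetI false
universe u

open CategoryTheory CategoryTheory.Limits TensorProduct Function

namespace Groth.Agent.H2.LenPow

open Groth.Agent.H8.TFun Groth.Agent.H8 Groth.Agent.H8.KrullFree

variable {A : Type u} [CommRing A] [IsLocalRing A] (P : ChainComplex (ModuleCat.{u} A) ℤ)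

local notation "k" => IsLocalRing.ResidueField A
local notation "𝔪" => IsLocalRing.maximalIdeal A

/-- simple modules over a local ring are isomorphic to the residue field. -/
lemma nonempty_equiv_residue (M : Type u) [AddCommGroup M] [Module A M] [IsSimpleModule A M] :
    Nonempty (M ≃ₗ[A] k) := by
  obtain ⟨I, hI, ⟨e⟩⟩ := isSimpleModule_iff_quot_maximal.1 (inferInstance : IsSimpleModule A M)
  have hq : I = 𝔪 := IsLocalRing.eq_maximalIdeal hI
  exact ⟨e.trans (Submodule.quotEquivOfEq _ _ hq)⟩

/-- `length T_p(M) ≤ length T_p(k) · length M` for `M` of finite length. -/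
theorem length_le (hP : ∀ i, Module.Flat A (P.X i)) (p : ℤ)
    (M : Type u) [AddCommGroup M] [Module A M] (hM : IsFiniteLength A M) :
    Module.length A ((CohIII.TFun P p).obj (ModuleCat.of A M)) ≤
      Module.length A ((CohIII.TFun P p).obj (ModuleCat.of A k)) * Module.length A M := by
  induction hM with
  | of_subsingleton =>
    rw [length_TFun_obj_of_subsingleton]
    exact bot_le
  | @of_simple_quotient M _ _ N _ hN ih =>
    obtain ⟨e'⟩ := nonempty_equiv_residue (A := A) (M ⧸ N)
    have hS := shortExact_of_linearMaps N.subtype N.mkQ N.injective_subtype N.mkQ_surjective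
      (LinearMap.exact_subtype_mkQ N)
    have hmid := TFun_exact_middle P hP _ hS p
    have h3 : Module.length A ((CohIII.TFun P p).obj (ModuleCat.of A (M ⧸ N))) =
        Module.length A ((CohIII.TFun P p).obj (ModuleCat.of A k)) := length_TFun_obj_congr P e' p
    have hl : Module.length A M = Module.length A N + 1 := by
      rw [Module.length_eq_add_of_exact N.subtype N.mkQ N.injective_subtype N.mkQ_surjective
        (LinearMap.exact_subtype_mkQ N), e'.length_eq, length_residueField]
    calc Module.length A ((CohIII.TFun P p).obj (ModuleCat.of A M))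
        ≤ Module.length A ((CohIII.TFun P p).obj (ModuleCat.of A N)) +
          Module.length A ((CohIII.TFun P p).obj (ModuleCat.of A (M ⧸ N))) :=
          LengthExact.length_le_add_of_exact _ _ hmid
      _ ≤ Module.length A ((CohIII.TFun P p).obj (ModuleCat.of A k)) * Module.length A N +
          Module.length A ((CohIII.TFun P p).obj (ModuleCat.of A k)) := by
          rw [h3]
          exact add_le_add ih le_rfl
      _ = Module.length A ((CohIII.TFun P p).obj (ModuleCat.of A k)) * Module.length A M := by
          rw [hl, mul_add, mul_one]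

/-- If `T_p` is exact, `length T_p(M) = length T_p(k) · length M` for `M` of finite length. -/
theorem length_eq_of_exact (hP : ∀ i, Module.Flat A (P.X i)) (p : ℤ)
    (hex : (CohIII.TFun P p).PreservesMonomorphisms ∧ (CohIII.TFun P p).PreservesEpimorphisms)
    (M : Type u) [AddCommGroup M] [Module A M] (hM : IsFiniteLength A M) :
    Module.length A ((CohIII.TFun P p).obj (ModuleCat.of A M)) =
      Module.length A ((CohIII.TFun P p).obj (ModuleCat.of A k)) * Module.length A M := by
  obtain ⟨hm, he⟩ := hex
  induction hM with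
  | of_subsingleton =>
    have h0 : Module.length A ‹Type u› = 0 := Module.length_eq_zero
    rw [length_TFun_obj_of_subsingleton, h0, mul_zero]
  | @of_simple_quotient M _ _ N _ hN ih =>
    obtain ⟨e'⟩ := nonempty_equiv_residue (A := A) (M ⧸ N)
    have hS := shortExact_of_linearMaps N.subtype N.mkQ N.injective_subtype N.mkQ_surjective
      (LinearMap.exact_subtype_mkQ N)
    have hmid := TFun_exact_middle P hP _ hS p
    have h3 : Module.length A ((CohIII.TFun P p).obj (ModuleCat.of A (M ⧸ N))) =
        Module.length A ((CohIII.TFun P p).obj (ModuleCat.of A k)) := length_TFun_obj_congr P e' p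
    have hl : Module.length A M = Module.length A N + 1 := by
      rw [Module.length_eq_add_of_exact N.subtype N.mkQ N.injective_subtype N.mkQ_surjective
        (LinearMap.exact_subtype_mkQ N), e'.length_eq, length_residueField]
    have hmf : Mono (ModuleCat.ofHom N.subtype) :=
      (ModuleCat.mono_iff_injective _).2 N.injective_subtype
    have heg : Epi (ModuleCat.ofHom N.mkQ) := (ModuleCat.epi_iff_surjective _).2 N.mkQ_surjective
    have hinj := (ModuleCat.mono_iff_injective _).1 (hm.preserves (ModuleCat.ofHom N.subtype))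
    have hsurj := (ModuleCat.epi_iff_surjective _).1 (he.preserves (ModuleCat.ofHom N.mkQ))
    rw [Module.length_eq_add_of_exact _ _ hinj hsurj hmid, ih, h3, hl, mul_add, mul_one]

section Noeth

variable [IsNoetherianRing A]

/-- `A/𝔪^{n+1}` has finite length. -/
theorem isFiniteLength_quot_pow (n : ℕ) : IsFiniteLength A (A ⧸ 𝔪 ^ (n + 1)) := by
  have hmin : 𝔪 ∈ (𝔪 ^ (n + 1)).minimalPrimes := by
    refine ⟨⟨inferInstance, Ideal.pow_le_self (Nat.succ_ne_zero n)⟩, fun q ⟨hq1, hq2⟩ _ => ?_⟩
    exact hq1.le_of_pow_le hq2
  haveI : IsArtinianRing (A ⧸ 𝔪 ^ (n + 1)) :=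
    IsLocalRing.quotient_artinian_of_mem_minimalPrimes_of_isLocalRing _ hmin
  rw [isFiniteLength_iff_isNoetherian_isArtinian]
  exact ⟨isNoetherian_quotient _,
    isArtinian_of_surjective_algebraMap (R := A ⧸ 𝔪 ^ (n + 1)) Ideal.Quotient.mk_surjective⟩

/-- `T_p(k)` has finite length. -/
theorem isFiniteLength_T_residue (hP : ∀ i, Module.Finite A (P.X i)) (p : ℤ) :
    IsFiniteLength A ((CohIII.TFun P p).obj (ModuleCat.of A k)) := by
  haveI := hP p
  -- `P_p ⊗ k` has finite length
  have hX : IsFiniteLength A (P.X p ⊗[A] k) := by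
    haveI : IsArtinian k (k ⊗[A] P.X p) := inferInstance
    haveI : IsArtinian A (k ⊗[A] P.X p) :=
      isArtinian_of_surjective_algebraMap (R := k) (M := k ⊗[A] P.X p)
        IsLocalRing.residue_surjective
    have h1 : IsFiniteLength A (k ⊗[A] P.X p) := by
      rw [isFiniteLength_iff_isNoetherian_isArtinian]
      exact ⟨inferInstance, inferInstance⟩
    exact (TensorProduct.comm A k (P.X p)).isFiniteLength h1
  have hinj : Function.Injective ((CohIII.tensorObj P (ModuleCat.of A k)).iCycles p).hom :=
    (ModuleCat.mono_iff_injective _).1 inferInstance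
  have hsurj : Function.Surjective ((CohIII.tensorObj P (ModuleCat.of A k)).homologyπ p).hom :=
    (ModuleCat.epi_iff_surjective _).1 inferInstance
  have hc : IsFiniteLength A ((CohIII.tensorObj P (ModuleCat.of A k)).cycles p) :=
    IsFiniteLength.of_injective (f := ((CohIII.tensorObj P (ModuleCat.of A k)).iCycles p).hom)
      hX hinj
  exact IsFiniteLength.of_surjective
    (f := ((CohIII.tensorObj P (ModuleCat.of A k)).homologyπ p).hom) hc hsurj

/-- **(b) ⇔ (c)**: `T_p` is exact iff the length formula holds on `A/𝔪^{n+1}` for large `n`. -/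
theorem exact_iff_length_pow (hP : ∀ i, Module.Finite A (P.X i) ∧ Module.Flat A (P.X i))
    (p : ℤ) :
    ((CohIII.TFun P p).PreservesMonomorphisms ∧ (CohIII.TFun P p).PreservesEpimorphisms) ↔
      ∃ n₀ : ℕ, ∀ n : ℕ, n₀ ≤ n →
        Module.length A ((CohIII.TFun P p).obj (ModuleCat.of A (A ⧸ 𝔪 ^ (n + 1)))) =
          Module.length A ((CohIII.TFun P p).obj (ModuleCat.of A k)) *
            Module.length A (A ⧸ 𝔪 ^ (n + 1)) := by
  have hfl : ∀ i, Module.Flat A (P.X i) := fun i => (hP i).2
  have hfin : ∀ i, Module.Finite A (P.X i) := fun i => (hP i).1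
  constructor
  · intro hex
    exact ⟨0, fun n _ => length_eq_of_exact P hfl p hex _ (isFiniteLength_quot_pow n)⟩
  · rintro ⟨n₀, H⟩
    have ht : Module.length A ((CohIII.TFun P p).obj (ModuleCat.of A k)) ≠ ⊤ :=
      Module.length_ne_top_iff.2 (isFiniteLength_T_residue P hfin p)
    -- for each large `n`, injectivity and surjectivity along `0 → ker → A/𝔪^{n+1} → k → 0`
    have key : ∀ n, n₀ ≤ n →
        Mono ((CohIII.TFun P p).map (gn (A := A) n).shortComplexKer.f) ∧
          Function.Surjective ((CohIII.TFun P p).map (gn (A := A) n).shortComplexKer.g).hom := by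
      intro n hn
      have hS := LinearMap.shortExact_shortComplexKer (gn_surjective (A := A) n)
      have hmid := TFun_exact_middle P hfl _ hS p
      have hAn := isFiniteLength_quot_pow (A := A) n
      have hker : IsFiniteLength A (LinearMap.ker (gn (A := A) n)) :=
        IsFiniteLength.of_injective hAn (LinearMap.ker (gn (A := A) n)).injective_subtype
      have hle1 := LengthExact.length_le_add_of_exact _ _ hmid
      have hle2 := length_le P hfl p _ hker
      have hl : Module.length A (A ⧸ 𝔪 ^ (n + 1)) =
          Module.length A (LinearMap.ker (gn (A := A) n)) + 1 := by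
        rw [Module.length_eq_add_of_exact (LinearMap.ker (gn (A := A) n)).subtype (gn (A := A) n)
          (LinearMap.ker (gn (A := A) n)).injective_subtype (gn_surjective n)
          (LinearMap.exact_subtype_ker_map _)]
        congr 1
        exact length_residueField
      have hfinAn : Module.length A (A ⧸ 𝔪 ^ (n + 1)) ≠ ⊤ := Module.length_ne_top_iff.2 hAn
      have hH := H n hn
      have hfinT : Module.length A ((CohIII.TFun P p).obj
          (ModuleCat.of A (A ⧸ 𝔪 ^ (n + 1)))) ≠ ⊤ := by
        rw [hH]
        exact WithTop.mul_ne_top ht hfinAn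
      have heq : Module.length A ((CohIII.TFun P p).obj (ModuleCat.of A (A ⧸ 𝔪 ^ (n + 1)))) =
          Module.length A ((CohIII.TFun P p).obj
            (ModuleCat.of A (LinearMap.ker (gn (A := A) n)))) +
          Module.length A ((CohIII.TFun P p).obj (ModuleCat.of A k)) := by
        refine le_antisymm hle1 ?_
        rw [hH, hl, mul_add, mul_one]
        exact add_le_add hle2 le_rfl
      obtain ⟨h1, h2⟩ := LengthExact.injective_and_surjective_of_length_eq _ _ hmid hfinT heq
      exact ⟨(ModuleCat.mono_iff_injective _).2 h1, h2⟩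
    have hepi : (CohIII.TFun P p).PreservesEpimorphisms :=
      (preservesEpi_iff_surjective_pow P hP p).2 ⟨n₀, fun n hn => (key n hn).2⟩
    have hepi' : (CohIII.TFun P (p + 1)).PreservesEpimorphisms := by
      refine (preservesEpi_iff_surjective_pow P hP (p + 1)).2 ⟨n₀, fun n hn => ?_⟩
      have hS := LinearMap.shortExact_shortComplexKer (gn_surjective (A := A) n)
      have := (epi_map_g_iff_mono_map_f P hfl _ hS (p + 1) p rfl).2 (key n hn).1
      exact (ModuleCat.epi_iff_surjective _).1 this
    exact ⟨(preservesEpi_iff_preservesMono P hfl (p + 1) p rfl).1 hepi', hepi⟩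

end Noeth

end Groth.Agent.H2.LenPow
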