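import Groth.Agent.Lib.Helper2.MumV
import Groth.Agent.Lib.Helper2.LenPow

/-! # Cohomological flatness over a local base via lengths (helper2) -/

set_option autoImplicit false
set_option linter.style.haveILetI false
universe u

open CategoryTheory CategoryTheory.Limits AlgebraicGeometry Opposite TopologicalSpace TensorProduct

namespace Groth.Agent.H2.Mum

open Groth.Agent.LD Groth.Agent.LD.QC

section lin

variable (A : Type u) [CommRing A] {X : Scheme.{u}} [X.Over (Spec (CommRingCat.of A))]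
  {ι : Type u} (U : ι → X.Opens) (F : X.Modules)
variable [Finite ι] [F.IsQuasicoherent]
  (haff : ∀ (n : ℕ) (a : Fin (n + 1) → ι), IsAffineOpen (⨅ k, U (a k))) (hU : iSup U = ⊤)
  (L : CochainComplex (ModuleCat.{u} A) ℤ) (v : L ⟶ CZ A U F)
  (hq : ∀ M : ModuleCat.{u} A, QuasiIso
    (((MonoidalCategory.tensorRight M).mapHomologicalComplex (ComplexShape.up ℤ)).map v))

/-- the `A`-linear comparison `H^p(L ⊗ M) ≃ H^p(X, f^*(M~) ⊗ F)`. -/
noncomputable def EMLin (M : ModuleCat.{u} A) (p : ℕ) :
    ((CohIII.tensorObj L M).homology (p : ℤ) : ModuleCat.{u} A) ≃ₗ[A] Coh.HH X (TF A F M) p :=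
  (ΨIso A U F haff L v hq M p).toLinearEquiv.trans (hEquivLin A U haff hU (TF A F M) p)

/-- the same for the flipped (chain) complex. -/
noncomputable def EMLinFlip (M : ModuleCat.{u} A) (p : ℕ) :
    ((CohIII.TFun (flip L) (-(p : ℤ))).obj M) ≃ₗ[A] Coh.HH X (TF A F M) p :=
  ((flipTFunIso L (p : ℤ)).app M).toLinearEquiv.trans (EMLin A U F haff hU L v hq M p)

end lin

/-- **EGA III 7.8: (b) ⇔ (c)** over a Noetherian local base. -/
theorem cohFlat_iff_length (A : Type u) [CommRing A] [IsNoetherianRing A] [IsLocalRing A]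
    (X : Scheme.{u}) [X.Over (Spec (CommRingCat.of A))]
    [IsProper (X ↘ Spec (CommRingCat.of A))] (F : X.Modules) (hF : Coh.IsCoh F)
    (hfl : FlatMod.IsFlatOver (X ↘ Spec (CommRingCat.of A)) F) (p : ℕ) :
    ((CohIII.tensorAFunctor A F ⋙ CohIII.HAb X p).PreservesMonomorphisms ∧
        (CohIII.tensorAFunctor A F ⋙ CohIII.HAb X p).PreservesEpimorphisms) ↔
      ∃ n₀ : ℕ, ∀ n : ℕ, n₀ ≤ n →
        Module.length A (Coh.HH X ((CohIII.tensorAFunctor A F).obj
            (ModuleCat.of A (A ⧸ IsLocalRing.maximalIdeal A ^ (n + 1)))) p) =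
          Module.length A (Coh.HH X ((CohIII.tensorAFunctor A F).obj
              (ModuleCat.of A (IsLocalRing.ResidueField A))) p) *
            Module.length A (A ⧸ IsLocalRing.maximalIdeal A ^ (n + 1)) := by
  obtain ⟨ι, hfin, U, haff, hU, L, v, hL, hb, hv, hq⟩ := exists_resolution' A X F hF hfl
  haveI := hfin
  haveI : F.IsQuasicoherent := hF.1
  have e0 := natIso A U F haff hU L v hq p
  have e0' := flipNatIso L (p : ℤ) e0
  have hP := flip_finite_flat L hL
  have hlen : ∀ M : ModuleCat.{u} A,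
      Module.length A (Coh.HH X ((CohIII.tensorAFunctor A F).obj M) p) =
        Module.length A ((CohIII.TFun (flip L) (-(p : ℤ))).obj M) := fun M =>
    (EMLinFlip A U F haff hU L v hq M p).length_eq.symm
  rw [preservesMono_iff e0', preservesEpi_iff e0',
    Groth.Agent.H2.LenPow.exact_iff_length_pow (flip L) hP (-(p : ℤ))]
  simp only [hlen]

end Groth.Agent.H2.Mum
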