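import Groth.Agent.Lib.Helper2.EtD
import Groth.Agent.Lib.Helper2.MumY
import Groth.Agent.Lib.Helper8.TFunLocal3
import Groth.Agent.H4.RPC27

/-!
# Cohomological flatness in degree zero over a local base when the closed fibre has étale
global functions (EGA III 7.8.6, local form) (helper2)
-/

set_option autoImplicit false
set_option linter.style.haveILetI false
universe u

open CategoryTheory CategoryTheory.Limits AlgebraicGeometry Opposite TopologicalSpace TensorProduct

namespace Groth.Agent.H2.EtH0

open Groth.Agent.H2.Mum Groth.Agent.LD Groth.Agent.LD.QC Polynomial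

/-- surjectivity transfers along a natural isomorphism. -/
lemma surjective_map_iff_of_natIso {A : Type u} [CommRing A]
    {F G : ModuleCat.{u} A ⥤ ModuleCat.{u} A} (Θ : F ≅ G) {M N : ModuleCat.{u} A} (f : M ⟶ N) :
    Function.Surjective (F.map f).hom ↔ Function.Surjective (G.map f).hom := by
  rw [← ModuleCat.epi_iff_surjective, ← ModuleCat.epi_iff_surjective]
  have h := Θ.hom.naturality f
  constructor
  · intro _
    have : Epi (Θ.hom.app M ≫ G.map f) := by
      rw [← h]
      infer_instance
    have e : G.map f = Θ.inv.app M ≫ (Θ.hom.app M ≫ G.map f) := by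
      rw [← Category.assoc, Iso.inv_hom_id_app, Category.id_comp]
    rw [e]
    infer_instance
  · intro _
    have : Epi (F.map f ≫ Θ.hom.app N) := by
      rw [h]
      infer_instance
    have e : F.map f = (F.map f ≫ Θ.hom.app N) ≫ Θ.inv.app N := by
      rw [Category.assoc, Iso.hom_inv_id_app, Category.comp_id]
    rw [e]
    infer_instance

/-- a functor with zero values preserves epimorphisms. -/
lemma preservesEpi_of_isZero {C D : Type*} [Category C] [Category D] [HasZeroMorphisms D]
    (F : C ⥤ D) (h : ∀ X, IsZero (F.obj X)) : F.PreservesEpimorphisms :=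
  ⟨fun {_ Y} _ _ => ⟨fun {_} a b _ => (h Y).eq_of_src a b⟩⟩

section fibre

variable {X Y : Scheme.{u}} (f : X ⟶ Y) (y : Y)

/-- separability of the global functions of a fibre with étale ring of global functions. -/
lemma fibre_separable
    (het : Algebra.Etale (Y.residueField y) Γ(f.fiber y, ⊤))
    [inst : (f.fiber y).Over (Spec (CommRingCat.of (Y.residueField y)))]
    (hinst : inst = ⟨f.fiberToSpecResidueField y⟩) (t : Γ(f.fiber y, ⊤)) :
    ∃ q : (Y.residueField y)[X], q.Separable ∧
      q.eval₂ (ρ (Y.residueField y) (⊤ : (f.fiber y).Opens)) t = 0 := by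
  subst hinst
  letI : (f.fiber y).Over (Spec (CommRingCat.of (Y.residueField y))) :=
    ⟨f.fiberToSpecResidueField y⟩
  obtain ⟨q, hq, h0⟩ := exists_separable_of_etale (Y.residueField y) Γ(f.fiber y, ⊤) t
  refine ⟨q, hq, ?_⟩
  have e : ρ (Y.residueField y) (⊤ : (f.fiber y).Opens) =
      algebraMap (Y.residueField y) Γ(f.fiber y, ⊤) := by
    refine RingHom.ext fun c => ?_
    have h1 := resTop_toGlobal (X := f.fiber y) (Y.residueField y) ⊤ c
    rw [← h1]
    change (f.fiber y).presheaf.map _ _ = _
    have : (homOfLE (le_top : (⊤ : (f.fiber y).Opens) ≤ ⊤)) = 𝟙 _ := Subsingleton.elim _ _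
    erw [this, op_id, CategoryTheory.Functor.map_id]
    rfl
  rw [e]
  exact h0

end fibre

/-- **EGA III 7.8.6 (local base)**: over a Noetherian local ring, a proper flat scheme whose
closed fibre has an étale ring of global functions is cohomologically flat in degree `0`. -/
theorem cohFlat_zero_of_etale (A : Type u) [CommRing A]
    [IsNoetherianRing A] [IsLocalRing A] (X : Scheme.{u}) [X.Over (Spec (CommRingCat.of A))]
    [IsProper (X ↘ Spec (CommRingCat.of A))] [Flat (X ↘ Spec (CommRingCat.of A))]
    (y : ↥(Spec (CommRingCat.of A))) (hy : y.asIdeal = IsLocalRing.maximalIdeal A)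
    (het : Algebra.Etale ((Spec (CommRingCat.of A)).residueField y)
      Γ((X ↘ Spec (CommRingCat.of A)).fiber y, ⊤)) :
    (CohIII.tensorAFunctor A (Coh.structureModule X) ⋙ CohIII.HAb X 0).PreservesMonomorphisms ∧
      (CohIII.tensorAFunctor A (Coh.structureModule X) ⋙ CohIII.HAb X 0).PreservesEpimorphisms := by
  have hF : Coh.IsCoh (OX X) := PF.isCoh_unitMod X
  have hfl : FlatMod.IsFlatOver (X ↘ Spec (CommRingCat.of A)) (OX X) :=
    (Groth.Agent.H4.RPC27.isFlatOver_structureModule_iff (X ↘ Spec (CommRingCat.of A))).2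
      inferInstance
  obtain ⟨ι, hfin, U, haff, hU, L, v, hL, hb, hv, hq⟩ := exists_resolution' A X (OX X) hF hfl
  haveI := hfin
  have e0 := natIso A U (OX X) haff hU L v hq 0
  have e0' := flipNatIso L ((0 : ℕ) : ℤ) e0
  have hP := flip_finite_flat L hL
  rw [preservesMono_iff e0', preservesEpi_iff e0']
  -- the fibre
  let K := (Spec (CommRingCat.of A)).residueField y
  let φ : CommRingCat.of A ⟶ (Spec (CommRingCat.of A)).residueField y :=
    Spec.preimage ((Spec (CommRingCat.of A)).fromSpecResidueField y)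
  letI algK : Algebra A K := φ.hom.toAlgebra
  letI ovK : ((X ↘ Spec (CommRingCat.of A)).fiber y).Over (Spec (CommRingCat.of K)) :=
    ⟨(X ↘ Spec (CommRingCat.of A)).fiberToSpecResidueField y⟩
  have hφ : Spec.map (CommRingCat.ofHom (algebraMap A K)) =
      (Spec (CommRingCat.of A)).fromSpecResidueField y := Spec.map_preimage _
  have sq : IsPullback ((X ↘ Spec (CommRingCat.of A)).fiberι y)
      (((X ↘ Spec (CommRingCat.of A)).fiber y) ↘ Spec (CommRingCat.of K))
      (X ↘ Spec (CommRingCat.of A)) (Spec.map (CommRingCat.ofHom (algebraMap A K))) := by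
    rw [hφ]
    exact IsPullback.of_hasPullback _ _
  have hmono : Mono (Spec.map (CommRingCat.ofHom (algebraMap A K))) := by
    rw [hφ]
    infer_instance
  have hker : ∀ a ∈ IsLocalRing.maximalIdeal A, algebraMap A K a = 0 := by
    have h1 : (Spec.map (CommRingCat.ofHom (algebraMap A K))) (IsLocalRing.closedPoint K) = y := by
      rw [hφ]
      exact Scheme.fromSpecResidueField_apply y _
    intro a ha
    rw [← hy, ← h1] at ha
    have h2 : a ∈ Ideal.comap (algebraMap A K) (IsLocalRing.maximalIdeal K) := ha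
    rw [IsLocalRing.maximalIdeal_eq_bot] at h2
    exact h2
  letI : Field (A ⧸ IsLocalRing.maximalIdeal A) :=
    Ideal.Quotient.field (IsLocalRing.maximalIdeal A)
  let e : (A ⧸ IsLocalRing.maximalIdeal A) →ₐ[A] K :=
    Ideal.Quotient.liftₐ (IsLocalRing.maximalIdeal A) (Algebra.ofId A K) hker
  have he : Function.Bijective e := bijective_of_mono_Spec A _ K e hmono
  have hsep := fibre_separable (X ↘ Spec (CommRingCat.of A)) y het rfl
  -- epimorphisms
  have hepi : (CohIII.TFun (flip L) (-((0 : ℕ) : ℤ))).PreservesEpimorphisms := by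
    refine (Groth.Agent.H8.TFun.preservesEpi_iff_surjective_pow (flip L) hP _).2
      ⟨0, fun n _ => ?_⟩
    let Θ : CohIII.TFun (flip L) (-((0 : ℕ) : ℤ)) ≅
        CohIII.tensorAFunctor A (OX X) ⋙ CohIII.globalSectionsA A :=
      flipTFunIso L ((0 : ℕ) : ℤ) ≪≫ gsNatIso A U (OX X) haff hU L v hq
    rw [surjective_map_iff_of_natIso Θ]
    refine surjective_of_fibre_separable A K ((X ↘ Spec (CommRingCat.of A)).fiberι y) sq U haff hU
      hsep (Ideal.Quotient.factorₐ A (Ideal.pow_le_self (I := IsLocalRing.maximalIdeal A)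
        (Nat.succ_ne_zero n)))
      (Ideal.Quotient.factor_surjective (Ideal.pow_le_self (Nat.succ_ne_zero n))) ?_ e he
    intro r hr
    obtain ⟨a, rfl⟩ := Ideal.Quotient.mk_surjective r
    have ha : a ∈ IsLocalRing.maximalIdeal A := Ideal.Quotient.eq_zero_iff_mem.1 hr
    refine ⟨n + 1, ?_⟩
    rw [← map_pow]
    exact Ideal.Quotient.eq_zero_iff_mem.2 (Ideal.pow_mem_pow ha (n + 1))
  refine ⟨?_, hepi⟩
  have hz : (CohIII.TFun (flip L) (-((0 : ℕ) : ℤ) + 1)).PreservesEpimorphisms :=
    preservesEpi_of_isZero _ (fun M =>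
      isZero_TFun_flip_pos A (OX X) U L v hq M _ (by norm_num))
  exact Groth.Agent.H8.TFun.preservesMono_of_preservesEpi (flip L) (fun i => (hP i).2)
    (-((0 : ℕ) : ℤ) + 1) (-((0 : ℕ) : ℤ)) rfl hz

end Groth.Agent.H2.EtH0
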