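import Groth.Agent.Lib.Helper2.MumV
import Groth.Agent.Lib.Helper8.TFunBC

/-! # Universal quasi-isomorphisms and base change (helper2)

`(N ⊗_A B) ⊗_B M' ≅ N ⊗_A M'`, naturally in `N`; universal quasi-isomorphisms stay universal
quasi-isomorphisms after extension of scalars. -/

set_option autoImplicit false
set_option linter.style.haveILetI false
universe u

open CategoryTheory CategoryTheory.Limits AlgebraicGeometry Opposite TopologicalSpace TensorProduct

namespace Groth.Agent.H2.Mum

open Groth.Agent.H8.ExtBridge

section general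

variable {A B : Type u} [CommRing A] [CommRing B] [Algebra A B]
variable (N : Type u) [AddCommGroup N] [Module A N] (M' : Type u) [AddCommGroup M']
  [Module B M'] [Module A M'] [IsScalarTower A B M']

/-- `(B ⊗_A N) ⊗_B M' ≃+ N ⊗_A M'`. -/
noncomputable def sigAdd : (B ⊗[A] N) ⊗[B] M' ≃+ N ⊗[A] M' :=
  ((TensorProduct.comm B (B ⊗[A] N) M').toAddEquiv.trans
    (TensorProduct.AlgebraTensorModule.cancelBaseChange A B B M' N).toAddEquiv).trans
    (TensorProduct.comm A M' N).toAddEquiv

lemma sigAdd_tmul (b : B) (n : N) (m : M') :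
    sigAdd N M' ((b ⊗ₜ[A] n) ⊗ₜ[B] m) = n ⊗ₜ[A] (b • m) := by
  simp [sigAdd]

lemma sigAdd_smul (a : A) (z : (B ⊗[A] N) ⊗[B] M') :
    sigAdd N M' ((algebraMap A B a) • z) = a • sigAdd N M' z := by
  induction z using TensorProduct.induction_on with
  | zero => simp
  | add x y hx hy => rw [smul_add, map_add, map_add, hx, hy, smul_add]
  | tmul x m =>
    induction x using TensorProduct.induction_on with
    | zero => simp
    | add x y hx hy =>
      rw [add_tmul, smul_add, map_add, map_add, hx, hy, smul_add]
    | tmul b n =>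
      rw [TensorProduct.smul_tmul', TensorProduct.smul_tmul', sigAdd_tmul, sigAdd_tmul,
        smul_eq_mul, mul_smul, algebraMap_smul, TensorProduct.tmul_smul]

end general

section natiso

variable {A B : Type u} [CommRing A] [CommRing B] [Algebra A B] (M' : ModuleCat.{u} B)

/-- the restriction of scalars of `M'`. -/
noncomputable abbrev Mr : ModuleCat.{u} A := (ModuleCat.restrictScalars (algebraMap A B)).obj M'

instance : IsScalarTower A B (Mr (A := A) M') :=
  IsScalarTower.of_algebraMap_smul fun _ _ => rfl

/-- the additive comparison `(ext N) ⊗_B M' ≃+ N ⊗_A M'`. -/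
noncomputable def sigmaAdd (N : ModuleCat.{u} A) :
    (((ModuleCat.extendScalars (algebraMap A B)).obj N) ⊗[B] M') ≃+ (N ⊗[A] (Mr (A := A) M')) :=
  (TensorProduct.congr (extEquiv (B := B) N) (LinearEquiv.refl B M')).toAddEquiv.trans
    (sigAdd (B := B) N (Mr (A := A) M'))

open ChangeOfRings in
lemma sigmaAdd_tmul (N : ModuleCat.{u} A) (b : B) (n : N) (m : M') :
    sigmaAdd M' N ((b ⊗ₜ[A,algebraMap A B] n : (ModuleCat.extendScalars (algebraMap A B)).obj N)
      ⊗ₜ[B] m) = n ⊗ₜ[A] (show Mr (A := A) M' from b • m) := by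
  change sigAdd (B := B) N (Mr (A := A) M') ((b ⊗ₜ[A] n) ⊗ₜ[B] m) = _
  rw [sigAdd_tmul]
  rfl

lemma sigmaAdd_smul (N : ModuleCat.{u} A) (a : A)
    (z : ((ModuleCat.extendScalars (algebraMap A B)).obj N) ⊗[B] M') :
    sigmaAdd M' N ((algebraMap A B a) • z) = a • sigmaAdd M' N z := by
  change sigAdd (B := B) N (Mr (A := A) M')
    (TensorProduct.congr (extEquiv (B := B) N) (LinearEquiv.refl B M') ((algebraMap A B a) • z)) = _
  rw [LinearEquiv.map_smul]
  exact sigAdd_smul N (Mr (A := A) M') a _

open ChangeOfRings in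
lemma sigmaAdd_naturality {N N' : ModuleCat.{u} A} (h : N ⟶ N')
    (z : ((ModuleCat.extendScalars (algebraMap A B)).obj N) ⊗[B] M') :
    sigmaAdd M' N' (LinearMap.rTensor M' ((ModuleCat.extendScalars (algebraMap A B)).map h).hom z) =
      LinearMap.rTensor (Mr (A := A) M') h.hom (sigmaAdd M' N z) := by
  induction z using TensorProduct.induction_on with
  | zero => simp
  | add x y hx hy => rw [map_add, map_add, hx, hy, map_add, map_add]
  | tmul x m =>
    induction x using ext_induction with
    | zero => simp
    | add x y hx hy =>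
      rw [add_tmul, map_add, map_add, hx, hy, map_add, map_add]
    | tmul b n =>
      rw [LinearMap.rTensor_tmul, sigmaAdd_tmul]
      change sigmaAdd M' N' ((b ⊗ₜ[A,algebraMap A B] (h.hom n) :
        (ModuleCat.extendScalars (algebraMap A B)).obj N') ⊗ₜ[B] m) = _
      rw [sigmaAdd_tmul, LinearMap.rTensor_tmul]

/-- the `A`-linear comparison. -/
noncomputable def sigmaEquiv (N : ModuleCat.{u} A) :
    ((MonoidalCategory.tensorRight (Mr (A := A) M')).obj N) ≃ₗ[A]
      ((ModuleCat.restrictScalars (algebraMap A B)).obj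
        ((MonoidalCategory.tensorRight M').obj
          ((ModuleCat.extendScalars (algebraMap A B)).obj N))) where
  toFun w := (sigmaAdd M' N).symm w
  invFun z := sigmaAdd M' N z
  map_add' x y := map_add (sigmaAdd M' N).symm x y
  map_smul' a w := by
    apply (sigmaAdd M' N).injective
    rw [RingHom.id_apply]
    change sigmaAdd M' N ((sigmaAdd M' N).symm (a • w)) =
      sigmaAdd M' N ((algebraMap A B a) • (sigmaAdd M' N).symm w)
    rw [sigmaAdd_smul, AddEquiv.apply_symm_apply, AddEquiv.apply_symm_apply]
  left_inv w := (sigmaAdd M' N).apply_symm_apply w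
  right_inv z := (sigmaAdd M' N).symm_apply_apply z

/-- `- ⊗_A M' ≅ restrict ((extend -) ⊗_B M')` as functors. -/
noncomputable def sigmaNatIso :
    MonoidalCategory.tensorRight (Mr (A := A) M') ≅
      ModuleCat.extendScalars.{u, u, u} (algebraMap A B) ⋙ MonoidalCategory.tensorRight M' ⋙
        ModuleCat.restrictScalars.{u, u, u} (algebraMap A B) :=
  NatIso.ofComponents (fun N => (sigmaEquiv M' N).toModuleIso)
    (fun {N N'} h => by
      refine ModuleCat.hom_ext (LinearMap.ext fun w => ?_)
      apply (sigmaAdd M' N').injective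
      change sigmaAdd M' N' ((sigmaAdd M' N').symm (LinearMap.rTensor (Mr (A := A) M') h.hom w)) =
        sigmaAdd M' N' (LinearMap.rTensor M'
          ((ModuleCat.extendScalars (algebraMap A B)).map h).hom ((sigmaAdd M' N).symm w))
      rw [sigmaAdd_naturality, AddEquiv.apply_symm_apply, AddEquiv.apply_symm_apply])

variable {ι : Type} {c : ComplexShape ι}

/-- universal quasi-isomorphisms stay universal quasi-isomorphisms after extension of scalars. -/
lemma quasiIso_tensor_bcCx {K K' : HomologicalComplex (ModuleCat.{u} A) c} (f : K ⟶ K')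
    (h : QuasiIso (((MonoidalCategory.tensorRight (Mr (A := A) M')).mapHomologicalComplex c).map
      f)) :
    QuasiIso (((MonoidalCategory.tensorRight M').mapHomologicalComplex c).map
      (((ModuleCat.extendScalars.{u, u, u} (algebraMap A B)).mapHomologicalComplex c).map f)) := by
  rw [← HomologicalComplex.quasiIso_map_iff_of_preservesHomology _
    (ModuleCat.restrictScalars.{u, u, u} (algebraMap A B))]
  let η := NatIso.mapHomologicalComplex (sigmaNatIso (A := A) M') c
  have e : Arrow.mk (((MonoidalCategory.tensorRight (Mr (A := A) M')).mapHomologicalComplex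
      c).map f) ≅ Arrow.mk (((ModuleCat.restrictScalars.{u, u, u}
        (algebraMap A B)).mapHomologicalComplex c).map
      (((MonoidalCategory.tensorRight M').mapHomologicalComplex c).map
      (((ModuleCat.extendScalars.{u, u, u} (algebraMap A B)).mapHomologicalComplex c).map f))) :=
    Arrow.isoMk (η.app K) (η.app K') (by
      have := η.hom.naturality f
      exact this.symm)
  exact (_root_.quasiIso_iff_of_arrow_mk_iso _ _ e).1 h

end natiso

section TFunIso

variable {A : Type u} [CommRing A] {ι : Type} {c : ComplexShape ι}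

/-- isomorphic complexes have isomorphic `T`-functors. -/
noncomputable def TFunMapIso {P P' : HomologicalComplex (ModuleCat.{u} A) c} (e : P ≅ P') (q : ι) :
    CohIII.TFun P q ≅ CohIII.TFun P' q :=
  NatIso.ofComponents
    (fun M => HomologicalComplex.homologyMapIso
      (((MonoidalCategory.tensorRight M).mapHomologicalComplex c).mapIso e) q)
    (fun {M M'} h => by
      change HomologicalComplex.homologyMap (CohIII.tensorMap P h) q ≫
        HomologicalComplex.homologyMap
          (((MonoidalCategory.tensorRight M').mapHomologicalComplex c).map e.hom) q =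
        HomologicalComplex.homologyMap
          (((MonoidalCategory.tensorRight M).mapHomologicalComplex c).map e.hom) q ≫
          HomologicalComplex.homologyMap (CohIII.tensorMap P' h) q
      rw [← HomologicalComplex.homologyMap_comp, ← HomologicalComplex.homologyMap_comp]
      congr 1
      exact ((NatTrans.mapHomologicalComplex
        ((MonoidalCategory.tensoringRight (ModuleCat.{u} A)).map h) c).naturality e.hom).symm)

end TFunIso

section main

open Groth.Agent.LD Groth.Agent.LD.QC

variable (A B : Type u) [CommRing A] [CommRing B] [Algebra A B]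
  {X X' : Scheme.{u}} [X.Over (Spec (CommRingCat.of A))] [X'.Over (Spec (CommRingCat.of B))]
  (g : X' ⟶ X) (F : X.Modules) {ι : Type u} (U : ι → X.Opens) [Finite ι] [F.IsQuasicoherent]
  (sq : IsPullback g (X' ↘ Spec (CommRingCat.of B)) (X ↘ Spec (CommRingCat.of A))
    (Spec.map (CommRingCat.ofHom (algebraMap A B))))
  (haff : ∀ (n : ℕ) (a : Fin (n + 1) → ι), IsAffineOpen (⨅ k, U (a k))) (hU : iSup U = ⊤)
  (L : CochainComplex (ModuleCat.{u} A) ℤ) (v : L ⟶ CZ A U F)
  (hq : ∀ M : ModuleCat.{u} A, QuasiIso
    (((MonoidalCategory.tensorRight M).mapHomologicalComplex (ComplexShape.up ℤ)).map v))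

/-- the extension of an isomorphism of complexes. -/
noncomputable def extendMapIso {C : Type*} [Category C] [HasZeroMorphisms C] [HasZeroObject C]
    {κ κ' : Type*} {c : ComplexShape κ} {c' : ComplexShape κ'} {K K' : HomologicalComplex C c}
    (e : K ≅ K') (em : c.Embedding c') : K.extend em ≅ K'.extend em where
  hom := HomologicalComplex.extendMap e.hom em
  inv := HomologicalComplex.extendMap e.inv em
  hom_inv_id := by
    rw [← HomologicalComplex.extendMap_comp, Iso.hom_inv_id, HomologicalComplex.extendMap_id]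
  inv_hom_id := by
    rw [← HomologicalComplex.extendMap_comp, Iso.inv_hom_id, HomologicalComplex.extendMap_id]

/-- `(CZ A U F) ⊗_A B ≅ CZ B (g⁻¹U) (g^*F)`. -/
noncomputable def bcCZIso :
    CohIII.bcCx (algebraMap A B) (CZ A U F) ≅ CZ B (Upre g U) (pbF g F) :=
  extendMapHCIso eN (ModuleCat.extendScalars.{u, u, u} (algebraMap A B)) (CA A U F) ≪≫
    extendMapIso (bcIso A B g F U sq haff) eN

/-- the base-changed comparison map. -/
noncomputable def vbc : CohIII.bcCx (algebraMap A B) L ⟶ CZ B (Upre g U) (pbF g F) :=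
  ((ModuleCat.extendScalars.{u, u, u} (algebraMap A B)).mapHomologicalComplex
      (ComplexShape.up ℤ)).map v ≫ (bcCZIso A B g F U sq haff).hom

include hq in
lemma vbc_quasiIso (M' : ModuleCat.{u} B) : QuasiIso
    (((MonoidalCategory.tensorRight M').mapHomologicalComplex (ComplexShape.up ℤ)).map
      (vbc A B g F U sq haff L v)) := by
  unfold vbc
  rw [Functor.map_comp]
  haveI h1 := quasiIso_tensor_bcCx M' v (hq (Mr (A := A) M'))
  haveI h2 : IsIso (((MonoidalCategory.tensorRight M').mapHomologicalComplex
      (ComplexShape.up ℤ)).map (bcCZIso A B g F U sq haff).hom) :=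
    (((MonoidalCategory.tensorRight M').mapHomologicalComplex
      (ComplexShape.up ℤ)).mapIso (bcCZIso A B g F U sq haff)).isIso_hom
  haveI h3 : QuasiIso (((MonoidalCategory.tensorRight M').mapHomologicalComplex
      (ComplexShape.up ℤ)).map (bcCZIso A B g F U sq haff).hom) := quasiIso_of_isIso _
  exact quasiIso_comp _ _

/-- the natural isomorphism after base change. -/
noncomputable def natIsoBC (p : ℕ) :
    CohIII.TFun (CohIII.bcCx (algebraMap A B) L) (p : ℤ) ⋙
        forget₂ (ModuleCat.{u} B) AddCommGrpCat.{u} ≅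
      CohIII.tensorAFunctor B (pbF g F) ⋙ CohIII.HAb X' p :=
  natIso B (Upre g U) (pbF g F) (haff_pre A B g U sq haff) (hU_pre g U hU)
    (CohIII.bcCx (algebraMap A B) L) (vbc A B g F U sq haff L v)
    (vbc_quasiIso A B g F U sq haff L v hq) p

end main

/-- **exactness properties of `T^p` pass to an arbitrary affine base change.** -/
theorem preserves_baseChange (A A' : Type u) [CommRing A] [IsNoetherianRing A]
    [CommRing A'] [Algebra A A'] (X X' : Scheme.{u}) [X.Over (Spec (CommRingCat.of A))]
    [X'.Over (Spec (CommRingCat.of A'))] [IsProper (X ↘ Spec (CommRingCat.of A))] (g' : X' ⟶ X)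
    (hsq : IsPullback g' (X' ↘ Spec (CommRingCat.of A')) (X ↘ Spec (CommRingCat.of A))
      (Spec.map (CommRingCat.ofHom (algebraMap A A'))))
    (F : X.Modules) (hF : Coh.IsCoh F)
    (hfl : FlatMod.IsFlatOver (X ↘ Spec (CommRingCat.of A)) F) (p : ℕ) :
    ((CohIII.tensorAFunctor A F ⋙ CohIII.HAb X p).PreservesEpimorphisms →
        (CohIII.tensorAFunctor A' ((Scheme.Modules.pullback g').obj F) ⋙
          CohIII.HAb X' p).PreservesEpimorphisms) ∧
      ((CohIII.tensorAFunctor A F ⋙ CohIII.HAb X p).PreservesMonomorphisms →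
        (CohIII.tensorAFunctor A' ((Scheme.Modules.pullback g').obj F) ⋙
          CohIII.HAb X' p).PreservesMonomorphisms) := by
  obtain ⟨ι, hfin, U, haff, hU, L, v, hL, hb, hv, hq⟩ := exists_resolution' A X F hF hfl
  haveI := hfin
  haveI : F.IsQuasicoherent := hF.1
  have e0 := natIso A U F haff hU L v hq p
  have e1 := natIsoBC A A' g' F U hsq haff hU L v hq p
  have hP := flip_finite_flat L hL
  have hfl' := fun i => (hP i).2
  have eflip : CohIII.TFun (CohIII.bcCx (algebraMap A A') (flip L)) (-(p : ℤ)) ≅
      CohIII.TFun (CohIII.bcCx (algebraMap A A') L) (p : ℤ) :=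
    TFunMapIso (extendMapHCIso eNeg (ModuleCat.extendScalars.{u, u, u} (algebraMap A A')) L)
      (-(p : ℤ)) ≪≫ flipTFunIso (CohIII.bcCx (algebraMap A A') L) (p : ℤ)
  constructor
  · intro h
    rw [preservesEpi_iff e0] at h
    haveI := h
    have h1 : (CohIII.TFun (flip L) (-(p : ℤ))).PreservesEpimorphisms :=
      Functor.preservesEpimorphisms.of_iso (flipTFunIso L (p : ℤ)).symm
    haveI := Groth.Agent.H8.TFun.preservesEpi_bcCx (B := A') (flip L) hfl' (-(p : ℤ)) h1
    have h3 : (CohIII.TFun (CohIII.bcCx (algebraMap A A') L) (p : ℤ)).PreservesEpimorphisms :=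
      Functor.preservesEpimorphisms.of_iso eflip
    exact (preservesEpi_iff e1).2 h3
  · intro h
    rw [preservesMono_iff e0] at h
    haveI := h
    have h1 : (CohIII.TFun (flip L) (-(p : ℤ))).PreservesMonomorphisms :=
      Functor.preservesMonomorphisms.of_iso (flipTFunIso L (p : ℤ)).symm
    haveI := Groth.Agent.H8.TFun.preservesMono_bcCx (B := A') (flip L) hfl' (-(p : ℤ)) h1
    have h3 : (CohIII.TFun (CohIII.bcCx (algebraMap A A') L) (p : ℤ)).PreservesMonomorphisms :=
      Functor.preservesMonomorphisms.of_iso eflip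
    exact (preservesMono_iff e1).2 h3

end Groth.Agent.H2.Mum
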