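import Groth.Agent.Lib.Helper2.RpC4

/-!
# Local freeness of `R^p f_* F` from exactness of `T_{-p}` (helper2)
-/

set_option autoImplicit false
set_option linter.style.haveILetI false
universe u

open CategoryTheory CategoryTheory.Limits AlgebraicGeometry Opposite TopologicalSpace

namespace Groth.Agent.H2.RpC

open Groth.Agent.LD Groth.Agent.LD.QC

section LC

variable {Y : Scheme.{u}} (V : Y.Opens) [IsAffine V.toScheme]

/-- a function on `Spec Γ(V, O)` whose pullback to `V` is locally constant is locally constant. -/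
lemma isLocallyConstant_of_comp_toSpecΓ {α : Type*} (g : PrimeSpectrum Γ(V.toScheme, ⊤) → α)
    (φ : Y → α) (hφ : IsLocallyConstant φ)
    (h : ∀ (y : Y) (hy : y ∈ V), φ y = g (V.toScheme.toSpecΓ ⟨y, hy⟩)) :
    IsLocallyConstant g := by
  have h1 : IsLocallyConstant (fun z : V.toScheme => φ z.1) :=
    hφ.comp_continuous continuous_subtype_val
  have h2 : IsLocallyConstant (fun x : Spec Γ(V.toScheme, ⊤) =>
      φ (V.toScheme.isoSpec.inv x).1) :=
    h1.comp_continuous V.toScheme.isoSpec.inv.continuous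
  have h3 : (fun x : Spec Γ(V.toScheme, ⊤) => φ (V.toScheme.isoSpec.inv x).1) = g := by
    funext x
    rw [h _ (V.toScheme.isoSpec.inv x).2]
    congr 1
    have h4 : (V.toScheme.isoSpec.inv ≫ V.toScheme.toSpecΓ) x = x := by
      rw [← Scheme.isoSpec_hom, Iso.inv_hom_id]
      rfl
    exact h4
  rw [← h3]
  exact h2

/-- conversely, local constancy on `Spec Γ(V, O)` gives local constancy near the points of `V`. -/
lemma exists_open_const_of_isLocallyConstant {α : Type*}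
    (g : PrimeSpectrum Γ(V.toScheme, ⊤) → α) (hg : IsLocallyConstant g) (φ : Y → α)
    (h : ∀ (y : Y) (hy : y ∈ V), φ y = g (V.toScheme.toSpecΓ ⟨y, hy⟩)) (y : Y) (hy : y ∈ V) :
    ∃ U : Set Y, IsOpen U ∧ y ∈ U ∧ ∀ y' ∈ U, φ y' = φ y := by
  have h1 : IsLocallyConstant (fun z : V.toScheme => g (V.toScheme.toSpecΓ z)) :=
    hg.comp_continuous V.toScheme.toSpecΓ.continuous
  obtain ⟨W, hW, hyW, hc⟩ := (IsLocallyConstant.iff_exists_open _).1 h1 ⟨y, hy⟩
  refine ⟨Subtype.val '' W, V.isOpen.isOpenMap_subtype_val W hW, ⟨⟨y, hy⟩, hyW, rfl⟩, ?_⟩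
  rintro _ ⟨z, hz, rfl⟩
  rw [h z.1 z.2, h y hy]
  exact hc z hz

end LC


section Main

variable {Y : Scheme.{u}} (N : Y.Modules) [N.IsQuasicoherent] (V : Y.Opens) [IsAffine V.toScheme]
  [IsNoetherianRing Γ(V.toScheme, ⊤)]

/-- if `T_q` is exact and the sections of `N` over `V` are `H_q(P)`, then `N` is free of rank
`d_q` near every point of `V`. -/
theorem exists_restrict_iso_freeMod_of_exact
    (P : ChainComplex (ModuleCat.{u} Γ(V.toScheme, ⊤)) ℤ)
    (hP : ∀ i, Module.Finite Γ(V.toScheme, ⊤) (P.X i) ∧ Module.Flat Γ(V.toScheme, ⊤) (P.X i))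
    (q : ℤ)
    (hex : (CohIII.TFun P q).PreservesMonomorphisms ∧ (CohIII.TFun P q).PreservesEpimorphisms)
    (ℓ : Γ(N.restrict V.ι, ⊤) ≃ₗ[Γ(V.toScheme, ⊤)] P.homology q) (y : Y) (hy : y ∈ V) :
    ∃ U : Y.Opens, y ∈ U ∧ U ≤ V ∧ Nonempty (N.restrict U.ι ≅
      FlatMod.freeMod U (CohIII.dRank P q (V.toScheme.toSpecΓ ⟨y, hy⟩))) := by
  obtain ⟨hfl, hfin, hrk⟩ := flat_finite_rank_of_exact P hP q hex
  haveI := hfl
  haveI := hfin
  haveI : Module.FinitePresentation Γ(V.toScheme, ⊤) (P.homology q) :=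
    Module.finitePresentation_of_finite _ _
  have := exists_restrict_iso_freeMod_of_flat N V (P.homology q) ℓ y hy
  rw [hrk] at this
  exact this

end Main

end Groth.Agent.H2.RpC

namespace Groth.Agent.H2.RpC

/-- every point of `Spec Γ(V, O)` comes from a point of the affine open `V`. -/
lemma exists_mem_toSpecΓ_eq {Y : Scheme.{u}} (V : Y.Opens) [IsAffine V.toScheme]
    (x : PrimeSpectrum Γ(V.toScheme, ⊤)) :
    ∃ (y : Y) (hy : y ∈ V), V.toScheme.toSpecΓ ⟨y, hy⟩ = x := by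
  refine ⟨(V.toScheme.isoSpec.inv x).1, (V.toScheme.isoSpec.inv x).2, ?_⟩
  have h4 : (V.toScheme.isoSpec.inv ≫ V.toScheme.toSpecΓ) x = x := by
    rw [← Scheme.isoSpec_hom, Iso.inv_hom_id]
    rfl
  exact h4

end Groth.Agent.H2.RpC

namespace Groth.Agent.H2.RpC

open Groth.Agent.LD.QC in
/-- the restriction of a finite locally free module to an open subscheme is finite locally
free. -/
theorem isFinLocFree_restrict {Y : Scheme.{u}} (N : Y.Modules) (h : FlatMod.IsFinLocFree N)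
    (V : Y.Opens) : FlatMod.IsFinLocFree (N.restrict V.ι) := by
  intro x
  obtain ⟨W, n, hxW, ⟨e⟩⟩ := h x.1
  have hr : Set.range ((V.ι ⁻¹ᵁ W).ι ≫ V.ι) ⊆ Set.range W.ι := by
    rw [Scheme.Opens.range_ι, Scheme.Hom.comp_base, TopCat.coe_comp, Set.range_comp,
      Scheme.Opens.range_ι]
    rintro _ ⟨z, hz, rfl⟩
    exact hz
  obtain ⟨e'⟩ := freeMod_of_range_subset N W.ι ((V.ι ⁻¹ᵁ W).ι ≫ V.ι) hr n e
  exact ⟨V.ι ⁻¹ᵁ W, n, hxW,
    ⟨((Scheme.Modules.restrictFunctorComp (V.ι ⁻¹ᵁ W).ι V.ι).app N).symm ≪≫ e'⟩⟩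

open Groth.Agent.LD.QC in
/-- the sections over an affine open `V` of a finite locally free module are flat. -/
theorem flat_sections_restrict_of_isFinLocFree {Y : Scheme.{u}} (N : Y.Modules)
    (h : FlatMod.IsFinLocFree N) (V : Y.Opens) [IsAffine V.toScheme] :
    Module.Flat Γ(V.toScheme, ⊤) Γ(N.restrict V.ι, ⊤) := by
  have h' := isFinLocFree_restrict N h V
  haveI := qc_of_isFinLocFree _ h'
  exact ((isFinLocFree_iff_sections (N.restrict V.ι)).mp h' ⊤ (isAffineOpen_top _)).2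

end Groth.Agent.H2.RpC
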