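import Groth.Agent.Lib.Helper2.EtE
import Groth.Agent.Lib.Helper2.RpC5
import Groth.Agent.Lib.Helper2.MumX

/-!
# Transfer lemmas for the proof of EGA III 7.8.6–7.8.7 (helper2)

* the `T`-functors of a base changed complex on restricted modules;
* surjectivity of the map induced by a functor, up to isomorphisms of the source and target;
* `tensorAFunctor` is functorial in the sheaf;
* local freeness from flatness of one localization.
-/

set_option autoImplicit false
set_option linter.style.haveILetI false
universe u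

open CategoryTheory CategoryTheory.Limits AlgebraicGeometry Opposite TopologicalSpace TensorProduct

namespace Groth.Agent.H2.EtH0

open Groth.Agent.H2.Mum Groth.Agent.LD Groth.Agent.LD.QC Groth.Agent.H8.ExtBridge

section TFunBC

variable {A B : Type u} [CommRing A] [CommRing B] [Algebra A B]

open ChangeOfRings in
/-- naturality of `sigmaAdd` in the `B`-module. -/
lemma sigmaAdd_naturality_right {M' M'' : ModuleCat.{u} B} (g : M' ⟶ M'') (N : ModuleCat.{u} A)
    (z : ((ModuleCat.extendScalars (algebraMap A B)).obj N) ⊗[B] M') :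
    sigmaAdd M'' N (LinearMap.lTensor _ g.hom z) =
      LinearMap.lTensor N ((ModuleCat.restrictScalars (algebraMap A B)).map g).hom
        (sigmaAdd M' N z) := by
  induction z using TensorProduct.induction_on with
  | zero => simp
  | add x y hx hy => rw [map_add, map_add, hx, hy, map_add, map_add]
  | tmul x m =>
    induction x using ext_induction with
    | zero => simp
    | add x y hx hy =>
      rw [add_tmul, map_add, map_add, hx, hy, map_add, map_add]
    | tmul b n =>
      refine (sigmaAdd_tmul M'' N b n (g.hom m)).trans ?_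
      refine Eq.trans ?_ (congrArg (LinearMap.lTensor N
        ((ModuleCat.restrictScalars (algebraMap A B)).map g).hom) (sigmaAdd_tmul M' N b n m).symm)
      have e3 : (b • g.hom m : M'') = g.hom (b • m) := (g.hom.map_smul b m).symm
      exact congrArg (fun w : M'' => (n ⊗ₜ[A] (show ↑(Mr (A := A) M'') from w) :
        N ⊗[A] (Mr (A := A) M''))) e3

variable (P : ChainComplex (ModuleCat.{u} A) ℤ)

/-- `T_j` of the base changed complex is epi on a map of `B`-modules as soon as `T_j` of the
complex is epi on the underlying map of `A`-modules. -/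
theorem epi_TFun_bcCx_map {M' M'' : ModuleCat.{u} B} (g : M' ⟶ M'') (j : ℤ)
    (h : Epi ((CohIII.TFun P j).map ((ModuleCat.restrictScalars (algebraMap A B)).map g))) :
    Epi ((CohIII.TFun (CohIII.bcCx (algebraMap A B) P) j).map g) := by
  rw [Groth.Agent.H8.TFun.epi_TFun_map_iff _ _ (j + 1) j (j - 1) (by simp) (by simp)] at h ⊢
  have hd : ∀ (M : ModuleCat.{u} B) (a b : ℤ)
      (z : ((ModuleCat.extendScalars (algebraMap A B)).obj (P.X a)) ⊗[B] M),
      sigmaAdd M (P.X b) (LinearMap.rTensor M
        ((CohIII.bcCx (algebraMap A B) P).d a b).hom z) =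
        LinearMap.rTensor (Mr (A := A) M) (P.d a b).hom (sigmaAdd M (P.X a) z) :=
    fun M a b z => sigmaAdd_naturality M (P.d a b) z
  intro z₂ hz₂
  have hw₂ : LinearMap.rTensor (Mr (A := A) M'') (P.d j (j - 1)).hom
      (sigmaAdd M'' (P.X j) z₂) = 0 :=
    (hd M'' j (j - 1) z₂).symm.trans
      ((congrArg (sigmaAdd M'' (P.X (j - 1))) hz₂).trans (map_zero _))
  obtain ⟨w₁, hw₁, t, ht⟩ := h (sigmaAdd M'' (P.X j) z₂) hw₂
  refine ⟨(sigmaAdd M' (P.X j)).symm w₁, ?_,
    LinearMap.mem_range.2 ⟨(sigmaAdd M'' (P.X (j + 1))).symm t, ?_⟩⟩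
  · apply (sigmaAdd M' (P.X (j - 1))).injective
    rw [hd, AddEquiv.apply_symm_apply, hw₁]
    exact (map_zero (sigmaAdd M' (P.X (j - 1)))).symm
  · apply (sigmaAdd M'' (P.X j)).injective
    have e1 : LinearMap.lTensor (P.X j)
        ((ModuleCat.restrictScalars (algebraMap A B)).map g).hom w₁ =
        sigmaAdd M'' (P.X j) (LinearMap.lTensor _ g.hom ((sigmaAdd M' (P.X j)).symm w₁)) :=
      ((sigmaAdd_naturality_right g (P.X j) _).trans
        (congrArg _ (AddEquiv.apply_symm_apply _ w₁))).symm
    refine (hd M'' (j + 1) j _).trans ?_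
    rw [AddEquiv.apply_symm_apply, ht]
    refine Eq.trans ?_ (map_sub (sigmaAdd M'' (P.X j)) z₂ _).symm
    exact congrArg (fun w => sigmaAdd M'' (P.X j) z₂ - w) e1

end TFunBC

section congr

variable {A : Type u} [CommRing A] (F : ModuleCat.{u} A ⥤ ModuleCat.{u} A)

/-- surjectivity of `F(f)` only depends on `f` up to isomorphisms of the source and target. -/
lemma surjective_map_of_iso {M N M' N' : ModuleCat.{u} A} (f : M ⟶ N) (f' : M' ⟶ N')
    (a : M ≅ M') (b : N ≅ N') (w : a.hom ≫ f' = f ≫ b.hom)
    (h : Function.Surjective (F.map f').hom) : Function.Surjective (F.map f).hom := by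
  rw [← ModuleCat.epi_iff_surjective] at h ⊢
  have e : F.map f = F.map a.hom ≫ F.map f' ≫ F.map b.inv := by
    rw [← F.map_comp, ← F.map_comp, ← Category.assoc, w, Category.assoc, Iso.hom_inv_id,
      Category.comp_id]
  rw [e]
  infer_instance

end congr


section alg

variable (A : Type u) [CommRing A] (p : Ideal A) [p.IsPrime] (K : Type u) [Field K] [Algebra A K]

/-- the residue field of the localization at the kernel of a field valued point `A → K` maps
isomorphically to `K` if `Spec K → Spec A` is a monomorphism. -/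
theorem exists_bijective_algHom_of_mono_Spec (hker : RingHom.ker (algebraMap A K) = p)
    (hmono : Mono (Spec.map (CommRingCat.ofHom (algebraMap A K)))) :
    ∃ e : (Localization.AtPrime p ⧸ IsLocalRing.maximalIdeal (Localization.AtPrime p)) →ₐ[A] K,
      Function.Bijective e := by
  have hu : ∀ s : p.primeCompl, IsUnit (Algebra.ofId A K (s : A)) := by
    intro s
    rw [isUnit_iff_ne_zero]
    intro h0
    have : (s : A) ∈ RingHom.ker (algebraMap A K) := RingHom.mem_ker.2 h0
    rw [hker] at this
    exact s.2 this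
  let ψ : Localization.AtPrime p →ₐ[A] K :=
    IsLocalization.liftAlgHom (A := A) (R := A) (M := p.primeCompl)
      (S := Localization.AtPrime p) (P := K) (f := Algebra.ofId A K) hu
  have hψ : ∀ a ∈ IsLocalRing.maximalIdeal (Localization.AtPrime p), ψ a = 0 := by
    intro a ha
    rw [← IsLocalization.AtPrime.map_eq_maximalIdeal p (Localization.AtPrime p)] at ha
    have hle : Ideal.map (algebraMap A (Localization.AtPrime p)) p ≤
        RingHom.ker (ψ : Localization.AtPrime p →+* K) := by
      rw [Ideal.map_le_iff_le_comap]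
      intro x hx
      rw [Ideal.mem_comap, RingHom.mem_ker]
      change ψ (algebraMap A _ x) = 0
      rw [ψ.commutes]
      rw [← hker] at hx
      exact hx
    exact hle ha
  letI : Field (Localization.AtPrime p ⧸ IsLocalRing.maximalIdeal (Localization.AtPrime p)) :=
    Ideal.Quotient.field _
  let e : (Localization.AtPrime p ⧸ IsLocalRing.maximalIdeal (Localization.AtPrime p)) →ₐ[A] K :=
    Ideal.Quotient.liftₐ (IsLocalRing.maximalIdeal (Localization.AtPrime p)) ψ hψ
  exact ⟨e, bijective_of_mono_Spec A _ K e hmono⟩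

end alg

section rs

variable {A B : Type u} [CommRing A] [CommRing B] [Algebra A B]

/-- restriction of scalars of a `B`-module with a compatible `A`-module structure. -/
noncomputable def rsEquiv (M : Type u) [AddCommGroup M] [Module B M] [Module A M]
    [IsScalarTower A B M] :
    ((ModuleCat.restrictScalars (algebraMap A B)).obj (ModuleCat.of B M)) ≃ₗ[A] M :=
  { AddEquiv.refl M with
    map_smul' := fun a x => algebraMap_smul B a (show M from x) }

/-- restriction of scalars of a `B`-module with a compatible `A`-module structure. -/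
noncomputable def rsIso (M : Type u) [AddCommGroup M] [Module B M] [Module A M]
    [IsScalarTower A B M] :
    (ModuleCat.restrictScalars (algebraMap A B)).obj (ModuleCat.of B M) ≅ ModuleCat.of A M :=
  (rsEquiv (A := A) (B := B) M).toModuleIso

lemma rsIso_factor {I J : Ideal B} (hIJ : I ≤ J) :
    (rsIso (A := A) (B ⧸ I)).hom ≫ ModuleCat.ofHom (Ideal.Quotient.factorₐ A hIJ).toLinearMap =
      (ModuleCat.restrictScalars (algebraMap A B)).map
        (ModuleCat.ofHom (Ideal.Quotient.factorₐ B hIJ).toLinearMap) ≫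
        (rsIso (A := A) (B ⧸ J)).hom := by
  refine ModuleCat.hom_ext (LinearMap.ext fun x => ?_)
  rfl

end rs

section tensorAIso

variable (A : Type u) [CommRing A] {X : Scheme.{u}} [X.Over (Spec (CommRingCat.of A))]

/-- `tensorAFunctor` is functorial in the sheaf (isomorphisms). -/
noncomputable def tensorAFunctorIso {F F' : X.Modules} (ε : F ≅ F') :
    CohIII.tensorAFunctor A F ≅ CohIII.tensorAFunctor A F' :=
  NatIso.ofComponents
    (fun M =>
      { hom := KoszTw.tensorMap (𝟙 (pbT (X := X) A M)) ε.hom
        inv := KoszTw.tensorMap (𝟙 (pbT (X := X) A M)) ε.inv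
        hom_inv_id :=
          (KoszTw.tensorMap_comp (𝟙 (pbT (X := X) A M)) (𝟙 (pbT (X := X) A M)) ε.hom ε.inv).symm.trans
            (by rw [Category.comp_id, ε.hom_inv_id]; exact KoszTw.tensorMap_id _ _)
        inv_hom_id :=
          (KoszTw.tensorMap_comp (𝟙 (pbT (X := X) A M)) (𝟙 (pbT (X := X) A M)) ε.inv ε.hom).symm.trans
            (by rw [Category.comp_id, ε.inv_hom_id]; exact KoszTw.tensorMap_id _ _) })
    (fun {M M'} h => by
      have e1 : (CohIII.tensorAFunctor A F).map h = TFmap A F h := KoszTw.tensorRightMod_map _ _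
      have e2 : (CohIII.tensorAFunctor A F').map h = TFmap A F' h :=
        KoszTw.tensorRightMod_map _ _
      change (CohIII.tensorAFunctor A F).map h ≫ KoszTw.tensorMap (𝟙 (pbT (X := X) A M')) ε.hom =
        KoszTw.tensorMap (𝟙 (pbT (X := X) A M)) ε.hom ≫ (CohIII.tensorAFunctor A F').map h
      rw [e1, e2]
      have h1 : KoszTw.tensorMap (pbTmap (X := X) A h) (𝟙 F) ≫
          KoszTw.tensorMap (𝟙 (pbT (X := X) A M')) ε.hom =
          KoszTw.tensorMap (pbTmap (X := X) A h) ε.hom := by
        rw [← KoszTw.tensorMap_comp, Category.comp_id, Category.id_comp]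
      have h2 : KoszTw.tensorMap (𝟙 (pbT (X := X) A M)) ε.hom ≫
          KoszTw.tensorMap (pbTmap (X := X) A h) (𝟙 F') =
          KoszTw.tensorMap (pbTmap (X := X) A h) ε.hom := by
        rw [← KoszTw.tensorMap_comp, Category.comp_id, Category.id_comp]
      exact h1.trans h2.symm)

end tensorAIso

section locfree

open Groth.Agent.H2.RpC

variable {Y : Scheme.{u}} (N : Y.Modules) [N.IsQuasicoherent] (V : Y.Opens) [IsAffine V.toScheme]

/-- if the module of sections of `N` over the affine open `V` is finitely presented and its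
localization at the prime of `y` is flat, then `N` is free of finite rank near `y`. -/
theorem exists_restrict_iso_freeMod_of_flat_at (H : Type u) [AddCommGroup H]
    [Module Γ(V.toScheme, ⊤) H] [Module.FinitePresentation Γ(V.toScheme, ⊤) H]
    (ℓ : Γ(N.restrict V.ι, ⊤) ≃ₗ[Γ(V.toScheme, ⊤)] H) (y : Y) (hy : y ∈ V)
    (p : Ideal Γ(V.toScheme, ⊤)) [p.IsPrime] (hp : p = (V.toScheme.toSpecΓ ⟨y, hy⟩).asIdeal)
    (hfl : Module.Flat (Localization.AtPrime p) (Localization.AtPrime p ⊗[Γ(V.toScheme, ⊤)] H)) :
    ∃ (U : Y.Opens) (m : ℕ), y ∈ U ∧ U ≤ V ∧ Nonempty (N.restrict U.ι ≅ FlatMod.freeMod U m) := by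
  haveI : (N.restrict V.ι).IsQuasicoherent := qc_restrict _ N
  let M := Γ(N.restrict V.ι, ⊤)
  haveI : Module.FinitePresentation Γ(V.toScheme, ⊤) M := Module.FinitePresentation.of_equiv ℓ.symm
  -- the localization at `p` is free
  let eM : LocalizedModule p.primeCompl M ≃ₗ[Localization.AtPrime p]
      Localization.AtPrime p ⊗[Γ(V.toScheme, ⊤)] H :=
    (IsLocalizedModule.isBaseChange p.primeCompl (Localization.AtPrime p)
      (LocalizedModule.mkLinearMap p.primeCompl M)).equiv.symm ≪≫ₗ
      (TensorProduct.AlgebraTensorModule.congr (LinearEquiv.refl _ _) ℓ)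
  haveI : Module.Flat (Localization.AtPrime p) (LocalizedModule p.primeCompl M) :=
    Module.Flat.of_linearEquiv eM
  haveI : Module.Free (Localization.AtPrime p)
      (LocalizedModule p.primeCompl M) := Module.free_of_flat_of_isLocalRing
  obtain ⟨r, hr, hfr, -⟩ := Module.FinitePresentation.exists_free_localizedModule_powers
    p.primeCompl (LocalizedModule.mkLinearMap p.primeCompl M)
    (Localization.AtPrime p)
  have hTop : IsAffineOpen (⊤ : V.toScheme.Opens) := isAffineOpen_top _
  letI : Algebra Γ(V.toScheme, ⊤) Γ(V.toScheme, V.toScheme.basicOpen r) :=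
    resAlgebra (V.toScheme.basicOpen_le r)
  letI : Module Γ(V.toScheme, ⊤) Γ(N.restrict V.ι, V.toScheme.basicOpen r) :=
    resModule (N.restrict V.ι) (V.toScheme.basicOpen_le r)
  haveI : IsScalarTower Γ(V.toScheme, ⊤) Γ(V.toScheme, V.toScheme.basicOpen r)
      Γ(N.restrict V.ι, V.toScheme.basicOpen r) :=
    resModule_isScalarTower (N.restrict V.ι) (V.toScheme.basicOpen_le r)
  haveI : IsLocalization.Away r Γ(V.toScheme, V.toScheme.basicOpen r) :=
    hTop.isLocalization_basicOpen r
  haveI : IsLocalizedModule.Away r (resLinear (N.restrict V.ι) (V.toScheme.basicOpen_le r)) :=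
    isLocalizedModule_basicOpen (N.restrict V.ι) hTop r
  haveI := hfr
  haveI : Module.Free Γ(V.toScheme, V.toScheme.basicOpen r)
      Γ(N.restrict V.ι, V.toScheme.basicOpen r) :=
    free_of_isLocalizedModule_away r (A := Localization (Submonoid.powers r))
      (LocalizedModule.mkLinearMap (Submonoid.powers r) M)
      (resLinear (N.restrict V.ι) (V.toScheme.basicOpen_le r))
  haveI : Module.Finite Γ(V.toScheme, V.toScheme.basicOpen r)
      Γ(N.restrict V.ι, V.toScheme.basicOpen r) :=
    Module.Finite.of_isLocalizedModule (Submonoid.powers r)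
      (resLinear (N.restrict V.ι) (V.toScheme.basicOpen_le r))
  obtain ⟨n, ⟨e⟩⟩ := exists_equiv_fin_fun_of_free_of_finite
    Γ(V.toScheme, V.toScheme.basicOpen r) Γ(N.restrict V.ι, V.toScheme.basicOpen r)
  refine ⟨V.ι ''ᵁ V.toScheme.basicOpen r, n, ?_, ?_, restrict_iso_freeMod_of_sections N V
    (V.toScheme.basicOpen r) (hTop.basicOpen r) _ ⟨e⟩⟩
  · have h1 : (⟨y, hy⟩ : V.toScheme) ∈ V.toScheme.basicOpen r := by
      rw [← V.toScheme.toSpecΓ_preimage_basicOpen r]
      change r ∉ (V.toScheme.toSpecΓ ⟨y, hy⟩).asIdeal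
      rw [← hp]
      exact hr
    exact ⟨⟨y, hy⟩, h1, rfl⟩
  · exact Scheme.Hom.image_le_opensRange _ _ |>.trans (le_of_eq V.opensRange_ι)

end locfree

end Groth.Agent.H2.EtH0
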