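import Groth.Agent.Lib.Helper2.EtF

/-!
# EGA III 7.8.6–7.8.7: local freeness of `f_* O_X` near a point whose fibre has an étale ring of
global functions (helper2)
-/

set_option autoImplicit false
set_option linter.style.haveILetI false
universe u

open CategoryTheory CategoryTheory.Limits AlgebraicGeometry Opposite TopologicalSpace TensorProduct

namespace Groth.Agent.H2.EtH0

open Groth.Agent.H2.Mum Groth.Agent.H2.RpA Groth.Agent.H2.RpB Groth.Agent.H2.RpC Groth.Agent.LD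
  Groth.Agent.LD.CL Groth.Agent.LD.QC Groth.Agent.H8.ExtBridge Polynomial

section key

variable (A : Type u) [CommRing A] [IsNoetherianRing A] {X : Scheme.{u}}
  [X.Over (Spec (CommRingCat.of A))]
  {ι : Type u} [Finite ι] (U : ι → X.Opens)
  (haff : ∀ (n : ℕ) (a : Fin (n + 1) → ι), IsAffineOpen (⨅ k, U (a k))) (hU : iSup U = ⊤)
  (F : X.Modules) [F.IsQuasicoherent] (ε : F ≅ OX X)
  (L : CochainComplex (ModuleCat.{u} A) ℤ) (v : L ⟶ CZ A U F)
  (hq : ∀ M : ModuleCat.{u} A, QuasiIso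
    (((MonoidalCategory.tensorRight M).mapHomologicalComplex (ComplexShape.up ℤ)).map v))
  (p : Ideal A) [p.IsPrime] (K : Type u) [Field K] [Algebra A K]
  {X' : Scheme.{u}} [X'.Over (Spec (CommRingCat.of K))] (g : X' ⟶ X)
  (sq : IsPullback g (X' ↘ Spec (CommRingCat.of K)) (X ↘ Spec (CommRingCat.of A))
    (Spec.map (CommRingCat.ofHom (algebraMap A K))))

include haff hU hq sq ε in
/-- **exactness of `T^0` at a point whose fibre has only separable global functions.** -/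
theorem exact_localization_of_fibre_separable
    (hL : ∀ i, Module.Finite A (L.X i) ∧ Module.Free A (L.X i))
    (hker : RingHom.ker (algebraMap A K) = p)
    (hmono : Mono (Spec.map (CommRingCat.ofHom (algebraMap A K))))
    (hsep : ∀ t : Γ(X', ⊤), ∃ q : K[X], q.Separable ∧ q.eval₂ (ρ K (⊤ : X'.Opens)) t = 0) :
    (CohIII.TFun (CohIII.bcCx (algebraMap A (Localization.AtPrime p)) (flip L))
        (-((0 : ℕ) : ℤ))).PreservesMonomorphisms ∧
      (CohIII.TFun (CohIII.bcCx (algebraMap A (Localization.AtPrime p)) (flip L))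
        (-((0 : ℕ) : ℤ))).PreservesEpimorphisms := by
  have hP := flip_finite_flat L hL
  have hPΛ := fun i => finite_flat_bcCx (flip L) (B := Localization.AtPrime p) hP i
  obtain ⟨e, he⟩ := exists_bijective_algHom_of_mono_Spec A p K hker hmono
  refine ⟨?_, ?_⟩
  · have hz : (CohIII.TFun (flip L) (-((0 : ℕ) : ℤ) + 1)).PreservesEpimorphisms :=
      preservesEpi_of_isZero _ (fun M =>
        isZero_TFun_flip_pos A F U L v hq M _ (by norm_num))
    have hm := Groth.Agent.H8.TFun.preservesMono_of_preservesEpi (flip L) (fun i => (hP i).2)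
      (-((0 : ℕ) : ℤ) + 1) (-((0 : ℕ) : ℤ)) rfl hz
    exact Groth.Agent.H8.TFun.preservesMono_bcCx (flip L) (fun i => (hP i).2) _ hm
  · refine (Groth.Agent.H8.TFun.preservesEpi_iff_surjective_pow _ hPΛ _).2 ⟨0, fun n _ => ?_⟩
    rw [← ModuleCat.epi_iff_surjective]
    apply epi_TFun_bcCx_map
    rw [ModuleCat.epi_iff_surjective]
    let Θ : CohIII.TFun (flip L) (-((0 : ℕ) : ℤ)) ≅
        CohIII.tensorAFunctor A (OX X) ⋙ CohIII.globalSectionsA A :=
      flipTFunIso L ((0 : ℕ) : ℤ) ≪≫ gsNatIso A U F haff hU L v hq ≪≫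
        Functor.isoWhiskerRight (tensorAFunctorIso A ε) (CohIII.globalSectionsA A)
    refine surjective_map_of_iso (CohIII.TFun (flip L) (-((0 : ℕ) : ℤ))) _
      (ModuleCat.ofHom (Ideal.Quotient.factorₐ A (Ideal.pow_le_self
        (I := IsLocalRing.maximalIdeal (Localization.AtPrime p))
        (Nat.succ_ne_zero n))).toLinearMap)
      (rsIso _) (rsIso _) (rsIso_factor _) ?_
    rw [surjective_map_iff_of_natIso Θ]
    refine surjective_of_fibre_separable A K g sq U haff hU hsep _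
      (Ideal.Quotient.factor_surjective (Ideal.pow_le_self (Nat.succ_ne_zero n))) ?_ e he
    intro r hr
    obtain ⟨a, rfl⟩ := Ideal.Quotient.mk_surjective r
    have ha : a ∈ IsLocalRing.maximalIdeal (Localization.AtPrime p) :=
      Ideal.Quotient.eq_zero_iff_mem.1 hr
    refine ⟨n + 1, ?_⟩
    rw [← map_pow]
    exact Ideal.Quotient.eq_zero_iff_mem.2 (Ideal.pow_mem_pow ha (n + 1))

end key

section localData

attribute [local instance] overV

/-- **Local data at a point whose fibre has an étale ring of global functions**: the Mumford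
complex of `O_X` over an affine neighbourhood, with `T^0` exact after localization at the point. -/
theorem exists_localData_etale {X Y : Scheme.{u}} (f : X ⟶ Y) [IsProper f] [Flat f]
    [IsLocallyNoetherian Y] [HasInjectiveResolutions X.Modules] (V : Y.Opens)
    (hV : IsAffineOpen V) (y : Y) (hy : y ∈ V)
    (het : Algebra.Etale (Y.residueField y) Γ(f.fiber y, ⊤))
    (p : Ideal Γ(V.toScheme, ⊤)) [p.IsPrime] (hp : p = (V.toScheme.toSpecΓ ⟨y, hy⟩).asIdeal) :
    ∃ P : ChainComplex (ModuleCat.{u} Γ(V.toScheme, ⊤)) ℤ,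
      (∀ i, Module.Finite Γ(V.toScheme, ⊤) (P.X i) ∧ Module.Free Γ(V.toScheme, ⊤) (P.X i)) ∧
      (CohIII.fiberRank f (OX X) 0 y =
        CohIII.dRank P (-((0 : ℕ) : ℤ)) (V.toScheme.toSpecΓ ⟨y, hy⟩)) ∧
      Nonempty (Γ(((Coh.Rpush f 0).obj (OX X)).restrict V.ι, ⊤) ≃ₗ[Γ(V.toScheme, ⊤)]
        P.homology (-((0 : ℕ) : ℤ))) ∧
      (CohIII.TFun (CohIII.bcCx (algebraMap Γ(V.toScheme, ⊤) (Localization.AtPrime p)) P)
        (-((0 : ℕ) : ℤ))).PreservesMonomorphisms ∧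
      (CohIII.TFun (CohIII.bcCx (algebraMap Γ(V.toScheme, ⊤) (Localization.AtPrime p)) P)
        (-((0 : ℕ) : ℤ))).PreservesEpimorphisms ∧
      Nonempty (Coh.HH (f ⁻¹ᵁ V).toScheme (OX (f ⁻¹ᵁ V).toScheme) 0 ≃ₗ[Γ(V.toScheme, ⊤)]
        P.homology (-((0 : ℕ) : ℤ))) := by
  haveI : IsAffine V.toScheme := hV
  haveI : IsNoetherianRing Γ(V.toScheme, ⊤) :=
    IsLocallyNoetherian.component_noetherian ⟨⊤, isAffineOpen_top V.toScheme⟩
  haveI : IsProper ((f ⁻¹ᵁ V).toScheme ↘ Spec (CommRingCat.of Γ(V.toScheme, ⊤))) :=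
    inferInstanceAs (IsProper ((f ∣_ V) ≫ V.toScheme.toSpecΓ))
  have hF : Coh.IsCoh (OX X) := PF.isCoh_unitMod X
  haveI : (OX X).IsQuasicoherent := hF.1
  have hfl : FlatMod.IsFlatOver f (OX X) :=
    (Groth.Agent.H4.RPC27.isFlatOver_structureModule_iff f).2 inferInstance
  haveI : ((OX X).restrict (f ⁻¹ᵁ V).ι).IsQuasicoherent := qc_restrict _ (OX X)
  have hF' : Coh.IsCoh ((OX X).restrict (f ⁻¹ᵁ V).ι) :=
    ⟨inferInstance, isFiniteType_restrict _ (OX X) hF.2⟩
  have hfl' : FlatMod.IsFlatOver ((f ⁻¹ᵁ V).toScheme ↘ Spec (CommRingCat.of Γ(V.toScheme, ⊤)))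
      ((OX X).restrict (f ⁻¹ᵁ V).ι) := isFlatOver_restrict_affine f V (OX X) hfl
  obtain ⟨ι, hfin, U, haff, hU, L, v, hL, -, hv, hq⟩ :=
    exists_resolution' Γ(V.toScheme, ⊤) (f ⁻¹ᵁ V).toScheme ((OX X).restrict (f ⁻¹ᵁ V).ι) hF' hfl'
  haveI := hfin
  haveI := hv
  -- the fibre
  letI algK : Algebra Γ(V.toScheme, ⊤) (Y.residueField y) := (φV V y hy).hom.toAlgebra
  letI ovK : (f.fiber y).Over (Spec (CommRingCat.of (Y.residueField y))) :=
    ⟨f.fiberToSpecResidueField y⟩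
  have sq : IsPullback (gV f V y hy)
      ((f.fiber y) ↘ Spec (CommRingCat.of (Y.residueField y)))
      ((f ⁻¹ᵁ V).toScheme ↘ Spec (CommRingCat.of Γ(V.toScheme, ⊤)))
      (Spec.map (CommRingCat.ofHom (algebraMap Γ(V.toScheme, ⊤) (Y.residueField y)))) :=
    isPullback_fiber_affine f V y hy
  have hsep := fibre_separable f y het rfl
  have hker : RingHom.ker (algebraMap Γ(V.toScheme, ⊤) (Y.residueField y)) = p := by
    rw [hp]
    exact congrArg PrimeSpectrum.asIdeal (ptOf_φV V y hy)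
  have hmono : Mono (Spec.map (CommRingCat.ofHom
      (algebraMap Γ(V.toScheme, ⊤) (Y.residueField y)))) := by
    change Mono (Spec.map (φV V y hy))
    rw [Spec_map_φV]
    haveI : Mono (tV V y hy ≫ V.ι) := by
      rw [tV_ι]
      infer_instance
    haveI : Mono (tV V y hy) := mono_of_mono (tV V y hy) V.ι
    infer_instance
  obtain ⟨hm, he⟩ := exact_localization_of_fibre_separable Γ(V.toScheme, ⊤) U haff hU
    ((OX X).restrict (f ⁻¹ᵁ V).ι) (Scheme.Modules.restrictUnitIso (f ⁻¹ᵁ V).ι) L v hq p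
    (Y.residueField y) (gV f V y hy) sq hL hker hmono hsep
  refine ⟨flip L, flip_finite_free L hL,
    fiberRank_eq_dRank_of_mem f V (OX X) U haff hU L v hq 0 y hy, ?_, hm, he,
    ⟨(HHEquivOfIso Γ(V.toScheme, ⊤) (Scheme.Modules.restrictUnitIso (f ⁻¹ᵁ V).ι) 0).symm ≪≫ₗ
      (flipHomologyEquiv Γ(V.toScheme, ⊤) ((OX X).restrict (f ⁻¹ᵁ V).ι) U L v haff hU 0).symm⟩⟩
  haveI := QCQS.hasInjRes (f ⁻¹ᵁ V).toScheme
  obtain ⟨e⟩ := QCQS.nonempty_restrict_Rpush_iso f V (OX X) 0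
  obtain ⟨ℓ⟩ := nonempty_sections_Rpush_equiv_of_isSeparated (f ∣_ V) 0
    ((OX X).restrict (f ⁻¹ᵁ V).ι)
  exact ⟨secEquiv e ⊤ ≪≫ₗ ℓ ≪≫ₗ HSEquiv (f ∣_ V) ((OX X).restrict (f ⁻¹ᵁ V).ι) 0 ≪≫ₗ
    (flipHomologyEquiv Γ(V.toScheme, ⊤) ((OX X).restrict (f ⁻¹ᵁ V).ι) U L v haff hU 0).symm⟩

/-- **EGA III 7.8.6**: `f_* O_X` is free of finite rank near a point whose fibre has an étale ring
of global functions, for `f` proper and flat. -/
theorem exists_restrict_iso_freeMod_push_of_etale {X Y : Scheme.{u}} (f : X ⟶ Y) [IsProper f]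
    [Flat f] [IsLocallyNoetherian Y] (y : Y)
    (het : Algebra.Etale (Y.residueField y) Γ(f.fiber y, ⊤)) :
    ∃ (U : Y.Opens) (m : ℕ), y ∈ U ∧
      Nonempty (((Coh.push f).obj (Coh.structureModule X)).restrict U.ι ≅
        FlatMod.freeMod (↑U) m) := by
  haveI := QCQS.hasInjRes X
  obtain ⟨V, hV, hyV, -⟩ := exists_isAffineOpen_mem_and_subset (x := y) (U := ⊤) trivial
  haveI : IsAffine V.toScheme := hV
  haveI : IsNoetherianRing Γ(V.toScheme, ⊤) :=
    IsLocallyNoetherian.component_noetherian ⟨⊤, isAffineOpen_top V.toScheme⟩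
  let x : PrimeSpectrum Γ(V.toScheme, ⊤) := V.toScheme.toSpecΓ ⟨y, hyV⟩
  obtain ⟨P, hP, -, ⟨ℓ⟩, hm, he, -⟩ := exists_localData_etale f V hV y hyV het x.asIdeal rfl
  have hP' : ∀ i, Module.Finite Γ(V.toScheme, ⊤) (P.X i) ∧
      Module.Flat Γ(V.toScheme, ⊤) (P.X i) :=
    fun i => ⟨(hP i).1, by haveI := (hP i).2; infer_instance⟩
  obtain ⟨hflat, -, -⟩ := flat_finite_rank_of_exact
    (CohIII.bcCx (algebraMap Γ(V.toScheme, ⊤) (Localization.AtPrime x.asIdeal)) P)
    (fun i => finite_flat_bcCx P hP' i) (-((0 : ℕ) : ℤ)) ⟨hm, he⟩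
  have hflatΛ : (algebraMap Γ(V.toScheme, ⊤) (Localization.AtPrime x.asIdeal)).Flat := by
    rw [RingHom.flat_algebraMap_iff]
    infer_instance
  haveI := hflat
  have hfl : Module.Flat (Localization.AtPrime x.asIdeal)
      (Localization.AtPrime x.asIdeal ⊗[Γ(V.toScheme, ⊤)] P.homology (-((0 : ℕ) : ℤ))) :=
    Module.Flat.of_linearEquiv
      ((Groth.Agent.H8.DRank.homologyBcIsoOfFlat (algebraMap Γ(V.toScheme, ⊤)
        (Localization.AtPrime x.asIdeal)) hflatΛ P (-((0 : ℕ) : ℤ))).toLinearEquiv.trans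
        (extEquiv (B := Localization.AtPrime x.asIdeal) (P.homology (-((0 : ℕ) : ℤ))))).symm
  haveI : Module.Finite Γ(V.toScheme, ⊤) (P.X (-((0 : ℕ) : ℤ))) := (hP _).1
  haveI : Module.Finite Γ(V.toScheme, ⊤) (P.homology (-((0 : ℕ) : ℤ))) :=
    Groth.Agent.H8.TFun.finite_homology P _
  haveI : Module.FinitePresentation Γ(V.toScheme, ⊤) (P.homology (-((0 : ℕ) : ℤ))) :=
    Module.finitePresentation_of_finite _ _
  haveI hqc : ((Coh.Rpush f 0).obj (OX X)).IsQuasicoherent := by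
    haveI : (OX X).IsQuasicoherent := (PF.isCoh_unitMod X).1
    exact QCQS.qc_Rpush f (OX X) 0
  obtain ⟨U, m, hyU, -, ⟨e⟩⟩ := exists_restrict_iso_freeMod_of_flat_at
    ((Coh.Rpush f 0).obj (OX X)) V (P.homology (-((0 : ℕ) : ℤ))) ℓ y hyV x.asIdeal rfl hfl
  exact ⟨U, m, hyU, ⟨(Scheme.Modules.restrictFunctor U.ι).mapIso
    ((r0Iso f).app (OX X)).symm ≪≫ e⟩⟩

end localData

end Groth.Agent.H2.EtH0
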