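import Mathlib

/-!
# Algebra for EGA III 7.8.7–7.8.8 (helper2)

* an algebra which is free of rank one as a module is the base ring;
* bijectivity of localized maps is independent of the model of the localization;
* a finite algebra whose localization at a prime is free of rank one is trivial near the prime.
-/

set_option autoImplicit false
universe u

open TensorProduct

namespace Groth.Agent.H2.EtH0

section rankone

/-- an algebra which is free of rank one as a module is isomorphic to the base ring. -/
theorem bijective_algebraMap_of_finrank_eq_one (R C : Type*) [CommRing R] [Nontrivial R]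
    [CommRing C] [Algebra R C] [Module.Free R C] [Module.Finite R C] (h : Module.finrank R C = 1) :
    Function.Bijective (algebraMap R C) := by
  let b : Module.Basis (Fin 1) R C := Module.finBasisOfFinrankEq R C h
  have hrep : ∀ x : C, x = b.repr x 0 • b 0 := fun x => by
    conv_lhs => rw [← b.sum_repr x]
    rw [Fin.sum_univ_one]
  have huniq : ∀ a : R, a • b 0 = 0 → a = 0 := fun a ha => by
    have h2 : b.repr (a • b 0) 0 = a := by
      rw [map_smul, Module.Basis.repr_self, Finsupp.smul_apply, Finsupp.single_eq_same,
        smul_eq_mul, mul_one]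
    rw [ha] at h2
    simpa using h2.symm
  obtain ⟨l, hl⟩ : ∃ l : R, (1 : C) = l • b 0 := ⟨_, hrep 1⟩
  obtain ⟨m, hm⟩ : ∃ m : R, b 0 * b 0 = m • b 0 := ⟨_, hrep (b 0 * b 0)⟩
  have hlm : l * m = 1 := by
    have h1 : (l * m - 1) • b 0 = 0 := by
      rw [sub_smul, one_smul, mul_smul, ← hm, ← smul_mul_assoc, ← hl, one_mul, sub_self]
    exact sub_eq_zero.1 (huniq _ h1)
  constructor
  · rw [injective_iff_map_eq_zero]
    intro a ha
    have h1 : (a * l) • b 0 = 0 := by
      rw [mul_smul, ← hl, ← Algebra.algebraMap_eq_smul_one, ha]
    have h2 := huniq _ h1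
    calc a = a * (l * m) := by rw [hlm, mul_one]
      _ = (a * l) * m := by ring
      _ = 0 := by rw [h2, zero_mul]
  · intro x
    refine ⟨b.repr x 0 * m, ?_⟩
    rw [Algebra.algebraMap_eq_smul_one, hl, smul_smul, mul_assoc, mul_comm m l, hlm, mul_one]
    exact (hrep x).symm

end rankone

section transfer

variable {R : Type*} [CommRing R] (S : Submonoid R) {M N M' N' : Type*} [AddCommGroup M]
  [AddCommGroup N] [AddCommGroup M'] [AddCommGroup N'] [Module R M] [Module R N] [Module R M']
  [Module R N'] (g₁ : M →ₗ[R] M') (g₂ : N →ₗ[R] N') [IsLocalizedModule S g₁]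
  [IsLocalizedModule S g₂]

/-- bijectivity of the localization of a linear map does not depend on the models of the
localizations. -/
theorem bijective_isLocalizedModule_map_of_bijective (l : M →ₗ[R] N)
    (h : Function.Bijective (LocalizedModule.map S l)) :
    Function.Bijective (IsLocalizedModule.map S g₁ g₂ l) := by
  have e := LocalizedModule.restrictScalars_map_eq S g₁ g₂ l
  have e' : ∀ x, IsLocalizedModule.map S g₁ g₂ l x =
      IsLocalizedModule.iso S g₂
        (LocalizedModule.map S l ((IsLocalizedModule.iso S g₁).symm x)) := by
    intro x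
    have h1 := LinearMap.congr_fun e ((IsLocalizedModule.iso S g₁).symm x)
    rw [LinearMap.restrictScalars_apply] at h1
    rw [h1]
    simp
  have e'' : (IsLocalizedModule.map S g₁ g₂ l : M' → N') =
      (IsLocalizedModule.iso S g₂) ∘ (LocalizedModule.map S l) ∘
        (IsLocalizedModule.iso S g₁).symm := funext e'
  rw [e'']
  exact (IsLocalizedModule.iso S g₂).bijective.comp
    (h.comp (IsLocalizedModule.iso S g₁).symm.bijective)

end transfer

section away

/-- if the localization away from `b` of `φ : A → R`, as a map of `A`-modules, is bijective, then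
every model `A' → R'` of the localized ring map is bijective. -/
theorem bijective_of_bijective_localizedModule_map {A A' R R' : Type*} [CommRing A] [CommRing A']
    [CommRing R] [CommRing R'] [Algebra A A'] [Algebra R R'] (b : A) [IsLocalization.Away b A']
    (φ : A →+* R) [IsLocalization.Away (φ b) R'] (φ' : A' →+* R')
    (h : φ'.comp (algebraMap A A') = (algebraMap R R').comp φ)
    (hb : letI := φ.toAlgebra
      Function.Bijective (LocalizedModule.map (Submonoid.powers b) (Algebra.linearMap A R))) :
    Function.Bijective φ' := by
  letI : Algebra A R := φ.toAlgebra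
  letI : Algebra A R' := ((algebraMap R R').comp φ).toAlgebra
  haveI : IsScalarTower A R R' := IsScalarTower.of_algebraMap_eq fun _ => rfl
  haveI : IsLocalization (Algebra.algebraMapSubmonoid R (Submonoid.powers b)) R' := by
    rw [Algebra.algebraMapSubmonoid_powers]
    exact ‹IsLocalization.Away (φ b) R'›
  let fM : A →ₗ[A] A' := Algebra.linearMap A A'
  let fN : R →ₗ[A] R' := (IsScalarTower.toAlgHom A R R').toLinearMap
  let l' : A' →ₗ[A] R' :=
    { toFun := φ'
      map_add' := map_add φ'
      map_smul' := fun a x => by
        rw [RingHom.id_apply, Algebra.smul_def, map_mul, Algebra.smul_def]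
        congr 1
        exact RingHom.congr_fun h a }
  have hl' : IsLocalizedModule.map (Submonoid.powers b) fM fN (Algebra.linearMap A R) = l' := by
    apply IsLocalizedModule.ext (Submonoid.powers b) fM (IsLocalizedModule.map_units fN)
    rw [IsLocalizedModule.map_comp]
    ext
    simp [fM, fN, l']
  have h3 := bijective_isLocalizedModule_map_of_bijective (Submonoid.powers b) fM fN
    (Algebra.linearMap A R) hb
  rw [hl'] at h3
  exact h3

end away

section main

/-- a finite algebra `B` over a Noetherian ring `A` whose localization at the prime `p` is flat of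
rank one is isomorphic to `A` after inverting some `g ∉ p`. -/
theorem exists_bijective_localizedModule_map {A B : Type u} [CommRing A] [IsNoetherianRing A]
    [CommRing B] [Algebra A B] (p : Ideal A) [p.IsPrime] (H : Type u) [AddCommGroup H]
    [Module A H] [Module.Finite A H] (ℓ : B ≃ₗ[A] H)
    (hfl : Module.Flat (Localization.AtPrime p) (Localization.AtPrime p ⊗[A] H))
    (hrk : Module.finrank (Localization.AtPrime p) (Localization.AtPrime p ⊗[A] H) = 1) :
    ∃ g : A, g ∉ p ∧
      Function.Bijective (LocalizedModule.map (Submonoid.powers g) (Algebra.linearMap A B)) := by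
  haveI : Module.Finite A B := Module.Finite.equiv ℓ.symm
  haveI : Module.FinitePresentation A B := Module.finitePresentation_of_finite A B
  let eC : Localization.AtPrime p ⊗[A] B ≃ₗ[Localization.AtPrime p]
      Localization.AtPrime p ⊗[A] H :=
    TensorProduct.AlgebraTensorModule.congr (LinearEquiv.refl _ _) ℓ
  haveI : Module.Flat (Localization.AtPrime p) (Localization.AtPrime p ⊗[A] B) :=
    Module.Flat.of_linearEquiv eC
  haveI : Module.Free (Localization.AtPrime p) (Localization.AtPrime p ⊗[A] B) :=
    Module.free_of_flat_of_isLocalRing
  have hrk' : Module.finrank (Localization.AtPrime p) (Localization.AtPrime p ⊗[A] B) = 1 := by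
    rw [eC.finrank_eq, hrk]
  have hbij : Function.Bijective (algebraMap (Localization.AtPrime p)
      (Localization.AtPrime p ⊗[A] B)) :=
    bijective_algebraMap_of_finrank_eq_one _ _ hrk'
  let fM : A →ₗ[A] Localization.AtPrime p := Algebra.linearMap A (Localization.AtPrime p)
  let fN : B →ₗ[A] Localization.AtPrime p ⊗[A] B := TensorProduct.mk A (Localization.AtPrime p) B 1
  have hmap : IsLocalizedModule.map p.primeCompl fM fN (Algebra.linearMap A B) =
      (Algebra.linearMap (Localization.AtPrime p)
        (Localization.AtPrime p ⊗[A] B)).restrictScalars A := by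
    apply IsLocalizedModule.ext p.primeCompl fM (IsLocalizedModule.map_units fN)
    rw [IsLocalizedModule.map_comp]
    ext
    simp [fM, fN]
  refine Module.FinitePresentation.exists_notMem_bijective (Algebra.linearMap A B) p fM fN ?_
  rw [hmap]
  exact hbij

end main

end Groth.Agent.H2.EtH0
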