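import Groth.Agent.Lib.Helper2.EtG
import Groth.Agent.Lib.Helper2.EtH
import Groth.Agent.Lib.Helper1.Stein

/-!
# EGA III 7.8.8: `O_Y → f_* O_X` is an isomorphism near a point whose fibre has only constant
global functions (helper2)
-/

set_option autoImplicit false
set_option linter.style.haveILetI false
universe u

open CategoryTheory CategoryTheory.Limits AlgebraicGeometry Opposite TopologicalSpace TensorProduct

namespace Groth.Agent.H2.EtH0

open Groth.Agent.H2.Mum Groth.Agent.H2.RpA Groth.Agent.H2.RpB Groth.Agent.H2.RpC Groth.Agent.LD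
  Groth.Agent.LD.CL Groth.Agent.LD.QC Groth.Agent.H8.ExtBridge

section HH0

/-- `H⁰(X, O_X) ≃ Γ(X, ⊤)` linearly over `A`, for a scheme over `Spec A`. -/
noncomputable def HH0LinΓ (A : Type u) [CommRing A] (X : Scheme.{u})
    [X.Over (Spec (CommRingCat.of A))] :
    letI : Algebra A Γ(X, ⊤) := (Coh.toGlobal (X ↘ Spec (CommRingCat.of A))).toAlgebra
    Coh.HH X (OX X) 0 ≃ₗ[A] Γ(X, ⊤) :=
  letI : Algebra A Γ(X, ⊤) := (Coh.toGlobal (X ↘ Spec (CommRingCat.of A))).toAlgebra
  { HH0Equiv (OX X) with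
    map_smul' := fun c x =>
      HH0Equiv_smul (OX X) (Coh.toGlobal (X ↘ Spec (CommRingCat.of A)) c) x }

/-- `H⁰(X, O_X) ≃ Γ(X, ⊤)` linearly over `Γ(S, ⊤)`, for `g : X ⟶ S`. -/
noncomputable def HH0LinApp {X S : Scheme.{u}} (g : X ⟶ S) :
    letI := overΓ g
    letI : Algebra Γ(S, ⊤) Γ(X, g ⁻¹ᵁ ⊤) := (g.app ⊤).hom.toAlgebra
    Coh.HH X (OX X) 0 ≃ₗ[Γ(S, ⊤)] Γ(X, g ⁻¹ᵁ ⊤) :=
  letI := overΓ g
  letI : Algebra Γ(S, ⊤) Γ(X, g ⁻¹ᵁ ⊤) := (g.app ⊤).hom.toAlgebra
  { HH0Equiv (OX X) with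
    map_smul' := fun c x =>
      (HH0Equiv_smul (OX X) (Coh.toGlobal (g ≫ S.toSpecΓ) c) x).trans
        (congrArg (fun r : Γ(X, ⊤) => r • (show Γ(OX X, ⊤) from HH0Equiv (OX X) x))
          (RingHom.congr_fun (toGlobal_overΓ g) c)) }

end HH0

section rank

/-- the fibre rank in degree `0` of the structure sheaf is `1` when the fibre has only constant
global functions. -/
lemma fiberRank_zero_eq_one {X Y : Scheme.{u}} (f : X ⟶ Y) (y : Y)
    (hy : Function.Bijective (algebraMap (Y.residueField y) Γ(f.fiber y, ⊤))) :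
    CohIII.fiberRank f (OX X) 0 y = 1 := by
  letI ovK : (f.fiber y).Over (Spec (CommRingCat.of (Y.residueField y))) :=
    ⟨f.fiberToSpecResidueField y⟩
  have e1 := HHEquivOfIso (Y.residueField y) (pullbackUnitIso (f.fiberι y)) 0
  have e2 := HH0LinΓ (Y.residueField y) (f.fiber y)
  have e3 : Y.residueField y ≃ₗ[Y.residueField y] Γ(f.fiber y, ⊤) :=
    LinearEquiv.ofBijective (Algebra.linearMap _ _) hy
  unfold CohIII.fiberRank
  exact (e1.trans (e2.trans e3.symm)).finrank_eq.trans (Module.finrank_self _)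

/-- flatness and rank of the localized homology from exactness of `T` at the point. -/
theorem flat_and_finrank_of_exact {A : Type u} [CommRing A] [IsNoetherianRing A]
    (P : ChainComplex (ModuleCat.{u} A) ℤ)
    (hP : ∀ i, Module.Finite A (P.X i) ∧ Module.Flat A (P.X i)) (x : PrimeSpectrum A) (q : ℤ)
    (hex : (CohIII.TFun (CohIII.bcCx (algebraMap A (Localization.AtPrime x.asIdeal)) P)
        q).PreservesMonomorphisms ∧
      (CohIII.TFun (CohIII.bcCx (algebraMap A (Localization.AtPrime x.asIdeal)) P)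
        q).PreservesEpimorphisms) :
    Module.Flat (Localization.AtPrime x.asIdeal)
        (Localization.AtPrime x.asIdeal ⊗[A] P.homology q) ∧
      Module.finrank (Localization.AtPrime x.asIdeal)
        (Localization.AtPrime x.asIdeal ⊗[A] P.homology q) = CohIII.dRank P q x := by
  obtain ⟨hflat, hfin, hrk⟩ := flat_finite_rank_of_exact
    (CohIII.bcCx (algebraMap A (Localization.AtPrime x.asIdeal)) P)
    (fun i => finite_flat_bcCx P hP i) q hex
  have hflatΛ : (algebraMap A (Localization.AtPrime x.asIdeal)).Flat := by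
    rw [RingHom.flat_algebraMap_iff]
    infer_instance
  let E := (Groth.Agent.H8.DRank.homologyBcIsoOfFlat (algebraMap A
    (Localization.AtPrime x.asIdeal)) hflatΛ P q).toLinearEquiv.trans
      (extEquiv (B := Localization.AtPrime x.asIdeal) (P.homology q))
  haveI := hflat
  haveI := hfin
  refine ⟨Module.Flat.of_linearEquiv E.symm, ?_⟩
  haveI : Module.Free (Localization.AtPrime x.asIdeal)
      ((CohIII.bcCx (algebraMap A (Localization.AtPrime x.asIdeal)) P).homology q) :=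
    Module.free_of_flat_of_isLocalRing
  rw [← E.finrank_eq]
  have h1 := hrk (IsLocalRing.closedPoint (Localization.AtPrime x.asIdeal))
  rw [Module.rankAtStalk_eq_finrank_of_free] at h1
  change Module.finrank _ _ = _ at h1
  rw [h1, Groth.Agent.H8.DRank.dRank_bc]
  congr 1
  exact PrimeSpectrum.ext Localization.AtPrime.under_maximalIdeal

end rank

section geom

/-- restriction to an open of the base does not change the maps on sections. -/
lemma isIso_app_image_iff {X Y : Scheme.{u}} (f : X ⟶ Y) (U : Y.Opens) (W : U.toScheme.Opens) :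
    IsIso ((f ∣_ U).app W) ↔ IsIso (f.app (U.ι ''ᵁ W)) := by
  rw [morphismRestrict_app]
  constructor
  · intro h
    exact @IsIso.of_isIso_comp_right _ _ _ _ _ (f.app (U.ι ''ᵁ W))
      (X.presheaf.map (eqToHom (image_morphismRestrict_preimage f U W)).op) inferInstance h
  · intro h
    exact @IsIso.comp_isIso _ _ _ _ _ (f.app (U.ι ''ᵁ W))
      (X.presheaf.map (eqToHom (image_morphismRestrict_preimage f U W)).op) h inferInstance

/-- if the localization away from `b` of `Γ(X', W) → Γ(X, g⁻¹W)` is bijective, then `g` induces an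
isomorphism on sections over the basic open of `b`. -/
theorem isIso_app_basicOpen_of_bijective_map {X X' : Scheme.{u}} (g : X ⟶ X') {W : X'.Opens}
    (hW : IsAffineOpen W) (hc : IsCompact (g ⁻¹ᵁ W).1) (hqs : IsQuasiSeparated (g ⁻¹ᵁ W).1)
    (b : Γ(X', W))
    (hb : letI := (g.app W).hom.toAlgebra
      Function.Bijective (LocalizedModule.map (Submonoid.powers b)
        (Algebra.linearMap Γ(X', W) Γ(X, g ⁻¹ᵁ W)))) :
    IsIso (g.app (X'.basicOpen b)) := by
  have hpre : g ⁻¹ᵁ X'.basicOpen b = X.basicOpen (g.app W b) := g.preimage_basicOpen b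
  let alg : Algebra Γ(X, g ⁻¹ᵁ W) Γ(X, g ⁻¹ᵁ X'.basicOpen b) :=
    (X.presheaf.map (homOfLE (hpre.le.trans (X.basicOpen_le _))).op).hom.toAlgebra
  have h1 : IsLocalization.Away (g.app W b) Γ(X, g ⁻¹ᵁ X'.basicOpen b) :=
    Groth.Agent.H1.isLocalization_away_of_eq_basicOpen hc hqs (g.app W b) hpre
  have h2 : IsLocalization.Away b Γ(X', X'.basicOpen b) := hW.isLocalization_basicOpen b
  have := bijective_of_bijective_localizedModule_map (A := Γ(X', W))
    (A' := Γ(X', X'.basicOpen b)) (R := Γ(X, g ⁻¹ᵁ W)) (R' := Γ(X, g ⁻¹ᵁ X'.basicOpen b)) b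
    (g.app W).hom (g.app (X'.basicOpen b)).hom (by
      have := g.naturality (homOfLE (X'.basicOpen_le b)).op
      simp only [RingHom.algebraMap_toAlgebra, ← CommRingCat.hom_comp]
      exact congr($(this).hom)) hb
  exact (ConcreteCategory.isIso_iff_bijective _).mpr this

end geom

section main

attribute [local instance] overV

/-- **EGA III 7.8.8**: for `f` proper and flat, `O_Y(V) → O_X(f⁻¹V)` is an isomorphism for all
small opens `V` near a point whose fibre has only the constants as global functions. -/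
theorem exists_isIso_app_of_bijective {X Y : Scheme.{u}} (f : X ⟶ Y) [IsProper f] [Flat f]
    [IsLocallyNoetherian Y] (y : Y)
    (hy : Function.Bijective (algebraMap (Y.residueField y) Γ(f.fiber y, ⊤))) :
    ∃ U : Y.Opens, y ∈ U ∧ ∀ V : Y.Opens, V ≤ U → IsIso (f.app V) := by
  haveI := QCQS.hasInjRes X
  have het : Algebra.Etale (Y.residueField y) Γ(f.fiber y, ⊤) :=
    Algebra.Etale.of_equiv (AlgEquiv.ofBijective (Algebra.ofId _ _) hy)
  obtain ⟨V, hV, hyV, -⟩ := exists_isAffineOpen_mem_and_subset (x := y) (U := ⊤) trivial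
  haveI : IsAffine V.toScheme := hV
  haveI : IsNoetherianRing Γ(V.toScheme, ⊤) :=
    IsLocallyNoetherian.component_noetherian ⟨⊤, isAffineOpen_top V.toScheme⟩
  let x : PrimeSpectrum Γ(V.toScheme, ⊤) := V.toScheme.toSpecΓ ⟨y, hyV⟩
  obtain ⟨P, hP, hrank, -, hm, he, ⟨ℓ⟩⟩ := exists_localData_etale f V hV y hyV het x.asIdeal rfl
  have hP' : ∀ i, Module.Finite Γ(V.toScheme, ⊤) (P.X i) ∧
      Module.Flat Γ(V.toScheme, ⊤) (P.X i) :=
    fun i => ⟨(hP i).1, by haveI := (hP i).2; infer_instance⟩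
  obtain ⟨hfl, hrk0⟩ := flat_and_finrank_of_exact P hP' x (-((0 : ℕ) : ℤ)) ⟨hm, he⟩
  have hrk : Module.finrank (Localization.AtPrime x.asIdeal)
      (Localization.AtPrime x.asIdeal ⊗[Γ(V.toScheme, ⊤)] P.homology (-((0 : ℕ) : ℤ))) = 1 :=
    hrk0.trans (hrank.symm.trans (fiberRank_zero_eq_one f y hy))
  haveI : Module.Finite Γ(V.toScheme, ⊤) (P.X (-((0 : ℕ) : ℤ))) := (hP _).1
  haveI : Module.Finite Γ(V.toScheme, ⊤) (P.homology (-((0 : ℕ) : ℤ))) :=
    Groth.Agent.H8.TFun.finite_homology P _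
  -- the algebra of global functions of `f⁻¹V`
  letI algB : Algebra Γ(V.toScheme, ⊤) Γ((f ⁻¹ᵁ V).toScheme, (f ∣_ V) ⁻¹ᵁ ⊤) :=
    ((f ∣_ V).app ⊤).hom.toAlgebra
  let ℓB : Γ((f ⁻¹ᵁ V).toScheme, (f ∣_ V) ⁻¹ᵁ ⊤) ≃ₗ[Γ(V.toScheme, ⊤)]
      P.homology (-((0 : ℕ) : ℤ)) := (HH0LinApp (f ∣_ V)).symm ≪≫ₗ ℓ
  obtain ⟨g₀, hg₀, hbij⟩ := exists_bijective_localizedModule_map x.asIdeal
    (P.homology (-((0 : ℕ) : ℤ))) ℓB hfl hrk
  have hiso : IsIso ((f ∣_ V).app (V.toScheme.basicOpen g₀)) :=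
    isIso_app_basicOpen_of_bijective_map (f ∣_ V) (isAffineOpen_top V.toScheme)
      ((f ∣_ V).isCompact_preimage (isAffineOpen_top V.toScheme).isCompact)
      ((f ∣_ V).isQuasiSeparated_preimage (isAffineOpen_top V.toScheme).isQuasiSeparated)
      g₀ hbij
  -- the neighbourhood
  have hyU : y ∈ V.ι ''ᵁ V.toScheme.basicOpen g₀ := by
    have h1 : (⟨y, hyV⟩ : V.toScheme) ∈ V.toScheme.basicOpen g₀ := by
      rw [← V.toScheme.toSpecΓ_preimage_basicOpen g₀]
      exact hg₀
    exact ⟨⟨y, hyV⟩, h1, rfl⟩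
  have hUaff : IsAffineOpen (V.ι ''ᵁ V.toScheme.basicOpen g₀) :=
    ((isAffineOpen_top V.toScheme).basicOpen g₀).image_of_isOpenImmersion V.ι
  rw [isIso_app_image_iff] at hiso
  refine ⟨V.ι ''ᵁ V.toScheme.basicOpen g₀, hyU, fun V' hV' => ?_⟩
  generalize V.ι ''ᵁ V.toScheme.basicOpen g₀ = U₀ at hyU hUaff hiso hV'
  haveI : IsAffine U₀.toScheme := hUaff
  haveI : IsIso ((f ∣_ U₀).app ⊤) := by
    rw [isIso_app_image_iff, U₀.ι_image_top]
    exact hiso
  have hbasis : ∀ b : Γ(U₀.toScheme, ⊤), IsIso ((f ∣_ U₀).app (U₀.toScheme.basicOpen b)) :=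
    fun b => Groth.Agent.H1.isIso_app_basicOpen_of_isIso_app (f ∣_ U₀)
      (isAffineOpen_top U₀.toScheme)
      ((f ∣_ U₀).isCompact_preimage (isAffineOpen_top U₀.toScheme).isCompact)
      ((f ∣_ U₀).isQuasiSeparated_preimage (isAffineOpen_top U₀.toScheme).isQuasiSeparated) b
  have hall := Groth.Agent.H1.isIso_app_of_isBasis (f ∣_ U₀)
    (fun b : Γ(U₀.toScheme, ⊤) => U₀.toScheme.basicOpen b) (isBasis_basicOpen U₀.toScheme)
    hbasis (U₀.ι ⁻¹ᵁ V')
  rw [isIso_app_image_iff] at hall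
  have e : U₀.ι ''ᵁ (U₀.ι ⁻¹ᵁ V') = V' := by
    simpa [Scheme.Hom.image_preimage_eq_opensRange_inf] using hV'
  rw [e] at hall
  exact hall

end main

end Groth.Agent.H2.EtH0
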