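import Mathlib
import Groth.Prelude.Def_EtBase
import Groth.Prelude.Def_EtBaseX
import Groth.Agent.Lib.Helper2.FinStalkD

set_option autoImplicit false
set_option linter.style.haveILetI false
set_option linter.unusedVariables false
universe u
open CategoryTheory CategoryTheory.Limits AlgebraicGeometry MorphismProperty TopologicalSpace Opposite

namespace Groth.Agent.H2.EtLocRing

open Groth.Agent.H2.FinStalk

variable {X : Scheme.{u}} {Ω : Type u} [Field Ω] [IsSepClosed Ω] (ξ : Spec (CommRingCat.of Ω) ⟶ X)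

/-- The germ map `Γ(U, 𝒪_U) → 𝒪_{X,ξ}^{sh}` at an étale neighbourhood `(U, u)` of `ξ`. -/
noncomputable def germ (U : X.Etale) (u : (Scheme.pointSmallEtale ξ).fiber.obj U) :
    Γ(U.left, ⊤) →+* EtBase.etaleLocalRing ξ :=
  ((Scheme.pointSmallEtale ξ).toPresheafFiber U u (EtBase.OO X)).hom

lemma germ_surjective (a : EtBase.etaleLocalRing ξ) :
    ∃ (U : X.Etale) (u : (Scheme.pointSmallEtale ξ).fiber.obj U) (b : Γ(U.left, ⊤)),
      germ ξ U u b = a :=
  (Scheme.pointSmallEtale ξ).toPresheafFiber_jointly_surjective (P := EtBase.OO X) a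

lemma germ_map {U' U : X.Etale} (g : U' ⟶ U) (u' : (Scheme.pointSmallEtale ξ).fiber.obj U')
    (b : Γ(U.left, ⊤)) :
    germ ξ U' u' (g.left.appTop b) = germ ξ U ((Scheme.pointSmallEtale ξ).fiber.map g u') b :=
  (Scheme.pointSmallEtale ξ).toPresheafFiber_w_apply g u' (EtBase.OO X) b

/-- Evaluation of a function on an étale neighbourhood at the geometric point. -/
noncomputable def evU (U : X.Etale) (u : (Scheme.pointSmallEtale ξ).fiber.obj U) :
    Γ(U.left, ⊤) →+* Ω :=
  (Scheme.ΓSpecIso (CommRingCat.of Ω)).hom.hom.comp u.left.appTop.hom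

lemma evU_map {U' U : X.Etale} (g : U' ⟶ U) (u' : (Scheme.pointSmallEtale ξ).fiber.obj U')
    (b : Γ(U.left, ⊤)) :
    evU ξ U' u' (g.left.appTop b) = evU ξ U ((Scheme.pointSmallEtale ξ).fiber.map g u') b := by
  obtain ⟨ul, hul⟩ : ∃ ul : Spec (CommRingCat.of Ω) ⟶ U'.left, ul = u'.left := ⟨_, rfl⟩
  have h2 : (ul ≫ g.left).appTop = g.left.appTop ≫ ul.appTop := Scheme.Hom.comp_appTop _ _
  have h3 := congrArg (fun m : Γ(U.left, ⊤) ⟶ Γ(Spec (CommRingCat.of Ω), ⊤) =>
    (Scheme.ΓSpecIso (CommRingCat.of Ω)).hom (m b)) h2.symm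
  rw [hul] at h3
  exact h3

/-- Evaluation `𝒪_{X,ξ}^{sh} → Ω`. -/
noncomputable def ev : EtBase.etaleLocalRing ξ →+* Ω :=
  ((Scheme.pointSmallEtale ξ).presheafFiberDesc (P := EtBase.OO X) (T := CommRingCat.of Ω)
    (fun U u => CommRingCat.ofHom (evU ξ U u))
    (by
      intro U' U g u'
      ext b
      exact evU_map ξ g u' b)).hom

lemma ev_germ (U : X.Etale) (u : (Scheme.pointSmallEtale ξ).fiber.obj U) (b : Γ(U.left, ⊤)) :
    ev ξ (germ ξ U u b) = evU ξ U u b := by
  have := (Scheme.pointSmallEtale ξ).toPresheafFiber_presheafFiberDesc (P := EtBase.OO X)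
    (T := CommRingCat.of Ω) (fun U u => CommRingCat.ofHom (evU ξ U u))
    (by
      intro U' U g u'
      ext b
      exact evU_map ξ g u' b) U u
  exact ConcreteCategory.congr_hom this b

end Groth.Agent.H2.EtLocRing
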