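import Mathlib
import Groth.Prelude.Def_EtBase
import Groth.Prelude.Def_EtBaseX
import Groth.Agent.Lib.Helper2.EtLocRingA

set_option autoImplicit false
set_option linter.style.haveILetI false
set_option linter.unusedVariables false
universe u
open CategoryTheory CategoryTheory.Limits AlgebraicGeometry MorphismProperty TopologicalSpace Opposite

namespace Groth.Agent.H2.EtLocRing

open Groth.Agent.H2.FinStalk

variable {X : Scheme.{u}} {Ω : Type u} [Field Ω] [IsSepClosed Ω] (ξ : Spec (CommRingCat.of Ω) ⟶ X)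

lemma isoSpec_inv_appTop (W : Scheme.{u}) [IsAffine W] :
    W.isoSpec.inv.appTop = (Scheme.ΓSpecIso Γ(W, ⊤)).inv := by
  have h1 : W.isoSpec.hom.appTop = (Scheme.ΓSpecIso Γ(W, ⊤)).hom := Scheme.toSpecΓ_appTop W
  have h2 : W.isoSpec.hom.appTop ≫ W.isoSpec.inv.appTop = 𝟙 _ := by
    rw [← Scheme.Hom.comp_appTop, Iso.inv_hom_id]
    rfl
  rw [h1] at h2
  exact Iso.inv_ext' h2

set_option backward.isDefEq.respectTransparency.types false in
/-- **Extension lemma.** An étale algebra `C` over the ring of functions of an affine étale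
neighbourhood `(U, u)`, together with a compatible point `C → Ω`, maps to the étale local ring. -/
theorem exists_ext (U : X.Etale) [IsAffine U.left] (u : (Scheme.pointSmallEtale ξ).fiber.obj U)
    (C : Type u) [CommRing C] [Algebra Γ(U.left, ⊤) C] [Algebra.Etale Γ(U.left, ⊤) C]
    (ψ : C →+* Ω) (hψ : ψ.comp (algebraMap Γ(U.left, ⊤) C) = evU ξ U u) :
    ∃ γ : C →+* EtBase.etaleLocalRing ξ,
      γ.comp (algebraMap Γ(U.left, ⊤) C) = germ ξ U u ∧ (ev ξ).comp γ = ψ := by
  obtain ⟨B, hB⟩ : ∃ B : CommRingCat.{u}, B = Γ(U.left, ⊤) := ⟨_, rfl⟩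
  let alg : Γ(U.left, ⊤) ⟶ CommRingCat.of C := CommRingCat.ofHom (algebraMap Γ(U.left, ⊤) C)
  haveI hEt : Etale (Spec.map alg) := by
    refine (HasRingHomProperty.Spec_iff (P := @Etale)).mpr ?_
    exact RingHom.etale_algebraMap.mpr inferInstance
  let h : Spec (CommRingCat.of C) ⟶ U.left := Spec.map alg ≫ U.left.isoSpec.inv
  haveI : Etale U.hom := U.prop
  haveI : Etale h := inferInstance
  let U' : X.Etale := MorphismProperty.Over.mk ⊤ (h ≫ U.hom) inferInstance
  obtain ⟨g, hg⟩ : ∃ g : U' ⟶ U, g.left = h := ⟨MorphismProperty.Over.homMk h rfl, rfl⟩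
  obtain ⟨ul, hul⟩ : ∃ ul : Spec (CommRingCat.of Ω) ⟶ U.left, ul = u.left := ⟨_, rfl⟩
  have hulw : ul ≫ U.hom = ξ := hul ▸ Over.w u
  have hψ' : alg ≫ CommRingCat.ofHom ψ = ul.appTop ≫ (Scheme.ΓSpecIso (CommRingCat.of Ω)).hom := by
    ext b
    have := congrArg (fun m : Γ(U.left, ⊤) →+* Ω => m b) hψ
    rw [hul]
    exact this
  have hlift : Spec.map (CommRingCat.ofHom ψ) ≫ h = ul := by
    change Spec.map (CommRingCat.ofHom ψ) ≫ Spec.map alg ≫ U.left.isoSpec.inv = ul
    rw [← Category.assoc, ← Spec.map_comp, hψ', Spec.map_comp, ← Scheme.isoSpec_Spec_hom,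
      Category.assoc, Scheme.isoSpec_hom_naturality_assoc, Iso.hom_inv_id, Category.comp_id]
  obtain ⟨u', hu'⟩ : ∃ u' : (Scheme.pointSmallEtale ξ).fiber.obj U',
      u'.left = Spec.map (CommRingCat.ofHom ψ) :=
    ⟨Over.homMk (Spec.map (CommRingCat.ofHom ψ))
      (((Category.assoc _ _ _).symm.trans (congrArg (fun m => m ≫ U.hom) hlift)).trans hulw), rfl⟩
  have hgu : (Scheme.pointSmallEtale ξ).fiber.map g u' = u := by
    apply Over.OverMorphism.ext
    change u'.left ≫ g.left = u.left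
    have st1 : u'.left ≫ g.left = Spec.map (CommRingCat.ofHom ψ) ≫ h :=
      congrArg₂ (fun (m₁ : Spec (CommRingCat.of Ω) ⟶ Spec (CommRingCat.of C))
        (m₂ : Spec (CommRingCat.of C) ⟶ U.left) => m₁ ≫ m₂) hu' hg
    exact st1.trans (hlift.trans hul)
  have happ : g.left.appTop = alg ≫ (Scheme.ΓSpecIso (CommRingCat.of C)).inv := by
    rw [hg]
    change (Spec.map alg ≫ U.left.isoSpec.inv).appTop = _
    rw [Scheme.Hom.comp_appTop, isoSpec_inv_appTop, Scheme.ΓSpecIso_inv_naturality]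
  refine ⟨(germ ξ U' u').comp (Scheme.ΓSpecIso (CommRingCat.of C)).inv.hom, ?_, ?_⟩
  · ext b
    change germ ξ U' u' ((Scheme.ΓSpecIso (CommRingCat.of C)).inv (alg b)) = germ ξ U u b
    rw [← hgu, ← germ_map]
    congr 1
    exact (ConcreteCategory.congr_hom happ b).symm
  · ext c
    change ev ξ (germ ξ U' u' ((Scheme.ΓSpecIso (CommRingCat.of C)).inv c)) = ψ c
    rw [ev_germ]
    change (Scheme.ΓSpecIso (CommRingCat.of Ω)).hom
      (u'.left.appTop ((Scheme.ΓSpecIso (CommRingCat.of C)).inv c)) = ψ c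
    rw [hu']
    have n1 : (Scheme.ΓSpecIso (CommRingCat.of Ω)).inv (ψ c) =
        (Spec.map (CommRingCat.ofHom ψ)).appTop ((Scheme.ΓSpecIso (CommRingCat.of C)).inv c) :=
      ConcreteCategory.congr_hom (Scheme.ΓSpecIso_inv_naturality (CommRingCat.ofHom ψ)) c
    exact (congrArg (fun t => (Scheme.ΓSpecIso (CommRingCat.of Ω)).hom t) n1.symm).trans
      (Iso.inv_hom_id_apply (Scheme.ΓSpecIso (CommRingCat.of Ω)) (ψ c))

end Groth.Agent.H2.EtLocRing
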