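import Mathlib
import Groth.Prelude.Def_EtBase
import Groth.Prelude.Def_EtBaseX
import Groth.Agent.Lib.Helper2.EtLocRingB

set_option autoImplicit false
set_option linter.style.haveILetI false
set_option linter.unusedVariables false
universe u
open CategoryTheory CategoryTheory.Limits AlgebraicGeometry MorphismProperty TopologicalSpace Opposite

namespace Groth.Agent.H2.EtLocRing

open Groth.Agent.H2.FinStalk

variable {X : Scheme.{u}} {Ω : Type u} [Field Ω] [IsSepClosed Ω] (ξ : Spec (CommRingCat.of Ω) ⟶ X)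

/-- Every étale neighbourhood can be refined by an affine one. -/
lemma exists_affine_refine (U : X.Etale) (u : (Scheme.pointSmallEtale ξ).fiber.obj U) :
    ∃ (U' : X.Etale) (g : U' ⟶ U) (u' : (Scheme.pointSmallEtale ξ).fiber.obj U'),
      IsAffine U'.left ∧ (Scheme.pointSmallEtale ξ).fiber.map g u' = u := by
  obtain ⟨W, hW, hpW, -⟩ := exists_isAffineOpen_mem_and_subset
    (x := u.left (default : ↥(Spec (CommRingCat.of Ω)))) (U := (⊤ : U.left.Opens)) trivial
  obtain ⟨u', hu'⟩ := exists_fiber_openObj ξ U W u hpW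
  exact ⟨openObj U W, openIncl U W, u', hW, hu'⟩

/-- The canonical étale neighbourhood `X` of `ξ`. -/
noncomputable def topPt : (Scheme.pointSmallEtale ξ).fiber.obj (EtCoh.top X) :=
  Over.homMk ξ (Category.comp_id ξ)

/-- Finitely many elements of the étale local ring are germs on a common affine neighbourhood. -/
lemma exists_common (s : Finset (EtBase.etaleLocalRing ξ)) :
    ∃ (U : X.Etale) (u : (Scheme.pointSmallEtale ξ).fiber.obj U), IsAffine U.left ∧
      ∀ a ∈ s, a ∈ Set.range (germ ξ U u) := by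
  classical
  induction s using Finset.induction_on with
  | empty =>
    obtain ⟨U', g, u', hU', -⟩ := exists_affine_refine ξ (EtCoh.top X) (topPt ξ)
    exact ⟨U', u', hU', fun a ha => absurd ha (Finset.notMem_empty a)⟩
  | insert a s ha ih =>
    obtain ⟨U₁, u₁, -, h₁⟩ := ih
    obtain ⟨U₂, u₂, b₂, hb₂⟩ := germ_surjective ξ a
    let e₁ : (Scheme.pointSmallEtale ξ).fiber.Elements := ⟨U₁, u₁⟩
    let e₂ : (Scheme.pointSmallEtale ξ).fiber.Elements := ⟨U₂, u₂⟩
    let e₃ : (Scheme.pointSmallEtale ξ).fiber.Elements := IsCofiltered.min e₁ e₂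
    let m₁ : e₃ ⟶ e₁ := IsCofiltered.minToLeft e₁ e₂
    let m₂ : e₃ ⟶ e₂ := IsCofiltered.minToRight e₁ e₂
    obtain ⟨U₄, g, u₄, hU₄, hu₄⟩ := exists_affine_refine ξ e₃.1 e₃.2
    have hm₁ : (Scheme.pointSmallEtale ξ).fiber.map m₁.1 e₃.2 = u₁ := m₁.2
    have hm₂ : (Scheme.pointSmallEtale ξ).fiber.map m₂.1 e₃.2 = u₂ := m₂.2
    refine ⟨U₄, u₄, hU₄, ?_⟩
    intro a' ha'
    rcases Finset.mem_insert.1 ha' with rfl | ha'
    · refine ⟨g.left.appTop (m₂.1.left.appTop b₂), ?_⟩
      rw [germ_map, hu₄, germ_map, hm₂, hb₂]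
    · obtain ⟨b₁, hb₁⟩ := h₁ a' ha'
      refine ⟨g.left.appTop (m₁.1.left.appTop b₁), ?_⟩
      rw [germ_map, hu₄, germ_map, hm₁, hb₁]

/-- Elements not vanishing at the geometric point are units. -/
theorem isUnit_of_ev_ne_zero (a : EtBase.etaleLocalRing ξ) (ha : ev ξ a ≠ 0) : IsUnit a := by
  obtain ⟨U₀, u₀, b₀, rfl⟩ := germ_surjective ξ a
  obtain ⟨U, g, u, hU, hu⟩ := exists_affine_refine ξ U₀ u₀
  haveI := hU
  obtain ⟨b, hb⟩ : ∃ b : Γ(U.left, ⊤), b = g.left.appTop b₀ := ⟨_, rfl⟩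
  have hgerm : germ ξ U u b = germ ξ U₀ u₀ b₀ := by rw [hb, germ_map, hu]
  rw [← hgerm] at ha ⊢
  rw [ev_germ] at ha
  have hunit : IsUnit (evU ξ U u b) := isUnit_iff_ne_zero.mpr ha
  haveI : Algebra.Etale Γ(U.left, ⊤) (Localization.Away b) :=
    Algebra.Etale.of_isLocalizationAway b
  obtain ⟨γ, hγ1, hγ2⟩ := exists_ext ξ U u (Localization.Away b)
    (IsLocalization.Away.lift b hunit) (IsLocalization.Away.lift_comp b hunit)
  have h1 : germ ξ U u b = γ (algebraMap Γ(U.left, ⊤) (Localization.Away b) b) :=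
    (congrArg (fun m : Γ(U.left, ⊤) →+* EtBase.etaleLocalRing ξ => m b) hγ1).symm
  rw [h1]
  exact (IsLocalization.Away.algebraMap_isUnit b).map γ

lemma isUnit_iff_ev_ne_zero (a : EtBase.etaleLocalRing ξ) : IsUnit a ↔ ev ξ a ≠ 0 :=
  ⟨fun h => (h.map (ev ξ)).ne_zero, isUnit_of_ev_ne_zero ξ a⟩

instance isLocalRing_etaleLocalRing : IsLocalRing (EtBase.etaleLocalRing ξ) := by
  haveI : Nontrivial (EtBase.etaleLocalRing ξ) :=
    ⟨⟨0, 1, fun h => by
      have := congrArg (ev ξ) h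
      rw [map_zero, map_one] at this
      exact zero_ne_one this⟩⟩
  refine IsLocalRing.of_nonunits_add ?_
  intro a b ha hb
  have ha' : ev ξ a = 0 := by
    by_contra h
    exact ha (isUnit_of_ev_ne_zero ξ a h)
  have hb' : ev ξ b = 0 := by
    by_contra h
    exact hb (isUnit_of_ev_ne_zero ξ b h)
  intro hab
  have := (isUnit_iff_ev_ne_zero ξ (a + b)).1 hab
  rw [map_add, ha', hb', add_zero] at this
  exact this rfl

lemma mem_maximalIdeal_iff (a : EtBase.etaleLocalRing ξ) :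
    a ∈ IsLocalRing.maximalIdeal (EtBase.etaleLocalRing ξ) ↔ ev ξ a = 0 := by
  rw [IsLocalRing.mem_maximalIdeal, mem_nonunits_iff, isUnit_iff_ev_ne_zero, not_not]

end Groth.Agent.H2.EtLocRing
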