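import Mathlib
import Groth.Prelude.Def_EtBase
import Groth.Prelude.Def_EtBaseX
import Groth.Agent.Lib.Helper2.EtLocRingC

set_option autoImplicit false
set_option linter.style.haveILetI false
set_option linter.unusedVariables false
universe u
open CategoryTheory CategoryTheory.Limits AlgebraicGeometry MorphismProperty TopologicalSpace Opposite
open Polynomial

namespace Groth.Agent.H2.EtLocRing

open Groth.Agent.H2.FinStalk

variable {X : Scheme.{u}} {Ω : Type u} [Field Ω] [IsSepClosed Ω] (ξ : Spec (CommRingCat.of Ω) ⟶ X)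

/-- **Key lemma**: simple roots in `Ω` of monic polynomials over the étale local ring lift. -/
theorem exists_root (f : (EtBase.etaleLocalRing ξ)[X]) (hf : f.Monic) (ω : Ω)
    (h0 : f.eval₂ (ev ξ) ω = 0) (h1 : f.derivative.eval₂ (ev ξ) ω ≠ 0) :
    ∃ a : EtBase.etaleLocalRing ξ, f.eval a = 0 ∧ ev ξ a = ω := by
  classical
  obtain ⟨U, u, hU, hs⟩ := exists_common ξ (Finset.image f.coeff f.support)
  haveI := hU
  have hlifts : f ∈ Polynomial.lifts (germ ξ U u) := by
    rw [Polynomial.lifts_iff_coeff_lifts]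
    intro n
    by_cases hn : n ∈ f.support
    · exact hs _ (Finset.mem_image_of_mem _ hn)
    · rw [Polynomial.notMem_support_iff.mp hn]
      exact ⟨0, map_zero _⟩
  obtain ⟨fB, hfB, -, hmonic⟩ := Polynomial.lifts_and_degree_eq_and_monic hlifts hf
  let P : StandardEtalePair Γ(U.left, ⊤) :=
    ⟨fB, hmonic, Polynomial.derivative fB, ⟨1, 0, 1, by simp⟩⟩
  letI : Algebra Γ(U.left, ⊤) Ω := (evU ξ U u).toAlgebra
  have hcomp : (ev ξ).comp (germ ξ U u) = evU ξ U u := by
    ext b
    exact ev_germ ξ U u b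
  have e0 : Polynomial.aeval ω fB = 0 := by
    change fB.eval₂ (evU ξ U u) ω = 0
    rw [← hcomp, ← Polynomial.eval₂_map, hfB]
    exact h0
  have e1 : Polynomial.aeval ω (Polynomial.derivative fB) ≠ 0 := by
    change (Polynomial.derivative fB).eval₂ (evU ξ U u) ω ≠ 0
    rw [← hcomp, ← Polynomial.eval₂_map, ← Polynomial.derivative_map, hfB]
    exact h1
  have hmap : P.HasMap ω := ⟨e0, isUnit_iff_ne_zero.mpr e1⟩
  obtain ⟨γ, hγ1, hγ2⟩ := exists_ext ξ U u P.Ring (P.lift ω hmap).toRingHom (by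
    ext b
    exact (P.lift ω hmap).commutes b)
  refine ⟨γ P.X, ?_, ?_⟩
  · rw [← hfB, Polynomial.eval_map, ← hγ1, ← Polynomial.hom_eval₂]
    have : fB.eval₂ (algebraMap Γ(U.left, ⊤) P.Ring) P.X = 0 := P.hasMap_X.1
    rw [this, map_zero]
  · have := congrArg (fun m : P.Ring →+* Ω => m P.X) hγ2
    exact this.trans (P.lift_X ω hmap)

instance henselianLocalRing_etaleLocalRing : HenselianLocalRing (EtBase.etaleLocalRing ξ) where
  is_henselian f hf a₀ h0 h1 := by
    have e0 : f.eval₂ (ev ξ) (ev ξ a₀) = 0 := by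
      rw [Polynomial.eval₂_at_apply]
      exact (mem_maximalIdeal_iff ξ _).1 h0
    have e1 : f.derivative.eval₂ (ev ξ) (ev ξ a₀) ≠ 0 := by
      rw [Polynomial.eval₂_at_apply]
      exact (isUnit_iff_ev_ne_zero ξ _).1 h1
    obtain ⟨a, ha1, ha2⟩ := exists_root ξ f hf (ev ξ a₀) e0 e1
    refine ⟨a, ha1, ?_⟩
    rw [mem_maximalIdeal_iff, map_sub, ha2, sub_self]

instance isLocalHom_ev : IsLocalHom (ev ξ) :=
  ⟨fun a ha => isUnit_of_ev_ne_zero ξ a ha.ne_zero⟩

/-- The residue field of the étale local ring embeds into `Ω`. -/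
noncomputable def evRes : IsLocalRing.ResidueField (EtBase.etaleLocalRing ξ) →+* Ω :=
  IsLocalRing.ResidueField.lift (ev ξ)

lemma evRes_comp_residue :
    (evRes ξ).comp (IsLocalRing.residue (EtBase.etaleLocalRing ξ)) = ev ξ :=
  IsLocalRing.ResidueField.lift_comp_residue (ev ξ)

instance isSepClosed_residueField :
    IsSepClosed (IsLocalRing.ResidueField (EtBase.etaleLocalRing ξ)) := by
  refine IsSepClosed.of_exists_root _ ?_
  intro p hp hirr hsep
  have hlifts : p ∈ Polynomial.lifts (IsLocalRing.residue (EtBase.etaleLocalRing ξ)) := by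
    rw [Polynomial.lifts_iff_coeff_lifts]
    intro n
    exact IsLocalRing.residue_surjective _
  obtain ⟨f, hf, -, hmonic⟩ := Polynomial.lifts_and_degree_eq_and_monic hlifts hp
  have hsep' : (p.map (evRes ξ)).Separable := hsep.map
  have hdeg : (p.map (evRes ξ)).degree ≠ 0 := by
    rw [Polynomial.degree_map]
    exact (Polynomial.degree_pos_of_irreducible hirr).ne'
  obtain ⟨ω, hω⟩ := IsSepClosed.exists_root (p.map (evRes ξ)) hdeg hsep'
  have hfmap : f.map (ev ξ) = p.map (evRes ξ) := by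
    rw [← hf, Polynomial.map_map, evRes_comp_residue]
  have e0 : f.eval₂ (ev ξ) ω = 0 := by
    rw [← Polynomial.eval_map, hfmap]
    exact hω
  have e1 : f.derivative.eval₂ (ev ξ) ω ≠ 0 := by
    rw [← Polynomial.eval_map, ← Polynomial.derivative_map, hfmap]
    exact hsep'.eval₂_derivative_ne_zero (RingHom.id Ω) (by rwa [Polynomial.eval₂_id])
  obtain ⟨a, ha1, -⟩ := exists_root ξ f hmonic ω e0 e1
  refine ⟨IsLocalRing.residue _ a, ?_⟩
  rw [← hf, Polynomial.eval_map, Polynomial.eval₂_at_apply, ha1, map_zero]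

/-- **S0111**: the étale local ring at a geometric point is strictly henselian. -/
theorem S0111_main : EtCoh.IsStrictlyHenselianLocalRing (EtBase.etaleLocalRing ξ) :=
  ⟨henselianLocalRing_etaleLocalRing ξ, isSepClosed_residueField ξ⟩

end Groth.Agent.H2.EtLocRing
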