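import Groth.Agent.Lib.Helper2.EulerTwF
import Groth.Agent.Lib.Lead.QC.SubExt
import Groth.Agent.Lib.Lead.QC.Gen
import Groth.Agent.Lib.Lead.QC.Closure
import Groth.Agent.Lib.Lead.QC.TensorQC
import Groth.Agent.Lib.Lead.QC.TensorDesc
import Groth.Agent.Lib.Lead.TW.UnitBasis

/-! # Sections of modules over an open: linear maps, twisting by a basis. The functions
`X_j ι_l ω` on a standard chart of projective space. -/

set_option autoImplicit false
set_option linter.style.haveILetI false
universe u
open CategoryTheory CategoryTheory.Limits AlgebraicGeometry TopologicalSpace Opposite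

namespace Groth.Agent.H2.Euler

open Twist Groth.Agent.LD.TW Groth.Agent.LD.PT Groth.Agent.LD.PN Groth.Agent.H3.Om
open Groth.Agent.LD.QC Groth.Agent.LD.Ann Abelian

section general
variable {X : Scheme.{u}}

/-- a morphism of modules, on the sections over an open, as a linear map. -/
noncomputable def appLin {M N : X.Modules} (φ : M ⟶ N) (U : X.Opens) :
    Γ(M, U) →ₗ[Γ(X, U)] Γ(N, U) where
  toFun := φ.app U
  map_add' := map_add _
  map_smul' r m := Scheme.Modules.Hom.app_smul φ r m

lemma appLin_apply {M N : X.Modules} (φ : M ⟶ N) (U : X.Opens) (m : Γ(M, U)) :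
    appLin φ U m = φ.app U m := rfl

/-- an isomorphism of modules gives a linear equivalence on sections. -/
noncomputable def secEquivOfIso {M N : X.Modules} (e : M ≅ N) (U : X.Opens) :
    Γ(M, U) ≃ₗ[Γ(X, U)] Γ(N, U) :=
  LinearEquiv.ofLinearMap (appLin e.hom U) (appLin e.inv U)
    (by
      ext m
      change e.hom.app U (e.inv.app U m) = m
      rw [← comp_app', e.inv_hom_id]
      rfl)
    (by
      ext m
      change e.inv.app U (e.hom.app U m) = m
      rw [← comp_app', e.hom_inv_id]
      rfl)

/-- twisting by a basis of `L` over `U`, as a linear equivalence on the sections over `U`. -/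
noncomputable def tmulEquiv (F L : X.Modules) {U : X.Opens} {e : Γ(L, U)}
    (he : IsBasisOver L U e) : Γ(F, U) ≃ₗ[Γ(X, U)] Γ(CohB1.tensorMod F L, U) :=
  LinearEquiv.ofBijective
    { toFun := fun t => SecTwist.tmul F L U t (L.presheaf.map (homOfLE (le_refl U)).op e)
      map_add' := fun t t' => tmul_add_left F L U t t' _
      map_smul' := fun a t => by
        rw [RingHom.id_apply]
        exact tmul_smul_left F L U a t _ }
    (bijective_tmul_of_isBasisOver F L he U (le_refl U))

/-- sections of the structure sheaf as a module are the functions. -/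
noncomputable def unitSecEquiv (U : X.Opens) : Γ(unitMod X, U) ≃ₗ[Γ(X, U)] Γ(X, U) where
  toFun c := c
  invFun c := c
  map_add' _ _ := rfl
  map_smul' _ _ := rfl
  left_inv _ := rfl
  right_inv _ := rfl

/-- exactness of sections over an affine open at the middle of `A → B → coker`. -/
lemma exists_preimage_of_cokernel_π_eq_zero' {A B : X.Modules} (hA : A.IsQuasicoherent)
    (hB : B.IsQuasicoherent) (w : A ⟶ B) {O : X.Opens} (hO : IsAffineOpen O) (s : Γ(B, O))
    (hs : (cokernel.π w).app O s = 0) : ∃ a : Γ(A, O), w.app O a = s := by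
  have hC : (cokernel w).IsQuasicoherent := qc_cokernel w hA hB
  have hI : (Abelian.image w).IsQuasicoherent := qc_kernel _ hB hC
  obtain ⟨t, ht⟩ := exists_kernel_section (cokernel.π w) O s hs
  obtain ⟨a, ha⟩ := epi_app_affine hA hI (Abelian.factorThruImage w) hO t
  refine ⟨a, ?_⟩
  have h1 : (Abelian.factorThruImage w ≫ Abelian.image.ι w).app O a = w.app O a := by
    rw [Abelian.image.fac]
  rw [← h1, comp_app', ha]
  exact ht

end general

variable {n : ℕ} {R : Type u} [CommRing R]

/-- the function `X_j ι_l(ω)`, as a morphism `Ω ⟶ O`. -/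
noncomputable def bet (j l : Fin (n + 1)) :
    Omega.sheaf (pS n R) ⟶ unitMod (Proj (CohB1.polyGrading n R)) :=
  iota n R l ≫ mX0 n R j ≫ (twistZeroIso (CohB1.polyGrading n R)).hom

lemma oval_bet (j l : Fin (n + 1)) (W : (Proj (CohB1.polyGrading n R)).Opens)
    (ω : Γ(Omega.sheaf (pS n R), W)) (x : W) :
    oval (CohB1.polyGrading n R) (unitSecEquiv W ((bet j l).app W ω)) x =
      xi x.1 j * secVal ((iota n R l).app W ω) x := by
  set s : Γ(twist (CohB1.polyGrading n R) 0, W) :=
    (mX0 n R j).app W ((iota n R l).app W ω) with hs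
  set c : Γ(unitMod (Proj (CohB1.polyGrading n R)), W) :=
    (twistZeroIso (CohB1.polyGrading n R)).hom.app W s with hc
  have h1 : (unitToTwist (CohB1.polyGrading n R)).app W c = s := by
    rw [hc, ← comp_app']
    have h2 : (twistZeroIso (CohB1.polyGrading n R)).hom ≫ unitToTwist (CohB1.polyGrading n R) =
        𝟙 _ := by
      unfold twistZeroIso
      simp
    rw [h2]
    rfl
  have h3 : (bet j l).app W ω = c := rfl
  rw [h3]
  have h4 : secVal s x = xi x.1 j * secVal ((iota n R l).app W ω) x := secVal_mX0 j W _ x
  rw [← h4, ← h1]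
  rfl

end Groth.Agent.H2.Euler
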