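import Groth.Agent.Lib.Helper2.EulerChartA

/-! # The cokernel of a map to `Ω` of projective space which is split over a standard chart is
free of rank `n - 1` over that chart. -/

set_option autoImplicit false
set_option linter.style.haveILetI false
universe u
open CategoryTheory CategoryTheory.Limits AlgebraicGeometry TopologicalSpace Opposite

namespace Groth.Agent.H2.Euler

open Twist Groth.Agent.LD.TW Groth.Agent.LD.PT Groth.Agent.LD.PN Groth.Agent.H3.Om
open Groth.Agent.LD.QC Groth.Agent.LD.Ann Abelian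

variable {n : ℕ} {R : Type u} [CommRing R]

/-- the sections of `Ω` over the chart `U_j` killed by `ι_{l₀}`. -/
noncomputable def chartKer (j l₀ : Fin (n + 1)) :
    Submodule Γ(Proj (CohB1.polyGrading n R), U n R j) Γ(Omega.sheaf (pS n R), U n R j) :=
  LinearMap.ker (appLin (iota n R l₀) (U n R j))

lemma mem_chartKer {j l₀ : Fin (n + 1)} (ω : Γ(Omega.sheaf (pS n R), U n R j)) :
    ω ∈ chartKer j l₀ ↔ (iota n R l₀).app (U n R j) ω = 0 := LinearMap.mem_ker

/-- the coordinates `X_j ι_l(ω)`, `l ≠ j, l₀`, of a section of `Ω` over `U_j` killed by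
`ι_{l₀}`. -/
noncomputable def chartCoord (j l₀ : Fin (n + 1)) :
    chartKer (R := R) j l₀ →ₗ[Γ(Proj (CohB1.polyGrading n R), U n R j)]
      ({l : Fin (n + 1) // l ≠ j ∧ l ≠ l₀} → Γ(Proj (CohB1.polyGrading n R), U n R j)) :=
  LinearMap.pi (fun l => ((unitSecEquiv (U n R j)).toLinearMap ∘ₗ appLin (bet j l.1) (U n R j)) ∘ₗ
    (chartKer j l₀).subtype)

lemma chartCoord_apply (j l₀ : Fin (n + 1)) (ω : chartKer (R := R) j l₀)
    (l : {l : Fin (n + 1) // l ≠ j ∧ l ≠ l₀}) :
    chartCoord j l₀ ω l = unitSecEquiv (U n R j) ((bet j l.1).app (U n R j) ω.1) := rfl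

lemma chartCoord_injective (j l₀ : Fin (n + 1)) :
    Function.Injective (chartCoord (R := R) j l₀) := by
  rw [← LinearMap.ker_eq_bot, LinearMap.ker_eq_bot']
  rintro ⟨ω, hω⟩ h0
  rw [mem_chartKer] at hω
  apply Subtype.ext
  change ω = 0
  apply iota_injective_chart j ω
  have hne : ∀ l, l ≠ j → (iota n R l).app (U n R j) ω = 0 := by
    intro l hl
    by_cases hl0 : l = l₀
    · rw [hl0]; exact hω
    · apply secVal_ext
      intro x
      have h1 := oval_bet j l (U n R j) ω x
      have h2 : chartCoord j l₀ ⟨ω, (mem_chartKer ω).2 hω⟩ ⟨l, hl, hl0⟩ = 0 := by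
        rw [h0]; rfl
      rw [chartCoord_apply] at h2
      rw [h2, oval_zero] at h1
      exact (isUnit_xi (le_refl _) x).mul_right_eq_zero.1 h1.symm
  intro l
  by_cases hl : l = j
  · subst hl
    apply secVal_ext
    intro x
    have h3 := euler_relation (U n R l) ω x
    rw [Finset.sum_eq_single l] at h3
    · exact (isUnit_xi (le_refl _) x).mul_right_eq_zero.1 h3
    · intro b _ hb
      rw [hne b hb]
      exact mul_zero _
    · intro h; exact absurd (Finset.mem_univ l) h
  · exact hne l hl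


lemma secVal_neg' {k : ℤ} {W : (Proj (CohB1.polyGrading n R)).Opens}
    (s : Γ(twist (CohB1.polyGrading n R) k, W)) (x : W) : secVal (-s) x = -secVal s x :=
  map_neg (secValHom x) s

lemma chartCoord_surjective (j l₀ : Fin (n + 1)) (hjl : l₀ ≠ j) :
    Function.Surjective (chartCoord (R := R) j l₀) := by
  classical
  intro c
  have hpre : ∀ b : Γ(Proj (CohB1.polyGrading n R), U n R j),
      ∃ κ : Γ(twist (CohB1.polyGrading n R) (-1), U n R j), ∀ x : U n R j,
        xi x.1 j * secVal κ x = oval (CohB1.polyGrading n R) b x := by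
    intro b
    obtain ⟨κ, hκ⟩ := (mX0_app_bijective n R j (U n R j) (le_refl _)).2
      ((unitToTwist (CohB1.polyGrading n R)).app (U n R j) ((unitSecEquiv (U n R j)).symm b))
    refine ⟨κ, fun x => ?_⟩
    rw [← secVal_mX0, hκ]
    rfl
  choose pre hpre' using hpre
  let κ' : Fin (n + 1) → Γ(twist (CohB1.polyGrading n R) (-1), U n R j) := fun l =>
    if h : l ≠ j ∧ l ≠ l₀ then pre (c ⟨l, h⟩) else 0
  obtain ⟨κj, hκj⟩ := (mX0_app_bijective n R j (U n R j) (le_refl _)).2
    (-(∑ l, (mX0 n R l).app (U n R j) (κ' l)))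
  let κ : Fin (n + 1) → Γ(twist (CohB1.polyGrading n R) (-1), U n R j) := Function.update κ' j κj
  have hκ'j : κ' j = 0 := dif_neg (fun h => h.1 rfl)
  have hκ'l₀ : κ' l₀ = 0 := dif_neg (fun h => h.2 rfl)
  have hrel : ∀ x : U n R j, ∑ l, xi x.1 l * secVal (κ l) x = 0 := by
    intro x
    have h1 : xi x.1 j * secVal κj x = -∑ l, xi x.1 l * secVal (κ' l) x := by
      rw [← secVal_mX0, hκj, secVal_neg', secVal_sum]
      exact congrArg Neg.neg (Finset.sum_congr rfl fun l _ => secVal_mX0 l _ _ x)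
    rw [← Finset.add_sum_erase _ _ (Finset.mem_univ j)]
    have h2 : ∑ l ∈ Finset.univ.erase j, xi x.1 l * secVal (κ l) x =
        ∑ l, xi x.1 l * secVal (κ' l) x := by
      rw [← Finset.add_sum_erase _ (fun l => xi x.1 l * secVal (κ' l) x) (Finset.mem_univ j)]
      simp only [hκ'j]
      rw [secVal_zero, mul_zero, zero_add]
      refine Finset.sum_congr rfl fun l hl => ?_
      simp only [κ]
      rw [Function.update_of_ne (Finset.ne_of_mem_erase hl)]
    simp only [κ] at h2 ⊢
    rw [h2, Function.update_self, h1, neg_add_cancel]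
  obtain ⟨ω, hω⟩ := iota_surjective_chart j κ hrel
  have hωK : ω ∈ chartKer j l₀ := by
    rw [mem_chartKer, hω l₀]
    simp only [κ]
    rw [Function.update_of_ne hjl, hκ'l₀]
  refine ⟨⟨ω, hωK⟩, ?_⟩
  funext l
  rw [chartCoord_apply]
  apply sec_ext
  intro x
  rw [oval_bet, hω l.1]
  simp only [κ]
  rw [Function.update_of_ne l.2.1]
  have h3 : κ' l.1 = pre (c l) := by
    simp only [κ']
    rw [dif_pos l.2]
  rw [h3, hpre']

/-- the projection of the sections of `Ω` over `U_j` killed by `ι_{l₀}` to the sections of a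
cokernel. -/
noncomputable def chartProj {F : (Proj (CohB1.polyGrading n R)).Modules}
    (u' : F ⟶ Omega.sheaf (pS n R)) (j l₀ : Fin (n + 1)) :
    chartKer (R := R) j l₀ →ₗ[Γ(Proj (CohB1.polyGrading n R), U n R j)]
      Γ(cokernel u', U n R j) :=
  appLin (cokernel.π u') (U n R j) ∘ₗ (chartKer j l₀).subtype

lemma chartProj_apply {F : (Proj (CohB1.polyGrading n R)).Modules}
    (u' : F ⟶ Omega.sheaf (pS n R)) (j l₀ : Fin (n + 1)) (ω : chartKer (R := R) j l₀) :
    chartProj u' j l₀ ω = (cokernel.π u').app (U n R j) ω.1 := rfl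

lemma chartProj_bijective {F : (Proj (CohB1.polyGrading n R)).Modules} [hF : F.IsQuasicoherent]
    (u' : F ⟶ Omega.sheaf (pS n R)) (j l₀ : Fin (n + 1))
    (hbij : Function.Bijective ((u' ≫ iota n R l₀).app (U n R j))) :
    Function.Bijective (chartProj u' j l₀) := by
  have hOm : (Omega.sheaf (pS n R)).IsQuasicoherent := inferInstance
  constructor
  · rw [← LinearMap.ker_eq_bot, LinearMap.ker_eq_bot']
    rintro ⟨ω, hω⟩ h0
    rw [mem_chartKer] at hω
    rw [chartProj_apply] at h0
    obtain ⟨t, ht⟩ := exists_preimage_of_cokernel_π_eq_zero' hF hOm u' (isAffineOpen_U j) ω h0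
    have h1 : (u' ≫ iota n R l₀).app (U n R j) t = (u' ≫ iota n R l₀).app (U n R j) 0 := by
      rw [comp_app', ht, hω, map_zero]
    have h2 : t = 0 := hbij.1 h1
    apply Subtype.ext
    change ω = 0
    rw [← ht, h2, map_zero]
  · intro z
    have hC : (cokernel u').IsQuasicoherent := qc_cokernel u' hF hOm
    obtain ⟨ω, hω⟩ := epi_app_affine hOm hC (cokernel.π u') (isAffineOpen_U j) z
    obtain ⟨t, ht⟩ := hbij.2 ((iota n R l₀).app (U n R j) ω)
    rw [comp_app'] at ht
    have hK : ω - u'.app (U n R j) t ∈ chartKer j l₀ := by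
      rw [mem_chartKer, map_sub, ht, sub_self]
    refine ⟨⟨ω - u'.app (U n R j) t, hK⟩, ?_⟩
    rw [chartProj_apply]
    change (cokernel.π u').app (U n R j) (ω - u'.app (U n R j) t) = z
    rw [map_sub, hω, ← comp_app', cokernel.condition]
    exact sub_zero z

/-- **the sections over a standard chart `U_j` of the cokernel of a map `u' : F ⟶ Ω` such that
`u' ≫ ι_{l₀}` is bijective on `U_j` form a free module on the indices `l ≠ j, l₀`.** -/
theorem nonempty_linearEquiv_cokernel_chart {F : (Proj (CohB1.polyGrading n R)).Modules}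
    [hF : F.IsQuasicoherent] (u' : F ⟶ Omega.sheaf (pS n R)) (j l₀ : Fin (n + 1)) (hjl : l₀ ≠ j)
    (hbij : Function.Bijective ((u' ≫ iota n R l₀).app (U n R j))) :
    Nonempty (Γ(cokernel u', U n R j) ≃ₗ[Γ(Proj (CohB1.polyGrading n R), U n R j)]
      ({l : Fin (n + 1) // l ≠ j ∧ l ≠ l₀} → Γ(Proj (CohB1.polyGrading n R), U n R j))) :=
  ⟨(LinearEquiv.ofBijective _ (chartProj_bijective u' j l₀ hbij)).symm.trans
    (LinearEquiv.ofBijective _ ⟨chartCoord_injective j l₀, chartCoord_surjective j l₀ hjl⟩)⟩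

end Groth.Agent.H2.Euler
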