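import Groth.Agent.Lib.Helper3.OmApi
import Groth.Agent.Lib.Lead.QC.Extend

/-! # A family of additive maps satisfying the Leibniz rule and compatible with restriction kills
the functions pulled back from an affine base as soon as it kills the pulled back global ones. -/

set_option autoImplicit false
universe u
open CategoryTheory AlgebraicGeometry TopologicalSpace Opposite

namespace Groth.Agent.H2.Euler

variable {X Y : Scheme.{u}}

section
variable (f : X ⟶ Y) (F : X.Modules) (δ : ∀ U : X.Opens, Γ(X, U) →+ Γ(F, U))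
  (hmul : ∀ (U : X.Opens) (a b : Γ(X, U)), δ U (a * b) = a • δ U b + b • δ U a)
  (hmap : ∀ {U V : X.Opens} (i : V ⟶ U) (s : Γ(X, U)),
    δ V (X.presheaf.map i.op s) = F.presheaf.map i.op (δ U s))
  (h0 : ∀ b : Γ(Y, ⊤), δ (f ⁻¹ᵁ ⊤) (f.app ⊤ b) = 0)

include hmap h0 in
theorem preDer_res_global (V : Y.Opens) (b : Γ(Y, ⊤)) :
    δ (f ⁻¹ᵁ V) (f.app V (Y.presheaf.map (homOfLE (le_top : V ≤ ⊤)).op b)) = 0 := by
  have h := f.naturality (homOfLE (le_top : V ≤ ⊤)).op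
  have h' : f.app V (Y.presheaf.map (homOfLE (le_top : V ≤ ⊤)).op b) =
      X.presheaf.map ((Opens.map f.base).map (homOfLE (le_top : V ≤ ⊤))).op (f.app ⊤ b) :=
    congr($h b)
  rw [h', hmap, h0, map_zero]

include hmul hmap h0 in
theorem preDer_basicOpen [IsAffine Y] (r : Γ(Y, ⊤)) (s : Γ(Y, Y.basicOpen r)) :
    δ (f ⁻¹ᵁ (Y.basicOpen r)) (f.app (Y.basicOpen r) s) = 0 := by
  have hN : IsAffineOpen (⊤ : Y.Opens) := isAffineOpen_top Y
  letI : Algebra Γ(Y, ⊤) Γ(Y, Y.basicOpen r) :=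
    (Y.presheaf.map (homOfLE (Y.basicOpen_le r)).op).hom.toAlgebra
  haveI : IsLocalization.Away r Γ(Y, Y.basicOpen r) := hN.isLocalization_basicOpen r
  obtain ⟨⟨a, m⟩, hm⟩ := IsLocalization.surj (Submonoid.powers r) s
  have hu : IsUnit (algebraMap Γ(Y, ⊤) Γ(Y, Y.basicOpen r) m) := IsLocalization.map_units _ m
  have hu' : IsUnit (f.app (Y.basicOpen r) (algebraMap Γ(Y, ⊤) Γ(Y, Y.basicOpen r) m)) :=
    hu.map (f.app (Y.basicOpen r)).hom
  have h1 := congrArg (fun z => δ (f ⁻¹ᵁ (Y.basicOpen r)) (f.app (Y.basicOpen r) z)) hm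
  simp only [map_mul] at h1
  rw [hmul] at h1
  have h2 : δ (f ⁻¹ᵁ (Y.basicOpen r))
      (f.app (Y.basicOpen r) (algebraMap Γ(Y, ⊤) Γ(Y, Y.basicOpen r) a)) = 0 :=
    preDer_res_global f F δ hmap h0 (Y.basicOpen r) a
  have h3 : δ (f ⁻¹ᵁ (Y.basicOpen r))
      (f.app (Y.basicOpen r) (algebraMap Γ(Y, ⊤) Γ(Y, Y.basicOpen r) (m : Γ(Y, ⊤)))) = 0 :=
    preDer_res_global f F δ hmap h0 (Y.basicOpen r) m
  rw [h2, h3, smul_zero, zero_add] at h1
  have h4 : f.app (Y.basicOpen r) (algebraMap Γ(Y, ⊤) Γ(Y, Y.basicOpen r) m) •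
        δ (f ⁻¹ᵁ (Y.basicOpen r)) (f.app (Y.basicOpen r) s) =
      f.app (Y.basicOpen r) (algebraMap Γ(Y, ⊤) Γ(Y, Y.basicOpen r) m) • 0 := by
    rw [h1, smul_zero]
  exact hu'.smul_left_cancel.1 h4

include hmul hmap h0 in
/-- the main statement. -/
theorem preDer_app_eq_zero [IsAffine Y] (V : Y.Opens) (a : Γ(Y, V)) :
    δ (f ⁻¹ᵁ V) (f.app V a) = 0 := by
  have hN : IsAffineOpen (⊤ : Y.Opens) := isAffineOpen_top Y
  have hex : ∀ y : V, ∃ r : Γ(Y, ⊤), y.1 ∈ Y.basicOpen r ∧ Y.basicOpen r ≤ V := by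
    intro y
    obtain ⟨r, hr, hyr⟩ := hN.exists_basicOpen_le ⟨y.1, y.2⟩ (Set.mem_univ _)
    exact ⟨r, hyr, hr⟩
  choose r hyr hrV using hex
  apply Groth.Agent.LD.QC.section_ext_of_cover F
    (fun x : (f ⁻¹ᵁ V : X.Opens) => f ⁻¹ᵁ (Y.basicOpen (r ⟨f x.1, x.2⟩)))
    (fun x => f.preimage_mono (hrV _))
  · intro x hx
    exact Opens.mem_iSup.2 ⟨⟨x, hx⟩, hyr ⟨f x, hx⟩⟩
  · intro x
    rw [map_zero, ← hmap]
    have h := f.naturality (homOfLE (hrV ⟨f x.1, x.2⟩)).op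
    have h' : X.presheaf.map (homOfLE (f.preimage_mono (hrV ⟨f x.1, x.2⟩))).op (f.app V a) =
        f.app (Y.basicOpen (r ⟨f x.1, x.2⟩))
          (Y.presheaf.map (homOfLE (hrV ⟨f x.1, x.2⟩)).op a) := congr($h a).symm
    rw [h']
    exact preDer_basicOpen f F δ hmul hmap h0 _ _

end

end Groth.Agent.H2.Euler
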