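import Groth.Agent.Lib.Helper3.OmLoc
import Groth.Agent.Lib.Lead.TW.HomClass
import Groth.Agent.Lib.Lead.PT.Frac

/-! # A derivation of degree `-1` of a graded algebra, on the localizations at homogeneous primes. -/

set_option autoImplicit false
universe u
open CategoryTheory AlgebraicGeometry TopologicalSpace Opposite

namespace Groth.Agent.H2.Euler

open Twist Groth.Agent.LD.TW Groth.Agent.LD.PT Groth.Agent.H3.Om

variable {R A : Type u} [CommRing R] [CommRing A] [Algebra R A] {𝒜 : ℕ → Submodule R A}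
  [GradedAlgebra 𝒜]

/-- `∂` lowers degrees by one. -/
structure IsLowering (𝒜 : ℕ → Submodule R A) (D : Derivation R A A) : Prop where
  mem : ∀ (i : ℕ) (a : A), a ∈ 𝒜 (i + 1) → D a ∈ 𝒜 i
  zero : ∀ a ∈ 𝒜 0, D a = 0

/-- the derivation induced on the localization at a homogeneous prime. -/
noncomputable def dl (D : Derivation R A A) (x : ProjectiveSpectrum 𝒜) : Loc 𝒜 x →+ Loc 𝒜 x :=
  AddMonoidHom.mk' (fun q => locDer D x.asHomogeneousIdeal.toIdeal.primeCompl q)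
    (fun a b => map_add _ a b)

lemma dl_mk (D : Derivation R A A) (x : ProjectiveSpectrum 𝒜) (a : A)
    (s : x.asHomogeneousIdeal.toIdeal.primeCompl) :
    dl D x (Localization.mk a s) = Localization.mk ((s : A) * D a - a * D (s : A)) (s * s) := by
  change locDer D x.asHomogeneousIdeal.toIdeal.primeCompl (Localization.mk a s) = _
  rw [locDer_mk]
  rfl

lemma dl_mul (D : Derivation R A A) (x : ProjectiveSpectrum 𝒜) (p q : Loc 𝒜 x) :
    dl D x (p * q) = p * dl D x q + q * dl D x p := by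
  change locDer D x.asHomogeneousIdeal.toIdeal.primeCompl (p * q) = _
  rw [Derivation.leibniz]
  rfl

lemma dl_one (D : Derivation R A A) (x : ProjectiveSpectrum 𝒜) : dl D x 1 = 0 := by
  have h := dl_mul D x 1 1
  rw [mul_one, one_mul] at h
  have h2 : dl D x 1 + 0 = dl D x 1 + dl D x 1 := by rw [add_zero]; exact h
  exact (add_left_cancel h2).symm

lemma dl_pow (D : Derivation R A A) (x : ProjectiveSpectrum 𝒜) (p : Loc 𝒜 x) (n : ℕ) :
    dl D x (p ^ (n + 1)) = (n + 1 : ℕ) * p ^ n * dl D x p := by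
  induction n with
  | zero => simp
  | succ n ih =>
    rw [pow_succ, dl_mul, ih]
    push_cast
    ring

/-- the numerator of the derivative of a fraction of degree zero. -/
lemma lowering_num {D : Derivation R A A} (h : IsLowering 𝒜 D) {j : ℕ} {r t : A} (hr : r ∈ 𝒜 j)
    (ht : t ∈ 𝒜 j) :
    ∃ (i' : ℕ) (a : 𝒜 i'), a.1 = t * D r - r * D t ∧
      ((i' : ℤ) = ((j + j : ℕ) : ℤ) + (-1) ∨ a.1 = 0) := by
  rcases j with _ | d
  · refine ⟨0, ⟨0, zero_mem _⟩, ?_, Or.inr rfl⟩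
    rw [h.zero r hr, h.zero t ht, mul_zero, mul_zero, sub_zero]
  · refine ⟨d + 1 + d, ⟨t * D r - r * D t, ?_⟩, rfl, Or.inl (by push_cast; ring)⟩
    exact sub_mem (SetLike.mul_mem_graded ht (h.mem d r hr))
      (SetLike.mul_mem_graded hr (h.mem d t ht))

lemma dl_mem_twistAt {D : Derivation R A A} (h : IsLowering 𝒜 D) {x : ProjectiveSpectrum 𝒜}
    (c : A0 𝒜 x) : dl D x c.val ∈ twistAt 𝒜 (-1) x := by
  rw [c.eq_num_div_den, dl_mk]
  obtain ⟨i', a, ha, hdeg⟩ := lowering_num h c.num_mem_deg c.den_mem_deg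
  have hden : c.den * c.den ∈ 𝒜 (c.deg + c.deg) :=
    SetLike.mul_mem_graded c.den_mem_deg c.den_mem_deg
  rcases hdeg with hdeg | h0
  · have := mk_mem_twistAt (n := -1) (x := x) a (⟨c.den * c.den, hden⟩ : 𝒜 (c.deg + c.deg))
      (fun hm => (x.isPrime.mem_or_mem hm).elim c.den_mem c.den_mem) hdeg
    rw [ha] at this
    exact this
  · change Localization.mk (c.den * D c.num - c.num * D c.den) _ ∈ _
    rw [← ha, h0, Localization.mk_zero]
    exact zero_mem _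

variable (𝒜) in
/-- the derivative of a local function, as a section of `O(-1)`. -/
noncomputable def dSec {D : Derivation R A A} (h : IsLowering 𝒜 D) (U : (Proj 𝒜).Opens)
    (s : Γ(Proj 𝒜, U)) : sectN (𝒜 := 𝒜) (-1) (op U) :=
  ⟨fun x => ⟨dl D x.1 (oval 𝒜 s x), dl_mem_twistAt h _⟩, fun x => by
    rcases (show O (𝒜 := 𝒜) (op U) from s).2 x with ⟨V, m, i, j, r, t, nin, w⟩
    obtain ⟨i', a, ha, hdeg⟩ := lowering_num h r.2 t.2
    refine ⟨V, m, i, i', j + j, a, ⟨t.1 * t.1, SetLike.mul_mem_graded t.2 t.2⟩,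
      fun y hy => (y.1.isPrime.mem_or_mem hy).elim (nin y) (nin y), hdeg, fun y => ?_⟩
    change dl D _ (oval 𝒜 s (i y)) = _
    have hw : (show O (𝒜 := 𝒜) (op U) from s).1 (i y) =
        HomogeneousLocalization.mk ⟨j, r, t, nin y⟩ := w y
    unfold oval
    erw [hw]
    rw [HomogeneousLocalization.val_mk, dl_mk, ← ha]
    rfl⟩

lemma dSec_val {D : Derivation R A A} (h : IsLowering 𝒜 D) (U : (Proj 𝒜).Opens)
    (s : Γ(Proj 𝒜, U)) (x : U) :
    (((dSec 𝒜 h U s).1 x : twistAt 𝒜 (-1) x.1) : Loc 𝒜 x.1) = dl D x.1 (oval 𝒜 s x) := rfl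

variable (𝒜) in
/-- the derivative on sections over `U`, additive. -/
noncomputable def dHom {D : Derivation R A A} (h : IsLowering 𝒜 D) (U : (Proj 𝒜).Opens) :
    Γ(Proj 𝒜, U) →+ Γ(twist 𝒜 (-1), U) where
  toFun s := dSec 𝒜 h U s
  map_zero' := by
    change dSec 𝒜 h U 0 = (0 : sectN (𝒜 := 𝒜) (-1) (op U))
    apply sectN_ext
    intro x
    rw [dSec_val, oval_zero, map_zero]
    rfl
  map_add' a b := by
    change dSec 𝒜 h U (a + b) = (dSec 𝒜 h U a + dSec 𝒜 h U b : sectN (𝒜 := 𝒜) (-1) (op U))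
    apply sectN_ext
    intro x
    rw [dSec_val, oval_add, map_add]
    rfl

lemma secVal_dHom {D : Derivation R A A} (h : IsLowering 𝒜 D) (U : (Proj 𝒜).Opens)
    (s : Γ(Proj 𝒜, U)) (x : U) : secVal (dHom 𝒜 h U s) x = dl D x.1 (oval 𝒜 s x) := rfl

lemma secVal_ext {k : ℤ} {W : (Proj 𝒜).Opens} {s t : Γ(twist 𝒜 k, W)}
    (h : ∀ x : W, secVal s x = secVal t x) : s = t := by
  change (show sectN (𝒜 := 𝒜) k (op W) from s) = (show sectN (𝒜 := 𝒜) k (op W) from t)
  exact sectN_ext h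

lemma secVal_add {k : ℤ} {W : (Proj 𝒜).Opens} (s t : Γ(twist 𝒜 k, W)) (x : W) :
    secVal (s + t) x = secVal s x + secVal t x := rfl

lemma secVal_zero {k : ℤ} {W : (Proj 𝒜).Opens} (x : W) :
    secVal (0 : Γ(twist 𝒜 k, W)) x = 0 := rfl

lemma secVal_smul {k : ℤ} {W : (Proj 𝒜).Opens} (a : Γ(Proj 𝒜, W)) (s : Γ(twist 𝒜 k, W)) (x : W) :
    secVal (a • s) x = oval 𝒜 a x * secVal s x := smul_sec_val a s x

lemma secVal_res {k : ℤ} {V W : (Proj 𝒜).Opens} (h : W ≤ V) (s : Γ(twist 𝒜 k, V)) (x : W) :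
    secVal ((twist 𝒜 k).presheaf.map (homOfLE h).op s) x = secVal s ⟨x.1, h x.2⟩ := rfl

lemma dHom_mul {D : Derivation R A A} (h : IsLowering 𝒜 D) (U : (Proj 𝒜).Opens)
    (a b : Γ(Proj 𝒜, U)) : dHom 𝒜 h U (a * b) = a • dHom 𝒜 h U b + b • dHom 𝒜 h U a := by
  apply secVal_ext
  intro x
  rw [secVal_add, secVal_smul, secVal_smul, secVal_dHom, secVal_dHom, secVal_dHom, oval_mul, dl_mul]

lemma dHom_map {D : Derivation R A A} (h : IsLowering 𝒜 D) {U V : (Proj 𝒜).Opens} (i : V ⟶ U)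
    (s : Γ(Proj 𝒜, U)) :
    dHom 𝒜 h V ((Proj 𝒜).presheaf.map i.op s) = (twist 𝒜 (-1)).presheaf.map i.op (dHom 𝒜 h U s) :=
  rfl

end Groth.Agent.H2.Euler
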