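import Groth.Agent.Lib.Helper2.EulerDerA
import Groth.Agent.Lib.Helper2.EulerDerB
import Groth.Agent.Lib.Helper3.OmU3
import Groth.Agent.Lib.Lead.PN.ToSpec
import Mathlib.AlgebraicGeometry.ProjectiveSpectrum.Proper

/-! # The derivation `O → O(-1)` on `Proj` attached to a derivation of degree `-1`, and the
induced morphism `Ω → O(-1)`. -/

set_option autoImplicit false
universe u
open CategoryTheory AlgebraicGeometry TopologicalSpace Opposite

namespace Groth.Agent.H2.Euler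

open Twist Groth.Agent.LD.TW Groth.Agent.LD.PT Groth.Agent.H3.Om

variable {R A : Type u} [CommRing R] [CommRing A] [Algebra R A] (𝒜 : ℕ → Submodule R A)
  [GradedAlgebra 𝒜]

/-- the structure morphism of `Proj 𝒜` over `Spec R`. -/
noncomputable def toSpecR : Proj 𝒜 ⟶ Spec (CommRingCat.of R) :=
  Proj.toSpecZero 𝒜 ≫ Spec.map (CommRingCat.ofHom (algebraMap R (𝒜 0)))

instance : IsSeparated (toSpecR 𝒜) := by
  unfold toSpecR
  infer_instance

instance : QuasiSeparated (toSpecR 𝒜) := inferInstance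

/-- every point of `Proj` lies in some `D₊(f)`, `f` homogeneous of positive degree. -/
def HasPosCover (𝒜 : ℕ → Submodule R A) [GradedAlgebra 𝒜] : Prop :=
  ∀ x : ProjectiveSpectrum 𝒜, ∃ (f : A) (m : ℕ), f ∈ 𝒜 m ∧ 0 < m ∧ f ∉ x.asHomogeneousIdeal

variable {𝒜}

lemma oval_toSpecR (hcov : HasPosCover 𝒜) (r : R) (x : (⊤ : (Proj 𝒜).Opens)) :
    oval 𝒜 ((toSpecR 𝒜).app ⊤ ((Scheme.ΓSpecIso (CommRingCat.of R)).inv r)) x =
      Localization.mk (algebraMap R A r) 1 := by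
  obtain ⟨f, m, hf, hm, hx⟩ := hcov x.1
  have h1 : (toSpecR 𝒜).app ⊤ ((Scheme.ΓSpecIso (CommRingCat.of R)).inv r) =
      (Proj.toSpecZero 𝒜).appTop.hom ((Scheme.ΓSpecIso (.of (𝒜 0))).inv.hom
        (algebraMap R (𝒜 0) r)) := by
    have h2 : (toSpecR 𝒜).appTop =
        (Spec.map (CommRingCat.ofHom (algebraMap R (𝒜 0)))).appTop ≫ (Proj.toSpecZero 𝒜).appTop :=
      Scheme.Hom.comp_appTop _ _
    have h3 := Scheme.ΓSpecIso_inv_naturality (CommRingCat.ofHom (algebraMap R (𝒜 0)))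
    change (toSpecR 𝒜).appTop ((Scheme.ΓSpecIso (CommRingCat.of R)).inv r) = _
    rw [h2]
    change (Proj.toSpecZero 𝒜).appTop
      (((Scheme.ΓSpecIso (CommRingCat.of R)).inv ≫
        (Spec.map (CommRingCat.ofHom (algebraMap R (𝒜 0)))).appTop) r) = _
    rw [← h3]
    rfl
  rw [h1]
  exact Groth.Agent.LD.PN.toSpecZero_appTop_val 𝒜 hf hm (algebraMap R (𝒜 0) r) x.1 hx

lemma dHom_toSpecR {D : Derivation R A A} (h : IsLowering 𝒜 D) (hcov : HasPosCover 𝒜)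
    (b : Γ(Spec (CommRingCat.of R), ⊤)) :
    dHom 𝒜 h ((toSpecR 𝒜) ⁻¹ᵁ ⊤) ((toSpecR 𝒜).app ⊤ b) = 0 := by
  have hb : b = (Scheme.ΓSpecIso (CommRingCat.of R)).inv ((Scheme.ΓSpecIso (CommRingCat.of R)).hom b) := by
    rw [Iso.hom_inv_id_apply]
  rw [hb]
  apply secVal_ext
  intro x
  rw [secVal_dHom]
  erw [oval_toSpecR hcov _ x]
  rw [dl_mk, secVal_zero]
  simp only [OneMemClass.coe_one, Derivation.map_algebraMap, mul_zero, Derivation.map_one_eq_zero,
    sub_self, mul_one]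
  exact Localization.mk_zero _

/-- the derivation `O → O(-1)` over `Spec R`. -/
noncomputable def eulerDer {D : Derivation R A A} (h : IsLowering 𝒜 D) (hcov : HasPosCover 𝒜) :
    OmegaSh.Der (toSpecR 𝒜) (twist 𝒜 (-1)) :=
  Der.mk' (toSpecR 𝒜) (twist 𝒜 (-1)) (dHom 𝒜 h) (dHom_mul h) (fun i s => dHom_map h i s)
    (preDer_app_eq_zero (toSpecR 𝒜) (twist 𝒜 (-1)) (dHom 𝒜 h) (dHom_mul h)
      (fun i s => dHom_map h i s) (dHom_toSpecR h hcov))

lemma eulerDer_app {D : Derivation R A A} (h : IsLowering 𝒜 D) (hcov : HasPosCover 𝒜)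
    (U : (Proj 𝒜).Opens) (s : Γ(Proj 𝒜, U)) : (eulerDer h hcov).app U s = dHom 𝒜 h U s := rfl

/-- the morphism `Ω → O(-1)` induced by a derivation of degree `-1`. -/
noncomputable def eulerHom {D : Derivation R A A} (h : IsLowering 𝒜 D) (hcov : HasPosCover 𝒜) :
    Omega.sheaf (toSpecR 𝒜) ⟶ twist 𝒜 (-1) :=
  (isUniversal_dOmega (toSpecR 𝒜) _ (eulerDer h hcov)).exists.choose

lemma eulerHom_spec {D : Derivation R A A} (h : IsLowering 𝒜 D) (hcov : HasPosCover 𝒜) :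
    (OmegaSh.dOmega (toSpecR 𝒜)).postcomp (eulerHom h hcov).val = eulerDer h hcov :=
  (isUniversal_dOmega (toSpecR 𝒜) _ (eulerDer h hcov)).exists.choose_spec

lemma eulerHom_dSect {D : Derivation R A A} (h : IsLowering 𝒜 D) (hcov : HasPosCover 𝒜)
    (U : (Proj 𝒜).Opens) (s : Γ(Proj 𝒜, U)) :
    (eulerHom h hcov).app U (OmegaSh.dSect (toSpecR 𝒜) U s) = dHom 𝒜 h U s := by
  have h1 := congrArg (fun E : OmegaSh.Der (toSpecR 𝒜) (twist 𝒜 (-1)) => E.app U s)
    (eulerHom_spec h hcov)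
  exact h1

end Groth.Agent.H2.Euler
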