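import Groth.Agent.Lib.Helper2.EulerHom

/-! # The sheaf of differentials of projective space is simple: its endomorphisms are the
scalars. -/

set_option autoImplicit false
universe u
open CategoryTheory CategoryTheory.Limits AlgebraicGeometry TopologicalSpace Opposite

namespace Groth.Agent.H2.Euler

open Twist Groth.Agent.LD.TW Groth.Agent.LD.PT Groth.Agent.LD.PN Groth.Agent.H3.Om
open Groth.Agent.LD.QC Abelian

attribute [local instance] Abelian.hasFiniteBiproducts

variable {n : ℕ} {R : Type u} [CommRing R]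

/-- a homogeneous polynomial vanishing in the localizations at all points of a standard chart is
zero. -/
lemma eq_zero_of_forall_loc {k : ℕ} {h : MvPolynomial (Fin (n+1)) R}
    (hh : h ∈ CohB1.polyGrading n R k) (i : Fin (n + 1))
    (hz : ∀ x : U n R i, (Localization.mk h 1 : Loc (CohB1.polyGrading n R) x.1) = 0) : h = 0 := by
  have hX : (MvPolynomial.X i : MvPolynomial (Fin (n+1)) R) ∈ CohB1.polyGrading n R 1 := X_mem i
  have h1 : (1 : MvPolynomial (Fin (n+1)) R) ∈ CohB1.polyGrading n R 0 := SetLike.GradedOne.one_mem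
  have hℓ : IsHomog (CohB1.polyGrading n R) (MvPolynomial.X i) (0 + 1) (k : ℤ)
      (Localization.mk h (gpow (MvPolynomial.X i) 0)) := ⟨0, k, h, hh, by simp, rfl⟩
  have h0 := eq_zero_of_pointwise (f := MvPolynomial.X i) (g' := 1) (g := MvPolynomial.X i) hX h1
    (one_mul _).symm hℓ (fun x => by
      rw [toLoc_mk (MvPolynomial.X i) x.1 x.2 h 0 (pow_notMem _ x.1 x.2 0)]
      have hx := hz ⟨x.1, x.2⟩
      refine Eq.trans ?_ hx
      congr 1)
  rw [Localization.mk_eq_mk', IsLocalization.mk'_eq_zero_iff] at h0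
  obtain ⟨⟨m, N, rfl⟩, hm⟩ := h0
  have hm' : (MvPolynomial.X i : MvPolynomial (Fin (n+1)) R) ^ N * h =
      (MvPolynomial.X i : MvPolynomial (Fin (n+1)) R) ^ N * 0 := by
    rw [mul_zero]
    exact hm
  exact (MvPolynomial.isRegular_X_pow N).left hm'

end Groth.Agent.H2.Euler

namespace Groth.Agent.H2.Euler

open Twist Groth.Agent.LD.TW Groth.Agent.LD.PT Groth.Agent.LD.PN Groth.Agent.H3.Om
open Groth.Agent.LD.QC Abelian

attribute [local instance] Abelian.hasFiniteBiproducts

variable {n : ℕ} {R : Type u} [CommRing R]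

lemma eq_of_forall_loc {k : ℕ} {h h' : MvPolynomial (Fin (n+1)) R}
    (hh : h ∈ CohB1.polyGrading n R k) (hh' : h' ∈ CohB1.polyGrading n R k) (i : Fin (n + 1))
    (hz : ∀ x : U n R i, (Localization.mk h 1 : Loc (CohB1.polyGrading n R) x.1) =
      Localization.mk h' 1) : h = h' := by
  rw [← sub_eq_zero]
  apply eq_zero_of_forall_loc (sub_mem hh hh') i
  intro x
  rw [Localization.mk_one_eq_algebraMap, map_sub, ← Localization.mk_one_eq_algebraMap,
    ← Localization.mk_one_eq_algebraMap, hz x, sub_self]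

/-- the Euler relation on sections. -/
lemma euler_relation (W : (Proj (CohB1.polyGrading n R)).Opens)
    (ω : Γ(Omega.sheaf (pS n R), W)) (x : W) :
    ∑ j, xi x.1 j * secVal ((iota n R j).app W ω) x = 0 := by
  have h := congrArg (fun φ : Omega.sheaf (pS n R) ⟶ twist (CohB1.polyGrading n R) 0 =>
    secVal (φ.app W ω) x) (eulerι_eulerE n R)
  simp only at h
  rw [comp_app', secVal_eulerE] at h
  simp only [π_eulerι_app] at h
  exact h

/-- a nowhere vanishing section of `O(-1)` on a standard chart. -/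
lemma exists_unit_sec (i : Fin (n + 1)) :
    ∃ t : Γ(twist (CohB1.polyGrading n R) (-1), U n R i), ∀ x : U n R i, IsUnit (secVal t x) := by
  obtain ⟨u, v, hv⟩ := exists_isUnitSec_one (𝒜 := CohB1.polyGrading n R) (MvPolynomial.X i)
    (X_mem i) (-1) (V := U n R i) (le_refl _)
  exact ⟨u, fun x => IsUnit.of_mul_eq_one _ (hv x)⟩

lemma eq_C_of_mem_zero {f : MvPolynomial (Fin (n+1)) R} (hf : f ∈ CohB1.polyGrading n R 0) :
    f = MvPolynomial.C (MvPolynomial.coeff 0 f) := by
  have h1 : f.IsHomogeneous 0 := (MvPolynomial.mem_homogeneousSubmodule _ _).1 hf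
  have h2 : f.totalDegree = 0 := Nat.le_zero.1 h1.totalDegree_le
  exact MvPolynomial.totalDegree_eq_zero_iff_eq_C.1 h2

end Groth.Agent.H2.Euler
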