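import Groth.Agent.Lib.Helper2.EulerEnd

/-! # The sheaf of differentials of projective space is simple (main statement). -/

set_option autoImplicit false
universe u
open CategoryTheory CategoryTheory.Limits AlgebraicGeometry TopologicalSpace Opposite

namespace Groth.Agent.H2.Euler

open Twist Groth.Agent.LD.TW Groth.Agent.LD.PT Groth.Agent.LD.PN Groth.Agent.H3.Om
open Groth.Agent.LD.QC Abelian

attribute [local instance] Abelian.hasFiniteBiproducts

variable {n : ℕ} {R : Type u} [CommRing R]

local notation "am" => algebraMap (MvPolynomial (Fin (n+1)) R) _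

/-- a relation `Σ_l L_l ι_l = 0` with linear forms `L_l` forces `L_l = c X_l`. -/
theorem exists_const_of_relation (L : Fin (n + 1) → MvPolynomial (Fin (n+1)) R)
    (hL : ∀ l, L l ∈ CohB1.polyGrading n R 1)
    (hrel : ∀ (W : (Proj (CohB1.polyGrading n R)).Opens) (ω : Γ(Omega.sheaf (pS n R), W)) (x : W),
      ∑ l, Localization.mk (L l) 1 * secVal ((iota n R l).app W ω) x = 0) :
    ∃ c : R, ∀ l, L l = MvPolynomial.C c * MvPolynomial.X l := by
  choose mulL hmulL using fun l => exists_hom_isMulBy' n R 1 (d := -1) (d' := 0) (by norm_num)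
    (L l) (hL l)
  let g : eulerV n R ⟶ twist (CohB1.polyGrading n R) 0 := biproduct.desc mulL
  have hg : eulerι n R ≫ g = 0 := by
    apply Scheme.Modules.hom_ext
    intro W
    ext ω
    apply secVal_ext
    intro x
    change secVal ((eulerι n R ≫ g).app W ω) x = 0
    rw [comp_app', biproduct_desc_app, secVal_sum]
    simp only [hmulL _ W _ x, π_eulerι_app]
    exact hrel W ω x
  obtain ⟨c, hc⟩ : ∃ c : twist (CohB1.polyGrading n R) 0 ⟶ twist (CohB1.polyGrading n R) 0,
      eulerE n R ≫ c = g :=
    ⟨(eulerSC_shortExact n R).gIsCokernel.desc (CokernelCofork.ofπ g hg),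
      (eulerSC_shortExact n R).gIsCokernel.fac (CokernelCofork.ofπ g hg) WalkingParallelPair.one⟩
  obtain ⟨f₀, hf₀, hc₀⟩ := exists_isMulBy' n R 0 (d := 0) (d' := 0) (by norm_num) c
  refine ⟨MvPolynomial.coeff 0 f₀, fun l => ?_⟩
  rw [← eq_C_of_mem_zero hf₀]
  have e1 : mulL l = mX0 n R l ≫ c := by
    rw [← ι_eulerE, Category.assoc, hc]
    exact (biproduct.ι_desc _ _).symm
  have hmem : f₀ * MvPolynomial.X l ∈ CohB1.polyGrading n R 1 := by
    have := SetLike.mul_mem_graded hf₀ (X_mem (R := R) l)
    simpa using this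
  apply eq_of_forall_loc (hL l) hmem 0
  intro x
  obtain ⟨t, ht⟩ := exists_unit_sec (n := n) (R := R) 0
  have h2 := hmulL l (U n R 0) t x
  rw [e1, comp_app', hc₀ _ _ x, secVal_mX0] at h2
  apply (ht x).mul_left_injective
  change Localization.mk (L l) 1 * secVal t x = Localization.mk (f₀ * MvPolynomial.X l) 1 * secVal t x
  rw [← h2, Localization.mk_one_eq_algebraMap, Localization.mk_one_eq_algebraMap, map_mul]
  unfold xi
  ring

end Groth.Agent.H2.Euler
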