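import Groth.Agent.Lib.Helper2.EulerEnd2

/-! # Endomorphisms of the sheaf of differentials of projective space are scalars. -/

set_option autoImplicit false
universe u
open CategoryTheory CategoryTheory.Limits AlgebraicGeometry TopologicalSpace Opposite

namespace Groth.Agent.H2.Euler

open Twist Groth.Agent.LD.TW Groth.Agent.LD.PT Groth.Agent.LD.PN Groth.Agent.H3.Om
open Groth.Agent.LD.QC Abelian

attribute [local instance] Abelian.hasFiniteBiproducts

variable {n : ℕ} {R : Type u} [CommRing R]

lemma coeff_single_sum_X_mul_C (a : Fin (n + 1) → R) (j : Fin (n + 1)) :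
    MvPolynomial.coeff (Finsupp.single j 1)
      (∑ j' : Fin (n + 1), (MvPolynomial.X j' : MvPolynomial (Fin (n+1)) R) * MvPolynomial.C (a j')) =
      a j := by
  classical
  rw [MvPolynomial.coeff_sum]
  have h : ∀ j' : Fin (n + 1), MvPolynomial.coeff (Finsupp.single j 1)
      ((MvPolynomial.X j' : MvPolynomial (Fin (n+1)) R) * MvPolynomial.C (a j')) =
      if j' = j then a j' else 0 := by
    intro j'
    rw [mul_comm, MvPolynomial.C_mul_X_eq_monomial, MvPolynomial.coeff_monomial]
    by_cases hj : j' = j
    · rw [if_pos hj, if_pos (by rw [hj])]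
    · rw [if_neg hj, if_neg]
      intro h'
      exact hj ((Finsupp.single_left_inj one_ne_zero).1 h')
  simp only [h]
  rw [Finset.sum_ite_eq' Finset.univ j]
  simp

lemma coeff_single_C_mul_X (c : R) (j l : Fin (n + 1)) :
    MvPolynomial.coeff (Finsupp.single j 1)
      (MvPolynomial.C c * (MvPolynomial.X l : MvPolynomial (Fin (n+1)) R)) =
      if l = j then c else 0 := by
  classical
  rw [MvPolynomial.C_mul_X_eq_monomial, MvPolynomial.coeff_monomial]
  by_cases hj : l = j
  · rw [if_pos hj, if_pos (by rw [hj])]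
  · rw [if_neg hj, if_neg]
    intro h'
    exact hj ((Finsupp.single_left_inj one_ne_zero).1 h')

/-- **every endomorphism of `Ω_{P^n_R/R}` is the multiplication by a scalar.** -/
theorem end_omega_scalar (φ : Omega.sheaf (pS n R) ⟶ Omega.sheaf (pS n R)) :
    ∃ c : R, ∀ (W : (Proj (CohB1.polyGrading n R)).Opens) (ω : Γ(Omega.sheaf (pS n R), W)),
      φ.app W ω = constFn W c • ω := by
  classical
  have h1 : ∀ j : Fin (n + 1), ∃ f : Fin (n + 1) → MvPolynomial (Fin (n+1)) R,
      (∀ l, f l ∈ CohB1.polyGrading n R 0) ∧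
      ∀ (W : (Proj (CohB1.polyGrading n R)).Opens) (ω : Γ(Omega.sheaf (pS n R), W)) (x : W),
        secVal ((φ ≫ iota n R j).app W ω) x =
          ∑ l, Localization.mk (f l) 1 * secVal ((iota n R l).app W ω) x :=
    fun j => exists_coeffs_twist n R (-1) 0 (by norm_num) (by omega) _
  choose f hf hval using h1
  let a : Fin (n + 1) → Fin (n + 1) → R := fun j l => MvPolynomial.coeff 0 (f j l)
  have hfa : ∀ j l, f j l = MvPolynomial.C (a j l) := fun j l => eq_C_of_mem_zero (hf j l)
  let L : Fin (n + 1) → MvPolynomial (Fin (n+1)) R := fun l =>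
    ∑ j, MvPolynomial.X j * MvPolynomial.C (a j l)
  have hL : ∀ l, L l ∈ CohB1.polyGrading n R 1 := fun l => sum_mem fun j _ => by
    have h := SetLike.mul_mem_graded (X_mem (R := R) j)
      ((MvPolynomial.mem_homogeneousSubmodule _ _).2 (MvPolynomial.isHomogeneous_C _ (a j l)))
    simpa using h
  have hrel : ∀ (W : (Proj (CohB1.polyGrading n R)).Opens) (ω : Γ(Omega.sheaf (pS n R), W))
      (x : W), ∑ l, Localization.mk (L l) 1 * secVal ((iota n R l).app W ω) x = 0 := by
    intro W ω x
    have h := euler_relation W (φ.app W ω) x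
    have h2 : ∀ j, secVal ((iota n R j).app W (φ.app W ω)) x =
        ∑ l, Localization.mk (f j l) 1 * secVal ((iota n R l).app W ω) x :=
      fun j => hval j W ω x
    simp only [h2] at h
    rw [← h]
    simp only [Finset.mul_sum]
    rw [Finset.sum_comm]
    refine Finset.sum_congr rfl fun j _ => ?_
    simp only [L, Localization.mk_one_eq_algebraMap, map_sum, map_mul, Finset.sum_mul, hfa, xi]
    refine Finset.sum_congr rfl fun l _ => ?_
    ring
  obtain ⟨c, hc⟩ := exists_const_of_relation L hL hrel
  have hac : ∀ j l, a j l = if l = j then c else 0 := by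
    intro j l
    have h := congrArg (MvPolynomial.coeff (Finsupp.single j 1)) (hc l)
    rw [coeff_single_C_mul_X] at h
    rw [← h]
    exact (coeff_single_sum_X_mul_C (fun j' => a j' l) j).symm
  refine ⟨c, fun W ω => ?_⟩
  apply mono_app (eulerι n R) W
  apply biproduct_section_ext
  intro j
  rw [π_eulerι_app, π_eulerι_app, Scheme.Modules.Hom.app_smul]
  apply secVal_ext
  intro x
  rw [secVal_smul, oval_constFn]
  refine (hval j W ω x).trans ?_
  simp only [hfa, hac]
  rw [Finset.sum_eq_single j]
  · rw [if_pos rfl]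
  · intro l _ hl
    rw [if_neg hl, map_zero, Localization.mk_zero, zero_mul]
  · intro h
    exact absurd (Finset.mem_univ j) h

end Groth.Agent.H2.Euler
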