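import Groth.Agent.Lib.Helper2.EulerSeqB
import Groth.Agent.Lib.Lead.PN.ExtTwist
import Groth.Agent.Lib.Lead.PN.Dual2

/-! # Morphisms from `Ω` of projective space to a twisting sheaf extend to `O(-1)^{n+1}`. -/

set_option autoImplicit false
universe u
open CategoryTheory CategoryTheory.Limits AlgebraicGeometry TopologicalSpace Opposite

namespace Groth.Agent.H2.Euler

open Twist Groth.Agent.LD.TW Groth.Agent.LD.PT Groth.Agent.LD.PN Groth.Agent.H3.Om
open Groth.Agent.LD.QC Abelian

attribute [local instance] Abelian.hasFiniteBiproducts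

/-- a morphism out of the kernel of a short exact sequence extends to the middle term when
the relevant `Ext¹` vanishes. -/
theorem exists_extension_of_subsingleton_ext {C : Type*} [Category C] [Abelian C] [HasExt C]
    {S : ShortComplex C} (hS : S.ShortExact) (Y : C) [Subsingleton (Ext S.X₃ Y 1)]
    (ψ : S.X₁ ⟶ Y) : ∃ ψ' : S.X₂ ⟶ Y, S.f ≫ ψ' = ψ := by
  obtain ⟨x₂, hx₂⟩ := Ext.contravariant_sequence_exact₁ hS Y (Ext.mk₀ ψ) (n₁ := 1) rfl
    (Subsingleton.elim _ _)
  obtain ⟨ψ', rfl⟩ := Ext.addEquiv₀.symm.surjective x₂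
  refine ⟨ψ', ?_⟩
  have h1 : Ext.mk₀ (S.f ≫ ψ') = Ext.mk₀ ψ := by
    rw [← hx₂]
    exact (Ext.mk₀_comp_mk₀ S.f ψ').symm
  exact Ext.addEquiv₀.symm.injective h1

variable (n : ℕ) (R : Type u) [CommRing R]

/-- every morphism `Ω ⟶ O(b)` extends along the Euler map, as soon as `H¹(O(b)) = 0`. -/
theorem exists_extension_twist (b : ℤ)
    (hb : ¬ (1 = n ∧ b ≤ -((n : ℤ) + 1)))
    (ψ : Omega.sheaf (pS n R) ⟶ twist (CohB1.polyGrading n R) b) :
    ∃ ψ' : eulerV n R ⟶ twist (CohB1.polyGrading n R) b, eulerι n R ≫ ψ' = ψ := by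
  haveI := Groth.Agent.H1.sheafOfModules_isGrothendieckAbelian
    (Opens.grothendieckTopology (Proj (CohB1.polyGrading n R)))
    (Proj (CohB1.polyGrading n R)).ringCatSheaf
  haveI : EnoughInjectives (Proj (CohB1.polyGrading n R)).Modules :=
    inferInstanceAs (EnoughInjectives
      (SheafOfModules.{u} (Proj (CohB1.polyGrading n R)).ringCatSheaf))
  haveI : HasExt.{u} (Proj (CohB1.polyGrading n R)).Modules := hasExt_of_enoughInjectives.{u} _
  haveI : Subsingleton (Ext (eulerSC n R).X₃ (twist (CohB1.polyGrading n R) b) 1) :=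
    subsingleton_ext_twist_twist n R 0 b 1 (fun h => by omega) (fun h => hb ⟨h.1, by have := h.2; omega⟩)
  exact exists_extension_of_subsingleton_ext (eulerSC_shortExact n R) _ ψ

/-- pointwise form: a morphism `Ω ⟶ O(b)` is a combination of the components of the Euler map with
coefficients homogeneous polynomials of degree `b + 1`. -/
theorem exists_coeffs_twist (b : ℤ) (k : ℕ) (hk : b = (k : ℤ) + (-1))
    (hb : ¬ (1 = n ∧ b ≤ -((n : ℤ) + 1)))
    (ψ : Omega.sheaf (pS n R) ⟶ twist (CohB1.polyGrading n R) b) :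
    ∃ f : Fin (n + 1) → MvPolynomial (Fin (n+1)) R, (∀ l, f l ∈ CohB1.polyGrading n R k) ∧
      ∀ (W : (Proj (CohB1.polyGrading n R)).Opens) (ω : Γ(Omega.sheaf (pS n R), W)) (x : W),
        secVal (ψ.app W ω) x = ∑ l, Localization.mk (f l) 1 * secVal ((iota n R l).app W ω) x := by
  obtain ⟨ψ', rfl⟩ := exists_extension_twist n R b hb ψ
  have hex : ∀ l : Fin (n + 1), ∃ f : MvPolynomial (Fin (n+1)) R, f ∈ CohB1.polyGrading n R k ∧
      IsMulBy (biproduct.ι (fun _ : Fin (n + 1) => twist (CohB1.polyGrading n R) (-1)) l ≫ ψ') f :=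
    fun l => exists_isMulBy' n R k hk _
  choose f hf hmul using hex
  refine ⟨f, hf, fun W ω x => ?_⟩
  have h1 : ψ' = biproduct.desc (fun l =>
      biproduct.ι (fun _ : Fin (n + 1) => twist (CohB1.polyGrading n R) (-1)) l ≫ ψ') := by
    apply biproduct.hom_ext'
    intro l
    rw [biproduct.ι_desc]
  rw [comp_app']
  conv_lhs => rw [h1]
  rw [biproduct_desc_app, secVal_sum]
  refine Finset.sum_congr rfl fun l _ => ?_
  rw [hmul l W _ x, π_eulerι_app]

end Groth.Agent.H2.Euler
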