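import Groth.Agent.Lib.Helper2.EulerChartB
import Groth.Agent.Lib.Helper3.ZClosCover

/-! # The null-correlation map `O(-2) ⟶ Ω` on an odd-dimensional projective space. -/

set_option autoImplicit false
set_option linter.style.haveILetI false
universe u
open CategoryTheory CategoryTheory.Limits AlgebraicGeometry TopologicalSpace Opposite

namespace Groth.Agent.H2.Euler

open Twist Groth.Agent.LD.TW Groth.Agent.LD.PT Groth.Agent.LD.PN Groth.Agent.H3.Om
open Groth.Agent.LD.QC Groth.Agent.LD.Ann Abelian

variable {n : ℕ}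

/-- the partner `l xor 1` of an index, `n` odd. -/
def sig (hn : Odd n) (l : Fin (n + 1)) : Fin (n + 1) :=
  if h : l.val % 2 = 0 then ⟨l.val + 1, by
    have := l.2
    obtain ⟨m, hm⟩ := hn
    omega⟩
  else ⟨l.val - 1, by have := l.2; omega⟩

lemma sig_val_of_even (hn : Odd n) (l : Fin (n + 1)) (h : l.val % 2 = 0) :
    (sig hn l).val = l.val + 1 := by
  unfold sig
  rw [dif_pos h]

lemma sig_val_of_odd (hn : Odd n) (l : Fin (n + 1)) (h : ¬ l.val % 2 = 0) :
    (sig hn l).val = l.val - 1 := by
  unfold sig
  rw [dif_neg h]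

lemma sig_sig (hn : Odd n) (l : Fin (n + 1)) : sig hn (sig hn l) = l := by
  apply Fin.ext
  by_cases h : l.val % 2 = 0
  · have h1 := sig_val_of_even hn l h
    have h2 : ¬ (sig hn l).val % 2 = 0 := by omega
    rw [sig_val_of_odd hn _ h2, h1]
    omega
  · have h1 := sig_val_of_odd hn l h
    have h2 : (sig hn l).val % 2 = 0 := by omega
    rw [sig_val_of_even hn _ h2, h1]
    omega

lemma sig_ne (hn : Odd n) (l : Fin (n + 1)) : sig hn l ≠ l := by
  intro h0
  have h1 := congrArg Fin.val h0
  by_cases h : l.val % 2 = 0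
  · rw [sig_val_of_even hn l h] at h1; omega
  · rw [sig_val_of_odd hn l h] at h1; omega

variable (R : Type u) [CommRing R]

/-- the sign `(-1)^l`. -/
def eps (l : Fin (n + 1)) : R := if l.val % 2 = 0 then 1 else -1

lemma eps_mul_self (l : Fin (n + 1)) : eps R l * eps R l = 1 := by
  unfold eps
  split_ifs <;> simp

lemma eps_sig (hn : Odd n) (l : Fin (n + 1)) : eps R (sig hn l) = -eps R l := by
  unfold eps
  by_cases h : l.val % 2 = 0
  · have h1 := sig_val_of_even hn l h
    have h2 : ¬ (sig hn l).val % 2 = 0 := by omega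
    rw [if_pos h, if_neg h2]
  · have h1 := sig_val_of_odd hn l h
    have h2 : (sig hn l).val % 2 = 0 := by omega
    rw [if_neg h, if_pos h2, neg_neg]

/-- the linear forms of the standard symplectic form. -/
noncomputable def nullForm (hn : Odd n) (l : Fin (n + 1)) : MvPolynomial (Fin (n+1)) R :=
  MvPolynomial.C (eps R l) * MvPolynomial.X (sig hn l)

lemma nullForm_mem (hn : Odd n) (l : Fin (n + 1)) : nullForm R hn l ∈ CohB1.polyGrading n R 1 := by
  unfold nullForm
  have h := SetLike.mul_mem_graded
    ((MvPolynomial.mem_homogeneousSubmodule _ _).2 (MvPolynomial.isHomogeneous_C _ (eps R l)))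
    (X_mem (R := R) (sig hn l))
  simpa using h

lemma nullForm_rel (hn : Odd n) :
    ∑ l : Fin (n + 1), MvPolynomial.X l * nullForm R hn l = 0 := by
  apply Finset.sum_ninvolution (sig hn)
  · intro l
    unfold nullForm
    rw [sig_sig, eps_sig, map_neg]
    ring
  · intro l _
    exact sig_ne hn l
  · intro l
    exact Finset.mem_univ _
  · intro l
    exact sig_sig hn l

end Groth.Agent.H2.Euler
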