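import Groth.Agent.Lib.Helper2.EulerNullB
import Groth.Agent.H4.FittSheaf2

/-! # The null-correlation bundle: the cokernel of `O(-1) ⟶ Ω(1)` is locally free of rank `n - 1`. -/

set_option autoImplicit false
set_option linter.style.haveILetI false
universe u
open CategoryTheory CategoryTheory.Limits AlgebraicGeometry TopologicalSpace Opposite

namespace Groth.Agent.H2.Euler

open Twist Groth.Agent.LD.TW Groth.Agent.LD.PT Groth.Agent.LD.PN Groth.Agent.H3.Om
open Groth.Agent.LD.QC Groth.Agent.LD.Ann Abelian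

variable {n : ℕ} {R : Type u} [CommRing R]

lemma card_compl_pair (j l₀ : Fin (n + 1)) (h : l₀ ≠ j) :
    Fintype.card {l : Fin (n + 1) // l ≠ j ∧ l ≠ l₀} = n - 1 := by
  classical
  rw [Fintype.card_subtype]
  have h1 : (Finset.univ.filter fun l : Fin (n + 1) => l ≠ j ∧ l ≠ l₀) =
      (Finset.univ.erase j).erase l₀ := by
    ext l
    simp [and_comm]
  rw [h1, Finset.card_erase_of_mem (Finset.mem_erase.2 ⟨h, Finset.mem_univ _⟩),
    Finset.card_erase_of_mem (Finset.mem_univ _), Finset.card_univ, Fintype.card_fin]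
  omega

/-- **the cokernel of the null-correlation map `O(-2) ⟶ Ω` has free sections of rank `n - 1` over
every standard chart.** -/
theorem nullHom_cokernel_chart (hn : Odd n)
    (u' : twist (CohB1.polyGrading n R) (-2) ⟶ Omega.sheaf (pS n R))
    (hu' : ∀ l, IsMulBy (u' ≫ iota n R l) (nullForm R hn l)) (j : Fin (n + 1)) :
    Nonempty (Γ(cokernel u', U n R j) ≃ₗ[Γ(Proj (CohB1.polyGrading n R), U n R j)]
      (Fin (n - 1) → Γ(Proj (CohB1.polyGrading n R), U n R j))) := by
  haveI : (twist (CohB1.polyGrading n R) (-2)).IsQuasicoherent := inferInstance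
  obtain ⟨e⟩ := nonempty_linearEquiv_cokernel_chart u' j (sig hn j) (sig_ne hn j)
    (nullHom_bijective hn u' hu' j (U n R j) (le_refl _))
  have e2 : {l : Fin (n + 1) // l ≠ j ∧ l ≠ sig hn j} ≃ Fin (n - 1) :=
    Fintype.equivFinOfCardEq (card_compl_pair j (sig hn j) (sig_ne hn j))
  exact ⟨e.trans (LinearEquiv.funCongrLeft _ _ e2.symm)⟩

end Groth.Agent.H2.Euler
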