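import Groth.Agent.Lib.Helper2.EulerNullC

/-! # The null-correlation bundle on an odd-dimensional projective space. -/

set_option autoImplicit false
set_option linter.style.haveILetI false
universe u
open CategoryTheory CategoryTheory.Limits AlgebraicGeometry TopologicalSpace Opposite

namespace Groth.Agent.H2.Euler

open Twist Groth.Agent.LD.TW Groth.Agent.LD.PT Groth.Agent.LD.PN Groth.Agent.H3.Om
open Groth.Agent.LD.QC Groth.Agent.LD.Ann Abelian

lemma isFinLocFreeOfRank_of_iso' {X : Scheme.{u}} {M N : X.Modules} (e : M ≅ N) {r : ℕ}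
    (h : FlatMod.IsFinLocFreeOfRank r M) : FlatMod.IsFinLocFreeOfRank r N := fun x => by
  obtain ⟨U, hx, ⟨φ⟩⟩ := h x
  exact ⟨U, hx, ⟨((Scheme.Modules.restrictFunctor U.ι).mapIso e).symm ≪≫ φ⟩⟩

variable (n : ℕ) (R : Type u) [CommRing R]

/-- the twisted cokernel of the null-correlation map is locally free of rank `n - 1`. -/
theorem isFinLocFreeOfRank_nullHom_tw (hn : Odd n)
    (u' : twist (CohB1.polyGrading n R) (-2) ⟶ Omega.sheaf (pS n R))
    (hu' : ∀ l, IsMulBy (u' ≫ iota n R l) (nullForm R hn l)) :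
    FlatMod.IsFinLocFreeOfRank (n - 1)
      (CohB1.tensorMod (cokernel u') (twist (CohB1.polyGrading n R) 1)) := by
  haveI hq0 : (cokernel u').IsQuasicoherent := qc_cokernel _ inferInstance inferInstance
  haveI hq1 : (CohB1.tensorMod (cokernel u') (twist (CohB1.polyGrading n R) 1)).IsQuasicoherent :=
    tensorMod_isQuasicoherent _ _
  rw [Groth.Agent.H4.FittSheaf.isFinLocFreeOfRank_iff]
  intro x
  obtain ⟨j, hj⟩ := exists_mem_U n R x
  refine ⟨U n R j, isAffineOpen_U j, hj, ?_⟩
  obtain ⟨ℓ⟩ := nullHom_cokernel_chart hn u' hu' j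
  obtain ⟨w, hw⟩ := exists_isUnitSec_one (𝒜 := CohB1.polyGrading n R) (MvPolynomial.X j)
    (X_mem j) 1 (V := U n R j) (le_refl _)
  exact ⟨(tmulEquiv (cokernel u') (twist (CohB1.polyGrading n R) 1) hw.isBasisOver).symm.trans ℓ⟩

end Groth.Agent.H2.Euler
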