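import Groth.Agent.Lib.Helper2.EulerNullD

/-! # Existence of null-correlation bundles. -/

set_option autoImplicit false
set_option linter.style.haveILetI false
universe u
open CategoryTheory CategoryTheory.Limits AlgebraicGeometry TopologicalSpace Opposite

namespace Groth.Agent.H2.Euler

open Twist Groth.Agent.LD.TW Groth.Agent.LD.PT Groth.Agent.LD.PN Groth.Agent.H3.Om
open Groth.Agent.LD.QC Groth.Agent.LD.Ann Abelian

/-- a functor preserving cokernels and an isomorphism on the source. -/
lemma nonempty_cokernel_iso {C : Type*} [Category C] [Abelian C] (T : C ⥤ C)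
    [PreservesFiniteColimits T] {A B A' : C} (f : A ⟶ B) (e : A' ≅ T.obj A) :
    Nonempty (cokernel (e.hom ≫ T.map f) ≅ T.obj (cokernel f)) :=
  ⟨cokernelEpiComp e.hom (T.map f) ≪≫ (PreservesCokernel.iso T f).symm⟩

variable (n : ℕ) (R : Type u) [CommRing R]

/-- **existence of null-correlation bundles**: for `n` odd there is a monomorphism
`O(-1) ⟶ Ω(1)` on `P^n_R` whose cokernel is finite locally free of rank `n - 1`. -/
theorem exists_nullCorrelation (hn : Odd n) :
    ∃ u : twist (CohB1.polyGrading n R) (-1) ⟶ om1 n R,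
      Mono u ∧ FlatMod.IsFinLocFreeOfRank (n - 1) (cokernel u) := by
  obtain ⟨u', hu'⟩ := exists_nullHom R hn
  have hm' : Mono u' := nullHom_mono hn u' hu'
  have heq := isEquivalence_tw1 n R
  have hpm : (twF (twist (CohB1.polyGrading n R) 1)).PreservesMonomorphisms := inferInstance
  have hmono : Mono ((twF (twist (CohB1.polyGrading n R) 1)).map u') :=
    Functor.map_mono (twF (twist (CohB1.polyGrading n R) 1)) u'
  have e : twist (CohB1.polyGrading n R) (-1) ≅
      (twF (twist (CohB1.polyGrading n R) 1)).obj (twist (CohB1.polyGrading n R) (-2)) :=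
    (twistMulIso n R (-2) 1 (-1) (by norm_num)).symm
  have hmono2 : Mono (e.hom ≫ (twF (twist (CohB1.polyGrading n R) 1)).map u') :=
    @mono_comp _ _ _ _ _ e.hom inferInstance _ hmono
  refine ⟨e.hom ≫ (twF (twist (CohB1.polyGrading n R) 1)).map u', hmono2, ?_⟩
  obtain ⟨φ⟩ := nonempty_cokernel_iso (twF (twist (CohB1.polyGrading n R) 1)) u' e
  exact isFinLocFreeOfRank_of_iso' φ.symm (isFinLocFreeOfRank_nullHom_tw n R hn u' hu')

end Groth.Agent.H2.Euler
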