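import Groth.Agent.Lib.Helper2.EulerEnd

/-! # A linear vector field on affine space has an eigen-line: the algebra behind the zero of a
vector field on projective space. -/

set_option autoImplicit false
universe u
open CategoryTheory AlgebraicGeometry TopologicalSpace Opposite

namespace Groth.Agent.H2.Euler

variable {n : ℕ} {R : Type u} [CommRing R]

/-- a linear form is a combination of the variables. -/
lemma linear_form_eq {p : MvPolynomial (Fin (n+1)) R} (hp : p ∈ CohB1.polyGrading n R 1) :
    p = ∑ j, MvPolynomial.X j *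
      MvPolynomial.C (MvPolynomial.coeff 0 (MvPolynomial.pderiv j p)) := by
  have h1 : p.IsHomogeneous 1 := (MvPolynomial.mem_homogeneousSubmodule _ _).1 hp
  have h2 := h1.sum_X_mul_pderiv
  rw [one_smul] at h2
  conv_lhs => rw [← h2]
  refine Finset.sum_congr rfl fun j _ => ?_
  have h3 : MvPolynomial.pderiv j p ∈ CohB1.polyGrading n R 0 :=
    (MvPolynomial.mem_homogeneousSubmodule _ _).2 (h1.pderiv (i := j))
  rw [← eq_C_of_mem_zero h3]

end Groth.Agent.H2.Euler

namespace Groth.Agent.H2.Euler

variable {n : ℕ} {k : Type u} [Field k]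

/-- evaluating Euler's identity. -/
lemma aeval_euler {K : Type u} [Field K] [Algebra k K] (v : Fin (n + 1) → K) {d : ℕ}
    {g : MvPolynomial (Fin (n+1)) k} (hg : g ∈ CohB1.polyGrading n k d) :
    ∑ l, v l * MvPolynomial.aeval v (MvPolynomial.pderiv l g) =
      (d : K) * MvPolynomial.aeval v g := by
  have h1 : g.IsHomogeneous d := (MvPolynomial.mem_homogeneousSubmodule _ _).1 hg
  have h2 := congrArg (MvPolynomial.aeval v) h1.sum_X_mul_pderiv
  rw [map_sum, map_nsmul, nsmul_eq_mul] at h2
  rw [← h2]
  refine Finset.sum_congr rfl fun l _ => ?_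
  rw [map_mul, MvPolynomial.aeval_X]

/-- **the zero of a linear vector field**: for linear forms `f_l`, there is a point of projective space
at which all the expressions `∑ f_l (s ∂_l a - a ∂_l s)` vanish, `a`, `s` homogeneous of the same
degree. -/
theorem exists_point (f : Fin (n + 1) → MvPolynomial (Fin (n+1)) k)
    (hf : ∀ l, f l ∈ CohB1.polyGrading n k 1) :
    ∃ x : ProjectiveSpectrum (CohB1.polyGrading n k), ∀ (d : ℕ) (a s : MvPolynomial (Fin (n+1)) k),
      a ∈ CohB1.polyGrading n k d → s ∈ CohB1.polyGrading n k d →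
      ∑ l, f l * (s * MvPolynomial.pderiv l a - a * MvPolynomial.pderiv l s) ∈
        x.asHomogeneousIdeal.toIdeal := by
  classical
  let K := AlgebraicClosure k
  let M : Matrix (Fin (n + 1)) (Fin (n + 1)) K := fun l j =>
    algebraMap k K (MvPolynomial.coeff 0 (MvPolynomial.pderiv j (f l)))
  obtain ⟨μ, hμ⟩ := Module.End.exists_eigenvalue (Matrix.toLin' M)
  obtain ⟨v, hv⟩ := hμ.exists_hasEigenvector
  have hv0 : v ≠ 0 := hv.2
  have hMv : ∀ l, ∑ j, M l j * v j = μ * v l := by
    intro l
    have h := congrFun hv.apply_eq_smul l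
    rw [Matrix.toLin'_apply] at h
    exact h
  let ev : MvPolynomial (Fin (n+1)) k →ₐ[k] K := MvPolynomial.aeval v
  have hevf : ∀ l, ev (f l) = μ * v l := by
    intro l
    rw [← hMv l]
    conv_lhs => rw [linear_form_eq (hf l)]
    rw [map_sum]
    refine Finset.sum_congr rfl fun j _ => ?_
    change MvPolynomial.aeval v _ = _
    rw [map_mul, MvPolynomial.aeval_X, MvPolynomial.aeval_C, mul_comm]
  have hkey : ∀ (d : ℕ) (g : MvPolynomial (Fin (n+1)) k), g ∈ CohB1.polyGrading n k d →
      ∑ l, ev (f l) * ev (MvPolynomial.pderiv l g) = μ * ((d : K) * ev g) := by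
    intro d g hg
    rw [← aeval_euler v hg, Finset.mul_sum]
    refine Finset.sum_congr rfl fun l _ => ?_
    rw [hevf l, mul_assoc]
  haveI hq : (RingHom.ker ev.toRingHom).IsPrime := RingHom.ker_isPrime _
  have hp : ((RingHom.ker ev.toRingHom).homogeneousCore (CohB1.polyGrading n k)).toIdeal.IsPrime :=
    Ideal.IsPrime.homogeneousCore hq
  obtain ⟨j, hj⟩ : ∃ j, v j ≠ 0 := by
    by_contra hcon
    push Not at hcon
    exact hv0 (funext hcon)
  have hXj : (MvPolynomial.X j : MvPolynomial (Fin (n+1)) k) ∉
      ((RingHom.ker ev.toRingHom).homogeneousCore (CohB1.polyGrading n k)).toIdeal := by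
    intro hmem
    have h1 := Ideal.toIdeal_homogeneousCore_le (CohB1.polyGrading n k) _ hmem
    rw [RingHom.mem_ker] at h1
    apply hj
    have h2 : ev (MvPolynomial.X j) = v j := MvPolynomial.aeval_X v j
    rw [← h2]
    exact h1
  have hirr : ¬ HomogeneousIdeal.irrelevant (CohB1.polyGrading n k) ≤
      (RingHom.ker ev.toRingHom).homogeneousCore (CohB1.polyGrading n k) := by
    intro hle
    apply hXj
    apply hle
    rw [HomogeneousIdeal.mem_irrelevant_iff, GradedRing.proj_apply]
    exact DirectSum.decompose_of_mem_ne (CohB1.polyGrading n k)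
      ((MvPolynomial.mem_homogeneousSubmodule _ _).2 (MvPolynomial.isHomogeneous_X k j))
      (by norm_num)
  refine ⟨⟨(RingHom.ker ev.toRingHom).homogeneousCore (CohB1.polyGrading n k), hp, hirr⟩, ?_⟩
  intro d a s ha hs
  change _ ∈ ((RingHom.ker ev.toRingHom).homogeneousCore (CohB1.polyGrading n k)).toIdeal
  apply Ideal.mem_homogeneousCore_of_homogeneous_of_mem
  · refine ⟨1 + (d + (d - 1)), ?_⟩
    refine sum_mem fun l _ => ?_
    have hda : MvPolynomial.pderiv l a ∈ CohB1.polyGrading n k (d - 1) :=
      (MvPolynomial.mem_homogeneousSubmodule _ _).2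
        (((MvPolynomial.mem_homogeneousSubmodule _ _).1 ha).pderiv (i := l))
    have hds : MvPolynomial.pderiv l s ∈ CohB1.polyGrading n k (d - 1) :=
      (MvPolynomial.mem_homogeneousSubmodule _ _).2
        (((MvPolynomial.mem_homogeneousSubmodule _ _).1 hs).pderiv (i := l))
    exact SetLike.mul_mem_graded (hf l)
      (sub_mem (SetLike.mul_mem_graded hs hda) (SetLike.mul_mem_graded ha hds))
  · rw [RingHom.mem_ker]
    change ev _ = 0
    rw [map_sum]
    have h1 : ∀ l, ev (f l * (s * MvPolynomial.pderiv l a - a * MvPolynomial.pderiv l s)) =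
        ev s * (ev (f l) * ev (MvPolynomial.pderiv l a)) -
          ev a * (ev (f l) * ev (MvPolynomial.pderiv l s)) := by
      intro l
      rw [map_mul, map_sub, map_mul, map_mul]
      ring
    simp only [h1]
    rw [Finset.sum_sub_distrib, ← Finset.mul_sum, ← Finset.mul_sum, hkey d a ha, hkey d s hs]
    ring

end Groth.Agent.H2.Euler
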