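import Mathlib
import Groth.Agent.Lib.Helper2.EulerVecA

/-! # Pullback of the Euler sequence: abstract preliminaries

* the kernel of `(0, f) : A ⊞ B ⟶ D`;
* splitting data for a surjective matrix over a field;
* the point of projective space attached to a nonzero vector. -/

set_option autoImplicit false
universe u
open CategoryTheory CategoryTheory.Limits

namespace Groth.Agent.H2.Euler

section Kernel
variable {C : Type*} [Category C] [Abelian C]

/-- the kernel of `(0, f) : A ⊞ B ⟶ D` is `A ⊞ ker f`. -/
theorem nonempty_kernel_biprod_desc_iso {A B D : C} (f : B ⟶ D) :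
    Nonempty (kernel (biprod.desc (0 : A ⟶ D) f) ≅ A ⊞ kernel f) := by
  have h0 : kernel.ι (biprod.desc (0 : A ⟶ D) f) ≫ biprod.snd ≫ f = 0 := by
    have h1 := kernel.condition (biprod.desc (0 : A ⟶ D) f)
    have h2 : biprod.desc (0 : A ⟶ D) f = biprod.snd ≫ f := by
      apply biprod.hom_ext'
      · simp
      · simp
    exact (congrArg (fun t => kernel.ι (biprod.desc (0 : A ⟶ D) f) ≫ t) h2).symm.trans h1
  have h3 : biprod.map (𝟙 A) (kernel.ι f) ≫ biprod.desc (0 : A ⟶ D) f = 0 := by
    apply biprod.hom_ext'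
    · simp
    · simp
  refine ⟨⟨biprod.lift (kernel.ι _ ≫ biprod.fst)
      (kernel.lift f (kernel.ι _ ≫ biprod.snd) (by rw [Category.assoc]; exact h0)),
    kernel.lift _ (biprod.map (𝟙 A) (kernel.ι f)) h3, ?_, ?_⟩⟩
  · apply equalizer.hom_ext
    apply biprod.hom_ext
    · simp
    · simp
  · apply biprod.hom_ext
    · apply biprod.hom_ext'
      · simp
      · simp
    · apply equalizer.hom_ext
      apply biprod.hom_ext'
      · simp
      · simp

end Kernel

section LinAlg
variable {k : Type*} [Field k]

/-- splitting data for a surjective matrix. -/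
theorem exists_split_matrices {a b : ℕ} (A : Matrix (Fin b) (Fin a) k)
    (hA : Function.Surjective (Matrix.toLin' A)) :
    ∃ (B : Matrix (Fin a) (Fin b) k) (C : Matrix (Fin a) (Fin (a - b)) k)
      (C' : Matrix (Fin (a - b)) (Fin a) k),
      A * B = 1 ∧ A * C = 0 ∧ C' * C = 1 ∧ C' * B = 0 ∧ C * C' + B * A = 1 := by
  classical
  set f := Matrix.toLin' A with hf
  obtain ⟨g, hg⟩ := LinearMap.exists_rightInverse_of_surjective f (LinearMap.range_eq_top.2 hA)
  have hrk : Module.finrank k (LinearMap.ker f) = a - b := by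
    have h1 := LinearMap.finrank_range_add_finrank_ker f
    rw [LinearMap.range_eq_top.2 hA, finrank_top, Module.finrank_fin_fun, Module.finrank_fin_fun]
      at h1
    omega
  have hrk' : Module.finrank k (Fin (a - b) → k) = Module.finrank k (LinearMap.ker f) := by
    rw [hrk, Module.finrank_fin_fun]
  let e : (Fin (a - b) → k) ≃ₗ[k] LinearMap.ker f := LinearEquiv.ofFinrankEq _ _ hrk'
  have hp : ∀ v, ((LinearMap.id : (Fin a → k) →ₗ[k] (Fin a → k)) - g ∘ₗ f) v ∈ LinearMap.ker f := by
    intro v
    rw [LinearMap.mem_ker, LinearMap.sub_apply, map_sub, LinearMap.id_apply,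
      LinearMap.comp_apply]
    have h2 : f (g (f v)) = f v := by
      have := LinearMap.congr_fun hg (f v)
      simpa using this
    rw [h2, sub_self]
  let p : (Fin a → k) →ₗ[k] LinearMap.ker f :=
    LinearMap.codRestrict (LinearMap.ker f) ((LinearMap.id : (Fin a → k) →ₗ[k] (Fin a → k)) - g ∘ₗ f) hp
  let fC : (Fin (a - b) → k) →ₗ[k] (Fin a → k) := (LinearMap.ker f).subtype ∘ₗ e.toLinearMap
  let fC' : (Fin a → k) →ₗ[k] (Fin (a - b) → k) := e.symm.toLinearMap ∘ₗ p
  have hfA : LinearMap.toMatrix' f = A := LinearMap.toMatrix'_toLin' A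
  refine ⟨LinearMap.toMatrix' g, LinearMap.toMatrix' fC, LinearMap.toMatrix' fC', ?_, ?_, ?_, ?_, ?_⟩
  · rw [← hfA, ← LinearMap.toMatrix'_comp, hg, LinearMap.toMatrix'_id]
  · rw [← hfA, ← LinearMap.toMatrix'_comp]
    have : f ∘ₗ fC = 0 := by
      apply LinearMap.ext
      intro x
      change f ((e x : LinearMap.ker f) : Fin a → k) = 0
      exact (e x).2
    rw [this, map_zero]
  · rw [← LinearMap.toMatrix'_comp]
    have : fC' ∘ₗ fC = LinearMap.id := by
      apply LinearMap.ext
      intro x
      change e.symm (p ((e x : LinearMap.ker f) : Fin a → k)) = x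
      have h3 : p ((e x : LinearMap.ker f) : Fin a → k) = e x := by
        apply Subtype.ext
        change ((LinearMap.id : (Fin a → k) →ₗ[k] (Fin a → k)) - g ∘ₗ f) ((e x : LinearMap.ker f) : Fin a → k) = _
        rw [LinearMap.sub_apply, LinearMap.id_apply, LinearMap.comp_apply]
        have h4 : f ((e x : LinearMap.ker f) : Fin a → k) = 0 := (e x).2
        rw [h4, map_zero, sub_zero]
      rw [h3, LinearEquiv.symm_apply_apply]
    rw [this, LinearMap.toMatrix'_id]
  · rw [← LinearMap.toMatrix'_comp]
    have : fC' ∘ₗ g = 0 := by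
      apply LinearMap.ext
      intro y
      change e.symm (p (g y)) = 0
      have h3 : p (g y) = 0 := by
        apply Subtype.ext
        change ((LinearMap.id : (Fin a → k) →ₗ[k] (Fin a → k)) - g ∘ₗ f) (g y) = 0
        rw [LinearMap.sub_apply, LinearMap.id_apply, LinearMap.comp_apply]
        have h4 : f (g y) = y := by
          have := LinearMap.congr_fun hg y
          simpa using this
        rw [h4, sub_self]
      rw [h3, map_zero]
    rw [this, map_zero]
  · rw [← hfA, ← LinearMap.toMatrix'_comp, ← LinearMap.toMatrix'_comp, ← map_add]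
    have : fC ∘ₗ fC' + g ∘ₗ f = LinearMap.id := by
      apply LinearMap.ext
      intro v
      change ((e (e.symm (p v)) : LinearMap.ker f) : Fin a → k) + g (f v) = v
      rw [LinearEquiv.apply_symm_apply]
      change ((LinearMap.id : (Fin a → k) →ₗ[k] (Fin a → k)) - g ∘ₗ f) v + g (f v) = v
      rw [LinearMap.sub_apply, LinearMap.id_apply, LinearMap.comp_apply, sub_add_cancel]
    rw [this, LinearMap.toMatrix'_id]

end LinAlg

section Point
variable (k : Type u) [Field k] (n : ℕ)

/-- the point of projective space attached to a nonzero vector: it lies on every hypersurface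
through the vector. -/
theorem exists_point_of_vec (v : Fin (n + 1) → k) (hv : v ≠ 0) :
    ∃ x : ProjectiveSpectrum (CohB1.polyGrading n k), ∀ (d : ℕ) (a : MvPolynomial (Fin (n+1)) k),
      a ∈ CohB1.polyGrading n k d → MvPolynomial.aeval v a = 0 →
      a ∈ x.asHomogeneousIdeal.toIdeal := by
  classical
  let ev : MvPolynomial (Fin (n+1)) k →ₐ[k] k := MvPolynomial.aeval v
  have hq : (RingHom.ker ev.toRingHom).IsPrime := RingHom.ker_isPrime _
  have hp : ((RingHom.ker ev.toRingHom).homogeneousCore (CohB1.polyGrading n k)).toIdeal.IsPrime :=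
    Ideal.IsPrime.homogeneousCore hq
  obtain ⟨j, hj⟩ : ∃ j, v j ≠ 0 := by
    by_contra hcon
    push Not at hcon
    exact hv (funext hcon)
  have hXj : (MvPolynomial.X j : MvPolynomial (Fin (n+1)) k) ∉
      ((RingHom.ker ev.toRingHom).homogeneousCore (CohB1.polyGrading n k)).toIdeal := by
    intro hmem
    have h1 := Ideal.toIdeal_homogeneousCore_le (CohB1.polyGrading n k) _ hmem
    rw [RingHom.mem_ker] at h1
    apply hj
    have h2 : ev (MvPolynomial.X j) = v j := MvPolynomial.aeval_X v j
    rw [← h2]
    exact h1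
  have hirr : ¬ HomogeneousIdeal.irrelevant (CohB1.polyGrading n k) ≤
      (RingHom.ker ev.toRingHom).homogeneousCore (CohB1.polyGrading n k) := by
    intro hle
    apply hXj
    apply hle
    rw [HomogeneousIdeal.mem_irrelevant_iff, GradedRing.proj_apply]
    exact DirectSum.decompose_of_mem_ne (CohB1.polyGrading n k)
      ((MvPolynomial.mem_homogeneousSubmodule _ _).2 (MvPolynomial.isHomogeneous_X k j))
      (by norm_num)
  refine ⟨⟨(RingHom.ker ev.toRingHom).homogeneousCore (CohB1.polyGrading n k), hp, hirr⟩, ?_⟩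
  intro d a ha hav
  change _ ∈ ((RingHom.ker ev.toRingHom).homogeneousCore (CohB1.polyGrading n k)).toIdeal
  apply Ideal.mem_homogeneousCore_of_homogeneous_of_mem
  · exact ⟨d, ha⟩
  · rw [RingHom.mem_ker]
    exact hav

end Point

end Groth.Agent.H2.Euler
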