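import Groth.Agent.Lib.Helper2.EulerTwF

/-! # Matrices of scalars as morphisms of direct sums of a module on projective space. -/

set_option autoImplicit false
set_option linter.style.haveILetI false
universe u
open CategoryTheory CategoryTheory.Limits AlgebraicGeometry TopologicalSpace Opposite

namespace Groth.Agent.H2.Euler

open Twist Groth.Agent.LD.TW Groth.Agent.LD.PT Groth.Agent.LD.PN Groth.Agent.H3.Om
open Groth.Agent.LD.QC Groth.Agent.LD.Ann Abelian

attribute [local instance] Abelian.hasFiniteBiproducts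

section
variable {X : Scheme.{u}}

lemma smulEnd_add' (M : X.Modules) (r s : Γ(X, ⊤)) :
    smulEnd M (r + s) = smulEnd M r + smulEnd M s := by
  apply Scheme.Modules.hom_ext
  intro U
  ext m
  rw [add_app', smulEnd_app, smulEnd_app, smulEnd_app, map_add, add_smul]

lemma smulEnd_sum' (M : X.Modules) {ι : Type*} (S : Finset ι) (r : ι → Γ(X, ⊤)) :
    smulEnd M (∑ j ∈ S, r j) = ∑ j ∈ S, smulEnd M (r j) := by
  classical
  induction S using Finset.induction_on with
  | empty => rw [Finset.sum_empty, Finset.sum_empty, smulEnd_zero]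
  | insert j S hj ih => rw [Finset.sum_insert hj, Finset.sum_insert hj, smulEnd_add', ih]

end

variable {n : ℕ} {R : Type u} [CommRing R]

lemma smulEnd_gl_sum (M : (Proj (CohB1.polyGrading n R)).Modules) {ι : Type*} (S : Finset ι)
    (c : ι → R) : smulEnd M (gl n R (∑ j ∈ S, c j)) = ∑ j ∈ S, smulEnd M (gl n R (c j)) := by
  rw [← glHom_apply, map_sum, smulEnd_sum']
  rfl

lemma smulEnd_gl_add (M : (Proj (CohB1.polyGrading n R)).Modules) (c d : R) :
    smulEnd M (gl n R (c + d)) = smulEnd M (gl n R c) + smulEnd M (gl n R d) := by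
  rw [← glHom_apply, map_add, smulEnd_add']
  rfl

/-- the morphism of direct sums attached to a matrix of scalars (acting on column vectors). -/
noncomputable def cM {a b : ℕ} (G : Matrix (Fin b) (Fin a) R)
    (L : (Proj (CohB1.polyGrading n R)).Modules) :
    (⨁ fun _ : Fin a => L) ⟶ (⨁ fun _ : Fin b => L) :=
  biproduct.matrix fun (j : Fin a) (i : Fin b) => smulEnd L (gl n R (G i j))

lemma ι_cM_π {a b : ℕ} (G : Matrix (Fin b) (Fin a) R)
    (L : (Proj (CohB1.polyGrading n R)).Modules) (j : Fin a) (i : Fin b) :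
    biproduct.ι (fun _ : Fin a => L) j ≫ cM G L ≫ biproduct.π (fun _ : Fin b => L) i =
      smulEnd L (gl n R (G i j)) := by
  unfold cM
  rw [biproduct.matrix_π, biproduct.ι_desc]

lemma cM_comp {a b c : ℕ} (G : Matrix (Fin b) (Fin a) R) (H : Matrix (Fin c) (Fin b) R)
    (L : (Proj (CohB1.polyGrading n R)).Modules) :
    cM G L ≫ cM H L = cM (H * G) L := by
  apply biproduct.hom_ext'
  intro j
  apply biproduct.hom_ext
  intro i
  simp only [Category.assoc]
  rw [ι_cM_π]
  unfold cM
  rw [biproduct.matrix_π, biproduct.ι_matrix_assoc, biproduct.lift_desc, Matrix.mul_apply,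
    smulEnd_gl_sum]
  refine Finset.sum_congr rfl fun l _ => ?_
  rw [smulEnd_gl_mul]

lemma cM_one {a : ℕ} (L : (Proj (CohB1.polyGrading n R)).Modules) :
    cM (1 : Matrix (Fin a) (Fin a) R) L = 𝟙 _ := by
  classical
  apply biproduct.hom_ext'
  intro j
  apply biproduct.hom_ext
  intro i
  rw [Category.assoc, ι_cM_π, Category.comp_id, biproduct.ι_π]
  by_cases h : j = i
  · subst h
    rw [Matrix.one_apply_eq, smulEnd_gl_one, dif_pos rfl]
    rfl
  · rw [Matrix.one_apply_ne (Ne.symm h), smulEnd_gl_zero, dif_neg h]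

lemma cM_zero {a b : ℕ} (L : (Proj (CohB1.polyGrading n R)).Modules) :
    cM (0 : Matrix (Fin b) (Fin a) R) L = 0 := by
  apply biproduct.hom_ext'
  intro j
  apply biproduct.hom_ext
  intro i
  rw [Category.assoc, ι_cM_π, Matrix.zero_apply, smulEnd_gl_zero]
  simp

lemma cM_add {a b : ℕ} (G H : Matrix (Fin b) (Fin a) R)
    (L : (Proj (CohB1.polyGrading n R)).Modules) :
    cM (G + H) L = cM G L + cM H L := by
  apply biproduct.hom_ext'
  intro j
  apply biproduct.hom_ext
  intro i
  simp only [Category.assoc, Preadditive.add_comp, Preadditive.comp_add]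
  rw [ι_cM_π, ι_cM_π, ι_cM_π, Matrix.add_apply, smulEnd_gl_add]

/-- an invertible block matrix gives an isomorphism of direct sums. -/
theorem isIso_biprod_desc_cM {a b r : ℕ} (A : Matrix (Fin b) (Fin a) R)
    (B : Matrix (Fin a) (Fin b) R) (C : Matrix (Fin a) (Fin r) R) (C' : Matrix (Fin r) (Fin a) R)
    (h1 : A * B = 1) (h2 : A * C = 0) (h3 : C' * C = 1) (h4 : C' * B = 0)
    (h5 : C * C' + B * A = 1) (L : (Proj (CohB1.polyGrading n R)).Modules) :
    IsIso (biprod.desc (cM C L) (cM B L)) := by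
  refine ⟨biprod.lift (cM C' L) (cM A L), ?_, ?_⟩
  · apply biprod.hom_ext'
    · rw [biprod.inl_desc_assoc, Category.comp_id]
      apply biprod.hom_ext
      · rw [Category.assoc, biprod.lift_fst, biprod.inl_fst, cM_comp, h3, cM_one]
      · rw [Category.assoc, biprod.lift_snd, biprod.inl_snd, cM_comp, h2, cM_zero]
    · rw [biprod.inr_desc_assoc, Category.comp_id]
      apply biprod.hom_ext
      · rw [Category.assoc, biprod.lift_fst, biprod.inr_fst, cM_comp, h4, cM_zero]
      · rw [Category.assoc, biprod.lift_snd, biprod.inr_snd, cM_comp, h1, cM_one]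
  · rw [biprod.lift_desc, cM_comp, cM_comp, ← cM_add, h5, cM_one]

/-! ### multiplication maps -/

lemma isMulBy_smulEnd_comp {d d' : ℤ}
    {φ : twist (CohB1.polyGrading n R) d ⟶ twist (CohB1.polyGrading n R) d'}
    {f : MvPolynomial (Fin (n+1)) R} (h : IsMulBy φ f) (c : R) :
    IsMulBy (smulEnd (twist (CohB1.polyGrading n R) d) (gl n R c) ≫ φ) (MvPolynomial.C c * f) := by
  intro W t y
  rw [comp_app', h W _ y, isMulBy_smulEnd d c W t y, ← mul_assoc, Localization.mk_mul, mul_one]
  congr 2
  exact mul_comm _ _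

lemma isMulBy_add {d d' : ℤ}
    {φ ψ : twist (CohB1.polyGrading n R) d ⟶ twist (CohB1.polyGrading n R) d'}
    {f g : MvPolynomial (Fin (n+1)) R} (h : IsMulBy φ f) (h' : IsMulBy ψ g) :
    IsMulBy (φ + ψ) (f + g) := by
  intro W t y
  rw [add_app', secVal_add, h W t y, h' W t y, ← add_mul, Localization.add_mk_self]

lemma isMulBy_sum {d d' : ℤ} {ι : Type*} (S : Finset ι)
    {φ : ι → (twist (CohB1.polyGrading n R) d ⟶ twist (CohB1.polyGrading n R) d')}
    {f : ι → MvPolynomial (Fin (n+1)) R} (h : ∀ j, IsMulBy (φ j) (f j)) :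
    IsMulBy (∑ j ∈ S, φ j) (∑ j ∈ S, f j) := by
  classical
  induction S using Finset.induction_on with
  | empty => rw [Finset.sum_empty, Finset.sum_empty]; exact isMulBy_zero
  | insert j S hj ih => rw [Finset.sum_insert hj, Finset.sum_insert hj]; exact isMulBy_add (h j) ih

lemma isMulBy_mX0 (l : Fin (n + 1)) : IsMulBy (mX0 n R l) (MvPolynomial.X l) := by
  intro W t y
  rw [secVal_mX0, xi_eq_mk]

/-- the components of `cM G ≫ E`, for `E` given by forms `ℓ`. -/
theorem isMulBy_ι_cM_comp {a b : ℕ} {d d' : ℤ} (G : Matrix (Fin b) (Fin a) R)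
    (E : (⨁ fun _ : Fin b => twist (CohB1.polyGrading n R) d) ⟶ twist (CohB1.polyGrading n R) d')
    (ℓ : Fin b → MvPolynomial (Fin (n+1)) R)
    (hE : ∀ l, IsMulBy (biproduct.ι (fun _ : Fin b => twist (CohB1.polyGrading n R) d) l ≫ E) (ℓ l))
    (r : Fin a) :
    IsMulBy (biproduct.ι (fun _ : Fin a => twist (CohB1.polyGrading n R) d) r ≫
      cM G (twist (CohB1.polyGrading n R) d) ≫ E) (∑ l, MvPolynomial.C (G l r) * ℓ l) := by
  have h1 : biproduct.ι (fun _ : Fin a => twist (CohB1.polyGrading n R) d) r ≫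
      cM G (twist (CohB1.polyGrading n R) d) ≫ E =
      ∑ l, smulEnd (twist (CohB1.polyGrading n R) d) (gl n R (G l r)) ≫
        (biproduct.ι (fun _ : Fin b => twist (CohB1.polyGrading n R) d) l ≫ E) := by
    have h2 : E = biproduct.desc fun l =>
        biproduct.ι (fun _ : Fin b => twist (CohB1.polyGrading n R) d) l ≫ E := by
      apply biproduct.hom_ext'
      intro l
      rw [biproduct.ι_desc]
    conv_lhs => rw [h2]
    unfold cM
    rw [biproduct.ι_matrix_assoc, biproduct.lift_desc]
  rw [h1]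
  exact isMulBy_sum _ fun l => isMulBy_smulEnd_comp (hE l) (G l r)

end Groth.Agent.H2.Euler
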