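import Groth.Agent.Lib.Helper2.EulerVecB
import Groth.Prelude.Def_Coh

/-! # Vector fields on projective space vanish somewhere: the statement on germs. -/

set_option autoImplicit false
universe u
open CategoryTheory CategoryTheory.Limits AlgebraicGeometry TopologicalSpace Opposite

namespace Groth.Agent.H2.Euler

open Twist Groth.Agent.LD.TW Groth.Agent.LD.PT Groth.Agent.LD.PN Groth.Agent.H3.Om
open Groth.Agent.LD.QC

variable {n : ℕ} {k : Type u} [Field k]

/-- a function whose value at `x` lies in the maximal ideal of the localization has germ in the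
maximal ideal of the stalk. -/
lemma germ_mem_maximalIdeal_of_oval {R : Type u} [CommRing R]
    {U : (Proj (CohB1.polyGrading n R)).Opens} (g : Γ(Proj (CohB1.polyGrading n R), U))
    (x : Proj (CohB1.polyGrading n R)) (hx : x ∈ U)
    (h : oval (CohB1.polyGrading n R) g ⟨x, hx⟩ ∈
      IsLocalRing.maximalIdeal (Loc (CohB1.polyGrading n R) x)) :
    (Proj (CohB1.polyGrading n R)).presheaf.germ U x hx g ∈
      IsLocalRing.maximalIdeal ((Proj (CohB1.polyGrading n R)).presheaf.stalk x) := by
  by_contra hcon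
  have hu : IsUnit ((Proj (CohB1.polyGrading n R)).presheaf.germ U x hx g) := by
    rw [IsLocalRing.mem_maximalIdeal, mem_nonunits_iff, not_not] at hcon
    exact hcon
  obtain ⟨V, i, hxV, hV⟩ :=
    (Proj (CohB1.polyGrading n R)).toLocallyRingedSpace.toRingedSpace.isUnit_res_of_isUnit_germ
      U g x hx hu
  obtain ⟨h', hh⟩ := hV.exists_right_inv
  have h3 := congrArg (fun r => oval (CohB1.polyGrading n R) r ⟨x, hxV⟩) hh
  simp only [oval_mul, oval_one] at h3
  have h4 : oval (CohB1.polyGrading n R)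
      ((Proj (CohB1.polyGrading n R)).presheaf.map i.op g) ⟨x, hxV⟩ =
      oval (CohB1.polyGrading n R) g ⟨x, hx⟩ := rfl
  have h5 : oval (CohB1.polyGrading n R) g ⟨x, hx⟩ *
      oval (CohB1.polyGrading n R) h' ⟨x, hxV⟩ = 1 := by
    rw [← h4]; exact h3
  exact (IsLocalRing.mem_maximalIdeal _).1 h (IsUnit.of_mul_eq_one _ h5)

/-- **every vector field on projective space over a field vanishes at some point.** -/
theorem exists_zero_of_vector_field (k : Type u) [Field k] (n : ℕ)
    (ξ : Omega.sheaf (pS n k) ⟶ Coh.structureModule (Proj (CohB1.polyGrading n k))) :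
    ∃ x : Proj (CohB1.polyGrading n k), ∀ (U : (Proj (CohB1.polyGrading n k)).Opens) (hx : x ∈ U)
      (s : Γ(Omega.sheaf (pS n k), U)),
      (Proj (CohB1.polyGrading n k)).presheaf.germ U x hx
        (OmegaSh.fnSect (Proj (CohB1.polyGrading n k)) U (ξ.app U s)) ∈
        IsLocalRing.maximalIdeal ((Proj (CohB1.polyGrading n k)).presheaf.stalk x) := by
  obtain ⟨f, hf, hval⟩ := exists_coeffs_twist n k 0 1 (by norm_num) (by omega)
    (ξ ≫ unitToTwist (CohB1.polyGrading n k))
  obtain ⟨x₀, hx₀⟩ := exists_point f hf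
  refine ⟨x₀, fun U hx s => ?_⟩
  apply germ_mem_maximalIdeal_of_oval
  have h1 : oval (CohB1.polyGrading n k)
      (OmegaSh.fnSect (Proj (CohB1.polyGrading n k)) U (ξ.app U s)) ⟨x₀, hx⟩ =
      vfVal f s ⟨x₀, hx⟩ := by
    have h := hval U s ⟨x₀, hx⟩
    rw [comp_app'] at h
    exact h
  rw [h1]
  exact vfVal_mem_maximalIdeal f x₀ hx₀ ⟨x₀, hx⟩ rfl s

end Groth.Agent.H2.Euler
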