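import Groth.Agent.Lib.Helper2.EulerPbA
import Groth.Agent.Lib.Helper2.EulerPbB
import Groth.Agent.Lib.Helper2.EulerVecC

/-! # The kernel of an epimorphism `O(-1)^a ⟶ O` on projective space over a field. -/

set_option autoImplicit false
set_option linter.style.haveILetI false
universe u
open CategoryTheory CategoryTheory.Limits AlgebraicGeometry TopologicalSpace Opposite

namespace Groth.Agent.H2.Euler

open Twist Groth.Agent.LD.TW Groth.Agent.LD.PT Groth.Agent.LD.PN Groth.Agent.H3.Om
open Groth.Agent.LD.QC Groth.Agent.LD.Ann Abelian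

attribute [local instance] Abelian.hasFiniteBiproducts

variable {n : ℕ} {k : Type u} [Field k]

instance instQCBiproductTwist (a : ℕ) (d : ℤ) :
    (⨁ fun _ : Fin a => twist (CohB1.polyGrading n k) d).IsQuasicoherent :=
  qc_of_iso (biproduct.isoCoproduct _).symm (qc_sigma_fin (twist (CohB1.polyGrading n k) d) a)

/-- the coefficient matrix of a family of linear forms. -/
noncomputable def coeffMat {a : ℕ} (ℓ : Fin a → MvPolynomial (Fin (n+1)) k) :
    Matrix (Fin (n + 1)) (Fin a) k :=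
  fun i l => MvPolynomial.coeff 0 (MvPolynomial.pderiv i (ℓ l))

lemma form_eq_coeffMat {a : ℕ} (ℓ : Fin a → MvPolynomial (Fin (n+1)) k)
    (hℓ : ∀ l, ℓ l ∈ CohB1.polyGrading n k 1) (l : Fin a) :
    ℓ l = ∑ i, MvPolynomial.X i * MvPolynomial.C (coeffMat ℓ i l) :=
  linear_form_eq (hℓ l)

/-- an epimorphism `O(-1)^a ⟶ O` is given by linear forms spanning all linear forms. -/
theorem toLin_surjective_of_epi {a : ℕ}
    (E' : (⨁ fun _ : Fin a => twist (CohB1.polyGrading n k) (-1)) ⟶
      twist (CohB1.polyGrading n k) 0) [Epi E']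
    (ℓ : Fin a → MvPolynomial (Fin (n+1)) k) (hℓ : ∀ l, ℓ l ∈ CohB1.polyGrading n k 1)
    (hE : ∀ l, IsMulBy
      (biproduct.ι (fun _ : Fin a => twist (CohB1.polyGrading n k) (-1)) l ≫ E') (ℓ l)) :
    Function.Surjective (Matrix.toLin' (coeffMat ℓ)) := by
  classical
  by_contra hns
  have hlt : LinearMap.range (Matrix.toLin' (coeffMat ℓ)) < ⊤ :=
    lt_top_iff_ne_top.2 fun h => hns (LinearMap.range_eq_top.1 h)
  obtain ⟨φ, hφ0, hφ⟩ := Submodule.exists_le_ker_of_lt_top _ hlt
  let v : Fin (n + 1) → k := fun i => φ (Pi.single i 1)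
  have hφv : ∀ w : Fin (n + 1) → k, φ w = ∑ i, w i * v i := by
    intro w
    rw [LinearMap.pi_apply_eq_sum_univ φ w]
    refine Finset.sum_congr rfl fun i _ => ?_
    rw [smul_eq_mul]
    congr 2
    ext j
    by_cases h : i = j
    · subst h; simp
    · rw [if_neg h, Pi.single_apply, if_neg (Ne.symm h)]
  have hv : v ≠ 0 := by
    intro hv0
    apply hφ0
    apply LinearMap.ext
    intro w
    rw [hφv w, hv0]
    simp
  have hev : ∀ l, MvPolynomial.aeval v (ℓ l) = 0 := by
    intro l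
    have h1 : φ (Matrix.toLin' (coeffMat ℓ) (Pi.single l 1)) = 0 :=
      hφ (LinearMap.mem_range_self _ _)
    rw [hφv] at h1
    rw [form_eq_coeffMat ℓ hℓ l, map_sum, ← h1]
    refine Finset.sum_congr rfl fun i _ => ?_
    rw [map_mul, MvPolynomial.aeval_X, MvPolynomial.aeval_C, Matrix.toLin'_apply,
      Matrix.mulVec_single_one, mul_comm]
    rfl
  obtain ⟨x, hx⟩ := exists_point_of_vec k n v hv
  obtain ⟨j, hj⟩ := exists_mem_U n k x
  obtain ⟨t, ht⟩ := exists_unit_sec (n := n) (R := k) j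
  obtain ⟨w, hw⟩ := epi_app_affine inferInstance inferInstance E' (isAffineOpen_U j)
    ((mX0 n k j).app (U n k j) t)
  have h2 := congrArg (fun s => secVal s (⟨x, hj⟩ : U n k j)) hw
  simp only at h2
  rw [secVal_mX0] at h2
  have h3 : E' = biproduct.desc fun l =>
      biproduct.ι (fun _ : Fin a => twist (CohB1.polyGrading n k) (-1)) l ≫ E' := by
    apply biproduct.hom_ext'
    intro l
    rw [biproduct.ι_desc]
  rw [h3, biproduct_desc_app, secVal_sum] at h2
  have h4 : (∑ l, secVal ((biproduct.ι (fun _ : Fin a => twist (CohB1.polyGrading n k) (-1)) l ≫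
      E').app (U n k j) ((biproduct.π (fun _ : Fin a => twist (CohB1.polyGrading n k) (-1)) l).app
        (U n k j) w)) (⟨x, hj⟩ : U n k j)) ∈
      IsLocalRing.maximalIdeal (Loc (CohB1.polyGrading n k) x) := by
    refine sum_mem fun l _ => ?_
    rw [hE l _ _ ⟨x, hj⟩]
    exact Ideal.mul_mem_right _ _ (mk_mem_maximalIdeal (hx 1 (ℓ l) (hℓ l) (hev l)) 1)
  rw [h2] at h4
  exact (IsLocalRing.mem_maximalIdeal _).1 h4
    ((isUnit_xi (le_refl _) (⟨x, hj⟩ : U n k j)).mul (ht ⟨x, hj⟩))

/-- **the kernel of an epimorphism `O(-1)^a ⟶ O` on `P^n_k` is `O(-1)^{a-n-1} ⊕ Ω`.** -/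
theorem nonempty_kernel_iso_of_epi {a : ℕ}
    (E' : (⨁ fun _ : Fin a => twist (CohB1.polyGrading n k) (-1)) ⟶
      twist (CohB1.polyGrading n k) 0) [Epi E'] :
    Nonempty (kernel E' ≅
      (⨁ fun _ : Fin (a - (n + 1)) => twist (CohB1.polyGrading n k) (-1)) ⊞
        Omega.sheaf (pS n k)) := by
  classical
  have hex : ∀ l, ∃ f : MvPolynomial (Fin (n+1)) k, f ∈ CohB1.polyGrading n k 1 ∧ IsMulBy
      (biproduct.ι (fun _ : Fin a => twist (CohB1.polyGrading n k) (-1)) l ≫ E') f := fun l =>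
    exists_isMulBy' n k 1 (d := -1) (d' := 0) (by norm_num) _
  choose ℓ hℓ hE using hex
  obtain ⟨B, C, C', h1, h2, h3, h4, h5⟩ :=
    exists_split_matrices (coeffMat ℓ) (toLin_surjective_of_epi E' ℓ hℓ hE)
  haveI hiso : IsIso (biprod.desc (cM C (twist (CohB1.polyGrading n k) (-1))) (cM B (twist (CohB1.polyGrading n k) (-1)))) :=
    isIso_biprod_desc_cM (coeffMat ℓ) B C C' h1 h2 h3 h4 h5 (twist (CohB1.polyGrading n k) (-1))
  -- the two blocks
  have hC0 : cM C (twist (CohB1.polyGrading n k) (-1)) ≫ E' = 0 := by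
    apply biproduct.hom_ext'
    intro r
    rw [comp_zero]
    apply eq_zero_of_isMulBy_zero
    have h6 := isMulBy_ι_cM_comp C E' ℓ hE r
    have h7 : (∑ l, MvPolynomial.C (C l r) * ℓ l) = 0 := by
      have h8 : ∀ l, MvPolynomial.C (C l r) * ℓ l =
          ∑ i, MvPolynomial.X i * MvPolynomial.C (coeffMat ℓ i l * C l r) := by
        intro l
        conv_lhs => rw [form_eq_coeffMat ℓ hℓ l]
        rw [Finset.mul_sum]
        refine Finset.sum_congr rfl fun i _ => ?_
        rw [map_mul]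
        ring
      simp only [h8]
      rw [Finset.sum_comm]
      refine Finset.sum_eq_zero fun i _ => ?_
      rw [← Finset.mul_sum, ← map_sum]
      have h9 : ∑ l, coeffMat ℓ i l * C l r = (coeffMat ℓ * C) i r := (Matrix.mul_apply).symm
      rw [h9, h2, Matrix.zero_apply, map_zero, mul_zero]
    rw [h7] at h6
    exact h6
  have hBE : cM B (twist (CohB1.polyGrading n k) (-1)) ≫ E' = eulerE n k := by
    apply biproduct.hom_ext'
    intro i
    rw [ι_eulerE]
    refine IsMulBy.ext ?_ (isMulBy_mX0 i)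
    have h6 := isMulBy_ι_cM_comp B E' ℓ hE i
    have h7 : (∑ l, MvPolynomial.C (B l i) * ℓ l) = MvPolynomial.X i := by
      have h8 : ∀ l, MvPolynomial.C (B l i) * ℓ l =
          ∑ i', MvPolynomial.X i' * MvPolynomial.C (coeffMat ℓ i' l * B l i) := by
        intro l
        conv_lhs => rw [form_eq_coeffMat ℓ hℓ l]
        rw [Finset.mul_sum]
        refine Finset.sum_congr rfl fun i' _ => ?_
        rw [map_mul]
        ring
      simp only [h8]
      rw [Finset.sum_comm]
      have h10 : ∀ i', ∑ l, MvPolynomial.X i' * MvPolynomial.C (coeffMat ℓ i' l * B l i) =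
          MvPolynomial.X i' * MvPolynomial.C ((1 : Matrix (Fin (n+1)) (Fin (n+1)) k) i' i) := by
        intro i'
        rw [← Finset.mul_sum, ← map_sum]
        have h9 : ∑ l, coeffMat ℓ i' l * B l i = (coeffMat ℓ * B) i' i := (Matrix.mul_apply).symm
        rw [h9, h1]
      simp only [h10]
      rw [Finset.sum_eq_single i]
      · rw [Matrix.one_apply_eq, map_one, mul_one]
      · intro i' _ hne
        rw [Matrix.one_apply_ne hne, map_zero, mul_zero]
      · intro h; exact absurd (Finset.mem_univ i) h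
    rw [h7] at h6
    exact h6
  have hψ : biprod.desc (cM C (twist (CohB1.polyGrading n k) (-1))) (cM B (twist (CohB1.polyGrading n k) (-1))) ≫ E' = biprod.desc 0 (eulerE n k) := by
    apply biprod.hom_ext'
    · rw [biprod.inl_desc_assoc, biprod.inl_desc, hC0]
    · rw [biprod.inr_desc_assoc, biprod.inr_desc, hBE]
  obtain ⟨e1⟩ := nonempty_kernel_biprod_desc_iso
    (A := ⨁ fun _ : Fin (a - (n + 1)) => twist (CohB1.polyGrading n k) (-1)) (eulerE n k)
  have e2 : kernel (biprod.desc (cM C (twist (CohB1.polyGrading n k) (-1))) (cM B (twist (CohB1.polyGrading n k) (-1))) ≫ E') ≅ kernel E' :=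
    kernelIsIsoComp (biprod.desc (cM C (twist (CohB1.polyGrading n k) (-1))) (cM B (twist (CohB1.polyGrading n k) (-1)))) E'
  have e3 : kernel (biprod.desc (cM C (twist (CohB1.polyGrading n k) (-1))) (cM B (twist (CohB1.polyGrading n k) (-1))) ≫ E') ≅
      kernel (biprod.desc (0 : (⨁ fun _ : Fin (a - (n + 1)) => twist (CohB1.polyGrading n k) (-1)) ⟶ _) (eulerE n k)) :=
    kernelIsoOfEq hψ
  exact ⟨e2.symm ≪≫ e3 ≪≫ e1 ≪≫ biprod.mapIso (Iso.refl _) (asIso (eulerLift n k)).symm⟩

end Groth.Agent.H2.Euler
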