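import Groth.Agent.Lib.Helper2.EulerPbC
import Groth.Agent.Lib.Helper2.EulerPbD
import Groth.Agent.Lib.Lead.QC.PullInv
import Groth.Agent.Lib.Lead.QC.UnitIso
import Groth.Agent.Lib.Lead.QC.InvBasis
import Groth.Agent.Lib.Lead.QC.FreeData
import Groth.Agent.Lib.Lead.PN.ExtTwist
import Groth.Agent.Lib.Helper5.Lim.ModuleLocFreeRank

/-! # Pulling back the Euler sequence along a morphism `P^m_k ⟶ P^n_k` with `g^* O(1) ≅ O(1)`. -/

set_option autoImplicit false
set_option linter.style.haveILetI false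
universe u
open CategoryTheory CategoryTheory.Limits AlgebraicGeometry TopologicalSpace Opposite

namespace Groth.Agent.H2.Euler

open Twist Groth.Agent.LD.TW Groth.Agent.LD.PT Groth.Agent.LD.PN Groth.Agent.H3.Om
open Groth.Agent.LD.QC Groth.Agent.LD.Ann Abelian

attribute [local instance] Abelian.hasFiniteBiproducts

/-- uniqueness of tensor inverses of invertible modules. -/
theorem nonempty_iso_of_inverses' {X : Scheme.{u}} {A B B' : X.Modules}
    (hA : PicF.IsInvertible A) (hB : PicF.IsInvertible B) (hB' : PicF.IsInvertible B')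
    (e : CohB1.tensorMod A B ≅ unitMod X) (e' : CohB1.tensorMod A B' ≅ unitMod X) :
    Nonempty (B ≅ B') := by
  haveI := qc_of_isInvertible A hA
  haveI := qc_of_isInvertible B hB
  haveI := qc_of_isInvertible B' hB'
  exact ⟨(unitorL' B).symm ≪≫ tensorIso' (e'.symm ≪≫ tensorCommAll A B') (Iso.refl B) ≪≫
    tensorAssoc B' A B ≪≫ tensorIso' (Iso.refl B') e ≪≫ SecTwist.unitorR B'⟩

section ring
variable {m n : ℕ} {R : Type u} [CommRing R]
  (g : Proj (CohB1.polyGrading m R) ⟶ Proj (CohB1.polyGrading n R))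

/-- if `g^* O(1) ≅ O(1)` then `g^* O(-1) ≅ O(-1)`. -/
theorem nonempty_pullback_twist_neg_one
    (hO : Nonempty ((Scheme.Modules.pullback g).obj (twist (CohB1.polyGrading n R) 1) ≅
      twist (CohB1.polyGrading m R) 1)) :
    Nonempty ((Scheme.Modules.pullback g).obj (twist (CohB1.polyGrading n R) (-1)) ≅
      twist (CohB1.polyGrading m R) (-1)) := by
  obtain ⟨a⟩ := hO
  have hA := isInvertible_pullback g (isInvertible_twist n R 1)
  have hB := isInvertible_pullback g (isInvertible_twist n R (-1))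
  have hB' := isInvertible_twist m R (-1)
  refine nonempty_iso_of_inverses' hA hB hB' ?_ ?_
  · exact (pbTensorIso g _ _ (isInvertible_twist n R 1) (isInvertible_twist n R (-1))).symm ≪≫
      (Scheme.Modules.pullback g).mapIso (twistInvIso n R 1) ≪≫ pullbackUnitIso g
  · exact tensorIso' a (Iso.refl _) ≪≫ twistInvIso m R 1

/-- `g^* O(0) ≅ O(0)`. -/
noncomputable def pullbackTwistZeroIso :
    (Scheme.Modules.pullback g).obj (twist (CohB1.polyGrading n R) 0) ≅
      twist (CohB1.polyGrading m R) 0 :=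
  (Scheme.Modules.pullback g).mapIso (twistZeroIso (CohB1.polyGrading n R)) ≪≫ pullbackUnitIso g ≪≫
    (twistZeroIso (CohB1.polyGrading m R)).symm

end ring

section field
variable {m n : ℕ} {k : Type u} [Field k]
  (g : Proj (CohB1.polyGrading m k) ⟶ Proj (CohB1.polyGrading n k))

/-- **pullback of `Ω_{P^n}` along `g : P^m ⟶ P^n` with `g^* O(1) ≅ O(1)`**:
`g^* Ω_{P^n} ≅ O(-1)^{n-m} ⊕ Ω_{P^m}`. -/
theorem nonempty_pullback_omega_iso (hmn : m ≤ n)
    (hO : Nonempty ((Scheme.Modules.pullback g).obj (twist (CohB1.polyGrading n k) 1) ≅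
      twist (CohB1.polyGrading m k) 1)) :
    Nonempty ((Scheme.Modules.pullback g).obj (Omega.sheaf (pS n k)) ≅
      (⨁ fun _ : Fin (n - m) => twist (CohB1.polyGrading m k) (-1)) ⊞ Omega.sheaf (pS m k)) := by
  obtain ⟨b⟩ := nonempty_pullback_twist_neg_one g hO
  let α : (Scheme.Modules.pullback g).obj (eulerV n k) ≅
      ⨁ fun _ : Fin (n + 1) => twist (CohB1.polyGrading m k) (-1) :=
    (Scheme.Modules.pullback g).mapBiproduct _ ≪≫ biproduct.mapIso (fun _ => b)
  let β := pullbackTwistZeroIso g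
  haveI : Epi (eulerE n k) := (eulerSC_shortExact n k).epi_g
  haveI : Epi ((Scheme.Modules.pullback g).map (eulerE n k)) := inferInstance
  haveI hE' : Epi (α.inv ≫ (Scheme.Modules.pullback g).map (eulerE n k) ≫ β.hom) := inferInstance
  obtain ⟨e1⟩ := nonempty_kernel_iso_of_epi
    (α.inv ≫ (Scheme.Modules.pullback g).map (eulerE n k) ≫ β.hom)
  have e2 : kernel (α.inv ≫ (Scheme.Modules.pullback g).map (eulerE n k) ≫ β.hom) ≅
      kernel ((Scheme.Modules.pullback g).map (eulerE n k)) :=
    kernelIsIsoComp α.inv ((Scheme.Modules.pullback g).map (eulerE n k) ≫ β.hom) ≪≫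
      kernelCompMono ((Scheme.Modules.pullback g).map (eulerE n k)) β.hom
  have hex : ((eulerSC n k).map (Scheme.Modules.pullback g)).Exact :=
    (eulerSC_shortExact n k).exact.map_of_epi_of_preservesCokernel (Scheme.Modules.pullback g)
      (eulerSC_shortExact n k).epi_g inferInstance
  haveI hepi := hex.epi_kernelLift
  have hT : FlatMod.IsFinLocFreeOfRank n
      ((⨁ fun _ : Fin (n + 1 - (m + 1)) => twist (CohB1.polyGrading m k) (-1)) ⊞
        Omega.sheaf (pS m k)) := by
    have h := isFinLocFreeOfRank_biprod_omega m k (n + 1 - (m + 1)) (-1)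
    rwa [show n + 1 - (m + 1) + m = n by omega] at h
  have hS := Groth.Agent.H5.Lim.isFinLocFreeOfRank_pullback g _ (isFinLocFreeOfRank_omega n k)
  haveI h21 : Epi (e2.inv ≫ e1.hom) := inferInstance
  have hp : ∃ p : (Scheme.Modules.pullback g).obj (Omega.sheaf (pS n k)) ⟶
      ((⨁ fun _ : Fin (n + 1 - (m + 1)) => twist (CohB1.polyGrading m k) (-1)) ⊞
        Omega.sheaf (pS m k)), Epi p :=
    ⟨kernel.lift _ _ ((eulerSC n k).map (Scheme.Modules.pullback g)).zero ≫ e2.inv ≫ e1.hom,
      epi_comp' hepi h21⟩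
  obtain ⟨p, hp⟩ := hp
  haveI := isIso_of_epi_of_isFinLocFreeOfRank n hS hT p
  have e := asIso p
  have h : n + 1 - (m + 1) = n - m := by omega
  rw [h] at e
  exact ⟨e⟩

end field

end Groth.Agent.H2.Euler
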