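import Groth.Agent.Lib.Helper2.EulerPbD
import Groth.Agent.Lib.Helper2.EulerTwA
import Groth.Agent.Lib.Helper3.OmIsoCover

/-! # `Ω_{P^1} ≅ O(-2)`. -/

set_option autoImplicit false
set_option linter.style.haveILetI false
universe u
open CategoryTheory CategoryTheory.Limits AlgebraicGeometry TopologicalSpace Opposite

namespace Groth.Agent.H2.Euler

open Twist Groth.Agent.LD.TW Groth.Agent.LD.PT Groth.Agent.LD.PN Groth.Agent.H3.Om
open Groth.Agent.LD.QC Groth.Agent.LD.Ann Abelian

variable {R : Type u} [CommRing R]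

/-- a morphism `O(-2) ⟶ Ω` on `P^1` whose `j'`-th component is `± X_j` is bijective over `U_j`. -/
lemma bijective_app_chart_P1 (ψ : twist (CohB1.polyGrading 1 R) (-2) ⟶ Omega.sheaf (pS 1 R))
    (L : Fin 2 → MvPolynomial (Fin 2) R) (hψ : ∀ l, IsMulBy (ψ ≫ iota 1 R l) (L l))
    (j j' : Fin 2) (hjj' : j ≠ j') (ε : R) (hε : ε * ε = 1)
    (hL : L j' = MvPolynomial.C ε * MvPolynomial.X j) :
    Function.Bijective (ψ.app (U 1 R j)) := by
  have hl : ∀ l : Fin 2, l = j ∨ l = j' := by
    have : ∀ j j' : Fin 2, j ≠ j' → ∀ l : Fin 2, l = j ∨ l = j' := by decide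
    exact this j j' hjj'
  have hmk : ∀ x : U 1 R j, (Localization.mk (L j') 1 : Loc (CohB1.polyGrading 1 R) x.1) =
      Localization.mk (MvPolynomial.C ε) 1 * xi x.1 j := by
    intro x
    rw [hL, xi_eq_mk, mk_one_mul_mk_one]
  have hεu : ∀ x : U 1 R j, IsUnit (Localization.mk (MvPolynomial.C ε) 1 :
      Loc (CohB1.polyGrading 1 R) x.1) := by
    intro x
    refine IsUnit.of_mul_eq_one (Localization.mk (MvPolynomial.C ε) 1) ?_
    rw [← mk_one_mul_mk_one, ← map_mul, hε, map_one]
    exact Localization.mk_one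
  -- a section of `Ω` over `U_j` with vanishing `j'`-th component vanishes
  have hker : ∀ δ : Γ(Omega.sheaf (pS 1 R), U 1 R j),
      (iota 1 R j').app (U 1 R j) δ = 0 → δ = 0 := by
    intro δ hδ
    apply iota_injective_chart j δ
    intro l
    rcases hl l with rfl | rfl
    · apply secVal_ext
      intro x
      have h3 := euler_relation (U 1 R l) δ x
      rw [Finset.sum_eq_single l] at h3
      · exact (isUnit_xi (le_refl _) x).mul_right_eq_zero.1 h3
      · intro b _ hb
        rcases hl b with rfl | rfl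
        · exact absurd rfl hb
        · rw [hδ]
          exact mul_zero _
      · intro h; exact absurd (Finset.mem_univ l) h
    · exact hδ
  have hval : ∀ (s : Γ(twist (CohB1.polyGrading 1 R) (-2), U 1 R j)) (x : U 1 R j),
      secVal ((iota 1 R j').app (U 1 R j) (ψ.app (U 1 R j) s)) x =
        Localization.mk (MvPolynomial.C ε) 1 * (xi x.1 j * secVal s x) := by
    intro s x
    have h1 := hψ j' (U 1 R j) s x
    rw [comp_app'] at h1
    rw [h1, hmk, mul_assoc]
  constructor
  · intro s s' hss
    have h0 : ψ.app (U 1 R j) (s - s') = 0 := by rw [map_sub, hss, sub_self]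
    have h1 : s - s' = 0 := by
      apply secVal_ext
      intro x
      have h2 := hval (s - s') x
      rw [h0, map_zero, secVal_zero] at h2
      have h3 := (hεu x).mul_right_eq_zero.1 h2.symm
      exact (isUnit_xi (le_refl _) x).mul_right_eq_zero.1 h3
    exact sub_eq_zero.1 h1
  · intro ω
    obtain ⟨s, hs⟩ := (mulX_app_bijective (⟨MvPolynomial.X j, X_mem j⟩ : CohB1.polyGrading 1 R 1)
      (-2) (U 1 R j) (le_refl _)).2 ((iota 1 R j').app (U 1 R j) ω)
    have h6 : ∀ x : U 1 R j, secVal ((iota 1 R j').app (U 1 R j) ω) x = xi x.1 j * secVal s x := by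
      intro x
      rw [← secVal_mX]
      exact congrArg (fun t => secVal t x) hs.symm
    refine ⟨constFn (U 1 R j) ε • s, ?_⟩
    rw [← sub_eq_zero]
    apply hker
    rw [map_sub, sub_eq_zero]
    apply secVal_ext
    intro x
    rw [hval, secVal_smul, oval_constFn, h6]
    have h7 : (Localization.mk (MvPolynomial.C ε) 1 : Loc (CohB1.polyGrading 1 R) x.1) *
        Localization.mk (MvPolynomial.C ε) 1 = 1 := by
      rw [← mk_one_mul_mk_one, ← map_mul, hε, map_one]
      exact Localization.mk_one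
    calc Localization.mk (MvPolynomial.C ε) 1 *
          (xi x.1 j * (Localization.mk (MvPolynomial.C ε) 1 * secVal s x))
        = (Localization.mk (MvPolynomial.C ε) 1 * Localization.mk (MvPolynomial.C ε) 1) *
          (xi x.1 j * secVal s x) := by ring
      _ = xi x.1 j * secVal s x := by rw [h7, one_mul]

/-- **`Ω_{P^1} ≅ O(-2)`.** -/
theorem nonempty_twist_iso_omega_P1 (R : Type u) [CommRing R] :
    Nonempty (twist (CohB1.polyGrading 1 R) (-2) ≅ Omega.sheaf (pS 1 R)) := by
  let L : Fin 2 → MvPolynomial (Fin 2) R := ![MvPolynomial.X 1, - MvPolynomial.X 0]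
  have hL : ∀ l, L l ∈ CohB1.polyGrading 1 R 1 := by
    intro l
    fin_cases l
    · exact X_mem 1
    · exact neg_mem (X_mem 0)
  have hrel : ∑ l, MvPolynomial.X l * L l = 0 := by
    rw [Fin.sum_univ_two]
    simp only [L, Matrix.cons_val_zero, Matrix.cons_val_one]
    ring
  obtain ⟨ψ, hψ⟩ := exists_hom_of_forms (n := 1) (R := R) (-2) 1 (by norm_num) L hL hrel
  haveI : IsIso ψ := by
    apply Groth.Agent.H3.Om.isIso_of_bijective_affine_cover
    intro x
    obtain ⟨j, hj⟩ := exists_mem_U 1 R x
    refine ⟨U 1 R j, isAffineOpen_U j, hj, ?_⟩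
    fin_cases j
    · refine bijective_app_chart_P1 ψ L hψ 0 1 (by decide) (-1) (by ring) ?_
      change - MvPolynomial.X 0 = MvPolynomial.C (-1) * MvPolynomial.X 0
      rw [map_neg, map_one]
      ring
    · refine bijective_app_chart_P1 ψ L hψ 1 0 (by decide) 1 (by ring) ?_
      change MvPolynomial.X 1 = MvPolynomial.C 1 * MvPolynomial.X 1
      rw [map_one, one_mul]
  exact ⟨asIso ψ⟩

end Groth.Agent.H2.Euler
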