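import Groth.Agent.Lib.Helper2.EulerDerC
import Groth.Agent.Lib.Lead.PN.Main
import Groth.Agent.Lib.Helper3.OmU2
import Mathlib.RingTheory.MvPolynomial.EulerIdentity

/-! # The partial derivatives on projective space, and generation of the functions on a standard
chart by the affine coordinates. -/

set_option autoImplicit false
universe u
open CategoryTheory AlgebraicGeometry TopologicalSpace Opposite

namespace Groth.Agent.H2.Euler

open Twist Groth.Agent.LD.TW Groth.Agent.LD.PT Groth.Agent.LD.PN Groth.Agent.H3.Om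

section general

/-- elements whose differential lies in a given submodule form a subring. -/
def derSubring {B N : Type*} [CommRing B] [AddCommGroup N] [Module B N] (d : B →+ N)
    (hd : ∀ a b, d (a * b) = a • d b + b • d a) (S : Submodule B N) : Subring B where
  carrier := {b | d b ∈ S}
  mul_mem' {a b} ha hb := by
    change d (a * b) ∈ S
    rw [hd]
    exact S.add_mem (S.smul_mem _ hb) (S.smul_mem _ ha)
  one_mem' := by
    change d 1 ∈ S
    have h := hd 1 1
    rw [mul_one, one_smul] at h
    have h2 : d 1 + 0 = d 1 + d 1 := by rw [add_zero]; exact h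
    rw [← add_left_cancel h2]
    exact S.zero_mem
  add_mem' {a b} ha hb := by
    change d (a + b) ∈ S
    rw [map_add]
    exact S.add_mem ha hb
  zero_mem' := by
    change d 0 ∈ S
    rw [map_zero]
    exact S.zero_mem
  neg_mem' {a} ha := by
    change d (-a) ∈ S
    rw [map_neg]
    exact S.neg_mem ha

lemma mem_derSubring {B N : Type*} [CommRing B] [AddCommGroup N] [Module B N] (d : B →+ N)
    (hd : ∀ a b, d (a * b) = a • d b + b • d a) (S : Submodule B N) (b : B) :
    b ∈ derSubring d hd S ↔ d b ∈ S := Iff.rfl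

variable {A σ : Type u} [CommRing A] [SetLike σ A] [AddSubgroupClass σ A] {𝒜 : ℕ → σ}
  [GradedRing 𝒜]

lemma good_prod {V : (Proj 𝒜).Opens} {ι : Type*} (S : Finset ι) (a b : ι → A)
    (h : ∀ l ∈ S, Good 𝒜 V (a l) (b l)) : Good 𝒜 V (∏ l ∈ S, a l) (∏ l ∈ S, b l) := by
  classical
  induction S using Finset.induction_on with
  | empty =>
    simp only [Finset.prod_empty]
    refine ⟨⟨0, SetLike.GradedOne.one_mem, SetLike.GradedOne.one_mem⟩, ?_⟩
    rw [Proj.basicOpen_one]
    exact le_top
  | insert l S hl ih =>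
    rw [Finset.prod_insert hl, Finset.prod_insert hl]
    exact (h l (Finset.mem_insert_self l S)).mul
      (ih fun l' hl' => h l' (Finset.mem_insert_of_mem hl'))

lemma fr_prod {V : (Proj 𝒜).Opens} {ι : Type*} (S : Finset ι) (a b : ι → A)
    (h : ∀ l ∈ S, Good 𝒜 V (a l) (b l)) :
    fr 𝒜 V (∏ l ∈ S, a l) (∏ l ∈ S, b l) = ∏ l ∈ S, fr 𝒜 V (a l) (b l) := by
  classical
  induction S using Finset.induction_on with
  | empty =>
    simp only [Finset.prod_empty]
    exact fr_self (good_prod ∅ a b (by simp))
  | insert l S hl ih =>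
    rw [Finset.prod_insert hl, Finset.prod_insert hl, Finset.prod_insert hl,
      ← fr_mul (h l (Finset.mem_insert_self l S))
        (good_prod S a b fun l' hl' => h l' (Finset.mem_insert_of_mem hl')),
      ih fun l' hl' => h l' (Finset.mem_insert_of_mem hl')]

end general

variable (n : ℕ) (R : Type u) [CommRing R]

lemma isLowering_pderiv (j : Fin (n + 1)) :
    IsLowering (CohB1.polyGrading n R) (MvPolynomial.pderiv j) where
  mem i a ha := by
    have h := ((MvPolynomial.mem_homogeneousSubmodule _ _).1 ha).pderiv (i := j)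
    exact (MvPolynomial.mem_homogeneousSubmodule _ _).2 (by simpa using h)
  zero a ha := by
    have h1 : a.IsHomogeneous 0 := (MvPolynomial.mem_homogeneousSubmodule _ _).1 ha
    have h2 : a.totalDegree = 0 := Nat.le_zero.1 h1.totalDegree_le
    rw [MvPolynomial.totalDegree_eq_zero_iff_eq_C] at h2
    rw [h2, MvPolynomial.pderiv_C]

lemma hasPosCover : HasPosCover (CohB1.polyGrading n R) := by
  intro x
  obtain ⟨f, ⟨i, rfl⟩, hx⟩ := exists_mem_basicOpen_of_span (irrelevant_eq_span n R) x
  exact ⟨MvPolynomial.X i, 1, X_mem i, Nat.one_pos, hx⟩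

instance instIsSeparatedToSpec : IsSeparated (CohB1.ProjSpace.toSpec n R) :=
  inferInstanceAs (IsSeparated (toSpecR (CohB1.polyGrading n R)))

instance instQuasiSeparatedToSpec : QuasiSeparated (CohB1.ProjSpace.toSpec n R) := inferInstance

/-- the structure morphism of projective space, with source syntactically `Proj`. -/
noncomputable abbrev pS : Proj (CohB1.polyGrading n R) ⟶ Spec (CommRingCat.of R) :=
  toSpecR (CohB1.polyGrading n R)

lemma pS_eq : pS n R = CohB1.ProjSpace.toSpec n R := rfl

/-- the `j`-th component `Ω → O(-1)` of the Euler map. -/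
noncomputable def iota (j : Fin (n + 1)) :
    Omega.sheaf (pS n R) ⟶ twist (CohB1.polyGrading n R) (-1) :=
  eulerHom (isLowering_pderiv n R j) (hasPosCover n R)

/-- the standard chart. -/
noncomputable def U (i : Fin (n + 1)) : (Proj (CohB1.polyGrading n R)).Opens :=
  Proj.basicOpen (CohB1.polyGrading n R) (MvPolynomial.X i)

variable {n R}

lemma isAffineOpen_U (i : Fin (n + 1)) : IsAffineOpen (U n R i) :=
  Proj.isAffineOpen_basicOpen _ _ (X_mem i) Nat.one_pos

lemma X_notMem {i : Fin (n + 1)} {V : (Proj (CohB1.polyGrading n R)).Opens} (hV : V ≤ U n R i)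
    (x : V) : (MvPolynomial.X i : MvPolynomial (Fin (n+1)) R) ∈
      x.1.asHomogeneousIdeal.toIdeal.primeCompl :=
  (Proj.mem_basicOpen _ _ x.1).mp (hV x.2)

lemma good_XX (i l : Fin (n + 1)) {V : (Proj (CohB1.polyGrading n R)).Opens} (hV : V ≤ U n R i) :
    Good (CohB1.polyGrading n R) V (MvPolynomial.X l) (MvPolynomial.X i) :=
  good_of (X_mem l) (X_mem i) hV

variable (n R) in
/-- the affine coordinate `X_l / X_i` on the chart `U i`. -/
noncomputable def y (i l : Fin (n + 1)) : Γ(Proj (CohB1.polyGrading n R), U n R i) :=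
  fr (CohB1.polyGrading n R) (U n R i) (MvPolynomial.X l) (MvPolynomial.X i)

lemma iota_dSect (j : Fin (n + 1)) (V : (Proj (CohB1.polyGrading n R)).Opens)
    (s : Γ(Proj (CohB1.polyGrading n R), V)) (x : V) :
    secVal ((iota n R j).app V (OmegaSh.dSect (pS n R) V s)) x =
      dl (MvPolynomial.pderiv j) x.1 (oval (CohB1.polyGrading n R) s x) := by
  have h := eulerHom_dSect (isLowering_pderiv n R j) (hasPosCover n R) V s
  have h' : (iota n R j).app V (OmegaSh.dSect (pS n R) V s) =
      dHom (CohB1.polyGrading n R) (isLowering_pderiv n R j) V s := h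
  rw [h']
  rfl

/-- the constant function `c` on `V`. -/
noncomputable def constFn (V : (Proj (CohB1.polyGrading n R)).Opens) (c : R) :
    Γ(Proj (CohB1.polyGrading n R), V) :=
  (Proj (CohB1.polyGrading n R)).presheaf.map (homOfLE (le_top : V ≤ ⊤)).op
    ((pS n R).app ⊤ ((Scheme.ΓSpecIso (CommRingCat.of R)).inv c))

lemma oval_constFn (V : (Proj (CohB1.polyGrading n R)).Opens) (c : R) (x : V) :
    oval (CohB1.polyGrading n R) (constFn V c) x = Localization.mk (MvPolynomial.C c) 1 := by
  unfold constFn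
  rw [oval_res]
  exact oval_toSpecR (hasPosCover n R) c ⟨x.1, trivial⟩

lemma good_C (V : (Proj (CohB1.polyGrading n R)).Opens) (c : R) :
    Good (CohB1.polyGrading n R) V (MvPolynomial.C c) 1 := by
  refine ⟨⟨0, ?_, SetLike.GradedOne.one_mem⟩, ?_⟩
  · exact (MvPolynomial.mem_homogeneousSubmodule _ _).2 (MvPolynomial.isHomogeneous_C _ c)
  · rw [Proj.basicOpen_one]
    exact le_top

lemma constFn_eq_fr (V : (Proj (CohB1.polyGrading n R)).Opens) (c : R) :
    constFn V c = fr (CohB1.polyGrading n R) V (MvPolynomial.C c) 1 :=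
  eq_fr_of_oval _ (good_C V c) fun x => oval_constFn V c x

lemma dSect_constFn (V : (Proj (CohB1.polyGrading n R)).Opens) (c : R) :
    (OmegaSh.dOmega (pS n R)).app V (constFn V c) = 0 := by
  unfold constFn
  rw [Der.app_map]
  have h := Der.app_comp (OmegaSh.dOmega (pS n R)) ⊤
    ((Scheme.ΓSpecIso (CommRingCat.of R)).inv c)
  erw [h]
  exact map_zero _

/-- every function on `D₊(X_i)` is `a / X_i ^ k` with `a` homogeneous of degree `k`. -/
lemma exists_eq_fr (i : Fin (n + 1)) (b : Γ(Proj (CohB1.polyGrading n R), U n R i)) :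
    ∃ (k : ℕ) (a : MvPolynomial (Fin (n+1)) R), a ∈ CohB1.polyGrading n R k ∧
      b = fr (CohB1.polyGrading n R) (U n R i) a (MvPolynomial.X i ^ k) := by
  have hgm : (MvPolynomial.X i : MvPolynomial (Fin (n+1)) R) ∈ CohB1.polyGrading n R 1 := X_mem i
  obtain ⟨z, hz⟩ := (awayToSection_bijective hgm Nat.one_pos).2 b
  obtain ⟨k, a, ha, rfl⟩ := HomogeneousLocalization.Away.mk_surjective (CohB1.polyGrading n R) hgm z
  have ha' : a ∈ CohB1.polyGrading n R k := by simpa using ha
  have hgood : Good (CohB1.polyGrading n R) (U n R i) a (MvPolynomial.X i ^ k) :=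
    good_of ha' (pow_mem_one hgm k) (le_basicOpen_pow' (le_refl _) k)
  refine ⟨k, a, ha', eq_fr_of_oval _ hgood fun x => ?_⟩
  rw [← hz]
  refine (awayToSection_val (MvPolynomial.X i) _ x).trans ?_
  rw [HomogeneousLocalization.Away.val_mk]
  exact toLoc_mk (MvPolynomial.X i) x.1 x.2 a k _

end Groth.Agent.H2.Euler
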