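import Groth.Agent.Lib.Helper2.EulerPnA

/-! # On a standard chart of projective space, the differentials are spanned by the differentials
of the affine coordinates. -/

set_option autoImplicit false
universe u
open CategoryTheory AlgebraicGeometry TopologicalSpace Opposite

namespace Groth.Agent.H2.Euler

open Twist Groth.Agent.LD.TW Groth.Agent.LD.PT Groth.Agent.LD.PN Groth.Agent.H3.Om

variable {n : ℕ} {R : Type u} [CommRing R]

variable (n R) in
/-- the differential of the affine coordinate `X_l / X_i`. -/
noncomputable def dy (i l : Fin (n + 1)) : Γ(Omega.sheaf (pS n R), U n R i) :=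
  (OmegaSh.dOmega (pS n R)).app (U n R i) (y n R i l)

variable (n R) in
/-- the span of the differentials of the affine coordinates. -/
noncomputable def dySpan (i : Fin (n + 1)) :
    Submodule Γ(Proj (CohB1.polyGrading n R), U n R i) Γ(Omega.sheaf (pS n R), U n R i) :=
  Submodule.span _ (Set.range (dy n R i))

variable (n R) in
/-- the functions whose differential is in `dySpan`. -/
noncomputable def T (i : Fin (n + 1)) : Subring Γ(Proj (CohB1.polyGrading n R), U n R i) :=
  derSubring ((OmegaSh.dOmega (pS n R)).app (U n R i))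
    (fun a b => Der.app_mul (OmegaSh.dOmega (pS n R)) (U n R i) a b) (dySpan n R i)

lemma mem_T (i : Fin (n + 1)) (b : Γ(Proj (CohB1.polyGrading n R), U n R i)) :
    b ∈ T n R i ↔ (OmegaSh.dOmega (pS n R)).app (U n R i) b ∈ dySpan n R i := Iff.rfl

lemma y_mem_T (i l : Fin (n + 1)) : y n R i l ∈ T n R i :=
  (mem_T i _).2 (Submodule.subset_span ⟨l, rfl⟩)

lemma constFn_mem_T (i : Fin (n + 1)) (c : R) : constFn (U n R i) c ∈ T n R i := by
  rw [mem_T, dSect_constFn]
  exact Submodule.zero_mem _

lemma fr_monomial_mem_T (i : Fin (n + 1)) (u : Fin (n + 1) →₀ ℕ) (c : R) :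
    fr (CohB1.polyGrading n R) (U n R i) (MvPolynomial.monomial u c)
      (MvPolynomial.X i ^ Finsupp.degree u) ∈ T n R i := by
  have h1 : (MvPolynomial.monomial u c : MvPolynomial (Fin (n+1)) R) =
      MvPolynomial.C c * ∏ l ∈ u.support, MvPolynomial.X l ^ u l := by
    rw [MvPolynomial.monomial_eq]
    rfl
  have h2 : (MvPolynomial.X i : MvPolynomial (Fin (n+1)) R) ^ Finsupp.degree u =
      1 * ∏ l ∈ u.support, MvPolynomial.X i ^ u l := by
    rw [one_mul, Finset.prod_pow_eq_pow_sum]
    rfl
  have hg : ∀ l ∈ u.support, Good (CohB1.polyGrading n R) (U n R i)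
      ((MvPolynomial.X l : MvPolynomial (Fin (n+1)) R) ^ u l) (MvPolynomial.X i ^ u l) :=
    fun l _ => (good_XX i l (le_refl _)).pow _
  rw [h1, h2, ← fr_mul (good_C _ c) (good_prod _ _ _ hg), fr_prod _ _ _ hg, ← constFn_eq_fr]
  refine mul_mem (constFn_mem_T i c) (prod_mem fun l _ => ?_)
  rw [← fr_pow (good_XX i l (le_refl _))]
  exact pow_mem (y_mem_T i l) _

lemma good_of_mem (i : Fin (n + 1)) {k : ℕ} {a : MvPolynomial (Fin (n+1)) R}
    (ha : a ∈ CohB1.polyGrading n R k) :
    Good (CohB1.polyGrading n R) (U n R i) a (MvPolynomial.X i ^ k) :=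
  good_of ha (pow_mem_one (X_mem i) k) (le_basicOpen_pow' (le_refl _) k)

lemma fr_hc_mem_T (i : Fin (n + 1)) (p : MvPolynomial (Fin (n+1)) R) (k : ℕ) :
    fr (CohB1.polyGrading n R) (U n R i) (MvPolynomial.homogeneousComponent k p)
      (MvPolynomial.X i ^ k) ∈ T n R i := by
  induction p using MvPolynomial.induction_on' with
  | monomial u c =>
    rw [MvPolynomial.homogeneousComponent_of_mem
      ((MvPolynomial.mem_homogeneousSubmodule _ _).2 (MvPolynomial.isHomogeneous_monomial c rfl))]
    split_ifs with h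
    · rw [h]
      exact fr_monomial_mem_T i u c
    · rw [fr_zero (good_of_mem i (zero_mem _))]
      exact zero_mem _
  | add p q hp hq =>
    rw [map_add, ← fr_add
      (good_of_mem i ((MvPolynomial.mem_homogeneousSubmodule _ _).2
        (MvPolynomial.homogeneousComponent_isHomogeneous k p)))
      (good_of_mem i ((MvPolynomial.mem_homogeneousSubmodule _ _).2
        (MvPolynomial.homogeneousComponent_isHomogeneous k q)))
      (good_of_mem i (add_mem ((MvPolynomial.mem_homogeneousSubmodule _ _).2
        (MvPolynomial.homogeneousComponent_isHomogeneous k p))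
        ((MvPolynomial.mem_homogeneousSubmodule _ _).2
        (MvPolynomial.homogeneousComponent_isHomogeneous k q))))]
    exact add_mem hp hq

lemma T_eq_top (i : Fin (n + 1)) : T n R i = ⊤ := by
  rw [eq_top_iff]
  intro b _
  obtain ⟨k, a, ha, rfl⟩ := exists_eq_fr i b
  have h := fr_hc_mem_T i a k
  rwa [MvPolynomial.homogeneousComponent_eq_self
    ((MvPolynomial.mem_homogeneousSubmodule _ _).1 ha)] at h

/-- **on the chart `U i` the differentials are spanned by `d(X_l / X_i)`.** -/
theorem dySpan_eq_top (i : Fin (n + 1)) : dySpan n R i = ⊤ := by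
  have h := span_range_dSect (f := pS n R) (isAffineOpen_U (n := n) (R := R) i)
    (isAffineOpen_top (Spec (CommRingCat.of R))) le_top
  rw [eq_top_iff, ← h, Submodule.span_le]
  rintro _ ⟨b, rfl⟩
  have hb : b ∈ T n R i := by rw [T_eq_top]; trivial
  exact (mem_T i b).1 hb

/-- every differential on the chart is a combination of the `d(X_l / X_i)`. -/
theorem exists_eq_sum_dy (i : Fin (n + 1)) (ω : Γ(Omega.sheaf (pS n R), U n R i)) :
    ∃ c : Fin (n + 1) → Γ(Proj (CohB1.polyGrading n R), U n R i), ω = ∑ l, c l • dy n R i l := by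
  have h : ω ∈ dySpan n R i := by rw [dySpan_eq_top]; trivial
  obtain ⟨c, hc⟩ := (Submodule.mem_span_range_iff_exists_fun _).1 h
  exact ⟨c, hc.symm⟩

end Groth.Agent.H2.Euler
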