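import Groth.Agent.Lib.Helper2.EulerPnB

/-! # The Euler sequence on a standard chart. -/

set_option autoImplicit false
universe u
open CategoryTheory AlgebraicGeometry TopologicalSpace Opposite

namespace Groth.Agent.H2.Euler

open Twist Groth.Agent.LD.TW Groth.Agent.LD.PT Groth.Agent.LD.PN Groth.Agent.H3.Om

variable {n : ℕ} {R : Type u} [CommRing R]

/-- the image of a variable in the localization at a point. -/
noncomputable def xi (x : ProjectiveSpectrum (CohB1.polyGrading n R)) (l : Fin (n + 1)) :
    Loc (CohB1.polyGrading n R) x :=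
  algebraMap (MvPolynomial (Fin (n+1)) R) _ (MvPolynomial.X l)

lemma mk_mul_algebraMap {x : ProjectiveSpectrum (CohB1.polyGrading n R)}
    (a : MvPolynomial (Fin (n+1)) R) (s : x.asHomogeneousIdeal.toIdeal.primeCompl) :
    (Localization.mk a s : Loc (CohB1.polyGrading n R) x) *
      algebraMap (MvPolynomial (Fin (n+1)) R) _ (s : MvPolynomial (Fin (n+1)) R) =
      algebraMap (MvPolynomial (Fin (n+1)) R) _ a := by
  rw [Localization.mk_eq_mk', IsLocalization.mk'_spec]

lemma isUnit_xi {i : Fin (n + 1)} {V : (Proj (CohB1.polyGrading n R)).Opens} (hV : V ≤ U n R i)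
    (x : V) : IsUnit (xi x.1 i) :=
  IsLocalization.map_units (M := x.1.asHomogeneousIdeal.toIdeal.primeCompl) _
    (⟨MvPolynomial.X i, X_notMem hV x⟩ : x.1.asHomogeneousIdeal.toIdeal.primeCompl)

/-- the value of `ι_j (d (X_l / X_i))`, cleared of denominators. -/
lemma iota_dy_val (i j l : Fin (n + 1)) (x : U n R i) :
    secVal ((iota n R j).app (U n R i) (dy n R i l)) x * (xi x.1 i * xi x.1 i) =
      xi x.1 i * (if l = j then 1 else 0) - xi x.1 l * (if i = j then 1 else 0) := by
  classical
  have h1 : secVal ((iota n R j).app (U n R i) (dy n R i l)) x =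
      dl (MvPolynomial.pderiv j) x.1 (oval (CohB1.polyGrading n R) (y n R i l) x) :=
    iota_dSect j (U n R i) (y n R i l) x
  rw [h1]
  unfold y
  rw [oval_fr (good_XX i l (le_refl _)), dl_mk]
  have h2 := mk_mul_algebraMap (x := x.1)
    ((MvPolynomial.X i : MvPolynomial (Fin (n+1)) R) * MvPolynomial.pderiv j (MvPolynomial.X l) -
      MvPolynomial.X l * MvPolynomial.pderiv j (MvPolynomial.X i))
    ((⟨MvPolynomial.X i, X_notMem (le_refl _) x⟩ : x.1.asHomogeneousIdeal.toIdeal.primeCompl) *
      ⟨MvPolynomial.X i, X_notMem (le_refl _) x⟩)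
  simp only [Submonoid.coe_mul, map_mul, map_sub] at h2
  unfold xi
  refine h2.trans ?_
  rw [MvPolynomial.pderiv_X, MvPolynomial.pderiv_X]
  simp only [Pi.single_apply]
  congr 2
  · split_ifs <;> simp
  · split_ifs <;> simp

/-- evaluation of sections at a point, additive. -/
noncomputable def secValHom {k : ℤ} {W : (Proj (CohB1.polyGrading n R)).Opens} (x : W) :
    Γ(twist (CohB1.polyGrading n R) k, W) →+ Loc (CohB1.polyGrading n R) x.1 where
  toFun s := secVal s x
  map_zero' := rfl
  map_add' _ _ := rfl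

lemma secVal_sum {k : ℤ} {W : (Proj (CohB1.polyGrading n R)).Opens} (x : W) {ι : Type*}
    (S : Finset ι) (s : ι → Γ(twist (CohB1.polyGrading n R) k, W)) :
    secVal (∑ l ∈ S, s l) x = ∑ l ∈ S, secVal (s l) x :=
  map_sum (secValHom x) s S

/-- the value of `ι_j` on a combination of the `d (X_l / X_i)`, cleared of denominators. -/
lemma iota_sum_val (i j : Fin (n + 1))
    (c : Fin (n + 1) → Γ(Proj (CohB1.polyGrading n R), U n R i)) (x : U n R i) :
    secVal ((iota n R j).app (U n R i) (∑ l, c l • dy n R i l)) x * (xi x.1 i * xi x.1 i) =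
      oval (CohB1.polyGrading n R) (c j) x * xi x.1 i -
        (if i = j then 1 else 0) * ∑ l, oval (CohB1.polyGrading n R) (c l) x * xi x.1 l := by
  classical
  rw [map_sum, secVal_sum, Finset.sum_mul]
  have h1 : ∀ l : Fin (n + 1),
      secVal ((iota n R j).app (U n R i) (c l • dy n R i l)) x * (xi x.1 i * xi x.1 i) =
        oval (CohB1.polyGrading n R) (c l) x *
          (xi x.1 i * (if l = j then 1 else 0) - xi x.1 l * (if i = j then 1 else 0)) := by
    intro l
    rw [Scheme.Modules.Hom.app_smul, secVal_smul, mul_assoc, iota_dy_val]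
  simp only [h1]
  simp only [mul_sub, Finset.sum_sub_distrib]
  congr 1
  · simp only [mul_ite, mul_one, mul_zero]
    rw [Finset.sum_ite_eq' Finset.univ j]
    simp
  · rw [Finset.mul_sum]
    refine Finset.sum_congr rfl fun l _ => ?_
    ring

/-- **injectivity** of the Euler map on the chart. -/
theorem iota_injective_chart (i : Fin (n + 1)) (ω : Γ(Omega.sheaf (pS n R), U n R i))
    (h : ∀ j, (iota n R j).app (U n R i) ω = 0) : ω = 0 := by
  classical
  obtain ⟨c, rfl⟩ := exists_eq_sum_dy i ω
  have hc : ∀ j, j ≠ i → c j = 0 := by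
    intro j hj
    apply sec_ext
    intro x
    rw [oval_zero]
    have h1 := iota_sum_val i j c x
    rw [h j, if_neg (Ne.symm hj), zero_mul, sub_zero] at h1
    have h2 : (0 : Loc (CohB1.polyGrading n R) x.1) =
        oval (CohB1.polyGrading n R) (c j) x * xi x.1 i := by
      rw [← h1]
      exact (zero_mul _).symm
    exact ((isUnit_xi (le_refl _) x).mul_left_eq_zero.1 h2.symm)
  have hyi : dy n R i i = 0 := by
    unfold dy y
    rw [fr_self (good_XX i i (le_refl _))]
    have h := Der.app_mul (OmegaSh.dOmega (pS n R)) (U n R i) 1 1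
    rw [mul_one, one_smul] at h
    have h2 : (OmegaSh.dOmega (pS n R)).app (U n R i) 1 + 0 =
        (OmegaSh.dOmega (pS n R)).app (U n R i) 1 + (OmegaSh.dOmega (pS n R)).app (U n R i) 1 := by
      rw [add_zero]; exact h
    exact (add_left_cancel h2).symm
  apply Finset.sum_eq_zero
  intro l _
  by_cases hl : l = i
  · rw [hl, hyi, smul_zero]
  · rw [hc l hl, zero_smul]

end Groth.Agent.H2.Euler
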