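import Groth.Agent.Lib.Helper2.EulerPnC
import Groth.Agent.Lib.Lead.TW.MulX

/-! # The Euler sequence on a standard chart: surjectivity onto the kernel. -/

set_option autoImplicit false
universe u
open CategoryTheory AlgebraicGeometry TopologicalSpace Opposite

namespace Groth.Agent.H2.Euler

open Twist Groth.Agent.LD.TW Groth.Agent.LD.PT Groth.Agent.LD.PN Groth.Agent.H3.Om

variable {n : ℕ} {R : Type u} [CommRing R]

variable (n R) in
/-- multiplication by the variable `X_l`. -/
noncomputable def mX (l : Fin (n + 1)) (d : ℤ) :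
    twist (CohB1.polyGrading n R) d ⟶ twist (CohB1.polyGrading n R) (d + 1) :=
  mulX ⟨MvPolynomial.X l, X_mem l⟩ d

lemma secVal_mX (l : Fin (n + 1)) (d : ℤ) (W : (Proj (CohB1.polyGrading n R)).Opens)
    (s : Γ(twist (CohB1.polyGrading n R) d, W)) (x : W) :
    secVal ((mX n R l d).app W s) x = xi x.1 l * secVal s x := by
  unfold mX
  refine (mulX_app_val _ d W s x).trans ?_
  rw [globalOf_val]
  rfl

/-- a section of `O(-1)` over an open of the chart `U i`, multiplied by `X_i`, is a function. -/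
lemma exists_fn_eq_mul (i : Fin (n + 1)) {V : (Proj (CohB1.polyGrading n R)).Opens}
    (κ : Γ(twist (CohB1.polyGrading n R) (-1), V)) :
    ∃ c : Γ(Proj (CohB1.polyGrading n R), V), ∀ x : V,
      oval (CohB1.polyGrading n R) c x = xi x.1 i * secVal κ x := by
  let s : sectN (𝒜 := CohB1.polyGrading n R) 0 (op V) := (mX n R i (-1)).app V κ
  obtain ⟨c, hc⟩ := ofO_surjective (op V) s
  refine ⟨c, fun x => ?_⟩
  have h1 := congrArg (fun w : sectN (𝒜 := CohB1.polyGrading n R) 0 (op V) =>
    ((w.1 x).1 : Loc (CohB1.polyGrading n R) x.1)) hc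
  simp only [ofO_val] at h1
  exact h1.trans (secVal_mX i (-1) V κ x)

/-- **surjectivity** of the Euler map on the chart onto the kernel of `(X_0, …, X_n)`. -/
theorem iota_surjective_chart (i : Fin (n + 1))
    (κ : Fin (n + 1) → Γ(twist (CohB1.polyGrading n R) (-1), U n R i))
    (h : ∀ x : U n R i, ∑ l, xi x.1 l * secVal (κ l) x = 0) :
    ∃ ω : Γ(Omega.sheaf (pS n R), U n R i), ∀ j, (iota n R j).app (U n R i) ω = κ j := by
  classical
  choose c hc using fun l => exists_fn_eq_mul i (κ l)
  refine ⟨∑ l, c l • dy n R i l, fun j => ?_⟩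
  apply secVal_ext
  intro x
  have hu : IsUnit (xi x.1 i * xi x.1 i) := (isUnit_xi (le_refl _) x).mul (isUnit_xi (le_refl _) x)
  apply hu.mul_left_injective
  change secVal _ x * (xi x.1 i * xi x.1 i) = secVal (κ j) x * (xi x.1 i * xi x.1 i)
  rw [iota_sum_val]
  simp only [hc]
  have h2 : ∑ l, xi x.1 i * secVal (κ l) x * xi x.1 l = xi x.1 i * ∑ l, xi x.1 l * secVal (κ l) x := by
    rw [Finset.mul_sum]
    refine Finset.sum_congr rfl fun l _ => ?_
    ring
  rw [h2, h x]
  ring

end Groth.Agent.H2.Euler
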