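import Groth.Agent.Lib.Helper2.EulerPnD
import Groth.Agent.Lib.Helper3.OmIsoCover
import Groth.Agent.Lib.Helper3.OmQC
import Groth.Agent.Lib.Helper3.OmBasis
import Groth.Agent.Lib.Lead.QC.SigmaFin
import Groth.Agent.Lib.Lead.QC.Closure
import Groth.Agent.Lib.Lead.QC.BiprodSec

/-! # The Euler sequence `0 → Ω → O(-1)^{n+1} → O → 0` on projective space over a ring. -/

set_option autoImplicit false
universe u
open CategoryTheory CategoryTheory.Limits AlgebraicGeometry TopologicalSpace Opposite

namespace Groth.Agent.H2.Euler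

open Twist Groth.Agent.LD.TW Groth.Agent.LD.PT Groth.Agent.LD.PN Groth.Agent.H3.Om
open Groth.Agent.LD.QC

attribute [local instance] Abelian.hasFiniteBiproducts

section general
variable {X : Scheme.{u}}

lemma sum_app' {M N : X.Modules} {ι : Type*} (S : Finset ι) (φ : ι → (M ⟶ N)) (W : X.Opens)
    (s : Γ(M, W)) : (∑ j ∈ S, φ j).app W s = ∑ j ∈ S, (φ j).app W s := by
  classical
  induction S using Finset.induction_on with
  | empty => simp only [Finset.sum_empty]; rfl
  | insert j S hj ih => rw [Finset.sum_insert hj, Finset.sum_insert hj, add_app', ih]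

variable {ι : Type} [Fintype ι] (F : ι → X.Modules)

lemma biproduct_total_app (W : X.Opens) (v : Γ(⨁ F, W)) :
    ∑ j, (biproduct.ι F j).app W ((biproduct.π F j).app W v) = v := by
  have h := congrArg (fun φ : ⨁ F ⟶ ⨁ F => φ.app W v) (biproduct.total (f := F))
  simp only at h
  rw [sum_app'] at h
  exact h

lemma biproduct_section_ext (W : X.Opens) {v v' : Γ(⨁ F, W)}
    (h : ∀ j, (biproduct.π F j).app W v = (biproduct.π F j).app W v') : v = v' := by
  rw [← biproduct_total_app F W v, ← biproduct_total_app F W v']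
  exact Finset.sum_congr rfl fun j _ => by rw [h j]

lemma biproduct_desc_app {N : X.Modules} (g : ∀ j, F j ⟶ N) (W : X.Opens) (v : Γ(⨁ F, W)) :
    (biproduct.desc g).app W v = ∑ j, (g j).app W ((biproduct.π F j).app W v) := by
  have h := congrArg (fun φ : ⨁ F ⟶ N => φ.app W v) (biproduct.desc_eq (f := F) (g := g))
  simp only at h
  rw [sum_app'] at h
  exact h

end general

variable (n : ℕ) (R : Type u) [CommRing R]

/-- the middle term `O(-1)^{n+1}` of the Euler sequence. -/
noncomputable abbrev eulerV : (Proj (CohB1.polyGrading n R)).Modules :=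
  ⨁ fun _ : Fin (n + 1) => twist (CohB1.polyGrading n R) (-1)

/-- multiplication by `X_l` as a morphism `O(-1) ⟶ O(0)`. -/
noncomputable def mX0 (l : Fin (n + 1)) :
    twist (CohB1.polyGrading n R) (-1) ⟶ twist (CohB1.polyGrading n R) 0 :=
  mX n R l (-1)

lemma mX0_app_bijective (l : Fin (n + 1)) (V : (Proj (CohB1.polyGrading n R)).Opens)
    (hV : V ≤ Proj.basicOpen (CohB1.polyGrading n R) (MvPolynomial.X l)) :
    Function.Bijective ((mX0 n R l).app V) :=
  mulX_app_bijective (⟨MvPolynomial.X l, X_mem l⟩ : CohB1.polyGrading n R 1) (-1) V hV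

/-- the Euler map `Ω ⟶ O(-1)^{n+1}`. -/
noncomputable def eulerι : Omega.sheaf (pS n R) ⟶ eulerV n R :=
  biproduct.lift (iota n R)

/-- the map `(X_0, …, X_n) : O(-1)^{n+1} ⟶ O`. -/
noncomputable def eulerE : eulerV n R ⟶ twist (CohB1.polyGrading n R) 0 :=
  biproduct.desc (mX0 n R)

end Groth.Agent.H2.Euler

namespace Groth.Agent.H2.Euler

open Twist Groth.Agent.LD.TW Groth.Agent.LD.PT Groth.Agent.LD.PN Groth.Agent.H3.Om
open Groth.Agent.LD.QC

attribute [local instance] Abelian.hasFiniteBiproducts

variable (n : ℕ) (R : Type u) [CommRing R]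

lemma eulerι_π (j : Fin (n + 1)) :
    eulerι n R ≫ biproduct.π (fun _ : Fin (n + 1) => twist (CohB1.polyGrading n R) (-1)) j =
      iota n R j :=
  biproduct.lift_π _ _

lemma ι_eulerE (l : Fin (n + 1)) :
    biproduct.ι (fun _ : Fin (n + 1) => twist (CohB1.polyGrading n R) (-1)) l ≫ eulerE n R =
      mX0 n R l :=
  biproduct.ι_desc _ _

variable {n R}

lemma secVal_mX0 (l : Fin (n + 1)) (W : (Proj (CohB1.polyGrading n R)).Opens)
    (s : Γ(twist (CohB1.polyGrading n R) (-1), W)) (x : W) :
    secVal ((mX0 n R l).app W s) x = xi x.1 l * secVal s x :=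
  secVal_mX l (-1) W s x

lemma eulerE_app (W : (Proj (CohB1.polyGrading n R)).Opens) (v : Γ(eulerV n R, W)) :
    (eulerE n R).app W v = ∑ l, (mX0 n R l).app W
      ((biproduct.π (fun _ : Fin (n + 1) => twist (CohB1.polyGrading n R) (-1)) l).app W v) :=
  biproduct_desc_app _ _ W v

lemma π_eulerι_app (j : Fin (n + 1)) (W : (Proj (CohB1.polyGrading n R)).Opens)
    (ω : Γ(Omega.sheaf (pS n R), W)) :
    (biproduct.π (fun _ : Fin (n + 1) => twist (CohB1.polyGrading n R) (-1)) j).app W
      ((eulerι n R).app W ω) = (iota n R j).app W ω := by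
  have h := congrArg (fun φ : Omega.sheaf (pS n R) ⟶ twist (CohB1.polyGrading n R) (-1) =>
    φ.app W ω) (eulerι_π n R j)
  exact h

lemma secVal_eulerE (W : (Proj (CohB1.polyGrading n R)).Opens) (v : Γ(eulerV n R, W)) (x : W) :
    secVal ((eulerE n R).app W v) x = ∑ l, xi x.1 l * secVal
      ((biproduct.π (fun _ : Fin (n + 1) => twist (CohB1.polyGrading n R) (-1)) l).app W v) x := by
  rw [eulerE_app, secVal_sum]
  exact Finset.sum_congr rfl fun l _ => secVal_mX0 l W _ x

/-- Euler's identity for fractions of degree zero. -/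
lemma euler_identity_loc (x : ProjectiveSpectrum (CohB1.polyGrading n R))
    (c : A0 (CohB1.polyGrading n R) x) :
    ∑ j, xi x j * dl (MvPolynomial.pderiv j) x c.val = 0 := by
  rw [c.eq_num_div_den]
  simp only [dl_mk]
  set s : x.asHomogeneousIdeal.toIdeal.primeCompl :=
    (⟨c.den, c.den_mem⟩ : x.asHomogeneousIdeal.toIdeal.primeCompl) * ⟨c.den, c.den_mem⟩ with hs
  have hu : IsUnit (algebraMap (MvPolynomial (Fin (n+1)) R) (Loc (CohB1.polyGrading n R) x)
      (s : MvPolynomial (Fin (n+1)) R)) :=
    IsLocalization.map_units (M := x.asHomogeneousIdeal.toIdeal.primeCompl) _ s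
  apply hu.mul_left_injective
  change _ * _ = 0 * _
  rw [zero_mul, Finset.sum_mul]
  have h1 : ∀ j : Fin (n + 1), xi x j * (Localization.mk
      (c.den * MvPolynomial.pderiv j c.num - c.num * MvPolynomial.pderiv j c.den) s :
        Loc (CohB1.polyGrading n R) x) *
      algebraMap (MvPolynomial (Fin (n+1)) R) (Loc (CohB1.polyGrading n R) x)
        (s : MvPolynomial (Fin (n+1)) R) =
      algebraMap (MvPolynomial (Fin (n+1)) R) (Loc (CohB1.polyGrading n R) x)
        (MvPolynomial.X j * (c.den * MvPolynomial.pderiv j c.num -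
          c.num * MvPolynomial.pderiv j c.den)) := by
    intro j
    rw [mul_assoc, mk_mul_algebraMap, map_mul]
    rfl
  rw [Finset.sum_congr rfl (fun j _ => h1 j), ← map_sum]
  have hnum : c.num.IsHomogeneous c.deg := (MvPolynomial.mem_homogeneousSubmodule _ _).1 c.num_mem_deg
  have hden : c.den.IsHomogeneous c.deg := (MvPolynomial.mem_homogeneousSubmodule _ _).1 c.den_mem_deg
  have h3 : ∑ j, MvPolynomial.X j * (c.den * MvPolynomial.pderiv j c.num -
      c.num * MvPolynomial.pderiv j c.den) = 0 := by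
    have e1 : ∀ j : Fin (n + 1), MvPolynomial.X j * (c.den * MvPolynomial.pderiv j c.num -
        c.num * MvPolynomial.pderiv j c.den) =
        c.den * (MvPolynomial.X j * MvPolynomial.pderiv j c.num) -
          c.num * (MvPolynomial.X j * MvPolynomial.pderiv j c.den) := fun j => by ring
    simp only [e1]
    rw [Finset.sum_sub_distrib, ← Finset.mul_sum, ← Finset.mul_sum, hnum.sum_X_mul_pderiv,
      hden.sum_X_mul_pderiv, nsmul_eq_mul, nsmul_eq_mul]
    ring
  rw [h3, map_zero]

variable (n R)

/-- the Euler sequence is a complex. -/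
theorem eulerι_eulerE : eulerι n R ≫ eulerE n R = 0 := by
  have hu := isUniversal_dOmega (pS n R) (twist (CohB1.polyGrading n R) 0)
    ((OmegaSh.dOmega (pS n R)).postcomp
      (0 : Omega.sheaf (pS n R) ⟶ twist (CohB1.polyGrading n R) 0).val)
  refine hu.unique ?_ rfl
  apply Der.ext'
  intro W s
  rw [Der.postcomp_app, Der.postcomp_app, comp_app', zero_app']
  apply secVal_ext
  intro x
  rw [secVal_eulerE, secVal_zero]
  have h1 : ∀ l ∈ (Finset.univ : Finset (Fin (n + 1))), xi x.1 l * secVal
      ((biproduct.π (fun _ : Fin (n + 1) => twist (CohB1.polyGrading n R) (-1)) l).app W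
        ((eulerι n R).app W ((OmegaSh.dOmega (pS n R)).app W s))) x =
      xi x.1 l * dl (MvPolynomial.pderiv l) x.1
        ((show O (𝒜 := CohB1.polyGrading n R) (op W) from s).1 x).val := by
    intro l _
    rw [π_eulerι_app]
    congr 1
    exact iota_dSect l W s x
  rw [Finset.sum_congr rfl h1]
  exact euler_identity_loc x.1 _

end Groth.Agent.H2.Euler
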