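import Groth.Agent.Lib.Helper2.EulerSeq
import Groth.Agent.Lib.Lead.QC.SubExt

/-! # The Euler sequence on projective space over a ring is short exact. -/

set_option autoImplicit false
universe u
open CategoryTheory CategoryTheory.Limits AlgebraicGeometry TopologicalSpace Opposite

namespace Groth.Agent.H2.Euler

open Twist Groth.Agent.LD.TW Groth.Agent.LD.PT Groth.Agent.LD.PN Groth.Agent.H3.Om
open Groth.Agent.LD.QC

attribute [local instance] Abelian.hasFiniteBiproducts

variable (n : ℕ) (R : Type u) [CommRing R]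

instance instQCOmega : (Omega.sheaf (pS n R)).IsQuasicoherent :=
  isQuasicoherent_of_isUniversal (isUniversal_dOmega (pS n R))

instance instQCEulerV : (eulerV n R).IsQuasicoherent :=
  qc_of_iso (biproduct.isoCoproduct _).symm
    (qc_sigma_fin (twist (CohB1.polyGrading n R) (-1)) (n + 1))

instance instQCKernelEulerE : (kernel (eulerE n R)).IsQuasicoherent :=
  qc_kernel _ inferInstance inferInstance

/-- the comparison `Ω ⟶ ker (X_0, …, X_n)`. -/
noncomputable def eulerLift : Omega.sheaf (pS n R) ⟶ kernel (eulerE n R) :=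
  kernel.lift (eulerE n R) (eulerι n R) (eulerι_eulerE n R)

lemma eulerLift_ι : eulerLift n R ≫ kernel.ι (eulerE n R) = eulerι n R :=
  kernel.lift_ι _ _ _

variable {n R}

lemma eulerLift_app_injective (i : Fin (n + 1)) :
    Function.Injective ((eulerLift n R).app (U n R i)) := by
  rw [← AddMonoidHom.coe_coe, injective_iff_map_eq_zero]
  intro ω hω
  apply iota_injective_chart i ω
  intro j
  have h1 : (eulerι n R).app (U n R i) ω = 0 := by
    have h2 := congrArg (fun φ : Omega.sheaf (pS n R) ⟶ eulerV n R => φ.app (U n R i) ω)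
      (eulerLift_ι n R)
    simp only at h2
    rw [← h2, comp_app']
    have h3 : (eulerLift n R).app (U n R i) ω = 0 := hω
    rw [h3, map_zero]
  rw [← π_eulerι_app, h1, map_zero]

lemma eulerLift_app_surjective (i : Fin (n + 1)) :
    Function.Surjective ((eulerLift n R).app (U n R i)) := by
  intro z
  set v : Γ(eulerV n R, U n R i) := (kernel.ι (eulerE n R)).app (U n R i) z with hv
  have hv0 : (eulerE n R).app (U n R i) v = 0 := kernel_ι_app_comp _ _ z
  obtain ⟨ω, hω⟩ := iota_surjective_chart i
    (fun l => (biproduct.π (fun _ : Fin (n + 1) => twist (CohB1.polyGrading n R) (-1)) l).app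
      (U n R i) v) (fun x => by
        rw [← secVal_eulerE, hv0]
        rfl)
  refine ⟨ω, ?_⟩
  apply mono_app (kernel.ι (eulerE n R)) (U n R i)
  have h2 := congrArg (fun φ : Omega.sheaf (pS n R) ⟶ eulerV n R => φ.app (U n R i) ω)
    (eulerLift_ι n R)
  simp only at h2
  rw [comp_app'] at h2
  rw [h2]
  apply biproduct_section_ext
  intro j
  rw [π_eulerι_app, hω j]

variable (n R)

lemma exists_mem_U (x : Proj (CohB1.polyGrading n R)) : ∃ i, x ∈ U n R i := by
  obtain ⟨f, ⟨i, rfl⟩, hx⟩ := exists_mem_basicOpen_of_span (irrelevant_eq_span n R) x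
  exact ⟨i, hx⟩

instance isIso_eulerLift : IsIso (eulerLift n R) := by
  apply isIso_of_bijective_affine_cover
  intro x
  obtain ⟨i, hi⟩ := exists_mem_U n R x
  exact ⟨U n R i, isAffineOpen_U i, hi, eulerLift_app_injective i, eulerLift_app_surjective i⟩

instance mono_eulerι : Mono (eulerι n R) := by
  rw [← eulerLift_ι]
  infer_instance

instance epi_eulerE : Epi (eulerE n R) := by
  apply epi_of_surjective_basis _ {V | ∃ i, V ≤ U n R i}
  · rw [Opens.isBasis_iff_nbhd]
    intro W x hx
    obtain ⟨i, hi⟩ := exists_mem_U n R x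
    exact ⟨W ⊓ U n R i, ⟨i, inf_le_right⟩, ⟨hx, hi⟩, inf_le_left⟩
  · rintro V ⟨i, hV⟩ t
    obtain ⟨s, hs⟩ := (mX0_app_bijective n R i V hV).2 t
    refine ⟨(biproduct.ι (fun _ : Fin (n + 1) => twist (CohB1.polyGrading n R) (-1)) i).app V s, ?_⟩
    have h := congrArg (fun φ : twist (CohB1.polyGrading n R) (-1) ⟶
      twist (CohB1.polyGrading n R) 0 => φ.app V s) (ι_eulerE n R i)
    simp only at h
    rw [comp_app'] at h
    rw [h]
    exact hs

/-- the Euler sequence. -/
noncomputable def eulerSC : ShortComplex (Proj (CohB1.polyGrading n R)).Modules :=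
  ShortComplex.mk (eulerι n R) (eulerE n R) (eulerι_eulerE n R)

/-- **the Euler sequence `0 → Ω → O(-1)^{n+1} → O → 0` is short exact.** -/
theorem eulerSC_shortExact : (eulerSC n R).ShortExact := by
  have hex : (eulerSC n R).Exact := by
    apply ShortComplex.exact_of_f_is_kernel
    refine IsLimit.ofIsoLimit (kernelIsKernel (eulerE n R))
      (Fork.ext (asIso (eulerLift n R)).symm ?_)
    change inv (eulerLift n R) ≫ eulerι n R = kernel.ι (eulerE n R)
    rw [IsIso.inv_comp_eq]
    exact (eulerLift_ι n R).symm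
  exact ShortComplex.ShortExact.mk' hex (mono_eulerι n R) (epi_eulerE n R)

end Groth.Agent.H2.Euler
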