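import Groth.Agent.Lib.Helper2.EulerTwA
import Groth.Agent.Lib.Lead.QC.TwistExt
import Groth.Agent.Lib.Lead.PN.ExtTwist
import Groth.Agent.Lib.Lead.PN.Main
import Groth.Agent.Lib.Lead.Ann.SmulEnd
import Groth.Agent.Lib.Lead.QC.FreeData

/-! # The twisted sheaf of differentials `Ω(1)` of projective space. -/

set_option autoImplicit false
universe u
open CategoryTheory CategoryTheory.Limits AlgebraicGeometry TopologicalSpace Opposite

namespace Groth.Agent.H2.Euler

open Twist Groth.Agent.LD.TW Groth.Agent.LD.PT Groth.Agent.LD.PN Groth.Agent.H3.Om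
open Groth.Agent.LD.QC Groth.Agent.LD.Ann Abelian

attribute [local instance] Abelian.hasFiniteBiproducts

/-- `Ext` out of a finite biproduct vanishes if it vanishes on the summands. -/
theorem subsingleton_ext_biproduct {C : Type*} [Category C] [Abelian C] [HasExt C]
    {ι : Type} [Fintype ι] [DecidableEq ι] (F : ι → C) (Y : C) (i : ℕ)
    (h : ∀ j, Subsingleton (Ext (F j) Y i)) : Subsingleton (Ext (⨁ F) Y i) := by
  refine ⟨fun x y => ?_⟩
  have key : ∀ z : Ext (⨁ F) Y i, z = 0 := by
    intro z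
    have h1 : z = (Ext.mk₀ (𝟙 (⨁ F))).comp z (zero_add i) := (Ext.mk₀_id_comp z).symm
    rw [h1, ← biproduct.total, Ext.mk₀_sum, Ext.sum_comp]
    refine Finset.sum_eq_zero fun j _ => ?_
    rw [← Ext.mk₀_comp_mk₀, Ext.comp_assoc_of_second_deg_zero]
    have h2 : (Ext.mk₀ (biproduct.ι F j)).comp z (zero_add i) = 0 := Subsingleton.elim _ _
    rw [h2, Ext.comp_zero]
  rw [key x, key y]


variable (n : ℕ) (R : Type u) [CommRing R]

/-- the twisted sheaf of differentials `Ω(1)`. -/
noncomputable abbrev om1 : (Proj (CohB1.polyGrading n R)).Modules :=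
  CohB1.tensorMod (Omega.sheaf (pS n R)) (twist (CohB1.polyGrading n R) 1)

/-- the global function attached to a scalar. -/
noncomputable def gl (c : R) : Γ(Proj (CohB1.polyGrading n R), ⊤) :=
  (pS n R).app ⊤ ((Scheme.ΓSpecIso (CommRingCat.of R)).inv c)

lemma gl_eq_toGlobal (c : R) : gl n R c = Coh.toGlobal (pS n R) c := rfl

variable {n R}

lemma smulEnd_gl_app (M : (Proj (CohB1.polyGrading n R)).Modules) (c : R)
    (W : (Proj (CohB1.polyGrading n R)).Opens) (m : Γ(M, W)) :
    (smulEnd M (gl n R c)).app W m = constFn W c • m := rfl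

/-- tensoring the multiplication by a global function gives the multiplication by this function. -/
theorem twF_map_smulEnd {X : Scheme.{u}} (L M : X.Modules) (r : Γ(X, ⊤)) :
    (twF L).map (smulEnd M r) = smulEnd (CohB1.tensorMod M L) r := by
  rw [twF_map]
  apply hom_ext_tmul
  intro U m l
  rw [KoszTw.tensorMap_tmul, smulEnd_app, smulEnd_app]
  exact tmul_smul_left M L U _ m l

variable (n R)

/-- tensoring with `O(1)` is an equivalence. -/
lemma isEquivalence_tw1 : (twF (twist (CohB1.polyGrading n R) 1)).IsEquivalence :=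
  twF_isEquivalence _ _ (twistInvIso n R 1)

/-- **endomorphisms of `Ω(1)` are scalars.** -/
theorem end_om1_scalar (ψ : om1 n R ⟶ om1 n R) :
    ∃ c : R, ψ = smulEnd (om1 n R) (gl n R c) := by
  haveI := isEquivalence_tw1 n R
  obtain ⟨ψ', hψ'⟩ := (twF (twist (CohB1.polyGrading n R) 1)).map_surjective
    (X := Omega.sheaf (pS n R)) (Y := Omega.sheaf (pS n R)) ψ
  obtain ⟨c, hc⟩ := end_omega_scalar ψ'
  refine ⟨c, ?_⟩
  have h1 : ψ' = smulEnd (Omega.sheaf (pS n R)) (gl n R c) := by
    apply Scheme.Modules.hom_ext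
    intro W
    ext ω
    exact hc W ω
  rw [← hψ', h1, twF_map_smulEnd]

/-- **`Ext¹(Ω, O(-2)) = 0`.** -/
theorem subsingleton_ext_omega_neg_two
    [HasExt.{u} (Proj (CohB1.polyGrading n R)).Modules] :
    Subsingleton (Ext (Omega.sheaf (pS n R)) (twist (CohB1.polyGrading n R) (-2)) 1) := by
  classical
  have h3 : Subsingleton (Ext (eulerSC n R).X₃ (twist (CohB1.polyGrading n R) (-2)) 2) :=
    subsingleton_ext_twist_twist n R 0 (-2) 2 (fun h => by omega)
      (fun h => by have := h.2; omega)
  have h2 : Subsingleton (Ext (eulerSC n R).X₂ (twist (CohB1.polyGrading n R) (-2)) 1) := by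
    apply subsingleton_ext_biproduct
    intro j
    exact subsingleton_ext_twist_twist n R (-1) (-2) 1 (fun h => by omega)
      (fun h => by have := h.2; omega)
  refine ⟨fun x y => ?_⟩
  have key : ∀ z : Ext (Omega.sheaf (pS n R)) (twist (CohB1.polyGrading n R) (-2)) 1, z = 0 := by
    intro z
    obtain ⟨x₂, hx₂⟩ := Ext.contravariant_sequence_exact₁ (eulerSC_shortExact n R)
      (twist (CohB1.polyGrading n R) (-2)) z (n₁ := 2) (by norm_num)
      (Subsingleton.elim _ _)
    have hx0 : x₂ = 0 := Subsingleton.elim _ _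
    rw [← hx₂, hx0]
    exact Ext.comp_zero (Ext.mk₀ (eulerSC n R).f) _ _ _ _
  rw [key x, key y]

end Groth.Agent.H2.Euler
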