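import Groth.Agent.Lib.Helper2.EulerTwB

/-! # `Ω(1)` of projective space: liftings, `Ext¹(Ω(1), O(-1)) = 0`, `Hom(O, Ω(1)) = 0`. -/

set_option autoImplicit false
set_option linter.style.haveILetI false
universe u
open CategoryTheory CategoryTheory.Limits AlgebraicGeometry TopologicalSpace Opposite

namespace Groth.Agent.H2.Euler

open Twist Groth.Agent.LD.TW Groth.Agent.LD.PT Groth.Agent.LD.PN Groth.Agent.H3.Om
open Groth.Agent.LD.QC Groth.Agent.LD.Ann Abelian

attribute [local instance] Abelian.hasFiniteBiproducts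

/-- a morphism to the cokernel of a short exact sequence lifts to the middle term when the relevant
`Ext¹` vanishes. -/
theorem exists_lift_of_subsingleton_ext {C : Type*} [Category C] [Abelian C] [HasExt C]
    {S : ShortComplex C} (hS : S.ShortExact) (A : C) [Subsingleton (Ext A S.X₁ 1)]
    (g : A ⟶ S.X₃) : ∃ g' : A ⟶ S.X₂, g' ≫ S.g = g := by
  obtain ⟨x₂, hx₂⟩ := Ext.covariant_sequence_exact₃ A hS (Ext.mk₀ g) (n₁ := 1) rfl
    (Subsingleton.elim _ _)
  obtain ⟨g', rfl⟩ := Ext.addEquiv₀.symm.surjective x₂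
  refine ⟨g', ?_⟩
  have h1 : Ext.mk₀ (g' ≫ S.g) = Ext.mk₀ g := by
    rw [← hx₂]
    exact (Ext.mk₀_comp_mk₀ g' S.g).symm
  exact Ext.addEquiv₀.symm.injective h1

variable (n : ℕ) (R : Type u) [CommRing R]

/-- **`Ext¹(Ω(1), O(-1)) = 0`.** -/
theorem subsingleton_ext_om1_neg_one [HasExt.{u} (Proj (CohB1.polyGrading n R)).Modules] :
    Subsingleton (Ext (om1 n R) (twist (CohB1.polyGrading n R) (-1)) 1) := by
  haveI := subsingleton_ext_omega_neg_two n R
  obtain ⟨e1⟩ := nonempty_ext_twist_equiv (twist (CohB1.polyGrading n R) 1)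
    (twist (CohB1.polyGrading n R) (-1)) (twistInvIso n R 1) (Omega.sheaf (pS n R))
    (twist (CohB1.polyGrading n R) (-2)) 1
  have e2 := extEquivRight (om1 n R) (twistMulIso n R (-2) 1 (-1) (by norm_num)) 1
  haveI h1 : Subsingleton (Ext (om1 n R) (CohB1.tensorMod (twist (CohB1.polyGrading n R) (-2))
      (twist (CohB1.polyGrading n R) 1)) 1) := e1.symm.toEquiv.subsingleton
  exact e2.symm.toEquiv.subsingleton


/-- **`Hom(O, Ω(1)) = 0`.** -/
theorem hom_twist_zero_om1_eq_zero (φ : twist (CohB1.polyGrading n R) 0 ⟶ om1 n R) : φ = 0 := by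
  haveI := isEquivalence_tw1 n R
  obtain ⟨g, hg⟩ := (twF (twist (CohB1.polyGrading n R) 1)).map_surjective
    (X := twist (CohB1.polyGrading n R) (-1)) (Y := Omega.sheaf (pS n R))
    ((twistMulIso n R (-1) 1 0 (by norm_num)).hom ≫ φ)
  rw [hom_neg_one_omega_eq_zero g, Functor.map_zero] at hg
  rw [← cancel_epi (twistMulIso n R (-1) 1 0 (by norm_num)).hom, comp_zero]
  exact hg.symm

/-- **`Hom(O, M) = 0` for a quotient `M` of `Ω(1)` by `O(-1)`.** -/
theorem hom_twist_zero_cokernel_eq_zero (u : twist (CohB1.polyGrading n R) (-1) ⟶ om1 n R) [Mono u]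
    (g : twist (CohB1.polyGrading n R) 0 ⟶ cokernel u) : g = 0 := by
  haveI := Groth.Agent.H1.sheafOfModules_isGrothendieckAbelian
    (Opens.grothendieckTopology (Proj (CohB1.polyGrading n R)))
    (Proj (CohB1.polyGrading n R)).ringCatSheaf
  haveI : EnoughInjectives (Proj (CohB1.polyGrading n R)).Modules :=
    inferInstanceAs (EnoughInjectives
      (SheafOfModules.{u} (Proj (CohB1.polyGrading n R)).ringCatSheaf))
  haveI : HasExt.{u} (Proj (CohB1.polyGrading n R)).Modules := hasExt_of_enoughInjectives.{u} _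
  have hS : (ShortComplex.mk u (cokernel.π u) (cokernel.condition u)).ShortExact :=
    ShortComplex.ShortExact.mk' (ShortComplex.exact_cokernel u) inferInstance inferInstance
  haveI : Subsingleton (Ext (twist (CohB1.polyGrading n R) 0)
      (ShortComplex.mk u (cokernel.π u) (cokernel.condition u)).X₁ 1) :=
    subsingleton_ext_twist_twist n R 0 (-1) 1 (fun h => by omega) (fun h => by have := h.2; omega)
  obtain ⟨g', hg'⟩ := exists_lift_of_subsingleton_ext hS (twist (CohB1.polyGrading n R) 0) g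
  rw [← hg', hom_twist_zero_om1_eq_zero n R g', zero_comp]

/-- **`H⁰(M) = 0` for a quotient `M` of `Ω(1)` by `O(-1)`.** -/
theorem subsingleton_HH_zero_cokernel (u : twist (CohB1.polyGrading n R) (-1) ⟶ om1 n R) [Mono u] :
    Subsingleton (Coh.HH (Proj (CohB1.polyGrading n R)) (cokernel u) 0) := by
  haveI := Groth.Agent.H1.sheafOfModules_isGrothendieckAbelian
    (Opens.grothendieckTopology (Proj (CohB1.polyGrading n R)))
    (Proj (CohB1.polyGrading n R)).ringCatSheaf
  haveI : EnoughInjectives (Proj (CohB1.polyGrading n R)).Modules :=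
    inferInstanceAs (EnoughInjectives
      (SheafOfModules.{u} (Proj (CohB1.polyGrading n R)).ringCatSheaf))
  haveI : HasExt.{u} (Proj (CohB1.polyGrading n R)).Modules := hasExt_of_enoughInjectives.{u} _
  haveI : HasExt.{u} (SheafOfModules.{u} (Proj (CohB1.polyGrading n R)).ringCatSheaf) :=
    ‹HasExt.{u} (Proj (CohB1.polyGrading n R)).Modules›
  obtain ⟨e⟩ := Groth.Agent.LD.KT.nonempty_ext_unit_equiv
    (Opens.grothendieckTopology (Proj (CohB1.polyGrading n R)))
    (Proj (CohB1.polyGrading n R)).ringCatSheaf (cokernel u) 0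
  have hsub : Subsingleton (Ext (C := (Proj (CohB1.polyGrading n R)).Modules)
      (unitMod (Proj (CohB1.polyGrading n R))) (cokernel u) 0) := by
    refine ⟨fun x y => ?_⟩
    have key : ∀ z : Ext (C := (Proj (CohB1.polyGrading n R)).Modules)
        (unitMod (Proj (CohB1.polyGrading n R))) (cokernel u) 0, z = 0 := by
      intro z
      obtain ⟨g, rfl⟩ := Ext.addEquiv₀.symm.surjective z
      have h1 : (twistZeroIso (CohB1.polyGrading n R)).hom ≫ g = 0 :=
        hom_twist_zero_cokernel_eq_zero n R u _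
      have h2 : g = 0 := by
        rw [← cancel_epi (twistZeroIso (CohB1.polyGrading n R)).hom, h1, comp_zero]
      rw [h2]
      exact map_zero _
    rw [key x, key y]
  exact @Equiv.subsingleton _ _ e.symm.toEquiv hsub

end Groth.Agent.H2.Euler
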