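import Groth.Agent.Lib.Helper2.EulerTwC

/-! # Quotients of `Ω(1)` by `O(-1)` on projective space are simple. -/

set_option autoImplicit false
set_option linter.style.haveILetI false
universe u
open CategoryTheory CategoryTheory.Limits AlgebraicGeometry TopologicalSpace Opposite

namespace Groth.Agent.H2.Euler

open Twist Groth.Agent.LD.TW Groth.Agent.LD.PT Groth.Agent.LD.PN Groth.Agent.H3.Om
open Groth.Agent.LD.QC Groth.Agent.LD.Ann Abelian

attribute [local instance] Abelian.hasFiniteBiproducts

variable (n : ℕ) (R : Type u) [CommRing R]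

/-- every morphism from `Ω(1)` to a quotient of `Ω(1)` by `O(-1)` lifts to an endomorphism of
`Ω(1)`. -/
theorem exists_lift_om1 (u : twist (CohB1.polyGrading n R) (-1) ⟶ om1 n R) [Mono u]
    (g : om1 n R ⟶ cokernel u) : ∃ ψ : om1 n R ⟶ om1 n R, ψ ≫ cokernel.π u = g := by
  haveI := Groth.Agent.H1.sheafOfModules_isGrothendieckAbelian
    (Opens.grothendieckTopology (Proj (CohB1.polyGrading n R)))
    (Proj (CohB1.polyGrading n R)).ringCatSheaf
  haveI : EnoughInjectives (Proj (CohB1.polyGrading n R)).Modules :=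
    inferInstanceAs (EnoughInjectives
      (SheafOfModules.{u} (Proj (CohB1.polyGrading n R)).ringCatSheaf))
  haveI : HasExt.{u} (Proj (CohB1.polyGrading n R)).Modules := hasExt_of_enoughInjectives.{u} _
  have hS : (ShortComplex.mk u (cokernel.π u) (cokernel.condition u)).ShortExact :=
    ShortComplex.ShortExact.mk' (ShortComplex.exact_cokernel u) inferInstance inferInstance
  haveI : Subsingleton (Ext (om1 n R)
      (ShortComplex.mk u (cokernel.π u) (cokernel.condition u)).X₁ 1) :=
    subsingleton_ext_om1_neg_one n R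
  exact exists_lift_of_subsingleton_ext hS (om1 n R) g

/-- **every morphism from `Ω(1)` to a quotient of `Ω(1)` by `O(-1)` is a scalar multiple of the
projection.** -/
theorem hom_om1_cokernel_scalar (u : twist (CohB1.polyGrading n R) (-1) ⟶ om1 n R) [Mono u]
    (g : om1 n R ⟶ cokernel u) :
    ∃ c : R, g = cokernel.π u ≫ smulEnd (cokernel u) (gl n R c) := by
  obtain ⟨ψ, hψ⟩ := exists_lift_om1 n R u g
  obtain ⟨c, hc⟩ := end_om1_scalar n R ψ
  refine ⟨c, ?_⟩
  rw [← hψ, hc, smulEnd_naturality]

/-- **endomorphisms of a quotient of `Ω(1)` by `O(-1)` are scalars.** -/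
theorem end_cokernel_scalar (u : twist (CohB1.polyGrading n R) (-1) ⟶ om1 n R) [Mono u]
    (φ : cokernel u ⟶ cokernel u) : ∃ c : R, φ = smulEnd (cokernel u) (gl n R c) := by
  obtain ⟨c, hc⟩ := hom_om1_cokernel_scalar n R u (cokernel.π u ≫ φ)
  exact ⟨c, (cancel_epi (cokernel.π u)).1 hc⟩

end Groth.Agent.H2.Euler
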