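import Groth.Agent.Lib.Helper2.EulerTwD
import Groth.Agent.Lib.Helper2.EulerVecA
import Groth.Agent.H4.LFP1
import Groth.Agent.Lib.Lead.QC.FiniteFree

/-! # Quotients of `Ω(1)` by `O(-1)`: isomorphic quotients come from proportional maps. -/

set_option autoImplicit false
set_option linter.style.haveILetI false
universe u
open CategoryTheory CategoryTheory.Limits AlgebraicGeometry TopologicalSpace Opposite

namespace Groth.Agent.H2.Euler

open Twist Groth.Agent.LD.TW Groth.Agent.LD.PT Groth.Agent.LD.PN Groth.Agent.H3.Om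
open Groth.Agent.LD.QC Groth.Agent.LD.Ann Abelian

attribute [local instance] Abelian.hasFiniteBiproducts

/-- a finite locally free module of positive rank on a nonempty scheme is nonzero. -/
theorem not_isZero_of_rank_pos' {X : Scheme.{u}} [Nonempty X] {r : ℕ} (hr : 0 < r) {E : X.Modules}
    (hE : FlatMod.IsFinLocFreeOfRank r E) : ¬ IsZero E := by
  intro hz
  obtain ⟨x⟩ := ‹Nonempty X›
  obtain ⟨f1, fin1, rk1⟩ := Groth.Agent.H4.LFP1.stalk_of_isFinLocFreeOfRank r E hE x
  haveI := f1
  haveI := fin1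
  let Φ := DerSch.stalkFunctor X x
  have hz' : IsZero (Φ.obj E) := Φ.map_isZero hz
  haveI : Subsingleton (E.presheaf.stalk x) := ModuleCat.subsingleton_of_isZero hz'
  have := (Module.finrank_eq_zero_iff_of_free (X.presheaf.stalk x)
    (E.presheaf.stalk x)).mpr inferInstance
  omega

section
variable {X : Scheme.{u}}

lemma smulEnd_one (M : X.Modules) : smulEnd M (1 : Γ(X, ⊤)) = 𝟙 M := by
  apply Scheme.Modules.hom_ext
  intro U
  ext m
  rw [smulEnd_app, map_one, one_smul]
  rfl

lemma smulEnd_zero (M : X.Modules) : smulEnd M (0 : Γ(X, ⊤)) = 0 := by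
  apply Scheme.Modules.hom_ext
  intro U
  ext m
  rw [smulEnd_app, map_zero, zero_smul]
  rfl

end

variable (n : ℕ) (R : Type u) [CommRing R]

/-- scalars as global functions, as a ring homomorphism. -/
noncomputable def glHom : R →+* Γ(Proj (CohB1.polyGrading n R), ⊤) := Coh.toGlobal (pS n R)

lemma glHom_apply (c : R) : glHom n R c = gl n R c := rfl

variable {n R}

lemma smulEnd_gl_one (M : (Proj (CohB1.polyGrading n R)).Modules) :
    smulEnd M (gl n R 1) = 𝟙 M := by
  rw [← glHom_apply, map_one, smulEnd_one]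

lemma smulEnd_gl_zero (M : (Proj (CohB1.polyGrading n R)).Modules) :
    smulEnd M (gl n R 0) = 0 := by
  rw [← glHom_apply, map_zero, smulEnd_zero]

lemma smulEnd_gl_mul (M : (Proj (CohB1.polyGrading n R)).Modules) (c d : R) :
    smulEnd M (gl n R (c * d)) = smulEnd M (gl n R d) ≫ smulEnd M (gl n R c) := by
  rw [← glHom_apply, map_mul, smulEnd_mul]
  rfl

/-- the multiplication by a scalar on a twisting sheaf. -/
lemma isMulBy_smulEnd (d : ℤ) (c : R) :
    IsMulBy (smulEnd (twist (CohB1.polyGrading n R) d) (gl n R c)) (MvPolynomial.C c) := by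
  intro W t y
  rw [smulEnd_gl_app, secVal_smul, oval_constFn]

/-- endomorphisms of a twisting sheaf are scalars. -/
theorem end_twist_scalar (d : ℤ)
    (φ : twist (CohB1.polyGrading n R) d ⟶ twist (CohB1.polyGrading n R) d) :
    ∃ c : R, φ = smulEnd (twist (CohB1.polyGrading n R) d) (gl n R c) := by
  obtain ⟨f, hf, hmul⟩ := exists_isMulBy' n R 0 (d := d) (d' := d) (by norm_num) φ
  refine ⟨MvPolynomial.coeff 0 f, ?_⟩
  rw [eq_C_of_mem_zero hf] at hmul
  exact hmul.ext (isMulBy_smulEnd d _)

end Groth.Agent.H2.Euler
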