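import Groth.Agent.Lib.Helper2.EulerTwE

/-! # Quotients of `Ω(1)` by `O(-1)`: isomorphic quotients come from proportional maps (II). -/

set_option autoImplicit false
set_option linter.style.haveILetI false
universe u
open CategoryTheory CategoryTheory.Limits AlgebraicGeometry TopologicalSpace Opposite

namespace Groth.Agent.H2.Euler

open Twist Groth.Agent.LD.TW Groth.Agent.LD.PT Groth.Agent.LD.PN Groth.Agent.H3.Om
open Groth.Agent.LD.QC Groth.Agent.LD.Ann Abelian

attribute [local instance] Abelian.hasFiniteBiproducts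

variable (n : ℕ) (k : Type u) [Field k]

instance nonempty_proj : Nonempty (Proj (CohB1.polyGrading n k)) := by
  obtain ⟨x, -⟩ := exists_point (n := n) (k := k) (fun _ => 0) (fun _ => zero_mem _)
  exact ⟨x⟩

lemma not_isZero_twist (d : ℤ) : ¬ IsZero (twist (CohB1.polyGrading n k) d) :=
  not_isZero_of_rank_pos' (r := 1) one_pos
    ((Groth.Agent.LD.QC.isInvertible_iff _).1 (isInvertible_twist n k d))

variable {n k}

/-- multiplication by a nonzero scalar is an isomorphism. -/
lemma smulEnd_gl_comp_inv (M : (Proj (CohB1.polyGrading n k)).Modules) {c : k} (hc : c ≠ 0) :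
    smulEnd M (gl n k c) ≫ smulEnd M (gl n k c⁻¹) = 𝟙 M := by
  rw [← smulEnd_gl_mul, inv_mul_cancel₀ hc, smulEnd_gl_one]

lemma smulEnd_gl_inv_comp (M : (Proj (CohB1.polyGrading n k)).Modules) {c : k} (hc : c ≠ 0) :
    smulEnd M (gl n k c⁻¹) ≫ smulEnd M (gl n k c) = 𝟙 M := by
  rw [← smulEnd_gl_mul, mul_inv_cancel₀ hc, smulEnd_gl_one]

/-- a monomorphism out of a twisting sheaf is nonzero. -/
lemma ne_zero_of_mono {d : ℤ} {M : (Proj (CohB1.polyGrading n k)).Modules}
    (a : twist (CohB1.polyGrading n k) d ⟶ M) [Mono a] : a ≠ 0 := by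
  intro h
  apply not_isZero_twist n k d
  rw [IsZero.iff_id_eq_zero, ← cancel_mono a, h, comp_zero, comp_zero]

/-- **isomorphic quotients of `Ω(1)` by `O(-1)` come from proportional maps.** -/
theorem exists_scalar_of_iso (a a' : twist (CohB1.polyGrading n k) (-1) ⟶ om1 n k) [Mono a] [Mono a']
    (hnz : ¬ IsZero (cokernel a')) (θ : cokernel a ≅ cokernel a') :
    ∃ c : k, c ≠ 0 ∧ a' = a ≫ smulEnd (om1 n k) (gl n k c) := by
  obtain ⟨c, hc⟩ := hom_om1_cokernel_scalar n k a' (cokernel.π a ≫ θ.hom)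
  have h2 : (a ≫ smulEnd (om1 n k) (gl n k c)) ≫ cokernel.π a' = 0 := by
    rw [Category.assoc, smulEnd_naturality, ← hc, cokernel.condition_assoc, zero_comp]
  obtain ⟨c', hc'⟩ := end_twist_scalar (-1) (Abelian.monoLift a' _ h2)
  have h3 : a' ≫ smulEnd (om1 n k) (gl n k c') = a ≫ smulEnd (om1 n k) (gl n k c) := by
    rw [← smulEnd_naturality, ← hc']
    exact Abelian.monoLift_comp a' _ h2
  have hc'0 : c' ≠ 0 := by
    intro h0
    rw [h0, smulEnd_gl_zero, comp_zero] at h3
    by_cases hc0 : c = 0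
    · rw [hc0, smulEnd_gl_zero, comp_zero] at hc
      have h4 : θ.hom = 0 := by
        rw [← cancel_epi (cokernel.π a), hc, comp_zero]
      apply hnz
      rw [IsZero.iff_id_eq_zero, ← θ.inv_hom_id, h4, comp_zero]
    · apply ne_zero_of_mono a
      have h5 := congrArg (fun φ => φ ≫ smulEnd (om1 n k) (gl n k c⁻¹)) h3
      simp only [Category.assoc, zero_comp] at h5
      rw [smulEnd_gl_comp_inv _ hc0, Category.comp_id] at h5
      exact h5.symm
  have h6 : a' = a ≫ smulEnd (om1 n k) (gl n k (c'⁻¹ * c)) := by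
    have h7 := congrArg (fun φ => φ ≫ smulEnd (om1 n k) (gl n k c'⁻¹)) h3
    simp only [Category.assoc] at h7
    rw [smulEnd_gl_comp_inv _ hc'0, Category.comp_id] at h7
    rw [h7, smulEnd_gl_mul]
  refine ⟨c'⁻¹ * c, ?_, h6⟩
  intro h0
  rw [h0, smulEnd_gl_zero, comp_zero] at h6
  exact ne_zero_of_mono a' h6

/-- conversely, proportional maps have isomorphic cokernels. -/
theorem nonempty_iso_of_scalar (a a' : twist (CohB1.polyGrading n k) (-1) ⟶ om1 n k)
    {c : k} (hc : c ≠ 0) (h : a' = a ≫ smulEnd (om1 n k) (gl n k c)) :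
    Nonempty (cokernel a ≅ cokernel a') := by
  let q : om1 n k ≅ om1 n k :=
    { hom := smulEnd (om1 n k) (gl n k c)
      inv := smulEnd (om1 n k) (gl n k c⁻¹)
      hom_inv_id := smulEnd_gl_comp_inv _ hc
      inv_hom_id := smulEnd_gl_inv_comp _ hc }
  exact ⟨cokernel.mapIso a a' (Iso.refl _) q (by rw [h]; simp [q])⟩

end Groth.Agent.H2.Euler
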