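import Groth.Agent.Lib.Helper2.EulerVecA
import Groth.Agent.Lib.Helper2.EulerHom
import Groth.Agent.Lib.Lead.TW.Zero

/-! # Vector fields on projective space vanish somewhere. -/

set_option autoImplicit false
universe u
open CategoryTheory CategoryTheory.Limits AlgebraicGeometry TopologicalSpace Opposite

namespace Groth.Agent.H2.Euler

open Twist Groth.Agent.LD.TW Groth.Agent.LD.PT Groth.Agent.LD.PN Groth.Agent.H3.Om
open Groth.Agent.LD.QC

variable {n : ℕ} {k : Type u} [Field k]

/-- the value of a "linear vector field" on a differential, at a point. -/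
noncomputable def vfVal (f : Fin (n + 1) → MvPolynomial (Fin (n+1)) k)
    {W : (Proj (CohB1.polyGrading n k)).Opens} (ω : Γ(Omega.sheaf (pS n k), W)) (x : W) :
    Loc (CohB1.polyGrading n k) x.1 :=
  ∑ l, Localization.mk (f l) 1 * secVal ((iota n k l).app W ω) x

lemma vfVal_add (f : Fin (n + 1) → MvPolynomial (Fin (n+1)) k)
    {W : (Proj (CohB1.polyGrading n k)).Opens} (ω ω' : Γ(Omega.sheaf (pS n k), W)) (x : W) :
    vfVal f (ω + ω') x = vfVal f ω x + vfVal f ω' x := by
  unfold vfVal
  rw [← Finset.sum_add_distrib]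
  refine Finset.sum_congr rfl fun l _ => ?_
  rw [map_add, secVal_add, mul_add]

lemma vfVal_zero (f : Fin (n + 1) → MvPolynomial (Fin (n+1)) k)
    {W : (Proj (CohB1.polyGrading n k)).Opens} (x : W) :
    vfVal f (0 : Γ(Omega.sheaf (pS n k), W)) x = 0 := by
  unfold vfVal
  refine Finset.sum_eq_zero fun l _ => ?_
  rw [map_zero, secVal_zero, mul_zero]

lemma vfVal_smul (f : Fin (n + 1) → MvPolynomial (Fin (n+1)) k)
    {W : (Proj (CohB1.polyGrading n k)).Opens} (c : Γ(Proj (CohB1.polyGrading n k), W))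
    (ω : Γ(Omega.sheaf (pS n k), W)) (x : W) :
    vfVal f (c • ω) x = oval (CohB1.polyGrading n k) c x * vfVal f ω x := by
  unfold vfVal
  rw [Finset.mul_sum]
  refine Finset.sum_congr rfl fun l _ => ?_
  rw [Scheme.Modules.Hom.app_smul, secVal_smul]
  ring

lemma vfVal_res (f : Fin (n + 1) → MvPolynomial (Fin (n+1)) k)
    {V W : (Proj (CohB1.polyGrading n k)).Opens} (h : W ≤ V) (ω : Γ(Omega.sheaf (pS n k), V))
    (x : W) :
    vfVal f ((Omega.sheaf (pS n k)).presheaf.map (homOfLE h).op ω) x = vfVal f ω ⟨x.1, h x.2⟩ := by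
  unfold vfVal
  refine Finset.sum_congr rfl fun l _ => ?_
  rw [app_res, secVal_res]

/-- the value on an exact differential. -/
lemma vfVal_dSect (f : Fin (n + 1) → MvPolynomial (Fin (n+1)) k)
    {W : (Proj (CohB1.polyGrading n k)).Opens} (b : Γ(Proj (CohB1.polyGrading n k), W)) (x : W) :
    ∃ (d : ℕ) (a s : MvPolynomial (Fin (n+1)) k) (_ : a ∈ CohB1.polyGrading n k d)
      (_ : s ∈ CohB1.polyGrading n k d) (hs : s ∈ x.1.asHomogeneousIdeal.toIdeal.primeCompl),
      vfVal f (OmegaSh.dSect (pS n k) W b) x =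
        Localization.mk (∑ l, f l * (s * MvPolynomial.pderiv l a - a * MvPolynomial.pderiv l s))
          (⟨s, hs⟩ * ⟨s, hs⟩) := by
  set c : A0 (CohB1.polyGrading n k) x.1 :=
    ((b : (ProjectiveSpectrum.Proj.structureSheaf (CohB1.polyGrading n k)).1.obj (op W)).1 x)
    with hc
  have hval : oval (CohB1.polyGrading n k) b x = c.val := rfl
  refine ⟨c.deg, c.num, c.den, c.num_mem_deg, c.den_mem_deg, c.den_mem, ?_⟩
  unfold vfVal
  have h1 : ∀ l, Localization.mk (f l) 1 *
      secVal ((iota n k l).app W (OmegaSh.dSect (pS n k) W b)) x =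
      Localization.mk (f l * (c.den * MvPolynomial.pderiv l c.num -
        c.num * MvPolynomial.pderiv l c.den))
        ((⟨c.den, c.den_mem⟩ : x.1.asHomogeneousIdeal.toIdeal.primeCompl) * ⟨c.den, c.den_mem⟩) := by
    intro l
    rw [iota_dSect, hval, c.eq_num_div_den, dl_mk, Localization.mk_mul, one_mul]
  simp only [h1]
  have h2 : ∀ (S : Finset (Fin (n + 1))) (g : Fin (n + 1) → MvPolynomial (Fin (n+1)) k)
      (t : x.1.asHomogeneousIdeal.toIdeal.primeCompl),
      ∑ l ∈ S, (Localization.mk (g l) t : Loc (CohB1.polyGrading n k) x.1) =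
        Localization.mk (∑ l ∈ S, g l) t := by
    classical
    intro S g t
    induction S using Finset.induction_on with
    | empty => simp [Localization.mk_zero]
    | insert a S ha ih =>
      rw [Finset.sum_insert ha, Finset.sum_insert ha, ih, Localization.add_mk_self]
  exact h2 _ _ _


/-- a fraction with numerator in the prime lies in the maximal ideal. -/
lemma mk_mem_maximalIdeal {x : ProjectiveSpectrum (CohB1.polyGrading n k)}
    {a : MvPolynomial (Fin (n+1)) k} (ha : a ∈ x.asHomogeneousIdeal.toIdeal)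
    (s : x.asHomogeneousIdeal.toIdeal.primeCompl) :
    (Localization.mk a s : Loc (CohB1.polyGrading n k) x) ∈
      IsLocalRing.maximalIdeal (Loc (CohB1.polyGrading n k) x) := by
  have h1 : (Localization.mk a s : Loc (CohB1.polyGrading n k) x) =
      Localization.mk 1 s * algebraMap _ _ a := by
    rw [← Localization.mk_one_eq_algebraMap, Localization.mk_mul, one_mul, mul_one]
  rw [h1]
  exact Ideal.mul_mem_left _ _
    ((IsLocalization.AtPrime.to_map_mem_maximal_iff (Loc (CohB1.polyGrading n k) x)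
      x.asHomogeneousIdeal.toIdeal a).2 ha)

/-- the values of the linear vector field at the point of `exists_point` lie in the maximal ideal. -/
theorem vfVal_mem_maximalIdeal (f : Fin (n + 1) → MvPolynomial (Fin (n+1)) k)
    (x₀ : ProjectiveSpectrum (CohB1.polyGrading n k))
    (hx₀ : ∀ (d : ℕ) (a s : MvPolynomial (Fin (n+1)) k),
      a ∈ CohB1.polyGrading n k d → s ∈ CohB1.polyGrading n k d →
      ∑ l, f l * (s * MvPolynomial.pderiv l a - a * MvPolynomial.pderiv l s) ∈
        x₀.asHomogeneousIdeal.toIdeal)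
    {U : (Proj (CohB1.polyGrading n k)).Opens} (x : U) (hx : x.1 = x₀)
    (ω : Γ(Omega.sheaf (pS n k), U)) :
    vfVal f ω x ∈ IsLocalRing.maximalIdeal (Loc (CohB1.polyGrading n k) x.1) := by
  obtain ⟨x, hxU⟩ := x
  change x = x₀ at hx
  subst hx
  obtain ⟨W, hW, hxW, hWU⟩ := (Opens.isBasis_iff_nbhd.1
    (Scheme.isBasis_affineOpens (Proj (CohB1.polyGrading n k)))) hxU
  have hres := vfVal_res f hWU ω ⟨x, hxW⟩
  change _ = vfVal f ω ⟨x, hxU⟩ at hres
  rw [← hres]
  have hspan := span_range_dSect (pS n k) hW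
    (isAffineOpen_top (Spec (CommRingCat.of k))) (fun _ _ => trivial)
  have key : ∀ ω' : Γ(Omega.sheaf (pS n k), W), vfVal f ω' ⟨x, hxW⟩ ∈
      IsLocalRing.maximalIdeal (Loc (CohB1.polyGrading n k) x) := by
    intro ω'
    have hmem : ω' ∈ Submodule.span Γ(Proj (CohB1.polyGrading n k), W)
        (Set.range (OmegaSh.dSect (pS n k) W)) := by
      rw [hspan]; trivial
    induction hmem using Submodule.span_induction with
    | mem y hy =>
      obtain ⟨b, rfl⟩ := hy
      obtain ⟨d, a, s, ha, hs, hs', hv⟩ := vfVal_dSect f b ⟨x, hxW⟩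
      rw [hv]
      exact mk_mem_maximalIdeal (hx₀ d a s ha hs) _
    | zero =>
      rw [vfVal_zero]
      exact zero_mem _
    | add y z _ _ hy hz =>
      rw [vfVal_add]
      exact add_mem hy hz
    | smul c y _ hy =>
      rw [vfVal_smul]
      exact Ideal.mul_mem_left _ _ hy
  exact key _

end Groth.Agent.H2.Euler
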