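import Groth.Agent.Lib.Helper2.Exchange1

/-!
# Steinitz exchange for generators of an ideal generated by a regular sequence (helper2)
-/

namespace Groth.Agent.H2.QuasiReg

universe u

variable {A : Type u} [CommRing A]

/-- In the expression of `b m` in terms of a generating tuple `g` agreeing with `b` before `m`,
some coefficient at an index `≥ m` is a unit. -/
theorem exists_isUnit_coeff [IsLocalRing A] {n : ℕ} (b g : Fin n → A)
    (hb : RingTheory.Sequence.IsWeaklyRegular A (List.ofFn b))
    (hI : Ideal.span (Set.range b) ≤ IsLocalRing.maximalIdeal A)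
    (hg : Ideal.span (Set.range g) = Ideal.span (Set.range b)) (m : Fin n)
    (hagree : ∀ i : Fin n, i < m → g i = b i) (c : Fin n → A)
    (hc : ∑ i, c i * g i = b m) : ∃ j : Fin n, m ≤ j ∧ IsUnit (c j) := by
  classical
  by_contra hcon
  push Not at hcon
  have hcm : ∀ j : Fin n, m ≤ j → c j ∈ IsLocalRing.maximalIdeal A := fun j hj =>
    (IsLocalRing.mem_maximalIdeal _).mpr (hcon j hj)
  have he : ∀ i : Fin n, ∃ r : Fin n → A, ∑ k, r k * b k = g i := fun i =>
    Ideal.mem_span_range_iff_exists_fun.mp (hg ▸ Ideal.subset_span (Set.mem_range_self i))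
  choose e0 he0 using he
  set e : Fin n → Fin n → A := fun i => if i < m then Pi.single i 1 else e0 i with hedef
  have he : ∀ i, ∑ k, e i k * b k = g i := by
    intro i
    by_cases him : i < m
    · simp only [hedef, if_pos him]
      rw [Finset.sum_eq_single i]
      · simp [hagree i him]
      · intro k _ hk
        rw [Pi.single_eq_of_ne hk, zero_mul]
      · intro h; exact absurd (Finset.mem_univ i) h
    · simp only [hedef, if_neg him]
      exact he0 i
  set coef : Fin n → A := fun k => ∑ i, c i * e i k - (if k = m then 1 else 0) with hcoef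
  have hsum : ∑ k, coef k * b k = 0 := by
    simp only [hcoef, sub_mul, Finset.sum_sub_distrib, Finset.sum_mul, ite_mul, one_mul, zero_mul,
      Finset.sum_ite_eq', Finset.mem_univ, if_true]
    rw [Finset.sum_comm, sub_eq_zero, ← hc]
    refine Finset.sum_congr rfl (fun i _ => ?_)
    rw [← he i, Finset.mul_sum]
    refine Finset.sum_congr rfl (fun k _ => ?_)
    ring
  have h1 := coeff_mem_of_sum_mem_sq b hb coef (by rw [hsum]; exact zero_mem _) m
  have h2 : ∑ i, c i * e i m ∈ IsLocalRing.maximalIdeal A := by
    refine Ideal.sum_mem _ (fun i _ => ?_)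
    by_cases him : i < m
    · simp only [hedef, if_pos him]
      rw [Pi.single_eq_of_ne (ne_of_gt him), mul_zero]
      exact zero_mem _
    · exact Ideal.mul_mem_right _ _ (hcm i (not_lt.mp him))
  have h3 : (1 : A) ∈ IsLocalRing.maximalIdeal A := by
    have := sub_mem h2 (hI h1)
    simp only [hcoef, if_true] at this
    simpa using this
  exact (Ideal.ne_top_iff_one _).mp (IsLocalRing.maximalIdeal.isMaximal A).ne_top h3

theorem reach_of_agree [IsLocalRing A] {n : ℕ} (b : Fin n → A)
    (hb : RingTheory.Sequence.IsWeaklyRegular A (List.ofFn b))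
    (hI : Ideal.span (Set.range b) ≤ IsLocalRing.maximalIdeal A) :
    ∀ (d m : ℕ), m + d = n → ∀ g : Fin n → A,
      Ideal.span (Set.range g) = Ideal.span (Set.range b) →
      (∀ i : Fin n, (i : ℕ) < m → g i = b i) → ReachF (Ideal.span (Set.range b)) g b := by
  classical
  intro d
  induction d with
  | zero =>
    intro m hm g _ hagree
    have : g = b := funext (fun i => hagree i (by have := i.2; omega))
    rw [this]
    exact Relation.ReflTransGen.refl
  | succ d ih =>
    intro m hm g hg hagree
    have hmn : m < n := by omega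
    set mm : Fin n := ⟨m, hmn⟩ with hmm
    obtain ⟨c, hc⟩ := Ideal.mem_span_range_iff_exists_fun.mp
      (hg ▸ Ideal.subset_span (Set.mem_range_self mm) : b mm ∈ Ideal.span (Set.range g))
    obtain ⟨j, hmj, hu⟩ := exists_isUnit_coeff b g hb hI hg mm
      (fun i hi => hagree i hi) c hc
    set σ : Equiv.Perm (Fin n) := Equiv.swap mm j with hσ
    have hg' : Ideal.span (Set.range (g ∘ σ)) = Ideal.span (Set.range b) := by
      rw [span_range_comp_perm, hg]
    have hc' : b mm = ∑ i, (c ∘ σ) i * (g ∘ σ) i := by
      rw [← hc]
      exact (Equiv.sum_comp σ (fun i => c i * g i)).symm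
    have hu' : IsUnit ((c ∘ σ) mm) := by
      simp only [Function.comp_apply, hσ, Equiv.swap_apply_left]
      exact hu
    have hg'' : Ideal.span (Set.range (Function.update (g ∘ σ) mm (b mm))) =
        Ideal.span (Set.range b) := by
      rw [span_update_eq (g ∘ σ) mm (b mm) (c ∘ σ) hc' hu', hg']
    have hagree'' : ∀ i : Fin n, (i : ℕ) < m + 1 →
        Function.update (g ∘ σ) mm (b mm) i = b i := by
      intro i hi
      by_cases him : i = mm
      · rw [him, Function.update_self]
      · rw [Function.update_of_ne him]
        have hlt : (i : ℕ) < m := by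
          have : (i : ℕ) ≠ m := fun h => him (Fin.ext h)
          omega
        have h1 : i ≠ j := by
          intro h
          rw [h] at hlt
          have : m ≤ (j : ℕ) := hmj
          omega
        simp only [Function.comp_apply, hσ, Equiv.swap_apply_of_ne_of_ne him h1]
        exact hagree i hlt
    refine Relation.ReflTransGen.trans (Relation.ReflTransGen.single
      (b := g ∘ σ) ⟨Or.inl ⟨σ, rfl⟩, hg'⟩) ?_
    refine Relation.ReflTransGen.trans (reach_update _ (g ∘ σ) mm (b mm) hg'' hg') ?_
    exact ih (m + 1) (by omega) _ hg'' hagree''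

end Groth.Agent.H2.QuasiReg
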