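import Mathlib

/-!
# Regular sequences are of linear type (helper2)

`RelReg n 𝔞 b`: the sequence `b 0, …, b (n-1)` is regular relative to the ideal `𝔞`.
`Jb b`: the ideal of `A[X₀..Xₙ₋₁]` generated by `b i X j - b j X i`.
`rel_rees`: if `b` is regular relative to `𝔞`, `F` is homogeneous and `F(b) ∈ 𝔞`,
then `F ∈ Jb b + 𝔞[X]`.
-/

namespace Groth.Agent.H2.QuasiReg

open MvPolynomial

variable {A : Type*} [CommRing A]


/-- Relative regularity: `b 0` is a nonzerodivisor modulo `𝔞`, `b 1` modulo `𝔞 + (b 0)`, … -/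
def RelReg : (n : ℕ) → Ideal A → (Fin n → A) → Prop
  | 0, _, _ => True
  | n + 1, 𝔞, b => (∀ y, b 0 * y ∈ 𝔞 → y ∈ 𝔞) ∧ RelReg n (𝔞 ⊔ Ideal.span {b 0}) (Fin.tail b)

/-- Non-recursive form. -/
def PrefReg {n : ℕ} (𝔞 : Ideal A) (b : Fin n → A) : Prop :=
  ∀ i : Fin n, ∀ y, b i * y ∈ 𝔞 ⊔ Ideal.span (b '' Set.Iio i) →
    y ∈ 𝔞 ⊔ Ideal.span (b '' Set.Iio i)

theorem image_Iio_succ {n : ℕ} (b : Fin (n + 1) → A) (i : Fin n) :
    b '' Set.Iio i.succ = insert (b 0) (Fin.tail b '' Set.Iio i) := by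
  ext x
  simp only [Set.mem_image, Set.mem_Iio, Set.mem_insert_iff]
  constructor
  · rintro ⟨j, hj, rfl⟩
    induction j using Fin.cases with
    | zero => left; rfl
    | succ k => right; exact ⟨k, Fin.succ_lt_succ_iff.mp hj, rfl⟩
  · rintro (rfl | ⟨k, hk, rfl⟩)
    · exact ⟨0, Fin.succ_pos i, rfl⟩
    · exact ⟨k.succ, Fin.succ_lt_succ_iff.mpr hk, rfl⟩

theorem PrefReg.relReg : ∀ {n : ℕ} {𝔞 : Ideal A} {b : Fin n → A}, PrefReg 𝔞 b → RelReg n 𝔞 b
  | 0, _, _, _ => trivial
  | n + 1, 𝔞, b, h => by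
    refine ⟨?_, PrefReg.relReg ?_⟩
    · intro y hy
      have h0 : b '' Set.Iio (0 : Fin (n + 1)) = ∅ := by
        ext x; simp
      have := h 0 y
      rw [h0, Ideal.span_empty, sup_bot_eq] at this
      exact this hy
    · intro i y hy
      have := h i.succ y
      rw [image_Iio_succ, Ideal.span_insert, ← sup_assoc] at this
      exact this hy

theorem prefReg_of_isWeaklyRegular {n : ℕ} (a : Fin n → A)
    (ha : RingTheory.Sequence.IsWeaklyRegular A (List.ofFn a)) : PrefReg ⊥ a := by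
  intro i y hy
  have hlen : (i : ℕ) < (List.ofFn a).length := by simp
  have h1 := ha.regular_mod_prev i hlen
  rw [isSMulRegular_quotient_iff_mem_of_smul_mem] at h1
  have hset : (Ideal.ofList ((List.ofFn a).take i) • ⊤ : Submodule A A)
      = Ideal.span (a '' Set.Iio i) := by
    rw [smul_eq_mul, Ideal.mul_top]
    unfold Ideal.ofList
    congr 1
    ext x
    simp only [Set.mem_ofPred_eq, Set.mem_image, Set.mem_Iio]
    rw [List.mem_take_iff_getElem]
    constructor
    · rintro ⟨j, hj, rfl⟩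
      simp only [List.length_ofFn, lt_inf_iff] at hj
      exact ⟨⟨j, hj.2⟩, hj.1, by simp⟩
    · rintro ⟨j, hj, rfl⟩
      refine ⟨j, ?_, by simp⟩
      simp only [List.length_ofFn, lt_inf_iff]
      exact ⟨hj, j.2⟩
  rw [hset] at h1
  rw [bot_sup_eq] at hy ⊢
  apply h1 y
  simpa using hy

theorem relReg_of_isWeaklyRegular {n : ℕ} (a : Fin n → A)
    (ha : RingTheory.Sequence.IsWeaklyRegular A (List.ofFn a)) : RelReg n ⊥ a :=
  (prefReg_of_isWeaklyRegular a ha).relReg



/-- The ideal generated by the `2 × 2` "Koszul" relations `b i X j - b j X i`. -/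
noncomputable def Jb {n : ℕ} (b : Fin n → A) : Ideal (MvPolynomial (Fin n) A) :=
  Ideal.span {q | ∃ i j : Fin n, q = C (b i) * X j - C (b j) * X i}

theorem gen_mem_Jb {n : ℕ} (b : Fin n → A) (i j : Fin n) :
    C (b i) * X j - C (b j) * X i ∈ Jb b :=
  Ideal.subset_span ⟨i, j, rfl⟩

theorem aeval_mem_of_mem {n : ℕ} (b : Fin n → A) (𝔞 : Ideal A) {q : MvPolynomial (Fin n) A}
    (hq : q ∈ Jb b ⊔ Ideal.map C 𝔞) : aeval b q ∈ 𝔞 := by
  have hle : Jb b ⊔ Ideal.map C 𝔞 ≤ Ideal.comap (aeval b : MvPolynomial (Fin n) A →ₐ[A] A) 𝔞 := by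
    refine sup_le ?_ ?_
    · refine Ideal.span_le.mpr ?_
      rintro q ⟨i, j, rfl⟩
      simp only [SetLike.mem_coe, Ideal.mem_comap, map_sub, map_mul, aeval_C, aeval_X,
        Algebra.algebraMap_self, RingHom.id_apply]
      rw [mul_comm, sub_self]
      exact 𝔞.zero_mem
    · rw [Ideal.map_le_iff_le_comap]
      intro x hx
      simpa [Ideal.mem_comap] using hx
  exact hle hq

attribute [local instance] MvPolynomial.gradedAlgebra

theorem isHomogeneous_Jb {n : ℕ} (b : Fin n → A) :
    (Jb b).IsHomogeneous (homogeneousSubmodule (Fin n) A) := by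
  refine Ideal.homogeneous_span _ _ ?_
  rintro q ⟨i, j, rfl⟩
  refine ⟨1, ?_⟩
  rw [mem_homogeneousSubmodule]
  exact ((isHomogeneous_X A j).C_mul _).sub ((isHomogeneous_X A i).C_mul _)

theorem isHomogeneous_map_C {n : ℕ} (𝔞 : Ideal A) :
    (Ideal.map (C : A →+* MvPolynomial (Fin n) A) 𝔞).IsHomogeneous
      (homogeneousSubmodule (Fin n) A) := by
  refine Ideal.homogeneous_span _ _ ?_
  rintro q ⟨x, -, rfl⟩
  exact ⟨0, (mem_homogeneousSubmodule _ _).mpr (isHomogeneous_C _ x)⟩

theorem isHomogeneous_K {n : ℕ} (b : Fin n → A) (𝔞 : Ideal A) :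
    (Jb b ⊔ Ideal.map C 𝔞).IsHomogeneous (homogeneousSubmodule (Fin n) A) :=
  (isHomogeneous_Jb b).sup (isHomogeneous_map_C 𝔞)

theorem rename_succ_mem {n : ℕ} (b : Fin (n + 1) → A) (𝔞 : Ideal A)
    {q : MvPolynomial (Fin n) A} (hq : q ∈ Jb (Fin.tail b) ⊔ Ideal.map C 𝔞) :
    rename Fin.succ q ∈ Jb b ⊔ Ideal.map C 𝔞 := by
  have hle : Jb (Fin.tail b) ⊔ Ideal.map C 𝔞 ≤
      Ideal.comap (rename Fin.succ : MvPolynomial (Fin n) A →ₐ[A] MvPolynomial (Fin (n + 1)) A)
        (Jb b ⊔ Ideal.map C 𝔞) := by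
    refine sup_le ?_ ?_
    · refine Ideal.span_le.mpr ?_
      rintro q ⟨i, j, rfl⟩
      simp only [SetLike.mem_coe, Ideal.mem_comap, map_sub, map_mul, rename_C, rename_X]
      exact Ideal.mem_sup_left (gen_mem_Jb b i.succ j.succ)
    · rw [Ideal.map_le_iff_le_comap]
      intro x hx
      simp only [Ideal.mem_comap, rename_C]
      exact Ideal.mem_sup_right (Ideal.mem_map_of_mem _ hx)
  exact hle hq

/-- Peel off the `b 0`-part. -/
theorem exists_sub_mem {n : ℕ} (b : Fin (n + 1) → A) (𝔞 : Ideal A)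
    {G : MvPolynomial (Fin n) A}
    (hG : G ∈ Jb (Fin.tail b) ⊔ Ideal.map C (𝔞 ⊔ Ideal.span {b 0})) :
    ∃ G₁, G - C (b 0) * G₁ ∈ Jb (Fin.tail b) ⊔ Ideal.map C 𝔞 := by
  rw [Ideal.map_sup, Ideal.map_span, Set.image_singleton, ← sup_assoc] at hG
  obtain ⟨u, hu, v, hv, rfl⟩ := Submodule.mem_sup.mp hG
  obtain ⟨G₁, rfl⟩ := Ideal.mem_span_singleton'.mp hv
  refine ⟨G₁, ?_⟩
  have : u + G₁ * C (b 0) - C (b 0) * G₁ = u := by ring
  rw [this]
  exact hu

/-- Same with `G₁` homogeneous. -/
theorem exists_sub_mem_hom {n : ℕ} (b : Fin (n + 1) → A) (𝔞 : Ideal A) (d : ℕ)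
    {G : MvPolynomial (Fin n) A} (hGd : G.IsHomogeneous d)
    (hG : G ∈ Jb (Fin.tail b) ⊔ Ideal.map C (𝔞 ⊔ Ideal.span {b 0})) :
    ∃ G₁, G₁.IsHomogeneous d ∧ G - C (b 0) * G₁ ∈ Jb (Fin.tail b) ⊔ Ideal.map C 𝔞 := by
  obtain ⟨G₁, h⟩ := exists_sub_mem b 𝔞 hG
  refine ⟨homogeneousComponent d G₁, homogeneousComponent_isHomogeneous d G₁, ?_⟩
  have h2 := homogeneousComponent_mem_of_mem (isHomogeneous_K (Fin.tail b) 𝔞) h d
  rw [map_sub, homogeneousComponent_C_mul, homogeneousComponent_eq_self hGd] at h2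
  exact h2



theorem isHomogeneous_of_X_mul {σ : Type*} {i : σ} {H : MvPolynomial σ A} {d : ℕ}
    (h : (X i * H).IsHomogeneous (d + 1)) : H.IsHomogeneous d := by
  intro m hm
  have h1 : coeff (Finsupp.single i 1 + m) (X i * H) ≠ 0 := by rwa [coeff_X_mul]
  have h2 := h h1
  rw [map_add, Finsupp.weight_single] at h2
  simp only [Pi.one_apply, smul_eq_mul, mul_one] at h2
  omega

theorem exists_split {n d : ℕ} (F : MvPolynomial (Fin (n + 1)) A) (hF : F.IsHomogeneous (d + 1)) :
    ∃ (G : MvPolynomial (Fin n) A) (H : MvPolynomial (Fin (n + 1)) A),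
      G.IsHomogeneous (d + 1) ∧ H.IsHomogeneous d ∧ F = rename Fin.succ G + X 0 * H := by
  set g : Fin (n + 1) → MvPolynomial (Fin n) A := Fin.cons 0 X with hg
  have hG : (aeval g F).IsHomogeneous (d + 1) := by
    have := hF.aeval (n := 1) g (by
      intro i
      induction i using Fin.cases with
      | zero => simp only [hg, Fin.cons_zero]; exact isHomogeneous_zero _ _ _
      | succ j => simp only [hg, Fin.cons_succ]; exact isHomogeneous_X _ _)
    simpa using this
  have hmem : F - rename Fin.succ (aeval g F) ∈ Ideal.span {(X 0 : MvPolynomial (Fin (n + 1)) A)} := by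
    rw [← Ideal.Quotient.eq]
    have hext : (Ideal.Quotient.mkₐ A (Ideal.span {(X 0 : MvPolynomial (Fin (n + 1)) A)})).comp
        (AlgHom.id A _) = (Ideal.Quotient.mkₐ A (Ideal.span {(X 0 : MvPolynomial (Fin (n + 1)) A)})).comp
        ((rename Fin.succ).comp (aeval g)) := by
      apply MvPolynomial.algHom_ext
      intro i
      induction i using Fin.cases with
      | zero =>
        simp only [AlgHom.comp_apply, AlgHom.id_apply, aeval_X, hg, Fin.cons_zero, map_zero]
        rw [Ideal.Quotient.mkₐ_eq_mk, Ideal.Quotient.eq_zero_iff_mem]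
        exact Ideal.subset_span rfl
      | succ j =>
        simp only [AlgHom.comp_apply, AlgHom.id_apply, aeval_X, hg, Fin.cons_succ, rename_X]
    exact DFunLike.congr_fun hext F
  obtain ⟨H, hH⟩ := Ideal.mem_span_singleton'.mp hmem
  have hFe : F = rename Fin.succ (aeval g F) + X 0 * H := by
    rw [mul_comm, hH]; ring
  refine ⟨aeval g F, H, hG, ?_, hFe⟩
  apply isHomogeneous_of_X_mul (i := (0 : Fin (n + 1)))
  rw [mul_comm, hH]
  exact hF.sub hG.rename_isHomogeneous

/-- The submodule of polynomials `G` in `n` variables such that `b 0 * G(X₁..Xₙ) ≡ X₀ * G₂` modulo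
`Jb b`, for some `G₂` homogeneous of degree `d`. -/
noncomputable def shiftSub {n : ℕ} (b : Fin (n + 1) → A) (d : ℕ) :
    Submodule A (MvPolynomial (Fin n) A) where
  carrier := {G | ∃ G₂ : MvPolynomial (Fin (n + 1)) A, G₂.IsHomogeneous d ∧
    C (b 0) * rename Fin.succ G - X 0 * G₂ ∈ Jb b}
  add_mem' := by
    rintro G G' ⟨G₂, h₂, h⟩ ⟨G₂', h₂', h'⟩
    refine ⟨G₂ + G₂', h₂.add h₂', ?_⟩
    have : C (b 0) * rename Fin.succ (G + G') - X 0 * (G₂ + G₂') =
        (C (b 0) * rename Fin.succ G - X 0 * G₂) +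
          (C (b 0) * rename Fin.succ G' - X 0 * G₂') := by
      rw [map_add]; ring
    rw [this]; exact add_mem h h'
  zero_mem' := ⟨0, isHomogeneous_zero _ _ _, by simp⟩
  smul_mem' := by
    rintro c G ⟨G₂, h₂, h⟩
    refine ⟨C c * G₂, h₂.C_mul c, ?_⟩
    have : C (b 0) * rename Fin.succ (c • G) - X 0 * (C c * G₂) =
        C c * (C (b 0) * rename Fin.succ G - X 0 * G₂) := by
      rw [smul_eq_C_mul, map_mul, rename_C]; ring
    rw [this]; exact Ideal.mul_mem_left _ _ h

theorem homogeneousSubmodule_le_shiftSub {n : ℕ} (b : Fin (n + 1) → A) (d : ℕ) :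
    homogeneousSubmodule (Fin n) A (d + 1) ≤ shiftSub b d := by
  rw [← homogeneousSubmodule_one_pow (σ := Fin n) (R := A) (n := d + 1), pow_succ, homogeneousSubmodule_one_pow]
  rw [Submodule.mul_le]
  intro m hm ℓ hℓ
  rw [homogeneousSubmodule_one_eq_span_X] at hℓ
  induction hℓ using Submodule.span_induction with
  | mem x hx =>
    obtain ⟨j, rfl⟩ := hx
    refine ⟨C (b j.succ) * rename Fin.succ m, ?_, ?_⟩
    · exact ((mem_homogeneousSubmodule _ _).mp hm).rename_isHomogeneous.C_mul _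
    · have : C (b 0) * rename Fin.succ (m * X j) - X 0 * (C (b j.succ) * rename Fin.succ m) =
          rename Fin.succ m * (C (b 0) * X j.succ - C (b j.succ) * X 0) := by
        rw [map_mul, rename_X]; ring
      rw [this]
      exact Ideal.mul_mem_left _ _ (gen_mem_Jb b 0 j.succ)
  | zero => rw [mul_zero]; exact zero_mem _
  | add x y _ _ hx hy => rw [mul_add]; exact add_mem hx hy
  | smul c x _ hx => rw [mul_smul_comm]; exact Submodule.smul_mem _ c hx

theorem exists_shift {n : ℕ} (b : Fin (n + 1) → A) (d : ℕ) {G : MvPolynomial (Fin n) A}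
    (hG : G.IsHomogeneous (d + 1)) :
    ∃ G₂ : MvPolynomial (Fin (n + 1)) A, G₂.IsHomogeneous d ∧
      C (b 0) * rename Fin.succ G - X 0 * G₂ ∈ Jb b :=
  homogeneousSubmodule_le_shiftSub b d ((mem_homogeneousSubmodule _ _).mpr hG)


/-- **Regular sequences are of linear type (relative version).** -/
theorem rel_rees : ∀ (n : ℕ) (𝔞 : Ideal A) (b : Fin n → A), RelReg n 𝔞 b →
    ∀ (d : ℕ) (F : MvPolynomial (Fin n) A), F.IsHomogeneous d → aeval b F ∈ 𝔞 →
      F ∈ Jb b ⊔ Ideal.map C 𝔞 := by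
  intro n
  induction n with
  | zero =>
    intro 𝔞 b _ d F _ hev
    rw [eq_C_of_isEmpty F] at hev ⊢
    rw [aeval_C] at hev
    exact Ideal.mem_sup_right (Ideal.mem_map_of_mem _ hev)
  | succ n ih =>
    intro 𝔞 b hb d
    obtain ⟨h0, hrec⟩ := hb
    induction d with
    | zero =>
      intro F hF hev
      have hF' : F = C (coeff 0 F) := by
        rw [← totalDegree_eq_zero_iff_eq_C]
        exact Nat.le_zero.mp hF.totalDegree_le
      rw [hF'] at hev ⊢
      rw [aeval_C] at hev
      exact Ideal.mem_sup_right (Ideal.mem_map_of_mem _ hev)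
    | succ d ihd =>
      intro F hF hev
      obtain ⟨G, H, hG, hH, rfl⟩ := exists_split F hF
      have e : aeval b (rename Fin.succ G + X 0 * H) =
          aeval (Fin.tail b) G + b 0 * aeval b H := by
        rw [map_add, map_mul, aeval_X, aeval_rename]; rfl
      have hGev : aeval (Fin.tail b) G ∈ 𝔞 ⊔ Ideal.span {b 0} := by
        have h1 : aeval (Fin.tail b) G =
            (aeval (Fin.tail b) G + b 0 * aeval b H) - b 0 * aeval b H := by ring
        rw [h1]
        exact sub_mem (Ideal.mem_sup_left (e ▸ hev))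
          (Ideal.mem_sup_right (Ideal.mul_mem_right _ _ (Ideal.mem_span_singleton_self _)))
      have hGK := ih (𝔞 ⊔ Ideal.span {b 0}) (Fin.tail b) hrec (d + 1) G hG hGev
      obtain ⟨G₁, hG₁, hG₁mem⟩ := exists_sub_mem_hom b 𝔞 (d + 1) hG hGK
      obtain ⟨G₂, hG₂, hG₂mem⟩ := exists_shift b d hG₁
      have key1 : rename Fin.succ (G - C (b 0) * G₁) ∈ Jb b ⊔ Ideal.map C 𝔞 :=
        rename_succ_mem b 𝔞 hG₁mem
      have key2 : C (b 0) * rename Fin.succ G₁ - X 0 * G₂ ∈ Jb b ⊔ Ideal.map C 𝔞 :=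
        Ideal.mem_sup_left hG₂mem
      have hsum : rename Fin.succ G + X 0 * H = (rename Fin.succ (G - C (b 0) * G₁) +
          (C (b 0) * rename Fin.succ G₁ - X 0 * G₂)) + X 0 * (G₂ + H) := by
        rw [map_sub, map_mul, rename_C]; ring
      have hev2 : b 0 * aeval b (G₂ + H) ∈ 𝔞 := by
        have h1 := aeval_mem_of_mem b 𝔞 (add_mem key1 key2)
        have e2 : b 0 * aeval b (G₂ + H) = aeval b (rename Fin.succ G + X 0 * H) -
            aeval b (rename Fin.succ (G - C (b 0) * G₁) +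
              (C (b 0) * rename Fin.succ G₁ - X 0 * G₂)) := by
          rw [hsum, map_add _ (_ + _) (X 0 * (G₂ + H)), map_mul, aeval_X]; ring
        rw [e2]; exact sub_mem hev h1
      have h3 := h0 _ hev2
      have h4 := ihd (G₂ + H) (hG₂.add hH) h3
      rw [hsum]
      exact add_mem (add_mem key1 key2) (Ideal.mul_mem_left _ _ h4)

/-- Absolute version: for a weakly regular sequence `a`, a homogeneous polynomial vanishing at `a`
lies in the ideal generated by the `a i X j - a j X i`. -/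
theorem rees_of_isWeaklyRegular {n : ℕ} (a : Fin n → A)
    (ha : RingTheory.Sequence.IsWeaklyRegular A (List.ofFn a)) {d : ℕ}
    {F : MvPolynomial (Fin n) A} (hF : F.IsHomogeneous d) (hev : aeval a F = 0) :
    F ∈ Jb a := by
  have := rel_rees n ⊥ a (relReg_of_isWeaklyRegular a ha) d F hF (by rw [hev]; exact zero_mem _)
  rwa [Ideal.map_bot, sup_bot_eq] at this

theorem aeval_mul_X_of_isHomogeneous {n d : ℕ} (a : Fin n → A) {F : MvPolynomial (Fin n) A}
    (hF : F.IsHomogeneous d) :
    aeval (fun i : Fin n => Polynomial.C (a i) * (Polynomial.X : Polynomial A)) F =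
      Polynomial.C (aeval a F) * Polynomial.X ^ d := by
  induction hF using IsWeightedHomogeneous.induction_on with
  | zero => simp
  | add p q _ _ hp hq => rw [map_add, map_add, hp, hq, map_add, add_mul]
  | monomial m r hr =>
    rw [aeval_monomial, aeval_monomial]
    simp only [Algebra.algebraMap_self, RingHom.id_apply, Polynomial.algebraMap_apply]
    rw [map_mul, mul_assoc]
    congr 1
    rw [Finsupp.weight_apply] at hr
    simp only [Pi.one_apply, smul_eq_mul, mul_one] at hr
    rw [← hr]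
    unfold Finsupp.prod Finsupp.sum
    rw [map_prod, ← Finset.prod_pow_eq_pow_sum, ← Finset.prod_mul_distrib]
    refine Finset.prod_congr rfl (fun i _ => ?_)
    simp only [mul_pow, map_pow]

theorem Jb_le_map_C {n : ℕ} (a : Fin n → A) :
    Jb a ≤ Ideal.map C (Ideal.span (Set.range a)) := by
  refine Ideal.span_le.mpr ?_
  rintro q ⟨i, j, rfl⟩
  have h : ∀ i : Fin n, (C (a i) : MvPolynomial (Fin n) A) ∈
      Ideal.map C (Ideal.span (Set.range a)) :=
    fun i => Ideal.mem_map_of_mem _ (Ideal.subset_span (Set.mem_range_self i))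
  exact sub_mem (Ideal.mul_mem_right _ _ (h i)) (Ideal.mul_mem_right _ _ (h j))

/-- Quasi-regularity in degree one: if `∑ c i * a i ∈ J ^ 2` then all `c i ∈ J`. -/
theorem coeff_mem_of_sum_mem_sq {n : ℕ} (a : Fin n → A)
    (ha : RingTheory.Sequence.IsWeaklyRegular A (List.ofFn a)) (c : Fin n → A)
    (hc : ∑ i, c i * a i ∈ Ideal.span (Set.range a) ^ 2) (i : Fin n) :
    c i ∈ Ideal.span (Set.range a) := by
  classical
  rw [pow_two] at hc
  have hc' : ∑ i, c i * a i ∈ Ideal.span (Set.range a) • Submodule.span A (Set.range a) := hc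
  rw [Submodule.mem_ideal_smul_span_iff_exists_sum] at hc'
  obtain ⟨q, hq, hqs⟩ := hc'
  rw [Finsupp.sum_fintype _ _ (by simp)] at hqs
  set F : MvPolynomial (Fin n) A := ∑ j, C (c j - q j) * X j with hFdef
  have hF : F.IsHomogeneous 1 := IsHomogeneous.sum _ _ _ (fun j _ => isHomogeneous_C_mul_X _ _)
  have hev : aeval a F = 0 := by
    simp only [hFdef, map_sum, map_mul, aeval_C, aeval_X, Algebra.algebraMap_self,
      RingHom.id_apply, sub_mul, Finset.sum_sub_distrib]
    rw [sub_eq_zero, ← hqs]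
    simp [smul_eq_mul]
  have hmem := Jb_le_map_C a (rees_of_isWeaklyRegular a ha hF hev)
  rw [mem_map_C_iff] at hmem
  have h1 := hmem (Finsupp.single i 1)
  have h2 : coeff (Finsupp.single i 1) F = c i - q i := by
    simp only [hFdef, coeff_sum, coeff_C_mul, coeff_X, Finsupp.single_left_inj one_ne_zero]
    simp
  rw [h2] at h1
  have := add_mem h1 (hq i)
  simpa using this

theorem aeval_mul_of_isHomogeneous {σ : Type*} {S : Type*} [CommRing S] [Algebra A S] {d : ℕ}
    (r : S) (s : σ → S) {P : MvPolynomial σ A} (hP : P.IsHomogeneous d) :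
    aeval (fun i => r * s i) P = r ^ d * aeval s P := by
  induction hP using IsWeightedHomogeneous.induction_on with
  | zero => simp
  | add p q _ _ hp hq => rw [map_add, map_add, hp, hq, mul_add]
  | monomial m c hr =>
    rw [aeval_monomial, aeval_monomial, mul_left_comm]
    congr 1
    rw [Finsupp.weight_apply] at hr
    simp only [Pi.one_apply, smul_eq_mul, mul_one] at hr
    rw [← hr]
    unfold Finsupp.prod Finsupp.sum
    rw [← Finset.prod_pow_eq_pow_sum, ← Finset.prod_mul_distrib]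
    refine Finset.prod_congr rfl (fun i _ => ?_)
    simp only [mul_pow]

/-- Homogenization with respect to a new variable `X 0`. -/
noncomputable def homog {n : ℕ} (F : MvPolynomial (Fin n) A) : MvPolynomial (Fin (n + 1)) A :=
  ∑ m ∈ F.support,
    monomial (Finsupp.cons (F.totalDegree - (m.sum fun _ e => e)) m) (coeff m F)

theorem homog_isHomogeneous {n : ℕ} (F : MvPolynomial (Fin n) A) :
    (homog F).IsHomogeneous F.totalDegree := by
  apply IsHomogeneous.sum
  intro m hm
  apply isHomogeneous_monomial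
  change ((Finsupp.cons _ m).sum fun _ e => e) = _
  rw [Finsupp.sum_cons]
  have := le_totalDegree hm
  omega

theorem aeval_cons_one_monomial {n : ℕ} (k : ℕ) (m : Fin n →₀ ℕ) (c : A) :
    aeval (Fin.cons 1 X : Fin (n + 1) → MvPolynomial (Fin n) A) (monomial (Finsupp.cons k m) c) =
      monomial m c := by
  rw [aeval_monomial, monomial_eq, Finsupp.prod_fintype _ _ (by simp),
    Finsupp.prod_fintype _ _ (by simp), Fin.prod_univ_succ]
  simp only [Fin.cons_zero, Finsupp.cons_zero, one_pow, one_mul, Fin.cons_succ, Finsupp.cons_succ]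
  rfl

theorem aeval_cons_one_homog {n : ℕ} (F : MvPolynomial (Fin n) A) :
    aeval (Fin.cons 1 X : Fin (n + 1) → MvPolynomial (Fin n) A) (homog F) = F := by
  unfold homog
  rw [map_sum]
  simp only [aeval_cons_one_monomial]
  exact support_sum_monomial_coeff F

theorem dehomog_Jb_le {n : ℕ} (a : Fin (n + 1) → A) :
    Jb a ≤ Ideal.comap (aeval (Fin.cons 1 X : Fin (n + 1) → MvPolynomial (Fin n) A))
      (Ideal.span (Set.range fun i : Fin n =>
        (C (a 0) * X i - C (a i.succ) : MvPolynomial (Fin n) A))) := by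
  set L := Ideal.span (Set.range fun i : Fin n =>
    (C (a 0) * X i - C (a i.succ) : MvPolynomial (Fin n) A)) with hL
  set t' : Fin (n + 1) → MvPolynomial (Fin n) A := Fin.cons 1 X with ht'
  have hℓ : ∀ j : Fin (n + 1), C (a 0) * t' j - C (a j) ∈ L := by
    intro j
    induction j using Fin.cases with
    | zero => simp [ht']
    | succ k => simp only [ht', Fin.cons_succ]; exact Ideal.subset_span ⟨k, rfl⟩
  refine Ideal.span_le.mpr ?_
  rintro q ⟨i, j, rfl⟩
  simp only [SetLike.mem_coe, Ideal.mem_comap, map_sub, map_mul, aeval_C, aeval_X, algebraMap_eq]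
  have : C (a i) * t' j - C (a j) * t' i =
      t' i * (C (a 0) * t' j - C (a j)) - t' j * (C (a 0) * t' i - C (a i)) := by ring
  rw [this]
  exact sub_mem (Ideal.mul_mem_left _ _ (hℓ j)) (Ideal.mul_mem_left _ _ (hℓ i))

theorem mem_span_of_aeval_away_eq_zero {n : ℕ} (a : Fin (n + 1) → A)
    (ha : RingTheory.Sequence.IsWeaklyRegular A (List.ofFn a)) (F : MvPolynomial (Fin n) A)
    (hF : aeval (fun i : Fin n => IsLocalization.mk' (Localization.Away (a 0)) (a i.succ)
        (⟨a 0, Submonoid.mem_powers (a 0)⟩ : Submonoid.powers (a 0))) F = 0) :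
    F ∈ Ideal.span (Set.range fun i : Fin n =>
      (C (a 0) * X i - C (a i.succ) : MvPolynomial (Fin n) A)) := by
  set S := Localization.Away (a 0) with hS
  set t : Fin n → S := fun i => IsLocalization.mk' S (a i.succ)
    (⟨a 0, Submonoid.mem_powers (a 0)⟩ : Submonoid.powers (a 0)) with ht
  have h1 : ∀ j, algebraMap A S (a j) =
      algebraMap A S (a 0) * (Fin.cons 1 t : Fin (n + 1) → S) j := by
    intro j
    induction j using Fin.cases with
    | zero => simp
    | succ k =>
      simp only [Fin.cons_succ, ht]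
      rw [IsLocalization.mk'_spec'_mk]
  have h2 : algebraMap A S (aeval a (homog F)) = 0 := by
    rw [← aeval_algebraMap_apply]
    have e : (algebraMap A S ∘ a) =
        fun j => algebraMap A S (a 0) * (Fin.cons 1 t : Fin (n + 1) → S) j := funext h1
    rw [e, aeval_mul_of_isHomogeneous _ _ (homog_isHomogeneous F)]
    have h3 : aeval (Fin.cons 1 t : Fin (n + 1) → S) (homog F) =
        aeval t (aeval (Fin.cons 1 X : Fin (n + 1) → MvPolynomial (Fin n) A) (homog F)) := by
      rw [← AlgHom.comp_apply]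
      congr 1
      apply algHom_ext
      intro j
      induction j using Fin.cases <;> simp
    rw [h3, aeval_cons_one_homog, hF, mul_zero]
  rw [IsLocalization.map_eq_zero_iff (Submonoid.powers (a 0))] at h2
  obtain ⟨⟨_, k, rfl⟩, hk⟩ := h2
  have hreg := (relReg_of_isWeaklyRegular a ha).1
  have hpow : ∀ (k : ℕ) (y : A), a 0 ^ k * y = 0 → y = 0 := by
    intro k
    induction k with
    | zero => intro y hy; simpa using hy
    | succ k ih =>
      intro y hy
      apply ih
      have := hreg (a 0 ^ k * y) (by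
        rw [Ideal.mem_bot, ← mul_assoc, ← pow_succ']; exact hy)
      simpa using this
  have hy : aeval a (homog F) = 0 := hpow k _ hk
  have := dehomog_Jb_le a (rees_of_isWeaklyRegular a ha (homog_isHomogeneous F) hy)
  rw [Ideal.mem_comap, aeval_cons_one_homog] at this
  exact this

end Groth.Agent.H2.QuasiReg
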