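import Groth.Agent.Lib.Helper2.Exchange2
import Groth.Agent.S12482

/-!
# Chains of regular sequences generating the same ideal (helper2)
-/

namespace Groth.Agent.H2.QuasiReg

universe u

variable {A : Type u} [CommRing A]

omit [CommRing A] in
theorem setOf_mem_ofFn {k : ℕ} (g : Fin k → A) : {x | x ∈ List.ofFn g} = Set.range g := by
  ext x
  simp [List.mem_ofFn]

theorem card_eq_of_cotangent_bases {n m : ℕ} (I I' : Ideal A) (h : I = I') (hI : I ≠ ⊤)
    (B₁ : Module.Basis (Fin n) (A ⧸ I) I.Cotangent)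
    (B₂ : Module.Basis (Fin m) (A ⧸ I') I'.Cotangent) : n = m := by
  subst h
  have : Nontrivial (A ⧸ I) := Ideal.Quotient.nontrivial_iff.mpr hI
  have e := B₁.indexEquiv B₂
  simpa using Fintype.card_congr e

theorem stepF_ofFn {n : ℕ} (h h' : Fin n → A) (hs : StepF h h') :
    (List.ofFn h).Perm (List.ofFn h') ∨ ((List.ofFn h).length = (List.ofFn h').length ∧
      (List.ofFn h).dropLast = (List.ofFn h').dropLast) := by
  rcases hs with ⟨σ, rfl⟩ | hs
  · exact Or.inl (σ.ofFn_comp_perm h).symm
  · right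
    refine ⟨by simp, ?_⟩
    cases n with
    | zero => simp
    | succ n' =>
      rw [List.ofFn_succ', List.ofFn_succ', List.concat_eq_append, List.concat_eq_append,
        List.dropLast_concat, List.dropLast_concat]
      congr 1
      funext i
      apply hs
      simp

theorem exists_chain [IsLocalRing A] [IsNoetherianRing A]
    (u v : List A) (hu : RingTheory.Sequence.IsRegular A u) (hv : RingTheory.Sequence.IsRegular A v)
    (huv : Ideal.span {x | x ∈ u} = Ideal.span {x | x ∈ v}) :
    ∃ ws : List (List A), ws.head? = some u ∧ ws.getLast? = some v ∧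
      (∀ w ∈ ws, RingTheory.Sequence.IsRegular A w ∧
        Ideal.span {x | x ∈ w} = Ideal.span {x | x ∈ u}) ∧
      List.IsChain (fun w w' : List A => w.Perm w' ∨
        (w.length = w'.length ∧ w.dropLast = w'.dropLast)) ws := by
  obtain ⟨n, a, rfl⟩ : ∃ (n : ℕ) (a : Fin n → A), u = List.ofFn a :=
    ⟨u.length, u.get, (List.ofFn_get u).symm⟩
  obtain ⟨m, b, rfl⟩ : ∃ (m : ℕ) (b : Fin m → A), v = List.ofFn b :=
    ⟨v.length, v.get, (List.ofFn_get v).symm⟩
  rw [setOf_mem_ofFn, setOf_mem_ofFn] at huv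
  have haI := span_ne_top_of_isRegular a hu
  obtain ⟨B₁, -⟩ := Groth.Agent.S12482.result A n a hu.toIsWeaklyRegular
  obtain ⟨B₂, -⟩ := Groth.Agent.S12482.result A m b hv.toIsWeaklyRegular
  obtain rfl : n = m := card_eq_of_cotangent_bases _ _ huv haI B₁ B₂
  have hbI : Ideal.span (Set.range b) ≤ IsLocalRing.maximalIdeal A :=
    IsLocalRing.le_maximalIdeal (span_ne_top_of_isRegular b hv)
  have hreach := reach_of_agree b hv.toIsWeaklyRegular hbI n 0 (zero_add n) a huv
    (fun i hi => absurd hi (Nat.not_lt_zero _))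
  -- lift to lists
  set R : List A → List A → Prop := fun w w' => w.Perm w' ∨
    (w.length = w'.length ∧ w.dropLast = w'.dropLast) with hR
  set Good : List A → Prop := fun w => RingTheory.Sequence.IsRegular A w ∧
    Ideal.span {x | x ∈ w} = Ideal.span {x | x ∈ List.ofFn a} with hGood
  have hlift : Relation.ReflTransGen (fun w w' => R w w' ∧ Good w') (List.ofFn a) (List.ofFn b) := by
    refine Relation.ReflTransGen.lift (p := fun w w' => R w w' ∧ Good w') List.ofFn ?_ a b hreach
    rintro h h' ⟨hs, hspan⟩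
    refine ⟨stepF_ofFn h h' hs, isRegular_of_span_eq b h' hv hspan.symm, ?_⟩
    rw [setOf_mem_ofFn, setOf_mem_ofFn, hspan, huv]
  obtain ⟨l, hl, hchain, hhead, hlast⟩ := List.exists_isChain_ne_nil_of_relationReflTransGen hlift
  refine ⟨l, ?_, ?_, ?_, ?_⟩
  · rw [List.head?_eq_some_head hl, hhead]
  · rw [List.getLast?_eq_some_getLast hl, hlast]
  · refine List.IsChain.induction Good l hchain (fun x y hxy _ => hxy.2) ?_
    intro lne
    have : l.head lne = List.ofFn a := hhead
    rw [this]
    exact ⟨hu, rfl⟩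
  · exact hchain.imp (fun _ _ h => h.1)

end Groth.Agent.H2.QuasiReg
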