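import Mathlib

set_option autoImplicit false
set_option linter.style.haveILetI false
set_option linter.unusedVariables false
universe u
open CategoryTheory CategoryTheory.Limits AlgebraicGeometry

namespace Groth.Agent.H2.Excision

open AlgebraicGeometry.Scheme.Pullback

lemma subsingleton_spec_tensor {A B S : Scheme.{u}} {f : A ⟶ S} {g : B ⟶ S} (T : Triplet f g)
    (hres : Function.Bijective (f.residueFieldMap T.x)) : Subsingleton ↥(Spec T.tensor) := by
  haveI : IsIso (f.residueFieldMap T.x) :=
    (ConcreteCategory.isIso_iff_bijective _).2 hres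
  haveI : IsIso ((S.residueFieldCongr T.hx).inv ≫ f.residueFieldMap T.x) := inferInstance
  haveI h3 : IsIso (pushout.inr ((S.residueFieldCongr T.hx).inv ≫ f.residueFieldMap T.x)
      ((S.residueFieldCongr T.hy).inv ≫ g.residueFieldMap T.y)) := inferInstance
  haveI : IsIso T.tensorInr := h3
  let e : B.residueField T.y ≅ T.tensor := asIso T.tensorInr
  have hs : Subsingleton ↥(Spec (B.residueField T.y)) :=
    inferInstanceAs (Subsingleton (PrimeSpectrum (B.residueField T.y)))
  have hinj : Function.Injective (Spec.map e.hom) := by
    haveI : IsIso (Spec.map e.hom) := inferInstance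
    exact (Spec.map e.hom).homeomorph.injective
  exact hinj.subsingleton

/-- A point of a fibre product is determined by its projections when one of the residue field
extensions is trivial. -/
lemma pullback_point_ext {A B S : Scheme.{u}} (f : A ⟶ S) (g : B ⟶ S) (t₁ t₂ : ↑(pullback f g))
    (h1 : pullback.fst f g t₁ = pullback.fst f g t₂)
    (h2 : pullback.snd f g t₁ = pullback.snd f g t₂)
    (hres : Function.Bijective (f.residueFieldMap (pullback.fst f g t₂))) : t₁ = t₂ := by
  apply carrierEquiv.injective
  have e : Triplet.ofPoint t₁ = Triplet.ofPoint t₂ := Triplet.ext h1 h2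
  haveI : Subsingleton ↥(Spec (Triplet.ofPoint t₂).tensor) :=
    subsingleton_spec_tensor (Triplet.ofPoint t₂) hres
  exact carrierEquiv_eq_iff.mpr ⟨e, Subsingleton.elim (α := ↥(Spec (Triplet.ofPoint t₂).tensor)) _ _⟩

end Groth.Agent.H2.Excision
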