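import Mathlib
import Groth.Prelude.Def_EtShriek2
import Groth.Agent.Lib.Helper7.Sup1
import Groth.Agent.Lib.Helper2.ExcisionA
import Groth.Agent.Lib.Helper2.FinStalkD

set_option autoImplicit false
set_option linter.style.haveILetI false
set_option linter.unusedVariables false
universe u
open CategoryTheory CategoryTheory.Limits AlgebraicGeometry MorphismProperty TopologicalSpace Opposite

namespace Groth.Agent.H2.Excision

open Groth.Agent.H7.Sup Groth.Agent.H7.ES Groth.Agent.H7.GalCov Groth.Agent.H2.FinStalk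

variable {X : Scheme.{u}} (F : EtCoh.Ab X)

lemma map_comp_apply {U V W : X.Etale} (a : W ⟶ V) (b : V ⟶ U) (s : F.obj.obj (op U)) :
    F.obj.map a.op (F.obj.map b.op s) = F.obj.map (a ≫ b).op s := by
  rw [op_comp, F.obj.map_comp]
  rfl

lemma mem_sectSupp_iff {U : X.Etale} (s : F.obj.obj (op U)) (x : U.left) :
    x ∈ EtShriek.sectSupp F U s ↔ x ∉ vanOpen F U s := by
  rw [mem_vanOpen]
  constructor
  · rintro h ⟨V, φ, h0, w, hw⟩
    exact h V φ ⟨w, hw⟩ h0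
  · intro h W g ⟨w, hw⟩ h0
    exact h ⟨W, g, h0, w, hw⟩

lemma sectSupp_subset_iff {U : X.Etale} (s : F.obj.obj (op U)) (Z : Set U.left) :
    EtShriek.sectSupp F U s ⊆ Z ↔ ∀ x, x ∉ Z → x ∈ vanOpen F U s := by
  constructor
  · intro h x hx
    by_contra hc
    exact hx (h ((mem_sectSupp_iff F s x).2 hc))
  · intro h x hx
    by_contra hc
    exact (mem_sectSupp_iff F s x).1 hx (h x hc)

/-- The vanishing locus of a restriction contains the preimage of the vanishing locus. -/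
lemma mem_vanOpen_map {U U' : X.Etale} (φ : U' ⟶ U) (s : F.obj.obj (op U)) (x' : U'.left)
    (h : φ.left.base x' ∈ vanOpen F U s) : x' ∈ vanOpen F U' (F.obj.map φ.op s) := by
  obtain ⟨V, ψ, h0, v, hv⟩ := (mem_vanOpen F).1 h
  obtain ⟨z, hz1, hz2⟩ := exists_fib_point φ ψ x' v hv.symm
  refine (mem_vanOpen F).2 ⟨fibObj φ ψ, fibFst φ ψ, ?_, z, hz1⟩
  rw [map_comp_apply, fib_condition, ← map_comp_apply, h0, map_zero]

lemma mem_vanOpen_sub {U : X.Etale} (s₁ s₂ : F.obj.obj (op U)) (x : U.left)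
    (h1 : x ∈ vanOpen F U s₁) (h2 : x ∈ vanOpen F U s₂) : x ∈ vanOpen F U (s₁ - s₂) := by
  obtain ⟨V₁, ψ₁, h01, v₁, hv₁⟩ := (mem_vanOpen F).1 h1
  obtain ⟨V₂, ψ₂, h02, v₂, hv₂⟩ := (mem_vanOpen F).1 h2
  obtain ⟨z, hz1, hz2⟩ := exists_fib_point ψ₁ ψ₂ v₁ v₂ (hv₁.trans hv₂.symm)
  refine (mem_vanOpen F).2 ⟨fibObj ψ₁ ψ₂, fibFst ψ₁ ψ₂ ≫ ψ₁, ?_, z, ?_⟩
  · rw [map_sub, ← map_comp_apply, h01, map_zero, fib_condition, ← map_comp_apply, h02, map_zero,
      sub_zero]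
  · change ((fibFst ψ₁ ψ₂).left ≫ ψ₁.left).base z = x
    rw [Scheme.Hom.comp_base, TopCat.comp_app]
    exact (congrArg ψ₁.left.base hz1).trans hv₁

lemma eq_zero_of_vanOpen_eq_univ {U : X.Etale} (s : F.obj.obj (op U))
    (h : ∀ x : U.left, x ∈ vanOpen F U s) : s = 0 := by
  have := (map_eq_zero_iff F s U (𝟙 U)).2 (fun x _ => h x)
  rwa [op_id, F.obj.map_id] at this

variable {F}

/-- `MapsTo` part. -/
lemma excision_mapsTo {U U' : X.Etale} (φ : U' ⟶ U) (Z : Set ↥U.left) :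
    Set.MapsTo (F.obj.map φ.op) {s | EtShriek.sectSupp F U s ⊆ Z}
      {s' | EtShriek.sectSupp F U' s' ⊆ φ.left.base ⁻¹' Z} := by
  intro s hs
  rw [Set.mem_ofPred_eq, sectSupp_subset_iff] at hs ⊢
  intro x' hx'
  exact mem_vanOpen_map F φ s x' (hs _ hx')

/-- `InjOn` part. -/
lemma excision_injOn {U U' : X.Etale} (φ : U' ⟶ U) (Z : Set ↥U.left)
    (hsurj : Set.SurjOn φ.left.base (φ.left.base ⁻¹' Z) Z) :
    Set.InjOn (F.obj.map φ.op) {s | EtShriek.sectSupp F U s ⊆ Z} := by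
  intro s₁ hs₁ s₂ hs₂ h
  rw [Set.mem_ofPred_eq, sectSupp_subset_iff] at hs₁ hs₂
  rw [← sub_eq_zero]
  apply eq_zero_of_vanOpen_eq_univ F
  intro x
  by_cases hx : x ∈ Z
  · obtain ⟨x', -, rfl⟩ := hsurj hx
    refine (mem_vanOpen F).2 ⟨U', φ, ?_, x', rfl⟩
    rw [map_sub, h, sub_self]
  · exact mem_vanOpen_sub F s₁ s₂ x (hs₁ x hx) (hs₂ x hx)

end Groth.Agent.H2.Excision
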