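import Mathlib
import Groth.Prelude.Def_EtShriek2
import Groth.Agent.Lib.Helper2.ExcisionB

set_option autoImplicit false
set_option linter.style.haveILetI false
set_option linter.unusedVariables false
universe u
open CategoryTheory CategoryTheory.Limits AlgebraicGeometry MorphismProperty TopologicalSpace Opposite

namespace Groth.Agent.H2.Excision

open Groth.Agent.H7.Sup Groth.Agent.H7.ES Groth.Agent.H7.GalCov Groth.Agent.H2.FinStalk

variable {X : Scheme.{u}}

set_option backward.isDefEq.respectTransparency.types false in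
/-- Two morphisms into an étale scheme which agree at a point with trivial residue field
extension agree on an étale (in fact open) neighbourhood of the point. -/
lemma exists_equalizer_nbhd {U U' W : X.Etale} (φ : U' ⟶ U) (gi gj : W ⟶ U')
    (hg : gi ≫ φ = gj ≫ φ) (w : W.left) (hw : gi.left.base w = gj.left.base w)
    (hres : Function.Bijective (φ.left.residueFieldMap (gi.left.base w))) :
    ∃ (E : X.Etale) (e : E ⟶ W), w ∈ Set.range e.left.base ∧ e ≫ gi = e ≫ gj := by
  haveI := etale_left φ
  haveI : Etale W.hom := W.prop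
  obtain ⟨gil, hgil⟩ : ∃ gil : W.left ⟶ U'.left, gil = gi.left := ⟨_, rfl⟩
  obtain ⟨gjl, hgjl⟩ : ∃ gjl : W.left ⟶ U'.left, gjl = gj.left := ⟨_, rfl⟩
  obtain ⟨φl, hφl⟩ : ∃ φl : U'.left ⟶ U.left, φl = φ.left := ⟨_, rfl⟩
  haveI : Etale φl := hφl ▸ inferInstance
  have hgl : gil ≫ φl = gjl ≫ φl := by
    rw [hgil, hgjl, hφl]
    exact congrArg (fun m => m.left) hg
  let l : W.left ⟶ pullback φl φl := pullback.lift gil gjl hgl
  have hl1 : l ≫ pullback.fst φl φl = gil := pullback.lift_fst _ _ _
  have hl2 : l ≫ pullback.snd φl φl = gjl := pullback.lift_snd _ _ _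
  let Δ : U'.left ⟶ pullback φl φl := pullback.diagonal φl
  haveI : IsOpenImmersion Δ := inferInstance
  let E : X.Etale := MorphismProperty.Over.mk ⊤ (pullback.fst l Δ ≫ W.hom) inferInstance
  obtain ⟨e, he⟩ : ∃ e : E ⟶ W, e.left = pullback.fst l Δ :=
    ⟨MorphismProperty.Over.homMk (pullback.fst l Δ) rfl, rfl⟩
  have hw' : gil.base w = gjl.base w := by rw [hgil, hgjl]; exact hw
  have hres' : Function.Bijective (φl.residueFieldMap (gil.base w)) := by
    subst hφl; subst hgil; exact hres
  refine ⟨E, e, ?_, ?_⟩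
  · rw [he]
    change w ∈ Set.range (pullback.fst l Δ)
    rw [Scheme.Pullback.range_fst]
    refine ⟨gil.base w, ?_⟩
    have f1 : pullback.fst φl φl (l w) = gil.base w := by
      rw [← Scheme.Hom.comp_apply, hl1]
    have f2 : pullback.snd φl φl (l w) = gjl.base w := by
      rw [← Scheme.Hom.comp_apply, hl2]
    have d1 : pullback.fst φl φl (Δ (gil.base w)) = gil.base w := by
      rw [← Scheme.Hom.comp_apply, pullback.diagonal_fst]
      rfl
    have d2 : pullback.snd φl φl (Δ (gil.base w)) = gil.base w := by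
      rw [← Scheme.Hom.comp_apply, pullback.diagonal_snd]
      rfl
    apply pullback_point_ext φl φl
    · exact d1.trans f1.symm
    · exact d2.trans (hw'.trans f2.symm)
    · rw [f1]; exact hres'
  · apply MorphismProperty.Over.Hom.ext
    change e.left ≫ gi.left = e.left ≫ gj.left
    rw [he, ← hgil, ← hgjl]
    have c : pullback.fst l Δ ≫ l = pullback.snd l Δ ≫ Δ := pullback.condition
    calc pullback.fst l Δ ≫ gil = pullback.fst l Δ ≫ l ≫ pullback.fst φl φl := by rw [hl1]
      _ = pullback.snd l Δ ≫ Δ ≫ pullback.fst φl φl := by rw [← Category.assoc, c, Category.assoc]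
      _ = pullback.snd l Δ ≫ Δ ≫ pullback.snd φl φl := by
          rw [pullback.diagonal_fst, pullback.diagonal_snd]
      _ = pullback.fst l Δ ≫ l ≫ pullback.snd φl φl := by rw [← Category.assoc, ← c, Category.assoc]
      _ = pullback.fst l Δ ≫ gjl := by rw [hl2]

end Groth.Agent.H2.Excision
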