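import Mathlib
import Groth.Prelude.Def_EtShriek2
import Groth.Agent.Lib.Helper2.ExcisionC
import Groth.Agent.Lib.Helper2.FinStalkE

set_option autoImplicit false
set_option linter.style.haveILetI false
set_option linter.unusedVariables false
universe u
open CategoryTheory CategoryTheory.Limits AlgebraicGeometry MorphismProperty TopologicalSpace Opposite

namespace Groth.Agent.H2.Excision

open Groth.Agent.H7.Sup Groth.Agent.H7.ES Groth.Agent.H7.GalCov Groth.Agent.H2.FinStalk

variable {X : Scheme.{u}} {F : EtCoh.Ab X}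

/-- Two morphisms `W → U'` over `U` pull a section supported in `φ⁻¹ Z` back to the same section. -/
lemma map_eq_map_of_supp {U U' W : X.Etale} (φ : U' ⟶ U) (Z : Set ↥U.left)
    (hinj : Set.InjOn φ.left.base (φ.left.base ⁻¹' Z))
    (hres : ∀ x ∈ φ.left.base ⁻¹' Z, Function.Bijective (φ.left.residueFieldMap x))
    (s' : F.obj.obj (op U')) (hs' : EtShriek.sectSupp F U' s' ⊆ φ.left.base ⁻¹' Z)
    (gi gj : W ⟶ U') (hg : gi ≫ φ = gj ≫ φ) :
    F.obj.map gi.op s' = F.obj.map gj.op s' := by
  rw [sectSupp_subset_iff] at hs'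
  rw [← sub_eq_zero]
  apply eq_zero_of_vanOpen_eq_univ F
  intro w
  have hφw : φ.left.base (gi.left.base w) = φ.left.base (gj.left.base w) := by
    have := congrArg (fun m => m.left.base w) hg
    exact this
  by_cases hZ : φ.left.base (gi.left.base w) ∈ Z
  · have hZ' : φ.left.base (gj.left.base w) ∈ Z := hφw ▸ hZ
    have heq : gi.left.base w = gj.left.base w := hinj hZ hZ' hφw
    obtain ⟨E, e, hwe, hee⟩ := exists_equalizer_nbhd φ gi gj hg w heq (hres _ hZ)
    obtain ⟨y, hy⟩ := hwe
    refine (mem_vanOpen F).2 ⟨E, e, ?_, y, hy⟩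
    rw [map_sub, map_comp_apply, map_comp_apply, hee, sub_self]
  · have hZ' : φ.left.base (gj.left.base w) ∉ Z := hφw ▸ hZ
    apply mem_vanOpen_sub
    · exact mem_vanOpen_map F gi s' w (hs' _ hZ)
    · exact mem_vanOpen_map F gj s' w (hs' _ hZ')

set_option backward.isDefEq.respectTransparency.types false in
/-- `SurjOn` part. -/
lemma excision_surjOn {U U' : X.Etale} (φ : U' ⟶ U) (Z : Set ↥U.left) (hZ : IsClosed Z)
    (hbij : Set.BijOn φ.left.base (φ.left.base ⁻¹' Z) Z)
    (hres : ∀ x ∈ φ.left.base ⁻¹' Z, Function.Bijective (φ.left.residueFieldMap x)) :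
    Set.SurjOn (F.obj.map φ.op) {s | EtShriek.sectSupp F U s ⊆ Z}
      {s' | EtShriek.sectSupp F U' s' ⊆ φ.left.base ⁻¹' Z} := by
  intro s' hs'
  rw [Set.mem_ofPred_eq] at hs'
  have hs'v := (sectSupp_subset_iff F s' _).1 hs'
  let Zo : U.left.Opens := ⟨Zᶜ, hZ.isOpen_compl⟩
  let Y : Bool → X.Etale := fun b => if b then U' else openObj U Zo
  let π : ∀ b, Y b ⟶ U := fun b => match b with
    | true => φ
    | false => openIncl U Zo
  let G : EtDesc.Sh X := toSh F
  have hcov : Sieve.ofArrows Y π ∈ X.smallEtaleTopology U := by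
    refine sieve_mem_of_jointly_surjective _ ?_
    intro x
    by_cases hx : x ∈ Z
    · obtain ⟨x', -, hx'⟩ := hbij.surjOn hx
      exact ⟨Y true, π true, x', Sieve.ofArrows_mk Y π true, hx'⟩
    · exact ⟨Y false, π false, (⟨x, hx⟩ : ↥Zo), Sieve.ofArrows_mk Y π false, rfl⟩
  have hsh : Presieve.IsSheafFor G.obj (Presieve.ofArrows Y π) := by
    rw [Presieve.isSheafFor_iff_generate]
    exact ((isSheaf_iff_isSheaf_of_type _ _).1 G.property) _ hcov
  let x : ∀ b, G.obj.obj (op (Y b)) := fun b => match b with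
    | true => s'
    | false => (0 : F.obj.obj (op (openObj U Zo)))
  have hcompat : Presieve.Arrows.Compatible G.obj π x := by
    intro i j W gi gj hgij
    have key : ∀ (g : W ⟶ U') (g' : W ⟶ openObj U Zo), g ≫ φ = g' ≫ openIncl U Zo →
        F.obj.map g.op s' = 0 := by
      intro g g' hgg
      rw [map_eq_zero_iff]
      rintro _ ⟨w, rfl⟩
      apply hs'v
      have e1 : φ.left.base (g.left.base w) = (openIncl U Zo).left.base (g'.left.base w) :=
        congrArg (fun m => m.left.base w) hgg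
      change φ.left.base (g.left.base w) ∉ Z
      rw [e1]
      exact (g'.left.base w).2
    match i, j, gi, gj, hgij with
    | true, true, gi, gj, hgij =>
      exact map_eq_map_of_supp φ Z hbij.injOn hres s' hs' gi gj hgij
    | true, false, gi, gj, hgij =>
      change F.obj.map gi.op s' = F.obj.map gj.op 0
      rw [map_zero]
      exact key gi gj hgij
    | false, true, gi, gj, hgij =>
      change F.obj.map gi.op 0 = F.obj.map gj.op s'
      rw [map_zero]
      exact (key gj gi hgij.symm).symm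
    | false, false, gi, gj, hgij =>
      change F.obj.map gi.op 0 = F.obj.map gj.op 0
      rw [map_zero, map_zero]
  obtain ⟨s, hs, -⟩ := (Presieve.isSheafFor_arrows_iff _ _).1 hsh x hcompat
  obtain ⟨s₀, hs₀⟩ : ∃ s₀ : F.obj.obj (op U), s₀ = s := ⟨s, rfl⟩
  have h1 : F.obj.map φ.op s₀ = s' := by rw [hs₀]; exact hs true
  have h2 : F.obj.map (openIncl U Zo).op s₀ = 0 := by rw [hs₀]; exact hs false
  refine ⟨s₀, ?_, h1⟩
  rw [Set.mem_ofPred_eq, sectSupp_subset_iff]
  intro p hp
  exact (mem_vanOpen F).2 ⟨openObj U Zo, openIncl U Zo, h2, (⟨p, hp⟩ : ↥Zo), rfl⟩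

/-- **S0728**: étale excision for sections with support. -/
theorem S0728_main {U U' : X.Etale} (φ : U' ⟶ U) (Z : Set ↥U.left) (hZ : IsClosed Z)
    (hbij : Set.BijOn φ.left.base (φ.left.base ⁻¹' Z) Z)
    (hres : ∀ x ∈ φ.left.base ⁻¹' Z, Function.Bijective (φ.left.residueFieldMap x)) :
    Set.BijOn (F.obj.map φ.op) {s | EtShriek.sectSupp F U s ⊆ Z}
      {s' | EtShriek.sectSupp F U' s' ⊆ φ.left.base ⁻¹' Z} :=
  ⟨excision_mapsTo φ Z, excision_injOn φ Z hbij.surjOn, excision_surjOn φ Z hZ hbij hres⟩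

end Groth.Agent.H2.Excision
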