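import Mathlib

set_option autoImplicit false
set_option linter.style.haveILetI false
universe w v u
open CategoryTheory CategoryTheory.Limits CategoryTheory.Abelian

namespace Groth.Agent.H2.ExtBiprod

variable {C : Type u} [Category.{v} C] [Abelian C] [HasExt.{w} C]

/-- `Ext` out of an object isomorphic to a finite coproduct vanishes if it vanishes on each
summand. -/
theorem subsingleton_ext_left {m : ℕ} (X : Fin m → C) (A : C) (e : A ≅ ∐ X) (Y : C) (n : ℕ)
    (h : ∀ t, Subsingleton (Abelian.Ext (X t) Y n)) : Subsingleton (Abelian.Ext A Y n) := by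
  haveI : HasFiniteBiproducts C := Abelian.hasFiniteBiproducts
  let e' : A ≅ ⨁ X := e ≪≫ (biproduct.isoCoproduct X).symm
  have h1 : Subsingleton (Abelian.Ext (⨁ X) Y n) :=
    (Ext.biproductAddEquiv (biproduct.isBilimit X) Y n).toEquiv.subsingleton
  refine ⟨fun x y => ?_⟩
  have hx : ∀ z : Abelian.Ext A Y n, z = (Ext.mk₀ e'.hom).comp ((Ext.mk₀ e'.inv).comp z (zero_add n))
      (zero_add n) := by
    intro z
    rw [← Ext.comp_assoc_of_second_deg_zero, Ext.mk₀_comp_mk₀, e'.hom_inv_id, Ext.mk₀_id_comp]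
  rw [hx x, hx y, Subsingleton.elim ((Ext.mk₀ e'.inv).comp x (zero_add n))
    ((Ext.mk₀ e'.inv).comp y (zero_add n))]

/-- `Ext` into an object isomorphic to a finite coproduct vanishes if it vanishes on each
summand. -/
theorem subsingleton_ext_right {m : ℕ} (X : Fin m → C) (A : C) (e : A ≅ ∐ X) (Y : C) (n : ℕ)
    (h : ∀ t, Subsingleton (Abelian.Ext Y (X t) n)) : Subsingleton (Abelian.Ext Y A n) := by
  haveI : HasFiniteBiproducts C := Abelian.hasFiniteBiproducts
  let e' : A ≅ ⨁ X := e ≪≫ (biproduct.isoCoproduct X).symm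
  have h1 : Subsingleton (Abelian.Ext Y (⨁ X) n) :=
    (Ext.addEquivBiproduct Y (biproduct.isBilimit X) n).toEquiv.subsingleton
  refine ⟨fun x y => ?_⟩
  have hx : ∀ z : Abelian.Ext Y A n, z = (z.comp (Ext.mk₀ e'.hom) (add_zero n)).comp (Ext.mk₀ e'.inv)
      (add_zero n) := by
    intro z
    rw [Ext.comp_assoc_of_second_deg_zero, Ext.mk₀_comp_mk₀, e'.hom_inv_id, Ext.comp_mk₀_id]
  rw [hx x, hx y, Subsingleton.elim (x.comp (Ext.mk₀ e'.hom) (add_zero n))
    (y.comp (Ext.mk₀ e'.hom) (add_zero n))]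

/-- Covariant: `Ext^p(X, S.X₂) = 0` and `Ext^{p+1}(X, S.X₁) = 0` give `Ext^p(X, S.X₃) = 0`. -/
theorem subsingleton_cov {S : ShortComplex C} (hS : S.ShortExact) (X : C) (p : ℕ)
    (h2 : Subsingleton (Abelian.Ext X S.X₂ p)) (h1 : Subsingleton (Abelian.Ext X S.X₁ (p + 1))) :
    Subsingleton (Abelian.Ext X S.X₃ p) := by
  have key : ∀ x : Abelian.Ext X S.X₃ p, x = 0 := by
    intro x
    obtain ⟨x₂, hx₂⟩ := Ext.covariant_sequence_exact₃ X hS x rfl (Subsingleton.elim _ _)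
    rw [← hx₂, Subsingleton.elim x₂ 0, Ext.zero_comp]
  exact ⟨fun x y => (key x).trans (key y).symm⟩

/-- Contravariant: `Ext^{p+1}(S.X₂, Y) = 0` and `Ext^p(S.X₁, Y) = 0` give
`Ext^{p+1}(S.X₃, Y) = 0`. -/
theorem subsingleton_contra {S : ShortComplex C} (hS : S.ShortExact) (Y : C) (p : ℕ)
    (h2 : Subsingleton (Abelian.Ext S.X₂ Y (p + 1))) (h1 : Subsingleton (Abelian.Ext S.X₁ Y p)) :
    Subsingleton (Abelian.Ext S.X₃ Y (p + 1)) := by
  have key : ∀ x : Abelian.Ext S.X₃ Y (p + 1), x = 0 := by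
    intro x
    obtain ⟨x₁, hx₁⟩ := Ext.contravariant_sequence_exact₃ hS Y x (Subsingleton.elim _ _)
      (add_comm 1 p)
    rw [← hx₁, Subsingleton.elim x₁ 0, Ext.comp_zero]
  exact ⟨fun x y => (key x).trans (key y).symm⟩

/-- Contravariant, degree zero: `Hom(S.X₂, Y) = 0` gives `Hom(S.X₃, Y) = 0`. -/
theorem subsingleton_contra_zero {S : ShortComplex C} (hS : S.ShortExact) (Y : C)
    (h2 : Subsingleton (Abelian.Ext S.X₂ Y 0)) : Subsingleton (Abelian.Ext S.X₃ Y 0) := by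
  have := hS.epi_g
  have key : ∀ x : Abelian.Ext S.X₃ Y 0, x = 0 := by
    intro x
    obtain ⟨f, rfl⟩ := (Ext.mk₀_bijective _ _).2 x
    have h0 : (Ext.mk₀ S.g).comp (Ext.mk₀ f) (zero_add 0) = 0 := Subsingleton.elim _ _
    rw [Ext.mk₀_comp_mk₀] at h0
    have h3 : S.g ≫ f = 0 := by
      apply (Ext.mk₀_bijective _ _).1
      rw [h0, Ext.mk₀_zero]
    have h4 : f = 0 := by
      rw [← cancel_epi S.g, h3, comp_zero]
    rw [h4, Ext.mk₀_zero]
  exact ⟨fun x y => (key x).trans (key y).symm⟩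

end Groth.Agent.H2.ExtBiprod
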