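import Groth.Agent.Lib.Helper2.ExtEfface

/-!
# Exact functors inducing bijections on Ext: the effaceability criterion
-/

namespace Groth.Agent.H2.ExtEfface

open CategoryTheory Limits Abelian

universe w w' v v' u u'

variable {A : Type u} [Category.{v} A] [Abelian A] [HasExt.{w} A]
  {B : Type u'} [Category.{v'} B] [Abelian B] [HasExt.{w'} B]
  (φ : A ⥤ B) [φ.Additive] [PreservesFiniteLimits φ] [PreservesFiniteColimits φ] (M : A)

lemma map_bijective_iff_zero (L : A) :
    Function.Bijective (fun f : Ext.{w} L M 0 => Ext.mapExactFunctor φ f) ↔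
      Function.Bijective (fun f : L ⟶ M => φ.map f) := by
  have h : (fun f : Ext.{w} L M 0 => Ext.mapExactFunctor.{w, w'} φ f) =
      Ext.homEquiv₀.symm ∘ (fun f : L ⟶ M => φ.map f) ∘ Ext.homEquiv₀ :=
    Ext.mapExactFunctor₀ φ L M
  rw [h]
  exact (Equiv.comp_bijective _ _).trans (Equiv.bijective_comp _ _)

include M in
lemma effaceable_of_surjective {L : A} {n : ℕ} (hn : 1 ≤ n)
    (hs : Function.Surjective (fun f : Ext.{w} L M n => Ext.mapExactFunctor φ f))
    (x : Ext.{w'} (φ.obj L) (φ.obj M) n) :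
    ∃ (L' : A) (p : L' ⟶ L), Epi p ∧ (Ext.mk₀ (φ.map p)).comp x (zero_add n) = 0 := by
  obtain ⟨m, rfl⟩ : ∃ m, n = m + 1 := ⟨n - 1, by omega⟩
  obtain ⟨y, rfl⟩ := hs x
  obtain ⟨L', p, hp, h⟩ := ext_exists_epi y
  refine ⟨L', p, hp, ?_⟩
  change (Ext.mk₀ (φ.map p)).comp (Ext.mapExactFunctor φ y) (zero_add _) = 0
  rw [← Ext.mapExactFunctor_mk₀, ← Ext.mapExactFunctor_comp, h, Ext.mapExactFunctor_zero]

/-- the inductive step -/
lemma bijective_succ (n : ℕ)
    (ih : ∀ L : A, Function.Bijective (fun f : Ext.{w} L M n => Ext.mapExactFunctor.{w, w'} φ f))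
    (heff : ∀ (L : A) (x : Ext.{w'} (φ.obj L) (φ.obj M) (n + 1)),
      ∃ (L' : A) (p : L' ⟶ L), Epi p ∧ (Ext.mk₀ (φ.map p)).comp x (zero_add _) = 0)
    (L : A) :
    Function.Bijective (fun f : Ext.{w} L M (n + 1) => Ext.mapExactFunctor.{w, w'} φ f) := by
  constructor
  · -- injectivity
    intro y₁ y₂ hy
    dsimp only at hy
    have hy0 : Ext.mapExactFunctor φ (y₁ - y₂) = 0 := by
      have := (φ.mapExtAddHom L M (n + 1)).map_sub y₁ y₂
      simp only [Functor.mapExtAddHom_apply] at this
      rw [this, hy, sub_self]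
    suffices y₁ - y₂ = 0 from sub_eq_zero.1 this
    generalize y₁ - y₂ = y at hy0
    obtain ⟨L', p, hp, hpy⟩ := ext_exists_epi y
    let S : ShortComplex A := ShortComplex.mk (kernel.ι p) p (kernel.condition p)
    have hS : S.ShortExact :=
      { exact := ShortComplex.exact_kernel p
        mono_f := inferInstanceAs (Mono (kernel.ι p))
        epi_g := hp }
    obtain ⟨z, hz⟩ := Ext.contravariant_sequence_exact₃ hS M y hpy (n₀ := n) (by omega)
    have hS' := hS.map_of_exact φ
    have key : ∀ z : Ext.{w} (kernel p) M n,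
        Ext.mapExactFunctor φ (hS.extClass.comp z (show 1 + n = n + 1 by omega)) =
          (hS'.extClass).comp (Ext.mapExactFunctor φ z) (show 1 + n = n + 1 by omega) := by
      intro z
      rw [Ext.mapExactFunctor_comp, Ext.mapExactFunctor_extClass]
      rfl
    have h1 : (hS'.extClass).comp (Ext.mapExactFunctor φ z) (show 1 + n = n + 1 by omega) = 0 := by
      rw [← key, hz]
      exact hy0
    obtain ⟨w₀, hw₀⟩ := Ext.contravariant_sequence_exact₁ hS' (φ.obj M)
      (Ext.mapExactFunctor φ z) (show 1 + n = n + 1 by omega) h1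
    obtain ⟨w₁, hw₁⟩ := (ih L').2 w₀
    dsimp only at hw₁
    have h2 : Ext.mapExactFunctor φ ((Ext.mk₀ (kernel.ι p)).comp w₁ (zero_add n)) =
        Ext.mapExactFunctor φ z := by
      rw [Ext.mapExactFunctor_comp, Ext.mapExactFunctor_mk₀, hw₁]
      exact hw₀
    have h3 : (Ext.mk₀ (kernel.ι p)).comp w₁ (zero_add n) = z := (ih (kernel p)).1 h2
    rw [← hz, ← h3]
    exact hS.extClass_comp_assoc w₁
  · -- surjectivity
    intro x
    obtain ⟨L', p, hp, hpx⟩ := heff L x
    let S : ShortComplex A := ShortComplex.mk (kernel.ι p) p (kernel.condition p)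
    have hS : S.ShortExact :=
      { exact := ShortComplex.exact_kernel p
        mono_f := inferInstanceAs (Mono (kernel.ι p))
        epi_g := hp }
    have hS' := hS.map_of_exact φ
    obtain ⟨z, hz⟩ := Ext.contravariant_sequence_exact₃ hS' (φ.obj M) x hpx (n₀ := n) (by omega)
    obtain ⟨z', hz'⟩ := (ih (kernel p)).2 z
    dsimp only at hz'
    refine ⟨hS.extClass.comp z' (show 1 + n = n + 1 by omega), ?_⟩
    dsimp only
    rw [Ext.mapExactFunctor_comp, Ext.mapExactFunctor_extClass, hz']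
    exact hz

theorem bijective_iff_effaceable :
    (∀ (L : A) (n : ℕ),
        Function.Bijective (fun f : Abelian.Ext.{w} L M n => Abelian.Ext.mapExactFunctor φ f)) ↔
      ((∀ L : A, Function.Bijective (fun f : L ⟶ M => φ.map f)) ∧
        ∀ (L : A) (n : ℕ), 1 ≤ n → ∀ x : Abelian.Ext.{w'} (φ.obj L) (φ.obj M) n,
          ∃ (L' : A) (p : L' ⟶ L), Epi p ∧
            (Abelian.Ext.mk₀ (φ.map p)).comp x (zero_add n) = 0) := by
  constructor
  · intro h
    exact ⟨fun L => (map_bijective_iff_zero φ M L).1 (h L 0),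
      fun L n hn x => effaceable_of_surjective φ M hn (h L n).2 x⟩
  · rintro ⟨h0, heff⟩ L n
    induction n generalizing L with
    | zero => exact (map_bijective_iff_zero φ M L).2 (h0 L)
    | succ n ih => exact bijective_succ φ M n ih (fun L x => heff L (n + 1) (by omega) x) L

end Groth.Agent.H2.ExtEfface
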