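import Mathlib

/-!
# Extending multilinear maps along a localization (helper2)

`g : M → M'` a localization of `R`-modules at `S`, `Q` an `R`-module on which `S` acts invertibly.
Every `R`-multilinear map `M^p → Q` extends uniquely to an `R`-multilinear map `M'^p → Q`; the
extension of an alternating map is alternating.
-/

universe uR uM uM' uQ

set_option linter.style.haveILetI false
set_option linter.unusedSectionVars false

namespace Groth.Agent.H2.EPL

variable {R : Type uR} [CommRing R] (S : Submonoid R) {M : Type uM} {M' : Type uM'} {Q : Type uQ}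
  [AddCommGroup M] [Module R M] [AddCommGroup M'] [Module R M'] [AddCommGroup Q] [Module R Q]
  (g : M →ₗ[R] M') [IsLocalizedModule S g]

/-- the identity of a module on which `S` acts invertibly is a localization. -/
lemma isLocalizedModule_id_of_isUnit {P : Type*} [AddCommGroup P] [Module R P]
    (hP : ∀ s : S, IsUnit (algebraMap R (Module.End R P) s)) :
    IsLocalizedModule S (LinearMap.id : P →ₗ[R] P) where
  map_units := hP
  surj y := ⟨(y, 1), by simp⟩
  exists_of_eq h := ⟨1, by simpa using h⟩

lemma smul_injective_of_isUnit {P : Type*} [AddCommGroup P] [Module R P]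
    (hP : ∀ s : S, IsUnit (algebraMap R (Module.End R P) s)) (s : S) :
    Function.Injective (fun x : P => (s : R) • x) :=
  ((Module.End.isUnit_iff _).1 (hP s)).1

lemma smul_surjective_of_isUnit {P : Type*} [AddCommGroup P] [Module R P]
    (hP : ∀ s : S, IsUnit (algebraMap R (Module.End R P) s)) (s : S) :
    Function.Surjective (fun x : P => (s : R) • x) :=
  ((Module.End.isUnit_iff _).1 (hP s)).2

variable (hQ : ∀ s : S, IsUnit (algebraMap R (Module.End R Q) s))

include hQ in
/-- `S` acts invertibly on multilinear maps into `Q`. -/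
lemma isUnit_multilinear {ι : Type*} (N : ι → Type*) [∀ i, AddCommGroup (N i)]
    [∀ i, Module R (N i)] (s : S) :
    IsUnit (algebraMap R (Module.End R (MultilinearMap R N Q)) s) := by
  rw [Module.End.isUnit_iff]
  constructor
  · intro b b' h
    ext x
    have h1 : (s : R) • b x = (s : R) • b' x := congrArg (fun c : MultilinearMap R N Q => c x) h
    exact smul_injective_of_isUnit S hQ s h1
  · intro b
    obtain ⟨u, hu⟩ := hQ s
    refine ⟨(u⁻¹ : (Module.End R Q)ˣ).1.compMultilinearMap b, ?_⟩
    ext x
    change (s : R) • ((u⁻¹ : (Module.End R Q)ˣ).1 (b x)) = b x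
    have h2 : (algebraMap R (Module.End R Q) s) ((u⁻¹ : (Module.End R Q)ˣ).1 (b x)) = b x := by
      rw [← hu]
      change ((u : Module.End R Q) * ((u⁻¹ : (Module.End R Q)ˣ) : Module.End R Q)) (b x) = b x
      rw [Units.mul_inv]
      rfl
    exact h2

/-- the extension of multilinear maps along the localization. -/
noncomputable def ext : ∀ p : ℕ, MultilinearMap R (fun _ : Fin p => M) Q →ₗ[R]
    MultilinearMap R (fun _ : Fin p => M') Q
  | 0 => (MultilinearMap.constLinearEquivOfIsEmpty (R := R) (S := R)
        (M₁ := fun _ : Fin 0 => M') (M₂ := Q)).toLinearMap ∘ₗ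
      (MultilinearMap.constLinearEquivOfIsEmpty (R := R) (S := R)
        (M₁ := fun _ : Fin 0 => M) (M₂ := Q)).symm.toLinearMap
  | p + 1 =>
    haveI := isLocalizedModule_id_of_isUnit S
      (isUnit_multilinear (Q := Q) S hQ (fun _ : Fin p => M'))
    (multilinearCurryLeftEquiv R (fun _ : Fin (p + 1) => M') Q).symm.toLinearMap ∘ₗ
      (IsLocalizedModule.map S g
        (LinearMap.id : MultilinearMap R (fun _ : Fin p => M') Q →ₗ[R] _)) ∘ₗ
      (LinearMap.compRight R (ext p)) ∘ₗ
      (multilinearCurryLeftEquiv R (fun _ : Fin (p + 1) => M) Q).toLinearMap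

lemma ext_apply_comp : ∀ (p : ℕ) (a : MultilinearMap R (fun _ : Fin p => M) Q) (m : Fin p → M),
    ext S g hQ p a (fun i => g (m i)) = a m
  | 0, a, m => by
    change a 0 = a m
    congr 1
    exact Subsingleton.elim _ _
  | p + 1, a, m => by
    haveI := isLocalizedModule_id_of_isUnit S
      (isUnit_multilinear (Q := Q) S hQ (fun _ : Fin p => M'))
    change (IsLocalizedModule.map S g
        (LinearMap.id : MultilinearMap R (fun _ : Fin p => M') Q →ₗ[R] _)
        ((ext S g hQ p).comp (a.curryLeft))) (g (m 0)) (Fin.tail fun i => g (m i)) = a m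
    rw [IsLocalizedModule.map_apply]
    change ext S g hQ p (a.curryLeft (m 0)) (fun i => g (Fin.tail m i)) = a m
    rw [ext_apply_comp p]
    change a (Fin.cons (m 0) (Fin.tail m)) = a m
    rw [Fin.cons_self_tail]

end Groth.Agent.H2.EPL
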