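import Groth.Agent.Lib.Helper2.ExtPowLocA

/-!
# Exterior powers and localization (helper2)

For a localization `g : M → M'` of modules at `S` (with `M'` a module over the localization `R'` of
`R`), the "wedge of `g`" map `G : ⋀[R]^p M → ⋀[R']^p M'` is a localization: every element of the
target is a fraction of an element of the image with denominator in `S`, and the kernel of `G` is the
`S`-torsion.  The map `G` is given as an unbundled semilinear map characterised on the generators.
-/

universe uR uR' uM uM'

set_option linter.style.haveILetI false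
set_option linter.unusedSectionVars false

namespace Groth.Agent.H2.EPL

variable {R : Type uR} [CommRing R] (S : Submonoid R) {M : Type uM} {M' : Type uM'}
  [AddCommGroup M] [Module R M] [AddCommGroup M'] [Module R M']
  (g : M →ₗ[R] M') [IsLocalizedModule S g]

section Alt

variable {Q : Type*} [AddCommGroup Q] [Module R Q]
  (hQ : ∀ s : S, IsUnit (algebraMap R (Module.End R Q) s))

/-- a numerator of an element of the localization. -/
noncomputable def num (y : M') : M := (Classical.choose (IsLocalizedModule.surj S g y)).1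

/-- a denominator of an element of the localization. -/
noncomputable def den (y : M') : S := (Classical.choose (IsLocalizedModule.surj S g y)).2

lemma den_smul (y : M') : (den S g y : R) • y = g (num S g y) :=
  Classical.choose_spec (IsLocalizedModule.surj S g y)

include hQ in
/-- a multilinear map on `M'` is determined by its values on the image of `M`. -/
lemma prod_den_smul_apply {p : ℕ} (b : MultilinearMap R (fun _ : Fin p => M') Q)
    (x : Fin p → M') :
    (∏ i, (den S g (x i) : R)) • b x = b (fun i => g (num S g (x i))) := by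
  rw [← MultilinearMap.map_smul_univ]
  congr 1
  funext i
  exact den_smul S g (x i)

lemma prod_den_mem {p : ℕ} (x : Fin p → M') : (∏ i, (den S g (x i) : R)) ∈ S :=
  Submonoid.prod_mem S (fun i _ => (den S g (x i)).2)

include hQ in
/-- the extension of an alternating map is alternating. -/
lemma ext_eq_zero_of_eq {p : ℕ} (a : M [⋀^Fin p]→ₗ[R] Q) (x : Fin p → M') (i j : Fin p)
    (hx : x i = x j) (hij : i ≠ j) : ext S g hQ p a.toMultilinearMap x = 0 := by
  have h1 := prod_den_smul_apply S g hQ (ext S g hQ p a.toMultilinearMap) x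
  rw [ext_apply_comp] at h1
  have h2 : a.toMultilinearMap (fun i => num S g (x i)) = 0 :=
    a.map_eq_zero_of_eq (fun i => num S g (x i)) (by rw [hx]) hij
  rw [h2] at h1
  apply smul_injective_of_isUnit S hQ ⟨_, prod_den_mem S g x⟩
  change (∏ i, (den S g (x i) : R)) • _ = (∏ i, (den S g (x i) : R)) • (0 : Q)
  rw [h1, smul_zero]

/-- the extension of an alternating map, as an alternating map over `R`. -/
noncomputable def extAlt {p : ℕ} (a : M [⋀^Fin p]→ₗ[R] Q) : M' [⋀^Fin p]→ₗ[R] Q :=
  { ext S g hQ p a.toMultilinearMap with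
    map_eq_zero_of_eq' := fun x i j hx hij => ext_eq_zero_of_eq S g hQ a x i j hx hij }

lemma extAlt_apply_comp {p : ℕ} (a : M [⋀^Fin p]→ₗ[R] Q) (m : Fin p → M) :
    extAlt S g hQ a (fun i => g (m i)) = a m :=
  ext_apply_comp S g hQ p a.toMultilinearMap m

end Alt

section Wedge

variable (R' : Type uR') [CommRing R'] [Algebra R R'] [IsLocalization S R'] [Module R' M']
  [IsScalarTower R R' M']

/-- an `R`-alternating map between `R'`-modules is `R'`-alternating. -/
noncomputable def altExtendScalars {Q : Type*} [AddCommGroup Q] [Module R Q] [Module R' Q]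
    [IsScalarTower R R' Q] {p : ℕ} (b : M' [⋀^Fin p]→ₗ[R] Q) : M' [⋀^Fin p]→ₗ[R'] Q :=
  { toFun := b
    map_update_add' := fun x i y z => b.map_update_add x i y z
    map_update_smul' := fun x i c y => by
      haveI := IsLocalization.linearMap_compatibleSMul S R' M' Q
      exact LinearMap.map_smul_of_tower (b.toMultilinearMap.toLinearMap x i) c y
    map_eq_zero_of_eq' := fun x i j hx hij => b.map_eq_zero_of_eq x hx hij }

variable {p : ℕ} (G : (⋀[R]^p M) → (⋀[R']^p M'))
  (hGadd : ∀ σ τ, G (σ + τ) = G σ + G τ)
  (hGsmul : ∀ (r : R) σ, G (r • σ) = algebraMap R R' r • G σ)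
  (hGι : ∀ m : Fin p → M, G (exteriorPower.ιMulti R p m) =
    exteriorPower.ιMulti R' p (fun i => g (m i)))

include hGadd hGsmul hGι in
lemma map_eq_zero_of_wedge_eq_zero {Q : Type*} [AddCommGroup Q] [Module R Q] [Module R' Q]
    [IsScalarTower R R' Q] (j : (⋀[R]^p M) →ₗ[R] Q) [IsLocalizedModule S j]
    (σ : ⋀[R]^p M) (hσ : G σ = 0) : j σ = 0 := by
  have hQ : ∀ s : S, IsUnit (algebraMap R (Module.End R Q) s) := IsLocalizedModule.map_units j
  let a : M [⋀^Fin p]→ₗ[R] Q := j.compAlternatingMap (exteriorPower.ιMulti R p)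
  let H : (⋀[R']^p M') →ₗ[R'] Q :=
    exteriorPower.alternatingMapLinearEquiv (altExtendScalars S R' (extAlt S g hQ a))
  have hH : ∀ m : Fin p → M, H (exteriorPower.ιMulti R' p (fun i => g (m i))) =
      j (exteriorPower.ιMulti R p m) := by
    intro m
    rw [exteriorPower.alternatingMapLinearEquiv_apply_ιMulti]
    exact extAlt_apply_comp S g hQ a m
  let F : (⋀[R]^p M) →ₗ[R] Q :=
    { toFun := fun τ => H (G τ)
      map_add' := fun τ τ' => by rw [hGadd, map_add]
      map_smul' := fun r τ => by
        rw [hGsmul, map_smul, algebraMap_smul]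
        rfl }
  have hF : F = j := by
    apply exteriorPower.linearMap_ext
    ext m
    change H (G (exteriorPower.ιMulti R p m)) = _
    rw [hGι, hH]
    rfl
  rw [← hF]
  change H (G σ) = 0
  rw [hσ, map_zero]

include hGadd hGsmul hGι in
/-- **the kernel of the wedge of a localization map is the `S`-torsion.** -/
theorem exists_smul_eq_zero_of_wedge_eq_zero (σ : ⋀[R]^p M) (hσ : G σ = 0) :
    ∃ s : S, (s : R) • σ = 0 := by
  haveI : IsLocalizedModule S (TensorProduct.mk R R' (⋀[R]^p M) 1) :=
    (isLocalizedModule_iff_isBaseChange S R' _).2 (TensorProduct.isBaseChange R (⋀[R]^p M) R')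
  have h0 := map_eq_zero_of_wedge_eq_zero S g R' G hGadd hGsmul hGι
    (TensorProduct.mk R R' (⋀[R]^p M) 1) σ hσ
  exact (IsLocalizedModule.eq_zero_iff S (TensorProduct.mk R R' (⋀[R]^p M) 1)).1 h0

include hGadd hGsmul hGι in
/-- **every element of `⋀^p M'` is a fraction of an element coming from `⋀^p M`.** -/
theorem exists_smul_eq_wedge (τ : ⋀[R']^p M') :
    ∃ (s : S) (σ : ⋀[R]^p M), algebraMap R R' s • τ = G σ := by
  have hspan := exteriorPower.ιMulti_span R' p M'
  have hτ : τ ∈ Submodule.span R' (Set.range (exteriorPower.ιMulti R' p (M := M'))) := by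
    rw [hspan]
    trivial
  induction hτ using Submodule.span_induction with
  | mem τ hτ =>
    obtain ⟨x, rfl⟩ := hτ
    refine ⟨⟨_, prod_den_mem S g x⟩, exteriorPower.ιMulti R p (fun i => num S g (x i)), ?_⟩
    rw [hGι, algebraMap_smul]
    change (∏ i, (den S g (x i) : R)) • (exteriorPower.ιMulti R' p x) = _
    have h1 := (MultilinearMap.restrictScalars R
      (exteriorPower.ιMulti R' p (M := M')).toMultilinearMap).map_smul_univ
      (fun i => (den S g (x i) : R)) x
    have h2 : (fun i => (den S g (x i) : R) • x i) = fun i => g (num S g (x i)) := by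
      funext i
      exact den_smul S g (x i)
    rw [h2] at h1
    exact h1.symm
  | zero =>
    refine ⟨1, 0, ?_⟩
    have h0 : G 0 = 0 := by
      have := hGadd 0 0
      rw [add_zero] at this
      exact left_eq_add.mp this
    rw [smul_zero, h0]
  | add τ τ' _ _ ih ih' =>
    obtain ⟨s, σ, hs⟩ := ih
    obtain ⟨s', σ', hs'⟩ := ih'
    refine ⟨s * s', (s' : R) • σ + (s : R) • σ', ?_⟩
    rw [hGadd, hGsmul, hGsmul, ← hs, ← hs', smul_add, smul_smul, smul_smul, Submonoid.coe_mul,
      map_mul, mul_comm (algebraMap R R' s') (algebraMap R R' s)]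
  | smul c τ _ ih =>
    obtain ⟨s, σ, hs⟩ := ih
    obtain ⟨⟨r, t⟩, hrt⟩ := IsLocalization.surj S c
    refine ⟨t * s, r • σ, ?_⟩
    rw [hGsmul, ← hs, smul_smul, smul_smul, Submonoid.coe_mul, map_mul]
    congr 1
    dsimp only at hrt
    rw [← hrt]
    ring

end Wedge

end Groth.Agent.H2.EPL
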