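import Mathlib
import Groth.Prelude.Def_W4c2filtblowupsingRees
import Groth.Agent.Lib.Helper6.GrSubQuot

/-! The `ℤ`-grading of the extended Rees algebra of a filtration of ideals. -/

universe u
open LaurentPolynomial

namespace Groth.Agent.H2.ExtReesGr

open Groth.Agent.H6

variable {A : Type u} [CommRing A] (𝓕 : FiltBl.IdealFiltration A)

/-- the degree `n` piece of the extended Rees algebra -/
def gr (n : ℤ) : AddSubgroup 𝓕.extRees where
  carrier := {x | ∀ m : ℤ, m ≠ n → (x : A[T;T⁻¹]).coeff m = 0}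
  zero_mem' := by
    intro m _
    simp
  add_mem' := by
    intro x y hx hy m hm
    have h1 := hx m hm
    have h2 := hy m hm
    change ((x : A[T;T⁻¹]) + (y : A[T;T⁻¹])).coeff m = 0
    rw [AddMonoidAlgebra.coeff_add, Finsupp.add_apply, h1, h2, add_zero]
  neg_mem' := by
    intro x hx m hm
    have h1 := hx m hm
    change (-(x : A[T;T⁻¹])).coeff m = 0
    have : (-(x : A[T;T⁻¹])).coeff = -((x : A[T;T⁻¹]).coeff) := rfl
    rw [this, Finsupp.neg_apply, h1, neg_zero]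

theorem mem_gr {n : ℤ} {x : 𝓕.extRees} :
    x ∈ gr 𝓕 n ↔ ∀ m : ℤ, m ≠ n → (x : A[T;T⁻¹]).coeff m = 0 := Iff.rfl

theorem coe_eq_single {n : ℤ} {x : 𝓕.extRees} (hx : x ∈ gr 𝓕 n) :
    (x : A[T;T⁻¹]) = AddMonoidAlgebra.single n ((x : A[T;T⁻¹]).coeff n) := by
  apply AddMonoidAlgebra.ext
  ext m
  rw [AddMonoidAlgebra.coeff_single_apply]
  split_ifs with h
  · subst h; rfl
  · exact hx m (Ne.symm h)

theorem mem_gr_of_coe_eq_single {n : ℤ} {x : 𝓕.extRees} (a : A)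
    (hx : (x : A[T;T⁻¹]) = AddMonoidAlgebra.single n a) : x ∈ gr 𝓕 n := by
  intro m hm
  rw [hx, AddMonoidAlgebra.coeff_single_apply, if_neg (Ne.symm hm)]

theorem single_mem (n : ℤ) (a : A) (ha : a ∈ 𝓕.F n.toNat) :
    (AddMonoidAlgebra.single n a : A[T;T⁻¹]) ∈ 𝓕.extRees := by
  intro m
  rw [AddMonoidAlgebra.coeff_single_apply]
  split_ifs with h
  · subst h; exact ha
  · exact Ideal.zero_mem _

/-- the projection to the degree `n` piece -/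
noncomputable def pr (n : ℤ) : 𝓕.extRees →+ 𝓕.extRees where
  toFun x := ⟨AddMonoidAlgebra.single n ((x : A[T;T⁻¹]).coeff n), single_mem 𝓕 n _ (x.2 n)⟩
  map_zero' := by
    apply Subtype.ext
    simp
  map_add' := by
    intro x y
    apply Subtype.ext
    change AddMonoidAlgebra.single n (((x : A[T;T⁻¹]) + (y : A[T;T⁻¹])).coeff n) =
      AddMonoidAlgebra.single n ((x : A[T;T⁻¹]).coeff n) +
        AddMonoidAlgebra.single n ((y : A[T;T⁻¹]).coeff n)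
    rw [AddMonoidAlgebra.coeff_add, Finsupp.add_apply, AddMonoidAlgebra.single_add]

theorem coe_pr (n : ℤ) (x : 𝓕.extRees) :
    ((pr 𝓕 n x : 𝓕.extRees) : A[T;T⁻¹]) = AddMonoidAlgebra.single n ((x : A[T;T⁻¹]).coeff n) :=
  rfl

theorem pr_mem (n : ℤ) (x : 𝓕.extRees) : pr 𝓕 n x ∈ gr 𝓕 n :=
  mem_gr_of_coe_eq_single 𝓕 _ (coe_pr 𝓕 n x)

theorem pr_same (n : ℤ) (x : 𝓕.extRees) (hx : x ∈ gr 𝓕 n) : pr 𝓕 n x = x := by
  apply Subtype.ext
  rw [coe_pr]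
  exact (coe_eq_single 𝓕 hx).symm

theorem pr_ne (g h : ℤ) (x : 𝓕.extRees) (hx : x ∈ gr 𝓕 g) (hgh : g ≠ h) : pr 𝓕 h x = 0 := by
  apply Subtype.ext
  rw [coe_pr, hx h (Ne.symm hgh)]
  simp

theorem eq_sum_pr (x : 𝓕.extRees) :
    x = ∑ n ∈ (x : A[T;T⁻¹]).coeff.support, pr 𝓕 n x := by
  apply Subtype.ext
  rw [AddSubmonoidClass.coe_finset_sum]
  simp only [coe_pr]
  conv_lhs => rw [← AddMonoidAlgebra.sum_coeff_single (x : A[T;T⁻¹])]
  rfl

theorem mem_iSup_gr (x : 𝓕.extRees) : x ∈ ⨆ g, gr 𝓕 g := by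
  rw [eq_sum_pr 𝓕 x]
  exact sum_mem fun n _ => AddSubgroup.mem_iSup_of_mem n (pr_mem 𝓕 n x)

theorem isInternal_gr : DirectSum.IsInternal (gr 𝓕) :=
  Gr.isInternal_of_proj (gr 𝓕) (pr 𝓕) (pr_same 𝓕) (pr_ne 𝓕) (mem_iSup_gr 𝓕)

theorem gradedMonoid : SetLike.GradedMonoid (gr 𝓕) where
  one_mem := by
    refine mem_gr_of_coe_eq_single 𝓕 (1 : A) ?_
    rfl
  mul_mem := by
    intro i j x y hx hy
    have hx' := coe_eq_single 𝓕 hx
    have hy' := coe_eq_single 𝓕 hy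
    generalize (x : A[T;T⁻¹]).coeff i = a at hx'
    generalize (y : A[T;T⁻¹]).coeff j = b at hy'
    refine mem_gr_of_coe_eq_single 𝓕 (a * b) ?_
    change (x : A[T;T⁻¹]) * (y : A[T;T⁻¹]) = _
    rw [hx', hy', AddMonoidAlgebra.single_mul_single]

/-- the graded ring structure -/
@[instance_reducible]
noncomputable def gradedRing : GradedRing (gr 𝓕) :=
  { gradedMonoid 𝓕, (isInternal_gr 𝓕).chooseDecomposition with }

theorem proj_eq [GradedRing (gr 𝓕)] (g : ℤ) (x : 𝓕.extRees) :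
    Gr.proj (gr 𝓕) g x = pr 𝓕 g x :=
  Gr.proj_eq_of_proj (gr 𝓕) (pr 𝓕) (pr_same 𝓕) (pr_ne 𝓕) g x

theorem u_mem : 𝓕.u ∈ gr 𝓕 (-1) := by
  refine mem_gr_of_coe_eq_single 𝓕 (1 : A) ?_
  rfl

end Groth.Agent.H2.ExtReesGr
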