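import Mathlib
import Groth.Prelude.Def_W4c2filtblowupsingRees
import Groth.Agent.Lib.Helper2.ExtReesGr

/-! The extended Rees algebra is of finite type when the Rees algebra is. -/

universe u
open LaurentPolynomial

namespace Groth.Agent.H2.ExtReesGr

variable {A : Type u} [CommRing A] (𝓕 : FiltBl.IdealFiltration A)

theorem toLaurent_mem (f : Polynomial A) (hf : f ∈ 𝓕.rees) :
    Polynomial.toLaurent f ∈ 𝓕.extRees := by
  rw [← Polynomial.sum_monomial_eq f, Polynomial.sum_def, map_sum]
  refine Subalgebra.sum_mem _ fun n _ => ?_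
  rw [Polynomial.toLaurent_C_mul_T, ← LaurentPolynomial.single_eq_C_mul_T]
  exact single_mem 𝓕 (n : ℤ) _ (by simpa using hf n)

theorem monomial_mem (n : ℕ) (a : A) (ha : a ∈ 𝓕.F n) : Polynomial.monomial n a ∈ 𝓕.rees := by
  intro m
  rw [Polynomial.coeff_monomial]
  split_ifs with h
  · subst h; exact ha
  · exact Ideal.zero_mem _

theorem extRees_fg (h : 𝓕.rees.FG) : 𝓕.extRees.FG := by
  classical
  obtain ⟨t, ht⟩ := h
  refine ⟨t.image Polynomial.toLaurent ∪ {T (-1)}, ?_⟩
  apply le_antisymm
  · rw [Algebra.adjoin_le_iff]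
    intro y hy
    rw [Finset.coe_union, Finset.coe_image, Finset.coe_singleton] at hy
    rcases hy with ⟨f, hf, rfl⟩ | hy
    · refine toLaurent_mem 𝓕 f ?_
      rw [← ht]
      exact Algebra.subset_adjoin hf
    · rw [Set.mem_singleton_iff] at hy
      rw [hy]
      exact (𝓕.u).2
  · intro x hx
    rw [← AddMonoidAlgebra.sum_coeff_single x]
    refine Subalgebra.sum_mem _ fun n _ => ?_
    by_cases hn : 0 ≤ n
    · obtain ⟨k, rfl⟩ := Int.eq_ofNat_of_zero_le hn
      have h1 : Polynomial.monomial k (x.coeff (k : ℤ)) ∈ Algebra.adjoin A (t : Set (Polynomial A)) := by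
        rw [ht]
        exact monomial_mem 𝓕 k _ (by simpa using hx (k : ℤ))
      have h2 : Polynomial.toLaurentAlg (Polynomial.monomial k (x.coeff (k : ℤ))) ∈
          (Algebra.adjoin A (t : Set (Polynomial A))).map Polynomial.toLaurentAlg :=
        ⟨_, h1, rfl⟩
      rw [AlgHom.map_adjoin] at h2
      rw [Polynomial.toLaurentAlg_apply, Polynomial.toLaurent_C_mul_T,
        ← LaurentPolynomial.single_eq_C_mul_T] at h2
      refine Algebra.adjoin_mono ?_ h2
      rw [Finset.coe_union, Finset.coe_image]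
      exact Set.subset_union_left
    · rw [not_le] at hn
      obtain ⟨k, hk⟩ : ∃ k : ℕ, n = -(k : ℤ) := ⟨(-n).toNat, by omega⟩
      have h1 : (AddMonoidAlgebra.single n (x.coeff n) : A[T;T⁻¹]) =
          (x.coeff n) • (T (-1) : A[T;T⁻¹]) ^ k := by
        rw [LaurentPolynomial.T_pow, LaurentPolynomial.single_eq_C_mul_T, hk,
          Algebra.smul_def, LaurentPolynomial.algebraMap_apply]
        simp
      rw [h1]
      refine Subalgebra.smul_mem _ (Subalgebra.pow_mem _ (Algebra.subset_adjoin ?_) k) _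
      rw [Finset.coe_union, Finset.coe_singleton]
      exact Set.mem_union_right _ rfl

theorem finiteType_extRees (h : Algebra.FiniteType A 𝓕.rees) : Algebra.FiniteType A 𝓕.extRees := by
  rw [← Subalgebra.fg_iff_finiteType] at h ⊢
  exact extRees_fg 𝓕 h

theorem isNoetherianRing_extRees [IsNoetherianRing A] (h : Algebra.FiniteType A 𝓕.rees) :
    IsNoetherianRing 𝓕.extRees := by
  haveI := finiteType_extRees 𝓕 h
  exact Algebra.FiniteType.isNoetherianRing A 𝓕.extRees

end Groth.Agent.H2.ExtReesGr
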