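import Mathlib
import Groth.Prelude.Def_CAlg
import Groth.Prelude.Def_W4c2filtblowupsingRees
import Groth.Agent.Lib.Helper2.ExtReesNoeth
import Groth.Agent.Lib.Helper2.ConeCM
import Groth.Agent.Lib.Helper6.GrCMCrit3
import Groth.Agent.Lib.Helper6.SkLift
import Groth.Agent.Lib.Helper6.Liai3

/-! The extended Rees algebra is Cohen–Macaulay when the associated graded ring is. -/

universe u
open LaurentPolynomial
open scoped Pointwise

namespace Groth.Agent.H2.ExtReesCM

open Groth.Agent.H6 Groth.Agent.H2.ExtReesGr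

section General

variable {R : Type u} [CommRing R] [IsNoetherianRing R]

theorem nontrivial_localized_self (p : Ideal R) [p.IsPrime] :
    Nontrivial (LocalizedModule p.primeCompl R) := by
  let e0 : LocalizedModule p.primeCompl R ≃ₗ[R] Localization.AtPrime p :=
    IsLocalizedModule.linearEquiv p.primeCompl (LocalizedModule.mkLinearMap p.primeCompl R)
      (Algebra.linearMap R (Localization.AtPrime p))
  exact e0.toEquiv.nontrivial

/-- `R_q` is Cohen–Macaulay when `(R/u)_q` is, for a non-zero-divisor `u ∈ q` -/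
theorem cm_of_cm_quot (u : R) (hu : IsSMulRegular R u) (q : Ideal R) [hq : q.IsPrime] (huq : u ∈ q)
    (h : LocCoh.IsCohenMacaulayModule (Localization.AtPrime q)
      (LocalizedModule q.primeCompl (R ⧸ Ideal.span {u}))) :
    LocCoh.IsCohenMacaulayModule (Localization.AtPrime q) (LocalizedModule q.primeCompl R) := by
  haveI : IsNoetherianRing (Localization.AtPrime q) :=
    IsLocalization.isNoetherianRing q.primeCompl _ inferInstance
  haveI : Module.Finite (Localization.AtPrime q) (LocalizedModule q.primeCompl R) :=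
    Module.Finite.of_isLocalizedModule q.primeCompl (LocalizedModule.mkLinearMap q.primeCompl R)
  haveI := nontrivial_localized_self q
  have e : (R ⧸ Ideal.span {u}) ≃ₗ[R] QuotSMulTop u R := by
    have h : Ideal.span {u} = u • (⊤ : Ideal R) := by
      simp [← Submodule.ideal_span_singleton_smul]
    exact Submodule.quotEquivOfEq _ _ h
  obtain ⟨e1, e2⟩ := SkLoc.depth_and_dim_congr (R ⧸ Ideal.span {u}) e q
  unfold LocCoh.IsCohenMacaulayModule at h ⊢
  rw [e1, e2] at h
  have F1 := SkLift.supportDim_quot_add_one R u hu q huq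
  have F2 := SkLift.depth_quot_add_one_le R u hu q huq
  obtain ⟨d, hd1, hd2⟩ := Depth.exists_depth_eq (R := Localization.AtPrime q)
    (LocalizedModule q.primeCompl R)
  apply le_antisymm _ (by rw [hd1]; exact hd2)
  rw [← F1, h]
  have : ((LocCoh.depth (Localization.AtPrime q)
      (LocalizedModule q.primeCompl (QuotSMulTop u R)) + 1 : ℕ∞) : WithBot ℕ∞) ≤
      ((LocCoh.depth (Localization.AtPrime q) (LocalizedModule q.primeCompl R) : ℕ∞) :
        WithBot ℕ∞) := by
    exact_mod_cast F2
  refine le_trans (le_of_eq ?_) this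
  push_cast
  rfl

end General

section Graded

variable {R : Type u} [CommRing R] [IsNoetherianRing R] (𝒜 : ℤ → AddSubgroup R) [GradedRing 𝒜]

/-- Cohen–Macaulay at the homogeneous core implies Cohen–Macaulay at the prime -/
theorem cm_of_cm_core (P : Ideal R) [hP : P.IsPrime]
    [hc : (Ideal.homogeneousCore 𝒜 P).toIdeal.IsPrime]
    (h : LocCoh.IsCohenMacaulayModule (Localization.AtPrime (Ideal.homogeneousCore 𝒜 P).toIdeal)
      (LocalizedModule (Ideal.homogeneousCore 𝒜 P).toIdeal.primeCompl R)) :
    LocCoh.IsCohenMacaulayModule (Localization.AtPrime P) (LocalizedModule P.primeCompl R) := by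
  set c : Ideal R := (Ideal.homogeneousCore 𝒜 P).toIdeal with hcdef
  have hcp : c ≤ P := Ideal.toIdeal_homogeneousCore_le 𝒜 P
  haveI hq : (P.map (Ideal.Quotient.mk c)).IsPrime :=
    Ideal.map_isPrime_of_surjective Ideal.Quotient.mk_surjective (by rwa [Ideal.mk_ker])
  obtain ⟨d, hd⟩ := ENat.ne_top_iff_exists.mp (Ideal.height_ne_top hq.ne_top)
  have h1 := DimCore.supportDim_core 𝒜 𝒜 P d hd.symm (nontrivial_localized_self P)
  have h2 := DepthBass.depth_core 𝒜 P d hd.symm R 𝒜
  unfold LocCoh.IsCohenMacaulayModule at h ⊢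
  rw [h1, h2, h]
  push_cast
  rfl

end Graded

end Groth.Agent.H2.ExtReesCM
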