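import Mathlib
import Groth.Agent.Lib.Helper2.ExtReesCM

/-! The extended Rees algebra is Cohen–Macaulay when the associated graded ring is: assembly. -/

universe u
open LaurentPolynomial
open scoped Pointwise

namespace Groth.Agent.H2.ExtReesCM

open Groth.Agent.H6 Groth.Agent.H2.ExtReesGr

variable {A : Type u} [CommRing A] (𝓕 : FiltBl.IdealFiltration A)

theorem F_one_ne_top [Nontrivial A] (hsep : ⨅ n, 𝓕.F n = ⊥) : 𝓕.F 1 ≠ ⊤ := by
  intro h1
  have key : ∀ n, 𝓕.F n = ⊤ := by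
    intro n
    induction n with
    | zero => exact 𝓕.zero_eq
    | succ n ih =>
      have := 𝓕.mul_le 1 n
      rw [h1, ih, Ideal.top_mul, add_comm] at this
      exact top_le_iff.mp this
  have : (⨅ n, 𝓕.F n) = ⊤ := by
    rw [iInf_eq_top]
    exact key
  rw [hsep] at this
  exact bot_ne_top this

theorem u_regular : IsSMulRegular 𝓕.extRees 𝓕.u := by
  intro x y hxy
  have h1 : (𝓕.u : A[T;T⁻¹]) * (x : A[T;T⁻¹]) = (𝓕.u : A[T;T⁻¹]) * (y : A[T;T⁻¹]) :=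
    congrArg Subtype.val hxy
  have hu : (𝓕.u : A[T;T⁻¹]) = T (-1) := rfl
  apply Subtype.ext
  have h2 := congrArg (fun z => (T 1 : A[T;T⁻¹]) * z) h1
  simp only [hu, ← mul_assoc, ← LaurentPolynomial.T_add] at h2
  simpa using h2

/-- a proper homogeneous ideal stays proper after adding `u` -/
theorem sup_span_u_ne_top [IsLocalRing A] [GradedRing (gr 𝓕)] (hsep : ⨅ n, 𝓕.F n = ⊥)
    (c : Ideal 𝓕.extRees) (hc : c.IsHomogeneous (gr 𝓕)) (hne : c ≠ ⊤) :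
    c ⊔ Ideal.span {𝓕.u} ≠ ⊤ := by
  intro htop
  have h1 : (1 : 𝓕.extRees) ∈ c ⊔ Ideal.span {𝓕.u} := by rw [htop]; trivial
  obtain ⟨q, hq, z, hz, hqz⟩ := Submodule.mem_sup.mp h1
  obtain ⟨r, rfl⟩ := Ideal.mem_span_singleton'.mp hz
  -- the degree zero part of `q` lies in `c`
  have hq0 : pr 𝓕 0 q ∈ c := by
    have := hc 0 hq
    change Gr.proj (gr 𝓕) 0 q ∈ c at this
    rwa [proj_eq] at this
  -- its coefficient is a unit
  have hcoef : (q : A[T;T⁻¹]).coeff 0 + (r : A[T;T⁻¹]).coeff 1 = 1 := by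
    have h2 : ((q + r * 𝓕.u : 𝓕.extRees) : A[T;T⁻¹]).coeff 0 =
        ((1 : 𝓕.extRees) : A[T;T⁻¹]).coeff 0 := by rw [hqz]
    have h3 : ((q + r * 𝓕.u : 𝓕.extRees) : A[T;T⁻¹]) =
        (q : A[T;T⁻¹]) + (r : A[T;T⁻¹]) * AddMonoidAlgebra.single (-1) 1 := rfl
    rw [h3, AddMonoidAlgebra.coeff_add, Finsupp.add_apply,
      AddMonoidAlgebra.coeff_mul_single_apply] at h2
    have h4 : ((1 : 𝓕.extRees) : A[T;T⁻¹]).coeff 0 = 1 := by
      change (AddMonoidAlgebra.single (0 : ℤ) (1 : A)).coeff 0 = 1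
      rw [AddMonoidAlgebra.coeff_single_apply, if_pos rfl]
    rw [h4] at h2
    simpa using h2
  have hF1 : 𝓕.F 1 ≤ IsLocalRing.maximalIdeal A :=
    IsLocalRing.le_maximalIdeal (F_one_ne_top 𝓕 hsep)
  have hmem : (r : A[T;T⁻¹]).coeff 1 ∈ IsLocalRing.maximalIdeal A := hF1 (by simpa using r.2 1)
  have hunit : IsUnit ((q : A[T;T⁻¹]).coeff 0) := by
    have : (q : A[T;T⁻¹]).coeff 0 = 1 - (r : A[T;T⁻¹]).coeff 1 := by
      rw [← hcoef]; ring
    rw [this]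
    exact IsLocalRing.isUnit_one_sub_self_of_mem_nonunits _ hmem
  obtain ⟨b, hb⟩ := hunit.exists_left_inv
  let v : 𝓕.extRees := ⟨AddMonoidAlgebra.single 0 b, single_mem 𝓕 0 b (by simp [𝓕.zero_eq])⟩
  have hv : v * pr 𝓕 0 q = 1 := by
    apply Subtype.ext
    change (AddMonoidAlgebra.single (0 : ℤ) b : A[T;T⁻¹]) *
      AddMonoidAlgebra.single 0 ((q : A[T;T⁻¹]).coeff 0) = AddMonoidAlgebra.single 0 1
    rw [AddMonoidAlgebra.single_mul_single, hb, add_zero]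
  apply hne
  rw [Ideal.eq_top_iff_one, ← hv]
  exact c.mul_mem_left v hq0

end Groth.Agent.H2.ExtReesCM
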