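import Mathlib
import Groth.Agent.Lib.Helper2.ExtReesCM2

/-! The extended Rees algebra is Cohen–Macaulay when the associated graded ring is: main theorem. -/

universe u
open LaurentPolynomial
open scoped Pointwise

namespace Groth.Agent.H2.ExtReesCM

open Groth.Agent.H6 Groth.Agent.H2.ExtReesGr

variable {A : Type u} [CommRing A] (𝓕 : FiltBl.IdealFiltration A)

theorem cm_extRees [IsNoetherianRing A] [IsLocalRing A] (hsep : ⨅ n, 𝓕.F n = ⊥)
    (hfg : Algebra.FiniteType A 𝓕.rees) (hG : LocCoh.IsCohenMacaulayRing 𝓕.Gr) :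
    LocCoh.IsCohenMacaulayRing 𝓕.extRees := by
  classical
  haveI : IsNoetherianRing 𝓕.extRees := isNoetherianRing_extRees 𝓕 hfg
  letI : GradedRing (gr 𝓕) := gradedRing 𝓕
  rw [GrCM.cmRing_iff_module]
  intro P hP
  right
  haveI hc : (Ideal.homogeneousCore (gr 𝓕) P).toIdeal.IsPrime := Ideal.IsPrime.homogeneousCore hP
  apply cm_of_cm_core (gr 𝓕) P
  have hch : (Ideal.homogeneousCore (gr 𝓕) P).toIdeal.IsHomogeneous (gr 𝓕) :=
    (Ideal.homogeneousCore (gr 𝓕) P).isHomogeneous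
  have hne := sup_span_u_ne_top 𝓕 hsep _ hch hc.ne_top
  obtain ⟨𝔓, h𝔓max, h𝔓le⟩ := Ideal.exists_le_maximal _ hne
  haveI h𝔓 : 𝔓.IsPrime := h𝔓max.isPrime
  haveI hQ : (Ideal.homogeneousCore (gr 𝓕) 𝔓).toIdeal.IsPrime := Ideal.IsPrime.homogeneousCore h𝔓
  have hu_hom : (Ideal.span {𝓕.u}).IsHomogeneous (gr 𝓕) := by
    apply Ideal.homogeneous_span
    intro x hx
    rw [Set.mem_singleton_iff] at hx
    exact ⟨-1, hx ▸ u_mem 𝓕⟩
  have hsup_hom : ((Ideal.homogeneousCore (gr 𝓕) P).toIdeal ⊔ Ideal.span {𝓕.u}).IsHomogeneous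
      (gr 𝓕) := hch.sup hu_hom
  have hle : (Ideal.homogeneousCore (gr 𝓕) P).toIdeal ⊔ Ideal.span {𝓕.u} ≤
      (Ideal.homogeneousCore (gr 𝓕) 𝔓).toIdeal :=
    Gr.le_core_of_isHomogeneous (gr 𝓕) hsup_hom h𝔓le
  have huQ : 𝓕.u ∈ (Ideal.homogeneousCore (gr 𝓕) 𝔓).toIdeal :=
    hle (Ideal.mem_sup_right (Ideal.mem_span_singleton_self _))
  have hcQ : (Ideal.homogeneousCore (gr 𝓕) P).toIdeal ≤ (Ideal.homogeneousCore (gr 𝓕) 𝔓).toIdeal :=
    le_sup_left.trans hle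
  have hcmQ : LocCoh.IsCohenMacaulayModule
      (Localization.AtPrime (Ideal.homogeneousCore (gr 𝓕) 𝔓).toIdeal)
      (LocalizedModule (Ideal.homogeneousCore (gr 𝓕) 𝔓).toIdeal.primeCompl 𝓕.extRees) := by
    apply cm_of_cm_quot 𝓕.u (u_regular 𝓕) _ huQ
    have hIle : Ideal.span {𝓕.u} ≤ (Ideal.homogeneousCore (gr 𝓕) 𝔓).toIdeal :=
      (Ideal.span_singleton_le_iff_mem _).mpr huQ
    have hker : RingHom.ker (Ideal.Quotient.mk (Ideal.span {𝓕.u})) ≤
        (Ideal.homogeneousCore (gr 𝓕) 𝔓).toIdeal := by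
      rw [Ideal.mk_ker]; exact hIle
    haveI hQ' : ((Ideal.homogeneousCore (gr 𝓕) 𝔓).toIdeal.map
        (Ideal.Quotient.mk (Ideal.span {𝓕.u}))).IsPrime :=
      Ideal.map_isPrime_of_surjective Ideal.Quotient.mk_surjective hker
    have hcomap : ((Ideal.homogeneousCore (gr 𝓕) 𝔓).toIdeal.map
        (Ideal.Quotient.mk (Ideal.span {𝓕.u}))).comap
          (algebraMap 𝓕.extRees (𝓕.extRees ⧸ Ideal.span {𝓕.u})) =
        (Ideal.homogeneousCore (gr 𝓕) 𝔓).toIdeal := by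
      rw [Ideal.Quotient.algebraMap_eq]
      exact Ideal.comap_map_mk hIle
    exact Groth.Agent.H2.ConeCM.cmModule_of_cmLocal (Ideal.span {𝓕.u}) _ _ hcomap
      (hG.isCohenMacaulayLocalRing_localization _)
  exact GrCM.cm_generization 𝓕.extRees _ _ hcQ (nontrivial_localized_self _) hcmQ

end Groth.Agent.H2.ExtReesCM
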