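import Mathlib
import Groth.Prelude.Def_W4c2filtblowupsingRees
import Groth.Agent.Lib.Helper2.ExtReesGr

/-! Specialization `T = 1` of the extended Rees algebra: `R' / (u - 1) ≅ A`. -/

universe u
open LaurentPolynomial

namespace Groth.Agent.H2.ExtReesGr

variable {A : Type u} [CommRing A] (𝓕 : FiltBl.IdealFiltration A)

/-- evaluation at `T = 1` -/
noncomputable def ev : 𝓕.extRees →+* A :=
  (LaurentPolynomial.eval₂ (RingHom.id A) 1).comp 𝓕.extRees.val.toRingHom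

theorem ev_apply (x : 𝓕.extRees) :
    ev 𝓕 x = LaurentPolynomial.eval₂ (RingHom.id A) 1 (x : A[T;T⁻¹]) := rfl

theorem ev_of_coe_eq_single {n : ℤ} {x : 𝓕.extRees} (a : A)
    (hx : (x : A[T;T⁻¹]) = AddMonoidAlgebra.single n a) : ev 𝓕 x = a := by
  rw [ev_apply, hx, LaurentPolynomial.single_eq_C_mul_T, LaurentPolynomial.eval₂_C_mul_T]
  simp

theorem coe_algebraMap (a : A) :
    ((algebraMap A 𝓕.extRees a : 𝓕.extRees) : A[T;T⁻¹]) = AddMonoidAlgebra.single 0 a := by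
  rw [Subalgebra.coe_algebraMap, LaurentPolynomial.algebraMap_apply, Algebra.algebraMap_self,
    RingHom.id_apply, LaurentPolynomial.single_eq_C_mul_T, LaurentPolynomial.T_zero, mul_one]

theorem ev_algebraMap (a : A) : ev 𝓕 (algebraMap A 𝓕.extRees a) = a :=
  ev_of_coe_eq_single 𝓕 a (coe_algebraMap 𝓕 a)

theorem ev_surjective : Function.Surjective (ev 𝓕) := fun a => ⟨_, ev_algebraMap 𝓕 a⟩

theorem ev_u : ev 𝓕 𝓕.u = 1 := ev_of_coe_eq_single 𝓕 (n := -1) 1 rfl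

theorem algebraMap_mem_gr (a : A) : algebraMap A 𝓕.extRees a ∈ gr 𝓕 0 :=
  mem_gr_of_coe_eq_single 𝓕 a (coe_algebraMap 𝓕 a)

theorem ev_pr (n : ℤ) (x : 𝓕.extRees) : ev 𝓕 (pr 𝓕 n x) = (x : A[T;T⁻¹]).coeff n :=
  ev_of_coe_eq_single 𝓕 _ (coe_pr 𝓕 n x)

theorem u_pow_sub_one_mem (k : ℕ) : 𝓕.u ^ k - 1 ∈ Ideal.span {𝓕.u - 1} := by
  rw [Ideal.mem_span_singleton]
  exact sub_one_dvd_pow_sub_one 𝓕.u k

theorem coe_u_pow (k : ℕ) : ((𝓕.u ^ k : 𝓕.extRees) : A[T;T⁻¹]) = AddMonoidAlgebra.single (-(k : ℤ)) 1 := by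
  rw [SubmonoidClass.coe_pow]
  change (T (-1) : A[T;T⁻¹]) ^ k = _
  rw [LaurentPolynomial.T_pow]
  have : (k : ℤ) * -1 = -(k : ℤ) := by ring
  rw [this]
  rfl

/-- a homogeneous element and the constant with the same coefficient: explicit relations -/
theorem u_pow_mul_eq {k : ℕ} {x : 𝓕.extRees} (a : A)
    (hx : (x : A[T;T⁻¹]) = AddMonoidAlgebra.single (k : ℤ) a) :
    𝓕.u ^ k * x = algebraMap A 𝓕.extRees a := by
  apply Subtype.ext
  rw [coe_algebraMap]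
  change ((𝓕.u ^ k : 𝓕.extRees) : A[T;T⁻¹]) * (x : A[T;T⁻¹]) = _
  rw [coe_u_pow, hx, AddMonoidAlgebra.single_mul_single]
  simp

theorem eq_algebraMap_mul_u_pow {k : ℕ} {x : 𝓕.extRees} (a : A)
    (hx : (x : A[T;T⁻¹]) = AddMonoidAlgebra.single (-(k : ℤ)) a) :
    x = algebraMap A 𝓕.extRees a * 𝓕.u ^ k := by
  apply Subtype.ext
  change _ = ((algebraMap A 𝓕.extRees a : 𝓕.extRees) : A[T;T⁻¹]) *
    ((𝓕.u ^ k : 𝓕.extRees) : A[T;T⁻¹])
  rw [coe_u_pow, coe_algebraMap, hx, AddMonoidAlgebra.single_mul_single]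
  simp

/-- a homogeneous element is congruent to its coefficient modulo `u - 1` -/
theorem sub_algebraMap_mem {n : ℤ} {x : 𝓕.extRees} (a : A)
    (hx : (x : A[T;T⁻¹]) = AddMonoidAlgebra.single n a) :
    x - algebraMap A 𝓕.extRees a ∈ Ideal.span {𝓕.u - 1} := by
  by_cases hn : 0 ≤ n
  · obtain ⟨k, rfl⟩ := Int.eq_ofNat_of_zero_le hn
    rw [← u_pow_mul_eq 𝓕 a hx]
    have : x - 𝓕.u ^ k * x = -(𝓕.u ^ k - 1) * x := by ring
    rw [this]
    exact Ideal.mul_mem_right _ _ ((Ideal.span {𝓕.u - 1}).neg_mem (u_pow_sub_one_mem 𝓕 k))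
  · rw [not_le] at hn
    obtain ⟨k, hk⟩ : ∃ k : ℕ, n = -(k : ℤ) := ⟨(-n).toNat, by omega⟩
    subst hk
    have h1 := eq_algebraMap_mul_u_pow 𝓕 a hx
    have : x - algebraMap A 𝓕.extRees a = algebraMap A 𝓕.extRees a * (𝓕.u ^ k - 1) := by
      nth_rewrite 1 [h1]
      ring
    rw [this]
    exact Ideal.mul_mem_left _ _ (u_pow_sub_one_mem 𝓕 k)


theorem sub_algebraMap_ev_mem (x : 𝓕.extRees) :
    x - algebraMap A 𝓕.extRees (ev 𝓕 x) ∈ Ideal.span {𝓕.u - 1} := by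
  have h1 := eq_sum_pr 𝓕 x
  have h2 : x - algebraMap A 𝓕.extRees (ev 𝓕 x) =
      ∑ n ∈ (x : A[T;T⁻¹]).coeff.support,
        (pr 𝓕 n x - algebraMap A 𝓕.extRees ((x : A[T;T⁻¹]).coeff n)) := by
    rw [Finset.sum_sub_distrib, ← h1, ← map_sum]
    congr 2
    conv_lhs => rw [h1, map_sum]
    exact Finset.sum_congr rfl fun n _ => ev_pr 𝓕 n x
  rw [h2]
  exact Ideal.sum_mem _ fun n _ => sub_algebraMap_mem 𝓕 _ (coe_pr 𝓕 n x)

theorem ker_ev : RingHom.ker (ev 𝓕) = Ideal.span {𝓕.u - 1} := by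
  apply le_antisymm
  · intro x hx
    rw [RingHom.mem_ker] at hx
    have := sub_algebraMap_ev_mem 𝓕 x
    rwa [hx, map_zero, sub_zero] at this
  · rw [Ideal.span_le, Set.singleton_subset_iff, SetLike.mem_coe, RingHom.mem_ker, map_sub,
      ev_u, map_one, sub_self]

theorem u_sub_one_regular : IsSMulRegular 𝓕.extRees (𝓕.u - 1) := by
  intro x y hxy
  have h0 : (𝓕.u - 1) * (x - y) = 0 := by
    have : (𝓕.u - 1) * x = (𝓕.u - 1) * y := hxy
    rw [mul_sub, this, sub_self]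
  suffices h : x - y = 0 from sub_eq_zero.mp h
  set z := x - y with hz
  -- coefficients of `z` are all equal
  have h1 : (T (-1) : A[T;T⁻¹]) * (z : A[T;T⁻¹]) = (z : A[T;T⁻¹]) := by
    have h2 : ((𝓕.u - 1) * z : 𝓕.extRees) = 0 := h0
    have h3 := congrArg (Subtype.val) h2
    have h4 : (((𝓕.u - 1) * z : 𝓕.extRees) : A[T;T⁻¹]) =
        (T (-1) - 1) * (z : A[T;T⁻¹]) := rfl
    rw [h4] at h3
    have h5 : ((0 : 𝓕.extRees) : A[T;T⁻¹]) = 0 := rfl
    rw [h5, sub_mul, one_mul, sub_eq_zero] at h3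
    exact h3
  have hstep : ∀ n : ℤ, (z : A[T;T⁻¹]).coeff (n + 1) = (z : A[T;T⁻¹]).coeff n := by
    intro n
    have h2 : ((T (-1) : A[T;T⁻¹]) * (z : A[T;T⁻¹])).coeff n = (z : A[T;T⁻¹]).coeff n := by
      rw [h1]
    rw [LaurentPolynomial.T, AddMonoidAlgebra.coeff_single_mul_apply, one_mul] at h2
    rw [← h2]
    congr 1
    ring
  have hall : ∀ n : ℤ, (z : A[T;T⁻¹]).coeff n = (z : A[T;T⁻¹]).coeff 0 := by
    intro n
    induction n using Int.induction_on with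
    | zero => rfl
    | succ k ih => rw [hstep, ih]
    | pred k ih =>
      have := hstep (-(k : ℤ) - 1)
      rw [sub_add_cancel] at this
      rw [← this, ih]
  obtain ⟨m, hm⟩ := Infinite.exists_notMem_finset (z : A[T;T⁻¹]).coeff.support
  have hm0 : (z : A[T;T⁻¹]).coeff m = 0 := Finsupp.notMem_support_iff.mp hm
  apply Subtype.ext
  apply AddMonoidAlgebra.ext
  ext n
  rw [hall n, ← hall m, hm0]
  rfl

end Groth.Agent.H2.ExtReesGr
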