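import Mathlib
import Groth.Prelude.Def_CAlg
import Groth.Agent.S0340
import Groth.Agent.Lib.Helper6.GrStarBass
import Groth.Agent.Lib.Helper6.GorBass

/-! The Gorenstein property of a ℤ-graded Noetherian ring at a prime versus at its homogeneous
core, via Bass numbers. -/

universe u
open CategoryTheory CategoryTheory.Abelian

namespace Groth.Agent.H2.GorCore

open Groth.Agent.H6

section General

variable {R : Type u} [CommRing R] [IsNoetherianRing R]

noncomputable def selfEquiv (p : Ideal R) [p.IsPrime] :
    LocalizedModule p.primeCompl R ≃ₗ[Localization.AtPrime p] Localization.AtPrime p :=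
  IsLocalizedModule.mapEquiv p.primeCompl (LocalizedModule.mkLinearMap p.primeCompl R)
    (Algebra.linearMap R (Localization.AtPrime p)) (Localization.AtPrime p) (LinearEquiv.refl R R)

/-- `R_P` is Gorenstein iff the Bass numbers `μ^i(P, R)` vanish for large `i` -/
theorem gorLocal_iff_bassNum (P : Ideal R) [P.IsPrime] :
    LocCoh.IsGorensteinLocalRing (Localization.AtPrime P) ↔
      ∃ N : ℕ, ∀ i : ℕ, N ≤ i → GrLC.bassNum P R i = 0 := by
  haveI : IsNoetherianRing (Localization.AtPrime P) :=
    IsLocalization.isNoetherianRing P.primeCompl _ inferInstance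
  rw [Groth.Agent.S0340.result (Localization.AtPrime P)]
  refine exists_congr fun N => forall_congr' fun i => imp_congr_right fun _ => ?_
  rw [BassGlobal.bassNum_eq_zero_iff]

end General

section Graded

variable {R : Type u} [CommRing R] [IsNoetherianRing R] (𝒜 : ℤ → AddSubgroup R) [GradedRing 𝒜]

/-- Gorenstein at the homogeneous core implies Gorenstein at the prime -/
theorem gor_of_gor_core (P : Ideal R) [hP : P.IsPrime]
    [hc : (Ideal.homogeneousCore 𝒜 P).toIdeal.IsPrime]
    (h : LocCoh.IsGorensteinLocalRing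
      (Localization.AtPrime (Ideal.homogeneousCore 𝒜 P).toIdeal)) :
    LocCoh.IsGorensteinLocalRing (Localization.AtPrime P) := by
  by_cases hph : P.IsHomogeneous 𝒜
  · have heq : (Ideal.homogeneousCore 𝒜 P).toIdeal = P :=
      Ideal.IsHomogeneous.toIdeal_homogeneousCore_eq_self hph
    rw [gorLocal_iff_bassNum] at h ⊢
    obtain ⟨N, hN⟩ := h
    refine ⟨N, fun i hi => ?_⟩
    have := hN i hi
    convert this using 2
    exact heq.symm
  · rw [gorLocal_iff_bassNum] at h ⊢
    obtain ⟨N, hN⟩ := h
    refine ⟨N + 1, fun i hi => ?_⟩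
    obtain ⟨j, rfl⟩ : ∃ j, i = j + 1 := ⟨i - 1, by omega⟩
    rw [StarBass.bassNum_succ_eq_core 𝒜 𝒜 P hph j]
    exact hN j (by omega)

end Graded

end Groth.Agent.H2.GorCore
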