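import Mathlib
import Groth.Prelude.Def_CAlg
import Groth.Agent.S0342
import Groth.Agent.S0343
import Groth.Agent.S0344
import Groth.Agent.Lib.Helper6.LDLoc4
import Groth.Agent.Lib.Helper2.RegQuot

/-! Transfer of the Gorenstein property: ring isomorphisms, generization, quotient by a regular
element. -/

universe u

namespace Groth.Agent.H2.GorTransfer

open IsLocalRing

theorem gorLocal_of_isField (K : Type u) [CommRing K] (hK : IsField K) :
    LocCoh.IsGorensteinLocalRing K := by
  letI := hK.toField
  exact Groth.Agent.S0342.result K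

theorem gorLocal_of_ringEquiv {A B : Type u} [CommRing A] [CommRing B] (e : A ≃+* B)
    [hA : LocCoh.IsGorensteinLocalRing A] : LocCoh.IsGorensteinLocalRing B := by
  haveI : IsNoetherianRing B := isNoetherianRing_of_ringEquiv A e
  haveI : IsLocalRing B := e.isLocalRing
  letI : Algebra A B := e.toRingHom.toAlgebra
  haveI : IsLocalHom (algebraMap A B) := by
    change IsLocalHom e.toRingHom
    exact IsLocalHom.of_surjective _ e.surjective
  let l : A ≃ₗ[A] B :=
    { e.toAddEquiv with
      map_smul' := fun r x => by
        change e (r * x) = e r * e x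
        exact map_mul e r x }
  haveI : Module.Flat A B := Module.Flat.of_linearEquiv l.symm
  rw [Groth.Agent.S0344.result A B]
  refine ⟨hA, ?_⟩
  apply gorLocal_of_isField
  have hmax : (maximalIdeal A).map (algebraMap A B) = maximalIdeal B := by
    change (maximalIdeal A).map e.toRingHom = maximalIdeal B
    exact IsLocalRing.map_maximalIdeal_of_surjective _ e.surjective
  rw [hmax]
  exact (Ideal.Quotient.maximal_ideal_iff_isField_quotient _).mp inferInstance

section Generization

variable {R : Type u} [CommRing R]

theorem isLocalization_atPrime_of_comap_eq (Q : Ideal R) [Q.IsPrime]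
    (p : Ideal (Localization.AtPrime Q)) [p.IsPrime] (P : Ideal R) [P.IsPrime]
    (h : p.comap (algebraMap R (Localization.AtPrime Q)) = P) :
    IsLocalization.AtPrime (Localization.AtPrime p) P := by
  subst h
  infer_instance

/-- the Gorenstein property passes to generizations -/
theorem gor_generization [IsNoetherianRing R] (P Q : Ideal R) [hP : P.IsPrime] [hQ : Q.IsPrime]
    (hPQ : P ≤ Q) [hG : LocCoh.IsGorensteinLocalRing (Localization.AtPrime Q)] :
    LocCoh.IsGorensteinLocalRing (Localization.AtPrime P) := by
  have hdisj : Disjoint (Q.primeCompl : Set R) (P : Set R) := by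
    rw [Set.disjoint_left]
    intro x hx hxP
    exact hx (hPQ hxP)
  haveI hp : (P.map (algebraMap R (Localization.AtPrime Q))).IsPrime :=
    IsLocalization.isPrime_of_isPrime_disjoint Q.primeCompl _ P hP hdisj
  have hcomap : (P.map (algebraMap R (Localization.AtPrime Q))).comap
      (algebraMap R (Localization.AtPrime Q)) = P :=
    IsLocalization.comap_map_of_isPrime_disjoint Q.primeCompl _ hP hdisj
  haveI := isLocalization_atPrime_of_comap_eq Q _ P hcomap
  haveI : LocCoh.IsGorensteinLocalRing
      (Localization.AtPrime (P.map (algebraMap R (Localization.AtPrime Q)))) :=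
    Groth.Agent.H6.LDL.gor_localization _
  let e : Localization.AtPrime P ≃ₐ[R]
      Localization.AtPrime (P.map (algebraMap R (Localization.AtPrime Q))) :=
    IsLocalization.algEquiv P.primeCompl _ _
  exact gorLocal_of_ringEquiv e.symm.toRingEquiv

end Generization

section Quot

variable {R : Type u} [CommRing R] [IsNoetherianRing R]

/-- `R_Q` is Gorenstein iff `(R/u)_{Q/u}` is, for a non-zero-divisor `u ∈ Q` -/
theorem gor_quot_iff (u : R) (hu : IsSMulRegular R u) (Q : Ideal R) [hQ : Q.IsPrime] (huQ : u ∈ Q)
    (q : Ideal (R ⧸ Ideal.span {u})) [hq : q.IsPrime]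
    (hqQ : q = Q.map (Ideal.Quotient.mk (Ideal.span {u}))) :
    LocCoh.IsGorensteinLocalRing (Localization.AtPrime Q) ↔
      LocCoh.IsGorensteinLocalRing (Localization.AtPrime q) := by
  haveI : IsNoetherianRing (Localization.AtPrime Q) :=
    IsLocalization.isNoetherianRing Q.primeCompl _ inferInstance
  haveI : Module.Flat R (Localization.AtPrime Q) := IsLocalization.flat _ Q.primeCompl
  have hJ : Ideal.span {u} ≤ Q := (Ideal.span_singleton_le_iff_mem _).mpr huQ
  haveI := Groth.Agent.H2.RegQuot.isLocalization_atPrime_quotient Q (Ideal.span {u}) hJ q hqQ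
  let e1 : Localization.AtPrime q ≃ₐ[R ⧸ Ideal.span {u}]
      (Localization.AtPrime Q ⧸ (Ideal.span {u}).map (algebraMap R (Localization.AtPrime Q))) :=
    IsLocalization.algEquiv q.primeCompl _ _
  have hmap : (Ideal.span {u}).map (algebraMap R (Localization.AtPrime Q)) =
      Ideal.span {algebraMap R (Localization.AtPrime Q) u} := by
    rw [Ideal.map_span, Set.image_singleton]
  let e2 : (Localization.AtPrime Q ⧸ (Ideal.span {u}).map (algebraMap R (Localization.AtPrime Q)))
      ≃+* (Localization.AtPrime Q ⧸ Ideal.span {algebraMap R (Localization.AtPrime Q) u}) :=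
    Ideal.quotEquivOfEq hmap
  let e : Localization.AtPrime q ≃+*
      (Localization.AtPrime Q ⧸ Ideal.span {algebraMap R (Localization.AtPrime Q) u}) :=
    e1.toRingEquiv.trans e2
  have hmem : algebraMap R (Localization.AtPrime Q) u ∈
      IsLocalRing.maximalIdeal (Localization.AtPrime Q) :=
    (IsLocalization.AtPrime.to_map_mem_maximal_iff (Localization.AtPrime Q) Q u).mpr huQ
  have hreg : IsSMulRegular (Localization.AtPrime Q) (algebraMap R (Localization.AtPrime Q) u) :=
    hu.of_flat_of_isBaseChange (IsBaseChange.linearMap R (Localization.AtPrime Q))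
  rw [Groth.Agent.S0343.result (Localization.AtPrime Q) _ hmem hreg]
  constructor
  · intro h
    exact gorLocal_of_ringEquiv e.symm
  · intro h
    exact gorLocal_of_ringEquiv e

/-- a Gorenstein ring modulo a regular element is Gorenstein -/
theorem gor_quot_of_regular [hR : LocCoh.IsGorensteinRing R] (u : R) (hu : IsSMulRegular R u) :
    LocCoh.IsGorensteinRing (R ⧸ Ideal.span {u}) := by
  refine { isGorensteinLocalRing_localization := fun q hq => ?_ }
  have hker : RingHom.ker (Ideal.Quotient.mk (Ideal.span {u})) ≤
      q.comap (Ideal.Quotient.mk (Ideal.span {u})) := by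
    rw [RingHom.ker_eq_comap_bot]
    exact Ideal.comap_mono bot_le
  haveI hQ : (q.comap (Ideal.Quotient.mk (Ideal.span {u}))).IsPrime := Ideal.comap_isPrime _ _
  have huQ : u ∈ q.comap (Ideal.Quotient.mk (Ideal.span {u})) := by
    apply hker
    rw [Ideal.mk_ker]
    exact Ideal.mem_span_singleton_self u
  have hqQ : q = (q.comap (Ideal.Quotient.mk (Ideal.span {u}))).map
      (Ideal.Quotient.mk (Ideal.span {u})) :=
    (Ideal.map_comap_of_surjective _ Ideal.Quotient.mk_surjective q).symm
  rw [← gor_quot_iff u hu (q.comap (Ideal.Quotient.mk (Ideal.span {u}))) huQ q hqQ]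
  exact hR.isGorensteinLocalRing_localization _

end Quot

end Groth.Agent.H2.GorTransfer
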