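import Mathlib
import Groth.Agent.Lib.Helper2.ExtReesCM2
import Groth.Agent.Lib.Helper2.GorTransfer
import Groth.Agent.Lib.Helper2.GorCore

/-! The extended Rees algebra is Gorenstein when the associated graded ring is. -/

universe u
open LaurentPolynomial
open scoped Pointwise

namespace Groth.Agent.H2.ExtReesGor

open Groth.Agent.H6 Groth.Agent.H2.ExtReesGr Groth.Agent.H2.ExtReesCM

variable {A : Type u} [CommRing A] (𝓕 : FiltBl.IdealFiltration A)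

theorem gor_extRees [IsNoetherianRing A] [IsLocalRing A] (hsep : ⨅ n, 𝓕.F n = ⊥)
    (hfg : Algebra.FiniteType A 𝓕.rees) (hG : LocCoh.IsGorensteinRing 𝓕.Gr) :
    LocCoh.IsGorensteinRing 𝓕.extRees := by
  classical
  haveI : IsNoetherianRing 𝓕.extRees := isNoetherianRing_extRees 𝓕 hfg
  letI : GradedRing (gr 𝓕) := gradedRing 𝓕
  refine { isGorensteinLocalRing_localization := fun P hP => ?_ }
  haveI hc : (Ideal.homogeneousCore (gr 𝓕) P).toIdeal.IsPrime := Ideal.IsPrime.homogeneousCore hP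
  apply Groth.Agent.H2.GorCore.gor_of_gor_core (gr 𝓕) P
  have hch : (Ideal.homogeneousCore (gr 𝓕) P).toIdeal.IsHomogeneous (gr 𝓕) :=
    (Ideal.homogeneousCore (gr 𝓕) P).isHomogeneous
  have hne := sup_span_u_ne_top 𝓕 hsep _ hch hc.ne_top
  obtain ⟨𝔓, h𝔓max, h𝔓le⟩ := Ideal.exists_le_maximal _ hne
  haveI h𝔓 : 𝔓.IsPrime := h𝔓max.isPrime
  haveI hQ : (Ideal.homogeneousCore (gr 𝓕) 𝔓).toIdeal.IsPrime := Ideal.IsPrime.homogeneousCore h𝔓
  have hu_hom : (Ideal.span {𝓕.u}).IsHomogeneous (gr 𝓕) := by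
    apply Ideal.homogeneous_span
    intro x hx
    rw [Set.mem_singleton_iff] at hx
    exact ⟨-1, hx ▸ u_mem 𝓕⟩
  have hsup_hom : ((Ideal.homogeneousCore (gr 𝓕) P).toIdeal ⊔ Ideal.span {𝓕.u}).IsHomogeneous
      (gr 𝓕) := hch.sup hu_hom
  have hle : (Ideal.homogeneousCore (gr 𝓕) P).toIdeal ⊔ Ideal.span {𝓕.u} ≤
      (Ideal.homogeneousCore (gr 𝓕) 𝔓).toIdeal :=
    Gr.le_core_of_isHomogeneous (gr 𝓕) hsup_hom h𝔓le
  have huQ : 𝓕.u ∈ (Ideal.homogeneousCore (gr 𝓕) 𝔓).toIdeal :=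
    hle (Ideal.mem_sup_right (Ideal.mem_span_singleton_self _))
  have hcQ : (Ideal.homogeneousCore (gr 𝓕) P).toIdeal ≤ (Ideal.homogeneousCore (gr 𝓕) 𝔓).toIdeal :=
    le_sup_left.trans hle
  have hIle : Ideal.span {𝓕.u} ≤ (Ideal.homogeneousCore (gr 𝓕) 𝔓).toIdeal :=
    (Ideal.span_singleton_le_iff_mem _).mpr huQ
  have hker : RingHom.ker (Ideal.Quotient.mk (Ideal.span {𝓕.u})) ≤
      (Ideal.homogeneousCore (gr 𝓕) 𝔓).toIdeal := by
    rw [Ideal.mk_ker]; exact hIle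
  haveI hQ' : ((Ideal.homogeneousCore (gr 𝓕) 𝔓).toIdeal.map
      (Ideal.Quotient.mk (Ideal.span {𝓕.u}))).IsPrime :=
    Ideal.map_isPrime_of_surjective Ideal.Quotient.mk_surjective hker
  haveI hgQ : LocCoh.IsGorensteinLocalRing
      (Localization.AtPrime (Ideal.homogeneousCore (gr 𝓕) 𝔓).toIdeal) := by
    rw [Groth.Agent.H2.GorTransfer.gor_quot_iff 𝓕.u (u_regular 𝓕) _ huQ _ rfl]
    exact hG.isGorensteinLocalRing_localization _
  exact Groth.Agent.H2.GorTransfer.gor_generization _ _ hcQ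

theorem gor_gr (hG : LocCoh.IsGorensteinRing 𝓕.extRees) : LocCoh.IsGorensteinRing 𝓕.Gr := by
  haveI : IsNoetherianRing 𝓕.extRees := hG.toIsNoetherian
  exact Groth.Agent.H2.GorTransfer.gor_quot_of_regular 𝓕.u (u_regular 𝓕)

end Groth.Agent.H2.ExtReesGor
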