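import Mathlib
import Groth.Agent.Lib.Helper2.ExtReesEv

/-! Homogeneous primes of the extended Rees algebra not containing `u`. -/

universe u
open LaurentPolynomial

namespace Groth.Agent.H2.ExtReesGr

open Groth.Agent.H6

variable {A : Type u} [CommRing A] (𝓕 : FiltBl.IdealFiltration A)

/-- membership of a homogeneous element in a prime not containing `u` is detected by its
coefficient -/
theorem mem_iff_algebraMap_mem (P : Ideal 𝓕.extRees) [hP : P.IsPrime] (hu : 𝓕.u ∉ P)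
    {n : ℤ} {x : 𝓕.extRees} (a : A) (hx : (x : A[T;T⁻¹]) = AddMonoidAlgebra.single n a) :
    x ∈ P ↔ algebraMap A 𝓕.extRees a ∈ P := by
  have hupow : ∀ k : ℕ, 𝓕.u ^ k ∉ P := fun k h => hu (hP.mem_of_pow_mem k h)
  by_cases hn : 0 ≤ n
  · obtain ⟨k, rfl⟩ := Int.eq_ofNat_of_zero_le hn
    rw [← u_pow_mul_eq 𝓕 a hx]
    constructor
    · intro h; exact P.mul_mem_left _ h
    · intro h
      rcases hP.mem_or_mem h with h1 | h1
      · exact absurd h1 (hupow k)
      · exact h1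
  · rw [not_le] at hn
    obtain ⟨k, hk⟩ : ∃ k : ℕ, n = -(k : ℤ) := ⟨(-n).toNat, by omega⟩
    subst hk
    rw [eq_algebraMap_mul_u_pow 𝓕 a hx]
    constructor
    · intro h
      rcases hP.mem_or_mem h with h1 | h1
      · exact h1
      · exact absurd h1 (hupow k)
    · intro h; exact P.mul_mem_right _ h

/-- homogeneous ideals with the same homogeneous elements are equal -/
theorem ideal_eq_of_forall_homogeneous [GradedRing (gr 𝓕)] {I J : Ideal 𝓕.extRees}
    (hI : I.IsHomogeneous (gr 𝓕)) (hJ : J.IsHomogeneous (gr 𝓕))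
    (h : ∀ (n : ℤ) (x : 𝓕.extRees), x ∈ gr 𝓕 n → (x ∈ I ↔ x ∈ J)) : I = J := by
  have key : ∀ {I J : Ideal 𝓕.extRees}, I.IsHomogeneous (gr 𝓕) →
      (∀ (n : ℤ) (x : 𝓕.extRees), x ∈ gr 𝓕 n → (x ∈ I → x ∈ J)) → I ≤ J := by
    intro I J hI h x hx
    rw [eq_sum_pr 𝓕 x]
    refine J.sum_mem fun n _ => ?_
    apply h n _ (pr_mem 𝓕 n x)
    have := hI n hx
    change Gr.proj (gr 𝓕) n x ∈ I at this
    rwa [proj_eq] at this
  exact le_antisymm (key hI fun n x hx => (h n x hx).mp) (key hJ fun n x hx => (h n x hx).mpr)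

/-- a homogeneous prime not containing `u` is the core of the pullback of its degree-zero part
along `T = 1` -/
theorem eq_core_comap_ev [GradedRing (gr 𝓕)] (c : Ideal 𝓕.extRees) [hc : c.IsPrime]
    (hch : c.IsHomogeneous (gr 𝓕)) (hu : 𝓕.u ∉ c) :
    c = (Ideal.homogeneousCore (gr 𝓕)
      ((c.comap (algebraMap A 𝓕.extRees)).comap (ev 𝓕))).toIdeal := by
  apply ideal_eq_of_forall_homogeneous 𝓕 hch (Ideal.homogeneousCore (gr 𝓕) _).isHomogeneous
  intro n x hx
  have hxs := coe_eq_single 𝓕 hx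
  rw [mem_iff_algebraMap_mem 𝓕 c hu _ hxs]
  constructor
  · intro h
    apply Ideal.mem_homogeneousCore_of_homogeneous_of_mem ⟨n, hx⟩
    rw [Ideal.mem_comap, Ideal.mem_comap, ev_of_coe_eq_single 𝓕 _ hxs]
    exact h
  · intro h
    have h1 := Ideal.toIdeal_homogeneousCore_le (gr 𝓕) _ h
    rw [Ideal.mem_comap, Ideal.mem_comap, ev_of_coe_eq_single 𝓕 _ hxs] at h1
    exact h1

/-- `u` is not in the pullback of a proper ideal along `T = 1` -/
theorem u_notMem_comap_ev (q : Ideal A) (hq : q ≠ ⊤) : 𝓕.u ∉ q.comap (ev 𝓕) := by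
  intro h
  rw [Ideal.mem_comap, ev_u] at h
  exact hq ((Ideal.eq_top_iff_one q).mpr h)

theorem u_sub_one_mem_comap_ev (q : Ideal A) : 𝓕.u - 1 ∈ q.comap (ev 𝓕) := by
  rw [Ideal.mem_comap, map_sub, ev_u, map_one, sub_self]
  exact q.zero_mem

/-- `u - 1` is not in a proper homogeneous ideal -/
theorem u_sub_one_notMem [GradedRing (gr 𝓕)] (c : Ideal 𝓕.extRees)
    (hch : c.IsHomogeneous (gr 𝓕)) (hne : c ≠ ⊤) : 𝓕.u - 1 ∉ c := by
  intro h
  have h0 := hch 0 h
  change Gr.proj (gr 𝓕) 0 (𝓕.u - 1) ∈ c at h0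
  rw [proj_eq] at h0
  have h1 : pr 𝓕 0 (𝓕.u - 1) = -1 := by
    rw [map_sub, pr_ne 𝓕 (-1) 0 _ (u_mem 𝓕) (by norm_num), zero_sub]
    congr 1
    exact pr_same 𝓕 0 1 (gradedMonoid 𝓕).one_mem
  rw [h1] at h0
  apply hne
  rw [Ideal.eq_top_iff_one]
  simpa using c.neg_mem h0

end Groth.Agent.H2.ExtReesGr
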