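import Mathlib
import Groth.Prelude.Def_W4c2filtblowupsingRees
import Groth.Agent.Lib.Helper2.ExtReesEv

/-! The Laurent polynomial ring is the localization of the extended Rees algebra at `u = T⁻¹`. -/

universe u
open LaurentPolynomial

namespace Groth.Agent.H2.ExtReesGr

variable {A : Type u} [CommRing A] (𝓕 : FiltBl.IdealFiltration A)

theorem algebraMap_extRees_apply (x : 𝓕.extRees) :
    algebraMap 𝓕.extRees A[T;T⁻¹] x = (x : A[T;T⁻¹]) := rfl

theorem algebraMap_extRees_injective :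
    Function.Injective (algebraMap 𝓕.extRees A[T;T⁻¹]) := fun _ _ h => Subtype.ext h

/-- multiplying by a high power of `T⁻¹` lands in the extended Rees algebra -/
theorem mul_single_neg_mem (z : A[T;T⁻¹]) :
    ∃ k : ℕ, z * AddMonoidAlgebra.single (-(k : ℤ)) 1 ∈ 𝓕.extRees := by
  classical
  obtain ⟨k, hk⟩ : ∃ k : ℕ, ∀ m ∈ z.coeff.support, m ≤ (k : ℤ) := by
    refine ⟨(z.coeff.support.sup (fun m : ℤ => m.toNat)), ?_⟩
    intro m hm
    have : m.toNat ≤ z.coeff.support.sup (fun m : ℤ => m.toNat) :=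
      Finset.le_sup (f := fun m : ℤ => m.toNat) hm
    omega
  refine ⟨k, ?_⟩
  intro n
  rw [AddMonoidAlgebra.coeff_mul_single_apply, mul_one]
  by_cases hn : 0 < n
  · have : z.coeff (n + - -(k : ℤ)) = 0 := by
      by_contra hcon
      have := hk _ (Finsupp.mem_support_iff.mpr hcon)
      omega
    rw [this]
    exact Ideal.zero_mem _
  · have : n.toNat = 0 := by omega
    rw [this, 𝓕.zero_eq]
    trivial

instance isLocalization_away_u : IsLocalization.Away 𝓕.u A[T;T⁻¹] := by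
  rw [IsLocalization.Away, isLocalization_iff]
  refine ⟨?_, ?_, ?_⟩
  · rintro ⟨_, k, rfl⟩
    rw [algebraMap_extRees_apply]
    change IsUnit (((𝓕.u ^ k : 𝓕.extRees) : A[T;T⁻¹]))
    rw [coe_u_pow]
    refine IsUnit.of_mul_eq_one (AddMonoidAlgebra.single (k : ℤ) 1) ?_
    rw [AddMonoidAlgebra.single_mul_single]
    simp
  · intro z
    obtain ⟨k, hk⟩ := mul_single_neg_mem 𝓕 z
    refine ⟨(⟨_, hk⟩, ⟨𝓕.u ^ k, k, rfl⟩), ?_⟩
    rw [algebraMap_extRees_apply, algebraMap_extRees_apply]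
    change z * ((𝓕.u ^ k : 𝓕.extRees) : A[T;T⁻¹]) = _
    rw [coe_u_pow]
  · intro x y hxy
    exact ⟨1, by rw [algebraMap_extRees_injective 𝓕 hxy]⟩

end Groth.Agent.H2.ExtReesGr
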