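import Mathlib
import Groth.Agent.Lib.Helper2.ExtReesHom
import Groth.Agent.Lib.Helper2.ExtReesNoeth
import Groth.Agent.Lib.Helper2.QuotRegShift

/-! Depth and dimension of the extended Rees algebra at homogeneous primes not containing `u`. -/

universe u
open LaurentPolynomial

namespace Groth.Agent.H2.ExtReesGr

open Groth.Agent.H6 Groth.Agent.H2.QuotRegShift

theorem depth_dim_congr_ideal {R : Type u} [CommRing R] {c c' : Ideal R} [hc : c.IsPrime]
    [hc' : c'.IsPrime] (h : c = c') :
    LocCoh.depth (Localization.AtPrime c) (LocalizedModule c.primeCompl R) =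
      LocCoh.depth (Localization.AtPrime c') (LocalizedModule c'.primeCompl R) ∧
    Module.supportDim (Localization.AtPrime c) (LocalizedModule c.primeCompl R) =
      Module.supportDim (Localization.AtPrime c') (LocalizedModule c'.primeCompl R) := by
  subst h
  exact ⟨rfl, rfl⟩

variable {A : Type u} [CommRing A] [IsNoetherianRing A] (𝓕 : FiltBl.IdealFiltration A)

/-- **Lemma T** -/
theorem depth_dim_core_comap_ev [IsNoetherianRing 𝓕.extRees] [GradedRing (gr 𝓕)]
    (q : Ideal A) [hq : q.IsPrime]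
    [hc : (Ideal.homogeneousCore (gr 𝓕) (q.comap (ev 𝓕))).toIdeal.IsPrime] :
    LocCoh.depth (Localization.AtPrime (Ideal.homogeneousCore (gr 𝓕) (q.comap (ev 𝓕))).toIdeal)
        (LocalizedModule (Ideal.homogeneousCore (gr 𝓕) (q.comap (ev 𝓕))).toIdeal.primeCompl
          𝓕.extRees) =
      LocCoh.depth (Localization.AtPrime q) (LocalizedModule q.primeCompl A) ∧
    Module.supportDim (Localization.AtPrime (Ideal.homogeneousCore (gr 𝓕) (q.comap (ev 𝓕))).toIdeal)
        (LocalizedModule (Ideal.homogeneousCore (gr 𝓕) (q.comap (ev 𝓕))).toIdeal.primeCompl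
          𝓕.extRees) =
      Module.supportDim (Localization.AtPrime q) (LocalizedModule q.primeCompl A) := by
  obtain ⟨d, hd1, hd0, h2, h1⟩ := exists_shift (gr 𝓕) (q.comap (ev 𝓕))
  have hne : q.comap (ev 𝓕) ≠ (Ideal.homogeneousCore (gr 𝓕) (q.comap (ev 𝓕))).toIdeal := by
    intro h
    have h3 := u_sub_one_notMem 𝓕 _ (Ideal.homogeneousCore (gr 𝓕) (q.comap (ev 𝓕))).isHomogeneous
      hc.ne_top
    rw [← h] at h3
    exact h3 (u_sub_one_mem_comap_ev 𝓕 q)
  have hd : d = 1 := by
    have : d ≠ 0 := fun h => hne (hd0.mp h)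
    omega
  subst hd
  obtain ⟨g1, g2⟩ := depth_dim_of_surjective_regular (ev 𝓕) (ev_surjective 𝓕) (𝓕.u - 1)
    (ker_ev 𝓕) (u_sub_one_regular 𝓕) q
  constructor
  · rw [g1] at h2
    have h3 : LocCoh.depth (Localization.AtPrime q) (LocalizedModule q.primeCompl A) + 1 =
        LocCoh.depth (Localization.AtPrime (Ideal.homogeneousCore (gr 𝓕) (q.comap (ev 𝓕))).toIdeal)
        (LocalizedModule (Ideal.homogeneousCore (gr 𝓕) (q.comap (ev 𝓕))).toIdeal.primeCompl
          𝓕.extRees) + 1 := by exact_mod_cast h2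
    exact (ENat.add_left_injective_of_ne_top ENat.one_ne_top h3).symm
  · rw [g2] at h1
    exact (CM.withBot_add_one_cancel (by exact_mod_cast h1)).symm

/-- **Lemma T'** -/
theorem depth_dim_of_homogeneous [IsNoetherianRing 𝓕.extRees] [GradedRing (gr 𝓕)]
    (c : Ideal 𝓕.extRees) [hc : c.IsPrime] (hch : c.IsHomogeneous (gr 𝓕)) (hu : 𝓕.u ∉ c) :
    LocCoh.depth (Localization.AtPrime c) (LocalizedModule c.primeCompl 𝓕.extRees) =
      LocCoh.depth (Localization.AtPrime (c.comap (algebraMap A 𝓕.extRees)))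
        (LocalizedModule (c.comap (algebraMap A 𝓕.extRees)).primeCompl A) ∧
    Module.supportDim (Localization.AtPrime c) (LocalizedModule c.primeCompl 𝓕.extRees) =
      Module.supportDim (Localization.AtPrime (c.comap (algebraMap A 𝓕.extRees)))
        (LocalizedModule (c.comap (algebraMap A 𝓕.extRees)).primeCompl A) := by
  have h := eq_core_comap_ev 𝓕 c hch hu
  haveI : (Ideal.homogeneousCore (gr 𝓕)
      ((c.comap (algebraMap A 𝓕.extRees)).comap (ev 𝓕))).toIdeal.IsPrime := h ▸ hc
  obtain ⟨a1, a2⟩ := depth_dim_congr_ideal h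
  obtain ⟨b1, b2⟩ := depth_dim_core_comap_ev 𝓕 (c.comap (algebraMap A 𝓕.extRees))
  exact ⟨a1.trans b1, a2.trans b2⟩

end Groth.Agent.H2.ExtReesGr
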