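import Mathlib
import Groth.Agent.Lib.Helper2.ExtReesTransfer
import Groth.Agent.Lib.Helper2.ExtReesCM
import Groth.Agent.Lib.Helper6.GrCMCrit3

/-! Cohen–Macaulayness of the extended Rees algebra off the positive part. -/

universe u
open LaurentPolynomial

namespace Groth.Agent.H2.ExtReesGr

open Groth.Agent.H6 Groth.Agent.H2.QuotRegShift

variable {A : Type u} [CommRing A] [IsNoetherianRing A] (𝓕 : FiltBl.IdealFiltration A)

theorem cmModule_iff_of_shift {R₁ R₂ : Type u} [CommRing R₁] [CommRing R₂] [IsLocalRing R₁]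
    [IsLocalRing R₂] {M₁ M₂ : Type u} [AddCommGroup M₁] [AddCommGroup M₂] [Module R₁ M₁]
    [Module R₂ M₂]
    (h1 : LocCoh.depth R₁ M₁ = LocCoh.depth R₂ M₂ + 1)
    (h2 : Module.supportDim R₁ M₁ = Module.supportDim R₂ M₂ + 1) :
    LocCoh.IsCohenMacaulayModule R₁ M₁ ↔ LocCoh.IsCohenMacaulayModule R₂ M₂ := by
  unfold LocCoh.IsCohenMacaulayModule
  rw [h1, h2]
  constructor
  · intro h
    apply CM.withBot_add_one_cancel
    rw [h]
    push_cast
    rfl
  · intro h
    rw [h]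
    push_cast
    rfl

theorem cmModule_iff_of_eq {R₁ R₂ : Type u} [CommRing R₁] [CommRing R₂] [IsLocalRing R₁]
    [IsLocalRing R₂] {M₁ M₂ : Type u} [AddCommGroup M₁] [AddCommGroup M₂] [Module R₁ M₁]
    [Module R₂ M₂]
    (h1 : LocCoh.depth R₁ M₁ = LocCoh.depth R₂ M₂)
    (h2 : Module.supportDim R₁ M₁ = Module.supportDim R₂ M₂) :
    LocCoh.IsCohenMacaulayModule R₁ M₁ ↔ LocCoh.IsCohenMacaulayModule R₂ M₂ := by
  unfold LocCoh.IsCohenMacaulayModule
  rw [h1, h2]

/-- the ideal generated by the positive part -/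
noncomputable def posIdeal : Ideal 𝓕.extRees :=
  Ideal.span {x : 𝓕.extRees | ∃ n : ℕ, 0 < n ∧ ∃ a ∈ 𝓕.F n,
    (x : LaurentPolynomial A) = LaurentPolynomial.C a * LaurentPolynomial.T (n : ℤ)}

theorem posIdeal_isHomogeneous [GradedRing (gr 𝓕)] : (posIdeal 𝓕).IsHomogeneous (gr 𝓕) := by
  apply Ideal.homogeneous_span
  rintro x ⟨n, -, a, -, hx⟩
  exact ⟨(n : ℤ), mem_gr_of_coe_eq_single 𝓕 a
    (by rw [hx, LaurentPolynomial.single_eq_C_mul_T])⟩

/-- the positive part lies in a prime not containing `u` whose degree zero part contains `F 1` -/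
theorem posIdeal_le_of_F_one_le (c : Ideal 𝓕.extRees) [hc : c.IsPrime] (hu : 𝓕.u ∉ c)
    (h : 𝓕.F 1 ≤ c.comap (algebraMap A 𝓕.extRees)) : posIdeal 𝓕 ≤ c := by
  rw [posIdeal, Ideal.span_le]
  rintro x ⟨n, hn, a, ha, hx⟩
  rw [SetLike.mem_coe, mem_iff_algebraMap_mem 𝓕 c hu a
    (by rw [hx, LaurentPolynomial.single_eq_C_mul_T] : (x : A[T;T⁻¹]) = AddMonoidAlgebra.single (n : ℤ) a)]
  exact h (𝓕.antitone (Nat.one_le_of_lt hn) ha)

/-- an element of `F 1` outside `q` gives an element of the positive part outside the pullback of `q` -/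
theorem not_posIdeal_le_comap_ev (q : Ideal A) (h : ¬ 𝓕.F 1 ≤ q) :
    ¬ posIdeal 𝓕 ≤ q.comap (ev 𝓕) := by
  intro hle
  obtain ⟨a, ha, haq⟩ := SetLike.not_le_iff_exists.mp h
  let x : 𝓕.extRees := ⟨AddMonoidAlgebra.single 1 a, single_mem 𝓕 1 a (by simpa using ha)⟩
  have hx : x ∈ posIdeal 𝓕 := by
    apply Ideal.subset_span
    refine ⟨1, Nat.one_pos, a, ha, ?_⟩
    change (AddMonoidAlgebra.single 1 a : A[T;T⁻¹]) = _
    rw [LaurentPolynomial.single_eq_C_mul_T]
    rfl
  have := hle hx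
  rw [Ideal.mem_comap, ev_of_coe_eq_single 𝓕 a (rfl : (x : A[T;T⁻¹]) = _)] at this
  exact haq this

theorem cm_off_iff [IsLocalRing A] (hfg : Algebra.FiniteType A 𝓕.rees)
    (G : Type u) [CommRing G] (φ : 𝓕.extRees →+* G) (hφ : Function.Surjective φ)
    (hker : RingHom.ker φ = Ideal.span {𝓕.u}) :
    (∀ (P : Ideal 𝓕.extRees) [P.IsPrime], ¬ posIdeal 𝓕 ≤ P →
        LocCoh.IsCohenMacaulayLocalRing (Localization.AtPrime P)) ↔
      ((∀ (p : Ideal G) [p.IsPrime], ¬ Ideal.map φ (posIdeal 𝓕) ≤ p →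
          LocCoh.IsCohenMacaulayLocalRing (Localization.AtPrime p)) ∧
        (∀ (q : Ideal A) [q.IsPrime], ¬ 𝓕.F 1 ≤ q →
            LocCoh.IsCohenMacaulayLocalRing (Localization.AtPrime q))) := by
  classical
  haveI : IsNoetherianRing 𝓕.extRees := isNoetherianRing_extRees 𝓕 hfg
  letI : GradedRing (gr 𝓕) := gradedRing 𝓕
  haveI : IsNoetherianRing G := isNoetherianRing_of_surjective 𝓕.extRees G φ hφ
  have ureg : IsSMulRegular 𝓕.extRees 𝓕.u := by
    intro x y hxy
    have h1 : (𝓕.u : A[T;T⁻¹]) * (x : A[T;T⁻¹]) = (𝓕.u : A[T;T⁻¹]) * (y : A[T;T⁻¹]) :=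
      congrArg Subtype.val hxy
    have hu : (𝓕.u : A[T;T⁻¹]) = T (-1) := rfl
    apply Subtype.ext
    have h2 := congrArg (fun z => (T 1 : A[T;T⁻¹]) * z) h1
    simp only [hu, ← mul_assoc, ← LaurentPolynomial.T_add] at h2
    simpa using h2
  constructor
  · intro H
    constructor
    · intro p hp hnot
      have hP : ¬ posIdeal 𝓕 ≤ p.comap φ := by
        intro hle
        exact hnot ((Ideal.map_mono hle).trans Ideal.map_comap_le)
      have h1 := (GrCM.cmLocal_iff_module (p.comap φ)).mp (H (p.comap φ) hP)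
      obtain ⟨g1, g2⟩ := depth_dim_of_surjective_regular φ hφ 𝓕.u hker ureg p
      rw [GrCM.cmLocal_iff_module]
      exact (cmModule_iff_of_shift g1 g2).mp h1
    · intro q hq hnot
      haveI hc : (Ideal.homogeneousCore (gr 𝓕) (q.comap (ev 𝓕))).toIdeal.IsPrime :=
        Ideal.IsPrime.homogeneousCore inferInstance
      have hP : ¬ posIdeal 𝓕 ≤ (Ideal.homogeneousCore (gr 𝓕) (q.comap (ev 𝓕))).toIdeal := by
        intro hle
        exact not_posIdeal_le_comap_ev 𝓕 q hnot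
          (hle.trans (Ideal.toIdeal_homogeneousCore_le (gr 𝓕) _))
      have h1 := (GrCM.cmLocal_iff_module _).mp (H _ hP)
      obtain ⟨t1, t2⟩ := depth_dim_core_comap_ev 𝓕 q
      rw [GrCM.cmLocal_iff_module]
      exact (cmModule_iff_of_eq t1 t2).mp h1
  · rintro ⟨HG, HA⟩ P hP hnot
    rw [GrCM.cmLocal_iff_module]
    haveI hc : (Ideal.homogeneousCore (gr 𝓕) P).toIdeal.IsPrime :=
      Ideal.IsPrime.homogeneousCore hP
    apply Groth.Agent.H2.ExtReesCM.cm_of_cm_core (gr 𝓕) P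
    have hcP : (Ideal.homogeneousCore (gr 𝓕) P).toIdeal ≤ P :=
      Ideal.toIdeal_homogeneousCore_le (gr 𝓕) P
    have hch : (Ideal.homogeneousCore (gr 𝓕) P).toIdeal.IsHomogeneous (gr 𝓕) :=
      (Ideal.homogeneousCore (gr 𝓕) P).isHomogeneous
    have hnotc : ¬ posIdeal 𝓕 ≤ (Ideal.homogeneousCore (gr 𝓕) P).toIdeal := by
      intro hle
      exact hnot (hle.trans hcP)
    generalize (Ideal.homogeneousCore (gr 𝓕) P).toIdeal = c at hc hcP hch hnotc ⊢
    by_cases hu : 𝓕.u ∈ c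
    · have hIle : Ideal.span {𝓕.u} ≤ c := (Ideal.span_singleton_le_iff_mem _).mpr hu
      have hkerle : RingHom.ker φ ≤ c := hker ▸ hIle
      haveI hp : (c.map φ).IsPrime := Ideal.map_isPrime_of_surjective hφ hkerle
      have hcomap : (c.map φ).comap φ = c := by
        rw [Ideal.comap_map_of_surjective φ hφ]
        apply le_antisymm
        · apply sup_le le_rfl
          intro x hx
          apply hkerle
          rw [RingHom.mem_ker]
          simpa using hx
        · exact le_sup_left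
      have hnotp : ¬ Ideal.map φ (posIdeal 𝓕) ≤ c.map φ := by
        intro hle
        apply hnotc
        rw [← hcomap]
        exact Ideal.le_comap_of_map_le hle
      have h1 := (GrCM.cmLocal_iff_module _).mp (HG (c.map φ) hnotp)
      obtain ⟨g1, g2⟩ := depth_dim_of_surjective_regular φ hφ 𝓕.u hker ureg (c.map φ)
      have h2 := (cmModule_iff_of_shift g1 g2).mpr h1
      obtain ⟨a1, a2⟩ := depth_dim_congr_ideal hcomap
      exact (cmModule_iff_of_eq a1 a2).mp h2
    · have hq : ¬ 𝓕.F 1 ≤ c.comap (algebraMap A 𝓕.extRees) := by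
        intro hle
        exact hnotc (posIdeal_le_of_F_one_le 𝓕 c hu hle)
      have h1 := (GrCM.cmLocal_iff_module _).mp (HA (c.comap (algebraMap A 𝓕.extRees)) hq)
      obtain ⟨t1, t2⟩ := depth_dim_of_homogeneous 𝓕 c hch hu
      exact (cmModule_iff_of_eq t1 t2).mpr h1

end Groth.Agent.H2.ExtReesGr
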