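import Mathlib
import Groth.Agent.Lib.Helper2.ExtReesOff

/-! Serre's condition `(S_2)` for the extended Rees algebra. -/

universe u
open LaurentPolynomial

namespace Groth.Agent.H2.ExtReesGr

open Groth.Agent.H6 Groth.Agent.H2.QuotRegShift

theorem min_succ_iff (k : ℕ) (δ : WithBot ℕ∞) (D : ℕ∞) :
    min ((k + 1 : ℕ) : WithBot ℕ∞) (δ + 1) ≤ ((D + 1 : ℕ∞) : WithBot ℕ∞) ↔
      min (k : WithBot ℕ∞) δ ≤ ((D : ℕ∞) : WithBot ℕ∞) := by
  induction δ using WithBot.recBotCoe with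
  | bot => simp
  | coe a =>
    have h1 : min ((k + 1 : ℕ) : WithBot ℕ∞) ((a : WithBot ℕ∞) + 1) =
        ((min (k : ℕ∞) a + 1 : ℕ∞) : WithBot ℕ∞) := by
      rw [← min_add_add_right]
      push_cast
      rfl
    have h2 : min (k : WithBot ℕ∞) (a : WithBot ℕ∞) = ((min (k : ℕ∞) a : ℕ∞) : WithBot ℕ∞) := by
      push_cast
      rfl
    rw [h1, h2, WithBot.coe_le_coe, WithBot.coe_le_coe]
    exact ENat.add_le_add_iff_right ENat.one_ne_top

theorem min_add_nat_le (k : ℕ) (δ : WithBot ℕ∞) (D : ℕ∞) (d : ℕ)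
    (h : min (k : WithBot ℕ∞) δ ≤ ((D : ℕ∞) : WithBot ℕ∞)) :
    min (k : WithBot ℕ∞) (δ + (d : WithBot ℕ∞)) ≤ ((D + d : ℕ∞) : WithBot ℕ∞) := by
  have h2 : min (k : WithBot ℕ∞) ((d : ℕ∞) : WithBot ℕ∞) ≤ (((d : ℕ∞) : ℕ∞) : WithBot ℕ∞) :=
    min_le_right _ _
  exact SkLoc.min_add_le k δ ((d : ℕ∞) : WithBot ℕ∞) D d h h2

variable {A : Type u} [CommRing A] [IsNoetherianRing A] (𝓕 : FiltBl.IdealFiltration A)

theorem hasSk_two_iff (hfg : Algebra.FiniteType A 𝓕.rees) :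
    LocCoh.HasSk 2 𝓕.extRees 𝓕.extRees ↔ (LocCoh.HasSk 1 𝓕.Gr 𝓕.Gr ∧ LocCoh.HasSk 2 A A) := by
  classical
  haveI : IsNoetherianRing 𝓕.extRees := isNoetherianRing_extRees 𝓕 hfg
  letI : GradedRing (gr 𝓕) := gradedRing 𝓕
  have ureg : IsSMulRegular 𝓕.extRees 𝓕.u := by
    intro x y hxy
    have h1 : (𝓕.u : A[T;T⁻¹]) * (x : A[T;T⁻¹]) = (𝓕.u : A[T;T⁻¹]) * (y : A[T;T⁻¹]) :=
      congrArg Subtype.val hxy
    have hu : (𝓕.u : A[T;T⁻¹]) = T (-1) := rfl
    apply Subtype.ext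
    have h2 := congrArg (fun z => (T 1 : A[T;T⁻¹]) * z) h1
    simp only [hu, ← mul_assoc, ← LaurentPolynomial.T_add] at h2
    simpa using h2
  have hφ : Function.Surjective (Ideal.Quotient.mk (Ideal.span {𝓕.u})) :=
    Ideal.Quotient.mk_surjective
  have hker : RingHom.ker (Ideal.Quotient.mk (Ideal.span {𝓕.u})) = Ideal.span {𝓕.u} :=
    Ideal.mk_ker
  constructor
  · intro H
    constructor
    · intro p hp
      obtain ⟨g1, g2⟩ := depth_dim_of_surjective_regular (Ideal.Quotient.mk (Ideal.span {𝓕.u}))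
        hφ 𝓕.u hker ureg p
      have h1 := H (p.comap (Ideal.Quotient.mk (Ideal.span {𝓕.u})))
      rw [g1, g2] at h1
      have := (min_succ_iff 1 _ _).mp h1
      exact_mod_cast this
    · intro q hq
      haveI hc : (Ideal.homogeneousCore (gr 𝓕) (q.comap (ev 𝓕))).toIdeal.IsPrime :=
        Ideal.IsPrime.homogeneousCore inferInstance
      obtain ⟨t1, t2⟩ := depth_dim_core_comap_ev 𝓕 q
      have h1 := H (Ideal.homogeneousCore (gr 𝓕) (q.comap (ev 𝓕))).toIdeal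
      rw [t1, t2] at h1
      exact h1
  · rintro ⟨HG, HA⟩ P hP
    haveI hc : (Ideal.homogeneousCore (gr 𝓕) P).toIdeal.IsPrime :=
      Ideal.IsPrime.homogeneousCore hP
    obtain ⟨d, -, -, s1, s2⟩ := exists_shift (gr 𝓕) P
    rw [s1, s2]
    have hch : (Ideal.homogeneousCore (gr 𝓕) P).toIdeal.IsHomogeneous (gr 𝓕) :=
      (Ideal.homogeneousCore (gr 𝓕) P).isHomogeneous
    generalize (Ideal.homogeneousCore (gr 𝓕) P).toIdeal = c at hc hch ⊢
    have key : min ((2 : ℕ) : WithBot ℕ∞)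
        (Module.supportDim (Localization.AtPrime c) (LocalizedModule c.primeCompl 𝓕.extRees)) ≤
        ((LocCoh.depth (Localization.AtPrime c) (LocalizedModule c.primeCompl 𝓕.extRees) : ℕ∞) :
          WithBot ℕ∞) := by
      by_cases hu : 𝓕.u ∈ c
      · have hIle : Ideal.span {𝓕.u} ≤ c := (Ideal.span_singleton_le_iff_mem _).mpr hu
        have hkerle : RingHom.ker (Ideal.Quotient.mk (Ideal.span {𝓕.u})) ≤ c := by
          rw [hker]; exact hIle
        haveI hp : (c.map (Ideal.Quotient.mk (Ideal.span {𝓕.u}))).IsPrime :=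
          Ideal.map_isPrime_of_surjective hφ hkerle
        have hcomap : (c.map (Ideal.Quotient.mk (Ideal.span {𝓕.u}))).comap
            (Ideal.Quotient.mk (Ideal.span {𝓕.u})) = c := Ideal.comap_map_mk hIle
        obtain ⟨g1, g2⟩ := depth_dim_of_surjective_regular
          (Ideal.Quotient.mk (Ideal.span {𝓕.u})) hφ 𝓕.u hker ureg
          (c.map (Ideal.Quotient.mk (Ideal.span {𝓕.u})))
        obtain ⟨a1, a2⟩ := depth_dim_congr_ideal hcomap
        rw [← a1, ← a2, g1, g2]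
        have h1 := HG (c.map (Ideal.Quotient.mk (Ideal.span {𝓕.u})))
        have := (min_succ_iff 1 _ _).mpr (by exact_mod_cast h1)
        exact_mod_cast this
      · obtain ⟨t1, t2⟩ := depth_dim_of_homogeneous 𝓕 c hch hu
        rw [t1, t2]
        exact_mod_cast HA (c.comap (algebraMap A 𝓕.extRees))
    have := min_add_nat_le 2 _ _ d key
    exact_mod_cast this

end Groth.Agent.H2.ExtReesGr
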