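import Mathlib

/-! Factors of monomials in a Laurent polynomial ring over a domain are monomials. -/

universe u
open LaurentPolynomial

namespace Groth.Agent.H2.LaurentMono

variable {A : Type u} [CommRing A] [IsDomain A]

theorem single_ne_zero {n : ℤ} {c : A} (hc : c ≠ 0) :
    (AddMonoidAlgebra.single n c : A[T;T⁻¹]) ≠ 0 := by
  intro h
  have := congrArg (fun z : A[T;T⁻¹] => z.coeff n) h
  simp only [AddMonoidAlgebra.coeff_single_apply, if_pos rfl] at this
  exact hc (by simpa using this)

/-- factors of a nonzero monomial are monomials -/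
theorem exists_single_of_mul_eq_single {f g : A[T;T⁻¹]} {n : ℤ} {c : A} (hc : c ≠ 0)
    (h : f * g = AddMonoidAlgebra.single n c) :
    ∃ (m : ℤ) (a b : A), f = AddMonoidAlgebra.single m a ∧
      g = AddMonoidAlgebra.single (n - m) b ∧ a * b = c := by
  classical
  have hfg : f * g ≠ 0 := by rw [h]; exact single_ne_zero hc
  have hf0 : f ≠ 0 := fun h0 => hfg (by rw [h0, zero_mul])
  have hg0 : g ≠ 0 := fun h0 => hfg (by rw [h0, mul_zero])
  have hsf : f.coeff.support.Nonempty := by
    rw [Finsupp.support_nonempty_iff]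
    intro h0
    exact hf0 (AddMonoidAlgebra.ext h0)
  have hsg : g.coeff.support.Nonempty := by
    rw [Finsupp.support_nonempty_iff]
    intro h0
    exact hg0 (AddMonoidAlgebra.ext h0)
  set mf := f.coeff.support.min' hsf with hmf
  set Mf := f.coeff.support.max' hsf with hMf
  set mg := g.coeff.support.min' hsg with hmg
  set Mg := g.coeff.support.max' hsg with hMg
  have hmf_mem : mf ∈ f.coeff.support := Finset.min'_mem _ _
  have hMf_mem : Mf ∈ f.coeff.support := Finset.max'_mem _ _
  have hmg_mem : mg ∈ g.coeff.support := Finset.min'_mem _ _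
  have hMg_mem : Mg ∈ g.coeff.support := Finset.max'_mem _ _
  have hmin : UniqueAdd f.coeff.support g.coeff.support mf mg := by
    intro a b ha hb hab
    have h1 : mf ≤ a := Finset.min'_le _ _ ha
    have h2 : mg ≤ b := Finset.min'_le _ _ hb
    constructor <;> omega
  have hmax : UniqueAdd f.coeff.support g.coeff.support Mf Mg := by
    intro a b ha hb hab
    have h1 : a ≤ Mf := Finset.le_max' _ _ ha
    have h2 : b ≤ Mg := Finset.le_max' _ _ hb
    constructor <;> omega
  have e1 := AddMonoidAlgebra.coeff_mul_add_of_uniqueAdd hmin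
  have e2 := AddMonoidAlgebra.coeff_mul_add_of_uniqueAdd hmax
  rw [h, AddMonoidAlgebra.coeff_single_apply] at e1 e2
  have hne1 : f.coeff mf * g.coeff mg ≠ 0 :=
    mul_ne_zero (Finsupp.mem_support_iff.mp hmf_mem) (Finsupp.mem_support_iff.mp hmg_mem)
  have hne2 : f.coeff Mf * g.coeff Mg ≠ 0 :=
    mul_ne_zero (Finsupp.mem_support_iff.mp hMf_mem) (Finsupp.mem_support_iff.mp hMg_mem)
  have hn1 : n = mf + mg := by
    by_contra hcon
    rw [if_neg hcon] at e1
    exact hne1 e1.symm
  have hn2 : n = Mf + Mg := by
    by_contra hcon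
    rw [if_neg hcon] at e2
    exact hne2 e2.symm
  have hle1 : mf ≤ Mf := Finset.min'_le _ _ hMf_mem
  have hle2 : mg ≤ Mg := Finset.min'_le _ _ hMg_mem
  have hf_eq : Mf = mf := by omega
  have hg_eq : Mg = mg := by omega
  refine ⟨mf, f.coeff mf, g.coeff mg, ?_, ?_, ?_⟩
  · apply AddMonoidAlgebra.ext
    ext k
    rw [AddMonoidAlgebra.coeff_single_apply]
    split_ifs with hk
    · subst hk; rfl
    · by_contra hcon
      have hk_mem : k ∈ f.coeff.support := Finsupp.mem_support_iff.mpr hcon
      have h1 : mf ≤ k := Finset.min'_le _ _ hk_mem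
      have h2 : k ≤ Mf := Finset.le_max' _ _ hk_mem
      omega
  · apply AddMonoidAlgebra.ext
    ext k
    rw [AddMonoidAlgebra.coeff_single_apply]
    split_ifs with hk
    · have : k = mg := by omega
      subst this; rfl
    · by_contra hcon
      have hk_mem : k ∈ g.coeff.support := Finsupp.mem_support_iff.mpr hcon
      have h1 : mg ≤ k := Finset.min'_le _ _ hk_mem
      have h2 : k ≤ Mg := Finset.le_max' _ _ hk_mem
      omega
  · rw [if_pos hn1] at e1
    exact e1.symm

end Groth.Agent.H2.LaurentMono
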