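import Mathlib
import Groth.Prelude.Def_W4c2filtblowupsingRees
import Groth.Agent.Lib.Helper2.ExtReesLoc
import Groth.Agent.Lib.Helper2.ExtReesCM2
import Groth.Agent.Lib.Helper2.ExtReesNoeth
import Groth.Agent.Lib.Helper2.LaurentMono
import Groth.Agent.Lib.Helper6.Nagata

/-! Factoriality of the extended Rees algebra. -/

universe u
open LaurentPolynomial

namespace Groth.Agent.H2.ExtReesUFD

open Groth.Agent.H2.ExtReesGr Groth.Agent.H2.LaurentMono

variable {A : Type u} [CommRing A] (𝓕 : FiltBl.IdealFiltration A)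

theorem u_ne_zero [Nontrivial A] : 𝓕.u ≠ 0 := by
  intro h
  have h1 : (𝓕.u : A[T;T⁻¹]) = 0 := by rw [h]; rfl
  have h2 : (𝓕.u : A[T;T⁻¹]) = AddMonoidAlgebra.single (-1) 1 := rfl
  rw [h2] at h1
  have := congrArg (fun z : A[T;T⁻¹] => z.coeff (-1)) h1
  simp only [AddMonoidAlgebra.coeff_single_apply] at this
  exact one_ne_zero (α := A) (by simpa using this)

theorem isDomain_gr_iff_prime_u [Nontrivial A] : IsDomain 𝓕.Gr ↔ Prime 𝓕.u := by
  rw [Ideal.Quotient.isDomain_iff_prime, Ideal.span_singleton_prime (u_ne_zero 𝓕)]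

/-- `(⇐)`: Nagata's criterion -/
theorem ufd_extRees_of_ufd [IsDomain A] [IsNoetherianRing A] [IsDomain 𝓕.extRees]
    (hfg : Algebra.FiniteType A 𝓕.rees)
    [UniqueFactorizationMonoid A] (hGr : IsDomain 𝓕.Gr) :
    UniqueFactorizationMonoid 𝓕.extRees := by
  have : IsNoetherianRing 𝓕.extRees := isNoetherianRing_extRees 𝓕 hfg
  have hu : Prime 𝓕.u := (isDomain_gr_iff_prime_u 𝓕).mp hGr
  have : UniqueFactorizationMonoid A[T;T⁻¹] :=
    UniqueFactorizationMonoid.of_isLocalization (Submonoid.powers (Polynomial.X : Polynomial A))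
      A[T;T⁻¹]
  exact Groth.Agent.H6.Nagata.ufd_of_away hu A[T;T⁻¹]

end Groth.Agent.H2.ExtReesUFD
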