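import Mathlib
import Groth.Agent.Lib.Helper2.LaurentMono

/-! Descent of factoriality from the Laurent polynomial ring to the base ring. -/

universe u
open LaurentPolynomial

namespace Groth.Agent.H2.LaurentMono

variable {A : Type u} [CommRing A] [IsDomain A]

theorem isUnit_single {m : ℤ} {a : A} (ha : IsUnit a) :
    IsUnit (AddMonoidAlgebra.single m a : A[T;T⁻¹]) := by
  obtain ⟨b, hb⟩ := ha.exists_right_inv
  refine IsUnit.of_mul_eq_one (AddMonoidAlgebra.single (-m) b) ?_
  rw [AddMonoidAlgebra.single_mul_single, hb, add_neg_cancel]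
  rfl

theorem dvd_of_single_dvd_single {p x : A}
    (h : (AddMonoidAlgebra.single 0 p : A[T;T⁻¹]) ∣ AddMonoidAlgebra.single 0 x) : p ∣ x := by
  obtain ⟨g, hg⟩ := h
  have := congrArg (fun z : A[T;T⁻¹] => z.coeff 0) hg
  simp only [AddMonoidAlgebra.coeff_single_mul_apply, AddMonoidAlgebra.coeff_single_apply,
    if_pos rfl] at this
  exact ⟨_, this⟩

theorem irreducible_single {p : A} (hp : Irreducible p) :
    Irreducible (AddMonoidAlgebra.single 0 p : A[T;T⁻¹]) := by
  refine ⟨?_, ?_⟩
  · intro hunit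
    have h1 : (AddMonoidAlgebra.single 0 p : A[T;T⁻¹]) ∣ AddMonoidAlgebra.single 0 1 :=
      hunit.dvd
    exact hp.not_isUnit (isUnit_of_dvd_one (dvd_of_single_dvd_single h1))
  · intro f g hfg
    obtain ⟨m, a, b, ha, hb, hab⟩ := exists_single_of_mul_eq_single hp.ne_zero hfg.symm
    rcases hp.isUnit_or_isUnit hab.symm with h | h
    · left; rw [ha]; exact isUnit_single h
    · right; rw [hb]; exact isUnit_single h

theorem prime_of_prime_single {p : A}
    (hp : Prime (AddMonoidAlgebra.single 0 p : A[T;T⁻¹])) (hpu : ¬ IsUnit p) : Prime p := by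
  refine ⟨?_, hpu, ?_⟩
  · rintro rfl
    exact hp.ne_zero (by simp)
  · intro x y hxy
    have h1 : (AddMonoidAlgebra.single 0 p : A[T;T⁻¹]) ∣
        AddMonoidAlgebra.single 0 x * AddMonoidAlgebra.single 0 y := by
      obtain ⟨z, hz⟩ := hxy
      refine ⟨AddMonoidAlgebra.single 0 z, ?_⟩
      rw [AddMonoidAlgebra.single_mul_single, AddMonoidAlgebra.single_mul_single, hz]
    rcases hp.dvd_or_dvd h1 with h | h
    · exact Or.inl (dvd_of_single_dvd_single h)
    · exact Or.inr (dvd_of_single_dvd_single h)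

theorem ufd_of_ufd_laurent [IsNoetherianRing A] [UniqueFactorizationMonoid A[T;T⁻¹]] :
    UniqueFactorizationMonoid A := by
  have hwf : WfDvdMonoid A := IsNoetherianRing.wfDvdMonoid
  refine { toIsWellFounded := hwf, irreducible_iff_prime := ?_ }
  intro p
  refine ⟨fun hp => ?_, Prime.irreducible⟩
  exact prime_of_prime_single
    (UniqueFactorizationMonoid.irreducible_iff_prime.mp (irreducible_single hp)) hp.not_isUnit

end Groth.Agent.H2.LaurentMono
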