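import Mathlib
import Groth.Prelude.Def_W4c2filtblowupsingRees
import Groth.Agent.Lib.Helper2.ExtReesUFD
import Groth.Agent.Lib.Helper2.LaurentUFD

/-! Factoriality of the extended Rees algebra: the converse direction. -/

universe u
open LaurentPolynomial

namespace Groth.Agent.H2.ExtReesUFD

open Groth.Agent.H2.ExtReesGr Groth.Agent.H2.LaurentMono Groth.Agent.H2.ExtReesCM

variable {A : Type u} [CommRing A] (𝓕 : FiltBl.IdealFiltration A)

theorem isUnit_of_coe_eq_single_zero {x : 𝓕.extRees} {a b : A} (hab : a * b = 1)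
    (hx : (x : A[T;T⁻¹]) = AddMonoidAlgebra.single 0 a) : IsUnit x := by
  refine IsUnit.of_mul_eq_one
    ⟨AddMonoidAlgebra.single 0 b, single_mem 𝓕 0 b (by simp [𝓕.zero_eq])⟩ ?_
  apply Subtype.ext
  change (x : A[T;T⁻¹]) * AddMonoidAlgebra.single 0 b = 1
  rw [hx, AddMonoidAlgebra.single_mul_single, hab, add_zero]
  rfl

theorem not_isUnit_of_mem [Nontrivial A] (hsep : ⨅ n, 𝓕.F n = ⊥) (k : ℕ) (hk : 1 ≤ k) (x : A)
    (hx : x ∈ 𝓕.F k) : ¬ IsUnit x := fun hux =>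
  F_one_ne_top 𝓕 hsep (Ideal.eq_top_of_isUnit_mem _ (𝓕.antitone hk hx) hux)

theorem not_isUnit_u [Nontrivial A] (hsep : ⨅ n, 𝓕.F n = ⊥) : ¬ IsUnit 𝓕.u := by
  intro h
  obtain ⟨x, hx⟩ := isUnit_iff_exists_inv.mp h
  have h1 : (AddMonoidAlgebra.single (-1) 1 : A[T;T⁻¹]) * (x : A[T;T⁻¹]) =
      AddMonoidAlgebra.single 0 1 := congrArg Subtype.val hx
  have h2 := congrArg (fun z : A[T;T⁻¹] => z.coeff 0) h1
  simp only [AddMonoidAlgebra.coeff_single_mul_apply, AddMonoidAlgebra.coeff_single_apply,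
    if_pos rfl, one_mul] at h2
  have h3 : (x : A[T;T⁻¹]).coeff 1 ∈ 𝓕.F 1 := x.2 1
  have h4 : (x : A[T;T⁻¹]).coeff 1 = 1 := by simpa using h2
  rw [h4] at h3
  exact not_isUnit_of_mem 𝓕 hsep 1 le_rfl 1 h3 isUnit_one

theorem irreducible_u [IsDomain A] (hsep : ⨅ n, 𝓕.F n = ⊥) : Irreducible 𝓕.u := by
  refine ⟨not_isUnit_u 𝓕 hsep, ?_⟩
  intro a b hab
  have h1 : (a : A[T;T⁻¹]) * (b : A[T;T⁻¹]) = AddMonoidAlgebra.single (-1) 1 :=
    (congrArg Subtype.val hab).symm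
  obtain ⟨m, α, β, ha, hb, hαβ⟩ := exists_single_of_mul_eq_single one_ne_zero h1
  have hα : α ∈ 𝓕.F m.toNat := by
    have := a.2 m
    rwa [ha, AddMonoidAlgebra.coeff_single_apply, if_pos rfl] at this
  have hβ : β ∈ 𝓕.F (-1 - m).toNat := by
    have := b.2 (-1 - m)
    rwa [hb, AddMonoidAlgebra.coeff_single_apply, if_pos rfl] at this
  have hαu : IsUnit α := IsUnit.of_mul_eq_one β hαβ
  have hβu : IsUnit β := IsUnit.of_mul_eq_one α (by rw [mul_comm]; exact hαβ)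
  by_cases hm : m = 0
  · left; subst hm; exact isUnit_of_coe_eq_single_zero 𝓕 hαβ ha
  by_cases hm' : m = -1
  · right; subst hm'
    exact isUnit_of_coe_eq_single_zero 𝓕 (by rw [mul_comm]; exact hαβ) (by simpa using hb)
  by_cases hpos : 0 < m
  · exact absurd hαu (not_isUnit_of_mem 𝓕 hsep m.toNat (by omega) α hα)
  · exact absurd hβu (not_isUnit_of_mem 𝓕 hsep (-1 - m).toNat (by omega) β hβ)

theorem isDomain_gr_of_ufd [IsDomain A] [IsDomain 𝓕.extRees] (hsep : ⨅ n, 𝓕.F n = ⊥)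
    [UniqueFactorizationMonoid 𝓕.extRees] : IsDomain 𝓕.Gr :=
  (isDomain_gr_iff_prime_u 𝓕).mpr
    (UniqueFactorizationMonoid.irreducible_iff_prime.mp (irreducible_u 𝓕 hsep))

theorem ufd_of_ufd_extRees [IsDomain A] [IsNoetherianRing A] [IsDomain 𝓕.extRees]
    [UniqueFactorizationMonoid 𝓕.extRees] : UniqueFactorizationMonoid A := by
  have : UniqueFactorizationMonoid A[T;T⁻¹] :=
    UniqueFactorizationMonoid.of_isLocalization (Submonoid.powers 𝓕.u) A[T;T⁻¹]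
  exact ufd_of_ufd_laurent

theorem main [IsDomain A] [IsNoetherianRing A] [IsDomain 𝓕.extRees]
    (hsep : ⨅ n, 𝓕.F n = ⊥) (hfg : Algebra.FiniteType A 𝓕.rees) :
    UniqueFactorizationMonoid 𝓕.extRees ↔ (UniqueFactorizationMonoid A ∧ IsDomain 𝓕.Gr) := by
  constructor
  · intro h
    exact ⟨ufd_of_ufd_extRees 𝓕, isDomain_gr_of_ufd 𝓕 hsep⟩
  · rintro ⟨h1, h2⟩
    exact ufd_extRees_of_ufd 𝓕 hfg h2

end Groth.Agent.H2.ExtReesUFD
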