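import Mathlib

/-!
# Vanishing of `Ext^i(N, M)` below the length of an `M`-regular sequence killing `N`
-/

namespace Groth.Agent.H2.ExtReg

open CategoryTheory CategoryTheory.Abelian RingTheory.Sequence Pointwise

universe u

variable {A : Type u} [CommRing A]

/-- If `a` kills `N` then `a` kills `Ext(N, M)`. -/
lemma smul_eq_zero_of_kills (N M : ModuleCat.{u} A) (a : A) (ha : ∀ n : N, a • n = 0) {i : ℕ}
    (x : Ext N M i) : a • x = 0 := by
  have h1 : a • x = (Ext.mk₀ (a • 𝟙 N)).comp x (zero_add i) := by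
    rw [Ext.mk₀_smul, Ext.smul_comp, Ext.mk₀_id_comp]
  have h2 : a • 𝟙 N = 0 := by
    ext n
    simp [ha]
  rw [h1, h2, Ext.mk₀_zero, Ext.zero_comp]

/-- If `r` is `M`-regular, `r • y = 0` and `Ext^{i-1}(N, M/rM) = 0` then `y = 0`. -/
lemma eq_zero_of_smul_eq_zero (N M : ModuleCat.{u} A) (r : A) (hr : IsSMulRegular M r) {i : ℕ}
    (hsub : ∀ i', i' + 1 = i → Subsingleton (Ext N (ModuleCat.of A (QuotSMulTop r M)) i'))
    (y : Ext N M i) (hy : r • y = 0) : y = 0 := by
  have hS := hr.smulShortComplex_shortExact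
  have hy' : y.comp (Ext.mk₀ (M.smulShortComplex r).f) (add_zero i) = 0 :=
    (Ext.smul_eq_comp_mk₀ y r).symm.trans hy
  rcases Nat.eq_zero_or_pos i with h0 | hpos
  · subst h0
    have : Mono (M.smulShortComplex r).f := hS.mono_f
    exact Ext.postcomp_mk₀_injective_of_mono N (M.smulShortComplex r).f
      (hy'.trans (map_zero _).symm)
  · obtain ⟨i', rfl⟩ : ∃ i', i = i' + 1 := ⟨i - 1, by omega⟩
    obtain ⟨x₃, hx₃⟩ := Ext.covariant_sequence_exact₁ N hS y hy' rfl
    have : x₃ = 0 := @Subsingleton.elim _ (hsub i' rfl) x₃ 0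
    rw [← hx₃, this]
    exact Ext.zero_comp _ _ hS.extClass _ _

theorem subsingleton_ext (I : Ideal A) (rs : List A) (M : Type u) [AddCommGroup M] [Module A M]
    (hreg : IsWeaklyRegular M rs) (hI : ∀ r ∈ rs, r ∈ I) (N : Type u) [AddCommGroup N] [Module A N]
    (k : ℕ) (hN : (I ^ k) • (⊤ : Submodule A N) = ⊥) (i : ℕ) (hi : i < rs.length) :
    Subsingleton (Ext (ModuleCat.of A N) (ModuleCat.of A M) i) := by
  induction rs generalizing M i with
  | nil => simp at hi
  | cons r rs ih =>
    rw [isWeaklyRegular_cons_iff] at hreg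
    have hrI : r ∈ I := hI r (List.mem_cons_self ..)
    have hkill : ∀ n : N, r ^ k • n = 0 := by
      intro n
      have : r ^ k • n ∈ (I ^ k) • (⊤ : Submodule A N) :=
        Submodule.smul_mem_smul (Ideal.pow_mem_pow hrI k) Submodule.mem_top
      rw [hN] at this
      exact (Submodule.mem_bot A).mp this
    have hsub : ∀ i', i' + 1 = i →
        Subsingleton (Ext (ModuleCat.of A N) (ModuleCat.of A (QuotSMulTop r M)) i') := by
      intro i' hi'
      apply ih (QuotSMulTop r M) hreg.2 (fun r' hr' => hI r' (List.mem_cons_of_mem _ hr'))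
      simp only [List.length_cons] at hi
      omega
    refine ⟨fun x y => ?_⟩
    suffices h : ∀ x : Ext (ModuleCat.of A N) (ModuleCat.of A M) i, x = 0 by rw [h x, h y]
    intro x
    have hk : r ^ k • x = 0 := smul_eq_zero_of_kills _ _ _ hkill x
    have key : ∀ j : ℕ, r ^ j • x = 0 → x = 0 := by
      intro j
      induction j with
      | zero => intro h; simpa using h
      | succ j ihj =>
        intro h
        apply ihj
        apply eq_zero_of_smul_eq_zero (ModuleCat.of A N) (ModuleCat.of A M) r hreg.1 hsub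
        rw [← mul_smul, ← pow_succ']
        exact h
    exact key k hk

end Groth.Agent.H2.ExtReg
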