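import Mathlib
import Groth.Agent.Lib.Helper2.ExtReg

/-!
# `Hom(N, M/(xs)M) ≃ Ext^n(N, M)` for an `M`-regular sequence `xs` of length `n` killing `N`
-/

namespace Groth.Agent.H2.ExtReg

open CategoryTheory CategoryTheory.Abelian RingTheory.Sequence Pointwise

universe u

variable {A : Type u} [CommRing A]

/-- The connecting isomorphism `Ext^n(N, M/rM) ≃ Ext^{n+1}(N, M)`. -/
theorem nonempty_connecting (N M : ModuleCat.{u} A) (r : A) (hr : IsSMulRegular M r)
    (hkill : ∀ n : N, r • n = 0) (n : ℕ) (hsub : Subsingleton (Ext N M n)) :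
    Nonempty (Ext N (ModuleCat.of A (QuotSMulTop r M)) n ≃+ Ext N M (n + 1)) := by
  have hS := hr.smulShortComplex_shortExact
  refine ⟨AddEquiv.ofBijective (hS.extClass.postcomp N (rfl : n + 1 = n + 1)) ⟨?_, ?_⟩⟩
  · rw [injective_iff_map_eq_zero]
    intro x₃ hx₃
    obtain ⟨x₂, hx₂⟩ := Ext.covariant_sequence_exact₃ N hS x₃ rfl hx₃
    have : x₂ = 0 := @Subsingleton.elim _ hsub x₂ 0
    rw [← hx₂, this]
    exact Ext.zero_comp _ _ (Ext.mk₀ (M.smulShortComplex r).g) _ _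
  · intro y
    have hy : r • y = 0 := smul_eq_zero_of_kills N M r hkill y
    have hy' : y.comp (Ext.mk₀ (M.smulShortComplex r).f) (add_zero (n + 1)) = 0 :=
      (Ext.smul_eq_comp_mk₀ y r).symm.trans hy
    obtain ⟨x₃, hx₃⟩ := Ext.covariant_sequence_exact₁ N hS y hy' rfl
    exact ⟨x₃, hx₃⟩

theorem nonempty_hom_equiv_ext (I : Ideal A) (N : Type u) [AddCommGroup N] [Module A N]
    (hN : ∀ a ∈ I, ∀ n : N, a • n = 0) (xs : List A) (M : Type u) [AddCommGroup M] [Module A M]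
    (hreg : IsWeaklyRegular M xs) (hI : ∀ r ∈ xs, r ∈ I) :
    Nonempty ((N →ₗ[A] (M ⧸ (Ideal.ofList xs • (⊤ : Submodule A M)))) ≃+
      Ext (ModuleCat.of A N) (ModuleCat.of A M) xs.length) := by
  have hN1 : (I ^ 1) • (⊤ : Submodule A N) = ⊥ := by
    rw [pow_one, eq_bot_iff, Submodule.smul_le]
    intro a ha n _
    rw [hN a ha n]
    exact Submodule.zero_mem _
  induction xs generalizing M with
  | nil =>
    have h0 : (Ideal.ofList ([] : List A) • (⊤ : Submodule A M)) = ⊥ := by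
      rw [Ideal.ofList_nil, Submodule.bot_smul]
    let e1 : (M ⧸ (Ideal.ofList ([] : List A) • (⊤ : Submodule A M))) ≃ₗ[A] M :=
      Submodule.quotEquivOfEqBot _ h0
    let e2 : (N →ₗ[A] (M ⧸ (Ideal.ofList ([] : List A) • (⊤ : Submodule A M)))) ≃+ (N →ₗ[A] M) :=
      (LinearEquiv.arrowCongr (LinearEquiv.refl A N) e1).toAddEquiv
    let e3 : (ModuleCat.of A N ⟶ ModuleCat.of A M) ≃+ (N →ₗ[A] M) := ModuleCat.homAddEquiv
    exact ⟨e2.trans (e3.symm.trans Ext.addEquiv₀.symm)⟩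
  | cons r rs ih =>
    rw [isWeaklyRegular_cons_iff] at hreg
    obtain ⟨e0⟩ := ih (QuotSMulTop r M) hreg.2 (fun r' hr' => hI r' (List.mem_cons_of_mem _ hr'))
    let e1 := Submodule.quotOfListConsSMulTopEquivQuotSMulTopInner M r rs
    let e2 : (N →ₗ[A] (M ⧸ (Ideal.ofList (r :: rs) • (⊤ : Submodule A M)))) ≃+
        (N →ₗ[A] (QuotSMulTop r M ⧸ (Ideal.ofList rs • ⊤ : Submodule A (QuotSMulTop r M)))) :=
      (LinearEquiv.arrowCongr (LinearEquiv.refl A N) e1).toAddEquiv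
    have hsub : Subsingleton (Ext (ModuleCat.of A N) (ModuleCat.of A M) rs.length) :=
      subsingleton_ext I (r :: rs) M (isWeaklyRegular_cons_iff M r rs |>.mpr hreg) hI N 1 hN1
        rs.length (by simp)
    obtain ⟨e3⟩ := nonempty_connecting (ModuleCat.of A N) (ModuleCat.of A M) r hreg.1
      (hN r (hI r (List.mem_cons_self ..))) rs.length hsub
    exact ⟨e2.trans (e0.trans e3)⟩

end Groth.Agent.H2.ExtReg
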