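import Mathlib
import Groth.Agent.Lib.Helper2.ExtReg

/-!
# `Ext^p(A/(xs), M) ≃ M/(xs)M` for a weakly regular sequence `xs` of length `p`
-/

namespace Groth.Agent.H2.ExtReg

open CategoryTheory CategoryTheory.Abelian RingTheory.Sequence Pointwise

universe u

variable {A : Type u} [CommRing A]

/-- Transport of `Ext` along an isomorphism in the first variable. -/
noncomputable def extCongrLeft {N N' : ModuleCat.{u} A} (e : N ≅ N') (M : ModuleCat.{u} A)
    (p : ℕ) : Ext N M p ≃ₗ[A] Ext N' M p :=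
  LinearEquiv.ofLinearMap ((Ext.mk₀ e.inv).precompOfLinear A M (zero_add p))
    ((Ext.mk₀ e.hom).precompOfLinear A M (zero_add p))
    (by
      ext y
      simp [Ext.mk₀_comp_mk₀_assoc])
    (by
      ext y
      simp [Ext.mk₀_comp_mk₀_assoc])

/-- The connecting map in the contravariant long exact sequence of `0 → N --x--> N → N/xN → 0`
induces an isomorphism `Ext^{p+1}(N/xN, M) ≃ Ext^p(N, M)/x` when `Ext^{p+1}(N, M) = 0`. -/
theorem nonempty_ext_quot_equiv (N M : ModuleCat.{u} A) (x : A) (hx : IsSMulRegular N x) (p : ℕ)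
    (hsub : Subsingleton (Ext N M (p + 1))) :
    Nonempty (Ext (ModuleCat.of A (QuotSMulTop x N)) M (p + 1) ≃ₗ[A] QuotSMulTop x (Ext N M p)) := by
  have hS := hx.smulShortComplex_shortExact
  have h1p : 1 + p = p + 1 := add_comm 1 p
  let δ : Ext N M p →ₗ[A] Ext (ModuleCat.of A (QuotSMulTop x N)) M (p + 1) :=
    hS.extClass.precompOfLinear A M h1p
  have hδ : ∀ y, δ y = hS.extClass.comp y h1p := fun y => rfl
  have hsurj : Function.Surjective δ := by
    intro y
    have h0 : (Ext.mk₀ (N.smulShortComplex x).g).comp y (zero_add (p + 1)) = 0 :=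
      @Subsingleton.elim _ hsub _ _
    obtain ⟨x₁, hx₁⟩ := Ext.contravariant_sequence_exact₃ hS M y h0 h1p
    exact ⟨x₁, hx₁⟩
  have hsmul : ∀ y : Ext N M p, (Ext.mk₀ (N.smulShortComplex x).f).comp y (zero_add p) = x • y := by
    intro y
    change (Ext.mk₀ (x • 𝟙 N)).comp y (zero_add p) = x • y
    rw [Ext.mk₀_smul, Ext.smul_comp, Ext.mk₀_id_comp]
  have hker : LinearMap.ker δ = x • (⊤ : Submodule A (Ext N M p)) := by
    ext y
    rw [LinearMap.mem_ker, hδ]
    constructor
    · intro hy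
      obtain ⟨x₂, hx₂⟩ := Ext.contravariant_sequence_exact₁ hS M y h1p hy
      rw [hsmul] at hx₂
      rw [← hx₂]
      exact Submodule.smul_mem_pointwise_smul _ _ _ Submodule.mem_top
    · intro hy
      obtain ⟨z, -, rfl⟩ := hy
      change hS.extClass.comp (x • z) h1p = 0
      rw [← hsmul z, ShortComplex.ShortExact.extClass_comp_assoc]
  exact ⟨(δ.quotKerEquivOfSurjective hsurj).symm.trans (Submodule.quotEquivOfEq _ _ hker)⟩

/-- Vanishing step. -/
theorem subsingleton_ext_quot (N M : ModuleCat.{u} A) (x : A) (hx : IsSMulRegular N x) (q : ℕ)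
    (h1 : Subsingleton (Ext N M q)) (h2 : Subsingleton (Ext N M (q + 1))) :
    Subsingleton (Ext (ModuleCat.of A (QuotSMulTop x N)) M (q + 1)) := by
  have hS := hx.smulShortComplex_shortExact
  have h1p : 1 + q = q + 1 := add_comm 1 q
  refine ⟨fun y y' => ?_⟩
  suffices h : ∀ y : Ext (ModuleCat.of A (QuotSMulTop x N)) M (q + 1), y = 0 by rw [h y, h y']
  intro y
  have h0 : (Ext.mk₀ (N.smulShortComplex x).g).comp y (zero_add (q + 1)) = 0 :=
    @Subsingleton.elim _ h2 _ _
  obtain ⟨x₁, hx₁⟩ := Ext.contravariant_sequence_exact₃ hS M y h0 h1p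
  have : x₁ = 0 := @Subsingleton.elim _ h1 _ _
  rw [← hx₁, this]
  exact Ext.comp_zero hS.extClass M q (q + 1) h1p

end Groth.Agent.H2.ExtReg
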