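import Mathlib
import Groth.Agent.Lib.Helper2.ExtReg3

/-!
# `Ext^p(A/(xs), M) ≃ M/(xs)M` for a weakly regular sequence `xs` of length `p`: the induction
-/

namespace Groth.Agent.H2.ExtReg

open CategoryTheory CategoryTheory.Abelian RingTheory.Sequence Pointwise

universe u

variable {A : Type u} [CommRing A]

lemma ofList_append_singleton_smul_top (ys : List A) (x : A) (P : Type u) [AddCommGroup P]
    [Module A P] :
    (Ideal.ofList (x :: ys) • ⊤ : Submodule A P) = Ideal.ofList (ys ++ [x]) • ⊤ := by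
  rw [Ideal.ofList_cons, Ideal.ofList_append, Ideal.ofList_singleton, sup_comm]

/-- `(P/(ys)P)/x ≃ P/(ys ++ [x])P`. -/
noncomputable def quotAppendEquiv (ys : List A) (x : A) (P : Type u) [AddCommGroup P]
    [Module A P] :
    QuotSMulTop x (P ⧸ (Ideal.ofList ys • ⊤ : Submodule A P)) ≃ₗ[A]
      P ⧸ (Ideal.ofList (ys ++ [x]) • ⊤ : Submodule A P) :=
  (Submodule.quotOfListConsSMulTopEquivQuotSMulTopOuter P x ys).symm.trans
    (Submodule.quotEquivOfEq _ _ (ofList_append_singleton_smul_top ys x P))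

theorem ext_quot_regular (xs : List A) (hreg : IsWeaklyRegular A xs) (M : Type u) [AddCommGroup M]
    [Module A M] :
    (∀ q, xs.length < q → Subsingleton
      (Ext (ModuleCat.of A (A ⧸ (Ideal.ofList xs • ⊤ : Submodule A A))) (ModuleCat.of A M) q)) ∧
    Nonempty (Ext (ModuleCat.of A (A ⧸ (Ideal.ofList xs • ⊤ : Submodule A A))) (ModuleCat.of A M)
      xs.length ≃ₗ[A] (M ⧸ (Ideal.ofList xs • ⊤ : Submodule A M))) := by
  induction xs using List.reverseRecOn with
  | nil =>
    have h0 : (Ideal.ofList ([] : List A) • ⊤ : Submodule A A) = ⊥ := by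
      rw [Ideal.ofList_nil, Submodule.bot_smul]
    have h0M : (Ideal.ofList ([] : List A) • ⊤ : Submodule A M) = ⊥ := by
      rw [Ideal.ofList_nil, Submodule.bot_smul]
    let e₀ : (A ⧸ (Ideal.ofList ([] : List A) • ⊤ : Submodule A A)) ≃ₗ[A] A :=
      Submodule.quotEquivOfEqBot _ h0
    have hproj : Projective (ModuleCat.of A A) :=
      ModuleCat.projective_of_free (Module.Free.chooseBasis A A)
    constructor
    · intro q hq
      obtain ⟨q', rfl⟩ : ∃ q', q = q' + 1 := ⟨q - 1, by simp at hq; omega⟩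
      have : Subsingleton (Ext (ModuleCat.of A A) (ModuleCat.of A M) (q' + 1)) :=
        ⟨fun a b => by rw [Ext.eq_zero_of_projective a, Ext.eq_zero_of_projective b]⟩
      exact (extCongrLeft e₀.toModuleIso (ModuleCat.of A M) (q' + 1)).toEquiv.subsingleton
    · let f1 : Ext (ModuleCat.of A (A ⧸ (Ideal.ofList ([] : List A) • ⊤ : Submodule A A)))
          (ModuleCat.of A M) 0 ≃ₗ[A] Ext (ModuleCat.of A A) (ModuleCat.of A M) 0 :=
        extCongrLeft e₀.toModuleIso (ModuleCat.of A M) 0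
      let f2 : Ext (ModuleCat.of A A) (ModuleCat.of A M) 0 ≃ₗ[A]
          (ModuleCat.of A A ⟶ ModuleCat.of A M) := Ext.linearEquiv₀
      let f3 : (ModuleCat.of A A ⟶ ModuleCat.of A M) ≃ₗ[A] (A →ₗ[A] M) :=
        ModuleCat.homLinearEquiv (S := A)
      let f4 : (A →ₗ[A] M) ≃ₗ[A] M := LinearMap.ringLmapEquivSelf A A M
      let f5 : M ≃ₗ[A] (M ⧸ (Ideal.ofList ([] : List A) • ⊤ : Submodule A M)) :=
        (Submodule.quotEquivOfEqBot _ h0M).symm
      exact ⟨f1.trans (f2.trans (f3.trans (f4.trans f5)))⟩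
  | append_singleton ys x ih =>
    obtain ⟨hys, hx⟩ := (isWeaklyRegular_append_iff A ys [x]).mp hreg
    obtain ⟨ih1, ⟨ih2⟩⟩ := ih hys
    have hx' : IsSMulRegular (A ⧸ (Ideal.ofList ys • ⊤ : Submodule A A)) x :=
      ((isWeaklyRegular_cons_iff _ x []).mp hx).1
    have hlen : (ys ++ [x]).length = ys.length + 1 := by simp
    let eN := quotAppendEquiv ys x A
    let eM := quotAppendEquiv ys x M
    constructor
    · intro q hq
      obtain ⟨q', rfl⟩ : ∃ q', q = q' + 1 := ⟨q - 1, by omega⟩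
      have hq' : ys.length < q' := by omega
      have := subsingleton_ext_quot
        (ModuleCat.of A (A ⧸ (Ideal.ofList ys • ⊤ : Submodule A A))) (ModuleCat.of A M) x hx' q'
        (ih1 q' hq') (ih1 (q' + 1) (by omega))
      exact (extCongrLeft eN.symm.toModuleIso (ModuleCat.of A M) (q' + 1)).toEquiv.subsingleton
    · rw [hlen]
      obtain ⟨e1⟩ := nonempty_ext_quot_equiv
        (ModuleCat.of A (A ⧸ (Ideal.ofList ys • ⊤ : Submodule A A))) (ModuleCat.of A M) x hx'
        ys.length (ih1 (ys.length + 1) (by omega))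
      exact ⟨((extCongrLeft eN.symm.toModuleIso (ModuleCat.of A M) (ys.length + 1)).trans e1).trans
        ((QuotSMulTop.congr x ih2).trans eM)⟩

theorem nonempty_ext_equiv (xs : List A) (hreg : IsWeaklyRegular A xs) (M : Type u)
    [AddCommGroup M] [Module A M] :
    Nonempty (Ext (ModuleCat.of A (A ⧸ Ideal.ofList xs)) (ModuleCat.of A M) xs.length ≃ₗ[A]
      (M ⧸ (Ideal.ofList xs • ⊤ : Submodule A M))) := by
  obtain ⟨-, ⟨e⟩⟩ := ext_quot_regular xs hreg M
  have h : (Ideal.ofList xs • ⊤ : Submodule A A) = Ideal.ofList xs := by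
    rw [smul_eq_mul, Ideal.mul_top]
  let e' : (A ⧸ Ideal.ofList xs) ≃ₗ[A] (A ⧸ (Ideal.ofList xs • ⊤ : Submodule A A)) :=
    Submodule.quotEquivOfEq _ _ h.symm
  exact ⟨(extCongrLeft e'.toModuleIso (ModuleCat.of A M) xs.length).trans e⟩

end Groth.Agent.H2.ExtReg
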