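import Mathlib

/-! Pure (universally injective) short exact sequences with finitely presented cokernel split. -/

universe u

namespace Groth.Agent.H2.PureSplit

open TensorProduct

variable {R : Type u} [CommRing R]

/-- The matrix map `(Fin n → R) → (Fin m → R)`, `g ↦ (j ↦ ∑ i, r j i * g i)`. -/
def dotMap {m n : ℕ} (r : Fin m → Fin n → R) : (Fin n → R) →ₗ[R] (Fin m → R) where
  toFun g j := ∑ i, r j i * g i
  map_add' g g' := by
    ext j
    simp [mul_add, Finset.sum_add_distrib]
  map_smul' c g := by
    ext j
    simp [Finset.mul_sum, mul_left_comm]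

/-- The matrix map on tuples of module elements. -/
def dotMapMod {m n : ℕ} (r : Fin m → Fin n → R) (X : Type*) [AddCommGroup X] [Module R X] :
    (Fin n → X) →ₗ[R] (Fin m → X) where
  toFun x j := ∑ i, r j i • x i
  map_add' x x' := by
    ext j
    simp [smul_add, Finset.sum_add_distrib]
  map_smul' c x := by
    ext j
    simp [Finset.smul_sum, smul_comm c]

lemma piScalarRight_lTensor_dotMap {m n : ℕ} (r : Fin m → Fin n → R) (X : Type*)
    [AddCommGroup X] [Module R X] (ξ : X ⊗[R] (Fin n → R)) :
    piScalarRight R R X (Fin m) (LinearMap.lTensor X (dotMap r) ξ) =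
      dotMapMod r X (piScalarRight R R X (Fin n) ξ) := by
  induction ξ using TensorProduct.induction_on with
  | zero => simp
  | tmul x g =>
    ext j
    simp only [LinearMap.lTensor_tmul, piScalarRight_apply, piScalarRightHom_tmul, dotMap,
      dotMapMod, LinearMap.coe_mk, AddHom.coe_mk]
    rw [Finset.sum_smul]
    refine Finset.sum_congr rfl (fun i _ => ?_)
    rw [mul_smul]
  | add a b ha hb => simp only [map_add, ha, hb]

/-- The linear-system lemma: if `ι : K → E` stays injective after tensoring with the cokernel of
the matrix map, then a linear system with right-hand side in `K` that is solvable in `E` is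
solvable in `K`. -/
theorem exists_solution {K E : Type*} [AddCommGroup K] [Module R K] [AddCommGroup E] [Module R E]
    (ι : K →ₗ[R] E) {m n : ℕ} (r : Fin m → Fin n → R)
    (hinj : Function.Injective
      (LinearMap.rTensor ((Fin m → R) ⧸ LinearMap.range (dotMap r)) ι))
    (k : Fin m → K) (y : Fin n → E) (hy : ∀ j, ι (k j) = ∑ i, r j i • y i) :
    ∃ x : Fin n → K, ∀ j, k j = ∑ i, r j i • x i := by
  classical
  set N := (Fin m → R) ⧸ LinearMap.range (dotMap r) with hN
  let q : (Fin m → R) →ₗ[R] N := (LinearMap.range (dotMap r)).mkQ
  have hq : Function.Surjective q := Submodule.mkQ_surjective _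
  have hex : Function.Exact (dotMap r) q := by
    intro z
    rw [← LinearMap.mem_ker, Submodule.ker_mkQ, LinearMap.mem_range]
    rfl
  -- the element `∑ k_j ⊗ f_j`
  let z' : K ⊗[R] (Fin m → R) := (piScalarRight R R K (Fin m)).symm k
  have hz' : LinearMap.lTensor K q z' = 0 := by
    apply hinj
    rw [map_zero]
    -- image in `E ⊗ N`
    have h1 : LinearMap.rTensor N ι (LinearMap.lTensor K q z') =
        LinearMap.lTensor E q (LinearMap.rTensor (Fin m → R) ι z') := by
      rw [← LinearMap.comp_apply, ← LinearMap.comp_apply, LinearMap.rTensor_comp_lTensor,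
        LinearMap.lTensor_comp_rTensor]
    rw [h1]
    have h2 : LinearMap.rTensor (Fin m → R) ι z' =
        LinearMap.lTensor E (dotMap r) ((piScalarRight R R E (Fin n)).symm y) := by
      apply (piScalarRight R R E (Fin m)).injective
      rw [piScalarRight_lTensor_dotMap, LinearEquiv.apply_symm_apply]
      have h3 : ∀ w : K ⊗[R] (Fin m → R),
          piScalarRight R R E (Fin m) (LinearMap.rTensor (Fin m → R) ι w) =
            fun j => ι (piScalarRight R R K (Fin m) w j) := by
        intro w
        induction w using TensorProduct.induction_on with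
        | zero =>
          ext j
          simp
        | tmul x g =>
          ext j
          simp
        | add a b ha hb =>
          ext j
          simp only [map_add, ha, hb, Pi.add_apply]
      rw [h3, LinearEquiv.apply_symm_apply]
      ext j
      rw [hy j]
      rfl
    rw [h2, ← LinearMap.comp_apply, ← LinearMap.lTensor_comp]
    have h4 : q ∘ₗ dotMap r = 0 := by
      apply LinearMap.ext
      intro g
      exact (hex _).2 ⟨g, rfl⟩
    rw [h4, LinearMap.lTensor_zero, LinearMap.zero_apply]
  have hex' := lTensor_exact K hex hq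
  obtain ⟨ξ, hξ⟩ := (hex' z').1 hz'
  refine ⟨piScalarRight R R K (Fin n) ξ, fun j => ?_⟩
  have h5 := congrArg (piScalarRight R R K (Fin m)) hξ
  rw [piScalarRight_lTensor_dotMap, LinearEquiv.apply_symm_apply] at h5
  exact (congrFun h5 j).symm

/-- A surjection onto a finitely presented module whose kernel is a pure submodule splits. -/
theorem exists_section {E M : Type u} [AddCommGroup E] [Module R E] [AddCommGroup M] [Module R M]
    [Module.FinitePresentation R M] (π : E →ₗ[R] M) (hπ : Function.Surjective π)
    (hpure : ∀ (N : Type u) [AddCommGroup N] [Module R N],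
      Function.Injective (LinearMap.rTensor N (LinearMap.ker π).subtype)) :
    ∃ s : M →ₗ[R] E, π ∘ₗ s = LinearMap.id := by
  classical
  obtain ⟨n, m, p, g, hp, hgp⟩ := Module.FinitePresentation.exists_fin' R M
  let r : Fin m → Fin n → R := fun j => g (Pi.single j 1)
  choose eh heh using fun i : Fin n => hπ (p (Pi.single i 1))
  let et : (Fin n → R) →ₗ[R] E := Fintype.linearCombination R eh
  have het : ∀ z, π (et z) = p z := by
    intro z
    have : π ∘ₗ et = p := by
      apply LinearMap.pi_ext'
      intro i
      apply LinearMap.ext_ring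
      simp only [LinearMap.comp_apply, LinearMap.single_apply, et,
        Fintype.linearCombination_apply_single, one_smul, heh]
    exact LinearMap.congr_fun this z
  have hk : ∀ j, et (r j) ∈ LinearMap.ker π := by
    intro j
    rw [LinearMap.mem_ker, het]
    exact (hgp _).2 ⟨_, rfl⟩
  let k : Fin m → LinearMap.ker π := fun j => ⟨et (r j), hk j⟩
  obtain ⟨x, hx⟩ := exists_solution (LinearMap.ker π).subtype r (hpure _) k eh (fun j => by
    show et (r j) = ∑ i, r j i • eh i
    rw [Fintype.linearCombination_apply])
  let xt : (Fin n → R) →ₗ[R] E := Fintype.linearCombination R (fun i => (x i : E))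
  have hxt : ∀ z, π (xt z) = 0 := by
    intro z
    show π (Fintype.linearCombination R (fun i => (x i : E)) z) = 0
    rw [Fintype.linearCombination_apply, map_sum]
    refine Finset.sum_eq_zero (fun i _ => ?_)
    rw [map_smul, LinearMap.mem_ker.1 (x i).2, smul_zero]
  have hcomp : (et - xt) ∘ₗ g = 0 := by
    apply LinearMap.pi_ext'
    intro j
    apply LinearMap.ext_ring
    simp only [LinearMap.comp_apply, LinearMap.single_apply, LinearMap.sub_apply,
      LinearMap.zero_apply]
    show et (r j) - xt (r j) = 0
    rw [sub_eq_zero]
    have h1 : et (r j) = ((k j : LinearMap.ker π) : E) := rfl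
    rw [h1, hx j]
    show _ = Fintype.linearCombination R (fun i => (x i : E)) (r j)
    rw [Fintype.linearCombination_apply]
    simp
  have hle : LinearMap.ker p ≤ LinearMap.ker (et - xt) := by
    intro z hz
    obtain ⟨w, rfl⟩ := (hgp z).1 hz
    exact LinearMap.congr_fun hcomp w
  let e := LinearMap.quotKerEquivOfSurjective p hp
  refine ⟨((LinearMap.ker p).liftQ (et - xt) hle) ∘ₗ e.symm.toLinearMap, ?_⟩
  apply LinearMap.ext
  intro mm
  obtain ⟨z, rfl⟩ := hp mm
  have h2 : e.symm (p z) = (LinearMap.ker p).mkQ z := by
    rw [LinearEquiv.symm_apply_eq]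
    rfl
  simp only [LinearMap.comp_apply, LinearEquiv.coe_coe, LinearMap.id_apply, h2,
    Submodule.mkQ_apply, Submodule.liftQ_apply, LinearMap.sub_apply, map_sub, het, hxt, sub_zero]

end Groth.Agent.H2.PureSplit
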