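import Mathlib
import Groth.Agent.Lib.Helper2.TorBalNatMod

/-! Long exact sequence of `Tor` in the second variable. -/

universe v u v' u'

namespace Groth.Agent.H2.TorBal

open CategoryTheory CategoryTheory.Limits Category HomologicalComplex MonoidalCategory

section General

variable {C : Type u} [Category.{v} C] [Abelian C] {D : Type u'} [Category.{v'} D] [Abelian D]

/-- Transport of the homology long exact sequence along natural isomorphisms
`T i ≅ Ψ ⋙ Hᵢ` (given componentwise). -/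
theorem les_of_natIso (Ψ : C ⥤ ChainComplex D ℕ) [Ψ.PreservesZeroMorphisms] (T : ℕ → (C ⥤ D))
    (τ : ∀ (i : ℕ) (X : C), (T i).obj X ≅ (Ψ.obj X).homology i)
    (nat : ∀ (j : ℕ) {X Y : C} (f : X ⟶ Y),
      (T j).map f ≫ (τ j Y).hom = (τ j X).hom ≫ homologyMap (Ψ.map f) j)
    (S : ShortComplex C) (hK : (S.map Ψ).ShortExact) (i : ℕ) :
    (∃ w₀ : (T i).map S.f ≫ (T i).map S.g = 0,
        (ShortComplex.mk ((T i).map S.f) ((T i).map S.g) w₀).Exact) ∧
      ∃ (δ : (T (i + 1)).obj S.X₃ ⟶ (T i).obj S.X₁)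
        (w₁ : (T (i + 1)).map S.g ≫ δ = 0) (w₂ : δ ≫ (T i).map S.f = 0),
        (ShortComplex.mk ((T (i + 1)).map S.g) δ w₁).Exact ∧
          (ShortComplex.mk δ ((T i).map S.f) w₂).Exact := by
  have hz : ∀ j : ℕ, homologyMap (Ψ.map S.f) j ≫ homologyMap (Ψ.map S.g) j = 0 := fun j => by
    rw [← homologyMap_comp, ← Ψ.map_comp, S.zero, Ψ.map_zero, homologyMap_zero]
  have w₀ : (T i).map S.f ≫ (T i).map S.g = 0 := by
    rw [← cancel_mono (τ i S.X₃).hom, assoc, nat, ← assoc, nat, assoc, hz, comp_zero, zero_comp]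
  have hij : (ComplexShape.down ℕ).Rel (i + 1) i := by simp
  have ex2 : (ShortComplex.mk (homologyMap (Ψ.map S.f) i) (homologyMap (Ψ.map S.g) i)
      (hz i)).Exact := hK.homology_exact₂ i
  obtain ⟨δ', c1, c2, ex3, ex1⟩ : ∃ (δ' : (Ψ.obj S.X₃).homology (i + 1) ⟶ (Ψ.obj S.X₁).homology i)
      (c1 : homologyMap (Ψ.map S.g) (i + 1) ≫ δ' = 0)
      (c2 : δ' ≫ homologyMap (Ψ.map S.f) i = 0),
      (ShortComplex.mk _ _ c1).Exact ∧ (ShortComplex.mk _ _ c2).Exact :=
    ⟨hK.δ (i + 1) i hij, hK.comp_δ _ _ _, hK.δ_comp _ _ _, hK.homology_exact₃ _ _ _,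
      hK.homology_exact₁ _ _ _⟩
  refine ⟨⟨w₀, ?_⟩, ?_⟩
  · refine (ShortComplex.exact_iff_of_iso (ShortComplex.isoMk (τ i S.X₁) (τ i S.X₂)
      (τ i S.X₃) ?_ ?_)).2 ex2
    · exact (nat i S.f).symm
    · exact (nat i S.g).symm
  · let δ : (T (i + 1)).obj S.X₃ ⟶ (T i).obj S.X₁ :=
      (τ (i + 1) S.X₃).hom ≫ δ' ≫ (τ i S.X₁).inv
    have hδ : δ ≫ (τ i S.X₁).hom = (τ (i + 1) S.X₃).hom ≫ δ' := by
      simp only [δ, assoc, Iso.inv_hom_id, comp_id]
    have w₁ : (T (i + 1)).map S.g ≫ δ = 0 := by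
      rw [← cancel_mono (τ i S.X₁).hom, assoc, hδ, ← assoc, nat, assoc, c1, comp_zero, zero_comp]
    have w₂ : δ ≫ (T i).map S.f = 0 := by
      rw [← cancel_mono (τ i S.X₂).hom, assoc, nat, ← assoc, hδ, assoc, c2, comp_zero, zero_comp]
    refine ⟨δ, w₁, w₂, ?_, ?_⟩
    · refine (ShortComplex.exact_iff_of_iso (ShortComplex.isoMk (τ (i + 1) S.X₂)
        (τ (i + 1) S.X₃) (τ i S.X₁) ?_ ?_)).2 ex3
      · exact (nat (i + 1) S.g).symm
      · exact hδ.symm
    · refine (ShortComplex.exact_iff_of_iso (ShortComplex.isoMk (τ (i + 1) S.X₃)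
        (τ i S.X₁) (τ i S.X₂) ?_ ?_)).2 ex1
      · exact hδ.symm
      · exact (nat i S.f).symm

end General

section Mod

variable {R : Type u} [CommRing R]

instance (K : ChainComplex (ModuleCat.{u} R) ℕ) : (tensorCxR K).PreservesZeroMorphisms where
  map_zero X Y := by
    ext i : 1
    simp
    rfl

lemma tensorCxR_shortExact (K : ChainComplex (ModuleCat.{u} R) ℕ)
    (hK : ∀ i, Module.Flat R (K.X i)) (S : ShortComplex (ModuleCat.{u} R)) (hS : S.ShortExact) :
    (S.map (tensorCxR K)).ShortExact := by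
  apply HomologicalComplex.shortExact_of_degreewise_shortExact
  intro j
  haveI : Module.Flat R (K.X j) := hK j
  exact hS.map_of_exact (tensorLeft (K.X j))

/-- Long exact sequence of `Tor` in the second variable. -/
theorem tor_les_right (M : ModuleCat.{u} R) (S : ShortComplex (ModuleCat.{u} R))
    (hS : S.ShortExact) (i : ℕ) :
    (∃ w₀ : ((Tor (ModuleCat.{u} R) i).obj M).map S.f ≫ ((Tor (ModuleCat.{u} R) i).obj M).map S.g = 0,
        (ShortComplex.mk (((Tor (ModuleCat.{u} R) i).obj M).map S.f)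
          (((Tor (ModuleCat.{u} R) i).obj M).map S.g) w₀).Exact) ∧
      ∃ (δ : ((Tor (ModuleCat.{u} R) (i + 1)).obj M).obj S.X₃ ⟶
          ((Tor (ModuleCat.{u} R) i).obj M).obj S.X₁)
        (w₁ : ((Tor (ModuleCat.{u} R) (i + 1)).obj M).map S.g ≫ δ = 0)
        (w₂ : δ ≫ ((Tor (ModuleCat.{u} R) i).obj M).map S.f = 0),
        (ShortComplex.mk (((Tor (ModuleCat.{u} R) (i + 1)).obj M).map S.g) δ w₁).Exact ∧
          (ShortComplex.mk δ (((Tor (ModuleCat.{u} R) i).obj M).map S.f) w₂).Exact :=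
  les_of_natIso (tensorCxR (projectiveResolution M).complex)
    (fun i => (Tor (ModuleCat.{u} R) i).obj M)
    (fun i X => (torIsoR M (projectiveResolution M) i).app X)
    (fun j _ _ f => (torIsoR M (projectiveResolution M) j).hom.naturality f) S
    (tensorCxR_shortExact _
      (fun i => haveI := (projectiveResolution M).projective i; flat_of_projective _) S hS) i

/-- `Tor₀(M, -)` preserves epimorphisms. -/
theorem epi_tor_zero_map (M : ModuleCat.{u} R) {X Y : ModuleCat.{u} R} (g : X ⟶ Y) [Epi g] :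
    Epi (((Tor (ModuleCat.{u} R) 0).obj M).map g) := by
  let e : (Tor (ModuleCat.{u} R) 0).obj M ≅ tensorLeft M := Functor.leftDerivedZeroIsoSelf _
  have h : ((Tor (ModuleCat.{u} R) 0).obj M).map g =
      e.hom.app X ≫ (tensorLeft M).map g ≫ e.inv.app Y := by
    rw [← assoc, ← e.hom.naturality g, assoc, Iso.hom_inv_id_app, comp_id]
  rw [h]
  haveI : (tensorLeft M).PreservesEpimorphisms :=
    preservesEpimorphisms_of_preservesColimitsOfShape _
  haveI : Epi ((tensorLeft M).map g) := (tensorLeft M).map_epi g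
  exact epi_comp' inferInstance (epi_comp' inferInstance inferInstance)

end Mod

end Groth.Agent.H2.TorBal
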