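import Mathlib
import Groth.Agent.Lib.Helper2.TorSymmNat
import Groth.Agent.Lib.Helper2.TorLESR

/-! `R`-linearity of the `Tor` functors in each variable, and the long exact sequence in the first
variable. -/

universe u

namespace Groth.Agent.H2.TorBal

open CategoryTheory CategoryTheory.Limits Category HomologicalComplex MonoidalCategory

variable {R : Type u} [CommRing R]

lemma homologyMap_smul' {K L : ChainComplex (ModuleCat.{u} R) ℕ} (r : R) (φ : K ⟶ L) (n : ℕ) :
    homologyMap (r • φ) n = r • homologyMap φ n := by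
  have h : (shortComplexFunctor (ModuleCat.{u} R) (ComplexShape.down ℕ) n).map (r • φ) =
      r • (shortComplexFunctor (ModuleCat.{u} R) (ComplexShape.down ℕ) n).map φ := by
    ext <;> rfl
  show ShortComplex.homologyMap _ = r • ShortComplex.homologyMap _
  rw [h, ShortComplex.homologyMap_smul]
  rfl

lemma tensorCx_map_smul (K : ChainComplex (ModuleCat.{u} R) ℕ) {X Y : ModuleCat.{u} R} (r : R)
    (f : X ⟶ Y) : (tensorCx K).map (r • f) = r • (tensorCx K).map f := by
  ext i : 1
  exact MonoidalLinear.smul_whiskerRight r f (K.X i)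

lemma tensorCxR_map_smul (K : ChainComplex (ModuleCat.{u} R) ℕ) {X Y : ModuleCat.{u} R} (r : R)
    (f : X ⟶ Y) : (tensorCxR K).map (r • f) = r • (tensorCxR K).map f := by
  ext i : 1
  exact MonoidalLinear.whiskerLeft_smul (K.X i) r f

lemma conj_smul {X Y Z W : ModuleCat.{u} R} (a : X ⟶ Y) (b : Y ⟶ Z) (c : Z ⟶ W) (r : R) :
    a ≫ (r • b) ≫ c = r • (a ≫ b ≫ c) := by
  rw [Linear.smul_comp, Linear.comp_smul]

/-- `Tor_n(-, N)` is `R`-linear on morphisms. -/
theorem tor_map_smul_left {M M' : ModuleCat.{u} R} (r : R) (f : M ⟶ M') (N : ModuleCat.{u} R)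
    (n : ℕ) : ((Tor (ModuleCat.{u} R) n).map (r • f)).app N =
      r • ((Tor (ModuleCat.{u} R) n).map f).app N := by
  let τ := torFlipIso N (projectiveResolution N) n
  have h1 : ∀ g : M ⟶ M', ((Tor (ModuleCat.{u} R) n).map g).app N =
      τ.hom.app M ≫ homologyMap ((tensorCx (projectiveResolution N).complex).map g) n ≫
        τ.inv.app M' := by
    intro g
    exact (NatIso.naturality_2 τ g).symm
  rw [h1, h1, tensorCx_map_smul, homologyMap_smul']
  exact conj_smul _ _ _ r

/-- `Tor_n(M, -)` is `R`-linear on morphisms. -/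
theorem tor_map_smul_right (M : ModuleCat.{u} R) {N N' : ModuleCat.{u} R} (r : R) (g : N ⟶ N')
    (n : ℕ) : ((Tor (ModuleCat.{u} R) n).obj M).map (r • g) =
      r • ((Tor (ModuleCat.{u} R) n).obj M).map g := by
  let τ := torIsoR M (projectiveResolution M) n
  have h1 : ∀ g : N ⟶ N', ((Tor (ModuleCat.{u} R) n).obj M).map g =
      τ.hom.app N ≫ homologyMap ((tensorCxR (projectiveResolution M).complex).map g) n ≫
        τ.inv.app N' := by
    intro g
    exact (NatIso.naturality_2 τ g).symm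
  rw [h1, h1, tensorCxR_map_smul, homologyMap_smul']
  exact conj_smul _ _ _ r

end Groth.Agent.H2.TorBal

namespace Groth.Agent.H2.TorBal

open CategoryTheory CategoryTheory.Limits Category HomologicalComplex MonoidalCategory

variable {R : Type u} [CommRing R]

/-- Long exact sequence of `Tor` in the first variable. -/
theorem tor_les_left (N : ModuleCat.{u} R) (S : ShortComplex (ModuleCat.{u} R))
    (hS : S.ShortExact) (i : ℕ) :
    (∃ w₀ : ((Tor (ModuleCat.{u} R) i).map S.f).app N ≫ ((Tor (ModuleCat.{u} R) i).map S.g).app N = 0,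
        (ShortComplex.mk (((Tor (ModuleCat.{u} R) i).map S.f).app N)
          (((Tor (ModuleCat.{u} R) i).map S.g).app N) w₀).Exact) ∧
      ∃ (δ : ((Tor (ModuleCat.{u} R) (i + 1)).obj S.X₃).obj N ⟶
          ((Tor (ModuleCat.{u} R) i).obj S.X₁).obj N)
        (w₁ : ((Tor (ModuleCat.{u} R) (i + 1)).map S.g).app N ≫ δ = 0)
        (w₂ : δ ≫ ((Tor (ModuleCat.{u} R) i).map S.f).app N = 0),
        (ShortComplex.mk (((Tor (ModuleCat.{u} R) (i + 1)).map S.g).app N) δ w₁).Exact ∧
          (ShortComplex.mk δ (((Tor (ModuleCat.{u} R) i).map S.f).app N) w₂).Exact :=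
  les_of_natIso (tensorCx (projectiveResolution N).complex)
    (fun i => (Tor (ModuleCat.{u} R) i).flip.obj N)
    (fun i X => (torFlipIso N (projectiveResolution N) i).app X)
    (fun j _ _ f => (torFlipIso N (projectiveResolution N) j).hom.naturality f) S
    (tensorCx_shortExact _
      (fun i => haveI := (projectiveResolution N).projective i; flat_of_projective _) S hS) i

/-- If `Tor_{i+1}(X₂, N) = 0` then `Tor_{i+1}(X₃, N)` is the kernel of `Tor_i(X₁, N) → Tor_i(X₂, N)`. -/
theorem nonempty_tor_succ_linearEquiv_ker_left (N : ModuleCat.{u} R)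
    (S : ShortComplex (ModuleCat.{u} R)) (hS : S.ShortExact) (i : ℕ)
    (h2 : IsZero (((Tor (ModuleCat.{u} R) (i + 1)).obj S.X₂).obj N)) :
    Nonempty (((Tor (ModuleCat.{u} R) (i + 1)).obj S.X₃).obj N ≃ₗ[R]
      LinearMap.ker (((Tor (ModuleCat.{u} R) i).map S.f).app N).hom) := by
  obtain ⟨-, δ, w₁, w₂, ex1, ex2⟩ := tor_les_left N S hS i
  have hinj : Function.Injective δ.hom := by
    rw [← ModuleCat.mono_iff_injective]
    exact ex1.mono_g (h2.eq_of_src _ _)
  have hrange : LinearMap.range δ.hom = LinearMap.ker (((Tor (ModuleCat.{u} R) i).map S.f).app N).hom :=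
    (ShortComplex.moduleCat_exact_iff_range_eq_ker _).1 ex2
  exact ⟨(LinearEquiv.ofInjective δ.hom hinj).trans (LinearEquiv.ofEq _ _ hrange)⟩

/-- If `Tor_{i+1}(X₂, N) = 0 = Tor_i(X₁, N)`-type vanishing: `Tor_{i+1}(X₃,N) = 0` when
`Tor_{i+1}(X₂,N) = 0` and `Tor_i(f, N)` is injective. -/
theorem isZero_tor_succ_X₃_of_injective (N : ModuleCat.{u} R)
    (S : ShortComplex (ModuleCat.{u} R)) (hS : S.ShortExact) (i : ℕ)
    (h2 : IsZero (((Tor (ModuleCat.{u} R) (i + 1)).obj S.X₂).obj N))
    (hf : Function.Injective (((Tor (ModuleCat.{u} R) i).map S.f).app N).hom) :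
    IsZero (((Tor (ModuleCat.{u} R) (i + 1)).obj S.X₃).obj N) := by
  obtain ⟨e⟩ := nonempty_tor_succ_linearEquiv_ker_left N S hS i h2
  rw [LinearMap.ker_eq_bot.2 hf] at e
  haveI : Subsingleton (((Tor (ModuleCat.{u} R) (i + 1)).obj S.X₃).obj N) :=
    e.toEquiv.subsingleton
  exact ModuleCat.isZero_of_subsingleton _

end Groth.Agent.H2.TorBal
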