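import Mathlib
import Groth.Agent.Lib.Helper2.TorLESR
import Groth.Agent.Lib.Helper2.TorSymmNat
import Groth.Agent.Lib.Helper2.TorBalLin
import Groth.Agent.Lib.Helper2.TorLin
import Groth.Agent.Lib.Helper2.PureSplit

/-! Maps inducing zero on `Tor₁` out of a finitely presented module factor through a free module. -/

universe u

namespace Groth.Agent.H2.TorBal

open CategoryTheory CategoryTheory.Limits Category HomologicalComplex MonoidalCategory

variable {R : Type u} [CommRing R]

/-- If `Tor₁(N, g)` is an epimorphism for a short exact sequence `0 → X₁ → X₂ → X₃ → 0`, then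
`N ⊗ X₁ → N ⊗ X₂` is a monomorphism. -/
theorem mono_whiskerLeft_of_epi_tor_one (N : ModuleCat.{u} R) (S : ShortComplex (ModuleCat.{u} R))
    (hS : S.ShortExact) (hepi : Epi (((Tor (ModuleCat.{u} R) 1).obj N).map S.g)) :
    Mono (N ◁ S.f) := by
  obtain ⟨-, δ, w₁, w₂, ex1, ex2⟩ := tor_les_right N S hS 0
  have hδ : δ = 0 := by
    have : Epi (((Tor (ModuleCat.{u} R) (0 + 1)).obj N).map S.g) := hepi
    rw [← cancel_epi (((Tor (ModuleCat.{u} R) (0 + 1)).obj N).map S.g), w₁, comp_zero]
  have hm : Mono (((Tor (ModuleCat.{u} R) 0).obj N).map S.f) := ex2.mono_g hδ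
  let e : (Tor (ModuleCat.{u} R) 0).obj N ≅ tensorLeft N := Functor.leftDerivedZeroIsoSelf _
  have h : N ◁ S.f = e.inv.app _ ≫ ((Tor (ModuleCat.{u} R) 0).obj N).map S.f ≫ e.hom.app _ := by
    rw [e.hom.naturality, Iso.inv_hom_id_app_assoc]
    rfl
  rw [h]
  have i1 : IsIso (e.hom.app S.X₂) := (e.app S.X₂).isIso_hom
  have i2 : IsIso (e.inv.app S.X₁) := (e.app S.X₁).isIso_inv
  have m1 : Mono (e.hom.app S.X₂) := IsIso.mono_of_iso _
  have m2 : Mono (e.inv.app S.X₁) := IsIso.mono_of_iso _
  have h3 : Mono (((Tor (ModuleCat.{u} R) 0).obj N).map S.f ≫ e.hom.app S.X₂) :=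
    @mono_comp _ _ _ _ _ _ hm _ m1
  exact @mono_comp _ _ _ _ _ _ m2 _ h3

/-- Second-variable form of the hypothesis, from the first-variable one. -/
lemma tor_map_right_eq_zero_of_left {M M' : ModuleCat.{u} R} (f : M ⟶ M') (n : ℕ)
    (N : ModuleCat.{u} R) (h : ((Tor (ModuleCat.{u} R) n).map f).app N = 0) :
    ((Tor (ModuleCat.{u} R) n).obj N).map f = 0 := by
  have h1 := NatTrans.congr_app ((torSymm (R := R) n).hom.naturality f) N
  simp only [NatTrans.comp_app, Functor.flip_map_app] at h1
  rw [h, zero_comp] at h1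
  have h2 : ((Tor (ModuleCat.{u} R) n).obj N).map f =
      ((torSymm (R := R) n).inv.app M).app N ≫
        (((torSymm (R := R) n).hom.app M).app N ≫ ((Tor (ModuleCat.{u} R) n).obj N).map f) := by
    rw [← assoc, ← NatTrans.comp_app, Iso.inv_hom_id_app]
    simp
  rw [h2, ← h1, comp_zero]

section Main

variable {E F M M' : Type u} [AddCommGroup E] [Module R E] [AddCommGroup F] [Module R F]
  [AddCommGroup M] [Module R M] [AddCommGroup M'] [Module R M']

/-- In a cartesian square `E = F ×_{M'} M` over `α : M → M'` with `F → M'` surjective, if `α`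
induces zero on `Tor₁(N, -)` for all `N` and `M` is finitely presented, then `E → M` splits. -/
theorem exists_section_of_tor [Module.FinitePresentation R M] (α : M →ₗ[R] M')
    (πF : F →ₗ[R] M') (πE : E →ₗ[R] M) (β : E →ₗ[R] F) (hπE : Function.Surjective πE)
    (hinj : Function.Injective (β.prod πE))
    (hex : Function.Exact (β.prod πE) (πF.coprod (-α)))
    (hρ : Function.Surjective (πF.coprod (-α)))
    (h : ∀ N : ModuleCat.{u} R,
      ((Tor (ModuleCat.{u} R) 1).obj N).map (ModuleCat.ofHom α) = 0) :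
    ∃ s : M →ₗ[R] E, πE ∘ₗ s = LinearMap.id := by
  classical
  let S := scOfLinearMaps (β.prod πE) (πF.coprod (-α)) hex
  have hS : S.ShortExact := scOfLinearMaps_shortExact _ _ hinj _ hρ
  have hexT : Function.Exact (LinearMap.ker πE).subtype πE := LinearMap.exact_subtype_ker_map πE
  let T := scOfLinearMaps (LinearMap.ker πE).subtype πE hexT
  have hT : T.ShortExact :=
    scOfLinearMaps_shortExact _ _ (Submodule.injective_subtype _) _ hπE
  have hpure : ∀ (N : Type u) [AddCommGroup N] [Module R N],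
      Function.Injective (LinearMap.rTensor N (LinearMap.ker πE).subtype) := by
    intro N _ _
    rw [← LinearMap.lTensor_inj_iff_rTensor_inj]
    let G := (Tor (ModuleCat.{u} R) 1).obj (ModuleCat.of R N)
    have hepi : Epi (G.map T.g) := by
      obtain ⟨⟨w₀, ex⟩, -⟩ := tor_les_right (ModuleCat.of R N) S hS 1
      let fS : ModuleCat.of R E ⟶ ModuleCat.of R (F × M) := ModuleCat.ofHom (β.prod πE)
      let gS : ModuleCat.of R (F × M) ⟶ ModuleCat.of R M' := ModuleCat.ofHom (πF.coprod (-α))
      let i₂ : ModuleCat.of R M ⟶ ModuleCat.of R (F × M) := ModuleCat.ofHom (LinearMap.inr R F M)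
      let p₂ : ModuleCat.of R (F × M) ⟶ ModuleCat.of R M := ModuleCat.ofHom (LinearMap.snd R F M)
      have h1 : i₂ ≫ gS = - ModuleCat.ofHom α := by
        ext m
        simp [gS, i₂]
      have h2 : fS ≫ p₂ = ModuleCat.ofHom πE := by
        ext e
        simp [fS, p₂]
      have h3 : i₂ ≫ p₂ = 𝟙 _ := by
        ext m
        rfl
      have c1 : G.map i₂ ≫ G.map gS = 0 := by
        rw [← G.map_comp, h1, ← neg_one_smul R (ModuleCat.ofHom α)]
        show ((Tor (ModuleCat.{u} R) 1).obj (ModuleCat.of R N)).map _ = 0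
        rw [tor_map_smul_right, h (ModuleCat.of R N), smul_zero]
      have c2 : G.map fS ≫ G.map p₂ = G.map (ModuleCat.ofHom πE) := by
        rw [← G.map_comp, h2]
      have c3 : G.map i₂ ≫ G.map p₂ = 𝟙 _ := by
        rw [← G.map_comp, h3, G.map_id]
      have hsurj : Function.Surjective (G.map (ModuleCat.ofHom πE)).hom := by
        intro x
        have hy : (G.map gS).hom ((G.map i₂).hom x) = 0 :=
          LinearMap.congr_fun (congrArg ModuleCat.Hom.hom c1) x
        obtain ⟨z, hz⟩ := (ShortComplex.moduleCat_exact_iff _).1 ex _ hy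
        refine ⟨z, ?_⟩
        have e2 : (G.map (ModuleCat.ofHom πE)).hom z = (G.map p₂).hom ((G.map fS).hom z) :=
          (LinearMap.congr_fun (congrArg ModuleCat.Hom.hom c2) z).symm
        have e3 : (G.map p₂).hom ((G.map i₂).hom x) = x :=
          LinearMap.congr_fun (congrArg ModuleCat.Hom.hom c3) x
        rw [e2]
        exact (congrArg (G.map p₂).hom hz).trans e3
      exact (ModuleCat.epi_iff_surjective _).2 hsurj
    have hm := mono_whiskerLeft_of_epi_tor_one (ModuleCat.of R N) T hT hepi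
    rw [ModuleCat.mono_iff_injective] at hm
    exact hm
  exact PureSplit.exists_section πE hπE hpure

/-- A map out of a finitely presented module inducing zero on all `Tor₁(N, -)` factors through a
free module. -/
theorem exists_factor_free [Module.FinitePresentation R M] (α : M →ₗ[R] M')
    (h : ∀ N : ModuleCat.{u} R,
      ((Tor (ModuleCat.{u} R) 1).obj N).map (ModuleCat.ofHom α) = 0) :
    ∃ (g : M →ₗ[R] (M' →₀ R)) (h : (M' →₀ R) →ₗ[R] M'), α = h ∘ₗ g := by
  classical
  let πF : (M' →₀ R) →ₗ[R] M' := Finsupp.linearCombination R id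
  have hπF : Function.Surjective πF := Finsupp.linearCombination_id_surjective R M'
  let ρ : ((M' →₀ R) × M) →ₗ[R] M' := πF.coprod (-α)
  have hρ : Function.Surjective ρ := by
    intro y
    obtain ⟨x, rfl⟩ := hπF y
    exact ⟨(x, 0), by simp [ρ]⟩
  let β : LinearMap.ker ρ →ₗ[R] (M' →₀ R) := (LinearMap.fst R _ _) ∘ₗ (LinearMap.ker ρ).subtype
  let πE : LinearMap.ker ρ →ₗ[R] M := (LinearMap.snd R _ _) ∘ₗ (LinearMap.ker ρ).subtype
  have hπE : Function.Surjective πE := by
    intro m
    obtain ⟨x, hx⟩ := hπF (α m)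
    exact ⟨⟨(x, m), by simp [ρ, hx]⟩, rfl⟩
  have hprod : β.prod πE = (LinearMap.ker ρ).subtype := by
    ext z <;> rfl
  have hinj : Function.Injective (β.prod πE) := by
    rw [hprod]
    exact Submodule.injective_subtype _
  have hex : Function.Exact (β.prod πE) (πF.coprod (-α)) := by
    rw [hprod]
    exact LinearMap.exact_subtype_ker_map ρ
  obtain ⟨s, hs⟩ := @exists_section_of_tor R _ (LinearMap.ker ρ) (M' →₀ R) M M' _ _ _ _ _ _ _ _ _
    α πF πE β hπE hinj hex hρ h
  refine ⟨β ∘ₗ s, πF, ?_⟩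
  ext m
  have h1 : ρ (s m : (M' →₀ R) × M) = 0 := (s m).2
  have h2 : πE (s m) = m := LinearMap.congr_fun hs m
  have h3 : πF (s m : (M' →₀ R) × M).1 = α ((s m : (M' →₀ R) × M).2) := by
    have : πF (s m : (M' →₀ R) × M).1 + -α ((s m : (M' →₀ R) × M).2) = 0 := h1
    exact (add_neg_eq_zero.1 this)
  show α m = πF ((s m : (M' →₀ R) × M).1)
  rw [h3]
  exact congrArg α h2.symm

end Main

end Groth.Agent.H2.TorBal
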