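import Mathlib
import Groth.Agent.Lib.Helper2.TorPure
import Groth.Agent.Lib.Helper2.DSplit2

/-!
# Killing `Ext^{e+1}` by precomposition versus killing `Tor_{e+1}` (dimension shifting)
-/

universe w v u u' v'

open CategoryTheory CategoryTheory.Limits Category HomologicalComplex

namespace Groth.Agent.H2.ExtTor

section General

variable {C : Type u} [Category.{v} C] [Abelian C] {D : Type u'} [Category.{v'} D] [Abelian D]

/-- Dimension shifting for a homological `δ`-functor given by `T i ≅ Ψ ⋙ Hᵢ`, natural in a morphism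
of short exact sequences. -/
theorem map_succ_eq_zero_iff (Ψ : C ⥤ ChainComplex D ℕ) [Ψ.PreservesZeroMorphisms]
    (T : ℕ → (C ⥤ D))
    (τ : ∀ (i : ℕ) (X : C), (T i).obj X ≅ (Ψ.obj X).homology i)
    (nat : ∀ (j : ℕ) {X Y : C} (f : X ⟶ Y),
      (T j).map f ≫ (τ j Y).hom = (τ j X).hom ≫ homologyMap (Ψ.map f) j)
    {S S' : ShortComplex C} (φ : S ⟶ S') (hK : (S.map Ψ).ShortExact)
    (hK' : (S'.map Ψ).ShortExact) (i : ℕ) (h1 : IsZero ((T i).obj S.X₂))
    (h2 : IsZero ((T (i + 1)).obj S'.X₂)) :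
    (T (i + 1)).map φ.τ₃ = 0 ↔ (T i).map φ.τ₁ = 0 := by
  have hij : (ComplexShape.down ℕ).Rel (i + 1) i := by simp
  have key : ∀ (j : ℕ) {X Y : C} (f : X ⟶ Y),
      (T j).map f = 0 ↔ homologyMap (Ψ.map f) j = 0 := by
    intro j X Y f
    constructor
    · intro h
      have h3 := nat j f
      rw [h, zero_comp] at h3
      rw [← cancel_epi (τ j X).hom, ← h3, comp_zero]
    · intro h
      have h3 := nat j f
      rw [h, comp_zero] at h3
      rw [← cancel_mono (τ j Y).hom, h3, zero_comp]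
  rw [key, key]
  have hn := HomologicalComplex.HomologySequence.δ_naturality (Ψ.mapShortComplex.map φ) hK hK'
    (i + 1) i hij
  have hepi : Epi (hK.δ (i + 1) i hij) := by
    have ex := hK.homology_exact₁ (i + 1) i hij
    exact ex.epi_f ((h1.of_iso (τ i S.X₂).symm).eq_of_tgt _ _)
  have hmono : Mono (hK'.δ (i + 1) i hij) := by
    have ex := hK'.homology_exact₃ (i + 1) i hij
    exact ex.mono_g ((h2.of_iso (τ (i + 1) S'.X₂).symm).eq_of_src _ _)
  constructor
  · intro h
    have h' : homologyMap (Ψ.mapShortComplex.map φ).τ₃ (i + 1) = 0 := h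
    rw [h', zero_comp] at hn
    exact (cancel_epi (hK.δ (i + 1) i hij)).1 (hn.trans comp_zero.symm)
  · intro h
    have h' : homologyMap (Ψ.mapShortComplex.map φ).τ₁ i = 0 := h
    rw [h', comp_zero] at hn
    exact (cancel_mono (hK'.δ (i + 1) i hij)).1 (hn.symm.trans zero_comp.symm)

end General

section TorShift

open Groth.Agent.H2.TorBal MonoidalCategory

variable {R : Type u} [CommRing R]

/-- Dimension shifting for `Tor` in the first variable along a morphism of short exact sequences. -/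
theorem tor_map_succ_eq_zero_iff (N : ModuleCat.{u} R) {S S' : ShortComplex (ModuleCat.{u} R)}
    (φ : S ⟶ S') (hS : S.ShortExact) (hS' : S'.ShortExact) (i : ℕ)
    (h1 : IsZero (((Tor (ModuleCat.{u} R) i).obj S.X₂).obj N))
    (h2 : IsZero (((Tor (ModuleCat.{u} R) (i + 1)).obj S'.X₂).obj N)) :
    ((Tor (ModuleCat.{u} R) (i + 1)).map φ.τ₃).app N = 0 ↔
      ((Tor (ModuleCat.{u} R) i).map φ.τ₁).app N = 0 :=
  map_succ_eq_zero_iff (tensorCx (projectiveResolution N).complex)
    (fun i => (Tor (ModuleCat.{u} R) i).flip.obj N)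
    (fun i X => (torFlipIso N (projectiveResolution N) i).app X)
    (fun j _ _ f => (torFlipIso N (projectiveResolution N) j).hom.naturality f) φ
    (tensorCx_shortExact _
      (fun i => haveI := (projectiveResolution N).projective i; flat_of_projective _) S hS)
    (tensorCx_shortExact _
      (fun i => haveI := (projectiveResolution N).projective i; flat_of_projective _) S' hS')
    i h1 h2

end TorShift

section Derived

variable {C : Type u} [Category.{v} C] [Abelian C] [HasDerivedCategory.{w} C]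

open DerivedCategory Pretriangulated

set_option backward.isDefEq.respectTransparency false in
/-- No maps from a projective object to positive shifts of an object, in the derived category. -/
lemma hom_single_projective_eq_zero {P N : C} [Projective P] (k : ℤ) (hk : 0 < k)
    (φ : (singleFunctor C 0).obj P ⟶ ((singleFunctor C 0).obj N)⟦k⟧) : φ = 0 := by
  rw [← cancel_mono (((singleFunctors C).shiftIso k (-k) 0 (by omega)).hom.app N),
    Limits.zero_comp]
  apply from_singleFunctor_obj_eq_zero_of_projective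
    (L := (CochainComplex.singleFunctor C (-k)).obj N) (n := -k) _ (by omega)

/-- Precomposition with `f` kills all classes in `Ext^k(Y, N)` for all `N`. -/
def KillsExt {X Y : C} (f : X ⟶ Y) (k : ℤ) : Prop :=
  ∀ (N : C) (φ : (singleFunctor C 0).obj Y ⟶ ((singleFunctor C 0).obj N)⟦k⟧),
    (singleFunctor C 0).map f ≫ φ = 0

/-- Dimension shifting for `KillsExt` along a morphism of short exact sequences. -/
theorem killsExt_shift_iff {S S' : ShortComplex C} (φ : S ⟶ S') (hS : S.ShortExact)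
    (hS' : S'.ShortExact) (k : ℤ)
    (h1 : ∀ (N : C) (ψ : (singleFunctor C 0).obj S.X₂ ⟶ ((singleFunctor C 0).obj N)⟦k⟧), ψ = 0)
    (h2 : ∀ (N : C) (ψ : (singleFunctor C 0).obj S'.X₂ ⟶ ((singleFunctor C 0).obj N)⟦k + 1⟧),
      ψ = 0) :
    KillsExt φ.τ₃ (k + 1) ↔ KillsExt φ.τ₁ k := by
  have comm : hS.singleδ ≫ ((singleFunctor C 0).map φ.τ₁)⟦(1 : ℤ)⟧' =
      (singleFunctor C 0).map φ.τ₃ ≫ hS'.singleδ :=
    (ShortComplex.ShortExact.singleTriangle.map hS hS' φ).comm₃
  constructor
  · intro h N ψ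
    let e : (((singleFunctor C 0).obj N)⟦k⟧)⟦(1 : ℤ)⟧ ≅ ((singleFunctor C 0).obj N)⟦k + 1⟧ :=
      (shiftFunctorAdd' (DerivedCategory C) k 1 (k + 1) rfl).symm.app _
    have h0 : (singleFunctor C 0).map φ.τ₃ ≫ hS'.singleδ ≫ ψ⟦(1 : ℤ)⟧' ≫ e.hom = 0 :=
      h N (hS'.singleδ ≫ ψ⟦(1 : ℤ)⟧' ≫ e.hom)
    have h3 : hS.singleδ ≫ ((singleFunctor C 0).map φ.τ₁ ≫ ψ)⟦(1 : ℤ)⟧' = 0 := by
      rw [← cancel_mono e.hom, zero_comp, ← h0]
      simp only [Functor.map_comp, assoc]
      rw [reassoc_of% comm]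
    obtain ⟨g, hg⟩ : ∃ g : ((singleFunctor C 0).obj S.X₂)⟦(1 : ℤ)⟧ ⟶
        (((singleFunctor C 0).obj N)⟦k⟧)⟦(1 : ℤ)⟧,
        ((singleFunctor C 0).map φ.τ₁ ≫ ψ)⟦(1 : ℤ)⟧' =
          (-((singleFunctor C 0).map S.f)⟦(1 : ℤ)⟧') ≫ g :=
      Triangle.yoneda_exact₃ _ (rot_of_distTriang _ hS.singleTriangle_distinguished)
        (((singleFunctor C 0).map φ.τ₁ ≫ ψ)⟦(1 : ℤ)⟧') h3
    obtain ⟨g', hg'⟩ := (shiftFunctor (DerivedCategory C) (1 : ℤ)).map_surjective g
    have hg'0 : g' = 0 := h1 N g'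
    rw [← hg', hg'0, Functor.map_zero, comp_zero] at hg
    exact (shiftFunctor (DerivedCategory C) (1 : ℤ)).map_injective
      (hg.trans (Functor.map_zero _ _ _).symm)
  · intro h N φ₀
    obtain ⟨g, hg⟩ : ∃ g : ((singleFunctor C 0).obj S'.X₁)⟦(1 : ℤ)⟧ ⟶
        ((singleFunctor C 0).obj N)⟦k + 1⟧, φ₀ = hS'.singleδ ≫ g :=
      Triangle.yoneda_exact₃ _ hS'.singleTriangle_distinguished φ₀ (h2 N _)
    let e : (((singleFunctor C 0).obj N)⟦k⟧)⟦(1 : ℤ)⟧ ≅ ((singleFunctor C 0).obj N)⟦k + 1⟧ :=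
      (shiftFunctorAdd' (DerivedCategory C) k 1 (k + 1) rfl).symm.app _
    obtain ⟨ψ, hψ⟩ := (shiftFunctor (DerivedCategory C) (1 : ℤ)).map_surjective (g ≫ e.inv)
    have hg' : g = ψ⟦(1 : ℤ)⟧' ≫ e.hom := by
      rw [hψ, assoc, e.inv_hom_id, comp_id]
    have h4 : (singleFunctor C 0).map φ.τ₁ ≫ ψ = 0 := h N ψ
    calc (singleFunctor C 0).map φ.τ₃ ≫ φ₀
        = (singleFunctor C 0).map φ.τ₃ ≫ hS'.singleδ ≫ g := by rw [hg]
      _ = hS.singleδ ≫ ((singleFunctor C 0).map φ.τ₁)⟦(1 : ℤ)⟧' ≫ g :=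
          ((reassoc_of% comm) g).symm
      _ = hS.singleδ ≫ (((singleFunctor C 0).map φ.τ₁ ≫ ψ)⟦(1 : ℤ)⟧' ≫ e.hom) := by
          rw [hg', Functor.map_comp, assoc]
      _ = 0 := by rw [h4, Functor.map_zero, zero_comp, comp_zero]

end Derived

section Main

open Groth.Agent.H2.TorBal DerivedCategory Pretriangulated

attribute [local instance] HasDerivedCategory.standard

variable {R : Type u} [CommRing R]

/-- `f` induces zero on `Tor_n(-, N)` for all `N`. -/
def KillsTor {M M' : ModuleCat.{u} R} (f : M ⟶ M') (n : ℕ) : Prop :=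
  ∀ N : ModuleCat.{u} R, ((Tor (ModuleCat.{u} R) n).map f).app N = 0

/-- Compatible free presentations of the source (finite) and target of a map. -/
theorem exists_presentation [IsNoetherianRing R] {M M' : ModuleCat.{u} R} [Module.Finite R M]
    (f : M ⟶ M') :
    ∃ (K F K' F' : ModuleCat.{u} R) (i : K ⟶ F) (p : F ⟶ M) (i' : K' ⟶ F') (p' : F' ⟶ M')
      (β : K ⟶ K') (γ : F ⟶ F') (w : i ≫ p = 0) (w' : i' ≫ p' = 0),
      (ShortComplex.mk i p w).ShortExact ∧ (ShortComplex.mk i' p' w').ShortExact ∧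
        Projective F ∧ Projective F' ∧ Module.Finite R K ∧ β ≫ i' = i ≫ γ ∧
          γ ≫ p' = p ≫ f := by
  classical
  obtain ⟨n, π, hπ⟩ := Module.Finite.exists_fin' R M
  let π' : (M' →₀ R) →ₗ[R] M' := Finsupp.linearCombination R id
  have hπ' : Function.Surjective π' := Finsupp.linearCombination_id_surjective R M'
  obtain ⟨γ, hγ⟩ := Module.projective_lifting_property π' (f.hom ∘ₗ π) hπ'
  have hmap : ∀ x ∈ LinearMap.ker π, γ x ∈ LinearMap.ker π' := by
    intro x hx
    rw [LinearMap.mem_ker] at hx ⊢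
    have h3 := LinearMap.congr_fun hγ x
    simp only [LinearMap.comp_apply] at h3
    rw [h3, hx, map_zero]
  let β : LinearMap.ker π →ₗ[R] LinearMap.ker π' := γ.restrict hmap
  have w : ModuleCat.ofHom (LinearMap.ker π).subtype ≫ ModuleCat.ofHom π = 0 := by
    ext x
    exact x.2
  have w' : ModuleCat.ofHom (X := LinearMap.ker π') (Y := (M' →₀ R)) (LinearMap.ker π').subtype ≫
      ModuleCat.ofHom (X := (M' →₀ R)) (Y := M') π' = 0 := by
    ext x
    exact x.2
  haveI : Module.Projective R (Fin n → R) := inferInstance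
  haveI : Module.Projective R (M' →₀ R) := inferInstance
  refine ⟨ModuleCat.of R (LinearMap.ker π), ModuleCat.of R (Fin n → R),
    ModuleCat.of R (LinearMap.ker π'), ModuleCat.of R (M' →₀ R),
    ModuleCat.ofHom (LinearMap.ker π).subtype, ModuleCat.ofHom π,
    ModuleCat.ofHom (X := LinearMap.ker π') (Y := (M' →₀ R)) (LinearMap.ker π').subtype,
    ModuleCat.ofHom (X := (M' →₀ R)) (Y := M') π',
    ModuleCat.ofHom β, ModuleCat.ofHom γ, w, w', ?_, ?_, ?_, ?_, ?_, ?_, ?_⟩
  · exact ModuleCat.shortComplex_shortExact _ (LinearMap.exact_subtype_ker_map π)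
      (Submodule.injective_subtype _) hπ
  · exact ModuleCat.shortComplex_shortExact _ (LinearMap.exact_subtype_ker_map π')
      (Submodule.injective_subtype _) hπ'
  · exact ModuleCat.projective_of_categoryTheory_projective (ModuleCat.of R (Fin n → R))
  · exact ModuleCat.projective_of_categoryTheory_projective (ModuleCat.of R (M' →₀ R))
  · exact (inferInstance : Module.Finite R (LinearMap.ker π))
  · ext x
    rfl
  · exact ModuleCat.hom_ext hγ

/-- Base case: `Ext¹`-killing iff `Tor₁`-killing. -/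
theorem base [IsNoetherianRing R] {M M' : ModuleCat.{u} R} [Module.Finite R M] (f : M ⟶ M') :
    KillsExt f (1 : ℤ) ↔ KillsTor f 1 := by
  constructor
  · intro h N
    obtain ⟨K, F, K', F', i, p, i', p', β, γ, w, w', hS, hS', hF, hF', hK, c1, c2⟩ :=
      exists_presentation f
    have h0 : (singleFunctor (ModuleCat.{u} R) 0).map f ≫ hS'.singleδ = 0 := h K' hS'.singleδ
    obtain ⟨g₀, hg⟩ := Triangle.coyoneda_exact₃ _ hS'.singleTriangle_distinguished
      ((singleFunctor (ModuleCat.{u} R) 0).map f) h0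
    obtain ⟨g, hgg⟩ := (singleFunctor (ModuleCat.{u} R) 0).map_surjective
      (g₀ : (singleFunctor (ModuleCat.{u} R) 0).obj M ⟶ (singleFunctor (ModuleCat.{u} R) 0).obj F')
    have hfg : f = g ≫ p' := by
      apply (singleFunctor (ModuleCat.{u} R) 0).map_injective
      rw [Functor.map_comp, hgg]
      exact hg
    haveI := hF'
    haveI := flat_of_projective F'
    rw [hfg, Functor.map_comp, NatTrans.comp_app,
      (isZero_tor_succ_of_flat_left F' N 0).eq_of_tgt
        (((Tor (ModuleCat.{u} R) 1).map g).app N) 0, zero_comp]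
  · intro h N φ
    haveI : Module.FinitePresentation R M := Module.finitePresentation_of_finite R M
    obtain ⟨g, k, hgk⟩ := exists_factor_free f.hom (fun N' =>
      tor_map_right_eq_zero_of_left (ModuleCat.ofHom f.hom) 1 N' (h N'))
    have hf : f = ModuleCat.ofHom g ≫ ModuleCat.ofHom k := by
      apply ModuleCat.hom_ext
      simpa using hgk
    haveI : Module.Projective R (M' →₀ R) := inferInstance
    haveI : Projective (ModuleCat.of R (M' →₀ R)) :=
      ModuleCat.projective_of_categoryTheory_projective (ModuleCat.of R (M' →₀ R))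
    rw [hf, Functor.map_comp, assoc,
      hom_single_projective_eq_zero (1 : ℤ) one_pos
        ((singleFunctor (ModuleCat.{u} R) 0).map (ModuleCat.ofHom k) ≫ φ), comp_zero]

/-- Inductive step. -/
theorem step [IsNoetherianRing R] (e : ℕ)
    (IH : ∀ (M M' : ModuleCat.{u} R) [Module.Finite R M] (f : M ⟶ M'),
      KillsExt f ((e : ℤ) + 1) ↔ KillsTor f (e + 1))
    (M M' : ModuleCat.{u} R) [Module.Finite R M] (f : M ⟶ M') :
    KillsExt f ((e : ℤ) + 1 + 1) ↔ KillsTor f (e + 1 + 1) := by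
  obtain ⟨K, F, K', F', i, p, i', p', β, γ, w, w', hS, hS', hF, hF', hK, c1, c2⟩ :=
    exists_presentation f
  let φ : ShortComplex.mk i p w ⟶ ShortComplex.mk i' p' w' :=
    { τ₁ := β, τ₂ := γ, τ₃ := f, comm₁₂ := c1, comm₂₃ := c2 }
  haveI := hF
  haveI := hF'
  haveI := hK
  haveI := flat_of_projective F
  haveI := flat_of_projective F'
  have hA : KillsExt f ((e : ℤ) + 1 + 1) ↔ KillsExt β ((e : ℤ) + 1) :=
    killsExt_shift_iff φ hS hS' ((e : ℤ) + 1)
      (fun N ψ => hom_single_projective_eq_zero _ (by omega) ψ)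
      (fun N ψ => hom_single_projective_eq_zero _ (by omega) ψ)
  have hB : KillsTor f (e + 1 + 1) ↔ KillsTor β (e + 1) := by
    constructor
    · intro h N
      exact (tor_map_succ_eq_zero_iff N φ hS hS' (e + 1)
        (isZero_tor_succ_of_flat_left F N e) (isZero_tor_succ_of_flat_left F' N (e + 1))).1 (h N)
    · intro h N
      exact (tor_map_succ_eq_zero_iff N φ hS hS' (e + 1)
        (isZero_tor_succ_of_flat_left F N e) (isZero_tor_succ_of_flat_left F' N (e + 1))).2 (h N)
  rw [hA, hB]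
  exact IH K K' β

/-- Main theorem in categorical form. -/
theorem main [IsNoetherianRing R] (e : ℕ) :
    ∀ (M M' : ModuleCat.{u} R) [Module.Finite R M] (f : M ⟶ M'),
      KillsExt f ((e : ℤ) + 1) ↔ KillsTor f (e + 1) := by
  induction e with
  | zero =>
    intro M M' _ f
    have h1 : ((0 : ℕ) : ℤ) + 1 = 1 := by norm_num
    rw [h1]
    exact base f
  | succ e IH =>
    intro M M' _ f
    have h1 : ((e + 1 : ℕ) : ℤ) + 1 = (e : ℤ) + 1 + 1 := by push_cast; ring
    rw [h1]
    exact step e IH M M' f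

end Main

end Groth.Agent.H2.ExtTor
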