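import Mathlib

/-! # Extension of homological complexes along an embedding commutes with additive functors -/

set_option autoImplicit false

open CategoryTheory CategoryTheory.Limits HomologicalComplex

namespace Groth.Agent.H2.Mum

variable {C D : Type*} [Category C] [Category D] [Preadditive C] [Preadditive D]
  [HasZeroObject C] [HasZeroObject D]
  {ι ι' : Type*} {c : ComplexShape ι} {c' : ComplexShape ι'} (e : c.Embedding c')
  (G : C ⥤ D) [G.Additive]

/-- degreewise comparison. -/
noncomputable def extendXMapIso (K : HomologicalComplex C c) : ∀ o : Option ι,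
    G.obj (extend.X K o) ≅ extend.X ((G.mapHomologicalComplex c).obj K) o
  | some _ => Iso.refl _
  | none => IsZero.iso (Functor.map_isZero G (isZero_zero C)) (isZero_zero D)

lemma extendXMapIso_d (K : HomologicalComplex C c) (o o' : Option ι) :
    (extendXMapIso G K o).hom ≫ extend.d ((G.mapHomologicalComplex c).obj K) o o' =
      G.map (extend.d K o o') ≫ (extendXMapIso G K o').hom := by
  match o, o' with
  | none, _ =>
    exact (Functor.map_isZero G (isZero_zero C)).eq_of_src _ _
  | some i, some j =>
    change 𝟙 _ ≫ G.map (K.d i j) = G.map (K.d i j) ≫ 𝟙 _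
    rw [Category.id_comp, Category.comp_id]
  | some i, none =>
    exact (isZero_zero D).eq_of_tgt _ _

/-- extension along an embedding commutes with additive functors. -/
noncomputable def extendMapHCIso (K : HomologicalComplex C c) :
    (G.mapHomologicalComplex c').obj (K.extend e) ≅
      ((G.mapHomologicalComplex c).obj K).extend e :=
  HomologicalComplex.Hom.isoOfComponents (fun i' => extendXMapIso G K (e.r i'))
    (fun i' j' _ => extendXMapIso_d G K (e.r i') (e.r j'))

lemma extendMapHCIso_hom_f (K : HomologicalComplex C c) (i' : ι') :
    (extendMapHCIso e G K).hom.f i' = (extendXMapIso G K (e.r i')).hom := rfl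

variable {G} {G' : C ⥤ D} [G'.Additive]

lemma extendXMapIso_naturality (α : G ⟶ G') (K : HomologicalComplex C c) (o : Option ι) :
    α.app (extend.X K o) ≫ (extendXMapIso G' K o).hom =
      (extendXMapIso G K o).hom ≫
        extend.mapX ((NatTrans.mapHomologicalComplex α c).app K) o := by
  match o with
  | some i =>
    change α.app (K.X i) ≫ 𝟙 _ = 𝟙 _ ≫ α.app (K.X i)
    rw [Category.id_comp, Category.comp_id]
  | none =>
    exact (isZero_zero D).eq_of_tgt _ _

/-- naturality of `extendMapHCIso` in the functor. -/
lemma extendMapHCIso_naturality (α : G ⟶ G') (K : HomologicalComplex C c) :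
    (NatTrans.mapHomologicalComplex α c').app (K.extend e) ≫ (extendMapHCIso e G' K).hom =
      (extendMapHCIso e G K).hom ≫
        extendMap ((NatTrans.mapHomologicalComplex α c).app K) e := by
  ext i'
  exact extendXMapIso_naturality α K (e.r i')

end Groth.Agent.H2.Mum
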