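import Groth.Agent.Lib.Helper2.ARSysIm

/-!
# `f`-adic towers in an abelian category (helper2)

A tower `G` with a central endomorphism `φ`, monos `i n : G_n ⟶ G_{n+1}` with `t n ≫ i n = φ` and
short exact sequences `G_n ⟶ G_{n+1} ⟶ G_0`: then `t n` is a cokernel of `φ^{n+1}` on `G_{n+1}`.
-/

set_option autoImplicit false
set_option linter.style.haveILetI false
universe v u
open CategoryTheory Limits Opposite

namespace Groth.Agent.H2.FAdic

open Groth.Agent.H2.AR ARSys

variable {C : Type u} [Category.{v} C] [Abelian C] (G : PS C)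

/-- the data of an `f`-adic tower. -/
structure Tower where
  φ : ∀ n, G.obj (op n) ⟶ G.obj (op n)
  i : ∀ n, G.obj (op n) ⟶ G.obj (op (n + 1))
  hφt : ∀ n, tr G (Nat.le_succ n) ≫ φ n = φ (n + 1) ≫ tr G (Nat.le_succ n)
  hφi : ∀ n, i n ≫ φ (n + 1) = φ n ≫ i n
  hmono : ∀ n, Mono (i n)
  hti : ∀ n, tr G (Nat.le_succ n) ≫ i n = φ (n + 1)
  hw : ∀ n, i n ≫ tr G (Nat.zero_le (n + 1)) = 0
  hex : ∀ n, (ShortComplex.mk (i n) (tr G (Nat.zero_le (n + 1))) (hw n)).ShortExact

variable {G} (T : Tower G)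

namespace Tower

/-- the transition maps. -/
abbrev t (n : ℕ) : G.obj (op (n + 1)) ⟶ G.obj (op n) := tr G (Nat.le_succ n)

lemma i_t (n : ℕ) : T.i n ≫ t (G := G) n = T.φ n := by
  haveI := T.hmono n
  rw [← cancel_mono (T.i n), Category.assoc, T.hti, T.hφi]

/-- powers of `φ`. -/
def pw : ℕ → ∀ n, G.obj (op n) ⟶ G.obj (op n)
  | 0, _ => 𝟙 _
  | k + 1, n => pw k n ≫ T.φ n

lemma pw_zero (n : ℕ) : T.pw 0 n = 𝟙 _ := rfl

lemma pw_succ (k n : ℕ) : T.pw (k + 1) n = T.pw k n ≫ T.φ n := rfl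

lemma t_pw (k n : ℕ) : t (G := G) n ≫ T.pw k n = T.pw k (n + 1) ≫ t (G := G) n := by
  induction k with
  | zero => rw [pw_zero, pw_zero, Category.comp_id, Category.id_comp]
  | succ k ih =>
    rw [pw_succ, pw_succ, ← Category.assoc, ih, Category.assoc, T.hφt, Category.assoc]

lemma i_pw (k n : ℕ) : T.i n ≫ T.pw k (n + 1) = T.pw k n ≫ T.i n := by
  induction k with
  | zero => rw [pw_zero, pw_zero, Category.comp_id, Category.id_comp]
  | succ k ih =>
    rw [pw_succ, pw_succ, ← Category.assoc, ih, Category.assoc, T.hφi, Category.assoc]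

lemma φ_pw (k n : ℕ) : T.φ n ≫ T.pw k n = T.pw k n ≫ T.φ n := by
  induction k with
  | zero => rw [pw_zero, Category.comp_id, Category.id_comp]
  | succ k ih => rw [pw_succ, ← Category.assoc, ih]

omit [Abelian C] in
lemma tr_zero_succ (n : ℕ) :
    tr G (Nat.zero_le (n + 1)) = t (G := G) n ≫ tr G (Nat.zero_le n) :=
  (tr_comp G (Nat.zero_le n) (Nat.le_succ n)).symm

include T

lemma epi_t0 : Epi (t (G := G) 0) := (T.hex 0).epi_g

/-- `t n` is an epimorphism. -/
theorem epi_t (n : ℕ) : Epi (t (G := G) n) := by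
  induction n with
  | zero => exact T.epi_t0
  | succ n ih =>
    haveI := ih
    rw [epi_iff_forall_imLE]
    intro W y
    -- the image of `i n` lies in the image of `t (n+1)`
    have h1 : ImLE (T.i n) (t (G := G) (n + 1)) := by
      have h2 : ImLE (T.i n) (t (G := G) n ≫ T.i n) :=
        ImLE.epi_comp_right (T.i n) (t (G := G) n) (T.i n) (ImLE.refl _)
      rw [T.hti, ← T.i_t (n + 1)] at h2
      exact h2.trans (ImLE.comp_self _ _)
    haveI : Epi (tr G (Nat.zero_le (n + 1 + 1))) := (T.hex (n + 1)).epi_g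
    obtain ⟨W', π, hπ, z, hz⟩ := surjective_up_to_refinements_of_epi
      (tr G (Nat.zero_le (n + 1 + 1))) (y ≫ tr G (Nat.zero_le (n + 1)))
    have h3 : (π ≫ y - z ≫ t (G := G) (n + 1)) ≫ tr G (Nat.zero_le (n + 1)) = 0 := by
      rw [Preadditive.sub_comp, Category.assoc, hz, Category.assoc, ← tr_zero_succ, sub_self]
    have h4 : ImLE (π ≫ y - z ≫ t (G := G) (n + 1)) (T.i n) :=
      (exact_iff_imLE _).1 (T.hex n).exact _ h3
    have h5 : ImLE (π ≫ y) (t (G := G) (n + 1)) := by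
      have := (h4.trans h1).add (ImLE.comp_self z (t (G := G) (n + 1)))
      rwa [sub_add_cancel] at this
    exact ImLE.of_epi_comp π h5

/-- the kernel of `t n` is the image of `φ^{n+1}`. -/
theorem imLE_pw_of_comp_t (n : ℕ) {W : C} (x : W ⟶ G.obj (op (n + 1)))
    (hx : x ≫ t (G := G) n = 0) : ImLE x (T.pw (n + 1) (n + 1)) := by
  induction n generalizing W with
  | zero =>
    have h1 : x ≫ tr G (Nat.zero_le (0 + 1)) = 0 := hx
    obtain ⟨W', π, hπ, y, hy⟩ := (exact_iff_imLE _).1 (T.hex 0).exact x h1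
    haveI := T.epi_t 0
    have h2 : ImLE (y ≫ T.i 0) (t (G := G) 0 ≫ T.i 0) :=
      (imLE_of_epi y (t (G := G) 0)).postcomp (T.i 0)
    rw [T.hti] at h2
    have h3 : T.pw (0 + 1) (0 + 1) = T.φ (0 + 1) := by
      rw [pw_succ, pw_zero, Category.id_comp]
    rw [h3]
    refine ImLE.of_epi_comp π ?_
    change ImLE (π ≫ x) _
    rw [hy]
    exact h2
  | succ n ih =>
    have h1 : x ≫ tr G (Nat.zero_le (n + 1 + 1)) = 0 := by
      rw [tr_zero_succ, ← Category.assoc, hx, zero_comp]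
    obtain ⟨W', π, hπ, y, hy⟩ := (exact_iff_imLE _).1 (T.hex (n + 1)).exact x h1
    -- `y ≫ t n = 0`
    have h2 : y ≫ t (G := G) n = 0 := by
      haveI := T.hmono n
      rw [← cancel_mono (T.i n), Category.assoc, T.hti, zero_comp, ← T.i_t (n + 1),
        ← Category.assoc]
      change (y ≫ T.i (n + 1)) ≫ _ = 0
      rw [← hy, Category.assoc]
      change π ≫ x ≫ t (G := G) (n + 1) = 0
      rw [hx, comp_zero]
    have h3 := ih y h2
    haveI := T.epi_t (n + 1)
    have h4 : ImLE (y ≫ T.i (n + 1)) (T.pw (n + 1) (n + 1) ≫ T.i (n + 1)) := h3.postcomp _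
    have h5 : ImLE (T.pw (n + 1) (n + 1) ≫ T.i (n + 1))
        (t (G := G) (n + 1) ≫ T.pw (n + 1) (n + 1) ≫ T.i (n + 1)) :=
      ImLE.epi_comp_right _ _ _ (ImLE.refl _)
    have h6 : t (G := G) (n + 1) ≫ T.pw (n + 1) (n + 1) ≫ T.i (n + 1) =
        T.pw (n + 1 + 1) (n + 1 + 1) := by
      rw [← Category.assoc, T.t_pw, Category.assoc, T.hti, ← pw_succ]
    rw [h6] at h5
    refine ImLE.of_epi_comp π ?_
    change ImLE (π ≫ x) _
    rw [hy]
    exact h4.trans h5

/-- `G_n` is killed by `φ^{n+1}`. -/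
theorem pw_eq_zero (n : ℕ) : T.pw (n + 1) n = 0 := by
  induction n with
  | zero =>
    haveI := T.epi_t 0
    rw [pw_succ, pw_zero, Category.id_comp, ← cancel_epi (t (G := G) 0), T.hφt, comp_zero,
      ← T.hti, Category.assoc]
    exact (congrArg (fun z => t (G := G) 0 ≫ z) (T.hw 0)).trans comp_zero
  | succ n ih =>
    haveI := T.epi_t n
    rw [pw_succ, ← T.hti, ← Category.assoc, ← T.t_pw, ih, comp_zero, zero_comp]

lemma pw_comp_t (n : ℕ) : T.pw (n + 1) (n + 1) ≫ t (G := G) n = 0 := by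
  rw [← T.t_pw, T.pw_eq_zero, comp_zero]

/-- `t n` is a cokernel of `φ^{n+1}`. -/
theorem isIso_cokernel_desc (n : ℕ) :
    IsIso (cokernel.desc (T.pw (n + 1) (n + 1)) (t (G := G) n) (T.pw_comp_t n)) := by
  haveI := T.epi_t n
  haveI : Epi (cokernel.desc (T.pw (n + 1) (n + 1)) (t (G := G) n) (T.pw_comp_t n)) :=
    epi_of_epi_fac (cokernel.π_desc _ _ _)
  haveI : Mono (cokernel.desc (T.pw (n + 1) (n + 1)) (t (G := G) n) (T.pw_comp_t n)) := by
    rw [Preadditive.mono_iff_cancel_zero]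
    intro W z hz
    obtain ⟨W', π, hπ, x, hx⟩ := surjective_up_to_refinements_of_epi
      (cokernel.π (T.pw (n + 1) (n + 1))) z
    have h1 : x ≫ t (G := G) n = 0 := by
      rw [← cokernel.π_desc (T.pw (n + 1) (n + 1)) (t (G := G) n) (T.pw_comp_t n),
        ← Category.assoc, ← hx, Category.assoc, hz, comp_zero]
    have h2 := T.imLE_pw_of_comp_t n x h1
    have h3 : x ≫ cokernel.π (T.pw (n + 1) (n + 1)) = 0 :=
      h2.comp_eq_zero (cokernel.condition _)
    rw [← cancel_epi π, comp_zero, hx, h3]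
  exact isIso_of_mono_of_epi _

end Tower

end Groth.Agent.H2.FAdic
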