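import Groth.Agent.Lib.Helper2.FormalQ4
import Groth.Prelude.Def_Formal2

/-!
# Quotients by powers of a principal ideal (helper2)
-/

set_option autoImplicit false
set_option linter.style.haveILetI false
universe u v
open CategoryTheory Limits Opposite TopologicalSpace AlgebraicGeometry

namespace Groth.Agent.H2.FormalQ

open Groth.Agent.LD.FF

section Abelian

variable {C : Type u} [Category.{v} C] [Abelian C] {X Y Z : C} (u : X ⟶ Y) (v : Y ⟶ Z)

/-- the "third isomorphism theorem" sequence `0 ⟶ Y/X ⟶ Z/X ⟶ Z/Y ⟶ 0`. -/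
lemma coker_seq [Mono v] :
    Mono (cokernel.map u (u ≫ v) (𝟙 _) v (by simp)) ∧
      ∃ w : cokernel.map u (u ≫ v) (𝟙 _) v (by simp) ≫
          cokernel.map (u ≫ v) v u (𝟙 _) (by simp) = 0,
        (ShortComplex.mk (cokernel.map u (u ≫ v) (𝟙 _) v (by simp))
          (cokernel.map (u ≫ v) v u (𝟙 _) (by simp)) w).ShortExact := by
  have hex := kernelCokernelCompSequence_exact u v
  have h2 := hex.exact 2
  have h3 := hex.exact 3
  have hz : IsZero (kernel v) := isZero_kernel_of_mono v
  have hmono : Mono (cokernel.map u (u ≫ v) (𝟙 _) v (by simp)) :=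
    h2.mono_g (hz.eq_of_src _ _)
  refine ⟨hmono, ?_, ?_⟩
  · ext
    simp
  · haveI : Epi (cokernel.map (u ≫ v) v u (𝟙 _) (by simp)) := by
      refine epi_of_epi_fac (f := cokernel.π (u ≫ v)) (h := cokernel.π v) ?_
      simp
    exact { exact := h3, mono_f := hmono, epi_g := this }

end Abelian

variable {A : Type u} [CommRing A] {X : Scheme.{u}} [X.Over (Spec (CommRingCat.of A))]

/-- the cokernel of multiplication by `g` is the quotient by `span {g}`. -/
lemma isQ_cokernelπ_smulMod (F : X.Modules) (g : A) :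
    IsQ (Ideal.span ({g} : Set A)) (cokernel.π (Formal.smulMod A F g)) := by
  rw [isQ_iff]
  refine ⟨inferInstance, ?_, ?_⟩
  · intro b hb
    obtain ⟨a, rfl⟩ := Ideal.mem_span_singleton'.1 hb
    rw [CohIII.smulMod_mul, smulMod_comm, Category.assoc, cokernel.condition, comp_zero]
  · intro Z t ht
    exact ⟨cokernel.desc _ t (ht g (Ideal.mem_span_singleton_self g)), cokernel.π_desc _ _ _⟩

lemma isQ_pow_cokernelπ_smulMod (F : X.Modules) (g : A) (k : ℕ) :
    IsQ (Ideal.span ({g} : Set A) ^ k) (cokernel.π (Formal.smulMod A F (g ^ k))) := by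
  rw [Ideal.span_singleton_pow]
  exact isQ_cokernelπ_smulMod F (g ^ k)

lemma mono_smulMod_pow (F : X.Modules) (g : A) (hg : Mono (Formal.smulMod A F g)) (k : ℕ) :
    Mono (Formal.smulMod A F (g ^ k)) := by
  induction k with
  | zero => rw [pow_zero, smulMod_one]; infer_instance
  | succ k ih =>
    rw [pow_succ, CohIII.smulMod_mul]
    exact mono_comp _ _

theorem exists_shortExact_modPow (f : A) (F : X.Modules) (hF : Mono (Formal.smulMod A F f)) (n : ℕ) :
    ∃ i : Formal.modPow (Ideal.span ({f} : Set A)) 1 F ⟶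
        Formal.modPow (Ideal.span ({f} : Set A)) (n + 1) F,
      Mono i ∧ Formal2.modPowLE (Ideal.span ({f} : Set A)) (Nat.le_add_left 1 n) F ≫ i =
        Formal.smulMod A (Formal.modPow (Ideal.span ({f} : Set A)) (n + 1) F) (f ^ n) ∧
      ∃ w : i ≫ Formal.modPowTrans (Ideal.span ({f} : Set A)) n F = 0,
        (ShortComplex.mk i (Formal.modPowTrans (Ideal.span ({f} : Set A)) n F) w).ShortExact := by
  set S : Ideal A := Ideal.span ({f} : Set A) with hS
  let u : F ⟶ F := Formal.smulMod A F f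
  let v : F ⟶ F := Formal.smulMod A F (f ^ n)
  haveI : Mono v := mono_smulMod_pow F f hF n
  have huv : u ≫ v = Formal.smulMod A F (f ^ (n + 1)) := by
    rw [pow_succ, CohIII.smulMod_mul]
  have hQ1 : IsQ (S ^ 1) (cokernel.π u) := by
    rw [pow_one]
    exact isQ_cokernelπ_smulMod F f
  have hQn : IsQ (S ^ n) (cokernel.π v) := isQ_pow_cokernelπ_smulMod F f n
  have hQn1 : IsQ (S ^ (n + 1)) (cokernel.π (u ≫ v)) := by
    rw [huv]
    exact isQ_pow_cokernelπ_smulMod F f (n + 1)
  let e1 := isoOfIsQ S 1 (cokernel.π u) hQ1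
  let en := isoOfIsQ S n (cokernel.π v) hQn
  let en1 := isoOfIsQ S (n + 1) (cokernel.π (u ≫ v)) hQn1
  have he1 : Formal.modPowπ S 1 F ≫ e1.hom = cokernel.π u := modPowπ_isoOfIsQ_hom S 1 _ hQ1
  have hen : Formal.modPowπ S n F ≫ en.hom = cokernel.π v := modPowπ_isoOfIsQ_hom S n _ hQn
  have hen1 : Formal.modPowπ S (n + 1) F ≫ en1.hom = cokernel.π (u ≫ v) :=
    modPowπ_isoOfIsQ_hom S (n + 1) _ hQn1
  obtain ⟨hmono, w, hse⟩ := coker_seq u v
  set c1 := cokernel.map u (u ≫ v) (𝟙 _) v (by simp) with hc1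
  set c2 := cokernel.map (u ≫ v) v u (𝟙 _) (by simp) with hc2
  haveI : Epi (Formal.modPowπ S (n + 1) F) := (isQ_modPowπ S (n + 1) F).epi
  haveI : Epi (Formal.modPowπ S 1 F) := (isQ_modPowπ S 1 F).epi
  have htrans : Formal.modPowTrans S n F ≫ en.hom = en1.hom ≫ c2 := by
    rw [← cancel_epi (Formal.modPowπ S (n + 1) F), ← Category.assoc, Formal.modPowπ_trans, hen,
      ← Category.assoc, hen1, hc2, cokernel.π_desc, Category.id_comp]
  let i : Formal.modPow S 1 F ⟶ Formal.modPow S (n + 1) F := e1.hom ≫ c1 ≫ en1.inv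
  have hi : i ≫ en1.hom = e1.hom ≫ c1 := by
    simp only [i, Category.assoc, Iso.inv_hom_id, Category.comp_id]
  haveI : Mono i := by
    haveI := hmono
    exact mono_comp _ _
  have hw : i ≫ Formal.modPowTrans S n F = 0 := by
    rw [← cancel_mono en.hom, Category.assoc, htrans, ← Category.assoc, hi, Category.assoc, w,
      comp_zero, zero_comp]
  refine ⟨i, inferInstance, ?_, hw, ?_⟩
  · rw [← cancel_epi (Formal.modPowπ S (n + 1) F), ← Category.assoc, Formal2.modPowπ_modPowLE,
      comp_smulMod, ← cancel_mono en1.hom, Category.assoc, hi, ← Category.assoc, he1,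
      Category.assoc, hen1, hc1, cokernel.π_desc]
  · refine ShortComplex.shortExact_of_iso (ShortComplex.isoMk e1 en1 en ?_ ?_).symm hse
    · exact hi.symm
    · exact htrans.symm

end Groth.Agent.H2.FormalQ
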