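import Groth.Agent.Lib.Helper2.FAdic1
import Groth.Agent.Lib.Helper2.LimSec3
import Groth.Agent.Lib.Helper2.FormalPrin
import Groth.Agent.Lib.Helper2.AlgzExt1
import Groth.Agent.Lib.Lead.FF.ML

/-!
# `f`-adic towers of quasi-coherent modules are completions (helper2)
-/

set_option autoImplicit false
set_option linter.style.haveILetI false
universe u

open CategoryTheory CategoryTheory.Limits AlgebraicGeometry Opposite TopologicalSpace

namespace Groth.Agent.H2.FAdic

open Groth.Agent.LD.QC Groth.Agent.H2.FormalQ Groth.Agent.H2.FormalEq Groth.Agent.LD.FF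
  Groth.Agent.H2.AR ARSys Groth.Agent.H2.LimSec Groth.Agent.H2.AlgzExt

variable {A : Type u} [CommRing A] {X : Scheme.{u}} [X.Over (Spec (CommRingCat.of A))]

lemma isQ_of_isIso_desc {F Q : X.Modules} (u : F ⟶ F) (g : A) (k : ℕ)
    (hu : u = Formal.smulMod A F (g ^ k)) (p : F ⟶ Q) (w : u ≫ p = 0)
    (h : IsIso (cokernel.desc u p w)) : IsQ (Ideal.span ({g} : Set A) ^ k) p := by
  subst hu
  haveI := h
  have h1 := isQ_comp_iso (isQ_pow_cokernelπ_smulMod F g k)
    (cokernel.desc (Formal.smulMod A F (g ^ k)) p w)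
  rwa [cokernel.π_desc] at h1

variable (f : A) (G : ℕᵒᵖ ⥤ X.Modules)
  (h1 : ∀ n : ℕ, ∃ i : G.obj (op n) ⟶ G.obj (op (n + 1)), Mono i ∧
    G.map (homOfLE (Nat.le_succ n)).op ≫ i = Formal.smulMod A (G.obj (op (n + 1))) f ∧
      ∃ w : i ≫ G.map (homOfLE (Nat.zero_le (n + 1))).op = 0,
        (ShortComplex.mk i (G.map (homOfLE (Nat.zero_le (n + 1))).op) w).ShortExact)

/-- the tower attached to the hypothesis. -/
noncomputable def towerOf : Tower G where
  φ n := Formal.smulMod A (G.obj (op n)) f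
  i n := (h1 n).choose
  hφt n := comp_smulMod _ f
  hφi n := comp_smulMod _ f
  hmono n := (h1 n).choose_spec.1
  hti n := (h1 n).choose_spec.2.1
  hw n := (h1 n).choose_spec.2.2.choose
  hex n := (h1 n).choose_spec.2.2.choose_spec

lemma towerOf_pw (k n : ℕ) :
    (towerOf f G h1).pw k n = Formal.smulMod A (G.obj (op n)) (f ^ k) := by
  induction k with
  | zero => rw [Tower.pw_zero, pow_zero, smulMod_one]
  | succ k ih =>
    rw [Tower.pw_succ, ih, pow_succ, mul_comm, CohIII.smulMod_mul]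
    rfl

include h1 in
theorem isQCohFormal_of_tower (hqc : ∀ n : ℕᵒᵖ, Coh.IsQCoh (G.obj n)) :
    Formal2.IsQCohFormal (Ideal.span ({f} : Set A)) G := by
  refine ⟨fun n => hqc (op n), fun n b hb => ?_, fun n => ?_⟩
  · rw [Ideal.span_singleton_pow] at hb
    obtain ⟨a, rfl⟩ := Ideal.mem_span_singleton'.1 hb
    have h0 := (towerOf f G h1).pw_eq_zero n
    rw [towerOf_pw] at h0
    rw [CohIII.smulMod_mul, h0, zero_comp]
  · exact isQ_of_isIso_desc _ f (n + 1) (towerOf_pw f G h1 (n + 1) (n + 1)) _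
      ((towerOf f G h1).pw_comp_t n) ((towerOf f G h1).isIso_cokernel_desc n)

include h1 in
theorem mono_smulMod_limit : Mono (Formal.smulMod A (limit G) f) := by
  rw [Preadditive.mono_iff_cancel_zero]
  intro W z hz
  apply limit.hom_ext
  intro j
  obtain ⟨n⟩ := j
  rw [zero_comp]
  let T := towerOf f G h1
  haveI := T.hmono n
  rw [← cancel_mono (T.i n), zero_comp, Category.assoc]
  have e1 : limit.π G (op n) ≫ T.i n =
      Formal.smulMod A (limit G) f ≫ limit.π G (op (n + 1)) := by
    rw [← comp_smulMod, ← limit.w G (homOfLE (Nat.le_succ n)).op, Category.assoc]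
    congr 1
    exact T.hti n
  rw [e1, ← Category.assoc, hz, zero_comp]

include h1 in
theorem exists_completion_iso (hqc : ∀ n : ℕᵒᵖ, Coh.IsQCoh (G.obj n)) :
    ∃ F : X.Modules, Mono (Formal.smulMod A F f) ∧
      Nonempty (Formal.completion (Ideal.span ({f} : Set A)) F ≅ G) := by
  have hG := isQCohFormal_of_tower f G h1 hqc
  have hI : (Ideal.span ({f} : Set A)).FG := ⟨{f}, by simp⟩
  refine ⟨limit G, mono_smulMod_limit f G h1, ?_⟩
  exact nonempty_iso_of_isQ_family (M := limit G) (fun n => Ideal.span ({f} : Set A) ^ (n + 1))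
    (fun n => πc (Ideal.span ({f} : Set A)) (limit G) n)
    (fun n => limit.π G (op n))
    (fun n => isQ_modPowπ _ (n + 1) _)
    (fun n => isQ_limit_π hI hG n)
    (fun n k h => πc_map _ _ h)
    (fun n k h => limit.w G (homOfLE h).op)

end Groth.Agent.H2.FAdic
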