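import Mathlib
import Groth.Agent.Lib.Helper2.EqFlat3
import Groth.Agent.Lib.Helper2.ComplCat
import Groth.Agent.Lib.Helper1.ComplQuot
import Groth.Agent.Lib.Helper1.EquidimLoc
import Groth.Agent.Lib.Helper8.Japanese.AU2
import Groth.Agent.S0543

/-! Formally equidimensional local rings are equidimensional and catenary. -/

universe u
set_option linter.style.haveILetI false

namespace Groth.Agent.H2.FEquidim

open IsLocalRing Groth.Agent.H2.EqFlat

section

variable (A : Type u) [CommRing A] [IsNoetherianRing A] [IsLocalRing A]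

/-- the completion of `A/a` is `Â/aÂ` -/
theorem nonempty_ringEquiv_completion_quotient (a : Ideal A) [Nontrivial (A ⧸ a)] :
    Nonempty ((AdicCompletion (maximalIdeal A) A ⧸
        a.map (algebraMap A (AdicCompletion (maximalIdeal A) A))) ≃+*
      AdicCompletion (maximalIdeal (A ⧸ a)) (A ⧸ a)) := by
  have hf : Function.Surjective (Ideal.Quotient.mk a) := Ideal.Quotient.mk_surjective
  have h𝔫 : maximalIdeal (A ⧸ a) = (maximalIdeal A).map (Ideal.Quotient.mk a) :=
    (IsLocalRing.map_maximalIdeal_of_surjective (Ideal.Quotient.mk a) hf).symm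
  let g := Groth.Agent.H1.ComplQuot.compMap (Ideal.Quotient.mk a) (maximalIdeal A)
    (maximalIdeal (A ⧸ a)) h𝔫
  have hg : Function.Surjective g :=
    Groth.Agent.H1.ComplQuot.compMap_surjective (Ideal.Quotient.mk a) _ _ hf h𝔫
  have hker : RingHom.ker g = a.map (algebraMap A (AdicCompletion (maximalIdeal A) A)) := by
    have := Groth.Agent.H1.ComplQuot.ker_compMap (Ideal.Quotient.mk a) (maximalIdeal A)
      (maximalIdeal (A ⧸ a)) hf h𝔫
    rw [Ideal.mk_ker] at this
    exact this
  exact ⟨(Ideal.quotEquivOfEq hker.symm).trans (RingHom.quotientKerEquivOfSurjective hg)⟩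

/-- **S2632** -/
theorem main (h : EGA4.IsFormallyEquidim A) :
    (EGA4.IsEquidim A ∧ CAlg.IsCatenary A) ∧
      ∀ (a : Ideal A) [Nontrivial (A ⧸ a)],
        (EGA4.IsEquidim (A ⧸ a) ↔ EGA4.IsFormallyEquidim (A ⧸ a)) := by
  have hfg : (maximalIdeal A).FG := IsNoetherian.noetherian _
  haveI : IsNoetherianRing (AdicCompletion (maximalIdeal A) A) := Groth.Agent.S0543.result A _
  letI := AdicCompletion.isLocalRing_of_fg (R := A) hfg
  haveI := AdicCompletion.algebraMap_isLocalHom_of_fg (R := A) hfg
  haveI := Groth.Agent.H8.Jap.isAdicComplete_adicCompletion_maximalIdeal A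
  have hcat : CAlg.IsCatenary (AdicCompletion (maximalIdeal A) A) :=
    Groth.Agent.H2.ComplCat.isCatenary_of_complete_local _
  have heq : EGA4.IsEquidim (AdicCompletion (maximalIdeal A) A) := h
  refine ⟨isEquidim_and_isCatenary_of_flat (A := A) (B := AdicCompletion (maximalIdeal A) A)
    hcat heq, ?_⟩
  intro a _
  obtain ⟨e⟩ := nonempty_ringEquiv_completion_quotient A a
  rw [← isEquidim_quotient_map_iff (A := A) (B := AdicCompletion (maximalIdeal A) A) hcat heq a]
  unfold EGA4.IsFormallyEquidim
  exact ⟨Groth.Agent.H1.EquidimLoc.isEquidim_of_ringEquiv e, Groth.Agent.H1.EquidimLoc.isEquidim_of_ringEquiv e.symm⟩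

end

end Groth.Agent.H2.FEquidim
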