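import Mathlib
import Groth.Agent.Lib.Helper2.FEquidim
import Groth.Agent.S19474

/-! `A` formally equidimensional iff `A` equidimensional and `A/p` formally equidimensional for
all minimal primes `p`. -/

universe u
set_option linter.style.haveILetI false

namespace Groth.Agent.H2.FEquidim

open IsLocalRing Groth.Agent.H2.EqFlat

section

variable (A : Type u) [CommRing A] [IsNoetherianRing A] [IsLocalRing A]

theorem dim_eq_of_isEquidim_quotient {R : Type u} [CommRing R] (I : Ideal R)
    (h : EGA4.IsEquidim (R ⧸ I)) (Q : Ideal R) (hQ : Q ∈ I.minimalPrimes) :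
    ringKrullDim (R ⧸ Q) = ringKrullDim (R ⧸ I) := by
  rw [Ideal.minimalPrimes_eq_comap] at hQ
  obtain ⟨Q', hQ', rfl⟩ := hQ
  rw [← dim_quotient_quotient, h Q' hQ']

theorem isEquidim_of_isDomain (R : Type u) [CommRing R] [IsDomain R] : EGA4.IsEquidim R := by
  intro p hp
  rw [IsDomain.minimalPrimes_eq_singleton_bot] at hp
  have : p = ⊥ := hp
  subst this
  exact ringKrullDim_eq_of_ringEquiv (RingEquiv.quotientBot R)

/-- **S2629** -/
theorem iff_minimalPrimes :
    EGA4.IsFormallyEquidim A ↔
      (EGA4.IsEquidim A ∧ ∀ (p : Ideal A) [p.IsPrime], p ∈ minimalPrimes A →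
        EGA4.IsFormallyEquidim (A ⧸ p)) := by
  constructor
  · intro h
    obtain ⟨⟨h1, -⟩, h2⟩ := main A h
    refine ⟨h1, ?_⟩
    intro p hp _
    exact (h2 p).mp (isEquidim_of_isDomain _)
  · rintro ⟨h1, h2⟩
    have hfg : (maximalIdeal A).FG := IsNoetherian.noetherian _
    haveI : IsNoetherianRing (AdicCompletion (maximalIdeal A) A) := Groth.Agent.S0543.result A _
    letI := AdicCompletion.isLocalRing_of_fg (R := A) hfg
    haveI := AdicCompletion.algebraMap_isLocalHom_of_fg (R := A) hfg
    intro P' hP'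
    have hP'' : P' ∈ ((⊥ : Ideal A).map
        (algebraMap A (AdicCompletion (maximalIdeal A) A))).minimalPrimes := by
      rw [Ideal.map_bot]
      exact hP'
    obtain ⟨hp, hP'p⟩ := under_mem_minimalPrimes (A := A)
      (B := AdicCompletion (maximalIdeal A) A) ⊥ P' hP''
    set p := P'.under A with hpdef
    haveI hpp : p.IsPrime := hp.1.1
    have hpmin : p ∈ minimalPrimes A := hp
    have h3 : EGA4.IsFormallyEquidim (A ⧸ p) := h2 p hpmin
    obtain ⟨e⟩ := nonempty_ringEquiv_completion_quotient A p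
    have h4 : EGA4.IsEquidim (AdicCompletion (maximalIdeal A) A ⧸
        p.map (algebraMap A (AdicCompletion (maximalIdeal A) A))) :=
      Groth.Agent.H1.EquidimLoc.isEquidim_of_ringEquiv e.symm h3
    rw [dim_eq_of_isEquidim_quotient _ h4 P' hP'p, ringKrullDim_eq_of_ringEquiv e,
      (Groth.Agent.S19474.result (A ⧸ p) (maximalIdeal (A ⧸ p))
        (Ideal.IsPrime.ne_top inferInstance)).1, h1 p hpmin,
      (Groth.Agent.S19474.result A (maximalIdeal A) (Ideal.IsPrime.ne_top inferInstance)).1]

end

end Groth.Agent.H2.FEquidim
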