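import Mathlib
import Groth.Agent.Lib.Helper2.FEquidim2
import Groth.Agent.Lib.Helper3.CA.CplMap

/-! Formally catenary local rings: transport, descent along flat local homomorphisms. -/

universe u
set_option linter.style.haveILetI false

namespace Groth.Agent.H2.FCat

open IsLocalRing Groth.Agent.H2.EqFlat Groth.Agent.H2.FEquidim

section Transport

variable {A B : Type u} [CommRing A] [CommRing B] [IsNoetherianRing A] [IsLocalRing A]
  [IsLocalRing B]

/-- for a surjection `f : A → B` of local rings, `B` is formally equidimensional iff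
`Â/(ker f)Â` is equidimensional -/
theorem isFormallyEquidim_iff_of_surjective (f : A →+* B) (hf : Function.Surjective f) :
    EGA4.IsFormallyEquidim B ↔
      EGA4.IsEquidim (AdicCompletion (maximalIdeal A) A ⧸
        (RingHom.ker f).map (algebraMap A (AdicCompletion (maximalIdeal A) A))) := by
  have e := Groth.Agent.H1.ComplQuot.localEquiv f hf
  exact ⟨Groth.Agent.H1.EquidimLoc.isEquidim_of_ringEquiv e.symm,
    Groth.Agent.H1.EquidimLoc.isEquidim_of_ringEquiv e⟩

/-- two local quotients of `A` with the same kernel are simultaneously formally equidimensional -/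
theorem isFormallyEquidim_of_ker_eq {B' : Type u} [CommRing B'] [IsLocalRing B']
    (f : A →+* B) (hf : Function.Surjective f) (g : A →+* B') (hg : Function.Surjective g)
    (hker : RingHom.ker f = RingHom.ker g) (h : EGA4.IsFormallyEquidim B) :
    EGA4.IsFormallyEquidim B' := by
  rw [isFormallyEquidim_iff_of_surjective g hg, ← hker,
    ← isFormallyEquidim_iff_of_surjective f hf]
  exact h

theorem isFormallyEquidim_of_ringEquiv (e : A ≃+* B) (h : EGA4.IsFormallyEquidim A) :
    EGA4.IsFormallyEquidim B := by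
  refine isFormallyEquidim_of_ker_eq (RingHom.id A) Function.surjective_id
    (e : A →+* B) e.surjective ?_ h
  ext x
  simp [RingHom.mem_ker]

/-- a local domain quotient of a formally catenary ring is formally equidimensional -/
theorem isFormallyEquidim_of_surjective_of_isFormallyCatenary (hA : EGA4.IsFormallyCatenary A)
    (f : A →+* B) (hf : Function.Surjective f) [hk : (RingHom.ker f).IsPrime] :
    EGA4.IsFormallyEquidim B := by
  refine isFormallyEquidim_of_ker_eq (Ideal.Quotient.mk (RingHom.ker f))
    Ideal.Quotient.mk_surjective f hf ?_ (hA (RingHom.ker f))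
  rw [Ideal.mk_ker]

end Transport

section Flat

variable (C C' : Type u) [CommRing C] [CommRing C'] [IsNoetherianRing C] [IsNoetherianRing C']
  [IsLocalRing C] [IsLocalRing C'] [Algebra C C'] [IsLocalHom (algebraMap C C')]
  [Module.Flat C C']

/-- **descent of formal equidimensionality along flat local homomorphisms** -/
theorem isFormallyEquidim_of_flat (h : EGA4.IsFormallyEquidim C') : EGA4.IsFormallyEquidim C := by
  obtain ⟨_, -, hff⟩ := Groth.Agent.H3.CplMap.exists_cpl_tower C C'
  have hfg : (maximalIdeal C).FG := IsNoetherian.noetherian _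
  have hfg' : (maximalIdeal C').FG := IsNoetherian.noetherian _
  haveI : IsNoetherianRing (EGA4.Cpl C) := Groth.Agent.S0543.result C _
  haveI : IsNoetherianRing (EGA4.Cpl C') := Groth.Agent.S0543.result C' _
  letI := AdicCompletion.isLocalRing_of_fg (R := C) hfg
  letI := AdicCompletion.isLocalRing_of_fg (R := C') hfg'
  haveI := Groth.Agent.H8.Jap.isAdicComplete_adicCompletion_maximalIdeal C'
  have hcat : CAlg.IsCatenary (EGA4.Cpl C') :=
    Groth.Agent.H2.ComplCat.isCatenary_of_complete_local _
  exact (isEquidim_and_isCatenary_of_flat (A := EGA4.Cpl C) (B := EGA4.Cpl C') hcat h).1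

omit [IsNoetherianRing C] [IsNoetherianRing C'] [Module.Flat C C'] in
theorem map_ne_top (p : Ideal C) (hp : p ≠ ⊤) : p.map (algebraMap C C') ≠ ⊤ := by
  have hle : p.map (algebraMap C C') ≤ maximalIdeal C' :=
    (Ideal.map_mono (IsLocalRing.le_maximalIdeal hp)).trans
      (IsLocalRing.map_maximalIdeal_le (algebraMap C C'))
  intro h
  rw [h] at hle
  exact (maximalIdeal.isMaximal C').ne_top (top_le_iff.mp hle)

omit [IsNoetherianRing C] [IsNoetherianRing C'] [Module.Flat C C'] in
theorem isLocalHom_quotient (p : Ideal C) [Nontrivial (C ⧸ p)]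
    [Nontrivial (C' ⧸ p.map (algebraMap C C'))] :
    IsLocalHom (algebraMap (C ⧸ p) (C' ⧸ p.map (algebraMap C C'))) := by
  constructor
  intro x hx
  obtain ⟨a, rfl⟩ := Ideal.Quotient.mk_surjective x
  by_contra hnu
  have ha : a ∈ maximalIdeal C := by
    rw [IsLocalRing.mem_maximalIdeal]
    intro hu
    exact hnu (hu.map _)
  have hb : algebraMap C C' a ∈ maximalIdeal C' :=
    IsLocalRing.map_maximalIdeal_le (algebraMap C C') (Ideal.mem_map_of_mem _ ha)
  have hb' : Ideal.Quotient.mk (p.map (algebraMap C C')) (algebraMap C C' a) ∈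
      maximalIdeal (C' ⧸ p.map (algebraMap C C')) := by
    rw [IsLocalRing.mem_maximalIdeal]
    intro hu
    haveI : IsLocalHom (Ideal.Quotient.mk (p.map (algebraMap C C'))) :=
      Function.Surjective.isLocalHom _ Ideal.Quotient.mk_surjective
    exact ((IsLocalRing.mem_maximalIdeal _).mp hb)
      (isUnit_of_map_unit (Ideal.Quotient.mk (p.map (algebraMap C C'))) _ hu)
  exact ((IsLocalRing.mem_maximalIdeal _).mp hb') hx

omit [IsLocalRing C'] [IsNoetherianRing C'] in
theorem isCatenary_of_isFormallyCatenary (h : EGA4.IsFormallyCatenary C) : CAlg.IsCatenary C := by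
  rw [Groth.Agent.H5.isCatenary_iff_forall_quotient_minimalPrimes]
  intro p hp
  haveI := hp.1.1
  exact (main (C ⧸ p) (h p)).1.2

theorem isFormallyEquidim_of_isFormallyCatenary (h : EGA4.IsFormallyCatenary C)
    (heq : EGA4.IsEquidim C) : EGA4.IsFormallyEquidim C :=
  (iff_minimalPrimes C).mpr ⟨heq, fun p _ _ => h p⟩

/-- **descent of formal catenarity along flat local homomorphisms** -/
theorem isFormallyCatenary_of_flat (hFC : EGA4.IsFormallyCatenary C')
    (heq : EGA4.IsEquidim C') : EGA4.IsFormallyCatenary C := by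
  intro p hp
  have hcat : CAlg.IsCatenary C' := isCatenary_of_isFormallyCatenary C' hFC
  have hne : p.map (algebraMap C C') ≠ ⊤ := map_ne_top C C' p hp.ne_top
  haveI : Nontrivial (C' ⧸ p.map (algebraMap C C')) := Ideal.Quotient.nontrivial_iff.mpr hne
  haveI : Module.Flat (C ⧸ p) (C' ⧸ p.map (algebraMap C C')) :=
    Module.Flat.of_linearEquiv
      (Algebra.TensorProduct.quotIdealMapEquivQuotTensor C' p).toLinearEquiv
  haveI : IsLocalHom (algebraMap (C ⧸ p) (C' ⧸ p.map (algebraMap C C'))) :=
    isLocalHom_quotient C C' p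
  have heq' : EGA4.IsEquidim (C' ⧸ p.map (algebraMap C C')) :=
    isEquidim_quotient_map hcat heq p
  apply isFormallyEquidim_of_flat (C ⧸ p) (C' ⧸ p.map (algebraMap C C'))
  rw [iff_minimalPrimes]
  refine ⟨heq', ?_⟩
  intro P hP hPmin
  -- `(C'/pC')/P ≅ C'/P₀`
  set P₀ : Ideal C' := P.comap (Ideal.Quotient.mk (p.map (algebraMap C C'))) with hP₀
  haveI : P₀.IsPrime := Ideal.comap_isPrime _ P
  have h1 : EGA4.IsFormallyEquidim (C' ⧸ P₀) := hFC P₀
  refine isFormallyEquidim_of_ker_eq (Ideal.Quotient.mk P₀) Ideal.Quotient.mk_surjective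
    ((Ideal.Quotient.mk P).comp (Ideal.Quotient.mk (p.map (algebraMap C C'))))
    (Ideal.Quotient.mk_surjective.comp Ideal.Quotient.mk_surjective) ?_ h1
  rw [Ideal.mk_ker, ← RingHom.comap_ker, Ideal.mk_ker]

end Flat

end Groth.Agent.H2.FCat
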