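import Mathlib
import Groth.Agent.Lib.Helper2.FCat1
import Groth.Agent.Lib.Helper1.EquidimLoc

/-! Equidimensionality of localizations of polynomial rings over a catenary equidimensional
local ring. -/

universe u
set_option linter.style.haveILetI false

namespace Groth.Agent.H2.FCat

open IsLocalRing Groth.Agent.H2.EqFlat

theorem exists_nat_dim (R : Type u) [CommRing R] [FiniteRingKrullDim R] :
    ∃ n : ℕ, ringKrullDim R = (n : WithBot ℕ∞) := by
  have h1 := ringKrullDim_ne_top (R := R)
  have h2 := ringKrullDim_ne_bot (R := R)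
  induction h : ringKrullDim R using WithBot.recBotCoe with
  | bot => exact absurd h h2
  | coe a =>
    induction a using ENat.recTopCoe with
    | top => exact absurd h h1
    | coe n => exact ⟨n, rfl⟩

section U2a

variable (R : Type u) [CommRing R] [IsNoetherianRing R] [IsLocalRing R]

/-- localizations of a catenary equidimensional Noetherian local ring are equidimensional -/
theorem isEquidim_localization (hcat : CAlg.IsCatenary R) (heq : EGA4.IsEquidim R)
    (p' : Ideal R) [p'.IsPrime] : EGA4.IsEquidim (Localization.AtPrime p') := by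
  apply Groth.Agent.H1.EquidimLoc.isEquidim_localization_of_forall_height_eq
  intro q₀ hq₀ q₀' hq₀' hle hle'
  haveI := hq₀.1.1
  haveI := hq₀'.1.1
  haveI : IsLocalHom (algebraMap R R) := ⟨fun a ha => ha⟩
  have h1 := height_map_add_dim_quotient (A := R) (B := R) hcat heq q₀ p' hle
  have h2 := height_map_add_dim_quotient (A := R) (B := R) hcat heq q₀' p' hle'
  rw [heq q₀ hq₀] at h1
  rw [heq q₀' hq₀'] at h2
  haveI : IsLocalRing (R ⧸ p') :=
    IsLocalRing.of_surjective' (Ideal.Quotient.mk p') Ideal.Quotient.mk_surjective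
  obtain ⟨n, hn⟩ := exists_nat_dim (R ⧸ p')
  rw [hn] at h1 h2
  have := withBot_add_nat_cancel _ _ n (h1.trans h2.symm)
  exact_mod_cast this

end U2a

section U2b

variable {A B : Type u} [CommRing A] [CommRing B] [IsNoetherianRing A] [IsNoetherianRing B]
  [IsLocalRing A] [IsLocalRing B] [Algebra A B] [IsLocalHom (algebraMap A B)] [Module.Flat A B]

/-- flat local `A → B`, `A` equidimensional and all minimal primes of `B` extended from minimal
primes of `A`: then `B` is equidimensional -/
theorem isEquidim_of_flat_of_minimalPrimes (heq : EGA4.IsEquidim A)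
    (hmin : ∀ P ∈ minimalPrimes B, ∃ 𝔮 ∈ minimalPrimes A, P = 𝔮.map (algebraMap A B)) :
    EGA4.IsEquidim B := by
  intro P hP
  obtain ⟨𝔮, h𝔮, rfl⟩ := hmin P hP
  rw [dim_quotient_map, heq 𝔮 h𝔮, ← dim_eq_add_fib]

end U2b

section U2d

variable (R : Type u) [CommRing R] (n : ℕ)

theorem isPrime_map_C (p : Ideal R) [p.IsPrime] :
    (p.map (MvPolynomial.C : R →+* MvPolynomial (Fin n) R)).IsPrime := by
  rw [← Ideal.Quotient.isDomain_iff_prime]
  exact (MvPolynomial.quotientEquivQuotientMvPolynomial (σ := Fin n) p).toRingEquiv.isDomain_iff.mp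
    inferInstance

/-- minimal primes of a polynomial ring are extended from minimal primes of the base -/
theorem exists_eq_map_C_of_mem_minimalPrimes (𝔔 : Ideal (MvPolynomial (Fin n) R))
    (h𝔔 : 𝔔 ∈ minimalPrimes (MvPolynomial (Fin n) R)) :
    ∃ 𝔮 ∈ minimalPrimes R, 𝔔 = 𝔮.map (MvPolynomial.C : R →+* MvPolynomial (Fin n) R) := by
  have h1 : 𝔔 ∈ ((⊥ : Ideal R).map (algebraMap R (MvPolynomial (Fin n) R))).minimalPrimes := by
    rw [Ideal.map_bot]
    exact h𝔔
  obtain ⟨h2, h3⟩ := under_mem_minimalPrimes (A := R) (B := MvPolynomial (Fin n) R) ⊥ 𝔔 h1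
  refine ⟨𝔔.under R, h2, ?_⟩
  haveI : (𝔔.under R).IsPrime := h2.1.1
  haveI : ((𝔔.under R).map (algebraMap R (MvPolynomial (Fin n) R))).IsPrime :=
    isPrime_map_C R n (𝔔.under R)
  have h4 : ((𝔔.under R).map (algebraMap R (MvPolynomial (Fin n) R))).minimalPrimes =
      {(𝔔.under R).map (algebraMap R (MvPolynomial (Fin n) R))} :=
    Ideal.minimalPrimes_eq_subsingleton_self
  rw [h4] at h3
  exact h3

end U2d

section U2c

variable (R : Type u) [CommRing R] [IsNoetherianRing R] [IsLocalRing R] (n : ℕ)

/-- localizations of polynomial rings over a catenary equidimensional Noetherian local ring are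
equidimensional -/
theorem isEquidim_localization_mvPolynomial (hcat : CAlg.IsCatenary R) (heq : EGA4.IsEquidim R)
    (Q' : Ideal (MvPolynomial (Fin n) R)) [Q'.IsPrime] :
    EGA4.IsEquidim (Localization.AtPrime Q') := by
  set p' : Ideal R := Q'.comap (MvPolynomial.C : R →+* MvPolynomial (Fin n) R) with hp'
  haveI : p'.IsPrime := Ideal.comap_isPrime _ _
  let φ := Localization.localRingHom p' Q' (MvPolynomial.C : R →+* MvPolynomial (Fin n) R) rfl
  letI : Algebra (Localization.AtPrime p') (Localization.AtPrime Q') := φ.toAlgebra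
  haveI : IsLocalHom (algebraMap (Localization.AtPrime p') (Localization.AtPrime Q')) :=
    Localization.isLocalHom_localRingHom p' Q' MvPolynomial.C rfl
  haveI : Module.Flat (Localization.AtPrime p') (Localization.AtPrime Q') := by
    have hC : (MvPolynomial.C : R →+* MvPolynomial (Fin n) R).Flat := by
      have : (MvPolynomial.C : R →+* MvPolynomial (Fin n) R) =
          algebraMap R (MvPolynomial (Fin n) R) := rfl
      rw [this, RingHom.flat_algebraMap_iff]
      infer_instance
    exact RingHom.Flat.localRingHom hC Q' p' rfl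
  have heqA := isEquidim_localization R hcat heq p'
  refine isEquidim_of_flat_of_minimalPrimes heqA ?_
  intro P hP
  obtain ⟨𝔔, h𝔔, hle, rfl⟩ :=
    Groth.Agent.H1.EquidimLoc.exists_eq_map_of_mem_minimalPrimes Q' P hP
  obtain ⟨𝔮₀, h𝔮₀, rfl⟩ := exists_eq_map_C_of_mem_minimalPrimes R n 𝔔 h𝔔
  have hle' : 𝔮₀ ≤ p' := by
    rw [hp', ← Ideal.map_le_iff_le_comap]
    exact hle
  refine ⟨𝔮₀.map (algebraMap R (Localization.AtPrime p')),
    Groth.Agent.H1.EquidimLoc.map_mem_minimalPrimes 𝔮₀ p' h𝔮₀ hle', ?_⟩
  rw [Ideal.map_map, Ideal.map_map]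
  congr 1
  ext r
  exact (Localization.localRingHom_to_map p' Q' MvPolynomial.C rfl r).symm

end U2c

end Groth.Agent.H2.FCat
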