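import Mathlib
import Groth.Agent.Lib.Helper1.ClImmNear

/-! # Tools for properties of a morphism near a closed subset. -/

set_option autoImplicit false
universe u
open CategoryTheory CategoryTheory.Limits AlgebraicGeometry

namespace Groth.Agent.H2.FComplNear

/-- a local property holds over an open if it holds over a neighbourhood of each of its points. -/
theorem morphismRestrict_of_forall_exists {P : MorphismProperty Scheme.{u}}
    [IsZariskiLocalAtTarget P] {X Y : Scheme.{u}} (f : X ⟶ Y) (V : Y.Opens)
    (H : ∀ y ∈ V, ∃ U : Y.Opens, y ∈ U ∧ P (f ∣_ U)) : P (f ∣_ V) := by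
  apply IsZariskiLocalAtTarget.of_forall_exists_morphismRestrict (P := P)
  intro x
  obtain ⟨U, hxU, hU⟩ := H x.1 x.2
  refine ⟨V.ι ⁻¹ᵁ U, hxU, ?_⟩
  have h1 : P (f ∣_ (V.ι ''ᵁ (V.ι ⁻¹ᵁ U))) := by
    refine Groth.Agent.H1.PushO.morphismRestrict_of_le (P := P) f ?_ hU
    rw [Scheme.Hom.image_preimage_eq_opensRange_inf]
    exact inf_le_right
  exact (P.arrow_mk_iso_iff (morphismRestrictRestrict f V (V.ι ⁻¹ᵁ U))).mpr h1

/-- the residue field map of a preimmersion is an isomorphism. -/
theorem isIso_residueFieldMap_of_isPreimmersion {Y Z : Scheme.{u}} (g : Y ⟶ Z) [IsPreimmersion g]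
    (y : Y) : IsIso (g.residueFieldMap y) := by
  have hbij : Function.Bijective (g.residueFieldMap y).hom := by
    refine ⟨(g.residueFieldMap y).hom.injective, ?_⟩
    intro b
    obtain ⟨b', rfl⟩ := Y.residue_surjective y b
    obtain ⟨c, rfl⟩ := g.stalkMap_surjective y b'
    refine ⟨Z.residue (g y) c, ?_⟩
    have := congrArg (fun t => t.hom c) (Scheme.residue_residueFieldMap g y)
    simpa using this
  exact (ConcreteCategory.isIso_iff_bijective _).2 hbij

/-- the "empty or a rational point" condition on fibres passes from a base change along a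
preimmersion to the original morphism. -/
theorem fiber_cond_of_isPullback {P X Y Z : Scheme.{u}} {fst : P ⟶ X} {snd : P ⟶ Y} {f : X ⟶ Z}
    {g : Y ⟶ Z} [IsPreimmersion g] (h : IsPullback fst snd f g) (y : Y)
    (hs : IsEmpty (snd.fiber y) ∨ IsIso (snd.fiberToSpecResidueField y)) :
    IsEmpty (f.fiber (g y)) ∨ IsIso (f.fiberToSpecResidueField (g y)) := by
  obtain ⟨top, sq⟩ : ∃ top : snd.fiber y ⟶ f.fiber (g y),
      IsPullback top (snd.fiberToSpecResidueField y) (f.fiberToSpecResidueField (g y))
        (Spec.map (g.residueFieldMap y)) :=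
    ⟨_, isPullback_fiberToSpecResidueField_of_isPullback h y⟩
  haveI : IsIso (g.residueFieldMap y) := isIso_residueFieldMap_of_isPreimmersion g y
  haveI : IsIso (Spec.map (g.residueFieldMap y)) := inferInstance
  haveI htop : IsIso top := sq.isIso_fst_of_isIso
  rcases hs with hs | hs
  · left
    exact ⟨fun z => hs.false ((inv top).base z)⟩
  · right
    have e : f.fiberToSpecResidueField (g y) =
        inv top ≫ snd.fiberToSpecResidueField y ≫ Spec.map (g.residueFieldMap y) := by
      rw [IsIso.eq_inv_comp]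
      exact sq.w
    rw [e]
    infer_instance

/-- a property stable under base change passes to a base change of `f` along a morphism landing
in an open over which `f` has the property. -/
theorem of_isPullback_of_range_subset {P : MorphismProperty Scheme.{u}} [P.IsStableUnderBaseChange]
    {Q X Y Z : Scheme.{u}} {fst : Q ⟶ X} {snd : Q ⟶ Y} {f : X ⟶ Z} {g : Y ⟶ Z}
    (h : IsPullback fst snd f g) (V : Z.Opens) (hV : Set.range g ⊆ V) (hP : P (f ∣_ V)) : P snd := by
  have hr : Set.range g ⊆ Set.range V.ι := by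
    rw [Scheme.Opens.range_ι]; exact hV
  let g' : Y ⟶ V := IsOpenImmersion.lift V.ι g hr
  have hg' : g' ≫ V.ι = g := IsOpenImmersion.lift_fac _ _ _
  have right : IsPullback (f ⁻¹ᵁ V).ι (f ∣_ V) f V.ι := (isPullback_morphismRestrict f V).flip
  have hw : fst ≫ f = (snd ≫ g') ≫ V.ι := by rw [Category.assoc, hg', h.w]
  let fst' : Q ⟶ (f ⁻¹ᵁ V) := right.lift fst (snd ≫ g') hw
  have h1 : fst' ≫ (f ⁻¹ᵁ V).ι = fst := right.lift_fst _ _ _
  have h2 : fst' ≫ (f ∣_ V) = snd ≫ g' := right.lift_snd _ _ _
  have big : IsPullback (fst' ≫ (f ⁻¹ᵁ V).ι) snd f (g' ≫ V.ι) := by rw [h1, hg']; exact h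
  have left : IsPullback fst' snd (f ∣_ V) g' := IsPullback.of_right big h2 right
  exact MorphismProperty.of_isPullback left hP

end Groth.Agent.H2.FComplNear
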