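import Mathlib
import Groth.Agent.Lib.Helper2.FComplNear1
import Groth.Agent.Lib.Helper2.FSchCompl

/-! # Completed morphisms of proper schemes: closed immersions near the closed set. -/

set_option autoImplicit false
universe u
open CategoryTheory CategoryTheory.Limits AlgebraicGeometry

namespace Groth.Agent.H2.FComplNear

open Groth.Agent.H2.FSchCompl

variable {X Y Z : Scheme.{u}}

/-- the levels of a completed morphism are base changes of the morphism. -/
theorem isPullback_level (f : X ⟶ Y) (𝓘 : X.IdealSheafData) (𝓚 : Y.IdealSheafData)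
    (hI : 𝓘 = 𝓚.comap f) (hc : FSch.PowCompat f 𝓘 𝓚) (n : ℕ) :
    IsPullback (P := (𝓘 ^ (n + 1)).subscheme) (Y := (𝓚 ^ (n + 1)).subscheme)
      (𝓘 ^ (n + 1)).subschemeι ((FSch.completionMap f 𝓘 𝓚 hc : FSch.Hom _ _).app n) f
      (𝓚 ^ (n + 1)).subschemeι := by
  subst hI
  exact isPullback_completionMap f 𝓚 hc n

/-- from neighbourhoods of the points of `h⁻¹(V(𝓙))` to a neighbourhood of the form `h⁻¹(U)`. -/
theorem exists_open_of_forall_mem_support {P : MorphismProperty Scheme.{u}}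
    [IsZariskiLocalAtTarget P] (f : X ⟶ Y) (h : Y ⟶ Z) [UniversallyClosed h]
    (𝓙 : Z.IdealSheafData)
    (H : ∀ y : Y, h y ∈ (𝓙.support : Set Z) → ∃ W : Y.Opens, y ∈ W ∧ P (f ∣_ W)) :
    ∃ U : Z.Opens, (𝓙.support : Set Z) ⊆ U ∧ P (f ∣_ h ⁻¹ᵁ U) := by
  let E : Set Y := {y | ∃ W : Y.Opens, y ∈ W ∧ P (f ∣_ W)}
  have hE : IsOpen E := by
    rw [isOpen_iff_forall_mem_open]
    rintro y ⟨W, hyW, hW⟩
    exact ⟨W, fun y' hy' => ⟨W, hy', hW⟩, W.isOpen, hyW⟩
  have hcl : IsClosed (h '' Eᶜ) := h.isClosedMap _ hE.isClosed_compl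
  refine ⟨⟨(h '' Eᶜ)ᶜ, hcl.isOpen_compl⟩, ?_, ?_⟩
  · rintro z hz ⟨y, hyE, rfl⟩
    exact hyE (H y hz)
  · apply morphismRestrict_of_forall_exists
    intro y hy
    by_contra hcon
    exact hy ⟨y, hcon, rfl⟩

variable (g : X ⟶ Z) (h : Y ⟶ Z) [IsProper g] [IsProper h] (f : X ⟶ Y) (w : f ≫ h = g)
  (𝓙 : Z.IdealSheafData)

include w in
theorem comap_eq : 𝓙.comap g = (𝓙.comap h).comap f := by
  rw [← w, Scheme.IdealSheafData.comap_comp]

include w in
theorem isProper_of_over : IsProper f := by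
  haveI : IsProper (f ≫ h) := by rw [w]; infer_instance
  exact IsProper.of_comp f h

/-- points over `V(𝓙)` are in the range of the level zero immersion. -/
theorem exists_eq_subschemeι (y : Y) (hy : h y ∈ (𝓙.support : Set Z)) :
    ∃ y₀ : ((𝓙.comap h) ^ (0 + 1)).subscheme, ((𝓙.comap h) ^ (0 + 1)).subschemeι y₀ = y := by
  have h1 : y ∈ Set.range ((𝓙.comap h) ^ (0 + 1)).subschemeι := by
    rw [Scheme.IdealSheafData.range_subschemeι, Scheme.IdealSheafData.support_pow_succ,
      Scheme.IdealSheafData.support_comap]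
    exact hy
  exact h1

include w in
/-- level zero a closed immersion ⟹ closed immersion near the closed set. -/
theorem exists_isClosedImmersion_nhd (hc : FSch.PowCompat f (𝓙.comap g) (𝓙.comap h))
    (h0 : IsClosedImmersion
      ((FSch.completionMap f (𝓙.comap g) (𝓙.comap h) hc : FSch.Hom _ _).app 0)) (y : Y)
    (hy : h y ∈ (𝓙.support : Set Z)) : ∃ W : Y.Opens, y ∈ W ∧ IsClosedImmersion (f ∣_ W) := by
  haveI := isProper_of_over g h f w
  haveI := h0
  obtain ⟨y₀, rfl⟩ := exists_eq_subschemeι h 𝓙 y hy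
  have sq := isPullback_level f (𝓙.comap g) (𝓙.comap h) (comap_eq g h f w 𝓙) hc 0
  have hcond := fiber_cond_of_isPullback sq y₀
    (@Groth.Agent.H1.ClImmNear.isEmpty_or_isIso_of_isClosedImmersion _ _ _ h0 y₀)
  refine (Groth.Agent.H1.ClImmNear.exists_isClosedImmersion_iff f _).mpr ⟨hcond, ⊤, trivial, ?_⟩
  exact IsZariskiLocalAtTarget.restrict (P := @UniversallyClosed) inferInstance _

include w in
theorem closedImmersion_forward (hc : FSch.PowCompat f (𝓙.comap g) (𝓙.comap h))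
    (h0 : IsClosedImmersion
      ((FSch.completionMap f (𝓙.comap g) (𝓙.comap h) hc : FSch.Hom _ _).app 0)) :
    ∃ U : Z.Opens, (𝓙.support : Set Z) ⊆ U ∧ IsClosedImmersion (f ∣_ h ⁻¹ᵁ U) :=
  exists_open_of_forall_mem_support (P := @IsClosedImmersion) f h 𝓙
    (exists_isClosedImmersion_nhd g h f w 𝓙 hc h0)

include w in
/-- the backward direction, for any property stable under base change. -/
theorem level_of_nhd {P : MorphismProperty Scheme.{u}} [P.IsStableUnderBaseChange]
    (hc : FSch.PowCompat f (𝓙.comap g) (𝓙.comap h)) (U : Z.Opens)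
    (hU : (𝓙.support : Set Z) ⊆ U) (hP : P (f ∣_ h ⁻¹ᵁ U)) (n : ℕ) :
    P ((FSch.completionMap f (𝓙.comap g) (𝓙.comap h) hc : FSch.Hom _ _).app n) := by
  have sq := isPullback_level f (𝓙.comap g) (𝓙.comap h) (comap_eq g h f w 𝓙) hc n
  have hr : Set.range ((𝓙.comap h) ^ (n + 1)).subschemeι ⊆ (h ⁻¹ᵁ U : Y.Opens) := by
    rw [Scheme.IdealSheafData.range_subschemeι, Scheme.IdealSheafData.support_pow_succ,
      Scheme.IdealSheafData.support_comap]
    intro y hy
    exact hU hy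
  have key := of_isPullback_of_range_subset sq (h ⁻¹ᵁ U) hr hP
  exact key

end Groth.Agent.H2.FComplNear
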