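import Mathlib
import Groth.Agent.Lib.Helper2.FComplNear2

/-! # Completed morphisms of proper schemes: isomorphisms near the closed set. -/

set_option autoImplicit false
universe u
open CategoryTheory CategoryTheory.Limits AlgebraicGeometry

namespace Groth.Agent.H2.FComplNear

/-- Krull: an ideal contained in all powers of `I` is killed by some `1 - r`, `r ∈ I`. -/
theorem exists_mem_one_sub_mul_eq_zero {B : Type*} [CommRing B] [IsNoetherianRing B]
    (I K : Ideal B) (hK : ∀ n : ℕ, K ≤ I ^ n) :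
    ∃ r ∈ I, ∀ x ∈ K, (1 - r) * x = 0 := by
  classical
  have h1 : ∀ x ∈ K, ∃ r ∈ I, (1 - r) * x = 0 := by
    intro x hx
    have hx' : x ∈ (⨅ i : ℕ, I ^ i • ⊤ : Submodule B B) := by
      rw [Submodule.mem_iInf]
      intro i
      have := hK i hx
      simpa using this
    obtain ⟨r, hr⟩ := (Ideal.mem_iInf_smul_pow_eq_bot_iff I x).mp hx'
    refine ⟨r.1, r.2, ?_⟩
    rw [sub_mul, one_mul, sub_eq_zero]
    exact hr.symm
  obtain ⟨S, hS⟩ := (IsNoetherian.noetherian K : K.FG)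
  have h2 : ∀ T : Finset B, (∀ x ∈ T, x ∈ K) → ∃ r ∈ I, ∀ x ∈ T, (1 - r) * x = 0 := by
    intro T
    induction T using Finset.induction_on with
    | empty => exact fun _ => ⟨0, I.zero_mem, by simp⟩
    | insert a T _ ih =>
      intro hT
      obtain ⟨r, hr, hrT⟩ := ih (fun x hx => hT x (Finset.mem_insert_of_mem hx))
      obtain ⟨r', hr', hra⟩ := h1 a (hT a (Finset.mem_insert_self _ _))
      refine ⟨r + r' - r * r', I.sub_mem (I.add_mem hr hr') (I.mul_mem_left _ hr'), ?_⟩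
      intro x hx
      have e : (1 - (r + r' - r * r')) = (1 - r) * (1 - r') := by ring
      rw [e]
      rcases Finset.mem_insert.mp hx with rfl | hx
      · rw [mul_assoc, hra, mul_zero]
      · rw [mul_comm (1 - r), mul_assoc, hrT x hx, mul_zero]
  obtain ⟨r, hr, hrS⟩ := h2 S (fun x hx => hS ▸ Ideal.subset_span hx)
  refine ⟨r, hr, ?_⟩
  intro x hx
  rw [← hS] at hx
  induction hx using Submodule.span_induction with
  | mem x hx => exact hrS x hx
  | zero => simp
  | add x y _ _ hx hy => rw [mul_add, hx, hy, add_zero]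
  | smul a x _ hx => rw [smul_eq_mul, mul_left_comm, hx, mul_zero]

/-- a closed immersion near `y` whose kernel lies in all powers of an ideal sheaf vanishing at `y`
is an isomorphism near `y` (locally Noetherian target). -/
theorem exists_isIso_nhd_of_ker_le {X Y : Scheme.{u}} [IsLocallyNoetherian Y] (f : X ⟶ Y)
    [QuasiCompact f] (𝓘 : Y.IdealSheafData) (hK : ∀ n : ℕ, f.ker ≤ 𝓘 ^ n) (y : Y)
    (hy : y ∈ 𝓘.support) (W₁ : Y.Opens) (hyW : y ∈ W₁) (hW₁ : IsClosedImmersion (f ∣_ W₁)) :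
    ∃ W : Y.Opens, y ∈ W ∧ IsIso (f ∣_ W) := by
  obtain ⟨V, hV, hyV, hVW⟩ : ∃ V : Y.Opens, IsAffineOpen V ∧ y ∈ V ∧ V ≤ W₁ := by
    obtain ⟨_, ⟨V, hV, rfl⟩, hyV, hVW⟩ :=
      Y.isBasis_affineOpens.exists_subset_of_mem_open hyW W₁.2
    exact ⟨V, hV, hyV, hVW⟩
  let Va : Y.affineOpens := ⟨V, hV⟩
  haveI : IsNoetherianRing Γ(Y, V) := IsLocallyNoetherian.component_noetherian Va
  obtain ⟨r, hr, hrK⟩ := exists_mem_one_sub_mul_eq_zero (𝓘.ideal Va) (f.ker.ideal Va) (fun n => by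
    have := hK n Va
    simpa using this)
  have hyr : y ∉ Y.basicOpen r := by
    have := (Scheme.IdealSheafData.mem_support_iff_of_mem (U := Va) hyV).mp hy
    rw [Scheme.mem_zeroLocus_iff] at this
    exact this r hr
  have hys : y ∈ Y.basicOpen (1 - r) := by
    have h1 : y ∈ Y.basicOpen (1 - r + r) := by
      rw [sub_add_cancel, Scheme.basicOpen_one]
      exact hyV
    rcases Y.basicOpen_add_le _ _ h1 with h | h
    · exact h
    · exact absurd h hyr
  refine ⟨Y.basicOpen (1 - r), hys, ?_⟩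
  have hle : Y.basicOpen (1 - r) ≤ W₁ := (Y.basicOpen_le _).trans hVW
  haveI : IsClosedImmersion (f ∣_ Y.basicOpen (1 - r)) :=
    Groth.Agent.H1.PushO.morphismRestrict_of_le (P := @IsClosedImmersion) f hle hW₁
  rw [IsClosedImmersion.isIso_iff_ker_eq_bot]
  have hD : IsAffineOpen (Y.basicOpen (1 - r)) := hV.basicOpen _
  haveI : IsAffine (Y.basicOpen (1 - r)).toScheme := hD
  apply Scheme.IdealSheafData.ext_of_isAffine
  have key : ∀ W : Y.affineOpens, W.1 ≤ Y.basicOpen (1 - r) → f.ker.ideal W = ⊥ := by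
    intro W hW
    have hWV' : W ≤ Va := hW.trans (Y.basicOpen_le _)
    have hWV : W.1 ≤ V := hWV'
    rw [← Scheme.IdealSheafData.map_ideal _ hWV', Ideal.map_eq_bot_iff_le_ker]
    intro x hx
    rw [RingHom.mem_ker]
    have hu := Y.toRingedSpace.isUnit_res_basicOpen (U := V) (1 - r)
    have hu' : IsUnit ((Y.presheaf.map (homOfLE hWV).op).hom (1 - r)) := by
      have e : Y.presheaf.map (homOfLE hWV).op =
          Y.presheaf.map (homOfLE (Y.basicOpen_le (1 - r))).op ≫
            Y.presheaf.map (homOfLE hW).op := by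
        rw [← Functor.map_comp]
        rfl
      rw [e]
      exact hu.map (Y.presheaf.map (homOfLE hW).op).hom
    have h0 := congrArg (Y.presheaf.map (homOfLE hWV).op).hom (hrK x hx)
    rw [map_mul, map_zero] at h0
    exact (hu'.mul_right_eq_zero).mp h0
  have h1 := key ⟨(Y.basicOpen (1 - r)).ι ''ᵁ ((⟨⊤, isAffineOpen_top _⟩ :
      (Y.basicOpen (1 - r)).toScheme.affineOpens) : (Y.basicOpen (1 - r)).toScheme.Opens),
      (isAffineOpen_top _).image_of_isOpenImmersion _⟩ (by simp)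
  rw [Scheme.ker_morphismRestrict_ideal]
  exact h1

variable {X Y Z : Scheme.{u}} [IsLocallyNoetherian Z]
  (g : X ⟶ Z) (h : Y ⟶ Z) [IsProper g] [IsProper h] (f : X ⟶ Y) (w : f ≫ h = g)
  (𝓙 : Z.IdealSheafData)

/-- if the level `n` map is an isomorphism, the kernel of `f` lies in the `n+1`-st power. -/
theorem ker_le_pow_of_isIso_level (f : X ⟶ Y) (𝓘 : X.IdealSheafData) (𝓚 : Y.IdealSheafData)
    (hI : 𝓘 = 𝓚.comap f) (hc : FSch.PowCompat f 𝓘 𝓚) (n : ℕ)
    (hn : IsIso ((FSch.completionMap f 𝓘 𝓚 hc : FSch.Hom _ _).app n)) :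
    f.ker ≤ 𝓚 ^ (n + 1) := by
  have sq := isPullback_level f 𝓘 𝓚 hI hc n
  calc f.ker ≤ ((𝓘 ^ (n + 1)).subschemeι ≫ f).ker := Scheme.Hom.le_ker_comp _ _
    _ = (((FSch.completionMap f 𝓘 𝓚 hc : FSch.Hom _ _).app n) ≫
          (𝓚 ^ (n + 1)).subschemeι).ker := congrArg Scheme.Hom.ker sq.w
    _ = ((𝓚 ^ (n + 1)).subschemeι).ker := Scheme.Hom.ker_comp_of_isIso _ _
    _ = 𝓚 ^ (n + 1) := Scheme.IdealSheafData.ker_subschemeι _

include w in
theorem isIso_forward (hc : FSch.PowCompat f (𝓙.comap g) (𝓙.comap h))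
    (H : ∀ n : ℕ, IsIso ((FSch.completionMap f (𝓙.comap g) (𝓙.comap h) hc : FSch.Hom _ _).app n)) :
    ∃ U : Z.Opens, (𝓙.support : Set Z) ⊆ U ∧ IsIso (f ∣_ h ⁻¹ᵁ U) := by
  haveI := isProper_of_over g h f w
  haveI : IsLocallyNoetherian Y := LocallyOfFiniteType.isLocallyNoetherian h
  have hK : ∀ n : ℕ, f.ker ≤ (𝓙.comap h) ^ n := by
    intro n
    cases n with
    | zero => rw [pow_zero, Scheme.IdealSheafData.one_eq_top]; exact le_top
    | succ n => exact ker_le_pow_of_isIso_level f _ _ (comap_eq g h f w 𝓙) hc n (H n)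
  have key := exists_open_of_forall_mem_support (P := MorphismProperty.isomorphisms Scheme.{u})
    f h 𝓙 (fun y hy => by
      haveI := H 0
      obtain ⟨W₁, hyW₁, hW₁⟩ := exists_isClosedImmersion_nhd g h f w 𝓙 hc inferInstance y hy
      have hy' : y ∈ (𝓙.comap h).support := by
        rw [← SetLike.mem_coe, Scheme.IdealSheafData.support_comap]
        exact hy
      obtain ⟨W, hyW, hW⟩ := exists_isIso_nhd_of_ker_le f (𝓙.comap h) hK y hy' W₁ hyW₁ hW₁
      exact ⟨W, hyW, hW⟩)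
  exact key

end Groth.Agent.H2.FComplNear
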