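import Mathlib
import Groth.Prelude.Def_FSch3

/-! # Morphisms from a quasi-compact scheme landing in `V(J)` factor through some `V(J^(n+1))`. -/

set_option autoImplicit false
universe u
open CategoryTheory CategoryTheory.Limits AlgebraicGeometry

namespace Groth.Agent.H2.FComplPts

variable {Y T : Scheme.{u}} (J : Y.IdealSheafData) (f : T ⟶ Y)

/-- sections of `J` pull back to nilpotent sections. -/
theorem isNilpotent_app [QuasiCompact f] (h : ∀ t : T, f t ∈ (J.support : Set Y)) (U : Y.affineOpens)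
    (a : Γ(Y, U.1)) (ha : a ∈ J.ideal U) : IsNilpotent ((f.app U.1).hom a) := by
  have hc : IsCompact ((f ⁻¹ᵁ U.1 : T.Opens) : Set T) :=
    QuasiCompact.isCompact_preimage (f := f) _ U.1.2 U.2.isCompact
  rw [Scheme.isNilpotent_iff_basicOpen_eq_bot_of_isCompact hc, ← Scheme.preimage_basicOpen]
  ext t
  simp only [TopologicalSpace.Opens.coe_bot, Set.mem_empty_iff_false, iff_false]
  intro ht
  have htU : f t ∈ U.1 := Y.basicOpen_le a ht
  have h1 := (Scheme.IdealSheafData.mem_support_iff_of_mem (I := J) (U := U) htU).mp (h t)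
  rw [Scheme.mem_zeroLocus_iff] at h1
  exact h1 a ha ht

theorem exists_pow_le_ker [QuasiCompact f] (hJ : FSch.IdealFT J)
    (h : ∀ t : T, f t ∈ (J.support : Set Y)) (U : Y.affineOpens) :
    ∃ N : ℕ, (J.ideal U) ^ N ≤ RingHom.ker (f.app U.1).hom := by
  have hfg : ((J.ideal U).map (f.app U.1).hom).FG := (hJ U).map _
  have hle : (J.ideal U).map (f.app U.1).hom ≤ nilradical _ := by
    rw [Ideal.map_le_iff_le_comap]
    intro a ha
    exact isNilpotent_app J f h U a ha
  obtain ⟨N, hN⟩ := (Ideal.FG.isNilpotent_iff_le_nilradical hfg).mpr hle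
  refine ⟨N, fun x hx => ?_⟩
  have : (f.app U.1).hom x ∈ ((J.ideal U).map (f.app U.1).hom) ^ N := by
    rw [← Ideal.map_pow]
    exact Ideal.mem_map_of_mem _ hx
  rw [hN] at this
  exact this

theorem exists_pow_le_ker_hom [CompactSpace Y] [QuasiCompact f] (hJ : FSch.IdealFT J)
    (h : ∀ t : T, f t ∈ (J.support : Set Y)) : ∃ n : ℕ, J ^ (n + 1) ≤ f.ker := by
  classical
  let 𝒰 := Y.affineCover.finiteSubcover
  haveI : Finite 𝒰.I₀ := inferInstance
  haveI : Fintype 𝒰.I₀ := Fintype.ofFinite _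
  let V : 𝒰.I₀ → Y.affineOpens := fun i =>
    ⟨(𝒰.f i).opensRange, isAffineOpen_opensRange (𝒰.f i)⟩
  have hV : ⨆ i, (V i).1 = ⊤ := 𝒰.iSup_opensRange
  choose N hN using fun i => exists_pow_le_ker J f hJ h (V i)
  refine ⟨Finset.univ.sup N, ?_⟩
  refine Scheme.IdealSheafData.le_of_iSup_eq_top V hV fun i => ?_
  rw [Scheme.IdealSheafData.ideal_pow, Scheme.Hom.ker_apply]
  refine le_trans (Ideal.pow_le_pow_right ?_) (hN i)
  exact (Finset.le_sup (Finset.mem_univ i)).trans (Nat.le_succ _)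

theorem main [CompactSpace Y] [QuasiSeparatedSpace Y] (hJ : FSch.IdealFT J) [CompactSpace T]
    (h : ∀ t : T, f t ∈ (J.support : Set Y)) :
    ∃ (n : ℕ) (g : T ⟶ (J ^ (n + 1)).subscheme), g ≫ (J ^ (n + 1)).subschemeι = f := by
  obtain ⟨n, hn⟩ := exists_pow_le_ker_hom J f hJ h
  refine ⟨n, IsClosedImmersion.lift (J ^ (n + 1)).subschemeι f ?_, IsClosedImmersion.lift_fac _ _ _⟩
  rw [Scheme.IdealSheafData.ker_subschemeι]
  exact hn

end Groth.Agent.H2.FComplPts
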