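import Mathlib
import Groth.Agent.Lib.Helper2.LocConstAbA

set_option autoImplicit false
set_option linter.style.haveILetI false
set_option linter.unusedSectionVars false
universe u
open CategoryTheory CategoryTheory.Limits Opposite TopologicalSpace

namespace Groth.Agent.H2.LCPair

open Groth.Agent.H2.LCModel Groth.Agent.H2.LocConstAb

variable {C : Type (u + 1)} [Category.{u} C] {J : GrothendieckTopology C} (R : TopReal J)
  {n : ℕ} (M : Fin n → Type) [∀ k, AddCommGroup (M k)]
  {Q : Cᵒᵖ ⥤ AddCommGrpCat.{u + 1}}
  (Ψ : ∀ k, Q ⟶ lcAbPre R (AddCommGrpCat.of (ULift.{u + 1} (M k))))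

/-- Evaluate the `k`-th transformation on a section, as a locally constant function. -/
noncomputable def comp (k : Fin n) (V : C) (s : Q.obj (op V)) :
    LocallyConstant (R.pt V) (ULift.{u + 1} (M k)) :=
  ((Ψ k).app (op V)).hom s

lemma comp_add (k : Fin n) (V : C) (s t : Q.obj (op V)) :
    comp R M Ψ k V (s + t) = comp R M Ψ k V s + comp R M Ψ k V t :=
  map_add ((Ψ k).app (op V)).hom s t

lemma comp_zero (k : Fin n) (V : C) : comp R M Ψ k V 0 = 0 :=
  map_zero ((Ψ k).app (op V)).hom

lemma comp_map (k : Fin n) {V W : C} (g : V ⟶ W) (s : Q.obj (op W)) (v : R.pt V) :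
    comp R M Ψ k V ((Q.map g.op).hom s) v = comp R M Ψ k W s (R.map g v) := by
  have h := (Ψ k).naturality g.op
  have h2 := ConcreteCategory.congr_hom h s
  exact congrArg (fun (l : LocallyConstant (R.pt V) (ULift.{u + 1} (M k))) => l v) h2

/-- The tuple of values, as a locally constant function into the product. -/
noncomputable def pairFun (V : C) (s : Q.obj (op V)) :
    LocallyConstant (R.pt V) (ULift.{u + 1} (∀ k, M k)) where
  toFun v := ULift.up (fun k => (comp R M Ψ k V s v).down)
  isLocallyConstant := by
    rw [IsLocallyConstant.iff_exists_open]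
    intro v
    refine ⟨⋂ k : Fin n, (comp R M Ψ k V s) ⁻¹' {comp R M Ψ k V s v}, ?_, ?_, ?_⟩
    · exact isOpen_iInter_of_finite
        (fun k => (comp R M Ψ k V s).isLocallyConstant.isOpen_fiber _)
    · exact Set.mem_iInter.2 (fun k => rfl)
    · intro v' hv'
      apply congrArg ULift.up
      funext k
      have := Set.mem_iInter.1 hv' k
      exact congrArg ULift.down this

lemma pairFun_apply (V : C) (s : Q.obj (op V)) (v : R.pt V) (k : Fin n) :
    (pairFun R M Ψ V s v).down k = (comp R M Ψ k V s v).down := rfl

/-- The pairing of finitely many transformations into presheaves of locally constant functions. -/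
noncomputable def pair : Q ⟶ lcAbPre R (AddCommGrpCat.of (ULift.{u + 1} (∀ k, M k))) where
  app V := AddCommGrpCat.ofHom
    { toFun := fun s => pairFun R M Ψ V.unop s
      map_zero' := by
        refine LocallyConstant.ext (fun v => ?_)
        apply ULift.ext
        funext k
        rw [pairFun_apply, comp_zero]
        rfl
      map_add' := fun s t => by
        refine LocallyConstant.ext (fun v => ?_)
        apply ULift.ext
        funext k
        rw [pairFun_apply, comp_add]
        rfl }
  naturality := by
    intro V W g
    ext s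
    refine LocallyConstant.ext (fun v => ?_)
    apply ULift.ext
    funext k
    exact congrArg ULift.down (comp_map R M Ψ k g.unop s v)

lemma pair_apply (V : C) (s : Q.obj (op V)) :
    ((pair R M Ψ).app (op V)).hom s = pairFun R M Ψ V s := rfl

/-- The pairing is an isomorphism if the transformations are jointly injective and jointly
surjective. -/
theorem isIso_pair
    (hinj : ∀ (V : C) (s t : Q.obj (op V)),
      (∀ k, comp R M Ψ k V s = comp R M Ψ k V t) → s = t)
    (hsurj : ∀ (V : C) (ψ : ∀ k, LocallyConstant (R.pt V) (ULift.{u + 1} (M k))),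
      ∃ s : Q.obj (op V), ∀ k, comp R M Ψ k V s = ψ k) :
    IsIso (pair R M Ψ) := by
  haveI : ∀ V, IsIso ((pair R M Ψ).app V) := by
    intro V
    rw [ConcreteCategory.isIso_iff_bijective]
    constructor
    · intro s t hst
      apply hinj V.unop
      intro k
      refine LocallyConstant.ext (fun v => ?_)
      apply ULift.ext
      have h1 : pairFun R M Ψ V.unop s v = pairFun R M Ψ V.unop t v :=
        congrArg (fun (l : LocallyConstant (R.pt V.unop) (ULift.{u + 1} (∀ k, M k))) => l v) hst
      exact congrFun (congrArg ULift.down h1) k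
    · intro ψ
      let ψ' : LocallyConstant (R.pt V.unop) (ULift.{u + 1} (∀ k, M k)) := ψ
      obtain ⟨s, hs⟩ := hsurj V.unop
        (fun k => ψ'.map (fun a => ULift.up (a.down k)))
      refine ⟨s, ?_⟩
      change pairFun R M Ψ V.unop s = ψ'
      refine LocallyConstant.ext (fun v => ?_)
      apply ULift.ext
      funext k
      rw [pairFun_apply, hs k]
      rfl
  exact NatIso.isIso_of_isIso_app _

end Groth.Agent.H2.LCPair
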