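import Mathlib
import Groth.Prelude.Def_EtBase
import Groth.Agent.Lib.Helper2.FEtPushA
import Groth.Agent.Lib.Helper2.DisjCovA
import Groth.Agent.Lib.Helper2.LCPairA
import Groth.Agent.Lib.Helper2.LCModelE

set_option autoImplicit false
set_option linter.style.haveILetI false
set_option linter.unusedVariables false
set_option linter.unusedSectionVars false
universe u
open CategoryTheory CategoryTheory.Limits AlgebraicGeometry MorphismProperty TopologicalSpace Opposite

namespace Groth.Agent.H2.FEtPush

open Groth.Agent.H2.LCModel Groth.Agent.H2.LocConstAb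

variable {X Y : Scheme.{u}} (f : X ⟶ Y) [Etale f] (F : EtCoh.Ab X) (W : Y.Etale)

/-- The presheaf underlying the direct image. -/
noncomputable abbrev pushPre : Y.Etaleᵒᵖ ⥤ AddCommGrpCat.{u + 1} := (EtCoh.bc f).op ⋙ F.obj

/-- The morphism between lifts induced by a morphism of étale `Y`-schemes (general form). -/
noncomputable def secHom {W T : Y.Etale} (h : T ⟶ W) (σ : W.left ⟶ X) (hσ : σ ≫ f = W.hom)
    (τ : T.left ⟶ X) (hτ : τ ≫ f = T.hom) (hh : h.left ≫ σ = τ) :
    secObj f T τ hτ ⟶ secObj f W σ hσ :=
  MorphismProperty.Over.homMk h.left hh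

lemma tmap_naturality' {W T : Y.Etale} (h : T ⟶ W) (σ : W.left ⟶ X) (hσ : σ ≫ f = W.hom)
    (τ : T.left ⟶ X) (hτ : τ ≫ f = T.hom) (hh : h.left ≫ σ = τ) :
    tmap f T τ hτ ≫ (EtCoh.bc f).map h = secHom f h σ hσ τ hτ hh ≫ tmap f W σ hσ := by
  subst hh
  exact tmap_naturality f h σ hσ

section one

variable (σ : W.left ⟶ X) (hσ : σ ≫ f = W.hom)

include hσ in
lemma over_lift (T : Over W) : (T.hom.left ≫ σ) ≫ f = T.left.hom := comp_lift f T.hom σ hσ

/-- The object of the slice over the lift defined by an object of the slice over `W`. -/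
noncomputable def ovObj (T : Over W) : Over (secObj f W σ hσ) :=
  Over.mk (secMap f T.hom σ hσ)

lemma over_w_left {T T' : Over W} (g : T ⟶ T') : g.left.left ≫ T'.hom.left = T.hom.left := by
  have := Over.w g
  exact congrArg (fun m => m.left) this

/-- Functoriality of `ovObj`. -/
noncomputable def ovMap {T T' : Over W} (g : T ⟶ T') : ovObj f W σ hσ T ⟶ ovObj f W σ hσ T' :=
  Over.homMk (secHom f g.left (T'.hom.left ≫ σ) (over_lift f W σ hσ T') (T.hom.left ≫ σ)
    (over_lift f W σ hσ T) (by
      refine (Category.assoc _ _ _).symm.trans ?_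
      exact congrArg (fun m => m ≫ σ) (over_w_left W g))) (by
    apply MorphismProperty.Over.Hom.ext
    exact over_w_left W g)

variable (M : AddCommGrpCat.{u + 1}) (e : Triv (etReal X) F.obj (secObj f W σ hσ) M)

/-- Restrict a section of the direct image to a sheet and trivialize. -/
noncomputable def psiApp (T : Over W) :
    (overPre (pushPre f F) W).obj (op T) ⟶ (lcAbPre ((etReal Y).over W) M).obj (op T) :=
  F.obj.map (tmap f T.left (T.hom.left ≫ σ) (over_lift f W σ hσ T)).op ≫
    e.hom.app (op (ovObj f W σ hσ T))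

lemma psiApp_naturality {T T' : Over W} (g : T ⟶ T') :
    (overPre (pushPre f F) W).map g.op ≫ psiApp f F W σ hσ M e T =
      psiApp f F W σ hσ M e T' ≫ (lcAbPre ((etReal Y).over W) M).map g.op := by
  have h1 : tmap f T.left (T.hom.left ≫ σ) (over_lift f W σ hσ T) ≫ (EtCoh.bc f).map g.left =
      (ovMap f W σ hσ g).left ≫ tmap f T'.left (T'.hom.left ≫ σ) (over_lift f W σ hσ T') :=
    tmap_naturality' f g.left _ _ _ _ _
  have h2 := e.hom.naturality (ovMap f W σ hσ g).op
  have e1 : F.obj.map ((EtCoh.bc f).map g.left).op ≫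
      F.obj.map (tmap f T.left (T.hom.left ≫ σ) (over_lift f W σ hσ T)).op =
      F.obj.map (tmap f T'.left (T'.hom.left ≫ σ) (over_lift f W σ hσ T')).op ≫
        F.obj.map (ovMap f W σ hσ g).left.op := by
    refine (F.obj.map_comp _ _).symm.trans ?_
    refine Eq.trans ?_ (F.obj.map_comp _ _)
    exact congrArg (fun m => F.obj.map m.op) h1
  change (F.obj.map ((EtCoh.bc f).map g.left).op ≫
    F.obj.map (tmap f T.left (T.hom.left ≫ σ) (over_lift f W σ hσ T)).op ≫
      e.hom.app (op (ovObj f W σ hσ T))) = _
  refine (Category.assoc _ _ _).symm.trans ?_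
  refine (congrArg (fun m => m ≫ e.hom.app (op (ovObj f W σ hσ T))) e1).trans ?_
  refine (Category.assoc _ _ _).trans ?_
  refine (congrArg (fun m => F.obj.map (tmap f T'.left (T'.hom.left ≫ σ)
    (over_lift f W σ hσ T')).op ≫ m) h2).trans ?_
  exact (Category.assoc _ _ _).symm

/-- Restriction to a sheet followed by the trivialization, as a transformation of presheaves
on the slice over `W`. -/
noncomputable def psi : overPre (pushPre f F) W ⟶ lcAbPre ((etReal Y).over W) M where
  app T := psiApp f F W σ hσ M e T.unop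
  naturality := by
    intro T T' g
    exact psiApp_naturality f F W σ hσ M e g.unop

end one

end Groth.Agent.H2.FEtPush
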