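import Mathlib
import Groth.Prelude.Def_EtBase
import Groth.Agent.Lib.Helper2.FEtPushB

set_option autoImplicit false
set_option linter.style.haveILetI false
set_option linter.unusedVariables false
set_option linter.unusedSectionVars false
universe u
open CategoryTheory CategoryTheory.Limits AlgebraicGeometry MorphismProperty TopologicalSpace Opposite

namespace Groth.Agent.H2.FEtPush

open Groth.Agent.H2.LCModel Groth.Agent.H2.LocConstAb Groth.Agent.H2.LCPair

variable {X Y : Scheme.{u}} (f : X ⟶ Y) [Etale f] (F : EtCoh.Ab X) (W : Y.Etale)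
  {n : ℕ} (σ : Fin n → (W.left ⟶ X)) (hσ : ∀ k, σ k ≫ f = W.hom)

section cover

variable (hcov : ∀ z : ((EtCoh.bc f).obj W).left, ∃ k w, tmapLeft f W (σ k) (hσ k) w = z)
  (hdisj : ∀ i j, i ≠ j → Disjoint (Set.range (tmapLeft f W (σ i) (hσ i)))
    (Set.range (tmapLeft f W (σ j) (hσ j))))

include hcov in
lemma hcov_over (T : Over W) (z : ((EtCoh.bc f).obj T.left).left) :
    ∃ k w, tmapLeft f T.left (T.hom.left ≫ σ k) (over_lift f W (σ k) (hσ k) T) w = z := by
  obtain ⟨k, w, hw⟩ := hcov (((EtCoh.bc f).map T.hom).left z)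
  have hz : z ∈ Set.range (tmapLeft f T.left (T.hom.left ≫ σ k)
      (over_lift f W (σ k) (hσ k) T)) := by
    rw [range_tmapLeft f T.hom (σ k) (hσ k)]
    exact ⟨w, hw⟩
  obtain ⟨w', hw'⟩ := hz
  exact ⟨k, w', hw'⟩

include hdisj in
lemma hdisj_over (T : Over W) (i j : Fin n) (hij : i ≠ j) :
    Disjoint (Set.range (tmapLeft f T.left (T.hom.left ≫ σ i) (over_lift f W (σ i) (hσ i) T)))
      (Set.range (tmapLeft f T.left (T.hom.left ≫ σ j) (over_lift f W (σ j) (hσ j) T))) := by
  rw [range_tmapLeft f T.hom (σ i) (hσ i), range_tmapLeft f T.hom (σ j) (hσ j)]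
  exact Disjoint.preimage _ (hdisj i j hij)

end cover

variable (M : Fin n → Type) [∀ k, AddCommGroup (M k)]
  (e : ∀ k, Triv (etReal X) F.obj (secObj f W (σ k) (hσ k))
    (AddCommGrpCat.of (ULift.{u + 1} (M k))))

/-- The family of transformations, one for each sheet. -/
noncomputable def Psi (k : Fin n) : overPre (pushPre f F) W ⟶
    lcAbPre ((etReal Y).over W) (AddCommGrpCat.of (ULift.{u + 1} (M k))) :=
  psi f F W (σ k) (hσ k) _ (e k)

lemma comp_Psi (k : Fin n) (T : Over W) (s : (overPre (pushPre f F) W).obj (op T)) :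
    comp ((etReal Y).over W) M (Psi f F W σ hσ M e) k T s =
      ((e k).hom.app (op (ovObj f W (σ k) (hσ k) T))).hom
        ((F.obj.map (tmap f T.left (T.hom.left ≫ σ k) (over_lift f W (σ k) (hσ k) T)).op).hom s) :=
  rfl

variable (hcov : ∀ z : ((EtCoh.bc f).obj W).left, ∃ k w, tmapLeft f W (σ k) (hσ k) w = z)
  (hdisj : ∀ i j, i ≠ j → Disjoint (Set.range (tmapLeft f W (σ i) (hσ i)))
    (Set.range (tmapLeft f W (σ j) (hσ j))))

lemma isSheaf_forget : Presieve.IsSheaf X.smallEtaleTopology
    (F.obj ⋙ forget AddCommGrpCat.{u + 1}) :=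
  (isSheaf_iff_isSheaf_of_type _ _).1
    ((Presheaf.isSheaf_iff_isSheaf_forget _ F.obj (forget AddCommGrpCat.{u + 1})).1 F.property)

include hcov in
lemma psi_inj (T : Over W) (s t : (overPre (pushPre f F) W).obj (op T))
    (h : ∀ k, comp ((etReal Y).over W) M (Psi f F W σ hσ M e) k T s =
      comp ((etReal Y).over W) M (Psi f F W σ hσ M e) k T t) : s = t := by
  have h' : ∀ k, (F.obj.map (tmap f T.left (T.hom.left ≫ σ k)
      (over_lift f W (σ k) (hσ k) T)).op).hom s =
      (F.obj.map (tmap f T.left (T.hom.left ≫ σ k) (over_lift f W (σ k) (hσ k) T)).op).hom t := by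
    intro k
    have hk := h k
    rw [comp_Psi, comp_Psi] at hk
    exact (ConcreteCategory.bijective_of_isIso
      ((e k).hom.app (op (ovObj f W (σ k) (hσ k) T)))).1 hk
  exact Groth.Agent.H2.DisjCov.ext_of_cover (isSheaf_forget F)
    (fun k => secObj f T.left (T.hom.left ≫ σ k) (over_lift f W (σ k) (hσ k) T))
    (fun k => tmap f T.left (T.hom.left ≫ σ k) (over_lift f W (σ k) (hσ k) T))
    (hcov_over f W σ hσ hcov T) s t h'

include hcov hdisj in
lemma psi_surj (T : Over W)
    (ψ : ∀ k, LocallyConstant (((etReal Y).over W).pt T) (ULift.{u + 1} (M k))) :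
    ∃ s : (overPre (pushPre f F) W).obj (op T),
      ∀ k, comp ((etReal Y).over W) M (Psi f F W σ hσ M e) k T s = ψ k := by
  let x : ∀ k, F.obj.obj (op (secObj f T.left (T.hom.left ≫ σ k)
      (over_lift f W (σ k) (hσ k) T))) :=
    fun k => ((e k).inv.app (op (ovObj f W (σ k) (hσ k) T))).hom (ψ k)
  obtain ⟨y, hy⟩ := Groth.Agent.H2.DisjCov.glue_of_disjoint (isSheaf_forget F)
    (fun k => secObj f T.left (T.hom.left ≫ σ k) (over_lift f W (σ k) (hσ k) T))
    (fun k => tmap f T.left (T.hom.left ≫ σ k) (over_lift f W (σ k) (hσ k) T))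
    (hcov_over f W σ hσ hcov T) (fun k => (SplitMono.mk _ (tmapLeft_fst f T.left (T.hom.left ≫ σ k)
      (over_lift f W (σ k) (hσ k) T))).mono)
    (fun i j hij => hdisj_over f W σ hσ hdisj T i j hij) x
  refine ⟨y, fun k => ?_⟩
  rw [comp_Psi]
  have hyk : (F.obj.map (tmap f T.left (T.hom.left ≫ σ k)
      (over_lift f W (σ k) (hσ k) T)).op).hom y = x k := hy k
  rw [hyk]
  have := ConcreteCategory.congr_hom ((e k).inv_hom_id_app (op (ovObj f W (σ k) (hσ k) T))) (ψ k)
  exact this

/-- **Trivialization of the direct image** over an étale `W` over which the finite étale cover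
splits into sheets along each of which the sheaf is trivialized. -/
noncomputable def trivPush : Triv (etReal Y) (pushPre f F) W
    (AddCommGrpCat.of (ULift.{u + 1} (∀ k, M k))) :=
  haveI := isIso_pair ((etReal Y).over W) M (Psi f F W σ hσ M e)
    (fun T s t h => psi_inj f F W σ hσ M e hcov T s t h)
    (fun T ψ => psi_surj f F W σ hσ M e hcov hdisj T ψ)
  asIso (pair ((etReal Y).over W) M (Psi f F W σ hσ M e))

end Groth.Agent.H2.FEtPush
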