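import Mathlib
import Groth.Prelude.Def_EtBase
import Groth.Agent.Lib.Helper2.FEtPushC
import Groth.Agent.Lib.Helper2.FEtPushE

set_option autoImplicit false
set_option linter.style.haveILetI false
set_option linter.unusedVariables false
set_option linter.unusedSectionVars false
universe u
open CategoryTheory CategoryTheory.Limits AlgebraicGeometry MorphismProperty TopologicalSpace Opposite

namespace Groth.Agent.H2.FEtCnt

open Groth.Agent.H2.FEtPush

variable {X Y : Scheme.{u}} (f : X ⟶ Y) [Etale f]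

/-- A family of sections of the base change of `f` to `V` which splits it completely. -/
structure IsSplit (V : Y.Etale) {n : ℕ} (σ : Fin n → (V.left ⟶ X))
    (hσ : ∀ k, σ k ≫ f = V.hom) : Prop where
  cov : ∀ z : ((EtCoh.bc f).obj V).left, ∃ k w, tmapLeft f V (σ k) (hσ k) w = z
  disj : ∀ i j, i ≠ j → Disjoint (Set.range (tmapLeft f V (σ i) (hσ i)))
    (Set.range (tmapLeft f V (σ j) (hσ j)))

variable {f}

lemma IsSplit.comp {V T : Y.Etale} (h : T ⟶ V) {n : ℕ} {σ : Fin n → (V.left ⟶ X)}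
    {hσ : ∀ k, σ k ≫ f = V.hom} (hs : IsSplit f V σ hσ) :
    IsSplit f T (fun k => h.left ≫ σ k) (fun k => comp_lift f h (σ k) (hσ k)) :=
  ⟨fun z => hcov_over f V σ hσ hs.cov (Over.mk h) z,
    fun i j hij => hdisj_over f V σ hσ hs.disj (Over.mk h) i j hij⟩

/-- The number of sheets through `e` landing in `S`. -/
noncomputable def cnt {V : Y.Etale} {n : ℕ} (σ : Fin n → (V.left ⟶ X)) (S : Set X)
    (e : V.left) : ℕ :=
  Nat.card {k : Fin n // (σ k).base e ∈ S}

lemma cnt_comp {V T : Y.Etale} (h : T ⟶ V) {n : ℕ} (σ : Fin n → (V.left ⟶ X)) (S : Set X)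
    (t : T.left) : cnt (fun k => h.left ≫ σ k) S t = cnt σ S (h.left.base t) := rfl

lemma cnt_le {V : Y.Etale} {n : ℕ} (σ : Fin n → (V.left ⟶ X)) (S : Set X) (e : V.left) :
    cnt σ S e ≤ n := by
  unfold cnt
  calc Nat.card {k : Fin n // (σ k).base e ∈ S} ≤ Nat.card (Fin n) :=
        Nat.card_le_card_of_injective _ Subtype.val_injective
    _ = n := Nat.card_fin n

/-- The count equals the number of points of the fibre of the base change lying over `S`. -/
lemma cnt_eq_card_fibre {V : Y.Etale} {n : ℕ} {σ : Fin n → (V.left ⟶ X)}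
    {hσ : ∀ k, σ k ≫ f = V.hom} (hs : IsSplit f V σ hσ) (S : Set X) (e : V.left) :
    cnt σ S e = Nat.card {z : ((EtCoh.bc f).obj V).left //
      (pullback.fst V.hom f).base z = e ∧ (pullback.snd V.hom f).base z ∈ S} := by
  have hfst : ∀ k (w : V.left), (pullback.fst V.hom f).base (tmapLeft f V (σ k) (hσ k) w) = w := by
    intro k w
    have := congrArg (fun m => m.base w) (tmapLeft_fst f V (σ k) (hσ k))
    exact this
  have hsnd : ∀ k (w : V.left),
      (pullback.snd V.hom f).base (tmapLeft f V (σ k) (hσ k) w) = (σ k).base w := by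
    intro k w
    have := congrArg (fun m => m.base w) (tmapLeft_snd f V (σ k) (hσ k))
    exact this
  let φ : {k : Fin n // (σ k).base e ∈ S} → {z : ((EtCoh.bc f).obj V).left //
      (pullback.fst V.hom f).base z = e ∧ (pullback.snd V.hom f).base z ∈ S} :=
    fun k => ⟨tmapLeft f V (σ k.1) (hσ k.1) e, hfst k.1 e, by rw [hsnd]; exact k.2⟩
  have hφ : Function.Bijective φ := by
    constructor
    · intro k k' hkk'
      by_contra hne
      have hne' : k.1 ≠ k'.1 := fun h => hne (Subtype.ext h)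
      have h1 : tmapLeft f V (σ k.1) (hσ k.1) e = tmapLeft f V (σ k'.1) (hσ k'.1) e :=
        congrArg Subtype.val hkk'
      exact Set.disjoint_left.1 (hs.disj _ _ hne') ⟨e, rfl⟩ ⟨e, h1.symm⟩
    · rintro ⟨z, hz1, hz2⟩
      obtain ⟨k, w, hw⟩ := hs.cov z
      have hwe : w = e := by rw [← hfst k w, hw, hz1]
      subst hwe
      refine ⟨⟨k, ?_⟩, Subtype.ext hw⟩
      rw [← hsnd k w, hw]
      exact hz2
  exact Nat.card_congr (Equiv.ofBijective φ hφ)

/-- **The count is independent of the splitting.** -/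
theorem cnt_eq_of_isSplit {V V' : Y.Etale} {n n' : ℕ} {σ : Fin n → (V.left ⟶ X)}
    {hσ : ∀ k, σ k ≫ f = V.hom} {σ' : Fin n' → (V'.left ⟶ X)}
    {hσ' : ∀ k, σ' k ≫ f = V'.hom} (hs : IsSplit f V σ hσ) (hs' : IsSplit f V' σ' hσ')
    (S : Set X) (e : V.left) (e' : V'.left) (he : V.hom.base e = V'.hom.base e') :
    cnt σ S e = cnt σ' S e' := by
  haveI : Etale V.hom := V.prop
  haveI : Etale V'.hom := V'.prop
  let T : Y.Etale := MorphismProperty.Over.mk ⊤ (pullback.fst V.hom V'.hom ≫ V.hom) inferInstance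
  let h : T ⟶ V := MorphismProperty.Over.homMk (pullback.fst V.hom V'.hom) rfl
  let h' : T ⟶ V' := MorphismProperty.Over.homMk (pullback.snd V.hom V'.hom)
    pullback.condition.symm
  obtain ⟨t, ht, ht'⟩ := Scheme.Pullback.exists_preimage_pullback (f := V.hom) (g := V'.hom) e e' he
  have h1 : cnt σ S e = cnt (fun k => h.left ≫ σ k) S t := by
    rw [cnt_comp]
    change _ = cnt σ S ((pullback.fst V.hom V'.hom).base t)
    rw [ht]
  have h2 : cnt σ' S e' = cnt (fun k => h'.left ≫ σ' k) S t := by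
    rw [cnt_comp]
    change _ = cnt σ' S ((pullback.snd V.hom V'.hom).base t)
    rw [ht']
  rw [h1, h2, cnt_eq_card_fibre (hs.comp h) S t, cnt_eq_card_fibre (hs'.comp h') S t]

end Groth.Agent.H2.FEtCnt
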