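import Mathlib
import Groth.Prelude.Def_EtBase
import Groth.Agent.Lib.Helper2.FEtCntA

set_option autoImplicit false
set_option linter.style.haveILetI false
set_option linter.unusedVariables false
set_option linter.unusedSectionVars false
universe u
open CategoryTheory CategoryTheory.Limits AlgebraicGeometry MorphismProperty TopologicalSpace Opposite

namespace Groth.Agent.H2.FEtCnt

open Groth.Agent.H2.FEtPush

variable {X Y : Scheme.{u}} (f : X ⟶ Y) [IsFinite f] [Etale f]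

/-- Splitting data at a point. -/
structure SplitData (y : Y) where
  V : Y.Etale
  v : V.left
  n : ℕ
  σ : Fin n → (V.left ⟶ X)
  hσ : ∀ k, σ k ≫ f = V.hom
  hv : V.hom.base v = y
  hs : IsSplit f V σ hσ

lemma nonempty_splitData (y : Y) : Nonempty (SplitData f y) := by
  obtain ⟨V, v, n, σ, hσ, hv, hcov, hdisj⟩ := exists_split f y
  exact ⟨⟨V, v, n, σ, hσ, hv, ⟨hcov, hdisj⟩⟩⟩

/-- Splitting data with affine source. -/
lemma exists_affine_splitData (y : Y) : ∃ D : SplitData f y, IsAffine D.V.left := by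
  obtain ⟨D⟩ := nonempty_splitData f y
  obtain ⟨E, hE, hvE, -⟩ := exists_isAffineOpen_mem_and_subset (x := D.v)
    (U := (⊤ : D.V.left.Opens)) trivial
  haveI : Etale D.V.hom := D.V.prop
  let V' : Y.Etale := MorphismProperty.Over.mk ⊤ (E.ι ≫ D.V.hom) inferInstance
  let h : V' ⟶ D.V := MorphismProperty.Over.homMk E.ι rfl
  refine ⟨⟨V', ⟨D.v, hvE⟩, D.n, fun k => h.left ≫ D.σ k,
    fun k => comp_lift f h (D.σ k) (D.hσ k), ?_, D.hs.comp h⟩, hE⟩
  change (E.ι ≫ D.V.hom).base ⟨D.v, hvE⟩ = y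
  rw [Scheme.Hom.comp_base, TopCat.comp_app]
  exact D.hv

/-- The number of geometric points of the fibre over `y` lying in `S`. -/
noncomputable def c (S : Set X) (y : Y) : ℕ :=
  cnt (nonempty_splitData f y).some.σ S (nonempty_splitData f y).some.v

variable {f}

lemma c_eq {V : Y.Etale} {n : ℕ} {σ : Fin n → (V.left ⟶ X)} {hσ : ∀ k, σ k ≫ f = V.hom}
    (hs : IsSplit f V σ hσ) (S : Set X) (e : V.left) : c f S (V.hom.base e) = cnt σ S e :=
  cnt_eq_of_isSplit (nonempty_splitData f _).some.hs hs S _ e (nonempty_splitData f _).some.hv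

lemma c_eq' {y : Y} (D : SplitData f y) (S : Set X) : c f S y = cnt D.σ S D.v := by
  have := c_eq D.hs S D.v
  rwa [D.hv] at this

lemma cnt_mono {V : Y.Etale} {n : ℕ} (σ : Fin n → (V.left ⟶ X)) (S : Set X) (e e₁ : V.left)
    (h : ∀ k, (σ k).base e ∈ S → (σ k).base e₁ ∈ S) : cnt σ S e ≤ cnt σ S e₁ :=
  Nat.card_le_card_of_injective (fun k => ⟨k.1, h k.1 k.2⟩)
    (fun a b hab => Subtype.ext (by have := congrArg Subtype.val hab; exact this))

lemma sigma_etale {V : Y.Etale} (σ : V.left ⟶ X) (hσ : σ ≫ f = V.hom) : Etale σ := by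
  haveI : Etale V.hom := V.prop
  haveI : Etale (σ ≫ f) := by rw [hσ]; infer_instance
  exact Etale.of_comp σ f

/-- The neighbourhood of `e` on which all sheets through `S` at `e` stay in `S`. -/
def nbhd {V : Y.Etale} {n : ℕ} (σ : Fin n → (V.left ⟶ X)) (S : Set X) (e : V.left) :
    Set V.left :=
  ⋂ k : {k : Fin n // (σ k).base e ∈ S}, (σ k.1).base ⁻¹' S

lemma isOpen_nbhd {V : Y.Etale} {n : ℕ} (σ : Fin n → (V.left ⟶ X)) {S : Set X} (hS : IsOpen S)
    (e : V.left) : IsOpen (nbhd σ S e) :=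
  isOpen_iInter_of_finite fun k => hS.preimage (σ k.1).continuous

lemma mem_nbhd {V : Y.Etale} {n : ℕ} (σ : Fin n → (V.left ⟶ X)) (S : Set X) (e : V.left) :
    e ∈ nbhd σ S e := Set.mem_iInter.2 fun k => k.2

theorem isOpen_ge {S : Set X} (hS : IsOpen S) (m : ℕ) : IsOpen {y | m ≤ c f S y} := by
  rw [isOpen_iff_forall_mem_open]
  intro y hy
  obtain ⟨D⟩ := nonempty_splitData f y
  haveI : Etale D.V.hom := D.V.prop
  refine ⟨D.V.hom.base '' nbhd D.σ S D.v, ?_, D.V.hom.isOpenMap _ (isOpen_nbhd D.σ hS D.v),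
    ⟨D.v, mem_nbhd D.σ S D.v, D.hv⟩⟩
  rintro _ ⟨e₁, he₁, rfl⟩
  change m ≤ c f S _
  rw [c_eq D.hs]
  have h1 : m ≤ cnt D.σ S D.v := by rw [← c_eq' D]; exact hy
  exact h1.trans (cnt_mono D.σ S D.v e₁ (fun k hk => Set.mem_iInter.1 he₁ ⟨k, hk⟩))

/-- Points of `X` over a level set of `c` which are in the closure of the part of `S` over that
level set lie in `S`. -/
theorem mem_of_mem_closure {S : Set X} (hS : IsOpen S) (m : ℕ) (x : X)
    (hx : c f S (f.base x) = m)
    (hcl : x ∈ closure (S ∩ f.base ⁻¹' {y | c f S y = m})) : x ∈ S := by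
  by_contra hxS
  obtain ⟨D⟩ := nonempty_splitData f (f.base x)
  obtain ⟨z, hz1, hz2⟩ := Scheme.Pullback.exists_preimage_pullback (f := D.V.hom) (g := f)
    D.v x D.hv
  obtain ⟨k, w, hw⟩ := D.hs.cov z
  have hfst : (pullback.fst D.V.hom f).base (tmapLeft f D.V (D.σ k) (D.hσ k) w) = w :=
    congrArg (fun m => m.base w) (tmapLeft_fst f D.V (D.σ k) (D.hσ k))
  have hsnd : (pullback.snd D.V.hom f).base (tmapLeft f D.V (D.σ k) (D.hσ k) w) =
      (D.σ k).base w :=
    congrArg (fun m => m.base w) (tmapLeft_snd f D.V (D.σ k) (D.hσ k))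
  have hwv : w = D.v := by rw [← hfst, hw]; exact hz1
  have hxk : (D.σ k).base D.v = x := by rw [← hwv, ← hsnd, hw]; exact hz2
  haveI : Etale (D.σ k) := sigma_etale (D.σ k) (D.hσ k)
  have hM : IsOpen ((D.σ k).base '' nbhd D.σ S D.v) :=
    (D.σ k).isOpenMap _ (isOpen_nbhd D.σ hS D.v)
  have hxM : x ∈ (D.σ k).base '' nbhd D.σ S D.v := ⟨D.v, mem_nbhd D.σ S D.v, hxk⟩
  obtain ⟨x₁, hx₁M, hx₁S, hx₁m⟩ := mem_closure_iff.1 hcl _ hM hxM
  obtain ⟨e₁, he₁, rfl⟩ := hx₁M
  have hfe : f.base ((D.σ k).base e₁) = D.V.hom.base e₁ := by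
    have := congrArg (fun m => m.base e₁) (D.hσ k)
    exact this
  have hm1 : cnt D.σ S e₁ = m := by
    rw [← c_eq D.hs, ← hfe]; exact hx₁m
  have hm0 : cnt D.σ S D.v = m := by rw [← c_eq' D]; exact hx
  -- the injection {k' // σ k' v ∈ S} → {k' // σ k' e₁ ∈ S} misses `k`
  have hlt : cnt D.σ S D.v < cnt D.σ S e₁ := by
    unfold cnt
    let φ : {k' : Fin D.n // (D.σ k').base D.v ∈ S} → {k' : Fin D.n // (D.σ k').base e₁ ∈ S} :=
      fun k' => ⟨k'.1, Set.mem_iInter.1 he₁ k'⟩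
    have hφ : Function.Injective φ := fun a b hab =>
      Subtype.ext (by have := congrArg Subtype.val hab; exact this)
    have hns : ¬ Function.Surjective φ := by
      intro hsurj
      obtain ⟨k', hk'⟩ := hsurj ⟨k, hx₁S⟩
      have : k'.1 = k := congrArg Subtype.val hk'
      apply hxS
      rw [← hxk, ← this]
      exact k'.2
    classical
    rw [Nat.card_eq_fintype_card, Nat.card_eq_fintype_card]
    exact Fintype.card_lt_of_injective_not_surjective φ hφ hns
  omega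

end Groth.Agent.H2.FEtCnt
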