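import Mathlib
import Groth.Prelude.Def_EtBase
import Groth.Agent.Lib.Helper2.FEtCntB

set_option autoImplicit false
set_option linter.style.haveILetI false
set_option linter.unusedVariables false
set_option linter.unusedSectionVars false
universe u
open CategoryTheory CategoryTheory.Limits AlgebraicGeometry MorphismProperty TopologicalSpace Opposite

namespace Groth.Agent.H2.FEtCnt

open Groth.Agent.H2.FEtPush

variable {X Y : Scheme.{u}} {f : X ⟶ Y} [IsFinite f] [Etale f]

lemma cnt_eq_card_filter {V : Y.Etale} {n : ℕ} (σ : Fin n → (V.left ⟶ X)) (S : Set X)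
    (e : V.left) [DecidablePred fun k : Fin n => (σ k).base e ∈ S] :
    cnt σ S e = (Finset.univ.filter (fun k : Fin n => (σ k).base e ∈ S)).card := by
  unfold cnt
  rw [Nat.card_eq_fintype_card, Fintype.card_subtype]

lemma setOf_le_cnt_eq {V : Y.Etale} {n : ℕ} (σ : Fin n → (V.left ⟶ X)) (S : Set X) (m : ℕ) :
    {e : V.left | m ≤ cnt σ S e} =
      ⋃ K ∈ {K : Finset (Fin n) | m ≤ K.card}, ⋂ k ∈ K, (σ k).base ⁻¹' S := by
  classical
  ext e
  simp only [Set.mem_ofPred_eq, Set.mem_iUnion, Set.mem_iInter, Set.mem_preimage, exists_prop]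
  constructor
  · intro h
    refine ⟨Finset.univ.filter (fun k : Fin n => (σ k).base e ∈ S), ?_, ?_⟩
    · rwa [← cnt_eq_card_filter]
    · intro k hk
      exact (Finset.mem_filter.1 hk).2
  · rintro ⟨K, hK, hKS⟩
    rw [cnt_eq_card_filter]
    refine hK.trans (Finset.card_le_card ?_)
    intro k hk
    exact Finset.mem_filter.2 ⟨Finset.mem_univ k, hKS k hk⟩

theorem isConstructible_ge [IsAffine Y] {S : Set X} (hSc : Topology.IsConstructible S) (m : ℕ) :
    Topology.IsConstructible {y | m ≤ c f S y} := by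
  choose D hD using exists_affine_splitData f
  have hopen : ∀ y, IsOpen (Set.range (D y).V.hom.base) := fun y => by
    haveI : Etale (D y).V.hom := (D y).V.prop
    exact (D y).V.hom.isOpenMap.isOpen_range
  obtain ⟨t, ht⟩ := isCompact_univ.elim_finite_subcover
    (fun y => Set.range (D y).V.hom.base) hopen
    (fun y _ => Set.mem_iUnion.2 ⟨y, ⟨(D y).v, (D y).hv⟩⟩)
  have key : {y | m ≤ c f S y} =
      ⋃ a ∈ t, (D a).V.hom.base '' {e | m ≤ cnt (D a).σ S e} := by
    ext y
    constructor
    · intro hy
      obtain ⟨a, hat, e, he⟩ := Set.mem_iUnion₂.1 (ht (Set.mem_univ y))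
      refine Set.mem_iUnion₂.2 ⟨a, hat, e, ?_, he⟩
      change m ≤ cnt (D a).σ S e
      rw [← c_eq (D a).hs, he]
      exact hy
    · intro hy
      obtain ⟨a, hat, e, he, rfl⟩ := Set.mem_iUnion₂.1 hy
      change m ≤ c f S _
      rw [c_eq (D a).hs]
      exact he
  rw [key]
  refine Topology.IsConstructible.biUnion t.finite_toSet (fun a _ => ?_)
  haveI := hD a
  haveI : Etale (D a).V.hom := (D a).V.prop
  let g : (D a).V.left ⟶ Y := (D a).V.hom
  haveI : Etale g := (D a).V.prop
  have hg : Topology.IsConstructible (g.base '' {e | m ≤ cnt (D a).σ S e}) := by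
    refine Scheme.Hom.isConstructible_image g ?_
    rw [setOf_le_cnt_eq]
    refine Topology.IsConstructible.biUnion (Set.toFinite _) (fun K _ => ?_)
    exact Topology.IsConstructible.biInter K.finite_toSet
      (fun k _ => ((D a).σ k).isConstructible_preimage hSc)
  exact hg

end Groth.Agent.H2.FEtCnt
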