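import Mathlib
import Groth.Prelude.Def_EtBase
import Groth.Agent.Lib.Helper2.FEtCntC
import Groth.Agent.Lib.Helper2.ConsTypeB

set_option autoImplicit false
set_option linter.style.haveILetI false
set_option linter.unusedVariables false
set_option linter.unusedSectionVars false
universe u
open CategoryTheory CategoryTheory.Limits AlgebraicGeometry MorphismProperty TopologicalSpace Opposite

namespace Groth.Agent.H2.FEtCnt

open Groth.Agent.H2.FEtPush Groth.Agent.H2.ConsType

variable {X Y : Scheme.{u}} (f : X ⟶ Y) [IsFinite f] [Etale f]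

/-- The geometric fibre counts are uniformly bounded over a quasi-compact base. -/
theorem exists_bound [CompactSpace Y] : ∃ D : ℕ, ∀ (S : Set X) (y : Y), c f S y ≤ D := by
  let E : ∀ y, SplitData f y := fun y => (nonempty_splitData f y).some
  have hopen : ∀ y, IsOpen (Set.range (E y).V.hom.base) := fun y => by
    haveI : Etale (E y).V.hom := (E y).V.prop
    exact (E y).V.hom.isOpenMap.isOpen_range
  obtain ⟨t, ht⟩ := isCompact_univ.elim_finite_subcover
    (fun y => Set.range (E y).V.hom.base) hopen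
    (fun y _ => Set.mem_iUnion.2 ⟨y, ⟨(E y).v, (E y).hv⟩⟩)
  refine ⟨t.sup (fun a => (E a).n), fun S y => ?_⟩
  obtain ⟨a, hat, e, he⟩ := Set.mem_iUnion₂.1 (ht (Set.mem_univ y))
  rw [← he, c_eq (E a).hs]
  exact (cnt_le _ S e).trans (Finset.le_sup (f := fun a => (E a).n) hat)

variable {f}

/-- **Stratification of the base adapted to finitely many constructible subsets of the cover.** -/
theorem exists_partition [IsAffine Y] {N : ℕ} (R : Fin N → Set X)
    (hR : ∀ b, Topology.IsConstructible (R b)) :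
    ∃ (τ : Type) (_ : Finite τ) (A B : τ → Y.Opens),
      (∀ t, Topology.IsConstructible ((A t : Set Y) \ (B t : Set Y))) ∧
      Pairwise (fun t t' => Disjoint ((A t : Set Y) \ (B t : Set Y))
        ((A t' : Set Y) \ (B t' : Set Y))) ∧
      (⋃ t, (A t : Set Y) \ (B t : Set Y)) = Set.univ ∧
      ∀ t b, ∃ Ω : X.Opens, R b ∩ f.base ⁻¹' ((A t : Set Y) \ (B t : Set Y)) =
        (Ω : Set X) ∩ f.base ⁻¹' ((A t : Set Y) \ (B t : Set Y)) := by
  obtain ⟨L, hL, hLR⟩ := exists_sat_family R hR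
  obtain ⟨D, hD⟩ := exists_bound f
  let m := L.length
  let O : Fin m → Set X := fun i => L.get i
  have hO : ∀ i, IsOpen (O i) ∧ IsRetrocompact (O i) := fun i => hL _ (List.get_mem L i)
  have hOc : ∀ i, Topology.IsConstructible (O i) := fun i => (hO i).2.isConstructible (hO i).1
  let τ := Fin m → Fin (D + 1)
  let A : τ → Y.Opens := fun t =>
    ⟨⋂ i, {y | (t i : ℕ) ≤ c f (O i) y}, isOpen_iInter_of_finite fun i => isOpen_ge (hO i).1 _⟩
  let B : τ → Y.Opens := fun t =>
    ⟨⋃ i, {y | (t i : ℕ) + 1 ≤ c f (O i) y}, isOpen_iUnion fun i => isOpen_ge (hO i).1 _⟩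
  have hP : ∀ t y, y ∈ (A t : Set Y) \ (B t : Set Y) ↔ ∀ i, c f (O i) y = (t i : ℕ) := by
    intro t y
    constructor
    · rintro ⟨h1, h2⟩ i
      have h1' : (t i : ℕ) ≤ c f (O i) y := Set.mem_iInter.1 h1 i
      have h2' : ¬ ((t i : ℕ) + 1 ≤ c f (O i) y) := fun h => h2 (Set.mem_iUnion.2 ⟨i, h⟩)
      omega
    · intro h
      refine ⟨Set.mem_iInter.2 fun i => ?_, fun h2 => ?_⟩
      · change (t i : ℕ) ≤ c f (O i) y
        rw [h i]
      · obtain ⟨i, hi⟩ := Set.mem_iUnion.1 h2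
        change (t i : ℕ) + 1 ≤ c f (O i) y at hi
        rw [h i] at hi
        omega
  refine ⟨τ, inferInstance, A, B, ?_, ?_, ?_, ?_⟩
  · intro t
    refine Topology.IsConstructible.sdiff ?_ ?_
    · exact Topology.IsConstructible.iInter fun i => isConstructible_ge (hOc i) _
    · exact Topology.IsConstructible.iUnion fun i => isConstructible_ge (hOc i) _
  · intro t t' htt'
    rw [Set.disjoint_left]
    intro y hy hy'
    apply htt'
    funext i
    apply Fin.ext
    rw [← (hP t y).1 hy i, ← (hP t' y).1 hy' i]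
  · rw [Set.eq_univ_iff_forall]
    intro y
    refine Set.mem_iUnion.2 ⟨fun i => ⟨c f (O i) y, Nat.lt_succ_of_le (hD _ y)⟩, ?_⟩
    rw [hP]
    intro i
    rfl
  · intro t b
    let Q : Set X := f.base ⁻¹' ((A t : Set Y) \ (B t : Set Y))
    have hLQ : ∀ O' ∈ L, IsOpen O' ∧ ∀ x ∈ Q, x ∈ closure (O' ∩ Q) → x ∈ O' := by
      intro O' hO'
      obtain ⟨i, rfl⟩ := List.get_of_mem hO'
      refine ⟨(hO i).1, fun x hxQ hcl => ?_⟩
      have hx : c f (O i) (f.base x) = (t i : ℕ) := (hP t (f.base x)).1 hxQ i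
      refine mem_of_mem_closure (hO i).1 (t i : ℕ) x hx (closure_mono ?_ hcl)
      rintro z ⟨hz1, hz2⟩
      exact ⟨hz1, (hP t (f.base z)).1 hz2 i⟩
    obtain ⟨Ω, hΩ, hΩeq⟩ := exists_open_inter_eq L Q hLQ (R b) (hLR b)
    exact ⟨⟨Ω, hΩ⟩, hΩeq⟩

end Groth.Agent.H2.FEtCnt
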