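import Mathlib
import Groth.Prelude.Def_EtBase
import Groth.Agent.Lib.Helper2.FEtPushB

set_option autoImplicit false
set_option linter.style.haveILetI false
set_option linter.unusedVariables false
set_option linter.unusedSectionVars false
universe u
open CategoryTheory CategoryTheory.Limits AlgebraicGeometry MorphismProperty TopologicalSpace Opposite

namespace Groth.Agent.H2.FEtPush

variable {X Y : Scheme.{u}} (f : X ⟶ Y) [Etale f] {ι : Type u} (U : ι → X.Etale)
  (V : Y.Etale) {n : ℕ} (σ : Fin n → (V.left ⟶ X)) (hσ : ∀ k, σ k ≫ f = V.hom)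

/-- The `k`-th sheet over `W` maps into a member of the family `U`. -/
def Good (k : Fin n) (W : Y.Etale) (h : W ⟶ V) : Prop :=
  ∃ i : ι, Nonempty (secObj f W (h.left ≫ σ k) (comp_lift f h (σ k) (hσ k)) ⟶ U i)

lemma good_comp {k : Fin n} {W : Y.Etale} {h : W ⟶ V} (hg : Good f U V σ hσ k W h)
    {W' : Y.Etale} (g : W' ⟶ W) : Good f U V σ hσ k W' (g ≫ h) := by
  obtain ⟨i, ⟨m⟩⟩ := hg
  exact ⟨i, ⟨secHom f g (h.left ≫ σ k) (comp_lift f h (σ k) (hσ k)) ((g ≫ h).left ≫ σ k)
    (comp_lift f (g ≫ h) (σ k) (hσ k)) (Category.assoc _ _ _).symm ≫ m⟩⟩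

include hσ in
lemma good_step (hU : EtCoh.Covers U) (W : Y.Etale) (h : W ⟶ V) (w : W.left) (k : Fin n) :
    ∃ (W' : Y.Etale) (g : W' ⟶ W) (w' : W'.left), g.left w' = w ∧
      Good f U V σ hσ k W' (g ≫ h) := by
  obtain ⟨i, u, hu⟩ := hU ((h.left ≫ σ k) w)
  haveI : Etale (U i).hom := (U i).prop
  haveI : Etale W.hom := W.prop
  let P := pullback (h.left ≫ σ k) (U i).hom
  let W' : Y.Etale := MorphismProperty.Over.mk ⊤
    (pullback.fst (h.left ≫ σ k) (U i).hom ≫ W.hom) inferInstance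
  let g : W' ⟶ W := MorphismProperty.Over.homMk (pullback.fst (h.left ≫ σ k) (U i).hom) rfl
  obtain ⟨w', hw', -⟩ := Scheme.Pullback.exists_preimage_pullback
    (f := h.left ≫ σ k) (g := (U i).hom) w u hu.symm
  refine ⟨W', g, w', hw', i, ⟨MorphismProperty.Over.homMk
    (pullback.snd (h.left ≫ σ k) (U i).hom) ?_⟩⟩
  change pullback.snd (h.left ≫ σ k) (U i).hom ≫ (U i).hom =
    (pullback.fst (h.left ≫ σ k) (U i).hom ≫ h.left) ≫ σ k
  rw [← pullback.condition, Category.assoc]

include hσ in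
theorem exists_good (hU : EtCoh.Covers U) (v : V.left) (S : Finset (Fin n)) :
    ∃ (W : Y.Etale) (h : W ⟶ V) (w : W.left), h.left w = v ∧
      ∀ k ∈ S, Good f U V σ hσ k W h := by
  classical
  induction S using Finset.induction_on with
  | empty => exact ⟨V, 𝟙 V, v, rfl, fun k hk => (Finset.notMem_empty k hk).elim⟩
  | insert k S hk ih =>
    obtain ⟨W, h, w, hw, hgood⟩ := ih
    obtain ⟨W', g, w', hw', hg⟩ := good_step f U V σ hσ hU W h w k
    refine ⟨W', g ≫ h, w', ?_, ?_⟩
    · change h.left (g.left w') = v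
      rw [hw', hw]
    · intro k' hk'
      rcases Finset.mem_insert.1 hk' with rfl | hk''
      · exact hg
      · exact good_comp f U V σ hσ (hgood k' hk'') g

end Groth.Agent.H2.FEtPush
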