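import Mathlib
import Groth.Prelude.Def_EtBase
import Groth.Agent.Lib.Helper2.FEtPushC
import Groth.Agent.Lib.Helper2.FEtPushD
import Groth.Agent.Lib.Helper2.FEtPushE

set_option autoImplicit false
set_option linter.style.haveILetI false
set_option linter.unusedVariables false
set_option linter.unusedSectionVars false
universe u
open CategoryTheory CategoryTheory.Limits AlgebraicGeometry MorphismProperty TopologicalSpace Opposite

namespace Groth.Agent.H2.FEtPush

open Groth.Agent.H2.LCModel Groth.Agent.H2.LocConstAb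

theorem S0106_main {X Y : Scheme.{u}} (f : X ⟶ Y) [IsFinite f] [Etale f] (F : EtCoh.Ab X)
    (h : EtCoh.IsFiniteLocallyConstant F) :
    EtCoh.IsFiniteLocallyConstant ((EtCoh.push f).obj F) := by
  classical
  obtain ⟨ι, U, hU, htriv⟩ := h
  choose M iM1 iM2 α using htriv
  have key : ∀ y : Y, ∃ (W : Y.Etale), (∃ w : W.left, W.hom w = y) ∧
      ∃ (A : Type) (_ : AddCommGroup A) (_ : Finite A),
        Nonempty (EtCoh.restr ((EtCoh.push f).obj F) W ≅
          (constantSheaf (Y.smallEtaleTopology.over W) AddCommGrpCat.{u + 1}).obj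
            (AddCommGrpCat.of (ULift.{u + 1} A))) := by
    intro y
    obtain ⟨V, v, n, σ, hσ, hv, hcov, hdisj⟩ := exists_split f y
    obtain ⟨W, g, w, hw, hgood⟩ := exists_good f U V σ hσ hU v Finset.univ
    choose i m using (fun k => hgood k (Finset.mem_univ k))
    let σ' : Fin n → (W.left ⟶ X) := fun k => g.left ≫ σ k
    have hσ' : ∀ k, σ' k ≫ f = W.hom := fun k => comp_lift f g (σ k) (hσ k)
    let e : ∀ k, Triv (etReal X) F.obj (secObj f W (σ' k) (hσ' k))
        (AddCommGrpCat.of (ULift.{u + 1} (M (i k)))) :=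
      fun k => (Triv.ofIso (α (i k)).some).restrict (m k).some
    have hcov' : ∀ z : ((EtCoh.bc f).obj W).left, ∃ k w, tmapLeft f W (σ' k) (hσ' k) w = z :=
      hcov_over f V σ hσ hcov (Over.mk g)
    have hdisj' : ∀ a b, a ≠ b → Disjoint (Set.range (tmapLeft f W (σ' a) (hσ' a)))
        (Set.range (tmapLeft f W (σ' b) (hσ' b))) :=
      fun a b hab => hdisj_over f V σ hσ hdisj (Over.mk g) a b hab
    let t : Triv (etReal Y) ((EtCoh.push f).obj F).obj W
        (AddCommGrpCat.of (ULift.{u + 1} (∀ k, M (i k)))) :=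
      trivPush f F W σ' hσ' (fun k => M (i k)) e hcov' hdisj'
    refine ⟨W, ⟨w, ?_⟩, (∀ k, M (i k)), inferInstance, inferInstance, ⟨Triv.toIso t⟩⟩
    have hW : g.left ≫ V.hom = W.hom := MorphismProperty.Over.w g
    rw [← hW, Scheme.Hom.comp_apply, hw, hv]
  choose W hW A iA1 iA2 β using key
  exact ⟨Y, W, fun y => ⟨y, (hW y).choose, (hW y).choose_spec⟩,
    fun y => ⟨A y, iA1 y, iA2 y, β y⟩⟩

end Groth.Agent.H2.FEtPush
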