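import Mathlib
import Groth.Prelude.Def_EtBase
import Groth.Prelude.Def_EtShriek2
import Groth.Agent.Lib.Helper2.LocConstAbE
import Groth.Agent.Lib.Helper2.StrataC
import Groth.Agent.Lib.Helper7.ES1

set_option autoImplicit false
set_option linter.style.haveILetI false
set_option linter.unusedSectionVars false
set_option linter.unusedVariables false
universe u

open CategoryTheory CategoryTheory.Limits Opposite AlgebraicGeometry TopologicalSpace

namespace Groth.Agent.H2.FLCLoc

open Groth.Agent.H2.LCModel Groth.Agent.H2.LocConstAb Groth.Agent.H7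

variable {U X : Scheme.{u}} (j : U ⟶ X) [IsOpenImmersion j]

/-- The étale `U`-scheme underlying an étale `X`-scheme over `(W → U → X)`. -/
noncomputable def liftU (W : U.Etale) (V' : Over ((EtShriek.compEtale j).obj W)) : U.Etale :=
  let φ : V'.left.left ⟶ W.left := V'.hom.left
  haveI : Etale W.hom := W.prop
  haveI : Etale φ := GalCov.etale_left V'.hom
  MorphismProperty.Over.mk ⊤ (φ ≫ W.hom) (inferInstanceAs (Etale (φ ≫ W.hom)))

noncomputable def liftObj (W : U.Etale) (V' : Over ((EtShriek.compEtale j).obj W)) : Over W :=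
  Over.mk (MorphismProperty.Over.homMk (A := liftU j W V') (B := W) V'.hom.left rfl)

lemma liftObj_left_left (W : U.Etale) (V' : Over ((EtShriek.compEtale j).obj W)) :
    (liftObj j W V').left.left = V'.left.left := rfl

/-- `(V → W → U → X) ≅ V'`. -/
noncomputable def liftIso (W : U.Etale) (V' : Over ((EtShriek.compEtale j).obj W)) :
    (EtShriek.compEtale j).obj (liftObj j W V').left ≅ V'.left :=
  MorphismProperty.Over.isoMk (Iso.refl _) (by
    have := MorphismProperty.Over.w V'.hom
    simp only [Iso.refl_hom]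
    change V'.left.hom = (V'.hom.left ≫ W.hom) ≫ j
    rw [← this, Category.assoc]
    rfl)

noncomputable def liftMap (W : U.Etale) {V₁ V₂ : Over ((EtShriek.compEtale j).obj W)}
    (φ : V₁ ⟶ V₂) : liftObj j W V₁ ⟶ liftObj j W V₂ :=
  Over.homMk (MorphismProperty.Over.homMk (A := liftU j W V₁) (B := liftU j W V₂) φ.left.left (by
    have h := congrArg (fun m => m.left) (Over.w φ)
    change (φ.left.left ≫ V₂.hom.left) ≫ W.hom = V₁.hom.left ≫ W.hom
    change φ.left.left ≫ V₂.hom.left = V₁.hom.left at h
    rw [h])) (by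
    apply MorphismProperty.Over.Hom.ext
    exact congrArg (fun m => m.left) (Over.w φ))

lemma liftIso_naturality (W : U.Etale) {V₁ V₂ : Over ((EtShriek.compEtale j).obj W)}
    (φ : V₁ ⟶ V₂) :
    (liftIso j W V₁).hom ≫ φ.left =
      (EtShriek.compEtale j).map (liftMap j W φ).left ≫ (liftIso j W V₂).hom := by
  apply MorphismProperty.Over.Hom.ext
  change 𝟙 _ ≫ φ.left.left = φ.left.left ≫ 𝟙 _
  rw [Category.id_comp, Category.comp_id]

set_option backward.isDefEq.respectTransparency.types false in
/-- Transfer of trivializations from `U.Etale` to `X.Etale` along `V ↦ (V → U → X)`. -/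
noncomputable def trivTransfer (H : EtCoh.Ab X) (W : U.Etale) (M : AddCommGrpCat.{u + 1})
    (e : Triv (etReal U) ((EtShriek.restrAlong j).obj H).obj W M) :
    Triv (etReal X) H.obj ((EtShriek.compEtale j).obj W) M :=
  NatIso.ofComponents
    (fun V' => H.obj.mapIso (liftIso j W V'.unop).op ≪≫ e.app (op (liftObj j W V'.unop)))
    (by
      intro V₁ V₂ g
      have hnat := e.hom.naturality (liftMap j W g.unop).op
      have hsq := liftIso_naturality j W g.unop
      have h1 : H.obj.map g.unop.left.op ≫ H.obj.map (liftIso j W V₂.unop).hom.op =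
          H.obj.map (liftIso j W V₁.unop).hom.op ≫
            H.obj.map ((EtShriek.compEtale j).map (liftMap j W g.unop).left).op := by
        rw [← H.obj.map_comp, ← H.obj.map_comp, ← op_comp, ← op_comp, hsq]
      change (H.obj.map g.unop.left.op ≫ H.obj.map (liftIso j W V₂.unop).hom.op ≫
        e.hom.app (op (liftObj j W V₂.unop))) =
        (H.obj.map (liftIso j W V₁.unop).hom.op ≫ e.hom.app (op (liftObj j W V₁.unop))) ≫ _
      rw [← Category.assoc, h1, Category.assoc, Category.assoc]
      congr 1)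

set_option backward.isDefEq.respectTransparency.types false in
/-- If `j⁻¹ H` is constant over `W`, then `H` is constant over `(W → U → X)`. -/
theorem nonempty_restr_compEtale_iso (H : EtCoh.Ab X) (W : U.Etale)
    (M : AddCommGrpCat.{u + 1})
    (α : EtCoh.restr ((EtShriek.restrAlong j).obj H) W ≅
      (constantSheaf (U.smallEtaleTopology.over W) AddCommGrpCat.{u + 1}).obj M) :
    Nonempty (EtCoh.restr H ((EtShriek.compEtale j).obj W) ≅
      (constantSheaf (X.smallEtaleTopology.over ((EtShriek.compEtale j).obj W))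
        AddCommGrpCat.{u + 1}).obj M) :=
  ⟨Triv.toIso (trivTransfer j H W M (Triv.ofIso α))⟩

/-- **Finite local constancy is Zariski local.** -/
theorem isFLC_of_openCover {X : Scheme.{u}} (G : EtCoh.Ab X) {β : Type} (Ω : β → X.Opens)
    (hcov : ∀ x : X, ∃ b, x ∈ Ω b)
    (h : ∀ b, EtCoh.IsFiniteLocallyConstant ((EtCoh.pull (Ω b).ι).obj G)) :
    EtCoh.IsFiniteLocallyConstant G := by
  have h' : ∀ b, EtCoh.IsFiniteLocallyConstant ((EtShriek.restrAlong (Ω b).ι).obj G) :=
    fun b => Groth.Agent.H2.Strata.isFiniteLocallyConstant_of_iso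
      ((ES.pullIsoRestr (Ω b).ι).app G) (h b)
  choose ι W hW hM using h'
  refine ⟨Σ b, ι b, fun p => (EtShriek.compEtale (Ω p.1).ι).obj (W p.1 p.2), ?_, ?_⟩
  · intro x
    obtain ⟨b, hb⟩ := hcov x
    obtain ⟨i, y, hy⟩ := hW b ⟨x, hb⟩
    refine ⟨⟨b, i⟩, y, ?_⟩
    change ((W b i).hom ≫ (Ω b).ι).base y = x
    rw [Scheme.Hom.comp_base, TopCat.comp_app]
    change (Ω b).ι.base ((W b i).hom.base y) = x
    rw [hy]
    rfl
  · rintro ⟨b, i⟩
    obtain ⟨M, i1, i2, ⟨α⟩⟩ := hM b i
    exact ⟨M, i1, i2, nonempty_restr_compEtale_iso (Ω b).ι G (W b i) _ α⟩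

end Groth.Agent.H2.FLCLoc
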