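import Mathlib
import Groth.Prelude.Def_EtBase
import Groth.Agent.Lib.Helper2.FinStalkE

set_option autoImplicit false
set_option linter.style.haveILetI false
set_option linter.unusedVariables false
universe u
open CategoryTheory CategoryTheory.Limits AlgebraicGeometry MorphismProperty TopologicalSpace Opposite

namespace Groth.Agent.H2.FinStalk

variable {X Y : Scheme.{u}} (f : X ⟶ Y) [IsFinite f] {Ω : Type u} [Field Ω] [IsAlgClosed Ω]

/-- The comparison map from the stalk of `f_* F` to the product of the stalks of `F` at the lifts. -/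
noncomputable def stalkPushToProd (F : EtCoh.Ab X) (η : Spec (.of Ω) ⟶ Y) :
    (EtCoh.stalk η).obj ((EtCoh.push f).obj F) ⟶
      ∏ᶜ fun ξ : {ξ : Spec (.of Ω) ⟶ X // ξ ≫ f = η} => (EtCoh.stalk ξ.1).obj F :=
  Pi.lift (fun ξ => proj f F η ξ.1 ξ.2)

lemma stalkPushToProd_π_apply (F : EtCoh.Ab X) (η : Spec (.of Ω) ⟶ Y)
    (ξ : {ξ : Spec (.of Ω) ⟶ X // ξ ≫ f = η})
    (z : ToType ((EtCoh.stalk η).obj ((EtCoh.push f).obj F))) :
    Pi.π (fun ξ : {ξ : Spec (.of Ω) ⟶ X // ξ ≫ f = η} => (EtCoh.stalk ξ.1).obj F) ξ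
      (stalkPushToProd f F η z) = proj f F η ξ.1 ξ.2 z :=
  ConcreteCategory.congr_hom (Pi.lift_π _ _) z

/-- **Stalk formula for finite morphisms**: the comparison map is an isomorphism. -/
instance isIso_stalkPushToProd (F : EtCoh.Ab X) (η : Spec (.of Ω) ⟶ Y) :
    IsIso (stalkPushToProd f F η) := by
  rw [ConcreteCategory.isIso_iff_bijective]
  constructor
  · rw [injective_iff_map_eq_zero]
    intro z hz
    apply proj_injective f F η z
    intro ξ hξ
    rw [← stalkPushToProd_π_apply f F η ⟨ξ, hξ⟩ z, hz, map_zero]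
  · intro y
    obtain ⟨z, hz⟩ := proj_surjective f F η
      (fun ξ => Pi.π (fun ξ : {ξ : Spec (.of Ω) ⟶ X // ξ ≫ f = η} => (EtCoh.stalk ξ.1).obj F) ξ y)
    refine ⟨z, ?_⟩
    apply (Concrete.productEquiv
      (fun ξ : {ξ : Spec (.of Ω) ⟶ X // ξ ≫ f = η} => (EtCoh.stalk ξ.1).obj F)).injective
    funext ξ
    rw [Concrete.productEquiv_apply_apply, Concrete.productEquiv_apply_apply,
      stalkPushToProd_π_apply, hz ξ]

theorem S0072_main (F : EtCoh.Ab X) (η : Spec (.of Ω) ⟶ Y) :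
    Nonempty ((EtCoh.stalk η).obj ((EtCoh.push f).obj F) ≅
      ∐ fun ξ : {ξ : Spec (CommRingCat.of Ω) ⟶ X // ξ ≫ f = η} => (EtCoh.stalk ξ.1).obj F) := by
  haveI : Finite {ξ : Spec (CommRingCat.of Ω) ⟶ X // ξ ≫ f = η} := finite_lifts f η
  exact ⟨asIso (stalkPushToProd f F η) ≪≫
    (biproduct.isoProduct
      (fun ξ : {ξ : Spec (CommRingCat.of Ω) ⟶ X // ξ ≫ f = η} => (EtCoh.stalk ξ.1).obj F)).symm ≪≫
    biproduct.isoCoproduct _⟩

end Groth.Agent.H2.FinStalk
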