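import Mathlib
import Groth.Prelude.Def_EtBase
import Groth.Agent.Lib.Helper2.FinStalkF
import Groth.Agent.Lib.Helper7.ST1

set_option autoImplicit false
set_option linter.style.haveILetI false
set_option linter.unusedVariables false
open CategoryTheory CategoryTheory.Limits Opposite

namespace Groth.Agent.H2.FinBC

section General
universe w v
open GrothendieckTopology

variable {C D : Type*} [Category* C] [Category* D]
  {K : GrothendieckTopology D}
  (Φ : Point.{w} K) (F : C ⥤ D) [RepresentablyFlat F] {J : GrothendieckTopology C}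
  (hF : CoverPreserving J K F)
  [InitiallySmall (F ⋙ Φ.fiber).Elements]
  (A : Type*) [Category.{v} A] [HasProducts.{w} A]
  [Functor.IsContinuous F J K]
  [(F.sheafPushforwardContinuous A J K).IsRightAdjoint]
  [HasColimitsOfSize.{w, w} A]

set_option backward.isDefEq.respectTransparency.types false in
lemma homEquiv_skyscraper_app_π (H : Sheaf K A) (M : A) (t : Φ.sheafFiber.obj H ⟶ M)
    (W : D) (x : Φ.fiber.obj W) :
    ((Φ.skyscraperSheafAdjunction.homEquiv H M t).hom.app (op W) :
        H.obj.obj (op W) ⟶ ∏ᶜ fun (_ : Φ.fiber.obj W) ↦ M) ≫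
      Pi.π (fun (_ : Φ.fiber.obj W) ↦ M) x = Φ.toPresheafFiber W x H.obj ≫ t := by
  have h2 := Φ.skyscraperSheafAdjunction_homEquiv_apply_hom (F := H) t
  exact (congrArg (fun m : H.obj ⟶ Φ.skyscraperPresheaf M =>
    m.app (op W) ≫ Pi.π (fun (_ : Φ.fiber.obj W) ↦ M) x) h2).trans
    (Point.skyscraperPresheafHomEquiv_app_π _ _ _ _)

set_option backward.isDefEq.respectTransparency.types false in
lemma unit_skyscraper_app_π (H : Sheaf K A) (W : D) (x : Φ.fiber.obj W) :
    ((Φ.skyscraperSheafAdjunction.unit.app H).hom.app (op W) :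
        H.obj.obj (op W) ⟶ ∏ᶜ fun (_ : Φ.fiber.obj W) ↦ Φ.sheafFiber.obj H) ≫
      Pi.π (fun (_ : Φ.fiber.obj W) ↦ Φ.sheafFiber.obj H) x = Φ.toPresheafFiber W x H.obj := by
  have h1 : Φ.skyscraperSheafAdjunction.unit.app H =
      Φ.skyscraperSheafAdjunction.homEquiv H _ (𝟙 _) := by
    rw [Adjunction.homEquiv_unit]; simp
  have h3 := homEquiv_skyscraper_app_π Φ A H _ (𝟙 (Φ.sheafFiber.obj H)) W x
  exact (congrArg (fun m : H ⟶ Φ.skyscraperSheaf (Φ.sheafFiber.obj H) =>
    (m.hom.app (op W) : H.obj.obj (op W) ⟶ ∏ᶜ fun (_ : Φ.fiber.obj W) ↦ Φ.sheafFiber.obj H) ≫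
      Pi.π (fun (_ : Φ.fiber.obj W) ↦ Φ.sheafFiber.obj H) x) h1).trans
      (h3.trans (Category.comp_id _))

set_option backward.isDefEq.respectTransparency.types false in
/-- Germ formula for Mathlib's `sheafFiberComapIso`. -/
lemma toPresheafFiber_sheafFiberComapIso_hom (G : Sheaf J A) (V : C)
    (x : Φ.fiber.obj (F.obj V)) :
    (Φ.comap F hF).toPresheafFiber V x G.obj ≫ (Φ.sheafFiberComapIso F hF A).hom.app G =
      ((F.sheafAdjunctionContinuous A J K).unit.app G).hom.app (op V) ≫
        Φ.toPresheafFiber (F.obj V) x ((F.sheafPullback A J K).obj G).obj := by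
  have key := unit_conjugateEquiv_symm
    ((F.sheafAdjunctionContinuous A J K).comp Φ.skyscraperSheafAdjunction)
    (Φ.comap F hF).skyscraperSheafAdjunction
    (Φ.skyscraperSheafFunctorCompSheafPushforwardContinuous F hF A).hom G
  have hσ : ((conjugateEquiv ((F.sheafAdjunctionContinuous A J K).comp Φ.skyscraperSheafAdjunction)
      (Φ.comap F hF).skyscraperSheafAdjunction).symm
      (Φ.skyscraperSheafFunctorCompSheafPushforwardContinuous F hF A).hom).app G =
      (Φ.sheafFiberComapIso F hF A).hom.app G := rfl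
  rw [hσ] at key
  have hu : (Φ.comap F hF).skyscraperSheafAdjunction.homEquiv G _
      ((Φ.sheafFiberComapIso F hF A).hom.app G) =
      ((F.sheafAdjunctionContinuous A J K).comp Φ.skyscraperSheafAdjunction).unit.app G :=
    (Adjunction.homEquiv_unit _ _ _ _).trans (key.symm.trans (Category.comp_id _))
  have h1 := homEquiv_skyscraper_app_π (Φ.comap F hF) A G _
    ((Φ.sheafFiberComapIso F hF A).hom.app G) V x
  refine h1.symm.trans ?_
  rw [hu, Adjunction.comp_unit_app]
  have h3 := unit_skyscraper_app_π Φ A ((F.sheafPullback A J K).obj G) (F.obj V) x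
  exact (Category.assoc _ _ _).trans
    (congrArg (fun m => ((F.sheafAdjunctionContinuous A J K).unit.app G).hom.app (op V) ≫ m) h3)

end General

section Etale
universe u
open AlgebraicGeometry Groth.Agent.H2.FinStalk

variable {X Y : Scheme.{u}} (f : X ⟶ Y) {Ω : Type u} [Field Ω] [IsSepClosed Ω]
  (ξ : Spec (.of Ω) ⟶ X)

set_option backward.isDefEq.respectTransparency.types false in
lemma fiberCompIso_hom_left (V : Y.Etale)
    (x' : (Scheme.pointSmallEtale ξ).fiber.obj ((EtCoh.bc f).obj V)) :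
    ((Groth.Agent.H7.ST.fiberCompIso f ξ).hom.app V x').left = x'.left ≫ pullback.fst V.hom f := by
  rfl

set_option backward.isDefEq.respectTransparency.types false in
lemma fiberCompIso_inv_app (V : Y.Etale) (x : (Scheme.pointSmallEtale (ξ ≫ f)).fiber.obj V) :
    (Groth.Agent.H7.ST.fiberCompIso f ξ).inv.app V x = liftPt f (ξ ≫ f) ξ rfl V x := by
  have h1 : (Groth.Agent.H7.ST.fiberCompIso f ξ).hom.app V (liftPt f (ξ ≫ f) ξ rfl V x) = x := by
    apply Over.OverMorphism.ext
    rw [fiberCompIso_hom_left, liftPt_left]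
    exact pullback.lift_fst _ _ _
  have h2 := congrArg ((Groth.Agent.H7.ST.fiberCompIso f ξ).inv.app V) h1
  rw [← h2]
  exact (Groth.Agent.H7.ST.fiberCompIso f ξ).hom_inv_id_app_apply V _

set_option backward.isDefEq.respectTransparency.types false in
/-- Germ formula for the inverse of helper7's `stalkPullIso`. -/
lemma germ_stalkPullIso_inv (G : EtCoh.Ab Y) (V : Y.Etale)
    (x : (Scheme.pointSmallEtale (ξ ≫ f)).fiber.obj V) :
    (Scheme.pointSmallEtale (ξ ≫ f)).toPresheafFiber V x G.obj ≫
        (Groth.Agent.H7.ST.stalkPullIso f ξ).inv.app G =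
      ((EtCoh.pullPushAdj f).unit.app G).hom.app (op V) ≫
        (Scheme.pointSmallEtale ξ).toPresheafFiber ((EtCoh.bc f).obj V)
          (liftPt f (ξ ≫ f) ξ rfl V x) ((EtCoh.pull f).obj G).obj := by
  have h0 : (Groth.Agent.H7.ST.stalkPullIso f ξ).inv.app G =
      (GrothendieckTopology.Point.Hom.presheafFiber
        (Groth.Agent.H7.ST.comapPointIso f ξ).hom).app G.obj ≫
      ((Scheme.pointSmallEtale ξ).sheafFiberComapIso (EtCoh.bc f) (EtCoh.coverPreserving_bc f)
        AddCommGrpCat.{u + 1}).hom.app G := rfl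
  rw [h0]
  have h1 : (Scheme.pointSmallEtale (ξ ≫ f)).toPresheafFiber V x G.obj ≫
      (GrothendieckTopology.Point.Hom.presheafFiber
        (Groth.Agent.H7.ST.comapPointIso f ξ).hom).app G.obj =
      (Groth.Agent.H7.ST.comapPoint f ξ).toPresheafFiber V
        ((Groth.Agent.H7.ST.fiberCompIso f ξ).inv.app V x) G.obj := by
    rw [GrothendieckTopology.Point.Hom.presheafFiber_app]
    exact (Scheme.pointSmallEtale (ξ ≫ f)).toPresheafFiber_presheafFiberDesc _ _ V x
  rw [reassoc_of% h1, fiberCompIso_inv_app]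
  exact toPresheafFiber_sheafFiberComapIso_hom (Scheme.pointSmallEtale ξ) (EtCoh.bc f)
    (EtCoh.coverPreserving_bc f) AddCommGrpCat.{u + 1} G V _

end Etale

end Groth.Agent.H2.FinBC
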