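import Mathlib
import Groth.Prelude.Def_EtBase
import Groth.Agent.Lib.Helper2.FinBCA

set_option autoImplicit false
set_option linter.style.haveILetI false
set_option linter.unusedVariables false
open CategoryTheory CategoryTheory.Limits Opposite AlgebraicGeometry

namespace Groth.Agent.H2.FinBC
universe u
open Groth.Agent.H2.FinStalk

variable {X Y X' Y' : Scheme.{u}} (f : X ⟶ Y) (g : Y' ⟶ Y) (f' : X' ⟶ Y') (g' : X' ⟶ X)
  (w : g' ≫ f = f' ≫ g)

/-- first comparison map -/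
noncomputable def θ1 (V : Y.Etale) : (EtCoh.bc (g' ≫ f)).obj V ⟶ (EtCoh.bc g').obj ((EtCoh.bc f).obj V) :=
  (MorphismProperty.Over.pullbackComp (P := EtCoh.etaleMP) (Q := ⊤) g' f).hom.app V

noncomputable def θ2 (V : Y.Etale) : (EtCoh.bc (f' ≫ g)).obj V ⟶ (EtCoh.bc (g' ≫ f)).obj V :=
  (MorphismProperty.Over.pullbackCongr (P := EtCoh.etaleMP) (Q := ⊤) w).inv.app V

noncomputable def θ3 (V : Y.Etale) : (EtCoh.bc f').obj ((EtCoh.bc g).obj V) ⟶ (EtCoh.bc (f' ≫ g)).obj V :=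
  (MorphismProperty.Over.pullbackComp (P := EtCoh.etaleMP) (Q := ⊤) f' g).inv.app V

/-- The adjoint of the base change map. -/
noncomputable def beta (F : EtCoh.Ab X) :
    (EtCoh.push f).obj F ⟶ (EtCoh.push g).obj ((EtCoh.push f').obj ((EtCoh.pull g').obj F)) :=
  (EtCoh.push f).map ((EtCoh.pullPushAdj g').unit.app F) ≫ (EtCoh.pushComp f g').hom.app _ ≫
      (EtCoh.pushCongr w).hom.app _ ≫ (EtCoh.pushComp g f').inv.app _

set_option backward.isDefEq.respectTransparency.types false in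
lemma beta_app (F : EtCoh.Ab X) (V : Y.Etale) :
    (beta f g f' g' w F).hom.app (op V) =
      ((EtCoh.pullPushAdj g').unit.app F).hom.app (op ((EtCoh.bc f).obj V)) ≫
        ((EtCoh.pull g').obj F).obj.map (θ1 f g' V).op ≫
        ((EtCoh.pull g').obj F).obj.map (θ2 f g f' g' w V).op ≫
        ((EtCoh.pull g').obj F).obj.map (θ3 g f' V).op := by
  rfl

lemma unit_comp_baseChange0 (F : EtCoh.Ab X) :
    (EtCoh.pullPushAdj g).unit.app ((EtCoh.push f).obj F) ≫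
      (EtCoh.push g).map (EtCoh.baseChange0 f g f' g' w F) = beta f g f' g' w F := by
  exact ((EtCoh.pullPushAdj g).homEquiv_unit _ _ (EtCoh.baseChange0 f g f' g' w F)).symm.trans
    (Equiv.apply_symm_apply _ _)

variable {Ω : Type u} [Field Ω] [IsSepClosed Ω]

set_option backward.isDefEq.respectTransparency.types false in
/-- Geometric points of `(V ×_Y X) ×_X X'` over `ξ'` are determined by their `V`-component. -/
lemma fiber_ext_double (ξ' : Spec (.of Ω) ⟶ X') (V : Y.Etale)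
    (z z' : (Scheme.pointSmallEtale ξ').fiber.obj ((EtCoh.bc g').obj ((EtCoh.bc f).obj V)))
    (hz : z.left ≫ pullback.fst ((EtCoh.bc f).obj V).hom g' ≫ pullback.fst V.hom f =
      z'.left ≫ pullback.fst ((EtCoh.bc f).obj V).hom g' ≫ pullback.fst V.hom f) : z = z' := by
  apply Over.OverMorphism.ext
  have hw : z.left ≫ pullback.snd ((EtCoh.bc f).obj V).hom g' = ξ' := Over.w z
  have hw' : z'.left ≫ pullback.snd ((EtCoh.bc f).obj V).hom g' = ξ' := Over.w z'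
  obtain ⟨zl, hzl⟩ : ∃ zl : Spec (.of Ω) ⟶ pullback ((EtCoh.bc f).obj V).hom g', zl = z.left :=
    ⟨_, rfl⟩
  obtain ⟨zl', hzl'⟩ : ∃ zl : Spec (.of Ω) ⟶ pullback ((EtCoh.bc f).obj V).hom g', zl = z'.left :=
    ⟨_, rfl⟩
  rw [← hzl] at hz hw
  rw [← hzl'] at hz hw'
  refine (hzl.symm.trans ?_).trans hzl'
  have hc : pullback.fst ((EtCoh.bc f).obj V).hom g' ≫ pullback.snd V.hom f =
      pullback.snd ((EtCoh.bc f).obj V).hom g' ≫ g' := pullback.condition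
  have hside : ∀ t : Spec (.of Ω) ⟶ pullback ((EtCoh.bc f).obj V).hom g',
      t ≫ pullback.snd ((EtCoh.bc f).obj V).hom g' = ξ' →
      (t ≫ pullback.fst ((EtCoh.bc f).obj V).hom g') ≫ pullback.snd V.hom f = ξ' ≫ g' := by
    intro t ht
    calc (t ≫ pullback.fst ((EtCoh.bc f).obj V).hom g') ≫ pullback.snd V.hom f
        = t ≫ (pullback.fst ((EtCoh.bc f).obj V).hom g' ≫ pullback.snd V.hom f) :=
          Category.assoc _ _ _
      _ = t ≫ (pullback.snd ((EtCoh.bc f).obj V).hom g' ≫ g') := congrArg (fun m => t ≫ m) hc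
      _ = (t ≫ pullback.snd ((EtCoh.bc f).obj V).hom g') ≫ g' := (Category.assoc _ _ _).symm
      _ = ξ' ≫ g' := congrArg (fun m => m ≫ g') ht
  apply pullback.hom_ext
  · apply pullback.hom_ext
    · exact (Category.assoc _ _ _).trans (hz.trans (Category.assoc _ _ _).symm)
    · exact (hside zl hw).trans (hside zl' hw').symm
  · exact hw.trans hw'.symm

set_option backward.isDefEq.respectTransparency.types false in
lemma θ1_fst_fst (V : Y.Etale) :
    (θ1 f g' V).left ≫ pullback.fst ((EtCoh.bc f).obj V).hom g' ≫ pullback.fst V.hom f =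
      pullback.fst V.hom (g' ≫ f) :=
  MorphismProperty.Over.pullbackComp_left_fst_fst (P := EtCoh.etaleMP) (Q := ⊤) g' f V

set_option backward.isDefEq.respectTransparency.types false in
lemma θ2_fst (V : Y.Etale) :
    (θ2 f g f' g' w V).left ≫ pullback.fst V.hom (g' ≫ f) = pullback.fst V.hom (f' ≫ g) := by
  have h1 := MorphismProperty.Over.pullbackCongr_hom_app_left_fst
    (P := EtCoh.etaleMP) (Q := ⊤) w V
  have h2 : (θ2 f g f' g' w V).left ≫
      ((MorphismProperty.Over.pullbackCongr (P := EtCoh.etaleMP) (Q := ⊤) w).hom.app V).left =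
      𝟙 _ := by
    have := (MorphismProperty.Over.pullbackCongr (P := EtCoh.etaleMP) (Q := ⊤) w).inv_hom_id_app V
    exact congrArg (fun m => m.left) this
  calc (θ2 f g f' g' w V).left ≫ pullback.fst V.hom (g' ≫ f)
      = (θ2 f g f' g' w V).left ≫
        (((MorphismProperty.Over.pullbackCongr (P := EtCoh.etaleMP) (Q := ⊤) w).hom.app V).left ≫
          pullback.fst V.hom (f' ≫ g)) := congrArg (fun m => (θ2 f g f' g' w V).left ≫ m) h1.symm
    _ = ((θ2 f g f' g' w V).left ≫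
        ((MorphismProperty.Over.pullbackCongr (P := EtCoh.etaleMP) (Q := ⊤) w).hom.app V).left) ≫
          pullback.fst V.hom (f' ≫ g) := (Category.assoc _ _ _).symm
    _ = 𝟙 _ ≫ pullback.fst V.hom (f' ≫ g) :=
        congrArg (fun m => m ≫ pullback.fst V.hom (f' ≫ g)) h2
    _ = pullback.fst V.hom (f' ≫ g) := Category.id_comp _

set_option backward.isDefEq.respectTransparency.types false in
lemma θ3_fst (V : Y.Etale) :
    (θ3 g f' V).left ≫ pullback.fst V.hom (f' ≫ g) =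
      pullback.fst ((EtCoh.bc g).obj V).hom f' ≫ pullback.fst V.hom g := by
  have h1 := MorphismProperty.Over.pullbackComp_left_fst_fst (P := EtCoh.etaleMP) (Q := ⊤) f' g V
  have h2 : (θ3 g f' V).left ≫
      ((MorphismProperty.Over.pullbackComp (P := EtCoh.etaleMP) (Q := ⊤) f' g).hom.app V).left =
      𝟙 _ := by
    have := (MorphismProperty.Over.pullbackComp (P := EtCoh.etaleMP) (Q := ⊤) f' g).inv_hom_id_app V
    exact congrArg (fun m => m.left) this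
  calc (θ3 g f' V).left ≫ pullback.fst V.hom (f' ≫ g)
      = (θ3 g f' V).left ≫
        (((MorphismProperty.Over.pullbackComp (P := EtCoh.etaleMP) (Q := ⊤) f' g).hom.app V).left ≫
          pullback.fst ((EtCoh.bc g).obj V).hom f' ≫ pullback.fst V.hom g) :=
        congrArg (fun m => (θ3 g f' V).left ≫ m) h1.symm
    _ = ((θ3 g f' V).left ≫
        ((MorphismProperty.Over.pullbackComp (P := EtCoh.etaleMP) (Q := ⊤) f' g).hom.app V).left) ≫
          pullback.fst ((EtCoh.bc g).obj V).hom f' ≫ pullback.fst V.hom g :=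
        (Category.assoc _ _ _).symm
    _ = 𝟙 _ ≫ pullback.fst ((EtCoh.bc g).obj V).hom f' ≫ pullback.fst V.hom g :=
        congrArg (fun m => m ≫ pullback.fst ((EtCoh.bc g).obj V).hom f' ≫ pullback.fst V.hom g) h2
    _ = pullback.fst ((EtCoh.bc g).obj V).hom f' ≫ pullback.fst V.hom g := Category.id_comp _

set_option backward.isDefEq.respectTransparency.types false in
lemma chain_fst (ξ' : Spec (.of Ω) ⟶ X') (V : Y.Etale)
    (y : (Scheme.pointSmallEtale ξ').fiber.obj ((EtCoh.bc f').obj ((EtCoh.bc g).obj V))) :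
    ((Scheme.pointSmallEtale ξ').fiber.map (θ1 f g' V)
      ((Scheme.pointSmallEtale ξ').fiber.map (θ2 f g f' g' w V)
        ((Scheme.pointSmallEtale ξ').fiber.map (θ3 g f' V) y))).left ≫
      pullback.fst ((EtCoh.bc f).obj V).hom g' ≫ pullback.fst V.hom f =
    y.left ≫ pullback.fst ((EtCoh.bc g).obj V).hom f' ≫ pullback.fst V.hom g := by
  obtain ⟨yl, hyl⟩ : ∃ yl : Spec (.of Ω) ⟶ pullback ((EtCoh.bc g).obj V).hom f', yl = y.left :=
    ⟨_, rfl⟩
  have e : ((Scheme.pointSmallEtale ξ').fiber.map (θ1 f g' V)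
      ((Scheme.pointSmallEtale ξ').fiber.map (θ2 f g f' g' w V)
        ((Scheme.pointSmallEtale ξ').fiber.map (θ3 g f' V) y))).left =
      ((yl ≫ (θ3 g f' V).left) ≫ (θ2 f g f' g' w V).left) ≫ (θ1 f g' V).left := by
    rw [hyl]; rfl
  rw [e, ← hyl]
  calc (((yl ≫ (θ3 g f' V).left) ≫ (θ2 f g f' g' w V).left) ≫ (θ1 f g' V).left) ≫
        pullback.fst ((EtCoh.bc f).obj V).hom g' ≫ pullback.fst V.hom f
      = ((yl ≫ (θ3 g f' V).left) ≫ (θ2 f g f' g' w V).left) ≫ ((θ1 f g' V).left ≫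
        pullback.fst ((EtCoh.bc f).obj V).hom g' ≫ pullback.fst V.hom f) := Category.assoc _ _ _
    _ = ((yl ≫ (θ3 g f' V).left) ≫ (θ2 f g f' g' w V).left) ≫ pullback.fst V.hom (g' ≫ f) :=
        congrArg (fun m => ((yl ≫ (θ3 g f' V).left) ≫ (θ2 f g f' g' w V).left) ≫ m)
          (θ1_fst_fst f g' V)
    _ = (yl ≫ (θ3 g f' V).left) ≫ ((θ2 f g f' g' w V).left ≫ pullback.fst V.hom (g' ≫ f)) :=
        Category.assoc _ _ _
    _ = (yl ≫ (θ3 g f' V).left) ≫ pullback.fst V.hom (f' ≫ g) :=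
        congrArg (fun m => (yl ≫ (θ3 g f' V).left) ≫ m) (θ2_fst f g f' g' w V)
    _ = yl ≫ ((θ3 g f' V).left ≫ pullback.fst V.hom (f' ≫ g)) := Category.assoc _ _ _
    _ = yl ≫ pullback.fst ((EtCoh.bc g).obj V).hom f' ≫ pullback.fst V.hom g :=
        congrArg (fun m => yl ≫ m) (θ3_fst g f' V)

set_option backward.isDefEq.respectTransparency.types false in
lemma liftPt_liftPt_fst_fst {X Y X' : Scheme.{u}} (f : X ⟶ Y) (g' : X' ⟶ X)
    (η : Spec (.of Ω) ⟶ Y) (ξ : Spec (.of Ω) ⟶ X) (hξ : ξ ≫ f = η)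
    (ξ' : Spec (.of Ω) ⟶ X') (hξ' : ξ' ≫ g' = ξ) (V : Y.Etale)
    (x : (Scheme.pointSmallEtale η).fiber.obj V) :
    (liftPt g' ξ ξ' hξ' ((EtCoh.bc f).obj V) (liftPt f η ξ hξ V x)).left ≫
      pullback.fst ((EtCoh.bc f).obj V).hom g' ≫ pullback.fst V.hom f = x.left := by
  have h1 : (liftPt g' ξ ξ' hξ' ((EtCoh.bc f).obj V) (liftPt f η ξ hξ V x)).left ≫
      pullback.fst ((EtCoh.bc f).obj V).hom g' = (liftPt f η ξ hξ V x).left :=
    pullback.lift_fst _ _ _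
  have h2 : (liftPt f η ξ hξ V x).left ≫ pullback.fst V.hom f = x.left :=
    pullback.lift_fst _ _ _
  exact (Category.assoc _ _ _).symm.trans
    ((congrArg (fun m => m ≫ pullback.fst V.hom f) h1).trans h2)

set_option backward.isDefEq.respectTransparency.types false in
lemma chain_liftPt (η' : Spec (.of Ω) ⟶ Y') (ξ' : Spec (.of Ω) ⟶ X') (hξ' : ξ' ≫ f' = η')
    (hξ : (ξ' ≫ g') ≫ f = η' ≫ g) (V : Y.Etale)
    (x : (Scheme.pointSmallEtale (η' ≫ g)).fiber.obj V) :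
    (Scheme.pointSmallEtale ξ').fiber.map (θ1 f g' V)
      ((Scheme.pointSmallEtale ξ').fiber.map (θ2 f g f' g' w V)
        ((Scheme.pointSmallEtale ξ').fiber.map (θ3 g f' V)
          (liftPt f' η' ξ' hξ' ((EtCoh.bc g).obj V) (liftPt g (η' ≫ g) η' rfl V x)))) =
      liftPt g' (ξ' ≫ g') ξ' rfl ((EtCoh.bc f).obj V) (liftPt f (η' ≫ g) (ξ' ≫ g') hξ V x) := by
  apply fiber_ext_double
  rw [chain_fst]
  exact (liftPt_liftPt_fst_fst g f' (η' ≫ g) η' rfl ξ' hξ' V x).trans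
    (liftPt_liftPt_fst_fst f g' (η' ≫ g) (ξ' ≫ g') hξ ξ' rfl V x).symm

set_option backward.isDefEq.respectTransparency.types false in
/-- Key identity: the base change map, seen on stalks through the projections to the stalks at
the lifts, is the stalk comparison for `g'`. -/
theorem key_identity (F : EtCoh.Ab X) (η' : Spec (.of Ω) ⟶ Y') (ξ' : Spec (.of Ω) ⟶ X')
    (hξ' : ξ' ≫ f' = η') (hξ : (ξ' ≫ g') ≫ f = η' ≫ g) :
    (Groth.Agent.H7.ST.stalkPullIso g η').inv.app ((EtCoh.push f).obj F) ≫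
      (EtCoh.stalk η').map (EtCoh.baseChange0 f g f' g' w F) ≫
      proj f' ((EtCoh.pull g').obj F) η' ξ' hξ' =
    proj f F (η' ≫ g) (ξ' ≫ g') hξ ≫ (Groth.Agent.H7.ST.stalkPullIso g' ξ').inv.app F := by
  apply (Scheme.pointSmallEtale (η' ≫ g)).presheafFiber_hom_ext
  intro V x
  -- right hand side
  have hR1 := germ_proj f F (η' ≫ g) (ξ' ≫ g') hξ V x
  have hR2 := germ_stalkPullIso_inv g' ξ' F ((EtCoh.bc f).obj V)
    (liftPt f (η' ≫ g) (ξ' ≫ g') hξ V x)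
  have hR : (Scheme.pointSmallEtale (η' ≫ g)).toPresheafFiber V x ((EtCoh.push f).obj F).obj ≫
      proj f F (η' ≫ g) (ξ' ≫ g') hξ ≫ (Groth.Agent.H7.ST.stalkPullIso g' ξ').inv.app F =
      ((EtCoh.pullPushAdj g').unit.app F).hom.app (op ((EtCoh.bc f).obj V)) ≫
        (Scheme.pointSmallEtale ξ').toPresheafFiber ((EtCoh.bc g').obj ((EtCoh.bc f).obj V))
          (liftPt g' (ξ' ≫ g') ξ' rfl ((EtCoh.bc f).obj V)
            (liftPt f (η' ≫ g) (ξ' ≫ g') hξ V x)) ((EtCoh.pull g').obj F).obj :=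
    (Category.assoc _ _ _).symm.trans
      ((congrArg (fun m => m ≫ (Groth.Agent.H7.ST.stalkPullIso g' ξ').inv.app F) hR1).trans hR2)
  refine Eq.trans ?_ hR.symm
  -- left hand side
  have hL1 := germ_stalkPullIso_inv g η' ((EtCoh.push f).obj F) V x
  have hL2 := (Scheme.pointSmallEtale η').toPresheafFiber_naturality
    (EtCoh.baseChange0 f g f' g' w F).hom ((EtCoh.bc g).obj V) (liftPt g (η' ≫ g) η' rfl V x)
  have hL3 := germ_proj f' ((EtCoh.pull g').obj F) η' ξ' hξ' ((EtCoh.bc g).obj V)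
    (liftPt g (η' ≫ g) η' rfl V x)
  have hL4 : ((EtCoh.pullPushAdj g).unit.app ((EtCoh.push f).obj F)).hom.app (op V) ≫
      (EtCoh.baseChange0 f g f' g' w F).hom.app (op ((EtCoh.bc g).obj V)) =
      (beta f g f' g' w F).hom.app (op V) :=
    congrArg (fun m => m.hom.app (op V)) (unit_comp_baseChange0 f g f' g' w F)
  have hL5 := beta_app f g f' g' w F V
  have hw3 := (Scheme.pointSmallEtale ξ').toPresheafFiber_w (θ3 g f' V)
    (liftPt f' η' ξ' hξ' ((EtCoh.bc g).obj V) (liftPt g (η' ≫ g) η' rfl V x))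
    ((EtCoh.pull g').obj F).obj
  have hw2 := (Scheme.pointSmallEtale ξ').toPresheafFiber_w (θ2 f g f' g' w V)
    ((Scheme.pointSmallEtale ξ').fiber.map (θ3 g f' V)
      (liftPt f' η' ξ' hξ' ((EtCoh.bc g).obj V) (liftPt g (η' ≫ g) η' rfl V x)))
    ((EtCoh.pull g').obj F).obj
  have hw1 := (Scheme.pointSmallEtale ξ').toPresheafFiber_w (θ1 f g' V)
    ((Scheme.pointSmallEtale ξ').fiber.map (θ2 f g f' g' w V)
      ((Scheme.pointSmallEtale ξ').fiber.map (θ3 g f' V)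
        (liftPt f' η' ξ' hξ' ((EtCoh.bc g).obj V) (liftPt g (η' ≫ g) η' rfl V x))))
    ((EtCoh.pull g').obj F).obj
  rw [chain_liftPt f g f' g' w η' ξ' hξ' hξ V x] at hw1
  -- abbreviations
  obtain ⟨u1, hu1⟩ : ∃ u1, u1 = ((EtCoh.pullPushAdj g).unit.app ((EtCoh.push f).obj F)).hom.app
    (op V) := ⟨_, rfl⟩
  obtain ⟨u2, hu2⟩ : ∃ u2, u2 = ((EtCoh.pullPushAdj g').unit.app F).hom.app
    (op ((EtCoh.bc f).obj V)) := ⟨_, rfl⟩
  obtain ⟨φV, hφV⟩ : ∃ φV, φV = (EtCoh.baseChange0 f g f' g' w F).hom.app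
    (op ((EtCoh.bc g).obj V)) := ⟨_, rfl⟩
  obtain ⟨sm, hsm⟩ : ∃ sm, sm = (EtCoh.stalk η').map (EtCoh.baseChange0 f g f' g' w F) :=
    ⟨_, rfl⟩
  obtain ⟨pr, hpr⟩ : ∃ pr, pr = proj f' ((EtCoh.pull g').obj F) η' ξ' hξ' := ⟨_, rfl⟩
  obtain ⟨σi, hσi⟩ : ∃ σi, σi = (Groth.Agent.H7.ST.stalkPullIso g η').inv.app
    ((EtCoh.push f).obj F) := ⟨_, rfl⟩
  obtain ⟨m1, hm1⟩ : ∃ m1, m1 = ((EtCoh.pull g').obj F).obj.map (θ1 f g' V).op := ⟨_, rfl⟩
  obtain ⟨m2, hm2⟩ : ∃ m2, m2 = ((EtCoh.pull g').obj F).obj.map (θ2 f g f' g' w V).op := ⟨_, rfl⟩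
  obtain ⟨m3, hm3⟩ : ∃ m3, m3 = ((EtCoh.pull g').obj F).obj.map (θ3 g f' V).op := ⟨_, rfl⟩
  rw [← hu1, ← hφV] at hL4
  rw [← hu1, ← hσi] at hL1
  rw [← hφV] at hL2
  rw [← hpr] at hL3
  rw [← hu2, ← hm1, ← hm2, ← hm3] at hL5
  rw [← hm1] at hw1
  rw [← hm2] at hw2
  rw [← hm3] at hw3
  rw [← hσi, ← hsm, ← hpr, ← hu2]
  have hL2' : (Scheme.pointSmallEtale η').toPresheafFiber ((EtCoh.bc g).obj V)
      (liftPt g (η' ≫ g) η' rfl V x) ((EtCoh.pull g).obj ((EtCoh.push f).obj F)).obj ≫ sm =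
      φV ≫ (Scheme.pointSmallEtale η').toPresheafFiber ((EtCoh.bc g).obj V)
        (liftPt g (η' ≫ g) η' rfl V x)
        ((EtCoh.push f').obj ((EtCoh.pull g').obj F)).obj := by
    rw [hsm]; exact hL2
  obtain ⟨a0, ha0⟩ : ∃ a0, a0 = (Scheme.pointSmallEtale (η' ≫ g)).toPresheafFiber V x
    ((EtCoh.push f).obj F).obj := ⟨_, rfl⟩
  obtain ⟨a1, ha1⟩ : ∃ a1, a1 = (Scheme.pointSmallEtale η').toPresheafFiber ((EtCoh.bc g).obj V)
      (liftPt g (η' ≫ g) η' rfl V x) ((EtCoh.pull g).obj ((EtCoh.push f).obj F)).obj := ⟨_, rfl⟩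
  obtain ⟨a2, ha2⟩ : ∃ a2, a2 = (Scheme.pointSmallEtale η').toPresheafFiber ((EtCoh.bc g).obj V)
      (liftPt g (η' ≫ g) η' rfl V x) ((EtCoh.push f').obj ((EtCoh.pull g').obj F)).obj :=
    ⟨_, rfl⟩
  obtain ⟨a3, ha3⟩ : ∃ a3, a3 = (Scheme.pointSmallEtale ξ').toPresheafFiber
      ((EtCoh.bc f').obj ((EtCoh.bc g).obj V))
      (liftPt f' η' ξ' hξ' ((EtCoh.bc g).obj V) (liftPt g (η' ≫ g) η' rfl V x))
      ((EtCoh.pull g').obj F).obj := ⟨_, rfl⟩
  obtain ⟨a4, ha4⟩ : ∃ a4, a4 = (Scheme.pointSmallEtale ξ').toPresheafFiber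
      ((EtCoh.bc (f' ≫ g)).obj V)
      ((Scheme.pointSmallEtale ξ').fiber.map (θ3 g f' V)
        (liftPt f' η' ξ' hξ' ((EtCoh.bc g).obj V) (liftPt g (η' ≫ g) η' rfl V x)))
      ((EtCoh.pull g').obj F).obj := ⟨_, rfl⟩
  obtain ⟨a5, ha5⟩ : ∃ a5, a5 = (Scheme.pointSmallEtale ξ').toPresheafFiber
      ((EtCoh.bc (g' ≫ f)).obj V)
      ((Scheme.pointSmallEtale ξ').fiber.map (θ2 f g f' g' w V)
        ((Scheme.pointSmallEtale ξ').fiber.map (θ3 g f' V)
          (liftPt f' η' ξ' hξ' ((EtCoh.bc g).obj V) (liftPt g (η' ≫ g) η' rfl V x))))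
      ((EtCoh.pull g').obj F).obj := ⟨_, rfl⟩
  obtain ⟨a6, ha6⟩ : ∃ a6, a6 = (Scheme.pointSmallEtale ξ').toPresheafFiber
      ((EtCoh.bc g').obj ((EtCoh.bc f).obj V))
      (liftPt g' (ξ' ≫ g') ξ' rfl ((EtCoh.bc f).obj V) (liftPt f (η' ≫ g) (ξ' ≫ g') hξ V x))
      ((EtCoh.pull g').obj F).obj := ⟨_, rfl⟩
  rw [← ha0, ← ha1] at hL1
  rw [← ha1, ← ha2] at hL2'
  rw [← ha2, ← ha3] at hL3
  rw [← ha3, ← ha4] at hw3
  rw [← ha4, ← ha5] at hw2
  rw [← ha5, ← ha6] at hw1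
  change (Scheme.pointSmallEtale (η' ≫ g)).toPresheafFiber V x ((EtCoh.push f).obj F).obj ≫
    σi ≫ sm ≫ pr = _
  rw [← ha0, ← ha6]
  calc a0 ≫ σi ≫ sm ≫ pr = (a0 ≫ σi) ≫ sm ≫ pr := (Category.assoc _ _ _).symm
    _ = (u1 ≫ a1) ≫ sm ≫ pr := congrArg (fun m => m ≫ sm ≫ pr) hL1
    _ = u1 ≫ (a1 ≫ sm) ≫ pr := by simp only [Category.assoc]
    _ = u1 ≫ (φV ≫ a2) ≫ pr := congrArg (fun m => u1 ≫ m ≫ pr) hL2'
    _ = (u1 ≫ φV) ≫ (a2 ≫ pr) := by simp only [Category.assoc]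
    _ = (u2 ≫ m1 ≫ m2 ≫ m3) ≫ a3 := congrArg₂ (fun m n => m ≫ n) (hL4.trans hL5) hL3
    _ = u2 ≫ m1 ≫ m2 ≫ (m3 ≫ a3) := by simp only [Category.assoc]
    _ = u2 ≫ m1 ≫ m2 ≫ a4 := congrArg (fun m => u2 ≫ m1 ≫ m2 ≫ m) hw3
    _ = u2 ≫ m1 ≫ a5 := congrArg (fun m => u2 ≫ m1 ≫ m) hw2
    _ = u2 ≫ a6 := congrArg (fun m => u2 ≫ m) hw1

end Groth.Agent.H2.FinBC
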