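import Mathlib
import Groth.Prelude.Def_EtBase
import Groth.Agent.Lib.Helper2.FinBCB
import Groth.Agent.Lib.Helper7.ST5

set_option autoImplicit false
set_option linter.style.haveILetI false
set_option linter.unusedVariables false
open CategoryTheory CategoryTheory.Limits Opposite AlgebraicGeometry

namespace Groth.Agent.H2.FinBC
universe u
open Groth.Agent.H2.FinStalk

section Cast

variable {X Y : Scheme.{u}} (f : X ⟶ Y) {Ω : Type u} [Field Ω] [IsSepClosed Ω]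

/-- Transport between stalks at equal geometric points. -/
noncomputable def castStalk (F : EtCoh.Ab X) {ξ1 ξ2 : Spec (.of Ω) ⟶ X} (e : ξ1 = ξ2) :
    (EtCoh.stalk ξ1).obj F ⟶ (EtCoh.stalk ξ2).obj F :=
  eqToHom (by rw [e])

lemma proj_castStalk (F : EtCoh.Ab X) (η : Spec (.of Ω) ⟶ Y) {ξ1 ξ2 : Spec (.of Ω) ⟶ X}
    (e : ξ1 = ξ2) (h1 : ξ1 ≫ f = η) (h2 : ξ2 ≫ f = η) :
    proj f F η ξ1 h1 ≫ castStalk F e = proj f F η ξ2 h2 := by
  subst e
  simp [castStalk]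

lemma proj_eq_zero_of_eq (F : EtCoh.Ab X) (η : Spec (.of Ω) ⟶ Y) {ξ1 ξ2 : Spec (.of Ω) ⟶ X}
    (e : ξ1 = ξ2) (h1 : ξ1 ≫ f = η) (h2 : ξ2 ≫ f = η)
    (z : ToType ((EtCoh.stalk η).obj ((EtCoh.push f).obj F)))
    (hz : proj f F η ξ1 h1 z = 0) : proj f F η ξ2 h2 z = 0 := by
  subst e
  exact hz

end Cast

section Main

variable {X Y X' Y' : Scheme.{u}} (f : X ⟶ Y) [IsFinite f] (g : Y' ⟶ Y) (f' : X' ⟶ Y')
  (g' : X' ⟶ X) (h : IsPullback g' f' f g) {Ω : Type u} [Field Ω] [IsAlgClosed Ω]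

include h in
lemma isFinite_of_isPullback : IsFinite f' :=
  MorphismProperty.of_isPullback (P := @IsFinite) h inferInstance

/-- element form of the key identity -/
lemma key_identity_apply (w : g' ≫ f = f' ≫ g) (F : EtCoh.Ab X) (η' : Spec (.of Ω) ⟶ Y')
    (ξ' : Spec (.of Ω) ⟶ X')
    (hξ' : ξ' ≫ f' = η') (hξ : (ξ' ≫ g') ≫ f = η' ≫ g)
    (z : ToType ((EtCoh.stalk (η' ≫ g)).obj ((EtCoh.push f).obj F))) :
    proj f' ((EtCoh.pull g').obj F) η' ξ' hξ'
      ((EtCoh.stalk η').map (EtCoh.baseChange0 f g f' g' w F)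
        ((Groth.Agent.H7.ST.stalkPullIso g η').inv.app ((EtCoh.push f).obj F) z)) =
    (Groth.Agent.H7.ST.stalkPullIso g' ξ').inv.app F (proj f F (η' ≫ g) (ξ' ≫ g') hξ z) :=
  ConcreteCategory.congr_hom (key_identity f g f' g' w F η' ξ' hξ' hξ) z

theorem stalk_baseChange0_injective (F : EtCoh.Ab X) (η' : Spec (.of Ω) ⟶ Y') :
    Function.Injective ((EtCoh.stalk η').map (EtCoh.baseChange0 f g f' g' h.w F)) := by
  rw [injective_iff_map_eq_zero]
  intro y hy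
  obtain ⟨z, rfl⟩ : ∃ z, (Groth.Agent.H7.ST.stalkPullIso g η').inv.app ((EtCoh.push f).obj F) z = y :=
    ⟨(Groth.Agent.H7.ST.stalkPullIso g η').hom.app ((EtCoh.push f).obj F) y,
      ConcreteCategory.congr_hom
        ((Groth.Agent.H7.ST.stalkPullIso g η').hom_inv_id_app ((EtCoh.push f).obj F)) y⟩
  have hz : z = 0 := by
    apply proj_injective f F (η' ≫ g) z
    intro ξ hξ
    have e1 : h.lift ξ η' hξ ≫ g' = ξ := h.lift_fst _ _ _
    have e2 : h.lift ξ η' hξ ≫ f' = η' := h.lift_snd _ _ _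
    have hξ2 : (h.lift ξ η' hξ ≫ g') ≫ f = η' ≫ g := by rw [e1]; exact hξ
    have hk := key_identity_apply f g f' g' h.w F η' (h.lift ξ η' hξ) e2 hξ2 z
    rw [hy, map_zero] at hk
    have hinj : Function.Injective
        ((Groth.Agent.H7.ST.stalkPullIso g' (h.lift ξ η' hξ)).inv.app F) :=
      ((ConcreteCategory.isIso_iff_bijective _).1 inferInstance).1
    have h0 : proj f F (η' ≫ g) (h.lift ξ η' hξ ≫ g') hξ2 z = 0 :=
      hinj (hk.symm.trans (map_zero _).symm)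
    exact proj_eq_zero_of_eq f F (η' ≫ g) e1 hξ2 hξ z h0
  rw [hz, map_zero]

omit [IsFinite f] in
/-- compatibility of the casts -/
lemma cast_compat (F : EtCoh.Ab X) (η' : Spec (.of Ω) ⟶ Y') {ξ1 ξ2 : Spec (.of Ω) ⟶ X'}
    (e' : ξ1 = ξ2) (e : ξ1 ≫ g' = ξ2 ≫ g') (h1 : ξ1 ≫ f' = η') (h2 : ξ2 ≫ f' = η')
    (y : ToType ((EtCoh.stalk η').obj ((EtCoh.push f').obj ((EtCoh.pull g').obj F)))) :
    castStalk F e ((Groth.Agent.H7.ST.stalkPullIso g' ξ1).hom.app F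
      (proj f' ((EtCoh.pull g').obj F) η' ξ1 h1 y)) =
    (Groth.Agent.H7.ST.stalkPullIso g' ξ2).hom.app F
      (proj f' ((EtCoh.pull g').obj F) η' ξ2 h2 y) := by
  subst e'
  simp [castStalk]

theorem stalk_baseChange0_surjective (F : EtCoh.Ab X) (η' : Spec (.of Ω) ⟶ Y') :
    Function.Surjective ((EtCoh.stalk η').map (EtCoh.baseChange0 f g f' g' h.w F)) := by
  haveI : IsFinite f' := isFinite_of_isPullback f g f' g' h
  intro y
  -- the family of germs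
  have e1 : ∀ ξ : {ξ : Spec (.of Ω) ⟶ X // ξ ≫ f = η' ≫ g}, h.lift ξ.1 η' ξ.2 ≫ g' = ξ.1 :=
    fun ξ => h.lift_fst _ _ _
  have e2 : ∀ ξ : {ξ : Spec (.of Ω) ⟶ X // ξ ≫ f = η' ≫ g}, h.lift ξ.1 η' ξ.2 ≫ f' = η' :=
    fun ξ => h.lift_snd _ _ _
  obtain ⟨z, hz⟩ := proj_surjective f F (η' ≫ g)
    (fun ξ => castStalk F (e1 ξ) ((Groth.Agent.H7.ST.stalkPullIso g' (h.lift ξ.1 η' ξ.2)).hom.app F
      (proj f' ((EtCoh.pull g').obj F) η' (h.lift ξ.1 η' ξ.2) (e2 ξ) y)))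
  refine ⟨(Groth.Agent.H7.ST.stalkPullIso g η').inv.app ((EtCoh.push f).obj F) z, ?_⟩
  rw [← sub_eq_zero]
  apply proj_injective f' ((EtCoh.pull g').obj F) η'
  intro ξ' hξ'
  rw [map_sub, sub_eq_zero]
  have hξ : (ξ' ≫ g') ≫ f = η' ≫ g := by
    rw [Category.assoc, h.w, ← Category.assoc, hξ']
  rw [key_identity_apply f g f' g' h.w F η' ξ' hξ' hξ z]
  have hz' := hz ⟨ξ' ≫ g', hξ⟩
  have el : h.lift (ξ' ≫ g') η' hξ = ξ' := by
    apply h.hom_ext
    · exact h.lift_fst _ _ _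
    · exact (h.lift_snd _ _ _).trans hξ'.symm
  have hc := cast_compat f' g' F η' el (e1 ⟨ξ' ≫ g', hξ⟩) (e2 ⟨ξ' ≫ g', hξ⟩) hξ' y
  rw [hz', hc]
  exact ConcreteCategory.congr_hom
    ((Groth.Agent.H7.ST.stalkPullIso g' ξ').hom_inv_id_app F) _

/-- The chosen algebraically closed geometric point over a point of a scheme. -/
noncomputable abbrev algξ (Z : Scheme.{u}) (x : Z) :
    Spec (CommRingCat.of (AlgebraicClosure (Z.residueField x))) ⟶ Z :=
  (Scheme.SpecToEquivOfField (AlgebraicClosure (Z.residueField x)) _).2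
    ⟨x, CommRingCat.ofHom (algebraMap (Z.residueField x) _)⟩

lemma algξ_default (Z : Scheme.{u}) (x : Z) : (algξ Z x) default = x := by
  simp [algξ, Scheme.SpecToEquivOfField]

lemma iUnion_range_algξ (Z : Scheme.{u}) : ⋃ x : Z, Set.range (algξ Z x) = Set.univ := by
  ext y
  simp only [Set.mem_iUnion, Set.mem_range, Set.mem_univ, iff_true]
  exact ⟨y, default, algξ_default Z y⟩

/-- **Finite base change in degree zero.** -/
theorem S0621_main (F : EtCoh.Ab X) : IsIso (EtCoh.baseChange0 f g f' g' h.w F) := by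
  haveI : Mono (EtCoh.baseChange0 f g f' g' h.w F) :=
    Groth.Agent.H7.ST.ab_mono_of_family (fun y' : Y' => algξ Y' y') (iUnion_range_algξ Y') _
      (fun y' => stalk_baseChange0_injective f g f' g' h F (algξ Y' y'))
  haveI : Epi (EtCoh.baseChange0 f g f' g' h.w F) :=
    Groth.Agent.H7.ST.ab_epi_of_family (fun y' : Y' => algξ Y' y') (iUnion_range_algξ Y') _
      (fun y' => stalk_baseChange0_surjective f g f' g' h F (algξ Y' y'))
  exact isIso_of_mono_of_epi _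

end Main

end Groth.Agent.H2.FinBC
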