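import Mathlib
import Groth.Prelude.Def_PBC
import Groth.Agent.Lib.Helper2.FEtCntD
import Groth.Agent.Lib.Helper2.FEtPushF
import Groth.Agent.Lib.Helper2.FLCLocA
import Groth.Agent.Lib.Helper2.RedImmA
import Groth.Agent.Lib.Helper2.StrataG
import Groth.Agent.Lib.Helper2.StrataF
import Groth.Agent.Lib.Helper2.FinBCC
import Groth.Agent.Lib.Helper2.SubFLCE
import Groth.Agent.H4.SmRed2

set_option autoImplicit false
set_option linter.style.haveILetI false
set_option linter.unusedVariables false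
set_option linter.unusedSectionVars false
universe u
open CategoryTheory CategoryTheory.Limits AlgebraicGeometry TopologicalSpace Opposite

namespace Groth.Agent.H2.FEtCons

open Groth.Agent.H2.Strata Groth.Agent.H2.FEtCnt

variable {X Y : Scheme.{u}} (f : X ⟶ Y) [IsFinite f] [Etale f]

/-- Pushforward along a finite étale morphism, pulled back to a reduced stratum of the base over
which the strata of `F` are relatively open, is finite locally constant. -/
theorem isFLC_pull_push (F : EtCoh.Ab X) {N : ℕ} (T : Fin N → Scheme.{u}) (g : ∀ b, T b ⟶ X)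
    (hgi : ∀ b, IsImmersion (g b)) (hgu : (⋃ b, Set.range (g b)) = Set.univ)
    (hgF : ∀ b, EtCoh.IsFiniteLocallyConstant ((EtCoh.pull (g b)).obj F))
    {Tt : Scheme.{u}} (et : Tt ⟶ Y) [AlgebraicGeometry.IsReduced Tt]
    (hΩ : ∀ b, ∃ Ω : X.Opens, Set.range (g b) ∩ f.base ⁻¹' Set.range et =
      (Ω : Set X) ∩ f.base ⁻¹' Set.range et) :
    EtCoh.IsFiniteLocallyConstant ((EtCoh.pull et).obj ((EtCoh.push f).obj F)) := by
  let g' : pullback f et ⟶ X := pullback.fst f et
  let f' : pullback f et ⟶ Tt := pullback.snd f et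
  have hpb : IsPullback g' f' f et := IsPullback.of_hasPullback f et
  haveI : IsIso (EtCoh.baseChange0 f et f' g' hpb.w F) :=
    Groth.Agent.H2.FinBC.S0621_main f et f' g' hpb F
  refine isFiniteLocallyConstant_of_iso (asIso (EtCoh.baseChange0 f et f' g' hpb.w F)).symm ?_
  haveI : IsFinite f' := inferInstanceAs (IsFinite (pullback.snd f et))
  haveI : Etale f' := inferInstanceAs (Etale (pullback.snd f et))
  refine Groth.Agent.H2.FEtPush.S0106_main f' _ ?_
  haveI : AlgebraicGeometry.IsReduced (pullback f et) :=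
    Groth.Agent.H4.SmRed.isReduced_of_smooth_scheme f'
  choose Ω hΩeq using hΩ
  let Ω' : Fin N → (pullback f et).Opens := fun b => g' ⁻¹ᵁ Ω b
  have hmem : ∀ x' : ↥(pullback f et), f.base (g'.base x') ∈ Set.range et := by
    intro x'
    refine ⟨f'.base x', ?_⟩
    have := congrArg (fun m => m.base x') hpb.w
    exact this.symm
  refine Groth.Agent.H2.FLCLoc.isFLC_of_openCover _ Ω' ?_ ?_
  · intro x'
    have hx : g'.base x' ∈ ⋃ b, Set.range (g b) := by rw [hgu]; trivial
    obtain ⟨b, hb⟩ := Set.mem_iUnion.1 hx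
    refine ⟨b, ?_⟩
    have : g'.base x' ∈ (Ω b : Set X) ∩ f.base ⁻¹' Set.range et := by
      rw [← hΩeq b]
      exact ⟨hb, hmem x'⟩
    exact this.1
  · intro b
    let h : (Ω' b).toScheme ⟶ X := (Ω' b).ι ≫ g'
    haveI : AlgebraicGeometry.IsReduced (Ω' b).toScheme := isReduced_of_isOpenImmersion (Ω' b).ι
    have hr : Set.range h ⊆ Set.range (g b) := by
      rintro _ ⟨z, rfl⟩
      have hz : g'.base z.1 ∈ (Ω b : Set X) ∩ f.base ⁻¹' Set.range et := ⟨z.2, hmem z.1⟩
      rw [← hΩeq b] at hz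
      exact hz.1
    haveI := hgi b
    obtain ⟨l, hl⟩ := Groth.Agent.H2.RedImm.exists_fac_of_reduced (g b) h hr
    have h1 : EtCoh.IsFiniteLocallyConstant ((EtCoh.pull h).obj F) :=
      isFLC_pull_of_comp'' l (g b) h hl.symm F (hgF b)
    exact isFiniteLocallyConstant_of_iso ((pullCompIsoAb (Ω' b).ι g').app F) h1

/-- The case of an affine base. -/
theorem adaptedStrata_push [IsAffine Y] (F : EtCoh.Ab X) (hF : EtPBC.IsConstructible F) :
    EtPBC.AdaptedStrata ((EtCoh.push f).obj F) (Set.univ : Set Y) := by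
  haveI : IsAffine X := isAffine_of_isAffineHom f
  obtain ⟨N, T, g, hgi, hgc, hgd, hgu, hgF⟩ := (S0128_main X F).1 hF
  have hcons : ∀ b, Topology.IsConstructible (Set.range (g b)) := by
    intro b
    have hval : Topology.IsOpenEmbedding (Subtype.val : ↥(Set.univ : Set X) → X) :=
      isOpen_univ.isOpenEmbedding_subtypeVal
    refine (Topology.isConstructible_preimage_iff_of_isOpenEmbedding hval ?_ ?_).1 (hgc b)
    · rw [Subtype.range_coe]; exact IsRetrocompact.univ
    · rw [Subtype.range_coe]; exact Set.subset_univ _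
  obtain ⟨τ, hτ, A, B, hPc, hPd, hPu, hΩ⟩ :=
    exists_partition (f := f) (fun b => Set.range (g b)) hcons
  have hstr : ∀ t : τ, ∃ (Tt : Scheme.{u}) (e : Tt ⟶ Y), IsImmersion e ∧
      AlgebraicGeometry.IsReduced Tt ∧ Set.range e = (A t : Set Y) \ (B t : Set Y) := by
    intro t
    obtain ⟨Tt, e, h1, h2, h3⟩ := Groth.Agent.H2.RedImm.exists_reduced_immersion_range (A t)
      ⟨(B t : Set Y)ᶜ, (B t).isOpen.isClosed_compl⟩
    exact ⟨Tt, e, h1, h2, h3⟩
  choose Tt e he1 he2 he3 using hstr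
  change HasStrata (fun T g => ∀ [EtCoh.BCCont g],
    EtCoh.IsFiniteLocallyConstant ((EtCoh.pull g).obj ((EtCoh.push f).obj F))) Set.univ
  refine HasStrata.of_finite Tt e he1 ?_ ?_ ?_ ?_
  · intro t
    have hval : Topology.IsOpenEmbedding (Subtype.val : ↥(Set.univ : Set Y) → Y) :=
      isOpen_univ.isOpenEmbedding_subtypeVal
    have : Topology.IsConstructible (Set.range (e t)) := by rw [he3]; exact hPc t
    exact this.preimage_of_isOpenEmbedding hval
  · intro t t' htt'
    rw [he3, he3]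
    exact hPd htt'
  · rw [← hPu]
    exact Set.iUnion_congr he3
  · intro t _
    haveI := he2 t
    refine isFLC_pull_push f F T g hgi hgu (fun b => hgF b) (e t) (fun b => ?_)
    rw [he3]
    exact hΩ t b

/-- **Pushforward of a constructible sheaf along a finite étale morphism is constructible.** -/
theorem S0136_main (F : EtCoh.Ab X) (hF : EtPBC.IsConstructible F) :
    EtPBC.IsConstructible ((EtCoh.push f).obj F) := by
  refine S0129_main _ (ι := Y.affineOpens) (fun V => V.1) ?_ ?_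
  · rw [eq_top_iff]
    intro y _
    obtain ⟨_, ⟨V, hV : IsAffineOpen V, rfl⟩, hyV, -⟩ :=
      Y.isBasis_affineOpens.exists_subset_of_mem_open (Set.mem_univ y) isOpen_univ
    exact Opens.mem_iSup.2 ⟨⟨V, hV⟩, hyV⟩
  · rintro ⟨V, hV⟩
    have hpb : IsPullback (f ⁻¹ᵁ V).ι (f ∣_ V) f V.ι := (isPullback_morphismRestrict f V).flip
    haveI : IsIso (EtCoh.baseChange0 f V.ι (f ∣_ V) (f ⁻¹ᵁ V).ι hpb.w F) :=
      Groth.Agent.H2.FinBC.S0621_main f V.ι (f ∣_ V) (f ⁻¹ᵁ V).ι hpb F
    refine Groth.Agent.H2.SubFLC.isConstructible_of_iso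
      (asIso (EtCoh.baseChange0 f V.ι (f ∣_ V) (f ⁻¹ᵁ V).ι hpb.w F)).symm ?_
    haveI : IsAffine V.toScheme := hV
    have hF' : EtPBC.IsConstructible ((EtCoh.pull (f ⁻¹ᵁ V).ι).obj F) :=
      S0127_main (f ⁻¹ᵁ V).ι F hF
    exact (S0128_main _ _).2 (adaptedStrata_push (f ∣_ V) _ hF')

end Groth.Agent.H2.FEtCons
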