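import Mathlib

namespace Groth.Agent.H2.FGAlgClosure

open MvPolynomial

universe u

/-- linear independence over polynomial subring -/
theorem linearIndependent_adjoin {k k' K : Type*} [Field k] [Field k'] [Field K] [Algebra k k']
    [Algebra k K] [Algebra k' K] [IsScalarTower k k' K]
    {ι κ : Type*} (x : ι → K) (hx : AlgebraicIndependent k' x) (a : κ → k')
    (ha : LinearIndependent k a) :
    LinearIndependent (Algebra.adjoin k (Set.range x)) (fun i => (algebraMap k' K (a i))) := by
  classical
  rw [linearIndependent_iff']
  intro s g hg i hi
  have hmem : ∀ j, ∃ p : MvPolynomial ι k, aeval x p = (g j : K) := by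
    intro j
    have h2 : (g j : K) ∈ (aeval x : MvPolynomial ι k →ₐ[k] K).range := by
      rw [← Algebra.adjoin_range_eq_range_aeval]
      exact (g j).2
    exact h2
  choose p hp using hmem
  set P : MvPolynomial ι k' := ∑ j ∈ s, C (a j) * map (algebraMap k k') (p j) with hP
  have hP0 : aeval x P = 0 := by
    rw [hP, map_sum, ← hg]
    refine Finset.sum_congr rfl fun j _ => ?_
    rw [map_mul, aeval_C, aeval_map_algebraMap, hp j, mul_comm]
    rfl
  have hPz : P = 0 := by
    apply hx
    rw [hP0, map_zero]
  have hcoef : ∀ m, ∀ j ∈ s, coeff m (p j) = 0 := by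
    intro m
    have h1 : ∑ j ∈ s, coeff m (p j) • a j = 0 := by
      have := congrArg (coeff m) hPz
      rw [hP, coeff_sum] at this
      simpa [coeff_C_mul, coeff_map, Algebra.smul_def, mul_comm] using this
    exact linearIndependent_iff'.mp ha s (fun j => coeff m (p j)) h1
  have hpi : p i = 0 := by
    ext m; simp [hcoef m i hi]
  apply Subtype.ext
  rw [← hp i, hpi, map_zero]; rfl

theorem main {k K : Type u} [Field k] [Field K] [Algebra k K]
    (hfg : (⊤ : IntermediateField k K).FG) :
    FiniteDimensional k (algebraicClosure k K) := by
  classical
  obtain ⟨S, hS⟩ := hfg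
  -- K algebraic over Algebra.adjoin k S
  have halg : Algebra.IsAlgebraic (Algebra.adjoin k (S : Set K)) K := by
    constructor
    intro z
    have hz : z ∈ IntermediateField.adjoin k (S : Set K) := by rw [hS]; trivial
    obtain ⟨r, hr, s, hs, rfl⟩ := IntermediateField.mem_adjoin_iff_div.mp hz
    by_cases hs0 : s = 0
    · subst hs0
      simp only [div_zero]
      exact isAlgebraic_zero
    · refine ⟨Polynomial.C ⟨s, hs⟩ * Polynomial.X - Polynomial.C ⟨r, hr⟩, ?_, ?_⟩
      · intro h
        have := congrArg (fun q => Polynomial.coeff q 1) h
        simp only [Polynomial.coeff_sub, Polynomial.coeff_C_mul, Polynomial.coeff_X_one, mul_one,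
          Polynomial.coeff_C, one_ne_zero, if_false, sub_zero, Polynomial.coeff_zero] at this
        exact hs0 (congrArg Subtype.val this)
      · simp only [map_sub, map_mul, Polynomial.aeval_C, Polynomial.aeval_X]
        change s * (r / s) - r = 0
        field_simp
        ring
  obtain ⟨t, hts, ht⟩ := exists_isTranscendenceBasis_subset (R := k) (S : Set K)
  have htfin : t.Finite := S.finite_toSet.subset hts
  set x : t → K := (↑) with hx
  set E := IntermediateField.adjoin k (Set.range x) with hE
  have hKE : Algebra.IsAlgebraic E K := ht.isAlgebraic_field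
  -- K finite over E
  have hfinKE : FiniteDimensional E K := by
    have htop : IntermediateField.adjoin E (S : Set K) = ⊤ := by
      rw [eq_top_iff]
      intro z _
      have hz : z ∈ IntermediateField.adjoin k (S : Set K) := by rw [hS]; trivial
      have hle : IntermediateField.adjoin k (S : Set K) ≤
          (IntermediateField.adjoin E (S : Set K)).restrictScalars k := by
        rw [IntermediateField.adjoin_le_iff]
        intro y hy
        exact IntermediateField.subset_adjoin E _ hy
      exact hle hz
    have h2 : FiniteDimensional E (IntermediateField.adjoin E (S : Set K)) :=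
      IntermediateField.finiteDimensional_adjoin (fun z _ => (hKE.isAlgebraic z).isIntegral)
    rw [htop] at h2
    exact Module.Finite.equiv (IntermediateField.topEquiv (F := E) (E := K)).toLinearEquiv
  -- basis of k' over k
  set k' := algebraicClosure k K with hk'
  let b := Module.Free.chooseBasis k k'
  have hxk' : AlgebraicIndependent k' x := ht.1.extendScalars k'
  have hli := linearIndependent_adjoin (k := k) x hxk' b b.linearIndependent
  open scoped IntermediateField.algebraAdjoinAdjoin in
  have hliE : LinearIndependent E (fun i => algebraMap k' K (b i)) :=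
    (LinearIndependent.iff_fractionRing (Algebra.adjoin k (Set.range x)) E).mp hli
  have hcard := hliE.cardinal_lift_le_rank
  have hfin : Finite (Module.Free.ChooseBasisIndex k k') := by
    rw [← Cardinal.lt_aleph0_iff_finite, ← Cardinal.lift_lt_aleph0]
    refine lt_of_le_of_lt hcard ?_
    rw [Cardinal.lift_lt_aleph0]
    exact Module.rank_lt_aleph0 E K
  exact Module.Finite.of_basis b

end Groth.Agent.H2.FGAlgClosure
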