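import Mathlib

/-! A module is the filtered colimit of its finitely generated submodules; functors commuting with
filtered colimits vanish on a module as soon as they vanish on its finitely generated submodules. -/

universe u

namespace Groth.Agent.H2.FGColimit

open CategoryTheory CategoryTheory.Limits

variable {A : Type u} [CommRing A] (X : Type u) [AddCommGroup X] [Module A X]

/-- The directed set of finitely generated submodules. -/
abbrev FGSub : Type u := {X' : Submodule A X // X'.FG}

instance : Nonempty (FGSub (A := A) X) := ⟨⟨⊥, Submodule.fg_bot⟩⟩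

instance : IsDirected (FGSub (A := A) X) (· ≤ ·) :=
  ⟨fun a b => ⟨⟨a.1 ⊔ b.1, a.2.sup b.2⟩, le_sup_left, le_sup_right⟩⟩

/-- The diagram of finitely generated submodules. -/
noncomputable def fgFunctor : FGSub (A := A) X ⥤ ModuleCat.{u} A where
  obj j := ModuleCat.of A j.1
  map f := ModuleCat.ofHom (Submodule.inclusion (leOfHom f))
  map_id j := by
    ext x
    rfl
  map_comp f g := by
    ext x
    rfl

/-- The cocone of inclusions. -/
noncomputable def fgCocone : Cocone (fgFunctor (A := A) X) where
  pt := ModuleCat.of A X
  ι :=
    { app := fun j => ModuleCat.ofHom j.1.subtype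
      naturality := fun j k f => by
        ext x
        rfl }

/-- A module is the colimit of its finitely generated submodules. -/
noncomputable def fgIsColimit : IsColimit (fgCocone (A := A) X) := by
  apply isColimitOfReflects (forget (ModuleCat.{u} A))
  apply Types.FilteredColimit.isColimitOf
  · intro (x : X)
    exact ⟨⟨Submodule.span A {x}, Submodule.fg_span_singleton x⟩,
      ⟨x, Submodule.mem_span_singleton_self x⟩, rfl⟩
  · intro i j xi xj hij
    refine ⟨⟨i.1 ⊔ j.1, i.2.sup j.2⟩, homOfLE le_sup_left, homOfLE le_sup_right, ?_⟩
    apply Subtype.ext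
    exact hij

/-- A functor preserving filtered colimits vanishes on a module as soon as it vanishes on all of
its finitely generated submodules. -/
theorem isZero_of_forall_fg (T : ModuleCat.{u} A ⥤ ModuleCat.{u} A)
    [PreservesColimitsOfShape (FGSub (A := A) X) T]
    (h : ∀ X' : Submodule A X, X'.FG → IsZero (T.obj (ModuleCat.of A X'))) :
    IsZero (T.obj (ModuleCat.of A X)) := by
  have hc := isColimitOfPreserves T (fgIsColimit (A := A) X)
  have hsub : Subsingleton (T.obj (ModuleCat.of A X)) := by
    refine ⟨fun a b => ?_⟩
    have h0 : ∀ z : T.obj (ModuleCat.of A X), z = 0 := by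
      intro z
      obtain ⟨j, y, hy⟩ := Concrete.isColimit_exists_rep (fgFunctor (A := A) X ⋙ T) hc z
      have hsub' : Subsingleton (T.obj (ModuleCat.of A j.1)) :=
        ModuleCat.subsingleton_of_isZero (h j.1 j.2)
      have hy0 : y = (0 : T.obj (ModuleCat.of A j.1)) :=
        Subsingleton.elim (α := T.obj (ModuleCat.of A j.1)) y 0
      rw [← hy, hy0]
      exact map_zero (T.map (ModuleCat.ofHom j.1.subtype)).hom
    rw [h0 a, h0 b]
  exact ModuleCat.isZero_of_subsingleton _

end Groth.Agent.H2.FGColimit
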