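import Mathlib

/-!
Inverse for a one-dimensional formal group law.
-/

namespace Groth.Agent.H2.FGInv

open MvPowerSeries

universe u

variable {R : Type u} [CommRing R] {τ : Type*}

/-- ideal of power series of order `≥ n` -/
def ordIdeal (τ : Type*) (R : Type u) [CommRing R] (n : ℕ) : Ideal (MvPowerSeries τ R) where
  carrier := {f | (n : ℕ∞) ≤ f.order}
  add_mem' := fun {a b} ha hb => le_trans (le_min ha hb) min_order_le_add
  zero_mem' := by simp [order_zero]
  smul_mem' := fun c f hf => by
    change (n : ℕ∞) ≤ (c * f).order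
    exact le_trans (le_trans hf le_add_self) le_order_mul

theorem mem_ordIdeal {n : ℕ} {f : MvPowerSeries τ R} : f ∈ ordIdeal τ R n ↔ (n : ℕ∞) ≤ f.order :=
  Iff.rfl

theorem ordIdeal_mono {n m : ℕ} (h : n ≤ m) : ordIdeal τ R m ≤ ordIdeal τ R n := by
  intro f hf
  rw [mem_ordIdeal] at hf ⊢
  exact le_trans (by exact_mod_cast h) hf

theorem eq_zero_of_forall_mem {f : MvPowerSeries τ R} (h : ∀ n, f ∈ ordIdeal τ R n) : f = 0 := by
  rw [← order_eq_top_iff, ENat.eq_top_iff_forall_ge]
  intro n
  exact h n

/-- substitution respects congruences modulo `ordIdeal n` -/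
theorem subst_congr {σ : Type*} {n : ℕ} (a a' : σ → MvPowerSeries τ R) (ha : HasSubst a)
    (ha' : HasSubst a') (h : ∀ s, a s - a' s ∈ ordIdeal τ R n) (P : MvPowerSeries σ R) :
    P.subst a - P.subst a' ∈ ordIdeal τ R n := by
  rw [mem_ordIdeal]
  apply nat_le_order
  intro e he
  rw [map_sub, coeff_subst ha, coeff_subst ha', sub_eq_zero]
  congr 1
  ext d
  congr 1
  have hq : ∀ s, Ideal.Quotient.mk (ordIdeal τ R n) (a s) = Ideal.Quotient.mk (ordIdeal τ R n) (a' s) :=
    fun s => Ideal.Quotient.eq.mpr (h s)
  have hprod : (d.prod fun s k => a s ^ k) - (d.prod fun s k => a' s ^ k) ∈ ordIdeal τ R n := by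
    rw [← Ideal.Quotient.eq, Finsupp.prod, Finsupp.prod, map_prod, map_prod]
    apply Finset.prod_congr rfl
    intro s _
    rw [map_pow, map_pow, hq s]
  rw [mem_ordIdeal] at hprod
  have := coeff_of_lt_order (f := (d.prod fun s k => a s ^ k) - (d.prod fun s k => a' s ^ k))
    (d := e) (lt_of_lt_of_le (by exact_mod_cast he) hprod)
  rwa [map_sub, sub_eq_zero] at this

variable (F : FormalGroup R)

theorem hasSubst_pair {a b : MvPowerSeries τ R} (ha : constantCoeff a = 0)
    (hb : constantCoeff b = 0) : HasSubst ![a, b] :=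
  hasSubst_of_constantCoeff_zero fun s => by fin_cases s <;> simp [ha, hb]

theorem constantCoeff_subst_pair {a b : MvPowerSeries τ R} (ha : constantCoeff a = 0)
    (hb : constantCoeff b = 0) : constantCoeff (F.toPowerSeries.subst ![a, b]) = 0 :=
  constantCoeff_subst_eq_zero (hasSubst_pair ha hb) (fun s => by fin_cases s <;> simp [ha, hb])
    F.zero_constantCoeff

/-- the higher-order part of `F` -/
noncomputable def Q : MvPowerSeries (Fin 2) R := F.toPowerSeries - X 0 - X 1

theorem two_le_order_Q : (2 : ℕ∞) ≤ (Q F).order := by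
  classical
  have : ((2 : ℕ) : ℕ∞) ≤ (Q F).order := by
    apply nat_le_order
    intro d hd
    have hd' : d.degree = 0 ∨ d.degree = 1 := by omega
    rcases hd' with h0 | h1
    · rw [Finsupp.degree_eq_zero_iff] at h0
      subst h0
      simp [Q, F.zero_constantCoeff, coeff_zero_eq_constantCoeff]
    · obtain ⟨i, rfl⟩ : ∃ i, d = Finsupp.single i 1 := by
        have := Finsupp.range_single_one (σ := Fin 2)
        have hm : d ∈ {d : Fin 2 →₀ ℕ | d.degree = 1} := h1
        rw [← this] at hm
        obtain ⟨i, hi⟩ := hm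
        exact ⟨i, hi.symm⟩
      fin_cases i
      · simp [Q, F.lin_coeff_X, coeff_X, Finsupp.single_left_inj]
      · simp [Q, F.lin_coeff_Y, coeff_X, Finsupp.single_left_inj]
  exact_mod_cast this

theorem subst_eq {a b : MvPowerSeries τ R} (ha : constantCoeff a = 0) (hb : constantCoeff b = 0) :
    F.toPowerSeries.subst ![a, b] = (Q F).subst ![a, b] + a + b := by
  have hs := hasSubst_pair ha hb
  rw [Q, subst_sub hs, subst_sub hs, subst_X hs, subst_X hs]
  simp only [Matrix.cons_val_zero, Matrix.cons_val_one, Matrix.cons_val_fin_one]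
  ring

/-- `F(e, -e)` has order at least `n + 2` when `e` has order at least `n + 1` -/
theorem subst_neg_mem {n : ℕ} {e : MvPowerSeries τ R} (he : e ∈ ordIdeal τ R (n + 1)) :
    F.toPowerSeries.subst ![e, -e] ∈ ordIdeal τ R (n + 2) := by
  have he0 : constantCoeff e = 0 := by
    rw [← one_le_order_iff_constCoeff_eq_zero]
    rw [mem_ordIdeal] at he
    refine le_trans ?_ he
    exact_mod_cast Nat.le_add_left 1 n
  have hne0 : constantCoeff (-e) = 0 := by rw [map_neg, he0, neg_zero]
  rw [subst_eq F he0 hne0, add_assoc, add_neg_cancel, add_zero, mem_ordIdeal]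
  have h1 := le_order_subst (hasSubst_pair he0 hne0) (Q F)
  refine le_trans ?_ h1
  have hinf : ((n + 1 : ℕ) : ℕ∞) ≤ ⨅ i, (![e, -e] i).order := by
    apply le_iInf
    intro i
    fin_cases i
    · exact mem_ordIdeal.mp he
    · simpa [order_neg] using mem_ordIdeal.mp he
  calc ((n + 2 : ℕ) : ℕ∞) ≤ ((n + 1 : ℕ) : ℕ∞) * 2 := by
        have : n + 2 ≤ (n + 1) * 2 := by omega
        exact_mod_cast this
    _ ≤ _ := mul_le_mul' hinf (two_le_order_Q F)

variable (y : MvPowerSeries τ R)

/-- approximations to the right inverse of `y` -/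
noncomputable def gseq : ℕ → MvPowerSeries τ R
  | 0 => 0
  | n + 1 => F.toPowerSeries.subst ![gseq n, -(F.toPowerSeries.subst ![y, gseq n])]

theorem gseq_props (hy : constantCoeff y = 0) (n : ℕ) :
    constantCoeff (gseq F y n) = 0 ∧
      F.toPowerSeries.subst ![y, gseq F y n] ∈ ordIdeal τ R (n + 1) ∧
      gseq F y (n + 1) - gseq F y n ∈ ordIdeal τ R (n + 1) := by
  have hyS : PowerSeries.HasSubst y := PowerSeries.HasSubst.of_constantCoeff_zero hy
  induction n with
  | zero =>
    have h0 : constantCoeff (gseq F y 0) = 0 := by simp [gseq]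
    have he : F.toPowerSeries.subst ![y, gseq F y 0] = y := by
      simp only [gseq]
      exact F.add_zero hyS
    have hemem : y ∈ ordIdeal τ R (0 + 1) := by
      rw [mem_ordIdeal]
      simpa using one_le_order_iff_constCoeff_eq_zero.mpr hy
    refine ⟨h0, by rw [he]; exact hemem, ?_⟩
    have h1 : gseq F y 1 = -y := by
      change F.toPowerSeries.subst ![gseq F y 0, -(F.toPowerSeries.subst ![y, gseq F y 0])] = -y
      rw [he]
      simp only [gseq]
      have : PowerSeries.HasSubst (-y) :=
        PowerSeries.HasSubst.of_constantCoeff_zero (by rw [map_neg, hy, neg_zero])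
      exact F.zero_add this
    rw [h1]
    simp only [gseq, sub_zero]
    exact (ordIdeal τ R (0 + 1)).neg_mem hemem
  | succ n ih =>
    obtain ⟨hg0, hemem, -⟩ := ih
    set g := gseq F y n with hg
    set e := F.toPowerSeries.subst ![y, g] with he
    have he0 : constantCoeff e = 0 := constantCoeff_subst_pair F hy hg0
    have hne0 : constantCoeff (-e) = 0 := by rw [map_neg, he0, neg_zero]
    have hg1 : gseq F y (n + 1) = F.toPowerSeries.subst ![g, -e] := rfl
    have hg10 : constantCoeff (gseq F y (n + 1)) = 0 := by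
      rw [hg1]; exact constantCoeff_subst_pair F hg0 hne0
    have hgS : PowerSeries.HasSubst g := PowerSeries.HasSubst.of_constantCoeff_zero hg0
    have hneS : PowerSeries.HasSubst (-e) := PowerSeries.HasSubst.of_constantCoeff_zero hne0
    have he1 : F.toPowerSeries.subst ![y, gseq F y (n + 1)] = F.toPowerSeries.subst ![e, -e] := by
      rw [hg1, ← F.assoc' hyS hgS hneS]
    refine ⟨hg10, ?_, ?_⟩
    · rw [he1]
      exact subst_neg_mem F hemem
    · -- g_{n+2} - g_{n+1} = F(g_{n+1}, -e_{n+1}) - F(g_{n+1}, 0)
      set g' := gseq F y (n + 1) with hg'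
      set e' := F.toPowerSeries.subst ![y, g'] with he'
      have he'mem : e' ∈ ordIdeal τ R (n + 1 + 1) := by
        rw [he1]; exact subst_neg_mem F hemem
      have he'0 : constantCoeff e' = 0 := constantCoeff_subst_pair F hy hg10
      have hne'0 : constantCoeff (-e') = 0 := by rw [map_neg, he'0, neg_zero]
      have hg2 : gseq F y (n + 1 + 1) = F.toPowerSeries.subst ![g', -e'] := rfl
      have hg'S : PowerSeries.HasSubst g' := PowerSeries.HasSubst.of_constantCoeff_zero hg10
      have hz : F.toPowerSeries.subst ![g', 0] = g' := F.add_zero hg'S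
      rw [hg2]
      nth_rw 2 [← hz]
      apply subst_congr _ _ (hasSubst_pair hg10 hne'0) (hasSubst_pair hg10 (map_zero _))
      intro s
      fin_cases s
      · simp
      · simpa using (ordIdeal τ R (n + 1 + 1)).neg_mem he'mem

theorem coeff_gseq_stab (hy : constantCoeff y = 0) (d : τ →₀ ℕ) (k : ℕ) (hk : d.degree ≤ k) :
    coeff d (gseq F y k) = coeff d (gseq F y d.degree) := by
  induction k with
  | zero =>
    have : d.degree = 0 := by omega
    rw [this]
  | succ k ih =>
    rcases Nat.lt_or_ge d.degree (k + 1) with hlt | hge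
    · have h1 := (gseq_props F y hy k).2.2
      rw [mem_ordIdeal] at h1
      have h2 := coeff_of_lt_order (f := gseq F y (k + 1) - gseq F y k) (d := d)
        (lt_of_lt_of_le (by exact_mod_cast hlt) h1)
      rw [map_sub, sub_eq_zero] at h2
      rw [h2, ih (by omega)]
    · have : d.degree = k + 1 := by omega
      rw [this]

/-- the limit of the approximations -/
noncomputable def glim : MvPowerSeries τ R := fun d => coeff d (gseq F y d.degree)

theorem coeff_glim (d : τ →₀ ℕ) : coeff d (glim F y) = coeff d (gseq F y d.degree) := rfl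

theorem glim_sub_mem (hy : constantCoeff y = 0) (n : ℕ) : glim F y - gseq F y n ∈ ordIdeal τ R n := by
  rw [mem_ordIdeal]
  apply nat_le_order
  intro d hd
  rw [map_sub, coeff_glim, coeff_gseq_stab F y hy d n hd.le, sub_self]

theorem constantCoeff_glim : constantCoeff (glim F y) = 0 := by
  rw [← coeff_zero_eq_constantCoeff_apply, coeff_glim]
  simp [gseq]

theorem subst_glim (hy : constantCoeff y = 0) : F.toPowerSeries.subst ![y, glim F y] = 0 := by
  apply eq_zero_of_forall_mem
  intro n
  have h1 := (gseq_props F y hy n).2.1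
  have h0 := (gseq_props F y hy n).1
  have h2 : F.toPowerSeries.subst ![y, glim F y] - F.toPowerSeries.subst ![y, gseq F y n] ∈
      ordIdeal τ R n := by
    apply subst_congr _ _ (hasSubst_pair hy (constantCoeff_glim F y)) (hasSubst_pair hy h0)
    intro s
    fin_cases s
    · simp
    · simpa using glim_sub_mem F y hy n
  have h3 := (ordIdeal τ R n).add_mem h2 (ordIdeal_mono (Nat.le_succ n) h1)
  simpa using h3

/-- every point with zero constant coefficient has a right inverse -/
theorem exists_right_inv (hy : constantCoeff y = 0) :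
    ∃ g : MvPowerSeries τ R, constantCoeff g = 0 ∧ F.toPowerSeries.subst ![y, g] = 0 :=
  ⟨glim F y, constantCoeff_glim F y, subst_glim F y hy⟩

end Groth.Agent.H2.FGInv
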