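import Mathlib

/-!
The multiplicative formal group law `S + T + μ S T` and truncated exponentials:
`F(S) F(T) - a₀² = F(S + T + μ S T) - a₀` iff `a₁ F = F' (1 + μ S)` for `deg F < p`, `(p-1)!` a unit.
-/

namespace Groth.Agent.H2.FGode

open Polynomial

universe u

variable {B : Type u} [CommRing B] (p : ℕ) [Fact p.Prime]

/-- coefficient form of `H * C c = H' * (1 + μ X)` -/
theorem coeff_ode (μ c : B) (H : B[X]) :
    H * C c = derivative H * (1 + C μ * X) ↔
      ∀ r : ℕ, H.coeff r * c = ((r : B) + 1) * H.coeff (r + 1) + (r : B) * μ * H.coeff r := by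
  rw [Polynomial.ext_iff]
  apply forall_congr'
  intro r
  rw [coeff_mul_C, mul_add, mul_one, coeff_add, coeff_derivative, ← mul_assoc, mul_comm _ (C μ),
    mul_assoc, coeff_C_mul]
  rcases Nat.eq_zero_or_pos r with h | h
  · subst h
    simp
  · obtain ⟨s, rfl⟩ := Nat.exists_eq_succ_of_ne_zero (by omega : r ≠ 0)
    rw [Nat.succ_eq_add_one, coeff_mul_X, coeff_derivative]
    constructor <;> intro h <;> (push_cast at h ⊢; linear_combination h)

theorem isUnit_cast (hu : IsUnit ((Nat.factorial (p - 1) : ℕ) : B)) (r : ℕ) (hr0 : 0 < r)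
    (hr : r < p) : IsUnit ((r : ℕ) : B) := by
  have hdvd : r ∣ (p - 1).factorial := Nat.dvd_factorial hr0 (by omega)
  obtain ⟨c, hc⟩ := hdvd
  rw [hc, Nat.cast_mul] at hu
  exact isUnit_of_mul_isUnit_left hu

/-- uniqueness for the ODE in degrees `< p` -/
theorem ode_unique (hu : IsUnit ((Nat.factorial (p - 1) : ℕ) : B)) (μ c : B) (H : B[X])
    (hH : H.natDegree < p) (h0 : H.coeff 0 = 0)
    (hode : H * C c = derivative H * (1 + C μ * X)) : H = 0 := by
  rw [coeff_ode] at hode
  ext r
  rw [coeff_zero]
  rcases Nat.lt_or_ge r p with hr | hr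
  · induction r with
    | zero => exact h0
    | succ r ih =>
      have h1 := hode r
      rw [ih (by omega)] at h1
      have hu' := isUnit_cast p hu (r + 1) (by omega) hr
      have h2 : ((r + 1 : ℕ) : B) * H.coeff (r + 1) = 0 := by
        push_cast
        linear_combination -h1
      exact (hu'.mul_right_eq_zero).mp h2
  · exact coeff_eq_zero_of_natDegree_lt (by omega)

/-- under the ODE, `(a₀ - 1) * a_r = 0` for `r ≥ 1` -/
theorem sub_one_mul_coeff (hu : IsUnit ((Nat.factorial (p - 1) : ℕ) : B)) (μ : B) (F : B[X])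
    (hF : F.natDegree < p)
    (hode : F * C (F.coeff 1) = derivative F * (1 + C μ * X)) (r : ℕ) (hr : 1 ≤ r) :
    (F.coeff 0 - 1) * F.coeff r = 0 := by
  rw [coeff_ode] at hode
  rcases Nat.lt_or_ge r p with hrp | hrp
  · induction r with
    | zero => omega
    | succ r ih =>
      rcases Nat.eq_zero_or_pos r with h | h
      · subst h
        have := hode 0
        simp at this
        simp only [zero_add]
        linear_combination this
      · have h1 := hode r
        have h2 := ih h (by omega)
        have hu' := isUnit_cast p hu (r + 1) (by omega) hrp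
        have h3 : ((r + 1 : ℕ) : B) * ((F.coeff 0 - 1) * F.coeff (r + 1)) = 0 := by
          push_cast
          linear_combination (-(F.coeff 0 - 1)) * h1 + (F.coeff 1 - (r : B) * μ) * h2
        exact (hu'.mul_right_eq_zero).mp h3
  · have h9 : F.coeff r = 0 := coeff_eq_zero_of_natDegree_lt (by omega)
    rw [h9, mul_zero]

theorem sub_one_mul_eval (hu : IsUnit ((Nat.factorial (p - 1) : ℕ) : B)) (μ : B) (F : B[X])
    (hF : F.natDegree < p)
    (hode : F * C (F.coeff 1) = derivative F * (1 + C μ * X)) (t : B) :
    (F.coeff 0 - 1) * (F.eval t - F.coeff 0) = 0 := by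
  have hpoly : C (F.coeff 0 - 1) * (F - C (F.coeff 0)) = 0 := by
    ext r
    rw [coeff_C_mul, coeff_sub, coeff_zero]
    rcases Nat.eq_zero_or_pos r with h | h
    · subst h; simp
    · rw [coeff_C, if_neg (by omega), sub_zero]
      exact sub_one_mul_coeff p hu μ F hF hode r h
  have := congrArg (Polynomial.eval t) hpoly
  simpa using this

/-- the functional equation in `B[X]` (second variable specialised to `t`) -/
theorem fun_eq_poly (hu : IsUnit ((Nat.factorial (p - 1) : ℕ) : B)) (μ : B) (F : B[X])
    (hF : F.natDegree < p)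
    (hode : F * C (F.coeff 1) = derivative F * (1 + C μ * X)) (t : B) :
    F * C (F.eval t) - C (F.coeff 0 ^ 2) = F.comp (C (1 + μ * t) * X + C t) - C (F.coeff 0) := by
  set V : B[X] := C (1 + μ * t) * X + C t with hV
  set H : B[X] := F * C (F.eval t) - C (F.coeff 0 ^ 2) - (F.comp V - C (F.coeff 0)) with hHdef
  have hVdeg : V.natDegree ≤ 1 := by
    rw [hV]
    refine (natDegree_add_le _ _).trans (max_le ?_ (by simp))
    exact (natDegree_C_mul_le _ _).trans natDegree_X_le
  have hcompdeg : (F.comp V).natDegree < p := by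
    refine lt_of_le_of_lt natDegree_comp_le ?_
    calc F.natDegree * V.natDegree ≤ F.natDegree * 1 := Nat.mul_le_mul_left _ hVdeg
      _ < p := by omega
  have hp1 : 0 < p := (Fact.out : p.Prime).pos
  have hHdeg : H.natDegree < p := by
    rw [hHdef]
    refine lt_of_le_of_lt (natDegree_sub_le _ _) (max_lt ?_ ?_)
    · refine lt_of_le_of_lt (natDegree_sub_le _ _) (max_lt ?_ (by rw [natDegree_C]; exact hp1))
      exact lt_of_le_of_lt (natDegree_mul_C_le _ _) hF
    · refine lt_of_le_of_lt (natDegree_sub_le _ _) (max_lt hcompdeg (by rw [natDegree_C]; exact hp1))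
  have hH0 : H.coeff 0 = 0 := by
    rw [coeff_zero_eq_eval_zero, hHdef]
    simp only [eval_sub, eval_mul, eval_C, eval_comp, hV, eval_add, eval_X, mul_zero, zero_add]
    rw [← coeff_zero_eq_eval_zero]
    linear_combination sub_one_mul_eval p hu μ F hF hode t
  have h01 : F.coeff 0 * F.coeff 1 = F.coeff 1 := by
    have := (coeff_ode μ (F.coeff 1) F).mp hode 0
    simpa using this
  have hVcomp : (1 + C μ * X : B[X]).comp V = C (1 + μ * t) * (1 + C μ * X) := by
    rw [hV]
    simp only [add_comp, one_comp, mul_comp, C_comp, X_comp, map_add, map_mul, map_one]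
    ring
  have hHode : H * C (F.coeff 1) = derivative H * (1 + C μ * X) := by
    have hd : derivative H = derivative F * C (F.eval t) - C (1 + μ * t) * (derivative F).comp V := by
      rw [hHdef]
      simp only [derivative_sub, derivative_mul, derivative_C, mul_zero, add_zero, sub_zero,
        derivative_comp]
      congr 2
      rw [hV]
      simp
    have hcomp : (F * C (F.coeff 1)).comp V = (derivative F * (1 + C μ * X)).comp V := by
      rw [hode]
    rw [mul_comp, mul_comp, C_comp, hVcomp] at hcomp
    rw [hd, hHdef]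
    have hC : (C (F.coeff 0 ^ 2) - C (F.coeff 0)) * C (F.coeff 1) = (0 : B[X]) := by
      rw [← C_sub, ← C_mul, ← C_0]
      congr 1
      linear_combination (F.coeff 0) * h01
    linear_combination (C (F.eval t)) * hode - hcomp - hC
  have := ode_unique p hu μ (F.coeff 1) H hHdeg hH0 hHode
  rw [hHdef] at this
  exact sub_eq_zero.mp this

end Groth.Agent.H2.FGode
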