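import Mathlib
import Groth.Prelude.Def_FSch4

/-!
# The graph of a morphism of formal systems is a closed immersion
-/

set_option autoImplicit false
universe u v w
open CategoryTheory CategoryTheory.Limits AlgebraicGeometry

namespace Groth.Agent.H2.FGraph

theorem isPullback_graph {C : Type v} [Category.{w} C] [HasPullbacks C] {X Y S X' Y' S' : C}
    (p : X ⟶ S) (q : Y ⟶ S) (f : X ⟶ Y) (w : f ≫ q = p)
    (p' : X' ⟶ S') (q' : Y' ⟶ S') (f' : X' ⟶ Y') (w' : f' ≫ q' = p')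
    (iX : X ⟶ X') (iY : Y ⟶ Y') (iS : S ⟶ S') [Mono iY]
    (hp : p ≫ iS = iX ≫ p') (hq : q ≫ iS = iY ≫ q') (hf : f ≫ iY = iX ≫ f') :
    IsPullback iX (pullback.lift (𝟙 X) f (by rw [Category.id_comp, w]))
      (pullback.lift (𝟙 X') f' (by rw [Category.id_comp, w']))
      (pullback.map p q p' q' iX iY iS hp hq) := by
  have comm : iX ≫ pullback.lift (𝟙 X') f' (by rw [Category.id_comp, w']) =
      pullback.lift (𝟙 X) f (by rw [Category.id_comp, w]) ≫
        pullback.map p q p' q' iX iY iS hp hq := by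
    apply pullback.hom_ext
    · rw [Category.assoc, pullback.lift_fst, Category.assoc, pullback.lift_fst,
        pullback.lift_fst_assoc, Category.comp_id, Category.id_comp]
    · rw [Category.assoc, pullback.lift_snd, Category.assoc, pullback.lift_snd,
        pullback.lift_snd_assoc, hf]
  refine ⟨⟨comm⟩, ⟨PullbackCone.IsLimit.mk comm (fun s => s.snd ≫ pullback.fst p q) ?_ ?_ ?_⟩⟩
  · intro s
    have h1 := congrArg (fun t => t ≫ pullback.fst p' q') s.condition
    simp only [Category.assoc, pullback.lift_fst, Category.comp_id] at h1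
    rw [Category.assoc, ← h1]
  · intro s
    have h1 := congrArg (fun t => t ≫ pullback.fst p' q') s.condition
    simp only [Category.assoc, pullback.lift_fst, Category.comp_id] at h1
    have h2 := congrArg (fun t => t ≫ pullback.snd p' q') s.condition
    simp only [Category.assoc, pullback.lift_snd] at h2
    apply pullback.hom_ext
    · rw [Category.assoc, pullback.lift_fst, Category.comp_id]
    · rw [Category.assoc, pullback.lift_snd, ← cancel_mono iY, Category.assoc, Category.assoc, hf,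
        Category.assoc, ← h2, h1, Category.assoc, Category.assoc]
  · intro s m _ hm
    have := congrArg (fun t => t ≫ pullback.fst p q) hm
    simp only [Category.assoc, pullback.lift_fst, Category.comp_id] at this
    exact this

theorem main {𝔛 𝔜 𝔖 : FSch.Sys.{u}} (h𝔜 : 𝔜.IsFormal) (p : 𝔛 ⟶ 𝔖) (q : 𝔜 ⟶ 𝔖)
    (hq : IsSeparated ((q : FSch.Hom 𝔜 𝔖).app 0)) (f : 𝔛 ⟶ 𝔜) (w : f ≫ q = p) :
    FSch.IsClosedImmHom (FSch.graph f p q w) := by
  subst w
  refine ⟨fun n => ?_, ?_⟩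
  · haveI : IsClosedImmersion (𝔜.ι n) := (h𝔜 n).1
    haveI : Mono (𝔜.ι n) := inferInstance
    exact isPullback_graph ((f ≫ q : FSch.Hom 𝔛 𝔖).app n) ((q : FSch.Hom 𝔜 𝔖).app n)
      ((f : FSch.Hom 𝔛 𝔜).app n) rfl ((f ≫ q : FSch.Hom 𝔛 𝔖).app (n + 1))
      ((q : FSch.Hom 𝔜 𝔖).app (n + 1)) ((f : FSch.Hom 𝔛 𝔜).app (n + 1)) rfl
      (𝔛.ι n) (𝔜.ι n) (𝔖.ι n) ((f ≫ q : FSch.Hom 𝔛 𝔖).comm n) ((q : FSch.Hom 𝔜 𝔖).comm n)
      ((f : FSch.Hom 𝔛 𝔜).comm n)
  · show IsClosedImmersion (pullback.lift (𝟙 _) ((f : FSch.Hom 𝔛 𝔜).app 0)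
      (Category.id_comp (((f : FSch.Hom 𝔛 𝔜).app 0) ≫ ((q : FSch.Hom 𝔜 𝔖).app 0))))
    infer_instance

end Groth.Agent.H2.FGraph
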