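import Mathlib

/-!
# A contractible complex built from a family of objects, and a complex mapping to it
-/

set_option autoImplicit false

universe v u

open CategoryTheory CategoryTheory.Limits

namespace Groth.Agent.H2.FInj

variable {B : Type u} [Category.{v} B] [Abelian B] (I : ℤ → B)

/-- The complex with terms `I k ⊞ I (k+1)` and differential `(x, y) ↦ (y, 0)`. -/
noncomputable def Ccx : CochainComplex B ℤ :=
  CochainComplex.of (fun k => I k ⊞ I (k + 1)) (fun k => biprod.snd ≫ biprod.inl)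
    (fun n => by simp)

lemma Ccx_X (k : ℤ) : (Ccx I).X k = (I k ⊞ I (k + 1)) := rfl

/-- first projection -/
noncomputable def pr₁ (k : ℤ) : (Ccx I).X k ⟶ I k := biprod.fst
/-- second projection -/
noncomputable def pr₂ (k : ℤ) : (Ccx I).X k ⟶ I (k + 1) := biprod.snd
/-- first inclusion -/
noncomputable def in₁ (k : ℤ) : I k ⟶ (Ccx I).X k := biprod.inl
/-- second inclusion -/
noncomputable def in₂ (k : ℤ) : I (k + 1) ⟶ (Ccx I).X k := biprod.inr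

@[reassoc (attr := simp)] lemma in₁_pr₁ (k : ℤ) : in₁ I k ≫ pr₁ I k = 𝟙 _ := biprod.inl_fst
@[reassoc (attr := simp)] lemma in₁_pr₂ (k : ℤ) : in₁ I k ≫ pr₂ I k = 0 := biprod.inl_snd
@[reassoc (attr := simp)] lemma in₂_pr₁ (k : ℤ) : in₂ I k ≫ pr₁ I k = 0 := biprod.inr_fst
@[reassoc (attr := simp)] lemma in₂_pr₂ (k : ℤ) : in₂ I k ≫ pr₂ I k = 𝟙 _ := biprod.inr_snd
lemma total (k : ℤ) : pr₁ I k ≫ in₁ I k + pr₂ I k ≫ in₂ I k = 𝟙 _ := biprod.total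

lemma hom_ext {A : B} {k : ℤ} (f g : A ⟶ (Ccx I).X k) (h₁ : f ≫ pr₁ I k = g ≫ pr₁ I k)
    (h₂ : f ≫ pr₂ I k = g ≫ pr₂ I k) : f = g :=
  biprod.hom_ext _ _ h₁ h₂

instance (k : ℤ) : Mono (in₁ I k) := mono_of_mono_fac (in₁_pr₁ I k)

@[simp]
lemma Ccx_d (k : ℤ) : (Ccx I).d k (k + 1) = pr₂ I k ≫ in₁ I (k + 1) :=
  CochainComplex.of_d (fun k => I k ⊞ I (k + 1)) (fun k => biprod.snd ≫ biprod.inl) k

lemma Ccx_exactAt (n : ℤ) : (Ccx I).ExactAt n := by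
  obtain ⟨m, rfl⟩ : ∃ m, n = m + 1 := ⟨n - 1, by ring⟩
  rw [(Ccx I).exactAt_iff_exact_up_to_refinements m (m + 1) (m + 1 + 1) (by simp) (by simp)]
  intro A x₂ hx₂
  rw [Ccx_d, ← Category.assoc] at hx₂
  have h1 : x₂ ≫ pr₂ I (m + 1) = 0 := by
    rw [← cancel_mono (in₁ I (m + 1 + 1)), hx₂, zero_comp]
  refine ⟨A, 𝟙 A, inferInstance, x₂ ≫ pr₁ I (m + 1) ≫ in₂ I m, ?_⟩
  rw [Ccx_d, Category.id_comp]
  apply hom_ext
  · simp
  · simp [h1]

variable {I}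

/-- The map of a complex `M` to `Ccx I` induced by a family of maps `M.X n ⟶ I n`. -/
noncomputable def uMap (M : CochainComplex B ℤ) (ι : ∀ n, M.X n ⟶ I n) : M ⟶ Ccx I where
  f k := ι k ≫ in₁ I k + (M.d k (k + 1) ≫ ι (k + 1)) ≫ in₂ I k
  comm' i j h := by
    obtain rfl : i + 1 = j := h
    rw [Ccx_d]
    apply hom_ext <;> simp

@[reassoc (attr := simp)]
lemma uMap_f_pr₁ (M : CochainComplex B ℤ) (ι : ∀ n, M.X n ⟶ I n) (k : ℤ) :
    (uMap M ι).f k ≫ pr₁ I k = ι k := by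
  simp [uMap]

@[reassoc (attr := simp)]
lemma uMap_f_pr₂ (M : CochainComplex B ℤ) (ι : ∀ n, M.X n ⟶ I n) (k : ℤ) :
    (uMap M ι).f k ≫ pr₂ I k = M.d k (k + 1) ≫ ι (k + 1) := by
  simp [uMap]

instance (M : CochainComplex B ℤ) (ι : ∀ n, M.X n ⟶ I n) [∀ n, Mono (ι n)] (k : ℤ) :
    Mono ((uMap M ι).f k) :=
  mono_of_mono_fac (uMap_f_pr₁ M ι k)

instance (M : CochainComplex B ℤ) (ι : ∀ n, M.X n ⟶ I n) [∀ n, Mono (ι n)] :
    Mono (uMap M ι) :=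
  HomologicalComplex.mono_of_mono_f _ inferInstance

end Groth.Agent.H2.FInj
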