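import Groth.Agent.Lib.Helper2.FInj1
import Groth.Agent.Lib.Helper3.PCoh.Factor

/-!
# Embedding a complex by a termwise-mono quasi-isomorphism factoring through given monos
-/

set_option autoImplicit false

universe v u

open CategoryTheory CategoryTheory.Limits

namespace Groth.Agent.H2.FInj

variable {B : Type u} [Category.{v} B] [Abelian B]

lemma mappingCone_id_exactAt (Q : CochainComplex B ℤ) (n : ℤ) :
    (CochainComplex.mappingCone (𝟙 Q)).ExactAt n := by
  have h1 : HomotopyCategory.quasiIso B (ComplexShape.up ℤ)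
      ((HomotopyCategory.quotient B (ComplexShape.up ℤ)).map (𝟙 Q)) := by
    rw [HomotopyCategory.quotient_map_mem_quasiIso_iff, HomologicalComplex.mem_quasiIso_iff]
    infer_instance
  rw [HomotopyCategory.quasiIso_eq_trW_subcategoryAcyclic] at h1
  have key := ((HomotopyCategory.subcategoryAcyclic B).trW_iff_of_distinguished _
    (HomotopyCategory.mappingCone_triangleh_distinguished (𝟙 Q))).1 h1
  exact (HomotopyCategory.quotient_obj_mem_subcategoryAcyclic_iff_exactAt _).1 key n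

lemma mappingCocone_id_exactAt (Q : CochainComplex B ℤ) (n : ℤ) :
    (CochainComplex.mappingCocone (𝟙 Q)).ExactAt n := by
  have h1 := (HomotopyCategory.quotient_obj_mem_subcategoryAcyclic_iff_exactAt _).2
    (mappingCone_id_exactAt Q)
  have h2 := (HomotopyCategory.subcategoryAcyclic B).le_shift (-1 : ℤ) _ h1
  have h3 : HomotopyCategory.subcategoryAcyclic B
      ((HomotopyCategory.quotient B (ComplexShape.up ℤ)).obj
        ((CochainComplex.mappingCone (𝟙 Q))⟦(-1 : ℤ)⟧)) :=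
    (HomotopyCategory.subcategoryAcyclic B).prop_of_iso
      (((HomotopyCategory.quotient B (ComplexShape.up ℤ)).commShiftIso (-1 : ℤ)).app _).symm h2
  exact (HomotopyCategory.quotient_obj_mem_subcategoryAcyclic_iff_exactAt _).1 h3 n

end Groth.Agent.H2.FInj

namespace Groth.Agent.H2.FInj

variable {B : Type u} [Category.{v} B] [Abelian B]

section core

variable (M : CochainComplex B ℤ) {I : ℤ → B} (ι : ∀ n, M.X n ⟶ I n) [∀ n, Mono (ι n)]

/-- The quotient `Ccx I / M`. -/
noncomputable abbrev Qcx : CochainComplex B ℤ := cokernel (uMap M ι)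

/-- The projection. -/
noncomputable abbrev πQ : Ccx I ⟶ Qcx M ι := cokernel.π (uMap M ι)

@[reassoc (attr := simp)]
lemma uMap_πQ : uMap M ι ≫ πQ M ι = 0 := cokernel.condition _

/-- An acyclic complex with a termwise split epimorphism to `Qcx`. -/
noncomputable abbrev Rcx : CochainComplex B ℤ := CochainComplex.mappingCocone (𝟙 (Qcx M ι))

/-- The termwise split epimorphism `Rcx ⟶ Qcx`. -/
noncomputable def ρR : Rcx M ι ⟶ Qcx M ι := CochainComplex.mappingCocone.fst (𝟙 (Qcx M ι))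

/-- The termwise section of `ρR`. -/
noncomputable def sR (n : ℤ) : (Qcx M ι).X n ⟶ (Rcx M ι).X n :=
  (CochainComplex.mappingCocone.inl (𝟙 (Qcx M ι))).v n n (add_zero n)

@[reassoc (attr := simp)]
lemma sR_ρR (n : ℤ) : sR M ι n ≫ (ρR M ι).f n = 𝟙 _ :=
  CochainComplex.mappingCocone.inl_v_fst_f _ n

lemma Rcx_exactAt (n : ℤ) : (Rcx M ι).ExactAt n := mappingCocone_id_exactAt _ n

/-- The complex `N = Ccx I ×_Q R`. -/
noncomputable abbrev Ncx : CochainComplex B ℤ := pullback (πQ M ι) (ρR M ι)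

/-- The map `M ⟶ N`. -/
noncomputable def jN : M ⟶ Ncx M ι := pullback.lift (uMap M ι) 0 (by simp)

@[reassoc (attr := simp)]
lemma jN_fst : jN M ι ≫ pullback.fst (πQ M ι) (ρR M ι) = uMap M ι := pullback.lift_fst _ _ _

@[reassoc (attr := simp)]
lemma jN_snd : jN M ι ≫ pullback.snd (πQ M ι) (ρR M ι) = 0 := pullback.lift_snd _ _ _

instance : Mono (jN M ι) := mono_of_mono_fac (jN_fst M ι)

instance (n : ℤ) : Mono ((jN M ι).f n) := by
  have : (jN M ι).f n ≫ (pullback.fst (πQ M ι) (ρR M ι)).f n = (uMap M ι).f n := by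
    rw [← HomologicalComplex.comp_f, jN_fst]
  exact mono_of_mono_fac this

/-- The short exact sequence `0 → M → N → R → 0`. -/
noncomputable def ses : ShortComplex (CochainComplex B ℤ) :=
  ShortComplex.mk (jN M ι) (pullback.snd (πQ M ι) (ρR M ι)) (jN_snd M ι)

noncomputable def jN_isKernel : IsLimit (KernelFork.ofι (jN M ι) (jN_snd M ι)) := by
  refine KernelFork.IsLimit.ofι' _ _ (fun {T} k hk => ?_)
  have hk' : (k ≫ pullback.fst (πQ M ι) (ρR M ι)) ≫ cokernel.π (uMap M ι) = 0 := by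
    rw [Category.assoc, pullback.condition, reassoc_of% hk, zero_comp]
  refine ⟨Abelian.monoLift (uMap M ι) _ hk', ?_⟩
  apply pullback.hom_ext
  · rw [Category.assoc, jN_fst, Abelian.monoLift_comp]
  · rw [Category.assoc, jN_snd, comp_zero, hk]

lemma ses_shortExact : (ses M ι).ShortExact where
  exact := ShortComplex.exact_of_f_is_kernel _ (jN_isKernel M ι)
  mono_f := (inferInstance : Mono (jN M ι))
  epi_g := (inferInstance : Epi (pullback.snd (πQ M ι) (ρR M ι)))

lemma quasiIso_jN : QuasiIso (jN M ι) :=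
  H3.PCohLib.quasiIso_f_of_acyclic_X₃ (ses M ι) (ses_shortExact M ι) (Rcx_exactAt M ι)

/-- The termwise pullback square. -/
lemma isPullback_f (n : ℤ) :
    IsPullback ((pullback.fst (πQ M ι) (ρR M ι)).f n) ((pullback.snd (πQ M ι) (ρR M ι)).f n)
      ((πQ M ι).f n) ((ρR M ι).f n) :=
  (IsPullback.of_hasPullback (πQ M ι) (ρR M ι)).map (HomologicalComplex.eval B _ n)

/-- The termwise inclusion `Ccx I ⟶ N`. -/
noncomputable def bN (n : ℤ) : (Ccx I).X n ⟶ (Ncx M ι).X n :=
  (isPullback_f M ι n).lift (𝟙 _) ((πQ M ι).f n ≫ sR M ι n) (by simp)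

@[reassoc (attr := simp)]
lemma bN_fst (n : ℤ) : bN M ι n ≫ (pullback.fst (πQ M ι) (ρR M ι)).f n = 𝟙 _ :=
  (isPullback_f M ι n).lift_fst _ _ _

@[reassoc (attr := simp)]
lemma bN_snd (n : ℤ) :
    bN M ι n ≫ (pullback.snd (πQ M ι) (ρR M ι)).f n = (πQ M ι).f n ≫ sR M ι n :=
  (isPullback_f M ι n).lift_snd _ _ _

instance (n : ℤ) : Mono (bN M ι n) := (SplitMono.mk _ (bN_fst M ι n)).mono

lemma uMap_bN (n : ℤ) : (uMap M ι).f n ≫ bN M ι n = (jN M ι).f n := by
  apply (isPullback_f M ι n).hom_ext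
  · rw [Category.assoc, bN_fst, Category.comp_id, ← HomologicalComplex.comp_f, jN_fst]
  · rw [Category.assoc, bN_snd, ← HomologicalComplex.comp_f, jN_snd,
      ← HomologicalComplex.comp_f_assoc, uMap_πQ]
    simp

end core

/-- Core statement: a complex `M` with monos `M.X n ⟶ I n` embeds by a termwise-mono
quasi-isomorphism into a complex `N` such that `M.X n ⟶ N.X n` factors through a mono
`I n ⊞ I (n+1) ⟶ N.X n`. -/
theorem core_main (M : CochainComplex B ℤ) {I : ℤ → B} (ι : ∀ n, M.X n ⟶ I n)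
    [∀ n, Mono (ι n)] :
    ∃ (N : CochainComplex B ℤ) (j : M ⟶ N), (∀ n, Mono (j.f n)) ∧ QuasiIso j ∧
      ∀ n, ∃ (a : M.X n ⟶ I n ⊞ I (n + 1)) (b : I n ⊞ I (n + 1) ⟶ N.X n),
        Mono b ∧ a ≫ b = j.f n :=
  ⟨Ncx M ι, jN M ι, fun n => inferInstance, quasiIso_jN M ι,
    fun n => ⟨(uMap M ι).f n, bN M ι n, (SplitMono.mk _ (bN_fst M ι n)).mono, uMap_bN M ι n⟩⟩

end Groth.Agent.H2.FInj
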