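import Groth.Agent.Lib.Helper2.FInj2
import Groth.Agent.Lib.Helper1.FunctorialInjective

/-!
# Functorial termwise-injective quasi-isomorphic embedding of complexes
-/

set_option autoImplicit false

universe v u

open CategoryTheory CategoryTheory.Limits

namespace Groth.Agent.H2.FInj

variable {A : Type u} [Category.{v} A] [Abelian A]

/-- The universal complex: the identity functor of `CochainComplex A ℤ` seen as a complex
in the functor category. -/
def univCx : CochainComplex (CochainComplex A ℤ ⥤ A) ℤ where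
  X n := HomologicalComplex.eval A (ComplexShape.up ℤ) n
  d i j :=
    { app := fun M => M.d i j
      naturality := fun _ _ f => f.comm i j }
  shape i j h := by
    ext M
    exact M.shape i j h
  d_comp_d' i j k _ _ := by
    ext M
    exact M.d_comp_d i j k

/-- The identity functor is the functor attached to the universal complex. -/
def univIso : 𝟭 (CochainComplex A ℤ) ≅ (univCx (A := A)).asFunctor :=
  NatIso.ofComponents (fun M => HomologicalComplex.Hom.isoOfComponents (fun i => Iso.refl _)
    (by intro i j _; exact (Category.id_comp _).trans (Category.comp_id _).symm)) (by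
      intro M M' f
      ext i
      exact (Category.comp_id _).trans (Category.id_comp _).symm)

lemma univIso_hom_app_f (M : CochainComplex A ℤ) (n : ℤ) :
    ((univIso (A := A)).hom.app M).f n = 𝟙 (M.X n) := rfl

/-- The natural transformation attached to a morphism of complexes of functors. -/
def asFunctorMap {T : Type*} [Category T] {K L : CochainComplex (T ⥤ A) ℤ} (f : K ⟶ L) :
    K.asFunctor ⟶ L.asFunctor :=
  HomologicalComplex.complexOfFunctorsToFunctorToComplex.map f

lemma asFunctorMap_app_f {T : Type*} [Category T] {K L : CochainComplex (T ⥤ A) ℤ} (f : K ⟶ L)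
    (t : T) (n : ℤ) : ((asFunctorMap f).app t).f n = (f.f n).app t := rfl

lemma quasiIso_asFunctorMap_app {T : Type*} [Category T] {K L : CochainComplex (T ⥤ A) ℤ}
    (f : K ⟶ L) [hf : QuasiIso f] (t : T) : QuasiIso ((asFunctorMap f).app t) :=
  (HomologicalComplex.quasiIso_iff_evaluation f).1 hf t

variable (J : A ⥤ A) (jJ : 𝟭 A ⟶ J)

/-- The family of functors `M ↦ J (M.X n)`. -/
def Ifun (n : ℤ) : CochainComplex A ℤ ⥤ A := HomologicalComplex.eval A (ComplexShape.up ℤ) n ⋙ J

/-- The natural maps `M.X n ⟶ J (M.X n)`. -/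
def ιfun (n : ℤ) : (univCx (A := A)).X n ⟶ Ifun J n where
  app M := jJ.app (M.X n)
  naturality _ _ f := jJ.naturality (f.f n)

instance [∀ F, Mono (jJ.app F)] (n : ℤ) : Mono (ιfun J jJ n) := by
  have : ∀ M, Mono ((ιfun J jJ n).app M) := fun M =>
    inferInstanceAs (Mono (jJ.app (M.X n)))
  exact NatTrans.mono_of_mono_app _

theorem main_of_functorial (hJ : ∀ F, Injective (J.obj F)) [∀ F, Mono (jJ.app F)] :
    ∃ (N : CochainComplex A ℤ ⥤ CochainComplex A ℤ) (j : 𝟭 _ ⟶ N),
      ∀ M : CochainComplex A ℤ, (∀ n : ℤ, Mono ((j.app M).f n)) ∧ QuasiIso (j.app M) ∧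
        ∀ n : ℤ, ∃ (I : A) (_ : Injective I) (a : M.X n ⟶ I) (b : I ⟶ (N.obj M).X n),
          Mono b ∧ a ≫ b = (j.app M).f n := by
  obtain ⟨NB, jB, hmono, hqis, hfac⟩ := core_main (univCx (A := A)) (ιfun J jJ)
  refine ⟨NB.asFunctor, univIso.hom ≫ asFunctorMap jB, fun M => ?_⟩
  have hf : ∀ n, ((univIso.hom ≫ asFunctorMap jB).app M).f n = (jB.f n).app M := by
    intro n
    rw [NatTrans.comp_app, HomologicalComplex.comp_f, univIso_hom_app_f, asFunctorMap_app_f]
    exact Category.id_comp _
  refine ⟨fun n => ?_, ?_, fun n => ?_⟩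
  · rw [hf]
    haveI := hmono n
    exact (NatTrans.mono_iff_mono_app (jB.f n)).1 inferInstance M
  · have h2 : QuasiIso ((asFunctorMap jB).app M) := quasiIso_asFunctorMap_app jB M
    rw [NatTrans.comp_app]
    infer_instance
  · obtain ⟨a, b, hb, hab⟩ := hfac n
    refine ⟨(Ifun J n ⊞ Ifun J (n + 1)).obj M, ?_, a.app M, b.app M, ?_, ?_⟩
    · have h1 : Injective (J.obj (M.X n)) := hJ (M.X n)
      have h2 : Injective (J.obj (M.X (n + 1))) := hJ (M.X (n + 1))
      haveI := preservesBinaryBiproduct_of_preservesBinaryProduct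
        ((evaluation (CochainComplex A ℤ) A).obj M) (X := Ifun J n) (Y := Ifun J (n + 1))
      have e : (Ifun J n ⊞ Ifun J (n + 1)).obj M ≅ J.obj (M.X n) ⊞ J.obj (M.X (n + 1)) :=
        ((evaluation _ _).obj M).mapBiprod (Ifun J n) (Ifun J (n + 1))
      exact Injective.of_iso e.symm inferInstance
    · exact (NatTrans.mono_iff_mono_app b).1 hb M
    · rw [hf, ← hab]
      rfl

theorem main [IsGrothendieckAbelian.{v} A] :
    ∃ (N : CochainComplex A ℤ ⥤ CochainComplex A ℤ) (j : 𝟭 _ ⟶ N),
      ∀ M : CochainComplex A ℤ, (∀ n : ℤ, Mono ((j.app M).f n)) ∧ QuasiIso (j.app M) ∧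
        ∀ n : ℤ, ∃ (I : A) (_ : Injective I) (a : M.X n ⟶ I) (b : I ⟶ (N.obj M).X n),
          Mono b ∧ a ≫ b = (j.app M).f n := by
  obtain ⟨J, jJ, h⟩ := H1.exists_functorial_injective_embedding (A := A)
  haveI : ∀ F, Mono (jJ.app F) := fun F => (h F).2
  exact main_of_functorial J jJ (fun F => (h F).1)

end Groth.Agent.H2.FInj
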