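import Mathlib

/-!
# Coproducts of acyclic complexes are acyclic (under AB4)
-/

set_option autoImplicit false

universe w v u

open CategoryTheory CategoryTheory.Limits

namespace Groth.Agent.H2.FKill

section

variable {T : Type*} [Category T] {V : Type*} [Category V] [Abelian V]

/-- Exactness of a short complex of functors may be checked pointwise. -/
lemma exact_of_evaluation (S : ShortComplex (T ⥤ V))
    (h : ∀ t : T, (S.map ((evaluation T V).obj t)).Exact) : S.Exact := by
  rw [ShortComplex.exact_iff_isZero_homology, Functor.isZero_iff]
  intro t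
  have h1 := (ShortComplex.exact_iff_isZero_homology _).1 (h t)
  exact IsZero.of_iso h1 (S.mapHomologyIso ((evaluation T V).obj t)).symm

end

variable {A : Type u} [Category.{v} A] [Abelian A] {T : Type w}
  [HasColimitsOfShape (Discrete T) A] [HasExactColimitsOfShape (Discrete T) A]

/-- A coproduct of acyclic complexes is acyclic when coproducts are exact. -/
theorem exactAt_sigma (K : T → CochainComplex A ℤ) (hK : ∀ t n, (K t).ExactAt n) (n : ℤ) :
    (∐ K).ExactAt n := by
  let F : Discrete T ⥤ CochainComplex A ℤ := Discrete.functor K
  let S : ShortComplex (Discrete T ⥤ A) :=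
    ShortComplex.mk
      (Discrete.natTrans (F := F ⋙ HomologicalComplex.eval A _ (n - 1))
        (G := F ⋙ HomologicalComplex.eval A _ n) (fun t => (K t.as).d (n - 1) n))
      (Discrete.natTrans (F := F ⋙ HomologicalComplex.eval A _ n)
        (G := F ⋙ HomologicalComplex.eval A _ (n + 1)) (fun t => (K t.as).d n (n + 1)))
      (by ext t; exact (K t.as).d_comp_d _ _ _)
  have hS : S.Exact := by
    apply exact_of_evaluation
    intro t
    have := ((K t.as).exactAt_iff' (n - 1) n (n + 1) (by simp) (by simp)).1 (hK t.as n)
    exact this
  have hc := colimit.isColimit F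
  have h := colim.exact_mapShortComplex (S := S) hS
    (isColimitOfPreserves (HomologicalComplex.eval A _ (n - 1)) hc)
    (isColimitOfPreserves (HomologicalComplex.eval A _ n) hc)
    (isColimitOfPreserves (HomologicalComplex.eval A _ (n + 1)) hc)
    ((∐ K).d (n - 1) n) ((∐ K).d n (n + 1))
    (fun t => ((colimit.ι F t).comm (n - 1) n))
    (fun t => ((colimit.ι F t).comm n (n + 1)))
  rw [(∐ K).exactAt_iff' (n - 1) n (n + 1) (by simp) (by simp)]
  exact h

end Groth.Agent.H2.FKill
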