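import Mathlib

/-!
# The inclusion into the cone of a map from an acyclic complex is a quasi-isomorphism
-/

set_option autoImplicit false

universe v u

open CategoryTheory CategoryTheory.Limits

namespace Groth.Agent.H2.FKill

variable {A : Type u} [Category.{v} A] [Abelian A]

theorem quasiIso_inr_of_exactAt {P M : CochainComplex A ℤ} (e : P ⟶ M)
    (hP : ∀ n, P.ExactAt n) : QuasiIso (CochainComplex.mappingCone.inr e) := by
  rw [← HomologicalComplex.mem_quasiIso_iff, ← HomotopyCategory.quotient_map_mem_quasiIso_iff,
    HomotopyCategory.quasiIso_eq_trW_subcategoryAcyclic]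
  exact ObjectProperty.trW.mk' (HomotopyCategory.subcategoryAcyclic A)
    (HomotopyCategory.mappingCone_triangleh_distinguished e)
    ((HomotopyCategory.quotient_obj_mem_subcategoryAcyclic_iff_exactAt P).2 hP)

end Groth.Agent.H2.FKill
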