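import Groth.Agent.Lib.Helper2.FKill1
import Groth.Agent.Lib.Helper2.FKill2

/-!
# The functorial homotopy-killing embedding `M ↦ cone(∐_{(i,w)} K_i → M)`
-/

set_option autoImplicit false

universe v u

open CategoryTheory CategoryTheory.Limits

namespace Groth.Agent.H2.FKill

variable {A : Type u} [Category.{v} A] [Abelian A] [IsGrothendieckAbelian.{v} A]
  {ι : Type v} (K : ι → CochainComplex A ℤ)

/-- Index set of all maps from some `K i` to `M`. -/
abbrev J (M : CochainComplex A ℤ) : Type v := Σ i : ι, (K i ⟶ M)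

/-- The coproduct of all `K i` over all maps `K i ⟶ M`. -/
noncomputable abbrev P (M : CochainComplex A ℤ) : CochainComplex A ℤ :=
  ∐ fun j : J K M => K j.1

/-- The canonical evaluation map. -/
noncomputable def e (M : CochainComplex A ℤ) : P K M ⟶ M :=
  Sigma.desc fun j : J K M => j.2

noncomputable def Pmap {M M' : CochainComplex A ℤ} (φ : M ⟶ M') : P K M ⟶ P K M' :=
  Sigma.desc fun j : J K M => Sigma.ι (fun j : J K M' => K j.1) ⟨j.1, j.2 ≫ φ⟩

@[reassoc (attr := simp)]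
lemma ι_e (M : CochainComplex A ℤ) (j : J K M) :
    Sigma.ι (fun j : J K M => K j.1) j ≫ e K M = j.2 := by
  simp [e]

@[reassoc (attr := simp)]
lemma ι_Pmap {M M' : CochainComplex A ℤ} (φ : M ⟶ M') (j : J K M) :
    Sigma.ι (fun j : J K M => K j.1) j ≫ Pmap K φ =
      Sigma.ι (fun j : J K M' => K j.1) ⟨j.1, j.2 ≫ φ⟩ := by
  simp [Pmap]

@[reassoc]
lemma Pmap_e {M M' : CochainComplex A ℤ} (φ : M ⟶ M') :
    Pmap K φ ≫ e K M' = e K M ≫ φ := by
  apply Sigma.hom_ext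
  intro j
  rw [ι_Pmap_assoc, ι_e_assoc, ι_e]

lemma ι_congr {M : CochainComplex A ℤ} {i : ι} {w w' : K i ⟶ M} (h : w = w') :
    Sigma.ι (fun j : J K M => K j.1) ⟨i, w⟩ = Sigma.ι (fun j : J K M => K j.1) ⟨i, w'⟩ := by
  subst h
  rfl

lemma Pmap_id (M : CochainComplex A ℤ) : Pmap K (𝟙 M) = 𝟙 _ := by
  apply Sigma.hom_ext
  intro j
  rw [ι_Pmap]
  obtain ⟨i, w⟩ := j
  exact (ι_congr K (Category.comp_id w)).trans (Category.comp_id _).symm

lemma Pmap_comp {M M' M'' : CochainComplex A ℤ} (φ : M ⟶ M') (ψ : M' ⟶ M'') :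
    Pmap K (φ ≫ ψ) = Pmap K φ ≫ Pmap K ψ := by
  apply Sigma.hom_ext
  intro j
  rw [ι_Pmap, ι_Pmap_assoc, ι_Pmap]
  obtain ⟨i, w⟩ := j
  exact ι_congr K (Category.assoc w φ ψ).symm

lemma relH : ∀ j : ℤ, ∃ i, (ComplexShape.up ℤ).Rel i j := fun j => ⟨j - 1, by simp⟩

/-- The arrow morphism induced by `φ`. -/
noncomputable def arrowMap {M M' : CochainComplex A ℤ} (φ : M ⟶ M') :
    Arrow.mk (e K M) ⟶ Arrow.mk (e K M') :=
  Arrow.homMk (Pmap K φ) φ (Pmap_e K φ)

lemma arrowMap_id (M : CochainComplex A ℤ) : arrowMap K (𝟙 M) = 𝟙 _ := by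
  apply Arrow.hom_ext
  · exact Pmap_id K M
  · rfl

lemma arrowMap_comp {M M' M'' : CochainComplex A ℤ} (φ : M ⟶ M') (ψ : M' ⟶ M'') :
    arrowMap K (φ ≫ ψ) = arrowMap K φ ≫ arrowMap K ψ := by
  apply Arrow.hom_ext
  · exact Pmap_comp K φ ψ
  · rfl

/-- The functor `M ↦ cone(P M → M)`. -/
noncomputable def N : CochainComplex A ℤ ⥤ CochainComplex A ℤ where
  obj M := CochainComplex.mappingCone (e K M)
  map {M M'} φ :=
    HomologicalComplex.homotopyCofiber.mapArrowHom (e K M) (e K M') relH (arrowMap K φ)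
  map_id M := by
    rw [arrowMap_id]
    exact HomologicalComplex.homotopyCofiber.mapArrowHom_id _ _
  map_comp φ ψ := by
    rw [arrowMap_comp]
    exact HomologicalComplex.homotopyCofiber.mapArrowHom_comp _ _ _ _ _ _

/-- The natural inclusion `M ⟶ N M`. -/
noncomputable def jN : 𝟭 (CochainComplex A ℤ) ⟶ N K where
  app M := CochainComplex.mappingCone.inr (e K M)
  naturality {M _} _ :=
    (HomologicalComplex.homotopyCofiber.inr_desc (e K M) _ _).symm

lemma mono_jN_f (M : CochainComplex A ℤ) (n : ℤ) : Mono (((jN K).app M).f n) :=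
  (SplitMono.mk _ (CochainComplex.mappingCone.inr_f_snd_v (e K M) n)).mono

lemma exactAt_P (hK : ∀ i (n : ℤ), (K i).ExactAt n) (M : CochainComplex A ℤ) (n : ℤ) :
    (P K M).ExactAt n :=
  exactAt_sigma (fun j : J K M => K j.1) (fun j n => hK j.1 n) n

lemma quasiIso_jN (hK : ∀ i (n : ℤ), (K i).ExactAt n) (M : CochainComplex A ℤ) :
    QuasiIso ((jN K).app M) :=
  quasiIso_inr_of_exactAt (e K M) (exactAt_P K hK M)

/-- Every map `K i ⟶ M` becomes null-homotopic in `N M`. -/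
noncomputable def homotopyZero (M : CochainComplex A ℤ) (i : ι) (w : K i ⟶ M) :
    Homotopy (w ≫ (jN K).app M) 0 :=
  (Homotopy.ofEq ((congrArg (· ≫ (jN K).app M) (ι_e K M ⟨i, w⟩).symm).trans
    (Category.assoc _ _ _))).trans
    (((HomologicalComplex.homotopyCofiber.inrCompHomotopy (e K M) relH).compLeft
      (Sigma.ι (fun j : J K M => K j.1) ⟨i, w⟩)).trans (Homotopy.ofEq Limits.comp_zero))

theorem main {A : Type u} [Category.{v} A] [Abelian A]
    [IsGrothendieckAbelian.{v} A] {ι : Type v} (K : ι → CochainComplex A ℤ)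
    (hK : ∀ i (n : ℤ), Limits.IsZero ((K i).homology n)) :
    ∃ (N : CochainComplex A ℤ ⥤ CochainComplex A ℤ) (j : 𝟭 _ ⟶ N),
      ∀ M : CochainComplex A ℤ, (∀ n : ℤ, Mono ((j.app M).f n)) ∧ QuasiIso (j.app M) ∧
        ∀ (i : ι) (w : K i ⟶ M), Nonempty (Homotopy (w ≫ j.app M) 0) := by
  have hK' : ∀ i (n : ℤ), (K i).ExactAt n := fun i n =>
    (HomologicalComplex.exactAt_iff_isZero_homology _ _).2 (hK i n)
  exact ⟨N K, jN K, fun M => ⟨mono_jN_f K M, quasiIso_jN K hK' M,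
    fun i w => ⟨homotopyZero K M i w⟩⟩⟩

end Groth.Agent.H2.FKill
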