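import Mathlib
import Groth.Agent.Lib.Helper2.FPSys
import Groth.Agent.Lib.Helper2.FGColimit

/-!
# Categorical form of "every module is a filtered colimit of finitely presented modules", and
consequences for `Hom(N, -)` commuting with filtered colimits.
-/

universe u

namespace Groth.Agent.H2.FPSysCat

open CategoryTheory CategoryTheory.Limits Opposite

variable {R : Type u} [CommRing R] (M : Type u) [AddCommGroup M] [Module R M]

/-- the diagram of finitely presented modules -/
noncomputable def functor : FPSys.Idx (R := R) M ⥤ ModuleCat.{u} R where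
  obj a := ModuleCat.of R (FPSys.G a)
  map h := ModuleCat.ofHom (FPSys.f _ _ (leOfHom h))
  map_id a := by
    apply ModuleCat.hom_ext
    apply LinearMap.ext
    intro x
    exact FPSys.f_self a x
  map_comp h1 h2 := by
    apply ModuleCat.hom_ext
    apply LinearMap.ext
    intro x
    exact (FPSys.f_f _ _ _ (leOfHom h1) (leOfHom h2) x).symm

/-- the cocone to `M` -/
noncomputable def cocone : Cocone (functor (R := R) M) where
  pt := ModuleCat.of R M
  ι :=
    { app := fun a => ModuleCat.ofHom (FPSys.toM a)
      naturality := fun a b h => by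
        apply ModuleCat.hom_ext
        apply LinearMap.ext
        intro x
        exact FPSys.toM_f a b (leOfHom h) x }

/-- `M` is the colimit -/
noncomputable def isColimit : IsColimit (cocone (R := R) M) := by
  apply isColimitOfReflects (forget (ModuleCat.{u} R))
  apply Types.FilteredColimit.isColimitOf'
  · intro (x : M)
    obtain ⟨a, y, hy⟩ := FPSys.exists_toM_eq (R := R) x
    exact ⟨a, y, hy.symm⟩
  · intro i (x : FPSys.G i) (y : FPSys.G i) hxy
    have h0 : FPSys.toM i (x - y) = 0 := by
      rw [map_sub, sub_eq_zero]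
      exact hxy
    obtain ⟨b, hb, hb0⟩ := FPSys.exists_f_eq_zero i (x - y) h0
    refine ⟨b, homOfLE hb, ?_⟩
    rw [map_sub, sub_eq_zero] at hb0
    exact hb0

end Groth.Agent.H2.FPSysCat

namespace Groth.Agent.H2.HomColim

open CategoryTheory CategoryTheory.Limits Opposite

variable {R : Type u} [CommRing R]

/-- If `colim Hom(N, F i) → Hom(N, colim F)` is surjective and `c` is a colimit cocone with point
`N`, then the identity of `N` factors through some `F i`. -/
theorem exists_section {J : Type u} [SmallCategory J] (F : J ⥤ ModuleCat.{u} R)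
    (N : ModuleCat.{u} R) (c : Cocone F) (hc : IsColimit c) (e : c.pt ≅ N)
    (h : Function.Surjective (colimit.post F (coyoneda.obj (op N)))) :
    ∃ (i : J) (s : N ⟶ F.obj i), s ≫ c.ι.app i ≫ e.hom = 𝟙 N := by
  let e' : colimit F ≅ c.pt := colimit.isoColimitCocone ⟨c, hc⟩
  obtain ⟨z, hz⟩ := h (e.inv ≫ e'.inv)
  obtain ⟨i, x, rfl⟩ := Types.jointly_surjective' z
  have h0 := ConcreteCategory.congr_hom (colimit.ι_post F (coyoneda.obj (op N)) i) x
  have h1 : x ≫ colimit.ι F i = e.inv ≫ e'.inv := h0.symm.trans hz
  have h2 : colimit.ι F i ≫ e'.hom = c.ι.app i := colimit.isoColimitCocone_ι_hom _ _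
  refine ⟨i, x, ?_⟩
  rw [← h2, ← Category.assoc, ← Category.assoc, h1]
  simp

/-- Injectivity of `colim Hom(N, F i) → Hom(N, colim F)`: two maps `N → F i` agreeing in the colimit
agree at a later stage. -/
theorem exists_map_eq {J : Type u} [SmallCategory J] [IsFiltered J] (F : J ⥤ ModuleCat.{u} R)
    (N : ModuleCat.{u} R)
    (h : Function.Injective (colimit.post F (coyoneda.obj (op N))))
    (i : J) (x y : N ⟶ F.obj i) (hxy : x ≫ colimit.ι F i = y ≫ colimit.ι F i) :
    ∃ (k : J) (f : i ⟶ k), x ≫ F.map f = y ≫ F.map f := by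
  have hx := ConcreteCategory.congr_hom (colimit.ι_post F (coyoneda.obj (op N)) i) x
  have hy := ConcreteCategory.congr_hom (colimit.ι_post F (coyoneda.obj (op N)) i) y
  have h1 : colimit.ι (F ⋙ coyoneda.obj (op N)) i x = colimit.ι (F ⋙ coyoneda.obj (op N)) i y := by
    apply h
    exact hx.trans (hxy.trans hy.symm)
  obtain ⟨k, f, hf⟩ := (Types.FilteredColimit.isColimit_eq_iff'
    (colimit.isColimit (F ⋙ coyoneda.obj (op N))) (i := i) x y).1 h1
  exact ⟨k, f, hf⟩

end Groth.Agent.H2.HomColim

namespace Groth.Agent.H2.FGQuot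

open CategoryTheory CategoryTheory.Limits Opposite

variable {R : Type u} [CommRing R] (N : Type u) [AddCommGroup N] [Module R N]

/-- the diagram of quotients by finitely generated submodules -/
noncomputable def functor : FGColimit.FGSub (A := R) N ⥤ ModuleCat.{u} R where
  obj a := ModuleCat.of R (N ⧸ a.1)
  map {a b} h := ModuleCat.ofHom (Submodule.mapQ a.1 b.1 LinearMap.id (by
    rw [Submodule.comap_id]; exact leOfHom h))
  map_id a := by
    apply ModuleCat.hom_ext
    apply LinearMap.ext
    intro x
    obtain ⟨x, rfl⟩ := Submodule.Quotient.mk_surjective _ x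
    rfl
  map_comp h1 h2 := by
    apply ModuleCat.hom_ext
    apply LinearMap.ext
    intro x
    obtain ⟨x, rfl⟩ := Submodule.Quotient.mk_surjective _ x
    rfl

theorem finite_of_injective
    (h : Function.Injective
      (colimit.post (functor (R := R) N) (coyoneda.obj (op (ModuleCat.of R N))))) :
    Module.Finite R N := by
  let b : FGColimit.FGSub (A := R) N := ⟨⊥, Submodule.fg_bot⟩
  let x : ModuleCat.of R N ⟶ (functor (R := R) N).obj b :=
    ModuleCat.ofHom (Submodule.mkQ (⊥ : Submodule R N))
  have hx : x ≫ colimit.ι (functor (R := R) N) b = 0 ≫ colimit.ι (functor (R := R) N) b := by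
    rw [zero_comp]
    apply ModuleCat.hom_ext
    apply LinearMap.ext
    intro n
    let c : FGColimit.FGSub (A := R) N := ⟨Submodule.span R {n}, Submodule.fg_span_singleton n⟩
    have hbc : b ≤ c := by
      change (⊥ : Submodule R N) ≤ Submodule.span R {n}
      exact bot_le
    have hw := colimit.w (functor (R := R) N) (homOfLE hbc)
    rw [← hw]
    change (colimit.ι (functor (R := R) N) c).hom
      (((functor (R := R) N).map (homOfLE hbc)).hom (Submodule.Quotient.mk n)) = 0
    have : ((functor (R := R) N).map (homOfLE hbc)).hom (Submodule.Quotient.mk n) = 0 := by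
      change Submodule.Quotient.mk n = (0 : N ⧸ c.1)
      rw [Submodule.Quotient.mk_eq_zero]
      exact Submodule.mem_span_singleton_self n
    rw [this, map_zero]
  obtain ⟨k, f, hf⟩ := HomColim.exists_map_eq (functor (R := R) N) (ModuleCat.of R N) h b x 0 hx
  rw [zero_comp] at hf
  have hk : k.1 = ⊤ := by
    rw [eq_top_iff]
    intro n _
    have := congrArg (fun g => g.hom n) hf
    change Submodule.Quotient.mk n = (0 : N ⧸ k.1) at this
    rwa [Submodule.Quotient.mk_eq_zero] at this
  rw [Module.finite_def, ← hk]
  exact k.2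

end Groth.Agent.H2.FGQuot
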