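import Mathlib
import Groth.Prelude.Def_FSRel

set_option autoImplicit false
set_option linter.unusedSectionVars false
set_option linter.style.haveILetI false
universe u

namespace Groth.Agent.H2.FSRel

open TensorProduct KaehlerDifferential

/-- A left inverse of `B ⊗[A] Ω[A⁄Λ] → Ω[B⁄Λ]` gives relative formal smoothness. -/
theorem isFormallySmoothRel_of_leftInverse (Λ A B : Type u) [CommRing Λ] [CommRing A] [CommRing B]
    [Algebra Λ A] [Algebra Λ B] [Algebra A B] [IsScalarTower Λ A B]
    (l : Ω[B⁄Λ] →ₗ[B] B ⊗[A] Ω[A⁄Λ])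
    (hl : l ∘ₗ KaehlerDifferential.mapBaseChange Λ A B = LinearMap.id) :
    EGA41.IsFormallySmoothRel Λ A B := by
  intro C _ _ _ _ J hJ u₀ ⟨u, hu⟩
  letI : Algebra B C := u.toRingHom.toAlgebra
  haveI : IsScalarTower Λ B C := IsScalarTower.of_algebraMap_eq (fun r => (u.commutes r).symm)
  have hualg : ∀ b : B, algebraMap B C b = u b := fun b => rfl
  let f : A →ₐ[Λ] C := u.comp (IsScalarTower.toAlgHom Λ A B)
  have e : (Ideal.Quotient.mkₐ Λ J).comp f = IsScalarTower.toAlgHom Λ A (C ⧸ J) := by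
    ext a
    have h1 := congrArg (fun g => g (algebraMap A B a)) hu
    simp only [AlgHom.comp_apply, AlgHom.restrictScalars_apply] at h1
    simp only [AlgHom.comp_apply, f, IsScalarTower.coe_toAlgHom']
    rw [h1, u₀.commutes]
  let δ : Derivation Λ A J := derivationToSquareZeroOfLift J hJ f e
  have hδ : ∀ a : A, ((δ a : J) : C) = u (algebraMap A B a) - algebraMap A C a := fun a => rfl
  haveI : IsScalarTower A B J := by
    refine ⟨fun a b j => ?_⟩
    ext
    have h0 : ((δ a : J) : C) * ((u b) * (j : C)) = 0 := by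
      rw [← Ideal.mem_bot, ← hJ, pow_two]
      exact Ideal.mul_mem_mul (δ a).2 (J.mul_mem_left _ j.2)
    rw [hδ] at h0
    simp only [Submodule.coe_smul_of_tower, Algebra.smul_def, hualg, map_mul]
    linear_combination h0
  let δ' : B ⊗[A] Ω[A⁄Λ] →ₗ[B] J := LinearMap.liftBaseChange B δ.liftKaehlerDifferential
  let D : Derivation Λ B J := (δ' ∘ₗ l).compDer (KaehlerDifferential.D Λ B)
  have hD : ∀ a : A, D (algebraMap A B a) = δ a := by
    intro a
    have h1 : KaehlerDifferential.D Λ B (algebraMap A B a) =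
        KaehlerDifferential.mapBaseChange Λ A B (1 ⊗ₜ KaehlerDifferential.D Λ A a) := by
      rw [KaehlerDifferential.mapBaseChange_tmul, one_smul, KaehlerDifferential.map_D]
    have h2 : l (KaehlerDifferential.D Λ B (algebraMap A B a)) = 1 ⊗ₜ KaehlerDifferential.D Λ A a := by
      rw [h1]
      exact congrArg (fun g => g (1 ⊗ₜ KaehlerDifferential.D Λ A a)) hl
    show δ' (l (KaehlerDifferential.D Λ B (algebraMap A B a))) = δ a
    rw [h2]
    simp [δ']
  let v₀ : B →ₐ[Λ] C := liftOfDerivationToSquareZero J hJ (-D)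
  have hv₀ : ∀ b : B, v₀ b = -((D b : J) : C) + u b := fun b => by
    show (((-D) b : J) : C) + algebraMap B C b = _
    simp [hualg]
  refine ⟨{ v₀.toRingHom with commutes' := fun a => ?_ }, ?_⟩
  · show v₀ (algebraMap A B a) = algebraMap A C a
    rw [hv₀, hD, hδ]; ring
  · ext b
    show Ideal.Quotient.mk J (v₀ b) = u₀ b
    have h1 := congrArg (fun g => g b) hu
    simp only [AlgHom.comp_apply, AlgHom.restrictScalars_apply] at h1
    rw [hv₀, ← h1]
    show Ideal.Quotient.mk J _ = Ideal.Quotient.mk J (u b)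
    rw [map_add, map_neg, Ideal.Quotient.eq_zero_iff_mem.mpr (D b).2, neg_zero, zero_add]

section
variable (Λ A B : Type u) [CommRing Λ] [CommRing A] [CommRing B]
    [Algebra Λ A] [Algebra Λ B] [Algebra A B] [IsScalarTower Λ A B]

/-- The ring hom `A → B ⊕ (B ⊗ Ω_{A/Λ})`, `a ↦ (a, 1 ⊗ da)`. -/
noncomputable def phi : A →+* TrivSqZeroExt B (B ⊗[A] Ω[A⁄Λ]) where
  toFun a := TrivSqZeroExt.inl (algebraMap A B a) + TrivSqZeroExt.inr (1 ⊗ₜ KaehlerDifferential.D Λ A a)
  map_one' := by
    ext <;> simp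
  map_mul' a b := by
    ext
    · simp
    · simp only [TrivSqZeroExt.snd_add, TrivSqZeroExt.snd_inl, TrivSqZeroExt.snd_inr, zero_add,
        TrivSqZeroExt.snd_mul, TrivSqZeroExt.fst_add, TrivSqZeroExt.fst_inl, TrivSqZeroExt.fst_inr,
        add_zero, Derivation.leibniz, TensorProduct.tmul_add, op_smul_eq_smul]
      rw [TensorProduct.tmul_smul, TensorProduct.tmul_smul, ← algebraMap_smul B a, ← algebraMap_smul B b]
  map_zero' := by
    ext <;> simp
  map_add' a b := by
    ext
    · simp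
    · simp [TensorProduct.tmul_add]

lemma phi_fst (a : A) : (phi Λ A B a).fst = algebraMap A B a := by simp [phi]
lemma phi_snd (a : A) : (phi Λ A B a).snd = 1 ⊗ₜ KaehlerDifferential.D Λ A a := by simp [phi]

/-- Type synonym hiding the scalar actions on the trivial square zero extension. -/
def Ext : Type u := TrivSqZeroExt B (B ⊗[A] Ω[A⁄Λ])

noncomputable instance : CommRing (Ext Λ A B) :=
  inferInstanceAs (CommRing (TrivSqZeroExt B (B ⊗[A] Ω[A⁄Λ])))

/-- `phi` with values in the synonym. -/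
noncomputable def phi' : A →+* Ext Λ A B := phi Λ A B
/-- first projection -/
noncomputable def fstR : Ext Λ A B →+* B := (TrivSqZeroExt.fstHom B B (B ⊗[A] Ω[A⁄Λ])).toRingHom
/-- inclusion -/
noncomputable def inlR : B →+* Ext Λ A B := TrivSqZeroExt.inlHom B (B ⊗[A] Ω[A⁄Λ])
/-- second projection -/
def sndE (e : Ext Λ A B) : B ⊗[A] Ω[A⁄Λ] := TrivSqZeroExt.snd (R := B) (M := B ⊗[A] Ω[A⁄Λ]) e

lemma ext_E {e e' : Ext Λ A B} (h1 : fstR Λ A B e = fstR Λ A B e') (h2 : sndE Λ A B e = sndE Λ A B e') :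
    e = e' := TrivSqZeroExt.ext h1 h2
lemma fstR_phi' (a : A) : fstR Λ A B (phi' Λ A B a) = algebraMap A B a := phi_fst Λ A B a
lemma sndE_phi' (a : A) : sndE Λ A B (phi' Λ A B a) = 1 ⊗ₜ KaehlerDifferential.D Λ A a := phi_snd Λ A B a
lemma fstR_inlR (b : B) : fstR Λ A B (inlR Λ A B b) = b := rfl
lemma sndE_inlR (b : B) : sndE Λ A B (inlR Λ A B b) = 0 := rfl
lemma sndE_mul (e e' : Ext Λ A B) : sndE Λ A B (e * e') =
    fstR Λ A B e • sndE Λ A B e' + fstR Λ A B e' • sndE Λ A B e := by
  show TrivSqZeroExt.snd (R := B) (M := B ⊗[A] Ω[A⁄Λ]) (_ * _) = _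
  rw [TrivSqZeroExt.snd_mul, op_smul_eq_smul]; rfl
lemma sndE_add (e e' : Ext Λ A B) : sndE Λ A B (e + e') = sndE Λ A B e + sndE Λ A B e' := rfl
lemma sndE_zero : sndE Λ A B 0 = 0 := rfl

theorem exists_leftInverse_of_isFormallySmoothRel (h : EGA41.IsFormallySmoothRel Λ A B) :
    ∃ l : Ω[B⁄Λ] →ₗ[B] B ⊗[A] Ω[A⁄Λ],
      l ∘ₗ KaehlerDifferential.mapBaseChange Λ A B = LinearMap.id := by
  let M := B ⊗[A] Ω[A⁄Λ]
  let E := Ext Λ A B
  letI algAE : Algebra A E := (phi' Λ A B).toAlgebra
  letI algLE : Algebra Λ E := ((phi' Λ A B).comp (algebraMap Λ A)).toAlgebra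
  haveI : IsScalarTower Λ A E := IsScalarTower.of_algebraMap_eq (fun r => rfl)
  let J : Ideal E := RingHom.ker (fstR Λ A B)
  have hJmem : ∀ e : E, e ∈ J ↔ fstR Λ A B e = 0 := fun e => RingHom.mem_ker
  have hJ : J ^ 2 = ⊥ := by
    rw [pow_two, eq_bot_iff, Ideal.mul_le]
    intro x hx y hy
    rw [hJmem] at hx hy
    rw [Ideal.mem_bot]
    apply ext_E
    · rw [map_mul, hx, zero_mul, map_zero]
    · rw [sndE_mul, hx, hy, zero_smul, zero_smul, add_zero, sndE_zero]
  let u : B →ₐ[Λ] E :=
    { inlR Λ A B with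
      commutes' := fun r => by
        show inlR Λ A B (algebraMap Λ B r) = phi' Λ A B (algebraMap Λ A r)
        apply ext_E
        · rw [fstR_phi', fstR_inlR, ← IsScalarTower.algebraMap_apply]
        · rw [sndE_phi', sndE_inlR, Derivation.map_algebraMap, TensorProduct.tmul_zero] }
  have hu_apply : ∀ b : B, u b = inlR Λ A B b := fun b => rfl
  let u₀ : B →ₐ[A] E ⧸ J :=
    { (Ideal.Quotient.mk J).comp (inlR Λ A B) with
      commutes' := fun a => by
        show Ideal.Quotient.mk J (inlR Λ A B (algebraMap A B a)) =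
          Ideal.Quotient.mk J (phi' Λ A B a)
        rw [Ideal.Quotient.eq, hJmem, map_sub, fstR_phi', fstR_inlR, sub_self] }
  obtain ⟨v, hv⟩ := h E J hJ u₀ ⟨u, by ext b; rfl⟩
  have hvfst : ∀ b : B, fstR Λ A B (v b) = b := by
    intro b
    have h1 := congrArg (fun g => g b) hv
    have h2 : Ideal.Quotient.mk J (v b) = Ideal.Quotient.mk J (inlR Λ A B b) := h1
    rw [Ideal.Quotient.eq, hJmem, map_sub, fstR_inlR, sub_eq_zero] at h2
    exact h2
  have hvA : ∀ a : A, v (algebraMap A B a) = phi' Λ A B a := fun a => v.commutes a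
  let Dv : Derivation Λ B M := Derivation.mk'
    { toFun := fun b => sndE Λ A B (v b)
      map_add' := fun b b' => by rw [map_add, sndE_add]
      map_smul' := fun r b => by
        have h1 : r • b = algebraMap A B (algebraMap Λ A r) * b := by
          rw [← IsScalarTower.algebraMap_apply, Algebra.smul_def]
        simp only [RingHom.id_apply]
        rw [h1, map_mul, hvA, sndE_mul, fstR_phi', sndE_phi', Derivation.map_algebraMap,
          TensorProduct.tmul_zero, smul_zero, add_zero, ← IsScalarTower.algebraMap_apply,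
          algebraMap_smul] }
    (fun b b' => by
      show sndE Λ A B (v (b * b')) = b • sndE Λ A B (v b') + b' • sndE Λ A B (v b)
      rw [map_mul, sndE_mul, hvfst, hvfst])
  have hDv : ∀ b : B, Dv b = sndE Λ A B (v b) := fun b => rfl
  refine ⟨Dv.liftKaehlerDifferential, ?_⟩
  have key : ∀ ω : Ω[A⁄Λ], Dv.liftKaehlerDifferential (KaehlerDifferential.map Λ Λ A B ω) =
      (1 : B) ⊗ₜ[A] ω := by
    intro ω
    have := Derivation.liftKaehlerDifferential_unique
      (f := (Dv.liftKaehlerDifferential.restrictScalars A) ∘ₗ (KaehlerDifferential.map Λ Λ A B))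
      (f' := TensorProduct.mk A B Ω[A⁄Λ] 1) (by
        ext a
        show Dv.liftKaehlerDifferential (KaehlerDifferential.map Λ Λ A B (KaehlerDifferential.D Λ A a)) =
          (1 : B) ⊗ₜ[A] KaehlerDifferential.D Λ A a
        rw [KaehlerDifferential.map_D, Derivation.liftKaehlerDifferential_comp_D]
        rw [hDv, hvA, sndE_phi'])
    exact congrArg (fun g => g ω) this
  apply LinearMap.ext
  intro x
  induction x using TensorProduct.induction_on with
  | zero => simp
  | add x y hx hy =>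
    simp only [LinearMap.comp_apply, LinearMap.id_apply, map_add] at hx hy ⊢
    rw [hx, hy]
  | tmul b ω =>
    simp only [LinearMap.comp_apply, LinearMap.id_apply, KaehlerDifferential.mapBaseChange_tmul,
      map_smul, key]
    rw [TensorProduct.smul_tmul', smul_eq_mul, mul_one]

end


end Groth.Agent.H2.FSRel
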