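import Groth.Agent.Lib.Helper2.FSchAdic
import Groth.Agent.S1304
import Groth.Agent.S1305
import Groth.Agent.S1309
import Groth.Agent.S1313
import Groth.Agent.S2306

/-! # Properties of adic morphisms of formal systems are detected at level zero. -/

set_option autoImplicit false
universe u
open CategoryTheory CategoryTheory.Limits AlgebraicGeometry

namespace Groth.Agent.H2.FSchLevel

open Groth.Agent.H2.FSchAdic

variable {𝔛 𝔜 : FSch.Sys.{u}}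

theorem surjective_toX (h : 𝔛.IsFormal) (m : ℕ) : Function.Surjective (𝔛.toX m) := by
  induction m with
  | zero => rw [toX_zero]; exact fun x => ⟨x, rfl⟩
  | succ m ih =>
    rw [toX_succ]
    intro y
    obtain ⟨x, rfl⟩ := (h m).2 y
    obtain ⟨z, rfl⟩ := ih x
    exact ⟨z, rfl⟩

theorem isThickening_toX (h : 𝔛.IsFormal) (m : ℕ) : MoreMor.IsThickening (𝔛.toX m) :=
  ⟨isClosedImmersion_toX h m, ⟨surjective_toX h m⟩⟩

theorem isFiniteOrderThickening_toX (h : 𝔛.IsFormal) (h' : 𝔛.IsAdic) (m : ℕ) :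
    MoreMor.IsFiniteOrderThickening (𝔛.toX m) :=
  ⟨isThickening_toX h m, ⟨m + 1, ker_toX_pow 𝔛 h h' m⟩⟩

variable (f : 𝔛 ⟶ 𝔜)

theorem locallyOfFiniteType_level (h𝔜 : 𝔜.IsFormal) (h𝔜' : 𝔜.IsAdic) (hf : FSch.IsAdicHom f)
    [LocallyOfFiniteType ((f : FSch.Hom 𝔛 𝔜).app 0)] (n : ℕ) :
    LocallyOfFiniteType ((f : FSch.Hom 𝔛 𝔜).app n) :=
  (Groth.Agent.S1309.result (𝔛.toX n) (𝔜.toX n) _ _ (isFiniteOrderThickening_toX h𝔜 h𝔜' n)
    (isPullback_toX f hf n)).mp inferInstance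

theorem isFinite_level (h𝔜 : 𝔜.IsFormal) (h𝔜' : 𝔜.IsAdic) (hf : FSch.IsAdicHom f)
    [IsFinite ((f : FSch.Hom 𝔛 𝔜).app 0)] (n : ℕ) :
    IsFinite ((f : FSch.Hom 𝔛 𝔜).app n) := by
  have h𝔛 := isFormal_of_isAdicHom f hf h𝔜
  have h1 := locallyOfFiniteType_level f h𝔜 h𝔜' hf n
  have h2 : IsIntegralHom ((f : FSch.Hom 𝔛 𝔜).app n) :=
    (Groth.Agent.S1305.result (𝔛.toX n) (𝔜.toX n) _ _ (isThickening_toX h𝔛 n)
      (isThickening_toX h𝔜 n) (isPullback_toX f hf n).w).mp inferInstance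
  rw [IsFinite.iff_isIntegralHom_and_locallyOfFiniteType]
  exact ⟨h2, h1⟩

theorem isClosedImmersion_level (h𝔜 : 𝔜.IsFormal) (h𝔜' : 𝔜.IsAdic) (hf : FSch.IsAdicHom f)
    [IsClosedImmersion ((f : FSch.Hom 𝔛 𝔜).app 0)] (n : ℕ) :
    IsClosedImmersion ((f : FSch.Hom 𝔛 𝔜).app n) := by
  have h1 := locallyOfFiniteType_level f h𝔜 h𝔜' hf n
  exact (Groth.Agent.S1313.result (𝔛.toX n) (𝔜.toX n) _ _ (isThickening_toX h𝔜 n)
    (isPullback_toX f hf n)).mp inferInstance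

theorem isProper_level (h𝔜 : 𝔜.IsFormal) (h𝔜' : 𝔜.IsAdic) (hf : FSch.IsAdicHom f)
    [IsProper ((f : FSch.Hom 𝔛 𝔜).app 0)] (n : ℕ) :
    IsProper ((f : FSch.Hom 𝔛 𝔜).app n) := by
  have h𝔛 := isFormal_of_isAdicHom f hf h𝔜
  have h1 := locallyOfFiniteType_level f h𝔜 h𝔜' hf n
  have h2 : UniversallyClosed ((f : FSch.Hom 𝔛 𝔜).app n) :=
    (Groth.Agent.S1304.result (𝔛.toX n) (𝔜.toX n) _ _ (isThickening_toX h𝔛 n)
      (isThickening_toX h𝔜 n) (isPullback_toX f hf n).w).mp inferInstance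
  have := isClosedImmersion_toX h𝔛 n
  have := isClosedImmersion_toX h𝔜 n
  haveI : Surjective (𝔛.toX n) := ⟨surjective_toX h𝔛 n⟩
  have h3 : IsSeparated ((f : FSch.Hom 𝔛 𝔜).app n) :=
    (Groth.Agent.S2306.result ((f : FSch.Hom 𝔛 𝔜).app n) ((f : FSch.Hom 𝔛 𝔜).app 0) (𝔛.toX n)
      (𝔜.toX n) (isPullback_toX f hf n).w.symm).mpr inferInstance
  exact { }

end Groth.Agent.H2.FSchLevel
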