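import Mathlib

/-! Flatness over an Artinian local base from codimension one: elementary core.

`A` is a local ring with nilpotent maximal ideal `𝔪`, `B` a Noetherian `A`-algebra.  We work with
the relation "`b ∈ I` locally at the prime `q`" and elementary consequences of flatness and
reducedness of fibres at primes of height at most one. -/

universe u
open IsLocalRing

namespace Groth.Agent.H2.FamCyc

section Socle
variable {A : Type u} [CommRing A] [IsLocalRing A]

/-- a socle element modulo `J` -/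
theorem exists_socle (hnil : IsNilpotent (maximalIdeal A)) (J : Ideal A) (hJ : J ≤ maximalIdeal A)
    (hJm : J ≠ maximalIdeal A) :
    ∃ ε ∈ maximalIdeal A, ε ∉ J ∧ ∀ a ∈ maximalIdeal A, a * ε ∈ J := by
  classical
  obtain ⟨r, hr⟩ := hnil
  have hex : ∃ n, maximalIdeal A ^ n ≤ J := ⟨r, by rw [hr]; exact bot_le⟩
  have hn0 : Nat.find hex ≠ 0 := by
    intro h0
    have := Nat.find_spec hex
    rw [h0, pow_zero, Ideal.one_eq_top, top_le_iff] at this
    rw [this] at hJ
    exact (IsLocalRing.maximalIdeal.isMaximal A).ne_top (top_le_iff.mp hJ)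
  obtain ⟨i, hi⟩ := Nat.exists_eq_succ_of_ne_zero hn0
  have hi1 : ¬ maximalIdeal A ^ i ≤ J := Nat.find_min hex (by omega)
  have hi2 : maximalIdeal A ^ (i + 1) ≤ J := by
    have := Nat.find_spec hex
    rwa [hi] at this
  have hi0 : i ≠ 0 := by
    intro h0
    rw [h0, zero_add, pow_one] at hi2
    exact hJm (le_antisymm hJ hi2)
  obtain ⟨ε, hε, hεJ⟩ := Set.not_subset.mp hi1
  refine ⟨ε, ?_, hεJ, ?_⟩
  · exact Ideal.pow_le_self hi0 hε
  · intro a ha
    apply hi2
    rw [pow_succ']
    exact Ideal.mul_mem_mul ha hε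

theorem mem_maximalIdeal_of_mul_mem {J : Ideal A} {ε : A} (hε : ε ∉ J) {a : A}
    (h : a * ε ∈ J) : a ∈ maximalIdeal A := by
  by_contra ha
  have hu : IsUnit a := by
    by_contra hnu
    exact ha ((IsLocalRing.mem_maximalIdeal a).mpr hnu)
  apply hε
  have := J.mul_mem_left (↑hu.unit⁻¹ : A) h
  rwa [← mul_assoc, IsUnit.val_inv_mul, one_mul] at this

end Socle

section Loc
variable {B : Type u} [CommRing B]

/-- `b ∈ I` locally at `q` -/
def Loc (q : Ideal B) (I : Ideal B) (b : B) : Prop := ∃ s, s ∉ q ∧ s * b ∈ I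

theorem Loc.of_mem {q I : Ideal B} (hq : q ≠ ⊤) {b : B} (h : b ∈ I) : Loc q I b := by
  refine ⟨1, ?_, by rwa [one_mul]⟩
  intro h1
  exact hq ((Ideal.eq_top_iff_one q).mpr h1)

theorem Loc.mono {q I I' : Ideal B} (hI : I ≤ I') {b : B} (h : Loc q I b) : Loc q I' b := by
  obtain ⟨s, hs, hsb⟩ := h
  exact ⟨s, hs, hI hsb⟩

theorem Loc.of_mul {q I : Ideal B} [q.IsPrime] {t b : B} (ht : t ∉ q) (h : Loc q I (t * b)) :
    Loc q I b := by
  obtain ⟨s, hs, hsb⟩ := h
  refine ⟨s * t, ?_, by rwa [mul_assoc]⟩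
  intro hst
  rcases Ideal.IsPrime.mem_or_mem ‹q.IsPrime› hst with h | h
  · exact hs h
  · exact ht h

end Loc

section Core
variable (A B : Type u) [CommRing A] [IsLocalRing A] [CommRing B] [Algebra A B]

/-- the elementary hypotheses -/
structure Hyp : Prop where
  nil : IsNilpotent (maximalIdeal A)
  colon : ∀ (q : Ideal B) [q.IsPrime], q.height ≤ 1 → ∀ (J : Ideal A) (ε : A), ε ∉ J →
    (∀ a ∈ maximalIdeal A, a * ε ∈ J) → ∀ b : B,
      Loc q (J.map (algebraMap A B)) (algebraMap A B ε * b) →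
        Loc q ((maximalIdeal A).map (algebraMap A B)) b
  red : ∀ (q : Ideal B) [q.IsPrime], q.height ≤ 1 → ∀ b ∈ nilradical B,
    Loc q ((maximalIdeal A).map (algebraMap A B)) b

variable {A B}

theorem map_maximalIdeal_le_nilradical (H : Hyp A B) :
    (maximalIdeal A).map (algebraMap A B) ≤ nilradical B := by
  rw [Ideal.map_le_iff_le_comap]
  intro a ha
  rw [Ideal.mem_comap, mem_nilradical]
  obtain ⟨r, hr⟩ := H.nil
  refine ⟨r, ?_⟩
  rw [← map_pow]
  have : a ^ r ∈ maximalIdeal A ^ r := Ideal.pow_mem_pow ha r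
  rw [hr] at this
  rw [(Ideal.mem_bot).mp this, map_zero]

/-- Lemma A: an element lying in all minimal primes below `q` is locally in `𝔪B` -/
theorem loc_of_forall_mem_minimalPrimes (H : Hyp A B) (q : Ideal B) [hq : q.IsPrime]
    (hht : q.height ≤ 1) (b : B) (hb : ∀ p ∈ minimalPrimes B, p ≤ q → b ∈ p) :
    Loc q ((maximalIdeal A).map (algebraMap A B)) b := by
  -- some `t ∉ q` and `n` with `t * b ^ n = 0`
  have h1 : ∃ t, t ∉ q ∧ ∃ n : ℕ, t * b ^ n = 0 := by
    by_contra hcon
    push Not at hcon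
    have hdisj : Disjoint ((⊥ : Ideal B) : Set B) ((q.primeCompl ⊔ Submonoid.powers b : Submonoid B) : Set B) := by
      rw [Set.disjoint_left]
      intro z hz hz'
      rw [SetLike.mem_coe, Ideal.mem_bot] at hz
      rw [SetLike.mem_coe, Submonoid.mem_sup] at hz'
      obtain ⟨t, ht, y, ⟨n, rfl⟩, hty⟩ := hz'
      exact hcon t ht n (hty.trans hz)
    obtain ⟨P, hP, -, hPd⟩ := Ideal.exists_le_prime_disjoint _ _ hdisj
    have hPq : P ≤ q := by
      intro z hz
      by_contra hzq
      exact Set.disjoint_left.mp hPd hz (Submonoid.mem_sup_left hzq)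
    have hbP : b ∉ P := fun hbP =>
      Set.disjoint_left.mp hPd hbP (Submonoid.mem_sup_right (Submonoid.mem_powers b))
    obtain ⟨p, hp, hpP⟩ := Ideal.exists_minimalPrimes_le (I := ⊥) (J := P) bot_le
    exact hbP (hpP (hb p hp (hpP.trans hPq)))
  obtain ⟨t, ht, n, htn⟩ := h1
  have h2 : t * b ∈ nilradical B := by
    rw [mem_nilradical]
    refine ⟨n + 1, ?_⟩
    rw [mul_pow, pow_succ t, pow_succ b]
    calc t ^ n * t * (b ^ n * b) = t ^ n * b * (t * b ^ n) := by ring
      _ = 0 := by rw [htn, mul_zero]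
  exact (H.red q hht _ h2).of_mul ht

/-- Lemma B: at a non-minimal prime of height `≤ 1` there is an element of `q` which is a
non-zero-divisor on the fibre, locally at `q` -/
theorem exists_regular (H : Hyp A B) [IsNoetherianRing B] (q : Ideal B) [hq : q.IsPrime]
    (hht : q.height ≤ 1) (hmin : q ∉ minimalPrimes B) :
    ∃ x ∈ q, ∀ b, Loc q ((maximalIdeal A).map (algebraMap A B)) (x * b) →
      Loc q ((maximalIdeal A).map (algebraMap A B)) b := by
  classical
  have hfin := minimalPrimes.finite_of_isNoetherianRing B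
  have h1 : ¬ ((q : Set B) ⊆ ⋃ p ∈ (hfin.toFinset : Set (Ideal B)), (p : Set B)) := by
    intro hsub
    rw [Ideal.subset_union_prime (s := hfin.toFinset) (f := fun p => p) q q (by
      intro p hp _ _
      exact ((hfin.mem_toFinset).mp hp).1.1)] at hsub
    obtain ⟨p, hp, hqp⟩ := hsub
    have hp' : p ∈ minimalPrimes B := hfin.mem_toFinset.mp hp
    have : q = p := le_antisymm hqp (hp'.2 ⟨hq, bot_le⟩ hqp)
    exact hmin (this ▸ hp')
  obtain ⟨x, hxq, hx⟩ := Set.not_subset.mp h1
  refine ⟨x, hxq, ?_⟩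
  intro b hb
  apply loc_of_forall_mem_minimalPrimes H q hht
  intro p hp hpq
  obtain ⟨s, hs, hsb⟩ := hb
  have hNp : nilradical B ≤ p := by
    rw [nilradical_eq_sInf]
    exact sInf_le hp.1.1
  have h2 : s * (x * b) ∈ p := hNp (map_maximalIdeal_le_nilradical H hsb)
  have hsp : s ∉ p := fun h => hs (hpq h)
  have hxp : x ∉ p := by
    intro h
    apply hx
    simp only [Set.mem_iUnion]
    exact ⟨p, (hfin.mem_toFinset).mpr hp, h⟩
  rcases hp.1.1.mem_or_mem h2 with h | h
  · exact absurd h hsp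
  · rcases hp.1.1.mem_or_mem h with h | h
    · exact absurd h hxp
    · exact h

omit [IsLocalRing A] in
theorem mul_mem_map_of_forall {I J : Ideal A} {ε : A} (h : ∀ a ∈ I, a * ε ∈ J) {z : B}
    (hz : z ∈ I.map (algebraMap A B)) : algebraMap A B ε * z ∈ J.map (algebraMap A B) := by
  unfold Ideal.map at hz
  induction hz using Submodule.span_induction with
  | mem z hz =>
    obtain ⟨a, ha, rfl⟩ := hz
    rw [← map_mul, mul_comm]
    exact Ideal.mem_map_of_mem _ (h a ha)
  | zero => rw [mul_zero]; exact Ideal.zero_mem _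
  | add z w _ _ hz hw => rw [mul_add]; exact Ideal.add_mem _ hz hw
  | smul c z _ hz =>
    rw [smul_eq_mul, mul_left_comm]
    exact Ideal.mul_mem_left _ _ hz

omit [IsLocalRing A] in
theorem mem_map_sup_span {J : Ideal A} {ε : A} {z : B}
    (hz : z ∈ (J ⊔ Ideal.span {ε}).map (algebraMap A B)) :
    ∃ j ∈ J.map (algebraMap A B), ∃ c : B, z = j + algebraMap A B ε * c := by
  rw [Ideal.map_sup, Ideal.map_span, Set.image_singleton] at hz
  obtain ⟨j, hj, w, hw, rfl⟩ := Submodule.mem_sup.mp hz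
  obtain ⟨c, rfl⟩ := Ideal.mem_span_singleton'.mp hw
  exact ⟨j, hj, c, by rw [mul_comm]⟩

/-- Lemma L: a fibrewise non-zero-divisor (locally at `q`, of height `≤ 1`) is a non-zero-divisor
modulo `J B` for every `J ≤ 𝔪`, locally at `q` -/
theorem regular_mod_of_regular_fibre (H : Hyp A B) [IsNoetherianRing A] (q : Ideal B)
    [hq : q.IsPrime] (hht : q.height ≤ 1) (x : B)
    (hx : ∀ b, Loc q ((maximalIdeal A).map (algebraMap A B)) (x * b) →
      Loc q ((maximalIdeal A).map (algebraMap A B)) b) :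
    ∀ J : Ideal A, J ≤ maximalIdeal A → ∀ b, Loc q (J.map (algebraMap A B)) (x * b) →
      Loc q (J.map (algebraMap A B)) b := by
  intro J
  induction J using WellFoundedGT.induction with
  | ind J ih =>
    intro hJ b hb
    by_cases hJm : J = maximalIdeal A
    · subst hJm
      exact hx b hb
    obtain ⟨ε, hεm, hεJ, hεs⟩ := exists_socle H.nil J hJ hJm
    have hlt : J < J ⊔ Ideal.span {ε} := by
      refine lt_of_le_of_ne le_sup_left ?_
      intro h
      apply hεJ
      rw [h]
      exact Ideal.mem_sup_right (Ideal.mem_span_singleton_self ε)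
    have hle : J ⊔ Ideal.span {ε} ≤ maximalIdeal A :=
      sup_le hJ ((Ideal.span_singleton_le_iff_mem _).mpr hεm)
    obtain ⟨s', hs', hs'b⟩ := ih _ hlt hle b (hb.mono (Ideal.map_mono le_sup_left))
    obtain ⟨j, hj, c, hjc⟩ := mem_map_sup_span hs'b
    obtain ⟨s, hs, hsxb⟩ := hb
    have key : algebraMap A B ε * (s * x * c) ∈ J.map (algebraMap A B) := by
      have h1 : algebraMap A B ε * (s * x * c) = s' * (s * (x * b)) - s * x * j := by
        have : s' * (s * (x * b)) = s * x * (s' * b) := by ring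
        rw [this, hjc]
        ring
      rw [h1]
      exact Ideal.sub_mem _ (Ideal.mul_mem_left _ _ hsxb) (Ideal.mul_mem_left _ _ hj)
    have h3 := H.colon q hht J ε hεJ hεs _ (Loc.of_mem hq.ne_top key)
    have h4 : Loc q ((maximalIdeal A).map (algebraMap A B)) (x * c) := by
      rw [mul_assoc] at h3
      exact h3.of_mul hs
    obtain ⟨t', ht', ht'c⟩ := hx c h4
    refine ⟨t' * s', ?_, ?_⟩
    · intro h
      rcases hq.mem_or_mem h with h | h
      · exact ht' h
      · exact hs' h
    · have h5 : t' * s' * b = t' * j + algebraMap A B ε * (t' * c) := by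
        rw [mul_assoc, hjc]
        ring
      rw [h5]
      exact Ideal.add_mem _ (Ideal.mul_mem_left _ _ hj) (mul_mem_map_of_forall hεs ht'c)

end Core

end Groth.Agent.H2.FamCyc
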