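import Mathlib
import Groth.Agent.Lib.Helper2.FamCyc1

/-! Flatness over an Artinian local base from codimension one: the key claim on socle elements
and associated primes of height at most one. -/

universe u
open IsLocalRing
set_option linter.style.haveILetI false

namespace Groth.Agent.H2.FamCyc

section KC
variable {A B : Type u} [CommRing A] [IsLocalRing A] [CommRing B] [Algebra A B]

/-- `B / J B` has no embedded associated primes -/
def S1 (J : Ideal A) : Prop :=
  ∀ q ∈ associatedPrimes B (B ⧸ J.map (algebraMap A B)), q ∈ minimalPrimes B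

theorem height_le_one_of_mem_minimalPrimes {p : Ideal B} (hp : p ∈ minimalPrimes B) :
    haveI := hp.1.1
    p.height ≤ 1 := by
  haveI := hp.1.1
  rw [Ideal.height_eq_zero_iff.mpr hp]
  exact zero_le_one

theorem mem_nilradical_iff_forall_minimalPrimes {b : B} :
    b ∈ nilradical B ↔ ∀ p ∈ minimalPrimes B, b ∈ p := by
  have : nilradical B = sInf (minimalPrimes B) := (Ideal.sInf_minimalPrimes (I := ⊥)).symm
  rw [this, Ideal.mem_sInf]

/-- key claim, first half -/
theorem smul_socle_mem_of_mem_nilradical (H : Hyp A B) [IsNoetherianRing B] {J : Ideal A}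
    (hS : S1 (B := B) J) {ε : A} (hεs : ∀ a ∈ maximalIdeal A, a * ε ∈ J) {b : B}
    (hb : b ∈ nilradical B) : algebraMap A B ε * b ∈ J.map (algebraMap A B) := by
  by_contra hcon
  have hz : (Ideal.Quotient.mk (J.map (algebraMap A B)) (algebraMap A B ε * b)) ≠ 0 := by
    rwa [Ne, Ideal.Quotient.eq_zero_iff_mem]
  obtain ⟨P, hP, hle⟩ := exists_le_isAssociatedPrime_of_isNoetherianRing B _ hz
  have hPmin := hS P hP
  haveI := hPmin.1.1
  obtain ⟨s, hs, hsb⟩ := H.red P (height_le_one_of_mem_minimalPrimes hPmin) b hb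
  apply hs
  apply hle
  rw [Submodule.mem_colon_singleton, Submodule.mem_bot]
  change Ideal.Quotient.mk _ (s * (algebraMap A B ε * b)) = 0
  rw [Ideal.Quotient.eq_zero_iff_mem, mul_left_comm]
  exact mul_mem_map_of_forall hεs hsb

/-- key claim, second half -/
theorem mem_nilradical_of_smul_socle_mem (H : Hyp A B) {J : Ideal A} {ε : A} (hεJ : ε ∉ J)
    (hεs : ∀ a ∈ maximalIdeal A, a * ε ∈ J) {b : B}
    (hb : algebraMap A B ε * b ∈ J.map (algebraMap A B)) : b ∈ nilradical B := by
  rw [mem_nilradical_iff_forall_minimalPrimes]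
  intro p hp
  haveI := hp.1.1
  obtain ⟨s, hs, hsb⟩ := H.colon p (height_le_one_of_mem_minimalPrimes hp) J ε hεJ hεs b
    (Loc.of_mem hp.1.1.ne_top hb)
  have hNp : nilradical B ≤ p := by
    rw [nilradical_eq_sInf]
    exact sInf_le hp.1.1
  have h2 := hNp (map_maximalIdeal_le_nilradical H hsb)
  exact (hp.1.1.mem_or_mem h2).resolve_left hs

/-- associated primes of `B / J B` of height at most one are minimal -/
theorem mem_minimalPrimes_of_mem_associatedPrimes (H : Hyp A B) [IsNoetherianRing A]
    [IsNoetherianRing B] {J : Ideal A} (hJ : J ≤ maximalIdeal A) (q : Ideal B) [hq : q.IsPrime]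
    (hht : q.height ≤ 1)
    (hass : q ∈ associatedPrimes B (B ⧸ J.map (algebraMap A B))) : q ∈ minimalPrimes B := by
  by_contra hmin
  obtain ⟨x, hxq, hx⟩ := exists_regular H q hht hmin
  have hreg := regular_mod_of_regular_fibre H q hht x hx J hJ
  obtain ⟨-, z, hz⟩ := (isAssociatedPrime_iff).mp hass
  obtain ⟨z, rfl⟩ := Ideal.Quotient.mk_surjective z
  have h1 : x * z ∈ J.map (algebraMap A B) := by
    rw [hz, Submodule.mem_colon_singleton, Submodule.mem_bot] at hxq
    exact Ideal.Quotient.eq_zero_iff_mem.mp hxq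
  obtain ⟨s, hs, hsz⟩ := hreg z (Loc.of_mem hq.ne_top h1)
  apply hs
  rw [hz, Submodule.mem_colon_singleton, Submodule.mem_bot]
  exact Ideal.Quotient.eq_zero_iff_mem.mpr hsz

end KC

end Groth.Agent.H2.FamCyc
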