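import Mathlib
import Groth.Agent.Lib.Helper2.FamCyc2

/-! Flatness over an Artinian local base from codimension one: the main induction. -/

universe u
open IsLocalRing
set_option linter.style.haveILetI false

namespace Groth.Agent.H2.FamCyc

section Ind
variable {A B : Type u} [CommRing A] [IsLocalRing A] [CommRing B] [Algebra A B]

/-- independence modulo `𝔪 B` -/
def IndepMod {n : ℕ} (b : Fin n → B) : Prop :=
  ∀ a : Fin n → A, (∑ i, algebraMap A B (a i) * b i) ∈ (maximalIdeal A).map (algebraMap A B) →
    ∀ i, a i ∈ maximalIdeal A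

/-- independence modulo `J B` of families independent modulo `𝔪 B` -/
def Ind (J : Ideal A) : Prop :=
  ∀ (n : ℕ) (b : Fin n → B), IndepMod (A := A) b → ∀ a : Fin n → A,
    (∑ i, algebraMap A B (a i) * b i) ∈ J.map (algebraMap A B) → ∀ i, a i ∈ J

/-- the step hypothesis: passing to the next quotient creates no associated primes of height
at least two -/
def Step : Prop :=
  ∀ (J : Ideal A) (ε : A), J ≤ maximalIdeal A → ε ∈ maximalIdeal A → ε ∉ J →
    (∀ a ∈ maximalIdeal A, a * ε ∈ J) → S1 (B := B) J →
    ∀ q ∈ associatedPrimes B (B ⧸ (J ⊔ Ideal.span {ε}).map (algebraMap A B)),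
      ∀ [q.IsPrime], q.height ≤ 1

theorem nilradical_le_of_S1 (H : Hyp A B) [IsNoetherianRing B]
    (hS : S1 (B := B) (maximalIdeal A)) :
    nilradical B ≤ (maximalIdeal A).map (algebraMap A B) := by
  intro b hb
  by_contra hcon
  have hz : (Ideal.Quotient.mk ((maximalIdeal A).map (algebraMap A B)) b) ≠ 0 := by
    rwa [Ne, Ideal.Quotient.eq_zero_iff_mem]
  obtain ⟨P, hP, hle⟩ := exists_le_isAssociatedPrime_of_isNoetherianRing B _ hz
  have hPmin := hS P hP
  haveI := hPmin.1.1
  obtain ⟨s, hs, hsb⟩ := H.red P (height_le_one_of_mem_minimalPrimes hPmin) b hb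
  apply hs
  apply hle
  rw [Submodule.mem_colon_singleton, Submodule.mem_bot]
  exact Ideal.Quotient.eq_zero_iff_mem.mpr hsb

theorem main_induction (H : Hyp A B) [IsNoetherianRing A] [IsNoetherianRing B]
    (hstep : Step (A := A) (B := B)) :
    ∀ J : Ideal A, J ≤ maximalIdeal A → S1 (B := B) J →
      nilradical B ≤ (maximalIdeal A).map (algebraMap A B) ∧ Ind (B := B) J := by
  intro J
  induction J using WellFoundedGT.induction with
  | ind J ih =>
    intro hJ hS
    by_cases hJm : J = maximalIdeal A
    · subst hJm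
      refine ⟨nilradical_le_of_S1 H hS, ?_⟩
      intro n b hb a ha
      exact hb a ha
    obtain ⟨ε, hεm, hεJ, hεs⟩ := exists_socle H.nil J hJ hJm
    have hlt : J < J ⊔ Ideal.span {ε} := by
      refine lt_of_le_of_ne le_sup_left ?_
      intro h
      apply hεJ
      rw [h]
      exact Ideal.mem_sup_right (Ideal.mem_span_singleton_self ε)
    have hle : J ⊔ Ideal.span {ε} ≤ maximalIdeal A :=
      sup_le hJ ((Ideal.span_singleton_le_iff_mem _).mpr hεm)
    have hS' : S1 (B := B) (J ⊔ Ideal.span {ε}) := by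
      intro q hq
      haveI : q.IsPrime := hq.isPrime
      exact mem_minimalPrimes_of_mem_associatedPrimes H hle q
        (hstep J ε hJ hεm hεJ hεs hS q hq) hq
    obtain ⟨hN, hI⟩ := ih _ hlt hle hS'
    refine ⟨hN, ?_⟩
    intro n b hb a ha
    have h1 : ∀ i, a i ∈ J ⊔ Ideal.span {ε} :=
      hI n b hb a (Ideal.map_mono le_sup_left ha)
    have h2 : ∀ i, ∃ j ∈ J, ∃ u : A, a i = j + u * ε := by
      intro i
      obtain ⟨j, hj, w, hw, e⟩ := Submodule.mem_sup.mp (h1 i)
      obtain ⟨u, rfl⟩ := Ideal.mem_span_singleton'.mp hw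
      exact ⟨j, hj, u, e.symm⟩
    choose j hj u hu using h2
    have h3 : algebraMap A B ε * (∑ i, algebraMap A B (u i) * b i) ∈ J.map (algebraMap A B) := by
      have : algebraMap A B ε * (∑ i, algebraMap A B (u i) * b i) =
          (∑ i, algebraMap A B (a i) * b i) - ∑ i, algebraMap A B (j i) * b i := by
        rw [Finset.mul_sum, ← Finset.sum_sub_distrib]
        apply Finset.sum_congr rfl
        intro i _
        rw [hu i, map_add, map_mul]
        ring
      rw [this]
      apply Ideal.sub_mem _ ha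
      apply Ideal.sum_mem
      intro i _
      exact Ideal.mul_mem_right _ _ (Ideal.mem_map_of_mem _ (hj i))
    have h4 := hN (mem_nilradical_of_smul_socle_mem H hεJ hεs h3)
    have h5 := hb u h4
    intro i
    rw [hu i]
    exact Ideal.add_mem _ (hj i) (hεs _ (h5 i))

end Ind

end Groth.Agent.H2.FamCyc
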