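import Mathlib

/-!
# Symbolic powers and flat base change (via the equational criterion of flatness)
-/

namespace Groth.Agent.H2.SymbPow

variable {R S : Type*} [CommRing R] [CommRing S] [Algebra R S]

/-- finite representation of elements of an extended ideal -/
theorem exists_repr_of_mem_map (I : Ideal R) (x : S) (hx : x ∈ I.map (algebraMap R S)) :
    ∃ (n : ℕ) (u : Fin n → S) (b : Fin n → R), (∀ l, b l ∈ I) ∧
      x = ∑ l, u l * algebraMap R S (b l) := by
  rw [Ideal.map, Ideal.span, Submodule.mem_span_set'] at hx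
  obtain ⟨n, u, g, rfl⟩ := hx
  have : ∀ l, ∃ b ∈ I, algebraMap R S b = (g l : S) := fun l => (g l).2
  choose b hb hbg using this
  exact ⟨n, u, b, hb, by simp [hbg]⟩

theorem sum_mem_map (I : Ideal R) {n : ℕ} (u : Fin n → S) (b : Fin n → R) (hb : ∀ l, b l ∈ I) :
    ∑ l, u l * algebraMap R S (b l) ∈ I.map (algebraMap R S) :=
  Ideal.sum_mem _ fun l _ => Ideal.mul_mem_left _ _ (Ideal.mem_map_of_mem _ (hb l))

variable [Module.Flat R S]

/-- colon ideals and flat base change -/
theorem mem_map_of_mul_mem (I : Ideal R) (r : R) (hI : ∀ a, r * a ∈ I → a ∈ I) (x : S)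
    (h : algebraMap R S r * x ∈ I.map (algebraMap R S)) : x ∈ I.map (algebraMap R S) := by
  obtain ⟨n, u, b, hb, hx⟩ := exists_repr_of_mem_map I _ h
  let f : Unit ⊕ Fin n → R := Sum.elim (fun _ => r) b
  let z : Unit ⊕ Fin n → S := Sum.elim (fun _ => x) (fun l => - u l)
  have hrel : ∑ i, f i • z i = 0 := by
    rw [Fintype.sum_sum_type]
    simp only [f, z, Sum.elim_inl, Sum.elim_inr, Finset.univ_unique, Finset.sum_singleton,
      Algebra.smul_def, mul_neg, Finset.sum_neg_distrib]
    rw [hx, add_neg_eq_zero]
    exact Finset.sum_congr rfl (fun l _ => mul_comm _ _)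
  obtain ⟨k, a, y, hz, ha⟩ := Module.Flat.isTrivialRelation_of_sum_smul_eq_zero (R := R) (M := S) (f := f) (x := z) hrel
  have hx' : x = ∑ j, y j * algebraMap R S (a (Sum.inl ()) j) := by
    have := hz (Sum.inl ())
    simp only [z, Sum.elim_inl, Algebra.smul_def] at this
    rw [this]
    exact Finset.sum_congr rfl (fun l _ => mul_comm _ _)
  rw [hx']
  apply sum_mem_map
  intro j
  apply hI
  have := ha j
  rw [Fintype.sum_sum_type] at this
  simp only [f, Sum.elim_inl, Sum.elim_inr, Finset.univ_unique, Finset.sum_singleton] at this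
  rw [eq_neg_of_add_eq_zero_left this]
  exact I.neg_mem (I.sum_mem fun l _ => I.mul_mem_right _ (hb l))

/-- the key descent step -/
theorem descend (p I I' : Ideal R) [p.IsPrime] (hq : (p.map (algebraMap R S)).IsPrime)
    (hpI : p * I ≤ I') (hsat : ∀ r a, r ∉ p → r * a ∈ I' → a ∈ I')
    (t : S) (ht : t ∉ p.map (algebraMap R S)) :
    ∀ (d : ℕ) (s : Fin d → S) (a : Fin d → R) (_ : ∀ i, a i ∈ I) (x : S),
      x - ∑ i, s i * algebraMap R S (a i) ∈ I'.map (algebraMap R S) →
      t * x ∈ I'.map (algebraMap R S) → x ∈ I'.map (algebraMap R S) := by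
  intro d
  induction d with
  | zero =>
    intro s a _ x hx _
    simpa using hx
  | succ d ih =>
    intro s a ha x hx htx
    set w := x - ∑ i, s i * algebraMap R S (a i) with hw
    have h1 : ∑ i, (t * s i) * algebraMap R S (a i) ∈ I'.map (algebraMap R S) := by
      have : ∑ i, (t * s i) * algebraMap R S (a i) = t * x - t * w := by
        rw [hw, mul_sub, sub_sub_cancel, Finset.mul_sum]
        exact Finset.sum_congr rfl (fun i _ => mul_assoc _ _ _)
      rw [this]
      exact Ideal.sub_mem _ htx (Ideal.mul_mem_left _ _ hx)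
    obtain ⟨n, u, b, hb, hub⟩ := exists_repr_of_mem_map I' _ h1
    let f : Fin (d + 1) ⊕ Fin n → R := Sum.elim a b
    let z : Fin (d + 1) ⊕ Fin n → S := Sum.elim (fun i => t * s i) (fun l => - u l)
    have hrel : ∑ i, f i • z i = 0 := by
      rw [Fintype.sum_sum_type]
      simp only [f, z, Sum.elim_inl, Sum.elim_inr, Algebra.smul_def, mul_neg,
        Finset.sum_neg_distrib]
      rw [add_neg_eq_zero]
      calc ∑ i, algebraMap R S (a i) * (t * s i) = ∑ i, (t * s i) * algebraMap R S (a i) :=
            Finset.sum_congr rfl (fun l _ => mul_comm _ _)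
        _ = _ := hub
        _ = _ := Finset.sum_congr rfl (fun l _ => mul_comm _ _)
    obtain ⟨k, c, y, hz, hc⟩ := Module.Flat.isTrivialRelation_of_sum_smul_eq_zero (R := R) (M := S) (f := f) (x := z) hrel
    have hts : ∀ i, t * s i = ∑ j, y j * algebraMap R S (c (Sum.inl i) j) := by
      intro i
      have := hz (Sum.inl i)
      simp only [z, Sum.elim_inl, Algebra.smul_def] at this
      rw [this]
      exact Finset.sum_congr rfl (fun l _ => mul_comm _ _)
    have hcI : ∀ j, ∑ i, a i * c (Sum.inl i) j ∈ I' := by
      intro j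
      have := hc j
      rw [Fintype.sum_sum_type] at this
      simp only [f, Sum.elim_inl, Sum.elim_inr] at this
      rw [eq_neg_of_add_eq_zero_left this]
      exact I'.neg_mem (I'.sum_mem fun l _ => I'.mul_mem_right _ (hb l))
    by_cases hall : ∀ i j, c (Sum.inl i) j ∈ p
    · have hsi : ∀ i, s i ∈ p.map (algebraMap R S) := by
        intro i
        have : t * s i ∈ p.map (algebraMap R S) := by
          rw [hts i]
          exact sum_mem_map p _ _ (fun j => hall i j)
        exact (hq.mem_or_mem this).resolve_left ht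
      have : x = w + ∑ i, s i * algebraMap R S (a i) := by rw [hw]; ring
      rw [this]
      refine Ideal.add_mem _ hx (Ideal.sum_mem _ fun i _ => ?_)
      have h2 : s i * algebraMap R S (a i) ∈ (p * I).map (algebraMap R S) := by
        rw [Ideal.map_mul]
        exact Ideal.mul_mem_mul (hsi i) (Ideal.mem_map_of_mem _ (ha i))
      exact Ideal.map_mono hpI h2
    · push Not at hall
      obtain ⟨i0, j0, hr⟩ := hall
      set r := c (Sum.inl i0) j0 with hrdef
      have key : algebraMap R S r * x ∈ I'.map (algebraMap R S) := by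
        apply ih (fun j => algebraMap R S r * s (i0.succAbove j)
            - s i0 * algebraMap R S (c (Sum.inl (i0.succAbove j)) j0))
          (fun j => a (i0.succAbove j)) (fun j => ha _)
        · have hsum := hcI j0
          rw [Fin.sum_univ_succAbove _ i0] at hsum
          have hxw : x = w + ∑ i, s i * algebraMap R S (a i) := by rw [hw]; ring
          rw [Fin.sum_univ_succAbove _ i0] at hxw
          have : algebraMap R S r * x - ∑ j, (algebraMap R S r * s (i0.succAbove j)
              - s i0 * algebraMap R S (c (Sum.inl (i0.succAbove j)) j0))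
                * algebraMap R S (a (i0.succAbove j))
              = algebraMap R S r * w + s i0 * algebraMap R S
                  (a i0 * c (Sum.inl i0) j0
                    + ∑ j, a (i0.succAbove j) * c (Sum.inl (i0.succAbove j)) j0) := by
            rw [hxw]
            simp only [map_add, map_mul, map_sum, sub_mul, Finset.sum_sub_distrib, mul_add,
              Finset.mul_sum]
            rw [← hrdef]
            have e1 : ∀ j, algebraMap R S r * s (i0.succAbove j)
                * algebraMap R S (a (i0.succAbove j))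
                = algebraMap R S r * (s (i0.succAbove j) * algebraMap R S (a (i0.succAbove j))) :=
              fun j => by ring
            have e2 : ∀ j, s i0 * algebraMap R S (c (Sum.inl (i0.succAbove j)) j0)
                * algebraMap R S (a (i0.succAbove j))
                = s i0 * (algebraMap R S (a (i0.succAbove j))
                  * algebraMap R S (c (Sum.inl (i0.succAbove j)) j0)) :=
              fun j => by ring
            simp only [e1, e2]
            ring
          rw [this]
          exact Ideal.add_mem _ (Ideal.mul_mem_left _ _ hx)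
            (Ideal.mul_mem_left _ _ (Ideal.mem_map_of_mem _ hsum))
        · have : t * (algebraMap R S r * x) = algebraMap R S r * (t * x) := by ring
          rw [this]
          exact Ideal.mul_mem_left _ _ htx
      exact mem_map_of_mul_mem I' r (fun a h => hsat r a hr h) x key

end Groth.Agent.H2.SymbPow

namespace Groth.Agent.H2.SymbPow

variable {R S : Type*} [CommRing R] [CommRing S] [Algebra R S]

/-- the `k`-th symbolic power of a prime `p` -/
noncomputable def symb (p : Ideal R) [p.IsPrime] (k : ℕ) : Ideal R :=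
  ((p ^ k).map (algebraMap R (Localization.AtPrime p))).comap (algebraMap R (Localization.AtPrime p))

theorem mem_symb (p : Ideal R) [p.IsPrime] (k : ℕ) (r : R) :
    r ∈ symb p k ↔ ∃ m, m ∉ p ∧ m * r ∈ p ^ k := by
  rw [symb, Ideal.mem_comap,
    IsLocalization.algebraMap_mem_map_algebraMap_iff p.primeCompl]
  constructor
  · rintro ⟨m, hm, h⟩; exact ⟨m, hm, h⟩
  · rintro ⟨m, hm, h⟩; exact ⟨m, hm, h⟩

theorem symb_sat (p : Ideal R) [hp : p.IsPrime] (k : ℕ) (r a : R) (hr : r ∉ p)
    (h : r * a ∈ symb p k) : a ∈ symb p k := by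
  rw [mem_symb] at h ⊢
  obtain ⟨m, hm, hma⟩ := h
  refine ⟨m * r, fun hmr => (hp.mem_or_mem hmr).elim hm hr, ?_⟩
  rwa [mul_assoc]

theorem mul_symb_le (p : Ideal R) [p.IsPrime] (k : ℕ) : p * symb p k ≤ symb p (k + 1) := by
  rw [Ideal.mul_le]
  intro π hπ a ha
  rw [mem_symb] at ha ⊢
  obtain ⟨m, hm, hma⟩ := ha
  refine ⟨m, hm, ?_⟩
  have : m * (π * a) = (m * a) * π := by ring
  rw [this, pow_succ]
  exact Ideal.mul_mem_mul hma hπ

theorem pow_le_symb (p : Ideal R) [p.IsPrime] (k : ℕ) : p ^ k ≤ symb p k :=
  Ideal.le_comap_map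

theorem symb_zero (p : Ideal R) [p.IsPrime] : symb p 0 = ⊤ := by
  rw [eq_top_iff]
  refine le_trans ?_ (pow_le_symb p 0)
  simp

theorem symb_anti (p : Ideal R) [p.IsPrime] {k n : ℕ} (h : k ≤ n) : symb p n ≤ symb p k := by
  intro r hr
  rw [mem_symb] at hr ⊢
  obtain ⟨m, hm, hmr⟩ := hr
  exact ⟨m, hm, Ideal.pow_le_pow_right h hmr⟩

variable [Module.Flat R S]

theorem map_symb (p : Ideal R) [p.IsPrime] [hq : (p.map (algebraMap R S)).IsPrime] (n : ℕ) :
    (symb p n).map (algebraMap R S) = symb (p.map (algebraMap R S)) n := by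
  apply le_antisymm
  · rw [Ideal.map_le_iff_le_comap]
    intro r hr
    rw [mem_symb] at hr
    obtain ⟨m, hm, hmr⟩ := hr
    rw [Ideal.mem_comap, mem_symb]
    refine ⟨algebraMap R S m, ?_, ?_⟩
    · intro hmem
      have h1 : (1 : S) ∈ p.map (algebraMap R S) := by
        apply mem_map_of_mul_mem p m (fun a ha => ?_) 1 (by simpa using hmem)
        exact (‹p.IsPrime›.mem_or_mem ha).resolve_left hm
      exact hq.ne_top ((Ideal.eq_top_iff_one _).2 h1)
    · rw [← map_mul, ← Ideal.map_pow]
      exact Ideal.mem_map_of_mem _ hmr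
  · intro x hx
    rw [mem_symb] at hx
    obtain ⟨t, ht, htx⟩ := hx
    rw [← Ideal.map_pow] at htx
    have hstep : ∀ k, k ≤ n → x ∈ (symb p k).map (algebraMap R S) := by
      intro k
      induction k with
      | zero => intro _; rw [symb_zero, Ideal.map_top]; trivial
      | succ k ih =>
        intro hk
        have hxk := ih (by omega)
        obtain ⟨d, s, a, ha, hxa⟩ := exists_repr_of_mem_map _ _ hxk
        apply descend p (symb p k) (symb p (k + 1)) hq (mul_symb_le p k)
          (fun r a hr h => symb_sat p (k + 1) r a hr h) t ht d s a ha x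
        · rw [hxa, sub_self]; exact Ideal.zero_mem _
        · exact Ideal.map_mono ((pow_le_symb p n).trans (symb_anti p hk)) htx
    exact hstep n le_rfl

end Groth.Agent.H2.SymbPow
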