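import Mathlib
import Groth.Prelude.Def_EGA4b
import Groth.Agent.Lib.Helper2.FamCyc3
import Groth.Agent.Lib.Helper2.SymbPow

/-! Flatness over an Artinian local base from codimension one: the elementary hypotheses from
flatness and reducedness of fibres at the primes of height at most one. -/

universe u
open IsLocalRing
set_option linter.style.haveILetI false

namespace Groth.Agent.H2.FamCyc

section FlatColon
variable {R S : Type*} [CommRing R] [CommRing S] [Algebra R S] [Module.Flat R S]

/-- colon ideals and flat base change -/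
theorem mem_map_of_mul_mem_colon (I I' : Ideal R) (r : R) (hI : ∀ a, r * a ∈ I → a ∈ I') (x : S)
    (h : algebraMap R S r * x ∈ I.map (algebraMap R S)) : x ∈ I'.map (algebraMap R S) := by
  obtain ⟨n, u, b, hb, hx⟩ := SymbPow.exists_repr_of_mem_map I _ h
  let f : Unit ⊕ Fin n → R := Sum.elim (fun _ => r) b
  let z : Unit ⊕ Fin n → S := Sum.elim (fun _ => x) (fun l => - u l)
  have hrel : ∑ i, f i • z i = 0 := by
    rw [Fintype.sum_sum_type]
    simp only [f, z, Sum.elim_inl, Sum.elim_inr, Finset.univ_unique, Finset.sum_singleton,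
      Algebra.smul_def, mul_neg, Finset.sum_neg_distrib]
    rw [hx, add_neg_eq_zero]
    exact Finset.sum_congr rfl (fun l _ => mul_comm _ _)
  obtain ⟨k, a, y, hz, ha⟩ := Module.Flat.isTrivialRelation_of_sum_smul_eq_zero (R := R) (M := S)
    (f := f) (x := z) hrel
  have hx' : x = ∑ j, y j * algebraMap R S (a (Sum.inl ()) j) := by
    have := hz (Sum.inl ())
    simp only [z, Sum.elim_inl, Algebra.smul_def] at this
    rw [this]
    exact Finset.sum_congr rfl (fun l _ => mul_comm _ _)
  rw [hx']
  apply SymbPow.sum_mem_map
  intro j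
  apply hI
  have := ha j
  rw [Fintype.sum_sum_type] at this
  simp only [f, Sum.elim_inl, Sum.elim_inr, Finset.univ_unique, Finset.sum_singleton] at this
  rw [eq_neg_of_add_eq_zero_left this]
  exact I.neg_mem (I.sum_mem fun l _ => I.mul_mem_right _ (hb l))

end FlatColon

section Translate
variable {A B : Type u} [CommRing A] [CommRing B] [Algebra A B]

theorem loc_iff (q : Ideal B) [q.IsPrime] (I : Ideal B) (b : B) :
    Loc q I b ↔ algebraMap B (Localization.AtPrime q) b ∈
      I.map (algebraMap B (Localization.AtPrime q)) := by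
  rw [IsLocalization.algebraMap_mem_map_algebraMap_iff q.primeCompl]
  constructor
  · rintro ⟨s, hs, h⟩
    exact ⟨s, hs, h⟩
  · rintro ⟨s, hs, h⟩
    exact ⟨s, hs, h⟩

theorem map_map_loc (q : Ideal B) [q.IsPrime] (J : Ideal A) :
    (J.map (algebraMap A B)).map (algebraMap B (Localization.AtPrime q)) =
      J.map (algebraMap A (Localization.AtPrime q)) := by
  rw [Ideal.map_map, ← IsScalarTower.algebraMap_eq]

end Translate

section Hyp
variable {A : Type u} [CommRing A] [IsArtinianRing A] [IsLocalRing A]
  (B : Type u) [CommRing B] [Algebra A B]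

theorem hyp_of_codim
    (hcodim : ∀ (q : Ideal B) [q.IsPrime], q.height ≤ 1 →
      Module.Flat A (Localization.AtPrime q) ∧ IsReduced (EGA4.FibLocRing A B q)) :
    Hyp A B where
  nil := by
    have h := IsArtinianRing.isNilpotent_jacobson_bot (R := A)
    rwa [IsLocalRing.jacobson_eq_maximalIdeal ⊥ bot_ne_top] at h
  colon := by
    intro q hq hht J ε hεJ hεs b hb
    haveI := (hcodim q hht).1
    rw [loc_iff, map_map_loc] at hb ⊢
    rw [map_mul, ← IsScalarTower.algebraMap_apply] at hb
    exact mem_map_of_mul_mem_colon J (maximalIdeal A) ε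
      (fun a ha => mem_maximalIdeal_of_mul_mem hεJ (by rwa [mul_comm])) _ hb
  red := by
    intro q hq hht b hb
    haveI := (hcodim q hht).2
    rw [loc_iff, map_map_loc]
    have hle : q.comap (algebraMap A B) ≤ maximalIdeal A :=
      IsLocalRing.le_maximalIdeal (Ideal.comap_ne_top _ hq.ne_top)
    apply Ideal.map_mono hle
    rw [← Ideal.Quotient.eq_zero_iff_mem]
    have hnil : IsNilpotent (Ideal.Quotient.mk ((q.comap (algebraMap A B)).map
        (algebraMap A (Localization.AtPrime q))) (algebraMap B (Localization.AtPrime q) b)) := by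
      apply IsNilpotent.map
      apply IsNilpotent.map
      exact (mem_nilradical).mp hb
    exact hnil.eq_zero

end Hyp

end Groth.Agent.H2.FamCyc
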