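import Mathlib
import Groth.Prelude.Def_EGA4b
import Groth.Agent.Lib.Helper2.FamCyc3
import Groth.Agent.Lib.Helper6.SkKit
import Groth.Agent.Lib.Helper6.SkQuot
import Groth.Agent.Lib.Helper6.SkSurj
import Groth.Agent.Lib.Helper6.AdjD3

/-! Flatness over an Artinian local base from codimension one: the inputs from Serre's
conditions. -/

universe u
open IsLocalRing
set_option linter.style.haveILetI false

namespace Groth.Agent.H2.FamCyc

open Groth.Agent.H6

section SOne
variable {A B : Type u} [CommRing A] [IsLocalRing A] [CommRing B] [Algebra A B]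
  [IsNoetherianRing B]

/-- `(S₁)` says that the associated primes of `B` are minimal -/
theorem mem_minimalPrimes_of_hasSk_one (hS1 : LocCoh.HasSk 1 B B) (q : Ideal B)
    (hq : q ∈ associatedPrimes B B) : q ∈ minimalPrimes B := by
  haveI : q.IsPrime := hq.isPrime
  have h1 : ¬ Depth.LocDepthGE B q 1 := fun h =>
    Depth.not_mem_associatedPrimes_of_locDepthGE B q h hq
  have h2 := (Sk.hasSk_iff 1 B).mp hS1 q 1 le_rfl
  rw [Sk.supportDim_localizedModule_self] at h2
  have h3 : ¬ ((1 : ℕ) : WithBot ℕ∞) ≤ ((q.height : ℕ∞) : WithBot ℕ∞) := fun h => h1 (h2 h)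
  have h4 : q.height = 0 := by
    by_contra hne
    apply h3
    have : (1 : ℕ∞) ≤ q.height := Order.one_le_iff_pos.mpr (pos_iff_ne_zero.mpr hne)
    exact_mod_cast WithBot.coe_le_coe.mpr this
  exact Ideal.height_eq_zero_iff.mp h4

theorem S1_bot (hS1 : LocCoh.HasSk 1 B B) : S1 (A := A) (B := B) ⊥ := by
  intro q hq
  apply mem_minimalPrimes_of_hasSk_one hS1
  have e : (B ⧸ (⊥ : Ideal A).map (algebraMap A B)) ≃ₗ[B] B :=
    Submodule.quotEquivOfEqBot _ (Ideal.map_bot)
  rwa [LinearEquiv.AssociatedPrimes.eq e] at hq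

end SOne

section StepS2
variable {A B : Type u} [CommRing A] [IsLocalRing A] [CommRing B] [Algebra A B]
  [IsNoetherianRing B]

/-- the support dimension of `(B / N)_q` is the height of `q` -/
theorem le_supportDim_quotient_nilradical (q : Ideal B) [q.IsPrime] :
    ((q.height : ℕ∞) : WithBot ℕ∞) ≤ Module.supportDim (Localization.AtPrime q)
      (LocalizedModule q.primeCompl (B ⧸ nilradical B)) := by
  rw [← Sk.supportDim_localizedModule_self]
  apply Sk.supportDim_localized_le_of_support_subset
  intro P _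
  rw [Module.mem_support_iff_of_finite, Ideal.annihilator_quotient]
  exact nilradical_le_prime P.asIdeal

theorem locDepthGE_two_quotient_nilradical
    (hS2 : LocCoh.HasSk 2 (B ⧸ nilradical B) (B ⧸ nilradical B)) (q : Ideal B) [q.IsPrime]
    (hht : 1 < q.height) : Depth.LocDepthGE (B ⧸ nilradical B) q 2 := by
  have h1 : LocCoh.HasSk 2 B (B ⧸ nilradical B) :=
    (SkSurj.hasSk_iff (A := B) (C := B ⧸ nilradical B) Ideal.Quotient.mk_surjective
      (B ⧸ nilradical B) 2).mp hS2
  refine (Sk.hasSk_iff 2 (B ⧸ nilradical B)).mp h1 q 2 le_rfl ?_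
  refine le_trans ?_ (le_supportDim_quotient_nilradical q)
  have : ((2 : ℕ) : ℕ∞) ≤ q.height := by
    have := Order.add_one_le_of_lt hht
    simpa [one_add_one_eq_two] using this
  have h2 : (((2 : ℕ) : ℕ∞) : WithBot ℕ∞) ≤ ((q.height : ℕ∞) : WithBot ℕ∞) :=
    WithBot.coe_le_coe.mpr this
  exact h2

theorem step_of_hasSk_two (H : Hyp A B)
    (hS2 : LocCoh.HasSk 2 (B ⧸ nilradical B) (B ⧸ nilradical B)) :
    Step (A := A) (B := B) := by
  intro J ε hJ hεm hεJ hεs hS q hq hqp
  by_contra hht
  rw [not_le] at hht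
  -- the two maps
  let I : Ideal B := J.map (algebraMap A B)
  let I' : Ideal B := (J ⊔ Ideal.span {ε}).map (algebraMap A B)
  have hII' : I ≤ I' := Ideal.map_mono le_sup_left
  have hle : nilradical B ≤ Submodule.comap (LinearMap.lsmul B B (algebraMap A B ε)) I := by
    intro b hb
    rw [Submodule.mem_comap]
    exact smul_socle_mem_of_mem_nilradical H hS hεs hb
  let f : (B ⧸ nilradical B) →ₗ[B] (B ⧸ I) :=
    Submodule.mapQ (nilradical B) I (LinearMap.lsmul B B (algebraMap A B ε)) hle
  let g : (B ⧸ I) →ₗ[B] (B ⧸ I') := Submodule.factor hII'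
  have hf : Function.Injective f := by
    rw [injective_iff_map_eq_zero]
    intro x hx
    obtain ⟨b, rfl⟩ := Submodule.Quotient.mk_surjective _ x
    have h1 : f (Submodule.Quotient.mk b) = Submodule.Quotient.mk (algebraMap A B ε * b) := rfl
    rw [h1, Submodule.Quotient.mk_eq_zero] at hx
    rw [Submodule.Quotient.mk_eq_zero]
    exact mem_nilradical_of_smul_socle_mem H hεJ hεs hx
  have hg : Function.Surjective g := Submodule.factor_surjective hII'
  have hex : Function.Exact f g := by
    intro y
    obtain ⟨b, rfl⟩ := Submodule.Quotient.mk_surjective _ y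
    have h1 : g (Submodule.Quotient.mk b) = Submodule.Quotient.mk b := rfl
    rw [h1, Submodule.Quotient.mk_eq_zero]
    constructor
    · intro hb
      obtain ⟨j, hj, c, hjc⟩ := mem_map_sup_span hb
      refine ⟨Submodule.Quotient.mk c, ?_⟩
      have h2 : f (Submodule.Quotient.mk c) = Submodule.Quotient.mk (algebraMap A B ε * c) := rfl
      rw [h2, Submodule.Quotient.eq, hjc]
      have : algebraMap A B ε * c - (j + algebraMap A B ε * c) = -j := by ring
      rw [this]
      exact I.neg_mem hj
    · rintro ⟨x, hx⟩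
      obtain ⟨c, rfl⟩ := Submodule.Quotient.mk_surjective _ x
      have h2 : f (Submodule.Quotient.mk c) = Submodule.Quotient.mk (algebraMap A B ε * c) := rfl
      rw [h2, Submodule.Quotient.eq] at hx
      have h3 : b = algebraMap A B ε * c - (algebraMap A B ε * c - b) := by ring
      rw [h3]
      apply Ideal.sub_mem _ _ (hII' hx)
      apply Ideal.mul_mem_right
      apply Ideal.mem_map_of_mem
      exact Ideal.mem_sup_right (Ideal.mem_span_singleton_self ε)
  obtain ⟨w, hSE⟩ := Depth.shortExact_mk f g hf hg hex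
  -- depth of the middle term
  have hqmin : q ∉ minimalPrimes B := by
    intro hmin
    rw [Ideal.height_eq_zero_iff.mpr hmin] at hht
    exact not_lt_zero hht
  have hqI : q ∉ associatedPrimes B (B ⧸ I) := fun h => hqmin (hS q h)
  have hd2 := Depth.locDepthGE_one_of_not_mem_associatedPrimes (B ⧸ I) q hqI 0 Nat.zero_lt_one
  have hd1 := locDepthGE_two_quotient_nilradical hS2 q hht 1 (by omega)
  rw [LocalizedModule.subsingleton_iff] at hd1 hd2
  have hd3 := Depth.loc_vanish_of_shortExact hSE q q.primeCompl 0 hd2 hd1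
  have hd : Depth.LocDepthGE (B ⧸ I') q 1 := by
    intro i hi
    have hi0 : i = 0 := by omega
    subst hi0
    rw [LocalizedModule.subsingleton_iff]
    exact hd3
  exact Depth.not_mem_associatedPrimes_of_locDepthGE (B ⧸ I') q hd hq

end StepS2

end Groth.Agent.H2.FamCyc
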