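import Mathlib
import Groth.Agent.Lib.Helper2.FamCyc4
import Groth.Agent.Lib.Helper2.FamCyc5

/-! Flatness over an Artinian local base from codimension one: freeness and the final
statements. -/

universe u
open IsLocalRing
set_option linter.style.haveILetI false

namespace Groth.Agent.H2.FamCyc

theorem eq_top_of_sup_smul_top_eq_top {A M : Type*} [CommRing A] [AddCommGroup M] [Module A M]
    (I : Ideal A) (hI : IsNilpotent I) (S : Submodule A M)
    (h : S ⊔ I • (⊤ : Submodule A M) = ⊤) : S = ⊤ := by
  obtain ⟨r, hr⟩ := hI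
  have key : ∀ n : ℕ, ∀ y : M, y ∈ S ⊔ (I ^ n) • (⊤ : Submodule A M) := by
    intro n
    induction n with
    | zero =>
      intro y
      rw [pow_zero, Ideal.one_eq_top, Submodule.top_smul, sup_top_eq]
      trivial
    | succ n ih =>
      intro y
      obtain ⟨s, hs, w, hw, rfl⟩ := Submodule.mem_sup.mp (ih y)
      apply Submodule.add_mem _ (Submodule.mem_sup_left hs)
      refine Submodule.smul_induction_on hw ?_ ?_
      · intro a ha y' _
        have hy : y' ∈ S ⊔ I • (⊤ : Submodule A M) := by rw [h]; trivial
        obtain ⟨s', hs', z, hz, rfl⟩ := Submodule.mem_sup.mp hy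
        rw [smul_add]
        apply Submodule.add_mem
        · exact Submodule.mem_sup_left (S.smul_mem a hs')
        · apply Submodule.mem_sup_right
          rw [pow_succ, Submodule.mul_smul]
          exact Submodule.smul_mem_smul ha hz
      · intro x y hx hy
        exact Submodule.add_mem _ hx hy
  rw [eq_top_iff]
  intro y _
  have := key r y
  rwa [hr, Ideal.zero_eq_bot, Submodule.bot_smul, sup_bot_eq] at this

section Free
variable {A B : Type u} [CommRing A] [IsLocalRing A] [CommRing B] [Algebra A B]

theorem free_of_ind (hnil : IsNilpotent (maximalIdeal A)) (hI : Ind (A := A) (B := B) ⊥) :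
    Module.Free A B := by
  classical
  letI : Field (A ⧸ maximalIdeal A) := Ideal.Quotient.field _
  let F := B ⧸ (maximalIdeal A • ⊤ : Submodule A B)
  let ι := Module.Free.ChooseBasisIndex (A ⧸ maximalIdeal A) F
  let e : Module.Basis ι (A ⧸ maximalIdeal A) F := Module.Free.chooseBasis _ _
  have hlift : ∀ i, ∃ b : B, (Submodule.Quotient.mk b : F) = e i :=
    fun i => Submodule.Quotient.mk_surjective _ _
  choose b hb using hlift
  have hmk : ∀ (c : A) (x : B), (Ideal.Quotient.mk (maximalIdeal A) c) •
      (Submodule.Quotient.mk x : F) = Submodule.Quotient.mk (c • x) := fun c x => rfl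
  have hmem : ∀ x : B, x ∈ (maximalIdeal A).map (algebraMap A B) ↔
      (Submodule.Quotient.mk x : F) = 0 := by
    intro x
    rw [Submodule.Quotient.mk_eq_zero, Ideal.smul_top_eq_map]
    rfl
  -- independence modulo `𝔪 B` of finite subfamilies
  have hindep : ∀ (n : ℕ) (σ : Fin n → ι), Function.Injective σ →
      IndepMod (A := A) (fun j => b (σ j)) := by
    intro n σ hσ c hc j
    rw [hmem] at hc
    have hli := (e.linearIndependent.comp σ hσ)
    rw [Fintype.linearIndependent_iff] at hli
    have h1 : ∑ j, (Ideal.Quotient.mk (maximalIdeal A) (c j)) • (e ∘ σ) j = 0 := by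
      rw [← hc]
      have : (Submodule.Quotient.mk (∑ j, algebraMap A B (c j) * b (σ j)) : F) =
          ∑ j, (Submodule.Quotient.mk (algebraMap A B (c j) * b (σ j)) : F) :=
        map_sum (Submodule.mkQ (maximalIdeal A • ⊤ : Submodule A B)) _ _
      rw [this]
      apply Finset.sum_congr rfl
      intro j _
      rw [Function.comp_apply, ← hb, hmk]
      exact congrArg _ (Algebra.smul_def (c j) (b (σ j)))
    have h2 := hli _ h1 j
    exact Ideal.Quotient.eq_zero_iff_mem.mp h2
  have hli : LinearIndependent A b := by
    rw [linearIndependent_iff']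
    intro s a ha i hi
    let σ : Fin s.card → ι := fun j => (s.equivFin.symm j : ι)
    have hσ : Function.Injective σ := fun j j' h =>
      s.equivFin.symm.injective (Subtype.ext h)
    have h1 : (∑ j, algebraMap A B (a (σ j)) * b (σ j)) ∈
        (⊥ : Ideal A).map (algebraMap A B) := by
      have : (∑ j, algebraMap A B (a (σ j)) * b (σ j)) = ∑ i ∈ s, a i • b i := by
        rw [← Finset.sum_coe_sort s (fun i => a i • b i)]
        rw [← Equiv.sum_comp s.equivFin.symm]
        apply Finset.sum_congr rfl
        intro j _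
        rw [Algebra.smul_def]
      rw [this, ha]
      exact Ideal.zero_mem _
    have h2 := hI s.card (fun j => b (σ j)) (hindep _ σ hσ) (fun j => a (σ j)) h1
      (s.equivFin ⟨i, hi⟩)
    have h3 : σ (s.equivFin ⟨i, hi⟩) = i := by
      change ((s.equivFin.symm (s.equivFin ⟨i, hi⟩) : s) : ι) = i
      rw [Equiv.symm_apply_apply]
    rw [h3] at h2
    exact (Ideal.mem_bot).mp h2
  have hsp : Submodule.span A (Set.range b) = ⊤ := by
    apply eq_top_of_sup_smul_top_eq_top _ hnil
    rw [eq_top_iff]
    intro y _
    have hy : (Submodule.Quotient.mk y : F) ∈ Submodule.span (A ⧸ maximalIdeal A) (Set.range e) := by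
      rw [e.span_eq]
      trivial
    obtain ⟨c, hc⟩ := (Finsupp.mem_span_range_iff_exists_finsupp).mp hy
    have hlift : ∀ i, ∃ a : A, Ideal.Quotient.mk (maximalIdeal A) a = c i :=
      fun i => Ideal.Quotient.mk_surjective _
    choose a ha using hlift
    have h1 : y - ∑ i ∈ c.support, a i • b i ∈ (maximalIdeal A • ⊤ : Submodule A B) := by
      rw [← Submodule.Quotient.mk_eq_zero, Submodule.Quotient.mk_sub, ← hc, sub_eq_zero]
      have : (Submodule.Quotient.mk (∑ i ∈ c.support, a i • b i) : F) =
          ∑ i ∈ c.support, (Submodule.Quotient.mk (a i • b i) : F) :=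
        map_sum (Submodule.mkQ (maximalIdeal A • ⊤ : Submodule A B)) _ _
      rw [this, Finsupp.sum]
      apply Finset.sum_congr rfl
      intro i _
      rw [← hmk, ha, hb]
    have h2 : y = ∑ i ∈ c.support, a i • b i + (y - ∑ i ∈ c.support, a i • b i) := by ring
    rw [h2]
    apply Submodule.add_mem
    · apply Submodule.mem_sup_left
      apply Submodule.sum_mem
      intro i _
      exact Submodule.smul_mem _ _ (Submodule.subset_span ⟨i, rfl⟩)
    · exact Submodule.mem_sup_right h1
  exact Module.Free.of_basis (Module.Basis.mk hli hsp.ge)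

end Free

section Main
variable {A : Type u} [CommRing A] [IsArtinianRing A] [IsLocalRing A]
  (B : Type u) [CommRing B] [Algebra A B] [IsNoetherianRing B]

theorem main (hS1 : LocCoh.HasSk 1 B B)
    (hS2 : LocCoh.HasSk 2 (B ⧸ nilradical B) (B ⧸ nilradical B))
    (hcodim : ∀ (q : Ideal B) [q.IsPrime], q.height ≤ 1 →
      Module.Flat A (Localization.AtPrime q) ∧ IsReduced (EGA4.FibLocRing A B q)) :
    IsReduced (B ⧸ (maximalIdeal A).map (algebraMap A B)) ∧ Module.Flat A B := by
  have H : Hyp A B := hyp_of_codim B hcodim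
  obtain ⟨hN, hI⟩ := main_induction H (step_of_hasSk_two H hS2) ⊥ bot_le (S1_bot hS1)
  constructor
  · rw [← Ideal.isRadical_iff_quotient_reduced]
    intro x hx
    obtain ⟨n, hn⟩ := hx
    apply hN
    have h1 := map_maximalIdeal_le_nilradical H hn
    rw [mem_nilradical] at h1 ⊢
    obtain ⟨m, hm⟩ := h1
    exact ⟨n * m, by rw [pow_mul, hm]⟩
  · haveI := free_of_ind H.nil hI
    infer_instance

end Main

end Groth.Agent.H2.FamCyc
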