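import Mathlib

/-!
# Linear algebra for formal fans (helper2)

* `conic_caratheodory`: a nonnegative combination of a finite family of vectors is a positive
  combination of a linearly independent subfamily.
* `cone_gen`: a nonnegative real solution of a finite system of homogeneous integer linear equations is a
  nonnegative combination of nonnegative integer solutions.
-/

namespace Groth.Agent.H2.FanLin

open Finset

section Caratheodory

variable {E : Type*} [AddCommGroup E] [Module ℝ E] {J : Type*} [DecidableEq J]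

theorem conic_caratheodory_aux (z : J → E) :
    ∀ (n : ℕ) (S : Finset J), S.card = n → ∀ c : J → ℝ, (∀ j ∈ S, 0 ≤ c j) →
      ∃ (S' : Finset J) (c' : J → ℝ), S' ⊆ S ∧ (∀ j ∈ S', 0 < c' j) ∧
        LinearIndependent ℝ (fun j : S' => z j) ∧
        ∑ j ∈ S', c' j • z j = ∑ j ∈ S, c j • z j := by
  intro n
  induction n using Nat.strong_induction_on with
  | _ n ih =>
    intro S hS c hc
    -- case: some coefficient vanishes
    by_cases h0 : ∃ j ∈ S, c j = 0
    · obtain ⟨j0, hj0, hcj0⟩ := h0
      have hcard : (S.erase j0).card < n := by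
        rw [← hS]; exact Finset.card_erase_lt_of_mem hj0
      obtain ⟨S', c', hS', hpos, hli, hsum⟩ := ih _ hcard (S.erase j0) rfl c
        (fun j hj => hc j (Finset.mem_of_mem_erase hj))
      refine ⟨S', c', hS'.trans (Finset.erase_subset _ _), hpos, hli, ?_⟩
      rw [hsum, ← Finset.add_sum_erase S _ hj0, hcj0, zero_smul, zero_add]
    · push Not at h0
      have hpos : ∀ j ∈ S, 0 < c j := fun j hj => lt_of_le_of_ne (hc j hj) (Ne.symm (h0 j hj))
      by_cases hli : LinearIndependent ℝ (fun j : S => z j)
      · exact ⟨S, c, subset_rfl, hpos, hli, rfl⟩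
      · -- a nontrivial relation
        rw [Fintype.not_linearIndependent_iff] at hli
        obtain ⟨t, ht, j1, hj1⟩ := hli
        -- extend t to J
        let t' : J → ℝ := fun j => if h : j ∈ S then t ⟨j, h⟩ else 0
        have ht' : ∑ j ∈ S, t' j • z j = 0 := by
          rw [← ht, ← Finset.sum_coe_sort S]
          refine Finset.sum_congr rfl fun j _ => ?_
          simp [t', j.2]
        have hj1' : t' j1 ≠ 0 := by simp [t', j1.2, hj1]
        -- wlog some t' positive
        obtain ⟨s, hs, j2, hj2S, hj2⟩ : ∃ s : J → ℝ, ∑ j ∈ S, s j • z j = 0 ∧ ∃ j ∈ S, 0 < s j := by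
          rcases lt_or_gt_of_ne hj1' with h | h
          · refine ⟨fun j => - t' j, ?_, j1, j1.2, by simpa using h⟩
            simp only [neg_smul, Finset.sum_neg_distrib, ht', neg_zero]
          · exact ⟨t', ht', j1, j1.2, h⟩
        -- minimise c j / s j over positive s j
        let P := S.filter fun j => 0 < s j
        have hP : P.Nonempty := ⟨j2, by simp [P, hj2S, hj2]⟩
        obtain ⟨j0, hj0P, hmin⟩ := Finset.exists_min_image P (fun j => c j / s j) hP
        have hj0S : j0 ∈ S := (Finset.mem_filter.mp hj0P).1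
        have hsj0 : 0 < s j0 := (Finset.mem_filter.mp hj0P).2
        set r := c j0 / s j0 with hr
        let c2 : J → ℝ := fun j => c j - r * s j
        have hc2 : ∀ j ∈ S, 0 ≤ c2 j := by
          intro j hj
          simp only [c2, sub_nonneg]
          by_cases hsj : 0 < s j
          · have := hmin j (by simp [P, hj, hsj])
            calc r * s j ≤ (c j / s j) * s j := by
                  apply mul_le_mul_of_nonneg_right this hsj.le
              _ = c j := by field_simp
          · push Not at hsj
            have hr0 : 0 ≤ r := div_nonneg (hc j0 hj0S) hsj0.le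
            calc r * s j ≤ 0 := mul_nonpos_of_nonneg_of_nonpos hr0 hsj
              _ ≤ c j := hc j hj
        have hc2j0 : c2 j0 = 0 := by
          simp only [c2, hr]; field_simp; ring
        have hsum2 : ∑ j ∈ S, c2 j • z j = ∑ j ∈ S, c j • z j := by
          simp only [c2, sub_smul, Finset.sum_sub_distrib, mul_smul]
          rw [← Finset.smul_sum, hs, smul_zero, sub_zero]
        have hcard : (S.erase j0).card < n := by
          rw [← hS]; exact Finset.card_erase_lt_of_mem hj0S
        obtain ⟨S', c', hS', hpos', hli', hsum'⟩ := ih _ hcard (S.erase j0) rfl c2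
          (fun j hj => hc2 j (Finset.mem_of_mem_erase hj))
        refine ⟨S', c', hS'.trans (Finset.erase_subset _ _), hpos', hli', ?_⟩
        rw [hsum', ← hsum2, ← Finset.add_sum_erase S _ hj0S, hc2j0, zero_smul, zero_add]

/-- Conic Carathéodory. -/
theorem conic_caratheodory [Fintype J] (z : J → E) (c : J → ℝ) (hc : ∀ j, 0 ≤ c j) :
    ∃ (S : Finset J) (c' : J → ℝ), (∀ j ∈ S, 0 < c' j) ∧
      LinearIndependent ℝ (fun j : S => z j) ∧ ∑ j ∈ S, c' j • z j = ∑ j, c j • z j := by
  obtain ⟨S, c', -, h1, h2, h3⟩ :=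
    conic_caratheodory_aux z _ Finset.univ rfl c (fun j _ => hc j)
  exact ⟨S, c', h1, h2, h3⟩

end Caratheodory


section ConeGen

universe u

variable {ι : Type u} [Fintype ι] [DecidableEq ι]

/-- One elimination step: given a nonnegative combination of nonnegative integer vectors lying on the
real hyperplane `r`, rewrite it as a nonnegative combination of nonnegative integer vectors on the
hyperplane `r`. -/
theorem cone_gen_step (r : ι → ℤ) {J : Type u} [Fintype J] [DecidableEq J] (z : J → ι → ℤ) (c : J → ℝ)
    (hz : ∀ j i, 0 ≤ z j i) (hc : ∀ j, 0 ≤ c j)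
    (hr : ∑ i, (r i : ℝ) * ∑ j, c j * (z j i : ℝ) = 0) :
    ∃ (J' : Type u) (_ : Fintype J') (_ : DecidableEq J') (z' : J' → ι → ℤ) (c' : J' → ℝ),
      (∀ j i, 0 ≤ z' j i) ∧ (∀ j, ∑ i, r i * z' j i = 0) ∧ (∀ j, 0 ≤ c' j) ∧
      (∀ j', ∃ (a b : J) (m n : ℤ), 0 ≤ m ∧ 0 ≤ n ∧ z' j' = m • z a + n • z b) ∧
      ∀ i, ∑ j, c' j * (z' j i : ℝ) = ∑ j, c j * (z j i : ℝ) := by
  classical
  let p : J → ℤ := fun j => ∑ i, r i * z j i
  have hq : ∑ j, c j * (p j : ℝ) = 0 := by
    rw [← hr]
    simp only [p, Int.cast_sum, Int.cast_mul, Finset.mul_sum]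
    rw [Finset.sum_comm]
    refine Finset.sum_congr rfl fun i _ => Finset.sum_congr rfl fun j _ => ?_
    ring
  by_cases hT : ∀ j, p j ≠ 0 → c j = 0
  · refine ⟨J, inferInstance, inferInstance, fun j => if p j = 0 then z j else 0, c, ?_, ?_, hc, ?_, ?_⟩
    · intro j i
      by_cases h : p j = 0 <;> simp [h, hz j i]
    · intro j
      by_cases h : p j = 0
      · simpa [h, p] using h
      · simp [h]
    · intro j
      by_cases h : p j = 0
      · exact ⟨j, j, 1, 0, by simp, by simp, by simp [h]⟩
      · exact ⟨j, j, 0, 0, by simp, by simp, by simp [h]⟩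
    · intro i
      refine Finset.sum_congr rfl fun j _ => ?_
      by_cases h : p j = 0
      · simp [h]
      · simp [h, hT j h]
  · push Not at hT
    obtain ⟨j0, hj0, hcj0⟩ := hT
    have hcj0' : 0 < c j0 := lt_of_le_of_ne (hc j0) (Ne.symm hcj0)
    -- T
    let T : ℝ := ∑ a, if 0 < p a then c a * (p a : ℝ) else 0
    let T' : ℝ := ∑ b, if p b < 0 then c b * (-(p b : ℝ)) else 0
    have hTT' : T = T' := by
      have : ∑ j, c j * (p j : ℝ) = T - T' := by
        simp only [T, T', ← Finset.sum_sub_distrib]
        refine Finset.sum_congr rfl fun j _ => ?_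
        rcases lt_trichotomy (p j) 0 with h | h | h
        · simp [h, not_lt.mpr h.le]
        · simp [h]
        · simp [h, not_lt.mpr h.le]
      linarith
    have hTterm : ∀ a, 0 ≤ (if 0 < p a then c a * (p a : ℝ) else 0) := by
      intro a
      split_ifs with h
      · exact mul_nonneg (hc a) (by exact_mod_cast h.le)
      · exact le_rfl
    have hT'term : ∀ b, 0 ≤ (if p b < 0 then c b * (-(p b : ℝ)) else 0) := by
      intro b
      split_ifs with h
      · exact mul_nonneg (hc b) (by
          have : (p b : ℝ) < 0 := by exact_mod_cast h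
          linarith)
      · exact le_rfl
    have hTpos : 0 < T := by
      rcases lt_or_gt_of_ne hj0 with h | h
      · rw [hTT']
        refine lt_of_lt_of_le ?_ (Finset.single_le_sum (fun b _ => hT'term b) (Finset.mem_univ j0))
        simp only [h, if_true]
        have : (p j0 : ℝ) < 0 := by exact_mod_cast h
        nlinarith
      · refine lt_of_lt_of_le ?_ (Finset.single_le_sum (fun a _ => hTterm a) (Finset.mem_univ j0))
        simp only [h, if_true]
        have : (0 : ℝ) < (p j0 : ℝ) := by exact_mod_cast h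
        nlinarith
    refine ⟨J ⊕ (J × J), inferInstance, inferInstance,
      Sum.elim (fun j => if p j = 0 then z j else 0)
        (fun ab => if 0 < p ab.1 ∧ p ab.2 < 0 then (-(p ab.2)) • z ab.1 + p ab.1 • z ab.2 else 0),
      Sum.elim (fun j => if p j = 0 then c j else 0)
        (fun ab => if 0 < p ab.1 ∧ p ab.2 < 0 then c ab.1 * c ab.2 / T else 0), ?_, ?_, ?_, ?_, ?_⟩
    · rintro (j | ⟨a, b⟩) i
      · by_cases h : p j = 0 <;> simp [h, hz j i]
      · by_cases h : 0 < p a ∧ p b < 0
        · simp only [Sum.elim_inr, h, and_self, if_true, Pi.add_apply, Pi.smul_apply, smul_eq_mul]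
          have h1 := hz a i
          have h2 := hz b i
          nlinarith [h.1, h.2]
        · simp [h]
    · rintro (j | ⟨a, b⟩)
      · by_cases h : p j = 0
        · simpa [h, p] using h
        · simp [h]
      · by_cases h : 0 < p a ∧ p b < 0
        · simp only [Sum.elim_inr, h, and_self, if_true, Pi.add_apply, Pi.smul_apply, smul_eq_mul]
          have : ∑ i, r i * (-p b * z a i + p a * z b i) = -p b * p a + p a * p b := by
            simp only [p, Finset.mul_sum, ← Finset.sum_add_distrib]
            refine Finset.sum_congr rfl fun i _ => ?_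
            ring
          rw [this]; ring
        · simp [h]
    · rintro (j | ⟨a, b⟩)
      · by_cases h : p j = 0 <;> simp [h, hc j]
      · by_cases h : 0 < p a ∧ p b < 0
        · simp only [Sum.elim_inr, h, and_self, if_true]
          exact div_nonneg (mul_nonneg (hc a) (hc b)) hTpos.le
        · simp [h]
    · rintro (j | ⟨a, b⟩)
      · by_cases h : p j = 0
        · exact ⟨j, j, 1, 0, by simp, by simp, by simp [h]⟩
        · exact ⟨j, j, 0, 0, by simp, by simp, by simp [h]⟩
      · by_cases h : 0 < p a ∧ p b < 0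
        · exact ⟨a, b, -(p b), p a, by linarith [h.2], h.1.le, by simp [h]⟩
        · exact ⟨a, b, 0, 0, le_rfl, le_rfl, by simp [h]⟩
    · intro i
      rw [Fintype.sum_sum_type, Fintype.sum_prod_type]
      simp only [Sum.elim_inl, Sum.elim_inr]
      -- the pair sum
      have hpair : ∑ a, ∑ b, (if 0 < p a ∧ p b < 0 then c a * c b / T else 0) *
            (((if 0 < p a ∧ p b < 0 then (-(p b)) • z a + p a • z b else 0 : ι → ℤ) i : ℤ) : ℝ) =
          (∑ a, if 0 < p a then c a * (z a i : ℝ) else 0) +
            ∑ b, if p b < 0 then c b * (z b i : ℝ) else 0 := by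
        have e1 : ∀ a b, (if 0 < p a ∧ p b < 0 then c a * c b / T else 0) *
            (((if 0 < p a ∧ p b < 0 then (-(p b)) • z a + p a • z b else 0 : ι → ℤ) i : ℤ) : ℝ) =
            (if 0 < p a then c a * (z a i : ℝ) else 0) *
                ((if p b < 0 then c b * (-(p b : ℝ)) else 0) / T) +
              (if p b < 0 then c b * (z b i : ℝ) else 0) *
                ((if 0 < p a then c a * (p a : ℝ) else 0) / T) := by
          intro a b
          by_cases ha : 0 < p a <;> by_cases hb : p b < 0 <;> simp [ha, hb] <;> ring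
        simp only [e1, Finset.sum_add_distrib, ← Finset.mul_sum, ← Finset.sum_mul, ← Finset.sum_div]
        change (∑ a, if 0 < p a then c a * (z a i : ℝ) else 0) * (T' / T) +
          (∑ b, if p b < 0 then c b * (z b i : ℝ) else 0) * (T / T) = _
        rw [← hTT', div_self hTpos.ne', mul_one, mul_one]
      rw [hpair, ← Finset.sum_add_distrib, ← Finset.sum_add_distrib]
      refine Finset.sum_congr rfl fun j _ => ?_
      rcases lt_trichotomy (p j) 0 with h | h | h
      · simp [h, h.ne, not_lt.mpr h.le]
      · simp [h]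
      · simp [h, h.ne', not_lt.mpr h.le]

/-- A nonnegative real solution of a finite system of homogeneous integer linear equations is a
nonnegative combination of finitely many nonnegative integer solutions. -/
theorem cone_gen (rs : List (ι → ℤ)) (x : ι → ℝ)
    (hx : ∀ i, 0 ≤ x i) (h : ∀ r ∈ rs, ∑ i, (r i : ℝ) * x i = 0) :
    ∃ (J : Type u) (_ : Fintype J) (_ : DecidableEq J) (z : J → ι → ℤ) (c : J → ℝ),
      (∀ j i, 0 ≤ z j i) ∧ (∀ j, ∀ r ∈ rs, ∑ i, r i * z j i = 0) ∧ (∀ j, 0 ≤ c j) ∧
      ∀ i, ∑ j, c j * (z j i : ℝ) = x i := by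
  induction rs with
  | nil =>
    refine ⟨ι, inferInstance, inferInstance, fun j => Pi.single j 1, x, ?_, ?_, hx, ?_⟩
    · intro j i
      by_cases hij : i = j
      · subst hij; simp
      · simp [Pi.single_apply, hij]
    · intro j r hr; simp at hr
    · intro i
      simp [Pi.single_apply]
  | cons r rs ih =>
    obtain ⟨J, _, _, z, c, hz, hzr, hc, hsum⟩ := ih (fun r' hr' => h r' (List.mem_cons_of_mem _ hr'))
    have hr : ∑ i, (r i : ℝ) * ∑ j, c j * (z j i : ℝ) = 0 := by
      simp only [hsum]; exact h r List.mem_cons_self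
    obtain ⟨J', i1, i2, z', c', hz', hzr', hc', hcomb, hsum'⟩ := cone_gen_step r z c hz hc hr
    refine ⟨J', i1, i2, z', c', hz', ?_, hc', fun i => (hsum' i).trans (hsum i)⟩
    intro j r' hr'
    rcases List.mem_cons.mp hr' with rfl | hr'
    · exact hzr' j
    · obtain ⟨a, b, m, n, -, -, e⟩ := hcomb j
      have : ∑ i, r' i * z' j i = m * ∑ i, r' i * z a i + n * ∑ i, r' i * z b i := by
        simp only [e, Finset.mul_sum, ← Finset.sum_add_distrib]
        refine Finset.sum_congr rfl fun i _ => ?_
        simp only [Pi.add_apply, Pi.smul_apply, smul_eq_mul]; ring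
      rw [this, hzr a r' hr', hzr b r' hr']; ring

/-- Combined: a nonzero nonnegative real solution is a positive combination of linearly independent
nonnegative integer solutions. -/
theorem cone_gen_indep (rs : List (ι → ℤ)) (x : ι → ℝ)
    (hx : ∀ i, 0 ≤ x i) (hx0 : x ≠ 0) (h : ∀ r ∈ rs, ∑ i, (r i : ℝ) * x i = 0) :
    ∃ (m : ℕ) (_ : 0 < m) (z : Fin m → ι → ℤ) (c : Fin m → ℝ),
      (∀ j i, 0 ≤ z j i) ∧ (∀ j, ∀ r ∈ rs, ∑ i, r i * z j i = 0) ∧ (∀ j, 0 < c j) ∧
      LinearIndependent ℝ (fun j => (fun i => (z j i : ℝ))) ∧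
      ∀ i, ∑ j, c j * (z j i : ℝ) = x i := by
  classical
  obtain ⟨J, _, _, z, c, hz, hzr, hc, hsum⟩ := cone_gen rs x hx h
  obtain ⟨S, c', hpos, hli, hsum'⟩ :=
    conic_caratheodory (fun j => (fun i => (z j i : ℝ))) c hc
  have hx' : ∑ j ∈ S, c' j • (fun i => (z j i : ℝ)) = x := by
    rw [hsum']
    funext i
    simp only [Finset.sum_apply, Pi.smul_apply, smul_eq_mul]
    exact hsum i
  have hSne : S.Nonempty := by
    by_contra hS
    rw [Finset.not_nonempty_iff_eq_empty] at hS
    rw [hS, Finset.sum_empty] at hx'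
    exact hx0 hx'.symm
  let e : Fin S.card ≃ S := S.equivFin.symm
  refine ⟨S.card, Finset.card_pos.mpr hSne, fun j => z (e j), fun j => c' (e j), fun j i => hz _ i,
    fun j => hzr _, fun j => hpos _ (e j).2, ?_, ?_⟩
  · exact hli.comp e e.injective
  · intro i
    rw [← hx']
    simp only [Finset.sum_apply, Pi.smul_apply, smul_eq_mul]
    rw [← Finset.sum_coe_sort S]
    exact Fintype.sum_equiv e _ _ (fun j => rfl)

end ConeGen

end Groth.Agent.H2.FanLin
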