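import Groth.Prelude.Def_W4c6instabfans3Fan
import Groth.Agent.Lib.Helper2.FanLin

/-!
# Formal fans: basic lemmas (helper2)
-/

set_option autoImplicit false

universe u

open CategoryTheory Opposite Instab Instab.Fan

namespace Groth.Agent.H2.FanBase

open Groth.Agent.H2.FanLin

/-- matrix entries of a cone morphism -/
def ent {k n : ICone} (φ : k ⟶ n) (j : Fin n.dim) (i : Fin k.dim) : ℤ := φ.toLin (Pi.single i 1) j

lemma ent_nonneg {k n : ICone} (φ : k ⟶ n) (j : Fin n.dim) (i : Fin k.dim) : 0 ≤ ent φ j i := by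
  refine φ.nonneg (Pi.single i 1) (fun i' => ?_) j
  by_cases h : i' = i
  · subst h; simp
  · simp [h]

lemma toLin_apply {k n : ICone} (φ : k ⟶ n) (v : Fin k.dim → ℤ) (j : Fin n.dim) :
    φ.toLin v j = ∑ i, ent φ j i * v i := by
  have h := LinearMap.pi_apply_eq_sum_univ φ.toLin v
  rw [h]
  simp only [Finset.sum_apply, Pi.smul_apply, smul_eq_mul, ent]
  refine Finset.sum_congr rfl fun i _ => ?_
  rw [mul_comm]
  have e : (fun j => if i = j then (1 : ℤ) else 0) = Pi.single i 1 := by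
    funext i'
    simp [Pi.single_apply, eq_comm]
  rw [e]

lemma realMap_apply {k n : ICone} (φ : k ⟶ n) (v : Fin k.dim → ℝ) (j : Fin n.dim) :
    φ.realMap v j = ∑ i, (ent φ j i : ℝ) * v i := rfl

lemma realMap_intCast {k n : ICone} (φ : k ⟶ n) (z : Fin k.dim → ℤ) :
    φ.realMap (fun i => (z i : ℝ)) = fun j => ((φ.toLin z j : ℤ) : ℝ) := by
  funext j
  rw [realMap_apply, toLin_apply]
  push_cast
  rfl

lemma realMap_add {k n : ICone} (φ : k ⟶ n) (v w : Fin k.dim → ℝ) :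
    φ.realMap (v + w) = φ.realMap v + φ.realMap w := by
  funext j
  simp only [realMap_apply, Pi.add_apply, mul_add, Finset.sum_add_distrib]

lemma realMap_smul {k n : ICone} (φ : k ⟶ n) (c : ℝ) (v : Fin k.dim → ℝ) :
    φ.realMap (c • v) = c • φ.realMap v := by
  funext j
  simp only [realMap_apply, Pi.smul_apply, smul_eq_mul, Finset.mul_sum]
  refine Finset.sum_congr rfl fun i _ => ?_
  ring

lemma realMap_zero {k n : ICone} (φ : k ⟶ n) : φ.realMap 0 = 0 := by
  funext j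
  simp [realMap_apply]

lemma realMap_sub {k n : ICone} (φ : k ⟶ n) (v w : Fin k.dim → ℝ) :
    φ.realMap (v - w) = φ.realMap v - φ.realMap w := by
  funext j
  simp only [realMap_apply, Pi.sub_apply, mul_sub, Finset.sum_sub_distrib]

lemma ent_id {n : ICone} (j i : Fin n.dim) : ent (𝟙 n) j i = if j = i then 1 else 0 := by
  change (Pi.single i (1 : ℤ) : Fin n.dim → ℤ) j = _
  simp [Pi.single_apply]

lemma realMap_id {n : ICone} (v : Fin n.dim → ℝ) : (𝟙 n : n ⟶ n).realMap v = v := by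
  funext j
  simp [realMap_apply, ent_id]

lemma ent_comp {k m n : ICone} (φ : k ⟶ m) (ψ : m ⟶ n) (j : Fin n.dim) (i : Fin k.dim) :
    ent (φ ≫ ψ) j i = ∑ l, ent ψ j l * ent φ l i := by
  change ψ.toLin (φ.toLin (Pi.single i 1)) j = _
  rw [toLin_apply]
  rfl

lemma realMap_comp {k m n : ICone} (φ : k ⟶ m) (ψ : m ⟶ n) (v : Fin k.dim → ℝ) :
    (φ ≫ ψ).realMap v = ψ.realMap (φ.realMap v) := by
  funext j
  simp only [realMap_apply, ent_comp, Finset.mul_sum, Int.cast_sum, Int.cast_mul, Finset.sum_mul]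
  rw [Finset.sum_comm]
  refine Finset.sum_congr rfl fun l _ => Finset.sum_congr rfl fun i _ => ?_
  ring

lemma realMap_nonneg {k n : ICone} (φ : k ⟶ n) (v : Fin k.dim → ℝ) (hv : ∀ i, 0 ≤ v i)
    (j : Fin n.dim) : 0 ≤ φ.realMap v j :=
  Finset.sum_nonneg fun i _ => mul_nonneg (by exact_mod_cast ent_nonneg φ j i) (hv i)

lemma realMap_injective {k n : ICone} (φ : k ⟶ n) : Function.Injective φ.realMap := by
  intro v w hvw
  have h0 : φ.realMap (v - w) = 0 := by rw [realMap_sub, hvw, sub_self]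
  suffices hx : v - w = 0 from sub_eq_zero.mp hx
  set x := v - w with hxdef
  -- split into positive and negative parts
  let X : Fin k.dim ⊕ Fin k.dim → ℝ := Sum.elim (fun i => max (x i) 0) (fun i => max (-x i) 0)
  let r : Fin n.dim → Fin k.dim ⊕ Fin k.dim → ℤ := fun j => Sum.elim (ent φ j) (fun i => -ent φ j i)
  have hX : ∀ i, 0 ≤ X i := by rintro (i | i) <;> simp [X]
  have hx' : ∀ i, x i = max (x i) 0 - max (-x i) 0 := by
    intro i
    rcases le_total (x i) 0 with h | h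
    · rw [max_eq_right h, max_eq_left (by linarith)]; ring
    · rw [max_eq_left h, max_eq_right (by linarith)]; ring
  have hr : ∀ r' ∈ List.ofFn r, ∑ i, (r' i : ℝ) * X i = 0 := by
    intro r' hr'
    obtain ⟨j, rfl⟩ := (List.mem_ofFn' _ _).mp hr'
    rw [Fintype.sum_sum_type]
    simp only [r, X, Sum.elim_inl, Sum.elim_inr, Int.cast_neg, neg_mul, Finset.sum_neg_distrib]
    have := congr_fun h0 j
    rw [realMap_apply] at this
    simp only [Pi.zero_apply] at this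
    have e : ∑ i, (ent φ j i : ℝ) * max (x i) 0 - ∑ i, (ent φ j i : ℝ) * max (-x i) 0 =
        ∑ i, (ent φ j i : ℝ) * x i := by
      rw [← Finset.sum_sub_distrib]
      refine Finset.sum_congr rfl fun i _ => ?_
      rw [← mul_sub, ← hx' i]
    rw [← sub_eq_add_neg, e, this]
  obtain ⟨J, _, _, z, c, hz, hzr, hc, hsum⟩ := cone_gen (List.ofFn r) X hX hr
  have hzeq : ∀ l, (fun i => z l (Sum.inl i)) = fun i => z l (Sum.inr i) := by
    intro l
    apply φ.injective
    funext j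
    rw [toLin_apply, toLin_apply]
    have := hzr l (r j) ((List.mem_ofFn' _ _).mpr ⟨j, rfl⟩)
    rw [Fintype.sum_sum_type] at this
    simp only [r, Sum.elim_inl, Sum.elim_inr, neg_mul, Finset.sum_neg_distrib] at this
    linarith
  funext i
  rw [hx' i]
  have h1 := hsum (Sum.inl i)
  have h2 := hsum (Sum.inr i)
  simp only [X, Sum.elim_inl, Sum.elim_inr] at h1 h2
  rw [← h1, ← h2, Pi.zero_apply, sub_eq_zero]
  refine Finset.sum_congr rfl fun l _ => ?_
  rw [congr_fun (hzeq l) i]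

/-- action on the punctured orthant -/
def orthMap {k n : ICone} (φ : k ⟶ n) (y : Orth k) : Orth n :=
  ⟨φ.realMap y.1, realMap_nonneg φ y.1 y.2.1, fun h => y.2.2 (realMap_injective φ (h.trans (realMap_zero φ).symm))⟩

@[simp] lemma orthMap_val {k n : ICone} (φ : k ⟶ n) (y : Orth k) : (orthMap φ y).1 = φ.realMap y.1 := rfl

/-- positive rescaling on the punctured orthant -/
def orthSmul {n : ICone} (c : ℝ) (hc : 0 < c) (y : Orth n) : Orth n :=
  ⟨c • y.1, fun i => mul_nonneg hc.le (y.2.1 i), fun h => y.2.2 (by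
    have := congr_arg (fun v => c⁻¹ • v) h
    simpa [smul_smul, inv_mul_cancel₀ hc.ne'] using this)⟩

@[simp] lemma orthSmul_val {n : ICone} (c : ℝ) (hc : 0 < c) (y : Orth n) : (orthSmul c hc y).1 = c • y.1 := rfl


/-- The `ℤ`-linear map with prescribed columns. -/
def vecLin {m k : ℕ} (a : Fin m → Fin k → ℤ) : (Fin m → ℤ) →ₗ[ℤ] (Fin k → ℤ) where
  toFun v i := ∑ l, a l i * v l
  map_add' v w := by
    funext i
    simp only [Pi.add_apply, mul_add, Finset.sum_add_distrib]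
  map_smul' c v := by
    funext i
    simp only [Pi.smul_apply, smul_eq_mul, RingHom.id_apply, Finset.mul_sum]
    refine Finset.sum_congr rfl fun l _ => ?_
    ring

lemma vecLin_apply {m k : ℕ} (a : Fin m → Fin k → ℤ) (v : Fin m → ℤ) (i : Fin k) :
    vecLin a v i = ∑ l, a l i * v l := rfl

/-- A cone morphism with prescribed columns. -/
def homOfVecs {m k : ICone} (a : Fin m.dim → Fin k.dim → ℤ) (ha : ∀ l i, 0 ≤ a l i)
    (hinj : Function.Injective (vecLin a)) : m ⟶ k :=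
  ICone.Hom.mk (vecLin a) hinj
    (fun v hv i => by
      rw [vecLin_apply]
      exact Finset.sum_nonneg fun l _ => mul_nonneg (ha l i) (hv l))

lemma homOfVecs_toLin {m k : ICone} (a : Fin m.dim → Fin k.dim → ℤ) (ha : ∀ l i, 0 ≤ a l i)
    (hinj : Function.Injective (vecLin a)) : (homOfVecs a ha hinj).toLin = vecLin a := rfl

lemma ent_homOfVecs {m k : ICone} (a : Fin m.dim → Fin k.dim → ℤ) (ha : ∀ l i, 0 ≤ a l i)
    (hinj : Function.Injective (vecLin a)) (i : Fin k.dim) (l : Fin m.dim) :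
    ent (homOfVecs a ha hinj) i l = a l i := by
  change vecLin a (Pi.single l 1) i = _
  rw [vecLin_apply]
  simp [Pi.single_apply]

lemma comp_toLin {k m n : ICone} (φ : k ⟶ m) (ψ : m ⟶ n) (v : Fin k.dim → ℤ) :
    (φ ≫ ψ).toLin v = ψ.toLin (φ.toLin v) := rfl

/-- Key lemma: two cone morphisms into `[n]` whose real images share a ray have a common refinement
containing that ray. -/
theorem common_refinement {k k' n : ICone} (φ : k ⟶ n) (ψ : k' ⟶ n) (y : Orth k) (y' : Orth k')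
    (c : ℝ) (hc : 0 < c) (h : φ.realMap y.1 = c • ψ.realMap y'.1) :
    ∃ (m : ICone) (α : m ⟶ k) (β : m ⟶ k') (z : Orth m),
      α ≫ φ = β ≫ ψ ∧ α.realMap z.1 = y.1 ∧ β.realMap z.1 = c • y'.1 := by
  classical
  let X : Fin k.dim ⊕ Fin k'.dim → ℝ := Sum.elim y.1 (c • y'.1)
  let r : Fin n.dim → Fin k.dim ⊕ Fin k'.dim → ℤ := fun j => Sum.elim (ent φ j) (fun i => -ent ψ j i)
  have hX : ∀ i, 0 ≤ X i := by
    rintro (i | i)
    · exact y.2.1 i
    · exact mul_nonneg hc.le (y'.2.1 i)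
  have hX0 : X ≠ 0 := by
    intro hX0
    apply y.2.2
    funext i
    exact congr_fun hX0 (Sum.inl i)
  have hr : ∀ r' ∈ List.ofFn r, ∑ i, (r' i : ℝ) * X i = 0 := by
    intro r' hr'
    obtain ⟨j, rfl⟩ := (List.mem_ofFn' _ _).mp hr'
    rw [Fintype.sum_sum_type]
    simp only [r, X, Sum.elim_inl, Sum.elim_inr, Int.cast_neg, neg_mul, Finset.sum_neg_distrib]
    have h1 := congr_fun h j
    rw [← realMap_smul, realMap_apply, realMap_apply] at h1
    rw [h1]; ring
  obtain ⟨m, hm, z, cc, hz, hzr, hcc, hli, hsum⟩ := cone_gen_indep (List.ofFn r) X hX hX0 hr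
  let M : ICone := ⟨⟨m, hm⟩⟩
  let a : Fin M.dim → Fin k.dim → ℤ := fun l i => z l (Sum.inl i)
  let b : Fin M.dim → Fin k'.dim → ℤ := fun l i => z l (Sum.inr i)
  have hrow : ∀ (l : Fin m) (j : Fin n.dim),
      ∑ i, ent φ j i * z l (Sum.inl i) = ∑ i, ent ψ j i * z l (Sum.inr i) := by
    intro l j
    have := hzr l (r j) ((List.mem_ofFn' _ _).mpr ⟨j, rfl⟩)
    rw [Fintype.sum_sum_type] at this
    simp only [r, Sum.elim_inl, Sum.elim_inr, neg_mul, Finset.sum_neg_distrib] at this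
    linarith
  have hcomm : ∀ u : Fin M.dim → ℤ, φ.toLin (vecLin a u) = ψ.toLin (vecLin b u) := by
    intro u
    funext j
    rw [toLin_apply, toLin_apply]
    simp only [vecLin_apply, a, b, Finset.mul_sum]
    rw [Finset.sum_comm, Finset.sum_comm (s := (Finset.univ : Finset (Fin k'.dim)))]
    refine Finset.sum_congr rfl fun l _ => ?_
    have := hrow l j
    calc ∑ i, ent φ j i * (z l (Sum.inl i) * u l)
        = (∑ i, ent φ j i * z l (Sum.inl i)) * u l := by
          rw [Finset.sum_mul]; exact Finset.sum_congr rfl fun i _ => by ring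
      _ = (∑ i, ent ψ j i * z l (Sum.inr i)) * u l := by rw [this]
      _ = ∑ i, ent ψ j i * (z l (Sum.inr i) * u l) := by
          rw [Finset.sum_mul]; exact Finset.sum_congr rfl fun i _ => by ring
  have hzero : ∀ u : Fin M.dim → ℤ, vecLin a u = 0 → vecLin b u = 0 → u = 0 := by
    intro u hua hub
    have hrel : ∑ l, (u l : ℝ) • (fun i => (z l i : ℝ)) = 0 := by
      funext i
      simp only [Finset.sum_apply, Pi.smul_apply, smul_eq_mul, Pi.zero_apply]
      rcases i with i | i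
      · have := congr_fun hua i
        rw [vecLin_apply] at this
        have h2 : ((∑ l, a l i * u l : ℤ) : ℝ) = 0 := by rw [this]; simp
        push_cast at h2
        rw [← h2]
        exact Finset.sum_congr rfl fun l _ => by simp only [a]; ring
      · have := congr_fun hub i
        rw [vecLin_apply] at this
        have h2 : ((∑ l, b l i * u l : ℤ) : ℝ) = 0 := by rw [this]; simp
        push_cast at h2
        rw [← h2]
        exact Finset.sum_congr rfl fun l _ => by simp only [b]; ring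
    funext l
    have := Fintype.linearIndependent_iff.mp hli (fun l => (u l : ℝ)) hrel l
    exact_mod_cast this
  have hinja : Function.Injective (vecLin a) := by
    rw [injective_iff_map_eq_zero]
    intro u hu
    refine hzero u hu ?_
    apply ψ.injective
    rw [← hcomm u, hu, map_zero, map_zero]
  have hinjb : Function.Injective (vecLin b) := by
    rw [injective_iff_map_eq_zero]
    intro u hu
    refine hzero u ?_ hu
    apply φ.injective
    rw [hcomm u, hu, map_zero, map_zero]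
  let α : M ⟶ k := homOfVecs a (fun l i => hz l _) hinja
  let β : M ⟶ k' := homOfVecs b (fun l i => hz l _) hinjb
  have hcc0 : (cc : Fin M.dim → ℝ) ≠ 0 := by
    intro h0
    have := hcc ⟨0, hm⟩
    rw [h0] at this
    exact lt_irrefl _ this
  refine ⟨M, α, β, ⟨cc, fun l => (hcc l).le, hcc0⟩, ?_, ?_, ?_⟩
  · apply ICone.Hom.ext
    apply LinearMap.ext
    intro u
    exact hcomm u
  · funext i
    rw [realMap_apply]
    simp only [α, ent_homOfVecs, a]
    have := hsum (Sum.inl i)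
    simp only [X, Sum.elim_inl] at this
    rw [← this]
    exact Finset.sum_congr rfl fun l _ => by ring
  · funext i
    rw [realMap_apply]
    simp only [β, ent_homOfVecs, b]
    have := hsum (Sum.inr i)
    simp only [X, Sum.elim_inr] at this
    rw [← this]
    exact Finset.sum_congr rfl fun l _ => by ring

section Eqv

variable (F : Fan.{u})

lemma map_comp_apply {k m n : ICone} (α : k ⟶ m) (φ : m ⟶ n) (ξ : F.obj (op n)) :
    F.map (α ≫ φ).op ξ = F.map α.op (F.map φ.op ξ) := by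
  rw [op_comp, Functor.map_comp_apply]

lemma map_id_apply' {n : ICone} (ξ : F.obj (op n)) : F.map (𝟙 n : n ⟶ n).op ξ = ξ := by
  rw [op_id, Functor.map_id_apply]

/-- The "common sub-cone" relation on points of the disjoint union. -/
def Eqv (p q : Pt F) : Prop :=
  ∃ (k : ICone) (φ₁ : k ⟶ p.1.1) (φ₂ : k ⟶ q.1.1) (y : Orth k) (c₁ c₂ : ℝ),
    F.map φ₁.op p.1.2 = F.map φ₂.op q.1.2 ∧ 0 < c₁ ∧ 0 < c₂ ∧
      p.2.1 = c₁ • φ₁.realMap y.1 ∧ q.2.1 = c₂ • φ₂.realMap y.1

variable {F}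

lemma Eqv.refl (p : Pt F) : Eqv F p p :=
  ⟨p.1.1, 𝟙 _, 𝟙 _, p.2, 1, 1, rfl, one_pos, one_pos, by rw [realMap_id, one_smul],
    by rw [realMap_id, one_smul]⟩

lemma Eqv.symm {p q : Pt F} (h : Eqv F p q) : Eqv F q p := by
  obtain ⟨k, φ₁, φ₂, y, c₁, c₂, e, h1, h2, e1, e2⟩ := h
  exact ⟨k, φ₂, φ₁, y, c₂, c₁, e.symm, h2, h1, e2, e1⟩

lemma Eqv.trans {p q r : Pt F} (h : Eqv F p q) (h' : Eqv F q r) : Eqv F p r := by
  obtain ⟨k, φ₁, φ₂, y, c₁, c₂, e, h1, h2, e1, e2⟩ := h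
  obtain ⟨k', ψ₂, ψ₃, y', d₂, d₃, e', h2', h3', e2', e3'⟩ := h'
  have hkey : φ₂.realMap y.1 = (d₂ / c₂) • ψ₂.realMap y'.1 := by
    have : c₂ • φ₂.realMap y.1 = d₂ • ψ₂.realMap y'.1 := by rw [← e2, e2']
    have h3 := congr_arg (fun v => c₂⁻¹ • v) this
    simp only [smul_smul, inv_mul_cancel₀ h2.ne', one_smul] at h3
    rw [h3]; congr 1; field_simp
  obtain ⟨m, α, β, z, hαβ, hα, hβ⟩ := common_refinement φ₂ ψ₂ y y' (d₂ / c₂) (div_pos h2' h2) hkey
  refine ⟨m, α ≫ φ₁, β ≫ ψ₃, z, c₁, d₃ * (c₂ / d₂), ?_, h1, mul_pos h3' (div_pos h2 h2'), ?_, ?_⟩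
  · rw [map_comp_apply, e, ← map_comp_apply, hαβ, map_comp_apply, e', ← map_comp_apply]
  · rw [realMap_comp, hα, e1]
  · rw [realMap_comp, hβ, realMap_smul, smul_smul, e3']
    congr 1
    field_simp

lemma Eqv.of_rel {p q : Pt F} (h : Rel F p q) : Eqv F p q := by
  obtain ⟨φ, ξ, v, w, c, hc, h⟩ := h
  exact ⟨_, 𝟙 _, φ, v, 1, c, by rw [map_id_apply'], one_pos, hc, by rw [realMap_id, one_smul], h⟩

lemma Eqv.quot_eq {p q : Pt F} (h : Eqv F p q) : Quot.mk (Rel F) p = Quot.mk (Rel F) q := by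
  obtain ⟨⟨n₁, σ₁⟩, v₁⟩ := p
  obtain ⟨⟨n₂, σ₂⟩, v₂⟩ := q
  obtain ⟨k, φ₁, φ₂, y, c₁, c₂, e, h1, h2, e1, e2⟩ := h
  have s1 : Quot.mk (Rel F) ⟨⟨k, F.map φ₁.op σ₁⟩, y⟩ = Quot.mk (Rel F) ⟨⟨n₁, σ₁⟩, v₁⟩ :=
    Quot.sound (Rel.glue φ₁ σ₁ y v₁ c₁ h1 e1)
  have s2 : Quot.mk (Rel F) ⟨⟨k, F.map φ₂.op σ₂⟩, y⟩ = Quot.mk (Rel F) ⟨⟨n₂, σ₂⟩, v₂⟩ :=
    Quot.sound (Rel.glue φ₂ σ₂ y v₂ c₂ h2 e2)
  simp only at e
  rw [← s1, ← s2, e]

lemma quot_eq_iff {p q : Pt F} : Quot.mk (Rel F) p = Quot.mk (Rel F) q ↔ Eqv F p q := by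
  refine ⟨fun h => ?_, Eqv.quot_eq⟩
  have := Quot.eqvGen_exact h
  clear h
  induction this with
  | rel _ _ h => exact Eqv.of_rel h
  | refl _ => exact Eqv.refl _
  | symm _ _ _ ih => exact ih.symm
  | trans _ _ _ _ _ ih1 ih2 => exact ih1.trans ih2

/-- Equality of points of the projective realization (S19361). -/
theorem mk_eq_iff {n₁ n₂ : ICone} (σ₁ : F.obj (op n₁)) (σ₂ : F.obj (op n₂)) (v₁ : Orth n₁) (v₂ : Orth n₂) :
    P.mk σ₁ v₁ = P.mk σ₂ v₂ ↔
      ∃ (k : ICone) (φ₁ : k ⟶ n₁) (φ₂ : k ⟶ n₂) (y : Orth k) (c₁ c₂ : ℝ),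
        F.map φ₁.op σ₁ = F.map φ₂.op σ₂ ∧ 0 < c₁ ∧ 0 < c₂ ∧
          v₁.1 = c₁ • φ₁.realMap y.1 ∧ v₂.1 = c₂ • φ₂.realMap y.1 :=
  quot_eq_iff (p := ⟨⟨n₁, σ₁⟩, v₁⟩) (q := ⟨⟨n₂, σ₂⟩, v₂⟩)

lemma mk_surjective (x : P F) : ∃ (n : ICone) (σ : F.obj (op n)) (v : Orth n), x = P.mk σ v := by
  obtain ⟨⟨⟨n, σ⟩, v⟩, rfl⟩ := Quot.exists_rep x
  exact ⟨n, σ, v, rfl⟩

/-- The gluing relation as an equation in `P F`. -/
lemma mk_map_eq {k n : ICone} (φ : k ⟶ n) (ξ : F.obj (op n)) (v : Orth k) (w : Orth n) (c : ℝ)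
    (hc : 0 < c) (h : w.1 = c • φ.realMap v.1) : P.mk (F.map φ.op ξ) v = P.mk ξ w :=
  Quot.sound (Rel.glue φ ξ v w c hc h)

lemma mk_map_orthMap {k n : ICone} (φ : k ⟶ n) (ξ : F.obj (op n)) (v : Orth k) :
    P.mk (F.map φ.op ξ) v = P.mk ξ (orthMap φ v) :=
  mk_map_eq φ ξ v _ 1 one_pos (by simp)

lemma mk_smul {n : ICone} (ξ : F.obj (op n)) (v w : Orth n) (c : ℝ) (hc : 0 < c) (h : w.1 = c • v.1) :
    P.mk ξ v = P.mk ξ w := by
  have := mk_map_eq (𝟙 n) ξ v w c hc (by rw [realMap_id]; exact h)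
  rwa [map_id_apply'] at this

lemma P_map_mk {G : Fan.{u}} (f : F ⟶ G) {n : ICone} (σ : F.obj (op n)) (v : Orth n) :
    P.map f (P.mk σ v) = P.mk (f.app _ σ) v := rfl

end Eqv

end Groth.Agent.H2.FanBase
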