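import Groth.Agent.Lib.Helper2.FanMaps

/-!
# Formal fans: cones, bounded fans, quasi-separated fans (helper2)
-/

set_option autoImplicit false

universe u

open CategoryTheory Opposite Instab Instab.Fan Limits

namespace Groth.Agent.H2.FanBdd

open Groth.Agent.H2.FanBase Groth.Agent.H2.FanMaps

lemma comp_app_apply {F G H : Fan.{u}} (f : F ⟶ G) (g : G ⟶ H) (X : IConeᵒᵖ) (x : F.obj X) :
    (f ≫ g).app X x = g.app X (f.app X x) := rfl

lemma coneMap_app {F : Fan.{u}} {n k : ICone} (σ : F.obj (op n)) (φ : k ⟶ n) :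
    (coneMap σ).app (op k) ⟨φ⟩ = F.map φ.op σ := by
  simp [coneMap]

lemma coneMap_comp {F G : Fan.{u}} (f : F ⟶ G) {n : ICone} (σ : F.obj (op n)) :
    coneMap σ ≫ f = coneMap (f.app _ σ) :=
  uliftYonedaEquiv_symm_comp _ _

lemma yoneda_map_apply {n k m : ICone} (α : m ⟶ k) (φ : k ⟶ n) :
    (uliftYoneda.{u}.obj n).map α.op ⟨φ⟩ = ⟨α ≫ φ⟩ := rfl

/-- every point of the realization of a cone lies in the cell of the identity -/
lemma yoneda_mk {n k : ICone} (φ : (uliftYoneda.{u}.obj n).obj (op k)) (v : Orth k) :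
    P.mk φ v = P.mk (F := uliftYoneda.{u}.obj n) (n := n) ⟨𝟙 n⟩ (orthMap φ.down v) := by
  have := mk_map_orthMap (F := uliftYoneda.{u}.obj n) φ.down ⟨𝟙 n⟩ v
  rw [yoneda_map_apply, Category.comp_id] at this
  exact this

/-- equality of points in the realization of a cone -/
lemma yoneda_mk_eq {n k k' : ICone} (α : k ⟶ n) (β : k' ⟶ n) (y : Orth k) (y' : Orth k')
    (h : P.mk (F := uliftYoneda.{u}.obj n) (n := k) ⟨α⟩ y =
      P.mk (F := uliftYoneda.{u}.obj n) (n := k') ⟨β⟩ y') :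
    ∃ c : ℝ, 0 < c ∧ α.realMap y.1 = c • β.realMap y'.1 := by
  rw [mk_eq_iff] at h
  obtain ⟨m, γ₁, γ₂, z, c₁, c₂, e, h1, h2, e1, e2⟩ := h
  rw [yoneda_map_apply, yoneda_map_apply] at e
  have e' : γ₁ ≫ α = γ₂ ≫ β := congr_arg ULift.down e
  refine ⟨c₁ / c₂, div_pos h1 h2, ?_⟩
  rw [e1, e2, realMap_smul, realMap_smul, ← realMap_comp, ← realMap_comp, e', smul_smul]
  congr 1
  field_simp

lemma isBounded_yoneda (n : ICone) : IsBounded (uliftYoneda.{u}.obj n) := by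
  refine ⟨{⟨n, ⟨𝟙 n⟩⟩}, fun x => ?_⟩
  obtain ⟨k, φ, v, rfl⟩ := mk_surjective x
  exact ⟨_, Finset.mem_singleton_self _, ⟨_, (yoneda_mk φ v).symm⟩⟩

lemma isBounded_of_cover {F : Fan.{u}} {ι : Type*} (s : Finset ι) (Q : ι → Fan.{u}) (h : ∀ i, Q i ⟶ F)
    (hQ : ∀ i ∈ s, IsBounded (Q i)) (hcov : ∀ x : P F, ∃ i ∈ s, x ∈ Set.range (P.map (h i))) :
    IsBounded F := by
  classical
  have hQ' : ∀ i : ι, ∃ t : Finset (Σ n : ICone, (Q i).obj (op n)), i ∈ s →
      ∀ x : P (Q i), ∃ e ∈ t, x ∈ P.cell e.2 := by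
    intro i
    by_cases hi : i ∈ s
    · obtain ⟨t, ht⟩ := hQ i hi
      exact ⟨t, fun _ => ht⟩
    · exact ⟨∅, fun h => absurd h hi⟩
  choose t ht using hQ'
  refine ⟨s.biUnion fun i => (t i).image fun e => ⟨e.1, (h i).app _ e.2⟩, fun x => ?_⟩
  obtain ⟨i, hi, y, rfl⟩ := hcov x
  obtain ⟨e, he, v, rfl⟩ := ht i hi y
  refine ⟨⟨e.1, (h i).app _ e.2⟩, ?_, ⟨v, rfl⟩⟩
  rw [Finset.mem_biUnion]
  exact ⟨i, hi, Finset.mem_image_of_mem _ he⟩

/-- S19359 -/
theorem isQuasiSeparated_iff (G : Fan.{u}) :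
    G.IsQuasiSeparated ↔ ∀ (F : Fan.{u}) (f : F ⟶ G), F.IsBounded → IsBoundedMap f := by
  constructor
  · intro hG F f hF n σ
    obtain ⟨s, hs⟩ := hF
    let Q : (Σ n : ICone, F.obj (op n)) → Fan.{u} := fun e =>
      pullback (coneMap (f.app _ e.2)) (coneMap σ)
    let h : ∀ e, Q e ⟶ pullback f (coneMap σ) := fun e =>
      pullback.lift (pullback.fst _ _ ≫ coneMap e.2) (pullback.snd _ _) (by
        rw [Category.assoc, coneMap_comp, pullback.condition])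
    refine isBounded_of_cover s Q h (fun e _ => hG _ _ _ _) ?_
    intro x
    obtain ⟨k, ζ, v, rfl⟩ := mk_surjective x
    -- the components of ζ
    set ξ := (pullback.fst f (coneMap σ)).app _ ζ with hξ
    set φ := ((pullback.snd f (coneMap σ)).app _ ζ).down with hφ
    have hcond : f.app _ ξ = G.map φ.op σ := by
      have := pb_condition_apply f (coneMap σ) ζ
      rw [← hξ] at this
      rw [this]
      exact coneMap_app σ φ
    obtain ⟨e, he, w, hw⟩ := hs (P.mk ξ v)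
    rw [eq_comm, mk_eq_iff] at hw
    obtain ⟨m, α, β, y, c₁, c₂, eq, h1, h2, e1, e2⟩ := hw
    -- the element of `Q e` over `[m]`
    have hq : (coneMap (f.app _ e.2)).app (op m) ⟨β⟩ = (coneMap σ).app (op m) ⟨α ≫ φ⟩ := by
      rw [coneMap_app, coneMap_app, ← naturality_apply', ← eq, naturality_apply', hcond,
        map_comp_apply]
    obtain ⟨q, hq1, hq2⟩ := pb_exists _ _ _ _ hq
    refine ⟨e, he, P.mk q y, ?_⟩
    rw [P_map_mk]
    have : (h e).app (op m) q = (pullback f (coneMap σ)).map α.op ζ := by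
      apply pb_ext
      · rw [← comp_app_apply, pullback.lift_fst, comp_app_apply, hq1, coneMap_app,
          naturality_apply', ← hξ, eq]
      · rw [← comp_app_apply, pullback.lift_snd, hq2, naturality_apply']
        rfl
    rw [this]
    exact mk_map_eq α ζ y v c₁ h1 e1
  · intro hG n₀ n₁ σ₀ σ₁
    exact hG _ (coneMap σ₀) (isBounded_yoneda n₀) n₁ σ₁


/-- the two cone morphisms attached to a cone of the fibre product of two cones -/
lemma pb_cone_condition {G : Fan.{u}} {n n' k : ICone} (ξ : G.obj (op n)) (ξ' : G.obj (op n'))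
    (ζ : (pullback (coneMap ξ) (coneMap ξ')).obj (op k)) :
    G.map ((pullback.fst (coneMap ξ) (coneMap ξ')).app _ ζ).down.op ξ =
      G.map ((pullback.snd (coneMap ξ) (coneMap ξ')).app _ ζ).down.op ξ' := by
  have := pb_condition_apply (coneMap ξ) (coneMap ξ') ζ
  rw [← coneMap_app, ← coneMap_app]
  exact this

/-- S19373 -/
theorem qsep_eq_iff (G : Fan.{u}) (hG : G.IsQuasiSeparated) {n n' : ICone}
    (ξ : G.obj (op n)) (ξ' : G.obj (op n')) :
    ∃ s : Finset (Σ k : ICone, (k ⟶ n) × (k ⟶ n')),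
      (∀ e ∈ s, G.map e.2.1.op ξ = G.map e.2.2.op ξ') ∧
      ∀ (v : Orth n) (w : Orth n'), P.mk ξ v = P.mk ξ' w ↔
        ∃ e ∈ s, ∃ (y : Orth e.1) (c c' : ℝ), 0 < c ∧ 0 < c' ∧
          v.1 = c • e.2.1.realMap y.1 ∧ w.1 = c' • e.2.2.realMap y.1 := by
  classical
  obtain ⟨t, ht⟩ := hG n n' ξ ξ'
  let g : (Σ k : ICone, (pullback (coneMap ξ) (coneMap ξ')).obj (op k)) →
      (Σ k : ICone, (k ⟶ n) × (k ⟶ n')) := fun e =>
    ⟨e.1, (((pullback.fst (coneMap ξ) (coneMap ξ')).app _ e.2).down,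
      ((pullback.snd (coneMap ξ) (coneMap ξ')).app _ e.2).down)⟩
  have hs : ∀ e ∈ t.image g, G.map e.2.1.op ξ = G.map e.2.2.op ξ' := by
    intro e he
    obtain ⟨ζ, -, rfl⟩ := Finset.mem_image.mp he
    exact pb_cone_condition ξ ξ' ζ.2
  refine ⟨t.image g, hs, fun v w => ⟨fun h => ?_, ?_⟩⟩
  · rw [mk_eq_iff] at h
    obtain ⟨m, α, β, y, c₁, c₂, eq, h1, h2, e1, e2⟩ := h
    have hq : (coneMap ξ).app (op m) ⟨α⟩ = (coneMap ξ').app (op m) ⟨β⟩ := by
      rw [coneMap_app, coneMap_app, eq]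
    obtain ⟨q, hq1, hq2⟩ := pb_exists _ _ _ _ hq
    obtain ⟨ζ, hζ, y', hy'⟩ := ht (P.mk q y)
    have hy1 := congr_arg (P.map (pullback.fst (coneMap ξ) (coneMap ξ'))) hy'
    have hy2 := congr_arg (P.map (pullback.snd (coneMap ξ) (coneMap ξ'))) hy'
    rw [P_map_mk, P_map_mk, hq1] at hy1
    rw [P_map_mk, P_map_mk, hq2] at hy2
    obtain ⟨d₁, hd₁, hd1⟩ := yoneda_mk_eq _ _ _ _ hy1
    obtain ⟨d₂, hd₂, hd2⟩ := yoneda_mk_eq _ _ _ _ hy2
    refine ⟨g ζ, Finset.mem_image_of_mem _ hζ, y', c₁ / d₁, c₂ / d₂, div_pos h1 hd₁, div_pos h2 hd₂, ?_, ?_⟩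
    · have hd1' : ICone.Hom.realMap (g ζ).2.1 y'.1 = d₁ • α.realMap y.1 := hd1
      rw [hd1', smul_smul, e1]
      congr 1
      field_simp
    · have hd2' : ICone.Hom.realMap (g ζ).2.2 y'.1 = d₂ • β.realMap y.1 := hd2
      rw [hd2', smul_smul, e2]
      congr 1
      field_simp
  · rintro ⟨e, he, y, c, c', hc, hc', e1, e2⟩
    rw [← mk_map_eq e.2.1 ξ y v c hc e1, ← mk_map_eq e.2.2 ξ' y w c' hc' e2, hs e he]

end Groth.Agent.H2.FanBdd
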