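import Groth.Agent.Lib.Helper2.FanTop

/-!
# Formal fans: bounded maps (helper2)
-/

set_option autoImplicit false

universe u

open CategoryTheory Opposite Instab Instab.Fan Limits Filter Topology

namespace Groth.Agent.H2.FanBddMap

open Groth.Agent.H2.FanBase Groth.Agent.H2.FanMaps Groth.Agent.H2.FanBdd Groth.Agent.H2.FanTop

section

variable {F G : Fan.{u}} (ψ : F ⟶ G) {n : ICone} (ξ : G.obj (op n))

/-- the cone of `F` attached to a cone of `F ×_G h_n` -/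
noncomputable abbrev pbCone {k : ICone} (ζ : (pullback ψ (coneMap ξ)).obj (op k)) : F.obj (op k) :=
  (pullback.fst ψ (coneMap ξ)).app _ ζ

/-- the cone morphism attached to a cone of `F ×_G h_n` -/
noncomputable abbrev pbHom {k : ICone} (ζ : (pullback ψ (coneMap ξ)).obj (op k)) : k ⟶ n :=
  ((pullback.snd ψ (coneMap ξ)).app _ ζ).down

lemma pbCone_cond {k : ICone} (ζ : (pullback ψ (coneMap ξ)).obj (op k)) :
    ψ.app _ (pbCone ψ ξ ζ) = G.map (pbHom ψ ξ ζ).op ξ := by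
  have := pb_condition_apply ψ (coneMap ξ) ζ
  rw [← coneMap_app]
  exact this

lemma map_mk_pbCone {k : ICone} (ζ : (pullback ψ (coneMap ξ)).obj (op k)) (y : Orth k) :
    P.map ψ (P.mk (pbCone ψ ξ ζ) y) = P.mk ξ (orthMap (pbHom ψ ξ ζ) y) := by
  rw [P_map_mk, pbCone_cond, mk_map_orthMap]

lemma exists_lift (t : Finset (Σ k : ICone, (pullback ψ (coneMap ξ)).obj (op k)))
    (ht : ∀ x : P (pullback ψ (coneMap ξ)), ∃ e ∈ t, x ∈ P.cell e.2)
    (x : P F) (v : Orth n) (h : P.map ψ x = P.mk ξ v) :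
    ∃ ζ ∈ t, ∃ (y : Orth ζ.1) (c : ℝ), 0 < c ∧ x = P.mk (pbCone ψ ξ ζ.2) y ∧
      (pbHom ψ ξ ζ.2).realMap y.1 = c • v.1 := by
  have h' : P.map ψ x = P.map (coneMap ξ) (P.mk (F := uliftYoneda.{u}.obj n) (n := n) ⟨𝟙 n⟩ v) := by
    rw [h, P_map_mk, coneMap_app, map_id_apply']
  obtain ⟨q, hq1, hq2⟩ := P_pullback_surjective ψ (coneMap ξ) x _ h'
  obtain ⟨ζ, hζ, y, rfl⟩ := ht q
  rw [P_map_mk] at hq1 hq2
  obtain ⟨c, hc, e⟩ := yoneda_mk_eq _ _ _ _ hq2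
  rw [realMap_id] at e
  exact ⟨ζ, hζ, y, c, hc, hq1.symm, e⟩

/-- description of the image of a bounded map in a rational simplex -/
theorem image_desc (t : Finset (Σ k : ICone, (pullback ψ (coneMap ξ)).obj (op k)))
    (ht : ∀ x : P (pullback ψ (coneMap ξ)), ∃ e ∈ t, x ∈ P.cell e.2) (Z : Set (P F)) :
    P.mk ξ ⁻¹' (P.map ψ '' Z) =
      ⋃ ζ ∈ t, {w : Orth n | ∃ y ∈ P.mk (pbCone ψ ξ ζ.2) ⁻¹' Z, ∃ c : ℝ, 0 < c ∧
        w.1 = c • (pbHom ψ ξ ζ.2).realMap y.1} := by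
  ext w
  simp only [Set.mem_preimage, Set.mem_image, Set.mem_iUnion, Set.mem_ofPred_eq, exists_prop]
  constructor
  · rintro ⟨x, hx, hxw⟩
    obtain ⟨ζ, hζ, y, c, hc, rfl, e⟩ := exists_lift ψ ξ t ht x w hxw
    refine ⟨ζ, hζ, y, hx, c⁻¹, inv_pos.mpr hc, ?_⟩
    rw [e, smul_smul, inv_mul_cancel₀ hc.ne', one_smul]
  · rintro ⟨ζ, hζ, y, hy, c, hc, e⟩
    refine ⟨_, hy, ?_⟩
    rw [map_mk_pbCone]
    exact mk_smul ξ _ w c hc e

end

/-- S19363 (a): a bounded map induces a closed map -/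
theorem isClosedMap_of_isBoundedMap {F G : Fan.{u}} (ψ : F ⟶ G) (hψ : IsBoundedMap ψ) :
    IsClosedMap (P.map ψ) := by
  intro Z hZ
  rw [isClosed_iff]
  intro n ξ
  obtain ⟨t, ht⟩ := hψ n ξ
  rw [image_desc ψ ξ t ht Z]
  refine Set.Finite.isClosed_biUnion t.finite_toSet fun ζ _ => ?_
  exact isClosed_image_cone _ _ (hZ.preimage (continuous_mk _)) (scaleInv_preimage_mk _ _)

/-- S19363 (b): finite fibres -/
theorem finite_fibres_of_isBoundedMap {F G : Fan.{u}} (ψ : F ⟶ G) (hψ : IsBoundedMap ψ) (y : P G) :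
    (P.map ψ ⁻¹' {y}).Finite := by
  obtain ⟨n, ξ, v, rfl⟩ := mk_surjective y
  obtain ⟨t, ht⟩ := hψ n ξ
  have hsub : P.map ψ ⁻¹' {P.mk ξ v} ⊆ ⋃ ζ ∈ t, {x : P F | ∃ (y : Orth ζ.1) (c : ℝ), 0 < c ∧
      x = P.mk (pbCone ψ ξ ζ.2) y ∧ (pbHom ψ ξ ζ.2).realMap y.1 = c • v.1} := by
    intro x hx
    obtain ⟨ζ, hζ, y, c, hc, e1, e2⟩ := exists_lift ψ ξ t ht x v hx
    simp only [Set.mem_iUnion]
    exact ⟨ζ, hζ, y, c, hc, e1, e2⟩
  refine Set.Finite.subset (Set.Finite.biUnion t.finite_toSet fun ζ _ => ?_) hsub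
  apply Set.Subsingleton.finite
  rintro x ⟨y, c, hc, rfl, e⟩ x' ⟨y', c', hc', rfl, e'⟩
  apply mk_smul _ y y' (c' / c) (div_pos hc' hc)
  apply realMap_injective (pbHom ψ ξ ζ.2)
  rw [realMap_smul, e, e', smul_smul]
  congr 1
  field_simp

/-- S19363 (c) -/
theorem image_cell_desc {F G : Fan.{u}} (ψ : F ⟶ G) (hψ : IsBoundedMap ψ) (n : ICone) (ξ : G.obj (op n)) :
    ∃ s : Finset (Σ k : ICone, k ⟶ n),
      {v : Orth n | P.mk ξ v ∈ Set.range (P.map ψ)} =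
        ⋃ e ∈ s, {v : Orth n | ∃ (y : Orth e.1) (c : ℝ), 0 < c ∧ v.1 = c • e.2.realMap y.1} := by
  classical
  obtain ⟨t, ht⟩ := hψ n ξ
  refine ⟨t.image fun ζ => ⟨ζ.1, pbHom ψ ξ ζ.2⟩, ?_⟩
  have := image_desc ψ ξ t ht Set.univ
  rw [Set.image_univ] at this
  change P.mk ξ ⁻¹' Set.range (P.map ψ) = _
  rw [this]
  ext w
  simp only [Set.mem_iUnion, Set.mem_ofPred_eq, Finset.mem_image, Set.preimage_univ, Set.mem_univ,
    true_and, exists_prop]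
  constructor
  · rintro ⟨ζ, hζ, y, c, hc, e⟩
    exact ⟨_, ⟨ζ, hζ, rfl⟩, y, c, hc, e⟩
  · rintro ⟨_, ⟨ζ, hζ, rfl⟩, y, c, hc, e⟩
    exact ⟨ζ, hζ, y, c, hc, e⟩

/-- the preimage of the image of a bounded map in a rational simplex is closed and scaling-invariant -/
theorem isClosed_preimage_range {F G : Fan.{u}} (ψ : F ⟶ G) (hψ : IsBoundedMap ψ) {n : ICone}
    (ξ : G.obj (op n)) : IsClosed (P.mk ξ ⁻¹' Set.range (P.map ψ)) := by
  have := isClosedMap_of_isBoundedMap ψ hψ Set.univ isClosed_univ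
  rw [Set.image_univ] at this
  exact this.preimage (continuous_mk ξ)

/-- S19365 -/
theorem isClosedEmbedding_of_isBoundedMap {F G : Fan.{u}} (ψ : F ⟶ G) (hψ : IsBoundedMap ψ)
    (hinj : ∀ n : ICone, Function.Injective (ψ.app (op n))) : IsClosedEmbedding (P.map ψ) :=
  IsClosedEmbedding.of_continuous_injective_isClosedMap (continuous_P_map ψ)
    (P_map_injective ψ hinj) (isClosedMap_of_isBoundedMap ψ hψ)

end Groth.Agent.H2.FanBddMap
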