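import Groth.Agent.Lib.Helper2.FanBase
set_option autoImplicit false
universe u
open CategoryTheory Opposite Instab Instab.Fan Limits
namespace Groth.Agent.H2.FanMaps
open Groth.Agent.H2.FanBase

lemma naturality_apply' {F G : Fan.{u}} (f : F ⟶ G) {k n : ICone} (φ : k ⟶ n) (ξ : F.obj (op n)) :
    f.app (op k) (F.map φ.op ξ) = G.map φ.op (f.app (op n) ξ) :=
  NatTrans.naturality_apply f φ.op ξ

theorem P_map_injective {F G : Fan.{u}} (f : F ⟶ G)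
    (h : ∀ n : ICone, Function.Injective (f.app (op n))) : Function.Injective (P.map f) := by
  intro x x' hxx
  obtain ⟨n, σ, v, rfl⟩ := mk_surjective x
  obtain ⟨n', σ', v', rfl⟩ := mk_surjective x'
  rw [P_map_mk, P_map_mk, mk_eq_iff] at hxx
  obtain ⟨k, φ₁, φ₂, y, c₁, c₂, e, h1, h2, e1, e2⟩ := hxx
  rw [mk_eq_iff]
  refine ⟨k, φ₁, φ₂, y, c₁, c₂, ?_, h1, h2, e1, e2⟩
  apply h k
  rw [naturality_apply', naturality_apply']
  exact e

theorem P_map_surjective {F G : Fan.{u}} (f : F ⟶ G)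
    (h : ∀ n : ICone, Function.Surjective (f.app (op n))) : Function.Surjective (P.map f) := by
  intro x
  obtain ⟨n, τ, v, rfl⟩ := mk_surjective x
  obtain ⟨σ, rfl⟩ := h n τ
  exact ⟨P.mk σ v, rfl⟩

lemma isPullback_app {F F' G : Fan.{u}} (f : F ⟶ G) (g : F' ⟶ G) (X : IConeᵒᵖ) :
    IsPullback ((pullback.fst f g).app X) ((pullback.snd f g).app X) (f.app X) (g.app X) :=
  (IsPullback.of_hasPullback f g).map ((evaluation _ _).obj X)

lemma pb_ext {F F' G : Fan.{u}} {f : F ⟶ G} {g : F' ⟶ G} {X : IConeᵒᵖ}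
    {ζ ζ' : (pullback f g).obj X} (h1 : (pullback.fst f g).app X ζ = (pullback.fst f g).app X ζ')
    (h2 : (pullback.snd f g).app X ζ = (pullback.snd f g).app X ζ') : ζ = ζ' :=
  Types.ext_of_isPullback (isPullback_app f g X) h1 h2

lemma pb_exists {F F' G : Fan.{u}} (f : F ⟶ G) (g : F' ⟶ G) {X : IConeᵒᵖ}
    (ξ : F.obj X) (ξ' : F'.obj X) (h : f.app X ξ = g.app X ξ') :
    ∃ ζ : (pullback f g).obj X, (pullback.fst f g).app X ζ = ξ ∧ (pullback.snd f g).app X ζ = ξ' :=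
  Types.exists_of_isPullback (isPullback_app f g X) ξ ξ' h

lemma pb_condition_apply {F F' G : Fan.{u}} (f : F ⟶ G) (g : F' ⟶ G) {X : IConeᵒᵖ}
    (ζ : (pullback f g).obj X) :
    f.app X ((pullback.fst f g).app X ζ) = g.app X ((pullback.snd f g).app X ζ) := by
  have := congr_arg (fun t => t.app X) (pullback.condition (f := f) (g := g))
  exact ConcreteCategory.congr_hom this ζ

/-- S19360 -/
theorem P_pullback_surjective {F F' G : Fan.{u}} (f : F ⟶ G) (g : F' ⟶ G)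
    (x : P F) (x' : P F') (h : P.map f x = P.map g x') :
    ∃ y : P (pullback f g), P.map (pullback.fst f g) y = x ∧ P.map (pullback.snd f g) y = x' := by
  obtain ⟨n, σ, v, rfl⟩ := mk_surjective x
  obtain ⟨n', σ', v', rfl⟩ := mk_surjective x'
  rw [P_map_mk, P_map_mk, mk_eq_iff] at h
  obtain ⟨k, φ₁, φ₂, y, c₁, c₂, e, h1, h2, e1, e2⟩ := h
  rw [← naturality_apply', ← naturality_apply'] at e
  obtain ⟨ζ, hζ1, hζ2⟩ := pb_exists f g _ _ e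
  refine ⟨P.mk ζ y, ?_, ?_⟩
  · rw [P_map_mk, hζ1]
    exact mk_map_eq φ₁ σ y v c₁ h1 e1
  · rw [P_map_mk, hζ2]
    exact mk_map_eq φ₂ σ' y v' c₂ h2 e2


lemma P_map_comp {F G H : Fan.{u}} (f : F ⟶ G) (g : G ⟶ H) (x : P F) :
    P.map (f ≫ g) x = P.map g (P.map f x) := by
  obtain ⟨n, σ, v, rfl⟩ := mk_surjective x
  rfl

lemma P_map_id {F : Fan.{u}} (x : P F) : P.map (𝟙 F) x = x := by
  obtain ⟨n, σ, v, rfl⟩ := mk_surjective x
  rfl

lemma P_map_congr {F G : Fan.{u}} {f g : F ⟶ G} (h : f = g) (x : P F) : P.map f x = P.map g x := by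
  rw [h]

/-- points of the image of the realization of a sub-fan -/
lemma mem_range_ι {F : Fan.{u}} (S : Subfunctor F) (x : P F) :
    x ∈ Set.range (P.map S.ι) ↔
      ∃ (n : ICone) (ξ : F.obj (op n)) (_ : ξ ∈ S.obj (op n)) (v : Orth n), x = P.mk ξ v := by
  constructor
  · rintro ⟨y, rfl⟩
    obtain ⟨n, σ, v, rfl⟩ := mk_surjective y
    exact ⟨n, σ.1, σ.2, v, rfl⟩
  · rintro ⟨n, ξ, hξ, v, rfl⟩
    exact ⟨P.mk (F := S.toFunctor) ⟨ξ, hξ⟩ v, rfl⟩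

/-- S19362 (1) -/
theorem range_P_map_eq_range_ι {F G : Fan.{u}} (f : F ⟶ G) :
    Set.range (P.map f) = Set.range (P.map (Subfunctor.range f).ι) := by
  ext x
  rw [mem_range_ι]
  constructor
  · rintro ⟨y, rfl⟩
    obtain ⟨n, σ, v, rfl⟩ := mk_surjective y
    exact ⟨n, f.app _ σ, ⟨σ, rfl⟩, v, rfl⟩
  · rintro ⟨n, ξ, ⟨σ, rfl⟩, v, rfl⟩
    exact ⟨P.mk σ v, rfl⟩

/-- S19362 (2) -/
theorem range_P_map_snd {F G G' : Fan.{u}} (f : F ⟶ G) (g : G' ⟶ G) :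
    Set.range (P.map (pullback.snd f g)) = P.map g ⁻¹' Set.range (P.map f) := by
  ext x
  constructor
  · rintro ⟨y, rfl⟩
    refine ⟨P.map (pullback.fst f g) y, ?_⟩
    rw [← P_map_comp, ← P_map_comp, pullback.condition]
  · rintro ⟨y, hy⟩
    obtain ⟨z, -, hz⟩ := P_pullback_surjective f g y x hy
    exact ⟨z, hz⟩

/-- S19368 (1) -/
theorem isRealizable_inter {F : Fan.{u}} (U V : Set (P F)) (hU : IsRealizable U) (hV : IsRealizable V) :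
    IsRealizable (U ∩ V) := by
  obtain ⟨S, rfl⟩ := hU
  obtain ⟨T, rfl⟩ := hV
  refine ⟨S ⊓ T, ?_⟩
  ext x
  simp only [Set.mem_inter_iff, mem_range_ι]
  constructor
  · rintro ⟨⟨n, ξ, hξ, v, rfl⟩, ⟨n', ξ', hξ', v', hx⟩⟩
    rw [mk_eq_iff] at hx
    obtain ⟨k, φ₁, φ₂, y, c₁, c₂, e, h1, h2, e1, e2⟩ := hx
    refine ⟨k, F.map φ₁.op ξ, ⟨S.map φ₁.op hξ, ?_⟩, y, (mk_map_eq φ₁ ξ y v c₁ h1 e1).symm⟩
    rw [e]
    exact T.map φ₂.op hξ'
  · rintro ⟨n, ξ, hξ, v, rfl⟩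
    exact ⟨⟨n, ξ, hξ.1, v, rfl⟩, ⟨n, ξ, hξ.2, v, rfl⟩⟩

/-- S19368 (2) -/
theorem isRealizable_iUnion {F : Fan.{u}} {ι : Type*} (U : ι → Set (P F)) (hU : ∀ i, IsRealizable (U i)) :
    IsRealizable (Set.iUnion U) := by
  choose S hS using hU
  refine ⟨⨆ i, S i, ?_⟩
  ext x
  simp only [Set.mem_iUnion, mem_range_ι, hS, Subfunctor.iSup_obj]
  constructor
  · rintro ⟨i, n, ξ, hξ, v, rfl⟩
    exact ⟨n, ξ, ⟨i, hξ⟩, v, rfl⟩
  · rintro ⟨n, ξ, ⟨i, hξ⟩, v, rfl⟩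
    exact ⟨i, n, ξ, hξ, v, rfl⟩

end Groth.Agent.H2.FanMaps
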