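import Groth.Prelude.Def_W4c6instabfans3FanCvx
import Groth.Agent.Lib.Helper2.FanMaps

/-!
# Formal fans: convexity lemmas (helper2)
-/

set_option autoImplicit false

universe u

open CategoryTheory Opposite Instab Instab.Fan Limits

namespace Groth.Agent.H2.FanCvx

open Groth.Agent.H2.FanBase Groth.Agent.H2.FanMaps

/-- S19374 -/
theorem isLocallyConvex_iff (F : Fan.{u}) (U : Set (P F)) :
    IsLocallyConvex U ↔
      ∀ (n : ICone) (ξ : F.obj (op n)),
        Convex ℝ {v : Fin n.dim → ℝ | ∃ h : (∀ i, 0 ≤ v i) ∧ v ≠ 0, P.mk ξ (⟨v, h⟩ : Orth n) ∈ U} := by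
  constructor
  · intro hU n ξ v₀ hv₀ v₂ hv₂ a b ha hb hab
    obtain ⟨h₀, m₀⟩ := hv₀
    obtain ⟨h₂, m₂⟩ := hv₂
    rcases ha.eq_or_lt with rfl | ha'
    · have : b = 1 := by linarith
      subst this
      simpa using ⟨h₂, m₂⟩
    rcases hb.eq_or_lt with rfl | hb'
    · have : a = 1 := by linarith
      subst this
      simpa using ⟨h₀, m₀⟩
    have hnn : ∀ i, 0 ≤ (a • v₀ + b • v₂) i := fun i => by
      simp only [Pi.add_apply, Pi.smul_apply, smul_eq_mul]
      exact add_nonneg (mul_nonneg ha (h₀.1 i)) (mul_nonneg hb (h₂.1 i))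
    have hne : a • v₀ + b • v₂ ≠ 0 := by
      intro h0
      apply h₀.2
      funext i
      have := congr_fun h0 i
      simp only [Pi.add_apply, Pi.smul_apply, smul_eq_mul, Pi.zero_apply] at this
      have h1 := mul_nonneg ha (h₀.1 i)
      have h2 := mul_nonneg hb (h₂.1 i)
      have h3 : a * v₀ i = 0 := by linarith
      rcases mul_eq_zero.mp h3 with h | h
      · exact absurd h ha'.ne'
      · exact h
    exact ⟨⟨hnn, hne⟩, hU n ξ ⟨v₀, h₀⟩ ⟨_, hnn, hne⟩ ⟨v₂, h₂⟩ m₀ m₂ ⟨a, b, ha', hb', rfl⟩⟩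
  · intro hU n ξ v₀ v₁ v₂ m₀ m₂ hv
    obtain ⟨a, b, ha, hb, e⟩ := hv
    have hab : 0 < a + b := add_pos ha hb
    have hconv := hU n ξ (x := v₀.1) ⟨v₀.2, m₀⟩ (y := v₂.1) ⟨v₂.2, m₂⟩
      (a := a / (a + b)) (b := b / (a + b)) (div_nonneg ha.le hab.le) (div_nonneg hb.le hab.le)
      (by field_simp)
    obtain ⟨h, hm⟩ := hconv
    have : P.mk ξ (⟨_, h⟩ : Orth n) = P.mk ξ v₁ := by
      apply mk_smul ξ _ _ (a + b) hab
      rw [e]
      simp only [smul_add, smul_smul]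
      congr 2 <;> field_simp
    rwa [← this]

end Groth.Agent.H2.FanCvx
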