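import Groth.Agent.Lib.Helper2.FanBddMap

/-!
# Formal fans: rational points, quasi-separated fans (helper2)
-/

set_option autoImplicit false

universe u

open CategoryTheory Opposite Instab Instab.Fan Limits Filter Topology

namespace Groth.Agent.H2.FanQSep

open Groth.Agent.H2.FanBase Groth.Agent.H2.FanMaps Groth.Agent.H2.FanBdd Groth.Agent.H2.FanTop
  Groth.Agent.H2.FanBddMap

instance : Subsingleton (Fin (Fan.one.dim : ℕ)) := inferInstanceAs (Subsingleton (Fin 1))

/-- the cone morphism `[1] ⟶ [n]` of a nonzero nonnegative integer vector -/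
def rayHom {n : ICone} (z : Fin n.dim → ℤ) (hz : ∀ i, 0 ≤ z i) (hz0 : z ≠ 0) : Fan.one ⟶ n :=
  homOfVecs (fun _ => z) (fun _ i => hz i) (by
    rw [injective_iff_map_eq_zero]
    intro u hu
    obtain ⟨i, hi⟩ : ∃ i, z i ≠ 0 := by
      by_contra h
      push Not at h
      exact hz0 (funext h)
    have := congr_fun hu i
    rw [vecLin_apply, Fintype.sum_subsingleton _ (⟨0, Fan.one.dim.pos⟩ : Fin Fan.one.dim)] at this
    simp only [Pi.zero_apply, mul_eq_zero, hi, false_or] at this
    funext l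
    rw [Subsingleton.elim l ⟨0, Fan.one.dim.pos⟩, this]
    rfl)

lemma rayHom_realMap_ones {n : ICone} (z : Fin n.dim → ℤ) (hz : ∀ i, 0 ≤ z i) (hz0 : z ≠ 0) :
    (rayHom z hz hz0).realMap (Orth.ones Fan.one).1 = fun i => (z i : ℝ) := by
  funext i
  rw [realMap_apply, Fintype.sum_subsingleton _ (⟨0, Fan.one.dim.pos⟩ : Fin Fan.one.dim)]
  simp only [rayHom, ent_homOfVecs, Orth.ones, mul_one]

lemma mk_intPt {F : Fan.{u}} {n : ICone} (ξ : F.obj (op n)) (z : Fin n.dim → ℤ) (hz : ∀ i, 0 ≤ z i)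
    (hz0 : z ≠ 0) :
    P.mk ξ (intPt z hz hz0) = P.mk (F.map (rayHom z hz hz0).op ξ) (Orth.ones Fan.one) :=
  (mk_map_eq (rayHom z hz hz0) ξ (Orth.ones Fan.one) (intPt z hz hz0) 1 one_pos (by
    rw [rayHom_realMap_ones, one_smul]; rfl)).symm

lemma isRational_mk_intPt {F : Fan.{u}} {n : ICone} (ξ : F.obj (op n)) (z : Fin n.dim → ℤ)
    (hz : ∀ i, 0 ≤ z i) (hz0 : z ≠ 0) : (P.mk ξ (intPt z hz hz0)).IsRational :=
  ⟨_, mk_intPt ξ z hz hz0⟩

/-- S19364 -/
theorem surjective_iff_rational {F G : Fan.{u}} (ψ : F ⟶ G) (hψ : IsBoundedMap ψ) :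
    Function.Surjective (P.map ψ) ↔ ∀ y : P G, y.IsRational → y ∈ Set.range (P.map ψ) := by
  constructor
  · intro h y _
    exact h y
  · intro h x
    obtain ⟨n, ξ, v, rfl⟩ := mk_surjective x
    have hE := eq_univ_of_intPt_mem (P.mk ξ ⁻¹' Set.range (P.map ψ)) (isClosed_preimage_range ψ hψ ξ)
      (scaleInv_preimage_mk _ _) (fun z hz hz0 => h _ (isRational_mk_intPt ξ z hz hz0))
    have : v ∈ P.mk ξ ⁻¹' Set.range (P.map ψ) := by rw [hE]; trivial
    exact this

lemma scaleInv_preimage_orthMap {k n : ICone} (φ : k ⟶ n) (S : Set (Orth n)) (hinv : ScaleInv S) :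
    ScaleInv (orthMap φ ⁻¹' S) := by
  intro v w hv c hc e
  refine hinv (orthMap φ v) (orthMap φ w) hv c hc ?_
  simp only [orthMap_val, e, realMap_smul]

/-- S19366 (1) -/
theorem isClosed_image_mk_of_qsep (F : Fan.{u}) (hF : F.IsQuasiSeparated) {n : ICone}
    (ξ : F.obj (op n)) (S : Set (Orth n)) (hS : IsClosed S) (hinv : ScaleInv S) :
    IsClosed (P.mk ξ '' S) := by
  rw [isClosed_iff]
  intro n' ξ'
  obtain ⟨s, hs, hiff⟩ := qsep_eq_iff F hF ξ' ξ
  have : P.mk ξ' ⁻¹' (P.mk ξ '' S) = ⋃ e ∈ s, {w : Orth n' | ∃ y ∈ orthMap e.2.2 ⁻¹' S,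
      ∃ c : ℝ, 0 < c ∧ w.1 = c • e.2.1.realMap y.1} := by
    ext w
    simp only [Set.mem_preimage, Set.mem_image, Set.mem_iUnion, Set.mem_ofPred_eq, exists_prop]
    constructor
    · rintro ⟨v, hv, e⟩
      obtain ⟨e', he', y, c, c', hc, hc', e1, e2⟩ := (hiff w v).mp e.symm
      refine ⟨e', he', y, ?_, c, hc, e1⟩
      refine hinv v _ hv c'⁻¹ (inv_pos.mpr hc') ?_
      rw [orthMap_val, e2, smul_smul, inv_mul_cancel₀ hc'.ne', one_smul]
    · rintro ⟨e', he', y, hy, c, hc, e1⟩
      refine ⟨orthMap e'.2.2 y, hy, ?_⟩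
      exact ((hiff w (orthMap e'.2.2 y)).mpr ⟨e', he', y, c, 1, hc, one_pos, e1, by simp⟩).symm
  rw [this]
  refine Set.Finite.isClosed_biUnion s.finite_toSet fun e _ => ?_
  exact isClosed_image_cone _ _ (hS.preimage (continuous_orthMap _)) (scaleInv_preimage_orthMap _ _ hinv)

lemma isClosed_cell_of_qsep (F : Fan.{u}) (hF : F.IsQuasiSeparated) {n : ICone} (ξ : F.obj (op n)) :
    IsClosed (P.cell ξ) := by
  have := isClosed_image_mk_of_qsep F hF ξ Set.univ isClosed_univ scaleInv_univ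
  rwa [Set.image_univ] at this

/-- S19366 (2) -/
theorem isClosed_iff_inter_cell (F : Fan.{u}) (hF : F.IsQuasiSeparated) (S : Set (P F)) :
    IsClosed S ↔ ∀ (n : ICone) (ξ : F.obj (op n)), IsClosed (S ∩ P.cell ξ) := by
  constructor
  · intro hS n ξ
    exact hS.inter (isClosed_cell_of_qsep F hF ξ)
  · intro h
    rw [isClosed_iff]
    intro n ξ
    have : P.mk ξ ⁻¹' S = P.mk ξ ⁻¹' (S ∩ P.cell ξ) := by
      ext v
      simp only [Set.mem_preimage, Set.mem_inter_iff, iff_self_and]
      intro _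
      exact ⟨v, rfl⟩
    rw [this]
    exact (h n ξ).preimage (continuous_mk ξ)

/-- positive proportionality of nonzero nonnegative vectors is a closed condition -/
lemma prop_iff {m : ℕ} (a b : Fin m → ℝ) (ha : ∀ i, 0 ≤ a i) (hb : ∀ i, 0 ≤ b i) (ha0 : a ≠ 0)
    (hb0 : b ≠ 0) : (∃ t : ℝ, 0 < t ∧ a = t • b) ↔ ∀ i j, a i * b j = a j * b i := by
  constructor
  · rintro ⟨t, -, rfl⟩ i j
    simp only [Pi.smul_apply, smul_eq_mul]; ring
  · intro h
    obtain ⟨j, hj⟩ : ∃ j, 0 < b j := by
      by_contra hcon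
      push Not at hcon
      exact hb0 (funext fun i => le_antisymm (hcon i) (hb i))
    have hab : a = (a j / b j) • b := by
      funext i
      simp only [Pi.smul_apply, smul_eq_mul]
      have := h i j
      field_simp
      linarith
    have ht : 0 ≤ a j / b j := div_nonneg (ha j) hj.le
    rcases ht.eq_or_lt with h0 | h0
    · exfalso
      apply ha0
      rw [hab, ← h0, zero_smul]
    · exact ⟨_, h0, hab⟩

/-- S19367 -/
theorem injective_iff_rational {F G : Fan.{u}} (ψ : F ⟶ G) (hF : F.IsQuasiSeparated) :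
    Function.Injective (P.map ψ) ↔
      ∀ x y : P F, x.IsRational → y.IsRational → P.map ψ x = P.map ψ y → x = y := by
  constructor
  · intro h x y _ _ hxy
    exact h hxy
  · intro h x x' hxx
    obtain ⟨n, ξ, v, rfl⟩ := mk_surjective x
    obtain ⟨n', ξ', v', rfl⟩ := mk_surjective x'
    rw [P_map_mk, P_map_mk, mk_eq_iff] at hxx
    obtain ⟨m, α, β, y, c₁, c₂, eq, h1, h2, e1, e2⟩ := hxx
    rw [← naturality_apply', ← naturality_apply'] at eq
    rw [← mk_map_eq α ξ y v c₁ h1 e1, ← mk_map_eq β ξ' y v' c₂ h2 e2]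
    set η := F.map α.op ξ
    set η' := F.map β.op ξ'
    -- the locus where the two cones agree
    let E : Set (Orth m) := {z | P.mk η z = P.mk η' z}
    suffices hE : E = Set.univ by
      have : y ∈ E := by rw [hE]; trivial
      exact this
    obtain ⟨s, hs, hiff⟩ := qsep_eq_iff F hF η η'
    apply eq_univ_of_intPt_mem
    · -- closed
      have hEeq : E = ⋃ e ∈ s, {z : Orth m | ∃ y ∈ {y : Orth e.1 | ∀ i j,
          e.2.1.realMap y.1 i * e.2.2.realMap y.1 j = e.2.1.realMap y.1 j * e.2.2.realMap y.1 i},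
          ∃ c : ℝ, 0 < c ∧ z.1 = c • e.2.1.realMap y.1} := by
        ext z
        simp only [E, Set.mem_ofPred_eq, Set.mem_iUnion, exists_prop]
        constructor
        · intro hz
          obtain ⟨e, he, y, c, c', hc, hc', e1, e2⟩ := (hiff z z).mp hz
          refine ⟨e, he, y, ?_, c, hc, e1⟩
          refine (prop_iff (e.2.1.realMap y.1) (e.2.2.realMap y.1) (orthMap e.2.1 y).2.1
            (orthMap e.2.2 y).2.1 (orthMap e.2.1 y).2.2 (orthMap e.2.2 y).2.2).mp ?_
          refine ⟨c' / c, div_pos hc' hc, ?_⟩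
          have : c • e.2.1.realMap y.1 = c' • e.2.2.realMap y.1 := by rw [← e1, ← e2]
          have h3 := congr_arg (fun v => c⁻¹ • v) this
          simp only [smul_smul, inv_mul_cancel₀ hc.ne', one_smul] at h3
          rw [h3]
          congr 1
          field_simp
        · rintro ⟨e, he, y, hy, c, hc, e1⟩
          obtain ⟨t, ht, hy⟩ := (prop_iff (e.2.1.realMap y.1) (e.2.2.realMap y.1) (orthMap e.2.1 y).2.1
            (orthMap e.2.2 y).2.1 (orthMap e.2.1 y).2.2 (orthMap e.2.2 y).2.2).mpr hy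
          exact (hiff z z).mpr ⟨e, he, y, c, c * t, hc, mul_pos hc ht, e1, by
            rw [e1, hy, smul_smul]⟩
      rw [hEeq]
      refine Set.Finite.isClosed_biUnion s.finite_toSet fun e _ => ?_
      apply isClosed_image_cone
      · simp only [Set.ofPred_forall]
        refine isClosed_iInter fun i => isClosed_iInter fun j => ?_
        have c1 : ∀ (φ : e.1 ⟶ m) (i : Fin m.dim), Continuous fun y : Orth e.1 => φ.realMap y.1 i :=
          fun φ i => (continuous_apply i).comp ((continuous_realMap φ).comp continuous_subtype_val)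
        exact isClosed_eq ((c1 _ i).mul (c1 _ j)) ((c1 _ j).mul (c1 _ i))
      · intro y y' hy c hc e1 i j
        have := hy i j
        simp only [e1, realMap_smul, Pi.smul_apply, smul_eq_mul]
        linear_combination c * c * this
    · -- scaling invariance
      intro z z' hz c hc e1
      change P.mk η z' = P.mk η' z'
      rw [← mk_smul η z z' c hc e1, ← mk_smul η' z z' c hc e1]
      exact hz
    · -- integral points
      intro z hz hz0
      apply h _ _ (isRational_mk_intPt η z hz hz0) (isRational_mk_intPt η' z hz hz0)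
      rw [P_map_mk, P_map_mk, eq]

end Groth.Agent.H2.FanQSep
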