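import Groth.Agent.Lib.Helper2.FanCvx
import Groth.Agent.Lib.Helper2.FanQSep

/-!
# Formal fans: quasi-concave functions (helper2)
-/

set_option autoImplicit false

universe u v

open CategoryTheory Opposite Instab Instab.Fan Limits Filter Topology

namespace Groth.Agent.H2.FanCvx2

open Groth.Agent.H2.FanBase Groth.Agent.H2.FanMaps Groth.Agent.H2.FanBdd Groth.Agent.H2.FanTop
  Groth.Agent.H2.FanBddMap Groth.Agent.H2.FanQSep

/-- positive combination of two points of the punctured orthant -/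
def comb {n : ICone} (a b : ℝ) (ha : 0 < a) (hb : 0 ≤ b) (v₀ v₂ : Orth n) : Orth n :=
  ⟨a • v₀.1 + b • v₂.1, fun i => by
    simp only [Pi.add_apply, Pi.smul_apply, smul_eq_mul]
    exact add_nonneg (mul_nonneg ha.le (v₀.2.1 i)) (mul_nonneg hb (v₂.2.1 i)), fun h0 => by
    apply v₀.2.2
    funext i
    have := congr_fun h0 i
    simp only [Pi.add_apply, Pi.smul_apply, smul_eq_mul, Pi.zero_apply] at this
    have h1 := mul_nonneg ha.le (v₀.2.1 i)
    have h2 := mul_nonneg hb (v₂.2.1 i)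
    have h3 : a * v₀.1 i = 0 := by linarith
    rcases mul_eq_zero.mp h3 with h | h
    · exact absurd h ha.ne'
    · exact h⟩

lemma comb_val {n : ICone} (a b : ℝ) (ha : 0 < a) (hb : 0 ≤ b) (v₀ v₂ : Orth n) :
    (comb a b ha hb v₀ v₂).1 = a • v₀.1 + b • v₂.1 := rfl

lemma tendsto_comb {n : ICone} (v₀ v₂ : Orth n) :
    Tendsto (fun j : ℕ => comb 1 (1 / ((j : ℝ) + 1)) one_pos (by positivity) v₀ v₂) atTop (𝓝 v₀) := by
  rw [tendsto_orth_iff]
  simp only [comb_val]
  have h1 : Tendsto (fun j : ℕ => (1 / ((j : ℝ) + 1)) • v₂.1) atTop (𝓝 ((0 : ℝ) • v₂.1)) :=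
    tendsto_one_div_add_atTop_nhds_zero_nat.smul_const _
  have h2 := (tendsto_const_nhds (x := (1 : ℝ) • v₀.1) (f := atTop (α := ℕ))).add h1
  simpa using h2

lemma basis_not_prop : ¬ ∃ c : ℝ, (Orth.basis two 1).1 = c • (Orth.basis two 0).1 := by
  rintro ⟨c, hc⟩
  have := congr_fun hc 1
  change (Orth.basis two 1).1 1 = c * (Orth.basis two 0).1 1 at this
  simp [Orth.basis] at this

section

variable {F : Fan.{u}} {U : Set (P F)} {Γ : Type v} [LinearOrder Γ] (Φ : U → Γ)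

/-- Step A: comparison with a rational point through a 2-cone -/
lemma le_of_isLocalMax_rational (hU : IsConvex U) (hΦ : IsQuasiConcaveOn U Φ) (x y : U)
    (hx : (x : P F).IsRational) (hy : (y : P F).IsRational) (hmax : IsLocalMax Φ x) : Φ y ≤ Φ x := by
  by_contra hlt
  push Not at hlt
  have hne : (x : P F) ≠ y := fun h => by
    have : x = y := Subtype.ext h
    rw [this] at hlt
    exact lt_irrefl _ hlt
  obtain ⟨τ, hτU, hτ0, hτ1⟩ := hU.2.2 x y x.2 y.2 hx hy hne
  have hmem : ∀ w : Orth two, P.mk τ w ∈ U := fun w => hτU ⟨w, rfl⟩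
  have e0 : (⟨P.mk τ (Orth.basis two 0), hmem _⟩ : U) = x := Subtype.ext hτ0
  have e1 : (⟨P.mk τ (Orth.basis two 1), hmem _⟩ : U) = y := Subtype.ext hτ1
  -- points on the segment
  let p : ℕ → U := fun j => ⟨P.mk τ (comb 1 (1 / ((j : ℝ) + 1)) one_pos (by positivity)
    (Orth.basis two 0) (Orth.basis two 1)), hmem _⟩
  have hp : ∀ j, Φ x < Φ (p j) := by
    intro j
    have := hΦ two τ (Orth.basis two 0) (comb 1 (1 / ((j : ℝ) + 1)) one_pos (by positivity)
      (Orth.basis two 0) (Orth.basis two 1)) (Orth.basis two 1) (hmem _) (hmem _) (hmem _)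
      basis_not_prop ⟨1, 1 / ((j : ℝ) + 1), one_pos, by positivity, rfl⟩
    rw [e0, e1, min_eq_left hlt.le] at this
    refine lt_of_le_of_ne this.1 fun h => ?_
    exact hlt.ne (this.2 h.symm)
  have htend : Tendsto p atTop (𝓝 x) := by
    rw [tendsto_subtype_rng]
    have := ((continuous_mk τ).tendsto _).comp (tendsto_comb (Orth.basis two 0) (Orth.basis two 1))
    rw [hτ0] at this
    exact this
  have hev : ∀ᶠ j in atTop, Φ (p j) ≤ Φ x := htend.eventually hmax
  obtain ⟨j, hj⟩ := hev.exists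
  exact absurd (hp j) (not_lt.mpr hj)

/-- S19370 (1) -/
theorem le_of_isLocalMax (hU : IsConvex U) (hΦ : IsQuasiConcaveOn U Φ)
    (hlsc : ∀ c : Γ, IsClosed {x : U | Φ x ≤ c}) (x : U) (hx : (x : P F).IsRational)
    (hmax : IsLocalMax Φ x) (y : U) : Φ y ≤ Φ x := by
  by_contra hlt
  push Not at hlt
  obtain ⟨S, hS⟩ := hU.2.1
  have hy := (Set.ext_iff.mp hS (y : P F)).mp y.2
  rw [mem_range_ι] at hy
  obtain ⟨n, ξ, hξ, v, hyv⟩ := hy
  have hmem : ∀ w : Orth n, P.mk ξ w ∈ U := fun w => by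
    rw [hS, mem_range_ι]
    exact ⟨n, ξ, hξ, w, rfl⟩
  let g : Orth n → U := fun w => ⟨P.mk ξ w, hmem w⟩
  have hg : Continuous g := Continuous.subtype_mk (continuous_mk ξ) _
  let E : Set (Orth n) := g ⁻¹' {u : U | Φ u ≤ Φ x}
  have hE : IsClosed E := (hlsc (Φ x)).preimage hg
  have hinv : ScaleInv E := by
    intro w w' hw c hc e
    have : g w' = g w := Subtype.ext (mk_smul ξ w w' c hc e).symm
    change Φ (g w') ≤ Φ x
    rw [this]
    exact hw
  have hvE : v ∉ E := by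
    intro hv
    have : g v = y := Subtype.ext hyv.symm
    change Φ (g v) ≤ Φ x at hv
    rw [this] at hv
    exact absurd hlt (not_lt.mpr hv)
  have : ¬ ∀ (z : Fin n.dim → ℤ) (hz : ∀ i, 0 ≤ z i) (hz0 : z ≠ 0), intPt z hz hz0 ∈ E := by
    intro h
    have := eq_univ_of_intPt_mem E hE hinv h
    rw [this] at hvE
    exact hvE trivial
  push Not at this
  obtain ⟨z, hz, hz0, hzE⟩ := this
  have hle := le_of_isLocalMax_rational Φ hU hΦ x (g (intPt z hz hz0)) hx
    (isRational_mk_intPt ξ z hz hz0) hmax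
  exact hzE hle

/-- S19370 (2) -/
theorem eq_of_isLocalMax (hU : IsConvex U) (hΦ : IsQuasiConcaveOn U Φ)
    (hlsc : ∀ c : Γ, IsClosed {x : U | Φ x ≤ c}) (hs : IsStrictQuasiConcaveOn U Φ) (x y : U)
    (hx : (x : P F).IsRational) (hy : (y : P F).IsRational)
    (hmx : IsLocalMax Φ x) (hmy : IsLocalMax Φ y) : x = y := by
  by_contra hne
  have hne' : (x : P F) ≠ y := fun h => hne (Subtype.ext h)
  have hxy : Φ x = Φ y :=
    le_antisymm (le_of_isLocalMax Φ hU hΦ hlsc y hy hmy x) (le_of_isLocalMax Φ hU hΦ hlsc x hx hmx y)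
  obtain ⟨τ, hτU, hτ0, hτ1⟩ := hU.2.2 x y x.2 y.2 hx hy hne'
  have hmem : ∀ w : Orth two, P.mk τ w ∈ U := fun w => hτU ⟨w, rfl⟩
  have e0 : (⟨P.mk τ (Orth.basis two 0), hmem _⟩ : U) = x := Subtype.ext hτ0
  have e1 : (⟨P.mk τ (Orth.basis two 1), hmem _⟩ : U) = y := Subtype.ext hτ1
  have := hs two τ (Orth.basis two 0) (comb 1 1 one_pos zero_le_one
      (Orth.basis two 0) (Orth.basis two 1)) (Orth.basis two 1) (hmem _) (hmem _) (hmem _)
      basis_not_prop ⟨1, 1, one_pos, one_pos, rfl⟩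
  rw [e0, e1, ← hxy, min_self] at this
  exact absurd this (not_lt.mpr (le_of_isLocalMax Φ hU hΦ hlsc x hx hmx _))

end

end Groth.Agent.H2.FanCvx2
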