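import Groth.Agent.Lib.Helper2.FanQSep

/-!
# Formal fans: sequences in quasi-separated fans (helper2)
-/

set_option autoImplicit false

universe u

open CategoryTheory Opposite Instab Instab.Fan Limits Filter Topology

namespace Groth.Agent.H2.FanSeq

open Groth.Agent.H2.FanBase Groth.Agent.H2.FanMaps Groth.Agent.H2.FanBdd Groth.Agent.H2.FanTop
  Groth.Agent.H2.FanBddMap Groth.Agent.H2.FanQSep

instance {n : ICone} : T2Space (Orth n) :=
  inferInstanceAs (T2Space {v : Fin n.dim → ℝ // (∀ i, 0 ≤ v i) ∧ v ≠ 0})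

/-- the sum of coordinates -/
def nrm {n : ICone} (w : Orth n) : ℝ := ∑ i, w.1 i

lemma nrm_pos {n : ICone} (w : Orth n) : 0 < nrm w := by
  obtain ⟨i0, hi0⟩ : ∃ i, 0 < w.1 i := by
    by_contra h
    push Not at h
    exact w.2.2 (funext fun i => le_antisymm (h i) (w.2.1 i))
  exact lt_of_lt_of_le hi0 (Finset.single_le_sum (fun i _ => w.2.1 i) (Finset.mem_univ i0))

lemma continuous_nrm {n : ICone} : Continuous (nrm (n := n)) :=
  continuous_finsetSum _ fun i _ => (continuous_apply i).comp continuous_subtype_val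

/-- normalisation to the standard simplex -/
noncomputable def normalize {n : ICone} (w : Orth n) : Orth n :=
  orthSmul (nrm w)⁻¹ (inv_pos.mpr (nrm_pos w)) w

lemma normalize_val {n : ICone} (w : Orth n) : (normalize w).1 = (nrm w)⁻¹ • w.1 := rfl

lemma continuous_normalize {n : ICone} : Continuous (normalize (n := n)) := by
  refine Continuous.subtype_mk ?_ _
  exact (continuous_nrm.inv₀ fun w => (nrm_pos w).ne').smul continuous_subtype_val

lemma nrm_smul {n : ICone} (w w' : Orth n) (c : ℝ) (e : w'.1 = c • w.1) : nrm w' = c * nrm w := by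
  simp only [nrm, e, Pi.smul_apply, smul_eq_mul, Finset.mul_sum]

lemma normalize_smul {n : ICone} (w w' : Orth n) (c : ℝ) (hc : 0 < c) (e : w'.1 = c • w.1) :
    normalize w' = normalize w := by
  apply Subtype.ext
  rw [normalize_val, normalize_val, nrm_smul w w' c e, e, smul_smul]
  congr 1
  have := (nrm_pos w).ne'
  field_simp

lemma nrm_normalize {n : ICone} (w : Orth n) : nrm (normalize w) = 1 := by
  rw [nrm_smul w (normalize w) _ (normalize_val w)]
  exact inv_mul_cancel₀ (nrm_pos w).ne'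

lemma normalize_mem_stdSimplex {n : ICone} (w : Orth n) :
    (normalize w).1 ∈ stdSimplex ℝ (Fin n.dim) :=
  ⟨(normalize w).2.1, nrm_normalize w⟩

lemma normalize_of_nrm_eq_one {n : ICone} (w : Orth n) (h : nrm w = 1) : normalize w = w := by
  apply Subtype.ext
  rw [normalize_val, h, inv_one, one_smul]

lemma mk_normalize {F : Fan.{u}} {n : ICone} (ξ : F.obj (op n)) (w : Orth n) :
    P.mk ξ (normalize w) = P.mk ξ w :=
  (mk_smul ξ w (normalize w) _ (inv_pos.mpr (nrm_pos w)) (normalize_val w)).symm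

/-- points of a quasi-separated fan are closed -/
lemma isClosed_singleton_of_qsep (F : Fan.{u}) (hF : F.IsQuasiSeparated) (p : P F) :
    IsClosed ({p} : Set (P F)) := by
  obtain ⟨n, ξ, v, rfl⟩ := mk_surjective p
  have h := isClosed_image_mk_of_qsep F hF ξ (normalize ⁻¹' {normalize v})
    (isClosed_singleton.preimage continuous_normalize) (by
      intro w w' hw c hc e
      simp only [Set.mem_preimage, Set.mem_singleton_iff] at hw ⊢
      rw [normalize_smul w w' c hc e, hw])
  have : P.mk ξ '' (normalize ⁻¹' {normalize v}) = {P.mk ξ v} := by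
    ext q
    simp only [Set.mem_image, Set.mem_preimage, Set.mem_singleton_iff]
    constructor
    · rintro ⟨w, hw, rfl⟩
      rw [← mk_normalize ξ w, hw, mk_normalize]
    · rintro rfl
      exact ⟨v, rfl, rfl⟩
  rwa [this] at h

lemma t1Space_of_qsep (F : Fan.{u}) (hF : F.IsQuasiSeparated) : T1Space (P F) :=
  ⟨isClosed_singleton_of_qsep F hF⟩

/-- S19369 -/
theorem exists_lift_subseq (F : Fan.{u}) (hF : F.IsQuasiSeparated)
    (x : ℕ → P F) (x₀ : P F) (hx : Tendsto x atTop (𝓝 x₀)) :
    ∃ (n : ICone) (σ : F.obj (op n)) (r : ℕ → ℕ) (v : ℕ → Orth n) (v₀ : Orth n),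
      StrictMono r ∧ (∀ j, P.mk σ (v j) = x (r j)) ∧ P.mk σ v₀ = x₀ ∧
        Tendsto v atTop (𝓝 v₀) := by
  have := t1Space_of_qsep F hF
  by_cases hfreq : ∃ᶠ i in atTop, x i = x₀
  · obtain ⟨r, hr, hxr⟩ := extraction_of_frequently_atTop hfreq
    obtain ⟨n, σ, v₀, rfl⟩ := mk_surjective x₀
    exact ⟨n, σ, r, fun _ => v₀, v₀, hr, fun j => (hxr j).symm, rfl, tendsto_const_nhds⟩
  · rw [not_frequently] at hfreq
    -- some cell contains infinitely many terms
    have hcell : ∃ (n : ICone) (σ : F.obj (op n)), ∃ᶠ i in atTop, x i ∈ P.cell σ ∧ x i ≠ x₀ := by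
      by_contra hcon
      push Not at hcon
      obtain ⟨N, hN⟩ := eventually_atTop.mp hfreq
      let A : Set (P F) := x '' Set.Ici N
      have hA : IsClosed A := by
        rw [isClosed_iff_inter_cell F hF]
        intro n σ
        have h1 := hcon n σ
        obtain ⟨M, hM⟩ := eventually_atTop.mp h1
        have hsub : A ∩ P.cell σ ⊆ x '' (Set.Iio M) := by
          rintro _ ⟨⟨i, hi, rfl⟩, hc⟩
          refine ⟨i, ?_, rfl⟩
          by_contra hiM
          exact hN i hi (hM i (not_lt.mp hiM) hc)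
        exact (((Set.finite_Iio M).image x).subset hsub).isClosed
      have hx₀ : x₀ ∉ A := by
        rintro ⟨i, hi, e⟩
        exact hN i hi e
      have h2 : ∀ᶠ i in atTop, x i ∈ Aᶜ := hx.eventually (hA.isOpen_compl.mem_nhds hx₀)
      obtain ⟨i, hi1, hi2⟩ := (h2.and (eventually_ge_atTop N)).exists
      exact hi1 ⟨i, hi2, rfl⟩
    obtain ⟨n, σ, hσ⟩ := hcell
    obtain ⟨r₀, hr₀, hxr₀⟩ := extraction_of_frequently_atTop hσ
    choose u hu using fun j => (hxr₀ j).1
    -- normalise and extract a convergent subsequence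
    obtain ⟨a, ha, s, hs, hsa⟩ := (isCompact_stdSimplex ℝ (Fin n.dim)).tendsto_subseq
      (x := fun j => (normalize (u j)).1) (fun j => normalize_mem_stdSimplex (u j))
    have ha0 : a ≠ 0 := by
      intro h0
      have := ha.2
      rw [h0] at this
      simp at this
    let v₀ : Orth n := ⟨a, ha.1, ha0⟩
    let v : ℕ → Orth n := fun j => normalize (u (s j))
    have hv : Tendsto v atTop (𝓝 v₀) := by
      rw [tendsto_orth_iff]
      exact hsa
    have hmk : ∀ j, P.mk σ (v j) = x (r₀ (s j)) := fun j => by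
      rw [mk_normalize, hu]
    refine ⟨n, σ, r₀ ∘ s, v, v₀, hr₀.comp hs, hmk, ?_, hv⟩
    -- the limit
    by_contra hne
    let K : Set (Orth n) := insert v₀ (Set.range v)
    have hK : IsCompact K := hv.isCompact_insert_range
    have hB : IsClosed (P.mk σ '' (normalize ⁻¹' K)) := by
      apply isClosed_image_mk_of_qsep F hF σ _ (hK.isClosed.preimage continuous_normalize)
      intro w w' hw c hc e
      simp only [Set.mem_preimage] at hw ⊢
      rwa [normalize_smul w w' c hc e]
    have hnv : ∀ j, normalize (v j) = v j := fun j =>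
      normalize_of_nrm_eq_one _ (nrm_normalize _)
    have hnv₀ : normalize v₀ = v₀ := normalize_of_nrm_eq_one _ ha.2
    have hx₀B : x₀ ∉ P.mk σ '' (normalize ⁻¹' K) := by
      rintro ⟨w, hw, e⟩
      rw [← mk_normalize] at e
      rcases hw with hw | ⟨j, hw⟩
      · rw [hw] at e
        exact hne e
      · rw [← hw, hmk j] at e
        exact (hxr₀ (s j)).2 e
    have htend : Tendsto (x ∘ (r₀ ∘ s)) atTop (𝓝 x₀) :=
      hx.comp (hr₀.comp hs).tendsto_atTop
    have h2 : ∀ᶠ j in atTop, (x ∘ (r₀ ∘ s)) j ∈ (P.mk σ '' (normalize ⁻¹' K))ᶜ :=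
      htend.eventually (hB.isOpen_compl.mem_nhds hx₀B)
    obtain ⟨j, hj⟩ := h2.exists
    apply hj
    refine ⟨v j, ?_, hmk j⟩
    simp only [Set.mem_preimage, hnv j]
    exact Set.mem_insert_of_mem _ ⟨j, rfl⟩

end Groth.Agent.H2.FanSeq
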