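import Groth.Agent.Lib.Helper2.FanCvx2
import Groth.Agent.Lib.Helper2.FanSeq
import Mathlib.Topology.Sequences
import Mathlib.Topology.Separation.Regular
import Mathlib.Topology.Connected.Basic
import Mathlib.Topology.Order.IntermediateValue
import Mathlib.Topology.Order.OrderClosed
import Mathlib.Topology.Order.Compact

/-!
# Formal fans: uniqueness of local maxima of strictly quasi-concave functions (helper2)
-/

set_option autoImplicit false

universe u v

open CategoryTheory Opposite Instab Instab.Fan Limits Filter Topology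

namespace Groth.Agent.H2.FanMax

open Groth.Agent.H2.FanBase Groth.Agent.H2.FanMaps Groth.Agent.H2.FanBdd Groth.Agent.H2.FanTop
  Groth.Agent.H2.FanBddMap Groth.Agent.H2.FanQSep Groth.Agent.H2.FanCvx2 Groth.Agent.H2.FanSeq

section

variable {F : Fan.{u}} {U : Set (P F)} {Γ : Type v} [LinearOrder Γ] (Φ : U → Γ)

/-- a point sharing a cell with a local maximum has strictly smaller value -/
lemma lt_of_common_cell (hU : IsLocallyConvex U) (hs : IsStrictQuasiConcaveOn U Φ) (x c : U)
    (hmax : IsLocalMax Φ x) (hne : c ≠ x) {n : ICone} (ρ : F.obj (op n)) (w₀ w : Orth n)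
    (hx : P.mk ρ w₀ = x) (hc : P.mk ρ w = c) : Φ c < Φ x := by
  by_contra hle
  push Not at hle
  have hnp : ¬ ∃ t : ℝ, w.1 = t • w₀.1 := by
    rintro ⟨t, ht⟩
    have htpos : 0 < t := by
      by_contra htn
      push Not at htn
      apply w.2.2
      funext i
      have h1 : w.1 i = t * w₀.1 i := by rw [ht]; rfl
      have h2 : w.1 i ≤ 0 := by rw [h1]; exact mul_nonpos_of_nonpos_of_nonneg htn (w₀.2.1 i)
      exact le_antisymm h2 (w.2.1 i)
    apply hne
    apply Subtype.ext
    rw [← hx, ← hc]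
    exact (mk_smul ρ w₀ w t htpos ht).symm
  have h₀ : P.mk ρ w₀ ∈ U := hx ▸ x.2
  have h₂ : P.mk ρ w ∈ U := hc ▸ c.2
  have hmem : ∀ j : ℕ, P.mk ρ (comb 1 (1 / ((j : ℝ) + 1)) one_pos (by positivity) w₀ w) ∈ U :=
    fun j => hU n ρ w₀ _ w h₀ h₂ ⟨1, 1 / ((j : ℝ) + 1), one_pos, by positivity, rfl⟩
  have e0 : (⟨P.mk ρ w₀, h₀⟩ : U) = x := Subtype.ext hx
  have e2 : (⟨P.mk ρ w, h₂⟩ : U) = c := Subtype.ext hc
  let p : ℕ → U := fun j => ⟨_, hmem j⟩
  have hp : ∀ j, Φ x < Φ (p j) := by
    intro j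
    have := hs n ρ w₀ (comb 1 (1 / ((j : ℝ) + 1)) one_pos (by positivity) w₀ w) w h₀ (hmem j) h₂
      hnp ⟨1, 1 / ((j : ℝ) + 1), one_pos, by positivity, rfl⟩
    rw [e0, e2, min_eq_left hle] at this
    exact this
  have htend : Tendsto p atTop (𝓝 x) := by
    rw [tendsto_subtype_rng]
    have := ((continuous_mk ρ).tendsto _).comp (tendsto_comb w₀ w)
    rw [hx] at this
    exact this
  have hev : ∀ᶠ j in atTop, Φ (p j) ≤ Φ x := htend.eventually hmax
  obtain ⟨j, hj⟩ := hev.exists
  exact absurd (hp j) (not_lt.mpr hj)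

/-- rational points are dense in a realizable set -/
lemma exists_rational_mem (hU : IsRealizable U) (G : Set U) (hG : IsOpen G) (p : U) (hp : p ∈ G) :
    ∃ q : U, q ∈ G ∧ (q : P F).IsRational := by
  obtain ⟨O, hO, rfl⟩ := isOpen_induced_iff.mp hG
  obtain ⟨S, hS⟩ := hU
  have hy := (Set.ext_iff.mp hS (p : P F)).mp p.2
  rw [mem_range_ι] at hy
  obtain ⟨n, ξ, hξ, v, hyv⟩ := hy
  have hmem : ∀ w : Orth n, P.mk ξ w ∈ U := fun w => by
    rw [hS, mem_range_ι]
    exact ⟨n, ξ, hξ, w, rfl⟩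
  let E : Set (Orth n) := P.mk ξ ⁻¹' Oᶜ
  have hE : IsClosed E := hO.isClosed_compl.preimage (continuous_mk ξ)
  have hinv : ScaleInv E := scaleInv_preimage_mk ξ Oᶜ
  have hvE : v ∉ E := by
    intro hv
    apply hv
    change P.mk ξ v ∈ O
    rw [← hyv]
    exact hp
  have : ¬ ∀ (z : Fin n.dim → ℤ) (hz : ∀ i, 0 ≤ z i) (hz0 : z ≠ 0), intPt z hz hz0 ∈ E := by
    intro h
    have := eq_univ_of_intPt_mem E hE hinv h
    rw [this] at hvE
    exact hvE trivial
  push Not at this
  obtain ⟨z, hz, hz0, hzE⟩ := this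
  refine ⟨⟨P.mk ξ (intPt z hz hz0), hmem _⟩, ?_, isRational_mk_intPt ξ z hz hz0⟩
  change P.mk ξ (intPt z hz hz0) ∈ O
  by_contra hcon
  exact hzE hcon

end

instance sequentialSpace_orth (n : ICone) : SequentialSpace (Orth n) :=
  haveI : FirstCountableTopology (Orth n) := isInducing_val.firstCountableTopology
  inferInstance

instance sequentialSpace_Pt (F : Fan.{u}) : SequentialSpace (Pt F) :=
  inferInstanceAs (SequentialSpace (Σ e : (Σ n : ICone, F.obj (op n)), Orth e.1))

instance sequentialSpace_P (F : Fan.{u}) : SequentialSpace (P F) :=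
  isQuotientMap_quot_mk.sequentialSpace

section

variable {F : Fan.{u}} {U : Set (P F)} {Γ : Type v} [LinearOrder Γ] [TopologicalSpace Γ]
  [OrderTopology Γ] (Φ : U → Γ)

/-- a local maximum of a continuous strictly quasi-concave function is a strict local maximum -/
lemma exists_open_strict (hF : F.IsQuasiSeparated) [T2Space (P F)] (hUc : IsCompact U)
    (hU : IsLocallyConvex U) (hΦc : Continuous Φ) (hs : IsStrictQuasiConcaveOn U Φ) (x : U)
    (hmax : IsLocalMax Φ x) :
    ∃ W : Set U, IsOpen W ∧ x ∈ W ∧ ∀ p ∈ W, p ≠ x → Φ p < Φ x := by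
  let C' : Set U := {p | Φ x ≤ Φ p ∧ p ≠ x}
  have hC' : IsClosed C' := by
    let D : Set (P F) := Subtype.val '' C'
    have hD : IsClosed D := by
      apply IsSeqClosed.isClosed
      intro seq q hseq hq
      have hqU : q ∈ U := hUc.isClosed.mem_of_tendsto hq
        (Eventually.of_forall fun k => by
          obtain ⟨c, -, e⟩ := hseq k
          rw [← e]; exact c.2)
      choose c hcC hce using hseq
      have htend : Tendsto c atTop (𝓝 (⟨q, hqU⟩ : U)) := by
        rw [tendsto_subtype_rng]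
        have : (fun k => ((c k : U) : P F)) = seq := funext hce
        rw [this]
        exact hq
      have hle : Φ x ≤ Φ ⟨q, hqU⟩ :=
        ge_of_tendsto' ((hΦc.tendsto _).comp htend) fun k => (hcC k).1
      refine ⟨⟨q, hqU⟩, ⟨hle, ?_⟩, rfl⟩
      intro hqx
      have hqx' : q = (x : P F) := congrArg Subtype.val hqx
      rw [hqx'] at hq
      obtain ⟨n, σ, r, v, v₀, -, hv, hv₀, -⟩ := exists_lift_subseq F hF seq x hq
      have h1 := lt_of_common_cell Φ hU hs x (c (r 0)) hmax (hcC (r 0)).2 σ v₀ (v 0) hv₀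
        ((hv 0).trans (hce (r 0)).symm)
      exact absurd (hcC (r 0)).1 (not_le.mpr h1)
    have : C' = Subtype.val ⁻¹' D := by
      ext p
      constructor
      · intro hp; exact ⟨p, hp, rfl⟩
      · rintro ⟨p', hp', e⟩
        rwa [← Subtype.ext e]
    rw [this]
    exact hD.preimage continuous_subtype_val
  refine ⟨C'ᶜ, hC'.isOpen_compl, fun h => h.2 rfl, fun p hp hpx => ?_⟩
  by_contra hcon
  push Not at hcon
  exact hp ⟨hcon, hpx⟩

end

end Groth.Agent.H2.FanMax
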