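import Groth.Agent.Lib.Helper2.FanMaxA

/-!
# Formal fans: uniqueness of local maxima, main argument (helper2)
-/

set_option autoImplicit false

universe u v

open CategoryTheory Opposite Instab Instab.Fan Limits Filter Topology

namespace Groth.Agent.H2.FanMax

open Groth.Agent.H2.FanBase Groth.Agent.H2.FanMaps Groth.Agent.H2.FanBdd Groth.Agent.H2.FanTop
  Groth.Agent.H2.FanBddMap Groth.Agent.H2.FanQSep Groth.Agent.H2.FanCvx2 Groth.Agent.H2.FanSeq

/-- the point `(1-t) e₀ + t e₁` of the punctured quadrant, `t ∈ [0,1]` -/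
def seg (t : Set.Icc (0 : ℝ) 1) : Orth two :=
  ⟨(1 - (t : ℝ)) • (Orth.basis two 0).1 + (t : ℝ) • (Orth.basis two 1).1, fun i => by
    have h0 := t.2.1
    have h1 := t.2.2
    simp only [Pi.add_apply, Pi.smul_apply, smul_eq_mul]
    exact add_nonneg (mul_nonneg (by linarith) ((Orth.basis two 0).2.1 i))
      (mul_nonneg h0 ((Orth.basis two 1).2.1 i)), fun h => by
    have e0 : (1 - (t : ℝ)) * (Orth.basis two 0).1 0 + (t : ℝ) * (Orth.basis two 1).1 0 = 0 :=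
      congr_fun h 0
    have e1 : (1 - (t : ℝ)) * (Orth.basis two 0).1 1 + (t : ℝ) * (Orth.basis two 1).1 1 = 0 :=
      congr_fun h 1
    simp [Orth.basis] at e0 e1
    have e1' : (t : ℝ) = 0 := by rw [e1]; rfl
    linarith⟩

lemma seg_val (t : Set.Icc (0 : ℝ) 1) :
    (seg t).1 = (1 - (t : ℝ)) • (Orth.basis two 0).1 + (t : ℝ) • (Orth.basis two 1).1 := rfl

lemma continuous_seg : Continuous seg := by
  rw [isInducing_val.continuous_iff]
  change Continuous fun t : Set.Icc (0 : ℝ) 1 =>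
    (1 - (t : ℝ)) • (Orth.basis two 0).1 + (t : ℝ) • (Orth.basis two 1).1
  fun_prop

lemma seg_zero {F : Fan.{u}} (τ : F.obj (op two)) :
    P.mk τ (seg ⟨0, by simp⟩) = P.mk τ (Orth.basis two 0) := by
  congr 1
  apply Subtype.ext
  rw [seg_val]
  funext i
  simp only [Pi.add_apply, Pi.smul_apply, smul_eq_mul]
  ring

lemma seg_one {F : Fan.{u}} (τ : F.obj (op two)) :
    P.mk τ (seg ⟨1, by simp⟩) = P.mk τ (Orth.basis two 1) := by
  congr 1
  apply Subtype.ext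
  rw [seg_val]
  funext i
  simp only [Pi.add_apply, Pi.smul_apply, smul_eq_mul]
  ring

section

variable {F : Fan.{u}} {U : Set (P F)} {Γ : Type v} [LinearOrder Γ] [TopologicalSpace Γ]
  [OrderTopology Γ] (Φ : U → Γ)

theorem eq_of_isLocalMax_of_le (hF : F.IsQuasiSeparated) [T2Space (P F)] (hUc : IsCompact U)
    (hU : IsConvex U) (hΦc : Continuous Φ) (hs : IsStrictQuasiConcaveOn U Φ) (x y : U)
    (hmax : IsLocalMax Φ x) (hle : Φ x ≤ Φ y) : x = y := by
  by_contra hne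
  have : CompactSpace U := isCompact_iff_compactSpace.mp hUc
  obtain ⟨W, hWo, hxW, hW⟩ := exists_open_strict Φ hF hUc hU.1 hΦc hs x hmax
  -- shrink
  have hW1 : W ∩ {y}ᶜ ∈ 𝓝 x :=
    (hWo.inter isClosed_singleton.isOpen_compl).mem_nhds ⟨hxW, hne⟩
  obtain ⟨N, hN, hNc, hNW⟩ := exists_mem_nhds_isClosed_subset hW1
  let W' : Set U := interior N
  have hW'o : IsOpen W' := isOpen_interior
  have hxW' : x ∈ W' := mem_interior_iff_mem_nhds.mpr hN
  have hcl : closure W' ⊆ N := closure_minimal interior_subset hNc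
  let K : Set U := closure W' \ W'
  have hKc : IsCompact K := (isClosed_closure.sdiff hW'o).isCompact
  have hKlt : ∀ k ∈ K, Φ k < Φ x := fun k hk => by
    have hkW := hNW (hcl hk.1)
    exact hW k hkW.1 (fun e => hk.2 (e ▸ hxW'))
  -- an open set containing x and y on which Φ exceeds all values on K
  obtain ⟨G, hGo, hxG, hyG, hGK⟩ : ∃ G : Set U, IsOpen G ∧ x ∈ G ∧ y ∈ G ∧
      ∀ p ∈ G, ∀ k ∈ K, Φ k < Φ p := by
    rcases K.eq_empty_or_nonempty with hK0 | hK0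
    · exact ⟨Set.univ, isOpen_univ, trivial, trivial, fun p _ k hk => by rw [hK0] at hk; exact hk.elim⟩
    · obtain ⟨m, hmK, hm⟩ := hKc.exists_isMaxOn hK0 hΦc.continuousOn
      refine ⟨Φ ⁻¹' Set.Ioi (Φ m), isOpen_Ioi.preimage hΦc, hKlt m hmK,
        lt_of_lt_of_le (hKlt m hmK) hle, fun p hp k hk => lt_of_le_of_lt (hm hk) hp⟩
  -- rational approximants
  obtain ⟨x', hx', hx'r⟩ := exists_rational_mem hU.2.1 (W' ∩ G) (hW'o.inter hGo) x ⟨hxW', hxG⟩
  have hyV : y ∈ (closure W')ᶜ ∩ G := ⟨fun h => (hNW (hcl h)).2 rfl, hyG⟩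
  obtain ⟨y', hy', hy'r⟩ := exists_rational_mem hU.2.1 ((closure W')ᶜ ∩ G)
    (isClosed_closure.isOpen_compl.inter hGo) y hyV
  have hne' : (x' : P F) ≠ y' := fun e => hy'.1 (subset_closure (Subtype.ext e ▸ hx'.1))
  obtain ⟨τ, hτU, hτ0, hτ1⟩ := hU.2.2 x' y' x'.2 y'.2 hx'r hy'r hne'
  have hmem : ∀ w : Orth two, P.mk τ w ∈ U := fun w => hτU ⟨w, rfl⟩
  let γ : Set.Icc (0 : ℝ) 1 → U := fun t => ⟨P.mk τ (seg t), hmem _⟩
  have hγ : Continuous γ := Continuous.subtype_mk ((continuous_mk τ).comp continuous_seg) _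
  have hγ0 : γ ⟨0, by simp⟩ = x' := Subtype.ext ((seg_zero τ).trans hτ0)
  have hγ1 : γ ⟨1, by simp⟩ = y' := Subtype.ext ((seg_one τ).trans hτ1)
  have : PreconnectedSpace (Set.Icc (0 : ℝ) 1) := Subtype.preconnectedSpace isPreconnected_Icc
  have hpre : IsPreconnected (Set.range γ) := isPreconnected_range hγ
  have hex : ∃ t, γ t ∈ K := by
    by_contra hcon
    push Not at hcon
    have hsub : Set.range γ ⊆ W' ∪ (closure W')ᶜ := by
      rintro _ ⟨t, rfl⟩
      by_cases h1 : γ t ∈ W'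
      · exact Or.inl h1
      · refine Or.inr fun h2 => hcon t ⟨h2, h1⟩
    obtain ⟨z, -, hz1, hz2⟩ := hpre W' (closure W')ᶜ hW'o isClosed_closure.isOpen_compl hsub
      ⟨x', ⟨_, hγ0⟩, hx'.1⟩ ⟨y', ⟨_, hγ1⟩, hy'.1⟩
    exact hz2 (subset_closure hz1)
  obtain ⟨t, htK⟩ := hex
  have ht0 : (t : ℝ) ≠ 0 := by
    intro h0
    have : t = ⟨0, by simp⟩ := Subtype.ext h0
    rw [this, hγ0] at htK
    exact htK.2 hx'.1
  have ht1 : (t : ℝ) ≠ 1 := by
    intro h1
    have : t = ⟨1, by simp⟩ := Subtype.ext h1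
    rw [this, hγ1] at htK
    exact hy'.1 htK.1
  have htpos : 0 < (t : ℝ) := lt_of_le_of_ne t.2.1 (Ne.symm ht0)
  have htlt : 0 < 1 - (t : ℝ) := sub_pos.mpr (lt_of_le_of_ne t.2.2 ht1)
  have hstrict := hs two τ (Orth.basis two 0) (seg t) (Orth.basis two 1) (hmem _) (hmem _) (hmem _)
    basis_not_prop ⟨1 - (t : ℝ), (t : ℝ), htlt, htpos, rfl⟩
  have e0 : (⟨P.mk τ (Orth.basis two 0), hmem _⟩ : U) = x' := Subtype.ext hτ0
  have e1 : (⟨P.mk τ (Orth.basis two 1), hmem _⟩ : U) = y' := Subtype.ext hτ1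
  rw [e0, e1] at hstrict
  have h1 : Φ (γ t) < Φ x' := hGK x' hx'.2 _ htK
  have h2 : Φ (γ t) < Φ y' := hGK y' hy'.2 _ htK
  exact absurd hstrict (not_lt.mpr (le_of_lt (lt_min h1 h2)))

theorem eq_of_isLocalMax_strict (hF : F.IsQuasiSeparated) [T2Space (P F)] (hUc : IsCompact U)
    (hU : IsConvex U) (hΦc : Continuous Φ) (hs : IsStrictQuasiConcaveOn U Φ) (x y : U)
    (hx : IsLocalMax Φ x) (hy : IsLocalMax Φ y) : x = y := by
  rcases le_total (Φ x) (Φ y) with h | h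
  · exact eq_of_isLocalMax_of_le Φ hF hUc hU hΦc hs x y hx h
  · exact (eq_of_isLocalMax_of_le Φ hF hUc hU hΦc hs y x hy h).symm

end

end Groth.Agent.H2.FanMax
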