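import Groth.Prelude.Def_W4c6instabfans3FanCvx
import Groth.Agent.Lib.Helper2.FanQSep

/-!
# Formal fans: the fan of a family of rational polyhedral cones (helper2)
-/

set_option autoImplicit false

open CategoryTheory Opposite Instab Instab.Fan Limits Filter Topology

namespace Groth.Agent.H2.FanRays

open Groth.Agent.H2.FanLin Groth.Agent.H2.FanBase Groth.Agent.H2.FanMaps Groth.Agent.H2.FanBdd
  Groth.Agent.H2.FanTop Groth.Agent.H2.FanBddMap Groth.Agent.H2.FanQSep

section Lin

variable {n N : ℕ}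

/-- real extension of an integral linear map -/
def rv (L : (Fin n → ℤ) →ₗ[ℤ] (Fin N → ℤ)) (v : Fin n → ℝ) : Fin N → ℝ :=
  fun j => ∑ i, (L (Pi.single i 1) j : ℝ) * v i

lemma rv_apply (L : (Fin n → ℤ) →ₗ[ℤ] (Fin N → ℤ)) (v : Fin n → ℝ) (j : Fin N) :
    rv L v j = ∑ i, (L (Pi.single i 1) j : ℝ) * v i := rfl

lemma L_apply (L : (Fin n → ℤ) →ₗ[ℤ] (Fin N → ℤ)) (z : Fin n → ℤ) (j : Fin N) :
    L z j = ∑ i, L (Pi.single i 1) j * z i := by
  have h := LinearMap.pi_apply_eq_sum_univ L z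
  rw [h]
  simp only [Finset.sum_apply, Pi.smul_apply, smul_eq_mul]
  refine Finset.sum_congr rfl fun i _ => ?_
  rw [mul_comm]
  have e : (fun j => if i = j then (1 : ℤ) else 0) = Pi.single i 1 := by
    funext i'
    simp [Pi.single_apply, eq_comm]
  rw [e]

lemma rv_intCast (L : (Fin n → ℤ) →ₗ[ℤ] (Fin N → ℤ)) (z : Fin n → ℤ) :
    rv L (fun i => (z i : ℝ)) = fun j => ((L z j : ℤ) : ℝ) := by
  funext j
  rw [rv_apply, L_apply]
  push_cast
  rfl

lemma rv_add (L : (Fin n → ℤ) →ₗ[ℤ] (Fin N → ℤ)) (v w : Fin n → ℝ) :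
    rv L (v + w) = rv L v + rv L w := by
  funext j
  simp only [rv_apply, Pi.add_apply, mul_add, Finset.sum_add_distrib]

lemma rv_smul (L : (Fin n → ℤ) →ₗ[ℤ] (Fin N → ℤ)) (c : ℝ) (v : Fin n → ℝ) :
    rv L (c • v) = c • rv L v := by
  funext j
  simp only [rv_apply, Pi.smul_apply, smul_eq_mul, Finset.mul_sum]
  refine Finset.sum_congr rfl fun i _ => ?_
  ring

lemma rv_zero (L : (Fin n → ℤ) →ₗ[ℤ] (Fin N → ℤ)) : rv L 0 = 0 := by
  funext j
  simp [rv_apply]

lemma rv_sub (L : (Fin n → ℤ) →ₗ[ℤ] (Fin N → ℤ)) (v w : Fin n → ℝ) :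
    rv L (v - w) = rv L v - rv L w := by
  funext j
  simp only [rv_apply, Pi.sub_apply, mul_sub, Finset.sum_sub_distrib]

lemma rv_comp {k : ℕ} (L : (Fin n → ℤ) →ₗ[ℤ] (Fin N → ℤ)) (M : (Fin k → ℤ) →ₗ[ℤ] (Fin n → ℤ))
    (v : Fin k → ℝ) : rv (L.comp M) v = rv L (rv M v) := by
  funext j
  simp only [rv_apply, LinearMap.comp_apply, Finset.mul_sum]
  rw [Finset.sum_comm]
  refine Finset.sum_congr rfl fun i _ => ?_
  rw [L_apply L (M (Pi.single i 1)) j]
  push_cast
  rw [Finset.sum_mul]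
  refine Finset.sum_congr rfl fun l _ => ?_
  ring

lemma rv_injective (L : (Fin n → ℤ) →ₗ[ℤ] (Fin N → ℤ)) (hL : Function.Injective L) :
    Function.Injective (rv L) := by
  intro v w hvw
  have h0 : rv L (v - w) = 0 := by rw [rv_sub, hvw, sub_self]
  suffices hx : v - w = 0 from sub_eq_zero.mp hx
  set x := v - w with hxdef
  let X : Fin n ⊕ Fin n → ℝ := Sum.elim (fun i => max (x i) 0) (fun i => max (-x i) 0)
  let r : Fin N → Fin n ⊕ Fin n → ℤ := fun j =>
    Sum.elim (fun i => L (Pi.single i 1) j) (fun i => -L (Pi.single i 1) j)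
  have hX : ∀ i, 0 ≤ X i := by rintro (i | i) <;> simp [X]
  have hx' : ∀ i, x i = max (x i) 0 - max (-x i) 0 := by
    intro i
    rcases le_total (x i) 0 with h | h
    · rw [max_eq_right h, max_eq_left (by linarith)]; ring
    · rw [max_eq_left h, max_eq_right (by linarith)]; ring
  have hr : ∀ r' ∈ List.ofFn r, ∑ i, (r' i : ℝ) * X i = 0 := by
    intro r' hr'
    obtain ⟨j, rfl⟩ := (List.mem_ofFn' _ _).mp hr'
    rw [Fintype.sum_sum_type]
    simp only [r, X, Sum.elim_inl, Sum.elim_inr, Int.cast_neg, neg_mul, Finset.sum_neg_distrib]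
    have := congr_fun h0 j
    rw [rv_apply] at this
    simp only [Pi.zero_apply] at this
    have e : ∑ i, (L (Pi.single i 1) j : ℝ) * max (x i) 0 -
        ∑ i, (L (Pi.single i 1) j : ℝ) * max (-x i) 0 = ∑ i, (L (Pi.single i 1) j : ℝ) * x i := by
      rw [← Finset.sum_sub_distrib]
      refine Finset.sum_congr rfl fun i _ => ?_
      rw [← mul_sub, ← hx' i]
    rw [← sub_eq_add_neg, e, this]
  obtain ⟨J, _, _, z, c, hz, hzr, hc, hsum⟩ := cone_gen (List.ofFn r) X hX hr
  have hzeq : ∀ l, (fun i => z l (Sum.inl i)) = fun i => z l (Sum.inr i) := by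
    intro l
    apply hL
    funext j
    rw [L_apply, L_apply]
    have := hzr l (r j) ((List.mem_ofFn' _ _).mpr ⟨j, rfl⟩)
    rw [Fintype.sum_sum_type] at this
    simp only [r, Sum.elim_inl, Sum.elim_inr, neg_mul, Finset.sum_neg_distrib] at this
    linarith
  funext i
  rw [hx' i]
  have h1 := hsum (Sum.inl i)
  have h2 := hsum (Sum.inr i)
  simp only [X, Sum.elim_inl, Sum.elim_inr] at h1 h2
  rw [← h1, ← h2, Pi.zero_apply, sub_eq_zero]
  refine Finset.sum_congr rfl fun l _ => ?_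
  rw [congr_fun (hzeq l) i]

/-- `rv L` as a linear map -/
def rvLin (L : (Fin n → ℤ) →ₗ[ℤ] (Fin N → ℤ)) : (Fin n → ℝ) →ₗ[ℝ] (Fin N → ℝ) where
  toFun := rv L
  map_add' := rv_add L
  map_smul' c v := rv_smul L c v

lemma isClosedEmbedding_rv (L : (Fin n → ℤ) →ₗ[ℤ] (Fin N → ℤ)) (hL : Function.Injective L) :
    IsClosedEmbedding (rv L) :=
  LinearMap.isClosedEmbedding_of_injective (f := rvLin L)
    (LinearMap.ker_eq_bot.mpr (rv_injective L hL))

lemma continuous_rv (L : (Fin n → ℤ) →ₗ[ℤ] (Fin N → ℤ)) : Continuous (rv L) :=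
  LinearMap.continuous_of_finiteDimensional (rvLin L)

end Lin

lemma realMap_eq_rv {k n : ICone} (φ : k ⟶ n) : φ.realMap = rv φ.toLin := rfl

/-- common refinement for two injective integral linear maps into the same lattice -/
theorem common_refinement_lin {k k' : ICone} {N : ℕ}
    (L : (Fin k.dim → ℤ) →ₗ[ℤ] (Fin N → ℤ)) (L' : (Fin k'.dim → ℤ) →ₗ[ℤ] (Fin N → ℤ))
    (hL : Function.Injective L) (hL' : Function.Injective L')
    (y : Orth k) (y' : Orth k') (c : ℝ) (hc : 0 < c) (h : rv L y.1 = c • rv L' y'.1) :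
    ∃ (m : ICone) (α : m ⟶ k) (β : m ⟶ k') (z : Orth m),
      L.comp α.toLin = L'.comp β.toLin ∧ α.realMap z.1 = y.1 ∧ β.realMap z.1 = c • y'.1 := by
  classical
  let X : Fin k.dim ⊕ Fin k'.dim → ℝ := Sum.elim y.1 (c • y'.1)
  let r : Fin N → Fin k.dim ⊕ Fin k'.dim → ℤ := fun j =>
    Sum.elim (fun i => L (Pi.single i 1) j) (fun i => -L' (Pi.single i 1) j)
  have hX : ∀ i, 0 ≤ X i := by
    rintro (i | i)
    · exact y.2.1 i
    · exact mul_nonneg hc.le (y'.2.1 i)
  have hX0 : X ≠ 0 := by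
    intro hX0
    apply y.2.2
    funext i
    exact congr_fun hX0 (Sum.inl i)
  have hr : ∀ r' ∈ List.ofFn r, ∑ i, (r' i : ℝ) * X i = 0 := by
    intro r' hr'
    obtain ⟨j, rfl⟩ := (List.mem_ofFn' _ _).mp hr'
    rw [Fintype.sum_sum_type]
    simp only [r, X, Sum.elim_inl, Sum.elim_inr, Int.cast_neg, neg_mul, Finset.sum_neg_distrib]
    have h1 := congr_fun h j
    rw [← rv_smul, rv_apply, rv_apply] at h1
    rw [h1]; ring
  obtain ⟨m, hm, z, cc, hz, hzr, hcc, hli, hsum⟩ := cone_gen_indep (List.ofFn r) X hX hX0 hr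
  let M : ICone := ⟨⟨m, hm⟩⟩
  let a : Fin M.dim → Fin k.dim → ℤ := fun l i => z l (Sum.inl i)
  let b : Fin M.dim → Fin k'.dim → ℤ := fun l i => z l (Sum.inr i)
  have hrow : ∀ (l : Fin m) (j : Fin N),
      ∑ i, L (Pi.single i 1) j * z l (Sum.inl i) = ∑ i, L' (Pi.single i 1) j * z l (Sum.inr i) := by
    intro l j
    have := hzr l (r j) ((List.mem_ofFn' _ _).mpr ⟨j, rfl⟩)
    rw [Fintype.sum_sum_type] at this
    simp only [r, Sum.elim_inl, Sum.elim_inr, neg_mul, Finset.sum_neg_distrib] at this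
    linarith
  have hcomm : ∀ u : Fin M.dim → ℤ, L (vecLin a u) = L' (vecLin b u) := by
    intro u
    funext j
    rw [L_apply, L_apply]
    simp only [vecLin_apply, a, b, Finset.mul_sum]
    rw [Finset.sum_comm, Finset.sum_comm (s := (Finset.univ : Finset (Fin k'.dim)))]
    refine Finset.sum_congr rfl fun l _ => ?_
    have := hrow l j
    calc ∑ i, L (Pi.single i 1) j * (z l (Sum.inl i) * u l)
        = (∑ i, L (Pi.single i 1) j * z l (Sum.inl i)) * u l := by
          rw [Finset.sum_mul]; exact Finset.sum_congr rfl fun i _ => by ring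
      _ = (∑ i, L' (Pi.single i 1) j * z l (Sum.inr i)) * u l := by rw [this]
      _ = ∑ i, L' (Pi.single i 1) j * (z l (Sum.inr i) * u l) := by
          rw [Finset.sum_mul]; exact Finset.sum_congr rfl fun i _ => by ring
  have hzero : ∀ u : Fin M.dim → ℤ, vecLin a u = 0 → vecLin b u = 0 → u = 0 := by
    intro u hua hub
    have hrel : ∑ l, (u l : ℝ) • (fun i => (z l i : ℝ)) = 0 := by
      funext i
      simp only [Finset.sum_apply, Pi.smul_apply, smul_eq_mul, Pi.zero_apply]
      rcases i with i | i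
      · have := congr_fun hua i
        rw [vecLin_apply] at this
        have h2 : ((∑ l, a l i * u l : ℤ) : ℝ) = 0 := by rw [this]; simp
        push_cast at h2
        rw [← h2]
        exact Finset.sum_congr rfl fun l _ => by simp only [a]; ring
      · have := congr_fun hub i
        rw [vecLin_apply] at this
        have h2 : ((∑ l, b l i * u l : ℤ) : ℝ) = 0 := by rw [this]; simp
        push_cast at h2
        rw [← h2]
        exact Finset.sum_congr rfl fun l _ => by simp only [b]; ring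
    funext l
    have := Fintype.linearIndependent_iff.mp hli (fun l => (u l : ℝ)) hrel l
    exact_mod_cast this
  have hinja : Function.Injective (vecLin a) := by
    rw [injective_iff_map_eq_zero]
    intro u hu
    refine hzero u hu ?_
    apply hL'
    rw [← hcomm u, hu, map_zero, map_zero]
  have hinjb : Function.Injective (vecLin b) := by
    rw [injective_iff_map_eq_zero]
    intro u hu
    refine hzero u ?_ hu
    apply hL
    rw [hcomm u, hu, map_zero, map_zero]
  let α : M ⟶ k := homOfVecs a (fun l i => hz l _) hinja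
  let β : M ⟶ k' := homOfVecs b (fun l i => hz l _) hinjb
  have hcc0 : (cc : Fin M.dim → ℝ) ≠ 0 := by
    intro h0
    have := hcc ⟨0, hm⟩
    rw [h0] at this
    exact lt_irrefl _ this
  refine ⟨M, α, β, ⟨cc, fun l => (hcc l).le, hcc0⟩, ?_, ?_, ?_⟩
  · apply LinearMap.ext
    intro u
    exact hcomm u
  · funext i
    rw [realMap_apply]
    simp only [α, ent_homOfVecs, a]
    have := hsum (Sum.inl i)
    simp only [X, Sum.elim_inl] at this
    rw [← this]
    exact Finset.sum_congr rfl fun l _ => by ring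
  · funext i
    rw [realMap_apply]
    simp only [β, ent_homOfVecs, b]
    have := hsum (Sum.inr i)
    simp only [X, Sum.elim_inr] at this
    rw [← this]
    exact Finset.sum_congr rfl fun l _ => by ring

section RFan

variable {N : ℕ} {ι : Type} (K : ι → Set (Fin N → ℝ))

lemma toVec_eq_rv (n : ICone) (φ : RFan.Cone K n) (v : Fin n.dim → ℝ) :
    RFan.toVec K n φ v = rv φ.1 v := rfl

lemma rv_ne_zero {n : ICone} (φ : (RFan K).obj (op n)) (v : Orth n) : rv φ.1 v.1 ≠ 0 := by
  intro h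
  exact v.2.2 (rv_injective φ.1 φ.2.1 (h.trans (rv_zero _).symm))

lemma RFan_map_val {k n : ICone} (ψ : k ⟶ n) (φ : (RFan K).obj (op n)) :
    ((RFan K).map ψ.op φ).1 = φ.1.comp ψ.toLin := rfl

lemma ray_eq_iff (v w : {v : Fin N → ℝ // v ≠ 0}) :
    (Quot.mk _ v : Rays N) = Quot.mk _ w ↔ ∃ c : ℝ, 0 < c ∧ w.1 = c • v.1 := by
  constructor
  · intro h
    have := Quot.eqvGen_exact h
    clear h
    induction this with
    | rel _ _ h => exact h
    | refl _ => exact ⟨1, one_pos, (one_smul _ _).symm⟩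
    | symm x y _ ih =>
      obtain ⟨c, hc, e⟩ := ih
      refine ⟨c⁻¹, inv_pos.mpr hc, ?_⟩
      rw [e, smul_smul, inv_mul_cancel₀ hc.ne', one_smul]
    | trans _ _ _ _ _ ih1 ih2 =>
      obtain ⟨c, hc, e⟩ := ih1
      obtain ⟨c', hc', e'⟩ := ih2
      exact ⟨c' * c, mul_pos hc' hc, by rw [e', e, smul_smul]⟩
  · intro h
    exact Quot.sound h

/-- the canonical map to the space of rays -/
noncomputable def toRays : P (RFan K) → Rays N :=
  Quot.lift (fun p : Pt (RFan K) =>
    (Quot.mk _ ⟨rv p.1.2.1 p.2.1, rv_ne_zero K p.1.2 p.2⟩ : Rays N)) (by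
    rintro _ _ ⟨ψ, φ, v, w, c, hc, h⟩
    apply Quot.sound
    refine ⟨c, hc, ?_⟩
    change rv φ.1 w.1 = c • rv ((RFan K).map ψ.op φ).1 v.1
    rw [h, rv_smul, RFan_map_val, rv_comp]
    rfl)

lemma toRays_mk {n : ICone} (φ : (RFan K).obj (op n)) (v : Orth n) :
    toRays K (P.mk φ v) = Quot.mk _ ⟨rv φ.1 v.1, rv_ne_zero K φ v⟩ := rfl

lemma toRays_injective : Function.Injective (toRays K) := by
  intro x x' hxx
  obtain ⟨n, φ, v, rfl⟩ := mk_surjective x
  obtain ⟨n', φ', v', rfl⟩ := mk_surjective x'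
  rw [toRays_mk, toRays_mk] at hxx
  obtain ⟨c, hc, e⟩ := (ray_eq_iff _ _).mp hxx
  simp only at e
  obtain ⟨m, α, β, z, hαβ, hα, hβ⟩ :=
    common_refinement_lin φ'.1 φ.1 φ'.2.1 φ.2.1 v' v c hc e
  have e1 : (RFan K).map β.op φ = (RFan K).map α.op φ' := Subtype.ext hαβ.symm
  rw [← mk_map_eq β φ z v c⁻¹ (inv_pos.mpr hc) (by
    rw [hβ, smul_smul, inv_mul_cancel₀ hc.ne', one_smul]),
    ← mk_map_eq α φ' z v' 1 one_pos (by rw [hα, one_smul]), e1]

lemma continuous_toRays : Continuous (toRays K) := by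
  apply continuous_quot_lift
  apply continuous_sigma
  rintro ⟨n, φ⟩
  apply continuous_quot_mk.comp
  exact Continuous.subtype_mk ((continuous_rv φ.1).comp continuous_subtype_val) _

end RFan

section Cones

variable {N : ℕ}

/-- the real vector of an integral vector -/
def cst (g : Fin N → ℤ) : Fin N → ℝ := fun j => (g j : ℝ)

/-- the cone spanned by a finite set of integral vectors -/
def coneOf (G : Finset (Fin N → ℤ)) : Set (Fin N → ℝ) :=
  {x | ∃ c : (Fin N → ℤ) → ℝ, (∀ g, 0 ≤ c g) ∧ x = Finset.sum G fun g => c g • fun j => (g j : ℝ)}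

lemma coneOf_subset {S G : Finset (Fin N → ℤ)} (h : S ⊆ G) : coneOf S ⊆ coneOf G := by
  classical
  rintro x ⟨c, hc, rfl⟩
  refine ⟨fun g => if g ∈ S then c g else 0, fun g => by dsimp only; split_ifs <;> simp [hc g], ?_⟩
  rw [← Finset.sum_subset h]
  · exact Finset.sum_congr rfl fun g hg => by simp [hg]
  · intro g _ hg
    simp [hg]

lemma coneOf_smul {G : Finset (Fin N → ℤ)} {x : Fin N → ℝ} (hx : x ∈ coneOf G) (t : ℝ) (ht : 0 ≤ t) :
    t • x ∈ coneOf G := by
  obtain ⟨c, hc, rfl⟩ := hx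
  refine ⟨fun g => t * c g, fun g => mul_nonneg ht (hc g), ?_⟩
  rw [Finset.smul_sum]
  exact Finset.sum_congr rfl fun g _ => by rw [smul_smul]

/-- Carathéodory for `coneOf` -/
lemma coneOf_caratheodory {G : Finset (Fin N → ℤ)} {x : Fin N → ℝ} (hx : x ∈ coneOf G) :
    ∃ S : Finset (Fin N → ℤ), S ⊆ G ∧ LinearIndependent ℝ (fun g : S => cst g.1) ∧
      ∃ c : (Fin N → ℤ) → ℝ, (∀ g ∈ S, 0 < c g) ∧ x = ∑ g ∈ S, c g • cst g := by
  classical
  obtain ⟨c, hc, rfl⟩ := hx
  obtain ⟨S, c', hS, hpos, hli, hsum⟩ := conic_caratheodory_aux (fun g : Fin N → ℤ => cst g) _ G rfl c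
    (fun g _ => hc g)
  exact ⟨S, hS, hli, c', hpos, hsum.symm⟩

lemma coneOf_eq_image {S : Finset (Fin N → ℤ)} :
    coneOf S = Fintype.linearCombination ℝ (fun g : S => cst g.1) '' {c | ∀ g, 0 ≤ c g} := by
  classical
  ext x
  constructor
  · rintro ⟨c, hc, rfl⟩
    refine ⟨fun g => c g.1, fun g => hc _, ?_⟩
    rw [Fintype.linearCombination_apply, ← Finset.sum_coe_sort S]
    rfl
  · rintro ⟨c, hc, rfl⟩
    refine ⟨fun g => if h : g ∈ S then c ⟨g, h⟩ else 0, fun g => by dsimp only; split_ifs <;> simp [hc _], ?_⟩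
    rw [Fintype.linearCombination_apply, ← Finset.sum_coe_sort S]
    refine Finset.sum_congr rfl fun g _ => ?_
    simp [g.2]
    rfl

lemma isClosed_coneOf_of_indep {S : Finset (Fin N → ℤ)}
    (hli : LinearIndependent ℝ (fun g : S => cst g.1)) : IsClosed (coneOf S) := by
  rw [coneOf_eq_image]
  have hinj := hli.fintypeLinearCombination_injective
  have hce : IsClosedEmbedding (Fintype.linearCombination ℝ (fun g : S => cst g.1)) :=
    LinearMap.isClosedEmbedding_of_injective (LinearMap.ker_eq_bot.mpr hinj)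
  apply hce.isClosedMap
  simp only [Set.ofPred_forall]
  exact isClosed_iInter fun g => isClosed_le continuous_const (continuous_apply g)

lemma isClosed_coneOf (G : Finset (Fin N → ℤ)) : IsClosed (coneOf G) := by
  classical
  have : coneOf G = ⋃ S ∈ (G.powerset.filter fun S : Finset (Fin N → ℤ) =>
      LinearIndependent ℝ (fun g : S => cst g.1)), coneOf S := by
    ext x
    simp only [Set.mem_iUnion, Finset.mem_filter, Finset.mem_powerset, exists_prop]
    constructor
    · intro hx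
      obtain ⟨S, hS, hli, c, hc, rfl⟩ := coneOf_caratheodory hx
      refine ⟨S, ⟨hS, hli⟩, fun g => if g ∈ S then c g else 0, fun g => ?_, ?_⟩
      · dsimp only
        split_ifs with h
        · exact (hc g h).le
        · exact le_rfl
      · exact Finset.sum_congr rfl fun g hg => by simp only [hg, if_true]; rfl
    · rintro ⟨S, ⟨hS, -⟩, hx⟩
      exact coneOf_subset hS hx
  rw [this]
  refine Set.Finite.isClosed_biUnion (Finset.finite_toSet _) fun S hS => ?_
  exact isClosed_coneOf_of_indep (Finset.mem_filter.mp hS).2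

end Cones

/-- the image cone of a closed scaling-invariant set under an injective integral linear map is closed
among nonzero vectors -/
theorem isClosed_image_cone_rv {k : ICone} {N : ℕ} (L : (Fin k.dim → ℤ) →ₗ[ℤ] (Fin N → ℤ))
    (hL : Function.Injective L) (S : Set (Orth k)) (hS : IsClosed S) (hinv : ScaleInv S) :
    IsClosed {w : {w : Fin N → ℝ // w ≠ 0} | ∃ y ∈ S, ∃ c : ℝ, 0 < c ∧ w.1 = c • rv L y.1} := by
  have hT : IsClosed (rv L '' closure (Subtype.val '' S)) :=
    (isClosedEmbedding_rv L hL).isClosedMap _ isClosed_closure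
  have : {w : {w : Fin N → ℝ // w ≠ 0} | ∃ y ∈ S, ∃ c : ℝ, 0 < c ∧ w.1 = c • rv L y.1} =
      Subtype.val ⁻¹' (rv L '' closure (Subtype.val '' S)) := by
    ext w
    constructor
    · rintro ⟨y, hy, c, hc, e⟩
      refine ⟨c • y.1, subset_closure ⟨orthSmul c hc y, hinv y _ hy c hc rfl, rfl⟩, ?_⟩
      rw [rv_smul, e]
    · rintro ⟨s, hs, e⟩
      rcases closure_val_image_subset S hS hs with ⟨y, hy, rfl⟩ | h0
      · exact ⟨y, hy, 1, one_pos, by rw [one_smul, e]⟩
      · exfalso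
        rw [Set.mem_singleton_iff] at h0
        rw [h0, rv_zero] at e
        exact w.2 e.symm
  rw [this]
  exact hT.preimage continuous_subtype_val

section Simp

variable {N : ℕ}

/-- the integral linear map with columns the elements of `S` -/
noncomputable def simpLin (S : Finset (Fin N → ℤ)) : (Fin S.card → ℤ) →ₗ[ℤ] (Fin N → ℤ) :=
  vecLin (fun i => (S.equivFin.symm i).1)

lemma rv_simpLin (S : Finset (Fin N → ℤ)) (v : Fin S.card → ℝ) :
    rv (simpLin S) v = ∑ i, v i • cst (S.equivFin.symm i).1 := by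
  funext j
  rw [rv_apply, Finset.sum_apply]
  refine Finset.sum_congr rfl fun i _ => ?_
  have : simpLin S (Pi.single i 1) j = (S.equivFin.symm i).1 j := by
    rw [simpLin, vecLin_apply]
    simp [Pi.single_apply]
  rw [this, Pi.smul_apply, smul_eq_mul, mul_comm]
  rfl

lemma simpLin_injective {S : Finset (Fin N → ℤ)}
    (hli : LinearIndependent ℝ (fun g : S => cst g.1)) : Function.Injective (simpLin S) := by
  rw [injective_iff_map_eq_zero]
  intro u hu
  have h1 : rv (simpLin S) (fun i => (u i : ℝ)) = 0 := by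
    rw [rv_intCast, hu]
    funext j
    simp
  rw [rv_simpLin] at h1
  have hli' : LinearIndependent ℝ (fun i : Fin S.card => cst (S.equivFin.symm i).1) :=
    hli.comp S.equivFin.symm S.equivFin.symm.injective
  funext i
  have := Fintype.linearIndependent_iff.mp hli' (fun i => (u i : ℝ)) h1 i
  exact_mod_cast this

lemma simpLin_mem (S : Finset (Fin N → ℤ)) (u : Fin S.card → ℤ) (hu : ∀ i, 0 ≤ u i) :
    (fun j => ((simpLin S u j : ℤ) : ℝ)) ∈ coneOf S := by
  classical
  rw [← rv_intCast, rv_simpLin]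
  refine ⟨fun g => if h : g ∈ S then (u (S.equivFin ⟨g, h⟩) : ℝ) else 0, fun g => ?_, ?_⟩
  · dsimp only
    split_ifs
    · exact_mod_cast hu _
    · exact le_rfl
  · rw [← Finset.sum_coe_sort S, ← Equiv.sum_comp S.equivFin.symm]
    refine Finset.sum_congr rfl fun i _ => ?_
    simp only [Finset.coe_mem, dite_true, Subtype.coe_eta, Equiv.apply_symm_apply]
    rfl

end Simp

section Main

variable {N : ℕ} {ι : Type} (K : ι → Set (Fin N → ℝ))
  (m : ι → ℕ) (gen : ∀ a, Fin (m a) → Finset (Fin N → ℤ))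
  (hKeq : ∀ a, K a = ⋃ l, coneOf (gen a l))

include hKeq in
lemma isClosed_K (a : ι) : IsClosed (K a) := by
  rw [hKeq a]
  exact isClosed_iUnion_of_finite fun l => isClosed_coneOf _

include hKeq in
lemma K_smul {a : ι} {x : Fin N → ℝ} (hx : x ∈ K a) (t : ℝ) (ht : 0 ≤ t) : t • x ∈ K a := by
  rw [hKeq a] at hx ⊢
  obtain ⟨l, hl⟩ := Set.mem_iUnion.mp hx
  exact Set.mem_iUnion.mpr ⟨l, coneOf_smul hl t ht⟩

include hKeq in
lemma rv_mem_K {n : ICone} (φ : (RFan K).obj (op n)) (v : Orth n) : rv φ.1 v.1 ∈ ⋃ a, K a := by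
  obtain ⟨a, ha⟩ := φ.2.2
  refine Set.mem_iUnion.mpr ⟨a, ?_⟩
  let E : Set (Orth n) := {v | rv φ.1 v.1 ∈ K a}
  have hE : E = Set.univ := by
    apply eq_univ_of_intPt_mem
    · exact (isClosed_K K m gen hKeq a).preimage ((continuous_rv φ.1).comp continuous_subtype_val)
    · intro v w hv c hc e
      change rv φ.1 w.1 ∈ K a
      rw [e, rv_smul]
      exact K_smul K m gen hKeq hv c hc.le
    · intro z hz hz0
      change rv φ.1 (intPt z hz hz0).1 ∈ K a
      rw [show (intPt z hz hz0).1 = fun i => (z i : ℝ) from rfl, rv_intCast]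
      exact ha z hz
  have : v ∈ E := by rw [hE]; trivial
  exact this

/-- the simplicial cone of `R(K)` spanned by a linearly independent subset of a generating set -/
noncomputable def simpCone (a : ι) (l : Fin (m a)) (S : Finset (Fin N → ℤ)) (hS : S ⊆ gen a l)
    (hne : S.Nonempty) (hli : LinearIndependent ℝ (fun g : S => cst g.1)) :
    (RFan K).obj (op (⟨⟨S.card, Finset.card_pos.mpr hne⟩⟩ : ICone)) :=
  ⟨simpLin S, simpLin_injective hli, a, fun u hu => by
    rw [hKeq a]
    exact Set.mem_iUnion.mpr ⟨l, coneOf_subset hS (simpLin_mem S u hu)⟩⟩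

include hKeq in
lemma exists_simp {a : ι} {w : Fin N → ℝ} (hw : w ∈ K a) (hw0 : w ≠ 0) :
    ∃ (l : Fin (m a)) (S : Finset (Fin N → ℤ)) (hS : S ⊆ gen a l) (hne : S.Nonempty)
      (hli : LinearIndependent ℝ (fun g : S => cst g.1))
      (v : Orth (⟨⟨S.card, Finset.card_pos.mpr hne⟩⟩ : ICone)),
      rv (simpCone K m gen hKeq a l S hS hne hli).1 v.1 = w := by
  classical
  rw [hKeq a] at hw
  obtain ⟨l, hl⟩ := Set.mem_iUnion.mp hw
  obtain ⟨S, hS, hli, c, hc, rfl⟩ := coneOf_caratheodory hl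
  have hne : S.Nonempty := by
    by_contra h
    rw [Finset.not_nonempty_iff_eq_empty] at h
    subst h
    exact hw0 (by simp)
  let v : Fin S.card → ℝ := fun i => c (S.equivFin.symm i).1
  have hvpos : ∀ i, 0 < v i := fun i => hc _ (S.equivFin.symm i).2
  have hv0 : v ≠ 0 := fun h => by
    have := hvpos ⟨0, Finset.card_pos.mpr hne⟩
    rw [h] at this
    exact lt_irrefl _ this
  refine ⟨l, S, hS, hne, hli, ⟨v, fun i => (hvpos i).le, hv0⟩, ?_⟩
  change rv (simpLin S) v = _
  rw [rv_simpLin, ← Finset.sum_coe_sort S, ← Equiv.sum_comp S.equivFin.symm]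

variable [Finite ι]

include hKeq in
theorem range_toRays :
    Set.range (toRays K) =
      {r | ∃ w : {w : Fin N → ℝ // w ≠ 0}, r = Quot.mk _ w ∧ w.1 ∈ Set.iUnion K} := by
  ext r
  constructor
  · rintro ⟨x, rfl⟩
    obtain ⟨n, φ, v, rfl⟩ := mk_surjective x
    exact ⟨⟨rv φ.1 v.1, rv_ne_zero K φ v⟩, rfl, rv_mem_K K m gen hKeq φ v⟩
  · rintro ⟨w, rfl, hw⟩
    obtain ⟨a, ha⟩ := Set.mem_iUnion.mp hw
    obtain ⟨l, S, hS, hne, hli, v, hv⟩ := exists_simp K m gen hKeq ha w.2
    refine ⟨P.mk (simpCone K m gen hKeq a l S hS hne hli) v, ?_⟩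
    rw [toRays_mk]
    congr 1
    exact Subtype.ext hv

include hKeq in
theorem isClosedMap_toRays : IsClosedMap (toRays K) := by
  classical
  intro C hC
  have h1 : IsClosed (toRays K '' C) ↔
      IsClosed ((Quot.mk _ : {w : Fin N → ℝ // w ≠ 0} → Rays N) ⁻¹' (toRays K '' C)) :=
    isClosed_coinduced
  rw [h1]
  -- the finite index type of simplicial cones
  let I := Σ a : ι, Σ l : Fin (m a), ↥((gen a l).powerset)
  let D : I → Set {w : Fin N → ℝ // w ≠ 0} := fun i =>
    {w | ∃ (hne : i.2.2.1.Nonempty) (hli : LinearIndependent ℝ (fun g : i.2.2.1 => cst g.1)),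
      ∃ v ∈ P.mk (simpCone K m gen hKeq i.1 i.2.1 i.2.2.1 (Finset.mem_powerset.mp i.2.2.2) hne hli) ⁻¹' C,
      ∃ c : ℝ, 0 < c ∧ w.1 = c • rv (simpLin i.2.2.1) v.1}
  have hD : (Quot.mk _ : {w : Fin N → ℝ // w ≠ 0} → Rays N) ⁻¹' (toRays K '' C) = ⋃ i, D i := by
    ext w
    simp only [Set.mem_preimage, Set.mem_image, Set.mem_iUnion]
    constructor
    · rintro ⟨x, hx, hxw⟩
      obtain ⟨n, φ, v₁, rfl⟩ := mk_surjective x
      rw [toRays_mk] at hxw
      obtain ⟨c, hc, e⟩ := (ray_eq_iff _ _).mp hxw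
      simp only at e
      obtain ⟨a, ha⟩ := Set.mem_iUnion.mp (rv_mem_K K m gen hKeq φ v₁)
      obtain ⟨l, S, hS, hne, hli, v, hv⟩ := exists_simp K m gen hKeq ha (rv_ne_zero K φ v₁)
      refine ⟨⟨a, l, ⟨S, Finset.mem_powerset.mpr hS⟩⟩, hne, hli, v, ?_, c, hc, ?_⟩
      · have : P.mk (simpCone K m gen hKeq a l S hS hne hli) v = P.mk φ v₁ := by
          apply toRays_injective K
          rw [toRays_mk, toRays_mk]
          congr 1
          exact Subtype.ext hv
        change P.mk (simpCone K m gen hKeq a l S hS hne hli) v ∈ C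
        rw [this]
        exact hx
      · rw [e]
        congr 1
        exact hv.symm
    · rintro ⟨i, hne, hli, v, hv, c, hc, e⟩
      refine ⟨_, hv, ?_⟩
      rw [toRays_mk]
      exact (ray_eq_iff _ _).mpr ⟨c, hc, e⟩
  rw [hD]
  refine isClosed_iUnion_of_finite fun i => ?_
  by_cases hgood : i.2.2.1.Nonempty ∧ LinearIndependent ℝ (fun g : i.2.2.1 => cst g.1)
  · obtain ⟨hne, hli⟩ := hgood
    have : D i = {w | ∃ v ∈ P.mk (simpCone K m gen hKeq i.1 i.2.1 i.2.2.1
        (Finset.mem_powerset.mp i.2.2.2) hne hli) ⁻¹' C,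
        ∃ c : ℝ, 0 < c ∧ w.1 = c • rv (simpLin i.2.2.1) v.1} := by
      ext w
      constructor
      · rintro ⟨_, _, h⟩
        exact h
      · intro h
        exact ⟨hne, hli, h⟩
    rw [this]
    exact isClosed_image_cone_rv (k := ⟨⟨i.2.2.1.card, Finset.card_pos.mpr hne⟩⟩) (simpLin i.2.2.1)
      (simpLin_injective hli) _ (hC.preimage (continuous_mk _)) (scaleInv_preimage_mk _ _)
  · have : D i = ∅ := by
      ext w
      simp only [Set.mem_empty_iff_false, iff_false]
      rintro ⟨hne, hli, -⟩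
      exact hgood ⟨hne, hli⟩
    rw [this]
    exact isClosed_empty

include hKeq in
theorem isEmbedding_toRays : IsEmbedding (toRays K) :=
  (IsClosedEmbedding.of_continuous_injective_isClosedMap (continuous_toRays K) (toRays_injective K)
    (isClosedMap_toRays K m gen hKeq)).isEmbedding

end Main

/-- S19372 -/
theorem rfan_embedding {N : ℕ} {ι : Type} [Finite ι] (K : ι → Set (Fin N → ℝ))
    (hK : ∀ a, ∃ (m : ℕ) (gen : Fin m → Finset (Fin N → ℤ)),
      K a = Set.iUnion fun l => {x | ∃ c : (Fin N → ℤ) → ℝ, (∀ g, 0 ≤ c g) ∧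
        x = Finset.sum (gen l) fun g => c g • fun j => (g j : ℝ)}) :
    ∃ g : P (RFan K) → Rays N,
      (∀ (n : ICone) (φ : (RFan K).obj (op n)) (v : Orth n) (h : RFan.toVec K n φ v.1 ≠ 0),
        g (P.mk φ v) = Quot.mk _ ⟨RFan.toVec K n φ v.1, h⟩) ∧
      IsEmbedding g ∧
      Set.range g = {r | ∃ w : {w : Fin N → ℝ // w ≠ 0}, r = Quot.mk _ w ∧ w.1 ∈ Set.iUnion K} := by
  choose m gen hKeq using hK
  have hKeq' : ∀ a, K a = ⋃ l, coneOf (gen a l) := hKeq
  exact ⟨toRays K, fun n φ v h => rfl, isEmbedding_toRays K m gen hKeq',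
    range_toRays K m gen hKeq'⟩

end Groth.Agent.H2.FanRays
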