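import Groth.Agent.Lib.Helper2.FanBdd

/-!
# Formal fans: topology of the projective realization (helper2)
-/

set_option autoImplicit false

universe u

open CategoryTheory Opposite Instab Instab.Fan Limits Filter Topology

namespace Groth.Agent.H2.FanTop

open Groth.Agent.H2.FanBase Groth.Agent.H2.FanMaps Groth.Agent.H2.FanBdd

lemma continuous_mk {F : Fan.{u}} {n : ICone} (ξ : F.obj (op n)) : Continuous (P.mk ξ) := by
  have h1 : Continuous (Quot.mk (Rel F)) := continuous_quot_mk
  have h2 : Continuous (fun v : Orth n => (⟨⟨n, ξ⟩, v⟩ : Pt F)) :=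
    continuous_sigmaMk (σ := fun e : (Σ n : ICone, F.obj (op n)) => Orth e.1) (i := ⟨n, ξ⟩)
  exact h1.comp h2

lemma isClosed_iff {F : Fan.{u}} (C : Set (P F)) :
    IsClosed C ↔ ∀ (n : ICone) (ξ : F.obj (op n)), IsClosed (P.mk ξ ⁻¹' C) := by
  have h1 : IsClosed C ↔ IsClosed (Quot.mk (Rel F) ⁻¹' C) := isClosed_coinduced
  have h2 := isClosed_sigma_iff (σ := fun e : (Σ n : ICone, F.obj (op n)) => Orth e.1)
    (s := Quot.mk (Rel F) ⁻¹' C)
  refine h1.trans (h2.trans ?_)
  constructor
  · intro h n ξ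
    exact h ⟨n, ξ⟩
  · rintro h ⟨n, ξ⟩
    exact h n ξ

lemma continuous_P_map {F G : Fan.{u}} (f : F ⟶ G) : Continuous (P.map f) := by
  rw [continuous_iff_isClosed]
  intro C hC
  rw [isClosed_iff] at hC ⊢
  intro n ξ
  exact hC n (f.app _ ξ)

/-- the real-linear map of a cone morphism -/
def realLin {k n : ICone} (φ : k ⟶ n) : (Fin k.dim → ℝ) →ₗ[ℝ] (Fin n.dim → ℝ) where
  toFun := φ.realMap
  map_add' := realMap_add φ
  map_smul' c v := realMap_smul φ c v

@[simp] lemma realLin_apply {k n : ICone} (φ : k ⟶ n) (v : Fin k.dim → ℝ) :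
    realLin φ v = φ.realMap v := rfl

lemma isClosedEmbedding_realMap {k n : ICone} (φ : k ⟶ n) : IsClosedEmbedding φ.realMap :=
  LinearMap.isClosedEmbedding_of_injective (f := realLin φ)
    (LinearMap.ker_eq_bot.mpr (realMap_injective φ))

lemma continuous_realMap {k n : ICone} (φ : k ⟶ n) : Continuous φ.realMap :=
  (isClosedEmbedding_realMap φ).continuous

lemma continuous_orthMap {k n : ICone} (φ : k ⟶ n) : Continuous (orthMap φ) :=
  Continuous.subtype_mk ((continuous_realMap φ).comp continuous_subtype_val) _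

/-- positive-scaling invariance of a set of the punctured orthant -/
def ScaleInv {n : ICone} (S : Set (Orth n)) : Prop :=
  ∀ v w : Orth n, v ∈ S → ∀ c : ℝ, 0 < c → w.1 = c • v.1 → w ∈ S

lemma scaleInv_preimage_mk {F : Fan.{u}} {n : ICone} (ξ : F.obj (op n)) (C : Set (P F)) :
    ScaleInv (P.mk ξ ⁻¹' C) := by
  intro v w hv c hc e
  change P.mk ξ w ∈ C
  rw [← mk_smul ξ v w c hc e]
  exact hv

lemma scaleInv_univ {n : ICone} : ScaleInv (Set.univ : Set (Orth n)) := fun _ _ _ _ _ _ => trivial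

/-- closure of a closed subset of the punctured orthant adds at most the origin -/
lemma closure_val_image_subset {k : ICone} (S : Set (Orth k)) (hS : IsClosed S) :
    closure (Subtype.val '' S) ⊆ Subtype.val '' S ∪ {0} := by
  obtain ⟨C, hC, rfl⟩ := isClosed_induced_iff.mp hS
  have hnn : IsClosed {v : Fin k.dim → ℝ | ∀ i, 0 ≤ v i} := by
    simp only [Set.ofPred_forall]
    exact isClosed_iInter fun i => isClosed_le continuous_const (continuous_apply i)
  have hsub : Subtype.val '' (Subtype.val ⁻¹' C : Set (Orth k)) ⊆ C ∩ {v | ∀ i, 0 ≤ v i} := by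
    rintro _ ⟨v, hv, rfl⟩
    exact ⟨hv, v.2.1⟩
  intro x hx
  have hx' := closure_minimal hsub (hC.inter hnn) hx
  by_cases h0 : x = 0
  · right; exact h0
  · left
    exact ⟨⟨x, hx'.2, h0⟩, hx'.1, rfl⟩

/-- (T4) the image cone of a closed scaling-invariant set under a cone morphism is closed -/
theorem isClosed_image_cone {k n : ICone} (φ : k ⟶ n) (S : Set (Orth k)) (hS : IsClosed S)
    (hinv : ScaleInv S) :
    IsClosed {w : Orth n | ∃ y ∈ S, ∃ c : ℝ, 0 < c ∧ w.1 = c • φ.realMap y.1} := by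
  have hT : IsClosed (φ.realMap '' closure (Subtype.val '' S)) :=
    (isClosedEmbedding_realMap φ).isClosedMap _ isClosed_closure
  have : {w : Orth n | ∃ y ∈ S, ∃ c : ℝ, 0 < c ∧ w.1 = c • φ.realMap y.1} =
      Subtype.val ⁻¹' (φ.realMap '' closure (Subtype.val '' S)) := by
    ext w
    constructor
    · rintro ⟨y, hy, c, hc, e⟩
      refine ⟨c • y.1, subset_closure ⟨orthSmul c hc y, hinv y _ hy c hc rfl, rfl⟩, ?_⟩
      rw [realMap_smul, e]
    · rintro ⟨s, hs, e⟩
      rcases closure_val_image_subset S hS hs with ⟨y, hy, rfl⟩ | h0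
      · exact ⟨y, hy, 1, one_pos, by rw [one_smul, e]⟩
      · exfalso
        rw [Set.mem_singleton_iff] at h0
        rw [h0, realMap_zero] at e
        exact w.2.2 e.symm
  rw [this]
  exact hT.preimage continuous_subtype_val

/-- an integral point of the punctured orthant -/
def intPt {n : ICone} (z : Fin n.dim → ℤ) (hz : ∀ i, 0 ≤ z i) (hz0 : z ≠ 0) : Orth n :=
  ⟨fun i => (z i : ℝ), fun i => Int.cast_nonneg (hz i), fun h => hz0 (by
    funext i
    have := congr_fun h i
    simpa using this)⟩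

/-- (T5) a closed scaling-invariant subset containing all integral points is everything -/
theorem eq_univ_of_intPt_mem {n : ICone} (E : Set (Orth n)) (hE : IsClosed E) (hinv : ScaleInv E)
    (hint : ∀ (z : Fin n.dim → ℤ) (hz : ∀ i, 0 ≤ z i) (hz0 : z ≠ 0), intPt z hz hz0 ∈ E) :
    E = Set.univ := by
  obtain ⟨C, hC, rfl⟩ := isClosed_induced_iff.mp hE
  rw [Set.eq_univ_iff_forall]
  intro v
  change v.1 ∈ C
  -- approximating sequence
  let q : ℕ → Fin n.dim → ℝ := fun j i => (⌊v.1 i * (j : ℝ)⌋₊ : ℝ) / (j : ℝ)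
  have hq : Tendsto q atTop (𝓝 v.1) := by
    rw [tendsto_pi_nhds]
    intro i
    exact (tendsto_nat_floor_mul_div_atTop (v.2.1 i)).comp tendsto_natCast_atTop_atTop
  -- a positive coordinate
  obtain ⟨i0, hi0⟩ : ∃ i, 0 < v.1 i := by
    by_contra h
    push Not at h
    apply v.2.2
    funext i
    exact le_antisymm (h i) (v.2.1 i)
  have hev : ∀ᶠ j in atTop, q j ∈ C := by
    have h1 : ∀ᶠ j in atTop, 0 < q j i0 :=
      ((tendsto_pi_nhds.mp hq) i0).eventually (lt_mem_nhds hi0)
    filter_upwards [h1, eventually_gt_atTop 0] with j hj hj0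
    have hjR : (0 : ℝ) < (j : ℝ) := by exact_mod_cast hj0
    let z : Fin n.dim → ℤ := fun i => (⌊v.1 i * (j : ℝ)⌋₊ : ℤ)
    have hz : ∀ i, 0 ≤ z i := fun i => by simp [z]
    have hz0 : z ≠ 0 := by
      intro h
      have := congr_fun h i0
      simp only [z, Pi.zero_apply] at this
      have h2 : (⌊v.1 i0 * (j : ℝ)⌋₊ : ℝ) = 0 := by exact_mod_cast this
      simp only [q, h2, zero_div] at hj
      exact lt_irrefl _ hj
    have hmem := hint z hz hz0
    have hnn : ∀ i, 0 ≤ q j i := fun i => div_nonneg (Nat.cast_nonneg _) hjR.le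
    have hne : q j ≠ 0 := fun h => by
      have := congr_fun h i0
      simp only [Pi.zero_apply] at this
      linarith
    have := hinv (intPt z hz hz0) ⟨q j, hnn, hne⟩ hmem (1 / (j : ℝ)) (by positivity) (by
      funext i
      simp only [q, intPt, z, Pi.smul_apply, smul_eq_mul, Int.cast_natCast]
      ring)
    exact this
  exact hC.mem_of_tendsto hq hev


lemma isInducing_val {n : ICone} : IsInducing (fun v : Orth n => v.1) :=
  (IsEmbedding.subtypeVal (p := fun v : Fin n.dim → ℝ => (∀ i, 0 ≤ v i) ∧ v ≠ 0)).isInducing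

lemma tendsto_orth_iff {n : ICone} {α : Type*} {l : Filter α} (f : α → Orth n) (v : Orth n) :
    Tendsto f l (𝓝 v) ↔ Tendsto (fun a => (f a).1) l (𝓝 v.1) :=
  isInducing_val.tendsto_nhds_iff

end Groth.Agent.H2.FanTop
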