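import Mathlib

/-! Hilbert function of a hypersurface (helper2, S12915). -/

namespace Groth.Agent.H2.HypHilb

open MvPolynomial

variable {k : Type*} [Field k]

lemma finrank_homogeneousSubmodule (n m : ℕ) :
    Module.finrank k (MvPolynomial.homogeneousSubmodule (Fin (n + 1)) k m) = (m + n).choose n := by
  classical
  rw [homogeneousSubmodule_eq_finsupp_supported,
    LinearEquiv.finrank_eq (AddMonoidAlgebra.supportedEquivFinsupp _)]
  have hS : {d : Fin (n + 1) →₀ ℕ | d.degree = m} =
      ↑((Finset.univ : Finset (Fin (n + 1))).finsuppAntidiag m) := by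
    ext d
    simp [Finsupp.degree_eq_sum]
  have hfin : Fintype {d : Fin (n + 1) →₀ ℕ | d.degree = m} := by
    rw [hS]; infer_instance
  rw [Module.finrank_finsupp_self, ← Nat.card_eq_fintype_card]
  rw [hS, Nat.card_coe_set_eq, Set.ncard_coe_finset,
    Finset.card_finsuppAntidiag_nat_eq_choose]
  simp only [Finset.card_univ, Fintype.card_fin]
  rw [show n + 1 + m - 1 = m + n by omega]
  exact Nat.choose_symm_of_eq_add (by omega)

attribute [local instance] MvPolynomial.gradedAlgebra

lemma homogeneousComponent_mul_of_left {σ : Type*} (f h : MvPolynomial σ k) (m t : ℕ)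
    (hf : f.IsHomogeneous m) (ht : m ≤ t) :
    homogeneousComponent t (f * h) = f * homogeneousComponent (t - m) h := by
  have := DirectSum.coe_decompose_mul_of_left_mem_of_le (homogeneousSubmodule σ k) (a := f) (b := h)
    (i := m) (n := t) hf ht
  have e1 : ∀ (φ : MvPolynomial σ k) (i : ℕ),
      ((DirectSum.decompose (homogeneousSubmodule σ k) φ) i : MvPolynomial σ k) =
        homogeneousComponent i φ := fun φ i => decomposition.decompose'_apply φ i
  rw [e1, e1] at this
  exact this

/-- multiplication by `f` from degree `t - m` to degree `t`. -/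
noncomputable def mulMap {σ : Type*} (f : MvPolynomial σ k) (m t : ℕ) (hf : f.IsHomogeneous m)
    (ht : m ≤ t) :
    homogeneousSubmodule σ k (t - m) →ₗ[k] homogeneousSubmodule σ k t where
  toFun g := ⟨f * g.1, by
    have := hf.mul g.2
    rw [show m + (t - m) = t by omega] at this
    exact this⟩
  map_add' a b := by ext1; simp [mul_add]
  map_smul' c a := by ext1; simp

theorem main (r m : ℕ)
    (f : MvPolynomial (Fin (r + 1)) k) (hf : f.IsHomogeneous m) (hf0 : f ≠ 0) (t : ℕ) (ht : m ≤ t) :
    Module.finrank k
        (Submodule.map ((Ideal.Quotient.mkₐ k (Ideal.span {f})).toLinearMap)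
          (MvPolynomial.homogeneousSubmodule (Fin (r + 1)) k t)) =
      Nat.choose (t + r) r - Nat.choose (t + r - m) r := by
  set π : MvPolynomial (Fin (r + 1)) k →ₗ[k] (MvPolynomial (Fin (r + 1)) k ⧸ Ideal.span {f}) := (Ideal.Quotient.mkₐ k (Ideal.span {f})).toLinearMap with hπ
  set St := MvPolynomial.homogeneousSubmodule (Fin (r + 1)) k t with hSt
  haveI : Module.Finite k St := Module.Finite.iff_fg.mpr (homogeneousSubmodule_fg _ _ _)
  have h1 : Submodule.map π St = LinearMap.range (π ∘ₗ St.subtype) := by
    rw [LinearMap.range_comp, Submodule.range_subtype]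
  have h2 := LinearMap.finrank_range_add_finrank_ker (π ∘ₗ St.subtype)
  have h3 : LinearMap.ker (π ∘ₗ St.subtype) = LinearMap.range (mulMap f m t hf ht) := by
    ext ⟨g, hg⟩
    simp only [LinearMap.mem_ker, LinearMap.comp_apply, Submodule.subtype_apply, LinearMap.mem_range,
      Subtype.exists]
    rw [hπ, AlgHom.toLinearMap_apply, Ideal.Quotient.mkₐ_eq_mk, Ideal.Quotient.eq_zero_iff_mem,
      Ideal.mem_span_singleton']
    constructor
    · rintro ⟨h, hh⟩
      refine ⟨homogeneousComponent (t - m) h, homogeneousComponent_mem _ _, ?_⟩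
      apply Subtype.ext
      simp only [mulMap, LinearMap.coe_mk, AddHom.coe_mk]
      rw [← homogeneousComponent_mul_of_left f h m t hf ht, mul_comm, hh]
      exact homogeneousComponent_of_mem hg |>.trans (by simp)
    · rintro ⟨h, hh, hh2⟩
      refine ⟨h, ?_⟩
      have := congrArg Subtype.val hh2
      simp only [mulMap, LinearMap.coe_mk, AddHom.coe_mk] at this
      rw [mul_comm]; exact this
  have h4 : Function.Injective (mulMap f m t hf ht) := by
    intro a b hab
    have := congrArg Subtype.val hab
    simp only [mulMap, LinearMap.coe_mk, AddHom.coe_mk] at this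
    exact Subtype.ext (mul_left_cancel₀ hf0 this)
  rw [h1]
  rw [h3, LinearMap.finrank_range_of_inj h4, finrank_homogeneousSubmodule,
    finrank_homogeneousSubmodule] at h2
  rw [show t + r - m = t - m + r by omega]
  omega

end Groth.Agent.H2.HypHilb
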