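import Mathlib
import Groth.Agent.Lib.Helper2.CInt1
import Groth.Agent.Lib.Helper2.HypHilb
import Groth.Agent.Lib.Helper2.HilbDim5

/-! Lower bound for the Hilbert function of an irreducible projective scheme in low degree.
(helper2, Fano S15247) -/

set_option autoImplicit false
universe u

open MvPolynomial

namespace Groth.Agent.H2.FanoCodim
open Groth.Agent.H2.HilbHyper Groth.Agent.H2.HilbDim Groth.Agent.H2.GrCI Groth.Agent.H2.CInt

theorem choose_ge (N j : ℕ) (h1 : 1 ≤ j) (h2 : j + 1 ≤ N) : N ≤ N.choose j := by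
  induction N generalizing j with
  | zero => omega
  | succ N ih =>
    obtain ⟨j', rfl⟩ : ∃ j', j = j' + 1 := ⟨j - 1, by omega⟩
    rw [Nat.choose_succ_succ']
    by_cases hj0 : j' = 0
    · subst hj0
      simp
    · by_cases hjN : j' + 1 = N
      · rw [← hjN]
        simp
      · have e1 := ih j' (by omega) (by omega)
        have e2 := ih (j' + 1) (by omega) (by omega)
        omega

section main
variable (k : Type u) [Field k] (m d : ℕ) (hd : 1 ≤ d) (hdm : d + 1 ≤ m)
  (I : Ideal (MvPolynomial (Fin (m + 1)) k)) (hirr : I.radical.IsPrime)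
  (hdim : ringKrullDim (MvPolynomial (Fin (m + 1)) k ⧸ I) = ((m + 1 - d : ℕ) : WithBot ℕ∞))

local notation "S" => MvPolynomial (Fin (m + 1)) k

include hd hdm hirr hdim in
theorem hN_radical_ge :
    m + 1 ≤ hN (homogeneousSubmodule (Fin (m + 1)) k) I.radical (d + 1) := by
  classical
  set P := I.radical with hP
  haveI : P.IsPrime := hirr
  obtain ⟨δ', hδ'⟩ : ∃ δ', m + 1 - d = δ' + 1 := ⟨m - d, by omega⟩
  have hdimP : ringKrullDim (S ⧸ P) = ((δ' + 1 : ℕ) : WithBot ℕ∞) := by
    rw [← hδ', ← hdim]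
    apply le_antisymm
    · exact ringKrullDim_quotient_mono Ideal.le_radical
    · apply ringKrullDim_quotient_le_of_forall_prime
      intro Q hQ hIQ
      exact ringKrullDim_quotient_mono (hQ.radical_le_iff.mpr hIQ)
  obtain ⟨s, hs1, hs2⟩ := DimFG.exists_dim_eq_trdeg k (S ⧸ P)
  have hsδ : s = δ' + 1 := by
    rw [hdimP] at hs1
    exact_mod_cast hs1.symm
  set xb : Fin (m + 1) → S ⧸ P := fun i => Ideal.Quotient.mk P (X i) with hxb
  have hadj : Algebra.adjoin k (Set.range xb) = ⊤ := by
    have h1 : (Algebra.adjoin k (Set.range (X : Fin (m + 1) → S))).map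
        (Ideal.Quotient.mkₐ k P) = ⊤ := by
      rw [MvPolynomial.adjoin_range_X, Algebra.map_top]
      exact (AlgHom.range_eq_top _).mpr Ideal.Quotient.mk_surjective
    rw [AlgHom.map_adjoin, ← Set.range_comp] at h1
    exact h1
  haveI : Algebra.IsAlgebraic (Algebra.adjoin k (Set.range xb)) (S ⧸ P) := by
    constructor
    intro a
    have ha : a ∈ Algebra.adjoin k (Set.range xb) := by rw [hadj]; trivial
    exact isAlgebraic_algebraMap (⟨a, ha⟩ : Algebra.adjoin k (Set.range xb))
  obtain ⟨t, hts, htb⟩ := exists_isTranscendenceBasis_subset (R := k) (Set.range xb)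
  have hcard : Cardinal.mk t = ((δ' + 1 : ℕ) : Cardinal) := by
    rw [htb.cardinalMk_eq_trdeg, hs2, hsδ]
  obtain ⟨e⟩ := Cardinal.mk_eq_nat_iff.mp hcard
  have hy : ∀ i : Fin (δ' + 1), ∃ j : Fin (m + 1), xb j = ((e.symm i : t) : S ⧸ P) :=
    fun i => hts (e.symm i).2
  choose σ hσ using hy
  have hind : AlgebraicIndependent k (fun i : Fin (δ' + 1) => xb (σ i)) := by
    have := htb.1.comp e.symm e.symm.injective
    convert this using 1
    ext i
    exact hσ i
  set ψ : MvPolynomial (Fin (δ' + 1)) k →ₐ[k] S := rename σ with hψ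
  have hφ : ∀ p, Ideal.Quotient.mk P (ψ p) = aeval (fun i => xb (σ i)) p := by
    intro p
    have : (Ideal.Quotient.mkₐ k P).comp ψ = aeval (fun i => xb (σ i)) := by
      apply MvPolynomial.algHom_ext
      intro i
      simp [hψ, hxb]
    exact DFunLike.congr_fun this p
  set T := d + 1 with hT
  haveI hfinS : ∀ u, FiniteDimensional k (homogeneousSubmodule (Fin (m + 1)) k u) :=
    hfin_mvPolynomial k (Fin (m + 1))
  let Λ : ↥(homogeneousSubmodule (Fin (δ' + 1)) k T) →ₗ[k]
      ↥(Submodule.map (Ideal.Quotient.mkₐ k P).toLinearMap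
        (homogeneousSubmodule (Fin (m + 1)) k T)) :=
    LinearMap.codRestrict _
      ((Ideal.Quotient.mkₐ k P).toLinearMap ∘ₗ ψ.toLinearMap ∘ₗ
        (homogeneousSubmodule (Fin (δ' + 1)) k T).subtype)
      (fun p => ⟨ψ p, (IsHomogeneous.rename_isHomogeneous p.2), rfl⟩)
  have hΛinj : Function.Injective Λ := by
    intro p q hpq
    have h1 : Ideal.Quotient.mk P (ψ p) = Ideal.Quotient.mk P (ψ q) :=
      congrArg Subtype.val hpq
    rw [hφ, hφ] at h1
    exact Subtype.ext (hind h1)
  have h1 := LinearMap.finrank_le_finrank_of_injective hΛinj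
  rw [HypHilb.finrank_homogeneousSubmodule] at h1
  have h2 : m + 1 ≤ (T + δ').choose δ' := by
    have : T + δ' = m + 1 := by omega
    rw [this]
    exact choose_ge (m + 1) δ' (by omega) (by omega)
  exact h2.trans h1

include hd hdm hirr hdim in
/-- **S15247** -/
theorem codim_ge :
    m + 1 + Module.finrank k ↥(homogeneousSubmodule (Fin (m + 1)) k (d + 1) ⊓
        Submodule.restrictScalars k I) ≤
      Module.finrank k ↥(homogeneousSubmodule (Fin (m + 1)) k (d + 1)) := by
  have h := hN_radical_ge k m d hd hdm I hirr hdim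
  have hfinS : ∀ u, FiniteDimensional k (homogeneousSubmodule (Fin (m + 1)) k u) :=
    hfin_mvPolynomial k (Fin (m + 1))
  have h2 := hN_add_finrank (homogeneousSubmodule (Fin (m + 1)) k) hfinS I.radical (d + 1)
  have hle : homogeneousSubmodule (Fin (m + 1)) k (d + 1) ⊓ Submodule.restrictScalars k I ≤
      Submodule.restrictScalars k I.radical ⊓ homogeneousSubmodule (Fin (m + 1)) k (d + 1) := by
    rintro x ⟨hx1, hx2⟩
    exact ⟨Ideal.le_radical hx2, hx1⟩
  haveI : FiniteDimensional k ↥(Submodule.restrictScalars k I.radical ⊓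
      homogeneousSubmodule (Fin (m + 1)) k (d + 1)) :=
    Submodule.finiteDimensional_inf_right _ _
  have h3 := LinearMap.finrank_le_finrank_of_injective (Submodule.inclusion_injective hle)
  omega

end main

end Groth.Agent.H2.FanoCodim
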