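import Mathlib

/-!
# Farkas' lemma over an arbitrary ordered field (helper2)

* `farkas`: a vector outside the cone generated by a finite family is separated by a functional.
* `exists_separating`: strict separation of a point from the convex hull of finitely many points.
Mathlib only has the real (topological) versions.
-/

set_option autoImplicit false
namespace Groth.Agent.H2.Farkas
open Module

variable {R : Type*} [Field R] [LinearOrder R] [IsStrictOrderedRing R]
  {V : Type*} [AddCommGroup V] [Module R V]

/-- a nonzero vector is detected by a linear functional taking a negative value -/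
lemma exists_dual_neg {y : V} (hy : y ≠ 0) : ∃ f : Dual R V, f y < 0 := by
  obtain ⟨g, hg⟩ : ∃ g : Dual R V, g y ≠ 0 := by
    by_contra h
    push Not at h
    exact hy ((Module.forall_dual_apply_eq_zero_iff R y).mp h)
  rcases lt_or_gt_of_ne hg with h | h
  · exact ⟨g, h⟩
  · refine ⟨-g, ?_⟩
    change -(g y) < 0
    exact neg_lt_zero.mpr h

/-- **Farkas' lemma** for a finite family of generators over an ordered field: a vector outside the
cone generated by `v i`, `i ∈ s`, is separated from it by a linear functional. -/
theorem farkas {ι : Type*} [DecidableEq ι] (s : Finset ι) :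
    ∀ (v : ι → V) (y : V),
      (¬ ∃ c : ι → R, (∀ i, 0 ≤ c i) ∧ y = ∑ i ∈ s, c i • v i) →
      ∃ f : Dual R V, (∀ i ∈ s, 0 ≤ f (v i)) ∧ f y < 0 := by
  induction s using Finset.induction_on with
  | empty =>
    intro v y hy
    have hy0 : y ≠ 0 := by
      intro h
      exact hy ⟨fun _ => 0, fun _ => le_rfl, by simp [h]⟩
    obtain ⟨f, hf⟩ := exists_dual_neg (R := R) hy0
    exact ⟨f, by simp, hf⟩
  | insert a s ha ih =>
    intro v y hy
    -- first separate from the smaller cone
    have hy' : ¬ ∃ c : ι → R, (∀ i, 0 ≤ c i) ∧ y = ∑ i ∈ s, c i • v i := by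
      rintro ⟨c, hc, hyc⟩
      refine hy ⟨fun i => if i = a then 0 else c i, fun i => ?_, ?_⟩
      · dsimp only
        split_ifs
        · exact le_rfl
        · exact hc i
      · rw [Finset.sum_insert ha]
        dsimp only
        rw [if_pos rfl, zero_smul, zero_add, hyc]
        refine Finset.sum_congr rfl fun i hi => ?_
        rw [if_neg (by rintro rfl; exact ha hi)]
    obtain ⟨f, hf, hfy⟩ := ih v y hy'
    by_cases hfa : 0 ≤ f (v a)
    · refine ⟨f, fun i hi => ?_, hfy⟩
      rcases Finset.mem_insert.mp hi with rfl | hi
      · exact hfa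
      · exact hf i hi
    · push Not at hfa
      -- project along `v a` onto the kernel of `f`
      have hne : f (v a) ≠ 0 := hfa.ne
      let μ : ι → R := fun i => -(f (v i)) / f (v a)
      have hμ : ∀ i ∈ s, 0 ≤ μ i := fun i hi =>
        div_nonneg_of_nonpos (neg_nonpos.mpr (hf i hi)) hfa.le
      let v' : ι → V := fun i => v i + μ i • v a
      let ν : R := f y / f (v a)
      have hν : 0 < ν := div_pos_of_neg_of_neg hfy hfa
      let y' : V := y - ν • v a
      have hfv' : ∀ i, f (v' i) = 0 := fun i => by
        simp only [v', μ, map_add, map_smul, smul_eq_mul]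
        field_simp
        ring
      have hfy' : f y' = 0 := by
        simp only [y', ν, map_sub, map_smul, smul_eq_mul]
        field_simp
        ring
      have hy'' : ¬ ∃ c : ι → R, (∀ i, 0 ≤ c i) ∧ y' = ∑ i ∈ s, c i • v' i := by
        rintro ⟨c, hc, hyc⟩
        refine hy ⟨fun i => if i = a then ν + ∑ j ∈ s, c j * μ j else c i, fun i => ?_, ?_⟩
        · dsimp only
          split_ifs
          · exact add_nonneg hν.le (Finset.sum_nonneg fun j hj => mul_nonneg (hc j) (hμ j hj))
          · exact hc i
        · rw [Finset.sum_insert ha]
          dsimp only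
          rw [if_pos rfl]
          have h1 : ∑ i ∈ s, (if i = a then ν + ∑ j ∈ s, c j * μ j else c i) • v i =
              ∑ i ∈ s, c i • v i :=
            Finset.sum_congr rfl fun i hi => by rw [if_neg (by rintro rfl; exact ha hi)]
          rw [h1]
          have h2 : y = y' + ν • v a := by simp only [y']; abel
          rw [h2, hyc]
          simp only [v', smul_add, Finset.sum_add_distrib, add_smul, Finset.sum_smul, smul_smul]
          abel
      obtain ⟨g, hg, hgy⟩ := ih v' y' hy''
      let h : Dual R V := g - (g (v a) / f (v a)) • f
      have hha : h (v a) = 0 := by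
        simp only [h, LinearMap.sub_apply, LinearMap.smul_apply, smul_eq_mul]
        field_simp
        ring
      have hhv' : ∀ i, h (v' i) = g (v' i) := fun i => by
        simp only [h, LinearMap.sub_apply, LinearMap.smul_apply, smul_eq_mul, hfv', mul_zero,
          sub_zero]
      have hhv : ∀ i, h (v i) = h (v' i) := fun i => by
        simp only [v', map_add, map_smul, hha, smul_zero, add_zero]
      refine ⟨h, fun i hi => ?_, ?_⟩
      · rcases Finset.mem_insert.mp hi with rfl | hi
        · rw [hha]
        · rw [hhv, hhv']; exact hg i hi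
      · have : h y = g y' := by
          have h2 : y = y' + ν • v a := by simp only [y']; abel
          rw [h2, map_add, map_smul, hha, smul_zero, add_zero]
          simp only [h, LinearMap.sub_apply, LinearMap.smul_apply, smul_eq_mul, hfy', mul_zero,
            sub_zero]
        rw [this]; exact hgy

/-- a point outside the convex hull of finitely many points is strictly separated from them by a
linear functional (over any ordered field) -/
theorem exists_separating {ι : Type*} (s : Finset ι) (p : ι → V) (y : V)
    (hy : y ∉ convexHull R (p '' (s : Set ι))) :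
    ∃ f : Dual R V, ∀ i ∈ s, f y < f (p i) := by
  classical
  have hcone : ¬ ∃ c : ι → R, (∀ i, 0 ≤ c i) ∧
      ((y, (1 : R)) : V × R) = ∑ i ∈ s, c i • ((p i, (1 : R)) : V × R) := by
    rintro ⟨c, hc, hyc⟩
    apply hy
    have h1 : y = ∑ i ∈ s, c i • p i := by
      have := congr_arg Prod.fst hyc
      simpa [Prod.fst_sum] using this
    have h2 : (1 : R) = ∑ i ∈ s, c i := by
      have := congr_arg Prod.snd hyc
      simpa [Prod.snd_sum] using this
    rw [h1]
    exact (convex_convexHull R _).sum_mem (fun i _ => hc i) h2.symm
      (fun i hi => subset_convexHull R _ ⟨i, hi, rfl⟩)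
  obtain ⟨F, hF, hFy⟩ := farkas s (fun i => ((p i, (1 : R)) : V × R)) (y, 1) hcone
  refine ⟨F.comp (LinearMap.inl R V R), fun i hi => ?_⟩
  have hdec : ∀ x : V, F (x, 1) = F.comp (LinearMap.inl R V R) x + F (0, 1) := by
    intro x
    rw [LinearMap.comp_apply, LinearMap.inl_apply, ← map_add]
    simp
  have h1 := hF i hi
  rw [hdec] at h1 hFy
  linarith

end Groth.Agent.H2.Farkas
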