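import Mathlib
import Groth.Prelude.Def_Exal

/-! Helper2: Nagata idealization `R ⋉ M`, basic API (own type synonym over `TrivSqZeroExt`). -/

set_option autoImplicit false
universe u

namespace Groth.Agent.H2

attribute [local instance] Exal.opModule Exal.isCentralScalar_opModule

/-- Nagata idealization `R ⋉ M` -/
def Idl (R M : Type u) [CommRing R] [AddCommGroup M] [Module R M] : Type u := TrivSqZeroExt R M

namespace Idl

section Basic
variable {R M : Type u} [CommRing R] [AddCommGroup M] [Module R M]

noncomputable instance instCommRing : CommRing (Idl R M) :=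
  inferInstanceAs (CommRing (TrivSqZeroExt R M))

/-- the element `(r, m)` -/
def mk (r : R) (m : M) : Idl R M := ((r, m) : R × M)
/-- first component -/
def fst (x : Idl R M) : R := TrivSqZeroExt.fst x
/-- second component -/
def snd (x : Idl R M) : M := TrivSqZeroExt.snd x

@[simp] theorem fst_mk (r : R) (m : M) : fst (mk r m) = r := rfl
@[simp] theorem snd_mk (r : R) (m : M) : snd (mk r m) = m := rfl

@[ext] theorem ext {x y : Idl R M} (h1 : fst x = fst y) (h2 : snd x = snd y) : x = y :=
  TrivSqZeroExt.ext h1 h2

theorem mk_fst_snd (x : Idl R M) : mk (fst x) (snd x) = x := rfl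

@[simp] theorem fst_zero : fst (0 : Idl R M) = 0 := rfl
@[simp] theorem snd_zero : snd (0 : Idl R M) = 0 := rfl
@[simp] theorem fst_one : fst (1 : Idl R M) = 1 := rfl
@[simp] theorem snd_one : snd (1 : Idl R M) = 0 := rfl
@[simp] theorem fst_add (x y : Idl R M) : fst (x + y) = fst x + fst y := rfl
@[simp] theorem snd_add (x y : Idl R M) : snd (x + y) = snd x + snd y := rfl
@[simp] theorem fst_neg (x : Idl R M) : fst (-x) = -fst x := rfl
@[simp] theorem snd_neg (x : Idl R M) : snd (-x) = -snd x := rfl
@[simp] theorem fst_sub (x y : Idl R M) : fst (x - y) = fst x - fst y := rfl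
@[simp] theorem snd_sub (x y : Idl R M) : snd (x - y) = snd x - snd y := rfl
@[simp] theorem fst_mul (x y : Idl R M) : fst (x * y) = fst x * fst y := rfl
@[simp] theorem snd_mul (x y : Idl R M) : snd (x * y) = fst x • snd y + fst y • snd x := rfl

/-- the projection to `R` -/
def fstHom : Idl R M →+* R where
  toFun := fst
  map_one' := rfl
  map_mul' _ _ := rfl
  map_zero' := rfl
  map_add' _ _ := rfl

/-- the inclusion of `R` -/
def inlHom : R →+* Idl R M where
  toFun r := mk r 0
  map_one' := rfl
  map_mul' a b := by ext <;> simp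
  map_zero' := rfl
  map_add' a b := by ext <;> simp

/-- the inclusion of `M` -/
def inr : M →+ Idl R M where
  toFun m := mk 0 m
  map_zero' := rfl
  map_add' a b := by ext <;> simp

@[simp] theorem fstHom_apply (x : Idl R M) : fstHom x = fst x := rfl
@[simp] theorem fst_inlHom (r : R) : fst (inlHom (M := M) r) = r := rfl
@[simp] theorem snd_inlHom (r : R) : snd (inlHom (M := M) r) = 0 := rfl
@[simp] theorem fst_inr (m : M) : fst (inr (R := R) m) = 0 := rfl
@[simp] theorem snd_inr (m : M) : snd (inr (R := R) m) = m := rfl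

theorem fstHom_surjective : Function.Surjective (fstHom (R := R) (M := M)) :=
  fun r => ⟨inlHom r, rfl⟩

theorem eq_inl_add_inr (x : Idl R M) : x = inlHom (fst x) + inr (snd x) := by
  ext <;> simp

theorem inlHom_mul_inr (r : R) (m : M) : inlHom r * inr m = inr (r • m) := by
  ext <;> simp

theorem mul_inr (x : Idl R M) (m : M) : x * inr m = inr (fst x • m) := by
  ext <;> simp

theorem inr_mul_inr (m m' : M) : (inr m : Idl R M) * inr m' = 0 := by
  ext <;> simp

theorem isUnit_iff {x : Idl R M} : IsUnit x ↔ IsUnit (fst x) :=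
  TrivSqZeroExt.isUnit_iff_isUnit_fst

instance isLocalHom_fstHom : IsLocalHom (fstHom (R := R) (M := M)) :=
  ⟨fun _ h => isUnit_iff.mpr h⟩

instance instIsLocalRing [IsLocalRing R] : IsLocalRing (Idl R M) :=
  (fstHom (R := R) (M := M)).domain_isLocalRing

theorem mem_maximalIdeal_iff [IsLocalRing R] (x : Idl R M) :
    x ∈ IsLocalRing.maximalIdeal (Idl R M) ↔ fst x ∈ IsLocalRing.maximalIdeal R := by
  rw [IsLocalRing.mem_maximalIdeal, IsLocalRing.mem_maximalIdeal, mem_nonunits_iff,
    mem_nonunits_iff, isUnit_iff]

end Basic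

section Map
variable {R M R' M' : Type u} [CommRing R] [AddCommGroup M] [Module R M]
  [CommRing R'] [AddCommGroup M'] [Module R' M']

/-- functoriality of the idealization along a semilinear map -/
def map (ρ : R →+* R') (μ : M →+ M') (h : ∀ (r : R) (m : M), μ (r • m) = ρ r • μ m) :
    Idl R M →+* Idl R' M' where
  toFun x := mk (ρ (fst x)) (μ (snd x))
  map_one' := by ext <;> simp
  map_mul' a b := by ext <;> simp [h]
  map_zero' := by ext <;> simp
  map_add' a b := by ext <;> simp

@[simp] theorem fst_map (ρ : R →+* R') (μ : M →+ M')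
    (h : ∀ (r : R) (m : M), μ (r • m) = ρ r • μ m) (x : Idl R M) :
    fst (map ρ μ h x) = ρ (fst x) := rfl

@[simp] theorem snd_map (ρ : R →+* R') (μ : M →+ M')
    (h : ∀ (r : R) (m : M), μ (r • m) = ρ r • μ m) (x : Idl R M) :
    snd (map ρ μ h x) = μ (snd x) := rfl

theorem map_surjective (ρ : R →+* R') (μ : M →+ M')
    (h : ∀ (r : R) (m : M), μ (r • m) = ρ r • μ m) (hρ : Function.Surjective ρ)
    (hμ : Function.Surjective μ) : Function.Surjective (map ρ μ h) := by
  intro y
  obtain ⟨r, hr⟩ := hρ (fst y)
  obtain ⟨m, hm⟩ := hμ (snd y)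
  exact ⟨mk r m, by ext <;> simp [hr, hm]⟩

/-- an equivalence of idealizations from a semilinear equivalence -/
noncomputable def mapEquiv (ρ : R ≃+* R') (μ : M ≃+ M') (h : ∀ (r : R) (m : M), μ (r • m) = ρ r • μ m) :
    Idl R M ≃+* Idl R' M' :=
  RingEquiv.ofBijective (map ρ.toRingHom μ.toAddMonoidHom h) (by
    constructor
    · intro x y hxy
      have h1 := congrArg fst hxy
      have h2 := congrArg snd hxy
      simp only [fst_map, snd_map] at h1 h2
      ext
      · exact ρ.injective h1
      · exact μ.injective h2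
    · exact map_surjective _ _ _ ρ.surjective μ.surjective)

end Map

section Alg
variable {A R M : Type u} [CommRing A] [CommRing R] [Algebra A R] [AddCommGroup M] [Module R M]

noncomputable instance instAlgebra : Algebra A (Idl R M) :=
  ((inlHom (R := R) (M := M)).comp (algebraMap A R)).toAlgebra

theorem algebraMap_def (a : A) : algebraMap A (Idl R M) a = inlHom (algebraMap A R a) := rfl

@[simp] theorem fst_algebraMap (a : A) : fst (algebraMap A (Idl R M) a) = algebraMap A R a := rfl
@[simp] theorem snd_algebraMap (a : A) : snd (algebraMap A (Idl R M) a) = 0 := rfl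

theorem fst_smul (a : A) (x : Idl R M) : fst (a • x) = a • fst x := by
  rw [Algebra.smul_def, fst_mul, fst_algebraMap, Algebra.smul_def]

theorem snd_smul' (a : A) (x : Idl R M) : snd (a • x) = algebraMap A R a • snd x := by
  rw [Algebra.smul_def, snd_mul, fst_algebraMap, snd_algebraMap, smul_zero, add_zero]

theorem snd_smul [Module A M] [IsScalarTower A R M] (a : A) (x : Idl R M) :
    snd (a • x) = a • snd x := by
  rw [snd_smul', algebraMap_smul]

/-- the idealization is `R × M` as a module -/
noncomputable def prodEquiv [Module A M] [IsScalarTower A R M] : Idl R M ≃ₗ[A] R × M where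
  toFun x := (fst x, snd x)
  invFun p := mk p.1 p.2
  left_inv _ := rfl
  right_inv _ := rfl
  map_add' _ _ := rfl
  map_smul' a x := by
    simp only [RingHom.id_apply, Prod.smul_mk]
    rw [fst_smul, snd_smul]

end Alg

end Idl

end Groth.Agent.H2
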