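import Mathlib
import Groth.Prelude.Def_EGA4b
import Groth.Agent.Lib.Helper6.DepthKit
import Groth.Agent.Lib.Helper6.DepthKer
import Groth.Agent.Lib.Helper6.DepthLocalHom
import Groth.Agent.Lib.Helper6.LCArtinian
import Groth.Agent.Lib.Helper1.AusBuch

/-! Helper2: depth lemma, torsion submodules, generic vanishing. -/

set_option autoImplicit false
set_option linter.style.haveILetI false

universe u

namespace Groth.Agent.H2.NFGen

open Groth.Agent.H6

section DepthLemma

variable {R : Type u} [CommRing R] [IsNoetherianRing R] [IsLocalRing R]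
  {N₁ N₂ N₃ : Type u} [AddCommGroup N₁] [Module R N₁] [AddCommGroup N₂] [Module R N₂]
  [AddCommGroup N₃] [Module R N₃] [Module.Finite R N₁] [Module.Finite R N₂] [Module.Finite R N₃]
  (f : N₁ →ₗ[R] N₂) (g : N₂ →ₗ[R] N₃)

/-- the depth lemma: `depth N₁ = s < depth N₃` forces `depth N₂ = s` -/
theorem depth_mid_of_lt (hf : Function.Injective f) (hg : Function.Surjective g)
    (hex : Function.Exact f g) (s : ℕ) (h1 : LocCoh.depth R N₁ = s)
    (h3 : ((s + 1 : ℕ) : ℕ∞) ≤ LocCoh.depth R N₃) : LocCoh.depth R N₂ = s := by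
  unfold LocCoh.depth at *
  rw [Depth.idealDepth_eq_coe_iff] at h1 ⊢
  rw [Depth.le_idealDepth_iff] at h3
  refine ⟨fun i hi => Depth.subsingleton_mid f g _ i hf hg hex (h1.1 i hi) (h3 i (by omega)), ?_⟩
  by_contra hcon
  rw [not_nontrivial_iff_subsingleton] at hcon
  have hsub : Subsingleton (LocCoh.H (IsLocalRing.maximalIdeal R) s N₁) := by
    cases s with
    | zero => exact Depth.subsingleton_left_zero f _ hf hcon
    | succ j =>
      exact Depth.subsingleton_left_succ f g _ j hf hg hex hcon (h3 j (by omega))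
  haveI := h1.2
  exact not_subsingleton _ hsub

omit [IsNoetherianRing R] [Module.Finite R N₁] [Module.Finite R N₂] [Module.Finite R N₃] in
/-- if the sub is zero, the depths of the middle and the quotient agree -/
theorem depth_eq_of_subsingleton_left (hg : Function.Surjective g)
    (hex : Function.Exact f g) [Subsingleton N₁] : LocCoh.depth R N₂ = LocCoh.depth R N₃ := by
  have hinj : Function.Injective g := by
    rw [← LinearMap.ker_eq_bot, hex.linearMap_ker_eq, LinearMap.range_eq_bot]
    exact Subsingleton.elim _ _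
  exact Groth.Agent.H1.AB.depth_eq_of_linearEquiv (LinearEquiv.ofBijective g ⟨hinj, hg⟩)

/-- the residue field has depth zero -/
theorem depth_quotient_maximalIdeal :
    LocCoh.depth R (R ⧸ IsLocalRing.maximalIdeal R) = 0 := by
  rw [← ENat.lt_one_iff_eq_zero, lt_iff_not_ge]
  intro h
  unfold LocCoh.depth at h
  rw [Depth.one_le_idealDepth_iff, Depth.subsingleton_H_zero_iff] at h
  have h1 : (1 : R ⧸ IsLocalRing.maximalIdeal R) ∈
      DRing.torsionSub (IsLocalRing.maximalIdeal R) (R ⧸ IsLocalRing.maximalIdeal R) := by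
    refine ⟨1, fun a ha => ?_⟩
    rw [pow_one] at ha
    rw [Algebra.smul_def, mul_one]
    exact Ideal.Quotient.eq_zero_iff_mem.mpr ha
  rw [h, Submodule.mem_bot] at h1
  exact one_ne_zero h1

end DepthLemma

section Torsion

variable {A : Type u} [CommRing A] [IsNoetherianRing A] (p : Ideal A)
  (M : Type u) [AddCommGroup M] [Module A M] [Module.Finite A M]

/-- a power of `p` kills the `p`-power torsion of a finite module -/
theorem exists_pow_smul_torsionSub :
    ∃ k : ℕ, p ^ k • (⊤ : Submodule A ↥(DRing.torsionSub p M)) = ⊥ := by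
  have hfg : (DRing.torsionSub p M).FG := IsNoetherian.noetherian _
  obtain ⟨s, hs⟩ := hfg
  classical
  have hex : ∀ m ∈ s, ∃ n : ℕ, ∀ a ∈ p ^ n, a • m = 0 := by
    intro m hm
    have : m ∈ DRing.torsionSub p M := hs ▸ Submodule.subset_span hm
    exact this
  choose! n hn using hex
  refine ⟨s.sup n, ?_⟩
  rw [eq_bot_iff, Submodule.smul_le]
  intro a ha x _
  rw [Submodule.mem_bot]
  apply Subtype.ext
  rw [Submodule.coe_smul, Submodule.coe_zero]
  have hx : x.1 ∈ Submodule.span A (s : Set M) := by rw [hs]; exact x.2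
  refine Submodule.span_induction (p := fun y _ => a • y = 0) ?_ ?_ ?_ ?_ hx
  · intro m hm
    exact hn m hm a (Ideal.pow_le_pow_right (Finset.le_sup hm) ha)
  · exact smul_zero a
  · intro y z _ _ hy hz
    rw [smul_add, hy, hz, add_zero]
  · intro c y _ hy
    rw [smul_comm, hy, smul_zero]

omit [IsNoetherianRing A] [Module.Finite A M] in
/-- the quotient by the `p`-power torsion has no `p`-power torsion -/
theorem torsionSub_quotient_eq_bot (hfg : p.FG) :
    DRing.torsionSub p (M ⧸ DRing.torsionSub p M) = ⊥ := by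
  rw [eq_bot_iff]
  intro y hy
  obtain ⟨m, rfl⟩ := Submodule.mkQ_surjective _ y
  obtain ⟨j, hj⟩ := hy
  rw [Submodule.mem_bot, Submodule.mkQ_apply, Submodule.Quotient.mk_eq_zero]
  -- each `a • m`, `a ∈ pʲ`, is torsion; `pʲ` is finitely generated
  have hfgj : (p ^ j).FG := hfg.pow
  obtain ⟨t, ht⟩ := hfgj
  classical
  have hex : ∀ a ∈ t, ∃ n : ℕ, ∀ b ∈ p ^ n, b • (a • m) = 0 := by
    intro a ha
    have ha' : a ∈ p ^ j := ht ▸ Ideal.subset_span ha
    have := hj a ha'
    rw [Submodule.mkQ_apply, ← Submodule.Quotient.mk_smul, Submodule.Quotient.mk_eq_zero] at this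
    exact this
  choose! n hn using hex
  refine ⟨t.sup n + j, fun c hc => ?_⟩
  rw [pow_add] at hc
  refine Submodule.mul_induction_on hc ?_ ?_
  · intro b hb a ha
    rw [mul_smul]
    have ha' : a ∈ Ideal.span (t : Set A) := ht ▸ ha
    refine Submodule.span_induction (p := fun a' _ => b • a' • m = 0) ?_ ?_ ?_ ?_ ha'
    · intro a' ha'
      exact hn a' ha' b (Ideal.pow_le_pow_right (Finset.le_sup ha') hb)
    · rw [zero_smul, smul_zero]
    · intro y z _ _ hy hz
      rw [add_smul, smul_add, hy, hz, add_zero]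
    · intro c' y _ hy
      rw [smul_eq_mul, mul_smul, smul_comm b c', hy, smul_zero]
  · intro y z hy hz
    rw [add_smul, hy, hz, add_zero]

omit [IsNoetherianRing A] in
/-- generic vanishing: a finite module vanishing at `p` vanishes on a basic open neighbourhood -/
theorem exists_forall_notMem_support (p' : PrimeSpectrum A) (h : p' ∉ Module.support A M) :
    ∃ f : A, f ∉ p'.asIdeal ∧ ∀ q : PrimeSpectrum A, f ∉ q.asIdeal → q ∉ Module.support A M := by
  rw [Module.mem_support_iff_of_finite, SetLike.not_le_iff_exists] at h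
  obtain ⟨f, hf, hfp⟩ := h
  refine ⟨f, hfp, fun q hfq hq => ?_⟩
  rw [Module.mem_support_iff_of_finite] at hq
  exact hfq (hq hf)

end Torsion

end Groth.Agent.H2.NFGen
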