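import Mathlib
import Groth.Agent.Lib.Helper2.IdlA
import Groth.Agent.Lib.Helper2.NFGen4
import Groth.Agent.Lib.Helper1.CMFib
import Groth.Agent.Lib.Helper1.CodepthAlg

/-! Helper2: Nagata idealization: dimension and depth of `R ⋉ N`. -/

set_option autoImplicit false
universe u

namespace Groth.Agent.H2.Idl

open Groth.Agent.H6

section Dim
variable {R N : Type u} [CommRing R] [AddCommGroup N] [Module R N]

theorem prime_eq_comap (𝔮 : Ideal (Idl R N)) [h𝔮 : 𝔮.IsPrime] :
    𝔮 = (𝔮.comap (inlHom (M := N))).comap (fstHom (M := N)) := by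
  ext x
  simp only [Ideal.mem_comap, fstHom_apply]
  have hinr : inr (snd x) ∈ 𝔮 := by
    apply h𝔮.mem_of_pow_mem 2
    rw [pow_two, inr_mul_inr]
    exact 𝔮.zero_mem
  constructor
  · intro hx
    have : inlHom (fst x) = x - inr (snd x) := by
      ext <;> simp
    rw [this]
    exact 𝔮.sub_mem hx hinr
  · intro hx
    rw [eq_inl_add_inr x]
    exact 𝔮.add_mem hx hinr

theorem ringKrullDim_idl : ringKrullDim (Idl R N) = ringKrullDim R := by
  apply le_antisymm
  · have hmono : Monotone (PrimeSpectrum.comap (inlHom (R := R) (M := N))) :=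
      fun a b hab => Ideal.comap_mono hab
    have hinj : Function.Injective (PrimeSpectrum.comap (inlHom (R := R) (M := N))) := by
      intro a b hab
      apply PrimeSpectrum.ext
      rw [prime_eq_comap a.asIdeal, prime_eq_comap b.asIdeal]
      have : a.asIdeal.comap (inlHom (M := N)) = b.asIdeal.comap (inlHom (M := N)) :=
        congrArg PrimeSpectrum.asIdeal hab
      rw [this]
    exact Order.krullDim_le_of_strictMono _ (hmono.strictMono_of_injective hinj)
  · exact ringKrullDim_le_of_surjective (fstHom (R := R) (M := N)) fstHom_surjective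

end Dim

section Depth
variable {R N : Type u} [CommRing R] [IsLocalRing R] [IsNoetherianRing R] [AddCommGroup N]
  [Module R N] [Module.Finite R N]

instance instFinite : Module.Finite R (Idl R N) :=
  Module.Finite.equiv (prodEquiv (A := R) (R := R) (M := N)).symm

instance instIsNoetherianRing : IsNoetherianRing (Idl R N) :=
  Algebra.FiniteType.isNoetherianRing R (Idl R N)

set_option linter.style.haveILetI false in
theorem depth_idl [Nontrivial N]
    (hCM : ringKrullDim R = ((LocCoh.depth R R : ℕ∞) : WithBot ℕ∞)) :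
    LocCoh.depth (Idl R N) (Idl R N) = LocCoh.depth R N := by
  letI algTR : Algebra (Idl R N) R := (fstHom (R := R) (M := N)).toAlgebra
  letI modTN : Module (Idl R N) N := Module.compHom N (fstHom (R := R) (M := N))
  haveI : IsScalarTower (Idl R N) R N := IsScalarTower.of_algebraMap_smul (fun _ _ => rfl)
  have hsurj : Function.Surjective (algebraMap (Idl R N) R) := fstHom_surjective
  haveI : Module.Finite (Idl R N) R := Module.Finite.of_surjective (Algebra.linearMap (Idl R N) R) hsurj
  haveI : Module.Finite (Idl R N) N := Module.Finite.trans R N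
  have e1 : LocCoh.depth (Idl R N) N = LocCoh.depth R N :=
    Groth.Agent.H1.AB.depth_eq_of_surjective hsurj N
  have e2 : LocCoh.depth (Idl R N) R = LocCoh.depth R R :=
    Groth.Agent.H1.AB.depth_eq_of_surjective hsurj R
  let f : N →ₗ[Idl R N] Idl R N :=
    { toFun := fun n => inr n
      map_add' := fun a b => map_add _ a b
      map_smul' := fun x n => by
        change inr (fst x • n) = x * inr n
        rw [mul_inr] }
  let g : Idl R N →ₗ[Idl R N] R := Algebra.linearMap (Idl R N) R
  have hf : Function.Injective f := by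
    intro a b hab
    have := congrArg snd hab
    exact this
  have hg : Function.Surjective g := hsurj
  have hex : Function.Exact f g := by
    intro y
    constructor
    · intro hy
      refine ⟨snd y, ?_⟩
      have hy' : fst y = 0 := hy
      ext
      · exact hy'.symm
      · rfl
    · rintro ⟨n, rfl⟩
      rfl
  obtain ⟨s, hs, hsdim⟩ := Depth.exists_depth_eq (R := R) N
  obtain ⟨d, hd, -⟩ := Depth.exists_depth_eq (R := R) R
  have hsd : s ≤ d := by
    have h1 : ((s : ℕ) : WithBot ℕ∞) ≤ ringKrullDim R :=
      hsdim.trans (Module.supportDim_le_ringKrullDim R N)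
    rw [hCM, hd] at h1
    exact_mod_cast h1
  rw [hs]
  rcases Nat.lt_or_ge s d with hlt | hge
  · refine Groth.Agent.H2.NFGen.depth_mid_of_lt f g hf hg hex s (e1.trans hs) ?_
    rw [e2, hd]
    exact_mod_cast hlt
  · have hsd' : s = d := le_antisymm hsd hge
    subst hsd'
    apply le_antisymm
    · have h1 := Groth.Agent.H1.CMFib.depth_le_ringKrullDim (Idl R N)
      rw [ringKrullDim_idl, hCM, hd] at h1
      exact_mod_cast h1
    · have h1 : ((s : ℕ) : ℕ∞) ≤ LocCoh.depth (Idl R N) N := by rw [e1, hs]
      have h3 : ((s : ℕ) : ℕ∞) ≤ LocCoh.depth (Idl R N) R := by rw [e2, hd]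
      unfold LocCoh.depth at h1 h3 ⊢
      rw [Depth.le_idealDepth_iff] at h1 h3 ⊢
      intro i hi
      exact Depth.subsingleton_mid f g _ i hf hg hex (h1 i hi) (h3 i hi)

/-- codepth of the idealization, nonzero module -/
theorem cdr_idl_iff [Nontrivial N]
    (hCM : ringKrullDim R = ((LocCoh.depth R R : ℕ∞) : WithBot ℕ∞)) (c : ℕ) :
    Groth.Agent.H1.Codepth.CDr (Idl R N) c ↔
      ringKrullDim R ≤ ((LocCoh.depth R N : ℕ∞) : WithBot ℕ∞) + (c : WithBot ℕ∞) := by
  unfold Groth.Agent.H1.Codepth.CDr
  rw [ringKrullDim_idl, depth_idl hCM]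

/-- codepth of the idealization, zero module -/
theorem cdr_idl_of_subsingleton [Subsingleton N]
    (hCM : ringKrullDim R = ((LocCoh.depth R R : ℕ∞) : WithBot ℕ∞)) (c : ℕ) :
    Groth.Agent.H1.Codepth.CDr (Idl R N) c := by
  have hinj : Function.Injective (fstHom (R := R) (M := N)) := by
    intro a b hab
    ext
    · exact hab
    · exact Subsingleton.elim _ _
  let e : Idl R N ≃+* R := RingEquiv.ofBijective fstHom ⟨hinj, fstHom_surjective⟩
  rw [Groth.Agent.H1.Codepth.cdr_iff_of_ringEquiv e]
  unfold Groth.Agent.H1.Codepth.CDr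
  rw [hCM]
  exact le_add_of_nonneg_right (Nat.cast_nonneg c)

end Depth

end Groth.Agent.H2.Idl
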