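import Mathlib
import Groth.Agent.Lib.Helper2.IdlA

/-! Helper2: Nagata idealization: quotients and localizations. -/

set_option autoImplicit false
universe u

namespace Groth.Agent.H2.Idl

section Quot
variable {R M : Type u} [CommRing R] [AddCommGroup M] [Module R M] (J : Ideal R)

/-- the quotient map of idealizations -/
def quotMap : Idl R M →+* Idl (R ⧸ J) (M ⧸ J • (⊤ : Submodule R M)) :=
  map (Ideal.Quotient.mk J) (J • (⊤ : Submodule R M)).mkQ.toAddMonoidHom (fun _ _ => rfl)

@[simp] theorem fst_quotMap (x : Idl R M) :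
    fst (quotMap J x) = Ideal.Quotient.mk J (fst x) := rfl

@[simp] theorem snd_quotMap (x : Idl R M) :
    snd (quotMap J x) = (J • (⊤ : Submodule R M)).mkQ (snd x) := rfl

theorem quotMap_surjective : Function.Surjective (quotMap (M := M) J) :=
  map_surjective _ _ _ Ideal.Quotient.mk_surjective (Submodule.mkQ_surjective _)

theorem ker_quotMap : RingHom.ker (quotMap (M := M) J) = J.map (inlHom (M := M)) := by
  apply le_antisymm
  · intro x hx
    rw [RingHom.mem_ker] at hx
    have h1 : fst x ∈ J := by
      have := congrArg fst hx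
      rw [fst_quotMap, fst_zero] at this
      exact Ideal.Quotient.eq_zero_iff_mem.mp this
    have h2 : snd x ∈ J • (⊤ : Submodule R M) := by
      have := congrArg snd hx
      rw [snd_quotMap, snd_zero, Submodule.mkQ_apply, Submodule.Quotient.mk_eq_zero] at this
      exact this
    rw [eq_inl_add_inr x]
    refine Ideal.add_mem _ (Ideal.mem_map_of_mem _ h1) ?_
    refine Submodule.smul_induction_on h2 (fun j hj m _ => ?_) (fun a b ha hb => ?_)
    · rw [← inlHom_mul_inr]
      exact Ideal.mul_mem_right _ _ (Ideal.mem_map_of_mem _ hj)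
    · rw [map_add]
      exact Ideal.add_mem _ ha hb
  · rw [Ideal.map_le_iff_le_comap]
    intro j hj
    rw [Ideal.mem_comap, RingHom.mem_ker]
    ext
    · rw [fst_quotMap, fst_inlHom, fst_zero]
      exact Ideal.Quotient.eq_zero_iff_mem.mpr hj
    · rw [snd_quotMap, snd_inlHom, snd_zero, map_zero]

/-- `(R ⋉ M) / J(R ⋉ M) = (R/J) ⋉ (M/JM)` -/
noncomputable def quotEquiv :
    (Idl R M ⧸ J.map (inlHom (M := M))) ≃+* Idl (R ⧸ J) (M ⧸ J • (⊤ : Submodule R M)) :=
  (Ideal.quotEquivOfEq (ker_quotMap J).symm).trans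
    (RingHom.quotientKerEquivOfSurjective (quotMap_surjective J))

end Quot

section Loc
variable {R R' M M' : Type u} [CommRing R] [CommRing R'] [Algebra R R'] [AddCommGroup M]
  [Module R M] [AddCommGroup M'] [Module R M'] [Module R' M'] [IsScalarTower R R' M']

/-- the localization map of idealizations -/
def locMap (g : M →ₗ[R] M') : Idl R M →+* Idl R' M' :=
  map (algebraMap R R') g.toAddMonoidHom (fun r m => by
    change g (r • m) = algebraMap R R' r • g m
    rw [map_smul, algebraMap_smul])

@[simp] theorem fst_locMap (g : M →ₗ[R] M') (x : Idl R M) :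
    fst (locMap (R' := R') g x) = algebraMap R R' (fst x) := rfl

@[simp] theorem snd_locMap (g : M →ₗ[R] M') (x : Idl R M) :
    snd (locMap (R' := R') g x) = g (snd x) := rfl

/-- the idealization of a localization is the localization of the idealization -/
theorem isLocalization_locMap (S : Submonoid R) [IsLocalization S R'] (g : M →ₗ[R] M')
    [IsLocalizedModule S g] :
    @IsLocalization _ _ (S.comap (fstHom (R := R) (M := M))) (Idl R' M') _
      (locMap (R' := R') g).toAlgebra := by
  let _ : Algebra (Idl R M) (Idl R' M') := (locMap (R' := R') g).toAlgebra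
  have hal : ∀ x : Idl R M, algebraMap (Idl R M) (Idl R' M') x = locMap (R' := R') g x :=
    fun _ => rfl
  refine ⟨?_, ?_, ?_⟩
  · rintro ⟨y, hy⟩
    rw [hal, isUnit_iff, fst_locMap]
    exact IsLocalization.map_units R' (⟨fst y, hy⟩ : S)
  · intro z
    obtain ⟨⟨p, s⟩, hps⟩ := IsLocalization.surj S (fst z)
    obtain ⟨⟨m, s'⟩, hms⟩ := IsLocalizedModule.surj S g (snd z)
    refine ⟨⟨mk (p * s'.1) (s.1 • m), ⟨inlHom (s.1 * s'.1), ?_⟩⟩, ?_⟩
    · change fst (inlHom (M := M) (s.1 * s'.1)) ∈ S
      rw [fst_inlHom]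
      exact S.mul_mem s.2 s'.2
    · simp only [hal]
      ext
      · rw [fst_mul, fst_locMap, fst_locMap, fst_inlHom, fst_mk, map_mul, map_mul, ← mul_assoc]
        simp only at hps
        rw [hps]
      · rw [snd_mul, snd_locMap, snd_locMap, fst_locMap, snd_inlHom, snd_mk, fst_inlHom, map_zero,
          smul_zero, zero_add, algebraMap_smul R' (s.1 * s'.1) (snd z), mul_smul, map_smul]
        have hms' : s'.1 • snd z = g m := hms
        rw [hms']
  · intro x y hxy
    simp only [hal] at hxy
    have h1 := congrArg fst hxy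
    have h2 := congrArg snd hxy
    rw [fst_locMap, fst_locMap] at h1
    rw [snd_locMap, snd_locMap] at h2
    obtain ⟨c₁, hc₁⟩ := IsLocalization.exists_of_eq (M := S) h1
    obtain ⟨c₂, hc₂⟩ := IsLocalizedModule.exists_of_eq (S := S) h2
    refine ⟨⟨inlHom (c₁.1 * c₂.1), ?_⟩, ?_⟩
    · change fst (inlHom (M := M) (c₁.1 * c₂.1)) ∈ S
      rw [fst_inlHom]
      exact S.mul_mem c₁.2 c₂.2
    · ext
      · simp only [fst_mul, fst_inlHom]
        rw [mul_comm c₁.1 c₂.1, mul_assoc, mul_assoc, hc₁]
      · simp only [snd_mul, snd_inlHom, fst_inlHom, smul_zero]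
        rw [mul_smul, mul_smul]
        have hc₂' : c₂.1 • snd x = c₂.1 • snd y := hc₂
        rw [hc₂']

end Loc

end Groth.Agent.H2.Idl
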