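import Mathlib
import Groth.Prelude.Def_EGA4b
import Groth.Agent.Lib.Helper2.IdlB
import Groth.Agent.Lib.Helper9.Flat

/-! Helper2: Nagata idealization: fibre local rings of `P ⋉ M` over `A`. -/

set_option autoImplicit false
universe u

namespace Groth.Agent.H2.Idl

section Fib
variable {A P M : Type u} [CommRing A] [CommRing P] [Algebra A P] [AddCommGroup M] [Module P M]

/-- the prime of the idealization over a prime of the ring -/
noncomputable def liftPrime (𝔮 : Ideal P) : Ideal (Idl P M) := 𝔮.comap (fstHom (M := M))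

instance liftPrime_isPrime (𝔮 : Ideal P) [𝔮.IsPrime] : (liftPrime (M := M) 𝔮).IsPrime :=
  Ideal.IsPrime.comap _

theorem mem_liftPrime (𝔮 : Ideal P) (x : Idl P M) : x ∈ liftPrime (M := M) 𝔮 ↔ fst x ∈ 𝔮 :=
  Iff.rfl

theorem liftPrime_comap_algebraMap (𝔮 : Ideal P) :
    (liftPrime (M := M) 𝔮).comap (algebraMap A (Idl P M)) = 𝔮.comap (algebraMap A P) := by
  ext a
  rfl

set_option linter.style.haveILetI false in
/-- the fibre local ring of the idealization is the idealization of the fibre local module -/
theorem nonempty_fibLocRing_equiv (𝔮 : Ideal P) [𝔮.IsPrime] :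
    Nonempty (EGA4.FibLocRing A (Idl P M) (liftPrime (M := M) 𝔮) ≃+*
      Idl (EGA4.FibLocRing A P 𝔮) (EGA4.FibLocMod A P 𝔮 M)) := by
  let φ : Idl P M →+* Idl (Localization.AtPrime 𝔮) (LocalizedModule 𝔮.primeCompl M) :=
    locMap (R' := Localization.AtPrime 𝔮) (LocalizedModule.mkLinearMap 𝔮.primeCompl M)
  letI algCT : Algebra (Idl P M) (Idl (Localization.AtPrime 𝔮) (LocalizedModule 𝔮.primeCompl M)) :=
    φ.toAlgebra
  haveI hloc : IsLocalization.AtPrime
      (Idl (Localization.AtPrime 𝔮) (LocalizedModule 𝔮.primeCompl M)) (liftPrime (M := M) 𝔮) :=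
    isLocalization_locMap (R' := Localization.AtPrime 𝔮) 𝔮.primeCompl
      (LocalizedModule.mkLinearMap 𝔮.primeCompl M)
  let ε : Localization.AtPrime (liftPrime (M := M) 𝔮) ≃ₐ[Idl P M]
      Idl (Localization.AtPrime 𝔮) (LocalizedModule 𝔮.primeCompl M) :=
    IsLocalization.algEquiv (liftPrime (M := M) 𝔮).primeCompl _ _
  have hmap : ((𝔮.comap (algebraMap A P)).map (algebraMap A (Localization.AtPrime 𝔮))).map
        (inlHom (M := LocalizedModule 𝔮.primeCompl M)) =
      (((liftPrime (M := M) 𝔮).comap (algebraMap A (Idl P M))).map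
        (algebraMap A (Localization.AtPrime (liftPrime (M := M) 𝔮)))).map
        (ε.toRingEquiv : Localization.AtPrime (liftPrime (M := M) 𝔮) →+*
          Idl (Localization.AtPrime 𝔮) (LocalizedModule 𝔮.primeCompl M)) := by
    rw [liftPrime_comap_algebraMap, Ideal.map_map, Ideal.map_map]
    congr 1
    ext a
    · simp only [RingHom.coe_comp, Function.comp_apply, fst_inlHom]
      rw [IsScalarTower.algebraMap_apply A (Idl P M) (Localization.AtPrime (liftPrime (M := M) 𝔮))]
      change _ = fst (ε (algebraMap (Idl P M) _ (algebraMap A (Idl P M) a)))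
      rw [ε.commutes]
      change _ = algebraMap P (Localization.AtPrime 𝔮) (algebraMap A P a)
      rw [← IsScalarTower.algebraMap_apply]
    · simp only [RingHom.coe_comp, Function.comp_apply, snd_inlHom]
      rw [IsScalarTower.algebraMap_apply A (Idl P M) (Localization.AtPrime (liftPrime (M := M) 𝔮))]
      change _ = snd (ε (algebraMap (Idl P M) _ (algebraMap A (Idl P M) a)))
      rw [ε.commutes]
      change _ = LocalizedModule.mkLinearMap 𝔮.primeCompl M 0
      rw [map_zero]
  exact ⟨(Ideal.quotientEquiv _ _ ε.toRingEquiv hmap).trans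
    (quotEquiv ((𝔮.comap (algebraMap A P)).map (algebraMap A (Localization.AtPrime 𝔮))))⟩

end Fib

section Alg
variable {A P M : Type u} [CommRing A] [CommRing P] [Algebra A P] [AddCommGroup M] [Module P M]
  [Module A M] [IsScalarTower A P M]

theorem flat_idl [Module.Flat A P] [Module.Flat A M] : Module.Flat A (Idl P M) := by
  have : Module.Flat A (P × M) := Groth.Agent.H9.flat_prod
  exact Module.Flat.of_linearEquiv (prodEquiv (A := A) (R := P) (M := M))

omit [Module A M] [IsScalarTower A P M] in
theorem finitePresentation_idl [Algebra.FinitePresentation A P] [Module.FinitePresentation P M] :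
    Algebra.FinitePresentation A (Idl P M) := by
  have : Module.FinitePresentation P (Idl P M) :=
    Module.FinitePresentation.of_equiv (prodEquiv (A := P) (R := P) (M := M)).symm
  have : Algebra.FinitePresentation P (Idl P M) :=
    Algebra.FinitePresentation.of_finitePresentation P (Idl P M)
  have : IsScalarTower A P (Idl P M) := IsScalarTower.of_algebraMap_eq (fun _ => rfl)
  exact Algebra.FinitePresentation.trans A P (Idl P M)

end Alg

end Groth.Agent.H2.Idl
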