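import Mathlib
import Groth.Agent.Lib.Helper2.SyntCM3

/-! Syntomic charts: transfer of `(S_n)`, Cohen–Macaulayness and the Noetherian property. -/

universe u
set_option linter.style.haveILetI false

open AlgebraicGeometry

namespace Groth.Agent.H2.SyntCM

variable {X S : Scheme.{u}} (f : X ⟶ S)

theorem comap_primeIdealOf {U : X.affineOpens} {V : S.affineOpens} (e : U.1 ≤ f ⁻¹ᵁ V.1) (x : X)
    (hx : x ∈ U.1) :
    letI := (f.appLE V.1 U.1 e).hom.toAlgebra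
    (U.2.primeIdealOf ⟨x, hx⟩).asIdeal.comap (algebraMap Γ(S, V.1) Γ(X, U.1)) =
      (V.2.primeIdealOf ⟨f x, e hx⟩).asIdeal :=
  congr($(IsAffineOpen.comap_primeIdealOf_appLE V.1 V.2 U.1 U.2 e hx).1)

theorem chart_hasSk_iff {U : X.affineOpens} {V : S.affineOpens} (e : U.1 ≤ f ⁻¹ᵁ V.1) (x : X)
    (hx : x ∈ U.1)
    (hsyn : letI := (f.appLE V.1 U.1 e).hom.toAlgebra
      Synt.IsSyntomic Γ(S, V.1) Γ(X, U.1))
    [IsNoetherianRing Γ(S, V.1)] [IsNoetherianRing Γ(X, U.1)] (n : ℕ) :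
    LocCoh.HasSk n (S.presheaf.stalk (f x)) (S.presheaf.stalk (f x)) ↔
      LocCoh.HasSk n (X.presheaf.stalk x) (X.presheaf.stalk x) := by
  rw [hasSk_stalk_iff V.2 (f x) (e hx) n, hasSk_stalk_iff U.2 x hx n]
  letI := (f.appLE V.1 U.1 e).hom.toAlgebra
  have h1 := hasSkAt_iff hsyn n (U.2.primeIdealOf ⟨x, hx⟩).asIdeal
  exact (hasSkAt_congr n (comap_primeIdealOf f e x hx)).symm.trans h1

theorem chart_cm_iff {U : X.affineOpens} {V : S.affineOpens} (e : U.1 ≤ f ⁻¹ᵁ V.1) (x : X)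
    (hx : x ∈ U.1)
    (hsyn : letI := (f.appLE V.1 U.1 e).hom.toAlgebra
      Synt.IsSyntomic Γ(S, V.1) Γ(X, U.1))
    [IsNoetherianRing Γ(S, V.1)] [IsNoetherianRing Γ(X, U.1)] :
    LocCoh.IsCohenMacaulayLocalRing (S.presheaf.stalk (f x)) ↔
      LocCoh.IsCohenMacaulayLocalRing (X.presheaf.stalk x) := by
  rw [cm_stalk_iff V.2 (f x) (e hx), cm_stalk_iff U.2 x hx]
  letI := (f.appLE V.1 U.1 e).hom.toAlgebra
  have h1 := cm_iff hsyn (U.2.primeIdealOf ⟨x, hx⟩).asIdeal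
  exact (cm_congr (comap_primeIdealOf f e x hx)).symm.trans h1.symm

/-- descent of the Noetherian property near the image point -/
theorem chart_exists_noetherian {U : X.affineOpens} {V : S.affineOpens} (e : U.1 ≤ f ⁻¹ᵁ V.1)
    (x : X) (hx : x ∈ U.1)
    (hsyn : letI := (f.appLE V.1 U.1 e).hom.toAlgebra
      Synt.IsSyntomic Γ(S, V.1) Γ(X, U.1))
    [IsNoetherianRing Γ(X, U.1)] :
    ∃ W : S.affineOpens, f x ∈ W.1 ∧ IsNoetherianRing Γ(S, W.1) := by
  letI := (f.appLE V.1 U.1 e).hom.toAlgebra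
  haveI : Module.Flat Γ(S, V.1) Γ(X, U.1) := hsyn.1
  haveI : Algebra.FinitePresentation Γ(S, V.1) Γ(X, U.1) := hsyn.2.1
  obtain ⟨g, hg, hN⟩ := exists_away_noetherian (A := Γ(S, V.1)) (B := Γ(X, U.1))
    (U.2.primeIdealOf ⟨x, hx⟩).asIdeal
  rw [comap_primeIdealOf f e x hx] at hg
  refine ⟨⟨S.basicOpen g, V.2.basicOpen g⟩, ?_, ?_⟩
  · change f x ∈ S.basicOpen g
    letI : Algebra Γ(S, V.1) (S.presheaf.stalk (f x)) :=
      TopCat.Presheaf.algebra_section_stalk S.presheaf ⟨f x, e hx⟩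
    haveI := V.2.isLocalization_stalk ⟨f x, e hx⟩
    rw [Scheme.mem_basicOpen S g (f x) (e hx)]
    exact IsLocalization.map_units (M := (V.2.primeIdealOf ⟨f x, e hx⟩).asIdeal.primeCompl)
      (S.presheaf.stalk (f x)) ⟨g, hg⟩
  · haveI := V.2.isLocalization_basicOpen g
    exact isNoetherianRing_of_ringEquiv _
      (IsLocalization.algEquiv (Submonoid.powers g) (Localization.Away g)
        Γ(S, S.basicOpen g)).toRingEquiv

end Groth.Agent.H2.SyntCM
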