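import Mathlib
import Groth.Prelude.Def_EGA4b
import Groth.Agent.Lib.Helper2.FFib1
import Groth.Agent.Lib.Helper8.SyntCMAt.Chart
import Groth.Agent.Lib.Helper1.FibreStalk

/-! Helper2: the local ring of a fibre of `Spec C ⟶ Spec A` is the algebraic fibre local ring. -/

set_option autoImplicit false
universe u

open AlgebraicGeometry CategoryTheory

namespace Groth.Agent.H2.Idl

theorem nonempty_fibLocRing_equiv_of_eq {A B : Type u} [CommRing A] [CommRing B] [Algebra A B]
    {Q Q' : Ideal B} [Q.IsPrime] [Q'.IsPrime] (h : Q = Q') :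
    Nonempty (EGA4.FibLocRing A B Q ≃+* EGA4.FibLocRing A B Q') := by
  subst h
  exact ⟨RingEquiv.refl _⟩

set_option linter.style.haveILetI false in
/-- the chart description of the local ring of a fibre for a morphism of affine schemes -/
theorem nonempty_fibLocRing_equiv_stalk (A C : Type u) [CommRing A] [CommRing C] [Algebra A C]
    (z : PrimeSpectrum C) :
    Nonempty (EGA4.FibLocRing A C z.asIdeal ≃+*
      ((Spec.map (CommRingCat.ofHom (algebraMap A C))).fiber
        ((Spec.map (CommRingCat.ofHom (algebraMap A C))) z)).presheaf.stalk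
          ((Spec.map (CommRingCat.ofHom (algebraMap A C))).asFiber z)) := by
  set g := Spec.map (CommRingCat.ofHom (algebraMap A C)) with hg
  let U : (Spec (CommRingCat.of C)).affineOpens := ⟨⊤, isAffineOpen_top _⟩
  let V : (Spec (CommRingCat.of A)).affineOpens := ⟨⊤, isAffineOpen_top _⟩
  have e : U.1 ≤ g ⁻¹ᵁ V.1 := le_top
  obtain ⟨e1⟩ := Groth.Agent.H8.SyntCMAt.nonempty_fibLocRing_equiv g (U := U) (V := V) e z trivial
  letI algΓ : Algebra Γ(Spec (CommRingCat.of A), V.1) Γ(Spec (CommRingCat.of C), U.1) :=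
    (g.appLE V.1 U.1 e).hom.toAlgebra
  have e2 := Groth.Agent.H1.FibreStalk.fiberStalkEquiv g z
  have hfbij : Function.Bijective (Scheme.ΓSpecIso (CommRingCat.of A)).hom.hom :=
    (Scheme.ΓSpecIso (CommRingCat.of A)).commRingCatIsoToRingEquiv.bijective
  have hgbij : Function.Bijective (Scheme.ΓSpecIso (CommRingCat.of C)).hom.hom :=
    (Scheme.ΓSpecIso (CommRingCat.of C)).commRingCatIsoToRingEquiv.bijective
  have H : (Scheme.ΓSpecIso (CommRingCat.of C)).hom.hom.comp
      (algebraMap Γ(Spec (CommRingCat.of A), V.1) Γ(Spec (CommRingCat.of C), U.1)) =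
      (algebraMap A C).comp (Scheme.ΓSpecIso (CommRingCat.of A)).hom.hom := by
    have := Scheme.ΓSpecIso_naturality (CommRingCat.ofHom (algebraMap A C))
    have h2 : g.appLE V.1 U.1 e = g.appTop := by
      simp [Scheme.Hom.appLE, Scheme.Hom.appTop, U, V]
    rw [RingHom.algebraMap_toAlgebra, h2]
    exact congrArg CommRingCat.Hom.hom this
  have hker : RingHom.ker (Scheme.ΓSpecIso (CommRingCat.of C)).hom.hom =
      (RingHom.ker (Scheme.ΓSpecIso (CommRingCat.of A)).hom.hom).map
        (algebraMap Γ(Spec (CommRingCat.of A), V.1) Γ(Spec (CommRingCat.of C), U.1)) := by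
    rw [(RingHom.injective_iff_ker_eq_bot _).mp hgbij.1, (RingHom.injective_iff_ker_eq_bot _).mp hfbij.1,
      Ideal.map_bot]
  obtain ⟨e3⟩ := Groth.Agent.H2.FFib.nonempty_fibLocRing_equiv
    (Scheme.ΓSpecIso (CommRingCat.of A)).hom.hom (Scheme.ΓSpecIso (CommRingCat.of C)).hom.hom
    hfbij.2 hgbij.2 H hker z.asIdeal
  have hz : z.asIdeal.comap (Scheme.ΓSpecIso (CommRingCat.of C)).hom.hom =
      (U.2.primeIdealOf ⟨z, trivial⟩).asIdeal := by
    have h1 := U.2.fromSpec_primeIdealOf ⟨z, trivial⟩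
    rw [IsAffineOpen.fromSpec_top, Scheme.isoSpec_Spec_inv] at h1
    have h2 : z.asIdeal = (U.2.primeIdealOf ⟨z, trivial⟩).asIdeal.comap
        (Scheme.ΓSpecIso (CommRingCat.of C)).inv.hom := by
      have h1' := congrArg PrimeSpectrum.asIdeal h1
      exact h1'.symm
    rw [h2, Ideal.comap_comap]
    have h3 : (Scheme.ΓSpecIso (CommRingCat.of C)).inv.hom.comp
        (Scheme.ΓSpecIso (CommRingCat.of C)).hom.hom = RingHom.id _ := by
      rw [← CommRingCat.hom_comp, Iso.hom_inv_id]
      rfl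
    rw [h3, Ideal.comap_id]
  obtain ⟨e4⟩ := nonempty_fibLocRing_equiv_of_eq
    (A := Γ(Spec (CommRingCat.of A), V.1)) (B := Γ(Spec (CommRingCat.of C), U.1)) hz
  exact ⟨e3.symm.trans (e4.trans (e1.trans e2))⟩

end Groth.Agent.H2.Idl
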