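import Mathlib
import Groth.Agent.Lib.Helper2.IdlC
import Groth.Agent.Lib.Helper2.IdlD
import Groth.Agent.Lib.Helper2.IdlE
import Groth.Agent.Lib.Helper1.CodepthOpen
import Groth.Agent.Lib.Helper1.SmoothDepth
import Groth.Agent.Lib.Helper1.CMFlat
import Groth.Agent.Lib.Helper6.SemiLin
import Groth.Agent.Lib.Helper6.FibLoc

/-! Helper2: idealization theorem: `dim R_q ≤ depth N_q + c` is an open condition on `Spec P`,
`P` a polynomial ring over `A`, `M` a finitely presented `P`-module flat over `A`. -/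

set_option autoImplicit false
set_option linter.style.haveILetI false
universe u

open AlgebraicGeometry CategoryTheory

namespace Groth.Agent.H2.Idl

section
variable (A : Type u) [CommRing A] (n : ℕ)

/-- the fibre local rings of affine space are Noetherian and Cohen–Macaulay -/
theorem fibLocRing_mvPolynomial_cm (𝔮 : Ideal (MvPolynomial (Fin n) A)) [𝔮.IsPrime] :
    IsNoetherianRing (EGA4.FibLocRing A (MvPolynomial (Fin n) A) 𝔮) ∧
      ringKrullDim (EGA4.FibLocRing A (MvPolynomial (Fin n) A) 𝔮) =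
        ((LocCoh.depth (EGA4.FibLocRing A (MvPolynomial (Fin n) A) 𝔮)
          (EGA4.FibLocRing A (MvPolynomial (Fin n) A) 𝔮) : ℕ∞) : WithBot ℕ∞) := by
  set h := Spec.map (CommRingCat.ofHom (algebraMap A (MvPolynomial (Fin n) A))) with hh
  haveI : Smooth h := by
    rw [hh, HasRingHomProperty.Spec_iff (P := @Smooth)]
    exact RingHom.smooth_algebraMap.mpr {}
  obtain ⟨e⟩ := nonempty_fibLocRing_equiv_stalk A (MvPolynomial (Fin n) A) ⟨𝔮, inferInstance⟩
  haveI hreg : IsRegularLocalRing ((h.fiber (h (⟨𝔮, inferInstance⟩ : PrimeSpectrum _))).presheaf.stalk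
      (h.asFiber (⟨𝔮, inferInstance⟩ : PrimeSpectrum _))) :=
    Groth.Agent.H1.SmoothDepth.isRegularLocalRing_fiberStalk h _
  have hN : IsNoetherianRing (EGA4.FibLocRing A (MvPolynomial (Fin n) A) 𝔮) :=
    isNoetherianRing_of_ringEquiv _ e.symm
  refine ⟨hN, ?_⟩
  have h1 := (Groth.Agent.H1.CMFlat.isCohenMacaulayLocalRing_of_isRegularLocalRing
    ((h.fiber (h (⟨𝔮, inferInstance⟩ : PrimeSpectrum _))).presheaf.stalk
      (h.asFiber (⟨𝔮, inferInstance⟩ : PrimeSpectrum _)))).supportDim_eq_depth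
  rw [Module.supportDim_self_eq_ringKrullDim] at h1
  obtain ⟨h2, -⟩ := Groth.Agent.H6.SemiLin.depth_and_dim_eq
    (M₁ := EGA4.FibLocRing A (MvPolynomial (Fin n) A) 𝔮) (M₂ := _) e e.toAddEquiv
    (fun r m => by rw [smul_eq_mul]; exact map_mul e r m)
  rw [ringKrullDim_eq_of_ringEquiv e, h2]
  exact h1

variable (M : Type u) [AddCommGroup M] [Module (MvPolynomial (Fin n) A) M] [Module A M]
  [IsScalarTower A (MvPolynomial (Fin n) A) M] [Module.FinitePresentation (MvPolynomial (Fin n) A) M]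
  [Module.Flat A M]

/-- **the idealization theorem**: `dim R_q ≤ depth N_q + c` is an open condition. -/
theorem isOpen_dim_le_depth_add (c : ℕ) :
    IsOpen {𝔮 : PrimeSpectrum (MvPolynomial (Fin n) A) |
      ringKrullDim (EGA4.FibLocRing A (MvPolynomial (Fin n) A) 𝔮.asIdeal) ≤
        ((LocCoh.depth (EGA4.FibLocRing A (MvPolynomial (Fin n) A) 𝔮.asIdeal)
          (EGA4.FibLocMod A (MvPolynomial (Fin n) A) 𝔮.asIdeal M) : ℕ∞) : WithBot ℕ∞) +
          (c : WithBot ℕ∞)} := by
  haveI : Module.Flat A (Idl (MvPolynomial (Fin n) A) M) := flat_idl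
  haveI : Algebra.FinitePresentation A (Idl (MvPolynomial (Fin n) A) M) := finitePresentation_idl
  set g := Spec.map (CommRingCat.ofHom (algebraMap A (Idl (MvPolynomial (Fin n) A) M))) with hg
  haveI : LocallyOfFinitePresentation g := by
    rw [hg, HasRingHomProperty.Spec_iff (P := @LocallyOfFinitePresentation)]
    exact RingHom.finitePresentation_algebraMap.mpr inferInstance
  haveI : Flat g := by
    rw [hg, Flat.SpecMap_iff, CommRingCat.hom_ofHom, RingHom.flat_algebraMap_iff]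
    infer_instance
  have hopen := Groth.Agent.H1.Codepth.isOpen_flat_cd g c
  have hcont : Continuous (PrimeSpectrum.comap (fstHom (R := MvPolynomial (Fin n) A) (M := M))) :=
    PrimeSpectrum.continuous_comap _
  have hpre := hopen.preimage hcont
  convert hpre using 1
  ext 𝔮
  change (ringKrullDim (EGA4.FibLocRing A (MvPolynomial (Fin n) A) 𝔮.asIdeal) ≤
        ((LocCoh.depth (EGA4.FibLocRing A (MvPolynomial (Fin n) A) 𝔮.asIdeal)
          (EGA4.FibLocMod A (MvPolynomial (Fin n) A) 𝔮.asIdeal M) : ℕ∞) : WithBot ℕ∞) +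
          (c : WithBot ℕ∞)) ↔ ((g.stalkMap (PrimeSpectrum.comap (fstHom (R := MvPolynomial (Fin n) A) (M := M)) 𝔮)).hom.Flat ∧
    Groth.Agent.H1.Codepth.CD g (PrimeSpectrum.comap (fstHom (R := MvPolynomial (Fin n) A) (M := M)) 𝔮) c)
  have hflat : (g.stalkMap (PrimeSpectrum.comap (fstHom (R := MvPolynomial (Fin n) A) (M := M)) 𝔮)).hom.Flat :=
    Flat.stalkMap g _
  rw [and_iff_right hflat]
  -- the chain of identifications
  obtain ⟨e1⟩ := nonempty_fibLocRing_equiv_stalk A (Idl (MvPolynomial (Fin n) A) M)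
    (PrimeSpectrum.comap (fstHom (R := MvPolynomial (Fin n) A) (M := M)) 𝔮)
  obtain ⟨e2⟩ := nonempty_fibLocRing_equiv (A := A) (M := M) 𝔮.asIdeal
  obtain ⟨hN, hCM⟩ := fibLocRing_mvPolynomial_cm A n 𝔮.asIdeal
  have e3 : Idl (EGA4.FibLocRing A (MvPolynomial (Fin n) A) 𝔮.asIdeal)
      (EGA4.FibLocMod A (MvPolynomial (Fin n) A) 𝔮.asIdeal M) ≃+* _ := e2.symm.trans e1
  unfold Groth.Agent.H1.Codepth.CD
  rw [← Groth.Agent.H1.Codepth.cdr_iff_of_ringEquiv e3]
  by_cases hsub : Subsingleton (EGA4.FibLocMod A (MvPolynomial (Fin n) A) 𝔮.asIdeal M)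
  · constructor
    · intro _
      exact cdr_idl_of_subsingleton hCM c
    · intro _
      have : LocCoh.depth (EGA4.FibLocRing A (MvPolynomial (Fin n) A) 𝔮.asIdeal)
          (EGA4.FibLocMod A (MvPolynomial (Fin n) A) 𝔮.asIdeal M) = ⊤ := by
        unfold LocCoh.depth LocCoh.idealDepth
        rw [if_pos (Subsingleton.elim _ _)]
      rw [this]
      have h3 : (((⊤ : ℕ∞)) : WithBot ℕ∞) + ((c : ℕ) : WithBot ℕ∞) = ⊤ := by
        have hc : ((c : ℕ) : WithBot ℕ∞) = (((c : ℕ) : ℕ∞) : WithBot ℕ∞) := rfl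
        rw [hc, ← WithBot.coe_add, top_add]
        rfl
      rw [h3]
      exact le_top
  · rw [not_subsingleton_iff_nontrivial] at hsub
    exact (cdr_idl_iff hCM c).symm

end

end Groth.Agent.H2.Idl
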