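import Mathlib
import Groth.Prelude.Def_EGA4b
import Groth.Agent.Lib.Helper1.AusBuch
import Groth.Agent.Lib.Helper6.FlatDim

/-! Helper2: depth and dimension of the fibre module `F_q / p F_q`, computed on any model of the
localization (no Noetherian hypotheses). -/

set_option autoImplicit false
set_option linter.style.haveILetI false
universe u

namespace Groth.Agent.H2.Idl

/-- same depth and same dimension -/
def DD (R₁ : Type u) [CommRing R₁] [IsLocalRing R₁] (M₁ : Type u) [AddCommGroup M₁] [Module R₁ M₁]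
    (R₂ : Type u) [CommRing R₂] [IsLocalRing R₂] (M₂ : Type u) [AddCommGroup M₂] [Module R₂ M₂] :
    Prop :=
  LocCoh.depth R₁ M₁ = LocCoh.depth R₂ M₂ ∧ Module.supportDim R₁ M₁ = Module.supportDim R₂ M₂

section DD
variable {R₁ R₂ R₃ : Type u} [CommRing R₁] [CommRing R₂] [CommRing R₃] [IsLocalRing R₁]
  [IsLocalRing R₂] [IsLocalRing R₃]
  {M₁ M₂ M₃ : Type u} [AddCommGroup M₁] [AddCommGroup M₂] [AddCommGroup M₃] [Module R₁ M₁]
  [Module R₂ M₂] [Module R₃ M₃]

theorem DD.symm (h : DD R₁ M₁ R₂ M₂) : DD R₂ M₂ R₁ M₁ := ⟨h.1.symm, h.2.symm⟩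

theorem DD.trans (h : DD R₁ M₁ R₂ M₂) (h' : DD R₂ M₂ R₃ M₃) : DD R₁ M₁ R₃ M₃ :=
  ⟨h.1.trans h'.1, h.2.trans h'.2⟩

/-- depth and dimension are invariant under semilinear isomorphisms over surjective ring maps -/
theorem DD.of_semilinear (σ : R₁ →+* R₂) (hσ : Function.Surjective σ) (τ : M₁ ≃+ M₂)
    (hτ : ∀ (r : R₁) (m : M₁), τ (r • m) = σ r • τ m) [Module.Finite R₁ M₁] :
    DD R₁ M₁ R₂ M₂ := by
  letI : Algebra R₁ R₂ := σ.toAlgebra
  letI : Module R₁ M₂ := Module.compHom M₂ σ
  haveI : IsScalarTower R₁ R₂ M₂ := IsScalarTower.of_algebraMap_smul fun _ _ => rfl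
  let τ' : M₁ ≃ₗ[R₁] M₂ :=
    { τ with
      map_smul' := fun r m => hτ r m }
  haveI : Module.Finite R₁ M₂ := Module.Finite.equiv τ'
  haveI : Module.Finite R₂ M₂ := Module.Finite.of_restrictScalars_finite R₁ R₂ M₂
  constructor
  · rw [Groth.Agent.H1.AB.depth_eq_of_linearEquiv τ']
    exact Groth.Agent.H1.AB.depth_eq_of_surjective hσ M₂
  · rw [Module.supportDim_eq_of_equiv τ']
    exact (Groth.Agent.H6.FlatDim.supportDim_of_surjective hσ M₂).symm

end DD

section FibModel
variable {A P : Type u} [CommRing A] [CommRing P] [Algebra A P] (𝔮 : Ideal P) [𝔮.IsPrime]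
  (X : Type u) [AddCommGroup X] [Module P X] [Module.Finite P X]
  (L : Type u) [CommRing L] [IsLocalRing L] [Algebra P L] [Algebra A L] [IsScalarTower A P L]
  (F' : Type u) [AddCommGroup F'] [Module L F'] [Module P F'] [IsScalarTower P L F']

/-- **the fibre module on an arbitrary model**: if `L` is a local quotient of `P_q` and `F'` is an
`L`-module which is a localization of `X` at `q`, then `F' / p F'` over `L` has the depth and the
dimension of `X_q / p X_q` over `P_q`. -/
theorem dd_fibModel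
    (hunit : ∀ s : P, s ∉ 𝔮 → IsUnit (algebraMap P L s))
    (hsurj : ∀ l : L, ∃ p s : P, s ∉ 𝔮 ∧ l * algebraMap P L s = algebraMap P L p)
    (g₀ : X →ₗ[P] F') [IsLocalizedModule 𝔮.primeCompl g₀] :
    DD L (F' ⧸ ((𝔮.comap (algebraMap A P)).map (algebraMap A L)) • (⊤ : Submodule L F'))
      (Localization.AtPrime 𝔮) (EGA4.FibLocMod A P 𝔮 X) := by
  -- the surjection `π`
  let π : Localization.AtPrime 𝔮 →+* L :=
    IsLocalization.lift (M := 𝔮.primeCompl) (g := algebraMap P L) (fun s => hunit s.1 s.2)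
  have hπ : ∀ p : P, π (algebraMap P (Localization.AtPrime 𝔮) p) = algebraMap P L p :=
    fun p => IsLocalization.lift_eq _ p
  have hπsurj : Function.Surjective π := by
    intro l
    obtain ⟨p, s, hs, hl⟩ := hsurj l
    refine ⟨IsLocalization.mk' _ p (⟨s, hs⟩ : 𝔮.primeCompl), ?_⟩
    have h1 : π (IsLocalization.mk' (Localization.AtPrime 𝔮) p (⟨s, hs⟩ : 𝔮.primeCompl)) *
        algebraMap P L s = algebraMap P L p := by
      rw [← hπ s, ← map_mul]
      have := IsLocalization.mk'_spec (Localization.AtPrime 𝔮) p (⟨s, hs⟩ : 𝔮.primeCompl)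
      rw [this, hπ]
    exact (hunit s hs).mul_right_cancel (h1.trans hl.symm)
  -- the linear equivalence `τ₀`
  let τ₀ : LocalizedModule 𝔮.primeCompl X ≃ₗ[P] F' := IsLocalizedModule.iso 𝔮.primeCompl g₀
  have hτ₀ : ∀ (a : Localization.AtPrime 𝔮) (y : LocalizedModule 𝔮.primeCompl X),
      τ₀ (a • y) = π a • τ₀ y := by
    intro a y
    obtain ⟨⟨p, s⟩, ha⟩ := IsLocalization.surj 𝔮.primeCompl a
    have hs := hunit s.1 s.2
    have ha' : a * algebraMap P (Localization.AtPrime 𝔮) s.1 =
        algebraMap P (Localization.AtPrime 𝔮) p := ha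
    have h1 : (s.1 : P) • τ₀ (a • y) = (s.1 : P) • (π a • τ₀ y) := by
      have e1 : (s.1 : P) • τ₀ (a • y) = (p : P) • τ₀ y := by
        rw [← map_smul τ₀, ← map_smul τ₀]
        congr 1
        rw [← algebraMap_smul (Localization.AtPrime 𝔮) s.1 (a • y), smul_smul, mul_comm, ha',
          algebraMap_smul]
      have e2 : (s.1 : P) • (π a • τ₀ y) = (p : P) • τ₀ y := by
        rw [← algebraMap_smul L s.1 (π a • τ₀ y), smul_smul, ← hπ, ← map_mul, mul_comm, ha', hπ,
          algebraMap_smul]
      rw [e1, e2]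
    have hinj : Function.Injective (fun z : F' => (s.1 : P) • z) := by
      intro z₁ z₂ h
      have h' : algebraMap P L s.1 • z₁ = algebraMap P L s.1 • z₂ := by
        rw [algebraMap_smul, algebraMap_smul]
        exact h
      exact hs.smul_left_cancel.mp h'
    exact hinj h1
  -- the ideals
  have hπA : ∀ a : A, π (algebraMap A (Localization.AtPrime 𝔮) a) = algebraMap A L a := by
    intro a
    rw [IsScalarTower.algebraMap_apply A P (Localization.AtPrime 𝔮), hπ,
      ← IsScalarTower.algebraMap_apply A P L]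
  have hJ : ((𝔮.comap (algebraMap A P)).map (algebraMap A (Localization.AtPrime 𝔮))).map π =
      (𝔮.comap (algebraMap A P)).map (algebraMap A L) := by
    rw [Ideal.map_map]
    congr 1
    ext a
    exact hπA a
  -- the submodules correspond
  have hfwd : ∀ y ∈ ((𝔮.comap (algebraMap A P)).map (algebraMap A (Localization.AtPrime 𝔮)) •
      (⊤ : Submodule (Localization.AtPrime 𝔮) (LocalizedModule 𝔮.primeCompl X))),
      τ₀ y ∈ (((𝔮.comap (algebraMap A P)).map (algebraMap A L)) • (⊤ : Submodule L F')) := by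
    intro y hy
    refine Submodule.smul_induction_on hy (fun j hj m _ => ?_) (fun a b ha hb => ?_)
    · rw [hτ₀]
      refine Submodule.smul_mem_smul ?_ Submodule.mem_top
      rw [← hJ]
      exact Ideal.mem_map_of_mem π hj
    · rw [map_add]
      exact Submodule.add_mem _ ha hb
  have hbwd : ∀ z ∈ (((𝔮.comap (algebraMap A P)).map (algebraMap A L)) • (⊤ : Submodule L F')),
      τ₀.symm z ∈ ((𝔮.comap (algebraMap A P)).map (algebraMap A (Localization.AtPrime 𝔮)) •
      (⊤ : Submodule (Localization.AtPrime 𝔮) (LocalizedModule 𝔮.primeCompl X))) := by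
    intro z hz
    refine Submodule.smul_induction_on hz (fun j' hj' w _ => ?_) (fun a b ha hb => ?_)
    · rw [← hJ] at hj'
      obtain ⟨j, hj, rfl⟩ := (Ideal.mem_map_iff_of_surjective π hπsurj).mp hj'
      have : τ₀.symm (π j • w) = j • τ₀.symm w := by
        apply τ₀.injective
        rw [hτ₀, LinearEquiv.apply_symm_apply, LinearEquiv.apply_symm_apply]
      rw [this]
      exact Submodule.smul_mem_smul hj Submodule.mem_top
    · rw [map_add]
      exact Submodule.add_mem _ ha hb
  have hmap : AddSubgroup.map (τ₀.toAddEquiv : LocalizedModule 𝔮.primeCompl X →+ F')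
      ((𝔮.comap (algebraMap A P)).map (algebraMap A (Localization.AtPrime 𝔮)) •
      (⊤ : Submodule (Localization.AtPrime 𝔮) (LocalizedModule 𝔮.primeCompl X))).toAddSubgroup =
      (((𝔮.comap (algebraMap A P)).map (algebraMap A L)) •
        (⊤ : Submodule L F')).toAddSubgroup := by
    ext z
    constructor
    · rintro ⟨y, hy, rfl⟩
      exact hfwd y hy
    · intro hz
      exact ⟨τ₀.symm z, hbwd z hz, τ₀.apply_symm_apply z⟩
  let τq : EGA4.FibLocMod A P 𝔮 X ≃+
      (F' ⧸ ((𝔮.comap (algebraMap A P)).map (algebraMap A L)) • (⊤ : Submodule L F')) :=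
    QuotientAddGroup.congr _ _ τ₀.toAddEquiv hmap
  refine (DD.of_semilinear π hπsurj τq ?_).symm
  intro r m
  induction m using Submodule.Quotient.induction_on with
  | H m =>
    change τq (Submodule.Quotient.mk (r • m)) = π r • τq (Submodule.Quotient.mk m)
    change Submodule.Quotient.mk (τ₀ (r • m)) = π r • Submodule.Quotient.mk (τ₀ m)
    rw [hτ₀]
    rfl

end FibModel

end Groth.Agent.H2.Idl
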