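import Mathlib
import Groth.Prelude.Def_EGA4b
import Groth.Agent.Lib.Helper2.IdlG
import Groth.Agent.Lib.Helper6.FibLoc
import Groth.Agent.Lib.Helper6.FiberDict
import Groth.Agent.Lib.Helper6.SkKit

/-! Helper2: the fibre module along a surjection of rings; dimension of the fibre module through the
support. -/

set_option autoImplicit false
set_option linter.style.haveILetI false
universe u

namespace Groth.Agent.H2.Idl

section Surj
variable {A P B : Type u} [CommRing A] [CommRing P] [CommRing B] [Algebra A P] [Algebra P B]
  [Algebra A B] [IsScalarTower A P B]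

/-- the fibre module of a `B`-module at a prime of `B`, and at the prime of `P` below it, for a
surjection `P → B`: same depth and dimension. -/
theorem dd_fibLocMod_of_surjective (hsurj : Function.Surjective (algebraMap P B))
    (𝔮B : Ideal B) [𝔮B.IsPrime] (X : Type u) [AddCommGroup X] [Module B X] [Module P X]
    [IsScalarTower P B X] [Module.Finite B X] :
    DD (Localization.AtPrime 𝔮B) (EGA4.FibLocMod A B 𝔮B X)
      (Localization.AtPrime (𝔮B.comap (algebraMap P B)))
      (EGA4.FibLocMod A P (𝔮B.comap (algebraMap P B)) X) := by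
  haveI : Module.Finite P B := Module.Finite.of_surjective (Algebra.linearMap P B) hsurj
  haveI : Module.Finite P X := Module.Finite.trans B X
  let g₀ : X →ₗ[P] LocalizedModule 𝔮B.primeCompl X :=
    (LocalizedModule.mkLinearMap 𝔮B.primeCompl X).restrictScalars P
  have hS : Algebra.algebraMapSubmonoid B (𝔮B.comap (algebraMap P B)).primeCompl =
      𝔮B.primeCompl := by
    ext b
    constructor
    · rintro ⟨s, hs, rfl⟩
      exact hs
    · intro hb
      obtain ⟨s, rfl⟩ := hsurj b
      exact ⟨s, hb, rfl⟩
  haveI : IsLocalizedModule (𝔮B.comap (algebraMap P B)).primeCompl g₀ := by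
    haveI : IsLocalizedModule (Algebra.algebraMapSubmonoid B
        (𝔮B.comap (algebraMap P B)).primeCompl) (LocalizedModule.mkLinearMap 𝔮B.primeCompl X) := by
      rw [hS]
      infer_instance
    exact IsLocalizedModule.restrictScalars (𝔮B.comap (algebraMap P B)).primeCompl
      (LocalizedModule.mkLinearMap 𝔮B.primeCompl X)
  have key := dd_fibModel (A := A) (𝔮B.comap (algebraMap P B)) X (Localization.AtPrime 𝔮B)
    (LocalizedModule 𝔮B.primeCompl X)
    (fun s hs => by
      rw [IsScalarTower.algebraMap_apply P B (Localization.AtPrime 𝔮B)]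
      exact IsLocalization.map_units _ (⟨algebraMap P B s, hs⟩ : 𝔮B.primeCompl))
    (fun l => by
      obtain ⟨⟨b, t⟩, hl⟩ := IsLocalization.surj 𝔮B.primeCompl l
      obtain ⟨p, rfl⟩ := hsurj b
      obtain ⟨s, hs⟩ := hsurj t.1
      refine ⟨p, s, ?_, ?_⟩
      · change algebraMap P B s ∉ 𝔮B
        rw [hs]
        exact t.2
      · rw [IsScalarTower.algebraMap_apply P B (Localization.AtPrime 𝔮B),
          IsScalarTower.algebraMap_apply P B (Localization.AtPrime 𝔮B), hs]
        exact hl)
    g₀
  have hcomap : (𝔮B.comap (algebraMap P B)).comap (algebraMap A P) = 𝔮B.comap (algebraMap A B) := by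
    rw [Ideal.comap_comap, ← IsScalarTower.algebraMap_eq]
  have key' : ∀ 𝔭' : Ideal A, 𝔭' = (𝔮B.comap (algebraMap P B)).comap (algebraMap A P) →
      DD (Localization.AtPrime 𝔮B)
        (LocalizedModule 𝔮B.primeCompl X ⧸ (𝔭'.map (algebraMap A (Localization.AtPrime 𝔮B))) •
          (⊤ : Submodule (Localization.AtPrime 𝔮B) (LocalizedModule 𝔮B.primeCompl X)))
        (Localization.AtPrime (𝔮B.comap (algebraMap P B)))
        (EGA4.FibLocMod A P (𝔮B.comap (algebraMap P B)) X) := by
    intro 𝔭' h
    subst h
    exact key
  exact key' _ hcomap.symm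

end Surj

section Supp
variable {P : Type u} [CommRing P]

/-- the dimension of `M_q / J M_q` only depends on the support of `M` -/
theorem supportDim_quot_eq_of_support_eq (M M' : Type u) [AddCommGroup M] [AddCommGroup M']
    [Module P M] [Module P M'] [Module.Finite P M] [Module.Finite P M']
    (h : Module.support P M = Module.support P M') (𝔮 : Ideal P) [𝔮.IsPrime]
    (J : Ideal (Localization.AtPrime 𝔮)) :
    Module.supportDim (Localization.AtPrime 𝔮) (LocalizedModule 𝔮.primeCompl M ⧸
        J • (⊤ : Submodule (Localization.AtPrime 𝔮) (LocalizedModule 𝔮.primeCompl M))) =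
      Module.supportDim (Localization.AtPrime 𝔮) (LocalizedModule 𝔮.primeCompl M' ⧸
        J • (⊤ : Submodule (Localization.AtPrime 𝔮) (LocalizedModule 𝔮.primeCompl M'))) := by
  unfold Module.supportDim
  have : Module.support (Localization.AtPrime 𝔮) (LocalizedModule 𝔮.primeCompl M ⧸
        J • (⊤ : Submodule (Localization.AtPrime 𝔮) (LocalizedModule 𝔮.primeCompl M))) =
      Module.support (Localization.AtPrime 𝔮) (LocalizedModule 𝔮.primeCompl M' ⧸
        J • (⊤ : Submodule (Localization.AtPrime 𝔮) (LocalizedModule 𝔮.primeCompl M'))) := by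
    rw [Module.support_quotient, Module.support_quotient]
    congr 1
    ext Q
    rw [Groth.Agent.H6.Sk.mem_support_localizedModule_iff,
      Groth.Agent.H6.Sk.mem_support_localizedModule_iff, h]
  rw [this]

end Supp

section R1
variable {A P : Type u} [CommRing A] [CommRing P] [Algebra A P]

/-- the fibre local ring of `P / Ann M` has the dimension of the fibre module of `M` -/
theorem ringKrullDim_fibLocRing_quotient_annihilator (M : Type u) [AddCommGroup M] [Module P M]
    [Module.Finite P M] (z : Ideal (P ⧸ Module.annihilator P M)) [z.IsPrime] :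
    ringKrullDim (EGA4.FibLocRing A (P ⧸ Module.annihilator P M) z) =
      Module.supportDim
        (EGA4.FibLocRing A P (z.comap (algebraMap P (P ⧸ Module.annihilator P M))))
        (EGA4.FibLocMod A P (z.comap (algebraMap P (P ⧸ Module.annihilator P M))) M) := by
  have h1 : ringKrullDim (EGA4.FibLocRing A (P ⧸ Module.annihilator P M) z) =
      Module.supportDim (EGA4.FibLocRing A (P ⧸ Module.annihilator P M) z)
        (EGA4.FibLocRing A (P ⧸ Module.annihilator P M) z) :=
    (Module.supportDim_self_eq_ringKrullDim _).symm
  have h2 := Groth.Agent.H6.FlatDim.supportDim_of_surjective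
    (B := Localization.AtPrime z) (C := EGA4.FibLocRing A (P ⧸ Module.annihilator P M) z)
    Ideal.Quotient.mk_surjective (EGA4.FibLocRing A (P ⧸ Module.annihilator P M) z)
  have h3 := (Groth.Agent.H6.FiberDict.depth_and_dim_self (A := A)
    (B := P ⧸ Module.annihilator P M) z).2
  have h4 := (dd_fibLocMod_of_surjective (A := A) (P := P) (B := P ⧸ Module.annihilator P M)
    Ideal.Quotient.mk_surjective z (P ⧸ Module.annihilator P M)).2
  have hsupp : Module.support P (P ⧸ Module.annihilator P M) = Module.support P M := by
    rw [Module.support_eq_zeroLocus, Module.support_eq_zeroLocus, Ideal.annihilator_quotient]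
  have h5 := supportDim_quot_eq_of_support_eq (P ⧸ Module.annihilator P M) M hsupp
    (z.comap (algebraMap P (P ⧸ Module.annihilator P M)))
    (((z.comap (algebraMap P (P ⧸ Module.annihilator P M))).comap (algebraMap A P)).map
      (algebraMap A (Localization.AtPrime (z.comap (algebraMap P (P ⧸ Module.annihilator P M))))))
  have h6 := Groth.Agent.H6.FlatDim.supportDim_of_surjective
    (B := Localization.AtPrime (z.comap (algebraMap P (P ⧸ Module.annihilator P M))))
    (C := EGA4.FibLocRing A P (z.comap (algebraMap P (P ⧸ Module.annihilator P M))))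
    Ideal.Quotient.mk_surjective
    (EGA4.FibLocMod A P (z.comap (algebraMap P (P ⧸ Module.annihilator P M))) M)
  rw [h1, h2, ← h3, h4, h6]
  exact h5

end R1

end Groth.Agent.H2.Idl
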