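import Mathlib
import Groth.Agent.Lib.Helper2.IdlE
import Groth.Agent.Lib.Helper2.IdlH
import Groth.Agent.Lib.Helper1.FibCompC
import Groth.Agent.Lib.Helper1.DimFormula2
import Groth.Agent.Lib.Helper1.SmoothDim

/-! Helper2: Chevalley semicontinuity for the dimension of the fibre module. -/

set_option autoImplicit false
set_option linter.style.haveILetI false
universe u

open AlgebraicGeometry CategoryTheory

namespace Groth.Agent.H2.Idl

/-- fibre stalks along equal morphisms -/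
theorem nonempty_fiberStalk_equiv_of_eq {X S : Scheme.{u}} {f f' : X ⟶ S} (e : f = f') (x : X) :
    Nonempty ((f.fiber (f x)).presheaf.stalk (f.asFiber x) ≃+*
      (f'.fiber (f' x)).presheaf.stalk (f'.asFiber x)) := by
  subst e
  exact ⟨RingEquiv.refl _⟩

/-- the residue field extension of a closed immersion has transcendence degree zero -/
theorem trdeg_residueFieldMap_of_isClosedImmersion {X Y : Scheme.{u}} (i : X ⟶ Y)
    [IsClosedImmersion i] (x : X) :
    @Algebra.trdeg (Y.residueField (i x)) (X.residueField x) _ _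
      (i.residueFieldMap x).hom.toAlgebra = 0 := by
  letI := (i.residueFieldMap x).hom.toAlgebra
  have hsurj : Function.Surjective (algebraMap (Y.residueField (i x)) (X.residueField x)) := by
    intro y
    obtain ⟨b, rfl⟩ := IsLocalRing.residue_surjective y
    obtain ⟨a, rfl⟩ := i.stalkMap_surjective x b
    refine ⟨Y.residue (i x) a, ?_⟩
    have := Scheme.residue_residueFieldMap i x
    exact congrArg (fun φ => φ.hom a) this
  haveI : Algebra.IsIntegral (Y.residueField (i x)) (X.residueField x) :=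
    Algebra.isIntegral_of_surjective hsurj
  exact trdeg_eq_zero

theorem arith_chev (a : WithBot ℕ∞) (r₀ t e₀ n : ℕ) (h : r₀ + t = n) :
    a + (n : WithBot ℕ∞) ≤ (r₀ : WithBot ℕ∞) + (e₀ : WithBot ℕ∞) ↔
      a + (t : WithBot ℕ∞) ≤ (e₀ : WithBot ℕ∞) := by
  subst h
  induction a using WithBot.recBotCoe with
  | bot => simp
  | coe a' =>
    induction a' using ENat.recTopCoe with
    | top =>
      constructor
      · intro h1
        exfalso
        have h2 : ((⊤ : ℕ∞) : WithBot ℕ∞) + ((r₀ + t : ℕ) : WithBot ℕ∞) = ⊤ := by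
          have hc : ((r₀ + t : ℕ) : WithBot ℕ∞) = (((r₀ + t : ℕ) : ℕ∞) : WithBot ℕ∞) := rfl
          rw [hc, ← WithBot.coe_add, top_add]
          rfl
        rw [h2, top_le_iff] at h1
        have h3 : ((r₀ : ℕ) : WithBot ℕ∞) + ((e₀ : ℕ) : WithBot ℕ∞) =
            (((r₀ + e₀ : ℕ) : ℕ∞) : WithBot ℕ∞) := by push_cast; rfl
        rw [h3] at h1
        exact absurd (WithBot.coe_eq_coe.mp h1) (ENat.natCast_ne_top _)
      · intro h1
        exfalso
        have h2 : ((⊤ : ℕ∞) : WithBot ℕ∞) + ((t : ℕ) : WithBot ℕ∞) = ⊤ := by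
          have hc : ((t : ℕ) : WithBot ℕ∞) = (((t : ℕ) : ℕ∞) : WithBot ℕ∞) := rfl
          rw [hc, ← WithBot.coe_add, top_add]
          rfl
        rw [h2, top_le_iff] at h1
        have h3 : ((e₀ : ℕ) : WithBot ℕ∞) = (((e₀ : ℕ) : ℕ∞) : WithBot ℕ∞) := rfl
        rw [h3] at h1
        exact absurd (WithBot.coe_eq_coe.mp h1) (ENat.natCast_ne_top _)
    | coe m =>
      have e1 : (((m : ℕ) : ℕ∞) : WithBot ℕ∞) + ((r₀ + t : ℕ) : WithBot ℕ∞) =
          ((m + (r₀ + t) : ℕ) : WithBot ℕ∞) := by push_cast; rfl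
      have e2 : ((r₀ : ℕ) : WithBot ℕ∞) + ((e₀ : ℕ) : WithBot ℕ∞) =
          ((r₀ + e₀ : ℕ) : WithBot ℕ∞) := by push_cast; rfl
      have e3 : (((m : ℕ) : ℕ∞) : WithBot ℕ∞) + ((t : ℕ) : WithBot ℕ∞) =
          ((m + t : ℕ) : WithBot ℕ∞) := by push_cast; rfl
      rw [e1, e2, e3, Nat.cast_le, Nat.cast_le]
      omega

section Chev
variable (A : Type u) [CommRing A] (n : ℕ) (M : Type u) [AddCommGroup M]
  [Module (MvPolynomial (Fin n) A) M] [Module.Finite (MvPolynomial (Fin n) A) M]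

local notation "Pn" => MvPolynomial (Fin n) A
local notation "In" => Module.annihilator (MvPolynomial (Fin n) A) M

theorem chev_key (e₀ : ℕ) (z : PrimeSpectrum (Pn ⧸ In)) :
    (Module.supportDim
        (EGA4.FibLocRing A Pn (z.asIdeal.comap (algebraMap Pn (Pn ⧸ In))))
        (EGA4.FibLocMod A Pn (z.asIdeal.comap (algebraMap Pn (Pn ⧸ In))) M) +
        (n : WithBot ℕ∞) ≤
      ringKrullDim (EGA4.FibLocRing A Pn (z.asIdeal.comap (algebraMap Pn (Pn ⧸ In)))) +
        (e₀ : WithBot ℕ∞)) ↔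
    FlatMor.fibreDimAt
      (Spec.map (CommRingCat.ofHom (Ideal.Quotient.mk In)) ≫
        Spec.map (CommRingCat.ofHom (algebraMap A Pn))) z ≤ (e₀ : WithBot ℕ∞) := by
  set i := Spec.map (CommRingCat.ofHom (Ideal.Quotient.mk In)) with hi
  set hP := Spec.map (CommRingCat.ofHom (algebraMap A Pn)) with hhP
  haveI : IsClosedImmersion i := IsClosedImmersion.spec_of_surjective _ Ideal.Quotient.mk_surjective
  haveI : LocallyOfFiniteType hP := by
    rw [hhP, HasRingHomProperty.Spec_iff (P := @LocallyOfFiniteType)]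
    exact RingHom.finiteType_algebraMap.mpr inferInstance
  haveI : LocallyOfFiniteType (i ≫ hP) := inferInstance
  obtain ⟨t₁, ht₁, h₁⟩ :=
    Groth.Agent.H1.DimFormula.exists_fibreDimAt_eq_stalk_add_trdeg (i ≫ hP) z
  obtain ⟨t₂, ht₂, h₂⟩ :=
    Groth.Agent.H1.DimFormula.exists_fibreDimAt_eq_stalk_add_trdeg hP (i z)
  have h0 := trdeg_residueFieldMap_of_isClosedImmersion i z
  have hcomp := Groth.Agent.H1.DimFormula.trdeg_residueField_comp i hP z
  rw [ht₂, h0, add_zero, ht₁] at hcomp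
  have ht : t₂ = t₁ := by exact_mod_cast hcomp
  subst ht
  rw [Groth.Agent.H1.SmoothDim.fibreDimAt_SpecMap_mvPolynomial] at h₂
  have hmor : i ≫ hP = Spec.map (CommRingCat.ofHom (algebraMap A (Pn ⧸ In))) := by
    rw [hi, hhP, ← Spec.map_comp]
    rfl
  obtain ⟨e1⟩ := nonempty_fiberStalk_equiv_of_eq hmor z
  obtain ⟨e2⟩ := nonempty_fibLocRing_equiv_stalk A (Pn ⧸ In) z
  obtain ⟨e3⟩ := nonempty_fibLocRing_equiv_stalk A Pn (i z)
  have hd1 := ringKrullDim_eq_of_ringEquiv (e1.trans e2.symm)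
  have hd2 := ringKrullDim_eq_of_ringEquiv e3
  have hR1 := ringKrullDim_fibLocRing_quotient_annihilator (A := A) M z.asIdeal
  rw [hd1, hR1] at h₁
  rw [← hd2] at h₂
  rw [h₁]
  -- the dimension of `R` is a natural number
  have hr : ∃ r₀ : ℕ, ringKrullDim (EGA4.FibLocRing A Pn
      (z.asIdeal.comap (algebraMap Pn (Pn ⧸ In)))) = (r₀ : WithBot ℕ∞) ∧ r₀ + t₂ = n := by
    have h₂' : ((n : ℕ) : WithBot ℕ∞) = ringKrullDim (EGA4.FibLocRing A Pn
      (z.asIdeal.comap (algebraMap Pn (Pn ⧸ In)))) + (t₂ : WithBot ℕ∞) := h₂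
    generalize ringKrullDim (EGA4.FibLocRing A Pn
      (z.asIdeal.comap (algebraMap Pn (Pn ⧸ In)))) = r at h₂'
    induction r using WithBot.recBotCoe with
    | bot => simp at h₂'
    | coe r' =>
      induction r' using ENat.recTopCoe with
      | top =>
        exfalso
        have h2 : ((⊤ : ℕ∞) : WithBot ℕ∞) + ((t₂ : ℕ) : WithBot ℕ∞) = ⊤ := by
          have hc : ((t₂ : ℕ) : WithBot ℕ∞) = (((t₂ : ℕ) : ℕ∞) : WithBot ℕ∞) := rfl
          rw [hc, ← WithBot.coe_add, top_add]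
          rfl
        rw [h2] at h₂'
        have h3 : ((n : ℕ) : WithBot ℕ∞) = (((n : ℕ) : ℕ∞) : WithBot ℕ∞) := rfl
        rw [h3] at h₂'
        exact absurd (WithBot.coe_eq_coe.mp h₂') (ENat.natCast_ne_top _)
      | coe m =>
        refine ⟨m, rfl, ?_⟩
        have e3 : (((m : ℕ) : ℕ∞) : WithBot ℕ∞) + ((t₂ : ℕ) : WithBot ℕ∞) =
          ((m + t₂ : ℕ) : WithBot ℕ∞) := by push_cast; rfl
        rw [e3] at h₂'
        exact_mod_cast h₂'.symm
  obtain ⟨r₀, hr₀, hrt⟩ := hr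
  rw [hr₀]
  exact arith_chev _ r₀ t₂ e₀ n hrt

end Chev

end Groth.Agent.H2.Idl
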