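import Mathlib
import Groth.Agent.Lib.Helper2.IdlF
import Groth.Agent.Lib.Helper2.IdlI

/-! Helper2: the codepth of the fibre module of a flat finitely presented module over a polynomial
ring is upper semicontinuous. -/

set_option autoImplicit false
set_option linter.style.haveILetI false
universe u

open AlgebraicGeometry CategoryTheory

namespace Groth.Agent.H2.Idl

theorem withBot_add_nat_le_add_nat_iff (a b : WithBot ℕ∞) (n : ℕ) :
    a + (n : WithBot ℕ∞) ≤ b + (n : WithBot ℕ∞) ↔ a ≤ b := by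
  induction a using WithBot.recBotCoe with
  | bot => simp
  | coe x =>
    induction b using WithBot.recBotCoe with
    | bot =>
      have hc : ((n : ℕ) : WithBot ℕ∞) = (((n : ℕ) : ℕ∞) : WithBot ℕ∞) := rfl
      rw [WithBot.bot_add, hc, ← WithBot.coe_add]
      simp
    | coe y =>
      have hc : ((n : ℕ) : WithBot ℕ∞) = (((n : ℕ) : ℕ∞) : WithBot ℕ∞) := rfl
      rw [hc, ← WithBot.coe_add, ← WithBot.coe_add, WithBot.coe_le_coe, WithBot.coe_le_coe]
      exact WithTop.add_le_add_iff_right (ENat.natCast_ne_top n)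

theorem arith_final (a' r' : WithBot ℕ∞) (s' : ℕ∞) (n e₀ k : ℕ) (he : e₀ ≤ n)
    (h1 : a' + (n : WithBot ℕ∞) ≤ r' + (e₀ : WithBot ℕ∞))
    (h2 : r' ≤ ((s' : ℕ∞) : WithBot ℕ∞) + ((n - e₀ + k : ℕ) : WithBot ℕ∞)) :
    a' ≤ ((s' : ℕ∞) : WithBot ℕ∞) + (k : WithBot ℕ∞) := by
  rw [← withBot_add_nat_le_add_nat_iff _ _ n]
  refine h1.trans ?_
  have h3 : r' + (e₀ : WithBot ℕ∞) ≤
      (((s' : ℕ∞) : WithBot ℕ∞) + ((n - e₀ + k : ℕ) : WithBot ℕ∞)) + (e₀ : WithBot ℕ∞) :=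
    add_le_add_left h2 _
  refine h3.trans (le_of_eq ?_)
  rw [add_assoc, add_assoc]
  congr 1
  have : n - e₀ + k + e₀ = k + n := by omega
  exact_mod_cast this

section Main
variable (A : Type u) [CommRing A] (n : ℕ) (M : Type u) [AddCommGroup M]
  [Module (MvPolynomial (Fin n) A) M] [Module.Finite (MvPolynomial (Fin n) A) M]

local notation "Pn" => MvPolynomial (Fin n) A
local notation "In" => Module.annihilator (MvPolynomial (Fin n) A) M

omit [Module.Finite (MvPolynomial (Fin n) A) M] in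
theorem supportDim_fibLocMod_eq_bot (𝔮 : PrimeSpectrum Pn) (h : 𝔮 ∉ Module.support Pn M) :
    Module.supportDim (EGA4.FibLocRing A Pn 𝔮.asIdeal) (EGA4.FibLocMod A Pn 𝔮.asIdeal M) = ⊥ := by
  haveI hsub : Subsingleton (LocalizedModule 𝔮.asIdeal.primeCompl M) :=
    Module.notMem_support_iff.mp h
  haveI : Subsingleton (EGA4.FibLocMod A Pn 𝔮.asIdeal M) :=
    (Submodule.mkQ_surjective _).subsingleton
  exact Module.supportDim_eq_bot_of_subsingleton _ _

/-- **Chevalley semicontinuity** for the dimension of the fibre module. -/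
theorem isOpen_supportDim_add_le (e₀ : ℕ) :
    IsOpen {𝔮 : PrimeSpectrum Pn |
      Module.supportDim (EGA4.FibLocRing A Pn 𝔮.asIdeal) (EGA4.FibLocMod A Pn 𝔮.asIdeal M) +
        (n : WithBot ℕ∞) ≤
      ringKrullDim (EGA4.FibLocRing A Pn 𝔮.asIdeal) + (e₀ : WithBot ℕ∞)} := by
  set i := Spec.map (CommRingCat.ofHom (Ideal.Quotient.mk In)) with hi
  set hP := Spec.map (CommRingCat.ofHom (algebraMap A Pn)) with hhP
  haveI : IsClosedImmersion i := IsClosedImmersion.spec_of_surjective _ Ideal.Quotient.mk_surjective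
  haveI : LocallyOfFiniteType hP := by
    rw [hhP, HasRingHomProperty.Spec_iff (P := @LocallyOfFiniteType)]
    exact RingHom.finiteType_algebraMap.mpr inferInstance
  haveI : LocallyOfFiniteType (i ≫ hP) := inferInstance
  have hWD : IsOpen {z | FlatMor.fibreDimAt (i ≫ hP) z ≤ (e₀ : WithBot ℕ∞)} :=
    Groth.Agent.H1.FibComp.isOpen_fibreDimAt_le' (i ≫ hP) e₀
  obtain ⟨O, hO, hOW⟩ := (i.isEmbedding.isInducing.isOpen_iff).mp hWD
  have hrange : IsClosed (Set.range i) := i.isClosedEmbedding.isClosed_range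
  have hrange' : Set.range i = Module.support Pn M := by
    rw [Module.support_eq_zeroLocus]
    have := range_comap_of_surjective _ (Ideal.Quotient.mk In)
      Ideal.Quotient.mk_surjective
    rw [Ideal.mk_ker] at this
    exact this
  have hset : ({𝔮 : PrimeSpectrum Pn |
      Module.supportDim (EGA4.FibLocRing A Pn 𝔮.asIdeal) (EGA4.FibLocMod A Pn 𝔮.asIdeal M) +
        (n : WithBot ℕ∞) ≤
      ringKrullDim (EGA4.FibLocRing A Pn 𝔮.asIdeal) + (e₀ : WithBot ℕ∞)} : Set (PrimeSpectrum Pn)) =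
      (O ∪ (Set.range i)ᶜ : Set (Spec (CommRingCat.of Pn))) := ?_
  · rw [hset]
    exact hO.union hrange.isOpen_compl
  ext 𝔮
  by_cases h𝔮 : 𝔮 ∈ Set.range i
  · obtain ⟨z, rfl⟩ := h𝔮
    have h1 : (i z ∈ O) ↔ FlatMor.fibreDimAt (i ≫ hP) z ≤ (e₀ : WithBot ℕ∞) := by
      have : z ∈ i ⁻¹' O ↔ z ∈ {z | FlatMor.fibreDimAt (i ≫ hP) z ≤ (e₀ : WithBot ℕ∞)} := by
        rw [hOW]
      exact this
    constructor
    · intro h
      left
      exact h1.mpr ((chev_key A n M e₀ z).mp h)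
    · rintro (h | h)
      · exact (chev_key A n M e₀ z).mpr (h1.mp h)
      · exact absurd ⟨z, rfl⟩ h
  · constructor
    · intro _
      right
      exact h𝔮
    · intro _
      rw [hrange'] at h𝔮
      change Module.supportDim (EGA4.FibLocRing A Pn 𝔮.asIdeal) (EGA4.FibLocMod A Pn 𝔮.asIdeal M) +
        (n : WithBot ℕ∞) ≤ _
      rw [supportDim_fibLocMod_eq_bot A n M 𝔮 h𝔮, WithBot.bot_add]
      exact bot_le

/-- the fibre local rings of affine space have dimension at most `n` -/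
theorem exists_dim_fibLocRing_mvPolynomial (𝔮 : PrimeSpectrum Pn) :
    ∃ r₀ t : ℕ, ringKrullDim (EGA4.FibLocRing A Pn 𝔮.asIdeal) = (r₀ : WithBot ℕ∞) ∧ r₀ + t = n := by
  set hP := Spec.map (CommRingCat.ofHom (algebraMap A Pn)) with hhP
  haveI : LocallyOfFiniteType hP := by
    rw [hhP, HasRingHomProperty.Spec_iff (P := @LocallyOfFiniteType)]
    exact RingHom.finiteType_algebraMap.mpr inferInstance
  obtain ⟨t₂, -, h₂⟩ :=
    Groth.Agent.H1.DimFormula.exists_fibreDimAt_eq_stalk_add_trdeg hP 𝔮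
  rw [Groth.Agent.H1.SmoothDim.fibreDimAt_SpecMap_mvPolynomial] at h₂
  obtain ⟨e3⟩ := nonempty_fibLocRing_equiv_stalk A Pn 𝔮
  have hd2 := ringKrullDim_eq_of_ringEquiv e3
  rw [← hd2] at h₂
  have h₂' : ((n : ℕ) : WithBot ℕ∞) = ringKrullDim (EGA4.FibLocRing A Pn 𝔮.asIdeal) +
      (t₂ : WithBot ℕ∞) := h₂
  generalize ringKrullDim (EGA4.FibLocRing A Pn 𝔮.asIdeal) = r at h₂'
  induction r using WithBot.recBotCoe with
  | bot => simp at h₂'
  | coe r' =>
    induction r' using ENat.recTopCoe with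
    | top =>
      exfalso
      have h2 : ((⊤ : ℕ∞) : WithBot ℕ∞) + ((t₂ : ℕ) : WithBot ℕ∞) = ⊤ := by
        have hc : ((t₂ : ℕ) : WithBot ℕ∞) = (((t₂ : ℕ) : ℕ∞) : WithBot ℕ∞) := rfl
        rw [hc, ← WithBot.coe_add, top_add]
        rfl
      rw [h2] at h₂'
      have h3 : ((n : ℕ) : WithBot ℕ∞) = (((n : ℕ) : ℕ∞) : WithBot ℕ∞) := rfl
      rw [h3] at h₂'
      exact absurd (WithBot.coe_eq_coe.mp h₂') (ENat.natCast_ne_top _)
    | coe m =>
      refine ⟨m, t₂, rfl, ?_⟩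
      have e3 : (((m : ℕ) : ℕ∞) : WithBot ℕ∞) + ((t₂ : ℕ) : WithBot ℕ∞) =
        ((m + t₂ : ℕ) : WithBot ℕ∞) := by push_cast; rfl
      rw [e3] at h₂'
      exact_mod_cast h₂'.symm

theorem nontrivial_fibLocMod_of_mem_support (𝔮 : PrimeSpectrum Pn) (h : 𝔮 ∈ Module.support Pn M) :
    Nontrivial (EGA4.FibLocMod A Pn 𝔮.asIdeal M) := by
  haveI hnt : Nontrivial (LocalizedModule 𝔮.asIdeal.primeCompl M) := Module.mem_support_iff.mp h
  rw [← Module.nonempty_support_iff (R := Localization.AtPrime 𝔮.asIdeal)]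
  refine ⟨IsLocalRing.closedPoint _, ?_⟩
  rw [Module.support_quotient]
  refine ⟨IsLocalRing.closedPoint_mem_support _ _, ?_⟩
  rw [PrimeSpectrum.mem_zeroLocus]
  exact Groth.Agent.H6.FibLoc.fibIdeal_le A Pn 𝔮.asIdeal

variable [Module.FinitePresentation (MvPolynomial (Fin n) A) M] [Module A M]
  [IsScalarTower A (MvPolynomial (Fin n) A) M] [Module.Flat A M]

/-- **the codepth of the fibre module is upper semicontinuous** (polynomial ring case). -/
theorem isOpen_codepth_le (k : ℕ) :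
    IsOpen {𝔮 : PrimeSpectrum Pn |
      Module.supportDim (EGA4.FibLocRing A Pn 𝔮.asIdeal) (EGA4.FibLocMod A Pn 𝔮.asIdeal M) ≤
        ((LocCoh.depth (EGA4.FibLocRing A Pn 𝔮.asIdeal) (EGA4.FibLocMod A Pn 𝔮.asIdeal M) : ℕ∞) :
          WithBot ℕ∞) + (k : WithBot ℕ∞)} := by
  rw [isOpen_iff_forall_mem_open]
  intro 𝔮₀ h₀
  by_cases hs : 𝔮₀ ∈ Module.support Pn M
  swap
  · refine ⟨(Module.support Pn M)ᶜ, ?_, Module.isClosed_support.isOpen_compl, hs⟩
    intro 𝔮 h𝔮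
    change Module.supportDim (EGA4.FibLocRing A Pn 𝔮.asIdeal) (EGA4.FibLocMod A Pn 𝔮.asIdeal M) ≤ _
    rw [supportDim_fibLocMod_eq_bot A n M 𝔮 h𝔮]
    exact bot_le
  · obtain ⟨hN, hCM⟩ := fibLocRing_mvPolynomial_cm A n 𝔮₀.asIdeal
    haveI := hN
    haveI hnt := nontrivial_fibLocMod_of_mem_support A n M 𝔮₀ hs
    obtain ⟨r₀, t, hr₀, hrt⟩ := exists_dim_fibLocRing_mvPolynomial A n 𝔮₀
    obtain ⟨a, ha⟩ := Groth.Agent.H6.LC.exists_supportDim_eq
      (R := EGA4.FibLocRing A Pn 𝔮₀.asIdeal) (EGA4.FibLocMod A Pn 𝔮₀.asIdeal M)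
    have har : a ≤ r₀ := by
      have := Module.supportDim_le_ringKrullDim (EGA4.FibLocRing A Pn 𝔮₀.asIdeal)
        (EGA4.FibLocMod A Pn 𝔮₀.asIdeal M)
      rw [ha, hr₀] at this
      exact_mod_cast this
    have h₀' : (a : WithBot ℕ∞) ≤
        ((LocCoh.depth (EGA4.FibLocRing A Pn 𝔮₀.asIdeal) (EGA4.FibLocMod A Pn 𝔮₀.asIdeal M) : ℕ∞) :
          WithBot ℕ∞) + (k : WithBot ℕ∞) := by
      rw [← ha]
      exact h₀
    have he : a + n - r₀ ≤ n := by omega
    refine ⟨{𝔮 : PrimeSpectrum Pn |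
        ringKrullDim (EGA4.FibLocRing A Pn 𝔮.asIdeal) ≤
          ((LocCoh.depth (EGA4.FibLocRing A Pn 𝔮.asIdeal)
            (EGA4.FibLocMod A Pn 𝔮.asIdeal M) : ℕ∞) : WithBot ℕ∞) +
            ((n - (a + n - r₀) + k : ℕ) : WithBot ℕ∞)} ∩
      {𝔮 : PrimeSpectrum Pn |
        Module.supportDim (EGA4.FibLocRing A Pn 𝔮.asIdeal) (EGA4.FibLocMod A Pn 𝔮.asIdeal M) +
          (n : WithBot ℕ∞) ≤
        ringKrullDim (EGA4.FibLocRing A Pn 𝔮.asIdeal) + ((a + n - r₀ : ℕ) : WithBot ℕ∞)}, ?_,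
      (isOpen_dim_le_depth_add A n M _).inter (isOpen_supportDim_add_le A n M _), ?_, ?_⟩
    · rintro 𝔮 ⟨h1, h2⟩
      exact arith_final _ _ _ n (a + n - r₀) k he h2 h1
    · change ringKrullDim (EGA4.FibLocRing A Pn 𝔮₀.asIdeal) ≤ _
      rw [hr₀]
      have h3 : ((r₀ : ℕ) : WithBot ℕ∞) = (a : WithBot ℕ∞) + ((n - (a + n - r₀) : ℕ) : WithBot ℕ∞) := by
        have : r₀ = a + (n - (a + n - r₀)) := by omega
        exact_mod_cast this
      rw [h3]
      have h4 : ((n - (a + n - r₀) + k : ℕ) : WithBot ℕ∞) =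
          (k : WithBot ℕ∞) + ((n - (a + n - r₀) : ℕ) : WithBot ℕ∞) := by
        push_cast
        rw [add_comm]
      rw [h4, ← add_assoc]
      exact add_le_add_left h₀' _
    · change Module.supportDim (EGA4.FibLocRing A Pn 𝔮₀.asIdeal) (EGA4.FibLocMod A Pn 𝔮₀.asIdeal M) +
        (n : WithBot ℕ∞) ≤ _
      rw [ha, hr₀]
      have : a + n = r₀ + (a + n - r₀) := by omega
      exact le_of_eq (by exact_mod_cast this)

end Main

end Groth.Agent.H2.Idl
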