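import Mathlib
import Groth.Prelude.Def_EGA4b
import Groth.Prelude.Def_FlatMod2
import Groth.Agent.Lib.Helper2.IdlG
import Groth.Agent.Lib.Helper2.SyntCM4
import Groth.Agent.Lib.Helper1.FibreStalk
import Groth.Agent.Lib.Helper7.FlatFibB
import Groth.Agent.Lib.Lead.QC.Stalk

/-! Helper2: the stalk of the restriction of a quasi-coherent module to a fibre, on an affine chart:
depth and dimension are those of the algebraic fibre module. -/

set_option autoImplicit false
set_option linter.style.haveILetI false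
universe u

open AlgebraicGeometry CategoryTheory

namespace Groth.Agent.H2.Idl

/-- base change along a surjection of local rings: depth and dimension -/
theorem dd_of_isBaseChange_surjective {B B' : Type u} [CommRing B] [CommRing B'] [IsLocalRing B]
    [IsLocalRing B'] [Algebra B B'] (hb : Function.Surjective (algebraMap B B'))
    {M N : Type u} [AddCommGroup M] [Module B M] [Module.Finite B M] [AddCommGroup N] [Module B N]
    [Module B' N] [IsScalarTower B B' N] (σ : M →ₗ[B] N) (h : IsBaseChange B' σ) :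
    DD B (M ⧸ (RingHom.ker (algebraMap B B')) • (⊤ : Submodule B M)) B' N := by
  have hsurj := Groth.Agent.H7.FlatFib.surjective_of_isBaseChange hb h
  have hker := Groth.Agent.H7.FlatFib.ker_of_isBaseChange hb h
  let τ : (M ⧸ (RingHom.ker (algebraMap B B')) • (⊤ : Submodule B M)) ≃ₗ[B] N :=
    (Submodule.quotEquivOfEq _ _ hker.symm).trans (σ.quotKerEquivOfSurjective hsurj)
  refine DD.of_semilinear (algebraMap B B') hb τ.toAddEquiv ?_
  intro r m
  change τ (r • m) = algebraMap B B' r • τ m
  rw [map_smul, algebraMap_smul]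

section Scheme
variable {X Y : Scheme.{u}} (f : X ⟶ Y)

open Groth.Agent.LD.QC Groth.Agent.H1.FibreStalk

/-- **the chart description of the fibre module**: depth and dimension of the stalk of `F|_{X_y}` at
`x` over the local ring of the fibre are those of the algebraic fibre module on an affine chart. -/
theorem dd_stalk_fiber (F : X.Modules) [F.IsQuasicoherent] {U : X.Opens} {V : Y.Opens}
    (hU : IsAffineOpen U) (hV : IsAffineOpen V) (e : U ≤ f ⁻¹ᵁ V) (x : X) (hx : x ∈ U)
    [Module.Finite Γ(X, U) Γ(F, U)] :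
    letI := (f.appLE V U e).hom.toAlgebra
    DD ((f.fiber (f x)).presheaf.stalk (f.asFiber x))
      (((Scheme.Modules.pullback (f.fiberι (f x))).obj F).presheaf.stalk (f.asFiber x))
      (Localization.AtPrime (hU.primeIdealOf ⟨x, hx⟩).asIdeal)
      (EGA4.FibLocMod Γ(Y, V) Γ(X, U) (hU.primeIdealOf ⟨x, hx⟩).asIdeal Γ(F, U)) := by
  letI algAB : Algebra Γ(Y, V) Γ(X, U) := (f.appLE V U e).hom.toAlgebra
  -- step 1: base change along `O_{X,x} → O_{X_y,x}`
  let b : X.presheaf.stalk x →+* (f.fiber (f x)).presheaf.stalk (f.asFiber x) := toFiberStalk f x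
  letI algBB' : Algebra (X.presheaf.stalk x) ((f.fiber (f x)).presheaf.stalk (f.asFiber x)) :=
    b.toAlgebra
  letI modBN : Module (X.presheaf.stalk x)
      (((Scheme.Modules.pullback (f.fiberι (f x))).obj F).presheaf.stalk (f.asFiber x)) :=
    Module.compHom _ b
  haveI : IsScalarTower (X.presheaf.stalk x) ((f.fiber (f x)).presheaf.stalk (f.asFiber x))
      (((Scheme.Modules.pullback (f.fiberι (f x))).obj F).presheaf.stalk (f.asFiber x)) :=
    IsScalarTower.of_algebraMap_smul fun _ _ => rfl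
  obtain ⟨σ, hσ⟩ := Groth.Agent.H7.FlatFib.exists_isBaseChange_stalk_congr (f.fiberι (f x)) F
    (f.asFiber x) x (f.fiberι_asFiber x) b rfl
  have hb : Function.Surjective (algebraMap (X.presheaf.stalk x)
      ((f.fiber (f x)).presheaf.stalk (f.asFiber x))) := toFiberStalk_surjective f x
  -- the stalk as a localization
  letI algBO : Algebra Γ(X, U) (X.presheaf.stalk x) :=
    TopCat.Presheaf.algebra_section_stalk X.presheaf ⟨x, hx⟩
  haveI hlocB : IsLocalization.AtPrime (X.presheaf.stalk x) (hU.primeIdealOf ⟨x, hx⟩).asIdeal :=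
    hU.isLocalization_stalk ⟨x, hx⟩
  letI modBF := stalkΓModule F x U hx
  haveI : IsScalarTower Γ(X, U) (X.presheaf.stalk x) (F.presheaf.stalk x) :=
    IsScalarTower.of_algebraMap_smul fun _ _ => rfl
  haveI hlocM := isLocalizedModule_germ F hU x hx
  haveI : Module.Finite (X.presheaf.stalk x) (F.presheaf.stalk x) :=
    Module.Finite.of_isLocalizedModule (hU.primeIdealOf ⟨x, hx⟩).asIdeal.primeCompl
      (germLinear F x U hx)
  have h1 := dd_of_isBaseChange_surjective hb σ hσ
  -- step 2: the fibre model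
  letI algAO : Algebra Γ(Y, V) (X.presheaf.stalk x) :=
    ((algebraMap Γ(X, U) (X.presheaf.stalk x)).comp (algebraMap Γ(Y, V) Γ(X, U))).toAlgebra
  haveI : IsScalarTower Γ(Y, V) Γ(X, U) (X.presheaf.stalk x) :=
    IsScalarTower.of_algebraMap_eq fun _ => rfl
  have h2 := dd_fibModel (A := Γ(Y, V)) (hU.primeIdealOf ⟨x, hx⟩).asIdeal Γ(F, U)
    (X.presheaf.stalk x) (F.presheaf.stalk x)
    (fun s hs => IsLocalization.map_units (X.presheaf.stalk x)
      (⟨s, hs⟩ : (hU.primeIdealOf ⟨x, hx⟩).asIdeal.primeCompl))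
    (fun l => by
      obtain ⟨⟨p, s⟩, hl⟩ := IsLocalization.surj (hU.primeIdealOf ⟨x, hx⟩).asIdeal.primeCompl l
      exact ⟨p, s.1, s.2, hl⟩)
    (germLinear F x U hx)
  -- the two ideals agree
  letI algAOY : Algebra Γ(Y, V) (Y.presheaf.stalk (f x)) :=
    TopCat.Presheaf.algebra_section_stalk Y.presheaf ⟨f x, e hx⟩
  haveI : IsLocalization.AtPrime (Y.presheaf.stalk (f x)) (hV.primeIdealOf ⟨f x, e hx⟩).asIdeal :=
    hV.isLocalization_stalk ⟨f x, e hx⟩
  have hp : (hU.primeIdealOf ⟨x, hx⟩).asIdeal.comap (algebraMap Γ(Y, V) Γ(X, U)) =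
      (hV.primeIdealOf ⟨f x, e hx⟩).asIdeal :=
    Groth.Agent.H2.SyntCM.comap_primeIdealOf f (U := ⟨U, hU⟩) (V := ⟨V, hV⟩) e x hx
  have hm : IsLocalRing.maximalIdeal (Y.presheaf.stalk (f x)) =
      (hV.primeIdealOf ⟨f x, e hx⟩).asIdeal.map (algebraMap Γ(Y, V) (Y.presheaf.stalk (f x))) :=
    (IsLocalization.AtPrime.map_eq_maximalIdeal _ _).symm
  have hsq : (f.stalkMap x).hom.comp (algebraMap Γ(Y, V) (Y.presheaf.stalk (f x))) =
      algebraMap Γ(Y, V) (X.presheaf.stalk x) := by
    ext a
    simp only [RingHom.algebraMap_toAlgebra, RingHom.coe_comp, Function.comp_apply]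
    change (f.stalkMap x).hom ((Y.presheaf.germ V (f x) (e hx)).hom a) = _
    rw [Scheme.Hom.germ_stalkMap_apply]
    simp only [Scheme.Hom.appLE, CommRingCat.hom_comp, RingHom.coe_comp, Function.comp_apply]
    exact (X.presheaf.germ_res_apply _ _ _ _).symm
  have hideal : RingHom.ker (algebraMap (X.presheaf.stalk x)
      ((f.fiber (f x)).presheaf.stalk (f.asFiber x))) =
      ((hU.primeIdealOf ⟨x, hx⟩).asIdeal.comap (algebraMap Γ(Y, V) Γ(X, U))).map
        (algebraMap Γ(Y, V) (X.presheaf.stalk x)) := by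
    have : RingHom.ker (algebraMap (X.presheaf.stalk x)
        ((f.fiber (f x)).presheaf.stalk (f.asFiber x))) =
        (IsLocalRing.maximalIdeal (Y.presheaf.stalk (f x))).map (f.stalkMap x).hom :=
      ker_toFiberStalk f x
    rw [this, hm, Ideal.map_map, hsq, hp]
  rw [hideal] at h1
  exact h1.symm.trans h2

end Scheme

end Groth.Agent.H2.Idl
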