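import Mathlib
import Groth.Prelude.Def_CAlg
import Groth.Prelude.Def_FlatMod2
import Groth.Prelude.Def_CohB1
import Groth.Agent.Lib.Helper2.IdlJ
import Groth.Agent.Lib.Helper2.IdlK
import Groth.Agent.Lib.Lead.QC.Flat
import Groth.Agent.Lib.Lead.QC.FinPres
import Groth.Agent.Lib.Lead.QC.Pullback

/-! Helper2: the codepth of the fibres of a flat finitely presented module is upper semicontinuous
(EGA IV 12.1.1 (v)), and the fibrewise Cohen–Macaulay locus of a module is open. -/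

set_option autoImplicit false
set_option linter.style.haveILetI false
universe u

open AlgebraicGeometry CategoryTheory

namespace Groth.Agent.H2.Idl

open Groth.Agent.LD.QC

section Scheme
variable {X Y : Scheme.{u}} (f : X ⟶ Y)

/-- on an affine chart with a presentation `A[T₁..Tₙ] ↠ Γ(X,U)`, the fibre module of `F` at `x ∈ U`
has the depth and the dimension of the algebraic fibre module over the polynomial ring. -/
theorem dd_stalk_fiber_mvPolynomial (F : X.Modules) [F.IsQuasicoherent] {U : X.Opens} {V : Y.Opens}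
    (hU : IsAffineOpen U) (hV : IsAffineOpen V) (e : U ≤ f ⁻¹ᵁ V)
    [Module.Finite Γ(X, U) Γ(F, U)] (n : ℕ)
    (φ : letI := (f.appLE V U e).hom.toAlgebra
      MvPolynomial (Fin n) Γ(Y, V) →ₐ[Γ(Y, V)] Γ(X, U))
    (hφ : Function.Surjective φ) (x : X) (hx : x ∈ U) :
    letI := (f.appLE V U e).hom.toAlgebra
    letI : Module (MvPolynomial (Fin n) Γ(Y, V)) Γ(F, U) := Module.compHom _ φ.toRingHom
    DD ((f.fiber (f x)).presheaf.stalk (f.asFiber x))
      (((Scheme.Modules.pullback (f.fiberι (f x))).obj F).presheaf.stalk (f.asFiber x))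
      (EGA4.FibLocRing Γ(Y, V) (MvPolynomial (Fin n) Γ(Y, V))
        ((hU.primeIdealOf ⟨x, hx⟩).asIdeal.comap φ.toRingHom))
      (EGA4.FibLocMod Γ(Y, V) (MvPolynomial (Fin n) Γ(Y, V))
        ((hU.primeIdealOf ⟨x, hx⟩).asIdeal.comap φ.toRingHom) Γ(F, U)) := by
  letI algAB : Algebra Γ(Y, V) Γ(X, U) := (f.appLE V U e).hom.toAlgebra
  letI modPM : Module (MvPolynomial (Fin n) Γ(Y, V)) Γ(F, U) := Module.compHom _ φ.toRingHom
  letI algPB : Algebra (MvPolynomial (Fin n) Γ(Y, V)) Γ(X, U) := φ.toRingHom.toAlgebra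
  haveI : IsScalarTower Γ(Y, V) (MvPolynomial (Fin n) Γ(Y, V)) Γ(X, U) :=
    IsScalarTower.of_algebraMap_eq (fun a => (φ.commutes a).symm)
  haveI : IsScalarTower (MvPolynomial (Fin n) Γ(Y, V)) Γ(X, U) Γ(F, U) :=
    IsScalarTower.of_algebraMap_smul fun _ _ => rfl
  have d1 := dd_stalk_fiber f F hU hV e x hx
  have d2 := dd_fibLocMod_of_surjective (A := Γ(Y, V)) (P := MvPolynomial (Fin n) Γ(Y, V))
    (B := Γ(X, U)) hφ (hU.primeIdealOf ⟨x, hx⟩).asIdeal Γ(F, U)
  haveI : Module.Finite (MvPolynomial (Fin n) Γ(Y, V)) Γ(X, U) :=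
    Module.Finite.of_surjective (Algebra.linearMap _ _) hφ
  haveI : Module.Finite (MvPolynomial (Fin n) Γ(Y, V)) Γ(F, U) := Module.Finite.trans Γ(X, U) _
  have d3 : DD (Localization.AtPrime ((hU.primeIdealOf ⟨x, hx⟩).asIdeal.comap φ.toRingHom))
      (EGA4.FibLocMod Γ(Y, V) (MvPolynomial (Fin n) Γ(Y, V))
        ((hU.primeIdealOf ⟨x, hx⟩).asIdeal.comap φ.toRingHom) Γ(F, U))
      (EGA4.FibLocRing Γ(Y, V) (MvPolynomial (Fin n) Γ(Y, V))
        ((hU.primeIdealOf ⟨x, hx⟩).asIdeal.comap φ.toRingHom))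
      (EGA4.FibLocMod Γ(Y, V) (MvPolynomial (Fin n) Γ(Y, V))
        ((hU.primeIdealOf ⟨x, hx⟩).asIdeal.comap φ.toRingHom) Γ(F, U)) :=
    DD.of_semilinear (Ideal.Quotient.mk _) Ideal.Quotient.mk_surjective (AddEquiv.refl _)
      (fun _ _ => rfl)
  exact (d1.trans d2).trans d3

/-- **EGA IV 12.1.1 (v)**: for `f` locally of finite presentation and `F` finitely presented and
`f`-flat, the codepth of the fibre module is upper semicontinuous. -/
theorem isOpen_fibre_codepth_le [LocallyOfFinitePresentation f] (F : X.Modules)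
    (hF : CohB1.IsFP F) (hflat : FlatMod.IsFlatOver f F) (k : ℕ) :
    IsOpen {x : X | Module.supportDim ((f.fiber (f.base x)).presheaf.stalk (f.asFiber x))
        (((Scheme.Modules.pullback (f.fiberι (f.base x))).obj F).presheaf.stalk (f.asFiber x)) ≤
      ((LocCoh.depth ((f.fiber (f.base x)).presheaf.stalk (f.asFiber x))
        (((Scheme.Modules.pullback (f.fiberι (f.base x))).obj F).presheaf.stalk (f.asFiber x)) : ℕ∞) :
          WithBot ℕ∞) + (k : WithBot ℕ∞)} := by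
  haveI := hF
  haveI hqc : F.IsQuasicoherent := inferInstance
  rw [isOpen_iff_forall_mem_open]
  intro x₀ hx₀
  obtain ⟨U, V, hU, hV, hx₀U, e⟩ := exists_affine_nhds_le_preimage f x₀
  letI algAB : Algebra Γ(Y, V) Γ(X, U) := (f.appLE V U e).hom.toAlgebra
  haveI hfpAB : Algebra.FinitePresentation Γ(Y, V) Γ(X, U) := by
    have := HasRingHomProperty.appLE (P := @LocallyOfFinitePresentation) f inferInstance
      ⟨V, hV⟩ ⟨U, hU⟩ e
    exact RingHom.finitePresentation_algebraMap.mp this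
  haveI hfpM : Module.FinitePresentation Γ(X, U) Γ(F, U) :=
    finitePresentation_sections_of_isFinitePresentation F hF hU
  letI modAM : Module Γ(Y, V) Γ(F, U) := sectionsModuleOver f F e
  haveI towerABM : IsScalarTower Γ(Y, V) Γ(X, U) Γ(F, U) := ⟨fun a b m => by
    change (f.appLE V U e a * b) • m = f.appLE V U e a • (b • m)
    rw [mul_smul]⟩
  haveI hflatM : Module.Flat Γ(Y, V) Γ(F, U) :=
    flat_sections_of_isFlatOverAt f F hU hV e (fun x _ => hflat x)
  obtain ⟨n, φ, hφ⟩ := Algebra.FiniteType.iff_quotient_mvPolynomial''.mp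
    (inferInstance : Algebra.FiniteType Γ(Y, V) Γ(X, U))
  letI algPB : Algebra (MvPolynomial (Fin n) Γ(Y, V)) Γ(X, U) := φ.toRingHom.toAlgebra
  haveI : IsScalarTower Γ(Y, V) (MvPolynomial (Fin n) Γ(Y, V)) Γ(X, U) :=
    IsScalarTower.of_algebraMap_eq (fun a => (φ.commutes a).symm)
  letI modPM : Module (MvPolynomial (Fin n) Γ(Y, V)) Γ(F, U) := Module.compHom _ φ.toRingHom
  haveI : IsScalarTower (MvPolynomial (Fin n) Γ(Y, V)) Γ(X, U) Γ(F, U) :=
    IsScalarTower.of_algebraMap_smul fun _ _ => rfl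
  haveI : IsScalarTower Γ(Y, V) (MvPolynomial (Fin n) Γ(Y, V)) Γ(F, U) := ⟨fun a p m => by
    change φ (a • p) • m = a • (φ p • m)
    rw [map_smul, smul_assoc]⟩
  haveI : Module.Finite (MvPolynomial (Fin n) Γ(Y, V)) Γ(X, U) :=
    Module.Finite.of_surjective (Algebra.linearMap _ _) hφ
  haveI : Algebra.FinitePresentation (MvPolynomial (Fin n) Γ(Y, V)) Γ(X, U) :=
    Algebra.FinitePresentation.of_restrict_scalars_finitePresentation Γ(Y, V) _ _
  haveI : Module.FinitePresentation (MvPolynomial (Fin n) Γ(Y, V)) Γ(X, U) :=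
    Module.FinitePresentation.of_finite_of_finitePresentation _ _
  haveI : Module.FinitePresentation (MvPolynomial (Fin n) Γ(Y, V)) Γ(F, U) :=
    Module.FinitePresentation.trans _ Γ(F, U) Γ(X, U)
  have hW := isOpen_codepth_le Γ(Y, V) n Γ(F, U) k
  let ψ : U → PrimeSpectrum (MvPolynomial (Fin n) Γ(Y, V)) :=
    fun x => PrimeSpectrum.comap φ.toRingHom (hU.primeIdealOf x)
  have hψ : Continuous ψ :=
    (PrimeSpectrum.continuous_comap φ.toRingHom).comp hU.isoSpec.hom.continuous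
  have key : ∀ (x : X) (hx : x ∈ U),
      (Module.supportDim ((f.fiber (f.base x)).presheaf.stalk (f.asFiber x))
        (((Scheme.Modules.pullback (f.fiberι (f.base x))).obj F).presheaf.stalk (f.asFiber x)) ≤
      ((LocCoh.depth ((f.fiber (f.base x)).presheaf.stalk (f.asFiber x))
        (((Scheme.Modules.pullback (f.fiberι (f.base x))).obj F).presheaf.stalk (f.asFiber x)) : ℕ∞) :
          WithBot ℕ∞) + (k : WithBot ℕ∞)) ↔
      ψ ⟨x, hx⟩ ∈ {𝔮 : PrimeSpectrum (MvPolynomial (Fin n) Γ(Y, V)) |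
        Module.supportDim (EGA4.FibLocRing Γ(Y, V) (MvPolynomial (Fin n) Γ(Y, V)) 𝔮.asIdeal)
          (EGA4.FibLocMod Γ(Y, V) (MvPolynomial (Fin n) Γ(Y, V)) 𝔮.asIdeal Γ(F, U)) ≤
        ((LocCoh.depth (EGA4.FibLocRing Γ(Y, V) (MvPolynomial (Fin n) Γ(Y, V)) 𝔮.asIdeal)
          (EGA4.FibLocMod Γ(Y, V) (MvPolynomial (Fin n) Γ(Y, V)) 𝔮.asIdeal Γ(F, U)) : ℕ∞) :
            WithBot ℕ∞) + (k : WithBot ℕ∞)} := by
    intro x hx
    obtain ⟨hd, hs⟩ := dd_stalk_fiber_mvPolynomial f F hU hV e n φ hφ x hx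
    change _ ↔ (Module.supportDim (EGA4.FibLocRing Γ(Y, V) (MvPolynomial (Fin n) Γ(Y, V))
          ((hU.primeIdealOf ⟨x, hx⟩).asIdeal.comap φ.toRingHom))
          (EGA4.FibLocMod Γ(Y, V) (MvPolynomial (Fin n) Γ(Y, V))
            ((hU.primeIdealOf ⟨x, hx⟩).asIdeal.comap φ.toRingHom) Γ(F, U)) ≤
        ((LocCoh.depth (EGA4.FibLocRing Γ(Y, V) (MvPolynomial (Fin n) Γ(Y, V))
          ((hU.primeIdealOf ⟨x, hx⟩).asIdeal.comap φ.toRingHom))
          (EGA4.FibLocMod Γ(Y, V) (MvPolynomial (Fin n) Γ(Y, V))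
            ((hU.primeIdealOf ⟨x, hx⟩).asIdeal.comap φ.toRingHom) Γ(F, U)) : ℕ∞) :
            WithBot ℕ∞) + (k : WithBot ℕ∞))
    rw [← hd, ← hs]
  refine ⟨Subtype.val '' (ψ ⁻¹' _), ?_, U.isOpen.isOpenMap_subtype_val _ (hW.preimage hψ),
    ⟨⟨x₀, hx₀U⟩, (key x₀ hx₀U).mp hx₀, rfl⟩⟩
  rintro _ ⟨⟨x, hx⟩, hxW, rfl⟩
  exact (key x hx).mpr hxW

end Scheme

end Groth.Agent.H2.Idl
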