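import Mathlib
import Groth.Prelude.Def_CAlg
import Groth.Prelude.Def_FlatMod2
import Groth.Prelude.Def_CohB1
import Groth.Prelude.Def_Dual3
import Groth.Agent.Lib.Helper2.IdlL
import Groth.Agent.Lib.Helper1.ClosureDim
import Groth.Agent.Lib.Helper1.AlgSpDim

/-! Helper2: the rectified depth of the fibres of a flat finitely presented module is lower
semicontinuous (EGA IV 12.1.1 (vi)?). -/

set_option autoImplicit false
set_option linter.style.haveILetI false
universe u

open AlgebraicGeometry CategoryTheory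

namespace Groth.Agent.H2.Idl

open Groth.Agent.LD.QC

section Alg
variable (A : Type u) [CommRing A] (n : ℕ)

local notation "Pn" => MvPolynomial (Fin n) A

/-- the fibre local rings of affine space: `dim R_𝔮 + trdeg κ(𝔮)/κ(𝔭) = n` -/
theorem exists_dim_fibLocRing_mvPolynomial' (𝔮 : PrimeSpectrum Pn) :
    ∃ r₀ t : ℕ, ringKrullDim (EGA4.FibLocRing A Pn 𝔮.asIdeal) = (r₀ : WithBot ℕ∞) ∧ r₀ + t = n ∧
      Dual3.resTrdeg (Spec.map (CommRingCat.ofHom (algebraMap A Pn))) 𝔮 = t := by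
  set hP := Spec.map (CommRingCat.ofHom (algebraMap A Pn)) with hhP
  haveI : LocallyOfFiniteType hP := by
    rw [hhP, HasRingHomProperty.Spec_iff (P := @LocallyOfFiniteType)]
    exact RingHom.finiteType_algebraMap.mpr inferInstance
  obtain ⟨t₂, ht₂, h₂⟩ :=
    Groth.Agent.H1.DimFormula.exists_fibreDimAt_eq_stalk_add_trdeg hP 𝔮
  rw [Groth.Agent.H1.SmoothDim.fibreDimAt_SpecMap_mvPolynomial] at h₂
  obtain ⟨e3⟩ := nonempty_fibLocRing_equiv_stalk A Pn 𝔮
  have hd2 := ringKrullDim_eq_of_ringEquiv e3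
  rw [← hd2] at h₂
  have h₂' : ((n : ℕ) : WithBot ℕ∞) = ringKrullDim (EGA4.FibLocRing A Pn 𝔮.asIdeal) +
      (t₂ : WithBot ℕ∞) := h₂
  generalize ringKrullDim (EGA4.FibLocRing A Pn 𝔮.asIdeal) = r at h₂'
  induction r using WithBot.recBotCoe with
  | bot => simp at h₂'
  | coe r' =>
    induction r' using ENat.recTopCoe with
    | top =>
      exfalso
      have h2 : ((⊤ : ℕ∞) : WithBot ℕ∞) + ((t₂ : ℕ) : WithBot ℕ∞) = ⊤ := by
        have hc : ((t₂ : ℕ) : WithBot ℕ∞) = (((t₂ : ℕ) : ℕ∞) : WithBot ℕ∞) := rfl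
        rw [hc, ← WithBot.coe_add, top_add]
        rfl
      rw [h2] at h₂'
      have h3 : ((n : ℕ) : WithBot ℕ∞) = (((n : ℕ) : ℕ∞) : WithBot ℕ∞) := rfl
      rw [h3] at h₂'
      exact absurd (WithBot.coe_eq_coe.mp h₂') (ENat.natCast_ne_top _)
    | coe m =>
      refine ⟨m, t₂, rfl, ?_, ht₂⟩
      have e3 : (((m : ℕ) : ℕ∞) : WithBot ℕ∞) + ((t₂ : ℕ) : WithBot ℕ∞) =
        ((m + t₂ : ℕ) : WithBot ℕ∞) := by push_cast; rfl
      rw [e3] at h₂'
      exact_mod_cast h₂'.symm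

end Alg

section Scheme
variable {X Y : Scheme.{u}} (f : X ⟶ Y)

/-- the closure of a point in its fibre has dimension the transcendence degree of the residue field
extension. -/
theorem exists_resTrdeg_eq_dim_closure [LocallyOfFiniteType f] (x : X) :
    ∃ t : ℕ, Dual3.resTrdeg f x = t ∧
      topologicalKrullDim ↥(closure ({f.asFiber x} : Set ↥(f.fiber (f x)))) =
        (t : WithBot ℕ∞) := by
  obtain ⟨t, ht, hdim⟩ := @Groth.Agent.H1.ClosureDim.exists_trdeg_eq_dim_closure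
    (Y.residueField (f x)) _ _ (f.fiberToSpecResidueField (f x))
    (Groth.Agent.H1.Chev.locallyOfFiniteType_fiberToSpecResidueField f (f x)) (f.asFiber x)
  obtain ⟨θ⟩ := Groth.Agent.H1.DimFormula.exists_residueField_fiber_equiv f x
  refine ⟨t, ?_, hdim⟩
  rw [← ht]
  letI a1 := (f.residueFieldMap x).hom.toAlgebra
  letI a2 := (Groth.Agent.H1.DimFormula.toResidueField (k := Y.residueField (f x))
      (f.fiberToSpecResidueField (f x)) (f.asFiber x)).hom.toAlgebra
  exact θ.trdeg_eq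

theorem resTrdeg_congr {f f' : X ⟶ Y} (e : f = f') (x : X) :
    Dual3.resTrdeg f x = Dual3.resTrdeg f' x := by
  subst e
  rfl

theorem resTrdeg_congr_pt (x x' : X) (e : x = x') :
    Dual3.resTrdeg f x = Dual3.resTrdeg f x' := by
  subst e
  rfl

/-- the residue transcendence degree computed on a chart with a presentation. -/
theorem resTrdeg_chart {U : X.Opens} {V : Y.Opens}
    (hU : IsAffineOpen U) (hV : IsAffineOpen V) (e : U ≤ f ⁻¹ᵁ V) (n : ℕ)
    (φ : letI := (f.appLE V U e).hom.toAlgebra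
      MvPolynomial (Fin n) Γ(Y, V) →ₐ[Γ(Y, V)] Γ(X, U))
    (hφ : Function.Surjective φ) (x : X) (hx : x ∈ U) :
    letI := (f.appLE V U e).hom.toAlgebra
    Dual3.resTrdeg f x =
      Dual3.resTrdeg (Spec.map (CommRingCat.ofHom
        (algebraMap Γ(Y, V) (MvPolynomial (Fin n) Γ(Y, V)))))
        (PrimeSpectrum.comap φ.toRingHom (hU.primeIdealOf ⟨x, hx⟩)) := by
  letI algAB : Algebra Γ(Y, V) Γ(X, U) := (f.appLE V U e).hom.toAlgebra
  set P : Spec Γ(X, U) := hU.primeIdealOf ⟨x, hx⟩ with hP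
  have hPx : hU.fromSpec P = x := hU.fromSpec_primeIdealOf ⟨x, hx⟩
  set g : Spec Γ(X, U) ⟶ Spec Γ(Y, V) := Spec.map (f.appLE V U e) with hg
  have comm : g ≫ hV.fromSpec = hU.fromSpec ≫ f := IsAffineOpen.SpecMap_appLE_fromSpec f hV hU e
  have h1 := Groth.Agent.H1.AlgSpDim.resTrdeg_eq_of_etale_square f g hU.fromSpec hV.fromSpec comm P
  rw [resTrdeg_congr_pt f _ _ hPx] at h1
  rw [← h1]
  set i : Spec Γ(X, U) ⟶ Spec (CommRingCat.of (MvPolynomial (Fin n) Γ(Y, V))) :=
    Spec.map (CommRingCat.ofHom φ.toRingHom) with hi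
  set hPn := Spec.map (CommRingCat.ofHom
        (algebraMap Γ(Y, V) (MvPolynomial (Fin n) Γ(Y, V)))) with hhPn
  haveI : IsClosedImmersion i := IsClosedImmersion.spec_of_surjective _ hφ
  have hfac : i ≫ hPn = g := by
    rw [hi, hhPn, hg, ← Spec.map_comp]
    congr 1
    ext a
    exact φ.commutes a
  rw [resTrdeg_congr hfac.symm P, Groth.Agent.H1.AlgSpDim.resTrdeg_comp i hPn P]
  have h0 : Dual3.resTrdeg i P = 0 := trdeg_residueFieldMap_of_isClosedImmersion i P
  rw [h0, add_zero]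
  rfl

end Scheme

end Groth.Agent.H2.Idl
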