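import Mathlib
import Groth.Prelude.Def_CAlg
import Groth.Prelude.Def_FlatMod2
import Groth.Prelude.Def_CohB1
import Groth.Prelude.Def_Dual3
import Groth.Agent.Lib.Helper2.IdlN

/-! Helper2: the rectified depth of the fibres of a flat finitely presented module is lower
semicontinuous. -/

set_option autoImplicit false
set_option linter.style.haveILetI false
universe u

open AlgebraicGeometry CategoryTheory

namespace Groth.Agent.H2.Idl

open Groth.Agent.LD.QC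

theorem arith_rect (d : ℕ∞) (r₀ t n n₀ : ℕ) (h : r₀ + t = n₀ + n) :
    ((n : WithBot ℕ∞) ≤ ((d : ℕ∞) : WithBot ℕ∞) + (t : WithBot ℕ∞)) ↔
    ((r₀ : WithBot ℕ∞) ≤ ((d : ℕ∞) : WithBot ℕ∞) + (n₀ : WithBot ℕ∞)) := by
  have hc : ∀ k : ℕ, ((k : ℕ) : WithBot ℕ∞) = (((k : ℕ) : ℕ∞) : WithBot ℕ∞) := fun _ => rfl
  rw [hc n, hc t, hc r₀, hc n₀, ← WithBot.coe_add, ← WithBot.coe_add, WithBot.coe_le_coe,
    WithBot.coe_le_coe]
  induction d using ENat.recTopCoe with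
  | top => simp
  | coe m =>
    have h1 : ((n : ℕ) : ℕ∞) ≤ (m : ℕ∞) + (t : ℕ∞) ↔ n ≤ m + t := by
      rw [← Nat.cast_add, Nat.cast_le]
    have h2 : ((r₀ : ℕ) : ℕ∞) ≤ (m : ℕ∞) + (n₀ : ℕ∞) ↔ r₀ ≤ m + n₀ := by
      rw [← Nat.cast_add, Nat.cast_le]
    rw [h1, h2]
    omega

/-- a surjection from a polynomial ring can be enlarged to more variables -/
theorem exists_surjective_mvPolynomial_add {A B : Type u} [CommRing A] [CommRing B] [Algebra A B]
    {n₀ : ℕ} (φ₀ : MvPolynomial (Fin n₀) A →ₐ[A] B) (hφ₀ : Function.Surjective φ₀) (n : ℕ) :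
    ∃ φ : MvPolynomial (Fin (n₀ + n)) A →ₐ[A] B, Function.Surjective φ := by
  refine ⟨MvPolynomial.aeval (Fin.addCases (fun j => φ₀ (MvPolynomial.X j)) (fun _ => 0)), ?_⟩
  intro b
  obtain ⟨p, rfl⟩ := hφ₀ b
  refine ⟨MvPolynomial.rename (Fin.castAdd n) p, ?_⟩
  rw [MvPolynomial.aeval_rename]
  have : (Fin.addCases (fun j => φ₀ (MvPolynomial.X j)) (fun _ => (0 : B)) : Fin (n₀ + n) → B) ∘
      Fin.castAdd n = fun j => φ₀ (MvPolynomial.X j) := by
    funext j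
    simp
  rw [this]
  have h2 := MvPolynomial.aeval_unique φ₀
  exact (DFunLike.congr_fun h2 p).symm

section Scheme
variable {X Y : Scheme.{u}} (f : X ⟶ Y)

/-- **EGA IV 12.1.1**: for `f` locally of finite presentation and `F` finitely presented and
`f`-flat, the rectified depth of the fibre module is lower semicontinuous. -/
theorem isOpen_rectified_depth [LocallyOfFinitePresentation f] (F : X.Modules)
    (hF : CohB1.IsFP F) (hflat : FlatMod.IsFlatOver f F) (n : ℕ) :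
    IsOpen {x : X | (n : WithBot ℕ∞) ≤
      ((LocCoh.depth ((f.fiber (f.base x)).presheaf.stalk (f.asFiber x))
        (((Scheme.Modules.pullback (f.fiberι (f.base x))).obj F).presheaf.stalk (f.asFiber x)) : ℕ∞) :
          WithBot ℕ∞) +
        topologicalKrullDim ↥(closure ({f.asFiber x} : Set ↥(f.fiber (f.base x))))} := by
  haveI := hF
  haveI hqc : F.IsQuasicoherent := inferInstance
  rw [isOpen_iff_forall_mem_open]
  intro x₀ hx₀
  obtain ⟨U, V, hU, hV, hx₀U, e⟩ := exists_affine_nhds_le_preimage f x₀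
  letI algAB : Algebra Γ(Y, V) Γ(X, U) := (f.appLE V U e).hom.toAlgebra
  haveI hfpAB : Algebra.FinitePresentation Γ(Y, V) Γ(X, U) := by
    have := HasRingHomProperty.appLE (P := @LocallyOfFinitePresentation) f inferInstance
      ⟨V, hV⟩ ⟨U, hU⟩ e
    exact RingHom.finitePresentation_algebraMap.mp this
  haveI hfpM : Module.FinitePresentation Γ(X, U) Γ(F, U) :=
    finitePresentation_sections_of_isFinitePresentation F hF hU
  letI modAM : Module Γ(Y, V) Γ(F, U) := sectionsModuleOver f F e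
  haveI towerABM : IsScalarTower Γ(Y, V) Γ(X, U) Γ(F, U) := ⟨fun a b m => by
    change (f.appLE V U e a * b) • m = f.appLE V U e a • (b • m)
    rw [mul_smul]⟩
  haveI hflatM : Module.Flat Γ(Y, V) Γ(F, U) :=
    flat_sections_of_isFlatOverAt f F hU hV e (fun x _ => hflat x)
  obtain ⟨n₀, φ₀, hφ₀⟩ := Algebra.FiniteType.iff_quotient_mvPolynomial''.mp
    (inferInstance : Algebra.FiniteType Γ(Y, V) Γ(X, U))
  obtain ⟨φ, hφ⟩ := exists_surjective_mvPolynomial_add φ₀ hφ₀ n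
  letI algPB : Algebra (MvPolynomial (Fin (n₀ + n)) Γ(Y, V)) Γ(X, U) := φ.toRingHom.toAlgebra
  haveI : IsScalarTower Γ(Y, V) (MvPolynomial (Fin (n₀ + n)) Γ(Y, V)) Γ(X, U) :=
    IsScalarTower.of_algebraMap_eq (fun a => (φ.commutes a).symm)
  letI modPM : Module (MvPolynomial (Fin (n₀ + n)) Γ(Y, V)) Γ(F, U) :=
    Module.compHom _ φ.toRingHom
  haveI : IsScalarTower (MvPolynomial (Fin (n₀ + n)) Γ(Y, V)) Γ(X, U) Γ(F, U) :=
    IsScalarTower.of_algebraMap_smul fun _ _ => rfl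
  haveI : IsScalarTower Γ(Y, V) (MvPolynomial (Fin (n₀ + n)) Γ(Y, V)) Γ(F, U) := ⟨fun a p m => by
    change φ (a • p) • m = a • (φ p • m)
    rw [map_smul, smul_assoc]⟩
  haveI : Module.Finite (MvPolynomial (Fin (n₀ + n)) Γ(Y, V)) Γ(X, U) :=
    Module.Finite.of_surjective (Algebra.linearMap _ _) hφ
  haveI : Algebra.FinitePresentation (MvPolynomial (Fin (n₀ + n)) Γ(Y, V)) Γ(X, U) :=
    Algebra.FinitePresentation.of_restrict_scalars_finitePresentation Γ(Y, V) _ _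
  haveI : Module.FinitePresentation (MvPolynomial (Fin (n₀ + n)) Γ(Y, V)) Γ(X, U) :=
    Module.FinitePresentation.of_finite_of_finitePresentation _ _
  haveI : Module.FinitePresentation (MvPolynomial (Fin (n₀ + n)) Γ(Y, V)) Γ(F, U) :=
    Module.FinitePresentation.trans _ Γ(F, U) Γ(X, U)
  have hW := isOpen_dim_le_depth_add Γ(Y, V) (n₀ + n) Γ(F, U) n₀
  let ψ : U → PrimeSpectrum (MvPolynomial (Fin (n₀ + n)) Γ(Y, V)) :=
    fun x => PrimeSpectrum.comap φ.toRingHom (hU.primeIdealOf x)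
  have hψ : Continuous ψ :=
    (PrimeSpectrum.continuous_comap φ.toRingHom).comp hU.isoSpec.hom.continuous
  have key : ∀ (x : X) (hx : x ∈ U),
      ((n : WithBot ℕ∞) ≤
      ((LocCoh.depth ((f.fiber (f.base x)).presheaf.stalk (f.asFiber x))
        (((Scheme.Modules.pullback (f.fiberι (f.base x))).obj F).presheaf.stalk (f.asFiber x)) : ℕ∞) :
          WithBot ℕ∞) +
        topologicalKrullDim ↥(closure ({f.asFiber x} : Set ↥(f.fiber (f.base x))))) ↔
      ψ ⟨x, hx⟩ ∈ {𝔮 : PrimeSpectrum (MvPolynomial (Fin (n₀ + n)) Γ(Y, V)) |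
        ringKrullDim (EGA4.FibLocRing Γ(Y, V) (MvPolynomial (Fin (n₀ + n)) Γ(Y, V)) 𝔮.asIdeal) ≤
        ((LocCoh.depth (EGA4.FibLocRing Γ(Y, V) (MvPolynomial (Fin (n₀ + n)) Γ(Y, V)) 𝔮.asIdeal)
          (EGA4.FibLocMod Γ(Y, V) (MvPolynomial (Fin (n₀ + n)) Γ(Y, V)) 𝔮.asIdeal Γ(F, U)) : ℕ∞) :
            WithBot ℕ∞) + (n₀ : WithBot ℕ∞)} := by
    intro x hx
    obtain ⟨hd, -⟩ := dd_stalk_fiber_mvPolynomial f F hU hV e (n₀ + n) φ hφ x hx
    obtain ⟨t, ht, hdim⟩ := exists_resTrdeg_eq_dim_closure f x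
    obtain ⟨r₀, t', hr, hsum, ht'⟩ :=
      exists_dim_fibLocRing_mvPolynomial' Γ(Y, V) (n₀ + n) (ψ ⟨x, hx⟩)
    have hch := resTrdeg_chart f hU hV e (n₀ + n) φ hφ x hx
    have htt : t = t' := by
      have h3 : ((t : ℕ) : Cardinal.{u}) = (t' : Cardinal.{u}) := by
        rw [← ht, ← ht']
        exact hch
      exact_mod_cast h3
    subst htt
    change _ ↔ (ringKrullDim (EGA4.FibLocRing Γ(Y, V) (MvPolynomial (Fin (n₀ + n)) Γ(Y, V))
          ((hU.primeIdealOf ⟨x, hx⟩).asIdeal.comap φ.toRingHom)) ≤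
        ((LocCoh.depth (EGA4.FibLocRing Γ(Y, V) (MvPolynomial (Fin (n₀ + n)) Γ(Y, V))
          ((hU.primeIdealOf ⟨x, hx⟩).asIdeal.comap φ.toRingHom))
          (EGA4.FibLocMod Γ(Y, V) (MvPolynomial (Fin (n₀ + n)) Γ(Y, V))
            ((hU.primeIdealOf ⟨x, hx⟩).asIdeal.comap φ.toRingHom) Γ(F, U)) : ℕ∞) :
            WithBot ℕ∞) + (n₀ : WithBot ℕ∞))
    have hr' : ringKrullDim (EGA4.FibLocRing Γ(Y, V) (MvPolynomial (Fin (n₀ + n)) Γ(Y, V))
          ((hU.primeIdealOf ⟨x, hx⟩).asIdeal.comap φ.toRingHom)) = (r₀ : WithBot ℕ∞) := hr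
    rw [hr', ← hd]
    have hdim' : topologicalKrullDim ↥(closure ({f.asFiber x} : Set ↥(f.fiber (f.base x)))) =
        (t : WithBot ℕ∞) := hdim
    rw [hdim']
    exact arith_rect _ r₀ t n n₀ hsum
  refine ⟨Subtype.val '' (ψ ⁻¹' _), ?_, U.isOpen.isOpenMap_subtype_val _ (hW.preimage hψ),
    ⟨⟨x₀, hx₀U⟩, (key x₀ hx₀U).mp hx₀, rfl⟩⟩
  rintro _ ⟨⟨x, hx⟩, hxW, rfl⟩
  exact (key x hx).mpr hxW

end Scheme

end Groth.Agent.H2.Idl
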