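import Mathlib
import Groth.Prelude.Def_CAlg
import Groth.Prelude.Def_EGA4b
import Groth.Agent.Lib.Helper2.IdlG

/-! Helper2: Serre's condition `(S_k)` is invariant under semilinear isomorphisms over surjective
ring homomorphisms (no Noetherian hypotheses). -/

set_option autoImplicit false
set_option linter.style.haveILetI false
universe u

namespace Groth.Agent.H2.Sk

open Groth.Agent.H2.Idl

/-- two localizations of the same module, over a localization `L₁` of the ring and over a ring `L₂`
receiving `L₁`, are semilinearly isomorphic. -/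
theorem exists_semilinear_of_isLocalizedModule {S : Type u} [CommRing S] (T : Submonoid S)
    {X : Type u} [AddCommGroup X] [Module S X]
    {L₁ L₂ : Type u} [CommRing L₁] [CommRing L₂] [Algebra S L₁] [Algebra S L₂]
    [IsLocalization T L₁]
    (π : L₁ →+* L₂) (hπ : ∀ s : S, π (algebraMap S L₁ s) = algebraMap S L₂ s)
    {F₁ F₂ : Type u} [AddCommGroup F₁] [AddCommGroup F₂] [Module S F₁] [Module S F₂]
    [Module L₁ F₁] [Module L₂ F₂] [IsScalarTower S L₁ F₁] [IsScalarTower S L₂ F₂]
    (g₁ : X →ₗ[S] F₁) (g₂ : X →ₗ[S] F₂) [IsLocalizedModule T g₁] [IsLocalizedModule T g₂] :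
    ∃ τ : F₁ ≃ₗ[S] F₂, (∀ x, τ (g₁ x) = g₂ x) ∧ ∀ (a : L₁) (y : F₁), τ (a • y) = π a • τ y := by
  refine ⟨IsLocalizedModule.linearEquiv T g₁ g₂, fun x => IsLocalizedModule.linearEquiv_apply T g₁ g₂ x, ?_⟩
  set τ := IsLocalizedModule.linearEquiv T g₁ g₂ with hτdef
  intro a y
  obtain ⟨⟨p, s⟩, ha⟩ := IsLocalization.surj T a
  have ha' : a * algebraMap S L₁ s.1 = algebraMap S L₁ p := ha
  have h1 : (s.1 : S) • τ (a • y) = (s.1 : S) • (π a • τ y) := by
    have e1 : (s.1 : S) • τ (a • y) = (p : S) • τ y := by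
      rw [← map_smul τ, ← map_smul τ]
      congr 1
      rw [← algebraMap_smul L₁ s.1 (a • y), smul_smul, mul_comm, ha', algebraMap_smul]
    have e2 : (s.1 : S) • (π a • τ y) = (p : S) • τ y := by
      rw [← algebraMap_smul L₂ s.1 (π a • τ y), smul_smul, ← hπ, ← map_mul, mul_comm, ha', hπ,
        algebraMap_smul]
    rw [e1, e2]
  have hu := IsLocalizedModule.map_units g₂ s
  rw [Module.End.isUnit_iff] at hu
  exact hu.1 h1

section Semilinear
variable {R₁ R₂ : Type u} [CommRing R₁] [CommRing R₂] {M₁ M₂ : Type u} [AddCommGroup M₁]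
  [AddCommGroup M₂] [Module R₁ M₁] [Module R₂ M₂]

/-- localizing a semilinear isomorphism over a surjective ring map at corresponding primes: depth
and dimension agree. -/
theorem dd_localized_of_semilinear (σ : R₁ →+* R₂) (hσ : Function.Surjective σ) (τ : M₁ ≃+ M₂)
    (hτ : ∀ (r : R₁) (m : M₁), τ (r • m) = σ r • τ m) [Module.Finite R₁ M₁]
    (p₂ : Ideal R₂) [p₂.IsPrime] :
    DD (Localization.AtPrime (p₂.comap σ)) (LocalizedModule (p₂.comap σ).primeCompl M₁)
      (Localization.AtPrime p₂) (LocalizedModule p₂.primeCompl M₂) := by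
  letI : Algebra R₁ R₂ := σ.toAlgebra
  letI : Module R₁ M₂ := Module.compHom M₂ σ
  haveI : IsScalarTower R₁ R₂ M₂ := IsScalarTower.of_algebraMap_smul fun _ _ => rfl
  let τ' : M₁ ≃ₗ[R₁] M₂ :=
    { τ with
      map_smul' := fun r m => hτ r m }
  set p₁ := p₂.comap σ with hp₁
  have hS : Algebra.algebraMapSubmonoid R₂ p₁.primeCompl = p₂.primeCompl := by
    ext b
    constructor
    · rintro ⟨s, hs, rfl⟩
      exact hs
    · intro hb
      obtain ⟨s, rfl⟩ := hσ b
      exact ⟨s, hb, rfl⟩
  let g₀ : M₂ →ₗ[R₁] LocalizedModule p₂.primeCompl M₂ :=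
    (LocalizedModule.mkLinearMap p₂.primeCompl M₂).restrictScalars R₁
  haveI : IsLocalizedModule p₁.primeCompl g₀ := by
    haveI : IsLocalizedModule (Algebra.algebraMapSubmonoid R₂ p₁.primeCompl)
        (LocalizedModule.mkLinearMap p₂.primeCompl M₂) := by
      rw [hS]
      infer_instance
    exact IsLocalizedModule.restrictScalars p₁.primeCompl
      (LocalizedModule.mkLinearMap p₂.primeCompl M₂)
  haveI : IsLocalizedModule p₁.primeCompl (g₀ ∘ₗ τ'.toLinearMap) :=
    IsLocalizedModule.of_linearEquiv_right p₁.primeCompl g₀ τ'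
  let π : Localization.AtPrime p₁ →+* Localization.AtPrime p₂ :=
    Localization.localRingHom p₁ p₂ σ rfl
  have hπ : ∀ s : R₁, π (algebraMap R₁ (Localization.AtPrime p₁) s) =
      algebraMap R₁ (Localization.AtPrime p₂) s := fun s => by
    rw [IsScalarTower.algebraMap_apply R₁ R₂ (Localization.AtPrime p₂)]
    exact Localization.localRingHom_to_map p₁ p₂ σ rfl s
  have hπsurj : Function.Surjective π :=
    RingHom.surjective_localRingHom_of_surjective σ hσ p₂
  obtain ⟨τ₀, -, hτ₀⟩ := exists_semilinear_of_isLocalizedModule p₁.primeCompl π hπ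
    (LocalizedModule.mkLinearMap p₁.primeCompl M₁) (g₀ ∘ₗ τ'.toLinearMap)
  haveI : Module.Finite (Localization.AtPrime p₁) (LocalizedModule p₁.primeCompl M₁) :=
    Module.Finite.of_isLocalizedModule p₁.primeCompl (LocalizedModule.mkLinearMap p₁.primeCompl M₁)
  exact DD.of_semilinear π hπsurj τ₀.toAddEquiv hτ₀

/-- **Serre's condition is invariant under semilinear isomorphisms over surjective ring maps.** -/
theorem hasSk_iff_of_semilinear (σ : R₁ →+* R₂) (hσ : Function.Surjective σ) (τ : M₁ ≃+ M₂)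
    (hτ : ∀ (r : R₁) (m : M₁), τ (r • m) = σ r • τ m) [Module.Finite R₁ M₁] (k : ℕ) :
    LocCoh.HasSk k R₁ M₁ ↔ LocCoh.HasSk k R₂ M₂ := by
  constructor
  · intro h p₂ hp₂
    obtain ⟨hd, hs⟩ := dd_localized_of_semilinear σ hσ τ hτ p₂
    rw [← hd, ← hs]
    exact h (p₂.comap σ)
  · intro h p₁ hp₁
    by_cases hnt : Nontrivial (LocalizedModule p₁.primeCompl M₁)
    swap
    · rw [not_nontrivial_iff_subsingleton] at hnt
      rw [Module.supportDim_eq_bot_of_subsingleton, min_bot_right]
      exact bot_le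
    have hsupp : (⟨p₁, hp₁⟩ : PrimeSpectrum R₁) ∈ Module.support R₁ M₁ :=
      (Module.mem_support_iff (p := ⟨p₁, hp₁⟩)).mpr hnt
    rw [Module.mem_support_iff_of_finite] at hsupp
    have hker : RingHom.ker σ ≤ p₁ := by
      refine le_trans ?_ hsupp
      intro x hx
      rw [Module.mem_annihilator]
      intro m
      apply τ.injective
      rw [hτ, (RingHom.mem_ker).mp hx, zero_smul, map_zero]
    haveI hP : (p₁.map σ).IsPrime := Ideal.map_isPrime_of_surjective hσ hker
    have hc : (p₁.map σ).comap σ = p₁ := by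
      rw [Ideal.comap_map_of_surjective' _ hσ]
      exact sup_eq_left.mpr hker
    have h1 := h (p₁.map σ)
    have key : ∀ (q : Ideal R₁) [q.IsPrime], q = p₁ →
        DD (Localization.AtPrime q) (LocalizedModule q.primeCompl M₁)
          (Localization.AtPrime (p₁.map σ)) (LocalizedModule (p₁.map σ).primeCompl M₂) →
        min (k : WithBot ℕ∞)
          (Module.supportDim (Localization.AtPrime p₁) (LocalizedModule p₁.primeCompl M₁)) ≤
        ((LocCoh.depth (Localization.AtPrime p₁) (LocalizedModule p₁.primeCompl M₁) : ℕ∞) :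
          WithBot ℕ∞) := by
      intro q _ hq hdd
      subst hq
      rw [hdd.1, hdd.2]
      exact h1
    haveI : ((p₁.map σ).comap σ).IsPrime := Ideal.IsPrime.comap σ
    exact key _ hc (dd_localized_of_semilinear σ hσ τ hτ (p₁.map σ))

end Semilinear

end Groth.Agent.H2.Sk
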