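import Mathlib
import Groth.Prelude.Def_CAlg
import Groth.Prelude.Def_EGA4b
import Groth.Agent.Lib.Helper2.SkA
import Groth.Agent.Lib.Helper2.IdlH

/-! Helper2: Serre's condition for the fibre module at a prime `𝔮` in terms of the depth and
dimension of the fibre modules at the generizations of `𝔮` in the same fibre. -/

set_option autoImplicit false
set_option linter.style.haveILetI false
universe u

namespace Groth.Agent.H2.Sk

open Groth.Agent.H2.Idl

section Dict
variable {A P : Type u} [CommRing A] [CommRing P] [Algebra A P] (𝔮 : Ideal P) [𝔮.IsPrime]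
  (M : Type u) [AddCommGroup M] [Module P M] [Module.Finite P M]

/-- localizing the fibre module `M_𝔮 / 𝔭 M_𝔮` at a prime `Q` of `P_𝔮` -/
theorem dd_localized_fibLocMod (Q : Ideal (Localization.AtPrime 𝔮)) [Q.IsPrime] :
    DD (Localization.AtPrime Q) (LocalizedModule Q.primeCompl (EGA4.FibLocMod A P 𝔮 M))
      (Localization.AtPrime Q)
      (LocalizedModule Q.primeCompl (LocalizedModule 𝔮.primeCompl M) ⧸
        ((𝔮.comap (algebraMap A P)).map (algebraMap A (Localization.AtPrime Q))) •
          (⊤ : Submodule (Localization.AtPrime Q)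
            (LocalizedModule Q.primeCompl (LocalizedModule 𝔮.primeCompl M)))) := by
  have hI : ((𝔮.comap (algebraMap A P)).map (algebraMap A (Localization.AtPrime 𝔮))).map
      (algebraMap (Localization.AtPrime 𝔮) (Localization.AtPrime Q)) =
      (𝔮.comap (algebraMap A P)).map (algebraMap A (Localization.AtPrime Q)) := by
    rw [Ideal.map_map, ← IsScalarTower.algebraMap_eq]
  let e : LocalizedModule Q.primeCompl (EGA4.FibLocMod A P 𝔮 M) ≃ₗ[Localization.AtPrime Q]
      (LocalizedModule Q.primeCompl (LocalizedModule 𝔮.primeCompl M) ⧸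
        ((𝔮.comap (algebraMap A P)).map (algebraMap A (Localization.AtPrime Q))) •
          (⊤ : Submodule (Localization.AtPrime Q)
            (LocalizedModule Q.primeCompl (LocalizedModule 𝔮.primeCompl M)))) :=
    (localizedQuotientEquiv _ _).symm ≪≫ₗ
      Submodule.quotEquivOfEq _ _ (by
        rw [Submodule.localized, Submodule.localized'_smul, Ideal.localized'_eq_map,
          Submodule.localized'_top, hI])
  haveI : Module.Finite (Localization.AtPrime 𝔮) (LocalizedModule 𝔮.primeCompl M) :=
    Module.Finite.of_isLocalizedModule 𝔮.primeCompl (LocalizedModule.mkLinearMap 𝔮.primeCompl M)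
  haveI : Module.Finite (Localization.AtPrime Q)
      (LocalizedModule Q.primeCompl (EGA4.FibLocMod A P 𝔮 M)) :=
    Module.Finite.of_isLocalizedModule Q.primeCompl
      (LocalizedModule.mkLinearMap Q.primeCompl (EGA4.FibLocMod A P 𝔮 M))
  exact DD.of_semilinear (RingHom.id _) Function.surjective_id e.toAddEquiv
    (fun r m => map_smul e r m)

omit [Module.Finite P M] in
/-- double localization: `(M_𝔮)_Q` is the localization of `M` at the prime of `P` under `Q` -/
theorem isLocalizedModule_double (Q : Ideal (Localization.AtPrime 𝔮)) [Q.IsPrime] :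
    IsLocalizedModule (Q.comap (algebraMap P (Localization.AtPrime 𝔮))).primeCompl
      (((LocalizedModule.mkLinearMap Q.primeCompl
        (LocalizedModule 𝔮.primeCompl M)).restrictScalars P).comp
          (LocalizedModule.mkLinearMap 𝔮.primeCompl M)) := by
  have hb1 : IsBaseChange (Localization.AtPrime 𝔮) (LocalizedModule.mkLinearMap 𝔮.primeCompl M) :=
    IsLocalizedModule.isBaseChange 𝔮.primeCompl _ _
  have hb2 : IsBaseChange (Localization.AtPrime Q)
      (LocalizedModule.mkLinearMap Q.primeCompl (LocalizedModule 𝔮.primeCompl M)) :=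
    IsLocalizedModule.isBaseChange Q.primeCompl _ _
  have hb := hb1.comp hb2
  haveI : IsLocalization (Q.comap (algebraMap P (Localization.AtPrime 𝔮))).primeCompl
      (Localization.AtPrime Q) :=
    IsLocalization.isLocalization_atPrime_localization_atPrime 𝔮.primeCompl Q
  exact (isLocalizedModule_iff_isBaseChange
    (Q.comap (algebraMap P (Localization.AtPrime 𝔮))).primeCompl (Localization.AtPrime Q) _).mpr hb

/-- **the fibre module at a generization**: for a prime `Q` of `P_𝔮` containing `𝔭 P_𝔮`, with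
`𝔮'` the prime of `P` under it, the localization of the fibre module at `Q` has the depth and the
dimension of the fibre module at `𝔮'`. -/
theorem dd_localized_fibLocMod_generization (Q : Ideal (Localization.AtPrime 𝔮)) [Q.IsPrime]
    (hQ : (Q.comap (algebraMap P (Localization.AtPrime 𝔮))).comap (algebraMap A P) =
      𝔮.comap (algebraMap A P)) :
    DD (Localization.AtPrime Q) (LocalizedModule Q.primeCompl (EGA4.FibLocMod A P 𝔮 M))
      (EGA4.FibLocRing A P (Q.comap (algebraMap P (Localization.AtPrime 𝔮))))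
      (EGA4.FibLocMod A P (Q.comap (algebraMap P (Localization.AtPrime 𝔮))) M) := by
  set 𝔮' := Q.comap (algebraMap P (Localization.AtPrime 𝔮)) with h𝔮'
  have d1 := dd_localized_fibLocMod (A := A) 𝔮 M Q
  haveI hloc : IsLocalization 𝔮'.primeCompl (Localization.AtPrime Q) :=
    IsLocalization.isLocalization_atPrime_localization_atPrime 𝔮.primeCompl Q
  haveI := isLocalizedModule_double 𝔮 M Q
  have d2 := dd_fibModel (A := A) 𝔮' M (Localization.AtPrime Q)
    (LocalizedModule Q.primeCompl (LocalizedModule 𝔮.primeCompl M))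
    (fun s hs => IsLocalization.map_units (Localization.AtPrime Q) (⟨s, hs⟩ : 𝔮'.primeCompl))
    (fun l => by
      obtain ⟨⟨p, s⟩, hl⟩ := IsLocalization.surj 𝔮'.primeCompl l
      exact ⟨p, s.1, s.2, hl⟩)
    (((LocalizedModule.mkLinearMap Q.primeCompl
        (LocalizedModule 𝔮.primeCompl M)).restrictScalars P).comp
          (LocalizedModule.mkLinearMap 𝔮.primeCompl M))
  have d2' : ∀ 𝔭' : Ideal A, 𝔭' = 𝔮'.comap (algebraMap A P) →
      DD (Localization.AtPrime Q)
        (LocalizedModule Q.primeCompl (LocalizedModule 𝔮.primeCompl M) ⧸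
          (𝔭'.map (algebraMap A (Localization.AtPrime Q))) •
            (⊤ : Submodule (Localization.AtPrime Q)
              (LocalizedModule Q.primeCompl (LocalizedModule 𝔮.primeCompl M))))
        (Localization.AtPrime 𝔮') (EGA4.FibLocMod A P 𝔮' M) := by
    intro 𝔭' h
    subst h
    exact d2
  replace d2 := d2' _ hQ.symm
  haveI : Module.Finite (Localization.AtPrime 𝔮') (LocalizedModule 𝔮'.primeCompl M) :=
    Module.Finite.of_isLocalizedModule 𝔮'.primeCompl (LocalizedModule.mkLinearMap 𝔮'.primeCompl M)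
  have d3 : DD (Localization.AtPrime 𝔮') (EGA4.FibLocMod A P 𝔮' M)
      (EGA4.FibLocRing A P 𝔮') (EGA4.FibLocMod A P 𝔮' M) :=
    DD.of_semilinear (Ideal.Quotient.mk _) Ideal.Quotient.mk_surjective (AddEquiv.refl _)
      (fun _ _ => rfl)
  exact (d1.trans d2).trans d3

/-- **`(S_k)` for the fibre module in terms of the generizations in the fibre.** -/
theorem hasSk_fibLocMod_iff (k : ℕ) :
    LocCoh.HasSk k (EGA4.FibLocRing A P 𝔮) (EGA4.FibLocMod A P 𝔮 M) ↔
    ∀ (𝔮' : Ideal P) [𝔮'.IsPrime], 𝔮' ≤ 𝔮 →
      𝔮'.comap (algebraMap A P) = 𝔮.comap (algebraMap A P) →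
      min (k : WithBot ℕ∞)
        (Module.supportDim (EGA4.FibLocRing A P 𝔮') (EGA4.FibLocMod A P 𝔮' M)) ≤
      ((LocCoh.depth (EGA4.FibLocRing A P 𝔮') (EGA4.FibLocMod A P 𝔮' M) : ℕ∞) : WithBot ℕ∞) := by
  haveI : Module.Finite (Localization.AtPrime 𝔮) (LocalizedModule 𝔮.primeCompl M) :=
    Module.Finite.of_isLocalizedModule 𝔮.primeCompl (LocalizedModule.mkLinearMap 𝔮.primeCompl M)
  have step1 : LocCoh.HasSk k (Localization.AtPrime 𝔮) (EGA4.FibLocMod A P 𝔮 M) ↔
      LocCoh.HasSk k (EGA4.FibLocRing A P 𝔮) (EGA4.FibLocMod A P 𝔮 M) :=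
    hasSk_iff_of_semilinear (Ideal.Quotient.mk _) Ideal.Quotient.mk_surjective (AddEquiv.refl _)
      (fun _ _ => rfl) k
  rw [← step1]
  constructor
  · intro h 𝔮' h𝔮' hle hcomap
    have hd : Disjoint (𝔮.primeCompl : Set P) (𝔮' : Set P) := by
      rw [Set.disjoint_left]
      intro x hx hxq
      exact hx (hle hxq)
    haveI hQ : (𝔮'.map (algebraMap P (Localization.AtPrime 𝔮))).IsPrime :=
      IsLocalization.isPrime_of_isPrime_disjoint 𝔮.primeCompl _ 𝔮' h𝔮' hd
    have hc : (𝔮'.map (algebraMap P (Localization.AtPrime 𝔮))).comap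
        (algebraMap P (Localization.AtPrime 𝔮)) = 𝔮' :=
      IsLocalization.under_map_of_isPrime_disjoint 𝔮.primeCompl _ h𝔮' hd
    have h1 := h (𝔮'.map (algebraMap P (Localization.AtPrime 𝔮)))
    have hdd := dd_localized_fibLocMod_generization (A := A) 𝔮 M
      (𝔮'.map (algebraMap P (Localization.AtPrime 𝔮))) (by rw [hc]; exact hcomap)
    rw [hdd.1, hdd.2] at h1
    have key : ∀ (𝔮'' : Ideal P) [𝔮''.IsPrime], 𝔮'' = 𝔮' →
        min (k : WithBot ℕ∞)
          (Module.supportDim (EGA4.FibLocRing A P 𝔮'') (EGA4.FibLocMod A P 𝔮'' M)) ≤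
        ((LocCoh.depth (EGA4.FibLocRing A P 𝔮'') (EGA4.FibLocMod A P 𝔮'' M) : ℕ∞) :
          WithBot ℕ∞) →
        min (k : WithBot ℕ∞)
          (Module.supportDim (EGA4.FibLocRing A P 𝔮') (EGA4.FibLocMod A P 𝔮' M)) ≤
        ((LocCoh.depth (EGA4.FibLocRing A P 𝔮') (EGA4.FibLocMod A P 𝔮' M) : ℕ∞) :
          WithBot ℕ∞) := by
      intro 𝔮'' _ he hh
      subst he
      exact hh
    exact key _ hc h1
  · intro H Q hQ
    set 𝔮' := Q.comap (algebraMap P (Localization.AtPrime 𝔮)) with h𝔮'
    have hle : 𝔮' ≤ 𝔮 := by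
      intro x hx
      by_contra hxq
      have hu : IsUnit (algebraMap P (Localization.AtPrime 𝔮) x) :=
        IsLocalization.map_units (Localization.AtPrime 𝔮) (⟨x, hxq⟩ : 𝔮.primeCompl)
      exact hQ.ne_top (Ideal.eq_top_of_isUnit_mem Q hx hu)
    by_cases hcomap : 𝔮'.comap (algebraMap A P) = 𝔮.comap (algebraMap A P)
    · have hdd := dd_localized_fibLocMod_generization (A := A) 𝔮 M Q hcomap
      rw [hdd.1, hdd.2]
      exact H 𝔮' hle hcomap
    · -- the localization vanishes
      have hlt : ∃ a : A, a ∈ 𝔮.comap (algebraMap A P) ∧ a ∉ 𝔮'.comap (algebraMap A P) := by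
        by_contra hcon
        push Not at hcon
        exact hcomap (le_antisymm (Ideal.comap_mono hle) hcon)
      obtain ⟨a, ha, ha'⟩ := hlt
      haveI : Subsingleton (LocalizedModule Q.primeCompl (EGA4.FibLocMod A P 𝔮 M)) := by
        rw [LocalizedModule.subsingleton_iff]
        intro m
        refine ⟨algebraMap A (Localization.AtPrime 𝔮) a, ?_, ?_⟩
        · change algebraMap A (Localization.AtPrime 𝔮) a ∉ Q
          rw [IsScalarTower.algebraMap_apply A P (Localization.AtPrime 𝔮)]
          exact ha'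
        · obtain ⟨m', rfl⟩ := Submodule.Quotient.mk_surjective _ m
          rw [← Submodule.Quotient.mk_smul, Submodule.Quotient.mk_eq_zero]
          exact Submodule.smul_mem_smul (Ideal.mem_map_of_mem _ ha) Submodule.mem_top
      rw [Module.supportDim_eq_bot_of_subsingleton, min_bot_right]
      exact bot_le

end Dict

end Groth.Agent.H2.Sk
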