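import Mathlib
import Groth.Prelude.Def_CAlg
import Groth.Prelude.Def_EGA4b
import Groth.Prelude.Def_Dual3
import Groth.Agent.Lib.Helper2.IdlI
import Groth.Agent.Lib.Helper1.HypSecB
import Groth.Agent.Lib.Helper1.FibGen
import Groth.Agent.Lib.Helper1.FibCompC
import Groth.Agent.Lib.Helper1.CMQF
import Groth.Agent.Lib.Helper1.AlgSpDim

/-! Helper2: for an affine morphism of finite type and a closed subset `G` of the source, the set of
points having a generization in `G ∩` (the fibre) whose residue field has transcendence degree at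
least `m` over the base point is closed (Chevalley). -/

set_option autoImplicit false
set_option linter.style.haveILetI false
universe u

open AlgebraicGeometry CategoryTheory

namespace Groth.Agent.H2.Sk

open Groth.Agent.H2.Idl

section Scheme
variable {X Y : Scheme.{u}}

theorem isClosed_le_fibreDimAt (h : X ⟶ Y) [LocallyOfFiniteType h] (m : ℕ) :
    IsClosed {z : X | (m : WithBot ℕ∞) ≤ FlatMor.fibreDimAt h z} := by
  rcases Nat.eq_zero_or_pos m with h0 | hpos
  · subst h0
    convert isClosed_univ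
    ext z
    simp only [Set.mem_ofPred_eq, Set.mem_univ, iff_true]
    obtain ⟨d, hd⟩ := Groth.Agent.H1.CMQF.exists_nat_fibreDimAt h z
    rw [hd]
    exact_mod_cast Nat.zero_le d
  · have hopen := Groth.Agent.H1.FibComp.isOpen_fibreDimAt_le' h ((m - 1 : ℕ) : WithBot ℕ∞)
    convert hopen.isClosed_compl using 1
    ext z
    simp only [Set.mem_ofPred_eq, Set.mem_compl_iff]
    obtain ⟨d, hd⟩ := Groth.Agent.H1.CMQF.exists_nat_fibreDimAt h z
    rw [hd]
    have h1 : ((m : ℕ) : WithBot ℕ∞) ≤ (d : WithBot ℕ∞) ↔ m ≤ d := by exact_mod_cast Iff.rfl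
    have h2 : ((d : ℕ) : WithBot ℕ∞) ≤ ((m - 1 : ℕ) : WithBot ℕ∞) ↔ d ≤ m - 1 := by
      exact_mod_cast Iff.rfl
    rw [h1, h2]
    omega

/-- **Chevalley for a closed subscheme**: the set of images of points of `T` (closed in `X`) at which
the fibre of `T` has dimension at least `m` is the set of points of `X` with a generization in `T`,
in the same fibre, of residue transcendence degree at least `m`. -/
theorem isClosed_exists_generization {T : Scheme.{u}} (ι : T ⟶ X) [IsClosedImmersion ι]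
    (f : X ⟶ Y) [LocallyOfFiniteType f] (m : ℕ) :
    IsClosed {x : X | ∃ x' ∈ Set.range ι, x' ⤳ x ∧ f x' = f x ∧
      (m : Cardinal.{u}) ≤ Dual3.resTrdeg f x'} := by
  haveI : LocallyOfFiniteType (ι ≫ f) := inferInstance
  have hH := isClosed_le_fibreDimAt (ι ≫ f) m
  have hcl := ι.isClosedEmbedding.isClosedMap _ hH
  convert hcl using 1
  ext x
  constructor
  · rintro ⟨x', ⟨z', rfl⟩, hsp, hfib, hm⟩
    have hxr : x ∈ Set.range ι := hsp.mem_closed ι.isClosedEmbedding.isClosed_range ⟨z', rfl⟩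
    obtain ⟨z, rfl⟩ := hxr
    have hsp' : z' ⤳ z := (ι.isEmbedding.isInducing.specializes_iff).mp hsp
    refine ⟨z, ?_, rfl⟩
    have hz' : z' ∈ {z : T | (m : WithBot ℕ∞) ≤ FlatMor.fibreDimAt (ι ≫ f) z} := by
      obtain ⟨t, ht, hfd⟩ :=
        Groth.Agent.H1.DimFormula.exists_fibreDimAt_eq_stalk_add_trdeg (ι ≫ f) z'
      have ht' : Dual3.resTrdeg (ι ≫ f) z' = t := ht
      rw [Groth.Agent.H1.AlgSpDim.resTrdeg_comp ι f z'] at ht'
      have h0 : Dual3.resTrdeg ι z' = 0 := trdeg_residueFieldMap_of_isClosedImmersion ι z'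
      rw [h0, add_zero] at ht'
      have hmt : m ≤ t := by
        have : (m : Cardinal.{u}) ≤ (t : Cardinal.{u}) := by rw [← ht']; exact hm
        exact_mod_cast this
      change (m : WithBot ℕ∞) ≤ FlatMor.fibreDimAt (ι ≫ f) z'
      rw [hfd]
      have hnn : (0 : WithBot ℕ∞) ≤
          ringKrullDim (((ι ≫ f).fiber ((ι ≫ f) z')).presheaf.stalk ((ι ≫ f).asFiber z')) :=
        ringKrullDim_nonneg_of_nontrivial
      calc ((m : ℕ) : WithBot ℕ∞) ≤ (t : WithBot ℕ∞) := by exact_mod_cast hmt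
        _ = 0 + (t : WithBot ℕ∞) := by rw [zero_add]
        _ ≤ _ := add_le_add_left hnn _
    exact hsp'.mem_closed hH hz'
  · rintro ⟨z, hz, rfl⟩
    obtain ⟨z', hfz, hsp, hmax, hfd⟩ :=
      Groth.Agent.H1.FibGen.exists_fibre_generic_fibreDimAt_eq (ι ≫ f) z
    obtain ⟨tx, htx, hfd'⟩ := Groth.Agent.H1.HypSec.fibreDimAt_comp_eq_resTrdeg ι f z'
      (fun t' ht' hsp' => hmax t' (ht'.trans hfz) hsp')
    refine ⟨ι z', ⟨z', rfl⟩, hsp.map ι.continuous, ?_, ?_⟩
    · have := hfz
      rwa [Scheme.Hom.comp_apply, Scheme.Hom.comp_apply] at this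
    · have hz' : (m : WithBot ℕ∞) ≤ FlatMor.fibreDimAt (ι ≫ f) z := hz
      rw [← hfd, hfd'] at hz'
      have hmt : m ≤ tx := by exact_mod_cast hz'
      have h1 : Dual3.resTrdeg f (ι z') = tx := htx
      rw [h1]
      exact_mod_cast hmt

end Scheme

end Groth.Agent.H2.Sk
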