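import Mathlib
import Groth.Prelude.Def_CAlg
import Groth.Prelude.Def_EGA4b
import Groth.Prelude.Def_Dual3
import Groth.Agent.Lib.Helper2.SkB
import Groth.Agent.Lib.Helper2.SkC
import Groth.Agent.Lib.Helper2.IdlN

/-! Helper2: **openness of the fibrewise `(S_k)` locus** of a flat finitely presented module over a
polynomial ring (EGA IV 12.1.1 (iv)), from the lower semicontinuity of the rectified depth, the
upper semicontinuity of the dimension of the support of the fibre module, and Chevalley's theorem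
for the closed level sets. -/

set_option autoImplicit false
set_option linter.style.haveILetI false
universe u

open AlgebraicGeometry CategoryTheory

namespace Groth.Agent.H2.Sk

open Groth.Agent.H2.Idl

theorem wb_le_add (a b c : ℕ) : ((a : ℕ) : WithBot ℕ∞) ≤
    (((b : ℕ) : ℕ∞) : WithBot ℕ∞) + ((c : ℕ) : WithBot ℕ∞) ↔ a ≤ b + c := by
  have hc : ∀ m : ℕ, ((m : ℕ) : WithBot ℕ∞) = (((m : ℕ) : ℕ∞) : WithBot ℕ∞) := fun _ => rfl
  rw [hc a, hc c, ← WithBot.coe_add, WithBot.coe_le_coe, ← Nat.cast_add, Nat.cast_le]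

theorem wb_add_le (a b c e : ℕ) : ((((a : ℕ) : ℕ∞)) : WithBot ℕ∞) + (b : WithBot ℕ∞) ≤
    (c : WithBot ℕ∞) + (e : WithBot ℕ∞) ↔ a + b ≤ c + e := by
  have hc : ∀ m : ℕ, ((m : ℕ) : WithBot ℕ∞) = (((m : ℕ) : ℕ∞) : WithBot ℕ∞) := fun _ => rfl
  rw [hc b, hc c, hc e, ← WithBot.coe_add, ← WithBot.coe_add, WithBot.coe_le_coe, ← Nat.cast_add,
    ← Nat.cast_add, Nat.cast_le]

theorem wb_min_le (k s d : ℕ) : min ((k : ℕ) : WithBot ℕ∞) (((s : ℕ) : ℕ∞) : WithBot ℕ∞) ≤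
    (((d : ℕ) : ℕ∞) : WithBot ℕ∞) ↔ min k s ≤ d := by
  have hc : ∀ m : ℕ, ((m : ℕ) : WithBot ℕ∞) = (((m : ℕ) : ℕ∞) : WithBot ℕ∞) := fun _ => rfl
  rw [hc k, ← WithBot.coe_min, WithBot.coe_le_coe]
  rcases le_total k s with h | h
  · rw [min_eq_left h, min_eq_left (by exact_mod_cast h), Nat.cast_le]
  · rw [min_eq_right h, min_eq_right (by exact_mod_cast h), Nat.cast_le]

theorem arith_fail (d : ℕ∞) (s : WithBot ℕ∞) (r₀ t n k : ℕ) (h1 : r₀ + t = n)
    (hs : s ≤ (r₀ : WithBot ℕ∞))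
    (hfail : ¬ (min (k : WithBot ℕ∞) s ≤ ((d : ℕ∞) : WithBot ℕ∞))) :
    ∃ r : ℕ, r + 1 ≤ n ∧
      ¬ ((r₀ : WithBot ℕ∞) ≤ ((d : ℕ∞) : WithBot ℕ∞) + ((n - (r + 1) : ℕ) : WithBot ℕ∞)) ∧
      ¬ (s + (n : WithBot ℕ∞) ≤ (r₀ : WithBot ℕ∞) + (r : WithBot ℕ∞)) ∧ r + 1 - k ≤ t := by
  induction s using WithBot.recBotCoe with
  | bot => simp at hfail
  | coe s' =>
    induction s' using ENat.recTopCoe with
    | top =>
      exfalso
      have : ((⊤ : ℕ∞) : WithBot ℕ∞) ≤ ((r₀ : ℕ∞) : WithBot ℕ∞) := hs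
      rw [WithBot.coe_le_coe] at this
      exact absurd (top_le_iff.mp this) (ENat.natCast_ne_top _)
    | coe s₀ =>
      induction d using ENat.recTopCoe with
      | top =>
        exfalso
        apply hfail
        exact le_trans (min_le_left _ _) (by exact_mod_cast le_top)
      | coe d₀ =>
        have hs' : s₀ ≤ r₀ := by exact_mod_cast hs
        rw [wb_min_le] at hfail
        have hdk : d₀ < k := by
          by_contra h
          exact hfail (le_trans (min_le_left _ _) (not_lt.mp h))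
        have hds : d₀ < s₀ := by
          by_contra h
          exact hfail (le_trans (min_le_right _ _) (not_lt.mp h))
        refine ⟨d₀ + t, by omega, ?_, ?_, by omega⟩
        · rw [wb_le_add]
          omega
        · rw [wb_add_le]
          omega

theorem arith_mem (d : ℕ∞) (s : WithBot ℕ∞) (r₀ t n k r : ℕ) (h1 : r₀ + t = n) (hr : r + 1 ≤ n)
    (hC : ¬ ((r₀ : WithBot ℕ∞) ≤ ((d : ℕ∞) : WithBot ℕ∞) + ((n - (r + 1) : ℕ) : WithBot ℕ∞)))
    (hD : ¬ (s + (n : WithBot ℕ∞) ≤ (r₀ : WithBot ℕ∞) + (r : WithBot ℕ∞)))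
    (hk : r + 1 - k ≤ t) : ¬ (min (k : WithBot ℕ∞) s ≤ ((d : ℕ∞) : WithBot ℕ∞)) := by
  induction d using ENat.recTopCoe with
  | top =>
    exfalso
    apply hC
    have : ((⊤ : ℕ∞) : WithBot ℕ∞) + ((n - (r + 1) : ℕ) : WithBot ℕ∞) = ((⊤ : ℕ∞) : WithBot ℕ∞) := by
      have hc : (((n - (r + 1) : ℕ)) : WithBot ℕ∞) = ((((n - (r + 1) : ℕ)) : ℕ∞) : WithBot ℕ∞) := rfl
      rw [hc, ← WithBot.coe_add, top_add]
    rw [this]
    exact_mod_cast le_top
  | coe d₀ =>
    rw [wb_le_add] at hC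
    induction s using WithBot.recBotCoe with
    | bot => simp at hD
    | coe s' =>
      induction s' using ENat.recTopCoe with
      | top =>
        intro h
        have h2 : min ((k : ℕ) : WithBot ℕ∞) (((⊤ : ℕ∞)) : WithBot ℕ∞) = (k : WithBot ℕ∞) := by
          apply min_eq_left
          exact_mod_cast le_top
        rw [h2] at h
        have : k ≤ d₀ := by exact_mod_cast h
        omega
      | coe s₀ =>
        rw [wb_add_le] at hD
        rw [wb_min_le]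
        intro h3
        rcases min_le_iff.mp h3 with h4 | h4 <;> omega

section Core
variable (A : Type u) [CommRing A] (n : ℕ) (M : Type u) [AddCommGroup M]
  [Module (MvPolynomial (Fin n) A) M] [Module.FinitePresentation (MvPolynomial (Fin n) A) M]
  [Module A M] [IsScalarTower A (MvPolynomial (Fin n) A) M] [Module.Flat A M]

local notation "Pn" => MvPolynomial (Fin n) A

/-- **the fibrewise `(S_k)` locus of a flat finitely presented module over a polynomial ring is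
open.** -/
theorem isOpen_hasSk_fibLocMod (k : ℕ) :
    IsOpen {𝔮 : PrimeSpectrum Pn | LocCoh.HasSk k (EGA4.FibLocRing A Pn 𝔮.asIdeal)
      (EGA4.FibLocMod A Pn 𝔮.asIdeal M)} := by
  classical
  set hP := Spec.map (CommRingCat.ofHom (algebraMap A Pn)) with hhP
  haveI : LocallyOfFiniteType hP := by
    rw [hhP, HasRingHomProperty.Spec_iff (P := @LocallyOfFiniteType)]
    exact RingHom.finiteType_algebraMap.mpr inferInstance
  -- the closed level sets
  let Cset : ℕ → Set (PrimeSpectrum Pn) := fun r =>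
    {𝔮 : PrimeSpectrum Pn | ringKrullDim (EGA4.FibLocRing A Pn 𝔮.asIdeal) ≤
        ((LocCoh.depth (EGA4.FibLocRing A Pn 𝔮.asIdeal)
          (EGA4.FibLocMod A Pn 𝔮.asIdeal M) : ℕ∞) : WithBot ℕ∞) +
          ((n - (r + 1) : ℕ) : WithBot ℕ∞)}ᶜ
  let Dset : ℕ → Set (PrimeSpectrum Pn) := fun r =>
    {𝔮 : PrimeSpectrum Pn |
      Module.supportDim (EGA4.FibLocRing A Pn 𝔮.asIdeal) (EGA4.FibLocMod A Pn 𝔮.asIdeal M) +
        (n : WithBot ℕ∞) ≤
      ringKrullDim (EGA4.FibLocRing A Pn 𝔮.asIdeal) + (r : WithBot ℕ∞)}ᶜ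
  have hC : ∀ r, IsClosed (Cset r) := fun r =>
    (isOpen_dim_le_depth_add A n M (n - (r + 1))).isClosed_compl
  have hD : ∀ r, IsClosed (Dset r) := fun r => (isOpen_supportDim_add_le A n M r).isClosed_compl
  let G : ℕ → Set (PrimeSpectrum Pn) := fun r => Cset r ∩ Dset r
  have hG : ∀ r, IsClosed (G r) := fun r => (hC r).inter (hD r)
  let J : ℕ → Ideal Pn := fun r => PrimeSpectrum.vanishingIdeal (G r)
  let ι : ∀ r, Spec (CommRingCat.of (Pn ⧸ J r)) ⟶ Spec (CommRingCat.of Pn) := fun r =>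
    Spec.map (CommRingCat.ofHom (Ideal.Quotient.mk (J r)))
  haveI : ∀ r, IsClosedImmersion (ι r) := fun r =>
    IsClosedImmersion.spec_of_surjective _ Ideal.Quotient.mk_surjective
  have hrange : ∀ r, Set.range (ι r) = G r := by
    intro r
    have h1 := range_comap_of_surjective _ (Ideal.Quotient.mk (J r)) Ideal.Quotient.mk_surjective
    rw [Ideal.mk_ker] at h1
    have h2 : PrimeSpectrum.zeroLocus ((J r : Ideal Pn) : Set Pn) = G r := by
      rw [PrimeSpectrum.zeroLocus_vanishingIdeal_eq_closure, (hG r).closure_eq]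
    rw [← h2]
    exact h1
  let B : ℕ → Set (Spec (CommRingCat.of Pn)) := fun r =>
    {x | ∃ x' ∈ Set.range (ι r), x' ⤳ x ∧ hP x' = hP x ∧
      ((r + 1 - k : ℕ) : Cardinal.{u}) ≤ Dual3.resTrdeg hP x'}
  have hB : ∀ r, IsClosed (B r) := fun r => isClosed_exists_generization (ι r) hP (r + 1 - k)
  let B' : ℕ → Set (PrimeSpectrum Pn) := fun r => B r
  have hB' : ∀ r, IsClosed (B' r) := fun r => hB r
  have hset : {𝔮 : PrimeSpectrum Pn | LocCoh.HasSk k (EGA4.FibLocRing A Pn 𝔮.asIdeal)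
      (EGA4.FibLocMod A Pn 𝔮.asIdeal M)} = (⋃ r ∈ Finset.range n, B' r)ᶜ := ?_
  · rw [hset]
    exact (isClosed_biUnion_finset (fun r _ => hB' r)).isOpen_compl
  ext 𝔮
  have hmem_iff : (𝔮 ∈ (⋃ r ∈ Finset.range n, B' r)) ↔ ∃ r, r < n ∧ 𝔮 ∈ B' r := by
    rw [Set.mem_iUnion₂]
    simp only [Finset.mem_range, exists_prop]
  rw [Set.mem_compl_iff, hmem_iff]
  change LocCoh.HasSk k (EGA4.FibLocRing A Pn 𝔮.asIdeal) (EGA4.FibLocMod A Pn 𝔮.asIdeal M) ↔ _
  haveI : Module.Finite Pn M := inferInstance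
  rw [hasSk_fibLocMod_iff (A := A) 𝔮.asIdeal M k]
  constructor
  · intro H hmem
    obtain ⟨r, hr, x', hx'G, hsp, hfib, htr⟩ := hmem
    rw [hrange r] at hx'G
    obtain ⟨r₀, t, hdim, hsum, ht⟩ := exists_dim_fibLocRing_mvPolynomial' A n x'
    have hle : x'.asIdeal ≤ 𝔮.asIdeal := by
      have := (PrimeSpectrum.le_iff_specializes x' 𝔮).mpr hsp
      exact this
    have hcomap : x'.asIdeal.comap (algebraMap A Pn) = 𝔮.asIdeal.comap (algebraMap A Pn) :=
      congrArg PrimeSpectrum.asIdeal hfib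
    have h1 := H x'.asIdeal hle hcomap
    have hkt : r + 1 - k ≤ t := by
      have : ((r + 1 - k : ℕ) : Cardinal.{u}) ≤ (t : Cardinal.{u}) := by rw [← ht]; exact htr
      exact_mod_cast this
    have hCx : ¬ (ringKrullDim (EGA4.FibLocRing A Pn x'.asIdeal) ≤
        ((LocCoh.depth (EGA4.FibLocRing A Pn x'.asIdeal)
          (EGA4.FibLocMod A Pn x'.asIdeal M) : ℕ∞) : WithBot ℕ∞) +
          ((n - (r + 1) : ℕ) : WithBot ℕ∞)) := hx'G.1
    have hDx : ¬ (Module.supportDim (EGA4.FibLocRing A Pn x'.asIdeal)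
        (EGA4.FibLocMod A Pn x'.asIdeal M) + (n : WithBot ℕ∞) ≤
        ringKrullDim (EGA4.FibLocRing A Pn x'.asIdeal) + (r : WithBot ℕ∞)) := hx'G.2
    rw [hdim] at hCx hDx
    exact arith_mem _ _ r₀ t n k r hsum (by omega) hCx hDx hkt h1
  · intro hnot 𝔮' h𝔮' hle hcomap
    by_contra hfail
    obtain ⟨r₀, t, hdim, hsum, ht⟩ := exists_dim_fibLocRing_mvPolynomial' A n ⟨𝔮', h𝔮'⟩
    have hs : Module.supportDim (EGA4.FibLocRing A Pn 𝔮') (EGA4.FibLocMod A Pn 𝔮' M) ≤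
        (r₀ : WithBot ℕ∞) := by
      have hdim' : ringKrullDim (EGA4.FibLocRing A Pn 𝔮') = (r₀ : WithBot ℕ∞) := hdim
      rw [← hdim']
      exact Module.supportDim_le_ringKrullDim _ _
    obtain ⟨r, hrn, hCr, hDr, hkt⟩ := arith_fail _ _ r₀ t n k hsum hs hfail
    apply hnot
    refine ⟨r, by omega, ⟨𝔮', h𝔮'⟩, ?_, ?_, ?_, ?_⟩
    · rw [hrange r]
      have hdim' : ringKrullDim (EGA4.FibLocRing A Pn 𝔮') = (r₀ : WithBot ℕ∞) := hdim
      refine ⟨?_, ?_⟩
      · change ¬ (ringKrullDim (EGA4.FibLocRing A Pn 𝔮') ≤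
          ((LocCoh.depth (EGA4.FibLocRing A Pn 𝔮') (EGA4.FibLocMod A Pn 𝔮' M) : ℕ∞) :
            WithBot ℕ∞) + ((n - (r + 1) : ℕ) : WithBot ℕ∞))
        rw [hdim']
        exact hCr
      · change ¬ (Module.supportDim (EGA4.FibLocRing A Pn 𝔮') (EGA4.FibLocMod A Pn 𝔮' M) +
          (n : WithBot ℕ∞) ≤ ringKrullDim (EGA4.FibLocRing A Pn 𝔮') + (r : WithBot ℕ∞))
        rw [hdim']
        exact hDr
    · exact (PrimeSpectrum.le_iff_specializes (⟨𝔮', h𝔮'⟩ : PrimeSpectrum Pn) 𝔮).mp hle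
    · exact PrimeSpectrum.ext hcomap
    · have ht' : Dual3.resTrdeg hP (⟨𝔮', h𝔮'⟩ : PrimeSpectrum Pn) = (t : Cardinal.{u}) := ht
      rw [ht']
      exact_mod_cast hkt

end Core

end Groth.Agent.H2.Sk
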