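import Mathlib
import Groth.Prelude.Def_CAlg
import Groth.Prelude.Def_EGA4b
import Groth.Agent.Lib.Helper2.SkA
import Groth.Agent.Lib.Helper2.IdlH

/-! Helper2: the relation "linked by semilinear isomorphisms over surjective ring maps" between
pairs (local ring, module); it preserves depth, dimension and Serre's conditions. The fibre module
on an arbitrary model, and along a surjection of rings, in this stronger form. -/

set_option autoImplicit false
set_option linter.style.haveILetI false
universe u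

namespace Groth.Agent.H2.Sk

open Groth.Agent.H2.Idl

/-- a property of pairs (local ring, module) invariant under semilinear isomorphisms over
surjective ring maps (the source module being finite) -/
def SLInv (Q : ∀ (R : Type u) [CommRing R] [IsLocalRing R] (M : Type u) [AddCommGroup M]
    [Module R M], Prop) : Prop :=
  ∀ (R₁ R₂ : Type u) [CommRing R₁] [IsLocalRing R₁] [CommRing R₂] [IsLocalRing R₂]
    (M₁ M₂ : Type u) [AddCommGroup M₁] [Module R₁ M₁] [AddCommGroup M₂] [Module R₂ M₂]
    [Module.Finite R₁ M₁] (σ : R₁ →+* R₂) (_ : Function.Surjective σ) (τ : M₁ ≃+ M₂)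
    (_ : ∀ (r : R₁) (m : M₁), τ (r • m) = σ r • τ m), Q R₁ M₁ ↔ Q R₂ M₂

/-- two pairs (local ring, module) which cannot be distinguished by properties invariant under
semilinear isomorphisms over surjective ring maps -/
def SL (R₁ : Type u) [CommRing R₁] [IsLocalRing R₁] (M₁ : Type u) [AddCommGroup M₁] [Module R₁ M₁]
    (R₂ : Type u) [CommRing R₂] [IsLocalRing R₂] (M₂ : Type u) [AddCommGroup M₂] [Module R₂ M₂] :
    Prop :=
  ∀ (Q : ∀ (R : Type u) [CommRing R] [IsLocalRing R] (M : Type u) [AddCommGroup M]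
    [Module R M], Prop), SLInv Q → (Q R₁ M₁ ↔ Q R₂ M₂)

section SL
variable {R₁ R₂ R₃ : Type u} [CommRing R₁] [CommRing R₂] [CommRing R₃] [IsLocalRing R₁]
  [IsLocalRing R₂] [IsLocalRing R₃]
  {M₁ M₂ M₃ : Type u} [AddCommGroup M₁] [AddCommGroup M₂] [AddCommGroup M₃] [Module R₁ M₁]
  [Module R₂ M₂] [Module R₃ M₃]

theorem SL.symm (h : SL R₁ M₁ R₂ M₂) : SL R₂ M₂ R₁ M₁ := fun Q hQ => (h Q hQ).symm

theorem SL.trans (h : SL R₁ M₁ R₂ M₂) (h' : SL R₂ M₂ R₃ M₃) : SL R₁ M₁ R₃ M₃ :=
  fun Q hQ => (h Q hQ).trans (h' Q hQ)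

theorem SL.of_semilinear (σ : R₁ →+* R₂) (hσ : Function.Surjective σ) (τ : M₁ ≃+ M₂)
    (hτ : ∀ (r : R₁) (m : M₁), τ (r • m) = σ r • τ m) [Module.Finite R₁ M₁] :
    SL R₁ M₁ R₂ M₂ := fun _ hQ => hQ R₁ R₂ M₁ M₂ σ hσ τ hτ

theorem SL.dd (h : SL R₁ M₁ R₂ M₂) : DD R₁ M₁ R₂ M₂ := by
  have h1 := h (fun R _ _ M _ _ => LocCoh.depth R M = LocCoh.depth R₁ M₁ ∧
    Module.supportDim R M = Module.supportDim R₁ M₁) (by
      intro S₁ S₂ _ _ _ _ N₁ N₂ _ _ _ _ _ σ hσ τ hτ
      obtain ⟨hd, hs⟩ := DD.of_semilinear σ hσ τ hτ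
      beta_reduce
      rw [hd, hs])
  obtain ⟨hd, hs⟩ := h1.mp ⟨rfl, rfl⟩
  exact ⟨hd.symm, hs.symm⟩

theorem SL.hasSk_iff (h : SL R₁ M₁ R₂ M₂) (k : ℕ) :
    LocCoh.HasSk k R₁ M₁ ↔ LocCoh.HasSk k R₂ M₂ :=
  h (fun R _ _ M _ _ => LocCoh.HasSk k R M) (by
    intro S₁ S₂ _ _ _ _ N₁ N₂ _ _ _ _ _ σ hσ τ hτ
    beta_reduce
    exact hasSk_iff_of_semilinear σ hσ τ hτ k)

end SL

section FibModel
variable {A P : Type u} [CommRing A] [CommRing P] [Algebra A P] (𝔮 : Ideal P) [𝔮.IsPrime]
  (X : Type u) [AddCommGroup X] [Module P X] [Module.Finite P X]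
  (L : Type u) [CommRing L] [IsLocalRing L] [Algebra P L] [Algebra A L] [IsScalarTower A P L]
  (F' : Type u) [AddCommGroup F'] [Module L F'] [Module P F'] [IsScalarTower P L F']

/-- **the fibre module on an arbitrary model**: if `L` is a local quotient of `P_q` and `F'` is an
`L`-module which is a localization of `X` at `q`, then `F' / p F'` over `L` has the depth and the
dimension of `X_q / p X_q` over `P_q`. -/
theorem sl_fibModel
    (hunit : ∀ s : P, s ∉ 𝔮 → IsUnit (algebraMap P L s))
    (hsurj : ∀ l : L, ∃ p s : P, s ∉ 𝔮 ∧ l * algebraMap P L s = algebraMap P L p)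
    (g₀ : X →ₗ[P] F') [IsLocalizedModule 𝔮.primeCompl g₀] :
    SL L (F' ⧸ ((𝔮.comap (algebraMap A P)).map (algebraMap A L)) • (⊤ : Submodule L F'))
      (Localization.AtPrime 𝔮) (EGA4.FibLocMod A P 𝔮 X) := by
  -- the surjection `π`
  let π : Localization.AtPrime 𝔮 →+* L :=
    IsLocalization.lift (M := 𝔮.primeCompl) (g := algebraMap P L) (fun s => hunit s.1 s.2)
  have hπ : ∀ p : P, π (algebraMap P (Localization.AtPrime 𝔮) p) = algebraMap P L p :=
    fun p => IsLocalization.lift_eq _ p
  have hπsurj : Function.Surjective π := by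
    intro l
    obtain ⟨p, s, hs, hl⟩ := hsurj l
    refine ⟨IsLocalization.mk' _ p (⟨s, hs⟩ : 𝔮.primeCompl), ?_⟩
    have h1 : π (IsLocalization.mk' (Localization.AtPrime 𝔮) p (⟨s, hs⟩ : 𝔮.primeCompl)) *
        algebraMap P L s = algebraMap P L p := by
      rw [← hπ s, ← map_mul]
      have := IsLocalization.mk'_spec (Localization.AtPrime 𝔮) p (⟨s, hs⟩ : 𝔮.primeCompl)
      rw [this, hπ]
    exact (hunit s hs).mul_right_cancel (h1.trans hl.symm)
  -- the linear equivalence `τ₀`
  let τ₀ : LocalizedModule 𝔮.primeCompl X ≃ₗ[P] F' := IsLocalizedModule.iso 𝔮.primeCompl g₀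
  have hτ₀ : ∀ (a : Localization.AtPrime 𝔮) (y : LocalizedModule 𝔮.primeCompl X),
      τ₀ (a • y) = π a • τ₀ y := by
    intro a y
    obtain ⟨⟨p, s⟩, ha⟩ := IsLocalization.surj 𝔮.primeCompl a
    have hs := hunit s.1 s.2
    have ha' : a * algebraMap P (Localization.AtPrime 𝔮) s.1 =
        algebraMap P (Localization.AtPrime 𝔮) p := ha
    have h1 : (s.1 : P) • τ₀ (a • y) = (s.1 : P) • (π a • τ₀ y) := by
      have e1 : (s.1 : P) • τ₀ (a • y) = (p : P) • τ₀ y := by
        rw [← map_smul τ₀, ← map_smul τ₀]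
        congr 1
        rw [← algebraMap_smul (Localization.AtPrime 𝔮) s.1 (a • y), smul_smul, mul_comm, ha',
          algebraMap_smul]
      have e2 : (s.1 : P) • (π a • τ₀ y) = (p : P) • τ₀ y := by
        rw [← algebraMap_smul L s.1 (π a • τ₀ y), smul_smul, ← hπ, ← map_mul, mul_comm, ha', hπ,
          algebraMap_smul]
      rw [e1, e2]
    have hinj : Function.Injective (fun z : F' => (s.1 : P) • z) := by
      intro z₁ z₂ h
      have h' : algebraMap P L s.1 • z₁ = algebraMap P L s.1 • z₂ := by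
        rw [algebraMap_smul, algebraMap_smul]
        exact h
      exact hs.smul_left_cancel.mp h'
    exact hinj h1
  -- the ideals
  have hπA : ∀ a : A, π (algebraMap A (Localization.AtPrime 𝔮) a) = algebraMap A L a := by
    intro a
    rw [IsScalarTower.algebraMap_apply A P (Localization.AtPrime 𝔮), hπ,
      ← IsScalarTower.algebraMap_apply A P L]
  have hJ : ((𝔮.comap (algebraMap A P)).map (algebraMap A (Localization.AtPrime 𝔮))).map π =
      (𝔮.comap (algebraMap A P)).map (algebraMap A L) := by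
    rw [Ideal.map_map]
    congr 1
    ext a
    exact hπA a
  -- the submodules correspond
  have hfwd : ∀ y ∈ ((𝔮.comap (algebraMap A P)).map (algebraMap A (Localization.AtPrime 𝔮)) •
      (⊤ : Submodule (Localization.AtPrime 𝔮) (LocalizedModule 𝔮.primeCompl X))),
      τ₀ y ∈ (((𝔮.comap (algebraMap A P)).map (algebraMap A L)) • (⊤ : Submodule L F')) := by
    intro y hy
    refine Submodule.smul_induction_on hy (fun j hj m _ => ?_) (fun a b ha hb => ?_)
    · rw [hτ₀]
      refine Submodule.smul_mem_smul ?_ Submodule.mem_top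
      rw [← hJ]
      exact Ideal.mem_map_of_mem π hj
    · rw [map_add]
      exact Submodule.add_mem _ ha hb
  have hbwd : ∀ z ∈ (((𝔮.comap (algebraMap A P)).map (algebraMap A L)) • (⊤ : Submodule L F')),
      τ₀.symm z ∈ ((𝔮.comap (algebraMap A P)).map (algebraMap A (Localization.AtPrime 𝔮)) •
      (⊤ : Submodule (Localization.AtPrime 𝔮) (LocalizedModule 𝔮.primeCompl X))) := by
    intro z hz
    refine Submodule.smul_induction_on hz (fun j' hj' w _ => ?_) (fun a b ha hb => ?_)
    · rw [← hJ] at hj'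
      obtain ⟨j, hj, rfl⟩ := (Ideal.mem_map_iff_of_surjective π hπsurj).mp hj'
      have : τ₀.symm (π j • w) = j • τ₀.symm w := by
        apply τ₀.injective
        rw [hτ₀, LinearEquiv.apply_symm_apply, LinearEquiv.apply_symm_apply]
      rw [this]
      exact Submodule.smul_mem_smul hj Submodule.mem_top
    · rw [map_add]
      exact Submodule.add_mem _ ha hb
  have hmap : AddSubgroup.map (τ₀.toAddEquiv : LocalizedModule 𝔮.primeCompl X →+ F')
      ((𝔮.comap (algebraMap A P)).map (algebraMap A (Localization.AtPrime 𝔮)) •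
      (⊤ : Submodule (Localization.AtPrime 𝔮) (LocalizedModule 𝔮.primeCompl X))).toAddSubgroup =
      (((𝔮.comap (algebraMap A P)).map (algebraMap A L)) •
        (⊤ : Submodule L F')).toAddSubgroup := by
    ext z
    constructor
    · rintro ⟨y, hy, rfl⟩
      exact hfwd y hy
    · intro hz
      exact ⟨τ₀.symm z, hbwd z hz, τ₀.apply_symm_apply z⟩
  let τq : EGA4.FibLocMod A P 𝔮 X ≃+
      (F' ⧸ ((𝔮.comap (algebraMap A P)).map (algebraMap A L)) • (⊤ : Submodule L F')) :=
    QuotientAddGroup.congr _ _ τ₀.toAddEquiv hmap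
  refine (SL.of_semilinear π hπsurj τq ?_).symm
  intro r m
  induction m using Submodule.Quotient.induction_on with
  | H m =>
    change τq (Submodule.Quotient.mk (r • m)) = π r • τq (Submodule.Quotient.mk m)
    change Submodule.Quotient.mk (τ₀ (r • m)) = π r • Submodule.Quotient.mk (τ₀ m)
    rw [hτ₀]
    rfl

end FibModel

section Surj
variable {A P B : Type u} [CommRing A] [CommRing P] [CommRing B] [Algebra A P] [Algebra P B]
  [Algebra A B] [IsScalarTower A P B]

/-- the fibre module of a `B`-module at a prime of `B`, and at the prime of `P` below it, for a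
surjection `P → B`: same depth and dimension. -/
theorem sl_fibLocMod_of_surjective (hsurj : Function.Surjective (algebraMap P B))
    (𝔮B : Ideal B) [𝔮B.IsPrime] (X : Type u) [AddCommGroup X] [Module B X] [Module P X]
    [IsScalarTower P B X] [Module.Finite B X] :
    SL (Localization.AtPrime 𝔮B) (EGA4.FibLocMod A B 𝔮B X)
      (Localization.AtPrime (𝔮B.comap (algebraMap P B)))
      (EGA4.FibLocMod A P (𝔮B.comap (algebraMap P B)) X) := by
  haveI : Module.Finite P B := Module.Finite.of_surjective (Algebra.linearMap P B) hsurj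
  haveI : Module.Finite P X := Module.Finite.trans B X
  let g₀ : X →ₗ[P] LocalizedModule 𝔮B.primeCompl X :=
    (LocalizedModule.mkLinearMap 𝔮B.primeCompl X).restrictScalars P
  have hS : Algebra.algebraMapSubmonoid B (𝔮B.comap (algebraMap P B)).primeCompl =
      𝔮B.primeCompl := by
    ext b
    constructor
    · rintro ⟨s, hs, rfl⟩
      exact hs
    · intro hb
      obtain ⟨s, rfl⟩ := hsurj b
      exact ⟨s, hb, rfl⟩
  haveI : IsLocalizedModule (𝔮B.comap (algebraMap P B)).primeCompl g₀ := by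
    haveI : IsLocalizedModule (Algebra.algebraMapSubmonoid B
        (𝔮B.comap (algebraMap P B)).primeCompl) (LocalizedModule.mkLinearMap 𝔮B.primeCompl X) := by
      rw [hS]
      infer_instance
    exact IsLocalizedModule.restrictScalars (𝔮B.comap (algebraMap P B)).primeCompl
      (LocalizedModule.mkLinearMap 𝔮B.primeCompl X)
  have key := sl_fibModel (A := A) (𝔮B.comap (algebraMap P B)) X (Localization.AtPrime 𝔮B)
    (LocalizedModule 𝔮B.primeCompl X)
    (fun s hs => by
      rw [IsScalarTower.algebraMap_apply P B (Localization.AtPrime 𝔮B)]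
      exact IsLocalization.map_units _ (⟨algebraMap P B s, hs⟩ : 𝔮B.primeCompl))
    (fun l => by
      obtain ⟨⟨b, t⟩, hl⟩ := IsLocalization.surj 𝔮B.primeCompl l
      obtain ⟨p, rfl⟩ := hsurj b
      obtain ⟨s, hs⟩ := hsurj t.1
      refine ⟨p, s, ?_, ?_⟩
      · change algebraMap P B s ∉ 𝔮B
        rw [hs]
        exact t.2
      · rw [IsScalarTower.algebraMap_apply P B (Localization.AtPrime 𝔮B),
          IsScalarTower.algebraMap_apply P B (Localization.AtPrime 𝔮B), hs]
        exact hl)
    g₀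
  have hcomap : (𝔮B.comap (algebraMap P B)).comap (algebraMap A P) = 𝔮B.comap (algebraMap A B) := by
    rw [Ideal.comap_comap, ← IsScalarTower.algebraMap_eq]
  have key' : ∀ 𝔭' : Ideal A, 𝔭' = (𝔮B.comap (algebraMap P B)).comap (algebraMap A P) →
      SL (Localization.AtPrime 𝔮B)
        (LocalizedModule 𝔮B.primeCompl X ⧸ (𝔭'.map (algebraMap A (Localization.AtPrime 𝔮B))) •
          (⊤ : Submodule (Localization.AtPrime 𝔮B) (LocalizedModule 𝔮B.primeCompl X)))
        (Localization.AtPrime (𝔮B.comap (algebraMap P B)))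
        (EGA4.FibLocMod A P (𝔮B.comap (algebraMap P B)) X) := by
    intro 𝔭' h
    subst h
    exact key
  exact key' _ hcomap.symm

end Surj

end Groth.Agent.H2.Sk
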