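import Mathlib
import Groth.Prelude.Def_CAlg
import Groth.Prelude.Def_EGA4b
import Groth.Agent.Lib.Helper2.SkE
import Groth.Agent.Lib.Helper2.SkD
import Groth.Agent.Lib.Helper2.SyntCM4
import Groth.Agent.Lib.Helper1.FibreStalk

/-! Helper2: the local ring of the fibre of a morphism at a point, on an affine chart with a
presentation, is linked to the algebraic fibre module of the coordinate ring over the polynomial
ring; openness of the fibrewise `(S_k)` locus on a flat chart of finite presentation. -/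

set_option autoImplicit false
set_option linter.style.haveILetI false
universe u

open AlgebraicGeometry CategoryTheory

namespace Groth.Agent.H2.Sk

open Groth.Agent.H2.Idl Groth.Agent.H1.FibreStalk

section Scheme
variable {X Y : Scheme.{u}} (f : X ⟶ Y)

/-- **the chart description of the local ring of the fibre** -/
theorem sl_stalk_fiber_self {U : X.Opens} {V : Y.Opens}
    (hU : IsAffineOpen U) (hV : IsAffineOpen V) (e : U ≤ f ⁻¹ᵁ V) (x : X) (hx : x ∈ U) :
    letI := (f.appLE V U e).hom.toAlgebra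
    SL ((f.fiber (f x)).presheaf.stalk (f.asFiber x))
      ((f.fiber (f x)).presheaf.stalk (f.asFiber x))
      (Localization.AtPrime (hU.primeIdealOf ⟨x, hx⟩).asIdeal)
      (EGA4.FibLocMod Γ(Y, V) Γ(X, U) (hU.primeIdealOf ⟨x, hx⟩).asIdeal Γ(X, U)) := by
  letI algAB : Algebra Γ(Y, V) Γ(X, U) := (f.appLE V U e).hom.toAlgebra
  let b : X.presheaf.stalk x →+* (f.fiber (f x)).presheaf.stalk (f.asFiber x) := toFiberStalk f x
  have hb : Function.Surjective b := toFiberStalk_surjective f x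
  letI algBO : Algebra Γ(X, U) (X.presheaf.stalk x) :=
    TopCat.Presheaf.algebra_section_stalk X.presheaf ⟨x, hx⟩
  haveI hlocB : IsLocalization.AtPrime (X.presheaf.stalk x) (hU.primeIdealOf ⟨x, hx⟩).asIdeal :=
    hU.isLocalization_stalk ⟨x, hx⟩
  letI algAO : Algebra Γ(Y, V) (X.presheaf.stalk x) :=
    ((algebraMap Γ(X, U) (X.presheaf.stalk x)).comp (algebraMap Γ(Y, V) Γ(X, U))).toAlgebra
  haveI : IsScalarTower Γ(Y, V) Γ(X, U) (X.presheaf.stalk x) :=
    IsScalarTower.of_algebraMap_eq fun _ => rfl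
  have s1 := sl_fibModel (A := Γ(Y, V)) (hU.primeIdealOf ⟨x, hx⟩).asIdeal Γ(X, U)
    (X.presheaf.stalk x) (X.presheaf.stalk x)
    (fun s hs => IsLocalization.map_units (X.presheaf.stalk x)
      (⟨s, hs⟩ : (hU.primeIdealOf ⟨x, hx⟩).asIdeal.primeCompl))
    (fun l => by
      obtain ⟨⟨p, s⟩, hl⟩ := IsLocalization.surj (hU.primeIdealOf ⟨x, hx⟩).asIdeal.primeCompl l
      exact ⟨p, s.1, s.2, hl⟩)
    (Algebra.linearMap Γ(X, U) (X.presheaf.stalk x))
  -- the two ideals agree
  letI algAOY : Algebra Γ(Y, V) (Y.presheaf.stalk (f x)) :=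
    TopCat.Presheaf.algebra_section_stalk Y.presheaf ⟨f x, e hx⟩
  haveI : IsLocalization.AtPrime (Y.presheaf.stalk (f x)) (hV.primeIdealOf ⟨f x, e hx⟩).asIdeal :=
    hV.isLocalization_stalk ⟨f x, e hx⟩
  have hp : (hU.primeIdealOf ⟨x, hx⟩).asIdeal.comap (algebraMap Γ(Y, V) Γ(X, U)) =
      (hV.primeIdealOf ⟨f x, e hx⟩).asIdeal :=
    Groth.Agent.H2.SyntCM.comap_primeIdealOf f (U := ⟨U, hU⟩) (V := ⟨V, hV⟩) e x hx
  have hm : IsLocalRing.maximalIdeal (Y.presheaf.stalk (f x)) =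
      (hV.primeIdealOf ⟨f x, e hx⟩).asIdeal.map (algebraMap Γ(Y, V) (Y.presheaf.stalk (f x))) :=
    (IsLocalization.AtPrime.map_eq_maximalIdeal _ _).symm
  have hsq : (f.stalkMap x).hom.comp (algebraMap Γ(Y, V) (Y.presheaf.stalk (f x))) =
      algebraMap Γ(Y, V) (X.presheaf.stalk x) := by
    ext a
    simp only [RingHom.algebraMap_toAlgebra, RingHom.coe_comp, Function.comp_apply]
    change (f.stalkMap x).hom ((Y.presheaf.germ V (f x) (e hx)).hom a) = _
    rw [Scheme.Hom.germ_stalkMap_apply]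
    simp only [Scheme.Hom.appLE, CommRingCat.hom_comp, RingHom.coe_comp, Function.comp_apply]
    exact (X.presheaf.germ_res_apply _ _ _ _).symm
  have hideal : RingHom.ker b =
      ((hU.primeIdealOf ⟨x, hx⟩).asIdeal.comap (algebraMap Γ(Y, V) Γ(X, U))).map
        (algebraMap Γ(Y, V) (X.presheaf.stalk x)) := by
    have : RingHom.ker b =
        (IsLocalRing.maximalIdeal (Y.presheaf.stalk (f x))).map (f.stalkMap x).hom :=
      ker_toFiberStalk f x
    rw [this, hm, Ideal.map_map, hsq, hp]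
  -- the semilinear isomorphism
  set I := ((hU.primeIdealOf ⟨x, hx⟩).asIdeal.comap (algebraMap Γ(Y, V) Γ(X, U))).map
        (algebraMap Γ(Y, V) (X.presheaf.stalk x)) with hI
  have hItop : (I • (⊤ : Submodule (X.presheaf.stalk x) (X.presheaf.stalk x))) = I := by
    rw [smul_eq_mul, Ideal.mul_top]
  let φ : X.presheaf.stalk x →+ (f.fiber (f x)).presheaf.stalk (f.asFiber x) := b.toAddMonoidHom
  have hker : (I • (⊤ : Submodule (X.presheaf.stalk x) (X.presheaf.stalk x))).toAddSubgroup =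
      φ.ker := by
    rw [hItop, ← hideal]
    ext z
    rfl
  let τ : (X.presheaf.stalk x ⧸ I • (⊤ : Submodule (X.presheaf.stalk x) (X.presheaf.stalk x))) ≃+
      (f.fiber (f x)).presheaf.stalk (f.asFiber x) :=
    (QuotientAddGroup.quotientAddEquivOfEq hker).trans
      (QuotientAddGroup.quotientKerEquivOfSurjective φ hb)
  have hτ : ∀ (r : X.presheaf.stalk x)
      (m : X.presheaf.stalk x ⧸ I • (⊤ : Submodule (X.presheaf.stalk x) (X.presheaf.stalk x))),
      τ (r • m) = b r • τ m := by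
    intro r m
    induction m using Submodule.Quotient.induction_on with
    | H m =>
      change b (r • m) = b r • b m
      rw [smul_eq_mul, map_mul, smul_eq_mul]
  have s0 := SL.of_semilinear b hb τ hτ
  exact s0.symm.trans s1

/-- on an affine chart with a presentation `A[T₁..Tₙ] ↠ Γ(X,U)`, the local ring of the fibre at
`x ∈ U` is linked to the algebraic fibre module of `Γ(X,U)` over the polynomial ring. -/
theorem sl_stalk_fiber_self_mvPolynomial {U : X.Opens} {V : Y.Opens}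
    (hU : IsAffineOpen U) (hV : IsAffineOpen V) (e : U ≤ f ⁻¹ᵁ V) (n : ℕ)
    (φ : letI := (f.appLE V U e).hom.toAlgebra
      MvPolynomial (Fin n) Γ(Y, V) →ₐ[Γ(Y, V)] Γ(X, U))
    (hφ : Function.Surjective φ) (x : X) (hx : x ∈ U) :
    letI := (f.appLE V U e).hom.toAlgebra
    letI : Algebra (MvPolynomial (Fin n) Γ(Y, V)) Γ(X, U) := φ.toRingHom.toAlgebra
    SL ((f.fiber (f x)).presheaf.stalk (f.asFiber x))
      ((f.fiber (f x)).presheaf.stalk (f.asFiber x))
      (EGA4.FibLocRing Γ(Y, V) (MvPolynomial (Fin n) Γ(Y, V))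
        ((hU.primeIdealOf ⟨x, hx⟩).asIdeal.comap φ.toRingHom))
      (EGA4.FibLocMod Γ(Y, V) (MvPolynomial (Fin n) Γ(Y, V))
        ((hU.primeIdealOf ⟨x, hx⟩).asIdeal.comap φ.toRingHom) Γ(X, U)) := by
  letI algAB : Algebra Γ(Y, V) Γ(X, U) := (f.appLE V U e).hom.toAlgebra
  letI algPB : Algebra (MvPolynomial (Fin n) Γ(Y, V)) Γ(X, U) := φ.toRingHom.toAlgebra
  haveI : IsScalarTower Γ(Y, V) (MvPolynomial (Fin n) Γ(Y, V)) Γ(X, U) :=
    IsScalarTower.of_algebraMap_eq (fun a => (φ.commutes a).symm)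
  have d1 := sl_stalk_fiber_self f hU hV e x hx
  have d2 := sl_fibLocMod_of_surjective (A := Γ(Y, V)) (P := MvPolynomial (Fin n) Γ(Y, V))
    (B := Γ(X, U)) hφ (hU.primeIdealOf ⟨x, hx⟩).asIdeal Γ(X, U)
  haveI : Module.Finite (MvPolynomial (Fin n) Γ(Y, V)) Γ(X, U) :=
    Module.Finite.of_surjective (Algebra.linearMap _ _) hφ
  have d3 : SL (Localization.AtPrime ((hU.primeIdealOf ⟨x, hx⟩).asIdeal.comap φ.toRingHom))
      (EGA4.FibLocMod Γ(Y, V) (MvPolynomial (Fin n) Γ(Y, V))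
        ((hU.primeIdealOf ⟨x, hx⟩).asIdeal.comap φ.toRingHom) Γ(X, U))
      (EGA4.FibLocRing Γ(Y, V) (MvPolynomial (Fin n) Γ(Y, V))
        ((hU.primeIdealOf ⟨x, hx⟩).asIdeal.comap φ.toRingHom))
      (EGA4.FibLocMod Γ(Y, V) (MvPolynomial (Fin n) Γ(Y, V))
        ((hU.primeIdealOf ⟨x, hx⟩).asIdeal.comap φ.toRingHom) Γ(X, U)) :=
    SL.of_semilinear (Ideal.Quotient.mk _) Ideal.Quotient.mk_surjective (AddEquiv.refl _)
      (fun _ _ => rfl)
  exact (d1.trans d2).trans d3

end Scheme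

end Groth.Agent.H2.Sk
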