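import Mathlib
import Groth.Prelude.Def_CAlg
import Groth.Prelude.Def_EGA4b
import Groth.Agent.Lib.Helper2.SkF
import Groth.Agent.Lib.Helper2.IdlL

/-! Helper2: **EGA IV 12.1.1 (iv)/(v)**: for a morphism locally of finite presentation, the set of
points of a flat affine chart at which the fibre satisfies `(S_k)` is open; hence the fibrewise
`(S_k)` locus of a flat morphism locally of finite presentation is open. -/

set_option autoImplicit false
set_option linter.style.haveILetI false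
universe u

open AlgebraicGeometry CategoryTheory

namespace Groth.Agent.H2.Sk

open Groth.Agent.H2.Idl Groth.Agent.LD.QC

section Scheme
variable {X Y : Scheme.{u}} (f : X ⟶ Y)

/-- on an affine chart whose coordinate ring is flat and of finite presentation over the base, the
fibrewise `(S_k)` locus is open. -/
theorem isOpen_fibre_hasSk_chart {U : X.Opens} {V : Y.Opens}
    (hU : IsAffineOpen U) (hV : IsAffineOpen V) (e : U ≤ f ⁻¹ᵁ V)
    (hfp : letI := (f.appLE V U e).hom.toAlgebra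
      Algebra.FinitePresentation Γ(Y, V) Γ(X, U))
    (hflat : letI := (f.appLE V U e).hom.toAlgebra
      Module.Flat Γ(Y, V) Γ(X, U)) (k : ℕ) :
    IsOpen {x : X | x ∈ U ∧ LocCoh.HasSk k ((f.fiber (f.base x)).presheaf.stalk (f.asFiber x))
      ((f.fiber (f.base x)).presheaf.stalk (f.asFiber x))} := by
  letI algAB : Algebra Γ(Y, V) Γ(X, U) := (f.appLE V U e).hom.toAlgebra
  haveI hfpAB : Algebra.FinitePresentation Γ(Y, V) Γ(X, U) := hfp
  haveI hflatAB : Module.Flat Γ(Y, V) Γ(X, U) := hflat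
  obtain ⟨n, φ, hφ⟩ := Algebra.FiniteType.iff_quotient_mvPolynomial''.mp
    (inferInstance : Algebra.FiniteType Γ(Y, V) Γ(X, U))
  letI algPB : Algebra (MvPolynomial (Fin n) Γ(Y, V)) Γ(X, U) := φ.toRingHom.toAlgebra
  haveI : IsScalarTower Γ(Y, V) (MvPolynomial (Fin n) Γ(Y, V)) Γ(X, U) :=
    IsScalarTower.of_algebraMap_eq (fun a => (φ.commutes a).symm)
  haveI : Module.Finite (MvPolynomial (Fin n) Γ(Y, V)) Γ(X, U) :=
    Module.Finite.of_surjective (Algebra.linearMap _ _) hφ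
  haveI : Algebra.FinitePresentation (MvPolynomial (Fin n) Γ(Y, V)) Γ(X, U) :=
    Algebra.FinitePresentation.of_restrict_scalars_finitePresentation Γ(Y, V) _ _
  haveI : Module.FinitePresentation (MvPolynomial (Fin n) Γ(Y, V)) Γ(X, U) :=
    Module.FinitePresentation.of_finite_of_finitePresentation _ _
  have hW := isOpen_hasSk_fibLocMod Γ(Y, V) n Γ(X, U) k
  let ψ : U → PrimeSpectrum (MvPolynomial (Fin n) Γ(Y, V)) :=
    fun x => PrimeSpectrum.comap φ.toRingHom (hU.primeIdealOf x)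
  have hψ : Continuous ψ :=
    (PrimeSpectrum.continuous_comap φ.toRingHom).comp hU.isoSpec.hom.continuous
  have key : ∀ (x : X) (hx : x ∈ U),
      LocCoh.HasSk k ((f.fiber (f.base x)).presheaf.stalk (f.asFiber x))
        ((f.fiber (f.base x)).presheaf.stalk (f.asFiber x)) ↔
      ψ ⟨x, hx⟩ ∈ {𝔮 : PrimeSpectrum (MvPolynomial (Fin n) Γ(Y, V)) |
        LocCoh.HasSk k (EGA4.FibLocRing Γ(Y, V) (MvPolynomial (Fin n) Γ(Y, V)) 𝔮.asIdeal)
          (EGA4.FibLocMod Γ(Y, V) (MvPolynomial (Fin n) Γ(Y, V)) 𝔮.asIdeal Γ(X, U))} := by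
    intro x hx
    exact (sl_stalk_fiber_self_mvPolynomial f hU hV e n φ hφ x hx).hasSk_iff k
  have hset : {x : X | x ∈ U ∧
      LocCoh.HasSk k ((f.fiber (f.base x)).presheaf.stalk (f.asFiber x))
      ((f.fiber (f.base x)).presheaf.stalk (f.asFiber x))} = Subtype.val '' (ψ ⁻¹'
        {𝔮 : PrimeSpectrum (MvPolynomial (Fin n) Γ(Y, V)) |
        LocCoh.HasSk k (EGA4.FibLocRing Γ(Y, V) (MvPolynomial (Fin n) Γ(Y, V)) 𝔮.asIdeal)
          (EGA4.FibLocMod Γ(Y, V) (MvPolynomial (Fin n) Γ(Y, V)) 𝔮.asIdeal Γ(X, U))}) := by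
    ext x
    constructor
    · rintro ⟨hx, hS⟩
      exact ⟨⟨x, hx⟩, (key x hx).mp hS, rfl⟩
    · rintro ⟨⟨x', hx'⟩, hW', rfl⟩
      exact ⟨hx', (key x' hx').mpr hW'⟩
  rw [hset]
  exact U.isOpen.isOpenMap_subtype_val _ (hW.preimage hψ)

/-- **EGA IV 12.1.1**: for `f` flat and locally of finite presentation the fibrewise `(S_k)` locus
is open. -/
theorem isOpen_fibre_hasSk [Flat f] [LocallyOfFinitePresentation f] (k : ℕ) :
    IsOpen {x : X | LocCoh.HasSk k ((f.fiber (f.base x)).presheaf.stalk (f.asFiber x))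
      ((f.fiber (f.base x)).presheaf.stalk (f.asFiber x))} := by
  rw [isOpen_iff_forall_mem_open]
  intro x₀ hx₀
  obtain ⟨U, V, hU, hV, hx₀U, e⟩ := exists_affine_nhds_le_preimage f x₀
  have hfp : letI := (f.appLE V U e).hom.toAlgebra
      Algebra.FinitePresentation Γ(Y, V) Γ(X, U) := by
    have h1 := HasRingHomProperty.appLE (P := @LocallyOfFinitePresentation) f inferInstance
      ⟨V, hV⟩ ⟨U, hU⟩ e
    letI := (f.appLE V U e).hom.toAlgebra
    exact RingHom.finitePresentation_algebraMap.mp h1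
  have hflat : letI := (f.appLE V U e).hom.toAlgebra
      Module.Flat Γ(Y, V) Γ(X, U) := by
    have h1 := HasRingHomProperty.appLE (P := @Flat) f inferInstance ⟨V, hV⟩ ⟨U, hU⟩ e
    letI := (f.appLE V U e).hom.toAlgebra
    exact RingHom.flat_algebraMap_iff.mp h1
  refine ⟨_, ?_, isOpen_fibre_hasSk_chart f hU hV e hfp hflat k, ⟨hx₀U, hx₀⟩⟩
  rintro x ⟨-, hx⟩
  exact hx

end Scheme

end Groth.Agent.H2.Sk
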