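import Mathlib
import Groth.Prelude.Def_CAlg
import Groth.Prelude.Def_EGA4b
import Groth.Agent.Lib.Helper2.SkG

/-! Helper2: for a proper flat morphism locally of finite presentation, the set of points of the
base over which all local rings of the fibre satisfy `(S_k)` is open. -/

set_option autoImplicit false
set_option linter.style.haveILetI false
universe u

open AlgebraicGeometry CategoryTheory

namespace Groth.Agent.H2.Sk

section Scheme
variable {X Y : Scheme.{u}} (f : X ⟶ Y)

/-- transport of a property of points of fibres -/
theorem fiber_transport (P : ∀ y : Y, ↥(f.fiber y) → Prop) (y : Y) (z : ↥(f.fiber y))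
    (h : P (f (f.fiberι y z)) (f.asFiber (f.fiberι y z))) : P y z := by
  have hy : f (f.fiberι y z) = y := by
    have : f.fiberι y z ∈ Set.range (f.fiberι y) := ⟨z, rfl⟩
    rw [Scheme.Hom.range_fiberι] at this
    exact this
  have key : ∀ (y' : Y) (_ : y' = y) (z' : ↥(f.fiber y')), f.fiberι y' z' = f.fiberι y z →
      P y' z' → P y z := by
    intro y' hy' z' hz' hP
    subst hy'
    have : z' = z := (f.fiberι y').isEmbedding.injective hz'
    subst this
    exact hP
  exact key _ hy _ (f.fiberι_asFiber _) h

/-- the points of the base over which a fibrewise open condition holds everywhere on the fibre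
form an open set, for a closed map. -/
theorem isOpen_forall_fiber_of_isClosedMap (hcl : IsClosedMap f.base)
    (P : ∀ y : Y, ↥(f.fiber y) → Prop)
    (hopen : IsOpen {x : X | P (f x) (f.asFiber x)}) :
    IsOpen {y : Y | ∀ z : ↥(f.fiber y), P y z} := by
  have h1 : IsClosed (f.base '' {x : X | P (f x) (f.asFiber x)}ᶜ) := hcl _ hopen.isClosed_compl
  convert h1.isOpen_compl using 1
  ext y
  simp only [Set.mem_ofPred_eq, Set.mem_compl_iff, Set.mem_image, not_exists, not_and]
  constructor
  · intro h x hx hxy
    subst hxy
    exact hx (h (f.asFiber x))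
  · intro h z
    apply fiber_transport f P y z
    by_contra hcon
    apply h (f.fiberι y z) hcon
    have : f.fiberι y z ∈ Set.range (f.fiberι y) := ⟨z, rfl⟩
    rw [Scheme.Hom.range_fiberι] at this
    exact this

theorem isOpen_hasSk_fibre_of_proper_flat [IsProper f] [Flat f] [LocallyOfFinitePresentation f]
    (k : ℕ) :
    IsOpen {y : Y | ∀ x : ↥(f.fiber y),
      LocCoh.HasSk k ((f.fiber y).presheaf.stalk x) ((f.fiber y).presheaf.stalk x)} :=
  isOpen_forall_fiber_of_isClosedMap f f.isClosedMap
    (fun y z => LocCoh.HasSk k ((f.fiber y).presheaf.stalk z) ((f.fiber y).presheaf.stalk z))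
    (isOpen_fibre_hasSk f k)

end Scheme

end Groth.Agent.H2.Sk
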