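import Mathlib
import Groth.Prelude.Def_CAlg
import Groth.Prelude.Def_FDesc
import Groth.Agent.Lib.Helper2.SkA
import Groth.Agent.Lib.Helper2.StalkSpec
import Groth.Agent.Lib.Helper1.StalkGen
import Groth.Agent.Lib.Helper1.CohLen
import Groth.Agent.Lib.Helper2.DepthS1Sch

/-! Helper2: Serre's condition `(S_k)` at a stalk in terms of the Serre inequalities at the
generizations; the `(S_1)` case in terms of associated points. -/

set_option autoImplicit false
set_option linter.style.haveILetI false
universe u

open AlgebraicGeometry CategoryTheory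

namespace Groth.Agent.H2.Sk

open Groth.Agent.H2.Idl Groth.Agent.LD.QC Groth.Agent.H1.StalkGen Groth.Agent.H2.StalkSpec

attribute [-instance] Groth.Agent.LD.QC.stalkModule

variable {X : Scheme.{u}}

/-- depth and dimension of the localization of a stalk at the prime of a generization are those of
the stalk at the generization (no Noetherian hypothesis). -/
theorem dd_stalk_generization (F : X.Modules) [F.IsQuasicoherent] {x z : X} (h : z ⤳ x)
    [Module.Finite (X.presheaf.stalk x) (F.presheaf.stalk x)] :
    DD (Localization.AtPrime (primeOf h).asIdeal)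
      (LocalizedModule (primeOf h).asIdeal.primeCompl (F.presheaf.stalk x))
      (X.presheaf.stalk z) (F.presheaf.stalk z) := by
  letI := specModule F h
  letI : Algebra (X.presheaf.stalk x) (X.presheaf.stalk z) :=
    (X.presheaf.stalkSpecializes h).hom.toAlgebra
  haveI := isLocalization_stalkSpecializes h
  haveI := isLocalizedModule_specLinear F h
  haveI : IsScalarTower (X.presheaf.stalk x) (X.presheaf.stalk z) (F.presheaf.stalk z) :=
    IsScalarTower.of_algebraMap_smul fun r m => rfl
  let e : Localization.AtPrime (primeOf h).asIdeal ≃ₐ[X.presheaf.stalk x] X.presheaf.stalk z :=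
    IsLocalization.algEquiv (primeOf h).asIdeal.primeCompl _ _
  obtain ⟨τ, -, hτ⟩ := exists_semilinear_of_isLocalizedModule (primeOf h).asIdeal.primeCompl
    (e : Localization.AtPrime (primeOf h).asIdeal →+* X.presheaf.stalk z)
    (fun s => e.commutes s)
    (LocalizedModule.mkLinearMap (primeOf h).asIdeal.primeCompl (F.presheaf.stalk x))
    (specLinear F h)
  haveI : Module.Finite (Localization.AtPrime (primeOf h).asIdeal)
      (LocalizedModule (primeOf h).asIdeal.primeCompl (F.presheaf.stalk x)) :=
    Module.Finite.of_isLocalizedModule (primeOf h).asIdeal.primeCompl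
      (LocalizedModule.mkLinearMap (primeOf h).asIdeal.primeCompl (F.presheaf.stalk x))
  exact DD.of_semilinear (e : Localization.AtPrime (primeOf h).asIdeal →+* X.presheaf.stalk z)
    e.surjective τ.toAddEquiv hτ

/-- **`(S_k)` at a stalk is the Serre inequality at all generizations.** -/
theorem hasSk_stalk_iff_generizations (F : X.Modules) [F.IsQuasicoherent] (x : X)
    [Module.Finite (X.presheaf.stalk x) (F.presheaf.stalk x)] (k : ℕ) :
    LocCoh.HasSk k (X.presheaf.stalk x) (F.presheaf.stalk x) ↔
      ∀ z : X, z ⤳ x → min (k : WithBot ℕ∞)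
          (Module.supportDim (X.presheaf.stalk z) (F.presheaf.stalk z)) ≤
        ((LocCoh.depth (X.presheaf.stalk z) (F.presheaf.stalk z) : ℕ∞) : WithBot ℕ∞) := by
  constructor
  · intro hS z hz
    obtain ⟨hd, hs⟩ := dd_stalk_generization F hz
    rw [← hd, ← hs]
    exact hS (primeOf hz).asIdeal
  · intro hS p hp
    have hz := fromSpecStalk_specializes x (⟨p, hp⟩ : PrimeSpectrum (X.presheaf.stalk x))
    have hp' : primeOf hz = ⟨p, hp⟩ := primeOf_fromSpecStalk x _
    obtain ⟨hd, hs⟩ := dd_stalk_generization F hz
    have key : ∀ q : PrimeSpectrum (X.presheaf.stalk x), q = ⟨p, hp⟩ →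
        LocCoh.depth (Localization.AtPrime q.asIdeal)
          (LocalizedModule q.asIdeal.primeCompl (F.presheaf.stalk x)) =
        LocCoh.depth (X.presheaf.stalk (X.fromSpecStalk x ⟨p, hp⟩))
          (F.presheaf.stalk (X.fromSpecStalk x ⟨p, hp⟩)) →
        Module.supportDim (Localization.AtPrime q.asIdeal)
          (LocalizedModule q.asIdeal.primeCompl (F.presheaf.stalk x)) =
        Module.supportDim (X.presheaf.stalk (X.fromSpecStalk x ⟨p, hp⟩))
          (F.presheaf.stalk (X.fromSpecStalk x ⟨p, hp⟩)) →
        min (k : WithBot ℕ∞)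
          (Module.supportDim (Localization.AtPrime p) (LocalizedModule p.primeCompl
            (F.presheaf.stalk x))) ≤
        ((LocCoh.depth (Localization.AtPrime p) (LocalizedModule p.primeCompl
            (F.presheaf.stalk x)) : ℕ∞) : WithBot ℕ∞) := by
      intro q hq hd' hs'
      subst hq
      rw [hd', hs']
      exact hS _ hz
    exact key _ hp' hd hs

end Groth.Agent.H2.Sk

namespace Groth.Agent.H2.Sk

open Groth.Agent.H2.Idl Groth.Agent.LD.QC Groth.Agent.H1.StalkGen Groth.Agent.H2.StalkSpec
  Groth.Agent.H2.DepthS1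

variable {X : Scheme.{u}}

/-- the `(S_1)` inequality at a point in terms of associated points -/
theorem s1Ineq_iff_assPoint [IsLocallyNoetherian X] (F : X.Modules) [F.IsQuasicoherent]
    (hF : F.IsFiniteType) (z : X) :
    min ((1 : ℕ) : WithBot ℕ∞)
          (Module.supportDim (X.presheaf.stalk z) (F.presheaf.stalk z)) ≤
        ((LocCoh.depth (X.presheaf.stalk z) (F.presheaf.stalk z) : ℕ∞) : WithBot ℕ∞) ↔
      ¬ (Curv2.IsAssPoint F z ∧ ∃ y : X, Curv2.IsAssPoint F y ∧ y ⤳ z ∧ y ≠ z) := by
  haveI : Module.Finite (X.presheaf.stalk z) (F.presheaf.stalk z) :=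
    Groth.Agent.H1.CohLen.finite_stalk F hF z
  rw [Nat.cast_one]
  refine (s1_iff (R := X.presheaf.stalk z) (N := F.presheaf.stalk z)).trans ?_
  exact not_congr (and_congr Iff.rfl (exists_assPrime_ne_iff F z))

/-- **`(S_1)` at a stalk means no embedded associated points through the point.** -/
theorem hasSk_one_stalk_iff [IsLocallyNoetherian X] (F : X.Modules) [F.IsQuasicoherent]
    (hF : F.IsFiniteType) (x : X) :
    LocCoh.HasSk 1 (X.presheaf.stalk x) (F.presheaf.stalk x) ↔
      ∀ z ∈ _root_.AssSch.Ass F, x ∈ closure {z} →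
        ∀ z' ∈ _root_.AssSch.Ass F, z ∈ closure {z'} → z' = z := by
  refine (@hasSk_stalk_iff_generizations X F _ x
    (Groth.Agent.H1.CohLen.finite_stalk F hF x) 1).trans ?_
  have key := s1Ineq_iff_assPoint F hF
  refine (forall_congr' fun z => imp_congr Iff.rfl (key z)).trans ?_
  constructor
  · intro h z hz hxz z' hz' hzz'
    by_contra hne
    exact h z (specializes_iff_mem_closure.mpr hxz)
      ⟨hz, z', hz', specializes_iff_mem_closure.mpr hzz', hne⟩
  · rintro h z hzx ⟨hz, y, hy, hyz, hne⟩
    exact hne (h z hz (specializes_iff_mem_closure.mp hzx) y hy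
      (specializes_iff_mem_closure.mp hyz))

end Groth.Agent.H2.Sk
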