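import Mathlib
import Groth.Prelude.Def_CAlg
import Groth.Prelude.Def_FlatMod2
import Groth.Prelude.Def_CohB1
import Groth.Prelude.Def_FDesc
import Groth.Agent.Lib.Helper2.SkI
import Groth.Agent.Lib.Helper2.SkL
import Groth.Agent.Lib.Helper2.IdlO
import Groth.Agent.Lib.Helper3.DepthAux

/-! Helper2: dictionary between the points of a fibre generizing a point and the generizations in
the total space; the locus where the associated points of the fibre module through a point have
prescribed dimensions is open (EGA IV 12.1.1 (i)/(ii)). -/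

set_option autoImplicit false
set_option linter.style.haveILetI false
universe u

open AlgebraicGeometry CategoryTheory

namespace Groth.Agent.H2.Sk

open Groth.Agent.H2.Idl Groth.Agent.LD.QC

section Scheme
variable {X Y : Scheme.{u}} (f : X ⟶ Y)

/-- every closed subset is the range of a closed immersion -/
theorem exists_closedImmersion_range_eq (C : Set X) (hC : IsClosed C) :
    ∃ (T : Scheme.{u}) (ι : T ⟶ X), IsClosedImmersion ι ∧ Set.range ι = C := by
  let W : TopologicalSpace.Closeds X := ⟨C, hC⟩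
  refine ⟨_, (Scheme.IdealSheafData.vanishingIdeal W).subschemeι, inferInstance, ?_⟩
  rw [Scheme.IdealSheafData.range_subschemeι, Scheme.IdealSheafData.coe_support_vanishingIdeal]
  rfl

theorem map_fiberι (y : Y) (z : ↥(f.fiber y)) : f (f.fiberι y z) = y := by
  have : f.fiberι y z ∈ Set.range (f.fiberι y) := ⟨z, rfl⟩
  rw [Scheme.Hom.range_fiberι] at this
  exact this

/-- transport of a property of points of fibres, both directions -/
theorem fiber_transport_iff (P : ∀ y : Y, ↥(f.fiber y) → Prop) (y : Y) (z : ↥(f.fiber y)) :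
    P (f (f.fiberι y z)) (f.asFiber (f.fiberι y z)) ↔ P y z := by
  have hy : f (f.fiberι y z) = y := map_fiberι f y z
  have key : ∀ (y' : Y) (_ : y' = y) (z' : ↥(f.fiber y')), f.fiberι y' z' = f.fiberι y z →
      (P y' z' ↔ P y z) := by
    intro y' hy' z' hz'
    subst hy'
    have : z' = z := (f.fiberι y').isEmbedding.injective hz'
    subst this
    exact Iff.rfl
  exact key _ hy _ (f.fiberι_asFiber _)

/-- transport to a point of the total space with prescribed image -/
theorem fiber_transport_pt (P : ∀ y : Y, ↥(f.fiber y) → Prop) (y : Y) (z : ↥(f.fiber y)) (x' : X)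
    (hx' : f.fiberι y z = x') : P (f x') (f.asFiber x') ↔ P y z := by
  subst hx'
  exact fiber_transport_iff f P y z

/-- **generizations in the fibre are the generizations in the total space lying in the fibre** -/
theorem forall_fiber_generization_iff (P : ∀ y : Y, ↥(f.fiber y) → Prop) (x : X) :
    (∀ z : ↥(f.fiber (f x)), f.asFiber x ∈ closure {z} → P (f x) z) ↔
      ∀ x' : X, x' ⤳ x → f x' = f x → P (f x') (f.asFiber x') := by
  constructor
  · intro h x' hsp hfx
    have hx'r : x' ∈ Set.range (f.fiberι (f x)) := by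
      rw [Scheme.Hom.range_fiberι]
      exact hfx
    obtain ⟨z, hz⟩ := hx'r
    rw [fiber_transport_pt f P (f x) z x' hz]
    apply h z
    rw [← specializes_iff_mem_closure]
    rw [← (f.fiberι (f x)).isEmbedding.isInducing.specializes_iff, hz, f.fiberι_asFiber]
    exact hsp
  · intro h z hz
    rw [← fiber_transport_iff f P (f x) z]
    apply h
    · rw [← specializes_iff_mem_closure] at hz
      have := hz.map (f.fiberι (f x)).continuous
      rwa [f.fiberι_asFiber] at this
    · exact map_fiberι f (f x) z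

/-- locally the residue transcendence degree is bounded -/
theorem exists_nhd_resTrdeg_le [LocallyOfFiniteType f] (x₀ : X) :
    ∃ (U : X.Opens) (N : ℕ), x₀ ∈ U ∧ ∀ x ∈ U, Dual3.resTrdeg f x ≤ (N : Cardinal.{u}) := by
  obtain ⟨U, V, hU, hV, hx₀U, e⟩ := exists_affine_nhds_le_preimage f x₀
  letI algAB : Algebra Γ(Y, V) Γ(X, U) := (f.appLE V U e).hom.toAlgebra
  haveI hftAB : Algebra.FiniteType Γ(Y, V) Γ(X, U) := by
    have := HasRingHomProperty.appLE (P := @LocallyOfFiniteType) f inferInstance
      ⟨V, hV⟩ ⟨U, hU⟩ e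
    exact RingHom.finiteType_algebraMap.mp this
  obtain ⟨n, φ, hφ⟩ := Algebra.FiniteType.iff_quotient_mvPolynomial''.mp hftAB
  refine ⟨U, n, hx₀U, fun x hx => ?_⟩
  have hch := resTrdeg_chart f hU hV e n φ hφ x hx
  obtain ⟨r₀, t, -, hsum, ht⟩ := exists_dim_fibLocRing_mvPolynomial' Γ(Y, V) n
    (PrimeSpectrum.comap φ.toRingHom (hU.primeIdealOf ⟨x, hx⟩))
  rw [hch, ht]
  exact_mod_cast (by omega : t ≤ n)

theorem arith_ass (d : ℕ∞) (t t' : ℕ)
    (h : ¬ (((t + 1 : ℕ) : WithBot ℕ∞) ≤ ((d : ℕ∞) : WithBot ℕ∞) + ((t' : ℕ) : WithBot ℕ∞)))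
    (htt : t ≤ t') : d = 0 ∧ t' = t := by
  induction d using ENat.recTopCoe with
  | top =>
    exfalso
    apply h
    have hc : ((t' : ℕ) : WithBot ℕ∞) = (((t' : ℕ) : ℕ∞) : WithBot ℕ∞) := rfl
    rw [hc, ← WithBot.coe_add, top_add]
    exact le_top
  | coe d₀ =>
    rw [wb_le_add] at h
    refine ⟨?_, by omega⟩
    have : d₀ = 0 := by omega
    subst this
    rfl

theorem arith_ass' (t : ℕ) :
    ¬ (((t + 1 : ℕ) : WithBot ℕ∞) ≤ (((0 : ℕ∞)) : WithBot ℕ∞) + ((t : ℕ) : WithBot ℕ∞)) := by
  have h0 : ((0 : ℕ∞)) = ((0 : ℕ) : ℕ∞) := rfl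
  rw [h0, wb_le_add]
  omega

/-- **EGA IV 12.1.1 (i), (ii)**: the set of points `x` such that the associated points of the fibre
module generizing `x` have closures of dimension in a given finite set is open. -/
theorem isOpen_ass_dim_mem [LocallyOfFinitePresentation f] (F : X.Modules)
    (hF : CohB1.IsFP F) (hflat : FlatMod.IsFlatOver f F) (Φ : Finset ℕ) :
    IsOpen {x : X | ∀ z ∈ _root_.AssSch.Ass ((Scheme.Modules.pullback (f.fiberι (f.base x))).obj F),
      f.asFiber x ∈ closure {z} →
      ∃ n ∈ Φ, topologicalKrullDim ↥(closure ({z} : Set ↥(f.fiber (f.base x)))) =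
        (n : WithBot ℕ∞)} := by
  classical
  haveI := hF
  haveI hqc : F.IsQuasicoherent := inferInstance
  let P : ∀ y : Y, ↥(f.fiber y) → Prop := fun y z =>
    z ∈ _root_.AssSch.Ass ((Scheme.Modules.pullback (f.fiberι y)).obj F) →
      ∃ n ∈ Φ, topologicalKrullDim ↥(closure ({z} : Set ↥(f.fiber y))) = (n : WithBot ℕ∞)
  have hS : ∀ x : X,
      (∀ z ∈ _root_.AssSch.Ass ((Scheme.Modules.pullback (f.fiberι (f.base x))).obj F),
        f.asFiber x ∈ closure {z} →
        ∃ n ∈ Φ, topologicalKrullDim ↥(closure ({z} : Set ↥(f.fiber (f.base x)))) =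
          (n : WithBot ℕ∞)) ↔
      ∀ x' : X, x' ⤳ x → f x' = f x → P (f x') (f.asFiber x') := by
    intro x
    rw [← forall_fiber_generization_iff f P x]
    constructor
    · intro h z hz hass
      exact h z hass hz
    · intro h z hass hz
      exact h z hz hass
  let C : ℕ → Set X := fun t => {x : X | ((t + 1 : ℕ) : WithBot ℕ∞) ≤
      ((LocCoh.depth ((f.fiber (f.base x)).presheaf.stalk (f.asFiber x))
        (((Scheme.Modules.pullback (f.fiberι (f.base x))).obj F).presheaf.stalk (f.asFiber x)) : ℕ∞) :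
          WithBot ℕ∞) +
        topologicalKrullDim ↥(closure ({f.asFiber x} : Set ↥(f.fiber (f.base x))))}ᶜ
  have hC : ∀ t, IsClosed (C t) := fun t =>
    (isOpen_rectified_depth f F hF hflat (t + 1)).isClosed_compl
  let Bad : ℕ → Set X := fun t => {x : X | ∃ x' ∈ C t, x' ⤳ x ∧ f x' = f x ∧
    (t : Cardinal.{u}) ≤ Dual3.resTrdeg f x'}
  have hBad : ∀ t, IsClosed (Bad t) := by
    intro t
    obtain ⟨T, ι, hι, hr⟩ := exists_closedImmersion_range_eq (C t) (hC t)
    have h1 := isClosed_exists_generization ι f t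
    rw [hr] at h1
    exact h1
  have hP : ∀ x' : X, P (f x') (f.asFiber x') ↔
      ∀ t : ℕ, x' ∈ C t → (t : Cardinal.{u}) ≤ Dual3.resTrdeg f x' → t ∈ Φ := by
    intro x'
    obtain ⟨t', ht', hdim⟩ := exists_resTrdeg_eq_dim_closure f x'
    haveI : IsLocallyNoetherian (f.fiber (f.base x')) := by
      delta Scheme.Hom.fiber
      infer_instance
    haveI := qc_pullback (f.fiberι (f.base x')) F
    have hft := isFiniteType_pullback (f.fiberι (f.base x')) F inferInstance
    have hass : f.asFiber x' ∈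
        _root_.AssSch.Ass ((Scheme.Modules.pullback (f.fiberι (f.base x'))).obj F) ↔
        LocCoh.depth ((f.fiber (f.base x')).presheaf.stalk (f.asFiber x'))
        (((Scheme.Modules.pullback (f.fiberι (f.base x'))).obj F).presheaf.stalk (f.asFiber x'))
          = 0 :=
      (@Groth.Agent.H3.DepthAux.depth_eq_zero_iff_mem_associatedPrimes _ _ _ _ _ _ _
        (Groth.Agent.H1.CohLen.finite_stalk _ hft _)).symm
    constructor
    · intro hPx t hCt htr
      have hCt' : ¬ (((t + 1 : ℕ) : WithBot ℕ∞) ≤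
        ((LocCoh.depth ((f.fiber (f.base x')).presheaf.stalk (f.asFiber x'))
          (((Scheme.Modules.pullback (f.fiberι (f.base x'))).obj F).presheaf.stalk
            (f.asFiber x')) : ℕ∞) : WithBot ℕ∞) +
          topologicalKrullDim ↥(closure ({f.asFiber x'} : Set ↥(f.fiber (f.base x'))))) := hCt
      rw [hdim] at hCt'
      have htt : t ≤ t' := by
        have : (t : Cardinal.{u}) ≤ (t' : Cardinal.{u}) := by rw [← ht']; exact htr
        exact_mod_cast this
      obtain ⟨hd0, htt'⟩ := arith_ass _ t t' hCt' htt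
      obtain ⟨n, hn, hnd⟩ := hPx (hass.mpr hd0)
      have hnd' : topologicalKrullDim ↥(closure ({f.asFiber x'} : Set ↥(f.fiber (f.base x')))) =
          (n : WithBot ℕ∞) := hnd
      rw [hdim] at hnd'
      have : t' = n := by exact_mod_cast hnd'
      rw [← htt', this]
      exact hn
    · intro h hassx
      have hd0 := hass.mp hassx
      refine ⟨t', h t' ?_ (by rw [ht']), hdim⟩
      change ¬ (((t' + 1 : ℕ) : WithBot ℕ∞) ≤
        ((LocCoh.depth ((f.fiber (f.base x')).presheaf.stalk (f.asFiber x'))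
          (((Scheme.Modules.pullback (f.fiberι (f.base x'))).obj F).presheaf.stalk
            (f.asFiber x')) : ℕ∞) : WithBot ℕ∞) +
          topologicalKrullDim ↥(closure ({f.asFiber x'} : Set ↥(f.fiber (f.base x')))))
      rw [hdim, hd0]
      exact arith_ass' t'
  have hmem : ∀ x : X,
      (∀ z ∈ _root_.AssSch.Ass ((Scheme.Modules.pullback (f.fiberι (f.base x))).obj F),
        f.asFiber x ∈ closure {z} →
        ∃ n ∈ Φ, topologicalKrullDim ↥(closure ({z} : Set ↥(f.fiber (f.base x)))) =
          (n : WithBot ℕ∞)) ↔ ∀ t : ℕ, t ∉ Φ → x ∉ Bad t := by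
    intro x
    rw [hS x]
    constructor
    · rintro h t htΦ ⟨x', hx'C, hsp, hfib, htr⟩
      exact htΦ ((hP x').mp (h x' hsp hfib) t hx'C htr)
    · intro h x' hsp hfib
      rw [hP x']
      intro t hCt htr
      by_contra htΦ
      exact h t htΦ ⟨x', hCt, hsp, hfib, htr⟩
  rw [isOpen_iff_forall_mem_open]
  intro x₀ hx₀
  obtain ⟨U, N, hx₀U, hbound⟩ := exists_nhd_resTrdeg_le f x₀
  refine ⟨(U : Set X) ∩ ⋂ t ∈ (Finset.range (N + 1)).filter (fun t => t ∉ Φ), (Bad t)ᶜ, ?_, ?_, ?_⟩
  · rintro x ⟨hxU, hx⟩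
    rw [Set.mem_ofPred_eq, hmem x]
    intro t htΦ hbad
    by_cases htN : t ≤ N
    · rw [Set.mem_iInter₂] at hx
      exact hx t (Finset.mem_filter.mpr ⟨Finset.mem_range.mpr (by omega), htΦ⟩) hbad
    · obtain ⟨x', -, hsp, -, htr⟩ := hbad
      have hx'U : x' ∈ U := hsp.mem_open U.2 hxU
      have := htr.trans (hbound x' hx'U)
      have : t ≤ N := by exact_mod_cast this
      exact htN this
  · exact U.2.inter (isOpen_biInter_finset fun t _ => (hBad t).isOpen_compl)
  · refine ⟨hx₀U, ?_⟩
    rw [Set.mem_iInter₂]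
    intro t ht
    exact (hmem x₀).mp hx₀ t (Finset.mem_filter.mp ht).2

end Scheme

end Groth.Agent.H2.Sk
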