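import Mathlib
import Groth.Prelude.Def_EGA4b
import Groth.Prelude.Def_FlatMod2
import Groth.Agent.Lib.Helper2.SkE
import Groth.Agent.Lib.Helper2.IdlK
import Groth.Agent.Lib.Helper2.IdlL

/-! Helper2: the stalk of the restriction of a quasi-coherent module to a fibre, on an affine chart,
is linked (by semilinear isomorphisms over surjective ring maps) to the algebraic fibre module. -/

set_option autoImplicit false
set_option linter.style.haveILetI false
universe u

open AlgebraicGeometry CategoryTheory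

namespace Groth.Agent.H2.Sk

open Groth.Agent.H2.Idl

/-- base change along a surjection of local rings: depth and dimension -/
theorem sl_of_isBaseChange_surjective {B B' : Type u} [CommRing B] [CommRing B'] [IsLocalRing B]
    [IsLocalRing B'] [Algebra B B'] (hb : Function.Surjective (algebraMap B B'))
    {M N : Type u} [AddCommGroup M] [Module B M] [Module.Finite B M] [AddCommGroup N] [Module B N]
    [Module B' N] [IsScalarTower B B' N] (σ : M →ₗ[B] N) (h : IsBaseChange B' σ) :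
    SL B (M ⧸ (RingHom.ker (algebraMap B B')) • (⊤ : Submodule B M)) B' N := by
  have hsurj := Groth.Agent.H7.FlatFib.surjective_of_isBaseChange hb h
  have hker := Groth.Agent.H7.FlatFib.ker_of_isBaseChange hb h
  let τ : (M ⧸ (RingHom.ker (algebraMap B B')) • (⊤ : Submodule B M)) ≃ₗ[B] N :=
    (Submodule.quotEquivOfEq _ _ hker.symm).trans (σ.quotKerEquivOfSurjective hsurj)
  refine SL.of_semilinear (algebraMap B B') hb τ.toAddEquiv ?_
  intro r m
  change τ (r • m) = algebraMap B B' r • τ m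
  rw [map_smul, algebraMap_smul]

section Scheme
variable {X Y : Scheme.{u}} (f : X ⟶ Y)

open Groth.Agent.LD.QC Groth.Agent.H1.FibreStalk

/-- **the chart description of the fibre module**: depth and dimension of the stalk of `F|_{X_y}` at
`x` over the local ring of the fibre are those of the algebraic fibre module on an affine chart. -/
theorem sl_stalk_fiber (F : X.Modules) [F.IsQuasicoherent] {U : X.Opens} {V : Y.Opens}
    (hU : IsAffineOpen U) (hV : IsAffineOpen V) (e : U ≤ f ⁻¹ᵁ V) (x : X) (hx : x ∈ U)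
    [Module.Finite Γ(X, U) Γ(F, U)] :
    letI := (f.appLE V U e).hom.toAlgebra
    SL ((f.fiber (f x)).presheaf.stalk (f.asFiber x))
      (((Scheme.Modules.pullback (f.fiberι (f x))).obj F).presheaf.stalk (f.asFiber x))
      (Localization.AtPrime (hU.primeIdealOf ⟨x, hx⟩).asIdeal)
      (EGA4.FibLocMod Γ(Y, V) Γ(X, U) (hU.primeIdealOf ⟨x, hx⟩).asIdeal Γ(F, U)) := by
  letI algAB : Algebra Γ(Y, V) Γ(X, U) := (f.appLE V U e).hom.toAlgebra
  -- step 1: base change along `O_{X,x} → O_{X_y,x}`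
  let b : X.presheaf.stalk x →+* (f.fiber (f x)).presheaf.stalk (f.asFiber x) := toFiberStalk f x
  letI algBB' : Algebra (X.presheaf.stalk x) ((f.fiber (f x)).presheaf.stalk (f.asFiber x)) :=
    b.toAlgebra
  letI modBN : Module (X.presheaf.stalk x)
      (((Scheme.Modules.pullback (f.fiberι (f x))).obj F).presheaf.stalk (f.asFiber x)) :=
    Module.compHom _ b
  haveI : IsScalarTower (X.presheaf.stalk x) ((f.fiber (f x)).presheaf.stalk (f.asFiber x))
      (((Scheme.Modules.pullback (f.fiberι (f x))).obj F).presheaf.stalk (f.asFiber x)) :=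
    IsScalarTower.of_algebraMap_smul fun _ _ => rfl
  obtain ⟨σ, hσ⟩ := Groth.Agent.H7.FlatFib.exists_isBaseChange_stalk_congr (f.fiberι (f x)) F
    (f.asFiber x) x (f.fiberι_asFiber x) b rfl
  have hb : Function.Surjective (algebraMap (X.presheaf.stalk x)
      ((f.fiber (f x)).presheaf.stalk (f.asFiber x))) := toFiberStalk_surjective f x
  -- the stalk as a localization
  letI algBO : Algebra Γ(X, U) (X.presheaf.stalk x) :=
    TopCat.Presheaf.algebra_section_stalk X.presheaf ⟨x, hx⟩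
  haveI hlocB : IsLocalization.AtPrime (X.presheaf.stalk x) (hU.primeIdealOf ⟨x, hx⟩).asIdeal :=
    hU.isLocalization_stalk ⟨x, hx⟩
  letI modBF := stalkΓModule F x U hx
  haveI : IsScalarTower Γ(X, U) (X.presheaf.stalk x) (F.presheaf.stalk x) :=
    IsScalarTower.of_algebraMap_smul fun _ _ => rfl
  haveI hlocM := isLocalizedModule_germ F hU x hx
  haveI : Module.Finite (X.presheaf.stalk x) (F.presheaf.stalk x) :=
    Module.Finite.of_isLocalizedModule (hU.primeIdealOf ⟨x, hx⟩).asIdeal.primeCompl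
      (germLinear F x U hx)
  have h1 := sl_of_isBaseChange_surjective hb σ hσ
  -- step 2: the fibre model
  letI algAO : Algebra Γ(Y, V) (X.presheaf.stalk x) :=
    ((algebraMap Γ(X, U) (X.presheaf.stalk x)).comp (algebraMap Γ(Y, V) Γ(X, U))).toAlgebra
  haveI : IsScalarTower Γ(Y, V) Γ(X, U) (X.presheaf.stalk x) :=
    IsScalarTower.of_algebraMap_eq fun _ => rfl
  have h2 := sl_fibModel (A := Γ(Y, V)) (hU.primeIdealOf ⟨x, hx⟩).asIdeal Γ(F, U)
    (X.presheaf.stalk x) (F.presheaf.stalk x)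
    (fun s hs => IsLocalization.map_units (X.presheaf.stalk x)
      (⟨s, hs⟩ : (hU.primeIdealOf ⟨x, hx⟩).asIdeal.primeCompl))
    (fun l => by
      obtain ⟨⟨p, s⟩, hl⟩ := IsLocalization.surj (hU.primeIdealOf ⟨x, hx⟩).asIdeal.primeCompl l
      exact ⟨p, s.1, s.2, hl⟩)
    (germLinear F x U hx)
  -- the two ideals agree
  letI algAOY : Algebra Γ(Y, V) (Y.presheaf.stalk (f x)) :=
    TopCat.Presheaf.algebra_section_stalk Y.presheaf ⟨f x, e hx⟩
  haveI : IsLocalization.AtPrime (Y.presheaf.stalk (f x)) (hV.primeIdealOf ⟨f x, e hx⟩).asIdeal :=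
    hV.isLocalization_stalk ⟨f x, e hx⟩
  have hp : (hU.primeIdealOf ⟨x, hx⟩).asIdeal.comap (algebraMap Γ(Y, V) Γ(X, U)) =
      (hV.primeIdealOf ⟨f x, e hx⟩).asIdeal :=
    Groth.Agent.H2.SyntCM.comap_primeIdealOf f (U := ⟨U, hU⟩) (V := ⟨V, hV⟩) e x hx
  have hm : IsLocalRing.maximalIdeal (Y.presheaf.stalk (f x)) =
      (hV.primeIdealOf ⟨f x, e hx⟩).asIdeal.map (algebraMap Γ(Y, V) (Y.presheaf.stalk (f x))) :=
    (IsLocalization.AtPrime.map_eq_maximalIdeal _ _).symm
  have hsq : (f.stalkMap x).hom.comp (algebraMap Γ(Y, V) (Y.presheaf.stalk (f x))) =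
      algebraMap Γ(Y, V) (X.presheaf.stalk x) := by
    ext a
    simp only [RingHom.algebraMap_toAlgebra, RingHom.coe_comp, Function.comp_apply]
    change (f.stalkMap x).hom ((Y.presheaf.germ V (f x) (e hx)).hom a) = _
    rw [Scheme.Hom.germ_stalkMap_apply]
    simp only [Scheme.Hom.appLE, CommRingCat.hom_comp, RingHom.coe_comp, Function.comp_apply]
    exact (X.presheaf.germ_res_apply _ _ _ _).symm
  have hideal : RingHom.ker (algebraMap (X.presheaf.stalk x)
      ((f.fiber (f x)).presheaf.stalk (f.asFiber x))) =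
      ((hU.primeIdealOf ⟨x, hx⟩).asIdeal.comap (algebraMap Γ(Y, V) Γ(X, U))).map
        (algebraMap Γ(Y, V) (X.presheaf.stalk x)) := by
    have : RingHom.ker (algebraMap (X.presheaf.stalk x)
        ((f.fiber (f x)).presheaf.stalk (f.asFiber x))) =
        (IsLocalRing.maximalIdeal (Y.presheaf.stalk (f x))).map (f.stalkMap x).hom :=
      ker_toFiberStalk f x
    rw [this, hm, Ideal.map_map, hsq, hp]
  rw [hideal] at h1
  exact h1.symm.trans h2

end Scheme


section Scheme2
variable {X Y : Scheme.{u}} (f : X ⟶ Y)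

open Groth.Agent.LD.QC

/-- on an affine chart with a presentation `A[T₁..Tₙ] ↠ Γ(X,U)`, the fibre module of `F` at `x ∈ U`
has the depth and the dimension of the algebraic fibre module over the polynomial ring. -/
theorem sl_stalk_fiber_mvPolynomial (F : X.Modules) [F.IsQuasicoherent] {U : X.Opens} {V : Y.Opens}
    (hU : IsAffineOpen U) (hV : IsAffineOpen V) (e : U ≤ f ⁻¹ᵁ V)
    [Module.Finite Γ(X, U) Γ(F, U)] (n : ℕ)
    (φ : letI := (f.appLE V U e).hom.toAlgebra
      MvPolynomial (Fin n) Γ(Y, V) →ₐ[Γ(Y, V)] Γ(X, U))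
    (hφ : Function.Surjective φ) (x : X) (hx : x ∈ U) :
    letI := (f.appLE V U e).hom.toAlgebra
    letI : Module (MvPolynomial (Fin n) Γ(Y, V)) Γ(F, U) := Module.compHom _ φ.toRingHom
    SL ((f.fiber (f x)).presheaf.stalk (f.asFiber x))
      (((Scheme.Modules.pullback (f.fiberι (f x))).obj F).presheaf.stalk (f.asFiber x))
      (EGA4.FibLocRing Γ(Y, V) (MvPolynomial (Fin n) Γ(Y, V))
        ((hU.primeIdealOf ⟨x, hx⟩).asIdeal.comap φ.toRingHom))
      (EGA4.FibLocMod Γ(Y, V) (MvPolynomial (Fin n) Γ(Y, V))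
        ((hU.primeIdealOf ⟨x, hx⟩).asIdeal.comap φ.toRingHom) Γ(F, U)) := by
  letI algAB : Algebra Γ(Y, V) Γ(X, U) := (f.appLE V U e).hom.toAlgebra
  letI modPM : Module (MvPolynomial (Fin n) Γ(Y, V)) Γ(F, U) := Module.compHom _ φ.toRingHom
  letI algPB : Algebra (MvPolynomial (Fin n) Γ(Y, V)) Γ(X, U) := φ.toRingHom.toAlgebra
  haveI : IsScalarTower Γ(Y, V) (MvPolynomial (Fin n) Γ(Y, V)) Γ(X, U) :=
    IsScalarTower.of_algebraMap_eq (fun a => (φ.commutes a).symm)
  haveI : IsScalarTower (MvPolynomial (Fin n) Γ(Y, V)) Γ(X, U) Γ(F, U) :=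
    IsScalarTower.of_algebraMap_smul fun _ _ => rfl
  have d1 := sl_stalk_fiber f F hU hV e x hx
  have d2 := sl_fibLocMod_of_surjective (A := Γ(Y, V)) (P := MvPolynomial (Fin n) Γ(Y, V))
    (B := Γ(X, U)) hφ (hU.primeIdealOf ⟨x, hx⟩).asIdeal Γ(F, U)
  haveI : Module.Finite (MvPolynomial (Fin n) Γ(Y, V)) Γ(X, U) :=
    Module.Finite.of_surjective (Algebra.linearMap _ _) hφ
  haveI : Module.Finite (MvPolynomial (Fin n) Γ(Y, V)) Γ(F, U) := Module.Finite.trans Γ(X, U) _
  have d3 : SL (Localization.AtPrime ((hU.primeIdealOf ⟨x, hx⟩).asIdeal.comap φ.toRingHom))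
      (EGA4.FibLocMod Γ(Y, V) (MvPolynomial (Fin n) Γ(Y, V))
        ((hU.primeIdealOf ⟨x, hx⟩).asIdeal.comap φ.toRingHom) Γ(F, U))
      (EGA4.FibLocRing Γ(Y, V) (MvPolynomial (Fin n) Γ(Y, V))
        ((hU.primeIdealOf ⟨x, hx⟩).asIdeal.comap φ.toRingHom))
      (EGA4.FibLocMod Γ(Y, V) (MvPolynomial (Fin n) Γ(Y, V))
        ((hU.primeIdealOf ⟨x, hx⟩).asIdeal.comap φ.toRingHom) Γ(F, U)) :=
    SL.of_semilinear (Ideal.Quotient.mk _) Ideal.Quotient.mk_surjective (AddEquiv.refl _)
      (fun _ _ => rfl)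
  exact (d1.trans d2).trans d3


end Scheme2

end Groth.Agent.H2.Sk
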