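import Mathlib
import Groth.Prelude.Def_CAlg
import Groth.Prelude.Def_EGA4b
import Groth.Agent.Lib.Helper3.DepthAux
import Groth.Agent.Lib.Helper6.Sk121b
import Groth.Agent.Lib.Helper6.SerreNormal

/-! Helper2: equidimensional modules with `(S_1)` in terms of the primes of depth zero. -/

set_option autoImplicit false
set_option linter.style.haveILetI false
universe u

namespace Groth.Agent.H2.Sk

section LocalAlg
variable {R : Type u} [CommRing R] [IsNoetherianRing R] (N : Type u) [AddCommGroup N] [Module R N]
  [Module.Finite R N]

/-- the associated primes are the primes at which the localization has depth zero -/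
theorem mem_associatedPrimes_iff_depth_zero (Q : Ideal R) [Q.IsPrime] :
    Q ∈ associatedPrimes R N ↔
      LocCoh.depth (Localization.AtPrime Q) (LocalizedModule Q.primeCompl N) = 0 := by
  haveI : IsNoetherianRing (Localization.AtPrime Q) :=
    IsLocalization.isNoetherianRing Q.primeCompl _ inferInstance
  haveI : Module.Finite (Localization.AtPrime Q) (LocalizedModule Q.primeCompl N) :=
    Module.Finite.of_isLocalizedModule Q.primeCompl (LocalizedModule.mkLinearMap Q.primeCompl N)
  rw [Groth.Agent.H3.DepthAux.depth_eq_zero_iff_mem_associatedPrimes]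
  have key :=
    Module.associatedPrimes.preimage_comap_associatedPrimes_eq_associatedPrimes_of_isLocalizedModule
      Q.primeCompl (Localization.AtPrime Q) (LocalizedModule.mkLinearMap Q.primeCompl N)
  rw [← key, Set.mem_preimage]
  have h1 : Ideal.comap (algebraMap R (Localization.AtPrime Q))
      (IsLocalRing.maximalIdeal (Localization.AtPrime Q)) = Q :=
    IsLocalization.AtPrime.under_maximalIdeal (Localization.AtPrime Q) Q
  rw [h1]

/-- if the quotients by all primes of depth zero have dimension at least that of the module, the
module is equidimensional -/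
theorem isEquidimModule_of_forall_depth_zero
    (h : ∀ (Q : Ideal R) [Q.IsPrime],
      LocCoh.depth (Localization.AtPrime Q) (LocalizedModule Q.primeCompl N) = 0 →
        Module.supportDim R N ≤ ringKrullDim (R ⧸ Q)) : EGA4.IsEquidimModule R N := by
  intro Q hQ
  haveI : Q.IsPrime := hQ.isPrime
  have hass : Q ∈ associatedPrimes R N :=
    Module.associatedPrimes.minimalPrimes_annihilator_subset_associatedPrimes R N hQ
  refine le_antisymm ?_ (h Q ((mem_associatedPrimes_iff_depth_zero N Q).mp hass))
  rw [Module.supportDim_eq_ringKrullDim_quotient_annihilator]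
  exact ringKrullDim_le_of_surjective (Ideal.Quotient.factor hQ.1.2)
    (Ideal.Quotient.factor_surjective hQ.1.2)

/-- for an equidimensional module with `(S_1)`, the quotients by the primes of depth zero have the
dimension of the module -/
theorem ringKrullDim_quotient_of_isEquidimModule (hS : LocCoh.HasSk 1 R N)
    (hE : EGA4.IsEquidimModule R N) (Q : Ideal R) [Q.IsPrime]
    (hd : LocCoh.depth (Localization.AtPrime Q) (LocalizedModule Q.primeCompl N) = 0) :
    ringKrullDim (R ⧸ Q) = Module.supportDim R N := by
  have hass : Q ∈ associatedPrimes R N := (mem_associatedPrimes_iff_depth_zero N Q).mpr hd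
  have hann : Module.annihilator R N ≤ Q := by
    have : IsAssociatedPrime Q N := hass
    exact le_of_eq_of_le Submodule.annihilator_top.symm this.annihilator_le
  obtain ⟨Q₀, hQ₀, hle⟩ := Ideal.exists_minimalPrimes_le hann
  have hass₀ : Q₀ ∈ associatedPrimes R N :=
    Module.associatedPrimes.minimalPrimes_annihilator_subset_associatedPrimes R N hQ₀
  have heq : Q₀ = Q := Groth.Agent.H6.Sk121.eq_of_hasSk_one N hS Q₀ Q hass₀ hass hle
  subst heq
  exact hE Q₀ hQ₀

end LocalAlg

end Groth.Agent.H2.Sk
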