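import Mathlib
import Groth.Prelude.Def_CAlg
import Groth.Prelude.Def_EGA4b
import Groth.Agent.Lib.Helper2.SkN
import Groth.Agent.Lib.Helper2.SkB
import Groth.Agent.Lib.Helper2.IdlF
import Groth.Agent.Lib.Helper2.IdlN
import Groth.Agent.Lib.Helper2.IdlJ
import Groth.Agent.Lib.Helper6.CMChain
import Groth.Agent.Lib.Helper6.FiberDict

/-! Helper2: primes of the fibre local ring and the generizations in the fibre; the dimension
formula in the fibre local rings of affine space. -/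

set_option autoImplicit false
set_option linter.style.haveILetI false
universe u

namespace Groth.Agent.H2.Sk

open Groth.Agent.H2.Idl

section FibUnder
variable {A P : Type u} [CommRing A] [CommRing P] [Algebra A P] (𝔮 : Ideal P) [𝔮.IsPrime]

/-- the prime of `P` under a prime of the fibre local ring -/
noncomputable abbrev fibUnder (Q : Ideal (EGA4.FibLocRing A P 𝔮)) : Ideal P :=
  (Q.comap (Ideal.Quotient.mk
    ((𝔮.comap (algebraMap A P)).map (algebraMap A (Localization.AtPrime 𝔮))))).comap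
    (algebraMap P (Localization.AtPrime 𝔮))

instance fibUnder_isPrime (Q : Ideal (EGA4.FibLocRing A P 𝔮)) [Q.IsPrime] :
    (fibUnder 𝔮 Q).IsPrime := by
  unfold fibUnder
  infer_instance

theorem fibUnder_le (Q : Ideal (EGA4.FibLocRing A P 𝔮)) [hQ : Q.IsPrime] : fibUnder 𝔮 Q ≤ 𝔮 := by
  intro x hx
  by_contra hxq
  have hu : IsUnit (algebraMap P (Localization.AtPrime 𝔮) x) :=
    IsLocalization.map_units (Localization.AtPrime 𝔮) (⟨x, hxq⟩ : 𝔮.primeCompl)
  have hu' := hu.map (Ideal.Quotient.mk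
    ((𝔮.comap (algebraMap A P)).map (algebraMap A (Localization.AtPrime 𝔮))))
  exact hQ.ne_top (Ideal.eq_top_of_isUnit_mem Q hx hu')

theorem fibUnder_comap (Q : Ideal (EGA4.FibLocRing A P 𝔮)) [hQ : Q.IsPrime] :
    (fibUnder 𝔮 Q).comap (algebraMap A P) = 𝔮.comap (algebraMap A P) := by
  apply le_antisymm (Ideal.comap_mono (fibUnder_le 𝔮 Q))
  intro a ha
  change Ideal.Quotient.mk _ (algebraMap P (Localization.AtPrime 𝔮) (algebraMap A P a)) ∈ Q
  have h0 : Ideal.Quotient.mk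
      ((𝔮.comap (algebraMap A P)).map (algebraMap A (Localization.AtPrime 𝔮)))
      (algebraMap P (Localization.AtPrime 𝔮) (algebraMap A P a)) = 0 := by
    rw [Ideal.Quotient.eq_zero_iff_mem, ← IsScalarTower.algebraMap_apply A P]
    exact Ideal.mem_map_of_mem _ ha
  rw [h0]
  exact Q.zero_mem

/-- every generization in the fibre comes from a prime of the fibre local ring -/
theorem exists_fibUnder_eq (𝔮' : Ideal P) [h𝔮' : 𝔮'.IsPrime] (hle : 𝔮' ≤ 𝔮)
    (hcomap : 𝔮'.comap (algebraMap A P) = 𝔮.comap (algebraMap A P)) :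
    ∃ (Q : Ideal (EGA4.FibLocRing A P 𝔮)) (_ : Q.IsPrime), fibUnder 𝔮 Q = 𝔮' := by
  have hd : Disjoint (𝔮.primeCompl : Set P) (𝔮' : Set P) := by
    rw [Set.disjoint_left]
    intro x hx hxq
    exact hx (hle hxq)
  haveI hQ₁ : (𝔮'.map (algebraMap P (Localization.AtPrime 𝔮))).IsPrime :=
    IsLocalization.isPrime_of_isPrime_disjoint 𝔮.primeCompl _ 𝔮' h𝔮' hd
  have hc : (𝔮'.map (algebraMap P (Localization.AtPrime 𝔮))).comap
      (algebraMap P (Localization.AtPrime 𝔮)) = 𝔮' :=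
    IsLocalization.under_map_of_isPrime_disjoint 𝔮.primeCompl _ h𝔮' hd
  set I := (𝔮.comap (algebraMap A P)).map (algebraMap A (Localization.AtPrime 𝔮)) with hI
  have hker : RingHom.ker (Ideal.Quotient.mk I) ≤ 𝔮'.map (algebraMap P (Localization.AtPrime 𝔮)) := by
    rw [Ideal.mk_ker, hI, Ideal.map_le_iff_le_comap]
    intro a ha
    rw [Ideal.mem_comap, IsScalarTower.algebraMap_apply A P (Localization.AtPrime 𝔮)]
    apply Ideal.mem_map_of_mem
    have : a ∈ 𝔮'.comap (algebraMap A P) := by rw [hcomap]; exact ha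
    exact this
  refine ⟨(𝔮'.map (algebraMap P (Localization.AtPrime 𝔮))).map (Ideal.Quotient.mk I),
    Ideal.map_isPrime_of_surjective Ideal.Quotient.mk_surjective hker, ?_⟩
  unfold fibUnder
  rw [Ideal.comap_map_of_surjective' _ Ideal.Quotient.mk_surjective, sup_eq_left.mpr hker, hc]

variable (M : Type u) [AddCommGroup M] [Module P M] [Module.Finite P M]

/-- **localizing the fibre module at a prime of the fibre local ring** gives the fibre module at
the prime under it (depth and dimension) -/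
theorem dd_fibLocRing_localized (Q : Ideal (EGA4.FibLocRing A P 𝔮)) [Q.IsPrime] :
    DD (Localization.AtPrime Q) (LocalizedModule Q.primeCompl (EGA4.FibLocMod A P 𝔮 M))
      (EGA4.FibLocRing A P (fibUnder 𝔮 Q)) (EGA4.FibLocMod A P (fibUnder 𝔮 Q) M) := by
  haveI : Module.Finite (Localization.AtPrime 𝔮) (LocalizedModule 𝔮.primeCompl M) :=
    Module.Finite.of_isLocalizedModule 𝔮.primeCompl (LocalizedModule.mkLinearMap 𝔮.primeCompl M)
  have d1 := dd_localized_of_semilinear (M₁ := EGA4.FibLocMod A P 𝔮 M)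
    (M₂ := EGA4.FibLocMod A P 𝔮 M) (Ideal.Quotient.mk
    ((𝔮.comap (algebraMap A P)).map (algebraMap A (Localization.AtPrime 𝔮))))
    Ideal.Quotient.mk_surjective (AddEquiv.refl _) (fun _ _ => rfl) Q
  have d2 := dd_localized_fibLocMod_generization (A := A) 𝔮 M
    (Q.comap (Ideal.Quotient.mk
      ((𝔮.comap (algebraMap A P)).map (algebraMap A (Localization.AtPrime 𝔮)))))
    (fibUnder_comap 𝔮 Q)
  exact d1.symm.trans d2

/-- the fibre module of the ring itself has full support -/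
theorem support_fibLocMod_self :
    Module.support (EGA4.FibLocRing A P 𝔮) (EGA4.FibLocMod A P 𝔮 P) = Set.univ := by
  have e₁ : EGA4.FibLocMod A P 𝔮 P ≃ₗ[EGA4.FibLocRing A P 𝔮] EGA4.FibLocRing A P 𝔮 :=
    (Groth.Agent.H6.FiberDict.fibLocModSelfEquiv (A := A) 𝔮).extendScalarsOfSurjective
      Ideal.Quotient.mk_surjective
  rw [LinearEquiv.support_eq e₁, Module.support_of_algebra]
  have : RingHom.ker (algebraMap (EGA4.FibLocRing A P 𝔮) (EGA4.FibLocRing A P 𝔮)) = ⊥ := by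
    rw [Algebra.algebraMap_self, RingHom.ker_eq_bot_iff_eq_zero]
    intro x hx
    exact hx
  rw [this]
  exact PrimeSpectrum.zeroLocus_bot

end FibUnder

section Poly
variable (A : Type u) [CommRing A] (n : ℕ)

local notation "Pn" => MvPolynomial (Fin n) A

/-- **the dimension formula in the fibre local rings of affine space** -/
theorem ringKrullDim_fibLocRing_eq_add (𝔮 : Ideal Pn) [𝔮.IsPrime]
    (Q : Ideal (EGA4.FibLocRing A Pn 𝔮)) [hQ : Q.IsPrime] :
    ringKrullDim (EGA4.FibLocRing A Pn 𝔮) =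
      ringKrullDim (EGA4.FibLocRing A Pn 𝔮 ⧸ Q) +
        ringKrullDim (EGA4.FibLocRing A Pn (fibUnder 𝔮 Q)) := by
  obtain ⟨hN, hcm⟩ := fibLocRing_mvPolynomial_cm A n 𝔮
  haveI := hN
  have hM : LocCoh.IsCohenMacaulayModule (EGA4.FibLocRing A Pn 𝔮) (EGA4.FibLocRing A Pn 𝔮) := by
    unfold LocCoh.IsCohenMacaulayModule
    rw [Module.supportDim_self_eq_ringKrullDim]
    exact hcm
  have hsupp : Module.support (EGA4.FibLocRing A Pn 𝔮) (EGA4.FibLocRing A Pn 𝔮) = Set.univ := by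
    rw [Module.support_of_algebra]
    have : RingHom.ker (algebraMap (EGA4.FibLocRing A Pn 𝔮) (EGA4.FibLocRing A Pn 𝔮)) = ⊥ := by
      rw [Algebra.algebraMap_self, RingHom.ker_eq_bot_iff_eq_zero]
      intro x hx
      exact hx
    rw [this]
    exact PrimeSpectrum.zeroLocus_bot
  have h1 := Groth.Agent.H6.CMChain.ringKrullDim_eq_add (M := EGA4.FibLocRing A Pn 𝔮) hM hsupp
    ⟨Q, hQ⟩
  have h2 : ((Q.height : ℕ∞) : WithBot ℕ∞) = ringKrullDim (Localization.AtPrime Q) :=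
    (IsLocalization.AtPrime.ringKrullDim_eq_height Q (Localization.AtPrime Q)).symm
  have h3 : ringKrullDim (Localization.AtPrime Q) =
      Module.supportDim (Localization.AtPrime Q)
        (LocalizedModule Q.primeCompl (EGA4.FibLocMod A Pn 𝔮 Pn)) :=
    (Groth.Agent.H6.CMChain.supportDim_eq_of_support_eq_univ
      (Groth.Agent.H6.CMChain.support_localized_eq_univ (support_fibLocMod_self (A := A) 𝔮) Q)).symm
  have h4 := (dd_fibLocRing_localized (A := A) 𝔮 Pn Q).2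
  have h5 : Module.supportDim (EGA4.FibLocRing A Pn (fibUnder 𝔮 Q))
      (EGA4.FibLocMod A Pn (fibUnder 𝔮 Q) Pn) =
      ringKrullDim (EGA4.FibLocRing A Pn (fibUnder 𝔮 Q)) :=
    Groth.Agent.H6.CMChain.supportDim_eq_of_support_eq_univ
      (support_fibLocMod_self (A := A) (fibUnder 𝔮 Q))
  rw [h1]
  change _ + ((Q.height : ℕ∞) : WithBot ℕ∞) = _
  rw [h2, h3, h4, h5]

variable (M : Type u) [AddCommGroup M] [Module (MvPolynomial (Fin n) A) M]
  [Module.Finite (MvPolynomial (Fin n) A) M]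

/-- **equidimensional and `(S_k)` fibre module, in terms of the generizations in the fibre** -/
theorem equidim_hasSk_fibLocMod_iff (𝔮 : Ideal Pn) [𝔮.IsPrime] (k : ℕ) (hk : 1 ≤ k) :
    (EGA4.IsEquidimModule (EGA4.FibLocRing A Pn 𝔮) (EGA4.FibLocMod A Pn 𝔮 M) ∧
      LocCoh.HasSk k (EGA4.FibLocRing A Pn 𝔮) (EGA4.FibLocMod A Pn 𝔮 M)) ↔
    (LocCoh.HasSk k (EGA4.FibLocRing A Pn 𝔮) (EGA4.FibLocMod A Pn 𝔮 M) ∧
      ∀ (𝔮' : Ideal Pn) [𝔮'.IsPrime], 𝔮' ≤ 𝔮 →
        𝔮'.comap (algebraMap A Pn) = 𝔮.comap (algebraMap A Pn) →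
        LocCoh.depth (EGA4.FibLocRing A Pn 𝔮') (EGA4.FibLocMod A Pn 𝔮' M) = 0 →
        Module.supportDim (EGA4.FibLocRing A Pn 𝔮) (EGA4.FibLocMod A Pn 𝔮 M) +
          ringKrullDim (EGA4.FibLocRing A Pn 𝔮') ≤ ringKrullDim (EGA4.FibLocRing A Pn 𝔮)) := by
  obtain ⟨hN, -⟩ := fibLocRing_mvPolynomial_cm A n 𝔮
  haveI := hN
  haveI : Module.Finite (Localization.AtPrime 𝔮) (LocalizedModule 𝔮.primeCompl M) :=
    Module.Finite.of_isLocalizedModule 𝔮.primeCompl (LocalizedModule.mkLinearMap 𝔮.primeCompl M)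
  haveI : Module.Finite (EGA4.FibLocRing A Pn 𝔮) (EGA4.FibLocMod A Pn 𝔮 M) :=
    Module.Finite.of_restrictScalars_finite (Localization.AtPrime 𝔮) _ _
  constructor
  · rintro ⟨hE, hS⟩
    refine ⟨hS, ?_⟩
    intro 𝔮' h𝔮' hle hcomap hd
    obtain ⟨Q, hQ, rfl⟩ := exists_fibUnder_eq (A := A) 𝔮 𝔮' hle hcomap
    have hdd := dd_fibLocRing_localized (A := A) 𝔮 M Q
    have hd' : LocCoh.depth (Localization.AtPrime Q)
        (LocalizedModule Q.primeCompl (EGA4.FibLocMod A Pn 𝔮 M)) = 0 := by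
      rw [hdd.1]
      exact hd
    have hS1 : LocCoh.HasSk 1 (EGA4.FibLocRing A Pn 𝔮) (EGA4.FibLocMod A Pn 𝔮 M) :=
      Groth.Agent.H6.SerreNormal.hasSk_mono hk hS
    have h1 := ringKrullDim_quotient_of_isEquidimModule (EGA4.FibLocMod A Pn 𝔮 M) hS1 hE Q hd'
    rw [ringKrullDim_fibLocRing_eq_add A n 𝔮 Q, h1]
  · rintro ⟨hS, hall⟩
    refine ⟨?_, hS⟩
    apply isEquidimModule_of_forall_depth_zero
    intro Q hQ hd
    have hdd := dd_fibLocRing_localized (A := A) 𝔮 M Q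
    have hd' : LocCoh.depth (EGA4.FibLocRing A Pn (fibUnder 𝔮 Q))
        (EGA4.FibLocMod A Pn (fibUnder 𝔮 Q) M) = 0 := by
      rw [← hdd.1]
      exact hd
    have h1 := hall (fibUnder 𝔮 Q) (fibUnder_le 𝔮 Q) (fibUnder_comap 𝔮 Q) hd'
    rw [ringKrullDim_fibLocRing_eq_add A n 𝔮 Q] at h1
    obtain ⟨r₀, t, hr, -, -⟩ := exists_dim_fibLocRing_mvPolynomial' A n ⟨fibUnder 𝔮 Q, inferInstance⟩
    have hr' : ringKrullDim (EGA4.FibLocRing A Pn (fibUnder 𝔮 Q)) = (r₀ : WithBot ℕ∞) := hr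
    rw [hr'] at h1
    exact (withBot_add_nat_le_add_nat_iff _ _ r₀).mp h1

end Poly

end Groth.Agent.H2.Sk
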