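import Mathlib
import Groth.Prelude.Def_CAlg
import Groth.Prelude.Def_EGA4b
import Groth.Agent.Lib.Helper2.SkO
import Groth.Agent.Lib.Helper2.SkD
import Groth.Agent.Lib.Helper6.CanEndS1

/-! Helper2: **EGA IV 12.1.1 (v)/(vi)**, core: the locus where the fibre module of a finitely
presented module over a polynomial ring, flat over the base, is equidimensional and `(S_k)`
(`k ≥ 1`) is open. -/

set_option autoImplicit false
set_option linter.style.haveILetI false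
universe u

open AlgebraicGeometry CategoryTheory

namespace Groth.Agent.H2.Sk

open Groth.Agent.H2.Idl

theorem arith_cancel (s : WithBot ℕ∞) (r₀ r₀' t n : ℕ) (h : r₀' + t = n) :
    s + (n : WithBot ℕ∞) ≤ (r₀ : WithBot ℕ∞) + (t : WithBot ℕ∞) ↔
      s + (r₀' : WithBot ℕ∞) ≤ (r₀ : WithBot ℕ∞) := by
  subst h
  rw [Nat.cast_add, ← add_assoc]
  exact withBot_add_nat_le_add_nat_iff _ _ t

theorem arith_depth0 (d : ℕ∞) (r₀' t' t n : ℕ) (h : r₀' + t' = n) (ht : t + 1 ≤ n) (htt : t ≤ t')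
    (hC : ¬ ((r₀' : WithBot ℕ∞) ≤
      ((d : ℕ∞) : WithBot ℕ∞) + ((n - (t + 1) : ℕ) : WithBot ℕ∞))) : d = 0 ∧ t' = t := by
  induction d using ENat.recTopCoe with
  | top =>
    exfalso
    apply hC
    have hc : ((n - (t + 1) : ℕ) : WithBot ℕ∞) = (((n - (t + 1) : ℕ) : ℕ∞) : WithBot ℕ∞) := rfl
    rw [hc, ← WithBot.coe_add, top_add]
    exact le_top
  | coe d₀ =>
    rw [wb_le_add] at hC
    refine ⟨?_, by omega⟩
    have : d₀ = 0 := by omega
    subst this
    rfl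

theorem arith_depth0' (r₀' t' n : ℕ) (h : r₀' + t' = n) (ht : t' + 1 ≤ n) :
    ¬ ((r₀' : WithBot ℕ∞) ≤
      (((0 : ℕ∞)) : WithBot ℕ∞) + ((n - (t' + 1) : ℕ) : WithBot ℕ∞)) := by
  have h0 : ((0 : ℕ∞)) = ((0 : ℕ) : ℕ∞) := rfl
  rw [h0, wb_le_add]
  omega

section Core
variable (A : Type u) [CommRing A] (n : ℕ) (M : Type u) [AddCommGroup M]
  [Module (MvPolynomial (Fin n) A) M] [Module.FinitePresentation (MvPolynomial (Fin n) A) M]
  [Module A M] [IsScalarTower A (MvPolynomial (Fin n) A) M] [Module.Flat A M]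

local notation "Pn" => MvPolynomial (Fin n) A

omit [Module.FinitePresentation (MvPolynomial (Fin n) A) M] [Module A M]
  [IsScalarTower A (MvPolynomial (Fin n) A) M] [Module.Flat A M] in
theorem depth_fibLocMod_ne_zero_of_notMem_support (𝔮 : PrimeSpectrum Pn)
    (h : 𝔮 ∉ Module.support Pn M) :
    LocCoh.depth (EGA4.FibLocRing A Pn 𝔮.asIdeal) (EGA4.FibLocMod A Pn 𝔮.asIdeal M) ≠ 0 := by
  haveI hsub : Subsingleton (LocalizedModule 𝔮.asIdeal.primeCompl M) :=
    Module.notMem_support_iff.mp h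
  haveI : Subsingleton (EGA4.FibLocMod A Pn 𝔮.asIdeal M) :=
    (Submodule.mkQ_surjective _).subsingleton
  unfold LocCoh.depth LocCoh.idealDepth
  rw [if_pos (Subsingleton.elim _ _)]
  exact ENat.top_ne_zero

omit [Module.FinitePresentation (MvPolynomial (Fin n) A) M] [Module A M]
  [IsScalarTower A (MvPolynomial (Fin n) A) M] [Module.Flat A M] in
theorem depth_fibLocMod_eq_zero_of_dim_zero [Module.Finite Pn M] (𝔮 : PrimeSpectrum Pn)
    (h : 𝔮 ∈ Module.support Pn M)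
    (hdim : ringKrullDim (EGA4.FibLocRing A Pn 𝔮.asIdeal) = ((0 : ℕ) : WithBot ℕ∞)) :
    LocCoh.depth (EGA4.FibLocRing A Pn 𝔮.asIdeal) (EGA4.FibLocMod A Pn 𝔮.asIdeal M) = 0 := by
  obtain ⟨hN, -⟩ := fibLocRing_mvPolynomial_cm A n 𝔮.asIdeal
  haveI := hN
  haveI := nontrivial_fibLocMod_of_mem_support A n M 𝔮 h
  haveI : Module.Finite (Localization.AtPrime 𝔮.asIdeal)
      (LocalizedModule 𝔮.asIdeal.primeCompl M) :=
    Module.Finite.of_isLocalizedModule 𝔮.asIdeal.primeCompl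
      (LocalizedModule.mkLinearMap 𝔮.asIdeal.primeCompl M)
  haveI : Module.Finite (EGA4.FibLocRing A Pn 𝔮.asIdeal) (EGA4.FibLocMod A Pn 𝔮.asIdeal M) :=
    Module.Finite.of_restrictScalars_finite (Localization.AtPrime 𝔮.asIdeal) _ _
  have h1 : Module.supportDim (EGA4.FibLocRing A Pn 𝔮.asIdeal)
      (EGA4.FibLocMod A Pn 𝔮.asIdeal M) = ((0 : ℕ) : WithBot ℕ∞) := by
    apply le_antisymm
    · rw [← hdim]
      exact Module.supportDim_le_ringKrullDim _ _
    · rw [Nat.cast_zero]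
      by_contra hlt
      push Not at hlt
      have : Module.supportDim (EGA4.FibLocRing A Pn 𝔮.asIdeal)
          (EGA4.FibLocMod A Pn 𝔮.asIdeal M) = ⊥ := by
        rw [← WithBot.lt_coe_bot]
        exact hlt
      rw [Module.supportDim_eq_bot_iff_subsingleton] at this
      exact not_subsingleton _ this
  have h2 := Groth.Agent.H6.CanEndS.depth_le_of_supportDim_eq
    (EGA4.FibLocMod A Pn 𝔮.asIdeal M) 0 h1
  exact le_antisymm (by exact_mod_cast h2) zero_le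

/-- the "equidimensionality" part of the locus is open -/
theorem isOpen_equidim_aux :
    IsOpen {𝔮 : PrimeSpectrum Pn | ∀ (𝔮' : Ideal Pn) [𝔮'.IsPrime], 𝔮' ≤ 𝔮.asIdeal →
        𝔮'.comap (algebraMap A Pn) = 𝔮.asIdeal.comap (algebraMap A Pn) →
        LocCoh.depth (EGA4.FibLocRing A Pn 𝔮') (EGA4.FibLocMod A Pn 𝔮' M) = 0 →
        Module.supportDim (EGA4.FibLocRing A Pn 𝔮.asIdeal) (EGA4.FibLocMod A Pn 𝔮.asIdeal M) +
          ringKrullDim (EGA4.FibLocRing A Pn 𝔮') ≤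
            ringKrullDim (EGA4.FibLocRing A Pn 𝔮.asIdeal)} := by
  classical
  set hP := Spec.map (CommRingCat.ofHom (algebraMap A Pn)) with hhP
  haveI : LocallyOfFiniteType hP := by
    rw [hhP, HasRingHomProperty.Spec_iff (P := @LocallyOfFiniteType)]
    exact RingHom.finiteType_algebraMap.mpr inferInstance
  haveI : Module.Finite Pn M := inferInstance
  let Dset : ℕ → Set (PrimeSpectrum Pn) := fun t =>
    {𝔮 : PrimeSpectrum Pn |
      Module.supportDim (EGA4.FibLocRing A Pn 𝔮.asIdeal) (EGA4.FibLocMod A Pn 𝔮.asIdeal M) +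
        (n : WithBot ℕ∞) ≤
      ringKrullDim (EGA4.FibLocRing A Pn 𝔮.asIdeal) + (t : WithBot ℕ∞)}ᶜ
  have hD : ∀ t, IsClosed (Dset t) := fun t => (isOpen_supportDim_add_le A n M t).isClosed_compl
  let Cset : ℕ → Set (PrimeSpectrum Pn) := fun t =>
    if t + 1 ≤ n then
      {𝔮 : PrimeSpectrum Pn | ringKrullDim (EGA4.FibLocRing A Pn 𝔮.asIdeal) ≤
        ((LocCoh.depth (EGA4.FibLocRing A Pn 𝔮.asIdeal)
          (EGA4.FibLocMod A Pn 𝔮.asIdeal M) : ℕ∞) : WithBot ℕ∞) +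
          ((n - (t + 1) : ℕ) : WithBot ℕ∞)}ᶜ
    else Module.support Pn M
  have hC : ∀ t, IsClosed (Cset t) := by
    intro t
    by_cases h : t + 1 ≤ n
    · simp only [Cset, if_pos h]
      exact (isOpen_dim_le_depth_add A n M (n - (t + 1))).isClosed_compl
    · simp only [Cset, if_neg h]
      rw [Module.support_eq_zeroLocus]
      exact PrimeSpectrum.isClosed_zeroLocus _
  let J : ℕ → Ideal Pn := fun t => PrimeSpectrum.vanishingIdeal (Cset t)
  let ι : ∀ t, Spec (CommRingCat.of (Pn ⧸ J t)) ⟶ Spec (CommRingCat.of Pn) := fun t =>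
    Spec.map (CommRingCat.ofHom (Ideal.Quotient.mk (J t)))
  haveI : ∀ t, IsClosedImmersion (ι t) := fun t =>
    IsClosedImmersion.spec_of_surjective _ Ideal.Quotient.mk_surjective
  have hrange : ∀ t, Set.range (ι t) = Cset t := by
    intro t
    have h1 := range_comap_of_surjective _ (Ideal.Quotient.mk (J t)) Ideal.Quotient.mk_surjective
    rw [Ideal.mk_ker] at h1
    have h2 : PrimeSpectrum.zeroLocus ((J t : Ideal Pn) : Set Pn) = Cset t := by
      rw [PrimeSpectrum.zeroLocus_vanishingIdeal_eq_closure, (hC t).closure_eq]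
    rw [← h2]
    exact h1
  let B : ℕ → Set (Spec (CommRingCat.of Pn)) := fun t =>
    {x | ∃ x' ∈ Set.range (ι t), x' ⤳ x ∧ hP x' = hP x ∧
      ((t : ℕ) : Cardinal.{u}) ≤ Dual3.resTrdeg hP x'}
  have hB : ∀ t, IsClosed (B t) := fun t => isClosed_exists_generization (ι t) hP t
  let B' : ℕ → Set (PrimeSpectrum Pn) := fun t => B t
  have hB' : ∀ t, IsClosed (B' t) := fun t => hB t
  have hset : {𝔮 : PrimeSpectrum Pn | ∀ (𝔮' : Ideal Pn) [𝔮'.IsPrime], 𝔮' ≤ 𝔮.asIdeal →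
        𝔮'.comap (algebraMap A Pn) = 𝔮.asIdeal.comap (algebraMap A Pn) →
        LocCoh.depth (EGA4.FibLocRing A Pn 𝔮') (EGA4.FibLocMod A Pn 𝔮' M) = 0 →
        Module.supportDim (EGA4.FibLocRing A Pn 𝔮.asIdeal) (EGA4.FibLocMod A Pn 𝔮.asIdeal M) +
          ringKrullDim (EGA4.FibLocRing A Pn 𝔮') ≤
            ringKrullDim (EGA4.FibLocRing A Pn 𝔮.asIdeal)} =
      (⋃ t ∈ Finset.range (n + 1), Dset t ∩ B' t)ᶜ := ?_
  · rw [hset]
    exact (isClosed_biUnion_finset (fun t _ => (hD t).inter (hB' t))).isOpen_compl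
  ext 𝔮
  have hmem_iff : (𝔮 ∈ (⋃ t ∈ Finset.range (n + 1), Dset t ∩ B' t)) ↔
      ∃ t, t < n + 1 ∧ 𝔮 ∈ Dset t ∧ 𝔮 ∈ B' t := by
    rw [Set.mem_iUnion₂]
    simp only [Finset.mem_range, exists_prop, Set.mem_inter_iff]
  rw [Set.mem_compl_iff, hmem_iff]
  obtain ⟨r₀, t₀, hdim, hsum, ht₀⟩ := exists_dim_fibLocRing_mvPolynomial' A n 𝔮
  constructor
  · rintro H ⟨t, htn, hDt, x', hx'C, hsp, hfib, htr⟩
    rw [hrange t] at hx'C
    obtain ⟨r₀', t', hdim', hsum', ht'⟩ := exists_dim_fibLocRing_mvPolynomial' A n x'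
    have hle : x'.asIdeal ≤ 𝔮.asIdeal := (PrimeSpectrum.le_iff_specializes x' 𝔮).mpr hsp
    have hcomap : x'.asIdeal.comap (algebraMap A Pn) = 𝔮.asIdeal.comap (algebraMap A Pn) :=
      congrArg PrimeSpectrum.asIdeal hfib
    have htt : t ≤ t' := by
      have : ((t : ℕ) : Cardinal.{u}) ≤ (t' : Cardinal.{u}) := by rw [← ht']; exact htr
      exact_mod_cast this
    have hkey : LocCoh.depth (EGA4.FibLocRing A Pn x'.asIdeal)
        (EGA4.FibLocMod A Pn x'.asIdeal M) = 0 ∧ t' = t := by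
      by_cases h : t + 1 ≤ n
      · simp only [Cset, if_pos h] at hx'C
        have hCx : ¬ (ringKrullDim (EGA4.FibLocRing A Pn x'.asIdeal) ≤
            ((LocCoh.depth (EGA4.FibLocRing A Pn x'.asIdeal)
              (EGA4.FibLocMod A Pn x'.asIdeal M) : ℕ∞) : WithBot ℕ∞) +
              ((n - (t + 1) : ℕ) : WithBot ℕ∞)) := hx'C
        rw [hdim'] at hCx
        exact arith_depth0 _ r₀' t' t n hsum' h htt hCx
      · simp only [Cset, if_neg h] at hx'C
        have htn' : t' = t := by omega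
        refine ⟨?_, htn'⟩
        apply depth_fibLocMod_eq_zero_of_dim_zero A n M x' hx'C
        rw [hdim']
        have : r₀' = 0 := by omega
        rw [this]
    obtain ⟨hd0, rfl⟩ := hkey
    have h1 := H x'.asIdeal hle hcomap hd0
    have hDt' : ¬ (Module.supportDim (EGA4.FibLocRing A Pn 𝔮.asIdeal)
        (EGA4.FibLocMod A Pn 𝔮.asIdeal M) + (n : WithBot ℕ∞) ≤
        ringKrullDim (EGA4.FibLocRing A Pn 𝔮.asIdeal) + (t' : WithBot ℕ∞)) := hDt
    have hdimx : ringKrullDim (EGA4.FibLocRing A Pn x'.asIdeal) = (r₀' : WithBot ℕ∞) := hdim'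
    rw [hdim, arith_cancel _ r₀ r₀' t' n hsum'] at hDt'
    rw [hdim, hdimx] at h1
    exact hDt' h1
  · intro hnot 𝔮' h𝔮' hle hcomap hd0
    by_contra hfail
    obtain ⟨r₀', t', hdim', hsum', ht'⟩ := exists_dim_fibLocRing_mvPolynomial' A n ⟨𝔮', h𝔮'⟩
    have hdimx : ringKrullDim (EGA4.FibLocRing A Pn 𝔮') = (r₀' : WithBot ℕ∞) := hdim'
    apply hnot
    refine ⟨t', by omega, ?_, ⟨𝔮', h𝔮'⟩, ?_, ?_, ?_, ?_⟩
    · change ¬ (Module.supportDim (EGA4.FibLocRing A Pn 𝔮.asIdeal)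
        (EGA4.FibLocMod A Pn 𝔮.asIdeal M) + (n : WithBot ℕ∞) ≤
        ringKrullDim (EGA4.FibLocRing A Pn 𝔮.asIdeal) + (t' : WithBot ℕ∞))
      rw [hdim, arith_cancel _ r₀ r₀' t' n hsum']
      rw [hdim, hdimx] at hfail
      exact hfail
    · rw [hrange t']
      by_cases h : t' + 1 ≤ n
      · simp only [Cset, if_pos h]
        change ¬ (ringKrullDim (EGA4.FibLocRing A Pn 𝔮') ≤
            ((LocCoh.depth (EGA4.FibLocRing A Pn 𝔮')
              (EGA4.FibLocMod A Pn 𝔮' M) : ℕ∞) : WithBot ℕ∞) +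
              ((n - (t' + 1) : ℕ) : WithBot ℕ∞))
        rw [hdimx, hd0]
        exact arith_depth0' r₀' t' n hsum' h
      · simp only [Cset, if_neg h]
        by_contra hns
        exact depth_fibLocMod_ne_zero_of_notMem_support A n M ⟨𝔮', h𝔮'⟩ hns hd0
    · exact (PrimeSpectrum.le_iff_specializes (⟨𝔮', h𝔮'⟩ : PrimeSpectrum Pn) 𝔮).mp hle
    · exact PrimeSpectrum.ext hcomap
    · have ht'' : Dual3.resTrdeg hP (⟨𝔮', h𝔮'⟩ : PrimeSpectrum Pn) = (t' : Cardinal.{u}) := ht'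
      rw [ht'']

/-- **the locus where the fibre module is equidimensional and `(S_k)` is open** (`k ≥ 1`) -/
theorem isOpen_equidim_hasSk_fibLocMod (k : ℕ) (hk : 1 ≤ k) :
    IsOpen {𝔮 : PrimeSpectrum Pn |
      EGA4.IsEquidimModule (EGA4.FibLocRing A Pn 𝔮.asIdeal) (EGA4.FibLocMod A Pn 𝔮.asIdeal M) ∧
      LocCoh.HasSk k (EGA4.FibLocRing A Pn 𝔮.asIdeal) (EGA4.FibLocMod A Pn 𝔮.asIdeal M)} := by
  haveI : Module.Finite Pn M := inferInstance
  have h1 := isOpen_hasSk_fibLocMod A n M k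
  have h2 := isOpen_equidim_aux A n M
  convert h1.inter h2 using 1
  ext 𝔮
  exact equidim_hasSk_fibLocMod_iff A n M 𝔮.asIdeal k hk

end Core

end Groth.Agent.H2.Sk
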