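import Mathlib
import Groth.Prelude.Def_CAlg
import Groth.Prelude.Def_FlatMod2
import Groth.Prelude.Def_CohB1
import Groth.Prelude.Def_EGA4b
import Groth.Agent.Lib.Helper2.SkJ
import Groth.Agent.Lib.Helper2.SkP
import Groth.Agent.Lib.Lead.QC.Flat
import Groth.Agent.Lib.Lead.QC.FinPres
import Groth.Agent.Lib.Lead.QC.Pullback

/-! Helper2: **EGA IV 12.1.1 (v)/(vi)**: the locus where the fibre module is equidimensional and
`(S_k)` (`k ≥ 1`) is open. -/

set_option autoImplicit false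
set_option linter.style.haveILetI false
universe u

open AlgebraicGeometry CategoryTheory

namespace Groth.Agent.H2.Sk

open Groth.Agent.H2.Idl Groth.Agent.LD.QC

section Inv

theorem ringKrullDim_quotient_comap_of_surjective {R₁ R₂ : Type u} [CommRing R₁] [CommRing R₂]
    (σ : R₁ →+* R₂) (hσ : Function.Surjective σ) (p : Ideal R₂) :
    ringKrullDim (R₁ ⧸ p.comap σ) = ringKrullDim (R₂ ⧸ p) := by
  let g : R₁ →+* R₂ ⧸ p := (Ideal.Quotient.mk p).comp σ
  have hg : Function.Surjective g := Ideal.Quotient.mk_surjective.comp hσ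
  have hk : RingHom.ker g = p.comap σ := by
    ext x
    rw [RingHom.mem_ker, Ideal.mem_comap]
    exact Ideal.Quotient.eq_zero_iff_mem
  exact ringKrullDim_eq_of_ringEquiv
    ((Ideal.quotEquivOfEq hk.symm).trans (RingHom.quotientKerEquivOfSurjective hg))

theorem slInv_isEquidimModule :
    SLInv (fun R _ _ M _ _ => EGA4.IsEquidimModule R M) := by
  intro R₁ R₂ _ _ _ _ M₁ M₂ _ _ _ _ _ σ hσ τ hτ
  beta_reduce
  have hann : Module.annihilator R₁ M₁ = (Module.annihilator R₂ M₂).comap σ := by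
    ext r
    rw [Ideal.mem_comap, Module.mem_annihilator, Module.mem_annihilator]
    constructor
    · intro h m₂
      obtain ⟨m₁, rfl⟩ := τ.surjective m₂
      rw [← hτ, h m₁, map_zero]
    · intro h m₁
      apply τ.injective
      rw [hτ, h, map_zero]
  have hsd : Module.supportDim R₁ M₁ = Module.supportDim R₂ M₂ := (DD.of_semilinear σ hσ τ hτ).2
  have hmin : (Module.annihilator R₁ M₁).minimalPrimes =
      Ideal.comap σ '' (Module.annihilator R₂ M₂).minimalPrimes := by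
    rw [hann]
    exact Ideal.comap_minimalPrimes_eq_of_surjective hσ _
  unfold EGA4.IsEquidimModule
  constructor
  · intro h p₂ hp₂
    have h1 := h (p₂.comap σ) (by rw [hmin]; exact ⟨p₂, hp₂, rfl⟩)
    rw [← hsd, ← h1]
    exact (ringKrullDim_quotient_comap_of_surjective σ hσ p₂).symm
  · intro h p₁ hp₁
    rw [hmin] at hp₁
    obtain ⟨p₂, hp₂, rfl⟩ := hp₁
    rw [hsd, ← h p₂ hp₂]
    exact ringKrullDim_quotient_comap_of_surjective σ hσ p₂

theorem SL.isEquidimModule_iff {R₁ R₂ : Type u} [CommRing R₁] [CommRing R₂] [IsLocalRing R₁]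
    [IsLocalRing R₂] {M₁ M₂ : Type u} [AddCommGroup M₁] [AddCommGroup M₂] [Module R₁ M₁]
    [Module R₂ M₂] (h : SL R₁ M₁ R₂ M₂) :
    EGA4.IsEquidimModule R₁ M₁ ↔ EGA4.IsEquidimModule R₂ M₂ :=
  h _ slInv_isEquidimModule

end Inv

section Scheme
variable {X Y : Scheme.{u}} (f : X ⟶ Y)

theorem isOpen_fibre_equidim_hasSk_module [LocallyOfFinitePresentation f] (F : X.Modules)
    (hF : CohB1.IsFP F) (hflat : FlatMod.IsFlatOver f F) (k : ℕ) (hk : 1 ≤ k) :
    IsOpen {x : X | EGA4.IsEquidimModule ((f.fiber (f.base x)).presheaf.stalk (f.asFiber x))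
        (((Scheme.Modules.pullback (f.fiberι (f.base x))).obj F).presheaf.stalk (f.asFiber x)) ∧
      LocCoh.HasSk k ((f.fiber (f.base x)).presheaf.stalk (f.asFiber x))
        (((Scheme.Modules.pullback (f.fiberι (f.base x))).obj F).presheaf.stalk (f.asFiber x))} := by
  haveI := hF
  haveI hqc : F.IsQuasicoherent := inferInstance
  rw [isOpen_iff_forall_mem_open]
  intro x₀ hx₀
  obtain ⟨U, V, hU, hV, hx₀U, e⟩ := exists_affine_nhds_le_preimage f x₀
  letI algAB : Algebra Γ(Y, V) Γ(X, U) := (f.appLE V U e).hom.toAlgebra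
  haveI hfpAB : Algebra.FinitePresentation Γ(Y, V) Γ(X, U) := by
    have := HasRingHomProperty.appLE (P := @LocallyOfFinitePresentation) f inferInstance
      ⟨V, hV⟩ ⟨U, hU⟩ e
    exact RingHom.finitePresentation_algebraMap.mp this
  haveI hfpM : Module.FinitePresentation Γ(X, U) Γ(F, U) :=
    finitePresentation_sections_of_isFinitePresentation F hF hU
  letI modAM : Module Γ(Y, V) Γ(F, U) := sectionsModuleOver f F e
  haveI towerABM : IsScalarTower Γ(Y, V) Γ(X, U) Γ(F, U) := ⟨fun a b m => by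
    change (f.appLE V U e a * b) • m = f.appLE V U e a • (b • m)
    rw [mul_smul]⟩
  haveI hflatM : Module.Flat Γ(Y, V) Γ(F, U) :=
    flat_sections_of_isFlatOverAt f F hU hV e (fun x _ => hflat x)
  obtain ⟨n, φ, hφ⟩ := Algebra.FiniteType.iff_quotient_mvPolynomial''.mp
    (inferInstance : Algebra.FiniteType Γ(Y, V) Γ(X, U))
  letI algPB : Algebra (MvPolynomial (Fin n) Γ(Y, V)) Γ(X, U) := φ.toRingHom.toAlgebra
  haveI : IsScalarTower Γ(Y, V) (MvPolynomial (Fin n) Γ(Y, V)) Γ(X, U) :=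
    IsScalarTower.of_algebraMap_eq (fun a => (φ.commutes a).symm)
  letI modPM : Module (MvPolynomial (Fin n) Γ(Y, V)) Γ(F, U) := Module.compHom _ φ.toRingHom
  haveI : IsScalarTower (MvPolynomial (Fin n) Γ(Y, V)) Γ(X, U) Γ(F, U) :=
    IsScalarTower.of_algebraMap_smul fun _ _ => rfl
  haveI : IsScalarTower Γ(Y, V) (MvPolynomial (Fin n) Γ(Y, V)) Γ(F, U) := ⟨fun a p m => by
    change φ (a • p) • m = a • (φ p • m)
    rw [map_smul, smul_assoc]⟩
  haveI : Module.Finite (MvPolynomial (Fin n) Γ(Y, V)) Γ(X, U) :=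
    Module.Finite.of_surjective (Algebra.linearMap _ _) hφ
  haveI : Algebra.FinitePresentation (MvPolynomial (Fin n) Γ(Y, V)) Γ(X, U) :=
    Algebra.FinitePresentation.of_restrict_scalars_finitePresentation Γ(Y, V) _ _
  haveI : Module.FinitePresentation (MvPolynomial (Fin n) Γ(Y, V)) Γ(X, U) :=
    Module.FinitePresentation.of_finite_of_finitePresentation _ _
  haveI : Module.FinitePresentation (MvPolynomial (Fin n) Γ(Y, V)) Γ(F, U) :=
    Module.FinitePresentation.trans _ Γ(F, U) Γ(X, U)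
  have hW := isOpen_equidim_hasSk_fibLocMod Γ(Y, V) n Γ(F, U) k hk
  let ψ : U → PrimeSpectrum (MvPolynomial (Fin n) Γ(Y, V)) :=
    fun x => PrimeSpectrum.comap φ.toRingHom (hU.primeIdealOf x)
  have hψ : Continuous ψ :=
    (PrimeSpectrum.continuous_comap φ.toRingHom).comp hU.isoSpec.hom.continuous
  have key : ∀ (x : X) (hx : x ∈ U),
      (EGA4.IsEquidimModule ((f.fiber (f.base x)).presheaf.stalk (f.asFiber x))
        (((Scheme.Modules.pullback (f.fiberι (f.base x))).obj F).presheaf.stalk (f.asFiber x)) ∧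
      LocCoh.HasSk k ((f.fiber (f.base x)).presheaf.stalk (f.asFiber x))
        (((Scheme.Modules.pullback (f.fiberι (f.base x))).obj F).presheaf.stalk (f.asFiber x))) ↔
      ψ ⟨x, hx⟩ ∈ {𝔮 : PrimeSpectrum (MvPolynomial (Fin n) Γ(Y, V)) |
        EGA4.IsEquidimModule (EGA4.FibLocRing Γ(Y, V) (MvPolynomial (Fin n) Γ(Y, V)) 𝔮.asIdeal)
          (EGA4.FibLocMod Γ(Y, V) (MvPolynomial (Fin n) Γ(Y, V)) 𝔮.asIdeal Γ(F, U)) ∧
        LocCoh.HasSk k (EGA4.FibLocRing Γ(Y, V) (MvPolynomial (Fin n) Γ(Y, V)) 𝔮.asIdeal)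
          (EGA4.FibLocMod Γ(Y, V) (MvPolynomial (Fin n) Γ(Y, V)) 𝔮.asIdeal Γ(F, U))} := by
    intro x hx
    have hsl := sl_stalk_fiber_mvPolynomial f F hU hV e n φ hφ x hx
    exact and_congr hsl.isEquidimModule_iff (hsl.hasSk_iff k)
  refine ⟨Subtype.val '' (ψ ⁻¹' _), ?_, U.isOpen.isOpenMap_subtype_val _ (hW.preimage hψ),
    ⟨⟨x₀, hx₀U⟩, (key x₀ hx₀U).mp hx₀, rfl⟩⟩
  rintro _ ⟨⟨x, hx⟩, hxW, rfl⟩
  exact (key x hx).mpr hxW

end Scheme

end Groth.Agent.H2.Sk
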