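import Mathlib
import Groth.Prelude.Def_CAlg
import Groth.Prelude.Def_EGA4b
import Groth.Agent.Lib.Helper2.SkG
import Groth.Agent.Lib.Helper2.SkQ
import Groth.Agent.Lib.Helper2.FamCyc5
import Groth.Agent.Lib.Helper6.SkKit
import Groth.Agent.Lib.Helper6.SkQuot
import Groth.Agent.Lib.Helper6.DepthInf

/-! # The locus where the fibre is equidimensional without embedded components is open -/

set_option autoImplicit false
set_option linter.style.haveILetI false
universe u

open AlgebraicGeometry CategoryTheory

namespace Groth.Agent.H2.Rk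

open Groth.Agent.H2.Idl Groth.Agent.LD.QC Groth.Agent.H2.Sk Groth.Agent.H6

section Ring
variable (B : Type u) [CommRing B]

theorem isEquidimModule_self_iff : EGA4.IsEquidimModule B B ↔ EGA4.IsEquidim B := by
  have hann : Module.annihilator B B = ⊥ :=
    Module.annihilator_eq_bot.mpr
      ((faithfulSMul_iff_algebraMap_injective B B).mpr fun {a₁ a₂} a ↦ a)
  unfold EGA4.IsEquidimModule EGA4.IsEquidim
  rw [hann, Module.supportDim_self_eq_ringKrullDim]

theorem hasSk_one_self_iff [IsNoetherianRing B] :
    LocCoh.HasSk 1 B B ↔ ∀ p ∈ associatedPrimes B B, p ∈ minimalPrimes B := by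
  constructor
  · intro h p hp
    exact Groth.Agent.H2.FamCyc.mem_minimalPrimes_of_hasSk_one h p hp
  · intro h
    rw [Sk.hasSk_iff 1 B]
    intro p _ j hj hdim
    rw [Sk.supportDim_localizedModule_self] at hdim
    interval_cases j
    · exact (Depth.locDepthGE_iff B p 0).mpr (by simp)
    · apply Depth.locDepthGE_one_of_not_mem_associatedPrimes B p
      intro hp
      have hmin := h p hp
      have h0 : p.height = 0 := Ideal.height_eq_zero_iff.mpr hmin
      rw [h0] at hdim
      have : ((1 : ℕ) : WithBot ℕ∞) ≤ ((0 : ℕ) : WithBot ℕ∞) := hdim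
      have h' : (1 : ℕ) ≤ 0 := by exact_mod_cast this
      omega

end Ring

end Groth.Agent.H2.Rk
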