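import Mathlib
import Groth.Prelude.Def_CAlg
import Groth.Prelude.Def_EGA4b
import Groth.Agent.Lib.Helper2.RkE

/-! # The locus where the fibre is equidimensional without embedded components is open (schemes) -/

set_option autoImplicit false
set_option linter.style.haveILetI false
universe u

open AlgebraicGeometry CategoryTheory

namespace Groth.Agent.H2.Rk

open Groth.Agent.H2.Idl Groth.Agent.LD.QC Groth.Agent.H2.Sk Groth.Agent.H6

variable {X Y : Scheme.{u}} (f : X ⟶ Y)

/-- module form for the structure sheaf: equidimensional and `(S_1)`. -/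
theorem isOpen_fibre_equidim_hasSk_self [Flat f] [LocallyOfFinitePresentation f] (k : ℕ)
    (hk : 1 ≤ k) :
    IsOpen {x : X | EGA4.IsEquidimModule ((f.fiber (f.base x)).presheaf.stalk (f.asFiber x))
        ((f.fiber (f.base x)).presheaf.stalk (f.asFiber x)) ∧
      LocCoh.HasSk k ((f.fiber (f.base x)).presheaf.stalk (f.asFiber x))
        ((f.fiber (f.base x)).presheaf.stalk (f.asFiber x))} := by
  rw [isOpen_iff_forall_mem_open]
  intro x₀ hx₀
  obtain ⟨U, V, hU, hV, hx₀U, e⟩ := exists_affine_nhds_le_preimage f x₀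
  letI algAB : Algebra Γ(Y, V) Γ(X, U) := (f.appLE V U e).hom.toAlgebra
  haveI hfpAB : Algebra.FinitePresentation Γ(Y, V) Γ(X, U) := by
    have := HasRingHomProperty.appLE (P := @LocallyOfFinitePresentation) f inferInstance
      ⟨V, hV⟩ ⟨U, hU⟩ e
    exact RingHom.finitePresentation_algebraMap.mp this
  haveI hflatAB : Module.Flat Γ(Y, V) Γ(X, U) := by
    have h1 := HasRingHomProperty.appLE (P := @Flat) f inferInstance ⟨V, hV⟩ ⟨U, hU⟩ e
    exact RingHom.flat_algebraMap_iff.mp h1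
  obtain ⟨n, φ, hφ⟩ := Algebra.FiniteType.iff_quotient_mvPolynomial''.mp
    (inferInstance : Algebra.FiniteType Γ(Y, V) Γ(X, U))
  letI algPB : Algebra (MvPolynomial (Fin n) Γ(Y, V)) Γ(X, U) := φ.toRingHom.toAlgebra
  haveI : IsScalarTower Γ(Y, V) (MvPolynomial (Fin n) Γ(Y, V)) Γ(X, U) :=
    IsScalarTower.of_algebraMap_eq (fun a => (φ.commutes a).symm)
  haveI : Module.Finite (MvPolynomial (Fin n) Γ(Y, V)) Γ(X, U) :=
    Module.Finite.of_surjective (Algebra.linearMap _ _) hφ
  haveI : Algebra.FinitePresentation (MvPolynomial (Fin n) Γ(Y, V)) Γ(X, U) :=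
    Algebra.FinitePresentation.of_restrict_scalars_finitePresentation Γ(Y, V) _ _
  haveI : Module.FinitePresentation (MvPolynomial (Fin n) Γ(Y, V)) Γ(X, U) :=
    Module.FinitePresentation.of_finite_of_finitePresentation _ _
  have hW := isOpen_equidim_hasSk_fibLocMod Γ(Y, V) n Γ(X, U) k hk
  let ψ : U → PrimeSpectrum (MvPolynomial (Fin n) Γ(Y, V)) :=
    fun x => PrimeSpectrum.comap φ.toRingHom (hU.primeIdealOf x)
  have hψ : Continuous ψ :=
    (PrimeSpectrum.continuous_comap φ.toRingHom).comp hU.isoSpec.hom.continuous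
  have key : ∀ (x : X) (hx : x ∈ U),
      (EGA4.IsEquidimModule ((f.fiber (f.base x)).presheaf.stalk (f.asFiber x))
        ((f.fiber (f.base x)).presheaf.stalk (f.asFiber x)) ∧
      LocCoh.HasSk k ((f.fiber (f.base x)).presheaf.stalk (f.asFiber x))
        ((f.fiber (f.base x)).presheaf.stalk (f.asFiber x))) ↔
      ψ ⟨x, hx⟩ ∈ {𝔮 : PrimeSpectrum (MvPolynomial (Fin n) Γ(Y, V)) |
        EGA4.IsEquidimModule (EGA4.FibLocRing Γ(Y, V) (MvPolynomial (Fin n) Γ(Y, V)) 𝔮.asIdeal)
          (EGA4.FibLocMod Γ(Y, V) (MvPolynomial (Fin n) Γ(Y, V)) 𝔮.asIdeal Γ(X, U)) ∧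
        LocCoh.HasSk k (EGA4.FibLocRing Γ(Y, V) (MvPolynomial (Fin n) Γ(Y, V)) 𝔮.asIdeal)
          (EGA4.FibLocMod Γ(Y, V) (MvPolynomial (Fin n) Γ(Y, V)) 𝔮.asIdeal Γ(X, U))} := by
    intro x hx
    have hsl := sl_stalk_fiber_self_mvPolynomial f hU hV e n φ hφ x hx
    exact and_congr hsl.isEquidimModule_iff (hsl.hasSk_iff k)
  refine ⟨Subtype.val '' (ψ ⁻¹' _), ?_, U.isOpen.isOpenMap_subtype_val _ (hW.preimage hψ),
    ⟨⟨x₀, hx₀U⟩, (key x₀ hx₀U).mp hx₀, rfl⟩⟩
  rintro _ ⟨⟨x, hx⟩, hxW, rfl⟩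
  exact (key x hx).mpr hxW

/-- **the locus where the fibre is equidimensional at `x` and has no embedded component through
`x` is open** (`f` flat, locally of finite presentation). -/
theorem isOpen_fibre_equidim_noEmb [Flat f] [LocallyOfFinitePresentation f] :
    IsOpen {x : X | EGA4.IsEquidim ((f.fiber (f.base x)).presheaf.stalk (f.asFiber x)) ∧
      ∀ p ∈ associatedPrimes ((f.fiber (f.base x)).presheaf.stalk (f.asFiber x))
        ((f.fiber (f.base x)).presheaf.stalk (f.asFiber x)),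
        p ∈ minimalPrimes ((f.fiber (f.base x)).presheaf.stalk (f.asFiber x))} := by
  have h := isOpen_fibre_equidim_hasSk_self f 1 le_rfl
  convert h using 1
  ext x
  haveI : IsLocallyNoetherian (f.fiber (f.base x)) := by
    delta Scheme.Hom.fiber; infer_instance
  exact and_congr (isEquidimModule_self_iff _).symm (hasSk_one_self_iff _).symm

end Groth.Agent.H2.Rk
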