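import Mathlib
import Groth.Prelude.Def_CAlg
import Groth.Prelude.Def_EGA4b
import Groth.Prelude.Def_Dual3
import Groth.Agent.Lib.Helper2.IdlO
import Groth.Agent.Lib.Helper2.SkF

/-! # The rectified depth of the fibres of a flat morphism is lower semicontinuous (ring form) -/

set_option autoImplicit false
set_option linter.style.haveILetI false
universe u

open AlgebraicGeometry CategoryTheory

namespace Groth.Agent.H2.Rk

open Groth.Agent.H2.Idl Groth.Agent.LD.QC Groth.Agent.H2.Sk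

variable {X Y : Scheme.{u}} (f : X ⟶ Y)

/-- **EGA IV 12.1.1** for the structure sheaf: for `f` flat and locally of finite presentation,
the rectified depth of the fibre is lower semicontinuous. -/
theorem isOpen_rectified_depth_self [Flat f] [LocallyOfFinitePresentation f] (n : ℕ) :
    IsOpen {x : X | (n : WithBot ℕ∞) ≤
      ((LocCoh.depth ((f.fiber (f.base x)).presheaf.stalk (f.asFiber x))
        ((f.fiber (f.base x)).presheaf.stalk (f.asFiber x)) : ℕ∞) : WithBot ℕ∞) +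
        topologicalKrullDim ↥(closure ({f.asFiber x} : Set ↥(f.fiber (f.base x))))} := by
  rw [isOpen_iff_forall_mem_open]
  intro x₀ hx₀
  obtain ⟨U, V, hU, hV, hx₀U, e⟩ := exists_affine_nhds_le_preimage f x₀
  letI algAB : Algebra Γ(Y, V) Γ(X, U) := (f.appLE V U e).hom.toAlgebra
  haveI hfpAB : Algebra.FinitePresentation Γ(Y, V) Γ(X, U) := by
    have := HasRingHomProperty.appLE (P := @LocallyOfFinitePresentation) f inferInstance
      ⟨V, hV⟩ ⟨U, hU⟩ e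
    exact RingHom.finitePresentation_algebraMap.mp this
  haveI hflatAB : Module.Flat Γ(Y, V) Γ(X, U) := by
    have h1 := HasRingHomProperty.appLE (P := @Flat) f inferInstance ⟨V, hV⟩ ⟨U, hU⟩ e
    exact RingHom.flat_algebraMap_iff.mp h1
  obtain ⟨n₀, φ₀, hφ₀⟩ := Algebra.FiniteType.iff_quotient_mvPolynomial''.mp
    (inferInstance : Algebra.FiniteType Γ(Y, V) Γ(X, U))
  obtain ⟨φ, hφ⟩ := exists_surjective_mvPolynomial_add φ₀ hφ₀ n
  letI algPB : Algebra (MvPolynomial (Fin (n₀ + n)) Γ(Y, V)) Γ(X, U) := φ.toRingHom.toAlgebra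
  haveI : IsScalarTower Γ(Y, V) (MvPolynomial (Fin (n₀ + n)) Γ(Y, V)) Γ(X, U) :=
    IsScalarTower.of_algebraMap_eq (fun a => (φ.commutes a).symm)
  haveI : Module.Finite (MvPolynomial (Fin (n₀ + n)) Γ(Y, V)) Γ(X, U) :=
    Module.Finite.of_surjective (Algebra.linearMap _ _) hφ
  haveI : Algebra.FinitePresentation (MvPolynomial (Fin (n₀ + n)) Γ(Y, V)) Γ(X, U) :=
    Algebra.FinitePresentation.of_restrict_scalars_finitePresentation Γ(Y, V) _ _
  haveI : Module.FinitePresentation (MvPolynomial (Fin (n₀ + n)) Γ(Y, V)) Γ(X, U) :=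
    Module.FinitePresentation.of_finite_of_finitePresentation _ _
  have hW := isOpen_dim_le_depth_add Γ(Y, V) (n₀ + n) Γ(X, U) n₀
  let ψ : U → PrimeSpectrum (MvPolynomial (Fin (n₀ + n)) Γ(Y, V)) :=
    fun x => PrimeSpectrum.comap φ.toRingHom (hU.primeIdealOf x)
  have hψ : Continuous ψ :=
    (PrimeSpectrum.continuous_comap φ.toRingHom).comp hU.isoSpec.hom.continuous
  have key : ∀ (x : X) (hx : x ∈ U),
      ((n : WithBot ℕ∞) ≤
      ((LocCoh.depth ((f.fiber (f.base x)).presheaf.stalk (f.asFiber x))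
        ((f.fiber (f.base x)).presheaf.stalk (f.asFiber x)) : ℕ∞) : WithBot ℕ∞) +
        topologicalKrullDim ↥(closure ({f.asFiber x} : Set ↥(f.fiber (f.base x))))) ↔
      ψ ⟨x, hx⟩ ∈ {𝔮 : PrimeSpectrum (MvPolynomial (Fin (n₀ + n)) Γ(Y, V)) |
        ringKrullDim (EGA4.FibLocRing Γ(Y, V) (MvPolynomial (Fin (n₀ + n)) Γ(Y, V)) 𝔮.asIdeal) ≤
        ((LocCoh.depth (EGA4.FibLocRing Γ(Y, V) (MvPolynomial (Fin (n₀ + n)) Γ(Y, V)) 𝔮.asIdeal)
          (EGA4.FibLocMod Γ(Y, V) (MvPolynomial (Fin (n₀ + n)) Γ(Y, V)) 𝔮.asIdeal Γ(X, U)) : ℕ∞) :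
            WithBot ℕ∞) + (n₀ : WithBot ℕ∞)} := by
    intro x hx
    obtain ⟨hd, -⟩ := (sl_stalk_fiber_self_mvPolynomial f hU hV e (n₀ + n) φ hφ x hx).dd
    obtain ⟨t, ht, hdim⟩ := exists_resTrdeg_eq_dim_closure f x
    obtain ⟨r₀, t', hr, hsum, ht'⟩ :=
      exists_dim_fibLocRing_mvPolynomial' Γ(Y, V) (n₀ + n) (ψ ⟨x, hx⟩)
    have hch := resTrdeg_chart f hU hV e (n₀ + n) φ hφ x hx
    have htt : t = t' := by
      have h3 : ((t : ℕ) : Cardinal.{u}) = (t' : Cardinal.{u}) := by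
        rw [← ht, ← ht']
        exact hch
      exact_mod_cast h3
    subst htt
    change _ ↔ (ringKrullDim (EGA4.FibLocRing Γ(Y, V) (MvPolynomial (Fin (n₀ + n)) Γ(Y, V))
          ((hU.primeIdealOf ⟨x, hx⟩).asIdeal.comap φ.toRingHom)) ≤
        ((LocCoh.depth (EGA4.FibLocRing Γ(Y, V) (MvPolynomial (Fin (n₀ + n)) Γ(Y, V))
          ((hU.primeIdealOf ⟨x, hx⟩).asIdeal.comap φ.toRingHom))
          (EGA4.FibLocMod Γ(Y, V) (MvPolynomial (Fin (n₀ + n)) Γ(Y, V))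
            ((hU.primeIdealOf ⟨x, hx⟩).asIdeal.comap φ.toRingHom) Γ(X, U)) : ℕ∞) :
            WithBot ℕ∞) + (n₀ : WithBot ℕ∞))
    have hr' : ringKrullDim (EGA4.FibLocRing Γ(Y, V) (MvPolynomial (Fin (n₀ + n)) Γ(Y, V))
          ((hU.primeIdealOf ⟨x, hx⟩).asIdeal.comap φ.toRingHom)) = (r₀ : WithBot ℕ∞) := hr
    rw [hr', ← hd]
    have hdim' : topologicalKrullDim ↥(closure ({f.asFiber x} : Set ↥(f.fiber (f.base x)))) =
        (t : WithBot ℕ∞) := hdim
    rw [hdim']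
    exact arith_rect _ r₀ t n n₀ hsum
  refine ⟨Subtype.val '' (ψ ⁻¹' _), ?_, U.isOpen.isOpenMap_subtype_val _ (hW.preimage hψ),
    ⟨⟨x₀, hx₀U⟩, (key x₀ hx₀U).mp hx₀, rfl⟩⟩
  rintro _ ⟨⟨x, hx⟩, hxW, rfl⟩
  exact (key x hx).mpr hxW

end Groth.Agent.H2.Rk
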