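import Mathlib
import Groth.Prelude.Def_EGA4b
import Groth.Prelude.Def_Flat
import Groth.Agent.Lib.Helper1.DimFormula3
import Groth.Agent.Lib.Helper1.EquidimLoc
import Groth.Agent.Lib.Helper2.DimFG
import Groth.Agent.Lib.Helper2.SkQ

/-! # Equidimensional local rings of schemes locally of finite type over a field

If `O_{Z,w}` is equidimensional, every generization `η` of `w` with zero-dimensional local ring has
the same local dimension as `w`. -/

set_option autoImplicit false
set_option linter.style.haveILetI false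
universe u

open AlgebraicGeometry CategoryTheory

namespace Groth.Agent.H2.Rk

variable {k : Type u} [Field k] {Z : Scheme.{u}} (gk : Z ⟶ Spec (CommRingCat.of k))

theorem localDim_eq_of_isEquidim [LocallyOfFiniteType gk] (w η : Z) (h : η ⤳ w)
    (h0 : ringKrullDim (Z.presheaf.stalk η) = 0) (heq : EGA4.IsEquidim (Z.presheaf.stalk w)) :
    FlatMor.localDim Z η = FlatMor.localDim Z w := by
  obtain ⟨U, hU, hwU⟩ : ∃ U : Z.Opens, IsAffineOpen U ∧ w ∈ U := by
    obtain ⟨_, ⟨U, hU, rfl⟩, hz, -⟩ :=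
      Z.isBasis_affineOpens.exists_subset_of_mem_open (Set.mem_univ w) isOpen_univ
    exact ⟨U, hU, hz⟩
  have hηU : η ∈ U := h.mem_open U.isOpen hwU
  rw [Groth.Agent.H1.DimFormula.localDim_eq_stalk_add_quotient gk hU η hηU,
    Groth.Agent.H1.DimFormula.localDim_eq_stalk_add_quotient gk hU w hwU, h0, zero_add]
  set ψ : CommRingCat.of k ⟶ Γ(Z, U) := Spec.preimage (hU.fromSpec ≫ gk) with hψ
  have hψ' : Spec.map ψ = hU.fromSpec ≫ gk := Spec.map_preimage _
  letI algB : Algebra k Γ(Z, U) := ψ.hom.toAlgebra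
  haveI hft : Algebra.FiniteType k Γ(Z, U) := by
    have h1 : LocallyOfFiniteType (Spec.map ψ) := by
      rw [hψ']; infer_instance
    exact (HasRingHomProperty.Spec_iff (P := @LocallyOfFiniteType)).mp h1
  set q := hU.primeIdealOf ⟨w, hwU⟩ with hq
  set q₀ := hU.primeIdealOf ⟨η, hηU⟩ with hq₀
  have hle : q₀.asIdeal ≤ q.asIdeal := by
    have h1 : q₀ ≤ q := by
      rw [PrimeSpectrum.le_iff_specializes]
      have h2 : @Specializes (↥(Spec Γ(Z, U))) _ q₀ q := by
        rw [← hU.fromSpec.isOpenEmbedding.isInducing.specializes_iff,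
          hU.fromSpec_primeIdealOf ⟨w, hwU⟩, hU.fromSpec_primeIdealOf ⟨η, hηU⟩]
        exact h
      exact h2
    exact h1
  have h3w : ringKrullDim (Z.presheaf.stalk w) = q.asIdeal.height := by
    letI := Z.presheaf.algebra_section_stalk ⟨w, hwU⟩
    haveI := hU.isLocalization_stalk ⟨w, hwU⟩
    exact IsLocalization.AtPrime.ringKrullDim_eq_height q.asIdeal (Z.presheaf.stalk w)
  have h3η : ringKrullDim (Z.presheaf.stalk η) = q₀.asIdeal.height := by
    letI := Z.presheaf.algebra_section_stalk ⟨η, hηU⟩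
    haveI := hU.isLocalization_stalk ⟨η, hηU⟩
    exact IsLocalization.AtPrime.ringKrullDim_eq_height q₀.asIdeal (Z.presheaf.stalk η)
  have hq₀min : q₀.asIdeal ∈ minimalPrimes Γ(Z, U) := by
    apply Ideal.height_eq_zero_iff.mp
    rw [h0] at h3η
    have : ((q₀.asIdeal.height : ℕ∞) : WithBot ℕ∞) = ((0 : ℕ∞) : WithBot ℕ∞) := h3η.symm
    exact_mod_cast this
  have heq' : EGA4.IsEquidim (Localization.AtPrime q.asIdeal) := by
    letI := Z.presheaf.algebra_section_stalk ⟨w, hwU⟩
    haveI := hU.isLocalization_stalk ⟨w, hwU⟩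
    exact Groth.Agent.H1.EquidimLoc.isEquidim_of_ringEquiv
      (IsLocalization.algEquiv q.asIdeal.primeCompl (Z.presheaf.stalk w)
        (Localization.AtPrime q.asIdeal)).toRingEquiv heq
  have hht := Groth.Agent.H1.EquidimLoc.height_map_mk_eq_of_isEquidim q.asIdeal heq' q₀.asIdeal
    hq₀min hle
  haveI : q₀.asIdeal.IsPrime := q₀.isPrime
  haveI hP : (q.asIdeal.map (Ideal.Quotient.mk q₀.asIdeal)).IsPrime := by
    apply Ideal.map_isPrime_of_surjective Ideal.Quotient.mk_surjective
    rw [Ideal.mk_ker]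
    exact hle
  have hD := Groth.Agent.H2.DimFG.height_add_ringKrullDim_quotient k (Γ(Z, U) ⧸ q₀.asIdeal)
    (q.asIdeal.map (Ideal.Quotient.mk q₀.asIdeal))
  have hcomap : (q.asIdeal.map (Ideal.Quotient.mk q₀.asIdeal)).comap (Ideal.Quotient.mk q₀.asIdeal) =
      q.asIdeal := by
    rw [Ideal.comap_map_of_surjective _ Ideal.Quotient.mk_surjective, ← RingHom.ker_eq_comap_bot,
      Ideal.mk_ker]
    exact sup_eq_left.mpr hle
  have hquot : ringKrullDim ((Γ(Z, U) ⧸ q₀.asIdeal) ⧸
      (q.asIdeal.map (Ideal.Quotient.mk q₀.asIdeal))) = ringKrullDim (Γ(Z, U) ⧸ q.asIdeal) := by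
    rw [← Groth.Agent.H2.Sk.ringKrullDim_quotient_comap_of_surjective
      (Ideal.Quotient.mk q₀.asIdeal) Ideal.Quotient.mk_surjective, hcomap]
  rw [hquot, hht] at hD
  rw [h3w]
  exact hD.symm

end Groth.Agent.H2.Rk
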