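import Mathlib
import Groth.Prelude.Def_CAlg
import Groth.Prelude.Def_EGA4b
import Groth.Prelude.Def_Dual3
import Groth.Prelude.Def_Flat
import Groth.Agent.Lib.Helper2.RkF
import Groth.Agent.Lib.Helper2.RkG
import Groth.Agent.Lib.Helper2.RkH
import Groth.Agent.Lib.Helper2.SkM
import Groth.Agent.Lib.Helper2.SkC
import Groth.Agent.Lib.Helper1.DiagReg
import Groth.Agent.Lib.Helper1.FibGen
import Groth.Agent.Lib.Helper1.HypSecB
import Groth.Agent.Lib.Helper1.CMFib
import Groth.Agent.Lib.Helper3.DepthAux
import Groth.Agent.Lib.Helper5.FSm.FlatReg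

/-! # Dimensions of the local rings of the fibres; lower semicontinuity of the local fibre
dimension at equidimensional points without embedded components -/

set_option autoImplicit false
set_option linter.style.haveILetI false
universe u

open AlgebraicGeometry CategoryTheory

namespace Groth.Agent.H2.Rk

open Groth.Agent.H2.Idl Groth.Agent.LD.QC Groth.Agent.H2.Sk Groth.Agent.H1.StalkGen

variable {X Y : Scheme.{u}} (f : X ⟶ Y)

/-- the dimension formula at a point of a fibre. -/
theorem exists_dims [LocallyOfFiniteType f] (z : X) :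
    ∃ c t : ℕ, ringKrullDim ((f.fiber (f z)).presheaf.stalk (f.asFiber z)) = (c : WithBot ℕ∞) ∧
      Dual3.resTrdeg f z = (t : Cardinal.{u}) ∧
      topologicalKrullDim ↥(closure ({f.asFiber z} : Set ↥(f.fiber (f z)))) = (t : WithBot ℕ∞) ∧
      FlatMor.fibreDimAt f z = ((c + t : ℕ) : WithBot ℕ∞) := by
  haveI : IsLocallyNoetherian (f.fiber (f z)) := by
    delta Scheme.Hom.fiber; infer_instance
  obtain ⟨c, hc⟩ := Groth.Agent.H5.FSm.exists_nat_ringKrullDim
    ((f.fiber (f z)).presheaf.stalk (f.asFiber z))
  obtain ⟨t, ht, hcl⟩ := exists_resTrdeg_eq_dim_closure f z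
  refine ⟨c, t, hc, ht, hcl, ?_⟩
  have h := @Groth.Agent.H1.DiagReg.stalk_add_dim_closure (Y.residueField (f z)) _ _
    (f.fiberToSpecResidueField (f z))
    (Groth.Agent.H1.Chev.locallyOfFiniteType_fiberToSpecResidueField f (f z)) (f.asFiber z)
  rw [hc, hcl] at h
  change FlatMor.localDim _ _ = _
  rw [← h]
  push_cast
  rfl

/-- the dimension of the local ring of the fibre does not increase under generization. -/
theorem dim_stalk_fiber_mono {z₁ z : X} (h : z₁ ⤳ z) (hf : f z₁ = f z) :
    ringKrullDim ((f.fiber (f z₁)).presheaf.stalk (f.asFiber z₁)) ≤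
      ringKrullDim ((f.fiber (f z)).presheaf.stalk (f.asFiber z)) := by
  have key := (forall_fiber_generization_iff f
    (fun y w => ringKrullDim ((f.fiber y).presheaf.stalk w) ≤
      ringKrullDim ((f.fiber (f z)).presheaf.stalk (f.asFiber z))) z).mp
  refine key ?_ z₁ h hf
  intro w hw
  have hw' : w ⤳ f.asFiber z := specializes_iff_mem_closure.mpr hw
  rw [ringKrullDim_stalk_eq_height hw']
  exact Ideal.height_le_ringKrullDim_of_isPrime

end Groth.Agent.H2.Rk
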