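import Mathlib
import Groth.Agent.Lib.Helper1.CodepthBC
import Groth.Agent.Lib.Helper1.CodepthSch

/-! # A generic machine for properties of the local rings of the fibres (part A)

For a property `P` of commutative rings which is invariant under ring isomorphisms and under the
passage from a Noetherian local `k`-algebra `A` essentially of finite type to a localization of
`A ⊗[k] k'` at a prime over the maximal ideal (the fibres being Cohen–Macaulay), the set of points
`x` at which the local ring of the fibre through `x` satisfies `P` is compatible with base change,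
and with open immersions into the source. -/

set_option autoImplicit false
set_option linter.style.haveILetI false
universe u
open CategoryTheory CategoryTheory.Limits AlgebraicGeometry IsLocalRing TensorProduct

namespace Groth.Agent.H2.FibCons

/-- the hypotheses on a property of rings -/
structure RingFibProp (P : ∀ (R : Type u) [CommRing R], Prop) : Prop where
  iso : ∀ {R R' : Type u} [CommRing R] [CommRing R'] (_ : R ≃+* R'), P R → P R'
  bc : ∀ (k A k' : Type u) [Field k] [CommRing A] [IsLocalRing A]
    [IsNoetherianRing A] [Algebra k A] [Field k'] [Algebra k k'] [IsNoetherianRing (A ⊗[k] k')]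
    (_ : ∀ (p : Ideal A) [p.IsPrime], LocCoh.IsCohenMacaulayRing (p.Fiber (A ⊗[k] k')))
    (q : Ideal (A ⊗[k] k')) [q.IsPrime]
    (_ : q.comap (algebraMap A (A ⊗[k] k')) = maximalIdeal A),
    P A ↔ P (Localization.AtPrime q)

variable {P : ∀ (R : Type u) [CommRing R], Prop}

theorem RingFibProp.iso_iff (hP : RingFibProp P) {R R' : Type u} [CommRing R] [CommRing R']
    (e : R ≃+* R') : P R ↔ P R' :=
  ⟨hP.iso e, hP.iso e.symm⟩

/-- the set of points at which the local ring of the fibre satisfies `P` -/
def fibSet (P : ∀ (R : Type u) [CommRing R], Prop) {X S : Scheme.{u}} (f : X ⟶ S) : Set X :=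
  {x : X | P ((f.fiber (f x)).presheaf.stalk (f.asFiber x))}

theorem p_stalk_congr (P : ∀ (R : Type u) [CommRing R], Prop) {T : Scheme.{u}} {a b : T}
    (e : a = b) : P (T.presheaf.stalk a) ↔ P (T.presheaf.stalk b) := by
  subst e; rfl

attribute [local instance] Curv2.resAlgebra Curv2.stalkAlgebra

open Groth.Agent.H1.BCStalk in
/-- invariance under extension of the base field. -/
theorem p_stalk_bc (hP : RingFibProp P) (k : Type u) [Field k] (X : Scheme.{u})
    [X.Over (Spec (CommRingCat.of k))]
    [LocallyOfFiniteType (X ↘ (Spec (CommRingCat.of k)))]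
    (k' : Type u) [Field k'] [Algebra k k'] (x' : ↥(Curv2.bc k X k')) :
    P ↥(X.presheaf.stalk (Curv2.bcFst k X k' x')) ↔
      P ↥((Curv2.bc k X k').presheaf.stalk x') := by
  haveI : IsLocallyNoetherian X :=
    LocallyOfFiniteType.isLocallyNoetherian (X ↘ (Spec (CommRingCat.of k)))
  haveI hess : Algebra.EssFiniteType k (X.presheaf.stalk (Curv2.bcFst k X k' x')) :=
    Groth.Agent.H1.SmoothReg.essFiniteType_stalkMapK k (X ↘ (Spec (CommRingCat.of k))) _
  haveI : IsNoetherianRing (X.presheaf.stalk (Curv2.bcFst k X k' x') ⊗[k] k') := by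
    haveI : Algebra.EssFiniteType k' (k' ⊗[k] X.presheaf.stalk (Curv2.bcFst k X k' x')) :=
      inferInstance
    haveI : IsNoetherianRing (k' ⊗[k] X.presheaf.stalk (Curv2.bcFst k X k' x')) :=
      Algebra.EssFiniteType.isNoetherianRing k' _
    exact isNoetherianRing_of_ringEquiv _ (Algebra.TensorProduct.comm k k' _).toRingEquiv
  have hfib : ∀ (p : Ideal (X.presheaf.stalk (Curv2.bcFst k X k' x'))) [p.IsPrime],
      LocCoh.IsCohenMacaulayRing
        (p.Fiber (X.presheaf.stalk (Curv2.bcFst k X k' x') ⊗[k] k')) := by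
    intro p _
    refine Groth.Agent.H2.FFib.cm_fibre_baseChange k _ k' (fun p' _ => ?_) p
    haveI : Algebra.EssFiniteType k p'.ResidueField := by
      haveI : Algebra.EssFiniteType k (Localization.AtPrime p') := inferInstance
      exact Algebra.EssFiniteType.of_surjective
        (IsScalarTower.toAlgHom k (Localization.AtPrime p') p'.ResidueField)
        Ideal.Quotient.mk_surjective
    exact Groth.Agent.H2.TenCM.cm_tensor_of_essFiniteType k p'.ResidueField k'
  obtain ⟨q, hq, ⟨e⟩⟩ := exists_prime_of_point k X k' (Curv2.bcFst k X k' x') x' rfl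
  exact (hP.bc k _ k' hfib q.asIdeal hq).trans (hP.iso_iff e.symm)

/-- transport of the fibre stalk along an equality of base points. -/
theorem p_stalk_fiber_congr (P : ∀ (R : Type u) [CommRing R], Prop) {X Y : Scheme.{u}} (f : X ⟶ Y)
    (x : X) (y : Y) (hy : f x = y) (a : f.fiber y) (ha : f.fiberι y a = x) :
    P ((f.fiber y).presheaf.stalk a) ↔
      P ((f.fiber (f x)).presheaf.stalk (f.asFiber x)) := by
  subst hy
  have : a = f.asFiber x :=
    (f.fiberι (f x)).isEmbedding.injective (ha.trans (f.fiberι_asFiber x).symm)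
  rw [this]

set_option backward.isDefEq.respectTransparency false in
theorem p_fiber_stalk_iff_aux (hP : RingFibProp P) {X Y X' Y' : Scheme.{u}} (f : X ⟶ Y)
    (f' : X' ⟶ Y')
    (g' : X' ⟶ X) (g : Y' ⟶ Y) [LocallyOfFiniteType f] (hc : IsPullback g' f' f g) (y' : Y')
    (a' : f'.fiber y') :
    P ((f.fiber (g y')).presheaf.stalk
      ((pullback.map f' (Y'.fromSpecResidueField y') f (Y.fromSpecResidueField (g y'))
        g' (Spec.map (g.residueFieldMap y')) g hc.w.symm (by simp)) a')) ↔
      P ((f'.fiber y').presheaf.stalk a') := by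
  haveI : LocallyOfFiniteType f' := MorphismProperty.of_isPullback hc inferInstance
  have hφ := isPullback_fiberToSpecResidueField_of_isPullback hc y'
  set φ : f'.fiber y' ⟶ f.fiber (g y') :=
    pullback.map f' (Y'.fromSpecResidueField y') f (Y.fromSpecResidueField (g y'))
        g' (Spec.map (g.residueFieldMap y')) g hc.w.symm (by simp) with hφdef
  letI alg : Algebra ↑(Y.residueField (g y')) ↑(Y'.residueField y') :=
    (g.residueFieldMap y').hom.toAlgebra
  letI ov : (f.fiber (g y')).Over (Spec (CommRingCat.of ↑(Y.residueField (g y')))) :=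
    ⟨f.fiberToSpecResidueField (g y')⟩
  haveI : LocallyOfFiniteType
      ((f.fiber (g y')) ↘ (Spec (CommRingCat.of ↑(Y.residueField (g y'))))) := by
    show LocallyOfFiniteType (pullback.snd f (Y.fromSpecResidueField (g y')))
    infer_instance
  let e := hφ.isoPullback
  have he : e.hom ≫ pullback.fst _ _ = φ := hφ.isoPullback_hom_fst
  have key := p_stalk_bc hP ↑(Y.residueField (g y')) (f.fiber (g y'))
    ↑(Y'.residueField y') (e.hom a')
  have hpt : (Curv2.bcFst ↑(Y.residueField (g y')) (f.fiber (g y')) ↑(Y'.residueField y'))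
      (e.hom a') = φ a' := by
    rw [← he]; rfl
  rw [hpt] at key
  refine key.trans ?_
  exact (hP.iso_iff
    (asIso (e.hom.stalkMap a')).commRingCatIsoToRingEquiv.symm).symm

variable {X Y X' Y' : Scheme.{u}} {f : X ⟶ Y} {f' : X' ⟶ Y'} {g' : X' ⟶ X} {g : Y' ⟶ Y}

set_option backward.isDefEq.respectTransparency false in
theorem p_asFiber_iff (hP : RingFibProp P) [LocallyOfFiniteType f] (hc : IsPullback g' f' f g)
    (x' : X') :
    P ((f.fiber (f (g' x'))).presheaf.stalk (f.asFiber (g' x'))) ↔
      P ((f'.fiber (f' x')).presheaf.stalk (f'.asFiber x')) := by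
  have haux := p_fiber_stalk_iff_aux hP f f' g' g hc (f' x') (f'.asFiber x')
  set φ : f'.fiber (f' x') ⟶ f.fiber (g (f' x')) :=
    pullback.map f' (Y'.fromSpecResidueField (f' x')) f (Y.fromSpecResidueField (g (f' x')))
        g' (Spec.map (g.residueFieldMap (f' x'))) g hc.w.symm (by simp) with hφdef
  have hφι : φ ≫ f.fiberι (g (f' x')) = f'.fiberι (f' x') ≫ g' := by
    simp only [hφdef, Scheme.Hom.fiberι]
    exact pullback.lift_fst _ _ _
  have hι : f.fiberι (g (f' x')) (φ (f'.asFiber x')) = g' x' := by
    rw [← Scheme.Hom.comp_apply, hφι, Scheme.Hom.comp_apply, f'.fiberι_asFiber]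
  have hy : f (g' x') = g (f' x') := by
    rw [← Scheme.Hom.comp_apply, hc.w, Scheme.Hom.comp_apply]
  exact (p_stalk_fiber_congr P f (g' x') (g (f' x')) hy (φ (f'.asFiber x')) hι).symm.trans haux

/-- base change. -/
theorem fibSet_of_isPullback (hP : RingFibProp P) {X S X' S' : Scheme.{u}} (f : X ⟶ S)
    [LocallyOfFiniteType f]
    (f' : X' ⟶ S') (g' : X' ⟶ X) (g : S' ⟶ S) (hc : IsPullback g' f' f g) :
    fibSet P f' = g' ⁻¹' fibSet P f := by
  ext x'
  exact (p_asFiber_iff hP hc x').symm

open Groth.Agent.H1.CritFib in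
set_option backward.isDefEq.respectTransparency false in
/-- open immersions into the source. -/
theorem fibSet_comp_of_isOpenImmersion (hP : RingFibProp P) {U X S : Scheme.{u}} (j : U ⟶ X)
    [IsOpenImmersion j] (f : X ⟶ S) [LocallyOfFiniteType f] :
    fibSet P (j ≫ f) = j ⁻¹' fibSet P f := by
  ext u
  have hpb := isPullback_fiberMap j f (f (j u))
  haveI : IsOpenImmersion (MoreMor.fiberMap j f (f (j u))) :=
    MorphismProperty.of_isPullback hpb inferInstance
  have hz : (MoreMor.fiberMap j f (f (j u))) ((j ≫ f).asFiber u) = f.asFiber (j u) :=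
    fiberMap_asFiber j f u
  let σ := (asIso ((MoreMor.fiberMap j f (f (j u))).stalkMap
    ((j ≫ f).asFiber u))).commRingCatIsoToRingEquiv
  exact ((hP.iso_iff σ).symm).trans (p_stalk_congr P hz)

/-- open immersions (or any monomorphism) out of the target. -/
theorem fibSet_comp_mono (hP : RingFibProp P) {X S T : Scheme.{u}} (f : X ⟶ S) (i : S ⟶ T) [Mono i]
    [LocallyOfFiniteType (f ≫ i)] : fibSet P (f ≫ i) = fibSet P f := by
  have sq : IsPullback (𝟙 X) f (f ≫ i) i := IsPullback.of_horiz_isIso_mono ⟨by simp⟩
  have := fibSet_of_isPullback hP (f ≫ i) f (𝟙 X) i sq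
  rw [this]
  rfl

end Groth.Agent.H2.FibCons
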