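import Mathlib
import Groth.Agent.Lib.Helper2.FibConsA
import Groth.Agent.Lib.Helper1.CodepthCons

/-! # A generic machine for properties of the local rings of the fibres (part B)

If moreover the locus is open for flat morphisms locally of finite presentation, then it is locally
constructible for every morphism locally of finite presentation (EGA IV 9.9-style; generic version
of helper1's `CodepthCons`). -/

set_option autoImplicit false
set_option linter.style.haveILetI false
universe u

namespace Groth.Agent.H2.FibCons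

open AlgebraicGeometry CategoryTheory CategoryTheory.Limits Topology TensorProduct
open Groth.Agent.H1.CMQF Groth.Agent.H1.CMBC Groth.Agent.H1.CritFib

variable {P : ∀ (R : Type u) [CommRing R], Prop}

/-- if the base change of `f` along a preimmersion `g` is flat and locally of finite presentation,
then over the range of `g` the fibrewise CM locus of `f` is cut out by an open set. -/
theorem exists_open_fibSet_of_flat_baseChange (hP : RingFibProp P)
    (hopen : ∀ {X S : Scheme.{u}} (f : X ⟶ S) [Flat f] [LocallyOfFinitePresentation f],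
      IsOpen (fibSet P f))
    {X S X' S' : Scheme.{u}} (f : X ⟶ S)
    [LocallyOfFiniteType f] (f' : X' ⟶ S') (g' : X' ⟶ X) (g : S' ⟶ S)
    (hc : IsPullback g' f' f g) [IsPreimmersion g] [Flat f'] [LocallyOfFinitePresentation f']
    :
    ∃ W : Set X, IsOpen W ∧ ∀ y : X, f y ∈ Set.range g → (y ∈ fibSet P f ↔ y ∈ W) := by
  haveI : IsPreimmersion g' := MorphismProperty.of_isPullback hc.flip inferInstance
  have hE' : fibSet P f' = g' ⁻¹' fibSet P f := fibSet_of_isPullback hP f f' g' g hc
  have hopen : IsOpen (fibSet P f') := hopen f'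
  obtain ⟨W, hW, hWE⟩ := (g'.isEmbedding.isInducing.isOpen_iff).mp hopen
  refine ⟨W, hW, ?_⟩
  rintro y ⟨s', hs'⟩
  obtain ⟨x', hx'1, -⟩ := AlgebraicGeometry.Scheme.exists_preimage_of_isPullback hc y s' hs'.symm
  subst hx'1
  have h1 : g' x' ∈ fibSet P f ↔ x' ∈ fibSet P f' := by rw [hE']; rfl
  have h2 : x' ∈ fibSet P f' ↔ g' x' ∈ W := by rw [← hWE]; rfl
  exact h1.trans h2



open AlgebraicGeometry CategoryTheory CategoryTheory.Limits Topology TensorProduct
open Groth.Agent.H1.CMQF Groth.Agent.H1.CMBC Groth.Agent.H1.CritFib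

set_option backward.isDefEq.respectTransparency false in
/-- the key step: generically along a closed irreducible subset, membership in the locus is constant. -/
theorem exists_open_fibSet_const (hP : RingFibProp P)
    (hopen : ∀ {X S : Scheme.{u}} (f : X ⟶ S) [Flat f] [LocallyOfFinitePresentation f],
      IsOpen (fibSet P f))
    (A B : Type u) [CommRing A] [CommRing B] [Algebra A B]
    [Algebra.FiniteType A B] (Y : Set (PrimeSpectrum B)) (hYc : IsClosed Y)
    (hYi : IsIrreducible Y) :
    ∃ U : Set (PrimeSpectrum B), IsOpen U ∧ (U ∩ Y).Nonempty ∧ ∀ a ∈ U ∩ Y, ∀ b ∈ U ∩ Y,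
      (a ∈ fibSet P (Spec.map (CommRingCat.ofHom (algebraMap A B)))) =
        (b ∈ fibSet P (Spec.map (CommRingCat.ofHom (algebraMap A B)))) := by
  classical
  set f := Spec.map (CommRingCat.ofHom (algebraMap A B)) with hf
  haveI : LocallyOfFiniteType f := by
    rw [hf, HasRingHomProperty.Spec_iff (P := @LocallyOfFiniteType)]
    exact RingHom.finiteType_algebraMap.mpr inferInstance
  have hq : (PrimeSpectrum.vanishingIdeal Y).IsPrime :=
    (PrimeSpectrum.isIrreducible_iff_vanishingIdeal_isPrime).mp hYi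
  set Q : PrimeSpectrum B := ⟨PrimeSpectrum.vanishingIdeal Y, hq⟩ with hQdef
  have hY : Y = PrimeSpectrum.zeroLocus (Q.asIdeal : Set B) := by
    rw [hQdef]
    simp only
    rw [PrimeSpectrum.zeroLocus_vanishingIdeal_eq_closure, hYc.closure_eq]
  have hQY : Q ∈ Y := by
    rw [hY, PrimeSpectrum.mem_zeroLocus]
  set p : Ideal A := Q.asIdeal.comap (algebraMap A B) with hp
  haveI : p.IsPrime := Ideal.IsPrime.comap _
  obtain ⟨F, hF, hgood⟩ := Groth.Agent.H1.GenFree.exists_good (R := A ⧸ p)
    (S := (A ⧸ p) ⊗[A] B) (M := (A ⧸ p) ⊗[A] B) 1 one_ne_zero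
  generalize (1 : A ⧸ p) * F = F' at hF hgood
  obtain ⟨a, ha⟩ := Ideal.Quotient.mk_surjective F'
  have hap : a ∉ p := fun h => hF (by rw [← ha]; exact Ideal.Quotient.eq_zero_iff_mem.mpr h)
  haveI hfree : Module.Free (Localization.Away F')
      (Localization.Away F' ⊗[A ⧸ p] ((A ⧸ p) ⊗[A] B)) := hgood.free_tensor_self
  haveI hfp : Algebra.FinitePresentation (Localization.Away F')
      (Localization.Away F' ⊗[A ⧸ p] ((A ⧸ p) ⊗[A] B)) := hgood.finitePresentation_tensor
  -- the squares
  have sq1 := (isPullback_SpecMap_of_isPushout _ _ _ _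
    (CommRingCat.isPushout_tensorProduct A (A ⧸ p) B)).flip
  have sq2 := (isPullback_SpecMap_of_isPushout _ _ _ _
    (CommRingCat.isPushout_tensorProduct (A ⧸ p) (Localization.Away F') ((A ⧸ p) ⊗[A] B))).flip
  have sq := sq2.paste_horiz sq1
  set g₁ := Spec.map (CommRingCat.ofHom (algebraMap A (A ⧸ p))) with hg₁
  set g₂ := Spec.map (CommRingCat.ofHom (algebraMap (A ⧸ p) (Localization.Away F'))) with hg₂
  haveI : IsClosedImmersion g₁ :=
    IsClosedImmersion.spec_of_surjective _ Ideal.Quotient.mk_surjective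
  haveI : IsOpenImmersion g₂ := IsOpenImmersion.of_isLocalization F'
  set f₂ := Spec.map (CommRingCat.ofHom (algebraMap (Localization.Away F')
    (Localization.Away F' ⊗[A ⧸ p] ((A ⧸ p) ⊗[A] B)))) with hf₂
  haveI : Flat f₂ := by
    rw [hf₂, Flat.SpecMap_iff, CommRingCat.hom_ofHom, RingHom.flat_algebraMap_iff]
    exact Module.Flat.of_free
  haveI : LocallyOfFinitePresentation f₂ := by
    rw [hf₂, HasRingHomProperty.Spec_iff (P := @LocallyOfFinitePresentation),
      CommRingCat.hom_ofHom, RingHom.finitePresentation_algebraMap]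
    exact hfp
  obtain ⟨W, hW, hWE⟩ := exists_open_fibSet_of_flat_baseChange hP hopen f f₂ _ (g₂ ≫ g₁) sq
  -- the open set over which things are controlled
  set U₀ : Set (PrimeSpectrum B) := ((PrimeSpectrum.basicOpen (algebraMap A B a) : TopologicalSpace.Opens (PrimeSpectrum B)) :
    Set (PrimeSpectrum B)) with hU₀
  have hU₀o : IsOpen U₀ := (PrimeSpectrum.basicOpen (algebraMap A B a)).isOpen
  have hQU₀ : Q ∈ U₀ := hap
  have hrange : ∀ y ∈ U₀ ∩ Y, f y ∈ Set.range (g₂ ≫ g₁) := by
    rintro y ⟨hyU, hyY⟩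
    rw [hY, PrimeSpectrum.mem_zeroLocus] at hyY
    have h1 : (f y) ∈ Set.range (PrimeSpectrum.comap (Ideal.Quotient.mk p)) := by
      rw [_root_.range_comap_of_surjective _ _ Ideal.Quotient.mk_surjective,
        Ideal.mk_ker, PrimeSpectrum.mem_zeroLocus]
      intro t ht
      exact hyY ht
    obtain ⟨r, hr⟩ := h1
    have h2 : r ∈ Set.range (PrimeSpectrum.comap (algebraMap (A ⧸ p) (Localization.Away F'))) := by
      rw [PrimeSpectrum.localization_away_comap_range (Localization.Away F') F']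
      intro hFr
      apply hyU
      have : a ∈ (PrimeSpectrum.comap (Ideal.Quotient.mk p) r).asIdeal := by
        change Ideal.Quotient.mk p a ∈ r.asIdeal
        rw [ha]; exact hFr
      rw [hr] at this
      exact this
    obtain ⟨w, hw⟩ := h2
    refine ⟨w, ?_⟩
    have e1 : g₂ w = r := hw
    have e2 : g₁ r = f y := hr
    rw [Scheme.Hom.comp_apply, e1, e2]
  have hiff : ∀ y ∈ U₀ ∩ Y, (y ∈ fibSet P f ↔ y ∈ W) := fun y hy => hWE y (hrange y hy)
  by_cases hQE : Q ∈ fibSet P f
  · have hQW : Q ∈ W := (hiff Q ⟨hQU₀, hQY⟩).mp hQE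
    refine ⟨W ∩ U₀, hW.inter hU₀o, ⟨Q, ⟨hQW, hQU₀⟩, hQY⟩, ?_⟩
    rintro x ⟨⟨hxW, hxU⟩, hxY⟩ y ⟨⟨hyW, hyU⟩, hyY⟩
    have hx := (hiff x ⟨hxU, hxY⟩).mpr hxW
    have hy := (hiff y ⟨hyU, hyY⟩).mpr hyW
    exact propext (iff_of_true hx hy)
  · have hQW : Q ∉ W := fun h => hQE ((hiff Q ⟨hQU₀, hQY⟩).mpr h)
    have hnot : ∀ y ∈ U₀ ∩ Y, y ∉ fibSet P f := by
      intro y hy hyE
      have hyW : y ∈ W := (hiff y hy).mp hyE
      have hsp : Q ⤳ y := by
        rw [← PrimeSpectrum.le_iff_specializes]
        have := hy.2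
        rw [hY, PrimeSpectrum.mem_zeroLocus] at this
        exact this
      exact hQW (hsp.mem_open hW hyW)
    refine ⟨U₀, hU₀o, ⟨Q, hQU₀, hQY⟩, ?_⟩
    intro x hx y hy
    exact propext (iff_of_false (hnot x hx) (hnot y hy))



open AlgebraicGeometry CategoryTheory CategoryTheory.Limits Topology TensorProduct
open Groth.Agent.H1.CMQF Groth.Agent.H1.CMBC Groth.Agent.H1.CritFib

/-- the Noetherian affine case. -/
theorem isConstructible_fibSet_of_isNoetherianRing (hP : RingFibProp P)
    (hopen : ∀ {X S : Scheme.{u}} (f : X ⟶ S) [Flat f] [LocallyOfFinitePresentation f],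
      IsOpen (fibSet P f))
    (A B : Type u) [CommRing A] [CommRing B]
    [Algebra A B] [IsNoetherianRing A] [Algebra.FiniteType A B] :
    IsConstructible (fibSet P (Spec.map (CommRingCat.ofHom (algebraMap A B)))) := by
  classical
  haveI : IsNoetherianRing B := Algebra.FiniteType.isNoetherianRing A B
  set f := Spec.map (CommRingCat.ofHom (algebraMap A B)) with hf
  have key : (∀ t, IsConstructible ((fun x : PrimeSpectrum B => (x ∈ fibSet P f)) ⁻¹' {t})) ∧
      (Set.range (fun x : PrimeSpectrum B => (x ∈ fibSet P f))).Finite := by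
    rw [Groth.Agent.H8.CNoeth.constructible_map_iff]
    intro Y hYc hYi
    exact exists_open_fibSet_const hP hopen A B Y hYc hYi
  have h2 : fibSet P f = (fun x : PrimeSpectrum B => (x ∈ fibSet P f)) ⁻¹' {True} := by
    ext x
    exact ⟨fun h => eq_true h, fun h => of_eq_true h⟩
  rw [h2]
  exact key.1 True

/-- the affine case of finite presentation, by descent to a Noetherian model. -/
theorem isConstructible_fibSet_of_finitePresentation (hP : RingFibProp P)
    (hopen : ∀ {X S : Scheme.{u}} (f : X ⟶ S) [Flat f] [LocallyOfFinitePresentation f],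
      IsOpen (fibSet P f))
    (A B : Type u) [CommRing A] [CommRing B]
    [Algebra A B] [Algebra.FinitePresentation A B] :
    IsConstructible (fibSet P (Spec.map (CommRingCat.ofHom (algebraMap A B)))) := by
  classical
  obtain ⟨s, hs⟩ := Groth.Agent.H5.Lim.exists_model_of_finitePresentation A B
  let A₀ : Subalgebra ℤ A := Algebra.adjoin ℤ (s : Set A)
  obtain ⟨B₀, _, _, hfp, ⟨e⟩⟩ := hs A₀ (by
    intro x hx
    exact ⟨⟨x, Algebra.subset_adjoin hx⟩, rfl⟩)
  haveI : Algebra.FiniteType ℤ A₀ := .adjoin_of_finite s.finite_toSet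
  haveI : IsNoetherianRing A₀ := Algebra.FiniteType.isNoetherianRing ℤ A₀
  set φ₀ := Spec.map (CommRingCat.ofHom (algebraMap A₀ B₀)) with hφ₀
  have : LocallyOfFiniteType φ₀ := by
    rw [hφ₀, HasRingHomProperty.Spec_iff (P := @LocallyOfFiniteType)]
    exact RingHom.finiteType_algebraMap.mpr (inferInstance : Algebra.FiniteType A₀ B₀)
  have sq := isPullback_SpecMap_of_isPushout _ _ _ _
    (CommRingCat.isPushout_tensorProduct A₀ A B₀)
  set ψ := Spec.map (CommRingCat.ofHom (Algebra.TensorProduct.includeLeftRingHom :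
    A →+* A ⊗[A₀] B₀)) with hψ
  set pr := Spec.map (CommRingCat.ofHom ((Algebra.TensorProduct.includeRight :
    B₀ →ₐ[A₀] A ⊗[A₀] B₀).toRingHom)) with hpr
  have h1 : fibSet P ψ = pr ⁻¹' fibSet P φ₀ := fibSet_of_isPullback hP φ₀ ψ pr _ sq.flip
  set ε := Spec.map (CommRingCat.ofHom e.toRingEquiv.toRingHom) with hε
  have : IsIso ε := by
    rw [hε]
    have : IsIso (CommRingCat.ofHom e.toRingEquiv.toRingHom) :=
      (e.toRingEquiv.toCommRingCatIso).isIso_hom
    infer_instance
  have hεψ : ε ≫ ψ = Spec.map (CommRingCat.ofHom (algebraMap A B)) := by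
    rw [hε, hψ, ← Spec.map_comp]
    congr 1
    ext a
    change e (a ⊗ₜ[A₀] (1 : B₀)) = algebraMap A B a
    have h1 : a ⊗ₜ[A₀] (1 : B₀) = algebraMap A (A ⊗[A₀] B₀) a :=
      (Algebra.TensorProduct.algebraMap_apply a).symm
    rw [h1, e.commutes]
  haveI : LocallyOfFiniteType ψ := MorphismProperty.of_isPullback sq.flip ‹LocallyOfFiniteType φ₀›
  have h2 : fibSet P (ε ≫ ψ) = ε ⁻¹' fibSet P ψ := fibSet_comp_of_isOpenImmersion hP ε ψ
  have h0 : IsConstructible (fibSet P φ₀) := isConstructible_fibSet_of_isNoetherianRing hP hopen A₀ B₀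
  rw [← hεψ, h2, h1]
  exact Scheme.Hom.isConstructible_preimage ε (Scheme.Hom.isConstructible_preimage pr h0)



open AlgebraicGeometry CategoryTheory CategoryTheory.Limits Topology TensorProduct
open Groth.Agent.H1.CMQF Groth.Agent.H1.CMBC Groth.Agent.H1.CritFib

variable {X S : Scheme.{u}}

set_option backward.isDefEq.respectTransparency false in
/-- in an affine chart, the fibrewise CM locus is constructible. -/
theorem isConstructible_fibSet_affine (hP : RingFibProp P)
    (hopen : ∀ {X S : Scheme.{u}} (f : X ⟶ S) [Flat f] [LocallyOfFinitePresentation f],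
      IsOpen (fibSet P f))
    (f : X ⟶ S) [LocallyOfFinitePresentation f]
    {W : S.Opens} (hW : IsAffineOpen W) {U : X.Opens} (hU : IsAffineOpen U) (e : U ≤ f ⁻¹ᵁ W)
    :
    IsConstructible (Subtype.val ⁻¹' fibSet P f : Set U) := by
  letI := (f.appLE W U e).hom.toAlgebra
  haveI : Algebra.FinitePresentation Γ(S, W) Γ(X, U) := f.finitePresentation_appLE hW hU e
  have h0 := isConstructible_fibSet_of_finitePresentation hP hopen Γ(S, W) Γ(X, U)
  have hφ : Spec.map (CommRingCat.ofHom (algebraMap Γ(S, W) Γ(X, U))) = Spec.map (f.appLE W U e) :=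
    rfl
  rw [hφ] at h0
  have hcomm : Spec.map (f.appLE W U e) ≫ hW.fromSpec = hU.fromSpec ≫ f :=
    IsAffineOpen.SpecMap_appLE_fromSpec f hW hU e
  haveI : LocallyOfFiniteType (Spec.map (f.appLE W U e) ≫ hW.fromSpec) := by
    rw [hcomm]; infer_instance
  have h1 : fibSet P (Spec.map (f.appLE W U e) ≫ hW.fromSpec) = fibSet P (Spec.map (f.appLE W U e)) :=
    fibSet_comp_mono hP _ _
  have h2 : fibSet P (hU.fromSpec ≫ f) = hU.fromSpec ⁻¹' fibSet P f :=
    fibSet_comp_of_isOpenImmersion hP _ _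
  have hpre : (Subtype.val ⁻¹' fibSet P f : Set U) =
      (fun y : U => hU.primeIdealOf y) ⁻¹' fibSet P (Spec.map (f.appLE W U e)) := by
    ext y
    rw [← h1, hcomm, h2]
    change y.1 ∈ fibSet P f ↔ hU.fromSpec (hU.primeIdealOf y) ∈ fibSet P f
    rw [hU.fromSpec_primeIdealOf]
  rw [hpre]
  exact h0.preimage_of_isOpenEmbedding (hU.isoSpec.hom.homeomorph.isOpenEmbedding)

/-- the fibrewise Cohen–Macaulay locus of a morphism locally of finite presentation is locally
constructible. -/
theorem isLocallyConstructible_fibSet (hP : RingFibProp P)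
    (hopen : ∀ {X S : Scheme.{u}} (f : X ⟶ S) [Flat f] [LocallyOfFinitePresentation f],
      IsOpen (fibSet P f))
    (f : X ⟶ S) [LocallyOfFinitePresentation f] :
    IsLocallyConstructible (fibSet P f) := by
  intro x₀
  obtain ⟨_, ⟨W, hW, rfl⟩, hyW, -⟩ :=
    S.isBasis_affineOpens.exists_subset_of_mem_open (Set.mem_univ (f x₀)) isOpen_univ
  obtain ⟨_, ⟨U, hU, rfl⟩, hxU, hUW⟩ :=
    X.isBasis_affineOpens.exists_subset_of_mem_open (show x₀ ∈ ((f ⁻¹ᵁ W : X.Opens) : Set X) from hyW)
      (f ⁻¹ᵁ W).isOpen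
  exact ⟨U, U.isOpen.mem_nhds hxU, U.isOpen, isConstructible_fibSet_affine hP hopen f hW hU hUW⟩



end Groth.Agent.H2.FibCons
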