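import Mathlib
import Groth.Agent.Lib.Helper2.FibConsB
import Groth.Agent.Lib.Helper2.TenCM5
import Groth.Agent.Lib.Helper2.SkA
import Groth.Agent.Lib.Helper2.SkG

/-! # The fibrewise `(S_k)` locus is locally constructible (EGA IV 9.9.2-style) -/

set_option autoImplicit false
set_option linter.style.haveILetI false
universe u

namespace Groth.Agent.H2.FibCons

open AlgebraicGeometry CategoryTheory CategoryTheory.Limits Topology TensorProduct IsLocalRing

/-- `(S_n)` for a Noetherian local algebra over a field versus a local ring of its base change to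
an extension field, the fibres being Cohen–Macaulay. -/
theorem hasSk_bc (n : ℕ) (k A k' : Type u) [Field k] [CommRing A] [IsLocalRing A]
    [IsNoetherianRing A] [Algebra k A] [Field k'] [Algebra k k'] [IsNoetherianRing (A ⊗[k] k')]
    (hfib : ∀ (p : Ideal A) [p.IsPrime], LocCoh.IsCohenMacaulayRing (p.Fiber (A ⊗[k] k')))
    (q : Ideal (A ⊗[k] k')) [q.IsPrime]
    (hq : q.comap (algebraMap A (A ⊗[k] k')) = maximalIdeal A) :
    LocCoh.HasSk n A A ↔
      LocCoh.HasSk n (Localization.AtPrime q) (Localization.AtPrime q) := by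
  have hfib' : ∀ (Q : Ideal (A ⊗[k] k')) [Q.IsPrime],
      Module.supportDim (Localization.AtPrime Q) (EGA4.FibLocRing A (A ⊗[k] k') Q) =
      ((LocCoh.depth (Localization.AtPrime Q) (EGA4.FibLocRing A (A ⊗[k] k') Q) : ℕ∞) :
        WithBot ℕ∞) := by
    intro Q hQ
    exact (Groth.Agent.H6.FiberDict.cm_fiber_iff (A := A) (B := A ⊗[k] k')
      (Q.comap (algebraMap A (A ⊗[k] k')))).mp (hfib _) Q rfl
  have key := Groth.Agent.H2.TenCM.hasSkAt_iff_of_cm_fibres (R := A) (S := A ⊗[k] k') hfib' n q
  have h1 : LocCoh.HasSk n A A ↔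
      EGA4.HasSkAt n A A (q.comap (algebraMap A (A ⊗[k] k'))) := by
    rw [Groth.Agent.H6.SkLoc.hasSkAt_iff, Groth.Agent.H6.SkLoc.hasSk_iff_skIneq]
    constructor
    · intro h q' hq' _
      exact h q'
    · intro h q' hq'
      exact h q' (by rw [hq]; exact IsLocalRing.le_maximalIdeal hq'.ne_top)
  have h2 : EGA4.HasSkAt n (A ⊗[k] k') (A ⊗[k] k') q ↔
      LocCoh.HasSk n (Localization.AtPrime q) (Localization.AtPrime q) := by
    unfold EGA4.HasSkAt
    haveI : Module.Finite (Localization.AtPrime q) (LocalizedModule q.primeCompl (A ⊗[k] k')) :=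
      Module.Finite.of_isLocalizedModule q.primeCompl
        (LocalizedModule.mkLinearMap q.primeCompl (A ⊗[k] k'))
    exact Groth.Agent.H2.Sk.hasSk_iff_of_semilinear (RingHom.id _) Function.surjective_id
      (Groth.Agent.H6.FiberDict.locEquiv (A ⊗[k] k') q).toAddEquiv
      (fun r m => (Groth.Agent.H6.FiberDict.locEquiv (A ⊗[k] k') q).map_smul r m) n
  exact h1.trans (key.trans h2)

theorem ringFibProp_hasSk (n : ℕ) :
    RingFibProp (fun (R : Type u) [CommRing R] => LocCoh.HasSk n R R) where
  iso := by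
    intro R R' _ _ e h
    exact (Groth.Agent.H2.Sk.hasSk_iff_of_semilinear (e : R →+* R') e.surjective e.toAddEquiv
      (fun r m => by simp) n).mp h
  bc := fun k A k' _ _ _ _ _ _ _ _ hfib q _ hq => hasSk_bc n k A k' hfib q hq

/-- **the fibrewise `(S_k)` locus of a morphism locally of finite presentation is locally
constructible.** -/
theorem isLocallyConstructible_fibre_hasSk {X S : Scheme.{u}} (f : X ⟶ S)
    [LocallyOfFinitePresentation f] (k : ℕ) :
    IsLocallyConstructible {x : X |
      LocCoh.HasSk k ((f.fiber (f.base x)).presheaf.stalk (f.asFiber x))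
        ((f.fiber (f.base x)).presheaf.stalk (f.asFiber x))} :=
  isLocallyConstructible_fibSet (ringFibProp_hasSk k)
    (fun f _ _ => Groth.Agent.H2.Sk.isOpen_fibre_hasSk f k) f

end Groth.Agent.H2.FibCons
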