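import Mathlib
import Groth.Prelude.Def_CAlg
import Groth.Agent.Lib.Helper1.StalkGen

/-! # Serre's condition `(R_k)` at a stalk through generizations -/

set_option autoImplicit false
set_option linter.style.haveILetI false
universe u

namespace Groth.Agent.H2.Rk

open AlgebraicGeometry CategoryTheory Groth.Agent.H1.StalkGen

variable {X : Scheme.{u}}

/-- the localization of the stalk at the prime of a generization is the stalk at the generization -/
noncomputable def locEquiv {x z : X} (h : z ⤳ x) :
    Localization.AtPrime (primeOf h).asIdeal ≃+* X.presheaf.stalk z := by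
  letI : Algebra (X.presheaf.stalk x) (X.presheaf.stalk z) :=
    (X.presheaf.stalkSpecializes h).hom.toAlgebra
  haveI := isLocalization_stalkSpecializes h
  exact (IsLocalization.algEquiv (primeOf h).asIdeal.primeCompl
    (Localization.AtPrime (primeOf h).asIdeal) (X.presheaf.stalk z)).toRingEquiv

theorem isRegularLocalRing_localization_iff {x z : X} (h : z ⤳ x) :
    IsRegularLocalRing (Localization.AtPrime (primeOf h).asIdeal) ↔
      IsRegularLocalRing (X.presheaf.stalk z) :=
  ⟨fun _ => IsRegularLocalRing.of_ringEquiv (locEquiv h),
    fun _ => IsRegularLocalRing.of_ringEquiv (locEquiv h).symm⟩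

/-- **`(R_k)` at a stalk is regularity at all generizations of small codimension.** -/
theorem hasRk_stalk_iff_generizations (x : X) (k : ℕ) :
    LocCoh.HasRk k (X.presheaf.stalk x) ↔
      ∀ z : X, z ⤳ x → ringKrullDim (X.presheaf.stalk z) ≤ (k : WithBot ℕ∞) →
        IsRegularLocalRing (X.presheaf.stalk z) := by
  constructor
  · intro hR z hz hdim
    rw [ringKrullDim_stalk_eq_height hz] at hdim
    have h1 : (primeOf hz).asIdeal.height ≤ (k : ℕ∞) := by exact_mod_cast hdim
    exact (isRegularLocalRing_localization_iff hz).mp (hR (primeOf hz).asIdeal h1)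
  · intro hS p hp hht
    have hz := fromSpecStalk_specializes x (⟨p, hp⟩ : PrimeSpectrum (X.presheaf.stalk x))
    have hp' : primeOf hz = ⟨p, hp⟩ := primeOf_fromSpecStalk x _
    have key : ∀ q : PrimeSpectrum (X.presheaf.stalk x), q = ⟨p, hp⟩ →
        (IsRegularLocalRing (Localization.AtPrime q.asIdeal)) →
        IsRegularLocalRing (Localization.AtPrime p) := by
      intro q hq h
      subst hq
      exact h
    refine key _ hp' ((isRegularLocalRing_localization_iff hz).mpr (hS _ hz ?_))
    rw [ringKrullDim_stalk_eq_height hz, hp']
    exact_mod_cast hht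

end Groth.Agent.H2.Rk
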