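import Mathlib
import Groth.Prelude.Def_Curv2
import Groth.Agent.Lib.Helper1.BCStalk
import Groth.Agent.Lib.Helper1.FlatDimLocal
import Groth.Agent.H4.EtaleFinP

/-! # Dimension of the local rings under a finite extension of the base field -/

set_option autoImplicit false
set_option linter.style.haveILetI false
universe u

namespace Groth.Agent.H2.Rk

open AlgebraicGeometry CategoryTheory IsLocalRing TensorProduct

/-- ring level: localization of `A ⊗[k] K` at a prime over the maximal ideal, `K` finite over `k`. -/
theorem ringKrullDim_localization_tensor (k A K : Type u) [Field k] [CommRing A] [IsLocalRing A]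
    [Algebra k A] [Field K] [Algebra k K] [Module.Finite k K]
    (q : Ideal (A ⊗[k] K)) [q.IsPrime]
    (hq : q.comap (Algebra.TensorProduct.includeLeftRingHom (R := k) (A := A) (B := K)) =
      maximalIdeal A) :
    ringKrullDim (Localization.AtPrime q) = ringKrullDim A := by
  apply le_antisymm
  · exact Groth.Agent.H4.EtaleFinP.dim_le_of_quasiFinite A (Localization.AtPrime q)
  · haveI : Module.Flat A (Localization.AtPrime q) :=
      Module.Flat.trans A (A ⊗[k] K) (Localization.AtPrime q)
    haveI : IsLocalHom (algebraMap A (Localization.AtPrime q)) := by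
      refine ⟨fun a ha => ?_⟩
      rw [IsScalarTower.algebraMap_apply A (A ⊗[k] K) (Localization.AtPrime q),
        IsLocalization.AtPrime.isUnit_to_map_iff (Localization.AtPrime q) q] at ha
      by_contra hnu
      have h1 : a ∈ maximalIdeal A := (IsLocalRing.mem_maximalIdeal a).mpr hnu
      rw [← hq] at h1
      exact ha h1
    exact Groth.Agent.H1.FlatDim.ringKrullDim_le_of_flat_isLocalHom A (Localization.AtPrime q)

attribute [local instance] Curv2.resAlgebra Curv2.stalkAlgebra

/-- the dimension of the local ring at a point of `X_K` is that of the local ring at its image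
in `X`, for `K` finite over `k`. -/
theorem ringKrullDim_stalk_bc (k : Type u) [Field k] (X : Scheme.{u})
    [X.Over (Spec (CommRingCat.of k))] (K : Type u) [Field K] [Algebra k K] [Module.Finite k K]
    (x' : ↥(Curv2.bc k X K)) :
    ringKrullDim ((Curv2.bc k X K).presheaf.stalk x') =
      ringKrullDim (X.presheaf.stalk (Curv2.bcFst k X K x')) := by
  obtain ⟨q, hq, ⟨e⟩⟩ := Groth.Agent.H1.BCStalk.exists_prime_of_point k X K
    (Curv2.bcFst k X K x') x' rfl
  rw [ringKrullDim_eq_of_ringEquiv e]
  exact ringKrullDim_localization_tensor k _ K q.asIdeal hq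

end Groth.Agent.H2.Rk
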