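import Mathlib
import Groth.Prelude.Def_CAlg
import Groth.Prelude.Def_Curv2
import Groth.Agent.Lib.Helper2.RkA
import Groth.Agent.Lib.Helper2.RkB
import Groth.Agent.Lib.Helper1.BCStalkReg
import Groth.Agent.Lib.Helper1.SmoothReg3

/-! # The geometric condition `(R_k)` at a point of a scheme locally of finite type over a field

`X` satisfies the geometric condition `(R_n)` at `x` (tested on finite extensions of the base field)
iff `X` is smooth over `k` at all generizations `z` of `x` with `dim O_{X,z} ≤ n`. -/

set_option autoImplicit false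
set_option linter.style.haveILetI false
universe u

namespace Groth.Agent.H2.Rk

open AlgebraicGeometry CategoryTheory IsLocalRing TensorProduct

theorem isClosedMap_bcFst (k : Type u) [Field k] (X : Scheme.{u})
    [X.Over (Spec (CommRingCat.of k))] (K : Type u) [Field K] [Algebra k K] [Module.Finite k K] :
    IsClosedMap (Curv2.bcFst k X K) := by
  haveI : IsFinite (Spec.map (CommRingCat.ofHom (algebraMap k K))) := by
    rw [IsFinite.SpecMap_iff, CommRingCat.hom_ofHom]
    exact RingHom.finite_algebraMap.mpr inferInstance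
  haveI : IsFinite (Curv2.bcFst k X K) :=
    MorphismProperty.pullback_fst _ _ inferInstance
  exact (Curv2.bcFst k X K).isClosedMap

theorem geomRk_iff (k : Type u) [Field k] (X : Scheme.{u}) [X.Over (Spec (CommRingCat.of k))]
    [LocallyOfFinitePresentation (X ↘ (Spec (CommRingCat.of k)))] (x : X) (n : ℕ) :
    (∀ (K : Type u) [Field K] [Algebra k K], Module.Finite k K →
      ∀ x' : ↥(Curv2.bc k X K), Curv2.bcFst k X K x' = x →
        LocCoh.HasRk n ((Curv2.bc k X K).presheaf.stalk x')) ↔
    ∀ z : X, z ⤳ x → ringKrullDim (X.presheaf.stalk z) ≤ (n : WithBot ℕ∞) →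
      z ∈ (X ↘ (Spec (CommRingCat.of k))).smoothLocus := by
  haveI : LocallyOfFiniteType (X ↘ (Spec (CommRingCat.of k))) := inferInstance
  haveI : IsLocallyNoetherian X :=
    LocallyOfFiniteType.isLocallyNoetherian (X ↘ (Spec (CommRingCat.of k)))
  constructor
  · intro h z hz hdim
    by_contra hns
    have hng : ¬ Curv2.IsGeomRegularAt k X z :=
      fun hg => hns ((Groth.Agent.H1.SmoothReg.s1562 k X z).mp hg)
    rw [(Groth.Agent.H1.BCStalk.s7606 k X z).1] at hng
    push Not at hng
    obtain ⟨k', _, _, hfin, _, z', hz', hnreg⟩ := hng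
    have hcl := isClosedMap_bcFst k X k'
    obtain ⟨x', hx'1, hx'2⟩ := hcl.specializingMap (a := z') (b := x) (by rw [hz']; exact hz)
    have hR := h k' inferInstance x' hx'2
    rw [hasRk_stalk_iff_generizations] at hR
    apply hnreg
    apply hR z' hx'1
    rw [ringKrullDim_stalk_bc k X k' z', hz']
    exact hdim
  · intro h K _ _ hfin x' hx'
    haveI := hfin
    rw [hasRk_stalk_iff_generizations]
    intro z' hz' hdim
    have hz : Curv2.bcFst k X K z' ⤳ x := by
      rw [← hx']
      exact hz'.map (Curv2.bcFst k X K).continuous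
    rw [ringKrullDim_stalk_bc k X K z'] at hdim
    have hsm := h _ hz hdim
    have hg := (Groth.Agent.H1.SmoothReg.s1562 k X _).mpr hsm
    exact hg K (IntermediateField.fg_top_iff.mpr inferInstance) z' rfl

end Groth.Agent.H2.Rk
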