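import Mathlib
import Groth.Prelude.Def_CAlg
import Groth.Prelude.Def_Curv2
import Groth.Prelude.Def_FDesc
import Groth.Agent.Lib.Helper2.RkC
import Groth.Agent.Lib.Helper2.SkM
import Groth.Agent.Lib.Helper5.DF.DF11

/-! # The geometric condition `(R_k)` at a point of a fibre of a flat morphism -/

set_option autoImplicit false
set_option linter.style.haveILetI false
universe u

namespace Groth.Agent.H2.Rk

open AlgebraicGeometry CategoryTheory CategoryTheory.Limits IsLocalRing TensorProduct

variable {X Y : Scheme.{u}} (f : X ⟶ Y)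

instance lfp_fiberToSpecResidueField [LocallyOfFinitePresentation f] (y : Y) :
    LocallyOfFinitePresentation (f.fiberToSpecResidueField y) :=
  inferInstanceAs (LocallyOfFinitePresentation (pullback.snd f (Y.fromSpecResidueField y)))

/-- the geometric `(R_n)` condition at a point of a fibre, in the form of the statements. -/
def GeomRkAt (n : ℕ) (y : Y) (w : ↥(f.fiber y)) : Prop :=
  ∀ (K : Type u) [Field K] [Algebra (IsLocalRing.ResidueField (Y.presheaf.stalk y)) K],
    Module.Finite (IsLocalRing.ResidueField (Y.presheaf.stalk y)) K →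
    ∀ x' : ↥(FBase.bc (f.fiberToSpecResidueField y) K),
      (FBase.bcπ (f.fiberToSpecResidueField y) K).base x' = w →
      LocCoh.HasRk n ((FBase.bc (f.fiberToSpecResidueField y) K).presheaf.stalk x')

theorem geomRkAt_iff [LocallyOfFinitePresentation f] (n : ℕ) (y : Y) (w : ↥(f.fiber y)) :
    GeomRkAt f n y w ↔
      ∀ z : ↥(f.fiber y), z ⤳ w →
        ringKrullDim ((f.fiber y).presheaf.stalk z) ≤ (n : WithBot ℕ∞) →
        z ∈ (f.fiberToSpecResidueField y).smoothLocus := by
  letI ov : (f.fiber y).Over (Spec (CommRingCat.of (IsLocalRing.ResidueField (Y.presheaf.stalk y)))) :=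
    ⟨f.fiberToSpecResidueField y⟩
  haveI : LocallyOfFinitePresentation
      ((f.fiber y) ↘ (Spec (CommRingCat.of (IsLocalRing.ResidueField (Y.presheaf.stalk y))))) :=
    lfp_fiberToSpecResidueField f y
  exact geomRk_iff (IsLocalRing.ResidueField (Y.presheaf.stalk y)) (f.fiber y) w n

/-- **the geometric `(R_n)` condition at `x` in terms of the smooth locus of `f`** -/
theorem geomRkAt_asFiber_iff [Flat f] [LocallyOfFinitePresentation f] (n : ℕ) (x : X) :
    GeomRkAt f n (f x) (f.asFiber x) ↔
      ∀ z : X, z ⤳ x → f z = f x →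
        ringKrullDim ((f.fiber (f z)).presheaf.stalk (f.asFiber z)) ≤ (n : WithBot ℕ∞) →
        z ∈ f.smoothLocus := by
  rw [geomRkAt_iff]
  have h := Groth.Agent.H2.Sk.forall_fiber_generization_iff f
    (fun y z => ringKrullDim ((f.fiber y).presheaf.stalk z) ≤ (n : WithBot ℕ∞) →
        z ∈ (f.fiberToSpecResidueField y).smoothLocus) x
  have h' : (∀ z : ↥(f.fiber (f x)), z ⤳ f.asFiber x →
        ringKrullDim ((f.fiber (f x)).presheaf.stalk z) ≤ (n : WithBot ℕ∞) →
        z ∈ (f.fiberToSpecResidueField (f x)).smoothLocus) ↔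
      (∀ z : ↥(f.fiber (f x)), f.asFiber x ∈ closure {z} →
        ringKrullDim ((f.fiber (f x)).presheaf.stalk z) ≤ (n : WithBot ℕ∞) →
        z ∈ (f.fiberToSpecResidueField (f x)).smoothLocus) := by
    refine forall_congr' fun z => ?_
    rw [specializes_iff_mem_closure]
  rw [h', h]
  refine forall_congr' fun z => forall_congr' fun _ => forall_congr' fun _ =>
    forall_congr' fun _ => ?_
  have := H5.DF.mem_smoothLocus_iff_fiber f z (f z) rfl (f.asFiber z) (f.fiberι_asFiber z)
  rw [this]
  exact (and_iff_right (Flat.stalkMap f z)).symm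

end Groth.Agent.H2.Rk
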