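import Mathlib
import Groth.Prelude.Def_CAlg
import Groth.Prelude.Def_EGA4b
import Groth.Prelude.Def_Dual3
import Groth.Prelude.Def_Flat
import Groth.Agent.Lib.Helper2.RkI

/-! # Lower semicontinuity of the local fibre dimension at equidimensional points without embedded
components (flat morphisms locally of finite presentation) -/

set_option autoImplicit false
set_option linter.style.haveILetI false
universe u

open AlgebraicGeometry CategoryTheory

namespace Groth.Agent.H2.Rk

open Groth.Agent.H2.Idl Groth.Agent.LD.QC Groth.Agent.H2.Sk Groth.Agent.H1.StalkGen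

variable {X Y : Scheme.{u}} (f : X ⟶ Y)

/-- the locus where the fibre is equidimensional without embedded component -/
def eqLocus : Set X :=
  {x : X | EGA4.IsEquidim ((f.fiber (f.base x)).presheaf.stalk (f.asFiber x)) ∧
      ∀ p ∈ associatedPrimes ((f.fiber (f.base x)).presheaf.stalk (f.asFiber x))
        ((f.fiber (f.base x)).presheaf.stalk (f.asFiber x)),
        p ∈ minimalPrimes ((f.fiber (f.base x)).presheaf.stalk (f.asFiber x))}

theorem isOpen_eqLocus [Flat f] [LocallyOfFinitePresentation f] : IsOpen (eqLocus f) :=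
  isOpen_fibre_equidim_noEmb f

theorem dim_stalk_eq_zero_of_depth_eq_zero [LocallyOfFiniteType f] (x : X) (hx : x ∈ eqLocus f)
    (hd : LocCoh.depth ((f.fiber (f.base x)).presheaf.stalk (f.asFiber x))
        ((f.fiber (f.base x)).presheaf.stalk (f.asFiber x)) = 0) :
    ringKrullDim ((f.fiber (f.base x)).presheaf.stalk (f.asFiber x)) = 0 := by
  haveI : IsLocallyNoetherian (f.fiber (f.base x)) := by
    delta Scheme.Hom.fiber; infer_instance
  have h1 := (Groth.Agent.H3.DepthAux.depth_eq_zero_iff_mem_associatedPrimes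
    ((f.fiber (f.base x)).presheaf.stalk (f.asFiber x))
    ((f.fiber (f.base x)).presheaf.stalk (f.asFiber x))).mp hd
  have h2 := hx.2 _ h1
  have h3 : (IsLocalRing.maximalIdeal ((f.fiber (f.base x)).presheaf.stalk (f.asFiber x))).height = 0 :=
    Ideal.height_eq_zero_iff.mpr h2
  rw [← IsLocalRing.maximalIdeal_height_eq_ringKrullDim, h3]
  rfl

theorem fibreDimAt_eq_of_dim_zero [LocallyOfFiniteType f] (x₀ : X)
    (heq : EGA4.IsEquidim ((f.fiber (f.base x₀)).presheaf.stalk (f.asFiber x₀)))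
    (x' : X) (hsp : x' ⤳ x₀) (hf : f x' = f x₀)
    (h0 : ringKrullDim ((f.fiber (f.base x')).presheaf.stalk (f.asFiber x')) = 0) :
    FlatMor.fibreDimAt f x' = FlatMor.fibreDimAt f x₀ := by
  have key := (forall_fiber_generization_iff f
    (fun y w => ringKrullDim ((f.fiber y).presheaf.stalk w) = 0 →
      FlatMor.localDim ↥(f.fiber y) w = FlatMor.fibreDimAt f x₀) x₀).mp
  refine key ?_ x' hsp hf h0
  intro w hw hw0
  have hw' : w ⤳ f.asFiber x₀ := specializes_iff_mem_closure.mpr hw
  exact @localDim_eq_of_isEquidim (Y.residueField (f x₀)) _ _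
    (f.fiberToSpecResidueField (f x₀))
    (Groth.Agent.H1.Chev.locallyOfFiniteType_fiberToSpecResidueField f (f x₀))
    (f.asFiber x₀) w hw' hw0 heq

/-- **lower semicontinuity of the local fibre dimension** at the points where the fibre is
equidimensional without embedded component. -/
theorem exists_nhd_le_fibreDimAt [Flat f] [LocallyOfFinitePresentation f] (x₀ : X)
    (hx₀ : x₀ ∈ eqLocus f) :
    ∃ V : Set X, IsOpen V ∧ x₀ ∈ V ∧ ∀ x ∈ V, FlatMor.fibreDimAt f x₀ ≤ FlatMor.fibreDimAt f x := by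
  classical
  obtain ⟨c₀, t₀, hc₀, ht₀, hcl₀, hd₀⟩ := exists_dims f x₀
  set d₀ := c₀ + t₀ with hd₀def
  let C : ℕ → Set X := fun t => {x : X | ((t + 1 : ℕ) : WithBot ℕ∞) ≤
      ((LocCoh.depth ((f.fiber (f.base x)).presheaf.stalk (f.asFiber x))
        ((f.fiber (f.base x)).presheaf.stalk (f.asFiber x)) : ℕ∞) : WithBot ℕ∞) +
        topologicalKrullDim ↥(closure ({f.asFiber x} : Set ↥(f.fiber (f.base x))))}ᶜ
  have hC : ∀ t, IsClosed (C t) := fun t =>
    (isOpen_rectified_depth_self f (t + 1)).isClosed_compl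
  let Bad : ℕ → Set X := fun t => {x : X | ∃ x' ∈ C t, x' ⤳ x ∧ f x' = f x ∧
    (t : Cardinal.{u}) ≤ Dual3.resTrdeg f x'}
  have hBad : ∀ t, IsClosed (Bad t) := by
    intro t
    obtain ⟨T, ι, hι, hr⟩ := exists_closedImmersion_range_eq (C t) (hC t)
    have h1 := isClosed_exists_generization ι f t
    rw [hr] at h1
    exact h1
  have hU₀ := isOpen_eqLocus f
  -- claim 1
  have hclaim1 : ∀ t : ℕ, t < d₀ → x₀ ∉ Bad t := by
    rintro t htd ⟨x', hx'C, hsp, hfib, htr⟩
    obtain ⟨c', t', hc', ht', hcl', hd'⟩ := exists_dims f x'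
    have hx'C' : ¬ (((t + 1 : ℕ) : WithBot ℕ∞) ≤
        ((LocCoh.depth ((f.fiber (f.base x')).presheaf.stalk (f.asFiber x'))
          ((f.fiber (f.base x')).presheaf.stalk (f.asFiber x')) : ℕ∞) : WithBot ℕ∞) +
          topologicalKrullDim ↥(closure ({f.asFiber x'} : Set ↥(f.fiber (f.base x'))))) := hx'C
    have hcl'' : topologicalKrullDim ↥(closure ({f.asFiber x'} : Set ↥(f.fiber (f.base x')))) =
        (t' : WithBot ℕ∞) := hcl'
    rw [hcl''] at hx'C'
    have htt : t ≤ t' := by
      have : (t : Cardinal.{u}) ≤ (t' : Cardinal.{u}) := by rw [← ht']; exact htr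
      exact_mod_cast this
    obtain ⟨hdep0, htt'⟩ := arith_ass _ t t' hx'C' htt
    have hx'U : x' ∈ eqLocus f := hsp.mem_open hU₀ hx₀
    have hdim0 := dim_stalk_eq_zero_of_depth_eq_zero f x' hx'U hdep0
    have hfd := fibreDimAt_eq_of_dim_zero f x₀ hx₀.1 x' hsp hfib hdim0
    have hc'0 : c' = 0 := by
      have h1 : ((c' : ℕ) : WithBot ℕ∞) = ((0 : ℕ) : WithBot ℕ∞) := by
        rw [← hc']; exact hdim0
      exact_mod_cast h1
    rw [hd', hd₀, hc'0, zero_add, htt'] at hfd
    have : t = c₀ + t₀ := by exact_mod_cast hfd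
    omega
  refine ⟨eqLocus f ∩ ⋂ t ∈ Finset.range d₀, (Bad t)ᶜ, ?_, ?_, ?_⟩
  · exact hU₀.inter (isOpen_biInter_finset fun t _ => (hBad t).isOpen_compl)
  · refine ⟨hx₀, ?_⟩
    rw [Set.mem_iInter₂]
    intro t ht
    exact hclaim1 t (Finset.mem_range.mp ht)
  · rintro x ⟨hxU, hx⟩
    rw [Set.mem_iInter₂] at hx
    obtain ⟨η, hfη, hηsp, hηmax, hηdim⟩ :=
      Groth.Agent.H1.FibGen.exists_fibre_generic_fibreDimAt_eq f x
    obtain ⟨c, t, hc, ht, hcl, hd⟩ := exists_dims f η
    -- `η` is maximal in its fibre: its fibre dimension is its transcendence degree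
    obtain ⟨tx, htx, hfdx⟩ := Groth.Agent.H1.HypSec.fibreDimAt_comp_eq_resTrdeg (𝟙 X) f η
      (by
        intro t' ht' hsp'
        rw [Category.id_comp] at ht'
        exact hηmax t' (ht'.trans hfη) hsp')
    rw [Category.id_comp] at hfdx
    have htx' : Dual3.resTrdeg f η = (tx : Cardinal.{u}) := htx
    have httx : t = tx := by
      have : (t : Cardinal.{u}) = (tx : Cardinal.{u}) := by rw [← ht, ← htx']
      exact_mod_cast this
    have hc0 : c = 0 := by
      rw [hd, ← httx] at hfdx
      have : c + t = t := by exact_mod_cast hfdx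
      omega
    haveI : IsLocallyNoetherian (f.fiber (f.base η)) := by
      delta Scheme.Hom.fiber; infer_instance
    have hdep : LocCoh.depth ((f.fiber (f.base η)).presheaf.stalk (f.asFiber η))
        ((f.fiber (f.base η)).presheaf.stalk (f.asFiber η)) = 0 := by
      have h1 := Groth.Agent.H1.CMFib.depth_le_ringKrullDim
        ((f.fiber (f.base η)).presheaf.stalk (f.asFiber η))
      have hc' : ringKrullDim ((f.fiber (f.base η)).presheaf.stalk (f.asFiber η)) =
          ((0 : ℕ∞) : WithBot ℕ∞) := by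
        rw [hc, hc0]; rfl
      rw [hc'] at h1
      have h2 : LocCoh.depth ((f.fiber (f.base η)).presheaf.stalk (f.asFiber η))
        ((f.fiber (f.base η)).presheaf.stalk (f.asFiber η)) ≤ 0 := by exact_mod_cast h1
      exact le_antisymm h2 zero_le
    have hηC : η ∈ C t := by
      change ¬ (((t + 1 : ℕ) : WithBot ℕ∞) ≤
        ((LocCoh.depth ((f.fiber (f.base η)).presheaf.stalk (f.asFiber η))
          ((f.fiber (f.base η)).presheaf.stalk (f.asFiber η)) : ℕ∞) : WithBot ℕ∞) +
          topologicalKrullDim ↥(closure ({f.asFiber η} : Set ↥(f.fiber (f.base η)))))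
      have hcl' : topologicalKrullDim ↥(closure ({f.asFiber η} : Set ↥(f.fiber (f.base η)))) =
        (t : WithBot ℕ∞) := hcl
      rw [hcl', hdep]
      exact arith_ass' t
    have hxBad : x ∈ Bad t := ⟨η, hηC, hηsp, hfη, by rw [ht]⟩
    have htd : d₀ ≤ t := by
      by_contra hlt
      exact hx t (Finset.mem_range.mpr (by omega)) hxBad
    rw [hd₀, ← hηdim, hd, hc0, zero_add]
    exact_mod_cast htd

end Groth.Agent.H2.Rk
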