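import Mathlib
import Groth.Prelude.Def_CAlg
import Groth.Prelude.Def_EGA4b
import Groth.Prelude.Def_Dual3
import Groth.Prelude.Def_Flat
import Groth.Prelude.Def_FDesc
import Groth.Agent.Lib.Helper2.RkD
import Groth.Agent.Lib.Helper2.RkJ
import Groth.Agent.Lib.Helper1.FibCompC
import Groth.Agent.Lib.Helper1.EquidimLocC

/-! # EGA IV 12.1.6: the locus where the fibre is geometrically `(R_k)`, equidimensional and without
embedded component is open (flat morphisms locally of finite presentation) -/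

set_option autoImplicit false
set_option linter.style.haveILetI false
universe u

open AlgebraicGeometry CategoryTheory

namespace Groth.Agent.H2.Rk

open Groth.Agent.H2.Idl Groth.Agent.LD.QC Groth.Agent.H2.Sk Groth.Agent.H1.StalkGen

variable {X Y : Scheme.{u}} (f : X ⟶ Y)

theorem isOpen_geomRk_eqLocus [Flat f] [LocallyOfFinitePresentation f] (k : ℕ) :
    IsOpen {x : X | GeomRkAt f k (f x) (f.asFiber x) ∧ x ∈ eqLocus f} := by
  rw [isOpen_iff_forall_mem_open]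
  rintro x₀ ⟨hR, hE⟩
  have hU₀ := isOpen_eqLocus f
  obtain ⟨VD, hVDo, hx₀VD, hVD⟩ := exists_nhd_le_fibreDimAt f x₀ hE
  have hCcl : IsClosed ((f.smoothLocus : Set X)ᶜ) := f.smoothLocus.isOpen.isClosed_compl
  obtain ⟨T, ι, hι, hr⟩ := exists_closedImmersion_range_eq _ hCcl
  by_cases hx₀s : x₀ ∈ f.smoothLocus
  · refine ⟨eqLocus f ∩ (f.smoothLocus : Set X), ?_, hU₀.inter f.smoothLocus.isOpen, ⟨hE, hx₀s⟩⟩
    rintro x ⟨hxE, hxs⟩
    refine ⟨?_, hxE⟩
    rw [geomRkAt_asFiber_iff]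
    intro z hz _ _
    exact hz.mem_open f.smoothLocus.isOpen hxs
  · have hx₀r : x₀ ∈ Set.range ι := by rw [hr]; exact hx₀s
    obtain ⟨t₀, rfl⟩ := hx₀r
    set g := ι ≫ f with hg
    haveI : LocallyOfFiniteType g := inferInstance
    have hgf : ∀ t : T, g t = f (ι t) := fun t => rfl
    -- the dimensions at the base point
    obtain ⟨c₀, τ₀, hc₀, hτ₀, -, hd₀⟩ := exists_dims f (ι t₀)
    obtain ⟨t₁, ht₁g, ht₁sp, ht₁max, ht₁dim⟩ :=
      Groth.Agent.H1.FibGen.exists_fibre_generic_fibreDimAt_eq g t₀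
    obtain ⟨e₀, he₀, hge₀⟩ := Groth.Agent.H1.HypSec.fibreDimAt_comp_eq_resTrdeg ι f t₁
      (fun t' ht' hsp' => ht₁max t' (ht'.trans ht₁g) hsp')
    obtain ⟨c₁, τ₁, hc₁, hτ₁, -, hd₁⟩ := exists_dims f (ι t₁)
    have hτe : τ₁ = e₀ := by
      have he₀' : Dual3.resTrdeg f (ι t₁) = (e₀ : Cardinal.{u}) := he₀
      have : (τ₁ : Cardinal.{u}) = (e₀ : Cardinal.{u}) := by rw [← hτ₁, ← he₀']
      exact_mod_cast this
    have hz₀sp : ι t₁ ⤳ ι t₀ := ht₁sp.map ι.continuous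
    have hz₀f : f (ι t₁) = f (ι t₀) := ht₁g
    have hz₀ns : ι t₁ ∉ f.smoothLocus := by
      have : ι t₁ ∈ Set.range ι := ⟨t₁, rfl⟩
      rw [hr] at this
      exact this
    have hkc : k < c₁ := by
      by_contra hle
      apply hz₀ns
      refine (geomRkAt_asFiber_iff f k (ι t₀)).mp hR (ι t₁) hz₀sp hz₀f ?_
      rw [hc₁]
      exact_mod_cast not_lt.mp hle
    have hle₀ := Groth.Agent.H1.EquidimLoc.fibreDimAt_le_of_specializes f hz₀sp
    rw [hd₁, hd₀] at hle₀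
    have hle₀' : c₁ + τ₁ ≤ c₀ + τ₀ := by exact_mod_cast hle₀
    -- Chevalley
    have hWo := Groth.Agent.H1.FibComp.isOpen_fibreDimAt_le' g (e₀ : WithBot ℕ∞)
    obtain ⟨W', hW'o, hW'⟩ := (ι.isEmbedding.isInducing.isOpen_iff).mp hWo
    have ht₀W : ι t₀ ∈ W' := by
      have : t₀ ∈ ι ⁻¹' W' := by
        rw [hW']
        change FlatMor.fibreDimAt g t₀ ≤ _
        rw [← ht₁dim, hge₀]
      exact this
    refine ⟨eqLocus f ∩ VD ∩ W', ?_, (hU₀.inter hVDo).inter hW'o, ⟨⟨hE, hx₀VD⟩, ht₀W⟩⟩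
    rintro x ⟨⟨hxE, hxVD⟩, hxW⟩
    refine ⟨?_, hxE⟩
    rw [geomRkAt_asFiber_iff]
    intro z hz hfz hcz
    by_contra hzs
    have hzr : z ∈ Set.range ι := by rw [hr]; exact hzs
    obtain ⟨tz, rfl⟩ := hzr
    obtain ⟨t, htg, htsp, htmax, htdim⟩ :=
      Groth.Agent.H1.FibGen.exists_fibre_generic_fibreDimAt_eq g tz
    obtain ⟨e, he, hge⟩ := Groth.Agent.H1.HypSec.fibreDimAt_comp_eq_resTrdeg ι f t
      (fun t' ht' hsp' => htmax t' (ht'.trans htg) hsp')
    obtain ⟨c, τ, hc, hτ, -, hd⟩ := exists_dims f (ι t)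
    have hτe' : τ = e := by
      have he' : Dual3.resTrdeg f (ι t) = (e : Cardinal.{u}) := he
      have : (τ : Cardinal.{u}) = (e : Cardinal.{u}) := by rw [← hτ, ← he']
      exact_mod_cast this
    have hz₁sp : ι t ⤳ ι tz := htsp.map ι.continuous
    have hz₁x : ι t ⤳ x := hz₁sp.trans hz
    have hz₁f : f (ι t) = f (ι tz) := htg
    -- `ι t` lies in the neighbourhood
    have h1 : FlatMor.fibreDimAt f (ι t₀) ≤ FlatMor.fibreDimAt f (ι t) :=
      hVD _ (hz₁x.mem_open hVDo hxVD)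
    rw [hd₀, hd] at h1
    have h1' : c₀ + τ₀ ≤ c + τ := by exact_mod_cast h1
    have h2 : t ∈ ι ⁻¹' W' := hz₁x.mem_open hW'o hxW
    rw [hW'] at h2
    have h2' : FlatMor.fibreDimAt g t ≤ (e₀ : WithBot ℕ∞) := h2
    rw [hge] at h2'
    have h2'' : e ≤ e₀ := by exact_mod_cast h2'
    have h3 := dim_stalk_fiber_mono f hz₁sp hz₁f
    have h3' : ringKrullDim ((f.fiber (f (ι t))).presheaf.stalk (f.asFiber (ι t))) ≤
        (k : WithBot ℕ∞) := h3.trans hcz
    rw [hc] at h3'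
    have h3'' : c ≤ k := by exact_mod_cast h3'
    omega

end Groth.Agent.H2.Rk
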