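import Mathlib
import Groth.Prelude.Def_CAlg
import Groth.Prelude.Def_EGA4b
import Groth.Prelude.Def_FDesc
import Groth.Agent.Lib.Helper2.RkK
import Groth.Agent.Lib.Helper2.FibConsSk
import Groth.Agent.Lib.Helper1.SmoothReg
import Groth.Agent.Lib.Helper6.SerreNormal

/-! # Geometric normality at a point of a fibre: `(R_1)` geometrically and `(S_2)`;
openness for flat morphisms locally of finite presentation (EGA IV 12.1.6) -/

set_option autoImplicit false
set_option linter.style.haveILetI false
universe u

open AlgebraicGeometry CategoryTheory CategoryTheory.Limits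

namespace Groth.Agent.H2.Rk

open Groth.Agent.H2.Sk Groth.Agent.H1.StalkGen Groth.Agent.H2.FibCons

variable {X Y : Scheme.{u}} (f : X ⟶ Y)

/-- the geometric normality at a point of a fibre, in the form of the statements. -/
def GeomNormalAt (y : Y) (w : ↥(f.fiber y)) : Prop :=
  ∀ (K : Type u) [Field K] [Algebra (IsLocalRing.ResidueField (Y.presheaf.stalk y)) K],
    Module.Finite (IsLocalRing.ResidueField (Y.presheaf.stalk y)) K →
    ∀ x' : ↥(FBase.bc (f.fiberToSpecResidueField y) K),
      (FBase.bcπ (f.fiberToSpecResidueField y) K).base x' = w →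
      IsDomain ((FBase.bc (f.fiberToSpecResidueField y) K).presheaf.stalk x') ∧
        IsIntegrallyClosed ((FBase.bc (f.fiberToSpecResidueField y) K).presheaf.stalk x')

/-- the geometric `(R_n)` condition implies `(R_n)`. -/
theorem hasRk_of_geomRkAt [LocallyOfFinitePresentation f] (n : ℕ) (y : Y) (w : ↥(f.fiber y))
    (h : GeomRkAt f n y w) : LocCoh.HasRk n ((f.fiber y).presheaf.stalk w) := by
  rw [geomRkAt_iff] at h
  rw [hasRk_stalk_iff_generizations]
  intro z hz hdim
  exact @Groth.Agent.H1.SmoothReg.isRegularLocalRing_of_mem_smoothLocus _ _ _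
    (f.fiberToSpecResidueField y) (lfp_fiberToSpecResidueField f y) z (h z hz hdim)

/-- invariance of `(S_n)` under finite extension of the base field, at the points of a fibre. -/
theorem hasSk_bc_fibre [LocallyOfFinitePresentation f] (n : ℕ) (y : Y)
    (K : Type u) [Field K] [Algebra (IsLocalRing.ResidueField (Y.presheaf.stalk y)) K]
    (x' : ↥(FBase.bc (f.fiberToSpecResidueField y) K)) :
    LocCoh.HasSk n ((f.fiber y).presheaf.stalk ((FBase.bcπ (f.fiberToSpecResidueField y) K).base x'))
        ((f.fiber y).presheaf.stalk ((FBase.bcπ (f.fiberToSpecResidueField y) K).base x')) ↔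
      LocCoh.HasSk n ((FBase.bc (f.fiberToSpecResidueField y) K).presheaf.stalk x')
        ((FBase.bc (f.fiberToSpecResidueField y) K).presheaf.stalk x') := by
  letI ov : (f.fiber y).Over (Spec (CommRingCat.of (IsLocalRing.ResidueField (Y.presheaf.stalk y)))) :=
    ⟨f.fiberToSpecResidueField y⟩
  haveI : LocallyOfFiniteType
      ((f.fiber y) ↘ (Spec (CommRingCat.of (IsLocalRing.ResidueField (Y.presheaf.stalk y))))) := by
    haveI := lfp_fiberToSpecResidueField f y
    show LocallyOfFiniteType (f.fiberToSpecResidueField y)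
    infer_instance
  exact p_stalk_bc (ringFibProp_hasSk n) (IsLocalRing.ResidueField (Y.presheaf.stalk y))
    (f.fiber y) K x'

theorem isLocallyNoetherian_bc [LocallyOfFinitePresentation f] (y : Y)
    (K : Type u) [Field K] [Algebra (IsLocalRing.ResidueField (Y.presheaf.stalk y)) K] :
    IsLocallyNoetherian (FBase.bc (f.fiberToSpecResidueField y) K) := by
  have hlft : LocallyOfFiniteType (f.fiberToSpecResidueField y) :=
    Groth.Agent.H1.Chev.locallyOfFiniteType_fiberToSpecResidueField f y
  haveI : LocallyOfFiniteType (FBase.bcStr (f.fiberToSpecResidueField y) K) :=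
    MorphismProperty.pullback_snd _ _ hlft
  exact LocallyOfFiniteType.isLocallyNoetherian (FBase.bcStr (f.fiberToSpecResidueField y) K)

/-- **Serre's criterion, geometric form.** -/
theorem geomNormalAt_iff [LocallyOfFinitePresentation f] (y : Y) (w : ↥(f.fiber y)) :
    GeomNormalAt f y w ↔ GeomRkAt f 1 y w ∧
      LocCoh.HasSk 2 ((f.fiber y).presheaf.stalk w) ((f.fiber y).presheaf.stalk w) := by
  constructor
  · intro h
    have h1 : GeomRkAt f 1 y w := by
      intro K _ _ hfin x' hx'
      haveI := isLocallyNoetherian_bc f y K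
      obtain ⟨hd, hic⟩ := h K hfin x' hx'
      haveI := hd
      haveI := hic
      exact (Groth.Agent.H6.SerreNormal.hasRk_hasSk_of_normal _).1
    refine ⟨h1, ?_⟩
    -- the trivial extension
    haveI : Surjective (Spec.map (CommRingCat.ofHom
        (algebraMap (IsLocalRing.ResidueField (Y.presheaf.stalk y))
          (IsLocalRing.ResidueField (Y.presheaf.stalk y))))) := by
      have : Spec.map (CommRingCat.ofHom
        (algebraMap (IsLocalRing.ResidueField (Y.presheaf.stalk y))
          (IsLocalRing.ResidueField (Y.presheaf.stalk y)))) = 𝟙 _ := by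
        change Spec.map (𝟙 _) = _
        exact Spec.map_id _
      rw [this]
      infer_instance
    haveI : Surjective (FBase.bcπ (f.fiberToSpecResidueField y)
        (IsLocalRing.ResidueField (Y.presheaf.stalk y))) :=
      MorphismProperty.pullback_fst _ _ inferInstance
    obtain ⟨x', hx'⟩ := (FBase.bcπ (f.fiberToSpecResidueField y)
        (IsLocalRing.ResidueField (Y.presheaf.stalk y))).surjective w
    haveI := isLocallyNoetherian_bc f y (IsLocalRing.ResidueField (Y.presheaf.stalk y))
    obtain ⟨hd, hic⟩ := h (IsLocalRing.ResidueField (Y.presheaf.stalk y)) inferInstance x' hx'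
    haveI := hd
    haveI := hic
    have h2 := (Groth.Agent.H6.SerreNormal.hasRk_hasSk_of_normal
      ((FBase.bc (f.fiberToSpecResidueField y)
        (IsLocalRing.ResidueField (Y.presheaf.stalk y))).presheaf.stalk x')).2
    have h3 := (hasSk_bc_fibre f 2 y (IsLocalRing.ResidueField (Y.presheaf.stalk y)) x').mpr h2
    have hx'' : (FBase.bcπ (f.fiberToSpecResidueField y)
        (IsLocalRing.ResidueField (Y.presheaf.stalk y))).base x' = w := hx'
    rw [hx''] at h3
    exact h3
  · rintro ⟨h1, h2⟩ K _ _ hfin x' hx'
    haveI := isLocallyNoetherian_bc f y K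
    have hR := h1 K hfin x' hx'
    have hS := (hasSk_bc_fibre f 2 y K x').mp (by rw [hx']; exact h2)
    exact Groth.Agent.H6.SerreNormal.normal_of_R1_S2 _ hR hS

end Groth.Agent.H2.Rk
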