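import Mathlib
import Groth.Prelude.Def_CAlg
import Groth.Prelude.Def_EGA4b
import Groth.Prelude.Def_FDesc
import Groth.Agent.Lib.Helper2.RkL

/-! # Openness of the geometrically normal locus of the fibres (flat morphisms locally of finite
presentation), EGA IV 12.1.6 -/

set_option autoImplicit false
set_option linter.style.haveILetI false
universe u

open AlgebraicGeometry CategoryTheory CategoryTheory.Limits

namespace Groth.Agent.H2.Rk

open Groth.Agent.H2.Sk Groth.Agent.H1.StalkGen Groth.Agent.H2.FibCons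

variable {X Y : Scheme.{u}} (f : X ⟶ Y)

theorem isEquidim_of_isDomain' (R : Type u) [CommRing R] [IsDomain R] : EGA4.IsEquidim R := by
  intro p hp
  rw [IsDomain.minimalPrimes_eq_singleton_bot] at hp
  have : p = ⊥ := hp
  subst this
  exact ringKrullDim_eq_of_ringEquiv (RingEquiv.quotientBot R)

theorem geomNormalAt_iff' [LocallyOfFinitePresentation f] (x : X) :
    GeomNormalAt f (f x) (f.asFiber x) ↔
      (GeomRkAt f 1 (f x) (f.asFiber x) ∧ x ∈ eqLocus f) ∧
        LocCoh.HasSk 2 ((f.fiber (f.base x)).presheaf.stalk (f.asFiber x))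
          ((f.fiber (f.base x)).presheaf.stalk (f.asFiber x)) := by
  rw [geomNormalAt_iff]
  constructor
  · rintro ⟨hR, hS⟩
    refine ⟨⟨hR, ?_⟩, hS⟩
    haveI : IsLocallyNoetherian (f.fiber (f.base x)) := by
      delta Scheme.Hom.fiber; infer_instance
    have hR1 := hasRk_of_geomRkAt f 1 _ _ hR
    obtain ⟨hd, -⟩ := Groth.Agent.H6.SerreNormal.normal_of_R1_S2 _ hR1 hS
    haveI := hd
    refine ⟨isEquidim_of_isDomain' _, ?_⟩
    exact (hasSk_one_self_iff _).mp
      (Groth.Agent.H6.SerreNormal.hasSk_mono (by norm_num : 1 ≤ 2) hS)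
  · rintro ⟨⟨hR, -⟩, hS⟩
    exact ⟨hR, hS⟩

/-- **EGA IV 12.1.6 (normal)**: for `f` flat and locally of finite presentation, the set of points
at which the fibre is geometrically normal is open. -/
theorem isOpen_geomNormalAt [Flat f] [LocallyOfFinitePresentation f] :
    IsOpen {x : X | GeomNormalAt f (f x) (f.asFiber x)} := by
  have h1 := isOpen_geomRk_eqLocus f 1
  have h2 := Groth.Agent.H2.Sk.isOpen_fibre_hasSk f 2
  convert h1.inter h2 using 1
  ext x
  exact geomNormalAt_iff' f x

end Groth.Agent.H2.Rk
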