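import Groth.Agent.Lib.Helper2.GrassAlgA
import Groth.Agent.H4.Fitting5

/-! # Base change of arbitrary submodules of `A ⊗ M`, and vanishing of base changes of finite
modules via the zeroth Fitting ideal. -/

universe u v w
open TensorProduct Module Module.Grassmannian

namespace Groth.Agent.H2.GrassAlg

section fitt
open Groth.Agent.H4.Fitting

variable {A : Type u} [CommRing A] {C : Type v} [AddCommGroup C] [Module A C]

lemma fitt_zero_le_annihilator : Fitt.ideal A C 0 ≤ Module.annihilator A C := by
  classical
  refine Ideal.span_le.mpr ?_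
  rintro d ⟨n, x, a, hx, hr, rfl⟩
  rw [SetLike.mem_coe, Module.mem_annihilator]
  intro c
  have hc : c ∈ Submodule.span A (Set.range x) := hx ▸ Submodule.mem_top
  induction hc using Submodule.span_induction with
  | mem c hc =>
    obtain ⟨j, rfl⟩ := hc
    rw [det_smul_eq_sum x a j]
    apply Finset.sum_eq_zero
    intro i _
    rw [hr i (by have := i.2; omega), smul_zero]
  | zero => simp
  | add c c' _ _ h h' => rw [smul_add, h, h', add_zero]
  | smul r c _ h => rw [smul_comm, h, smul_zero]

lemma fitt_zero_eq_top_iff [Module.Finite A C] :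
    Fitt.ideal A C 0 = ⊤ ↔ Subsingleton C := by
  constructor
  · intro h
    have h1 : (1 : A) ∈ Module.annihilator A C := by
      apply fitt_zero_le_annihilator
      rw [h]
      trivial
    rw [Module.mem_annihilator] at h1
    exact ⟨fun a b => by rw [← one_smul A a, ← one_smul A b, h1 a, h1 b]⟩
  · intro h
    apply ideal_eq_top_of_span (ι := Fin 0) (fun i => i.elim0)
    · rw [eq_top_iff]
      intro c _
      rw [Subsingleton.elim c 0]
      exact zero_mem _
    · simp

/-- A finite module dies after base change iff its zeroth Fitting ideal generates the unit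
ideal. -/
lemma subsingleton_tensor_iff (B : Type w) [CommRing B] [Algebra A B] [Module.Finite A C] :
    Subsingleton (B ⊗[A] C) ↔ (Fitt.ideal A C 0).map (algebraMap A B) = ⊤ := by
  rw [← ideal_baseChange B C 0, fitt_zero_eq_top_iff]

end fitt

variable {R : Type u} [CommRing R] {M : Type v} [AddCommGroup M] [Module R M]
variable {A : Type w} [CommRing A] [Algebra R A] {B : Type w} [CommRing B] [Algebra R B]

lemma span_bc_image_span (φ : A →ₐ[R] B) (S : Set (A ⊗[R] M)) :
    Submodule.span B (bc φ '' (Submodule.span A S : Set (A ⊗[R] M))) =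
      Submodule.span B (bc φ '' S) := by
  apply le_antisymm
  · rw [Submodule.span_le]
    rintro _ ⟨y, hy, rfl⟩
    induction hy using Submodule.span_induction with
    | mem y hy => exact Submodule.subset_span ⟨y, hy, rfl⟩
    | zero => rw [map_zero]; exact zero_mem _
    | add y y' _ _ h h' => rw [map_add]; exact add_mem h h'
    | smul a y _ h => rw [bc_smul]; exact Submodule.smul_mem _ _ h
  · exact Submodule.span_mono (Set.image_mono Submodule.subset_span)

/-- The kernel of the base-changed quotient map is spanned by the image of the submodule. -/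
lemma ker_baseChangeMkQ_eq_span (φ : A →ₐ[R] B) (N : Submodule A (A ⊗[R] M)) :
    letI : Algebra A B := φ.toAlgebra
    letI : IsScalarTower R A B :=
      IsScalarTower.of_algebraMap_eq' <| IsScalarTower.algebraMap_eq R A B
    LinearMap.ker (baseChangeMkQ B N) = Submodule.span B (bc φ '' (N : Set (A ⊗[R] M))) := by
  let _ : Algebra A B := φ.toAlgebra
  let _ : IsScalarTower R A B :=
    IsScalarTower.of_algebraMap_eq' <| IsScalarTower.algebraMap_eq R A B
  change LinearMap.ker (baseChangeMkQ B N) = _
  apply le_antisymm
  · intro z hz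
    rw [LinearMap.mem_ker] at hz
    change (N.mkQ.baseChange B)
      ((AlgebraTensorModule.cancelBaseChange R A B B M).symm z) = 0 at hz
    have hz' : (AlgebraTensorModule.cancelBaseChange R A B B M).symm z ∈
        LinearMap.ker (N.mkQ.lTensor B) := by
      rw [LinearMap.mem_ker, ← LinearMap.baseChange_eq_ltensor]
      exact hz
    rw [lTensor_mkQ] at hz'
    obtain ⟨t, ht⟩ := hz'
    have hz2 : z = AlgebraTensorModule.cancelBaseChange R A B B M
        (N.subtype.lTensor B t) := by
      rw [ht, LinearEquiv.apply_symm_apply]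
    rw [hz2]
    clear hz2 ht hz
    induction t using TensorProduct.induction_on with
    | zero => simp
    | tmul b n =>
      have h3 : AlgebraTensorModule.cancelBaseChange R A B B M
          (N.subtype.lTensor B (b ⊗ₜ[A] n)) = b • bc φ (n : A ⊗[R] M) := by
        rw [LinearMap.lTensor_tmul, Submodule.subtype_apply]
        generalize (n : A ⊗[R] M) = y
        induction y using TensorProduct.induction_on with
        | zero => simp
        | tmul a m =>
          rw [AlgebraTensorModule.cancelBaseChange_tmul, bc_tmul, TensorProduct.smul_tmul',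
            Algebra.smul_def, smul_eq_mul, mul_comm]
          rfl
        | add x y hx hy => simp only [TensorProduct.tmul_add, map_add, smul_add, hx, hy]
      rw [h3]
      exact Submodule.smul_mem _ _ (Submodule.subset_span ⟨n, n.2, rfl⟩)
    | add x y hx hy =>
      rw [map_add, map_add]
      exact Submodule.add_mem _ hx hy
  · rw [Submodule.span_le]
    rintro _ ⟨y, hy, rfl⟩
    rw [SetLike.mem_coe, LinearMap.mem_ker]
    have h1 := baseChangeMkQ_bc φ N y
    change baseChangeMkQ B N (bc φ y) = (1 : B) ⊗ₜ[A] N.mkQ y at h1
    rw [h1, Submodule.mkQ_apply, (Submodule.Quotient.mk_eq_zero _).mpr hy, TensorProduct.tmul_zero]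

/-- **Base change of a submodule fills everything iff the Fitting ideal of the quotient generates
the unit ideal.** -/
lemma span_bc_eq_top_iff [Module.Finite R M] (φ : A →ₐ[R] B) (N : Submodule A (A ⊗[R] M)) :
    Submodule.span B (bc φ '' (N : Set (A ⊗[R] M))) = ⊤ ↔
      (Fitt.ideal A (A ⊗[R] M ⧸ N) 0).map φ = ⊤ := by
  let _ : Algebra A B := φ.toAlgebra
  let _ : IsScalarTower R A B :=
    IsScalarTower.of_algebraMap_eq' <| IsScalarTower.algebraMap_eq R A B
  have h1 := ker_baseChangeMkQ_eq_span φ N
  change LinearMap.ker (baseChangeMkQ B N) = _ at h1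
  rw [← h1]
  have h2 := subsingleton_tensor_iff (A := A) (C := A ⊗[R] M ⧸ N) B
  change _ ↔ (Fitt.ideal A (A ⊗[R] M ⧸ N) 0).map φ = ⊤ at h2
  rw [← h2]
  constructor
  · intro h
    refine ⟨fun a b => ?_⟩
    obtain ⟨a', rfl⟩ := baseChangeMkQ_surjective (B := B) N a
    obtain ⟨b', rfl⟩ := baseChangeMkQ_surjective (B := B) N b
    have ha : a' ∈ LinearMap.ker (baseChangeMkQ B N) := h ▸ Submodule.mem_top
    have hb : b' ∈ LinearMap.ker (baseChangeMkQ B N) := h ▸ Submodule.mem_top
    rw [LinearMap.mem_ker.mp ha, LinearMap.mem_ker.mp hb]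
  · intro h
    rw [eq_top_iff]
    intro z _
    rw [LinearMap.mem_ker]
    exact Subsingleton.elim _ _

end Groth.Agent.H2.GrassAlg
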