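import Mathlib
import Groth.Prelude.Def_CInt
import Groth.Agent.Lib.Helper1.FibreStalk
import Groth.Agent.Lib.Helper1.FlatDimLocal

/-! Dimension of fibre local rings under flat morphisms. -/

universe u
set_option linter.style.haveILetI false

open AlgebraicGeometry CategoryTheory IsLocalRing TensorProduct

namespace Groth.Agent.H2.FibDim2

/-- for a flat local homomorphism `A → A'` and a proper ideal `I`, `dim A/I ≤ dim A'/IA'` -/
theorem ringKrullDim_quotient_le_of_flat (A A' : Type u) [CommRing A] [CommRing A'] [IsLocalRing A]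
    [IsLocalRing A'] [Algebra A A'] [IsLocalHom (algebraMap A A')] [Module.Flat A A']
    (I : Ideal A) (hI : I ≠ ⊤) :
    ringKrullDim (A ⧸ I) ≤ ringKrullDim (A' ⧸ I.map (algebraMap A A')) := by
  haveI : Nontrivial (A ⧸ I) := Ideal.Quotient.nontrivial_iff.mpr hI
  haveI : IsLocalRing (A ⧸ I) :=
    IsLocalRing.of_surjective' (Ideal.Quotient.mk I) Ideal.Quotient.mk_surjective
  have hle : I.map (algebraMap A A') ≤ maximalIdeal A' :=
    (Ideal.map_mono (IsLocalRing.le_maximalIdeal hI)).trans
      (IsLocalRing.map_maximalIdeal_le (algebraMap A A'))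
  haveI : Nontrivial (A' ⧸ I.map (algebraMap A A')) :=
    Ideal.Quotient.nontrivial_iff.mpr (fun h => by
      rw [h] at hle
      exact (maximalIdeal.isMaximal A').ne_top (top_le_iff.mp hle))
  haveI : IsLocalRing (A' ⧸ I.map (algebraMap A A')) :=
    IsLocalRing.of_surjective' (Ideal.Quotient.mk _) Ideal.Quotient.mk_surjective
  haveI : Module.Flat (A ⧸ I) (A' ⧸ I.map (algebraMap A A')) :=
    Module.Flat.of_linearEquiv
      (Algebra.TensorProduct.quotIdealMapEquivQuotTensor A' I).toLinearEquiv
  haveI : IsLocalHom (algebraMap (A ⧸ I) (A' ⧸ I.map (algebraMap A A'))) := by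
    refine ⟨fun a ha => ?_⟩
    obtain ⟨a, rfl⟩ := Ideal.Quotient.mk_surjective a
    rw [Ideal.Quotient.algebraMap_quotient_map_quotient] at ha
    haveI : IsLocalHom (Ideal.Quotient.mk (I.map (algebraMap A A'))) :=
      IsLocalHom.of_surjective _ Ideal.Quotient.mk_surjective
    have h1 : IsUnit (algebraMap A A' a) := isUnit_of_map_unit _ _ ha
    have h2 : IsUnit a := isUnit_of_map_unit _ _ h1
    exact h2.map _
  exact Groth.Agent.H1.FlatDim.ringKrullDim_le_of_flat_isLocalHom _ _

/-- the local rings of the fibres grow in dimension along a flat morphism -/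
theorem ringKrullDim_fiberStalk_le_comp {X X' S : Scheme.{u}} (f : X ⟶ S) (g : X' ⟶ X) [Flat g]
    (y' : X') :
    ringKrullDim (CInt.fiberStalk f (g y')) ≤ ringKrullDim (CInt.fiberStalk (g ≫ f) y') := by
  letI : Algebra (X.presheaf.stalk (g y')) (X'.presheaf.stalk y') := (g.stalkMap y').hom.toAlgebra
  haveI : Module.Flat (X.presheaf.stalk (g y')) (X'.presheaf.stalk y') := Flat.stalkMap g y'
  haveI : IsLocalHom (algebraMap (X.presheaf.stalk (g y')) (X'.presheaf.stalk y')) :=
    inferInstanceAs (IsLocalHom (g.stalkMap y').hom)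
  set I := (maximalIdeal (S.presheaf.stalk (f (g y')))).map (f.stalkMap (g y')).hom with hI
  have hIne : I ≠ ⊤ := by
    intro h
    have hle : I ≤ maximalIdeal (X.presheaf.stalk (g y')) :=
      IsLocalRing.map_maximalIdeal_le (f.stalkMap (g y')).hom
    rw [h] at hle
    exact (maximalIdeal.isMaximal _).ne_top (top_le_iff.mp hle)
  have h1 := ringKrullDim_quotient_le_of_flat (X.presheaf.stalk (g y')) (X'.presheaf.stalk y') I
    hIne
  have hmap : I.map (algebraMap (X.presheaf.stalk (g y')) (X'.presheaf.stalk y')) =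
      (maximalIdeal (S.presheaf.stalk ((g ≫ f) y'))).map ((g ≫ f).stalkMap y').hom := by
    rw [hI, Ideal.map_map, Scheme.Hom.stalkMap_comp]
    rfl
  rw [ringKrullDim_eq_of_ringEquiv (Groth.Agent.H1.FibreStalk.fiberStalkEquiv f (g y')),
    ringKrullDim_eq_of_ringEquiv (Ideal.quotEquivOfEq hmap),
    ringKrullDim_eq_of_ringEquiv (Groth.Agent.H1.FibreStalk.fiberStalkEquiv (g ≫ f) y')] at h1
  exact h1

end Groth.Agent.H2.FibDim2
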