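import Mathlib
open CategoryTheory Functor
universe v₁ u₁ v₂ u₂

namespace Groth.Agent.H2.FibOver

variable {𝒮 : Type u₁} [Category.{v₁} 𝒮] {C : Type u₂} [Category.{v₂} C] {U : C}

lemma over_ext {X Y : Over U} (h : X.left = Y.left) (w : X.hom = eqToHom h ≫ Y.hom) : X = Y := by
  obtain ⟨Xl, ⟨⟨⟩⟩, Xh⟩ := X
  obtain ⟨Yl, ⟨⟨⟩⟩, Yh⟩ := Y
  change Xl = Yl at h
  subst h
  simp at w
  subst w
  rfl

lemma isHomLift_over (p' : 𝒮 ⥤ Over U) {R : Over U} {a b : 𝒮} (f : R ⟶ p'.obj b) (φ : a ⟶ b)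
    (h : (p' ⋙ Over.forget U).IsHomLift (f.left : R.left ⟶ (p' ⋙ Over.forget U).obj b) φ) :
    p'.IsHomLift f φ := by
  have hdom : (p'.obj a).left = R.left :=
    IsHomLift.domain_eq (p' ⋙ Over.forget U) (f.left : R.left ⟶ (p' ⋙ Over.forget U).obj b) φ
  have hfac := IsHomLift.fac' (p' ⋙ Over.forget U) (f.left : R.left ⟶ (p' ⋙ Over.forget U).obj b) φ
  dsimp at hfac
  have hR : p'.obj a = R := by
    refine over_ext hdom ?_
    rw [← Over.w (p'.map φ), hfac]
    simp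
  subst hR
  have : f = p'.map φ := by
    ext
    simpa using hfac.symm
  subst this
  infer_instance

theorem isFibered_of_comp_forget (p' : 𝒮 ⥤ Over U) [(p' ⋙ Over.forget U).IsFibered] :
    p'.IsFibered := by
  apply IsFibered.of_exists_isStronglyCartesian
  intro a R f
  let fl : R.left ⟶ (p' ⋙ Over.forget U).obj a := f.left
  obtain ⟨b, φ, hφ⟩ := IsPreFibered.exists_isCartesian' (p := p' ⋙ Over.forget U) (a := a) fl
  have hsc : (p' ⋙ Over.forget U).IsStronglyCartesian fl φ := inferInstance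
  refine ⟨b, φ, ?_⟩
  have hlift : p'.IsHomLift f φ := isHomLift_over p' f φ hφ.toIsHomLift
  have hR : p'.obj b = R := IsHomLift.domain_eq p' f φ
  subst hR
  refine { toIsHomLift := hlift, universal_property' := ?_ }
  intro a' g φ' hφ'
  let gl : (p' ⋙ Over.forget U).obj a' ⟶ (p'.obj b).left := g.left
  have h1 : (p' ⋙ Over.forget U).IsHomLift (gl ≫ fl) φ' := by
    have : (g ≫ f) = p'.map φ' := IsHomLift.eq_of_isHomLift p' (g ≫ f) φ'
    have h2 : gl ≫ fl = (p' ⋙ Over.forget U).map φ' := by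
      change (g ≫ f).left = _
      rw [this]
      rfl
    rw [h2]
    exact IsHomLift.map (p' ⋙ Over.forget U) φ'
  obtain ⟨χ, ⟨hχ1, hχ2⟩, huniq⟩ := IsStronglyCartesian.universal_property'
    (p := p' ⋙ Over.forget U) (f := fl) (φ := φ) gl φ'
  refine ⟨χ, ⟨isHomLift_over p' g χ hχ1, hχ2⟩, ?_⟩
  rintro χ' ⟨h1', h2'⟩
  apply huniq
  refine ⟨?_, h2'⟩
  have : g = p'.map χ' := IsHomLift.eq_of_isHomLift p' g χ'
  have h2 : gl = (p' ⋙ Over.forget U).map χ' := by
    change g.left = _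
    rw [this]
    rfl
  rw [h2]
  exact IsHomLift.map (p' ⋙ Over.forget U) χ'

end Groth.Agent.H2.FibOver
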