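import Mathlib
open CategoryTheory CategoryTheory.Limits Functor
universe v₁ u₁ v₂ u₂

namespace Groth.Agent.H2.FibProd

theorem fibre_product {𝒮 : Type u₁} [Category.{v₁} 𝒮] {C : Type u₂} [Category.{v₂} C] (p : 𝒮 ⥤ C) {x y z w : 𝒮} (φ : x ⟶ y) (ψ : z ⟶ y)
    [p.IsStronglyCartesian (p.map φ) φ] [HasPullback (p.map φ) (p.map ψ)] (a : w ⟶ z)
    [p.IsStronglyCartesian (pullback.snd (p.map φ) (p.map ψ)) a] :
    ∃ b : w ⟶ x, p.IsHomLift (pullback.fst (p.map φ) (p.map ψ)) b ∧ IsPullback b a φ ψ := by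
  set fst := pullback.fst (p.map φ) (p.map ψ) with hfst
  set snd := pullback.snd (p.map φ) (p.map ψ) with hsnd
  have hcond : snd ≫ p.map ψ = fst ≫ p.map φ := pullback.condition.symm
  have : p.IsHomLift (snd ≫ p.map ψ) (a ≫ ψ) := inferInstance
  let b : w ⟶ x := IsStronglyCartesian.map p (p.map φ) φ hcond (a ≫ ψ)
  have hb : p.IsHomLift fst b := IsStronglyCartesian.map_isHomLift p (p.map φ) φ hcond (a ≫ ψ)
  have hbφ : b ≫ φ = a ≫ ψ := IsStronglyCartesian.fac p (p.map φ) φ hcond (a ≫ ψ)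
  refine ⟨b, hb, ⟨⟨hbφ⟩, ⟨?_⟩⟩⟩
  -- the lift
  have hm : ∀ (s : PullbackCone φ ψ), p.map s.fst ≫ p.map φ = p.map s.snd ≫ p.map ψ := by
    intro s
    rw [← p.map_comp, ← p.map_comp, s.condition]
  let m : ∀ (s : PullbackCone φ ψ), p.obj s.pt ⟶ pullback (p.map φ) (p.map ψ) :=
    fun s => pullback.lift (p.map s.fst) (p.map s.snd) (hm s)
  have hm1 : ∀ s, m s ≫ fst = p.map s.fst := fun s => pullback.lift_fst _ _ _
  have hm2 : ∀ s, m s ≫ snd = p.map s.snd := fun s => pullback.lift_snd _ _ _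
  let k : ∀ (s : PullbackCone φ ψ), s.pt ⟶ w :=
    fun s => IsStronglyCartesian.map p snd a (hm2 s).symm s.snd
  have hk : ∀ s, p.IsHomLift (m s) (k s) :=
    fun s => IsStronglyCartesian.map_isHomLift p snd a (hm2 s).symm s.snd
  have hka : ∀ s, k s ≫ a = s.snd := fun s => IsStronglyCartesian.fac p snd a (hm2 s).symm s.snd
  refine PullbackCone.IsLimit.mk _ k ?_ hka ?_
  · intro s
    have := hk s
    have : p.IsHomLift (m s ≫ fst) (k s ≫ b) := inferInstance
    have : p.IsHomLift (m s ≫ fst) s.fst := by rw [hm1 s]; infer_instance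
    apply IsStronglyCartesian.ext p (p.map φ) φ (m s ≫ fst)
    rw [Category.assoc, hbφ, reassoc_of% (hka s), s.condition]
  · intro s k' h1 h2
    -- k' lifts some n with n = m s
    have := hk s
    have hw : p.obj w = pullback (p.map φ) (p.map ψ) := IsHomLift.domain_eq p snd a
    let n : p.obj s.pt ⟶ pullback (p.map φ) (p.map ψ) := p.map k' ≫ eqToHom hw
    have hn : p.IsHomLift n k' := by
      apply IsHomLift.of_fac' p n k' rfl hw
      simp [n]
    have hn1 : n ≫ fst = p.map s.fst := by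
      have : p.IsHomLift (n ≫ fst) (k' ≫ b) := inferInstance
      rw [IsHomLift.eq_of_isHomLift p (n ≫ fst) (k' ≫ b), h1]
    have hn2 : n ≫ snd = p.map s.snd := by
      have : p.IsHomLift (n ≫ snd) (k' ≫ a) := inferInstance
      rw [IsHomLift.eq_of_isHomLift p (n ≫ snd) (k' ≫ a), h2]
    have hnm : n = m s := by
      apply pullback.hom_ext
      · rw [hn1]; exact (hm1 s).symm
      · rw [hn2]; exact (hm2 s).symm
    rw [hnm] at hn
    exact IsStronglyCartesian.map_uniq p snd a (hm2 s).symm s.snd k' h2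

end Groth.Agent.H2.FibProd
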