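import Mathlib
import Groth.Prelude.Def_CInt

/-!
# Local rings of fibres (helper2)
-/

set_option autoImplicit false

namespace Groth.Agent.H2.FibStalk
open AlgebraicGeometry CategoryTheory

universe u

/-- the local ring of the fibre at `x` is a quotient of the local ring of `X` at `x` -/
lemma exists_surjective {X S : Scheme.{u}} (f : X ⟶ S) (x : X) :
    ∃ φ : X.presheaf.stalk x →+* CInt.fiberStalk f x, Function.Surjective φ := by
  have hx : (f.fiberι (f.base x)).base (f.asFiber x) = x := f.fiberι_asFiber x
  have h1 : Function.Surjective ((f.fiberι (f.base x)).stalkMap (f.asFiber x)) :=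
    (f.fiberι (f.base x)).stalkMap_surjective _
  refine ⟨((f.fiberι (f.base x)).stalkMap (f.asFiber x)).hom.comp
    (X.presheaf.stalkCongr (Inseparable.of_eq hx.symm)).hom.hom, ?_⟩
  rw [RingHom.coe_comp]
  refine h1.comp ?_
  exact ((X.presheaf.stalkCongr (Inseparable.of_eq hx.symm)).commRingCatIsoToRingEquiv).surjective

lemma ringKrullDim_fiberStalk_le {X S : Scheme.{u}} (f : X ⟶ S) (x : X) :
    ringKrullDim (CInt.fiberStalk f x) ≤ ringKrullDim (X.presheaf.stalk x) := by
  obtain ⟨φ, hφ⟩ := exists_surjective f x
  exact ringKrullDim_le_of_surjective φ hφ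

end Groth.Agent.H2.FibStalk
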