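import Mathlib

/-!
# Sum of local lengths of the fibre of a finite free algebra over a local ring (S14438)
-/

open IsLocalRing

namespace Groth.Agent.H2.FibreLen

section general

variable {B : Type*} [CommRing B]

/-- local length function -/
noncomputable def lam (n : Ideal B) [n.IsPrime] (M : Type*) [AddCommGroup M] [Module B M] : ℕ∞ :=
  Module.length (Localization.AtPrime n) (LocalizedModule n.primeCompl M)

lemma lam_add (n : Ideal B) [n.IsPrime] {N M P : Type*} [AddCommGroup N] [Module B N]
    [AddCommGroup M] [Module B M] [AddCommGroup P] [Module B P]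
    (f : N →ₗ[B] M) (g : M →ₗ[B] P) (hf : Function.Injective f) (hg : Function.Surjective g)
    (H : Function.Exact f g) : lam n M = lam n N + lam n P := by
  unfold lam
  refine Module.length_eq_add_of_exact (LocalizedModule.map n.primeCompl f)
    (LocalizedModule.map n.primeCompl g) (LocalizedModule.map_injective _ f hf)
    (LocalizedModule.map_surjective _ g hg) ?_
  exact LocalizedModule.map_exact n.primeCompl f g H

lemma lam_congr (n : Ideal B) [n.IsPrime] {M N : Type*} [AddCommGroup N] [Module B N]
    [AddCommGroup M] [Module B M] (e : M ≃ₗ[B] N) : lam n M = lam n N := by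
  unfold lam
  exact (IsLocalizedModule.mapEquiv n.primeCompl (LocalizedModule.mkLinearMap n.primeCompl M)
    (LocalizedModule.mkLinearMap n.primeCompl N) (Localization.AtPrime n) e).length_eq

lemma lam_subsingleton (n : Ideal B) [n.IsPrime] (M : Type*) [AddCommGroup M] [Module B M]
    [Subsingleton M] : lam n M = 0 := by
  unfold lam
  rw [Module.length_eq_zero_iff]
  infer_instance

lemma lam_quot_of_ne (n n₀ : Ideal B) [n.IsMaximal] [n₀.IsMaximal] (h : n ≠ n₀) :
    lam n (B ⧸ n₀) = 0 := by
  unfold lam
  rw [Module.length_eq_zero_iff, LocalizedModule.subsingleton_iff]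
  have : ¬ n₀ ≤ n := fun hle => h ((Ideal.IsMaximal.eq_of_le inferInstance
    (Ideal.IsMaximal.ne_top inferInstance) hle).symm)
  obtain ⟨s, hs₀, hsn⟩ := SetLike.not_le_iff_exists.1 this
  intro m
  refine ⟨s, hsn, ?_⟩
  obtain ⟨b, rfl⟩ := Ideal.Quotient.mk_surjective m
  rw [← Ideal.Quotient.mk_eq_mk, ← Submodule.Quotient.mk_smul, Submodule.Quotient.mk_eq_zero,
    smul_eq_mul]
  exact Ideal.mul_mem_right _ _ hs₀

lemma lam_quot_self (n : Ideal B) [n.IsMaximal] : lam n (B ⧸ n) = 1 := by
  unfold lam
  set L := LocalizedModule n.primeCompl (B ⧸ n) with hL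
  have hnt : Nontrivial L := by
    rw [← not_subsingleton_iff_nontrivial, LocalizedModule.subsingleton_iff]
    intro h
    obtain ⟨s, hs, hs0⟩ := h (Ideal.Quotient.mk n 1)
    apply hs
    rw [← Ideal.Quotient.mk_eq_mk, ← Submodule.Quotient.mk_smul, Submodule.Quotient.mk_eq_zero,
      smul_eq_mul, mul_one] at hs0
    exact hs0
  have hpos : 0 < Module.length (Localization.AtPrime n) L := Module.length_pos
  have hker : IsLocalRing.maximalIdeal (Localization.AtPrime n) ≤
      LinearMap.ker (LinearMap.toSpanSingleton (Localization.AtPrime n) L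
        (LocalizedModule.mk (1 : B ⧸ n) 1)) := by
    intro x hx
    obtain ⟨a, s, rfl⟩ := IsLocalization.exists_mk'_eq n.primeCompl x
    rw [IsLocalization.AtPrime.mk'_mem_maximal_iff (Localization.AtPrime n) n] at hx
    rw [LinearMap.mem_ker, LinearMap.toSpanSingleton_apply, ← Localization.mk_eq_mk',
      LocalizedModule.mk_smul_mk]
    have : a • (1 : B ⧸ n) = 0 := by
      change a • (Ideal.Quotient.mk n 1) = 0
      rw [← Ideal.Quotient.mk_eq_mk, ← Submodule.Quotient.mk_smul, Submodule.Quotient.mk_eq_zero,
        smul_eq_mul, mul_one]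
      exact hx
    rw [this, LocalizedModule.zero_mk]
  let φ : (Localization.AtPrime n ⧸ IsLocalRing.maximalIdeal (Localization.AtPrime n))
      →ₗ[Localization.AtPrime n] L :=
    Submodule.liftQ _ (LinearMap.toSpanSingleton (Localization.AtPrime n) L
        (LocalizedModule.mk (1 : B ⧸ n) 1)) hker
  have hsurj : Function.Surjective φ := by
    intro y
    induction y using LocalizedModule.induction_on with
    | h m s =>
      obtain ⟨b, rfl⟩ := Ideal.Quotient.mk_surjective m
      refine ⟨Submodule.Quotient.mk (Localization.mk b s), ?_⟩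
      change (LinearMap.toSpanSingleton (Localization.AtPrime n) L
        (LocalizedModule.mk (1 : B ⧸ n) 1)) (Localization.mk b s) = _
      rw [LinearMap.toSpanSingleton_apply, LocalizedModule.mk_smul_mk, mul_one]
      congr 1
      change b • (Ideal.Quotient.mk n 1) = _
      rw [← Ideal.Quotient.mk_eq_mk, ← Submodule.Quotient.mk_smul, smul_eq_mul, mul_one]
      rfl
  have hsimple : IsSimpleModule (Localization.AtPrime n)
      (Localization.AtPrime n ⧸ IsLocalRing.maximalIdeal (Localization.AtPrime n)) :=
    isSimpleModule_iff_isCoatom.2 (Ideal.isMaximal_def.1 inferInstance)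
  have hle := Module.length_le_of_surjective φ hsurj
  rw [Module.length_eq_one (Localization.AtPrime n)
    (Localization.AtPrime n ⧸ IsLocalRing.maximalIdeal (Localization.AtPrime n))] at hle
  exact le_antisymm hle (Order.one_le_iff_pos.2 hpos)

end general

section main

universe u

variable {A B : Type u} [CommRing A] [IsLocalRing A] [CommRing B] [Algebra A B]

/-- the index type -/
abbrev X (A B : Type u) [CommRing A] [IsLocalRing A] [CommRing B] [Algebra A B] :=
  {n : MaximalSpectrum B // Ideal.map (algebraMap A B) (IsLocalRing.maximalIdeal A) ≤ n.asIdeal}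

lemma length_quot_eq_one
    (hres : ∀ (n : Ideal B) [n.IsMaximal]
      (h : Ideal.map (algebraMap A B) (IsLocalRing.maximalIdeal A) ≤ n),
      Function.Bijective (Ideal.quotientMap n (algebraMap A B) (Ideal.map_le_iff_le_comap.mp h)))
    (n₀ : Ideal B) [n₀.IsMaximal]
    (h : Ideal.map (algebraMap A B) (IsLocalRing.maximalIdeal A) ≤ n₀) :
    Module.length A (B ⧸ n₀) = 1 := by
  let ψ : (A ⧸ IsLocalRing.maximalIdeal A) →ₗ[A] (B ⧸ n₀) :=
    { toFun := Ideal.quotientMap n₀ (algebraMap A B) (Ideal.map_le_iff_le_comap.mp h)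
      map_add' := map_add _
      map_smul' := by
        intro a x
        obtain ⟨y, rfl⟩ := Ideal.Quotient.mk_surjective x
        simp only [RingHom.id_apply]
        have h1 : a • (Ideal.Quotient.mk (IsLocalRing.maximalIdeal A)) y =
            Ideal.Quotient.mk (IsLocalRing.maximalIdeal A) (a * y) := rfl
        rw [h1, Ideal.quotientMap_mk, Ideal.quotientMap_mk, map_mul, map_mul, Algebra.smul_def]
        rfl }
  have hψ : Function.Bijective ψ := hres n₀ h
  have e : (A ⧸ IsLocalRing.maximalIdeal A) ≃ₗ[A] (B ⧸ n₀) := LinearEquiv.ofBijective ψ hψ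
  rw [← e.length_eq]
  have : IsSimpleModule A (A ⧸ IsLocalRing.maximalIdeal A) :=
    isSimpleModule_iff_isCoatom.2 (Ideal.isMaximal_def.1 inferInstance)
  exact Module.length_eq_one A _

theorem key
    (hres : ∀ (n : Ideal B) [n.IsMaximal]
      (h : Ideal.map (algebraMap A B) (IsLocalRing.maximalIdeal A) ≤ n),
      Function.Bijective (Ideal.quotientMap n (algebraMap A B) (Ideal.map_le_iff_le_comap.mp h)))
    [Finite (X A B)] (M : Type u) [AddCommGroup M] [Module B M] (hM : IsFiniteLength B M) :
    ∀ [Module A M] [IsScalarTower A B M],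
      (∀ x ∈ Ideal.map (algebraMap A B) (IsLocalRing.maximalIdeal A), ∀ m : M, x • m = 0) →
      ∑ᶠ n : X A B, lam n.1.asIdeal M = Module.length A M := by
  induction hM with
  | of_subsingleton =>
    intro _ _ _
    simp [lam_subsingleton, Module.length_eq_zero]
  | @of_simple_quotient M _ _ N hs hN ih =>
    intro _ _ hkill
    have ihN := ih (fun x hx m => Subtype.ext (hkill x hx m.1))
    obtain ⟨n₀, hmax, ⟨e⟩⟩ := isSimpleModule_iff_quot_maximal.1 hs
    have hn₀ : Ideal.map (algebraMap A B) (IsLocalRing.maximalIdeal A) ≤ n₀ := by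
      intro x hx
      have h1 : x • e.symm (Ideal.Quotient.mk n₀ 1) = 0 := by
        obtain ⟨m, hm⟩ := Submodule.Quotient.mk_surjective N (e.symm (Ideal.Quotient.mk n₀ 1))
        rw [← hm, ← Submodule.Quotient.mk_smul, hkill x hx m, Submodule.Quotient.mk_zero]
      have h2 := congrArg e h1
      rw [map_smul, e.apply_symm_apply, map_zero, ← Ideal.Quotient.mk_eq_mk,
        ← Submodule.Quotient.mk_smul, Submodule.Quotient.mk_eq_zero, smul_eq_mul, mul_one] at h2
      exact h2
    have h3 : ∀ n : X A B, lam n.1.asIdeal M =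
        lam n.1.asIdeal N + (if n.1.asIdeal = n₀ then 1 else 0) := by
      intro n
      rw [lam_add n.1.asIdeal N.subtype N.mkQ N.injective_subtype N.mkQ_surjective
        (LinearMap.exact_subtype_mkQ N), lam_congr n.1.asIdeal e]
      congr 1
      split_ifs with hn
      · subst hn
        exact lam_quot_self _
      · exact lam_quot_of_ne _ _ hn
    have h4 : ∑ᶠ n : X A B, (if n.1.asIdeal = n₀ then (1 : ℕ∞) else 0) = 1 := by
      rw [finsum_eq_single _ (⟨⟨n₀, hmax⟩, hn₀⟩ : X A B)]
      · simp
      · intro n hn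
        have : n.1.asIdeal ≠ n₀ := fun h => hn (Subtype.ext (MaximalSpectrum.ext h))
        simp [this]
    have h5 : Module.length A M = Module.length A N + Module.length A (M ⧸ N) :=
      Module.length_eq_add_of_exact (N.subtype.restrictScalars A) (N.mkQ.restrictScalars A)
        N.injective_subtype N.mkQ_surjective (LinearMap.exact_subtype_mkQ N)
    have h6 : Module.length A (M ⧸ N) = 1 := by
      rw [(e.restrictScalars A).length_eq]
      exact length_quot_eq_one hres n₀ hn₀
    rw [h5, h6, ← ihN, ← h4, ← finsum_add_distrib (Set.toFinite _) (Set.toFinite _)]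
    exact finsum_congr h3

attribute [local instance] Ideal.Quotient.field in
theorem main_thm [Module.Free A B] [Module.Finite A B] (d : ℕ) (hd : Module.finrank A B = d)
    (hres : ∀ (n : Ideal B) [n.IsMaximal]
      (h : Ideal.map (algebraMap A B) (IsLocalRing.maximalIdeal A) ≤ n),
      Function.Bijective (Ideal.quotientMap n (algebraMap A B) (Ideal.map_le_iff_le_comap.mp h))) :
    finsum (fun n : X A B => Module.length (Localization.AtPrime n.1.asIdeal)
      (LocalizedModule n.1.asIdeal.primeCompl
        (B ⧸ Ideal.map (algebraMap A B) (IsLocalRing.maximalIdeal A)))) = (d : ℕ∞) := by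
  set I₀ := Ideal.map (algebraMap A B) (IsLocalRing.maximalIdeal A) with hI₀
  have hfin : Module.Finite (A ⧸ IsLocalRing.maximalIdeal A) (B ⧸ I₀) :=
    Module.Finite.of_restrictScalars_finite A _ _
  have hart : IsArtinianRing (B ⧸ I₀) :=
    IsArtinianRing.of_finite (A ⧸ IsLocalRing.maximalIdeal A) (B ⧸ I₀)
  -- finiteness of X
  have hX : Finite (X A B) := by
    let ι : X A B → MaximalSpectrum (B ⧸ I₀) := fun n =>
      ⟨n.1.asIdeal.map (Ideal.Quotient.mk I₀),
        Ideal.IsMaximal.map_of_surjective_of_ker_le Ideal.Quotient.mk_surjective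
          (by rw [Ideal.mk_ker]; exact n.2)⟩
    refine Finite.of_injective ι ?_
    intro n n' hnn'
    have h1 : n.1.asIdeal.map (Ideal.Quotient.mk I₀) = n'.1.asIdeal.map (Ideal.Quotient.mk I₀) :=
      congrArg MaximalSpectrum.asIdeal hnn'
    have h2 := congrArg (Ideal.comap (Ideal.Quotient.mk I₀)) h1
    rw [Ideal.comap_map_mk n.2, Ideal.comap_map_mk n'.2] at h2
    exact Subtype.ext (MaximalSpectrum.ext h2)
  -- length over A
  have hlen : Module.length A (B ⧸ I₀) = d := by
    rw [Module.length_eq_of_surjective (R := A ⧸ IsLocalRing.maximalIdeal A) (M := B ⧸ I₀)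
      (Ideal.Quotient.mk_surjective (I := IsLocalRing.maximalIdeal A)),
      Module.length_eq_finrank, IsLocalRing.finrank_quotient_map, hd]
  have hflA : IsFiniteLength A (B ⧸ I₀) := by
    rw [← Module.length_ne_top_iff, hlen]
    exact ENat.coe_ne_top d
  have hflB : IsFiniteLength B (B ⧸ I₀) := by
    rw [isFiniteLength_iff_isNoetherian_isArtinian] at hflA ⊢
    exact ⟨isNoetherian_of_tower A hflA.1, isArtinian_of_tower A hflA.2⟩
  have hkill : ∀ x ∈ I₀, ∀ m : B ⧸ I₀, x • m = 0 := by
    intro x hx m
    obtain ⟨b, rfl⟩ := Ideal.Quotient.mk_surjective m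
    rw [← Ideal.Quotient.mk_eq_mk, ← Submodule.Quotient.mk_smul, Submodule.Quotient.mk_eq_zero,
      smul_eq_mul]
    exact Ideal.mul_mem_right _ _ hx
  rw [← hlen]
  exact key hres (B ⧸ I₀) hflB hkill

end main

end Groth.Agent.H2.FibreLen
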