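import Mathlib
import Groth.Agent.Lib.Helper2.TorLin

/-! Additivity of `Tor` on morphisms in the second variable. -/

universe u

namespace Groth.Agent.H2.TorBal

open CategoryTheory CategoryTheory.Limits Category HomologicalComplex MonoidalCategory

variable {R : Type u} [CommRing R]

lemma tensorCxR_map_add (K : ChainComplex (ModuleCat.{u} R) ℕ) {X Y : ModuleCat.{u} R}
    (f g : X ⟶ Y) : (tensorCxR K).map (f + g) = (tensorCxR K).map f + (tensorCxR K).map g := by
  ext i : 1
  exact MonoidalPreadditive.whiskerLeft_add f g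

/-- `Tor_n(M, -)` is additive on morphisms. -/
theorem tor_map_add_right (M : ModuleCat.{u} R) {N N' : ModuleCat.{u} R} (f g : N ⟶ N')
    (n : ℕ) : ((Tor (ModuleCat.{u} R) n).obj M).map (f + g) =
      ((Tor (ModuleCat.{u} R) n).obj M).map f + ((Tor (ModuleCat.{u} R) n).obj M).map g := by
  let τ := torIsoR M (projectiveResolution M) n
  have h1 : ∀ g : N ⟶ N', ((Tor (ModuleCat.{u} R) n).obj M).map g =
      τ.hom.app N ≫ homologyMap ((tensorCxR (projectiveResolution M).complex).map g) n ≫
        τ.inv.app N' := by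
    intro g
    exact (NatIso.naturality_2 τ g).symm
  rw [h1, h1 f, h1 g, tensorCxR_map_add, homologyMap_add]
  erw [Preadditive.add_comp, Preadditive.comp_add]

/-- `Tor_n(M, -)` preserves zero morphisms. -/
theorem tor_map_zero_right (M : ModuleCat.{u} R) (N N' : ModuleCat.{u} R) (n : ℕ) :
    ((Tor (ModuleCat.{u} R) n).obj M).map (0 : N ⟶ N') = 0 := by
  have h := tor_map_smul_right M (0 : R) (0 : N ⟶ N') n
  rwa [zero_smul, zero_smul] at h

/-- `Tor_n(M, -)` is compatible with negation. -/
theorem tor_map_neg_right (M : ModuleCat.{u} R) {N N' : ModuleCat.{u} R} (f : N ⟶ N') (n : ℕ) :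
    ((Tor (ModuleCat.{u} R) n).obj M).map (-f) = -((Tor (ModuleCat.{u} R) n).obj M).map f := by
  have h := tor_map_smul_right M (-1 : R) f n
  rwa [neg_one_smul, neg_one_smul] at h

end Groth.Agent.H2.TorBal
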