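import Mathlib
import Groth.Agent.Lib.Helper2.TorLESR
import Groth.Agent.Lib.Helper2.TorAdd

/-! `Tor` against a coproduct map `X × Y → Z`, `Tor₀` and injectivity, and the epi/mono
criterion from the long exact sequence. -/

universe u

namespace Groth.Agent.H2.TorBal

open CategoryTheory CategoryTheory.Limits MonoidalCategory Category

variable {R : Type u} [CommRing R]

/-- `Tor₀(M, g)` is a monomorphism iff `M ⊗ g` is injective. -/
theorem mono_tor_zero_map_iff (M : ModuleCat.{u} R) {X Y : ModuleCat.{u} R} (g : X ⟶ Y) :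
    Mono (((Tor (ModuleCat.{u} R) 0).obj M).map g) ↔
      Function.Injective (LinearMap.lTensor M g.hom) := by
  let e : (Tor (ModuleCat.{u} R) 0).obj M ≅ tensorLeft M := Functor.leftDerivedZeroIsoSelf _
  have h : ((Tor (ModuleCat.{u} R) 0).obj M).map g =
      e.hom.app X ≫ (tensorLeft M).map g ≫ e.inv.app Y := by
    rw [← assoc, ← e.hom.naturality g, assoc, Iso.hom_inv_id_app, comp_id]
  have h' : (tensorLeft M).map g =
      e.inv.app X ≫ ((Tor (ModuleCat.{u} R) 0).obj M).map g ≫ e.hom.app Y := by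
    rw [h]; simp
  have hi1 : IsIso (e.hom.app X) := (e.app X).isIso_hom
  have hi2 : IsIso (e.inv.app Y) := (e.symm.app Y).isIso_hom
  have hi3 : IsIso (e.inv.app X) := (e.symm.app X).isIso_hom
  have hi4 : IsIso (e.hom.app Y) := (e.app Y).isIso_hom
  have key : Mono (((Tor (ModuleCat.{u} R) 0).obj M).map g) ↔ Mono ((tensorLeft M).map g) := by
    constructor
    · intro hm
      rw [h']
      exact @mono_comp _ _ _ _ _ _ (IsIso.mono_of_iso _) _
        (@mono_comp _ _ _ _ _ _ hm _ (IsIso.mono_of_iso _))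
    · intro hm
      rw [h]
      exact @mono_comp _ _ _ _ _ _ (IsIso.mono_of_iso _) _
        (@mono_comp _ _ _ _ _ _ hm _ (IsIso.mono_of_iso _))
  rw [key, ModuleCat.mono_iff_injective]
  rfl

/-- From the long exact sequence: `Tor_{i+1}(M, S.g)` is epi iff `Tor_i(M, S.f)` is mono. -/
theorem epi_tor_succ_g_iff_mono_tor_f (M : ModuleCat.{u} R) (S : ShortComplex (ModuleCat.{u} R))
    (hS : S.ShortExact) (i : ℕ) :
    Epi (((Tor (ModuleCat.{u} R) (i + 1)).obj M).map S.g) ↔
      Mono (((Tor (ModuleCat.{u} R) i).obj M).map S.f) := by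
  obtain ⟨_, δ, w₁, w₂, ex1, ex2⟩ := tor_les_right M S hS i
  constructor
  · intro hepi
    have hδ : δ = 0 := by
      rw [← cancel_epi (((Tor (ModuleCat.{u} R) (i + 1)).obj M).map S.g), w₁, comp_zero]
    exact (ShortComplex.exact_iff_mono _ hδ).1 ex2
  · intro hmono
    have hδ : δ = 0 := by
      rw [← cancel_mono (((Tor (ModuleCat.{u} R) i).obj M).map S.f), w₂, zero_comp]
    exact (ShortComplex.exact_iff_epi _ hδ).1 ex1

/-- Surjectivity of `Tor_n(M, X × Y → Z)` in terms of the two components. -/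
theorem epi_tor_coprod_iff (M : ModuleCat.{u} R) (n : ℕ)
    {X Y Z : Type u} [AddCommGroup X] [Module R X] [AddCommGroup Y] [Module R Y]
    [AddCommGroup Z] [Module R Z] (f : X →ₗ[R] Z) (g : Y →ₗ[R] Z) :
    Epi (((Tor (ModuleCat.{u} R) n).obj M).map
        (ModuleCat.ofHom (f.coprod g) : ModuleCat.of R (X × Y) ⟶ ModuleCat.of R Z)) ↔
      ∀ z : ((Tor (ModuleCat.{u} R) n).obj M).obj (ModuleCat.of R Z),
        ∃ (u : ((Tor (ModuleCat.{u} R) n).obj M).obj (ModuleCat.of R X))
          (v : ((Tor (ModuleCat.{u} R) n).obj M).obj (ModuleCat.of R Y)),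
          (((Tor (ModuleCat.{u} R) n).obj M).map (ModuleCat.ofHom f)).hom u +
            (((Tor (ModuleCat.{u} R) n).obj M).map (ModuleCat.ofHom g)).hom v = z := by
  set T := (Tor (ModuleCat.{u} R) n).obj M with hT
  have hdec : (ModuleCat.ofHom (f.coprod g) : ModuleCat.of R (X × Y) ⟶ ModuleCat.of R Z) =
      (ModuleCat.ofHom (LinearMap.fst R X Y) : ModuleCat.of R (X × Y) ⟶ ModuleCat.of R X) ≫
          ModuleCat.ofHom f +
        (ModuleCat.ofHom (LinearMap.snd R X Y) : ModuleCat.of R (X × Y) ⟶ ModuleCat.of R Y) ≫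
          ModuleCat.ofHom g := by
    apply ModuleCat.hom_ext
    apply LinearMap.ext
    intro p
    simp [LinearMap.coprod_apply, ModuleCat.hom_add]
  have hmap : T.map (ModuleCat.ofHom (f.coprod g) : ModuleCat.of R (X × Y) ⟶ ModuleCat.of R Z) =
      T.map (ModuleCat.ofHom (LinearMap.fst R X Y) : ModuleCat.of R (X × Y) ⟶ ModuleCat.of R X) ≫
          T.map (ModuleCat.ofHom f) +
        T.map (ModuleCat.ofHom (LinearMap.snd R X Y) : ModuleCat.of R (X × Y) ⟶ ModuleCat.of R Y) ≫
          T.map (ModuleCat.ofHom g) := by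
    rw [hdec, hT, tor_map_add_right, Functor.map_comp, Functor.map_comp]
  have hinl : T.map (ModuleCat.ofHom (LinearMap.inl R X Y) : ModuleCat.of R X ⟶ ModuleCat.of R (X × Y)) ≫
      T.map (ModuleCat.ofHom (f.coprod g) : ModuleCat.of R (X × Y) ⟶ ModuleCat.of R Z) =
      T.map (ModuleCat.ofHom f) := by
    rw [← Functor.map_comp]
    congr 1
    ext p
    simp
  have hinr : T.map (ModuleCat.ofHom (LinearMap.inr R X Y) : ModuleCat.of R Y ⟶ ModuleCat.of R (X × Y)) ≫
      T.map (ModuleCat.ofHom (f.coprod g) : ModuleCat.of R (X × Y) ⟶ ModuleCat.of R Z) =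
      T.map (ModuleCat.ofHom g) := by
    rw [← Functor.map_comp]
    congr 1
    ext p
    simp
  rw [ModuleCat.epi_iff_surjective]
  constructor
  · intro hsurj z
    obtain ⟨w, rfl⟩ := hsurj z
    refine ⟨(T.map (ModuleCat.ofHom (LinearMap.fst R X Y) :
        ModuleCat.of R (X × Y) ⟶ ModuleCat.of R X)).hom w,
      (T.map (ModuleCat.ofHom (LinearMap.snd R X Y) :
        ModuleCat.of R (X × Y) ⟶ ModuleCat.of R Y)).hom w, ?_⟩
    rw [hmap]
    rfl
  · intro h z
    obtain ⟨u, v, rfl⟩ := h z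
    refine ⟨(T.map (ModuleCat.ofHom (LinearMap.inl R X Y) :
        ModuleCat.of R X ⟶ ModuleCat.of R (X × Y))).hom u +
      (T.map (ModuleCat.ofHom (LinearMap.inr R X Y) :
        ModuleCat.of R Y ⟶ ModuleCat.of R (X × Y))).hom v, ?_⟩
    rw [map_add]
    congr 1
    · exact LinearMap.congr_fun (congrArg ModuleCat.Hom.hom hinl) u
    · exact LinearMap.congr_fun (congrArg ModuleCat.Hom.hom hinr) v

/-- Epi of a `biprod.desc` in `ModuleCat`, elementwise. -/
theorem epi_biprod_desc_iff {U V W : ModuleCat.{u} R} (a : U ⟶ W) (b : V ⟶ W) :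
    Epi (biprod.desc a b) ↔ ∀ z : W, ∃ (u : U) (v : V), a.hom u + b.hom v = z := by
  rw [ModuleCat.epi_iff_surjective]
  constructor
  · intro h z
    obtain ⟨t, rfl⟩ := h z
    refine ⟨(biprod.fst : U ⊞ V ⟶ U).hom t, (biprod.snd : U ⊞ V ⟶ V).hom t, ?_⟩
    have htot : (biprod.fst : U ⊞ V ⟶ U) ≫ a + (biprod.snd : U ⊞ V ⟶ V) ≫ b =
        biprod.desc a b := by
      apply biprod.hom_ext' <;> simp
    rw [← htot]
    rfl
  · intro h z
    obtain ⟨u, v, rfl⟩ := h z
    refine ⟨(biprod.inl : U ⟶ U ⊞ V).hom u + (biprod.inr : V ⟶ U ⊞ V).hom v, ?_⟩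
    rw [map_add]
    congr 1
    · exact LinearMap.congr_fun (congrArg ModuleCat.Hom.hom (biprod.inl_desc a b)) u
    · exact LinearMap.congr_fun (congrArg ModuleCat.Hom.hom (biprod.inr_desc a b)) v

end Groth.Agent.H2.TorBal
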