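import Mathlib
import Groth.Prelude.Def_EtMil
import Groth.Agent.Lib.Helper2.TorCoprod
import Groth.Agent.Lib.Helper2.TorBalLin

/-! Fibre squares of rings `B' = B ×_A A'`: the short exact sequence `0 → B' → B × A' → A → 0`
and the resulting `Tor` criterion. -/

universe u

namespace Groth.Agent.H2.FibreSqTor

open CategoryTheory CategoryTheory.Limits TensorProduct Groth.Agent.H2.TorBal

variable (B' B A' A : Type u) [CommRing B'] [CommRing B] [CommRing A'] [CommRing A]
  [Algebra B' B] [Algebra B' A'] [Algebra B A] [Algebra A' A] [Algebra B' A]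
  [IsScalarTower B' B A] [IsScalarTower B' A' A]

/-- the diagonal `B' → B × A'` -/
def ι : B' →ₗ[B'] B × A' := (Algebra.linearMap B' B).prod (Algebra.linearMap B' A')

/-- the difference map `B × A' → A` -/
def π : B × A' →ₗ[B'] A :=
  (IsScalarTower.toAlgHom B' B A).toLinearMap.coprod (-(IsScalarTower.toAlgHom B' A' A).toLinearMap)

variable {B' B A' A}

lemma π_apply (p : B × A') : π B' B A' A p = algebraMap B A p.1 - algebraMap A' A p.2 := by
  simp [π, LinearMap.coprod_apply, sub_eq_add_neg]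

lemma ι_apply (b : B') : ι B' B A' b = (algebraMap B' B b, algebraMap B' A' b) := rfl

variable (hsq : EtMil.IsFibreSquare B' B A' A)

include hsq

lemma ι_injective : Function.Injective (ι B' B A') := by
  rw [injective_iff_map_eq_zero]
  intro b hb
  rw [ι_apply, Prod.mk_eq_zero] at hb
  obtain ⟨b0, _, huniq⟩ := hsq.2 0 0 (by simp)
  rw [huniq b hb, huniq 0 ⟨map_zero _, map_zero _⟩]

lemma exact_ι_π : Function.Exact (ι B' B A') (π B' B A' A) := by
  intro p
  rw [π_apply, sub_eq_zero]
  constructor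
  · intro h
    obtain ⟨b', ⟨h1, h2⟩, _⟩ := hsq.2 p.1 p.2 h
    exact ⟨b', by rw [ι_apply, h1, h2]⟩
  · rintro ⟨b', rfl⟩
    rw [ι_apply]
    show algebraMap B A (algebraMap B' B b') = algebraMap A' A (algebraMap B' A' b')
    rw [← IsScalarTower.algebraMap_apply, ← IsScalarTower.algebraMap_apply]

lemma π_surjective : Function.Surjective (π B' B A' A) := by
  intro a
  obtain ⟨a', rfl⟩ := hsq.1 a
  exact ⟨(0, -a'), by rw [π_apply]; simp⟩

omit hsq in
lemma lTensor_ι_injective_iff (L' : Type u) [AddCommGroup L'] [Module B' L'] :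
    Function.Injective (LinearMap.lTensor L' (ι B' B A')) ↔
      (∀ l : L', ((1 : B) ⊗ₜ[B'] l : B ⊗[B'] L') = 0 → ((1 : A') ⊗ₜ[B'] l : A' ⊗[B'] L') = 0 →
        l = 0) := by
  have hdecomp : ∀ l : L', LinearMap.lTensor L' (ι B' B A') (l ⊗ₜ (1 : B')) =
      LinearMap.lTensor L' (LinearMap.inl B' B A') (l ⊗ₜ (1 : B)) +
        LinearMap.lTensor L' (LinearMap.inr B' B A') (l ⊗ₜ (1 : A')) := by
    intro l
    rw [LinearMap.lTensor_tmul, LinearMap.lTensor_tmul, LinearMap.lTensor_tmul, ← tmul_add,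
      ι_apply, map_one, map_one]
    simp
  constructor
  · intro hinj l h1 h2
    have h1' : (l ⊗ₜ[B'] (1 : B)) = 0 := by
      have := congrArg (TensorProduct.comm B' B L') h1
      simpa using this
    have h2' : (l ⊗ₜ[B'] (1 : A')) = 0 := by
      have := congrArg (TensorProduct.comm B' A' L') h2
      simpa using this
    have h0 : LinearMap.lTensor L' (ι B' B A') (l ⊗ₜ (1 : B')) = 0 := by
      rw [hdecomp, h1', h2', map_zero, map_zero, add_zero]
    have h3 : l ⊗ₜ[B'] (1 : B') = 0 := hinj (by rw [h0, map_zero])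
    have := congrArg (TensorProduct.rid B' L') h3
    simpa using this
  · intro h
    rw [injective_iff_map_eq_zero]
    intro x hx
    obtain ⟨l, rfl⟩ : ∃ l : L', x = l ⊗ₜ (1 : B') :=
      ⟨TensorProduct.rid B' L' x, by
        rw [← TensorProduct.rid_symm_apply, LinearEquiv.symm_apply_apply]⟩
    have e1 : l ⊗ₜ[B'] (1 : B) = 0 := by
      have := congrArg (LinearMap.lTensor L' (LinearMap.fst B' B A')) hx
      rw [map_zero, ← LinearMap.comp_apply, ← LinearMap.lTensor_comp, LinearMap.lTensor_tmul] at this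
      simpa [ι_apply] using this
    have e2 : l ⊗ₜ[B'] (1 : A') = 0 := by
      have := congrArg (LinearMap.lTensor L' (LinearMap.snd B' B A')) hx
      rw [map_zero, ← LinearMap.comp_apply, ← LinearMap.lTensor_comp, LinearMap.lTensor_tmul] at this
      simpa [ι_apply] using this
    have h1 : ((1 : B) ⊗ₜ[B'] l : B ⊗[B'] L') = 0 := by
      have := congrArg (TensorProduct.comm B' L' B) e1
      simpa using this
    have h2 : ((1 : A') ⊗ₜ[B'] l : A' ⊗[B'] L') = 0 := by
      have := congrArg (TensorProduct.comm B' L' A') e2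
      simpa using this
    rw [h l h1 h2, zero_tmul]

/-- The `Tor` criterion of a fibre square. -/
theorem main (L' : Type u) [AddCommGroup L'] [Module B' L'] :
    (∀ l : L', ((1 : B) ⊗ₜ[B'] l : B ⊗[B'] L') = 0 → ((1 : A') ⊗ₜ[B'] l : A' ⊗[B'] L') = 0 →
        l = 0) ↔
    Epi (biprod.desc
      (((Tor (ModuleCat.{u} B') 1).obj (ModuleCat.of B' L')).map
        (ModuleCat.ofHom (IsScalarTower.toAlgHom B' B A).toLinearMap))
      (((Tor (ModuleCat.{u} B') 1).obj (ModuleCat.of B' L')).map
        (ModuleCat.ofHom (IsScalarTower.toAlgHom B' A' A).toLinearMap))) := by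
  rw [← lTensor_ι_injective_iff, epi_biprod_desc_iff]
  have hS := scOfLinearMaps_shortExact (ι B' B A') (π B' B A' A) (ι_injective hsq)
    (exact_ι_π hsq) (π_surjective hsq)
  have h1 := mono_tor_zero_map_iff (ModuleCat.of B' L')
    (scOfLinearMaps (ι B' B A') (π B' B A' A) (exact_ι_π hsq)).f
  have h2 := epi_tor_succ_g_iff_mono_tor_f (ModuleCat.of B' L') _ hS 0
  have h3 := epi_tor_coprod_iff (ModuleCat.of B' L') 1
    (IsScalarTower.toAlgHom B' B A).toLinearMap (-(IsScalarTower.toAlgHom B' A' A).toLinearMap)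
  have h4 : Function.Injective (LinearMap.lTensor L' (ι B' B A')) ↔
      Epi (((Tor (ModuleCat.{u} B') 1).obj (ModuleCat.of B' L')).map
        (ModuleCat.ofHom (π B' B A' A) : ModuleCat.of B' (B × A') ⟶ ModuleCat.of B' A)) :=
    h1.symm.trans h2.symm
  rw [h4]
  refine h3.trans ?_
  have hneg : ((Tor (ModuleCat.{u} B') 1).obj (ModuleCat.of B' L')).map
      (ModuleCat.ofHom (-(IsScalarTower.toAlgHom B' A' A).toLinearMap)) =
      -((Tor (ModuleCat.{u} B') 1).obj (ModuleCat.of B' L')).map
        (ModuleCat.ofHom (IsScalarTower.toAlgHom B' A' A).toLinearMap) := by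
    rw [← tor_map_neg_right]
    rfl
  constructor
  · intro h z
    obtain ⟨u, v, huv⟩ := h z
    refine ⟨u, -v, ?_⟩
    rw [← huv, hneg, map_neg]
    rfl
  · intro h z
    obtain ⟨u, v, huv⟩ := h z
    refine ⟨u, -v, ?_⟩
    rw [← huv, hneg, map_neg]
    simp

end Groth.Agent.H2.FibreSqTor
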