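import Groth.Prelude.Def_FilD
import Mathlib.CategoryTheory.Abelian.Refinements

/-!
# Finite filtered objects: basic API (levels, transition maps, graded pieces, strictness by refinements)
-/

universe v u

open CategoryTheory CategoryTheory.Limits Opposite

namespace Groth.Agent.H2.FD

variable {A : Type u} [Category.{v} A] [Abelian A]

/-- The `p`-th level of a finite filtered object. -/
abbrev lv (X : FilD.FilF A) (p : ℤ) : A := X.obj.obj (op p)

/-- The transition map `F q ⟶ F p` for `p ≤ q`. -/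
abbrev tr (X : FilD.FilF A) {p q : ℤ} (h : p ≤ q) : lv X q ⟶ lv X p := X.obj.map (homOfLE h).op

instance (X : FilD.FilF A) {p q : ℤ} (h : p ≤ q) : Mono (tr X h) := X.property.1 _

lemma tr_refl (X : FilD.FilF A) (p : ℤ) : tr X (le_refl p) = 𝟙 _ := by
  have : (homOfLE (le_refl p)).op = 𝟙 (op p) := rfl
  simp only [tr, this, X.obj.map_id]

lemma tr_comp (X : FilD.FilF A) {p q r : ℤ} (h : p ≤ q) (h' : q ≤ r) :
    tr X h' ≫ tr X h = tr X (h.trans h') := by
  simp only [tr, ← X.obj.map_comp]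
  rfl

/-- The component at level `p`. -/
abbrev app {X Y : FilD.FilF A} (φ : X ⟶ Y) (p : ℤ) : lv X p ⟶ lv Y p := φ.hom.app (op p)

@[reassoc]
lemma tr_app {X Y : FilD.FilF A} (φ : X ⟶ Y) {p q : ℤ} (h : p ≤ q) :
    tr X h ≫ app φ p = app φ q ≫ tr Y h := φ.hom.naturality _

lemma app_comp {X Y Z : FilD.FilF A} (φ : X ⟶ Y) (ψ : Y ⟶ Z) (p : ℤ) :
    app (φ ≫ ψ) p = app φ p ≫ app ψ p := rfl

lemma app_id (X : FilD.FilF A) (p : ℤ) : app (𝟙 X) p = 𝟙 _ := rfl

lemma hom_ext' {X Y : FilD.FilF A} {φ ψ : X ⟶ Y} (h : ∀ p, app φ p = app ψ p) : φ = ψ := by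
  apply ObjectProperty.hom_ext
  ext ⟨p⟩
  exact h p

/-- `p ≤ p + 1`. -/
lemma le_succ (p : ℤ) : p ≤ p + 1 := Int.le_add_one le_rfl

/-- The projection to the graded piece. -/
noncomputable abbrev grπ (X : FilD.FilF A) (p : ℤ) : lv X p ⟶ (FilD.grF A p).obj X :=
  cokernel.π (X.obj.map (FilD.stepHom p))

instance (X : FilD.FilF A) (p : ℤ) : Epi (grπ X p) :=
  inferInstanceAs (Epi (cokernel.π (X.obj.map (FilD.stepHom p))))

@[reassoc (attr := simp)]
lemma tr_grπ (X : FilD.FilF A) (p : ℤ) : tr X (le_succ p) ≫ grπ X p = 0 :=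
  cokernel.condition _

@[reassoc]
lemma tr_grπ' (X : FilD.FilF A) {p q : ℤ} (h : p + 1 ≤ q) :
    tr X ((le_succ p).trans h) ≫ grπ X p = 0 := by
  rw [← tr_comp X (le_succ p) h, Category.assoc, tr_grπ, comp_zero]

@[reassoc]
lemma grπ_map {X Y : FilD.FilF A} (φ : X ⟶ Y) (p : ℤ) :
    grπ X p ≫ (FilD.grF A p).map φ = app φ p ≫ grπ Y p := by
  simp [grπ, FilD.gr]

/-- Elements of `F p` dying in `gr^p` come from `F (p+1)`. -/
lemma gr_lift (X : FilD.FilF A) (p : ℤ) {T : A} (x : T ⟶ lv X p) (hx : x ≫ grπ X p = 0) :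
    ∃ x' : T ⟶ lv X (p + 1), x' ≫ tr X (le_succ p) = x :=
  ⟨Abelian.monoLift (tr X (le_succ p)) x hx, Abelian.monoLift_comp _ _ _⟩

/-- `X` vanishes in degrees `≥ b`. -/
def IsTop (X : FilD.FilF A) (b : ℤ) : Prop := ∀ p : ℤ, b ≤ p → IsZero (lv X p)

/-- `X` is constant in degrees `≤ a`. -/
def IsBot (X : FilD.FilF A) (a : ℤ) : Prop := ∀ ⦃p q : ℤ⦄ (h : p ≤ q), q ≤ a → IsIso (tr X h)

lemma exists_isTop (X : FilD.FilF A) : ∃ b, IsTop X b := X.property.2.1

lemma exists_isBot (X : FilD.FilF A) : ∃ a, IsBot X a := by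
  obtain ⟨a, ha⟩ := X.property.2.2
  exact ⟨a, fun p q h hq => ha _ hq⟩

lemma IsTop.mono {X : FilD.FilF A} {b b' : ℤ} (h : IsTop X b) (hb : b ≤ b') : IsTop X b' :=
  fun p hp => h p (hb.trans hp)

lemma IsBot.mono {X : FilD.FilF A} {a a' : ℤ} (h : IsBot X a) (ha : a' ≤ a) : IsBot X a' :=
  fun _ _ hpq hq => h hpq (hq.trans ha)

/-- If `S.Factors (π ≫ a)` with `π` epi then `S.Factors a`. -/
lemma factors_of_epi_comp {M : A} (S : Subobject M) {T T' : A} (π : T' ⟶ T) [Epi π] (a : T ⟶ M)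
    (h : S.Factors (π ≫ a)) : S.Factors a := by
  have h0 : a ≫ cokernel.π S.arrow = 0 := by
    rw [← cancel_epi π, comp_zero, ← Category.assoc, ← S.factorThru_arrow _ h, Category.assoc,
      cokernel.condition, comp_zero]
  rw [← Abelian.monoLift_comp S.arrow a h0]
  exact S.factors_comp_arrow _

/-- Membership in an image, up to refinements. -/
lemma imageSubobject_factors_refine {M N : A} (f : M ⟶ N) {T : A} (y : T ⟶ N)
    (h : (imageSubobject f).Factors y) :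
    ∃ (T' : A) (π : T' ⟶ T) (_ : Epi π) (x : T' ⟶ M), π ≫ y = x ≫ f := by
  obtain ⟨T', π, hπ, x, hx⟩ := surjective_up_to_refinements_of_epi (factorThruImageSubobject f)
    ((imageSubobject f).factorThru y h)
  refine ⟨T', π, hπ, x, ?_⟩
  have := hx =≫ (imageSubobject f).arrow
  simpa using this

lemma imageSubobject_factors_of_refine {M N : A} (f : M ⟶ N) {T T' : A} (y : T ⟶ N)
    (π : T' ⟶ T) [Epi π] (x : T' ⟶ M) (h : π ≫ y = x ≫ f) : (imageSubobject f).Factors y := by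
  apply factors_of_epi_comp _ π
  rw [h]
  exact imageSubobject_factors_comp_self f x

/-- Strictness gives lifts up to refinements. -/
lemma refine_of_isStrict {X Y : FilD.FilF A} {φ : X ⟶ Y} (hφ : FilD.IsStrict φ) {p q : ℤ} (h : p ≤ q)
    {T : A} (x : T ⟶ lv X p) (y : T ⟶ lv Y q) (hxy : x ≫ app φ p = y ≫ tr Y h) :
    ∃ (T' : A) (π : T' ⟶ T) (_ : Epi π) (x' : T' ⟶ lv X q), π ≫ y = x' ≫ app φ q := by
  have h1 : (imageSubobject (app φ q ≫ tr Y h)).Factors (y ≫ tr Y h) := by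
    have := hφ p q h
    erw [this]
    rw [Subobject.inf_factors]
    constructor
    · rw [← hxy]
      exact imageSubobject_factors_comp_self _ x
    · exact (Subobject.mk_factors_iff _ _).2 ⟨y, rfl⟩
  obtain ⟨T', π, hπ, x', hx'⟩ := imageSubobject_factors_refine _ _ h1
  refine ⟨T', π, hπ, x', ?_⟩
  rw [← cancel_mono (tr Y h)]
  simpa using hx'

end Groth.Agent.H2.FD
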