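import Groth.Agent.Lib.Helper2.FilD9
import Mathlib.CategoryTheory.Preadditive.Biproducts

/-!
# Finite filtered objects have binary biproducts
-/

universe v u

open CategoryTheory CategoryTheory.Limits Opposite

namespace Groth.Agent.H2.FD

variable {A : Type u} [Category.{v} A] [Abelian A]

/-- A functor which is levelwise a biproduct of two finite filtered objects is finite filtered. -/
lemma isFinFil_of_bicone (X Y : FilD.FilF A) (P : ℤᵒᵖ ⥤ A) (fst : P ⟶ X.obj) (snd : P ⟶ Y.obj)
    (inl : X.obj ⟶ P) (inr : Y.obj ⟶ P) (total : fst ≫ inl + snd ≫ inr = 𝟙 P) :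
    FilD.IsFinFil A P := by
  have tot : ∀ x : ℤᵒᵖ, fst.app x ≫ inl.app x + snd.app x ≫ inr.app x = 𝟙 (P.obj x) := by
    intro x
    have := NatTrans.congr_app total x
    simpa using this
  have hmono : ∀ ⦃x y : ℤᵒᵖ⦄ (f : x ⟶ y), Mono (P.map f) := by
    intro x y f
    haveI : Mono (X.obj.map f) := X.property.1 f
    haveI : Mono (Y.obj.map f) := Y.property.1 f
    apply Preadditive.mono_of_cancel_zero
    intro T k hk
    have h1 : k ≫ fst.app x = 0 := by
      rw [← cancel_mono (X.obj.map f), Category.assoc, ← fst.naturality, reassoc_of% hk]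
      simp
    have h2 : k ≫ snd.app x = 0 := by
      rw [← cancel_mono (Y.obj.map f), Category.assoc, ← snd.naturality, reassoc_of% hk]
      simp
    have := k ≫= tot x
    rw [Preadditive.comp_add, reassoc_of% h1, reassoc_of% h2, Category.comp_id] at this
    rw [← this]
    simp
  refine ⟨hmono, ?_, ?_⟩
  · obtain ⟨b₁, hb₁⟩ := exists_isTop X
    obtain ⟨b₂, hb₂⟩ := exists_isTop Y
    refine ⟨max b₁ b₂, fun p hp => ?_⟩
    rw [IsZero.iff_id_eq_zero, ← tot (op p)]
    have h1 : fst.app (op p) = 0 := (hb₁ p (le_trans (le_max_left _ _) hp)).eq_of_tgt _ _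
    have h2 : snd.app (op p) = 0 := (hb₂ p (le_trans (le_max_right _ _) hp)).eq_of_tgt _ _
    rw [h1, h2]
    simp
  · obtain ⟨a₁, ha₁⟩ := exists_isBot X
    obtain ⟨a₂, ha₂⟩ := exists_isBot Y
    refine ⟨min a₁ a₂, fun x y f hx => ?_⟩
    have hf : f = (homOfLE (leOfHom f.unop)).op := Quiver.Hom.unop_inj (Subsingleton.elim _ _)
    have hle : y.unop ≤ x.unop := leOfHom f.unop
    haveI : IsIso (X.obj.map f) := by
      rw [hf]; exact ha₁ hle (hx.trans (min_le_left _ _))
    haveI : IsIso (Y.obj.map f) := by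
      rw [hf]; exact ha₂ hle (hx.trans (min_le_right _ _))
    refine ⟨fst.app y ≫ inv (X.obj.map f) ≫ inl.app x + snd.app y ≫ inv (Y.obj.map f) ≫ inr.app x,
      ?_, ?_⟩
    · rw [Preadditive.comp_add, fst.naturality_assoc, snd.naturality_assoc,
        IsIso.hom_inv_id_assoc, IsIso.hom_inv_id_assoc]
      exact tot x
    · rw [Preadditive.add_comp]
      simp only [Category.assoc]
      rw [← inl.naturality, ← inr.naturality, IsIso.inv_hom_id_assoc, IsIso.inv_hom_id_assoc]
      exact tot y

/-- The biproduct of two finite filtered objects. -/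
noncomputable def biprodF (X Y : FilD.FilF A) : FilD.FilF A :=
  ⟨X.obj ⊞ Y.obj, isFinFil_of_bicone X Y _ biprod.fst biprod.snd biprod.inl biprod.inr biprod.total⟩

/-- The biproduct bicone in the category of finite filtered objects. -/
noncomputable def biconeF (X Y : FilD.FilF A) : BinaryBicone X Y where
  pt := biprodF X Y
  fst := ObjectProperty.homMk (biprod.fst : X.obj ⊞ Y.obj ⟶ X.obj)
  snd := ObjectProperty.homMk (biprod.snd : X.obj ⊞ Y.obj ⟶ Y.obj)
  inl := ObjectProperty.homMk (biprod.inl : X.obj ⟶ X.obj ⊞ Y.obj)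
  inr := ObjectProperty.homMk (biprod.inr : Y.obj ⟶ X.obj ⊞ Y.obj)
  inl_fst := by apply ObjectProperty.hom_ext; exact biprod.inl_fst
  inl_snd := by apply ObjectProperty.hom_ext; exact biprod.inl_snd
  inr_fst := by apply ObjectProperty.hom_ext; exact biprod.inr_fst
  inr_snd := by apply ObjectProperty.hom_ext; exact biprod.inr_snd

instance hasBinaryBiproducts_filF : HasBinaryBiproducts (FilD.FilF A) where
  has_binary_biproduct X Y := hasBinaryBiproduct_of_total (biconeF X Y) (by
    apply ObjectProperty.hom_ext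
    exact biprod.total)

end Groth.Agent.H2.FD
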