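import Groth.Agent.Lib.Helper2.FilD10
import Mathlib.Algebra.Homology.HomotopyCategory.Acyclic
import Mathlib.Algebra.Homology.HomotopyCategory.Pretriangulated

/-!
# Filtered quasi-isomorphisms induce bijections on homotopy classes of maps to filtered injectives
-/

universe v u

open CategoryTheory CategoryTheory.Limits Opposite

namespace Groth.Agent.H2.FD

variable {A : Type u} [Category.{v} A] [Abelian A]

/-- The mapping cone of a quasi-isomorphism is acyclic. -/
lemma exactAt_mappingCone_of_quasiIso {K L : CochainComplex A ℤ} (f : K ⟶ L) [QuasiIso f] (n : ℤ) :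
    (CochainComplex.mappingCone f).ExactAt n := by
  have h1 : HomotopyCategory.quasiIso A (ComplexShape.up ℤ)
      ((HomotopyCategory.quotient A (ComplexShape.up ℤ)).map f) := by
    rw [HomotopyCategory.quotient_map_mem_quasiIso_iff]
    exact (HomologicalComplex.mem_quasiIso_iff f).2 inferInstance
  rw [HomotopyCategory.quasiIso_eq_trW_subcategoryAcyclic] at h1
  have h2 := ((HomotopyCategory.subcategoryAcyclic A).trW_iff_of_distinguished _
    (HomotopyCategory.mappingCone_triangleh_distinguished f)).1 h1
  exact (HomotopyCategory.quotient_obj_mem_subcategoryAcyclic_iff_exactAt _).1 h2 n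

/-- The mapping cone of a filtered quasi-isomorphism is filtered acyclic. -/
lemma isFilteredAcyclic_mappingCone {K L : CochainComplex (FilD.FilF A) ℤ} (α : K ⟶ L)
    (hα : FilD.IsFilteredQuasiIso α) : FilD.IsFilteredAcyclic (CochainComplex.mappingCone α) := by
  intro p n
  haveI : QuasiIso ((FilD.grCx p).map α) := hα p
  exact (exactAt_mappingCone_of_quasiIso ((FilD.grCx p).map α) n).of_iso
    (CochainComplex.mappingCone.mapHomologicalComplexIso α (FilD.grF A p)).symm

/-- Morphisms in the homotopy category from a filtered acyclic complex to a bounded below complex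
of filtered injectives vanish. -/
lemma hom_eq_zero (K I : CochainComplex (FilD.FilF A) ℤ)
    (hK : FilD.IsFilteredAcyclic K) (a : ℤ) [I.IsStrictlyGE a]
    (hI : ∀ n, FilD.IsFilteredInjective (I.X n))
    (g : (HomotopyCategory.quotient (FilD.FilF A) (ComplexShape.up ℤ)).obj K ⟶
      (HomotopyCategory.quotient (FilD.FilF A) (ComplexShape.up ℤ)).obj I) : g = 0 := by
  obtain ⟨g', rfl⟩ := (HomotopyCategory.quotient _ _).map_surjective g
  obtain ⟨h⟩ := nonempty_homotopy_zero K I hK a hI g'
  rw [HomotopyCategory.eq_of_homotopy _ _ h, Functor.map_zero]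

end Groth.Agent.H2.FD

namespace Groth.Agent.H2.FD

open CategoryTheory CategoryTheory.Limits Opposite

variable {A : Type u} [Category.{v} A] [Abelian A]

/-- Morphisms from the desuspension of a filtered acyclic complex vanish as well. -/
lemma hom_shift_eq_zero (K I : CochainComplex (FilD.FilF A) ℤ)
    (hK : FilD.IsFilteredAcyclic K) (a : ℤ) [I.IsStrictlyGE a]
    (hI : ∀ n, FilD.IsFilteredInjective (I.X n))
    (f : ((HomotopyCategory.quotient (FilD.FilF A) (ComplexShape.up ℤ)).obj K)⟦(-1 : ℤ)⟧ ⟶
      (HomotopyCategory.quotient (FilD.FilF A) (ComplexShape.up ℤ)).obj I) : f = 0 := by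
  apply (shiftFunctor (HomotopyCategory (FilD.FilF A) (ComplexShape.up ℤ)) (1 : ℤ)).map_injective
  rw [Functor.map_zero]
  haveI : (I⟦(1 : ℤ)⟧).IsStrictlyGE (a - 1) := CochainComplex.isStrictlyGE_shift I a 1 (a - 1) (by omega)
  have h0 := hom_eq_zero K (I⟦(1 : ℤ)⟧) hK (a - 1) (fun n => hI (n + 1))
    ((shiftEquiv (HomotopyCategory (FilD.FilF A) (ComplexShape.up ℤ)) (1 : ℤ)).counitIso.inv.app _ ≫
      f⟦(1 : ℤ)⟧' ≫ (((HomotopyCategory.quotient (FilD.FilF A) (ComplexShape.up ℤ)).commShiftIso
        (1 : ℤ)).app I).inv)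
  have h1 := (cancel_epi ((shiftEquiv (HomotopyCategory (FilD.FilF A) (ComplexShape.up ℤ))
      (1 : ℤ)).counitIso.inv.app _)).1 (h0.trans comp_zero.symm)
  exact (cancel_mono ((((HomotopyCategory.quotient (FilD.FilF A) (ComplexShape.up ℤ)).commShiftIso
        (1 : ℤ)).app I).inv)).1 (h1.trans zero_comp.symm)

/-- Precomposition with a filtered quasi-isomorphism is bijective on homotopy classes of maps to a
bounded below complex of filtered injectives. -/
theorem bijective_precomp (I : CochainComplex (FilD.FilF A) ℤ)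
    (a : ℤ) [I.IsStrictlyGE a] (hI : ∀ n, FilD.IsFilteredInjective (I.X n))
    {K L : CochainComplex (FilD.FilF A) ℤ} (α : K ⟶ L) (hα : FilD.IsFilteredQuasiIso α) :
    Function.Bijective (fun β : (HomotopyCategory.quotient (FilD.FilF A) (ComplexShape.up ℤ)).obj L ⟶
        (HomotopyCategory.quotient (FilD.FilF A) (ComplexShape.up ℤ)).obj I =>
      (HomotopyCategory.quotient (FilD.FilF A) (ComplexShape.up ℤ)).map α ≫ β) := by
  have hC := isFilteredAcyclic_mappingCone α hα
  have hT := HomotopyCategory.mappingCone_triangleh_distinguished α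
  constructor
  · intro β₁ β₂ h
    dsimp only at h
    have h0 : (HomotopyCategory.quotient (FilD.FilF A) (ComplexShape.up ℤ)).map α ≫ (β₁ - β₂) = 0 := by
      rw [Preadditive.comp_sub, sub_eq_zero]
      exact h
    obtain ⟨g, hg⟩ := Pretriangulated.Triangle.yoneda_exact₂
      (CochainComplex.mappingCone.triangleh α) hT (β₁ - β₂) h0
    obtain rfl : g = 0 := hom_eq_zero _ I hC a hI g
    exact sub_eq_zero.1 (hg.trans comp_zero)
  · intro γ
    have hT' := Pretriangulated.inv_rot_of_distTriang _ hT
    have hz : (CochainComplex.mappingCone.triangleh α).invRotate.mor₁ ≫ γ = 0 :=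
      hom_shift_eq_zero _ I hC a hI _
    obtain ⟨g, hg⟩ := Pretriangulated.Triangle.yoneda_exact₂ _ hT' γ hz
    exact ⟨g, hg.symm⟩

end Groth.Agent.H2.FD
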