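import Groth.Agent.Lib.Helper2.FilD11

/-!
# The finite filtered object with a single graded piece
-/

universe v u

open CategoryTheory CategoryTheory.Limits Opposite

namespace Groth.Agent.H2.FD

variable {A : Type u} [Category.{v} A] [Abelian A]

attribute [local instance] Abelian.hasFiniteBiproducts

instance hasBiproduct_plift (P : Prop) (J : A) : HasBiproduct (fun _ : PLift P => J) :=
  haveI : HasBiproductsOfShape (PLift P) A := hasBiproductsOfShape_finite _
  inferInstance

/-- The functor with value `J` in degrees `≤ n` and `0` in degrees `> n`. -/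
noncomputable def stepObj (n : ℤ) (J : A) : ℤᵒᵖ ⥤ A where
  obj x := ⨁ (fun _ : PLift (x.unop ≤ n) => J)
  map {x y} f := biproduct.desc (fun h =>
    biproduct.ι (fun _ : PLift (y.unop ≤ n) => J) ⟨(leOfHom f.unop).trans h.down⟩)
  map_id x := by
    apply biproduct.hom_ext'
    intro h
    rw [biproduct.ι_desc, Category.comp_id]
  map_comp f g := by
    apply biproduct.hom_ext'
    intro h
    rw [biproduct.ι_desc, biproduct.ι_desc_assoc, biproduct.ι_desc]

/-- The inclusion of `J` in a degree `≤ n`. -/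
noncomputable abbrev stepι (n : ℤ) (J : A) {p : ℤ} (h : p ≤ n) : J ⟶ (stepObj n J).obj (op p) :=
  biproduct.ι (fun _ : PLift (p ≤ n) => J) ⟨h⟩

/-- The projection to `J` in a degree `≤ n`. -/
noncomputable abbrev stepπ (n : ℤ) (J : A) {p : ℤ} (h : p ≤ n) : (stepObj n J).obj (op p) ⟶ J :=
  biproduct.π (fun _ : PLift (p ≤ n) => J) ⟨h⟩

@[reassoc (attr := simp)]
lemma stepι_π (n : ℤ) (J : A) {p : ℤ} (h : p ≤ n) : stepι n J h ≫ stepπ n J h = 𝟙 J :=
  biproduct.ι_π_self _ _

@[reassoc (attr := simp)]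
lemma stepπ_ι (n : ℤ) (J : A) {p : ℤ} (h : p ≤ n) : stepπ n J h ≫ stepι n J h = 𝟙 _ := by
  change biproduct.π (fun _ : PLift (p ≤ n) => J) ⟨h⟩ ≫ biproduct.ι (fun _ : PLift (p ≤ n) => J) ⟨h⟩ =
    𝟙 (⨁ fun _ : PLift (p ≤ n) => J)
  apply biproduct.hom_ext'
  intro h'
  obtain rfl : h' = ⟨h⟩ := Subsingleton.elim _ _
  rw [biproduct.ι_π_self_assoc, Category.comp_id]

instance (n : ℤ) (J : A) {p : ℤ} (h : p ≤ n) : IsIso (stepπ n J h) :=
  ⟨stepι n J h, stepπ_ι n J h, stepι_π n J h⟩

instance (n : ℤ) (J : A) {p : ℤ} (h : p ≤ n) : IsIso (stepι n J h) :=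
  ⟨stepπ n J h, stepι_π n J h, stepπ_ι n J h⟩

lemma isZero_stepObj (n : ℤ) (J : A) {p : ℤ} (h : ¬ p ≤ n) : IsZero ((stepObj n J).obj (op p)) := by
  rw [IsZero.iff_id_eq_zero]
  apply biproduct.hom_ext'
  intro h'
  exact absurd h'.down h

@[reassoc]
lemma stepι_map (n : ℤ) (J : A) {p q : ℤ} (hpq : p ≤ q) (h : q ≤ n) :
    stepι n J h ≫ (stepObj n J).map (homOfLE hpq).op = stepι n J (hpq.trans h) :=
  biproduct.ι_desc _ _

@[reassoc]
lemma stepObj_map_π (n : ℤ) (J : A) {p q : ℤ} (hpq : p ≤ q) (h : q ≤ n) :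
    (stepObj n J).map (homOfLE hpq).op ≫ stepπ n J (hpq.trans h) = stepπ n J h := by
  rw [← cancel_epi (stepι n J h), stepι_map_assoc, stepι_π, stepι_π]

lemma isIso_stepObj_map (n : ℤ) (J : A) ⦃x y : ℤᵒᵖ⦄ (f : x ⟶ y) (hx : x.unop ≤ n) :
    IsIso ((stepObj n J).map f) := by
  have hf : f = (homOfLE (leOfHom f.unop)).op := Quiver.Hom.unop_inj (Subsingleton.elim _ _)
  have hle : y.unop ≤ x.unop := leOfHom f.unop
  have e : (stepObj n J).map f = stepπ n J hx ≫ stepι n J (hle.trans hx) := by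
    rw [hf, ← cancel_epi (stepι n J hx), stepι_map, stepι_π_assoc]
  rw [e]
  infer_instance

/-- `stepObj n J` is a finite filtered object. -/
lemma isFinFil_stepObj (n : ℤ) (J : A) : FilD.IsFinFil A (stepObj n J) := by
  refine ⟨fun x y f => ?_, ⟨n + 1, fun p hp => isZero_stepObj n J (by omega)⟩,
    ⟨n, isIso_stepObj_map n J⟩⟩
  by_cases hx : x.unop ≤ n
  · haveI := isIso_stepObj_map n J f hx
    infer_instance
  · exact ⟨fun g h _ => (isZero_stepObj n J (p := x.unop) hx).eq_of_tgt _ _⟩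

/-- `stepObj n J` as a finite filtered object. -/
noncomputable def stepF (n : ℤ) (J : A) : FilD.FilF A := ⟨stepObj n J, isFinFil_stepObj n J⟩

/-- Zero objects are injective. -/
lemma injective_of_isZero {Z : A} (hZ : IsZero Z) : Injective Z :=
  ⟨fun _ _ _ => ⟨0, hZ.eq_of_tgt _ _⟩⟩

/-- The graded pieces of `stepF n J` are injective when `J` is. -/
lemma isFilteredInjective_stepF (n : ℤ) (J : A) [Injective J] :
    FilD.IsFilteredInjective (stepF n J) := by
  intro p
  by_cases hp : p ≤ n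
  · by_cases hp1 : p + 1 ≤ n
    · -- the transition map is an isomorphism, so the graded piece vanishes
      apply injective_of_isZero
      have hz : IsZero (cokernel (tr (stepF n J) (le_succ p))) := by
        haveI : IsIso (tr (stepF n J) (le_succ p)) := isIso_stepObj_map n J _ hp1
        exact isZero_cokernel_of_epi _
      exact hz
    · haveI : Mono (grπ (stepF n J) p) := by
        apply Preadditive.mono_of_cancel_zero
        intro T k hk
        obtain ⟨k', hk'⟩ := gr_lift (stepF n J) p k hk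
        have hk0 : k' = 0 := (isZero_stepObj n J (p := p + 1) hp1).eq_of_tgt _ _
        rw [← hk', hk0, zero_comp]
      have h1 : IsIso (grπ (stepF n J) p) := isIso_of_mono_of_epi _
      have e2 : lv (stepF n J) p ≅ (FilD.grF A p).obj (stepF n J) := @asIso _ _ _ _ _ h1
      exact Injective.of_iso (asIso (stepι n J hp) ≪≫ e2) inferInstance
  · apply injective_of_isZero
    have : IsZero (lv (stepF n J) p) := isZero_stepObj n J hp
    rw [IsZero.iff_id_eq_zero, ← cancel_epi (grπ (stepF n J) p)]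
    exact this.eq_of_src _ _

end Groth.Agent.H2.FD
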