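import Groth.Agent.Lib.Helper2.FilD12

/-!
# The canonical map to the bottom level, and morphisms into `stepF`
-/

universe v u

open CategoryTheory CategoryTheory.Limits Opposite

namespace Groth.Agent.H2.FD

variable {A : Type u} [Category.{v} A] [Abelian A]

attribute [local instance] Abelian.hasFiniteBiproducts

/-- The canonical map from level `p` to the bottom level `a`. -/
noncomputable def toBot (X : FilD.FilF A) {a : ℤ} (ha : IsBot X a) (p : ℤ) : lv X p ⟶ lv X a :=
  haveI := ha (min_le_right p a) le_rfl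
  tr X (min_le_left p a) ≫ inv (tr X (min_le_right p a))

lemma toBot_comp_tr (X : FilD.FilF A) {a : ℤ} (ha : IsBot X a) (p : ℤ) :
    toBot X ha p ≫ tr X (min_le_right p a) = tr X (min_le_left p a) := by
  haveI := ha (min_le_right p a) le_rfl
  simp [toBot]

@[reassoc]
lemma tr_toBot (X : FilD.FilF A) {a : ℤ} (ha : IsBot X a) {p q : ℤ} (h : p ≤ q) :
    tr X h ≫ toBot X ha p = toBot X ha q := by
  have hm : min p a ≤ min q a := min_le_min_right a h
  rw [← cancel_mono (tr X (min_le_right p a)), Category.assoc, toBot_comp_tr, tr_comp,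
    ← tr_comp X hm (min_le_right q a), ← Category.assoc, toBot_comp_tr, tr_comp]

lemma toBot_of_le (X : FilD.FilF A) {a : ℤ} (ha : IsBot X a) {p : ℤ} (h : a ≤ p) :
    toBot X ha p = tr X h := by
  have h1 := tr_toBot X ha h
  have h2 : toBot X ha a = 𝟙 _ := by
    haveI := ha (min_le_right a a) le_rfl
    rw [← cancel_mono (tr X (min_le_right a a)), toBot_comp_tr, Category.id_comp]
  rw [← h1, h2, Category.comp_id]

instance (X : FilD.FilF A) {a : ℤ} (ha : IsBot X a) (p : ℤ) : Mono (toBot X ha p) := by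
  haveI := ha (min_le_right p a) le_rfl
  unfold toBot
  infer_instance

lemma isIso_toBot (X : FilD.FilF A) {a : ℤ} (ha : IsBot X a) {p : ℤ} (h : p ≤ a) :
    IsIso (toBot X ha p) := by
  haveI := ha (min_le_right p a) le_rfl
  haveI : IsIso (tr X (min_le_left p a)) := ha (min_le_left p a) h
  unfold toBot
  infer_instance

@[reassoc]
lemma toBot_app {X Y : FilD.FilF A} (φ : X ⟶ Y) {a : ℤ} (hX : IsBot X a) (hY : IsBot Y a) (p : ℤ) :
    toBot X hX p ≫ app φ a = app φ p ≫ toBot Y hY p := by
  rw [← cancel_mono (tr Y (min_le_right p a)), Category.assoc, Category.assoc, toBot_comp_tr,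
    ← tr_app, ← tr_app, ← Category.assoc, toBot_comp_tr]

/-- Lifting a map to `J` to a map to a level of `stepObj n J`. -/
noncomputable def stepLift (n : ℤ) (J : A) {T : A} (p : ℤ) (f : T ⟶ J) :
    T ⟶ (stepObj n J).obj (op p) :=
  biproduct.lift (fun _ : PLift (p ≤ n) => f)

@[reassoc (attr := simp)]
lemma stepLift_π (n : ℤ) (J : A) {T : A} {p : ℤ} (f : T ⟶ J) (h : p ≤ n) :
    stepLift n J p f ≫ stepπ n J h = f :=
  biproduct.lift_π _ _

lemma step_hom_ext (n : ℤ) (J : A) {T : A} {p : ℤ} {f g : T ⟶ (stepObj n J).obj (op p)}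
    (h : ∀ hp : p ≤ n, f ≫ stepπ n J hp = g ≫ stepπ n J hp) : f = g :=
  biproduct.hom_ext _ _ (fun ⟨hp⟩ => h hp)

/-- The projection on a level of `stepF`. -/
noncomputable def stepFπ (n : ℤ) (J : A) {p : ℤ} (h : p ≤ n) : lv (stepF n J) p ⟶ J := stepπ n J h

lemma isZero_lv_stepF (n : ℤ) (J : A) {p : ℤ} (h : ¬ p ≤ n) : IsZero (lv (stepF n J) p) :=
  isZero_stepObj n J h

/-- A morphism into `stepF n J` from a map on the bottom level vanishing on level `n + 1`. -/
lemma exists_toStep (X : FilD.FilF A) {a : ℤ} (ha : IsBot X a) (n : ℤ) (J : A) (w : lv X a ⟶ J)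
    (hw : toBot X ha (n + 1) ≫ w = 0) :
    ∃ τ : X ⟶ stepF n J, ∀ (p : ℤ) (h : p ≤ n), app τ p ≫ stepFπ n J h = toBot X ha p ≫ w := by
  obtain ⟨τ, hτ⟩ := natTrans_of_step (F := X.obj) (G := stepObj n J)
    (fun p => stepLift n J p (toBot X ha p ≫ w)) (by
      intro p
      change tr X (le_succ p) ≫ _ = _ ≫ (stepObj n J).map (homOfLE (le_succ p)).op
      apply step_hom_ext
      intro h
      rw [Category.assoc, stepLift_π, tr_toBot_assoc, Category.assoc]
      by_cases h1 : p + 1 ≤ n
      · rw [stepObj_map_π n J (le_succ p) h1, stepLift_π]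
      · have hpn : p = n := by omega
        subst hpn
        rw [hw]
        have hz := isZero_stepObj p J h1
        rw [hz.eq_of_tgt (stepLift p J (p + 1) 0) 0, zero_comp])
  refine ⟨ObjectProperty.homMk τ, fun p h => ?_⟩
  change τ.app (op p) ≫ stepπ n J h = _
  rw [hτ, stepLift_π]

end Groth.Agent.H2.FD
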