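import Groth.Agent.Lib.Helper2.FilD13
import Mathlib.CategoryTheory.Preadditive.FunctorCategory

/-!
# Enough filtered injectives
-/

universe v u

open CategoryTheory CategoryTheory.Limits Opposite

namespace Groth.Agent.H2.FD

variable {A : Type u} [Category.{v} A] [Abelian A]

attribute [local instance] Abelian.hasFiniteBiproducts

/-- A functor which is levelwise a finite biproduct of finite filtered objects is finite filtered. -/
lemma isFinFil_of_finite_bicone {ι : Type} [Fintype ι] (F : ι → FilD.FilF A) (a b : ℤ)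
    (hb : ∀ i, IsTop (F i) b) (ha : ∀ i, IsBot (F i) a) (P : ℤᵒᵖ ⥤ A)
    (pr : ∀ i, P ⟶ (F i).obj) (inj : ∀ i, (F i).obj ⟶ P) (total : ∑ i, pr i ≫ inj i = 𝟙 P) :
    FilD.IsFinFil A P := by
  have tot : ∀ x : ℤᵒᵖ, ∑ i, (pr i).app x ≫ (inj i).app x = 𝟙 (P.obj x) := by
    intro x
    have := NatTrans.congr_app total x
    simpa [NatTrans.app_sum] using this
  have hmono : ∀ ⦃x y : ℤᵒᵖ⦄ (f : x ⟶ y), Mono (P.map f) := by
    intro x y f
    apply Preadditive.mono_of_cancel_zero
    intro T k hk
    have h1 : ∀ i, k ≫ (pr i).app x = 0 := by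
      intro i
      haveI : Mono ((F i).obj.map f) := (F i).property.1 f
      rw [← cancel_mono ((F i).obj.map f), Category.assoc, ← (pr i).naturality, reassoc_of% hk]
      simp
    have := k ≫= tot x
    rw [Preadditive.comp_sum, Category.comp_id] at this
    rw [← this]
    apply Finset.sum_eq_zero
    intro i _
    rw [reassoc_of% (h1 i), zero_comp]
  refine ⟨hmono, ⟨b, fun p hp => ?_⟩, ⟨a, fun x y f hx => ?_⟩⟩
  · rw [IsZero.iff_id_eq_zero, ← tot (op p)]
    apply Finset.sum_eq_zero
    intro i _
    rw [(hb i p hp).eq_of_tgt ((pr i).app (op p)) 0, zero_comp]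
  · have hf : f = (homOfLE (leOfHom f.unop)).op := Quiver.Hom.unop_inj (Subsingleton.elim _ _)
    have hle : y.unop ≤ x.unop := leOfHom f.unop
    have hiso : ∀ i, IsIso ((F i).obj.map f) := by
      intro i
      rw [hf]; exact ha i hle hx
    refine ⟨∑ i, (pr i).app y ≫ (haveI := hiso i; inv ((F i).obj.map f)) ≫ (inj i).app x, ?_, ?_⟩
    · rw [Preadditive.comp_sum, ← tot x]
      apply Finset.sum_congr rfl
      intro i _
      haveI := hiso i
      rw [(pr i).naturality_assoc, IsIso.hom_inv_id_assoc]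
    · rw [Preadditive.sum_comp, ← tot y]
      apply Finset.sum_congr rfl
      intro i _
      haveI := hiso i
      simp only [Category.assoc]
      rw [← (inj i).naturality, IsIso.inv_hom_id_assoc]

/-- Finite products of finite filtered objects with common bounds. -/
lemma exists_biprod {ι : Type} [Fintype ι] (F : ι → FilD.FilF A) (a b : ℤ)
    (hb : ∀ i, IsTop (F i) b) (ha : ∀ i, IsBot (F i) a) :
    ∃ (I : FilD.FilF A) (π : ∀ i, I ⟶ F i),
      (∀ (X : FilD.FilF A) (τ : ∀ i, X ⟶ F i), ∃ u : X ⟶ I, ∀ i, u ≫ π i = τ i) ∧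
      ((∀ i, FilD.IsFilteredInjective (F i)) → FilD.IsFilteredInjective I) := by
  have hP : FilD.IsFinFil A (⨁ (fun i => (F i).obj)) :=
    isFinFil_of_finite_bicone F a b hb ha _
      (fun i => biproduct.π (fun i => (F i).obj) i)
      (fun i => biproduct.ι (fun i => (F i).obj) i) biproduct.total
  refine ⟨⟨⨁ (fun i => (F i).obj), hP⟩,
    fun i => ObjectProperty.homMk (biproduct.π (fun i => (F i).obj) i), ?_, ?_⟩
  · intro X τ
    refine ⟨ObjectProperty.homMk (biproduct.lift (fun i => (τ i).hom)), fun i => ?_⟩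
    apply ObjectProperty.hom_ext
    exact biproduct.lift_π _ _
  · intro h p
    haveI : ∀ i, Injective (((FilD.gr A p).obj ∘ fun i => (F i).obj) i) := fun i => h i p
    exact Injective.of_iso ((FilD.gr A p).mapBiproduct (fun i => (F i).obj)).symm inferInstance

end Groth.Agent.H2.FD
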