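import Groth.Agent.Lib.Helper2.FilD14

/-!
# Enough filtered injectives: the construction
-/

universe v u

open CategoryTheory CategoryTheory.Limits Opposite

namespace Groth.Agent.H2.FD

variable {A : Type u} [Category.{v} A] [Abelian A]

lemma isTop_stepF (n : ℤ) (J : A) {b : ℤ} (h : n < b) : IsTop (stepF n J) b :=
  fun p hp => isZero_stepObj n J (by omega)

lemma isBot_stepF (n : ℤ) (J : A) {a : ℤ} (h : a ≤ n) : IsBot (stepF n J) a :=
  fun _ _ _ hq => isIso_stepObj_map n J _ (hq.trans h)

/-- Every finite filtered object admits a strict monomorphism into a filtered injective object. -/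
theorem exists_strictMono_filteredInjective [EnoughInjectives A] (X : FilD.FilF A) :
    ∃ (I : FilD.FilF A) (u : X ⟶ I), FilD.IsFilteredInjective I ∧ Mono u ∧ FilD.IsStrict u := by
  obtain ⟨a, ha⟩ := exists_isBot X
  obtain ⟨b, hb⟩ := exists_isTop X
  let n : Fin (b - a).toNat → ℤ := fun i => a + i
  let J : Fin (b - a).toNat → A := fun i => Injective.under (cokernel (toBot X ha (n i + 1)))
  let w : ∀ i, lv X a ⟶ J i := fun i =>
    cokernel.π (toBot X ha (n i + 1)) ≫ Injective.ι (cokernel (toBot X ha (n i + 1)))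
  have hw : ∀ i, toBot X ha (n i + 1) ≫ w i = 0 := fun i => by
    simp only [w]
    rw [cokernel.condition_assoc, zero_comp]
  have hwm : ∀ (i : Fin (b - a).toNat) {T : A} (x : T ⟶ lv X a), x ≫ w i = 0 →
      x ≫ cokernel.π (toBot X ha (n i + 1)) = 0 := by
    intro i T x hx
    simp only [w] at hx
    rw [← Category.assoc] at hx
    exact zero_of_comp_mono _ hx
  choose τ hτ using fun i => exists_toStep X ha (n i) (J i) (w i) (hw i)
  obtain ⟨I, π, hlift, hinj⟩ := exists_biprod (fun i => stepF (n i) (J i)) a (a + (b - a).toNat)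
    (fun i => isTop_stepF _ _ (by simp only [n]; have := i.2; omega))
    (fun i => isBot_stepF _ _ (by simp only [n]; omega))
  obtain ⟨u, hu'⟩ := hlift X τ
  have hu : ∀ (i : Fin (b - a).toNat) (p : ℤ), app u p ≫ app (π i) p = app (τ i) p := by
    intro i p
    rw [← app_comp, hu']
  clear_value w
  -- the key lifting property
  have key : ∀ (p : ℤ) {T : A} (x : T ⟶ lv X p),
      (∀ (i : Fin (b - a).toNat) (h : p ≤ n i), n i = p →
        x ≫ app (τ i) p ≫ stepFπ (n i) (J i) h = 0) →
      ∃ x' : T ⟶ lv X (p + 1), x' ≫ tr X (le_succ p) = x := by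
    intro p T x hx
    by_cases hpa : p < a
    · haveI : IsIso (tr X (le_succ p)) := ha (le_succ p) (by omega)
      exact ⟨x ≫ inv (tr X (le_succ p)), by simp⟩
    · by_cases hpb : b ≤ p
      · exact ⟨0, by rw [zero_comp]; exact ((hb p hpb).eq_of_tgt _ _)⟩
      · obtain ⟨i, hi⟩ : ∃ i : Fin (b - a).toNat, n i = p :=
          ⟨⟨(p - a).toNat, by omega⟩, by simp only [n]; omega⟩
        have h0 := hx i (le_of_eq hi.symm) hi
        subst hi
        rw [hτ i _ le_rfl, ← Category.assoc] at h0
        have h1 := hwm i _ h0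
        refine ⟨Abelian.monoLift (toBot X ha (n i + 1)) _ h1, ?_⟩
        rw [← cancel_mono (toBot X ha (n i)), Category.assoc, tr_toBot]
        exact Abelian.monoLift_comp _ _ _
  refine ⟨I, u, hinj (fun i => isFilteredInjective_stepF (n i) (J i)), ?_, ?_⟩
  · -- monomorphism
    apply mono_of_mono_app
    intro p
    apply Preadditive.mono_of_cancel_zero
    suffices ∀ (k : ℕ) (p : ℤ), b ≤ p + k → ∀ {T : A} (x : T ⟶ lv X p), x ≫ app u p = 0 → x = 0 from
      fun {T} x hx => this (b - p).toNat p (by omega) x hx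
    intro k
    induction k with
    | zero =>
      intro p hp T x _
      exact (hb p (by simpa using hp)).eq_of_tgt _ _
    | succ k ih =>
      intro p hp T x hx
      obtain ⟨x', hx'⟩ := key p x (fun i h _ => by
        rw [← hu i p, Category.assoc, reassoc_of% hx, zero_comp])
      have : x' = 0 := ih (p + 1) (by push_cast at hp; omega) x' (by
        rw [← cancel_mono (tr I (le_succ p)), Category.assoc, ← tr_app, reassoc_of% hx', hx,
          zero_comp])
      rw [← hx', this, zero_comp]
  · -- strictness
    apply isStrict_of_refine_step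
    intro p T x y hxy
    obtain ⟨x', hx'⟩ := key p x (fun i h hi => by
      rw [← hu i p, Category.assoc, reassoc_of% hxy, tr_app_assoc]
      have hz : IsZero (lv (stepF (n i) (J i)) (p + 1)) := isZero_lv_stepF _ _ (by omega)
      rw [hz.eq_of_tgt (app (π i) (p + 1)) 0]
      simp)
    refine ⟨T, 𝟙 T, inferInstance, x', ?_⟩
    rw [Category.id_comp, ← cancel_mono (tr I (le_succ p)), Category.assoc, ← tr_app,
      reassoc_of% hx', hxy]

end Groth.Agent.H2.FD
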