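import Groth.Agent.Lib.Helper2.FilD15

/-!
# Lifting morphisms to filtered injective resolutions
-/

universe v u

open CategoryTheory CategoryTheory.Limits Opposite

namespace Groth.Agent.H2.FD

variable {A : Type u} [Category.{v} A] [Abelian A]

/-- Homotopic maps from a complex concentrated in degree `0` to a complex vanishing in negative
degrees are equal. -/
lemma eq_of_homotopy_from_single {C : Type*} [Category C] [Preadditive C] [HasZeroObject C]
    {X : C} {J : CochainComplex C ℤ} [J.IsStrictlyGE 0]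
    {f g : (CochainComplex.singleFunctor C 0).obj X ⟶ J} (h : Homotopy f g) : f = g := by
  apply HomologicalComplex.from_single_hom_ext
  rw [h.comm 0]
  have h1 : dNext 0 h.hom = 0 := by
    rw [dNext_eq h.hom (show (ComplexShape.up ℤ).Rel 0 1 by simp)]
    have hz : IsZero (((CochainComplex.singleFunctor C 0).obj X).X 1) :=
      HomologicalComplex.isZero_single_obj_X _ _ _ _ (by simp)
    rw [hz.eq_of_src (h.hom 1 0) 0, comp_zero]
  have h2 : prevD 0 h.hom = 0 := by
    rw [prevD_eq h.hom (show (ComplexShape.up ℤ).Rel (-1) 0 by simp)]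
    have hz : IsZero (J.X (-1)) := J.isZero_of_isStrictlyGE 0 (-1) (by omega)
    rw [hz.eq_of_tgt (h.hom 0 (-1)) 0, zero_comp]
  rw [h1, h2, zero_add, zero_add]

/-- Morphisms of finite filtered objects lift to filtered injective resolutions. -/
theorem exists_lift_resolution {X Y : FilD.FilF A} (f : X ⟶ Y)
    (I : CochainComplex (FilD.FilF A) ℤ)
    (a : (CochainComplex.singleFunctor (FilD.FilF A) 0).obj X ⟶ I) (ha : FilD.IsFilteredQuasiIso a)
    (J : CochainComplex (FilD.FilF A) ℤ) [J.IsStrictlyGE 0]
    (hJ : ∀ n, FilD.IsFilteredInjective (J.X n))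
    (b : (CochainComplex.singleFunctor (FilD.FilF A) 0).obj Y ⟶ J) :
    ∃ φ : I ⟶ J, a ≫ φ = (CochainComplex.singleFunctor (FilD.FilF A) 0).map f ≫ b := by
  obtain ⟨β, hβ⟩ := (bijective_precomp J 0 hJ a ha).2
    ((HomotopyCategory.quotient _ _).map ((CochainComplex.singleFunctor (FilD.FilF A) 0).map f ≫ b))
  obtain ⟨φ, rfl⟩ := (HomotopyCategory.quotient _ _).map_surjective β
  dsimp only at hβ
  rw [← Functor.map_comp] at hβ
  exact ⟨φ, eq_of_homotopy_from_single (HomotopyCategory.homotopyOfEq _ _ hβ)⟩

end Groth.Agent.H2.FD
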