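import Groth.Agent.Lib.Helper2.FilD16

/-!
# Cokernels of strict morphisms of finite filtered objects
-/

universe v u

open CategoryTheory CategoryTheory.Limits Opposite

namespace Groth.Agent.H2.FD

variable {A : Type u} [Category.{v} A] [Abelian A]

instance epi_cokernel_π_app {F G : ℤᵒᵖ ⥤ A} (φ : F ⟶ G) (x : ℤᵒᵖ) : Epi ((cokernel.π φ).app x) :=
  (NatTrans.epi_iff_epi_app (cokernel.π φ)).1 inferInstance _

lemma app_cokernel_π {F G : ℤᵒᵖ ⥤ A} (φ : F ⟶ G) (x : ℤᵒᵖ) :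
    φ.app x ≫ (cokernel.π φ).app x = 0 := by
  rw [← NatTrans.comp_app, cokernel.condition]
  rfl

/-- Levelwise exactness for the cokernel in the functor category. -/
lemma cokernel_exact_app {F G : ℤᵒᵖ ⥤ A} (φ : F ⟶ G) (x : ℤᵒᵖ) {T : A} (y : T ⟶ G.obj x)
    (hy : y ≫ (cokernel.π φ).app x = 0) :
    ∃ (T' : A) (π : T' ⟶ T) (_ : Epi π) (z : T' ⟶ F.obj x), π ≫ y = z ≫ φ.app x := by
  have h1 : (ShortComplex.mk φ (cokernel.π φ) (cokernel.condition φ)).Exact :=
    ShortComplex.exact_of_g_is_cokernel _ (cokernelIsCokernel φ)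
  have h2 := h1.map ((evaluation ℤᵒᵖ A).obj x)
  exact h2.exact_up_to_refinements y hy

/-- The levelwise cokernel of a strict morphism of finite filtered objects is finite filtered. -/
lemma isFinFil_cokernel {X Y : FilD.FilF A} (φ : X ⟶ Y) (hφ : FilD.IsStrict φ) :
    FilD.IsFinFil A (cokernel φ.hom) := by
  have hmono : ∀ ⦃x y : ℤᵒᵖ⦄ (f : x ⟶ y), Mono ((cokernel φ.hom).map f) := by
    intro x y f
    have hf : f = (homOfLE (leOfHom f.unop)).op := Quiver.Hom.unop_inj (Subsingleton.elim _ _)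
    have hle : y.unop ≤ x.unop := leOfHom f.unop
    apply Preadditive.mono_of_cancel_zero
    intro T c hc
    obtain ⟨T1, π1, hπ1, y', hy'⟩ :=
      surjective_up_to_refinements_of_epi ((cokernel.π φ.hom).app x) c
    obtain ⟨T2, π2, hπ2, z, hz⟩ := cokernel_exact_app φ.hom y (y' ≫ Y.obj.map f) (by
      rw [Category.assoc, (cokernel.π φ.hom).naturality, ← reassoc_of% hy', hc, comp_zero])
    obtain ⟨T3, π3, hπ3, z', hz'⟩ := refine_of_isStrict hφ hle z (π2 ≫ y') (by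
      change z ≫ φ.hom.app y = (π2 ≫ y') ≫ Y.obj.map (homOfLE hle).op
      rw [← hz, Category.assoc, hf])
    rw [← cancel_epi π1, ← cancel_epi π2, ← cancel_epi π3, comp_zero, comp_zero, comp_zero, hy']
    have e : π3 ≫ π2 ≫ y' ≫ (cokernel.π φ.hom).app x =
        (π3 ≫ π2 ≫ y') ≫ (cokernel.π φ.hom).app x := by simp only [Category.assoc]
    rw [e, hz']
    change (z' ≫ φ.hom.app x) ≫ _ = 0
    rw [Category.assoc, app_cokernel_π, comp_zero]
  refine ⟨hmono, ?_, ?_⟩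
  · obtain ⟨b, hb⟩ := exists_isTop Y
    refine ⟨b, fun p hp => ?_⟩
    rw [IsZero.iff_id_eq_zero, ← cancel_epi ((cokernel.π φ.hom).app (op p))]
    exact (hb p hp).eq_of_src _ _
  · obtain ⟨a, ha⟩ := exists_isBot Y
    refine ⟨a, fun x y f hx => ?_⟩
    have hf : f = (homOfLE (leOfHom f.unop)).op := Quiver.Hom.unop_inj (Subsingleton.elim _ _)
    have hle : y.unop ≤ x.unop := leOfHom f.unop
    haveI : IsIso (Y.obj.map f) := by
      rw [hf]; exact ha hle hx
    haveI := hmono f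
    haveI : Epi ((cokernel.π φ.hom).app x ≫ (cokernel φ.hom).map f) := by
      rw [← (cokernel.π φ.hom).naturality]
      infer_instance
    haveI : Epi ((cokernel φ.hom).map f) := epi_of_epi ((cokernel.π φ.hom).app x) _
    exact isIso_of_mono_of_epi _

/-- The cokernel of a strict morphism, as a finite filtered object. -/
noncomputable def cokerF {X Y : FilD.FilF A} (φ : X ⟶ Y) (hφ : FilD.IsStrict φ) : FilD.FilF A :=
  ⟨cokernel φ.hom, isFinFil_cokernel φ hφ⟩

/-- The projection to the cokernel. -/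
noncomputable def cokerπ {X Y : FilD.FilF A} (φ : X ⟶ Y) (hφ : FilD.IsStrict φ) :
    Y ⟶ cokerF φ hφ :=
  ObjectProperty.homMk (cokernel.π φ.hom)

@[reassoc (attr := simp)]
lemma comp_cokerπ {X Y : FilD.FilF A} (φ : X ⟶ Y) (hφ : FilD.IsStrict φ) :
    φ ≫ cokerπ φ hφ = 0 := by
  apply ObjectProperty.hom_ext
  exact cokernel.condition φ.hom

instance epi_app_cokerπ {X Y : FilD.FilF A} (φ : X ⟶ Y) (hφ : FilD.IsStrict φ) (p : ℤ) :
    Epi (app (cokerπ φ hφ) p) :=
  epi_cokernel_π_app φ.hom (op p)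

lemma cokerπ_exact {X Y : FilD.FilF A} (φ : X ⟶ Y) (hφ : FilD.IsStrict φ) (p : ℤ) {T : A}
    (y : T ⟶ lv Y p) (hy : y ≫ app (cokerπ φ hφ) p = 0) :
    ∃ (T' : A) (π : T' ⟶ T) (_ : Epi π) (z : T' ⟶ lv X p), π ≫ y = z ≫ app φ p :=
  cokernel_exact_app φ.hom (op p) y hy

/-- Descending a morphism to the cokernel. -/
noncomputable def cokerDesc {X Y Z : FilD.FilF A} (φ : X ⟶ Y) (hφ : FilD.IsStrict φ) (g : Y ⟶ Z)
    (hg : φ ≫ g = 0) : cokerF φ hφ ⟶ Z :=
  ObjectProperty.homMk (cokernel.desc φ.hom g.hom (congrArg (fun f => f.hom) hg))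

@[reassoc (attr := simp)]
lemma cokerπ_desc {X Y Z : FilD.FilF A} (φ : X ⟶ Y) (hφ : FilD.IsStrict φ) (g : Y ⟶ Z)
    (hg : φ ≫ g = 0) : cokerπ φ hφ ≫ cokerDesc φ hφ g hg = g := by
  apply ObjectProperty.hom_ext
  exact cokernel.π_desc _ _ _

end Groth.Agent.H2.FD
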