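import Groth.Agent.Lib.Helper2.FilD17
import Mathlib.Algebra.Homology.QuasiIso

/-!
# Graded pieces of short exact sequences; a quasi-isomorphism criterion
-/

universe v u

open CategoryTheory CategoryTheory.Limits Opposite

namespace Groth.Agent.H2.FD

variable {A : Type u} [Category.{v} A] [Abelian A]

/-- `gr` of a strict levelwise monomorphism is a monomorphism. -/
lemma mono_gr_map_of_strict {X Y : FilD.FilF A} (u : X ⟶ Y) (hm : ∀ p, Mono (app u p))
    (hu : FilD.IsStrict u) (p : ℤ) : Mono ((FilD.grF A p).map u) := by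
  apply Preadditive.mono_of_cancel_zero
  intro T z hz
  obtain ⟨T1, π1, hπ1, x, hx⟩ := surjective_up_to_refinements_of_epi (grπ X p) z
  obtain ⟨y, hy⟩ := gr_lift Y p (x ≫ app u p) (by
    rw [Category.assoc, ← grπ_map, ← reassoc_of% hx, hz, comp_zero])
  obtain ⟨T2, π2, hπ2, x', hx'⟩ := refine_of_isStrict hu (le_succ p) x y hy.symm
  haveI := hm p
  have h1 : π2 ≫ x = x' ≫ tr X (le_succ p) := by
    rw [← cancel_mono (app u p), Category.assoc, Category.assoc, tr_app, ← reassoc_of% hx', hy]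
  rw [← cancel_epi π1, ← cancel_epi π2, comp_zero, comp_zero, hx, reassoc_of% h1, tr_grπ, comp_zero]

/-- `gr` of a levelwise epimorphism is an epimorphism. -/
lemma epi_gr_map_of_epi_app {Y Z : FilD.FilF A} (q : Y ⟶ Z) (hq : ∀ p, Epi (app q p)) (p : ℤ) :
    Epi ((FilD.grF A p).map q) := by
  haveI := hq p
  haveI : Epi (grπ Y p ≫ (FilD.grF A p).map q) := by
    rw [grπ_map]
    infer_instance
  exact epi_of_epi (grπ Y p) _

/-- `gr` of a levelwise exact short complex with levelwise epimorphic second map is exact. -/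
lemma gr_exact_of_level_exact (S : ShortComplex (FilD.FilF A))
    (hex : ∀ (p : ℤ) {T : A} (y : T ⟶ lv S.X₂ p), y ≫ app S.g p = 0 →
      ∃ (T' : A) (π : T' ⟶ T) (_ : Epi π) (x : T' ⟶ lv S.X₁ p), π ≫ y = x ≫ app S.f p)
    (hepi : ∀ p, Epi (app S.g p)) (p : ℤ) : (S.map (FilD.grF A p)).Exact := by
  have key : ∀ {T : A} (z : T ⟶ (FilD.grF A p).obj S.X₂), z ≫ (FilD.grF A p).map S.g = 0 →
      ∃ (T' : A) (π : T' ⟶ T) (_ : Epi π) (x : T' ⟶ (FilD.grF A p).obj S.X₁),
        π ≫ z = x ≫ (FilD.grF A p).map S.f := by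
    intro T z hz
    obtain ⟨T1, π1, hπ1, y, hy⟩ := surjective_up_to_refinements_of_epi (grπ S.X₂ p) z
    obtain ⟨w, hw⟩ := gr_lift S.X₃ p (y ≫ app S.g p) (by
      rw [Category.assoc, ← grπ_map, ← reassoc_of% hy, hz, comp_zero])
    haveI := hepi (p + 1)
    obtain ⟨T2, π2, hπ2, y', hy'⟩ := surjective_up_to_refinements_of_epi (app S.g (p + 1)) w
    obtain ⟨T3, π3, hπ3, x, hx⟩ := hex p (π2 ≫ y - y' ≫ tr S.X₂ (le_succ p)) (by
      rw [Preadditive.sub_comp, Category.assoc, Category.assoc, tr_app, ← reassoc_of% hy', hw,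
        sub_self])
    refine ⟨T3, π3 ≫ π2 ≫ π1, inferInstance, x ≫ grπ S.X₁ p, ?_⟩
    simp only [Category.assoc]
    rw [grπ_map, ← reassoc_of% hx, Preadditive.sub_comp, Preadditive.comp_sub]
    simp only [Category.assoc]
    rw [tr_grπ, comp_zero, comp_zero, sub_zero, hy]
  rw [ShortComplex.exact_iff_exact_up_to_refinements]
  intro T z hz
  exact key z hz

/-- A criterion for a morphism from a complex concentrated in degree `0` to be a
quasi-isomorphism. -/
lemma quasiIso_of_single_like {K L : CochainComplex A ℤ} (f : K ⟶ L)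
    (hK : ∀ n : ℤ, n ≠ 0 → IsZero (K.X n)) (hL : IsZero (L.X (-1)))
    (hLex : ∀ n : ℤ, n ≠ 0 → L.ExactAt n) (hmono : Mono (f.f 0))
    (hex : ∀ {T : A} (y : T ⟶ L.X 0), y ≫ L.d 0 1 = 0 →
      ∃ (T' : A) (π : T' ⟶ T) (_ : Epi π) (z : T' ⟶ K.X 0), π ≫ y = z ≫ f.f 0) :
    QuasiIso f := by
  rw [quasiIso_iff]
  intro n
  by_cases hn : n = 0
  · subst hn
    rw [quasiIsoAt_iff' f (-1) 0 1 (by simp) (by simp), ShortComplex.quasiIso_iff]
    haveI : Mono (ShortComplex.homologyMap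
        ((HomologicalComplex.shortComplexFunctor' A (ComplexShape.up ℤ) (-1) 0 1).map f)) := by
      rw [ShortComplex.mono_homologyMap_iff_up_to_refinements]
      intro T x₂ _ y₁ hy
      have hy' : x₂ ≫ f.f 0 = y₁ ≫ L.d (-1) 0 := hy
      have hy₁ : y₁ = 0 := hL.eq_of_tgt _ _
      rw [hy₁, zero_comp] at hy'
      have hx₂ : (show T ⟶ K.X 0 from x₂) = 0 :=
        (@cancel_mono _ _ _ _ _ (f.f 0) hmono _ _).1 (hy'.trans zero_comp.symm)
      refine ⟨T, 𝟙 T, inferInstance, 0, ?_⟩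
      rw [zero_comp, Category.id_comp]
      exact hx₂
    haveI : Epi (ShortComplex.homologyMap
        ((HomologicalComplex.shortComplexFunctor' A (ComplexShape.up ℤ) (-1) 0 1).map f)) := by
      rw [ShortComplex.epi_homologyMap_iff_up_to_refinements]
      intro T y₂ hy₂
      obtain ⟨T', π, hπ, z, hz⟩ := hex y₂ hy₂
      refine ⟨T', π, hπ, z, (hK 1 (by omega)).eq_of_tgt _ _, 0, ?_⟩
      rw [zero_comp, add_zero]
      exact hz
    exact isIso_of_mono_of_epi _
  · rw [quasiIsoAt_iff_exactAt f n (HomologicalComplex.ExactAt.of_isZero (hK n hn))]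
    exact hLex n hn

end Groth.Agent.H2.FD
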