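import Groth.Agent.Lib.Helper2.FilD18

/-!
# Filtered injective resolutions of finite filtered objects
-/

universe v u

open CategoryTheory CategoryTheory.Limits Opposite

namespace Groth.Agent.H2.FD

open ZeroObject

variable {A : Type u} [Category.{v} A] [Abelian A]

/-- Zero objects are filtered injective. -/
lemma isFilteredInjective_of_isZero {X : FilD.FilF A} (hX : IsZero X) :
    FilD.IsFilteredInjective X := fun p =>
  injective_of_isZero ((FilD.grF A p).map_isZero hX)

section

variable [EnoughInjectives A]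

/-- A chosen filtered injective object receiving a strict monomorphism. -/
noncomputable def emb (C : FilD.FilF A) : FilD.FilF A :=
  (exists_strictMono_filteredInjective C).choose

/-- The chosen strict monomorphism. -/
noncomputable def embι (C : FilD.FilF A) : C ⟶ emb C :=
  (exists_strictMono_filteredInjective C).choose_spec.choose

lemma emb_inj (C : FilD.FilF A) : FilD.IsFilteredInjective (emb C) :=
  (exists_strictMono_filteredInjective C).choose_spec.choose_spec.1

instance embι_mono (C : FilD.FilF A) : Mono (embι C) :=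
  (exists_strictMono_filteredInjective C).choose_spec.choose_spec.2.1

lemma embι_strict (C : FilD.FilF A) : FilD.IsStrict (embι C) :=
  (exists_strictMono_filteredInjective C).choose_spec.choose_spec.2.2

/-- The successive cokernels. -/
noncomputable def Cseq (X : FilD.FilF A) : ℕ → FilD.FilF A
  | 0 => X
  | k + 1 => cokerF (embι (Cseq X k)) (embι_strict _)

/-- The terms of the resolution. -/
noncomputable def Iseq (X : FilD.FilF A) (k : ℕ) : FilD.FilF A := emb (Cseq X k)

/-- The projections to the cokernels. -/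
noncomputable def qseq (X : FilD.FilF A) (k : ℕ) : Iseq X k ⟶ Cseq X (k + 1) :=
  cokerπ (embι (Cseq X k)) (embι_strict _)

/-- The inclusions. -/
noncomputable def useq (X : FilD.FilF A) (k : ℕ) : Cseq X k ⟶ Iseq X k := embι (Cseq X k)

/-- The differentials. -/
noncomputable def dseq (X : FilD.FilF A) (k : ℕ) : Iseq X k ⟶ Iseq X (k + 1) :=
  qseq X k ≫ useq X (k + 1)

@[reassoc (attr := simp)]
lemma useq_qseq (X : FilD.FilF A) (k : ℕ) : useq X k ≫ qseq X k = 0 :=
  comp_cokerπ _ _

lemma dseq_comp (X : FilD.FilF A) (k : ℕ) : dseq X k ≫ dseq X (k + 1) = 0 := by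
  simp [dseq]

instance (X : FilD.FilF A) (k : ℕ) (p : ℤ) : Mono (app (useq X k) p) :=
  mono_app_of_mono (embι (Cseq X k)) p

instance (X : FilD.FilF A) (k : ℕ) (p : ℤ) : Epi (app (qseq X k) p) :=
  epi_app_cokerπ _ _ p

lemma useq_strict (X : FilD.FilF A) (k : ℕ) : FilD.IsStrict (useq X k) := embι_strict _

lemma qseq_exact (X : FilD.FilF A) (k : ℕ) (p : ℤ) {T : A} (y : T ⟶ lv (Iseq X k) p)
    (hy : y ≫ app (qseq X k) p = 0) :
    ∃ (T' : A) (π : T' ⟶ T) (_ : Epi π) (z : T' ⟶ lv (Cseq X k) p), π ≫ y = z ≫ app (useq X k) p :=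
  cokerπ_exact _ _ p y hy

/-- The terms of the `ℤ`-indexed resolution. -/
noncomputable def IZ (X : FilD.FilF A) : ℤ → FilD.FilF A
  | .ofNat k => Iseq X k
  | .negSucc _ => 0

/-- The differentials of the `ℤ`-indexed resolution. -/
noncomputable def dZ (X : FilD.FilF A) : ∀ n : ℤ, IZ X n ⟶ IZ X (n + 1)
  | .ofNat k => dseq X k
  | .negSucc _ => 0

lemma dZ_comp (X : FilD.FilF A) (n : ℤ) : dZ X n ≫ dZ X (n + 1) = 0 := by
  cases n with
  | ofNat k => exact dseq_comp X k
  | negSucc k => exact zero_comp

/-- The `ℤ`-indexed resolution. -/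
noncomputable def resCx (X : FilD.FilF A) : CochainComplex (FilD.FilF A) ℤ :=
  CochainComplex.of (IZ X) (dZ X) (dZ_comp X)

lemma resCx_d (X : FilD.FilF A) (n : ℤ) : (resCx X).d n (n + 1) = dZ X n :=
  CochainComplex.of_d _ _ _

instance (X : FilD.FilF A) : (resCx X).IsStrictlyGE 0 := by
  rw [CochainComplex.isStrictlyGE_iff]
  intro i hi
  obtain ⟨k, rfl⟩ : ∃ k, i = Int.negSucc k := ⟨(-i - 1).toNat, by
    rw [Int.negSucc_eq]; omega⟩
  exact isZero_zero (FilD.FilF A)

lemma resCx_inj (X : FilD.FilF A) (n : ℤ) : FilD.IsFilteredInjective ((resCx X).X n) := by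
  cases n with
  | ofNat k => exact emb_inj _
  | negSucc k => exact isFilteredInjective_of_isZero (X := (0 : FilD.FilF A)) (isZero_zero _)

/-- The degree `0` part of the augmentation. -/
noncomputable def resι₀ (X : FilD.FilF A) : X ⟶ (resCx X).X 0 := useq X 0

lemma resι₀_d (X : FilD.FilF A) : resι₀ X ≫ (resCx X).d 0 1 = 0 := by
  have h := resCx_d X 0
  change (resCx X).d 0 1 = dseq X 0 at h
  rw [h]
  change useq X 0 ≫ dseq X 0 = 0
  simp [dseq]

/-- The augmentation. -/
noncomputable def resι (X : FilD.FilF A) :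
    (CochainComplex.singleFunctor (FilD.FilF A) 0).obj X ⟶ resCx X :=
  HomologicalComplex.mkHomFromSingle (resι₀ X) (by
    intro k hk
    obtain rfl : k = 1 := by simpa using hk.symm
    exact resι₀_d X)

lemma resι_f_zero (X : FilD.FilF A) :
    (resι X).f 0 = (HomologicalComplex.singleObjXSelf (ComplexShape.up ℤ) 0 X).hom ≫ resι₀ X :=
  HomologicalComplex.mkHomFromSingle_f _ _

end

end Groth.Agent.H2.FD
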