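import Groth.Agent.Lib.Helper2.FilD1

/-!
# Finite filtered objects: strictness criteria
-/

universe v u

open CategoryTheory CategoryTheory.Limits Opposite

namespace Groth.Agent.H2.FD

variable {A : Type u} [Category.{v} A] [Abelian A]

/-- Strictness from lifts up to refinements. -/
lemma isStrict_of_refine {X Y : FilD.FilF A} {φ : X ⟶ Y}
    (H : ∀ (p q : ℤ) (h : p ≤ q) (T : A) (x : T ⟶ lv X p) (y : T ⟶ lv Y q),
      x ≫ app φ p = y ≫ tr Y h →
      ∃ (T' : A) (π : T' ⟶ T) (_ : Epi π) (x' : T' ⟶ lv X q), π ≫ y = x' ≫ app φ q) :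
    FilD.IsStrict φ := by
  intro p q h
  change imageSubobject (app φ q ≫ tr Y h) = imageSubobject (app φ p) ⊓ Subobject.mk (tr Y h)
  apply le_antisymm
  · apply le_inf
    · rw [← tr_app]
      exact imageSubobject_comp_le _ _
    · exact imageSubobject_le_mk _ _ (app φ q) rfl
  · have hf : (imageSubobject (app φ p) ⊓ Subobject.mk (tr Y h)).Factors
        (imageSubobject (app φ p) ⊓ Subobject.mk (tr Y h)).arrow := by
      have := (imageSubobject (app φ p) ⊓ Subobject.mk (tr Y h)).factors_comp_arrow (𝟙 _)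
      simpa using this
    rw [Subobject.inf_factors] at hf
    obtain ⟨hf1, hf2⟩ := hf
    obtain ⟨y, hy⟩ : ∃ y : ((imageSubobject (app φ p) ⊓ Subobject.mk (tr Y h) :
        Subobject (lv Y p)) : A) ⟶ lv Y q,
        y ≫ tr Y h = (imageSubobject (app φ p) ⊓ Subobject.mk (tr Y h)).arrow :=
      (Subobject.mk_factors_iff _ _).1 hf2
    obtain ⟨T, π, hπ, x, hx⟩ := imageSubobject_factors_refine _ _ hf1
    obtain ⟨T', π', hπ', x', hx'⟩ := H p q h T x (π ≫ y) (by rw [← hx, Category.assoc, hy])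
    have hfac : (imageSubobject (app φ q ≫ tr Y h)).Factors
        (imageSubobject (app φ p) ⊓ Subobject.mk (tr Y h)).arrow := by
      apply imageSubobject_factors_of_refine _ _ (π' ≫ π) x'
      rw [← reassoc_of% hx', ← hy, Category.assoc]
    exact Subobject.le_of_comm (Subobject.factorThru _ _ hfac) (Subobject.factorThru_arrow _ _ _)

/-- Strictness from one-step lifts up to refinements. -/
lemma isStrict_of_refine_step {X Y : FilD.FilF A} {φ : X ⟶ Y}
    (H : ∀ (p : ℤ) (T : A) (x : T ⟶ lv X p) (y : T ⟶ lv Y (p + 1)),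
      x ≫ app φ p = y ≫ tr Y (le_succ p) →
      ∃ (T' : A) (π : T' ⟶ T) (_ : Epi π) (x' : T' ⟶ lv X (p + 1)), π ≫ y = x' ≫ app φ (p + 1)) :
    FilD.IsStrict φ := by
  apply isStrict_of_refine
  suffices ∀ (n : ℕ) (p q : ℤ) (h : p ≤ q), q = p + n → ∀ (T : A) (x : T ⟶ lv X p) (y : T ⟶ lv Y q),
      x ≫ app φ p = y ≫ tr Y h →
      ∃ (T' : A) (π : T' ⟶ T) (_ : Epi π) (x' : T' ⟶ lv X q), π ≫ y = x' ≫ app φ q by
    intro p q h
    exact this (q - p).toNat p q h (by omega)
  intro n
  induction n with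
  | zero =>
    intro p q h hq T x y hxy
    have hq' : q = p := by simpa using hq
    subst hq'
    refine ⟨T, 𝟙 T, inferInstance, x, ?_⟩
    rw [tr_refl, Category.comp_id] at hxy
    rw [Category.id_comp, hxy]
  | succ n ih =>
    intro p q h hq T x y hxy
    have h1 : p + 1 ≤ q := by omega
    obtain ⟨T', π, hπ, x', hx'⟩ := H p T x (y ≫ tr Y h1) (by rw [hxy, Category.assoc, tr_comp])
    obtain ⟨T'', π', hπ', x'', hx''⟩ := ih (p + 1) q h1 (by push_cast at hq; omega) T' x' (π ≫ y)
      (by rw [← hx', Category.assoc])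
    exact ⟨T'', π' ≫ π, inferInstance, x'', by rw [Category.assoc, hx'']⟩

end Groth.Agent.H2.FD
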