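import Groth.Agent.Lib.Helper2.FilD19

/-!
# Filtered injective resolutions of finite filtered objects: the quasi-isomorphism
-/

universe v u

open CategoryTheory CategoryTheory.Limits Opposite

namespace Groth.Agent.H2.FD

open ZeroObject

variable {A : Type u} [Category.{v} A] [Abelian A] [EnoughInjectives A]

lemma grF_map_comp {X Y Z : FilD.FilF A} (f : X ⟶ Y) (g : Y ⟶ Z) (p : ℤ) :
    (FilD.grF A p).map (f ≫ g) = (FilD.grF A p).map f ≫ (FilD.grF A p).map g :=
  Functor.map_comp _ _ _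

lemma resCx_d_nat (X : FilD.FilF A) (k : ℕ) :
    (resCx X).d (Int.ofNat k) (Int.ofNat (k + 1)) = dseq X k :=
  resCx_d X (Int.ofNat k)

instance mono_gr_useq (X : FilD.FilF A) (k : ℕ) (p : ℤ) : Mono ((FilD.grF A p).map (useq X k)) :=
  mono_gr_map_of_strict _ (fun _ => inferInstance) (useq_strict X k) p

instance epi_gr_qseq (X : FilD.FilF A) (k : ℕ) (p : ℤ) : Epi ((FilD.grF A p).map (qseq X k)) :=
  epi_gr_map_of_epi_app _ (fun _ => inferInstance) p

/-- Exactness of `gr C_k ⟶ gr I_k ⟶ gr C_{k+1}`, in refinement form. -/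
lemma gr_useq_qseq_exact (X : FilD.FilF A) (k : ℕ) (p : ℤ) {T : A}
    (y : T ⟶ (FilD.grF A p).obj (Iseq X k)) (hy : y ≫ (FilD.grF A p).map (qseq X k) = 0) :
    ∃ (T' : A) (π : T' ⟶ T) (_ : Epi π) (c : T' ⟶ (FilD.grF A p).obj (Cseq X k)),
      π ≫ y = c ≫ (FilD.grF A p).map (useq X k) := by
  have h := gr_exact_of_level_exact (ShortComplex.mk (useq X k) (qseq X k) (useq_qseq X k))
    (fun p T y hy => qseq_exact X k p y hy) (fun _ => inferInstance) p
  exact h.exact_up_to_refinements y hy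

/-- Exactness of `gr C_k ⟶ gr I_k ⟶ gr I_{k+1}`, in refinement form. -/
lemma gr_useq_dseq_exact (X : FilD.FilF A) (k : ℕ) (p : ℤ) {T : A}
    (y : T ⟶ (FilD.grF A p).obj (Iseq X k)) (hy : y ≫ (FilD.grF A p).map (dseq X k) = 0) :
    ∃ (T' : A) (π : T' ⟶ T) (_ : Epi π) (c : T' ⟶ (FilD.grF A p).obj (Cseq X k)),
      π ≫ y = c ≫ (FilD.grF A p).map (useq X k) := by
  apply gr_useq_qseq_exact
  unfold dseq at hy
  rw [grF_map_comp, ← Category.assoc] at hy
  exact zero_of_comp_mono _ hy

/-- Exactness of `gr I_k ⟶ gr I_{k+1} ⟶ gr I_{k+2}`, in refinement form. -/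
lemma gr_dseq_exact (X : FilD.FilF A) (k : ℕ) (p : ℤ) {T : A}
    (y : T ⟶ (FilD.grF A p).obj (Iseq X (k + 1)))
    (hy : y ≫ (FilD.grF A p).map (dseq X (k + 1)) = 0) :
    ∃ (T' : A) (π : T' ⟶ T) (_ : Epi π) (x : T' ⟶ (FilD.grF A p).obj (Iseq X k)),
      π ≫ y = x ≫ (FilD.grF A p).map (dseq X k) := by
  obtain ⟨T1, π1, hπ1, c, hc⟩ := gr_useq_dseq_exact X (k + 1) p y hy
  obtain ⟨T2, π2, hπ2, x, hx⟩ :=
    surjective_up_to_refinements_of_epi ((FilD.grF A p).map (qseq X k)) c
  refine ⟨T2, π2 ≫ π1, inferInstance, x, ?_⟩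
  unfold dseq
  rw [grF_map_comp, Category.assoc, hc, ← Category.assoc, hx, Category.assoc]

/-- The augmentation of the resolution is a filtered quasi-isomorphism. -/
lemma resι_filteredQuasiIso (X : FilD.FilF A) : FilD.IsFilteredQuasiIso (resι X) := by
  intro p
  apply quasiIso_of_single_like
  · intro n hn
    exact (FilD.grF A p).map_isZero (HomologicalComplex.isZero_single_obj_X _ _ _ _ hn)
  · exact (FilD.grF A p).map_isZero (isZero_zero (FilD.FilF A))
  · intro n hn
    cases n with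
    | ofNat k =>
      cases k with
      | zero => exact absurd rfl hn
      | succ k =>
        rw [HomologicalComplex.exactAt_iff' _ (Int.ofNat k) (Int.ofNat (k + 1)) (Int.ofNat (k + 2))
          (by simp) (by simp; omega), ShortComplex.exact_iff_exact_up_to_refinements]
        intro T y hy
        have hy' : y ≫ (FilD.grF A p).map ((resCx X).d (Int.ofNat (k + 1)) (Int.ofNat (k + 2))) = 0 := hy
        rw [resCx_d_nat] at hy'
        obtain ⟨T', π, hπ, x, hx⟩ := gr_dseq_exact X k p y hy'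
        refine ⟨T', π, hπ, x, ?_⟩
        change _ = x ≫ (FilD.grF A p).map ((resCx X).d (Int.ofNat k) (Int.ofNat (k + 1)))
        rw [resCx_d_nat]
        exact hx
    | negSucc k =>
      exact HomologicalComplex.ExactAt.of_isZero
        ((FilD.grF A p).map_isZero (isZero_zero (FilD.FilF A)))
  · change Mono ((FilD.grF A p).map ((resι X).f 0))
    have e : (FilD.grF A p).map ((resι X).f 0) =
        (FilD.grF A p).map (HomologicalComplex.singleObjXSelf (ComplexShape.up ℤ) 0 X).hom ≫
          (FilD.grF A p).map (resι₀ X) := by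
      rw [resι_f_zero]
      exact Functor.map_comp _ _ _
    rw [e]
    have h1 : IsIso ((FilD.grF A p).map
        (HomologicalComplex.singleObjXSelf (ComplexShape.up ℤ) 0 X).hom) := inferInstance
    have h1' : Mono ((FilD.grF A p).map
        (HomologicalComplex.singleObjXSelf (ComplexShape.up ℤ) 0 X).hom) := inferInstance
    have h2 : Mono ((FilD.grF A p).map (resι₀ X)) := mono_gr_useq X 0 p
    exact @mono_comp _ _ _ _ _ _ h1' _ h2
  · intro T y hy
    have hy' : y ≫ (FilD.grF A p).map ((resCx X).d (Int.ofNat 0) (Int.ofNat (0 + 1))) = 0 := hy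
    rw [resCx_d_nat] at hy'
    obtain ⟨T', π, hπ, c, hc⟩ := gr_useq_dseq_exact X 0 p y hy'
    have hc' : π ≫ y = c ≫ (FilD.grF A p).map (resι₀ X) := hc
    refine ⟨T', π, hπ, c ≫ (FilD.grF A p).map
      (HomologicalComplex.singleObjXSelf (ComplexShape.up ℤ) 0 X).inv, ?_⟩
    have e : (FilD.grF A p).map (HomologicalComplex.singleObjXSelf (ComplexShape.up ℤ) 0 X).inv ≫
        (FilD.grF A p).map ((resι X).f 0) = (FilD.grF A p).map (resι₀ X) := by
      rw [resι_f_zero]
      refine (Functor.map_comp _ _ _).symm.trans ?_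
      rw [Iso.inv_hom_id_assoc]
    exact hc'.trans (by rw [Category.assoc]; exact congrArg (fun t => c ≫ t) e.symm)

/-- Every finite filtered object has a filtered injective resolution. -/
theorem exists_filteredInjective_resolution (X : FilD.FilF A) :
    ∃ (I : CochainComplex (FilD.FilF A) ℤ)
      (φ : (CochainComplex.singleFunctor (FilD.FilF A) 0).obj X ⟶ I), I.IsStrictlyGE 0 ∧
      (∀ n, FilD.IsFilteredInjective (I.X n)) ∧ FilD.IsFilteredQuasiIso φ :=
  ⟨resCx X, resι X, inferInstance, resCx_inj X, resι_filteredQuasiIso X⟩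

end Groth.Agent.H2.FD
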