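import Groth.Agent.Lib.Helper2.FilD20

/-!
# Construction of `1`-cocycles by induction in a preadditive category
-/

universe v u

open CategoryTheory CategoryTheory.Limits Opposite

namespace Groth.Agent.H2.FD

open CochainComplex HomComplex Preadditive

section generic

variable {C : Type*} [Category C] [Preadditive C]

lemma negOnePow_two : (2 : ℤ).negOnePow = 1 := Int.negOnePow_even 2 ⟨1, rfl⟩

/-- The value of `δ 1 2`. -/
lemma δ12_v {J I : CochainComplex C ℤ} (α : Cochain J I 1) (p q : ℤ) (hpq : p + 2 = q) :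
    (δ 1 2 α).v p q hpq = α.v p (p + 1) rfl ≫ I.d (p + 1) q +
      J.d p (p + 1) ≫ α.v (p + 1) q (by omega) := by
  rw [δ_v 1 2 rfl α p q hpq (p + 1) (p + 1) (by omega) rfl, negOnePow_two, one_smul]

lemma cochain_v_comp_XIsoOfEq {J I : CochainComplex C ℤ} {n : ℤ} (z : Cochain J I n) (p q q' : ℤ)
    (hpq : p + n = q) (hq : q = q') :
    z.v p q hpq ≫ (I.XIsoOfEq hq).hom = z.v p q' (by omega) := by
  subst hq
  simp

lemma cocycle_aux {J I : CochainComplex C ℤ} (α : Cochain J I 1) (n m : ℤ) (hnm : n + 1 = m)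
    (hext : ∀ u : J.X (n + 1) ⟶ I.X (n + 3), J.d n (n + 1) ≫ u = 0 →
      ∃ β : J.X (n + 2) ⟶ I.X (n + 3), J.d (n + 1) (n + 2) ≫ β = u)
    (hα : (δ 1 2 α).EqUpTo 0 n) :
    ∃ (h : J.X (n + 2) ⟶ I.X (n + 3)),
      (δ 1 2 (α + Cochain.single h 1)).EqUpTo 0 m := by
  subst hnm
  have hu : J.d n (n + 1) ≫ (-(δ 1 2 α).v (n + 1) (n + 3) (by omega)) = 0 := by
    have h1 := congrArg (fun z => z.v n (n + 3) (by omega)) (δ_δ 1 2 3 α)
    simp only [Cochain.zero_v] at h1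
    rw [δ_v 2 3 rfl (δ 1 2 α) n (n + 3) (by omega) (n + 2) (n + 1) (by omega) rfl,
      hα n (n + 2) (by omega) le_rfl, Cochain.zero_v, zero_comp, zero_add] at h1
    rw [comp_neg, neg_eq_zero]
    have h3 : (3 : ℤ).negOnePow = -1 := Int.negOnePow_odd 3 ⟨1, rfl⟩
    rw [h3, Units.neg_smul, one_smul, neg_eq_zero] at h1
    exact h1
  obtain ⟨β, hβ⟩ := hext _ hu
  refine ⟨β, ?_⟩
  intro p q hpq hp
  obtain rfl : q = p + 2 := by omega
  rw [δ_add, Cochain.add_v, Cochain.zero_v]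
  obtain hp | rfl := hp.lt_or_eq
  · rw [hα p (p + 2) rfl (by omega), Cochain.zero_v, zero_add, δ12_v,
      Cochain.single_v_eq_zero _ _ _ _ _ (by omega),
      Cochain.single_v_eq_zero _ _ _ _ _ (by omega), zero_comp, comp_zero, add_zero]
  · rw [δ12_v (Cochain.single β 1), Cochain.single_v_eq_zero _ _ _ _ _ (by omega), zero_comp,
      zero_add]
    have e : (Cochain.single β 1).v (n + 1 + 1) (n + 1 + 2) (by omega) =
        (J.XIsoOfEq (show n + 2 = n + 1 + 1 by omega)).inv ≫ β ≫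
          (I.XIsoOfEq (show n + 3 = n + 1 + 2 by omega)).hom := by
      dsimp [Cochain.single]
      rw [dif_pos ⟨by omega, by omega⟩]
    rw [e]
    have e2 : J.d (n + 1) (n + 1 + 1) ≫ (J.XIsoOfEq (show n + 2 = n + 1 + 1 by omega)).inv =
        J.d (n + 1) (n + 2) := by simp
    rw [reassoc_of% e2, reassoc_of% hβ, neg_comp]
    have e3 : (δ 1 2 α).v (n + 1) (n + 3) (by omega) ≫
        (I.XIsoOfEq (show n + 3 = n + 1 + 2 by omega)).hom =
        (δ 1 2 α).v (n + 1) (n + 1 + 2) rfl :=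
      cochain_v_comp_XIsoOfEq _ _ _ _ _ _
    rw [e3, add_neg_cancel]

open Cochain.InductionUp in
/-- Construction of a `1`-cocycle with prescribed component in degree `0`. -/
theorem exists_cocycle_of_ext {J I : CochainComplex C ℤ} [J.IsStrictlyGE 0]
    (θ₀ : J.X 0 ⟶ I.X 1)
    (hext0 : ∃ h : J.X 1 ⟶ I.X 2, J.d 0 1 ≫ h = -(θ₀ ≫ I.d 1 2))
    (hext : ∀ (n : ℤ), 0 ≤ n → ∀ u : J.X (n + 1) ⟶ I.X (n + 3), J.d n (n + 1) ≫ u = 0 →
      ∃ β : J.X (n + 2) ⟶ I.X (n + 3), J.d (n + 1) (n + 2) ≫ β = u) :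
    ∃ θ : Cochain J I 1, θ.v 0 1 (by omega) = θ₀ ∧ δ 1 2 θ = 0 := by
  obtain ⟨h₁, hh₁⟩ := hext0
  let X (k : ℕ) : Set (Cochain J I 1) :=
    Set.ofPred (fun α => α.v 0 1 (by omega) = θ₀ ∧ (δ 1 2 α).EqUpTo 0 k)
  let x₀ : X 0 := ⟨Cochain.single θ₀ 1 + Cochain.single h₁ 1, by
    constructor
    · rw [Cochain.add_v, Cochain.single_v, Cochain.single_v_eq_zero _ _ _ _ _ (by omega), add_zero]
    · intro p q hpq hp
      have hp' : p ≤ 0 := by simpa using hp
      obtain hp'' | rfl := hp'.lt_or_eq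
      · exact (J.isZero_of_isStrictlyGE 0 p hp'').eq_of_src _ _
      · obtain rfl : q = 2 := by omega
        rw [Cochain.zero_v, δ_v 1 2 rfl _ 0 2 (by omega) 1 1 (by omega) (by omega), negOnePow_two,
          one_smul, Cochain.add_v, Cochain.add_v, Cochain.single_v,
          Cochain.single_v_eq_zero _ _ _ _ _ (by omega),
          Cochain.single_v_eq_zero _ _ _ _ _ (by omega), Cochain.single_v, add_zero, zero_add, hh₁,
          add_neg_cancel]⟩
  let φ (k : ℕ) (α : X k) : X (k + 1) :=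
    ⟨α.1 + Cochain.single (cocycle_aux α.1 k ((k + 1 : ℕ) : ℤ) (by push_cast; omega)
        (hext k (by omega)) α.2.2).choose 1, by
      refine ⟨?_, (cocycle_aux α.1 k ((k + 1 : ℕ) : ℤ) (by push_cast; omega)
        (hext k (by omega)) α.2.2).choose_spec⟩
      rw [Cochain.add_v, Cochain.single_v_eq_zero _ _ _ _ _ (by omega), add_zero]
      exact α.2.1⟩
  have hφ (k : ℕ) (x : X k) : (φ k x).1.EqUpTo x.1 (1 + k) := fun p q hpq hp => by
    dsimp [φ]
    rw [add_eq_left, Cochain.single_v_eq_zero _ _ _ _ _ (by omega)]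
  refine ⟨limitSequence φ hφ x₀, ?_, ?_⟩
  · rw [limitSequence_eqUpTo φ hφ x₀ 0 0 1 (by omega) (by simp)]
    exact (sequence φ x₀ 0).2.1
  · ext p q hpq
    obtain rfl : q = p + 2 := by omega
    let k₀ := p.toNat
    rw [← (sequence φ x₀ k₀).2.2 p (p + 2) rfl (by omega), δ12_v, δ12_v,
      limitSequence_eqUpTo φ hφ x₀ k₀ p (p + 1) rfl (by omega),
      limitSequence_eqUpTo φ hφ x₀ k₀ (p + 1) (p + 2) (by omega) (by omega)]

end generic

end Groth.Agent.H2.FD
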