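import Groth.Agent.Lib.Helper2.FilD21

/-!
# Consequences of a filtered quasi-isomorphism from a single object
-/

universe v u

open CategoryTheory CategoryTheory.Limits Opposite

namespace Groth.Agent.H2.FD

variable {A : Type u} [Category.{v} A] [Abelian A]

section abelian

variable {K L : CochainComplex A ℤ}

lemma exactAt_of_quasiIso_single_like (f : K ⟶ L) [QuasiIso f]
    (hK : ∀ n : ℤ, n ≠ 0 → IsZero (K.X n)) (n : ℤ) (hn : n ≠ 0) : L.ExactAt n :=
  (quasiIsoAt_iff_exactAt f n (HomologicalComplex.ExactAt.of_isZero (hK n hn))).1 inferInstance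

lemma mono_of_quasiIso_single_like (f : K ⟶ L) [QuasiIso f]
    (hK : ∀ n : ℤ, n ≠ 0 → IsZero (K.X n)) : Mono (f.f 0) := by
  have h0 : QuasiIsoAt f 0 := inferInstance
  rw [quasiIsoAt_iff' f (-1) 0 1 (by simp) (by simp), ShortComplex.quasiIso_iff] at h0
  have hm : Mono (ShortComplex.homologyMap
      ((HomologicalComplex.shortComplexFunctor' A (ComplexShape.up ℤ) (-1) 0 1).map f)) :=
    inferInstance
  rw [ShortComplex.mono_homologyMap_iff_up_to_refinements] at hm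
  apply Preadditive.mono_of_cancel_zero
  intro T x hx
  obtain ⟨T', π, hπ, x₁, hx₁⟩ := hm x ((hK 1 (by omega)).eq_of_tgt _ _) 0 (by
    rw [zero_comp]
    exact hx)
  have hx₁' : π ≫ x = (show T' ⟶ K.X (-1) from x₁) ≫ K.d (-1) 0 := hx₁
  have h1 : (show T' ⟶ K.X (-1) from x₁) = 0 := (hK (-1) (by omega)).eq_of_tgt _ _
  rw [← cancel_epi π, comp_zero, hx₁', h1, zero_comp]

lemma hex_of_quasiIso_single_like (f : K ⟶ L) [QuasiIso f]
    (hL : IsZero (L.X (-1))) {T : A} (y : T ⟶ L.X 0)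
    (hy : y ≫ L.d 0 1 = 0) :
    ∃ (T' : A) (π : T' ⟶ T) (_ : Epi π) (z : T' ⟶ K.X 0), π ≫ y = z ≫ f.f 0 := by
  have h0 : QuasiIsoAt f 0 := inferInstance
  rw [quasiIsoAt_iff' f (-1) 0 1 (by simp) (by simp), ShortComplex.quasiIso_iff] at h0
  have he : Epi (ShortComplex.homologyMap
      ((HomologicalComplex.shortComplexFunctor' A (ComplexShape.up ℤ) (-1) 0 1).map f)) :=
    inferInstance
  rw [ShortComplex.epi_homologyMap_iff_up_to_refinements] at he
  obtain ⟨T', π, hπ, x₂, _, y₁, hy₁⟩ := he y hy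
  have hy₁' : π ≫ y = (show T' ⟶ K.X 0 from x₂) ≫ f.f 0 +
      (show T' ⟶ L.X (-1) from y₁) ≫ L.d (-1) 0 := hy₁
  have h1 : (show T' ⟶ L.X (-1) from y₁) = 0 := hL.eq_of_tgt _ _
  rw [h1, zero_comp, add_zero] at hy₁'
  exact ⟨T', π, hπ, x₂, hy₁'⟩

end abelian

end Groth.Agent.H2.FD
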