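import Groth.Agent.Lib.Helper2.FilD22

/-!
# The twisted direct sum of two cochain complexes along a `1`-cocycle
-/

universe v u

open CategoryTheory CategoryTheory.Limits Opposite

namespace Groth.Agent.H2.FD

open CochainComplex HomComplex Preadditive

section twist

variable {C : Type*} [Category C] [Preadditive C] [HasBinaryBiproducts C]
variable (I J : CochainComplex C ℤ) (θ : Cochain J I 1)

/-- The differential of the twisted direct sum. -/
noncomputable def twD (n : ℤ) : (I.X n ⊞ J.X n) ⟶ (I.X (n + 1) ⊞ J.X (n + 1)) :=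
  biprod.fst ≫ I.d n (n + 1) ≫ biprod.inl +
    biprod.snd ≫ (θ.v n (n + 1) rfl ≫ biprod.inl + J.d n (n + 1) ≫ biprod.inr)

@[reassoc]
lemma inl_twD (n : ℤ) : biprod.inl ≫ twD I J θ n = I.d n (n + 1) ≫ biprod.inl := by
  simp [twD]

@[reassoc]
lemma inr_twD (n : ℤ) : biprod.inr ≫ twD I J θ n =
    θ.v n (n + 1) rfl ≫ biprod.inl + J.d n (n + 1) ≫ biprod.inr := by
  simp [twD]

@[reassoc]
lemma twD_snd (n : ℤ) : twD I J θ n ≫ biprod.snd = biprod.snd ≫ J.d n (n + 1) := by
  simp [twD]

lemma twD_comp (hθ : δ 1 2 θ = 0) (n : ℤ) : twD I J θ n ≫ twD I J θ (n + 1) = 0 := by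
  have h := congrArg (fun z => z.v n (n + 1 + 1) (by omega)) hθ
  simp only [Cochain.zero_v] at h
  rw [δ12_v] at h
  apply biprod.hom_ext'
  · rw [inl_twD_assoc, inl_twD, comp_zero, HomologicalComplex.d_comp_d_assoc, zero_comp]
  · rw [inr_twD_assoc, comp_zero, add_comp, Category.assoc, Category.assoc, inl_twD, inr_twD,
      comp_add, HomologicalComplex.d_comp_d_assoc, zero_comp, add_zero, ← Category.assoc,
      ← Category.assoc, ← add_comp, h, zero_comp]

/-- The twisted direct sum of `I` and `J` along the cocycle `θ`. -/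
noncomputable def twist (hθ : δ 1 2 θ = 0) : CochainComplex C ℤ :=
  CochainComplex.of (fun n => I.X n ⊞ J.X n) (twD I J θ) (twD_comp I J θ hθ)

lemma twist_d (hθ : δ 1 2 θ = 0) (n : ℤ) : (twist I J θ hθ).d n (n + 1) = twD I J θ n := by
  unfold twist
  exact CochainComplex.of_d (fun n => I.X n ⊞ J.X n) (twD I J θ) n

/-- The inclusion of `I`. -/
noncomputable def twistInl (hθ : δ 1 2 θ = 0) : I ⟶ twist I J θ hθ where
  f n := biprod.inl
  comm' i j hij := by
    obtain rfl : i + 1 = j := hij
    rw [twist_d]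
    exact (inl_twD I J θ i)

/-- The projection to `J`. -/
noncomputable def twistSnd (hθ : δ 1 2 θ = 0) : twist I J θ hθ ⟶ J where
  f n := biprod.snd
  comm' i j hij := by
    obtain rfl : i + 1 = j := hij
    rw [twist_d]
    exact (twD_snd I J θ i).symm

end twist

section single

variable {C : Type*} [Category C] [Preadditive C] [HasZeroObject C]

/-- The canonical isomorphism `(Y[0])⁰ ≅ Y` (with the source written via `singleFunctor`). -/
noncomputable def sσ (Y : C) : ((CochainComplex.singleFunctor C 0).obj Y).X 0 ≅ Y :=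
  HomologicalComplex.singleObjXSelf (ComplexShape.up ℤ) 0 Y

lemma singleFunctor_map_f_zero {X Y : C} (f : X ⟶ Y) :
    ((CochainComplex.singleFunctor C 0).map f).f 0 = (sσ X).hom ≫ f ≫ (sσ Y).inv :=
  HomologicalComplex.single_map_f_self _ _ _

/-- Morphisms from a single complex in degree `0`. -/
noncomputable def fromSingle {K : CochainComplex C ℤ} {Y : C} (φ : Y ⟶ K.X 0)
    (hφ : φ ≫ K.d 0 1 = 0) : (CochainComplex.singleFunctor C 0).obj Y ⟶ K :=
  HomologicalComplex.mkHomFromSingle φ (by
    intro k hk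
    obtain rfl : (0 : ℤ) + 1 = k := hk
    exact hφ)

lemma fromSingle_f {K : CochainComplex C ℤ} {Y : C} (φ : Y ⟶ K.X 0)
    (hφ : φ ≫ K.d 0 1 = 0) : (fromSingle φ hφ).f 0 = (sσ Y).hom ≫ φ :=
  HomologicalComplex.mkHomFromSingle_f _ _

lemma fromSingle_ext {K : CochainComplex C ℤ} {Y : C}
    {f g : (CochainComplex.singleFunctor C 0).obj Y ⟶ K} (h : f.f 0 = g.f 0) : f = g :=
  HomologicalComplex.from_single_hom_ext h

end single

end Groth.Agent.H2.FD
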