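import Groth.Agent.Lib.Helper2.FilD23

/-!
# Consequences of filtered quasi-isomorphisms from a single object; extension lemmas
-/

universe v u

open CategoryTheory CategoryTheory.Limits Opposite

namespace Groth.Agent.H2.FD

variable {A : Type u} [Category.{v} A] [Abelian A]

lemma gr_exact_of_mono_gr {X Y : FilD.FilF A} (u : X ⟶ Y)
    (h : ∀ p, Mono ((FilD.grF A p).map u)) (p : ℤ) :
    ((ShortComplex.mk (0 : X ⟶ X) u zero_comp).map (FilD.grF A p)).Exact := by
  exact (ShortComplex.exact_iff_mono _ ((FilD.grF A p).map_zero _ _)).2 (h p)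

lemma isStrict_of_mono_gr {X Y : FilD.FilF A} (u : X ⟶ Y)
    (h : ∀ p, Mono ((FilD.grF A p).map u)) : FilD.IsStrict u :=
  isStrict_g_of_gr_exact (ShortComplex.mk (0 : X ⟶ X) u zero_comp) (gr_exact_of_mono_gr u h)

lemma mono_app_of_mono_gr {X Y : FilD.FilF A} (u : X ⟶ Y)
    (h : ∀ p, Mono ((FilD.grF A p).map u)) (p : ℤ) : Mono (app u p) := by
  apply Preadditive.mono_of_cancel_zero
  intro T y hy
  obtain ⟨T', π, hπ, x, hx⟩ := level_exact_of_gr_exact
    (ShortComplex.mk (0 : X ⟶ X) u zero_comp) (gr_exact_of_mono_gr u h) p y hy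
  have hx' : π ≫ y = x ≫ app (0 : X ⟶ X) p := hx
  rw [app_zero, comp_zero] at hx'
  rw [← cancel_epi π, hx', comp_zero]

/-- Extension along the second map of a short complex with exact graded pieces. -/
lemma exists_ext_of_gr_exact (S : ShortComplex (FilD.FilF A))
    (hS : ∀ p : ℤ, (S.map (FilD.grF A p)).Exact) {I : FilD.FilF A}
    (hI : FilD.IsFilteredInjective I) (u : S.X₂ ⟶ I) (hu : S.f ≫ u = 0) :
    ∃ β : S.X₃ ⟶ I, S.g ≫ β = u := by
  refine exists_ext S.g (isStrict_g_of_gr_exact _ hS) u ?_ hI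
  intro p T k hk
  obtain ⟨T', π, hπ, x, hx⟩ := level_exact_of_gr_exact _ hS p k hk
  rw [← cancel_epi π, comp_zero, reassoc_of% hx, ← app_comp, hu, app_zero, comp_zero]

lemma isStrict_comp_of_epi_app {X Y Z : FilD.FilF A} (g : X ⟶ Y) (hg : ∀ p, Epi (app g p))
    (u : Y ⟶ Z) (hu : FilD.IsStrict u) : FilD.IsStrict (g ≫ u) := by
  apply isStrict_of_refine
  intro p q h T x y hxy
  obtain ⟨T1, π1, hπ1, z, hz⟩ := refine_of_isStrict hu h (x ≫ app g p) y (by
    rw [Category.assoc, ← app_comp]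
    exact hxy)
  haveI := hg q
  obtain ⟨T2, π2, hπ2, z', hz'⟩ := surjective_up_to_refinements_of_epi (app g q) z
  refine ⟨T2, π2 ≫ π1, inferInstance, z', ?_⟩
  rw [Category.assoc, hz, reassoc_of% hz', app_comp]

section single

variable {Z : FilD.FilF A} {J : CochainComplex (FilD.FilF A) ℤ}
  (c : (CochainComplex.singleFunctor (FilD.FilF A) 0).obj Z ⟶ J)

/-- The augmentation map in degree `0`. -/
noncomputable def aug₀ : Z ⟶ J.X 0 :=
  (sσ Z).inv ≫ c.f 0

lemma hom_aug₀ : (sσ Z).hom ≫ aug₀ c = c.f 0 := by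
  unfold aug₀
  rw [Iso.hom_inv_id_assoc]

lemma aug₀_d : aug₀ c ≫ J.d 0 1 = 0 := by
  have hz : IsZero (((CochainComplex.singleFunctor (FilD.FilF A) 0).obj Z).X 1) :=
    HomologicalComplex.isZero_single_obj_X _ _ _ _ (by simp)
  have h1 : c.f 0 ≫ J.d 0 1 = 0 := by
    rw [c.comm 0 1, hz.eq_of_tgt (((CochainComplex.singleFunctor (FilD.FilF A) 0).obj Z).d 0 1) 0,
      zero_comp]
  unfold aug₀
  exact (Category.assoc _ _ _).trans ((congrArg (fun t => _ ≫ t) h1).trans comp_zero)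

lemma isZero_gr_single (p n : ℤ) (hn : n ≠ 0) :
    IsZero (((FilD.grCx p).obj ((CochainComplex.singleFunctor (FilD.FilF A) 0).obj Z)).X n) :=
  (FilD.grF A p).map_isZero (HomologicalComplex.isZero_single_obj_X _ _ _ _ hn)

lemma gr_aug₀ (p : ℤ) : (FilD.grF A p).map (aug₀ c) =
    (FilD.grF A p).map (sσ Z).inv ≫
      (FilD.grF A p).map (c.f 0) := by
  unfold aug₀
  exact Functor.map_comp _ _ _

lemma mono_gr_aug₀ (hc : FilD.IsFilteredQuasiIso c) (p : ℤ) :
    Mono ((FilD.grF A p).map (aug₀ c)) := by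
  have := hc p
  have h1 : Mono (((FilD.grCx p).map c).f 0) :=
    mono_of_quasiIso_single_like ((FilD.grCx p).map c) (fun n hn => isZero_gr_single p n hn)
  have h1' : Mono ((FilD.grF A p).map (c.f 0)) := h1
  rw [gr_aug₀]
  have h2 : Mono ((FilD.grF A p).map
      (sσ Z).inv) := inferInstance
  exact @mono_comp _ _ _ _ _ _ h2 _ h1'

lemma gr_exactAt_of_filteredQuasiIso (hc : FilD.IsFilteredQuasiIso c) (p n : ℤ) (hn : n ≠ 0) :
    ((FilD.grCx p).obj J).ExactAt n := by
  have := hc p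
  exact exactAt_of_quasiIso_single_like ((FilD.grCx p).map c)
    (fun n hn => isZero_gr_single p n hn) n hn

lemma gr_aug₀_exact [J.IsStrictlyGE 0] (hc : FilD.IsFilteredQuasiIso c) (p : ℤ) :
    ((ShortComplex.mk (aug₀ c) (J.d 0 1) (aug₀_d c)).map (FilD.grF A p)).Exact := by
  have := hc p
  rw [ShortComplex.exact_iff_exact_up_to_refinements]
  intro T y hy
  have hy' : y ≫ ((FilD.grCx p).obj J).d 0 1 = 0 := hy
  obtain ⟨T', π, hπ, z, hz⟩ := hex_of_quasiIso_single_like ((FilD.grCx p).map c)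
    ((FilD.grF A p).map_isZero (J.isZero_of_isStrictlyGE 0 (-1) (by omega))) y hy'
  let z' : T' ⟶ (FilD.grF A p).obj (((CochainComplex.singleFunctor (FilD.FilF A) 0).obj Z).X 0) := z
  have hz' : π ≫ y = z' ≫ (FilD.grF A p).map (c.f 0) := hz
  have e : (FilD.grF A p).map (sσ Z).hom ≫
      (FilD.grF A p).map (aug₀ c) = (FilD.grF A p).map (c.f 0) :=
    (Functor.map_comp _ _ _).symm.trans (congrArg _ (hom_aug₀ c))
  refine ⟨T', π, hπ, z' ≫ (FilD.grF A p).map
    (sσ Z).hom, ?_⟩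
  exact hz'.trans ((congrArg (fun t => z' ≫ t) e.symm).trans (Category.assoc _ _ _).symm)

end single

end Groth.Agent.H2.FD
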