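import Groth.Agent.Lib.Helper2.FilD24

/-!
# The horseshoe lemma for filtered injective resolutions
-/

universe v u

open CategoryTheory CategoryTheory.Limits Opposite

namespace Groth.Agent.H2.FD

open CochainComplex HomComplex

variable {A : Type u} [Category.{v} A] [Abelian A]

theorem horseshoe (S : ShortComplex (FilD.FilF A))
    (hS : ∀ p : ℤ, (S.map ((FilD.IsFinFil A).ι ⋙ (evaluation ℤᵒᵖ A).obj (op p))).ShortExact)
    (I : CochainComplex (FilD.FilF A) ℤ) (hI : ∀ n, FilD.IsFilteredInjective (I.X n))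
    (a : (CochainComplex.singleFunctor (FilD.FilF A) 0).obj S.X₁ ⟶ I)
    (J : CochainComplex (FilD.FilF A) ℤ) [J.IsStrictlyGE 0]
    (c : (CochainComplex.singleFunctor (FilD.FilF A) 0).obj S.X₃ ⟶ J)
    (hc : FilD.IsFilteredQuasiIso c) :
    ∃ (θ : Cochain J I 1) (hθ : δ 1 2 θ = 0)
      (b : (CochainComplex.singleFunctor (FilD.FilF A) 0).obj S.X₂ ⟶ twist I J θ hθ),
      a ≫ twistInl I J θ hθ = (CochainComplex.singleFunctor (FilD.FilF A) 0).map S.f ≫ b ∧
      b ≫ twistSnd I J θ hθ = (CochainComplex.singleFunctor (FilD.FilF A) 0).map S.g ≫ c := by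
  have hm : ∀ p, Mono (app S.f p) := fun p => (hS p).mono_f
  have he : ∀ p, Epi (app S.g p) := fun p => (hS p).epi_g
  have hex : ∀ (p : ℤ) {T : A} (y : T ⟶ lv S.X₂ p), y ≫ app S.g p = 0 →
      ∃ (T' : A) (π : T' ⟶ T) (_ : Epi π) (x : T' ⟶ lv S.X₁ p), π ≫ y = x ≫ app S.f p :=
    fun p T y hy => (hS p).exact.exact_up_to_refinements y hy
  have hgr : ∀ p : ℤ, (S.map (FilD.grF A p)).Exact := gr_exact_of_level_exact S hex he
  have hfs : FilD.IsStrict S.f := isStrict_f_of_gr_exact S hgr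
  haveI : Mono S.f := mono_of_mono_app S.f hm
  -- the degree zero part
  obtain ⟨e, he0⟩ := exists_ext_of_mono S.f hfs (hI 0) (aug₀ a)
  have hc0m : ∀ p, Mono (app (aug₀ c) p) := mono_app_of_mono_gr _ (mono_gr_aug₀ c hc)
  have hc0s : FilD.IsStrict (aug₀ c) := isStrict_of_mono_gr _ (mono_gr_aug₀ c hc)
  obtain ⟨θ₀, hθ₀⟩ := exists_ext (S.g ≫ aug₀ c) (isStrict_comp_of_epi_app S.g he _ hc0s)
    (-(e ≫ I.d 0 1)) (by
      intro p T k hk
      haveI := hc0m p
      rw [app_comp, ← Category.assoc] at hk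
      have hk' := zero_of_comp_mono _ hk
      obtain ⟨T', π, hπ, x, hx⟩ := hex p k hk'
      have h1 : S.f ≫ (-(e ≫ I.d 0 1)) = 0 := by
        rw [Preadditive.comp_neg, reassoc_of% he0, aug₀_d, neg_zero]
      rw [← cancel_epi π, comp_zero, reassoc_of% hx, ← app_comp, h1, app_zero, comp_zero]) (hI 1)
  have hgc0 : aug₀ c ≫ (-(θ₀ ≫ I.d 1 2)) = 0 := by
    apply hom_ext'
    intro p
    haveI := he p
    rw [← cancel_epi (app S.g p), ← app_comp, ← app_comp, Preadditive.comp_neg,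
      Preadditive.comp_neg, ← Category.assoc, ← Category.assoc, hθ₀, Preadditive.neg_comp,
      Category.assoc, I.d_comp_d, comp_zero, neg_zero, neg_zero, comp_zero]
  obtain ⟨θ, hθ0, hθ⟩ := exists_cocycle_of_ext (J := J) (I := I) θ₀
    (exists_ext_of_gr_exact (ShortComplex.mk (aug₀ c) (J.d 0 1) (aug₀_d c))
      (gr_aug₀_exact c hc) (hI 2) (-(θ₀ ≫ I.d 1 2)) hgc0)
    (fun n hn u hu => exists_ext_of_gr_exact
      (ShortComplex.mk (J.d n (n + 1)) (J.d (n + 1) (n + 2)) (J.d_comp_d _ _ _))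
      (fun p => gr_sc_exact_of_exactAt J n (n + 1) (n + 2) rfl (by omega) p
        (gr_exactAt_of_filteredQuasiIso c hc p (n + 1) (by omega))) (hI (n + 3)) u hu)
  have h1 : (S.g ≫ aug₀ c) ≫ θ.v 0 (0 + 1) rfl = -(e ≫ I.d 0 (0 + 1)) := by
    change (S.g ≫ aug₀ c) ≫ θ.v 0 1 _ = -(e ≫ I.d 0 1)
    rw [hθ0, hθ₀]
  have h2 : (S.g ≫ aug₀ c) ≫ J.d 0 (0 + 1) = 0 := by
    change (S.g ≫ aug₀ c) ≫ J.d 0 1 = 0
    rw [Category.assoc, aug₀_d, comp_zero]
  have hb₀ : biprod.lift e (S.g ≫ aug₀ c) ≫ twD I J θ 0 = 0 := by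
    unfold twD
    rw [Preadditive.comp_add, biprod.lift_fst_assoc, biprod.lift_snd_assoc, Preadditive.comp_add,
      ← Category.assoc (S.g ≫ aug₀ c), h1, ← Category.assoc (S.g ≫ aug₀ c), h2, zero_comp,
      add_zero, Preadditive.neg_comp, Category.assoc, add_neg_cancel]
  have hfb : S.f ≫ biprod.lift e (S.g ≫ aug₀ c) = aug₀ a ≫ biprod.inl := by
    apply biprod.hom_ext
    · rw [Category.assoc, biprod.lift_fst, he0, Category.assoc, biprod.inl_fst, Category.comp_id]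
    · rw [Category.assoc, biprod.lift_snd, S.zero_assoc, zero_comp, Category.assoc,
        biprod.inl_snd, comp_zero]
  have hb₀' : (biprod.lift e (S.g ≫ aug₀ c) : S.X₂ ⟶ (twist I J θ hθ).X 0) ≫
      (twist I J θ hθ).d 0 1 = 0 := by
    have := twist_d I J θ hθ 0
    change (twist I J θ hθ).d 0 1 = _ at this
    rw [this]
    exact hb₀
  refine ⟨θ, hθ, fromSingle (K := twist I J θ hθ) (biprod.lift e (S.g ≫ aug₀ c)) hb₀', ?_, ?_⟩
  · apply fromSingle_ext
    rw [HomologicalComplex.comp_f, HomologicalComplex.comp_f, fromSingle_f,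
      singleFunctor_map_f_zero]
    simp only [Category.assoc, Iso.inv_hom_id_assoc]
    exact (congrArg (fun t => t ≫ biprod.inl) (hom_aug₀ a).symm).trans
      ((Category.assoc _ _ _).trans (congrArg (fun t => (sσ S.X₁).hom ≫ t) hfb.symm))
  · apply fromSingle_ext
    rw [HomologicalComplex.comp_f, HomologicalComplex.comp_f, fromSingle_f,
      singleFunctor_map_f_zero]
    simp only [Category.assoc]
    have e1 : biprod.lift e (S.g ≫ aug₀ c) ≫ biprod.snd = S.g ≫ (sσ S.X₃).inv ≫ c.f 0 := by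
      rw [biprod.lift_snd]
      rfl
    exact congrArg (fun t => (sσ S.X₂).hom ≫ t) e1

end Groth.Agent.H2.FD
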