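import Groth.Agent.Lib.Helper2.FilD25

/-!
# More on strict morphisms, kernels and cokernels of finite filtered objects
-/

universe v u

open CategoryTheory CategoryTheory.Limits Opposite

namespace Groth.Agent.H2.FD

variable {A : Type u} [Category.{v} A] [Abelian A]

/-- A levelwise epimorphism is an epimorphism of finite filtered objects. -/
lemma epi_of_epi_app {X Y : FilD.FilF A} (u : X ⟶ Y) (h : ∀ p, Epi (app u p)) : Epi u := by
  haveI : Epi u.hom := (NatTrans.epi_iff_epi_app u.hom).2 (fun x => h x.unop)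
  exact (FilD.IsFinFil A).ι.epi_of_epi_map (f := u) (by change Epi u.hom; infer_instance)

instance epi_cokerπ {X Y : FilD.FilF A} (φ : X ⟶ Y) (hφ : FilD.IsStrict φ) :
    Epi (cokerπ φ hφ) :=
  epi_of_epi_app _ (fun p => epi_app_cokerπ φ hφ p)

lemma isStrict_zero (X Y : FilD.FilF A) : FilD.IsStrict (0 : X ⟶ Y) := by
  apply isStrict_of_refine
  intro p q h T x y hxy
  refine ⟨T, 𝟙 T, inferInstance, 0, ?_⟩
  rw [Category.id_comp, zero_comp, ← cancel_mono (tr Y h), ← hxy, app_zero, comp_zero, zero_comp]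

lemma isStrict_of_section {X Y : FilD.FilF A} (φ : X ⟶ Y) (s : Y ⟶ X) (h : s ≫ φ = 𝟙 Y) :
    FilD.IsStrict φ := by
  apply isStrict_of_refine
  intro p q hpq T x y _
  refine ⟨T, 𝟙 T, inferInstance, y ≫ app s q, ?_⟩
  rw [Category.id_comp, Category.assoc, ← app_comp, h, app_id, Category.comp_id]

lemma isStrict_comp_of_retraction {X Y Z : FilD.FilF A} (u : X ⟶ Y) (hu : FilD.IsStrict u)
    (m : Y ⟶ Z) (r : Z ⟶ Y) (h : m ≫ r = 𝟙 Y) : FilD.IsStrict (u ≫ m) := by
  apply isStrict_of_refine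
  intro p q hpq T x y hxy
  have hmr : ∀ p, app m p ≫ app r p = 𝟙 _ := fun p => by rw [← app_comp, h, app_id]
  obtain ⟨T', π, hπ, x', hx'⟩ := refine_of_isStrict hu hpq x (y ≫ app r q) (by
    rw [Category.assoc, ← tr_app, ← reassoc_of% hxy, app_comp, Category.assoc, hmr,
      Category.comp_id])
  refine ⟨T', π, hπ, x', ?_⟩
  rw [app_comp, ← reassoc_of% hx', ← cancel_mono (tr Z hpq)]
  simp only [Category.assoc]
  rw [← tr_app m, ← tr_app_assoc r, ← reassoc_of% hxy, app_comp, Category.assoc,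
    reassoc_of% (hmr p)]
  rw [← hxy, app_comp]

section kernel

variable {X Y : FilD.FilF A} (φ : X ⟶ Y)

instance mono_app_kerι (p : ℤ) : Mono (app (kerι φ) p) :=
  mono_kernel_ι_app φ.hom (op p)

instance mono_kerι : Mono (kerι φ) := mono_of_mono_app _ (fun p => mono_app_kerι φ p)

/-- Lifting to the kernel. -/
noncomputable def kerLift {W : FilD.FilF A} (g : W ⟶ X) (hg : g ≫ φ = 0) : W ⟶ kerF φ :=
  ObjectProperty.homMk (kernel.lift φ.hom g.hom (congrArg (fun f => f.hom) hg))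

@[reassoc (attr := simp)]
lemma kerLift_ι {W : FilD.FilF A} (g : W ⟶ X) (hg : g ≫ φ = 0) :
    kerLift φ g hg ≫ kerι φ = g := by
  apply ObjectProperty.hom_ext
  exact kernel.lift_ι _ _ _

lemma kerι_app_comp (p : ℤ) : app (kerι φ) p ≫ app φ p = 0 := by
  rw [← app_comp, kerι_comp, app_zero]

lemma isStrict_kerι : FilD.IsStrict (kerι φ) := by
  apply isStrict_of_refine
  intro p q hpq T x y hxy
  obtain ⟨k, hk⟩ := kernel_lift_app φ.hom q y (by
    change y ≫ app φ q = 0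
    rw [← cancel_mono (tr Y hpq), Category.assoc, ← tr_app, ← reassoc_of% hxy, kerι_app_comp,
      comp_zero, zero_comp])
  exact ⟨T, 𝟙 T, inferInstance, k, by rw [Category.id_comp]; exact hk.symm⟩

lemma mono_gr_kerι (p : ℤ) : Mono ((FilD.grF A p).map (kerι φ)) :=
  mono_gr_map_of_strict _ (fun p => mono_app_kerι φ p) (isStrict_kerι φ) p

lemma gr_kerι_exact (hφ : FilD.IsStrict φ) (p : ℤ) {T : A} (z : T ⟶ (FilD.grF A p).obj X)
    (hz : z ≫ (FilD.grF A p).map φ = 0) :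
    ∃ (T' : A) (π : T' ⟶ T) (_ : Epi π) (w : T' ⟶ (FilD.grF A p).obj (kerF φ)),
      π ≫ z = w ≫ (FilD.grF A p).map (kerι φ) :=
  gr_kernel_exact_of_isStrict hφ p z hz

end kernel

section cokernel

variable {X Y : FilD.FilF A} (φ : X ⟶ Y) (hφ : FilD.IsStrict φ)

lemma epi_gr_cokerπ (p : ℤ) : Epi ((FilD.grF A p).map (cokerπ φ hφ)) :=
  epi_gr_map_of_epi_app _ (fun p => epi_app_cokerπ φ hφ p) p

lemma gr_cokerπ_exact (p : ℤ) {T : A} (z : T ⟶ (FilD.grF A p).obj Y)
    (hz : z ≫ (FilD.grF A p).map (cokerπ φ hφ) = 0) :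
    ∃ (T' : A) (π : T' ⟶ T) (_ : Epi π) (x : T' ⟶ (FilD.grF A p).obj X),
      π ≫ z = x ≫ (FilD.grF A p).map φ :=
  (gr_exact_of_level_exact (ShortComplex.mk φ (cokerπ φ hφ) (comp_cokerπ φ hφ))
    (fun p _ y hy => cokerπ_exact φ hφ p y hy)
    (fun p => epi_app_cokerπ φ hφ p) p).exact_up_to_refinements z hz

end cokernel

end Groth.Agent.H2.FD
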