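import Groth.Agent.Lib.Helper2.FilD26
import Mathlib.Algebra.Homology.Refinements

/-!
# Two criteria for a morphism of cochain complexes to be a quasi-isomorphism in a given degree
-/

universe v u

open CategoryTheory CategoryTheory.Limits Opposite

namespace Groth.Agent.H2.FD

section abelian

variable {C : Type*} [Category C] [Abelian C] {K L : CochainComplex C ℤ}

lemma quasiIsoAt_of_mono_epi (f : K ⟶ L) (j : ℤ) (hm : Mono (HomologicalComplex.homologyMap f j))
    (he : Epi (HomologicalComplex.homologyMap f j)) : QuasiIsoAt f j := by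
  rw [quasiIsoAt_iff_isIso_homologyMap]
  exact isIso_of_mono_of_epi _

/-- Criterion for quotient-type truncations. -/
lemma quasiIsoAt_QA (f : K ⟶ L) (i j k : ℤ) (hij : i + 1 = j) (hjk : j + 1 = k)
    (h1 : Epi (f.f i)) (h2 : Epi (f.f j))
    (h3 : ∀ {T : C} (z : T ⟶ K.X j), z ≫ f.f j = 0 →
      ∃ (T' : C) (π : T' ⟶ T) (_ : Epi π) (x : T' ⟶ K.X i), π ≫ z = x ≫ K.d i j)
    (h4 : Mono (f.f k)) : QuasiIsoAt f j := by
  apply quasiIsoAt_of_mono_epi
  · rw [HomologicalComplex.mono_homologyMap_iff_up_to_refinements f i j k (by simp; omega)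
      (by simp; omega)]
    intro T x₂ _ y₁ hy
    obtain ⟨T1, π1, hπ1, w, hw⟩ := surjective_up_to_refinements_of_epi (f.f i) y₁
    obtain ⟨T2, π2, hπ2, x, hx⟩ := h3 (π1 ≫ x₂ - w ≫ K.d i j) (by
      rw [Preadditive.sub_comp, Category.assoc, Category.assoc, hy, ← f.comm, reassoc_of% hw,
        sub_self])
    refine ⟨T2, π2 ≫ π1, inferInstance, π2 ≫ w + x, ?_⟩
    rw [Preadditive.add_comp, ← hx, Preadditive.comp_sub]
    simp
  · rw [HomologicalComplex.epi_homologyMap_iff_up_to_refinements f i j k (by simp; omega)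
      (by simp; omega)]
    intro T y₂ hy₂
    obtain ⟨T1, π1, hπ1, x₂, hx₂⟩ := surjective_up_to_refinements_of_epi (f.f j) y₂
    refine ⟨T1, π1, hπ1, x₂, ?_, 0, ?_⟩
    · rw [← cancel_mono (f.f k), Category.assoc, ← f.comm, ← reassoc_of% hx₂, hy₂, comp_zero,
        zero_comp]
    · rw [zero_comp, add_zero, hx₂]

/-- Criterion for subobject-type truncations. -/
lemma quasiIsoAt_QB (f : K ⟶ L) (i j k : ℤ) (hij : i + 1 = j) (hjk : j + 1 = k)
    (h1 : Mono (f.f j)) (h2 : Mono (f.f k))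
    (h3 : ∀ {T : C} (y : T ⟶ L.X i),
      ∃ (T' : C) (π : T' ⟶ T) (_ : Epi π) (x : T' ⟶ K.X i), π ≫ y = x ≫ f.f i)
    (h4 : ∀ {T : C} (y : T ⟶ L.X j), y ≫ L.d j k = 0 →
      ∃ (T' : C) (π : T' ⟶ T) (_ : Epi π) (x : T' ⟶ K.X j), π ≫ y = x ≫ f.f j) :
    QuasiIsoAt f j := by
  apply quasiIsoAt_of_mono_epi
  · rw [HomologicalComplex.mono_homologyMap_iff_up_to_refinements f i j k (by simp; omega)
      (by simp; omega)]
    intro T x₂ _ y₁ hy
    obtain ⟨T1, π1, hπ1, x₁, hx₁⟩ := h3 y₁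
    refine ⟨T1, π1, hπ1, x₁, ?_⟩
    rw [← cancel_mono (f.f j), Category.assoc, Category.assoc, hy, reassoc_of% hx₁, ← f.comm]
  · rw [HomologicalComplex.epi_homologyMap_iff_up_to_refinements f i j k (by simp; omega)
      (by simp; omega)]
    intro T y₂ hy₂
    obtain ⟨T1, π1, hπ1, x₂, hx₂⟩ := h4 y₂ hy₂
    refine ⟨T1, π1, hπ1, x₂, ?_, 0, ?_⟩
    · rw [← cancel_mono (f.f k), Category.assoc, ← f.comm, ← reassoc_of% hx₂, hy₂, comp_zero,
        zero_comp]
    · rw [zero_comp, add_zero, hx₂]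

end abelian

end Groth.Agent.H2.FD
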