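import Groth.Agent.Lib.Helper2.FilD27

/-!
# The canonical truncation `τ≥a` of a complex of finite filtered objects
-/

universe v u

open CategoryTheory CategoryTheory.Limits Opposite

namespace Groth.Agent.H2.FD

variable {A : Type u} [Category.{v} A] [Abelian A]

lemma epi_app_of_section {X Y : FilD.FilF A} (φ : X ⟶ Y) (s : Y ⟶ X) (h : s ≫ φ = 𝟙 Y) (p : ℤ) :
    Epi (app φ p) := by
  have h1 : app s p ≫ app φ p = 𝟙 _ := by rw [← app_comp, h, app_id]
  exact epi_of_epi_fac h1

section truncGE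

variable (K : CochainComplex (FilD.FilF A) ℤ) (a' a : ℤ)

/-- The morphism whose cokernel is the `n`-th term of the truncation. -/
noncomputable def geV (n : ℤ) : K.X a' ⊞ K.X n ⟶ K.X n :=
  biprod.desc (K.d a' n) (if n < a then 𝟙 _ else 0)

lemma inr_geV_of_lt (n : ℤ) (hn : n < a) : biprod.inr ≫ geV K a' a n = 𝟙 _ := by
  unfold geV
  rw [biprod.inr_desc, if_pos hn]

lemma inl_geV (n : ℤ) : biprod.inl ≫ geV K a' a n = K.d a' n := by
  unfold geV
  rw [biprod.inl_desc]

lemma geV_of_ge (n : ℤ) (hn : a ≤ n) : geV K a' a n = biprod.fst ≫ K.d a' n := by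
  unfold geV
  rw [if_neg (by omega)]
  apply biprod.hom_ext' <;> simp

variable {a' a}

lemma geV_of_gt (haa : a' + 1 = a) (n : ℤ) (hn : a < n) : geV K a' a n = 0 := by
  rw [geV_of_ge K a' a n hn.le, K.shape a' n (by simp; omega), comp_zero]

lemma geV_strict (haa : a' + 1 = a) (hd : FilD.IsStrict (K.d a' a)) (n : ℤ) :
    FilD.IsStrict (geV K a' a n) := by
  rcases lt_trichotomy n a with hn | rfl | hn
  · exact isStrict_of_section _ biprod.inr (inr_geV_of_lt K a' a n hn)
  · rw [geV_of_ge K a' n n le_rfl]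
    exact isStrict_comp_of_epi_app _ (epi_app_of_section _ biprod.inl biprod.inl_fst) _ hd
  · rw [geV_of_gt K haa n hn]
    exact isStrict_zero _ _

variable (haa : a' + 1 = a) (hd : FilD.IsStrict (K.d a' a))

/-- The terms of the truncation. -/
noncomputable def geX (n : ℤ) : FilD.FilF A := cokerF (geV K a' a n) (geV_strict K haa hd n)

/-- The projection. -/
noncomputable def geP (n : ℤ) : K.X n ⟶ geX K haa hd n := cokerπ (geV K a' a n) (geV_strict K haa hd n)

instance (n : ℤ) : Epi (geP K haa hd n) := epi_cokerπ _ _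

@[reassoc]
lemma geV_geP (n : ℤ) : geV K a' a n ≫ geP K haa hd n = 0 := comp_cokerπ _ _

lemma geP_eq_zero (n : ℤ) (hn : n < a) : geP K haa hd n = 0 := by
  rw [← Category.id_comp (geP K haa hd n), ← inr_geV_of_lt K a' a n hn, Category.assoc, geV_geP,
    comp_zero]

lemma isZero_geX (n : ℤ) (hn : n < a) : IsZero (geX K haa hd n) := by
  rw [IsZero.iff_id_eq_zero, ← cancel_epi (geP K haa hd n), comp_zero, Category.comp_id]
  exact geP_eq_zero K haa hd n hn

lemma d_geP (n : ℤ) (hn : n < a) : K.d n (n + 1) ≫ geP K haa hd (n + 1) = 0 := by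
  obtain hn' | hn' : n + 1 < a ∨ n + 1 = a := by omega
  · rw [geP_eq_zero K haa hd _ hn', comp_zero]
  · obtain rfl : a' = n := by omega
    rw [← inl_geV K a' a (a' + 1), Category.assoc, geV_geP, comp_zero]

lemma geV_d_geP (n : ℤ) : geV K a' a n ≫ K.d n (n + 1) ≫ geP K haa hd (n + 1) = 0 := by
  apply biprod.hom_ext'
  · rw [← Category.assoc, ← Category.assoc, inl_geV, K.d_comp_d, zero_comp, comp_zero]
  · unfold geV
    rw [biprod.inr_desc_assoc, comp_zero]
    split_ifs with h
    · rw [Category.id_comp, d_geP K haa hd n h]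
    · rw [zero_comp]

/-- The differential of the truncation. -/
noncomputable def geD (n : ℤ) : geX K haa hd n ⟶ geX K haa hd (n + 1) :=
  cokerDesc (geV K a' a n) (geV_strict K haa hd n) (K.d n (n + 1) ≫ geP K haa hd (n + 1))
    (geV_d_geP K haa hd n)

@[reassoc]
lemma geP_geD (n : ℤ) :
    geP K haa hd n ≫ geD K haa hd n = K.d n (n + 1) ≫ geP K haa hd (n + 1) :=
  cokerπ_desc _ _ _ _

lemma geD_comp (n : ℤ) : geD K haa hd n ≫ geD K haa hd (n + 1) = 0 := by
  rw [← cancel_epi (geP K haa hd n), geP_geD_assoc, geP_geD, K.d_comp_d_assoc, zero_comp,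
    comp_zero]

/-- The truncation `τ≥a K`. -/
noncomputable def geCx : CochainComplex (FilD.FilF A) ℤ :=
  CochainComplex.of (geX K haa hd) (geD K haa hd) (geD_comp K haa hd)

lemma geCx_d (n : ℤ) : (geCx K haa hd).d n (n + 1) = geD K haa hd n := by
  unfold geCx
  exact CochainComplex.of_d (geX K haa hd) (geD K haa hd) n

/-- The projection `K ⟶ τ≥a K`. -/
noncomputable def geπ : K ⟶ geCx K haa hd where
  f n := geP K haa hd n
  comm' i j hij := by
    obtain rfl : i + 1 = j := hij
    rw [geCx_d]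
    exact geP_geD K haa hd i

lemma isStrictlyGE_geCx : (geCx K haa hd).IsStrictlyGE a := by
  rw [CochainComplex.isStrictlyGE_iff]
  intro i hi
  exact isZero_geX K haa hd i hi

end truncGE

end Groth.Agent.H2.FD
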