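import Groth.Agent.Lib.Helper2.FilD28

/-!
# The canonical truncation `τ≥a`: the projection is a filtered quasi-isomorphism
-/

universe v u

open CategoryTheory CategoryTheory.Limits Opposite

namespace Groth.Agent.H2.FD

variable {A : Type u} [Category.{v} A] [Abelian A]

section truncGE

variable (K : CochainComplex (FilD.FilF A) ℤ) {a' a : ℤ} (haa : a' + 1 = a)
  (hd : FilD.IsStrict (K.d a' a))

lemma epi_gr_geP (p n : ℤ) : Epi ((FilD.grF A p).map (geP K haa hd n)) :=
  epi_gr_cokerπ _ _ p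

lemma gr_geP_exact (p n : ℤ) {T : A} (z : T ⟶ (FilD.grF A p).obj (K.X n))
    (hz : z ≫ (FilD.grF A p).map (geP K haa hd n) = 0) :
    ∃ (T' : A) (π : T' ⟶ T) (_ : Epi π) (x : T' ⟶ (FilD.grF A p).obj (K.X a' ⊞ K.X n)),
      π ≫ z = x ≫ (FilD.grF A p).map (geV K a' a n) :=
  gr_cokerπ_exact _ _ p z hz

lemma mono_gr_geP (p n : ℤ) (hn : a < n) : Mono ((FilD.grF A p).map (geP K haa hd n)) := by
  apply Preadditive.mono_of_cancel_zero
  intro T z hz
  obtain ⟨T', π, hπ, x, hx⟩ := gr_geP_exact K haa hd p n z hz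
  rw [geV_of_gt K haa n hn, Functor.map_zero, comp_zero] at hx
  rw [← cancel_epi π, hx, comp_zero]

theorem geπ_filteredQuasiIso (hK : ∀ p n : ℤ, n < a → ((FilD.grCx p).obj K).ExactAt n) :
    FilD.IsFilteredQuasiIso (geπ K haa hd) := by
  intro p
  rw [quasiIso_iff]
  intro n
  rcases lt_trichotomy n a with hn | rfl | hn
  · rw [quasiIsoAt_iff_exactAt _ n (hK p n hn)]
    exact HomologicalComplex.ExactAt.of_isZero
      ((FilD.grF A p).map_isZero (isZero_geX K haa hd n hn))
  · refine quasiIsoAt_QA _ a' n (n + 1) haa rfl (epi_gr_geP K haa hd p a')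
      (epi_gr_geP K haa hd p n) ?_ (mono_gr_geP K haa hd p (n + 1) (by omega))
    intro T z hz
    obtain ⟨T', π, hπ, x, hx⟩ := gr_geP_exact K haa hd p n z hz
    rw [geV_of_ge K a' n n le_rfl] at hx
    refine ⟨T', π, hπ, x ≫ (FilD.grF A p).map biprod.fst, ?_⟩
    exact hx.trans ((congrArg (fun t => x ≫ t) (Functor.map_comp _ _ _)).trans
      (Category.assoc _ _ _).symm)
  · refine quasiIsoAt_QA _ (n - 1) n (n + 1) (by omega) rfl (epi_gr_geP K haa hd p (n - 1))
      (epi_gr_geP K haa hd p n) ?_ (mono_gr_geP K haa hd p (n + 1) (by omega))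
    intro T z hz
    obtain ⟨T', π, hπ, x, hx⟩ := gr_geP_exact K haa hd p n z hz
    rw [geV_of_gt K haa n hn, Functor.map_zero, comp_zero] at hx
    exact ⟨T', π, hπ, 0, hx.trans zero_comp.symm⟩

end truncGE

/-- Truncation from below for complexes of finite filtered objects. -/
theorem exists_truncGE (K : CochainComplex (FilD.FilF A) ℤ) (a : ℤ)
    (hK : ∀ (p n : ℤ), n < a → IsZero (((FilD.grCx p).obj K).homology n)) :
    ∃ (L : CochainComplex (FilD.FilF A) ℤ) (φ : K ⟶ L),
      L.IsStrictlyGE a ∧ FilD.IsFilteredQuasiIso φ := by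
  have hex : ∀ p n : ℤ, n < a → ((FilD.grCx p).obj K).ExactAt n := fun p n hn => by
    rw [HomologicalComplex.exactAt_iff_isZero_homology]
    exact hK p n hn
  have haa : a - 1 + 1 = a := by omega
  have hd : FilD.IsStrict (K.d (a - 1) a) :=
    isStrict_g_of_gr_exact (ShortComplex.mk (K.d (a - 2) (a - 1)) (K.d (a - 1) a)
      (K.d_comp_d _ _ _)) (fun p => gr_sc_exact_of_exactAt K (a - 2) (a - 1) a (by omega)
      (by omega) p (hex p (a - 1) (by omega)))
  exact ⟨geCx K haa hd, geπ K haa hd, isStrictlyGE_geCx K haa hd,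
    geπ_filteredQuasiIso K haa hd hex⟩

end Groth.Agent.H2.FD
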