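import Groth.Agent.Lib.Helper2.FilD2

/-!
# Finite filtered objects: exactness on graded pieces implies levelwise exactness and strictness
-/

universe v u

open CategoryTheory CategoryTheory.Limits Opposite

namespace Groth.Agent.H2.FD

variable {A : Type u} [Category.{v} A] [Abelian A]

lemma app_zero' (S : ShortComplex (FilD.FilF A)) (p : ℤ) : app S.f p ≫ app S.g p = 0 := by
  rw [← app_comp, S.zero]
  rfl

lemma gr_exact_refine (S : ShortComplex (FilD.FilF A)) {p : ℤ} (hS : (S.map (FilD.grF A p)).Exact)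
    {T : A} (y : T ⟶ (FilD.grF A p).obj S.X₂) (hy : y ≫ (FilD.grF A p).map S.g = 0) :
    ∃ (T' : A) (π : T' ⟶ T) (_ : Epi π) (z : T' ⟶ (FilD.grF A p).obj S.X₁),
      π ≫ y = z ≫ (FilD.grF A p).map S.f :=
  hS.exact_up_to_refinements y hy

/-- Levelwise exactness (in refinement form) from exactness of graded pieces. -/
lemma level_exact_of_gr_exact (S : ShortComplex (FilD.FilF A))
    (hS : ∀ p : ℤ, (S.map (FilD.grF A p)).Exact) (p : ℤ) {T : A} (y : T ⟶ lv S.X₂ p)
    (hy : y ≫ app S.g p = 0) :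
    ∃ (T' : A) (π : T' ⟶ T) (_ : Epi π) (x : T' ⟶ lv S.X₁ p), π ≫ y = x ≫ app S.f p := by
  obtain ⟨b, hb⟩ := exists_isTop S.X₂
  suffices ∀ (n : ℕ) (p : ℤ), b ≤ p + n → ∀ {T : A} (y : T ⟶ lv S.X₂ p), y ≫ app S.g p = 0 →
      ∃ (T' : A) (π : T' ⟶ T) (_ : Epi π) (x : T' ⟶ lv S.X₁ p), π ≫ y = x ≫ app S.f p from
    this (b - p).toNat p (by omega) y hy
  intro n
  induction n with
  | zero =>
    intro p hp T y _
    refine ⟨T, 𝟙 T, inferInstance, 0, ?_⟩
    rw [zero_comp, Category.id_comp]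
    exact (hb p (by simpa using hp)).eq_of_tgt _ _
  | succ n ih =>
    intro p hp T y hy
    obtain ⟨T1, π1, hπ1, z, hz⟩ := gr_exact_refine S (hS p) (y ≫ grπ S.X₂ p) (by
      rw [Category.assoc, grπ_map, ← Category.assoc, hy, zero_comp])
    obtain ⟨T2, π2, hπ2, x, hx⟩ := surjective_up_to_refinements_of_epi (grπ S.X₁ p) z
    obtain ⟨y', hy'⟩ := gr_lift S.X₂ p (π2 ≫ π1 ≫ y - x ≫ app S.f p) (by
      rw [Preadditive.sub_comp, Category.assoc, Category.assoc, hz, reassoc_of% hx,
        Category.assoc, grπ_map, sub_self])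
    have hy'0 : y' ≫ app S.g (p + 1) = 0 := by
      rw [← cancel_mono (tr S.X₃ (le_succ p)), Category.assoc, ← tr_app, reassoc_of% hy', zero_comp,
        Preadditive.sub_comp, Category.assoc, Category.assoc, hy, Category.assoc, app_zero']
      simp
    obtain ⟨T3, π3, hπ3, x', hx'⟩ := ih (p + 1) (by push_cast at hp; omega) y' hy'0
    refine ⟨T3, π3 ≫ π2 ≫ π1, inferInstance, π3 ≫ x + x' ≫ tr S.X₁ (le_succ p), ?_⟩
    simp only [Preadditive.add_comp, Category.assoc]
    rw [tr_app, ← reassoc_of% hx', hy', Preadditive.comp_sub]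
    simp

/-- In a short complex of finite filtered objects with exact graded pieces, the first map is strict. -/
lemma isStrict_f_of_gr_exact (S : ShortComplex (FilD.FilF A))
    (hS : ∀ p : ℤ, (S.map (FilD.grF A p)).Exact) : FilD.IsStrict S.f := by
  apply isStrict_of_refine
  intro p q h T x y hxy
  apply level_exact_of_gr_exact S hS q y
  rw [← cancel_mono (tr S.X₃ h), Category.assoc, ← tr_app, ← reassoc_of% hxy, app_zero']
  simp

/-- In a short complex of finite filtered objects with exact graded pieces, the second map is strict. -/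
lemma isStrict_g_of_gr_exact (S : ShortComplex (FilD.FilF A))
    (hS : ∀ p : ℤ, (S.map (FilD.grF A p)).Exact) : FilD.IsStrict S.g := by
  apply isStrict_of_refine_step
  intro p T y z hyz
  obtain ⟨T1, π1, hπ1, w, hw⟩ := gr_exact_refine S (hS p) (y ≫ grπ S.X₂ p) (by
    rw [Category.assoc, grπ_map, reassoc_of% hyz, tr_grπ, comp_zero])
  obtain ⟨T2, π2, hπ2, x, hx⟩ := surjective_up_to_refinements_of_epi (grπ S.X₁ p) w
  obtain ⟨y', hy'⟩ := gr_lift S.X₂ p (π2 ≫ π1 ≫ y - x ≫ app S.f p) (by
    rw [Preadditive.sub_comp, Category.assoc, Category.assoc, hw, reassoc_of% hx,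
      Category.assoc, grπ_map, sub_self])
  refine ⟨T2, π2 ≫ π1, inferInstance, y', ?_⟩
  rw [← cancel_mono (tr S.X₃ (le_succ p)), Category.assoc, Category.assoc, Category.assoc, ← hyz,
    ← tr_app, reassoc_of% hy', Preadditive.sub_comp, Category.assoc, Category.assoc,
    Category.assoc, app_zero']
  simp

end Groth.Agent.H2.FD
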