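import Groth.Agent.Lib.Helper2.FilD29

/-!
# The canonical truncation `τ≤b` of a complex of finite filtered objects
-/

universe v u

open CategoryTheory CategoryTheory.Limits Opposite

namespace Groth.Agent.H2.FD

variable {A : Type u} [Category.{v} A] [Abelian A]

lemma isStrict_id (X : FilD.FilF A) : FilD.IsStrict (𝟙 X) :=
  isStrict_of_section _ (𝟙 X) (Category.id_comp _)

lemma isStrict_of_retraction {X Y : FilD.FilF A} (φ : X ⟶ Y) (r : Y ⟶ X) (h : φ ≫ r = 𝟙 X) :
    FilD.IsStrict φ := by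
  have := isStrict_comp_of_retraction (𝟙 X) (isStrict_id X) φ r h
  rwa [Category.id_comp] at this

section truncLE

variable (K : CochainComplex (FilD.FilF A) ℤ) (b b' : ℤ)

/-- The morphism whose kernel is the `n`-th term of the truncation. -/
noncomputable def leW (n : ℤ) : K.X n ⟶ K.X n ⊞ K.X b' :=
  biprod.lift (if b < n then 𝟙 _ else 0) (K.d n b')

lemma leW_fst_of_gt (n : ℤ) (hn : b < n) : leW K b b' n ≫ biprod.fst = 𝟙 _ := by
  unfold leW
  rw [biprod.lift_fst, if_pos hn]

lemma leW_snd (n : ℤ) : leW K b b' n ≫ biprod.snd = K.d n b' := by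
  unfold leW
  rw [biprod.lift_snd]

lemma leW_of_le (n : ℤ) (hn : n ≤ b) : leW K b b' n = K.d n b' ≫ biprod.inr := by
  unfold leW
  rw [if_neg (by omega)]
  apply biprod.hom_ext <;> simp

variable {b b'}

lemma leW_of_lt (hbb : b + 1 = b') (n : ℤ) (hn : n < b) : leW K b b' n = 0 := by
  rw [leW_of_le K b b' n hn.le, K.shape n b' (by simp; omega), zero_comp]

lemma leW_strict (hbb : b + 1 = b') (hd : FilD.IsStrict (K.d b b')) (n : ℤ) :
    FilD.IsStrict (leW K b b' n) := by
  rcases lt_trichotomy n b with hn | rfl | hn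
  · rw [leW_of_lt K hbb n hn]
    exact isStrict_zero _ _
  · rw [leW_of_le K n b' n le_rfl]
    exact isStrict_comp_of_retraction _ hd _ biprod.snd biprod.inr_snd
  · exact isStrict_of_retraction _ biprod.fst (leW_fst_of_gt K b b' n hn)

variable (hbb : b + 1 = b')

/-- The terms of the truncation. -/
noncomputable def leX (_ : b + 1 = b') (n : ℤ) : FilD.FilF A := kerF (leW K b b' n)

/-- The inclusion. -/
noncomputable def leI (n : ℤ) : leX K hbb n ⟶ K.X n := kerι (leW K b b' n)

instance (n : ℤ) : Mono (leI K hbb n) := mono_kerι _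

@[reassoc]
lemma leI_leW (n : ℤ) : leI K hbb n ≫ leW K b b' n = 0 := kerι_comp _

lemma leI_eq_zero (n : ℤ) (hn : b < n) : leI K hbb n = 0 := by
  rw [← Category.comp_id (leI K hbb n), ← leW_fst_of_gt K b b' n hn, leI_leW_assoc, zero_comp]

lemma isZero_leX (n : ℤ) (hn : b < n) : IsZero (leX K hbb n) := by
  rw [IsZero.iff_id_eq_zero, ← cancel_mono (leI K hbb n), zero_comp, Category.id_comp]
  exact leI_eq_zero K hbb n hn

lemma leI_d (n : ℤ) (hn : b ≤ n) : leI K hbb n ≫ K.d n (n + 1) = 0 := by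
  obtain hn' | hn' : b < n ∨ b = n := by omega
  · rw [leI_eq_zero K hbb _ hn', zero_comp]
  · obtain rfl : b = n := hn'
    obtain rfl : b + 1 = b' := hbb
    rw [← leW_snd K b (b + 1) b, leI_leW_assoc, zero_comp]

lemma leI_d_leW (n : ℤ) : (leI K hbb n ≫ K.d n (n + 1)) ≫ leW K b b' (n + 1) = 0 := by
  apply biprod.hom_ext
  · unfold leW
    rw [Category.assoc, biprod.lift_fst, zero_comp]
    split_ifs with h
    · rw [Category.comp_id, leI_d K hbb n (by omega)]
    · rw [comp_zero]
  · rw [Category.assoc, leW_snd, Category.assoc, K.d_comp_d, comp_zero, zero_comp]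

/-- The differential of the truncation. -/
noncomputable def leD (n : ℤ) : leX K hbb n ⟶ leX K hbb (n + 1) :=
  kerLift (leW K b b' (n + 1)) (leI K hbb n ≫ K.d n (n + 1)) (leI_d_leW K hbb n)

@[reassoc]
lemma leD_leI (n : ℤ) :
    leD K hbb n ≫ leI K hbb (n + 1) = leI K hbb n ≫ K.d n (n + 1) :=
  kerLift_ι _ _ _

lemma leD_comp (n : ℤ) : leD K hbb n ≫ leD K hbb (n + 1) = 0 := by
  rw [← cancel_mono (leI K hbb (n + 1 + 1)), Category.assoc, leD_leI, leD_leI_assoc,
    K.d_comp_d, comp_zero, zero_comp]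

/-- The truncation `τ≤b K`. -/
noncomputable def leCx : CochainComplex (FilD.FilF A) ℤ :=
  CochainComplex.of (leX K hbb) (leD K hbb) (leD_comp K hbb)

lemma leCx_d (n : ℤ) : (leCx K hbb).d n (n + 1) = leD K hbb n := by
  unfold leCx
  exact CochainComplex.of_d (leX K hbb) (leD K hbb) n

/-- The inclusion `τ≤b K ⟶ K`. -/
noncomputable def leι : leCx K hbb ⟶ K where
  f n := leI K hbb n
  comm' i j hij := by
    obtain rfl : i + 1 = j := hij
    rw [leCx_d]
    exact (leD_leI K hbb i).symm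

lemma isStrictlyLE_leCx : (leCx K hbb).IsStrictlyLE b := by
  rw [CochainComplex.isStrictlyLE_iff]
  intro i hi
  exact isZero_leX K hbb i hi

lemma mono_gr_leI (p n : ℤ) : Mono ((FilD.grF A p).map (leI K hbb n)) :=
  mono_gr_kerι _ p

lemma gr_leI_exact (hd : FilD.IsStrict (K.d b b')) (p n : ℤ) {T : A}
    (z : T ⟶ (FilD.grF A p).obj (K.X n))
    (hz : z ≫ (FilD.grF A p).map (leW K b b' n) = 0) :
    ∃ (T' : A) (π : T' ⟶ T) (_ : Epi π) (w : T' ⟶ (FilD.grF A p).obj (leX K hbb n)),
      π ≫ z = w ≫ (FilD.grF A p).map (leI K hbb n) :=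
  gr_kerι_exact _ (leW_strict K hbb hd n) p z hz

theorem leι_filteredQuasiIso (hd : FilD.IsStrict (K.d b b'))
    (hK : ∀ p n : ℤ, b < n → ((FilD.grCx p).obj K).ExactAt n) :
    FilD.IsFilteredQuasiIso (leι K hbb) := by
  intro p
  rw [quasiIso_iff]
  intro n
  rcases lt_trichotomy n b with hn | rfl | hn
  · refine quasiIsoAt_QB _ (n - 1) n (n + 1) (by omega) rfl (mono_gr_leI K hbb p n)
      (mono_gr_leI K hbb p (n + 1)) ?_ ?_
    · intro T y
      exact gr_leI_exact K hbb hd p (n - 1) y (by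
        rw [leW_of_lt K hbb (n - 1) (by omega), Functor.map_zero, comp_zero])
    · intro T y _
      exact gr_leI_exact K hbb hd p n y (by
        rw [leW_of_lt K hbb n hn, Functor.map_zero, comp_zero])
  · refine quasiIsoAt_QB _ (n - 1) n b' (by omega) hbb (mono_gr_leI K hbb p n)
      (mono_gr_leI K hbb p b') ?_ ?_
    · intro T y
      exact gr_leI_exact K hbb hd p (n - 1) y (by
        rw [leW_of_lt K hbb (n - 1) (by omega), Functor.map_zero, comp_zero])
    · intro T y hy
      have hy' : y ≫ (FilD.grF A p).map (K.d n b') = 0 := hy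
      exact gr_leI_exact K hbb hd p n y (by
        rw [leW_of_le K n b' n le_rfl]
        exact (congrArg (fun t => y ≫ t) (Functor.map_comp _ _ _)).trans
          ((Category.assoc _ _ _).symm.trans (by rw [hy', zero_comp])))
  · rw [quasiIsoAt_iff_exactAt' _ n (hK p n hn)]
    exact HomologicalComplex.ExactAt.of_isZero
      ((FilD.grF A p).map_isZero (isZero_leX K hbb n hn))

end truncLE

/-- Truncation from above for complexes of finite filtered objects. -/
theorem exists_truncLE (K : CochainComplex (FilD.FilF A) ℤ) (b : ℤ)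
    (hK : ∀ (p n : ℤ), b < n → IsZero (((FilD.grCx p).obj K).homology n)) :
    ∃ (M : CochainComplex (FilD.FilF A) ℤ) (φ : M ⟶ K),
      M.IsStrictlyLE b ∧ FilD.IsFilteredQuasiIso φ := by
  have hex : ∀ p n : ℤ, b < n → ((FilD.grCx p).obj K).ExactAt n := fun p n hn => by
    rw [HomologicalComplex.exactAt_iff_isZero_homology]
    exact hK p n hn
  have hd : FilD.IsStrict (K.d b (b + 1)) :=
    isStrict_f_of_gr_exact (ShortComplex.mk (K.d b (b + 1)) (K.d (b + 1) (b + 2))
      (K.d_comp_d _ _ _)) (fun p => gr_sc_exact_of_exactAt K b (b + 1) (b + 2) rfl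
      (by omega) p (hex p (b + 1) (by omega)))
  exact ⟨leCx K rfl, leι K rfl, isStrictlyLE_leCx K rfl, leι_filteredQuasiIso K rfl hd hex⟩

end Groth.Agent.H2.FD
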