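import Groth.Agent.Lib.Helper2.FilD30

/-!
# Pushouts along strict monomorphisms of finite filtered objects
-/

universe v u

open CategoryTheory CategoryTheory.Limits Opposite

namespace Groth.Agent.H2.FD

variable {A : Type u} [Category.{v} A] [Abelian A]

lemma grF_map_comp' {X Y Z : FilD.FilF A} (f : X ⟶ Y) (g : Y ⟶ Z) (p : ℤ) :
    (FilD.grF A p).map (f ≫ g) = (FilD.grF A p).map f ≫ (FilD.grF A p).map g :=
  Functor.map_comp _ _ _

/-- If `u ≫ r` is a strict levelwise monomorphism, then `u` is strict. -/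
lemma isStrict_of_comp_strictMono {X Y Z : FilD.FilF A} (u : X ⟶ Y) (r : Y ⟶ Z)
    (hm : ∀ p, Mono (app (u ≫ r) p)) (hs : FilD.IsStrict (u ≫ r)) : FilD.IsStrict u := by
  apply isStrict_of_refine
  intro p q h T x y hxy
  obtain ⟨T', π, hπ, x', hx'⟩ := refine_of_isStrict hs h x (y ≫ app r q) (by
    rw [app_comp, ← Category.assoc, hxy, Category.assoc, Category.assoc, tr_app])
  refine ⟨T', π, hπ, x', ?_⟩
  haveI := hm p
  have h1 : x' ≫ tr X h = π ≫ x := by
    rw [← cancel_mono (app (u ≫ r) p), Category.assoc, tr_app, ← reassoc_of% hx',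
      Category.assoc, app_comp, ← tr_app r, ← reassoc_of% hxy]
  rw [← cancel_mono (tr Y h), Category.assoc, Category.assoc, ← tr_app, reassoc_of% h1, hxy]

lemma mono_app_of_comp {X Y Z : FilD.FilF A} (u : X ⟶ Y) (r : Y ⟶ Z)
    (hm : ∀ p, Mono (app (u ≫ r) p)) (p : ℤ) : Mono (app u p) := by
  haveI : Mono (app u p ≫ app r p) := hm p
  exact mono_of_mono (app u p) (app r p)

section pushout

variable {P I K' : FilD.FilF A} (j : P ⟶ I) (hjm : ∀ p, Mono (app j p)) (hjs : FilD.IsStrict j)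
  (e : P ⟶ K')

/-- The map `(j, -e) : P ⟶ I ⊞ K'`. -/
noncomputable def poU : P ⟶ I ⊞ K' := biprod.lift j (-e)

@[reassoc (attr := simp)]
lemma poU_fst : poU j e ≫ biprod.fst = j := biprod.lift_fst _ _

@[reassoc (attr := simp)]
lemma poU_snd : poU j e ≫ biprod.snd = -e := biprod.lift_snd _ _

include hjm in
lemma mono_app_poU (p : ℤ) : Mono (app (poU j e) p) :=
  mono_app_of_comp _ biprod.fst (fun p => by rw [poU_fst]; exact hjm p) p

include hjm hjs in
lemma poU_strict : FilD.IsStrict (poU j e) :=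
  isStrict_of_comp_strictMono _ biprod.fst (fun p => by rw [poU_fst]; exact hjm p)
    (by rw [poU_fst]; exact hjs)

/-- The pushout. -/
noncomputable def poP : FilD.FilF A := cokerF (poU j e) (poU_strict j hjm hjs e)

/-- The projection from the biproduct. -/
noncomputable def poπ : I ⊞ K' ⟶ poP j hjm hjs e := cokerπ (poU j e) (poU_strict j hjm hjs e)

instance : Epi (poπ j hjm hjs e) := epi_cokerπ _ _

instance (p : ℤ) : Epi (app (poπ j hjm hjs e) p) := epi_app_cokerπ _ _ p

@[reassoc (attr := simp)]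
lemma poU_poπ : poU j e ≫ poπ j hjm hjs e = 0 := comp_cokerπ _ _

/-- The first structure map of the pushout. -/
noncomputable def poS : I ⟶ poP j hjm hjs e := biprod.inl ≫ poπ j hjm hjs e

/-- The second structure map of the pushout. -/
noncomputable def poT : K' ⟶ poP j hjm hjs e := biprod.inr ≫ poπ j hjm hjs e

lemma po_comm : j ≫ poS j hjm hjs e = e ≫ poT j hjm hjs e := by
  have h := poU_poπ j hjm hjs e
  have h2 : poU j e = j ≫ biprod.inl - e ≫ biprod.inr := by
    apply biprod.hom_ext <;> simp [poU]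
  rw [h2, Preadditive.sub_comp, sub_eq_zero, Category.assoc, Category.assoc] at h
  exact h

/-- Descending from the pushout. -/
noncomputable def poDesc {W : FilD.FilF A} (f : I ⟶ W) (g : K' ⟶ W) (h : j ≫ f = e ≫ g) :
    poP j hjm hjs e ⟶ W :=
  cokerDesc (poU j e) (poU_strict j hjm hjs e) (biprod.desc f g) (by
    unfold poU
    rw [biprod.lift_desc, h, Preadditive.neg_comp, add_neg_cancel])

@[reassoc (attr := simp)]
lemma poS_desc {W : FilD.FilF A} (f : I ⟶ W) (g : K' ⟶ W) (h : j ≫ f = e ≫ g) :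
    poS j hjm hjs e ≫ poDesc j hjm hjs e f g h = f := by
  exact (Category.assoc _ _ _).trans ((congrArg (fun t => biprod.inl ≫ t)
    (cokerπ_desc _ _ _ _)).trans (biprod.inl_desc _ _))

@[reassoc (attr := simp)]
lemma poT_desc {W : FilD.FilF A} (f : I ⟶ W) (g : K' ⟶ W) (h : j ≫ f = e ≫ g) :
    poT j hjm hjs e ≫ poDesc j hjm hjs e f g h = g := by
  exact (Category.assoc _ _ _).trans ((congrArg (fun t => biprod.inr ≫ t)
    (cokerπ_desc _ _ _ _)).trans (biprod.inr_desc _ _))

lemma poπ_exact (p : ℤ) {T : A} (y : T ⟶ lv (I ⊞ K') p) (hy : y ≫ app (poπ j hjm hjs e) p = 0) :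
    ∃ (T' : A) (π : T' ⟶ T) (_ : Epi π) (z : T' ⟶ lv P p), π ≫ y = z ≫ app (poU j e) p :=
  cokerπ_exact _ _ p y hy

lemma app_inr_snd (p : ℤ) : app (biprod.inr : K' ⟶ I ⊞ K') p ≫ app biprod.snd p = 𝟙 _ := by
  rw [← app_comp, biprod.inr_snd, app_id]

lemma app_inr_fst (p : ℤ) : app (biprod.inr : K' ⟶ I ⊞ K') p ≫ app biprod.fst p = 0 := by
  rw [← app_comp, biprod.inr_fst, app_zero]

lemma mono_app_poT (p : ℤ) : Mono (app (poT j hjm hjs e) p) := by
  apply Preadditive.mono_of_cancel_zero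
  intro T k hk
  obtain ⟨T', ρ, hρ, z, hz⟩ := poπ_exact j hjm hjs e p (k ≫ app biprod.inr p) (by
    rw [Category.assoc, ← app_comp]
    exact hk)
  haveI := hjm p
  have hz0 : z = 0 := by
    rw [← cancel_mono (app j p), zero_comp]
    have := hz =≫ app biprod.fst p
    simp only [Category.assoc] at this
    rw [app_inr_fst, comp_zero, comp_zero, ← app_comp, poU_fst] at this
    exact this.symm
  rw [hz0, zero_comp] at hz
  have := hz =≫ app biprod.snd p
  simp only [Category.assoc] at this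
  rw [app_inr_snd, Category.comp_id, zero_comp] at this
  rw [← cancel_epi ρ, this, comp_zero]

lemma isStrict_poT : FilD.IsStrict (poT j hjm hjs e) := by
  apply isStrict_of_refine
  intro p q h T x y hxy
  obtain ⟨T1, ρ1, hρ1, y', hy'⟩ :=
    surjective_up_to_refinements_of_epi (app (poπ j hjm hjs e) q) y
  obtain ⟨T2, ρ2, hρ2, z, hz⟩ := poπ_exact j hjm hjs e p
    (ρ1 ≫ x ≫ app biprod.inr p - y' ≫ tr (I ⊞ K') h) (by
      rw [Preadditive.sub_comp, Category.assoc, Category.assoc, Category.assoc, tr_app,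
        ← reassoc_of% hy', ← hxy, ← app_comp]
      exact sub_self _)
  have hz1 : z ≫ app j p = (-(ρ2 ≫ y' ≫ app biprod.fst q)) ≫ tr I h := by
    have e1 : app (poU j e) p ≫ app biprod.fst p = app j p := by rw [← app_comp, poU_fst]
    rw [← e1, ← Category.assoc, ← hz]
    simp only [Category.assoc, Preadditive.sub_comp, Preadditive.comp_sub, Preadditive.neg_comp]
    rw [app_inr_fst, tr_app]
    simp
  obtain ⟨T3, ρ3, hρ3, z', hz'⟩ := refine_of_isStrict hjs h z _ hz1
  haveI := hjm p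
  have hz'' : z' ≫ tr P h = ρ3 ≫ z := by
    rw [← cancel_mono (app j p), Category.assoc, tr_app, ← reassoc_of% hz', Category.assoc, hz1]
  have hz2 : ρ2 ≫ ρ1 ≫ x = ρ2 ≫ y' ≫ app biprod.snd q ≫ tr K' h - z ≫ app e p := by
    have e1 : app (poU j e) p ≫ app biprod.snd p = -app e p := by
      rw [← app_comp, poU_snd]
      rfl
    have := hz =≫ app biprod.snd p
    simp only [Category.assoc, Preadditive.sub_comp, Preadditive.comp_sub] at this
    rw [app_inr_snd, Category.comp_id, e1, tr_app, Preadditive.comp_neg,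
      sub_eq_iff_eq_add] at this
    rw [this]
    abel
  have hX' : (ρ3 ≫ ρ2 ≫ y' ≫ app biprod.snd q - z' ≫ app e q) ≫ tr K' h =
      ρ3 ≫ ρ2 ≫ ρ1 ≫ x := by
    rw [hz2, Preadditive.sub_comp, Preadditive.comp_sub]
    simp only [Category.assoc]
    rw [← tr_app e, reassoc_of% hz'']
  refine ⟨T3, ρ3 ≫ ρ2 ≫ ρ1, inferInstance, ρ3 ≫ ρ2 ≫ y' ≫ app biprod.snd q - z' ≫ app e q, ?_⟩
  rw [← cancel_mono (tr (poP j hjm hjs e) h)]
  simp only [Category.assoc]
  rw [← hxy, ← tr_app, reassoc_of% hX']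

lemma mono_gr_poT (p : ℤ) : Mono ((FilD.grF A p).map (poT j hjm hjs e)) :=
  mono_gr_map_of_strict _ (mono_app_poT j hjm hjs e) (isStrict_poT j hjm hjs e) p

lemma gr_po_exact (p : ℤ) {T : A} (a : T ⟶ (FilD.grF A p).obj I) (b : T ⟶ (FilD.grF A p).obj K')
    (h : a ≫ (FilD.grF A p).map (poS j hjm hjs e) = b ≫ (FilD.grF A p).map (poT j hjm hjs e)) :
    ∃ (T' : A) (ρ : T' ⟶ T) (_ : Epi ρ) (w : T' ⟶ (FilD.grF A p).obj P),
      ρ ≫ a = w ≫ (FilD.grF A p).map j ∧ ρ ≫ b = w ≫ (FilD.grF A p).map e := by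
  obtain ⟨T', ρ, hρ, w, hw⟩ := gr_cokerπ_exact (poU j e) (poU_strict j hjm hjs e) p
    (a ≫ (FilD.grF A p).map biprod.inl - b ≫ (FilD.grF A p).map biprod.inr) (by
      rw [Preadditive.sub_comp, Category.assoc, Category.assoc, sub_eq_zero]
      rw [← grF_map_comp', ← grF_map_comp']
      exact h)
  refine ⟨T', ρ, hρ, w, ?_, ?_⟩
  · have := hw =≫ (FilD.grF A p).map biprod.fst
    simp only [Category.assoc, Preadditive.sub_comp, Preadditive.comp_sub] at this
    rw [← grF_map_comp', ← grF_map_comp', ← grF_map_comp', biprod.inl_fst, biprod.inr_fst,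
      poU_fst, CategoryTheory.Functor.map_id, Functor.map_zero, comp_zero, comp_zero, sub_zero,
      Category.comp_id] at this
    exact this
  · have := hw =≫ (FilD.grF A p).map biprod.snd
    simp only [Category.assoc, Preadditive.sub_comp, Preadditive.comp_sub] at this
    rw [← grF_map_comp', ← grF_map_comp', ← grF_map_comp', biprod.inl_snd, biprod.inr_snd,
      poU_snd, CategoryTheory.Functor.map_id, Functor.map_zero, comp_zero, comp_zero, zero_sub,
      Category.comp_id, Functor.map_neg, Preadditive.comp_neg, neg_inj] at this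
    exact this

lemma gr_po_surj (p : ℤ) {T : A} (w : T ⟶ (FilD.grF A p).obj (poP j hjm hjs e)) :
    ∃ (T' : A) (ρ : T' ⟶ T) (_ : Epi ρ) (a : T' ⟶ (FilD.grF A p).obj I)
      (b : T' ⟶ (FilD.grF A p).obj K'),
      ρ ≫ w = a ≫ (FilD.grF A p).map (poS j hjm hjs e) +
        b ≫ (FilD.grF A p).map (poT j hjm hjs e) := by
  haveI : Epi ((FilD.grF A p).map (poπ j hjm hjs e)) := epi_gr_cokerπ _ _ p
  obtain ⟨T', ρ, hρ, y, hy⟩ :=
    surjective_up_to_refinements_of_epi ((FilD.grF A p).map (poπ j hjm hjs e)) w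
  refine ⟨T', ρ, hρ, y ≫ (FilD.grF A p).map biprod.fst, y ≫ (FilD.grF A p).map biprod.snd, ?_⟩
  rw [hy]
  unfold poS poT
  rw [Category.assoc, Category.assoc, ← grF_map_comp', ← grF_map_comp', ← Preadditive.comp_add,
    ← Functor.map_add, ← Category.assoc, ← Category.assoc, ← Preadditive.add_comp, biprod.total,
    Category.id_comp]

end pushout

end Groth.Agent.H2.FD
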