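import Groth.Agent.Lib.Helper2.FilD31

/-!
# The inductive step in the construction of filtered injective resolutions of complexes
-/

universe v u

open CategoryTheory CategoryTheory.Limits Opposite

namespace Groth.Agent.H2.FD

open ZeroObject

variable {A : Type u} [Category.{v} A] [Abelian A]

section pushout

variable {P I K' : FilD.FilF A} (j : P ⟶ I) (hjm : ∀ p, Mono (app j p)) (hjs : FilD.IsStrict j)
  (e : P ⟶ K')

lemma po_hom_ext {W : FilD.FilF A} {f g : poP j hjm hjs e ⟶ W}
    (h1 : poS j hjm hjs e ≫ f = poS j hjm hjs e ≫ g)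
    (h2 : poT j hjm hjs e ≫ f = poT j hjm hjs e ≫ g) : f = g := by
  rw [← cancel_epi (poπ j hjm hjs e)]
  apply biprod.hom_ext'
  · rw [← Category.assoc, ← Category.assoc]
    exact h1
  · rw [← Category.assoc, ← Category.assoc]
    exact h2

end pushout

variable [EnoughInjectives A]

section stage

variable (K : CochainComplex (FilD.FilF A) ℤ)

/-- The data at the `n`-th stage of the construction. -/
structure StageData (n : ℤ) where
  /-- the pushout object -/
  P : FilD.FilF A
  /-- the previous filtered injective object -/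
  Iprev : FilD.FilF A
  /-- the map from the previous injective -/
  sprev : Iprev ⟶ P
  /-- the map from `Kⁿ` -/
  t : K.X n ⟶ P
  /-- the map to `Kⁿ⁺¹` -/
  e : P ⟶ K.X (n + 1)
  ed : e ≫ K.d (n + 1) (n + 1 + 1) = 0

/-- The initial stage. -/
noncomputable def StageData.init (n : ℤ) : StageData K n where
  P := K.X n
  Iprev := 0
  sprev := 0
  t := 𝟙 _
  e := K.d n (n + 1)
  ed := K.d_comp_d _ _ _

variable {K}

section

variable {n : ℤ} (s : StageData K n)

/-- The filtered injective object at this stage. -/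
noncomputable def StageData.I : FilD.FilF A := emb s.P

/-- The embedding into the filtered injective object. -/
noncomputable def StageData.j : s.P ⟶ s.I := embι s.P

lemma StageData.j_mono_app (p : ℤ) : Mono (app s.j p) := mono_app_of_mono (embι s.P) p

lemma StageData.j_strict : FilD.IsStrict s.j := embι_strict _

lemma StageData.I_inj : FilD.IsFilteredInjective s.I := emb_inj _

lemma StageData.mono_gr_j (p : ℤ) : Mono ((FilD.grF A p).map s.j) :=
  mono_gr_map_of_strict _ s.j_mono_app s.j_strict p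

/-- The next stage. -/
noncomputable def StageData.next : StageData K (n + 1) where
  P := poP s.j s.j_mono_app s.j_strict s.e
  Iprev := s.I
  sprev := poS s.j s.j_mono_app s.j_strict s.e
  t := poT s.j s.j_mono_app s.j_strict s.e
  e := poDesc s.j s.j_mono_app s.j_strict s.e (0 : s.I ⟶ K.X (n + 1 + 1)) (K.d (n + 1) (n + 1 + 1))
    (by rw [comp_zero, s.ed])
  ed := by
    apply po_hom_ext
    · rw [poS_desc_assoc, zero_comp, comp_zero]
    · rw [poT_desc_assoc, K.d_comp_d, comp_zero]

/-- The inductive properties. -/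
structure StageData.Good : Prop where
  te : s.t ≫ s.e = K.d n (n + 1)
  se : s.sprev ≫ s.e = 0
  t_mono : ∀ p, Mono (app s.t p)
  t_strict : FilD.IsStrict s.t
  S : ∀ (p : ℤ) {T : A} (w : T ⟶ (FilD.grF A p).obj s.P),
    ∃ (T' : A) (ρ : T' ⟶ T) (_ : Epi ρ) (i : T' ⟶ (FilD.grF A p).obj s.Iprev)
      (z : T' ⟶ (FilD.grF A p).obj (K.X n)),
      ρ ≫ w = i ≫ (FilD.grF A p).map s.sprev + z ≫ (FilD.grF A p).map s.t
  N : ∀ (p : ℤ) {T : A} (x : T ⟶ (FilD.grF A p).obj (K.X n))
    (y : T ⟶ (FilD.grF A p).obj s.Iprev),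
    x ≫ (FilD.grF A p).map s.t = y ≫ (FilD.grF A p).map s.sprev →
    ∃ (T' : A) (ρ : T' ⟶ T) (_ : Epi ρ) (m : ℤ) (z : T' ⟶ (FilD.grF A p).obj (K.X m)),
      ρ ≫ x = z ≫ (FilD.grF A p).map (K.d m n)

variable {s}

/-- The image of `gr e` is contained in the image of `gr d`. -/
lemma StageData.Good.R (hs : s.Good) (p : ℤ) {T : A} (w : T ⟶ (FilD.grF A p).obj s.P) :
    ∃ (T' : A) (ρ : T' ⟶ T) (_ : Epi ρ) (z : T' ⟶ (FilD.grF A p).obj (K.X n)),
      ρ ≫ w ≫ (FilD.grF A p).map s.e = z ≫ (FilD.grF A p).map (K.d n (n + 1)) := by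
  obtain ⟨T', ρ, hρ, i, z, h⟩ := hs.S p w
  refine ⟨T', ρ, hρ, z, ?_⟩
  rw [← Category.assoc, h, Preadditive.add_comp, Category.assoc, Category.assoc,
    ← grF_map_comp', ← grF_map_comp', hs.se, hs.te, Functor.map_zero, comp_zero, zero_add]

lemma StageData.Good.next (hs : s.Good) : s.next.Good where
  te := poT_desc s.j s.j_mono_app s.j_strict s.e (0 : s.I ⟶ K.X (n + 1 + 1))
    (K.d (n + 1) (n + 1 + 1)) (by rw [comp_zero, s.ed])
  se := poS_desc s.j s.j_mono_app s.j_strict s.e (0 : s.I ⟶ K.X (n + 1 + 1))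
    (K.d (n + 1) (n + 1 + 1)) (by rw [comp_zero, s.ed])
  t_mono := mono_app_poT _ _ _ _
  t_strict := isStrict_poT _ _ _ _
  S := fun p _ w => gr_po_surj s.j s.j_mono_app s.j_strict s.e p w
  N := by
    intro p T x y hxy
    obtain ⟨T1, ρ1, hρ1, w, _, hw2⟩ := gr_po_exact s.j s.j_mono_app s.j_strict s.e p y x hxy.symm
    obtain ⟨T2, ρ2, hρ2, z, hz⟩ := hs.R p w
    refine ⟨T2, ρ2 ≫ ρ1, inferInstance, n, z, ?_⟩
    rw [Category.assoc, hw2, hz]

end

lemma StageData.good_init (n : ℤ) : (StageData.init K n).Good where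
  te := Category.id_comp _
  se := zero_comp
  t_mono := fun p => by
    change Mono (𝟙 _)
    infer_instance
  t_strict := isStrict_id _
  S := fun p T w => ⟨T, 𝟙 T, inferInstance, 0, w, by
    rw [Category.id_comp, zero_comp, zero_add]
    exact ((congrArg (fun t => w ≫ t) ((FilD.grF A p).map_id _)).trans (Category.comp_id _)).symm⟩
  N := by
    intro p T x y hxy
    refine ⟨T, 𝟙 T, inferInstance, n, 0, ?_⟩
    have h1 : x ≫ (FilD.grF A p).map (𝟙 (K.X n)) = x :=
      (congrArg (fun t => x ≫ t) ((FilD.grF A p).map_id _)).trans (Category.comp_id _)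
    have h2 : y ≫ (FilD.grF A p).map (StageData.init K n).sprev = 0 :=
      (congrArg (fun t => y ≫ t) ((FilD.grF A p).map_zero _ _)).trans comp_zero
    rw [Category.id_comp, zero_comp, ← h1]
    exact hxy.trans h2

variable (K)

/-- The sequence of stages, starting in degree `0`. -/
noncomputable def stage : ∀ k : ℕ, StageData K (Int.ofNat k)
  | 0 => StageData.init K 0
  | k + 1 => (stage k).next

lemma stage_good : ∀ k : ℕ, (stage K k).Good
  | 0 => StageData.good_init 0
  | k + 1 => (stage_good k).next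

end stage

end Groth.Agent.H2.FD
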