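import Groth.Agent.Lib.Helper2.FilD32

/-!
# Filtered injective resolutions of complexes vanishing in negative degrees: construction
-/

universe v u

open CategoryTheory CategoryTheory.Limits Opposite

namespace Groth.Agent.H2.FD

open ZeroObject

variable {A : Type u} [Category.{v} A] [Abelian A]

/-- Composition of a strict morphism with a strict levelwise monomorphism is strict. -/
lemma isStrict_comp_strictMono {X Y Z : FilD.FilF A} (u : X ⟶ Y) (hu : FilD.IsStrict u)
    (m : Y ⟶ Z) (hmm : ∀ p, Mono (app m p)) (hms : FilD.IsStrict m) : FilD.IsStrict (u ≫ m) := by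
  apply isStrict_of_refine
  intro p q h T x z hxz
  obtain ⟨T1, ρ1, hρ1, y', hy'⟩ := refine_of_isStrict hms h (x ≫ app u p) z (by
    rw [Category.assoc, ← app_comp]
    exact hxz)
  haveI := hmm p
  have h1 : (ρ1 ≫ x) ≫ app u p = y' ≫ tr Y h := by
    rw [← cancel_mono (app m p), Category.assoc, Category.assoc, Category.assoc, ← app_comp,
      hxz, tr_app, ← reassoc_of% hy']
  obtain ⟨T2, ρ2, hρ2, x', hx'⟩ := refine_of_isStrict hu h (ρ1 ≫ x) y' h1
  refine ⟨T2, ρ2 ≫ ρ1, inferInstance, x', ?_⟩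
  rw [Category.assoc, hy', reassoc_of% hx', app_comp]

lemma mono_of_isZero_src {C : Type*} [Category C] {X Y : C} (hX : IsZero X) (f : X ⟶ Y) :
    Mono f := ⟨fun _ _ _ => hX.eq_of_tgt _ _⟩

variable [EnoughInjectives A]

section

variable (K : CochainComplex (FilD.FilF A) ℤ)

/-- The terms of the resolution. -/
noncomputable def rIZ : ℤ → FilD.FilF A
  | .ofNat k => (stage K k).I
  | .negSucc _ => 0

/-- The differentials of the resolution. -/
noncomputable def rdZ : ∀ n : ℤ, rIZ K n ⟶ rIZ K (n + 1)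
  | .ofNat k => (stage K (k + 1)).sprev ≫ (stage K (k + 1)).j
  | .negSucc _ => 0

/-- The components of the augmentation. -/
noncomputable def rφZ : ∀ n : ℤ, K.X n ⟶ rIZ K n
  | .ofNat k => (stage K k).t ≫ (stage K k).j
  | .negSucc _ => 0

lemma stage_comm (k : ℕ) :
    (stage K k).j ≫ (stage K (k + 1)).sprev = (stage K k).e ≫ (stage K (k + 1)).t :=
  po_comm _ _ _ _

lemma rdZ_comp (n : ℤ) : rdZ K n ≫ rdZ K (n + 1) = 0 := by
  cases n with
  | ofNat k =>
    change ((stage K (k + 1)).sprev ≫ (stage K (k + 1)).j) ≫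
      ((stage K (k + 1 + 1)).sprev ≫ (stage K (k + 1 + 1)).j) = 0
    rw [Category.assoc, ← Category.assoc (stage K (k + 1)).j, stage_comm K (k + 1),
      Category.assoc, ← Category.assoc, (stage_good K (k + 1)).se, zero_comp]
  | negSucc k => exact zero_comp

/-- The resolution. -/
noncomputable def rCx : CochainComplex (FilD.FilF A) ℤ :=
  CochainComplex.of (rIZ K) (rdZ K) (rdZ_comp K)

lemma rCx_d (n : ℤ) : (rCx K).d n (n + 1) = rdZ K n := by
  unfold rCx
  exact CochainComplex.of_d (rIZ K) (rdZ K) n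

lemma rCx_d_ofNat (k : ℕ) : (rCx K).d (Int.ofNat k) (Int.ofNat (k + 1)) =
    (stage K (k + 1)).sprev ≫ (stage K (k + 1)).j :=
  rCx_d K (Int.ofNat k)

instance : (rCx K).IsStrictlyGE 0 := by
  rw [CochainComplex.isStrictlyGE_iff]
  intro i hi
  obtain ⟨k, rfl⟩ : ∃ k, i = Int.negSucc k := ⟨(-i - 1).toNat, by
    rw [Int.negSucc_eq]; omega⟩
  exact isZero_zero (FilD.FilF A)

lemma rCx_inj (n : ℤ) : FilD.IsFilteredInjective ((rCx K).X n) := by
  cases n with
  | ofNat k => exact (stage K k).I_inj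
  | negSucc k => exact isFilteredInjective_of_isZero (isZero_zero (FilD.FilF A))

lemma rφZ_comm [K.IsStrictlyGE 0] (n : ℤ) :
    rφZ K n ≫ rdZ K n = K.d n (n + 1) ≫ rφZ K (n + 1) := by
  cases n with
  | ofNat k =>
    change ((stage K k).t ≫ (stage K k).j) ≫ ((stage K (k + 1)).sprev ≫ (stage K (k + 1)).j) =
      K.d (Int.ofNat k) (Int.ofNat k + 1) ≫ ((stage K (k + 1)).t ≫ (stage K (k + 1)).j)
    rw [Category.assoc, ← Category.assoc (stage K k).j, stage_comm K k, Category.assoc,
      ← Category.assoc, (stage_good K k).te]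
  | negSucc k =>
    exact (K.isZero_of_isStrictlyGE 0 (Int.negSucc k) (by
      rw [Int.negSucc_eq]; omega)).eq_of_src _ _

/-- The augmentation. -/
noncomputable def rφ [K.IsStrictlyGE 0] : K ⟶ rCx K where
  f n := rφZ K n
  comm' i j hij := by
    obtain rfl : i + 1 = j := hij
    rw [rCx_d]
    exact rφZ_comm K i

lemma rφ_mono_strict [K.IsStrictlyGE 0] (n : ℤ) :
    Mono ((rφ K).f n) ∧ FilD.IsStrict ((rφ K).f n) := by
  cases n with
  | ofNat k =>
    have hm : ∀ p, Mono (app ((stage K k).t ≫ (stage K k).j) p) := fun p => by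
      haveI := (stage_good K k).t_mono p
      haveI := (stage K k).j_mono_app p
      rw [app_comp]
      infer_instance
    exact ⟨mono_of_mono_app _ hm, isStrict_comp_strictMono _ (stage_good K k).t_strict _
      (stage K k).j_mono_app (stage K k).j_strict⟩
  | negSucc k =>
    exact ⟨mono_of_isZero_src (K.isZero_of_isStrictlyGE 0 (Int.negSucc k) (by
      rw [Int.negSucc_eq]; omega)) _, isStrict_zero _ _⟩

end

end Groth.Agent.H2.FD
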