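import Groth.Agent.Lib.Helper2.FilD33

/-!
# Filtered injective resolutions of complexes vanishing in negative degrees: quasi-isomorphism
-/

universe v u

open CategoryTheory CategoryTheory.Limits Opposite

namespace Groth.Agent.H2.FD

open ZeroObject

variable {A : Type u} [Category.{v} A] [Abelian A] [EnoughInjectives A]

section

variable (K : CochainComplex (FilD.FilF A) ℤ)

lemma gr_rCx_d_ofNat (k : ℕ) (p : ℤ) :
    (FilD.grF A p).map ((rCx K).d (Int.ofNat k) (Int.ofNat (k + 1))) =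
      (FilD.grF A p).map (stage K (k + 1)).sprev ≫ (FilD.grF A p).map (stage K (k + 1)).j :=
  (congrArg (fun t => (FilD.grF A p).map t) (rCx_d_ofNat K k)).trans (grF_map_comp' _ _ p)

lemma rCx_prev_L1 (k : ℕ) (m : ℤ) (hm : m + 1 = Int.ofNat k) (p : ℤ) {T : A}
    (y : T ⟶ (FilD.grF A p).obj ((rCx K).X m)) :
    ∃ i : T ⟶ (FilD.grF A p).obj (stage K k).Iprev,
      y ≫ (FilD.grF A p).map ((rCx K).d m (Int.ofNat k)) =
        i ≫ (FilD.grF A p).map (stage K k).sprev ≫ (FilD.grF A p).map (stage K k).j := by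
  cases k with
  | zero =>
    obtain rfl : m = Int.negSucc 0 := by
      rw [Int.negSucc_eq]
      simp only [Int.ofNat_eq_natCast] at hm
      omega
    have hy : y = 0 := ((FilD.grF A p).map_isZero (isZero_zero (FilD.FilF A))).eq_of_tgt _ _
    refine ⟨0, ?_⟩
    rw [hy, zero_comp, zero_comp]
    rfl
  | succ k' =>
    obtain rfl : m = Int.ofNat k' := by
      simp only [Int.ofNat_eq_natCast] at hm ⊢
      omega
    exact ⟨y, congrArg (fun t => y ≫ t) (gr_rCx_d_ofNat K k' p)⟩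

lemma rCx_prev_L2 (k : ℕ) (m : ℤ) (hm : m + 1 = Int.ofNat k) (p : ℤ) {T : A}
    (i : T ⟶ (FilD.grF A p).obj (stage K k).Iprev) :
    ∃ y : T ⟶ (FilD.grF A p).obj ((rCx K).X m),
      y ≫ (FilD.grF A p).map ((rCx K).d m (Int.ofNat k)) =
        i ≫ (FilD.grF A p).map (stage K k).sprev ≫ (FilD.grF A p).map (stage K k).j := by
  cases k with
  | zero =>
    have hi : i = 0 := ((FilD.grF A p).map_isZero (isZero_zero (FilD.FilF A))).eq_of_tgt _ _
    refine ⟨0, ?_⟩
    rw [hi, zero_comp, zero_comp]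
    rfl
  | succ k' =>
    obtain rfl : m = Int.ofNat k' := by
      simp only [Int.ofNat_eq_natCast] at hm ⊢
      omega
    exact ⟨i, congrArg (fun t => i ≫ t) (gr_rCx_d_ofNat K k' p)⟩

variable [K.IsStrictlyGE 0]

lemma gr_rφ_f_ofNat (k : ℕ) (p : ℤ) : (FilD.grF A p).map ((rφ K).f (Int.ofNat k)) =
    (FilD.grF A p).map (stage K k).t ≫ (FilD.grF A p).map (stage K k).j :=
  grF_map_comp' _ _ p

lemma rφ_mono_key (k : ℕ) (m : ℤ) (hm : m + 1 = Int.ofNat k) (p : ℤ) {T : A}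
    (x₂ : T ⟶ (FilD.grF A p).obj (K.X (Int.ofNat k)))
    (y₁ : T ⟶ (FilD.grF A p).obj ((rCx K).X m))
    (hy : x₂ ≫ (FilD.grF A p).map ((rφ K).f (Int.ofNat k)) =
      y₁ ≫ (FilD.grF A p).map ((rCx K).d m (Int.ofNat k))) :
    ∃ (T' : A) (π : T' ⟶ T) (_ : Epi π) (x₁ : T' ⟶ (FilD.grF A p).obj (K.X m)),
      π ≫ x₂ = x₁ ≫ (FilD.grF A p).map (K.d m (Int.ofNat k)) := by
  have hg := stage_good K k
  obtain ⟨i, hi⟩ := rCx_prev_L1 K k m hm p y₁
  have h1 : x₂ ≫ (FilD.grF A p).map (stage K k).t ≫ (FilD.grF A p).map (stage K k).j =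
      i ≫ (FilD.grF A p).map (stage K k).sprev ≫ (FilD.grF A p).map (stage K k).j :=
    (congrArg (fun t => x₂ ≫ t) (gr_rφ_f_ofNat K k p)).symm.trans (hy.trans hi)
  haveI := (stage K k).mono_gr_j p
  have h2 : x₂ ≫ (FilD.grF A p).map (stage K k).t = i ≫ (FilD.grF A p).map (stage K k).sprev := by
    rw [← cancel_mono ((FilD.grF A p).map (stage K k).j), Category.assoc, Category.assoc]
    exact h1
  obtain ⟨T', ρ, hρ, m', z, hz⟩ := hg.N p x₂ i h2
  by_cases hm' : m' + 1 = Int.ofNat k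
  · obtain rfl : m' = m := by omega
    exact ⟨T', ρ, hρ, z, hz⟩
  · refine ⟨T', ρ, hρ, 0, ?_⟩
    rw [K.shape m' (Int.ofNat k) hm', Functor.map_zero, comp_zero] at hz
    exact hz.trans zero_comp.symm

lemma rφ_epi_key (k : ℕ) (m : ℤ) (hm : m + 1 = Int.ofNat k) (p : ℤ) {T : A}
    (y₂ : T ⟶ (FilD.grF A p).obj ((rCx K).X (Int.ofNat k)))
    (hy₂ : y₂ ≫ (FilD.grF A p).map ((rCx K).d (Int.ofNat k) (Int.ofNat (k + 1))) = 0) :
    ∃ (T' : A) (π : T' ⟶ T) (_ : Epi π) (x₂ : T' ⟶ (FilD.grF A p).obj (K.X (Int.ofNat k)))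
      (_ : x₂ ≫ (FilD.grF A p).map (K.d (Int.ofNat k) (Int.ofNat (k + 1))) = 0)
      (y₁ : T' ⟶ (FilD.grF A p).obj ((rCx K).X m)),
      π ≫ y₂ = x₂ ≫ (FilD.grF A p).map ((rφ K).f (Int.ofNat k)) +
        y₁ ≫ (FilD.grF A p).map ((rCx K).d m (Int.ofNat k)) := by
  have hg := stage_good K k
  let y₂' : T ⟶ (FilD.grF A p).obj (stage K k).I := y₂
  have h1 : y₂' ≫ (FilD.grF A p).map (stage K (k + 1)).sprev ≫
      (FilD.grF A p).map (stage K (k + 1)).j = 0 :=
    (congrArg (fun t => y₂ ≫ t) (gr_rCx_d_ofNat K k p)).symm.trans hy₂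
  haveI := (stage K (k + 1)).mono_gr_j p
  have hy₃ : y₂' ≫ (FilD.grF A p).map (stage K (k + 1)).sprev = 0 := by
    rw [← cancel_mono ((FilD.grF A p).map (stage K (k + 1)).j), Category.assoc, zero_comp]
    exact h1
  obtain ⟨T1, ρ1, hρ1, w, hw1, hw2⟩ := gr_po_exact (stage K k).j (stage K k).j_mono_app
    (stage K k).j_strict (stage K k).e p y₂' 0 (hy₃.trans zero_comp.symm)
  rw [comp_zero] at hw2
  obtain ⟨T2, ρ2, hρ2, i, z, hiz⟩ := hg.S p w
  obtain ⟨y', hy'⟩ := rCx_prev_L2 K k m hm p i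
  have hzc : z ≫ (FilD.grF A p).map (K.d (Int.ofNat k) (Int.ofNat k + 1)) = 0 := by
    rw [← hg.te, grF_map_comp', ← Category.assoc]
    have : z ≫ (FilD.grF A p).map (stage K k).t =
        ρ2 ≫ w - i ≫ (FilD.grF A p).map (stage K k).sprev := by
      rw [hiz]
      abel
    rw [this, Preadditive.sub_comp, Category.assoc, Category.assoc, ← hw2, comp_zero,
      ← grF_map_comp', hg.se, Functor.map_zero, comp_zero, sub_zero]
  refine ⟨T2, ρ2 ≫ ρ1, inferInstance, z, hzc, y', ?_⟩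
  have e1 : (ρ2 ≫ ρ1) ≫ y₂' = z ≫ (FilD.grF A p).map (stage K k).t ≫
      (FilD.grF A p).map (stage K k).j + i ≫ (FilD.grF A p).map (stage K k).sprev ≫
      (FilD.grF A p).map (stage K k).j := by
    rw [Category.assoc, hw1, ← Category.assoc ρ2, hiz, Preadditive.add_comp, Category.assoc,
      Category.assoc, add_comm]
  have e2 : z ≫ (FilD.grF A p).map ((rφ K).f (Int.ofNat k)) =
      z ≫ (FilD.grF A p).map (stage K k).t ≫ (FilD.grF A p).map (stage K k).j :=
    congrArg (fun t => z ≫ t) (gr_rφ_f_ofNat K k p)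
  exact e1.trans (by rw [e2, hy']; rfl)

theorem rφ_filteredQuasiIso : FilD.IsFilteredQuasiIso (rφ K) := by
  intro p
  rw [quasiIso_iff]
  intro n
  cases n with
  | negSucc k =>
    have h1 : ((FilD.grCx p).obj K).ExactAt (Int.negSucc k) :=
      HomologicalComplex.ExactAt.of_isZero ((FilD.grF A p).map_isZero
        (K.isZero_of_isStrictlyGE 0 (Int.negSucc k) (by rw [Int.negSucc_eq]; omega)))
    rw [quasiIsoAt_iff_exactAt _ _ h1]
    exact HomologicalComplex.ExactAt.of_isZero ((FilD.grF A p).map_isZero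
      (isZero_zero (FilD.FilF A)))
  | ofNat k =>
    apply quasiIsoAt_of_mono_epi
    · rw [HomologicalComplex.mono_homologyMap_iff_up_to_refinements _ (Int.ofNat k - 1)
        (Int.ofNat k) (Int.ofNat (k + 1)) (by simp) (by simp)]
      intro T x₂ _ y₁ hy
      exact rφ_mono_key K k (Int.ofNat k - 1) (by omega) p x₂ y₁ hy
    · rw [HomologicalComplex.epi_homologyMap_iff_up_to_refinements _ (Int.ofNat k - 1)
        (Int.ofNat k) (Int.ofNat (k + 1)) (by simp) (by simp)]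
      intro T y₂ hy₂
      exact rφ_epi_key K k (Int.ofNat k - 1) (by omega) p y₂ hy₂

end

/-- Filtered injective resolutions for complexes vanishing in negative degrees. -/
theorem exists_resolution_ge_zero (K : CochainComplex (FilD.FilF A) ℤ) [K.IsStrictlyGE 0] :
    ∃ (I : CochainComplex (FilD.FilF A) ℤ) (φ : K ⟶ I), I.IsStrictlyGE 0 ∧
      (∀ n, FilD.IsFilteredInjective (I.X n)) ∧ FilD.IsFilteredQuasiIso φ ∧
      ∀ n, Mono (φ.f n) ∧ FilD.IsStrict (φ.f n) :=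
  ⟨rCx K, rφ K, inferInstance, rCx_inj K, rφ_filteredQuasiIso K, rφ_mono_strict K⟩

end Groth.Agent.H2.FD
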