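import Groth.Agent.Lib.Helper2.FilD34

/-!
# Reindexing cochain complexes; filtered injective resolutions of bounded below complexes
-/

universe v u

open CategoryTheory CategoryTheory.Limits Opposite

namespace Groth.Agent.H2.FD

section reidx

variable {C : Type*} [Category C] [HasZeroMorphisms C]

/-- Reindexing a cochain complex: `(reidx L a).X n = L.X (n + a)` (no signs). -/
def reidx (L : CochainComplex C ℤ) (a : ℤ) : CochainComplex C ℤ where
  X n := L.X (n + a)
  d i j := L.d (i + a) (j + a)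
  shape i j h := L.shape _ _ (by
    simp only [ComplexShape.up_Rel] at h ⊢
    omega)
  d_comp_d' i j k _ _ := L.d_comp_d _ _ _

/-- Reindexing a morphism. -/
def reidxMap {L M : CochainComplex C ℤ} (f : L ⟶ M) (a : ℤ) : reidx L a ⟶ reidx M a where
  f n := f.f (n + a)
  comm' i j _ := f.comm _ _

/-- Reindexing back and forth. -/
def reidxIso (K : CochainComplex C ℤ) (a : ℤ) : K ≅ reidx (reidx K a) (-a) :=
  HomologicalComplex.Hom.isoOfComponents
    (fun n => K.XIsoOfEq (show n = n + -a + a by omega)) (by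
      intro i j _
      dsimp [reidx]
      simp)

lemma reidxIso_hom_f (K : CochainComplex C ℤ) (a n : ℤ) :
    (reidxIso K a).hom.f n = (K.XIsoOfEq (show n = n + -a + a by omega)).hom := rfl

lemma isStrictlyGE_reidx [HasZeroObject C] (L : CochainComplex C ℤ) (a b c : ℤ) (h : b = c + a)
    [L.IsStrictlyGE b] : (reidx L a).IsStrictlyGE c := by
  rw [CochainComplex.isStrictlyGE_iff]
  intro i hi
  exact L.isZero_of_isStrictlyGE b (i + a) (by omega)

end reidx

section quasiIso

variable {D : Type*} [Category D] [Abelian D]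

lemma quasiIsoAt_reidxMap {L M : CochainComplex D ℤ} (f : L ⟶ M) (a n : ℤ)
    (h : QuasiIsoAt f (n + a)) : QuasiIsoAt (reidxMap f a) n := by
  rw [quasiIsoAt_iff' f (n - 1 + a) (n + a) (n + 1 + a) (by simp; omega) (by simp; omega)] at h
  rw [quasiIsoAt_iff' _ (n - 1) n (n + 1) (by simp) (by simp)]
  exact h

end quasiIso

variable {A : Type u} [Category.{v} A] [Abelian A]

lemma isFilteredQuasiIso_reidxMap {L M : CochainComplex (FilD.FilF A) ℤ} (f : L ⟶ M)
    (hf : FilD.IsFilteredQuasiIso f) (a : ℤ) : FilD.IsFilteredQuasiIso (reidxMap f a) := by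
  intro p
  rw [quasiIso_iff]
  intro n
  have h : QuasiIsoAt ((FilD.grCx p).map f) (n + a) := by
    have := hf p
    infer_instance
  rw [quasiIsoAt_iff' _ (n - 1 + a) (n + a) (n + 1 + a) (by simp; omega) (by simp; omega)] at h
  rw [quasiIsoAt_iff' _ (n - 1) n (n + 1) (by simp) (by simp)]
  exact h

lemma isFilteredQuasiIso_of_isIso {L M : CochainComplex (FilD.FilF A) ℤ} (f : L ⟶ M) [IsIso f] :
    FilD.IsFilteredQuasiIso f := by
  intro p
  infer_instance

lemma isFilteredQuasiIso_comp {L M N : CochainComplex (FilD.FilF A) ℤ} (f : L ⟶ M) (g : M ⟶ N)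
    (hf : FilD.IsFilteredQuasiIso f) (hg : FilD.IsFilteredQuasiIso g) :
    FilD.IsFilteredQuasiIso (f ≫ g) := by
  intro p
  have := hf p
  have := hg p
  rw [Functor.map_comp]
  infer_instance

lemma isStrict_iso_comp {X Y Z : FilD.FilF A} (e : X ⟶ Y) [IsIso e] (u : Y ⟶ Z)
    (hu : FilD.IsStrict u) : FilD.IsStrict (e ≫ u) :=
  isStrict_comp_of_epi_app e (fun p => epi_app_of_section e (inv e) (IsIso.inv_hom_id e) p) u hu

variable [EnoughInjectives A]

/-- Filtered injective resolutions of bounded below complexes of finite filtered objects. -/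
theorem exists_resolution_bounded_below (K : CochainComplex (FilD.FilF A) ℤ) (a : ℤ)
    [K.IsStrictlyGE a] :
    ∃ (I : CochainComplex (FilD.FilF A) ℤ) (a' : ℤ) (φ : K ⟶ I), I.IsStrictlyGE a' ∧
      (∀ n, FilD.IsFilteredInjective (I.X n)) ∧ FilD.IsFilteredQuasiIso φ ∧
      ∀ n, Mono (φ.f n) ∧ FilD.IsStrict (φ.f n) := by
  haveI : (reidx K a).IsStrictlyGE 0 := isStrictlyGE_reidx K a a 0 (by omega)
  obtain ⟨I₀, φ₀, hI₀, hinj, hqi, hms⟩ := exists_resolution_ge_zero (reidx K a)
  refine ⟨reidx I₀ (-a), a, (reidxIso K a).hom ≫ reidxMap φ₀ (-a),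
    isStrictlyGE_reidx I₀ (-a) 0 a (by omega), fun n => hinj (n + -a),
    isFilteredQuasiIso_comp _ _ (isFilteredQuasiIso_of_isIso _)
      (isFilteredQuasiIso_reidxMap φ₀ hqi (-a)), fun n => ?_⟩
  have e : ((reidxIso K a).hom ≫ reidxMap φ₀ (-a)).f n =
      (K.XIsoOfEq (show n = n + -a + a by omega)).hom ≫ φ₀.f (n + -a) := rfl
  rw [e]
  have h1 : Mono (φ₀.f (n + -a)) := (hms (n + -a)).1
  exact ⟨@mono_comp _ _ _ _ _ (K.XIsoOfEq (show n = n + -a + a by omega)).hom inferInstance
    (φ₀.f (n + -a)) h1, isStrict_iso_comp _ _ (hms (n + -a)).2⟩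

end Groth.Agent.H2.FD
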