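import Groth.Agent.Lib.Helper2.FilD3
import Mathlib.CategoryTheory.Limits.FunctorCategory.EpiMono

/-!
# Finite filtered objects: strictness via the kernel on graded pieces
-/

universe v u

open CategoryTheory CategoryTheory.Limits Opposite

namespace Groth.Agent.H2.FD

variable {A : Type u} [Category.{v} A] [Abelian A]

/-- The projection to the graded piece for an arbitrary functor. -/
noncomputable abbrev grπ' (F : ℤᵒᵖ ⥤ A) (p : ℤ) : F.obj (op p) ⟶ (FilD.gr A p).obj F :=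
  cokernel.π (F.map (FilD.stepHom p))

instance (F : ℤᵒᵖ ⥤ A) (p : ℤ) : Epi (grπ' F p) :=
  inferInstanceAs (Epi (cokernel.π (F.map (FilD.stepHom p))))

@[reassoc]
lemma grπ'_map {F G : ℤᵒᵖ ⥤ A} (φ : F ⟶ G) (p : ℤ) :
    grπ' F p ≫ (FilD.gr A p).map φ = φ.app (op p) ≫ grπ' G p := by
  simp [grπ', FilD.gr]

/-- Levelwise kernel lifting for the kernel in the functor category. -/
lemma kernel_lift_app {F G : ℤᵒᵖ ⥤ A} (φ : F ⟶ G) (p : ℤ) {T : A} (k : T ⟶ F.obj (op p))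
    (hk : k ≫ φ.app (op p) = 0) :
    ∃ k' : T ⟶ (kernel φ).obj (op p), k' ≫ (kernel.ι φ).app (op p) = k := by
  have h1 : (ShortComplex.mk (kernel.ι φ) φ (kernel.condition φ)).Exact :=
    ShortComplex.exact_of_f_is_kernel _ (kernelIsKernel φ)
  have h2 := h1.map ((evaluation ℤᵒᵖ A).obj (op p))
  haveI : Mono (kernel.ι φ) := inferInstance
  haveI : Mono ((kernel.ι φ).app (op p)) := (NatTrans.mono_iff_mono_app (kernel.ι φ)).1 inferInstance _
  haveI : Mono ((ShortComplex.mk (kernel.ι φ) φ (kernel.condition φ)).map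
      ((evaluation ℤᵒᵖ A).obj (op p))).f := by
    change Mono ((kernel.ι φ).app (op p))
    infer_instance
  exact ⟨h2.lift k hk, h2.lift_f k hk⟩

lemma kernel_ι_app_comp {F G : ℤᵒᵖ ⥤ A} (φ : F ⟶ G) (p : ℤ) :
    (kernel.ι φ).app (op p) ≫ φ.app (op p) = 0 := by
  rw [← NatTrans.comp_app, kernel.condition]
  rfl

lemma gr_kernel_exact_of_isStrict {X Y : FilD.FilF A} {φ : X ⟶ Y} (hφ : FilD.IsStrict φ) (p : ℤ)
    {T : A} (z : T ⟶ (FilD.grF A p).obj X) (hz : z ≫ (FilD.grF A p).map φ = 0) :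
    ∃ (T' : A) (π : T' ⟶ T) (_ : Epi π) (w : T' ⟶ (FilD.gr A p).obj (kernel φ.hom)),
      π ≫ z = w ≫ (FilD.gr A p).map (kernel.ι φ.hom) := by
  obtain ⟨T1, π1, hπ1, x, hx⟩ := surjective_up_to_refinements_of_epi (grπ X p) z
  obtain ⟨y, hy⟩ := gr_lift Y p (x ≫ app φ p) (by
    rw [Category.assoc, ← grπ_map, ← reassoc_of% hx, hz, comp_zero])
  obtain ⟨T2, π2, hπ2, x', hx'⟩ := refine_of_isStrict hφ (le_succ p) x y hy.symm
  obtain ⟨k, hk⟩ := kernel_lift_app φ.hom p (π2 ≫ x - x' ≫ tr X (le_succ p)) (by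
    change _ ≫ app φ p = 0
    rw [Preadditive.sub_comp, Category.assoc, Category.assoc, tr_app, ← reassoc_of% hx', hy,
      sub_self])
  refine ⟨T2, π2 ≫ π1, inferInstance, k ≫ grπ' (kernel φ.hom) p, ?_⟩
  simp only [Category.assoc]
  rw [grπ'_map, reassoc_of% hk, hx, Preadditive.sub_comp, Category.assoc, Category.assoc]
  change _ = π2 ≫ x ≫ grπ X p - x' ≫ tr X (le_succ p) ≫ grπ X p
  rw [tr_grπ, comp_zero, sub_zero]

lemma isStrict_of_gr_kernel_exact {X Y : FilD.FilF A} {φ : X ⟶ Y}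
    (H : ∀ (p : ℤ) {T : A} (z : T ⟶ (FilD.grF A p).obj X), z ≫ (FilD.grF A p).map φ = 0 →
      ∃ (T' : A) (π : T' ⟶ T) (_ : Epi π) (w : T' ⟶ (FilD.gr A p).obj (kernel φ.hom)),
        π ≫ z = w ≫ (FilD.gr A p).map (kernel.ι φ.hom)) : FilD.IsStrict φ := by
  apply isStrict_of_refine_step
  intro p T x y hxy
  obtain ⟨T1, π1, hπ1, w, hw⟩ := H p (x ≫ grπ X p) (by
    rw [Category.assoc, grπ_map, reassoc_of% hxy, tr_grπ, comp_zero])
  obtain ⟨T2, π2, hπ2, k, hk⟩ := surjective_up_to_refinements_of_epi (grπ' (kernel φ.hom) p) w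
  obtain ⟨x', hx'⟩ := gr_lift X p (π2 ≫ π1 ≫ x - k ≫ (kernel.ι φ.hom).app (op p)) (by
    rw [Preadditive.sub_comp, Category.assoc, Category.assoc, hw, reassoc_of% hk, Category.assoc]
    change _ - k ≫ (kernel.ι φ.hom).app (op p) ≫ grπ' X.obj p = 0
    rw [← grπ'_map, sub_self])
  refine ⟨T2, π2 ≫ π1, inferInstance, x', ?_⟩
  rw [← cancel_mono (tr Y (le_succ p))]
  simp only [Category.assoc]
  rw [← hxy, ← tr_app, reassoc_of% hx', Preadditive.sub_comp, Category.assoc, Category.assoc,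
    Category.assoc]
  change _ = _ - k ≫ (kernel.ι φ.hom).app (op p) ≫ φ.hom.app (op p)
  rw [kernel_ι_app_comp, comp_zero, sub_zero]

/-- The exactness criterion for strictness. -/
theorem isStrict_iff_gr_kernel_exact {X Y : FilD.FilF A} (φ : X ⟶ Y) :
    FilD.IsStrict φ ↔
      ∀ p : ℤ, ((ShortComplex.mk (kernel.ι φ.hom) φ.hom (kernel.condition φ.hom)).map
        (FilD.gr A p)).Exact := by
  constructor
  · intro hφ p
    rw [ShortComplex.exact_iff_exact_up_to_refinements]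
    intro T z hz
    exact gr_kernel_exact_of_isStrict hφ p z hz
  · intro H
    exact isStrict_of_gr_kernel_exact (fun p T z hz => (H p).exact_up_to_refinements z hz)

end Groth.Agent.H2.FD
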