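import Groth.Agent.Lib.Helper2.FilD4
import Mathlib.Algebra.Homology.ShortComplex.ShortExact
import Mathlib.CategoryTheory.Abelian.Images

/-!
# Finite filtered objects: levels of filtered injectives are injective; one-step extension
-/

universe v u

open CategoryTheory CategoryTheory.Limits Opposite

namespace Groth.Agent.H2.FD

variable {A : Type u} [Category.{v} A] [Abelian A]

/-- The middle term of a short exact sequence with injective ends is injective. -/
lemma injective_of_shortExact (S : ShortComplex A) (hS : S.ShortExact) [Injective S.X₁]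
    [Injective S.X₃] : Injective S.X₂ :=
  Injective.of_iso (hS.splittingOfInjective.isoBinaryBiproduct).symm inferInstance

/-- The short exact sequence `F (p+1) ⟶ F p ⟶ gr^p F`. -/
lemma shortExact_gr (X : FilD.FilF A) (p : ℤ) :
    (ShortComplex.mk (tr X (le_succ p)) (grπ X p) (tr_grπ X p)).ShortExact where
  exact := ShortComplex.exact_of_g_is_cokernel _ (cokernelIsCokernel _)
  mono_f := by dsimp; infer_instance
  epi_g := by dsimp; infer_instance

/-- All levels of a filtered injective object are injective. -/
lemma injective_lv {I : FilD.FilF A} (hI : FilD.IsFilteredInjective I) (p : ℤ) :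
    Injective (lv I p) := by
  obtain ⟨b, hb⟩ := exists_isTop I
  suffices ∀ (n : ℕ) (p : ℤ), b ≤ p + n → Injective (lv I p) from this (b - p).toNat p (by omega)
  intro n
  induction n with
  | zero =>
    intro p hp
    have hz : IsZero (lv I p) := hb p (by simpa using hp)
    exact ⟨fun {X Y} g f _ => ⟨0, hz.eq_of_tgt _ _⟩⟩
  | succ n ih =>
    intro p hp
    haveI : Injective (lv I (p + 1)) := ih (p + 1) (by push_cast at hp; omega)
    haveI : Injective ((FilD.grF A p).obj I) := hI p
    exact injective_of_shortExact _ (shortExact_gr I p)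

/-- Extension along a morphism killing the kernel, into an injective object. -/
lemma exists_extension {N M J : A} [Injective J] (s : N ⟶ M) (t : N ⟶ J)
    (h : ∀ ⦃T : A⦄ (n : T ⟶ N), n ≫ s = 0 → n ≫ t = 0) : ∃ g : M ⟶ J, s ≫ g = t := by
  have h0 : kernel.ι s ≫ t = 0 := h _ (kernel.condition s)
  refine ⟨Injective.factorThru (cokernel.desc (kernel.ι s) t h0) (Abelian.factorThruCoimage s), ?_⟩
  have e : s ≫ Injective.factorThru (cokernel.desc (kernel.ι s) t h0) (Abelian.factorThruCoimage s) =
      (Abelian.coimage.π s ≫ Abelian.factorThruCoimage s) ≫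
        Injective.factorThru (cokernel.desc (kernel.ι s) t h0) (Abelian.factorThruCoimage s) := by
    rw [Abelian.coimage.fac s]
  rw [e, Category.assoc, Injective.comp_factorThru]
  exact cokernel.π_desc _ _ _

/-- One-step extension. -/
lemma exists_step {X Y I : FilD.FilF A} (φ : X ⟶ Y) (hφ : FilD.IsStrict φ) (f : X ⟶ I)
    (hf : ∀ (p : ℤ) ⦃T : A⦄ (k : T ⟶ lv X p), k ≫ app φ p = 0 → k ≫ app f p = 0)
    (hI : FilD.IsFilteredInjective I) (p : ℤ) (g₁ : lv Y (p + 1) ⟶ lv I (p + 1))
    (hg₁ : app φ (p + 1) ≫ g₁ = app f (p + 1)) :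
    ∃ g : lv Y p ⟶ lv I p, tr Y (le_succ p) ≫ g = g₁ ≫ tr I (le_succ p) ∧
      app φ p ≫ g = app f p := by
  haveI := injective_lv hI p
  obtain ⟨g, hg⟩ := exists_extension
    (biprod.desc (tr Y (le_succ p)) (app φ p) : lv Y (p + 1) ⊞ lv X p ⟶ lv Y p)
    (biprod.desc (g₁ ≫ tr I (le_succ p)) (app f p)) (by
      intro T n hn
      have hn' : n = (n ≫ biprod.fst) ≫ biprod.inl + (n ≫ biprod.snd) ≫ biprod.inr := by
        rw [Category.assoc, Category.assoc, ← Preadditive.comp_add, biprod.total, Category.comp_id]
      generalize n ≫ biprod.fst = y at hn'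
      generalize n ≫ biprod.snd = x at hn'
      subst hn'
      simp only [Preadditive.add_comp, Category.assoc, biprod.inl_desc, biprod.inr_desc] at hn ⊢
      have hxy : x ≫ app φ p = (-y) ≫ tr Y (le_succ p) := by
        rw [Preadditive.neg_comp, eq_neg_iff_add_eq_zero, add_comm]
        exact hn
      obtain ⟨T', π, hπ, x', hx'⟩ := refine_of_isStrict hφ (le_succ p) x (-y) hxy
      have h1 : (π ≫ x - x' ≫ tr X (le_succ p)) ≫ app f p = 0 := by
        apply hf
        rw [Preadditive.sub_comp, Category.assoc, Category.assoc, tr_app, ← reassoc_of% hx',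
          hxy, sub_self]
      rw [← cancel_epi π, comp_zero, Preadditive.comp_add]
      rw [Preadditive.sub_comp, sub_eq_zero, Category.assoc, Category.assoc, tr_app, ← hg₁,
        Category.assoc, ← reassoc_of% hx'] at h1
      rw [h1]
      simp)
  refine ⟨g, ?_, ?_⟩
  · have := biprod.inl ≫= hg
    simpa using this
  · have := biprod.inr ≫= hg
    simpa using this

end Groth.Agent.H2.FD
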