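import Groth.Agent.Lib.Helper2.FilD5

/-!
# Finite filtered objects: filtered injectives are injective with respect to strict morphisms
-/

universe v u

open CategoryTheory CategoryTheory.Limits Opposite

namespace Groth.Agent.H2.FD

variable {A : Type u} [Category.{v} A] [Abelian A]

lemma homOfLE_op_comp {p q r : ℤ} (h : p ≤ q) (h' : q ≤ r) :
    ((homOfLE h').op : op r ⟶ op q) ≫ (homOfLE h).op = (homOfLE (h.trans h')).op :=
  Quiver.Hom.unop_inj (Subsingleton.elim _ _)

/-- A natural transformation between functors on `ℤᵒᵖ` from one-step naturality. -/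
lemma natTrans_of_step {F G : ℤᵒᵖ ⥤ A} (α : ∀ p : ℤ, F.obj (op p) ⟶ G.obj (op p))
    (h : ∀ p, F.map (FilD.stepHom p) ≫ α p = α (p + 1) ≫ G.map (FilD.stepHom p)) :
    ∃ τ : F ⟶ G, ∀ p, τ.app (op p) = α p := by
  have key : ∀ (n : ℕ) (p q : ℤ) (hpq : p ≤ q), q = p + n →
      F.map (homOfLE hpq).op ≫ α p = α q ≫ G.map (homOfLE hpq).op := by
    intro n
    induction n with
    | zero =>
      intro p q hpq hq
      have hq' : q = p := by simpa using hq
      subst hq'
      have : (homOfLE hpq).op = 𝟙 (op q) := rfl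
      rw [this, F.map_id, G.map_id, Category.id_comp, Category.comp_id]
    | succ n ih =>
      intro p q hpq hq
      obtain ⟨r, rfl⟩ : ∃ r, q = r + 1 := ⟨q - 1, by omega⟩
      have hpr : p ≤ r := by push_cast at hq; omega
      have e : (homOfLE hpq).op = FilD.stepHom r ≫ (homOfLE hpr).op :=
        Quiver.Hom.unop_inj (Subsingleton.elim _ _)
      rw [e, F.map_comp, G.map_comp, Category.assoc, ih p r hpr (by push_cast at hq; omega),
        reassoc_of% (h r)]
  refine ⟨{ app := fun x => α x.unop, naturality := ?_ }, fun p => rfl⟩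
  intro x y f
  have hf : f = (homOfLE (leOfHom f.unop)).op := Quiver.Hom.unop_inj (Subsingleton.elim _ _)
  rw [hf]
  exact key (x.unop - y.unop).toNat y.unop x.unop (leOfHom f.unop)
    (by have := leOfHom f.unop; omega)

/-- Filtered injective objects are injective with respect to strict morphisms (general form:
the map to extend has to kill the kernel). -/
theorem exists_ext {X Y I : FilD.FilF A} (φ : X ⟶ Y) (hφ : FilD.IsStrict φ) (f : X ⟶ I)
    (hf : ∀ (p : ℤ) ⦃T : A⦄ (k : T ⟶ lv X p), k ≫ app φ p = 0 → k ≫ app f p = 0)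
    (hI : FilD.IsFilteredInjective I) : ∃ g : Y ⟶ I, φ ≫ g = f := by
  obtain ⟨b₁, hb₁⟩ := exists_isTop X
  obtain ⟨b₂, hb₂⟩ := exists_isTop Y
  obtain ⟨a₁, ha₁⟩ := exists_isBot Y
  obtain ⟨a₂, ha₂⟩ := exists_isBot I
  obtain ⟨a₃, ha₃⟩ := exists_isBot X
  -- partial extensions
  have hP : ∀ (n : ℕ) (p : ℤ), max b₁ b₂ ≤ p + n → ∃ g : ∀ q : ℤ, lv Y q ⟶ lv I q,
      (∀ q, p ≤ q → app φ q ≫ g q = app f q) ∧
      (∀ q, p ≤ q → tr Y (le_succ q) ≫ g q = g (q + 1) ≫ tr I (le_succ q)) := by
    intro n
    induction n with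
    | zero =>
      intro p hp
      refine ⟨fun q => 0, fun q hq => ?_, fun q hq => ?_⟩
      · exact (hb₁ q (by simp at hp; omega)).eq_of_src _ _
      · exact (hb₂ (q + 1) (by simp at hp; omega)).eq_of_src _ _
    | succ n ih =>
      intro p hp
      obtain ⟨g, hg1, hg2⟩ := ih (p + 1) (by push_cast at hp; omega)
      obtain ⟨g₀, hg₀1, hg₀2⟩ := exists_step φ hφ f hf hI p (g (p + 1)) (hg1 _ le_rfl)
      refine ⟨Function.update g p g₀, fun q hq => ?_, fun q hq => ?_⟩
      · by_cases hqp : q = p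
        · subst hqp
          rw [Function.update_self]
          exact hg₀2
        · rw [Function.update_of_ne hqp]
          exact hg1 q (by omega)
      · by_cases hqp : q = p
        · subst hqp
          rw [Function.update_self, Function.update_of_ne (by omega)]
          exact hg₀1
        · rw [Function.update_of_ne hqp, Function.update_of_ne (by omega)]
          exact hg2 q (by omega)
  obtain ⟨a, hY, hI', hX⟩ : ∃ a, IsBot Y a ∧ IsBot I a ∧ IsBot X a :=
    ⟨min (min a₁ a₂) a₃, ha₁.mono ((min_le_left _ _).trans (min_le_left _ _)),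
      ha₂.mono ((min_le_left _ _).trans (min_le_right _ _)), ha₃.mono (min_le_right _ _)⟩
  obtain ⟨g, hg1, hg2⟩ := hP (max b₁ b₂ - a).toNat a (by omega)
  -- the extension below `a`
  let g' : ∀ q : ℤ, lv Y q ⟶ lv I q := fun q =>
    if h : q ≤ a then (haveI := hY h le_rfl; inv (tr Y h)) ≫ g a ≫ tr I h else g q
  have hg'a : g' a = g a := by
    simp only [g', dif_pos (le_refl a)]
    haveI := hY (le_refl a) le_rfl
    rw [tr_refl I a, Category.comp_id, IsIso.inv_comp_eq, tr_refl, Category.id_comp]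
  have hg'1 : ∀ q, a < q → g' q = g q := fun q hq => by
    simp only [g', dif_neg (not_le.2 hq)]
  have hstep : ∀ q, tr Y (le_succ q) ≫ g' q = g' (q + 1) ≫ tr I (le_succ q) := by
    intro q
    by_cases hq : q + 1 ≤ a
    · have hq' : q ≤ a := by omega
      simp only [g', dif_pos hq, dif_pos hq']
      haveI := hY hq' le_rfl
      haveI := hY hq le_rfl
      have e1 : tr Y (le_succ q) ≫ inv (tr Y hq') = inv (tr Y hq) := by
        rw [IsIso.comp_inv_eq, IsIso.eq_inv_comp, tr_comp]
      have e2 : tr I hq ≫ tr I (le_succ q) = tr I hq' := tr_comp _ _ _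
      simp only [Category.assoc]
      rw [reassoc_of% e1, e2]
    · by_cases hqa : q = a
      · subst hqa
        rw [hg'a, hg'1 _ (by omega)]
        exact hg2 _ le_rfl
      · rw [hg'1 q (by omega), hg'1 (q + 1) (by omega)]
        exact hg2 q (by omega)
  obtain ⟨τ, hτ⟩ := natTrans_of_step (F := Y.obj) (G := I.obj) g' hstep
  refine ⟨ObjectProperty.homMk τ, ?_⟩
  apply hom_ext'
  intro q
  change app φ q ≫ τ.app (op q) = app f q
  rw [hτ]
  by_cases hq : q ≤ a
  · haveI := hX hq le_rfl
    haveI := hY hq le_rfl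
    simp only [g', dif_pos hq]
    rw [← cancel_epi (tr X hq), tr_app_assoc, IsIso.hom_inv_id_assoc,
      reassoc_of% (hg1 a le_rfl), tr_app]
  · rw [hg'1 q (by omega)]
    exact hg1 q (by omega)

end Groth.Agent.H2.FD
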