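import Groth.Agent.Lib.Helper2.FilD6

/-!
# Finite filtered objects: kernels; monomorphisms are levelwise
-/

universe v u

open CategoryTheory CategoryTheory.Limits Opposite

namespace Groth.Agent.H2.FD

variable {A : Type u} [Category.{v} A] [Abelian A]

instance mono_kernel_ι_app {F G : ℤᵒᵖ ⥤ A} (φ : F ⟶ G) (x : ℤᵒᵖ) : Mono ((kernel.ι φ).app x) :=
  (NatTrans.mono_iff_mono_app (kernel.ι φ)).1 inferInstance _

/-- The levelwise kernel of a morphism of finite filtered objects is a finite filtered object. -/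
lemma isFinFil_kernel {X Y : FilD.FilF A} (φ : X ⟶ Y) : FilD.IsFinFil A (kernel φ.hom) := by
  have hmono : ∀ ⦃x y : ℤᵒᵖ⦄ (f : x ⟶ y), Mono ((kernel φ.hom).map f) := by
    intro x y f
    haveI : Mono (X.obj.map f) := X.property.1 f
    haveI : Mono ((kernel φ.hom).map f ≫ (kernel.ι φ.hom).app y) := by
      rw [(kernel.ι φ.hom).naturality f]
      infer_instance
    exact mono_of_mono ((kernel φ.hom).map f) ((kernel.ι φ.hom).app y)
  refine ⟨hmono, ?_, ?_⟩
  · obtain ⟨b, hb⟩ := exists_isTop X
    refine ⟨b, fun p hp => ?_⟩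
    rw [IsZero.iff_id_eq_zero, ← cancel_mono ((kernel.ι φ.hom).app (op p))]
    exact (hb p hp).eq_of_tgt _ _
  · obtain ⟨a₁, ha₁⟩ := exists_isBot X
    obtain ⟨a₂, ha₂⟩ := exists_isBot Y
    refine ⟨min a₁ a₂, fun x y f hx => ?_⟩
    have hf : f = (homOfLE (leOfHom f.unop)).op := Quiver.Hom.unop_inj (Subsingleton.elim _ _)
    have hle : y.unop ≤ x.unop := leOfHom f.unop
    haveI : IsIso (X.obj.map f) := by
      rw [hf]; exact ha₁ hle (hx.trans (min_le_left _ _))
    haveI : Mono (Y.obj.map f) := Y.property.1 f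
    haveI := hmono f
    haveI : Epi ((kernel φ.hom).map f) := by
      rw [epi_iff_surjective_up_to_refinements]
      intro T k
      obtain ⟨k', hk'⟩ := kernel_lift_app φ.hom x.unop
        (k ≫ (kernel.ι φ.hom).app y ≫ inv (X.obj.map f)) (by
          rw [← cancel_mono (Y.obj.map f)]
          simp only [Category.assoc, zero_comp]
          rw [← φ.hom.naturality f, IsIso.inv_hom_id_assoc]
          have := kernel_ι_app_comp φ.hom y.unop
          change (kernel.ι φ.hom).app y ≫ φ.hom.app y = 0 at this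
          rw [this, comp_zero])
      refine ⟨T, 𝟙 T, inferInstance, k', ?_⟩
      rw [Category.id_comp, ← cancel_mono ((kernel.ι φ.hom).app y), Category.assoc,
        (kernel.ι φ.hom).naturality f]
      change _ = k' ≫ (kernel.ι φ.hom).app (op x.unop) ≫ _
      rw [reassoc_of% hk']
      simp
    exact isIso_of_mono_of_epi _

/-- The kernel as a finite filtered object. -/
noncomputable def kerF {X Y : FilD.FilF A} (φ : X ⟶ Y) : FilD.FilF A :=
  ⟨kernel φ.hom, isFinFil_kernel φ⟩

/-- The inclusion of the kernel. -/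
noncomputable def kerι {X Y : FilD.FilF A} (φ : X ⟶ Y) : kerF φ ⟶ X :=
  ObjectProperty.homMk (kernel.ι φ.hom)

lemma kerι_comp {X Y : FilD.FilF A} (φ : X ⟶ Y) : kerι φ ≫ φ = 0 := by
  apply ObjectProperty.hom_ext
  exact kernel.condition φ.hom

/-- A monomorphism of finite filtered objects is a levelwise monomorphism. -/
lemma mono_app_of_mono {X Y : FilD.FilF A} (u : X ⟶ Y) [Mono u] (p : ℤ) : Mono (app u p) := by
  have h0 : kerι u = 0 := zero_of_comp_mono u (kerι_comp u)
  have h1 : kernel.ι u.hom = 0 := congrArg (fun f => f.hom) h0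
  apply Preadditive.mono_of_cancel_zero
  intro T k hk
  obtain ⟨k', hk'⟩ := kernel_lift_app u.hom p k hk
  rw [← hk', h1]
  simp

/-- A levelwise monomorphism is a monomorphism of finite filtered objects. -/
lemma mono_of_mono_app {X Y : FilD.FilF A} (u : X ⟶ Y) (h : ∀ p, Mono (app u p)) : Mono u := by
  haveI : Mono u.hom := (NatTrans.mono_iff_mono_app u.hom).2 (fun x => h x.unop)
  exact (FilD.IsFinFil A).ι.mono_of_mono_map (f := u) (by change Mono u.hom; infer_instance)

/-- Filtered injective objects are injective with respect to strict monomorphisms. -/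
theorem exists_ext_of_mono {X Y I : FilD.FilF A} (u : X ⟶ Y) [Mono u] (hu : FilD.IsStrict u)
    (hI : FilD.IsFilteredInjective I) (f : X ⟶ I) : ∃ g : Y ⟶ I, u ≫ g = f :=
  exists_ext u hu f (fun p T k hk => by
    haveI := mono_app_of_mono u p
    rw [zero_of_comp_mono _ hk, zero_comp]) hI

end Groth.Agent.H2.FD
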