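import Groth.Agent.Lib.Helper2.FilD8

/-!
# Morphisms from filtered acyclic complexes to bounded below filtered injective complexes
-/

universe v u

open CategoryTheory CategoryTheory.Limits Opposite

namespace Groth.Agent.H2.FD

variable {A : Type u} [Category.{v} A] [Abelian A]

lemma app_zero (X Y : FilD.FilF A) (p : ℤ) : app (0 : X ⟶ Y) p = 0 := rfl

/-- Exactness of graded pieces of the three-term pieces of a complex from exactness of `gr K`. -/
lemma gr_sc_exact_of_exactAt (K : CochainComplex (FilD.FilF A) ℤ) (i j k : ℤ) (hij : i + 1 = j)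
    (hjk : j + 1 = k) (p : ℤ) (h : ((FilD.grCx p).obj K).ExactAt j) :
    ((ShortComplex.mk (K.d i j) (K.d j k) (K.d_comp_d i j k)).map (FilD.grF A p)).Exact := by
  rw [HomologicalComplex.exactAt_iff' _ i j k (by simp; omega) (by simp; omega)] at h
  exact h

/-- Every morphism from a filtered acyclic complex to a bounded below complex of filtered
injectives is null-homotopic. -/
theorem nonempty_homotopy_zero (K I : CochainComplex (FilD.FilF A) ℤ)
    (hK : FilD.IsFilteredAcyclic K) (a : ℤ) [I.IsStrictlyGE a]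
    (hI : ∀ n, FilD.IsFilteredInjective (I.X n)) (φ : K ⟶ I) : Nonempty (Homotopy φ 0) := by
  apply nonempty_homotopy_zero_of_ext a φ
  intro n u hu
  have hS : ∀ p, ((ShortComplex.mk (K.d n (n + 1)) (K.d (n + 1) (n + 2))
      (K.d_comp_d _ _ _)).map (FilD.grF A p)).Exact :=
    fun p => gr_sc_exact_of_exactAt K n (n + 1) (n + 2) rfl (by omega) p (hK p (n + 1))
  refine exists_ext (K.d (n + 1) (n + 2)) (isStrict_g_of_gr_exact _ hS) u ?_ (hI (n + 1))
  intro p T k hk
  obtain ⟨T', π, hπ, x, hx⟩ := level_exact_of_gr_exact _ hS p k hk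
  dsimp at x hx
  rw [← cancel_epi π, comp_zero, reassoc_of% hx, ← app_comp, hu, app_zero, comp_zero]

end Groth.Agent.H2.FD
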