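import Mathlib
import Groth.Prelude.Def_PBC
import Groth.Agent.Lib.Helper2.FinBCC
import Groth.Agent.Lib.Helper2.PropIntG

set_option autoImplicit false
set_option linter.style.haveILetI false
set_option linter.unusedVariables false
open CategoryTheory CategoryTheory.Limits Opposite AlgebraicGeometry

namespace Groth.Agent.H2.FinBC
universe u

theorem S0161_main {X Y : Scheme.{u}} (f : X ⟶ Y) [IsFinite f] :
    EtPBC.CohCommutesWithBC f := by
  intro X' Y' f' g' g _ _ _ h F _ q
  haveI : IsFinite f' := isFinite_of_isPullback f g f' g' h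
  haveI := Groth.Agent.H2.PropInt.preservesFiniteLimits_push f
  haveI := Groth.Agent.H2.PropInt.preservesFiniteLimits_push f'
  rcases Nat.eq_zero_or_pos q with rfl | hq
  · haveI := S0621_main f g f' g' h F
    exact ⟨(EtCoh.pull g).mapIso ((EtCoh.push f).rightDerivedZeroIsoSelf.app F) ≪≫
      asIso (EtCoh.baseChange0 f g f' g' h.w F) ≪≫
      ((EtCoh.push f').rightDerivedZeroIsoSelf.app ((EtCoh.pull g').obj F)).symm⟩
  · have h1 : IsZero ((EtCoh.Rpush f q).obj F) :=
      Groth.Agent.H2.PropInt.isZero_Rpush_of_integral f F q hq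
    have h2 : IsZero ((EtCoh.Rpush f' q).obj ((EtCoh.pull g').obj F)) :=
      Groth.Agent.H2.PropInt.isZero_Rpush_of_integral f' _ q hq
    exact ⟨((EtCoh.pull g).map_isZero h1).iso h2⟩

end Groth.Agent.H2.FinBC
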