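import Mathlib
import Groth.Prelude.Def_EtBase
import Groth.Prelude.Def_EtShriek2
import Groth.Agent.Lib.Helper2.FinBCC
import Groth.Agent.Lib.Helper7.ST9
import Groth.Agent.Lib.Helper7.ST11
import Groth.Agent.Lib.Helper7.ES4

set_option autoImplicit false
set_option linter.style.haveILetI false
set_option linter.unusedVariables false
open CategoryTheory CategoryTheory.Limits Opposite AlgebraicGeometry

namespace Groth.Agent.H2.FinBC
universe u
open Groth.Agent.H2.FinStalk Groth.Agent.H7.ST Groth.Agent.H7.ES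

section Unique

variable {U X : Scheme.{u}} (j : U ⟶ X) [IsOpenImmersion j]

/-- Variant of helper7's `S652_main` where the vanishing of stalks is only needed at
algebraically closed geometric points. -/
theorem extZero_unique' [AlgebraicGeometry.Etale j] [EtShriek.JCont j] (F : EtCoh.Ab U)
    (G : EtCoh.Ab X) (hres : Nonempty ((EtShriek.restrAlong j).obj G ≅ F))
    (hzero : ∀ (Ω : Type u) [Field Ω] [IsAlgClosed Ω] (ξ : Spec (CommRingCat.of Ω) ⟶ X),
      Set.range ξ.base ⊆ (Set.range j.base)ᶜ → IsZero ((EtCoh.stalk ξ).obj G)) :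
    Nonempty (G ≅ (EtShriek.extZero j).obj F) := by
  obtain ⟨e⟩ := hres
  let c := (EtShriek.extZeroAdj j).counit.app G
  haveI : Mono c := mono_extZeroAdj_counit j G
  haveI : Epi c := by
    refine ab_epi_of_family (fun x : X => algξ X x) (iUnion_range_algξ X) _ ?_
    intro x
    rcases factors_or_disjoint j (algξ X x) with ⟨ζ, hζ⟩ | hd
    · rw [← hζ, ← AddCommGrpCat.epi_iff_surjective]
      let θ := stalkRestrIso j ζ
      have hsplit : (EtShriek.extZeroAdj j).unit.app ((EtShriek.restrAlong j).obj G) ≫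
          (EtShriek.restrAlong j).map c = 𝟙 _ :=
        (EtShriek.extZeroAdj j).right_triangle_components G
      haveI : Epi ((EtShriek.restrAlong j).map c) := (SplitEpi.mk _ hsplit).epi
      haveI : Epi ((EtShriek.restrAlong j ⋙ EtCoh.stalk ζ).map c) := by
        rw [Functor.comp_map]
        infer_instance
      have nat := θ.hom.naturality c
      have h : (EtCoh.stalk (ζ ≫ j)).map c =
          θ.inv.app _ ≫ (EtShriek.restrAlong j ⋙ EtCoh.stalk ζ).map c ≫ θ.hom.app _ := by
        rw [nat]
        exact (Iso.inv_hom_id_app_assoc θ _ _).symm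
      rw [h]
      infer_instance
    · intro y
      haveI : Subsingleton ((EtCoh.stalk (algξ X x)).obj G) :=
        AddCommGrpCat.subsingleton_of_isZero (hzero _ (algξ X x) hd)
      exact ⟨0, Subsingleton.elim (α := (EtCoh.stalk (algξ X x)).obj G) _ _⟩
  haveI : IsIso c := isIso_of_mono_of_epi c
  exact ⟨(asIso c).symm ≪≫ (EtShriek.extZero j).mapIso e⟩

end Unique

section Main

variable {U X V Y : Scheme.{u}} (f : X ⟶ Y) [IsFinite f] (j : V ⟶ Y)
    [IsOpenImmersion j] [AlgebraicGeometry.Etale j] [EtShriek.JCont j] (j' : U ⟶ X)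
    [IsOpenImmersion j'] [AlgebraicGeometry.Etale j'] [EtShriek.JCont j'] (g : U ⟶ V)
    (h : IsPullback j' g f j)

lemma isZero_sigma_of_isEmpty {C : Type*} [Category C] [HasZeroMorphisms C] {ι : Type*}
    [IsEmpty ι] (Z : ι → C) [HasCoproduct Z] : IsZero (∐ Z) := by
  rw [IsZero.iff_id_eq_zero]
  apply Sigma.hom_ext
  intro b
  exact isEmptyElim b

include h in
/-- Stalks of `f_* j'_! F` vanish outside `V`. -/
theorem isZero_stalk_push_extZero (F : EtCoh.Ab U) {Ω : Type u} [Field Ω] [IsAlgClosed Ω]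
    (η : Spec (CommRingCat.of Ω) ⟶ Y) (hη : Set.range η.base ⊆ (Set.range j.base)ᶜ) :
    IsZero ((EtCoh.stalk η).obj ((EtCoh.push f).obj ((EtShriek.extZero j').obj F))) := by
  have hsub : ∀ (ξ : Spec (CommRingCat.of Ω) ⟶ X), ξ ≫ f = η →
      Subsingleton (ToType ((EtCoh.stalk ξ).obj ((EtShriek.extZero j').obj F))) := by
    intro ξ hξ
    obtain ⟨e⟩ := S647_main j' ξ F
    haveI : IsEmpty {u : Spec (CommRingCat.of Ω) ⟶ U // u ≫ j' = ξ} := by
      constructor
      rintro ⟨u, hu⟩
      have h1 : η = (u ≫ g) ≫ j := by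
        rw [Category.assoc, ← h.w, ← Category.assoc, hu, hξ]
      have h2 : η.base default ∈ Set.range j.base := by
        rw [h1]
        exact ⟨(u ≫ g).base default, by rw [Scheme.Hom.comp_base]; rfl⟩
      exact hη ⟨default, rfl⟩ h2
    exact AddCommGrpCat.subsingleton_of_isZero ((isZero_sigma_of_isEmpty _).of_iso e)
  rw [IsZero.iff_id_eq_zero]
  ext z
  have hz : z = 0 := proj_injective f _ η z (fun ξ hξ => by
    haveI := hsub ξ hξ
    exact Subsingleton.elim _ _)
  rw [hz]
  simp

include h in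
/-- restriction of `f_* j'_! F` to `V` is `g_* F`. -/
theorem nonempty_restr_push_extZero_iso (F : EtCoh.Ab U) :
    Nonempty ((EtShriek.restrAlong j).obj ((EtCoh.push f).obj ((EtShriek.extZero j').obj F)) ≅
      (EtCoh.push g).obj F) := by
  haveI := S0621_main f j g j' h ((EtShriek.extZero j').obj F)
  haveI := isIso_extZeroAdj_unit j' F
  exact ⟨((pullIsoRestr j).app _).symm ≪≫
    asIso (EtCoh.baseChange0 f j g j' h.w ((EtShriek.extZero j').obj F)) ≪≫
    (EtCoh.push g).mapIso ((pullIsoRestr j').app _ ≪≫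
      (asIso ((EtShriek.extZeroAdj j').unit.app F)).symm)⟩

include h in
theorem S0653_main (F : EtCoh.Ab U) :
    Nonempty ((EtCoh.push f).obj ((EtShriek.extZero j').obj F) ≅
      (EtShriek.extZero j).obj ((EtCoh.push g).obj F)) :=
  extZero_unique' j ((EtCoh.push g).obj F) _ (nonempty_restr_push_extZero_iso f j j' g h F)
    (fun Ω _ _ η hη => isZero_stalk_push_extZero f j j' g h F η hη)

end Main

end Groth.Agent.H2.FinBC
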