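import Mathlib
import Groth.Prelude.Def_CAlg
import Groth.Agent.Lib.Helper6.DepthKit
import Groth.Agent.Lib.Helper2.FinDD4

/-! Cohen–Macaulayness of a `B`-module finite over a local ring `A` via the primes of `B` over
the maximal ideal. -/

universe u

namespace Groth.Agent.H2.FinDD

open Groth.Agent.H6

theorem cm_iff_abstract {ι : Type*} (S : Set ι) (hS : S.Nonempty) (dim : ι → WithBot ℕ∞)
    (dep : ι → ℕ∞) (hle : ∀ q ∈ S, ((dep q : ℕ∞) : WithBot ℕ∞) ≤ dim q) :
    (⨆ q ∈ S, dim q) = (((⨅ q ∈ S, dep q : ℕ∞)) : WithBot ℕ∞) ↔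
      (∀ q ∈ S, dim q = ((dep q : ℕ∞) : WithBot ℕ∞)) ∧ (∀ q ∈ S, ∀ q' ∈ S, dim q = dim q') := by
  constructor
  · intro h
    have key : ∀ q ∈ S, dim q = (⨆ q ∈ S, dim q) ∧ dim q = ((dep q : ℕ∞) : WithBot ℕ∞) := by
      intro q hq
      have h1 : dim q ≤ ⨆ q ∈ S, dim q := le_iSup₂ (f := fun q _ => dim q) q hq
      have h2 : (((⨅ q ∈ S, dep q : ℕ∞)) : WithBot ℕ∞) ≤ ((dep q : ℕ∞) : WithBot ℕ∞) :=
        WithBot.coe_le_coe.mpr (iInf₂_le (f := fun q _ => dep q) q hq)
      have h3 := hle q hq
      rw [← h] at h2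
      exact ⟨le_antisymm h1 (h2.trans h3), le_antisymm ((h1.trans h2)) h3⟩
    refine ⟨fun q hq => (key q hq).2, fun q hq q' hq' => ?_⟩
    rw [(key q hq).1, (key q' hq').1]
  · rintro ⟨h1, h2⟩
    obtain ⟨q0, hq0⟩ := hS
    have hsup : (⨆ q ∈ S, dim q) = dim q0 :=
      le_antisymm (iSup₂_le fun q hq => (h2 q hq q0 hq0).le)
        (le_iSup₂ (f := fun q _ => dim q) q0 hq0)
    have hdep : ∀ q ∈ S, dep q = dep q0 := by
      intro q hq
      apply WithBot.coe_injective
      rw [← h1 q hq, ← h1 q0 hq0]
      exact h2 q hq q0 hq0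
    have hinf : (⨅ q ∈ S, dep q) = dep q0 :=
      le_antisymm (iInf₂_le (f := fun q _ => dep q) q0 hq0)
        (le_iInf₂ fun q hq => (hdep q hq).ge)
    rw [hsup, hinf]
    exact h1 q0 hq0

section Local

variable {A B : Type u} [CommRing A] [CommRing B] [IsNoetherianRing A] [IsLocalRing A]
  [IsNoetherianRing B] [Algebra A B]
  (M : Type u) [AddCommGroup M] [Module B M] [Module A M] [IsScalarTower A B M] [Module.Finite A M]

theorem cm_iff [Nontrivial M] :
    LocCoh.IsCohenMacaulayModule A M ↔
      (∀ q ∈ {q : PrimeSpectrum B | q.asIdeal.comap (algebraMap A B) = IsLocalRing.maximalIdeal A ∧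
          q ∈ Module.support B M},
        LocCoh.IsCohenMacaulayModule (Localization.AtPrime q.asIdeal)
          (LocalizedModule q.asIdeal.primeCompl M)) ∧
      (∀ q ∈ {q : PrimeSpectrum B | q.asIdeal.comap (algebraMap A B) = IsLocalRing.maximalIdeal A ∧
          q ∈ Module.support B M},
        ∀ q' ∈ {q : PrimeSpectrum B | q.asIdeal.comap (algebraMap A B) =
            IsLocalRing.maximalIdeal A ∧ q ∈ Module.support B M},
          Module.supportDim (Localization.AtPrime q.asIdeal)
              (LocalizedModule q.asIdeal.primeCompl M) =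
            Module.supportDim (Localization.AtPrime q'.asIdeal)
              (LocalizedModule q'.asIdeal.primeCompl M)) := by
  haveI : Module.Finite B M := Module.Finite.of_restrictScalars_finite A B M
  unfold LocCoh.IsCohenMacaulayModule
  rw [dim_local (A := A) (B := B) M, depth_local (A := A) (B := B) M]
  apply cm_iff_abstract
  · by_contra hne
    rw [Set.not_nonempty_iff_eq_empty] at hne
    have h1 := dim_local (A := A) (B := B) M
    rw [hne] at h1
    simp only [Set.mem_empty_iff_false, not_false_eq_true, iSup_neg, iSup_bot] at h1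
    rw [Module.supportDim_eq_bot_iff_subsingleton] at h1
    exact not_subsingleton M h1
  · intro q hq
    haveI := q.2
    haveI : IsNoetherianRing (Localization.AtPrime q.asIdeal) :=
      IsLocalization.isNoetherianRing q.asIdeal.primeCompl _ inferInstance
    haveI : Module.Finite (Localization.AtPrime q.asIdeal)
        (LocalizedModule q.asIdeal.primeCompl M) :=
      Module.Finite.of_isLocalizedModule q.asIdeal.primeCompl
        (LocalizedModule.mkLinearMap q.asIdeal.primeCompl M)
    haveI : Nontrivial (LocalizedModule q.asIdeal.primeCompl M) :=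
      Module.mem_support_iff.mp hq.2
    obtain ⟨d, hd1, hd2⟩ := Depth.exists_depth_eq (R := Localization.AtPrime q.asIdeal)
      (LocalizedModule q.asIdeal.primeCompl M)
    rw [hd1]
    exact hd2

end Local

end Groth.Agent.H2.FinDD
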