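import Mathlib
import Groth.Prelude.Def_CAlg
import Groth.Agent.Lib.Helper2.FinDD4

/-! Serre's condition `(S_k)` for a `B`-module finite over `A`: ascent and descent. -/

universe u

namespace Groth.Agent.H2.FinDD

open Groth.Agent.H6

theorem le_coe_iInf₂ {ι : Type*} (S : Set ι) (dep : ι → ℕ∞) (x : WithBot ℕ∞)
    (h : ∀ q ∈ S, x ≤ ((dep q : ℕ∞) : WithBot ℕ∞)) :
    x ≤ (((⨅ q ∈ S, dep q : ℕ∞)) : WithBot ℕ∞) := by
  induction x using WithBot.recBotCoe with
  | bot => exact bot_le
  | coe y =>
    exact WithBot.coe_le_coe.mpr (le_iInf₂ fun q hq => WithBot.coe_le_coe.mp (h q hq))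

section Sk

variable {A B : Type u} [CommRing A] [CommRing B] [IsNoetherianRing A] [IsNoetherianRing B]
  [Algebra A B]
  (M : Type u) [AddCommGroup M] [Module B M] [Module A M] [IsScalarTower A B M] [Module.Finite A M]

theorem hasSk_ascent (k : ℕ) (h : LocCoh.HasSk k A M) : LocCoh.HasSk k B M := by
  intro q hq
  by_cases hqs : (⟨q, hq⟩ : PrimeSpectrum B) ∈ Module.support B M
  · haveI hp : (q.comap (algebraMap A B)).IsPrime := Ideal.comap_isPrime _ _
    obtain ⟨hD, hE⟩ := dim_depth (A := A) (B := B) M (q.comap (algebraMap A B))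
    have hmem : (⟨q, hq⟩ : PrimeSpectrum B) ∈ {q' : PrimeSpectrum B |
        q'.asIdeal.comap (algebraMap A B) = q.comap (algebraMap A B) ∧
          q' ∈ Module.support B M} := ⟨rfl, hqs⟩
    have h1 : Module.supportDim (Localization.AtPrime q) (LocalizedModule q.primeCompl M) ≤
        Module.supportDim (Localization.AtPrime (q.comap (algebraMap A B)))
          (LocalizedModule (q.comap (algebraMap A B)).primeCompl M) := by
      rw [hD]
      exact le_iSup₂ (f := fun (q' : PrimeSpectrum B) _ =>
        Module.supportDim (Localization.AtPrime q'.asIdeal)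
          (LocalizedModule q'.asIdeal.primeCompl M)) ⟨q, hq⟩ hmem
    have h2 : LocCoh.depth (Localization.AtPrime (q.comap (algebraMap A B)))
          (LocalizedModule (q.comap (algebraMap A B)).primeCompl M) ≤
        LocCoh.depth (Localization.AtPrime q) (LocalizedModule q.primeCompl M) := by
      rw [hE]
      exact iInf₂_le (f := fun (q' : PrimeSpectrum B) _ =>
        LocCoh.depth (Localization.AtPrime q'.asIdeal)
          (LocalizedModule q'.asIdeal.primeCompl M)) ⟨q, hq⟩ hmem
    have h3 := h (q.comap (algebraMap A B))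
    exact (min_le_min_left _ h1).trans (h3.trans (WithBot.coe_le_coe.mpr h2))
  · rw [Module.notMem_support_iff] at hqs
    have : Module.supportDim (Localization.AtPrime q) (LocalizedModule q.primeCompl M) = ⊥ :=
      Module.supportDim_eq_bot_of_subsingleton _ _
    rw [this, min_eq_right bot_le]
    exact bot_le

theorem hasSk_descent (k : ℕ)
    (hdim : ∀ q ∈ Module.support B M, ∀ q' ∈ Module.support B M,
      q.asIdeal.comap (algebraMap A B) = q'.asIdeal.comap (algebraMap A B) →
        Module.supportDim (Localization.AtPrime q.asIdeal)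
            (LocalizedModule q.asIdeal.primeCompl M) =
          Module.supportDim (Localization.AtPrime q'.asIdeal)
            (LocalizedModule q'.asIdeal.primeCompl M))
    (h : LocCoh.HasSk k B M) : LocCoh.HasSk k A M := by
  intro p hp
  obtain ⟨hD, hE⟩ := dim_depth (A := A) (B := B) M p
  rw [hE]
  apply le_coe_iInf₂
  intro q hq
  haveI := q.2
  have h1 : Module.supportDim (Localization.AtPrime p) (LocalizedModule p.primeCompl M) =
      Module.supportDim (Localization.AtPrime q.asIdeal)
        (LocalizedModule q.asIdeal.primeCompl M) := by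
    rw [hD]
    apply le_antisymm
    · apply iSup₂_le
      intro q' hq'
      exact (hdim q' hq'.2 q hq.2 (hq'.1.trans hq.1.symm)).le
    · exact le_iSup₂ (f := fun (q' : PrimeSpectrum B) _ =>
        Module.supportDim (Localization.AtPrime q'.asIdeal)
          (LocalizedModule q'.asIdeal.primeCompl M)) q hq
  rw [h1]
  exact h q.asIdeal

end Sk

end Groth.Agent.H2.FinDD
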