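import Mathlib

/-! A recursion principle building free resolutions in matrix form, with invariants. -/

universe u v

namespace Groth.Agent.H2.ResRec

variable {R : Type u} [CommRing R]

/-- A stage: a free module with basis degrees and a submodule still to be covered. -/
structure Stage (R : Type u) [CommRing R] where
  /-- rank -/
  n : ℕ
  /-- degrees -/
  e : Fin n → ℤ
  /-- the submodule to be covered -/
  K : Submodule R (Fin n → R)

variable (Inv : Stage R → Prop)
  (Good : (n : ℕ) → (Fin n → ℤ) → (m : ℕ) → (Fin m → ℤ) → Matrix (Fin n) (Fin m) R → Prop)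

/-- The data produced by one step. -/
structure Next (s : Stage R) where
  /-- new rank -/
  m : ℕ
  /-- new degrees -/
  e' : Fin m → ℤ
  /-- the matrix -/
  D : Matrix (Fin s.n) (Fin m) R
  range_eq : LinearMap.range (Matrix.mulVecLin D) = s.K
  good : Good s.n s.e m e' D
  inv : Inv ⟨m, e', LinearMap.ker (Matrix.mulVecLin D)⟩

variable {Inv Good}

/-- The next stage. -/
def Next.stage {s : Stage R} (x : Next Inv Good s) : {s : Stage R // Inv s} :=
  ⟨⟨x.m, x.e', LinearMap.ker (Matrix.mulVecLin x.D)⟩, x.inv⟩

variable (step : ∀ s : Stage R, Inv s → Nonempty (Next Inv Good s))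

/-- The chosen step. -/
noncomputable def next (s : {s : Stage R // Inv s}) : Next Inv Good s.1 :=
  Classical.choice (step s.1 s.2)

/-- The sequence of stages. -/
noncomputable def seq (s0 : {s : Stage R // Inv s}) : ℕ → {s : Stage R // Inv s}
  | 0 => s0
  | i + 1 => (next step (seq s0 i)).stage

include step in
/-- The recursion principle. -/
theorem exists_resolution {M : Type v} [AddCommGroup M] [Module R M]
    (P0 : (n : ℕ) → (Fin n → ℤ) → (Fin n → M) → Prop)
    (n0 : ℕ) (e0 : Fin n0 → ℤ) (aug0 : Fin n0 → M) (h0 : P0 n0 e0 aug0)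
    (hInv : Inv ⟨n0, e0, LinearMap.ker (Fintype.linearCombination R aug0)⟩) :
    ∃ (rk : ℕ → ℕ) (deg : (i : ℕ) → Fin (rk i) → ℤ)
      (d : (i : ℕ) → Matrix (Fin (rk i)) (Fin (rk (i + 1))) R) (aug : Fin (rk 0) → M),
      P0 (rk 0) (deg 0) aug ∧
      LinearMap.ker (Fintype.linearCombination R aug) = LinearMap.range (Matrix.mulVecLin (d 0)) ∧
      (∀ i, LinearMap.ker (Matrix.mulVecLin (d i)) =
        LinearMap.range (Matrix.mulVecLin (d (i + 1)))) ∧
      ∀ i, Good (rk i) (deg i) (rk (i + 1)) (deg (i + 1)) (d i) := by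
  let s0 : {s : Stage R // Inv s} :=
    ⟨⟨n0, e0, LinearMap.ker (Fintype.linearCombination R aug0)⟩, hInv⟩
  refine ⟨fun i => (seq step s0 i).1.n, fun i => (seq step s0 i).1.e,
    fun i => (next step (seq step s0 i)).D, aug0, h0, ?_, ?_, ?_⟩
  · exact (next step (seq step s0 0)).range_eq.symm
  · intro i
    exact (next step (seq step s0 (i + 1))).range_eq.symm
  · intro i
    exact (next step (seq step s0 i)).good

end Groth.Agent.H2.ResRec
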