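import Mathlib
import Groth.Agent.Lib.Helper2.ResRec
import Groth.Agent.Lib.Helper2.MatRes

/-! Finite free resolutions of finite modules over Noetherian rings, in matrix form. -/

universe u

namespace Groth.Agent.H2.FinFreeRes

open CategoryTheory

variable (R : Type u) [CommRing R] [IsNoetherianRing R] (M : Type u) [AddCommGroup M] [Module R M]
  [Module.Finite R M]

/-- A matrix whose columns generate a given submodule of a finite free module. -/
lemma exists_matrix_range_eq {n : ℕ} (K : Submodule R (Fin n → R)) :
    ∃ (m : ℕ) (D : Matrix (Fin n) (Fin m) R), LinearMap.range (Matrix.mulVecLin D) = K := by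
  have hfg : K.FG := IsNoetherian.noetherian K
  obtain ⟨m, g, hg⟩ := Submodule.fg_iff_exists_fin_generating_family.1 hfg
  refine ⟨m, Matrix.of (fun a b => g b a), ?_⟩
  rw [Matrix.range_mulVecLin, ← hg]
  congr 1

/-- Every finite module over a Noetherian ring has a matrix resolution. -/
theorem exists_matRes : Nonempty (MatRes R M) := by
  obtain ⟨n0, aug0, haug0⟩ := Module.Finite.exists_fin (R := R) (M := M)
  have hsurj : Function.Surjective (Fintype.linearCombination R aug0) := by
    rw [← LinearMap.range_eq_top, Fintype.range_linearCombination, haug0]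
  obtain ⟨rk, deg, d, aug, h0, hz, hs, -⟩ := ResRec.exists_resolution
    (R := R) (Inv := fun _ => True) (Good := fun _ _ _ _ _ => True)
    (fun s _ => by
      obtain ⟨m, D, hD⟩ := exists_matrix_range_eq R s.K
      exact ⟨⟨m, fun _ => 0, D, hD, trivial, trivial⟩⟩)
    (fun n _ aug => Function.Surjective (Fintype.linearCombination R aug))
    n0 (fun _ => 0) aug0 hsurj trivial
  exact ⟨{ rk := rk, d := d, aug := aug, aug_surjective := h0, exact_zero := hz, exact_succ := hs }⟩

/-- Every finite module over a Noetherian ring has a resolution by finite free modules. -/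
theorem exists_projectiveResolution :
    ∃ F : ProjectiveResolution (ModuleCat.of R M),
      ∀ n : ℕ, Module.Finite R (F.complex.X n) ∧ Module.Free R (F.complex.X n) := by
  obtain ⟨G⟩ := exists_matRes R M
  refine ⟨G.projRes, fun n => ?_⟩
  show Module.Finite R (Fin (G.rk n) → R) ∧ Module.Free R (Fin (G.rk n) → R)
  exact ⟨inferInstance, inferInstance⟩

end Groth.Agent.H2.FinFreeRes
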