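import Mathlib

/-!
# Helper2: a finitely generated category with finitely many objects receives a final and initial
functor from a finite category
-/

namespace Groth.Agent.H2.FinGen

open CategoryTheory

universe v u

section Quiv

variable {I : Type u} [Category.{v} I] {n m : ℕ} (X : Fin n → I)
  (G : Fin m → Σ x y : I, x ⟶ y)

/-- The bipartite quiver: vertices. -/
inductive BQ (X : Fin n → I) (G : Fin m → Σ x y : I, x ⟶ y) : Type
  | y : Fin n → BQ X G
  | z : Fin n → BQ X G

/-- The equivalence with a sum. -/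
def BQ.equiv : BQ X G ≃ Fin n ⊕ Fin n where
  toFun := fun
    | .y i => .inl i
    | .z i => .inr i
  invFun := fun
    | .inl i => .y i
    | .inr i => .z i
  left_inv := by rintro (i | i) <;> rfl
  right_inv := by rintro (i | i) <;> rfl

instance : Fintype (BQ X G) := Fintype.ofEquiv _ (BQ.equiv X G).symm

instance : Quiver (BQ X G) where
  Hom x y := match x, y with
    | .y i, .z j => {k : Fin m // (G k).1 = X i ∧ (G k).2.1 = X j} ⊕ PLift (i = j)
    | _, _ => PEmpty

lemma isEmpty_hom_y (x : BQ X G) (i : Fin n) : IsEmpty (x ⟶ (BQ.y i : BQ X G)) := by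
  rcases x with a | a <;> exact ⟨fun e => PEmpty.elim e⟩

lemma isEmpty_hom_z (x : BQ X G) (i : Fin n) : IsEmpty ((BQ.z i : BQ X G) ⟶ x) := by
  rcases x with a | a <;> exact ⟨fun e => PEmpty.elim e⟩

instance (x y : BQ X G) : Finite (x ⟶ y) := by
  rcases x with a | a <;> rcases y with b | b
  · exact inferInstanceAs (Finite PEmpty)
  · exact inferInstanceAs
      (Finite ({k : Fin m // (G k).1 = X a ∧ (G k).2.1 = X b} ⊕ PLift (a = b)))
  · exact inferInstanceAs (Finite PEmpty)
  · exact inferInstanceAs (Finite PEmpty)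

lemma length_le_one {x y : BQ X G} (p : Quiver.Path x y) : p.length ≤ 1 := by
  cases p with
  | nil => simp
  | cons p e =>
    rename_i b
    rcases b with b | b
    · cases p with
      | nil => simp
      | cons p' e' => exact ((isEmpty_hom_y X G _ b).false e').elim
    · exact ((isEmpty_hom_z X G _ b).false e).elim

instance (x y : BQ X G) : Finite (Quiver.Path x y) := by
  classical
  let g : PLift (x = y) ⊕ (x ⟶ y) → Quiver.Path x y := fun z =>
    match z with
    | .inl h => h.down ▸ Quiver.Path.nil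
    | .inr e => e.toPath
  refine Finite.of_surjective g ?_
  intro p
  cases p with
  | nil => exact ⟨.inl ⟨rfl⟩, rfl⟩
  | cons p e =>
    have h := length_le_one X G (p.cons e)
    have h0 : p.length = 0 := by
      simp only [Quiver.Path.length_cons] at h
      omega
    obtain rfl := Quiver.Path.eq_of_length_zero p h0
    obtain rfl := Quiver.Path.eq_nil_of_length_zero p h0
    exact ⟨.inr e, rfl⟩

/-- The prefunctor to `I`. -/
def pre : BQ X G ⥤q I where
  obj x := match x with
    | .y i => X i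
    | .z i => X i
  map {x y} e := match x, y, e with
    | .y _, .z _, .inl k => eqToHom k.2.1.symm ≫ (G k.1).2.2 ≫ eqToHom k.2.2
    | .y _, .z _, .inr h => eqToHom (congrArg X h.down)

/-- The finite category. -/
abbrev JJ := Paths (BQ X G)

noncomputable instance : FinCategory (JJ X G) where
  fintypeObj := inferInstanceAs (Fintype (BQ X G))
  fintypeHom x y := by
    have : Finite (x ⟶ y) := inferInstanceAs (Finite (Quiver.Path (V := BQ X G) x y))
    exact Fintype.ofFinite _

/-- The functor. -/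
def FF : JJ X G ⥤ I := Paths.lift (pre X G)

/-- bottom objects -/
abbrev yy (i : Fin n) : JJ X G := (BQ.y i : BQ X G)
/-- top objects -/
abbrev zz (i : Fin n) : JJ X G := (BQ.z i : BQ X G)

/-- the identity link -/
def link (i : Fin n) : yy X G i ⟶ zz X G i :=
  Quiver.Hom.toPath (show (BQ.y i : BQ X G) ⟶ BQ.z i from Sum.inr ⟨rfl⟩)

/-- the generator arrows -/
def garr (k : Fin m) (i j : Fin n) (hi : (G k).1 = X i) (hj : (G k).2.1 = X j) :
    yy X G i ⟶ zz X G j :=
  Quiver.Hom.toPath (show (BQ.y i : BQ X G) ⟶ BQ.z j from Sum.inl ⟨k, hi, hj⟩)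

@[simp] lemma FF_obj_yy (i : Fin n) : (FF X G).obj (yy X G i) = X i := rfl
@[simp] lemma FF_obj_zz (i : Fin n) : (FF X G).obj (zz X G i) = X i := rfl

@[simp] lemma FF_map_link (i : Fin n) : (FF X G).map (link X G i) = 𝟙 (X i) := by
  dsimp only [FF, link]
  erw [Paths.lift_toPath]
  rfl

@[simp] lemma FF_map_garr (k : Fin m) (i j : Fin n) (hi : (G k).1 = X i) (hj : (G k).2.1 = X j) :
    (FF X G).map (garr X G k i j hi hj) = eqToHom hi.symm ≫ (G k).2.2 ≫ eqToHom hj := by
  dsimp only [FF, garr]
  erw [Paths.lift_toPath]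
  rfl

section Conn

/-- structured arrow over a top object -/
def saz (d : I) (i : Fin n) (ψ : d ⟶ X i) : StructuredArrow d (FF X G) :=
  StructuredArrow.mk (Y := zz X G i) ψ
/-- structured arrow over a bottom object -/
def say (d : I) (i : Fin n) (ψ : d ⟶ X i) : StructuredArrow d (FF X G) :=
  StructuredArrow.mk (Y := yy X G i) ψ
/-- costructured arrow over a top object -/
def caz (d : I) (i : Fin n) (ψ : X i ⟶ d) : CostructuredArrow (FF X G) d :=
  CostructuredArrow.mk (Y := zz X G i) ψ
/-- costructured arrow over a bottom object -/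
def cay (d : I) (i : Fin n) (ψ : X i ⟶ d) : CostructuredArrow (FF X G) d :=
  CostructuredArrow.mk (Y := yy X G i) ψ

/-- link map of structured arrows -/
def saLink (d : I) (i : Fin n) (ψ : d ⟶ X i) : say X G d i ψ ⟶ saz X G d i ψ :=
  StructuredArrow.homMk (link X G i) (by
    show ψ ≫ (FF X G).map (link X G i) = ψ
    rw [FF_map_link]; exact Category.comp_id _)

/-- generator map of structured arrows -/
def saGarr (d : I) (k : Fin m) (i j : Fin n) (hi : (G k).1 = X i) (hj : (G k).2.1 = X j)
    (ψ : d ⟶ X i) :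
    say X G d i ψ ⟶ saz X G d j (ψ ≫ eqToHom hi.symm ≫ (G k).2.2 ≫ eqToHom hj) :=
  StructuredArrow.homMk (garr X G k i j hi hj) (by
    show ψ ≫ (FF X G).map (garr X G k i j hi hj) = _
    rw [FF_map_garr]; rfl)

/-- link map of costructured arrows -/
def caLink (d : I) (i : Fin n) (ψ : X i ⟶ d) : cay X G d i ψ ⟶ caz X G d i ψ :=
  CostructuredArrow.homMk (link X G i) (by
    show (FF X G).map (link X G i) ≫ ψ = ψ
    rw [FF_map_link]; exact Category.id_comp _)

/-- generator map of costructured arrows -/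
def caGarr (d : I) (k : Fin m) (i j : Fin n) (hi : (G k).1 = X i) (hj : (G k).2.1 = X j)
    (χ : X j ⟶ d) :
    cay X G d i (eqToHom hi.symm ≫ (G k).2.2 ≫ eqToHom hj ≫ χ) ⟶ caz X G d j χ :=
  CostructuredArrow.homMk (garr X G k i j hi hj) (by
    show (FF X G).map (garr X G k i j hi hj) ≫ χ = eqToHom hi.symm ≫ (G k).2.2 ≫ eqToHom hj ≫ χ
    rw [FF_map_garr]; simp)

variable (hinj : Function.Injective X) (hsurj : Function.Surjective X)
  (gen : Finset (Σ x y : I, x ⟶ y)) (hG : ∀ g ∈ gen, ∃ k, G k = g)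
  (hgen : ∀ P : MorphismProperty I, P.IsMultiplicative → (∀ a ∈ gen, P a.2.2) → P = ⊤)

include hinj hsurj hG hgen in
lemma final_FF : (FF X G).Final := by
  constructor
  intro d
  let P : MorphismProperty I := fun a b φ =>
    ∀ (i j : Fin n) (hi : X i = a) (hj : X j = b) (ψ : d ⟶ X i),
      Zigzag (saz X G d j (ψ ≫ eqToHom hi ≫ φ ≫ eqToHom hj.symm)) (saz X G d i ψ)
  have hP : P = ⊤ := by
    apply hgen
    · exact
        { id_mem := by
            intro a i j hi hj ψ
            obtain rfl : i = j := hinj (hi.trans hj.symm)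
            subst hi
            have e : ψ ≫ eqToHom rfl ≫ 𝟙 (X i) ≫ eqToHom hj.symm = ψ := by simp
            rw [e]
          comp_mem := by
            intro a b c φ₁ φ₂ h₁ h₂ i j hi hj ψ
            obtain ⟨l, hl⟩ := hsurj b
            have z₁ := h₁ i l hi hl ψ
            have z₂ := h₂ l j hl hj (ψ ≫ eqToHom hi ≫ φ₁ ≫ eqToHom hl.symm)
            refine Zigzag.trans ?_ z₁
            have e : (ψ ≫ eqToHom hi ≫ φ₁ ≫ eqToHom hl.symm) ≫ eqToHom hl ≫ φ₂ ≫ eqToHom hj.symm =
                ψ ≫ eqToHom hi ≫ (φ₁ ≫ φ₂) ≫ eqToHom hj.symm := by simp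
            rw [e] at z₂
            exact z₂ }
    · intro g hg i j hi hj ψ
      obtain ⟨k, rfl⟩ := hG g hg
      exact (Zigzag.of_inv (saGarr X G d k i j hi.symm hj.symm ψ)).trans
        (Zigzag.of_hom (saLink X G d i ψ))
  obtain ⟨i₀, h₀⟩ := hsurj d
  let base : StructuredArrow d (FF X G) := saz X G d i₀ (eqToHom h₀.symm)
  have : Nonempty (StructuredArrow d (FF X G)) := ⟨base⟩
  have hz : ∀ (i : Fin n) (φ : d ⟶ X i), Zigzag (saz X G d i φ) base := by
    intro i φ
    have hφ : P φ := by rw [hP]; trivial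
    have := hφ i₀ i h₀ rfl (eqToHom h₀.symm)
    have e : eqToHom h₀.symm ≫ eqToHom h₀ ≫ φ ≫ eqToHom (rfl : X i = X i).symm = φ := by simp
    rw [e] at this
    exact this
  suffices ∀ j : StructuredArrow d (FF X G), Zigzag j base from
    zigzag_isConnected (fun j₁ j₂ => (this j₁).trans (this j₂).symm)
  intro j
  obtain ⟨l, r, hom⟩ := j
  obtain ⟨⟨⟩⟩ := l
  rcases r with i | i
  · exact (Zigzag.of_hom (saLink X G d i hom)).trans (hz i hom)
  · exact hz i hom

include hinj hsurj hG hgen in
lemma initial_FF : (FF X G).Initial := by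
  constructor
  intro d
  let P : MorphismProperty I := fun a b φ =>
    ∀ (i j : Fin n) (hi : X i = a) (hj : X j = b) (χ : X j ⟶ d),
      Zigzag (caz X G d i (eqToHom hi ≫ φ ≫ eqToHom hj.symm ≫ χ)) (caz X G d j χ)
  have hP : P = ⊤ := by
    apply hgen
    · exact
        { id_mem := by
            intro a i j hi hj χ
            obtain rfl : i = j := hinj (hi.trans hj.symm)
            subst hi
            have e : eqToHom rfl ≫ 𝟙 (X i) ≫ eqToHom hj.symm ≫ χ = χ := by simp
            rw [e]
          comp_mem := by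
            intro a b c φ₁ φ₂ h₁ h₂ i j hi hj χ
            obtain ⟨l, hl⟩ := hsurj b
            have z₂ := h₂ l j hl hj χ
            have z₁ := h₁ i l hi hl (eqToHom hl ≫ φ₂ ≫ eqToHom hj.symm ≫ χ)
            refine Zigzag.trans ?_ z₂
            have e : eqToHom hi ≫ φ₁ ≫ eqToHom hl.symm ≫ eqToHom hl ≫ φ₂ ≫ eqToHom hj.symm ≫ χ =
                eqToHom hi ≫ (φ₁ ≫ φ₂) ≫ eqToHom hj.symm ≫ χ := by simp
            rw [e] at z₁
            exact z₁ }
    · intro g hg i j hi hj χ
      obtain ⟨k, rfl⟩ := hG g hg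
      exact (Zigzag.of_inv (caLink X G d i _)).trans
        (Zigzag.of_hom (caGarr X G d k i j hi.symm hj.symm χ))
  obtain ⟨i₀, h₀⟩ := hsurj d
  let base : CostructuredArrow (FF X G) d := caz X G d i₀ (eqToHom h₀)
  have : Nonempty (CostructuredArrow (FF X G) d) := ⟨base⟩
  have hz : ∀ (i : Fin n) (φ : X i ⟶ d), Zigzag (caz X G d i φ) base := by
    intro i φ
    have hφ : P φ := by rw [hP]; trivial
    have := hφ i i₀ rfl h₀ (eqToHom h₀)
    have e : eqToHom (rfl : X i = X i) ≫ φ ≫ eqToHom h₀.symm ≫ eqToHom h₀ = φ := by simp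
    rw [e] at this
    exact this
  suffices ∀ j : CostructuredArrow (FF X G) d, Zigzag j base from
    zigzag_isConnected (fun j₁ j₂ => (this j₁).trans (this j₂).symm)
  intro j
  obtain ⟨l, r, hom⟩ := j
  obtain ⟨⟨⟩⟩ := r
  rcases l with i | i
  · exact (Zigzag.of_hom (caLink X G d i hom)).trans (hz i hom)
  · exact hz i hom

end Conn

end Quiv

theorem main {I : Type u} [Category.{v} I] [Finite I]
    (gen : Finset (Σ x y : I, x ⟶ y))
    (hgen : ∀ P : MorphismProperty I, P.IsMultiplicative → (∀ a ∈ gen, P a.2.2) → P = ⊤) :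
    ∃ (J : Type) (_ : SmallCategory J) (_ : FinCategory J) (F : J ⥤ I),
      F.Final ∧ F.Initial ∧ (IsConnected J ↔ IsConnected I) ∧ (Nonempty J ↔ Nonempty I) := by
  classical
  let e := Finite.equivFin I
  let X : Fin (Nat.card I) → I := e.symm
  let G : Fin gen.card → Σ x y : I, x ⟶ y := fun k => (gen.equivFin.symm k).1
  have hG : ∀ g ∈ gen, ∃ k, G k = g := by
    intro g hg
    refine ⟨gen.equivFin ⟨g, hg⟩, ?_⟩
    simp [G]
  have hF := final_FF X G e.symm.injective e.symm.surjective gen hG hgen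
  have hI := initial_FF X G e.symm.injective e.symm.surjective gen hG hgen
  refine ⟨JJ X G, inferInstance, inferInstance, FF X G, hF, hI,
    Functor.isConnected_iff_of_final (FF X G), ?_⟩
  constructor
  · rintro ⟨j⟩
    exact ⟨(FF X G).obj j⟩
  · rintro ⟨a⟩
    exact ⟨yy X G (e a)⟩

end Groth.Agent.H2.FinGen
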