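import Mathlib

set_option autoImplicit false
universe v u v' u'
open CategoryTheory CategoryTheory.Limits

namespace Groth.Agent.H2.FinLenCounit

variable {A : Type u} [Category.{v} A] [Abelian A] {B : Type u'} [Category.{v'} B] [Abelian B]
  (u : A ⥤ B)

/-- `X` is good if every nonzero subobject of `u X` receives a nonzero map from some `u S`. -/
def Good (X : A) : Prop :=
  ∀ (K : B) (k : K ⟶ u.obj X), Mono k → ¬ IsZero K → ∃ (S : A) (g : u.obj S ⟶ K), g ≠ 0

variable {u}

theorem good_of_iso {X X' : A} (e : X ≅ X') (h : Good u X) : Good u X' := by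
  intro K k hk hK
  haveI := hk
  exact h K (k ≫ u.map e.inv) inferInstance hK

theorem good_of_isZero [u.PreservesZeroMorphisms] {X : A} (hX : IsZero X) : Good u X := by
  intro K k hk hK
  haveI := hk
  exact absurd (IsZero.of_mono k (u.map_isZero hX)) hK

theorem good_of_simple (hsimple : ∀ X : A, Simple X → Simple (u.obj X)) (X : A) [Simple X] :
    Good u X := by
  intro K k hk hK
  haveI := hk
  haveI := hsimple X inferInstance
  have hk0 : k ≠ 0 := fun h => hK (IsZero.of_mono_eq_zero k h)
  haveI : IsIso k := isIso_of_mono_of_nonzero hk0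
  refine ⟨X, inv k, fun h => hK ?_⟩
  rw [IsZero.iff_id_eq_zero]
  have : k ≫ inv k = 𝟙 K := IsIso.hom_inv_id k
  rw [← this, h, comp_zero]

theorem good_of_shortExact [u.Additive] [PreservesFiniteLimits u] [PreservesFiniteColimits u]
    (T : ShortComplex A) (hT : T.ShortExact)
    (h1 : Good u T.X₁) (h3 : Good u T.X₃) : Good u T.X₂ := by
  intro K k hk hK
  haveI := hk
  by_cases hm : Mono (k ≫ u.map T.g)
  · exact h3 K _ hm hK
  · have hK' : ¬ IsZero (kernel (k ≫ u.map T.g)) :=
      fun h => hm (Preadditive.mono_of_isZero_kernel _ h)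
    have hT' : (T.map u).ShortExact := hT.map_of_exact u
    haveI : Mono (T.map u).f := hT'.mono_f
    have hz : (kernel.ι (k ≫ u.map T.g) ≫ k) ≫ (T.map u).g = 0 := by
      rw [ShortComplex.map_g, Category.assoc]
      exact kernel.condition _
    let l : kernel (k ≫ u.map T.g) ⟶ u.obj T.X₁ := hT'.exact.lift _ hz
    have hl : l ≫ u.map T.f = kernel.ι (k ≫ u.map T.g) ≫ k := hT'.exact.lift_f _ hz
    haveI : Mono (l ≫ u.map T.f) := by rw [hl]; infer_instance
    haveI : Mono l := mono_of_mono l (u.map T.f)
    obtain ⟨S, g, hg⟩ := h1 _ l inferInstance hK'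
    refine ⟨S, g ≫ kernel.ι _, fun h => hg ?_⟩
    rw [← cancel_mono (kernel.ι (k ≫ u.map T.g)), h, zero_comp]

theorem good_all [u.Additive] [PreservesFiniteLimits u] [PreservesFiniteColimits u]
    (hlen : ∀ X : A, IsArtinianObject X ∧ IsNoetherianObject X)
    (hsimple : ∀ X : A, Simple X → Simple (u.obj X)) (X : A) : Good u X := by
  haveI := (hlen X).2
  have hbot : Good u ((⊥ : Subobject X) : A) :=
    good_of_isZero ((isZero_zero A).of_iso Subobject.botCoeIsoZero)
  obtain ⟨W, hW, hmax⟩ := (wellFounded_gt (α := Subobject X)).has_min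
    {W : Subobject X | Good u (W : A)} ⟨⊥, hbot⟩
  by_cases htop : W = ⊤
  · subst htop
    haveI : IsIso (⊤ : Subobject X).arrow := inferInstance
    exact good_of_iso (asIso (⊤ : Subobject X).arrow) hW
  · exfalso
    let π := cokernel.π W.arrow
    have hQ : ¬ IsZero (cokernel W.arrow) := by
      intro h
      haveI : Epi W.arrow := Preadditive.epi_of_isZero_cokernel _ h
      haveI : IsIso W.arrow := isIso_of_mono_of_epi _
      exact htop (Subobject.eq_top_of_isIso_arrow W)
    haveI := (hlen (cokernel W.arrow)).1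
    obtain ⟨S, hS⟩ := exists_simple_subobject hQ
    haveI := hS
    let p₁ : pullback π S.arrow ⟶ X := pullback.fst π S.arrow
    let p₂ : pullback π S.arrow ⟶ (S : A) := pullback.snd π S.arrow
    have hcond : p₁ ≫ π = p₂ ≫ S.arrow := pullback.condition
    let ι : (W : A) ⟶ pullback π S.arrow :=
      pullback.lift W.arrow 0 (by rw [zero_comp]; exact cokernel.condition _)
    have hι₁ : ι ≫ p₁ = W.arrow := pullback.lift_fst _ _ _
    have hι₂ : ι ≫ p₂ = 0 := pullback.lift_snd _ _ _
    haveI : Mono (ι ≫ p₁) := by rw [hι₁]; infer_instance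
    haveI : Mono ι := mono_of_mono ι p₁
    haveI : Epi p₂ := inferInstance
    let T : ShortComplex A := ShortComplex.mk ι p₂ hι₂
    have hex : T.Exact := by
      rw [ShortComplex.exact_iff_kernel_ι_comp_cokernel_π_zero]
      have hker := Abelian.monoIsKernelOfCokernel (CokernelCofork.ofπ π (cokernel.condition W.arrow))
        (cokernelIsCokernel W.arrow)
      have hz : (kernel.ι p₂ ≫ p₁) ≫ π = 0 := by
        rw [Category.assoc, hcond, ← Category.assoc, kernel.condition, zero_comp]
      let t : kernel p₂ ⟶ (W : A) := KernelFork.IsLimit.lift' hker (kernel.ι p₂ ≫ p₁) hz |>.1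
      have ht : t ≫ W.arrow = kernel.ι p₂ ≫ p₁ :=
        (KernelFork.IsLimit.lift' hker (kernel.ι p₂ ≫ p₁) hz).2
      have hfac : t ≫ ι = kernel.ι p₂ := by
        apply pullback.hom_ext
        · rw [Category.assoc, hι₁, ht]
        · rw [Category.assoc, hι₂, comp_zero, kernel.condition]
      show kernel.ι p₂ ≫ cokernel.π ι = 0
      rw [← hfac, Category.assoc, cokernel.condition, comp_zero]
    have hT : T.ShortExact := ShortComplex.ShortExact.mk hex
    have hP : Good u (pullback π S.arrow) :=
      good_of_shortExact T hT hW (good_of_simple hsimple (S : A))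
    have hP' : Good u ((Subobject.mk p₁ : Subobject X) : A) :=
      good_of_iso (Subobject.underlyingIso p₁).symm hP
    have hle : W ≤ Subobject.mk p₁ := Subobject.le_mk_of_comm ι hι₁
    have hnot : ¬ (Subobject.mk p₁ > W) := hmax _ hP'
    have hle' : Subobject.mk p₁ ≤ W := by
      by_contra hc
      exact hnot (lt_of_le_of_ne hle (fun h => hc (h ▸ le_refl _)))
    have hfac : Subobject.ofMkLE p₁ W hle' ≫ W.arrow = p₁ := Subobject.ofMkLE_arrow hle'
    have h0 : p₂ ≫ S.arrow = 0 := by
      rw [← hcond, ← hfac, Category.assoc]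
      show _ ≫ W.arrow ≫ cokernel.π W.arrow = 0
      rw [cokernel.condition, comp_zero]
    have h0' : p₂ = 0 := by
      rw [← cancel_mono S.arrow, h0, zero_comp]
    exact Simple.not_isZero (S : A) (IsZero.of_epi_eq_zero p₂ h0')

theorem mono_counit [u.Full] [u.Faithful] [PreservesFiniteLimits u] [PreservesFiniteColimits u]
    (uStar : B ⥤ A) (adj : u ⊣ uStar)
    (hlen : ∀ X : A, IsArtinianObject X ∧ IsNoetherianObject X)
    (hsimple : ∀ X : A, Simple X → Simple (u.obj X)) (Y : B) :
    Mono (adj.counit.app Y) := by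
  haveI : u.Additive := Functor.additive_of_preserves_binary_products u
  by_contra hm
  have hK : ¬ IsZero (kernel (adj.counit.app Y)) :=
    fun h => hm (Preadditive.mono_of_isZero_kernel _ h)
  obtain ⟨S, g, hg⟩ := good_all hlen hsimple (uStar.obj Y) _ (kernel.ι (adj.counit.app Y))
    inferInstance hK
  apply hg
  rw [← cancel_mono (kernel.ι (adj.counit.app Y)), zero_comp]
  obtain ⟨f, hf⟩ := u.map_surjective (g ≫ kernel.ι (adj.counit.app Y))
  have h1 : (adj.homEquiv S Y).symm f = 0 := by
    rw [Adjunction.homEquiv_counit, hf, Category.assoc, kernel.condition, comp_zero]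
  have h2 : f = 0 := by
    have : (adj.homEquiv S Y).symm f = (adj.homEquiv S Y).symm 0 := by
      rw [h1, Adjunction.homEquiv_counit, u.map_zero, zero_comp]
    exact (adj.homEquiv S Y).symm.injective this
  rw [← hf, h2, u.map_zero]

end Groth.Agent.H2.FinLenCounit
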