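import Mathlib
import Groth.Agent.Lib.Lead.QC.UnitIso
import Groth.Agent.Lib.Lead.QC.RestrictOpen
import Groth.Agent.Lib.Lead.QC.FiniteFree
import Groth.Agent.Lib.Lead.QC.AmpleIso
import Groth.Prelude.Def_ParaF

/-!
# Parafactorial pairs, part A: the engine for one open immersion (helper2)
-/

set_option autoImplicit false
set_option linter.style.haveILetI false
universe u
open CategoryTheory Limits AlgebraicGeometry TopologicalSpace Opposite

namespace Groth.Agent.H2.ParaFK

open Groth.Agent.LD.QC

variable {U V : Scheme.{u}} (j : U ⟶ V) [IsOpenImmersion j]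

/-- functions extend uniquely from `j⁻¹ W` to `W`, for every open `W` of the target -/
def FunBij : Prop := ∀ W : V.Opens, Function.Bijective (j.app W)

theorem funBij_of_isIso [IsIso j] : FunBij j := fun W =>
  (ConcreteCategory.isIso_iff_bijective (j.app W)).mp inferInstance

/-- restriction of sections, in `X.presheaf`, is insensitive to the names of the opens -/
theorem sres_bijective_congr {X : Scheme.{u}} {A A' B B' : X.Opens} (hA : A = A') (hB : B = B')
    (h : B ≤ A) (h' : B' ≤ A') :
    Function.Bijective (X.presheaf.map (homOfLE h).op) ↔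
      Function.Bijective (X.presheaf.map (homOfLE h').op) := by
  subst hA; subst hB; rfl

/-- `FunBij` in terms of restriction maps of the structure sheaf of the target -/
theorem funBij_iff :
    FunBij j ↔ ∀ W : V.Opens,
      Function.Bijective (V.presheaf.map (homOfLE (j.image_preimage_le W)).op) := by
  have key : ∀ W : V.Opens, ⇑(ConcreteCategory.hom (V.presheaf.map
      (homOfLE (j.image_preimage_le W)).op)) =
      ⇑(ConcreteCategory.hom (j.appIso (j ⁻¹ᵁ W)).inv) ∘ ⇑(ConcreteCategory.hom (j.app W)) := by
    intro W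
    have h := j.app_appIso_inv W
    funext a
    exact (congrArg (fun φ => (ConcreteCategory.hom φ) a) h).symm
  have hb : ∀ W : V.Opens, Function.Bijective (j.appIso (j ⁻¹ᵁ W)).inv := fun W =>
    (ConcreteCategory.isIso_iff_bijective _).mp inferInstance
  constructor
  · intro h W
    rw [key W]
    exact (hb W).comp (h W)
  · intro h W
    have h1 := h W
    rw [key W] at h1
    exact (Function.Bijective.of_comp_iff' (hb W) _).mp h1

/-- the unit of the restriction adjunction at a finite locally free module is an isomorphism -/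
theorem isIso_unit_restrict (hj : FunBij j) (L : V.Modules) (hL : FlatMod.IsFinLocFree L) :
    IsIso ((Scheme.Modules.restrictAdjunction j).unit.app L) := by
  haveI := isIso_unit_of_isFinLocFree j hj L hL
  have h := Adjunction.unit_leftAdjointUniq_hom_app (Scheme.Modules.restrictAdjunction j)
    (Scheme.Modules.pullbackPushforwardAdjunction j) L
  have h2 : (Scheme.Modules.restrictAdjunction j).unit.app L =
      (Scheme.Modules.pullbackPushforwardAdjunction j).unit.app L ≫
        inv ((Scheme.Modules.pushforward j).map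
          ((Adjunction.leftAdjointUniq (Scheme.Modules.restrictAdjunction j)
            (Scheme.Modules.pullbackPushforwardAdjunction j)).hom.app L)) := by
    rw [← h, Category.assoc, IsIso.hom_inv_id, Category.comp_id]
  rw [h2]
  infer_instance

/-- **full faithfulness**: restriction is bijective on morphisms into a finite locally free
module -/
theorem bijective_restrict_map (hj : FunBij j) (L L' : V.Modules)
    (hL' : FlatMod.IsFinLocFree L') :
    Function.Bijective (fun φ : L ⟶ L' => (Scheme.Modules.restrictFunctor j).map φ) := by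
  haveI := isIso_unit_restrict j hj L' hL'
  let adj := Scheme.Modules.restrictAdjunction j
  have key : ∀ φ : L ⟶ L', adj.homEquiv L _ ((Scheme.Modules.restrictFunctor j).map φ) =
      φ ≫ adj.unit.app L' := by
    intro φ
    rw [Adjunction.homEquiv_unit]
    exact (adj.unit.naturality φ).symm
  have hb : Function.Bijective (fun φ : L ⟶ L' => φ ≫ adj.unit.app L') :=
    ⟨fun a b h => (cancel_mono _).mp h, fun ψ => ⟨ψ ≫ inv (adj.unit.app L'), by simp⟩⟩
  have hfun : (fun φ : L ⟶ L' => (Scheme.Modules.restrictFunctor j).map φ) =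
      ⇑(adj.homEquiv L _).symm ∘ (fun φ : L ⟶ L' => φ ≫ adj.unit.app L') := by
    funext φ
    rw [Function.comp_apply, ← key φ, Equiv.symm_apply_apply]
  rw [hfun]
  exact (Equiv.bijective _).comp hb

/-- the criterion for `InvRestrictEquiv` -/
theorem invRestrictEquiv_iff (hj : FunBij j) :
    ParaF.InvRestrictEquiv j ↔ ∀ L₀ : U.Modules, PicF.IsInvertible L₀ →
      PicF.IsInvertible ((Scheme.Modules.pushforward j).obj L₀) := by
  constructor
  · rintro ⟨-, h2⟩ L₀ hL₀
    obtain ⟨L, hL, ⟨e⟩⟩ := h2 L₀ hL₀
    haveI := isIso_unit_restrict j hj L (isFinLocFree_of_isInvertible L hL)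
    exact isInvertible_of_iso (asIso ((Scheme.Modules.restrictAdjunction j).unit.app L) ≪≫
      (Scheme.Modules.pushforward j).mapIso e) hL
  · intro h
    refine ⟨fun L L' _ hL' => bijective_restrict_map j hj L L'
      (isFinLocFree_of_isInvertible L' hL'), fun L₀ hL₀ => ?_⟩
    exact ⟨(Scheme.Modules.pushforward j).obj L₀, h L₀ hL₀,
      ⟨(Scheme.Modules.restrictFunctorAdjCounitIso j).app L₀⟩⟩

/-- an open immersion which is an isomorphism satisfies `InvRestrictEquiv` -/
theorem invRestrictEquiv_of_isIso [IsIso j] : ParaF.InvRestrictEquiv j := by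
  refine ⟨fun L L' _ hL' => bijective_restrict_map j (funBij_of_isIso j) L L'
    (isFinLocFree_of_isInvertible L' hL'), fun L₀ hL₀ => ?_⟩
  refine ⟨L₀.restrict (inv j), isInvertible_restrict (inv j) hL₀, ⟨?_⟩⟩
  exact ((Scheme.Modules.restrictFunctorComp j (inv j)).app L₀).symm ≪≫
    (Scheme.Modules.restrictFunctorCongr (IsIso.hom_inv_id j)).app L₀ ≪≫
    (Scheme.Modules.restrictFunctorId).app L₀

/-- from full faithfulness on the structure sheaf: global functions extend uniquely -/
theorem bijective_res_top_of_invRestrictEquiv (h : ParaF.InvRestrictEquiv j) :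
    Function.Bijective (V.presheaf.map (homOfLE (le_top : j ''ᵁ ⊤ ≤ ⊤)).op) := by
  have hΦ := h.1 (unitMod V) (unitMod V) (isInvertible_unit V) (isInvertible_unit V)
  have hres : ∀ (φ : unitMod V ⟶ unitMod V) (W' : U.Opens),
      φ.app (j ''ᵁ W') (1 : Γ(V, j ''ᵁ W')) =
        V.presheaf.map (homOfLE (le_top : j ''ᵁ W' ≤ ⊤)).op (sectionOfHom φ) := by
    intro φ W'
    exact (unitHom_app_one_res (unitMod V) φ (le_top : j ''ᵁ W' ≤ ⊤)).symm
  constructor
  · rw [injective_iff_map_eq_zero]
    intro a ha
    let φ : unitMod V ⟶ unitMod V := homOfSection (unitMod V) a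
    have hφa : sectionOfHom φ = a := sectionOfHom_homOfSection (unitMod V) a
    have h0 : (Scheme.Modules.restrictFunctor j).map φ =
        (Scheme.Modules.restrictFunctor j).map (0 : unitMod V ⟶ unitMod V) := by
      have key : ∀ (W' : U.Opens) (b' : Γ(V, j ''ᵁ W')), φ.app (j ''ᵁ W') b' = 0 := by
        intro W' b'
        rw [unitHom_app (unitMod V) φ, hres φ W', hφa,
          ← sres_res (le_top : j ''ᵁ ⊤ ≤ ⊤) (j.image_mono (le_top : W' ≤ ⊤)) a, ha, map_zero]
        change b' • (0 : Γ(unitMod V, j ''ᵁ W')) = 0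
        exact smul_zero b'
      apply Scheme.Modules.hom_ext
      intro W'
      ext b
      exact key W' b
    have h1 := hΦ.1 h0
    rw [← hφa, h1]
    rfl
  · intro b
    let θ : (unitMod V).restrict j ⟶ (unitMod V).restrict j :=
      (Scheme.Modules.restrictUnitIso j).hom ≫ homOfSection ((unitMod V).restrict j) b
    obtain ⟨φ, hφ⟩ := hΦ.2 θ
    refine ⟨sectionOfHom φ, ?_⟩
    have h1 : V.presheaf.map (homOfLE (le_top : j ''ᵁ ⊤ ≤ ⊤)).op (sectionOfHom φ) =
        θ.app ⊤ (1 : Γ(V, j ''ᵁ ⊤)) := by
      rw [← hres φ ⊤, ← hφ]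
      rfl
    rw [h1]
    change (homOfSection ((unitMod V).restrict j) b).app ⊤
      ((Scheme.Modules.restrictUnitIso j).hom.app ⊤ (1 : Γ(V, j ''ᵁ ⊤))) = b
    have h2 : (Scheme.Modules.restrictUnitIso j).hom.app ⊤ (1 : Γ(V, j ''ᵁ ⊤)) =
        (1 : Γ(U, ⊤)) := map_one (j.appIso ⊤).hom.hom
    rw [h2, homOfSection_app_one]
    exact res_self ((unitMod V).restrict j) _ b

end Groth.Agent.H2.ParaFK
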