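import Mathlib
import Groth.Agent.Lib.Helper2.ParaFA

/-!
# Parafactorial pairs, part B: the criterion for pairs (helper2)
-/

set_option autoImplicit false
set_option linter.style.haveILetI false
universe u
open CategoryTheory Limits AlgebraicGeometry TopologicalSpace Opposite

namespace Groth.Agent.H2.ParaFK

open Groth.Agent.LD.QC

variable {X : Scheme.{u}}

/-- functions on every open `V` extend uniquely from `V ⊓ U₀` -/
def ResBij (U₀ : X.Opens) : Prop :=
  ∀ V : X.Opens, Function.Bijective (X.presheaf.map (homOfLE (inf_le_left : V ⊓ U₀ ≤ V)).op)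

theorem funBij_homOfLE (U₀ : X.Opens) (h : ResBij U₀) (V : X.Opens) :
    FunBij (X.homOfLE (inf_le_left : V ⊓ U₀ ≤ V)) := by
  intro W
  rw [Scheme.homOfLE_app]
  refine (sres_bijective_congr rfl ?_ _ _).mpr (h (V.ι ''ᵁ W))
  rw [Scheme.ι_image_homOfLE_eq_ι_image_inf, ← inf_assoc, inf_eq_left.mpr (V.ι_image_le W)]

theorem funBij_ι (U₀ : X.Opens) (h : ResBij U₀) : FunBij U₀.ι := by
  rw [funBij_iff]
  intro W
  refine (sres_bijective_congr rfl ?_ _ _).mpr (h W)
  rw [Scheme.Hom.image_preimage_eq_opensRange_inf, Scheme.Opens.opensRange_ι, inf_comm]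

/-- **S2825** -/
theorem s2825 (U : X.Opens) (h : ResBij U) (L L' : X.Modules) (hL' : PicF.IsInvertible L') :
    Function.Bijective (fun φ : L ⟶ L' => (Scheme.Modules.restrictFunctor U.ι).map φ) :=
  bijective_restrict_map U.ι (funBij_ι U h) L L' (isFinLocFree_of_isInvertible L' hL')

/-- the first half of the criterion: a parafactorial pair satisfies `ResBij` -/
theorem resBij_of_isParafactorialPair (Y : Closeds X) (hP : ParaF.IsParafactorialPair X Y) :
    ResBij (Y.compl : X.Opens) := by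
  intro V
  have h1 := bijective_res_top_of_invRestrictEquiv
    (X.homOfLE (inf_le_left : V ⊓ Y.compl ≤ V)) (hP V)
  have h2 : Function.Bijective (X.presheaf.map (homOfLE (V.ι.image_mono
      (le_top : X.homOfLE (inf_le_left : V ⊓ Y.compl ≤ V) ''ᵁ ⊤ ≤ ⊤))).op) := h1
  refine (sres_bijective_congr ?_ ?_ _ _).mp h2
  · rw [Scheme.Hom.image_top_eq_opensRange, Scheme.Opens.opensRange_ι]
  · ext x
    constructor
    · rintro ⟨y, ⟨z, -, rfl⟩, rfl⟩
      have hz : (X.homOfLE (inf_le_left : V ⊓ Y.compl ≤ V) z).1 = z.1 := Scheme.homOfLE_apply _ z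
      change (X.homOfLE (inf_le_left : V ⊓ Y.compl ≤ V) z).1 ∈ V ⊓ Y.compl
      rw [hz]
      exact z.2
    · intro hx
      refine ⟨X.homOfLE (inf_le_left : V ⊓ Y.compl ≤ V) ⟨x, hx⟩, ⟨⟨x, hx⟩, trivial, rfl⟩, ?_⟩
      exact Scheme.homOfLE_apply _ (⟨x, hx⟩ : ↥(V ⊓ Y.compl))

/-- **S2826**: the criterion for parafactorial pairs -/
theorem isParafactorialPair_iff (Y : Closeds X) :
    ParaF.IsParafactorialPair X Y ↔
      (ResBij (Y.compl : X.Opens) ∧
        ∀ (V : X.Opens) (L : ((V ⊓ Y.compl : X.Opens) : Scheme.{u}).Modules), PicF.IsInvertible L →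
          PicF.IsInvertible ((Scheme.Modules.pushforward
            (X.homOfLE (inf_le_left : V ⊓ Y.compl ≤ V))).obj L)) := by
  constructor
  · intro hP
    have ha := resBij_of_isParafactorialPair Y hP
    exact ⟨ha, fun V => (invRestrictEquiv_iff _ (funBij_homOfLE _ ha V)).mp (hP V)⟩
  · rintro ⟨ha, hb⟩ V
    exact (invRestrictEquiv_iff _ (funBij_homOfLE _ ha V)).mpr (hb V)

end Groth.Agent.H2.ParaFK
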