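import Mathlib
import Groth.Agent.Lib.Helper2.ParaFB

/-!
# Parafactorial pairs, part C: shrinking the closed subset (helper2)
-/

set_option autoImplicit false
set_option linter.style.haveILetI false
universe u
open CategoryTheory Limits AlgebraicGeometry TopologicalSpace Opposite

namespace Groth.Agent.H2.ParaFK

open Groth.Agent.LD.QC

variable {X : Scheme.{u}}

/-- `FunBij` for an inclusion of opens `A ≤ B` with `A = B ⊓ U₀` -/
theorem funBij_homOfLE' (U₀ : X.Opens) (h : ResBij U₀) {A B : X.Opens} (e : A ≤ B)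
    (hA : A = B ⊓ U₀) : FunBij (X.homOfLE e) := by
  subst hA
  exact funBij_homOfLE U₀ h B

theorem resBij_mono {U₀ U₁ : X.Opens} (hle : U₀ ≤ U₁) (h : ResBij U₀) : ResBij U₁ := by
  intro V
  have r₁ := h V
  have r₂ := h (V ⊓ U₁)
  have hle2 : V ⊓ U₀ ≤ V ⊓ U₁ := inf_le_inf_left V hle
  have r₂' : Function.Bijective (X.presheaf.map (homOfLE hle2).op) := by
    refine (sres_bijective_congr rfl ?_ _ _).mp r₂
    rw [inf_assoc, inf_eq_right.mpr hle]
  have hcomp : ⇑(ConcreteCategory.hom (X.presheaf.map (homOfLE (inf_le_left : V ⊓ U₀ ≤ V)).op)) =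
      ⇑(ConcreteCategory.hom (X.presheaf.map (homOfLE hle2).op)) ∘
        ⇑(ConcreteCategory.hom (X.presheaf.map (homOfLE (inf_le_left : V ⊓ U₁ ≤ V)).op)) := by
    funext a
    exact (sres_res (inf_le_left : V ⊓ U₁ ≤ V) hle2 a).symm
  rw [hcomp] at r₁
  exact (Function.Bijective.of_comp_iff' r₂' _).mp r₁

/-- **S2829** -/
theorem s2829 (Y Y' : Closeds X) (hle : Y' ≤ Y) (h : ParaF.IsParafactorialPair X Y) :
    ParaF.IsParafactorialPair X Y' := by
  rw [isParafactorialPair_iff] at h ⊢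
  obtain ⟨ha, hb⟩ := h
  have hcl : (Y.compl : X.Opens) ≤ Y'.compl := by
    intro x hx hx'
    exact hx (hle hx')
  refine ⟨resBij_mono hcl ha, fun V L₀ hL₀ => ?_⟩
  have e₂₁ : V ⊓ Y.compl ≤ V ⊓ Y'.compl := inf_le_inf_left V hcl
  let k := X.homOfLE e₂₁
  let j' := X.homOfLE (inf_le_left : V ⊓ Y'.compl ≤ V)
  let j := X.homOfLE (inf_le_left : V ⊓ Y.compl ≤ V)
  have hkj : k ≫ j' = j := X.homOfLE_homOfLE _ _
  have hk : FunBij k := funBij_homOfLE' _ ha e₂₁ (by
    rw [inf_assoc, inf_eq_right.mpr hcl])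
  haveI := isIso_unit_restrict k hk L₀ (isFinLocFree_of_isInvertible L₀ hL₀)
  have h1 : PicF.IsInvertible ((Scheme.Modules.pushforward j).obj (L₀.restrict k)) :=
    hb V _ (isInvertible_restrict k hL₀)
  let e : (Scheme.Modules.pushforward j').obj L₀ ≅
      (Scheme.Modules.pushforward j).obj (L₀.restrict k) :=
    (Scheme.Modules.pushforward j').mapIso
      (asIso ((Scheme.Modules.restrictAdjunction k).unit.app L₀)) ≪≫
    (Scheme.Modules.pushforwardComp k j').app (L₀.restrict k) ≪≫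
    (Scheme.Modules.pushforwardCongr hkj).app (L₀.restrict k)
  exact isInvertible_of_iso e.symm h1

end Groth.Agent.H2.ParaFK
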