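import Mathlib
import Groth.Agent.Lib.Helper2.ParaFC
import Groth.Prelude.Def_FEt

/-!
# Parafactorial pairs, part D: parafactorial local rings (helper2)
-/

set_option autoImplicit false
set_option linter.style.haveILetI false
universe u
open CategoryTheory Limits AlgebraicGeometry TopologicalSpace Opposite

namespace Groth.Agent.H2.ParaFK

open Groth.Agent.LD.QC

/-- a module with a basis over the whole space is trivial -/
theorem nonempty_iso_unit_of_isBasisOver_top {Z : Scheme.{u}} (L : Z.Modules) (e : Γ(L, ⊤))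
    (he : IsBasisOver L ⊤ e) : Nonempty (L ≅ unitMod Z) := by
  haveI : IsIso (homOfSection L e) := by
    apply isIso_of_bijective_app
    intro W
    have h1 := he W le_top
    have h2 : ⇑(ConcreteCategory.hom ((homOfSection L e).app W)) =
        fun a : Γ(Z, W) => a • L.presheaf.map (homOfLE (le_top : W ≤ ⊤)).op e := by
      funext a
      rw [unitHom_app L (homOfSection L e) W a, homOfSection_app_one]
    rw [h2]
    exact h1
  exact ⟨(asIso (homOfSection L e)).symm⟩

/-- invertible modules on a local scheme are trivial -/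
theorem picTrivial_of_local {Z : Scheme.{u}} (z₀ : Z) (h : ∀ W : Z.Opens, z₀ ∈ W → W = ⊤) :
    ParaF.PicTrivial Z := by
  intro L hL
  obtain ⟨W, e, hz, he⟩ := (isInvertible_iff_exists_isBasisOver L).mp hL z₀
  obtain rfl := h W hz
  exact nonempty_iso_unit_of_isBasisOver_top L e he

theorem sres_bijective_of_le {X : Scheme.{u}} {A B : X.Opens} (h : B ≤ A) (h' : A ≤ B) :
    Function.Bijective (X.presheaf.map (homOfLE h).op) := by
  obtain rfl : A = B := le_antisymm h' h
  have : ⇑(ConcreteCategory.hom (X.presheaf.map (homOfLE h).op)) = id := by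
    funext a
    exact sres_self h a
  rw [this]
  exact Function.bijective_id

section Local
variable (A : Type u) [CommRing A] [IsLocalRing A]

/-- the closed point, as a closed subset -/
noncomputable abbrev clPt : Closeds ↥(Spec (CommRingCat.of A)) :=
  ⟨{IsLocalRing.closedPoint A}, IsLocalRing.isClosed_singleton_closedPoint A⟩

theorem puncturedSpec_eq :
    FEt.puncturedSpec A = (⊤ : (Spec (CommRingCat.of A)).Opens) ⊓ (clPt A).compl := by
  ext x
  simp only [Opens.coe_inf, Opens.coe_top, Set.univ_inter]
  rfl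

theorem eq_top_of_closedPoint_mem (V : (Spec (CommRingCat.of A)).Opens)
    (hV : IsLocalRing.closedPoint A ∈ V) : V = ⊤ :=
  (IsLocalRing.closedPoint_mem_iff (R := A) V).mp hV

theorem inf_compl_eq_of_closedPoint_notMem (V : (Spec (CommRingCat.of A)).Opens)
    (hV : IsLocalRing.closedPoint A ∉ V) : V ≤ V ⊓ (clPt A).compl := by
  intro x hx
  refine ⟨hx, ?_⟩
  intro hx'
  have : x = IsLocalRing.closedPoint A := hx'
  exact hV (this ▸ hx)

/-- the open subscheme `⊤` of the spectrum of a local ring is a local scheme -/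
theorem picTrivial_top : ParaF.PicTrivial ((⊤ : (Spec (CommRingCat.of A)).Opens) : Scheme.{u}) := by
  apply picTrivial_of_local (⟨IsLocalRing.closedPoint A, trivial⟩ :
    ((⊤ : (Spec (CommRingCat.of A)).Opens) : Scheme.{u}))
  intro W hW
  have h1 : (⊤ : (Spec (CommRingCat.of A)).Opens).ι ''ᵁ W = ⊤ :=
    eq_top_of_closedPoint_mem A _ ⟨_, hW, rfl⟩
  ext y
  simp only [Opens.coe_top, Set.mem_univ, iff_true]
  have hy : y.1 ∈ (⊤ : (Spec (CommRingCat.of A)).Opens).ι ''ᵁ W := by rw [h1]; trivial
  obtain ⟨y', hy', hyy⟩ := hy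
  have : y' = y := Subtype.ext hyy
  exact this ▸ hy'

/-- **S2824** -/
theorem s2824 :
    ParaF.IsParafactorialLocalRing A ↔
      (Function.Bijective ((Spec (CommRingCat.of A)).presheaf.map
          (homOfLE (le_top : FEt.puncturedSpec A ≤ ⊤)).op) ∧
        ParaF.PicTrivial (FEt.puncturedSpec A : Scheme.{u})) := by
  have hpunct := puncturedSpec_eq A
  constructor
  · intro hP
    have hP' : ParaF.IsParafactorialPair (Spec (CommRingCat.of A)) (clPt A) := hP
    constructor
    · have h1 := resBij_of_isParafactorialPair (clPt A) hP' ⊤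
      exact (sres_bijective_congr rfl hpunct.symm _ _).mp h1
    · rw [hpunct]
      intro L₀ hL₀
      obtain ⟨L, hL, ⟨e⟩⟩ := (hP' ⊤).2 L₀ hL₀
      obtain ⟨t⟩ := picTrivial_top A L hL
      exact ⟨e.symm ≪≫ (Scheme.Modules.restrictFunctor _).mapIso t ≪≫
        Scheme.Modules.restrictUnitIso _⟩
  · rintro ⟨hΓ, hPic⟩
    rw [hpunct] at hPic
    change ParaF.IsParafactorialPair (Spec (CommRingCat.of A)) (clPt A)
    have ha : ResBij ((clPt A).compl : (Spec (CommRingCat.of A)).Opens) := by
      intro V
      by_cases hV : IsLocalRing.closedPoint A ∈ V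
      · obtain rfl := eq_top_of_closedPoint_mem A V hV
        exact (sres_bijective_congr rfl hpunct _ _).mp hΓ
      · exact sres_bijective_of_le _ (inf_compl_eq_of_closedPoint_notMem A V hV)
    rw [isParafactorialPair_iff]
    refine ⟨ha, fun V L₀ hL₀ => ?_⟩
    by_cases hV : IsLocalRing.closedPoint A ∈ V
    · obtain rfl := eq_top_of_closedPoint_mem A V hV
      obtain ⟨t⟩ := hPic L₀ hL₀
      let j := (Spec (CommRingCat.of A)).homOfLE
        (inf_le_left : (⊤ : (Spec (CommRingCat.of A)).Opens) ⊓ (clPt A).compl ≤ ⊤)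
      have hj : FunBij j := funBij_homOfLE _ ha ⊤
      haveI := isIso_unit_restrict j hj (unitMod _)
        (isFinLocFree_of_isInvertible _ (isInvertible_unit _))
      let e : (Scheme.Modules.pushforward j).obj L₀ ≅ unitMod _ :=
        (Scheme.Modules.pushforward j).mapIso (t ≪≫ (Scheme.Modules.restrictUnitIso j).symm) ≪≫
          (asIso ((Scheme.Modules.restrictAdjunction j).unit.app (unitMod _))).symm
      exact isInvertible_of_iso e.symm (isInvertible_unit _)
    · have hle := inf_compl_eq_of_closedPoint_notMem A V hV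
      let j := (Spec (CommRingCat.of A)).homOfLE (inf_le_left : V ⊓ (clPt A).compl ≤ V)
      haveI : IsIso j := ⟨(Spec (CommRingCat.of A)).homOfLE hle, by
        rw [Scheme.homOfLE_homOfLE, Scheme.homOfLE_rfl], by
        rw [Scheme.homOfLE_homOfLE, Scheme.homOfLE_rfl]⟩
      exact (invRestrictEquiv_iff j (funBij_of_isIso j)).mp (invRestrictEquiv_of_isIso j) L₀ hL₀

end Local

end Groth.Agent.H2.ParaFK
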