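import Mathlib
import Groth.Agent.Lib.Helper2.ParaFD
import Groth.Agent.Lib.Lead.QC.Push

/-!
# Parafactorial pairs, part F: local triviality near the closed subset (helper2)
-/

set_option autoImplicit false
set_option linter.style.haveILetI false
universe u
open CategoryTheory Limits AlgebraicGeometry TopologicalSpace Opposite

namespace Groth.Agent.H2.ParaFK

open Groth.Agent.LD.QC

section Engine
variable {U V : Scheme.{u}} (j : U ⟶ V) [IsOpenImmersion j]

/-- bases of the direct image over `N` are bases over `j⁻¹ N` -/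
theorem isBasisOver_pushforward_iff (hj : FunBij j) (L₀ : U.Modules) (N : V.Opens)
    (e : Γ(L₀, j ⁻¹ᵁ N)) :
    IsBasisOver ((Scheme.Modules.pushforward j).obj L₀) N
      (show Γ((Scheme.Modules.pushforward j).obj L₀, N) from e) ↔
      IsBasisOver L₀ (j ⁻¹ᵁ N) e := by
  have hpre : ∀ {N' : V.Opens}, N' ≤ N → j ⁻¹ᵁ N' ≤ j ⁻¹ᵁ N := fun h x hx => h hx
  have key : ∀ (N' : V.Opens) (h : N' ≤ N),
      (fun a : Γ(V, N') => a • ((Scheme.Modules.pushforward j).obj L₀).presheaf.map (homOfLE h).op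
        (show Γ((Scheme.Modules.pushforward j).obj L₀, N) from e)) =
      (fun b : Γ(U, j ⁻¹ᵁ N') => b • L₀.presheaf.map (homOfLE (hpre h)).op e) ∘
        ⇑(ConcreteCategory.hom (j.app N')) := by
    intro N' h
    funext a
    rfl
  constructor
  · intro he P hP
    have hN' : j ''ᵁ P ≤ N := by
      rintro _ ⟨y, hy, rfl⟩
      exact hP hy
    have h1 := he (j ''ᵁ P) hN'
    rw [key _ hN'] at h1
    have h2 := (Function.Bijective.of_comp_iff _ (hj (j ''ᵁ P))).mp h1
    have key2 : ∀ (P' : U.Opens) (_ : P' = P) (h' : P' ≤ j ⁻¹ᵁ N),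
        Function.Bijective (fun b : Γ(U, P') => b • L₀.presheaf.map (homOfLE h').op e) →
        Function.Bijective (fun b : Γ(U, P) => b • L₀.presheaf.map (homOfLE hP).op e) := by
      rintro P' rfl h' hb
      exact hb
    exact key2 _ (j.preimage_image_eq P) _ h2
  · intro he N' hN'
    rw [key N' hN']
    exact (he (j ⁻¹ᵁ N') (hpre hN')).comp (hj N')

/-- `L₀` is trivial over the trace on the source of a neighbourhood of `x` -/
def LocTriv (L₀ : U.Modules) (x : V) : Prop :=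
  ∃ (N : V.Opens) (e : Γ(L₀, j ⁻¹ᵁ N)), x ∈ N ∧ IsBasisOver L₀ (j ⁻¹ᵁ N) e

/-- the direct image is invertible iff the module is trivial near every point of the target -/
theorem isInvertible_pushforward_iff (hj : FunBij j) (L₀ : U.Modules) :
    PicF.IsInvertible ((Scheme.Modules.pushforward j).obj L₀) ↔ ∀ x : V, LocTriv j L₀ x := by
  rw [isInvertible_iff_exists_isBasisOver]
  constructor
  · intro h x
    obtain ⟨N, e, hx, he⟩ := h x
    exact ⟨N, e, hx, (isBasisOver_pushforward_iff j hj L₀ N e).mp he⟩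
  · intro h x
    obtain ⟨N, e, hx, he⟩ := h x
    exact ⟨N, e, hx, (isBasisOver_pushforward_iff j hj L₀ N e).mpr he⟩

theorem IsBasisOver.of_iso {Z : Scheme.{u}} {L L' : Z.Modules} (φ : L ≅ L') {W : Z.Opens}
    {e : Γ(L, W)} (he : IsBasisOver L W e) : IsBasisOver L' W (φ.hom.app W e) := by
  intro W' hW'
  have h1 := he W' hW'
  have hb : Function.Bijective (φ.hom.app W') := app_bijective_of_isIso φ.hom W'
  have h2 : (fun a : Γ(Z, W') => a • L'.presheaf.map (homOfLE hW').op (φ.hom.app W e)) =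
      ⇑(ConcreteCategory.hom (φ.hom.app W')) ∘
        (fun a : Γ(Z, W') => a • L.presheaf.map (homOfLE hW').op e) := by
    funext a
    rw [Function.comp_apply, Scheme.Modules.Hom.app_smul, app_res]
  rw [h2]
  exact hb.comp h1

theorem LocTriv.of_iso {L₀ L₀' : U.Modules} (φ : L₀ ≅ L₀') {x : V} (h : LocTriv j L₀ x) :
    LocTriv j L₀' x := by
  obtain ⟨N, e, hx, he⟩ := h
  exact ⟨N, φ.hom.app _ e, hx, IsBasisOver.of_iso φ he⟩

end Engine

section Transport
variable {U V U' V' : Scheme.{u}} (j : U ⟶ V) (j' : U' ⟶ V') (γ : U' ⟶ U) (δ : V' ⟶ V)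
  [IsOpenImmersion j] [IsOpenImmersion j'] [IsOpenImmersion γ] [IsOpenImmersion δ]

/-- local triviality goes up along a square of open immersions -/
theorem LocTriv.push (L₀ : U.Modules)
    (hcart : ∀ N' : V'.Opens, j ⁻¹ᵁ (δ ''ᵁ N') ≤ γ ''ᵁ (j' ⁻¹ᵁ N')) (x' : V')
    (h : LocTriv j' (L₀.restrict γ) x') : LocTriv j L₀ (δ x') := by
  obtain ⟨N', e', hx', he'⟩ := h
  have h1 : IsBasisOver L₀ (γ ''ᵁ (j' ⁻¹ᵁ N')) e' :=
    (isBasisOver_restrict_iff γ L₀ (j' ⁻¹ᵁ N') e').mp he'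
  exact ⟨δ ''ᵁ N', _, ⟨x', hx', rfl⟩, h1.mono (hcart N')⟩

/-- local triviality goes down along a commutative square of open immersions -/
theorem LocTriv.pull (L₀ : U.Modules) (hsq : j' ≫ δ = γ ≫ j) (x' : V')
    (h : LocTriv j L₀ (δ x')) : LocTriv j' (L₀.restrict γ) x' := by
  obtain ⟨N, e, hx, he⟩ := h
  have hle : γ ''ᵁ (j' ⁻¹ᵁ (δ ⁻¹ᵁ N)) ≤ j ⁻¹ᵁ N := by
    rintro _ ⟨y, hy, rfl⟩
    change j (γ y) ∈ N
    have h1 : j (γ y) = δ (j' y) := by
      rw [← Scheme.Hom.comp_apply, ← hsq, Scheme.Hom.comp_apply]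
    rw [h1]
    exact hy
  refine ⟨δ ⁻¹ᵁ N, (show Γ(L₀.restrict γ, j' ⁻¹ᵁ (δ ⁻¹ᵁ N)) from
    L₀.presheaf.map (homOfLE hle).op e), hx, ?_⟩
  rw [isBasisOver_restrict_iff]
  exact he.mono hle

end Transport

end Groth.Agent.H2.ParaFK
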