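import Mathlib
import Groth.Agent.Lib.Helper5.SepPT.G
import Groth.Agent.Lib.Lead.QC.Extend
import Groth.Agent.Lib.Helper2.ParaFF
import Groth.Agent.Lib.Helper2.ProjUPK

/-! # Pullbacks of linear forms along morphisms to projective space (helper2)

For `r : X ⟶ P^n_k` over `k`, the pullback of the section `ℓ_c / 1` of `O(1)` is
`∑ c_j • r^* T_j`, and `r⁻¹ D₊(ℓ_c)` is the largest open where this section is a basis. -/

set_option autoImplicit false
universe u
open CategoryTheory AlgebraicGeometry TopologicalSpace Opposite HomogeneousLocalization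

namespace Groth.Agent.H2.FinProj

open Groth.Agent.LD Twist Groth.Agent.H2.PUP Groth.Agent.H5.SepPT

variable (n : ℕ) (k : Type u) [Field k] {X : Scheme.{u}}
  (pX : X ⟶ Spec (CommRingCat.of k)) (r : X ⟶ Proj (CohB1.polyGrading n k))

/-- the pullback of the linear form `ℓ_c` is `∑ c_j • r^* T_j`. -/
theorem pullSec_sec1_ιPn (hr : r ≫ projStr (CohB1.polyGrading n k) = pX)
    (c : Fin (n + 1) → k) :
    ProjUP.pullSec r (twist (CohB1.polyGrading n k) 1)
      (sec1 (CohB1.polyGrading n k) (ιPn_mem n k c)) = secC n k pX r c := by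
  apply QC.section_ext_of_cover _
    (fun i : Fin (n + 1) => r ⁻¹ᵁ Proj.basicOpen (CohB1.polyGrading n k) (MvPolynomial.X i))
    (fun i => le_top) ?_ _ _ ?_
  · intro x _
    obtain ⟨i, hi⟩ := exists_mem_chart n k (r x)
    exact Opens.mem_iSup.mpr ⟨i, hi⟩
  · intro i
    rw [res_secC n k pX r hr i le_rfl c,
      res_pullSec_sec1_eq_smul _ r (hX n k i) (ιPn_mem n k c) le_rfl]
    rfl

/-- `r⁻¹ D₊(ℓ_c)` is the largest open over which `∑ c_j • r^* T_j` is a basis of `r^* O(1)`. -/
theorem le_preimage_basicOpen_iff (hr : r ≫ projStr (CohB1.polyGrading n k) = pX)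
    (c : Fin (n + 1) → k) (U : X.Opens) :
    U ≤ r ⁻¹ᵁ Proj.basicOpen (CohB1.polyGrading n k) (ιPn n k c) ↔
      QC.IsBasisOver ((Scheme.Modules.pullback r).obj (twist (CohB1.polyGrading n k) 1)) U
        (((Scheme.Modules.pullback r).obj (twist (CohB1.polyGrading n k) 1)).presheaf.map
          (homOfLE (le_top : U ≤ ⊤)).op (secC n k pX r c)) := by
  rw [← pullSec_sec1_ιPn n k pX r hr c]
  exact ⟨fun e => isBasisOver_res_pullSec_sec1 (CohB1.polyGrading n k) (ιPn n k) (ιPn_mem n k)
      (isSymmetricAlgebra_ιPn n k) r (ιPn_mem n k c) e,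
    fun h => le_preimage_basicOpen_of_isBasisOver (CohB1.polyGrading n k) (ιPn n k) (ιPn_mem n k)
      (isSymmetricAlgebra_ιPn n k) r (ιPn_mem n k c) h⟩

variable {n}
variable {n' : ℕ} (r' : X ⟶ Proj (CohB1.polyGrading n' k))

/-- one inclusion of the comparison of preimages of hyperplane complements. -/
theorem preimage_basicOpen_le (hr : r ≫ projStr (CohB1.polyGrading n k) = pX)
    (hr' : r' ≫ projStr (CohB1.polyGrading n' k) = pX)
    (τ : (Scheme.Modules.pullback r).obj (twist (CohB1.polyGrading n k) 1) ≅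
      (Scheme.Modules.pullback r').obj (twist (CohB1.polyGrading n' k) 1))
    (c : Fin (n + 1) → k) (c' : Fin (n' + 1) → k)
    (h : τ.hom.app ⊤ (secC n k pX r c) = secC n' k pX r' c') :
    r ⁻¹ᵁ Proj.basicOpen (CohB1.polyGrading n k) (ιPn n k c) ≤
      r' ⁻¹ᵁ Proj.basicOpen (CohB1.polyGrading n' k) (ιPn n' k c') := by
  rw [le_preimage_basicOpen_iff n' k pX r' hr' c', ← h, ← QC.app_res]
  exact Groth.Agent.H2.ParaFK.IsBasisOver.of_iso τ ((le_preimage_basicOpen_iff n k pX r hr c _).mp le_rfl)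

/-- **comparison of preimages of hyperplane complements** for two morphisms to projective
spaces whose pullbacks of `O(1)` are identified compatibly with given linear forms. -/
theorem preimage_basicOpen_eq (hr : r ≫ projStr (CohB1.polyGrading n k) = pX)
    (hr' : r' ≫ projStr (CohB1.polyGrading n' k) = pX)
    (τ : (Scheme.Modules.pullback r).obj (twist (CohB1.polyGrading n k) 1) ≅
      (Scheme.Modules.pullback r').obj (twist (CohB1.polyGrading n' k) 1))
    (c : Fin (n + 1) → k) (c' : Fin (n' + 1) → k)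
    (h : τ.hom.app ⊤ (secC n k pX r c) = secC n' k pX r' c') :
    r ⁻¹ᵁ Proj.basicOpen (CohB1.polyGrading n k) (ιPn n k c) =
      r' ⁻¹ᵁ Proj.basicOpen (CohB1.polyGrading n' k) (ιPn n' k c') := by
  apply le_antisymm (preimage_basicOpen_le k pX r r' hr hr' τ c c' h)
  apply preimage_basicOpen_le k pX r' r hr' hr τ.symm c' c
  rw [← h]
  change (τ.hom ≫ τ.inv).app ⊤ (secC n k pX r c) = _
  rw [τ.hom_inv_id]
  rfl

end Groth.Agent.H2.FinProj
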