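import Mathlib

/-! # Rational points of projective space over an infinite field (helper2)

Pure algebra: a relevant homogeneous prime of `k[y_0..y_d]` containing the linear forms
`a_0 y_j - a_j y_0` does not contain a form `G` with `G(a) ≠ 0`; and over an infinite field every
nonzero polynomial has a homogeneous component not vanishing at some `a` with `a_0 ≠ 0`. -/

set_option autoImplicit false
universe u

namespace Groth.Agent.H2.FinProj

open MvPolynomial

/-- evaluation of a form of degree `e` at a family of multiples of one element. -/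
theorem aeval_smul_eq {k B σ : Type*} [Field k] [CommRing B] [Algebra k B] [Fintype σ]
    (G : MvPolynomial σ k) {e : ℕ} (hG : G.IsHomogeneous e) (b : σ → k) (t : B) :
    aeval (fun j => b j • t) G = eval b G • t ^ e := by
  rw [aeval_def, eval₂_eq', eval_eq', Finset.sum_smul]
  refine Finset.sum_congr rfl fun m hm => ?_
  have hdeg : ∑ i, m i = e := by
    have := hG (mem_support_iff.mp hm)
    rw [← this, Finsupp.weight_apply]
    rw [Finsupp.sum_fintype _ _ (fun i => by simp)]
    simp
  simp only [smul_pow]
  rw [Finset.prod_smul, Finset.prod_pow_eq_pow_sum, hdeg, mul_smul, Algebra.smul_def,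
    Algebra.smul_def]

/-- **rational point lemma**: a relevant prime containing the `2 × 2` minors of
`(a ; y)` does not contain a form not vanishing at `a`. -/
theorem notMem_of_eval_ne_zero {k : Type u} [Field k] {d : ℕ}
    (p : Ideal (MvPolynomial (Fin (d + 1)) k)) [p.IsPrime] (a : Fin (d + 1) → k) (ha : a 0 ≠ 0)
    (hp : ∀ j, C (a 0) * X j - C (a j) * X 0 ∈ p) (hrel : ∃ i, (X i : MvPolynomial _ k) ∉ p)
    {e : ℕ} (G : MvPolynomial (Fin (d + 1)) k) (hG : G.IsHomogeneous e) (hGa : eval a G ≠ 0) :
    G ∉ p := by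
  intro hGp
  set mk := Ideal.Quotient.mkₐ k p with hmk
  set t : MvPolynomial (Fin (d + 1)) k ⧸ p := (a 0)⁻¹ • mk (X 0) with ht
  have h1 : ∀ j, mk (X j) = a j • t := by
    intro j
    have h2 : mk (C (a 0) * X j - C (a j) * X 0) = 0 := by
      rw [hmk, Ideal.Quotient.mkₐ_eq_mk]
      exact Ideal.Quotient.eq_zero_iff_mem.mpr (hp j)
    rw [map_sub, C_mul', C_mul', map_smul, map_smul, sub_eq_zero] at h2
    rw [ht, smul_comm, ← h2, smul_smul, inv_mul_cancel₀ ha, one_smul]
  have h3 : mk = aeval (fun j => a j • t) := by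
    apply MvPolynomial.algHom_ext
    intro j
    rw [aeval_X, h1]
  have h4 : mk G = 0 := by
    rw [hmk, Ideal.Quotient.mkₐ_eq_mk]
    exact Ideal.Quotient.eq_zero_iff_mem.mpr hGp
  rw [h3, aeval_smul_eq G hG a t, smul_eq_zero] at h4
  rcases h4 with h4 | h4
  · exact hGa h4
  · have h5 : t = 0 := by
      by_contra hne
      exact pow_ne_zero e hne h4
    obtain ⟨i, hi⟩ := hrel
    apply hi
    have h6 : mk (X i) = 0 := by rw [h1, h5, smul_zero]
    rw [hmk, Ideal.Quotient.mkₐ_eq_mk] at h6
    exact Ideal.Quotient.eq_zero_iff_mem.mp h6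

/-- over an infinite field a nonzero polynomial has a homogeneous component which does not
vanish at some point with nonzero first coordinate. -/
theorem exists_eval_ne_zero {k : Type u} [Field k] [Infinite k] {d : ℕ}
    (g : MvPolynomial (Fin (d + 1)) k) (hg : g ≠ 0) :
    ∃ (e : ℕ) (a : Fin (d + 1) → k), a 0 ≠ 0 ∧ eval a (homogeneousComponent e g) ≠ 0 := by
  obtain ⟨e, he⟩ : ∃ e, homogeneousComponent e g ≠ 0 := by
    by_contra hcon
    push Not at hcon
    apply hg
    rw [← sum_homogeneousComponent g]
    exact Finset.sum_eq_zero fun i _ => hcon i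
  have hG : homogeneousComponent e g * X 0 ≠ 0 := mul_ne_zero he (X_ne_zero 0)
  obtain ⟨a, ha⟩ : ∃ a : Fin (d + 1) → k, eval a (homogeneousComponent e g * X 0) ≠ 0 := by
    by_contra hcon
    push Not at hcon
    apply hG
    apply MvPolynomial.funext
    intro x
    rw [hcon x, map_zero]
  rw [map_mul, eval_X] at ha
  exact ⟨e, a, right_ne_zero_of_mul ha, left_ne_zero_of_mul ha⟩

end Groth.Agent.H2.FinProj
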