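import Mathlib
import Groth.Agent.Lib.Helper2.ProjDimDict

/-! Cutting a projective variety by linear forms over an infinite field (helper2). -/

universe u
open HomogeneousIdeal DirectSum AlgebraicGeometry

namespace Groth.Agent.H2.ProjDim

section linear
variable {k A : Type u} [Field k] [CommRing A] [Algebra k A]
  (𝒜 : ℕ → Submodule k A) [GradedAlgebra 𝒜]

/-- over an infinite field, there is a linear form avoiding all relevant minimal primes -/
theorem exists_linear_avoiding [Infinite k] [Algebra.FiniteType k A]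
    (hgen : (HomogeneousIdeal.irrelevant 𝒜).toIdeal ≤ Ideal.span (𝒜 1 : Set A)) (J : Ideal A) :
    ∃ h ∈ 𝒜 1, ∀ q ∈ J.minimalPrimes, ¬ (HomogeneousIdeal.irrelevant 𝒜).toIdeal ≤ q → h ∉ q := by
  have hnoeth : IsNoetherianRing A := Algebra.FiniteType.isNoetherianRing k A
  have hfin : J.minimalPrimes.Finite := Ideal.finite_minimalPrimes_of_isNoetherianRing A J
  by_contra hcon
  push Not at hcon
  have hfin' : Finite {q : Ideal A // q ∈ J.minimalPrimes ∧
      ¬ (HomogeneousIdeal.irrelevant 𝒜).toIdeal ≤ q} :=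
    (hfin.subset (fun q hq => hq.1) : {q : Ideal A | q ∈ J.minimalPrimes ∧
      ¬ (HomogeneousIdeal.irrelevant 𝒜).toIdeal ≤ q}.Finite)
  let p : {q : Ideal A // q ∈ J.minimalPrimes ∧
      ¬ (HomogeneousIdeal.irrelevant 𝒜).toIdeal ≤ q} → Subspace k ↥(𝒜 1) :=
    fun q => Submodule.comap (𝒜 1).subtype (q.1.restrictScalars k)
  have hcov : ⋃ i, (p i : Set ↥(𝒜 1)) = Set.univ := by
    rw [Set.eq_univ_iff_forall]
    intro h
    obtain ⟨q, hq1, hq2, hq3⟩ := hcon h.1 h.2
    exact Set.mem_iUnion.mpr ⟨⟨q, hq1, hq2⟩, hq3⟩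
  obtain ⟨⟨q, hq1, hq2⟩, hq⟩ := Subspace.exists_eq_top_of_iUnion_eq_univ hcov
  apply hq2
  refine hgen.trans (Ideal.span_le.mpr ?_)
  intro x hx
  have : (⟨x, hx⟩ : ↥(𝒜 1)) ∈ p ⟨q, hq1, hq2⟩ := by rw [hq]; trivial
  exact this

theorem ringKrullDim_sup_span_le [Algebra.FiniteType k A] (J : Ideal A) (h : A) (t : ℕ)
    (hdim : ringKrullDim (A ⧸ J) ≤ ((t + 1 : ℕ) : WithBot ℕ∞))
    (hh : ∀ q ∈ J.minimalPrimes, h ∈ q → q.IsMaximal) :
    ringKrullDim (A ⧸ (J ⊔ Ideal.span {h})) ≤ (t : WithBot ℕ∞) := by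
  apply ringKrullDim_quotient_le_of_forall_minimalPrimes
  intro q' hq'
  have hq'p : q'.IsPrime := hq'.1.1
  have hJq' : J ≤ q' := le_sup_left.trans hq'.1.2
  have hhq' : h ∈ q' := hq'.1.2 (Ideal.mem_sup_right (Ideal.mem_span_singleton_self h))
  obtain ⟨q, hq, hqq'⟩ := Ideal.exists_minimalPrimes_le hJq'
  have hqp : q.IsPrime := hq.1.1
  by_cases hhq : h ∈ q
  · have hmax := hh q hq hhq
    have heq : q = q' := hmax.eq_of_le hq'p.ne_top hqq'
    rw [← heq]
    let := Ideal.Quotient.field q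
    rw [ringKrullDim_eq_zero_of_field]
    exact_mod_cast Nat.zero_le t
  · have hlt : q < q' := lt_of_le_of_ne hqq' (by rintro rfl; exact hhq hhq')
    have h1 := ringKrullDim_quotient_add_one_le k q q' hlt
    have h2 : ringKrullDim (A ⧸ q) ≤ ringKrullDim (A ⧸ J) :=
      ringKrullDim_le_of_surjective (Ideal.Quotient.factor hq.1.2)
        (Ideal.Quotient.factor_surjective hq.1.2)
    have h3 := (h1.trans h2).trans hdim
    rw [dimQ_spec k q' hq'p.ne_top] at h3 ⊢
    have : dimQ q' + 1 ≤ t + 1 := by exact_mod_cast h3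
    have : dimQ q' ≤ t := by omega
    exact_mod_cast this

theorem exists_linear_forms [Infinite k] [Algebra.FiniteType k A] [Nontrivial A]
    (h0 : ∀ x ∈ 𝒜 0, x ≠ 0 → IsUnit x)
    (hgen : (HomogeneousIdeal.irrelevant 𝒜).toIdeal ≤ Ideal.span (𝒜 1 : Set A)) :
    ∀ (t : ℕ) (J : Ideal A), J.IsHomogeneous 𝒜 → ringKrullDim (A ⧸ J) ≤ (t : WithBot ℕ∞) →
      ∃ h : Fin t → A, (∀ i, h i ∈ 𝒜 1) ∧
        ringKrullDim (A ⧸ (J ⊔ Ideal.span (Set.range h))) ≤ 0 := by
  have hmax := irrelevant_isMaximal 𝒜 h0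
  intro t
  induction t with
  | zero =>
    intro J _ hdim
    refine ⟨Fin.elim0, fun i => i.elim0, ?_⟩
    have : Set.range (Fin.elim0 : Fin 0 → A) = ∅ := Set.range_eq_empty _
    rw [this, Ideal.span_empty, sup_bot_eq]
    exact_mod_cast hdim
  | succ t ih =>
    intro J hJ hdim
    obtain ⟨h₀, hh₀, havoid⟩ := exists_linear_avoiding 𝒜 hgen J
    have hJ' : (J ⊔ Ideal.span {h₀}).IsHomogeneous 𝒜 :=
      hJ.sup (Ideal.homogeneous_span 𝒜 {h₀} (by rintro x rfl; exact ⟨1, hh₀⟩))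
    have hdim' : ringKrullDim (A ⧸ (J ⊔ Ideal.span {h₀})) ≤ (t : WithBot ℕ∞) := by
      apply ringKrullDim_sup_span_le (k := k) J h₀ t hdim
      intro q hq hhq
      have hqp : q.IsPrime := hq.1.1
      by_contra hnmax
      apply havoid q hq _ hhq
      intro hle
      exact hnmax ((hmax.eq_of_le hqp.ne_top hle) ▸ hmax)
    obtain ⟨h', hh', hfin⟩ := ih _ hJ' hdim'
    refine ⟨Fin.cons h₀ h', ?_, ?_⟩
    · intro i
      refine Fin.cases ?_ (fun j => ?_) i
      · simpa using hh₀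
      · simpa using hh' j
    · have : Set.range (Fin.cons h₀ h' : Fin (t + 1) → A) = insert h₀ (Set.range h') := by
        rw [Fin.range_cons]
      rw [this, Ideal.span_insert, ← sup_assoc]
      exact hfin

theorem exists_irrelevant_pow_le [Algebra.FiniteType k A] [Nontrivial A]
    (h0 : ∀ x ∈ 𝒜 0, x ≠ 0 → IsUnit x) (J : Ideal A) (hJ : J.IsHomogeneous 𝒜)
    (hdim : ringKrullDim (A ⧸ J) ≤ 0) :
    ∃ N : ℕ, (HomogeneousIdeal.irrelevant 𝒜).toIdeal ^ N ≤ J := by
  have hnoeth : IsNoetherianRing A := Algebra.FiniteType.isNoetherianRing k A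
  have hmax := irrelevant_isMaximal 𝒜 h0
  have hprime : (HomogeneousIdeal.irrelevant 𝒜).toIdeal.IsPrime := hmax.isPrime
  apply Ideal.exists_pow_le_of_le_radical_of_fg _ (IsNoetherian.noetherian _)
  rw [← Ideal.sInf_minimalPrimes]
  apply le_sInf
  intro q hq
  have hqp : q.IsPrime := hq.1.1
  have hqh := isHomogeneous_of_mem_minimalPrimes 𝒜 hJ hq
  have hle := le_irrelevant 𝒜 h0 q hqh hqp.ne_top
  by_contra hcon
  have hlt : q < (HomogeneousIdeal.irrelevant 𝒜).toIdeal :=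
    lt_of_le_of_ne hle (fun h => hcon h.ge)
  have h1 := ringKrullDim_quotient_add_one_le k q _ hlt
  have h2 : ringKrullDim (A ⧸ q) ≤ ringKrullDim (A ⧸ J) :=
    ringKrullDim_le_of_surjective (Ideal.Quotient.factor hq.1.2)
      (Ideal.Quotient.factor_surjective hq.1.2)
  rw [ringKrullDim_quotient_irrelevant 𝒜 h0, zero_add] at h1
  exact absurd (h1.trans (h2.trans hdim)) (by decide)

end linear

end Groth.Agent.H2.ProjDim
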