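import Mathlib
import Groth.Agent.Lib.Helper2.ProjDimDict
import Groth.Agent.Lib.Helper2.ProjDimPoly
import Groth.Agent.Lib.Helper2.ProjDimLinear

/-! Linear sections of projective varieties in projective space (helper2). -/

universe u
open HomogeneousIdeal DirectSum AlgebraicGeometry

namespace Groth.Agent.H2.ProjDim

section polyLinear
variable (k : Type u) [Field k] (n : ℕ)

theorem poly_irrelevant_le_span_one :
    (HomogeneousIdeal.irrelevant (CohB1.polyGrading n k)).toIdeal ≤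
      Ideal.span ((CohB1.polyGrading n k 1 : Submodule k (MvPolynomial (Fin (n + 1)) k)) : Set _) := by
  rw [HomogeneousIdeal.irrelevant_eq_span, Ideal.span_le]
  intro f hf
  simp only [Set.mem_iUnion] at hf
  obtain ⟨i, hi, hfi⟩ := hf
  obtain ⟨j, rfl⟩ : ∃ j, i = j + 1 := ⟨i - 1, by omega⟩
  have h1 : f ∈ (MvPolynomial.homogeneousSubmodule (Fin (n + 1)) k 1) ^ j *
      MvPolynomial.homogeneousSubmodule (Fin (n + 1)) k 1 := by
    rw [← pow_succ, MvPolynomial.homogeneousSubmodule_one_pow]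
    exact hfi
  refine Submodule.mul_induction_on h1 ?_ ?_
  · intro a _ b hb
    exact Ideal.mul_mem_left _ a (Ideal.subset_span hb)
  · intro a b ha hb
    exact Ideal.add_mem _ ha hb

theorem span_X_le_irrelevant :
    Ideal.span (Set.range (MvPolynomial.X : Fin (n + 1) → MvPolynomial (Fin (n + 1)) k)) ≤
      (HomogeneousIdeal.irrelevant (CohB1.polyGrading n k)).toIdeal := by
  rw [Ideal.span_le]
  rintro _ ⟨i, rfl⟩
  exact HomogeneousIdeal.mem_irrelevant_of_mem _ Nat.one_pos (MvPolynomial.isHomogeneous_X k i)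

theorem exists_linear_forms_poly [Infinite k] (r : ℕ)
    (I : Ideal (MvPolynomial (Fin (n + 1)) k)) (hIh : I.IsHomogeneous (CohB1.polyGrading n k))
    (hdim : ringKrullDim (MvPolynomial (Fin (n + 1)) k ⧸ I) ≤ ((r + 1 : ℕ) : WithBot ℕ∞)) :
    ∃ h : Fin (r + 1) → MvPolynomial (Fin (n + 1)) k, (∀ i, (h i).IsHomogeneous 1) ∧
      ∃ N : ℕ, (Ideal.span (Set.range
        (MvPolynomial.X : Fin (n + 1) → MvPolynomial (Fin (n + 1)) k))) ^ N ≤
        I ⊔ Ideal.span (Set.range h) := by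
  have h0 := mvPolynomial_h0 k (Fin (n + 1))
  obtain ⟨h, hh, hfin⟩ := exists_linear_forms (CohB1.polyGrading n k) h0
    (poly_irrelevant_le_span_one k n) (r + 1) I hIh hdim
  refine ⟨h, hh, ?_⟩
  have hJh : (I ⊔ Ideal.span (Set.range h)).IsHomogeneous (CohB1.polyGrading n k) :=
    hIh.sup (Ideal.homogeneous_span _ _ (by rintro _ ⟨i, rfl⟩; exact ⟨1, hh i⟩))
  obtain ⟨N, hN⟩ := exists_irrelevant_pow_le (CohB1.polyGrading n k) h0 _ hJh hfin
  exact ⟨N, (Ideal.pow_right_mono (span_X_le_irrelevant k n) N).trans hN⟩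

end polyLinear

end Groth.Agent.H2.ProjDim
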