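import Mathlib
import Groth.Agent.Lib.Helper2.ProjDimDict
import Groth.Agent.Lib.Helper2.ProjDimPolyLinear

/-! # Sections of a projective closed set of dimension `d` by `d` hypersurfaces (helper2) -/

set_option autoImplicit false
universe u
open HomogeneousIdeal DirectSum AlgebraicGeometry

namespace Groth.Agent.H2.FinProj

open Groth.Agent.H2.ProjDim

section
variable {k A : Type u} [Field k] [CommRing A] [Algebra k A]
  (𝒜 : ℕ → Submodule k A) [GradedAlgebra 𝒜]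

/-- a homogeneous ideal `I` with `dim A/I = d + 1` has a relevant homogeneous minimal prime of
the same dimension. -/
theorem exists_minimalPrime_dim [Algebra.FiniteType k A] [Nontrivial A]
    (h0 : ∀ x ∈ 𝒜 0, x ≠ 0 → IsUnit x) (I : Ideal A) (hI : I.IsHomogeneous 𝒜) (d : ℕ)
    (hdim : ringKrullDim (A ⧸ I) = ((d + 1 : ℕ) : WithBot ℕ∞)) :
    ∃ x : ProjectiveSpectrum 𝒜, I ≤ x.asHomogeneousIdeal.toIdeal ∧
      ringKrullDim (A ⧸ x.asHomogeneousIdeal.toIdeal) = ((d + 1 : ℕ) : WithBot ℕ∞) := by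
  obtain ⟨q, hq, hqd⟩ : ∃ q ∈ I.minimalPrimes,
      ¬ ringKrullDim (A ⧸ q) ≤ ((d : ℕ) : WithBot ℕ∞) := by
    by_contra hcon
    push Not at hcon
    have := ringKrullDim_quotient_le_of_forall_minimalPrimes I _ hcon
    rw [hdim] at this
    have h2 : (d + 1 : ℕ) ≤ d := by exact_mod_cast this
    omega
  have hqp : q.IsPrime := hq.1.1
  have hqI : I ≤ q := hq.1.2
  have hle : ringKrullDim (A ⧸ q) ≤ ((d + 1 : ℕ) : WithBot ℕ∞) := by
    rw [← hdim]
    exact ringKrullDim_le_of_surjective (Ideal.Quotient.factor hqI)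
      (Ideal.Quotient.factor_surjective hqI)
  have hqeq : ringKrullDim (A ⧸ q) = ((d + 1 : ℕ) : WithBot ℕ∞) := by
    rw [dimQ_spec k q hqp.ne_top] at hle hqd ⊢
    have h1 : dimQ q ≤ d + 1 := by exact_mod_cast hle
    have h2 : ¬ dimQ q ≤ d := fun h => hqd (by exact_mod_cast h)
    have : dimQ q = d + 1 := by omega
    rw [this]
  have hqh : q.IsHomogeneous 𝒜 := isHomogeneous_of_mem_minimalPrimes 𝒜 hI hq
  have hrel : ¬ (HomogeneousIdeal.irrelevant 𝒜).toIdeal ≤ q := by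
    intro hirr
    have hmax := irrelevant_isMaximal 𝒜 h0
    have : (HomogeneousIdeal.irrelevant 𝒜).toIdeal = q := hmax.eq_of_le hqp.ne_top hirr
    rw [← this, ringKrullDim_quotient_irrelevant 𝒜 h0] at hqeq
    have h3 : (0 : ℕ) = d + 1 := by exact_mod_cast hqeq
    omega
  exact ⟨mkPoint 𝒜 q hqp hqh hrel, hqI, hqeq⟩

/-- **a closed subset `V_+(I)` of dimension `d` meets any `d` hypersurfaces.** -/
theorem nonempty_zeroLocus_inter_of_card_le [Algebra.FiniteType k A] [Nontrivial A]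
    (h0 : ∀ x ∈ 𝒜 0, x ≠ 0 → IsUnit x) (I : Ideal A) (hI : I.IsHomogeneous 𝒜) (d : ℕ)
    (hdim : ringKrullDim (A ⧸ I) = ((d + 1 : ℕ) : WithBot ℕ∞)) (s : Finset A)
    (hs : ∀ f ∈ s, ∃ i, 0 < i ∧ f ∈ 𝒜 i) (hcard : s.card ≤ d) :
    (ProjectiveSpectrum.zeroLocus 𝒜 (I : Set A) ∩
      ProjectiveSpectrum.zeroLocus 𝒜 (s : Set A)).Nonempty := by
  obtain ⟨x, hIx, hx⟩ := exists_minimalPrime_dim 𝒜 h0 I hI d hdim
  have h1 := topologicalKrullDim_closure_add_one 𝒜 h0 x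
  rw [hx] at h1
  have h2 : topologicalKrullDim
      ↥(ProjectiveSpectrum.zeroLocus 𝒜 (x.asHomogeneousIdeal.toIdeal : Set A)) =
      (d : WithBot ℕ∞) := by
    apply withBot_enat_add_one_cancel
    rw [h1]
    push_cast
    rfl
  obtain ⟨z, hz1, hz2⟩ := (complete_intersection_section 𝒜 h0 x s hs d hcard).2 h2.ge
  refine ⟨z, ?_, hz2⟩
  rw [ProjectiveSpectrum.mem_zeroLocus] at hz1 ⊢
  exact fun a ha => hz1 (hIx ha)

end

end Groth.Agent.H2.FinProj
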