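import Mathlib
import Groth.Agent.Lib.Helper2.FinProjA
import Groth.Agent.Lib.Helper2.FinProjB
import Groth.Agent.Lib.Helper2.FinProjC
import Groth.Agent.Lib.Helper5.SepPT.H
import Groth.Agent.Lib.Helper5.Segre.A
import Groth.Agent.Lib.Lead.QC.PullInv

/-! # Finite surjective linear projections (helper2)

A closed subscheme `X` of `P^N_k` of dimension `d`, over an infinite field, admits a finite
surjective morphism `π : X ⟶ P^d_k` over `k` with `π^* O(1) ≅ O_X(1)`. -/

set_option autoImplicit false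
universe u
open CategoryTheory AlgebraicGeometry TopologicalSpace Opposite HomogeneousLocalization

namespace Groth.Agent.H2.FinProj

open Groth.Agent.LD Twist Groth.Agent.H2.PUP Groth.Agent.H5.SepPT Groth.Agent.H2.ProjDim

variable (k : Type u) [Field k] (N d : ℕ) {X : Scheme.{u}}
  (ι : X ⟶ Proj (CohB1.polyGrading N k)) [IsClosedImmersion ι]

/-- the homogeneous ideal of a closed subscheme of dimension `d` of projective space. -/
theorem exists_ideal (hdim : topologicalKrullDim X = (d : WithBot ℕ∞)) :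
    ∃ I : Ideal (MvPolynomial (Fin (N + 1)) k), I.IsHomogeneous (CohB1.polyGrading N k) ∧
      ProjectiveSpectrum.zeroLocus (CohB1.polyGrading N k) (I : Set _) =
        (Set.range ι : Set (ProjectiveSpectrum (CohB1.polyGrading N k))) ∧
      ringKrullDim (MvPolynomial (Fin (N + 1)) k ⧸ I) = ((d + 1 : ℕ) : WithBot ℕ∞) := by
  set Z : Set (ProjectiveSpectrum (CohB1.polyGrading N k)) := Set.range ι with hZdef
  have hZc : IsClosed Z := ι.isClosedEmbedding.isClosed_range
  have hZ : ProjectiveSpectrum.zeroLocus (CohB1.polyGrading N k)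
      ((ProjectiveSpectrum.vanishingIdeal Z).toIdeal : Set _) = Z := by
    have := ProjectiveSpectrum.zeroLocus_vanishingIdeal_eq_closure (CohB1.polyGrading N k) Z
    rw [hZc.closure_eq] at this
    exact this
  have hdimZ : topologicalKrullDim ↥Z = (d : WithBot ℕ∞) := by
    rw [← hdim]
    exact (IsHomeomorph.topologicalKrullDim_eq _
      (ι.isEmbedding.toHomeomorph).isHomeomorph).symm
  have hne : Z.Nonempty := by
    have h1 : (0 : WithBot ℕ∞) ≤ topologicalKrullDim X := by
      rw [hdim]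
      exact_mod_cast Nat.zero_le d
    obtain ⟨T⟩ := Order.krullDim_nonneg_iff.mp h1
    obtain ⟨x, -⟩ := T.isIrreducible.nonempty
    exact ⟨ι x, x, rfl⟩
  refine ⟨(ProjectiveSpectrum.vanishingIdeal Z).toIdeal,
    (ProjectiveSpectrum.vanishingIdeal Z).isHomogeneous, hZ, ?_⟩
  have h1 := topologicalKrullDim_zeroLocus_add_one (CohB1.polyGrading N k)
    (mvPolynomial_h0 k (Fin (N + 1))) _ (ProjectiveSpectrum.vanishingIdeal Z).isHomogeneous
    (by rw [hZ]; exact hne)
  rw [hZ, hdimZ] at h1
  rw [← h1]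
  push_cast
  rfl

/-- a linear form is `ℓ_c` for its vector of coefficients. -/
theorem exists_eq_ιPn (F : MvPolynomial (Fin (N + 1)) k) (hF : F.IsHomogeneous 1) :
    ∃ c : Fin (N + 1) → k, F = ιPn N k c := by
  have h1 : F ∈ MvPolynomial.homogeneousSubmodule (Fin (N + 1)) k 1 := hF
  rw [MvPolynomial.homogeneousSubmodule_one_eq_span_X,
    Submodule.mem_span_range_iff_exists_fun] at h1
  obtain ⟨c, hc⟩ := h1
  exact ⟨c, by rw [ιPn_apply, hc]⟩

/-- **`d + 1` linear forms without common zero** on a closed subscheme of dimension `d`. -/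
theorem exists_forms [Infinite k] (I : Ideal (MvPolynomial (Fin (N + 1)) k))
    (hI : I.IsHomogeneous (CohB1.polyGrading N k))
    (hZ : ProjectiveSpectrum.zeroLocus (CohB1.polyGrading N k) (I : Set _) =
      (Set.range ι : Set (ProjectiveSpectrum (CohB1.polyGrading N k))))
    (hdimI : ringKrullDim (MvPolynomial (Fin (N + 1)) k ⧸ I) = ((d + 1 : ℕ) : WithBot ℕ∞)) :
    ∃ C : Fin (d + 1) → (Fin (N + 1) → k),
      ∀ P : X, ∃ i, ιPn N k (C i) ∉ (ι P).asHomogeneousIdeal := by
  obtain ⟨h, hh, N', hN'⟩ := exists_linear_forms_poly k N d I hI hdimI.le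
  choose C hC using fun i => exists_eq_ιPn k N (h i) (hh i)
  refine ⟨C, fun P => ?_⟩
  by_contra hcon
  push Not at hcon
  have hP : (ι P : ProjectiveSpectrum (CohB1.polyGrading N k)) ∈
      ProjectiveSpectrum.zeroLocus (CohB1.polyGrading N k) (I : Set _) := by
    rw [hZ]; exact ⟨P, rfl⟩
  replace hP := (ProjectiveSpectrum.mem_zeroLocus (CohB1.polyGrading N k)
    (ι P : ProjectiveSpectrum (CohB1.polyGrading N k)) _).mp hP
  have h1 : I ⊔ Ideal.span (Set.range h) ≤ (ι P).asHomogeneousIdeal.toIdeal := by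
    apply sup_le
    · exact hP
    · rw [Ideal.span_le]
      rintro _ ⟨i, rfl⟩
      rw [hC i]
      exact hcon i
  obtain ⟨j, hj⟩ := exists_mem_chart N k (ι P)
  rw [Proj.mem_basicOpen] at hj
  apply hj
  have h2 : (MvPolynomial.X j : MvPolynomial (Fin (N + 1)) k) ^ N' ∈
      (ι P).asHomogeneousIdeal.toIdeal :=
    h1 (hN' (Ideal.pow_mem_pow (Ideal.subset_span (Set.mem_range_self j)) N'))
  exact (ι P).isPrime.mem_of_pow_mem N' h2

end Groth.Agent.H2.FinProj
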