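import Mathlib
import Groth.Agent.Lib.Helper2.FinProjD

/-! # Finite surjective linear projections: construction (helper2) -/

set_option autoImplicit false
universe u
open CategoryTheory AlgebraicGeometry TopologicalSpace Opposite HomogeneousLocalization

namespace Groth.Agent.H2.FinProj

open Groth.Agent.LD Twist Groth.Agent.H2.PUP Groth.Agent.H5.SepPT Groth.Agent.H2.ProjDim

variable (k : Type u) [Field k] (N d : ℕ) {X : Scheme.{u}}
  (ι : X ⟶ Proj (CohB1.polyGrading N k)) [IsClosedImmersion ι]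

/-- **the linear projection**: its construction and the comparison of hyperplane complements. -/
theorem exists_projection [Infinite k] (hdim : topologicalKrullDim X = (d : WithBot ℕ∞)) :
    ∃ (I : Ideal (MvPolynomial (Fin (N + 1)) k))
      (Λ : (Fin (d + 1) → k) →ₗ[k] (Fin (N + 1) → k))
      (π : X ⟶ Proj (CohB1.polyGrading d k)),
      I.IsHomogeneous (CohB1.polyGrading N k) ∧
      ProjectiveSpectrum.zeroLocus (CohB1.polyGrading N k) (I : Set _) =
        (Set.range ι : Set (ProjectiveSpectrum (CohB1.polyGrading N k))) ∧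
      ringKrullDim (MvPolynomial (Fin (N + 1)) k ⧸ I) = ((d + 1 : ℕ) : WithBot ℕ∞) ∧
      π ≫ projStr (CohB1.polyGrading d k) = ι ≫ projStr (CohB1.polyGrading N k) ∧
      Nonempty ((Scheme.Modules.pullback π).obj (twist (CohB1.polyGrading d k) 1) ≅
        (Scheme.Modules.pullback ι).obj (twist (CohB1.polyGrading N k) 1)) ∧
      ∀ a : Fin (d + 1) → k,
        π ⁻¹ᵁ Proj.basicOpen (CohB1.polyGrading d k) (ιPn d k a) =
          ι ⁻¹ᵁ Proj.basicOpen (CohB1.polyGrading N k) (ιPn N k (Λ a)) := by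
  obtain ⟨I, hI, hZ, hdimI⟩ := exists_ideal k N d ι hdim
  obtain ⟨C, hC⟩ := exists_forms k N d ι I hI hZ hdimI
  set f := ι ≫ projStr (CohB1.polyGrading N k) with hf
  set L := (Scheme.Modules.pullback ι).obj (twist (CohB1.polyGrading N k) 1) with hLdef
  let t : Fin (N + 1) → ProjUP.Γm L := fun j =>
    ProjUP.pullSec ι (twist (CohB1.polyGrading N k) 1)
      (sec1 (CohB1.polyGrading N k) (hX N k j))
  let Λ : (Fin (d + 1) → k) →ₗ[k] (Fin (N + 1) → k) := Fintype.linearCombination k C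
  let v : (Fin (d + 1) → k) →+ ProjUP.Γm L :=
    (vOfFamily N f L t).comp Λ.toAddMonoidHom
  have hvsec : ∀ a, v a = secC N k f ι (Λ a) := fun a => rfl
  have hv : ∀ (b : k) (a : Fin (d + 1) → k), v (b • a) = ProjUP.toGlobal f b • v a := by
    intro b a
    change vOfFamily N f L t (Λ (b • a)) = ProjUP.toGlobal f b • vOfFamily N f L t (Λ a)
    rw [map_smul, vOfFamily_smul]
  have hL : PicF.IsInvertible L :=
    QC.isInvertible_pullback ι
      (isInvertible_twist (CohB1.polyGrading N k) (ιPn N k) (ιPn_mem N k)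
        (isSymmetricAlgebra_ιPn N k) 1)
  have hΛ : ∀ i, Λ (Pi.single i 1) = C i := by
    intro i
    simp [Λ]
  have hgen : ProjUP.GeneratedBy L v := by
    apply Groth.Agent.H5.Segre.generatedBy_of_local_basis L v
    intro x
    obtain ⟨i, hi⟩ := hC x
    refine ⟨Pi.single i 1, ι ⁻¹ᵁ Proj.basicOpen (CohB1.polyGrading N k) (ιPn N k (C i)), ?_, ?_⟩
    · exact (Proj.mem_basicOpen _ _ _).mpr hi
    · rw [hvsec, hΛ]
      exact (le_preimage_basicOpen_iff N k f ι rfl (C i) _).mp le_rfl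
  obtain ⟨π, hπ, τ, hτ⟩ := exists_hom_iso (CohB1.polyGrading d k) (ιPn d k) (ιPn_mem d k)
    (isSymmetricAlgebra_ιPn d k) f L v hv hL hgen
  refine ⟨I, Λ, π, hI, hZ, hdimI, hπ, ⟨τ⟩, fun a => ?_⟩
  apply preimage_basicOpen_eq k f π ι hπ rfl τ a (Λ a)
  rw [← pullSec_sec1_ιPn d k f π hπ a, hτ a]
  rfl

end Groth.Agent.H2.FinProj
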