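import Mathlib
import Groth.Agent.Lib.Helper2.FinProjE

/-! # Finite surjective linear projections: finiteness and surjectivity (helper2) -/

set_option autoImplicit false
universe u
open CategoryTheory AlgebraicGeometry TopologicalSpace Opposite HomogeneousLocalization

namespace Groth.Agent.H2.FinProj

open Groth.Agent.LD Twist Groth.Agent.H2.PUP Groth.Agent.H5.SepPT Groth.Agent.H2.ProjDim

variable (k : Type u) [Field k] (N d : ℕ) {X : Scheme.{u}}
  (ι : X ⟶ Proj (CohB1.polyGrading N k)) [IsClosedImmersion ι]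

/-- the structure morphism of projective space, in `projStr` form, is proper. -/
theorem isProper_projStr (n : ℕ) : IsProper (projStr (CohB1.polyGrading n k)) :=
  Groth.Agent.H5.SepPT.isProper_toSpec n k

/-- **finiteness of the projection.** -/
theorem isFinite_of_projection (Λ : (Fin (d + 1) → k) →ₗ[k] (Fin (N + 1) → k))
    (π : X ⟶ Proj (CohB1.polyGrading d k))
    (hπ : π ≫ projStr (CohB1.polyGrading d k) = ι ≫ projStr (CohB1.polyGrading N k))
    (key : ∀ a : Fin (d + 1) → k,
      π ⁻¹ᵁ Proj.basicOpen (CohB1.polyGrading d k) (ιPn d k a) =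
        ι ⁻¹ᵁ Proj.basicOpen (CohB1.polyGrading N k) (ιPn N k (Λ a))) : IsFinite π := by
  have haff : IsAffineHom π := by
    apply isAffineHom_of_forall_exists_isAffineOpen
    intro y
    obtain ⟨i, hi⟩ := exists_mem_chart d k y
    refine ⟨Proj.basicOpen (CohB1.polyGrading d k) (MvPolynomial.X i), hi,
      Proj.isAffineOpen_basicOpen _ _ (hX d k i) Nat.one_pos, ?_⟩
    rw [← ιPn_single d k i, key]
    exact (Proj.isAffineOpen_basicOpen _ _ (ιPn_mem N k _) Nat.one_pos).preimage ι
  have hprop : IsProper π := by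
    have := isProper_projStr k N
    have := isProper_projStr k d
    have h1 : IsProper (ι ≫ projStr (CohB1.polyGrading N k)) := inferInstance
    have h2 : IsProper (π ≫ projStr (CohB1.polyGrading d k)) := by rw [hπ]; exact h1
    exact IsProper.of_comp π (projStr (CohB1.polyGrading d k))
  exact IsFinite.iff_isProper_and_isAffineHom.mpr ⟨hprop, haff⟩

/-- **surjectivity of the projection.** -/
theorem surjective_of_projection [Infinite k]
    (I : Ideal (MvPolynomial (Fin (N + 1)) k))
    (hI : I.IsHomogeneous (CohB1.polyGrading N k))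
    (hZ : ProjectiveSpectrum.zeroLocus (CohB1.polyGrading N k) (I : Set _) =
      (Set.range ι : Set (ProjectiveSpectrum (CohB1.polyGrading N k))))
    (hdimI : ringKrullDim (MvPolynomial (Fin (N + 1)) k ⧸ I) = ((d + 1 : ℕ) : WithBot ℕ∞))
    (Λ : (Fin (d + 1) → k) →ₗ[k] (Fin (N + 1) → k))
    (π : X ⟶ Proj (CohB1.polyGrading d k)) [UniversallyClosed π]
    (key : ∀ a : Fin (d + 1) → k,
      π ⁻¹ᵁ Proj.basicOpen (CohB1.polyGrading d k) (ιPn d k a) =
        ι ⁻¹ᵁ Proj.basicOpen (CohB1.polyGrading N k) (ιPn N k (Λ a))) :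
    Function.Surjective π := by
  classical
  intro y
  by_contra hy
  have hy' : y ∈ (Set.range π : Set (ProjectiveSpectrum (CohB1.polyGrading d k)))ᶜ := hy
  have hopen : IsOpen (Set.range π : Set (ProjectiveSpectrum (CohB1.polyGrading d k)))ᶜ :=
    π.isClosedMap.isClosed_range.isOpen_compl
  obtain ⟨_, ⟨g, rfl⟩, hyg, hgsub⟩ :=
    (ProjectiveSpectrum.isTopologicalBasis_basic_opens
      (CohB1.polyGrading d k)).exists_subset_of_mem_open hy' hopen
  have hyg' : g ∉ (y : ProjectiveSpectrum (CohB1.polyGrading d k)).asHomogeneousIdeal := hyg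
  have hg0 : g ≠ 0 := by
    rintro rfl
    exact hyg' (zero_mem _)
  obtain ⟨e, a, ha0, hGa⟩ := exists_eval_ne_zero g hg0
  -- the linear forms vanishing at `a`
  let m : Fin (d + 1) → (Fin (d + 1) → k) := fun j => a 0 • Pi.single j 1 - a j • Pi.single 0 1
  have hm : ∀ j, ιPn d k (m j) =
      MvPolynomial.C (a 0) * MvPolynomial.X j - MvPolynomial.C (a j) * MvPolynomial.X 0 := by
    intro j
    simp only [m, map_sub, map_smul, ιPn_single, MvPolynomial.smul_eq_C_mul]
  let s : Finset (MvPolynomial (Fin (N + 1)) k) :=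
    Finset.univ.image (fun j : Fin d => ιPn N k (Λ (m j.succ)))
  have hs : ∀ F ∈ s, ∃ i, 0 < i ∧ F ∈ CohB1.polyGrading N k i := by
    intro F hF
    obtain ⟨j, -, rfl⟩ := Finset.mem_image.mp hF
    exact ⟨1, Nat.one_pos, ιPn_mem N k _⟩
  have hcard : s.card ≤ d := by
    refine Finset.card_image_le.trans ?_
    rw [Finset.card_univ, Fintype.card_fin]
  obtain ⟨z, hz1, hz2⟩ := nonempty_zeroLocus_inter_of_card_le (CohB1.polyGrading N k)
    (mvPolynomial_h0 k (Fin (N + 1))) I hI d hdimI s hs hcard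
  rw [hZ] at hz1
  obtain ⟨P, rfl⟩ := hz1
  replace hz2 := (ProjectiveSpectrum.mem_zeroLocus (CohB1.polyGrading N k)
    (ι P : ProjectiveSpectrum (CohB1.polyGrading N k)) _).mp hz2
  have hM : ∀ j, ιPn N k (Λ (m j)) ∈ (ι P).asHomogeneousIdeal := by
    intro j
    refine Fin.cases ?_ (fun j' => ?_) j
    · have h0 : m 0 = 0 := by simp [m]
      rw [h0, map_zero, map_zero]
      exact zero_mem _
    · exact hz2 (Finset.mem_coe.mpr (Finset.mem_image_of_mem _ (Finset.mem_univ j')))
  have hmπ : ∀ j, ιPn d k (m j) ∈ (π P).asHomogeneousIdeal := by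
    intro j
    by_contra hcon
    have h1 : P ∈ π ⁻¹ᵁ Proj.basicOpen (CohB1.polyGrading d k) (ιPn d k (m j)) :=
      (Proj.mem_basicOpen _ _ _).mpr hcon
    rw [key] at h1
    exact (Proj.mem_basicOpen _ _ _).mp h1 (hM j)
  have hrel : ∃ i, (MvPolynomial.X i : MvPolynomial (Fin (d + 1)) k) ∉
      (π P).asHomogeneousIdeal.toIdeal := by
    obtain ⟨i, hi⟩ := exists_mem_chart d k (π P)
    exact ⟨i, (Proj.mem_basicOpen _ _ _).mp hi⟩
  have := (π P).isPrime
  have hG := notMem_of_eval_ne_zero (π P).asHomogeneousIdeal.toIdeal a ha0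
    (fun j => by rw [← hm j]; exact hmπ j) hrel (MvPolynomial.homogeneousComponent e g)
    (MvPolynomial.homogeneousComponent_isHomogeneous e g) hGa
  have hgπ : g ∉ (π P).asHomogeneousIdeal := fun hmem =>
    hG (MvPolynomial.homogeneousComponent_mem_of_mem
      ((π P).asHomogeneousIdeal.isHomogeneous) hmem e)
  have h3 : (π P : ProjectiveSpectrum (CohB1.polyGrading d k)) ∈
      (Set.range π : Set (ProjectiveSpectrum (CohB1.polyGrading d k)))ᶜ := hgsub hgπ
  exact h3 ⟨P, rfl⟩

end Groth.Agent.H2.FinProj
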