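import Mathlib
import Groth.Agent.Lib.Helper2.FinProjF

/-! # Finite surjective linear projections: main theorem (helper2) -/

set_option autoImplicit false
universe u
open CategoryTheory AlgebraicGeometry TopologicalSpace Opposite HomogeneousLocalization

namespace Groth.Agent.H2.FinProj

open Groth.Agent.LD Twist Groth.Agent.H2.PUP

/-- **Projective Noether normalisation**: a closed subscheme `X` of `P^N_k` of dimension `d`
over an infinite field `k` admits a finite surjective `k`-morphism `π : X ⟶ P^d_k` with
`π^* O(1) ≅ O_X(1)`. -/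
theorem exists_finite_surjective (k : Type u) [Field k] [Infinite k] (N d : ℕ) {X : Scheme.{u}}
    (ι : X ⟶ Proj (CohB1.polyGrading N k)) [IsClosedImmersion ι]
    (hdim : topologicalKrullDim X = (d : WithBot ℕ∞)) :
    ∃ π : X ⟶ Proj (CohB1.polyGrading d k),
      π ≫ projStr (CohB1.polyGrading d k) = ι ≫ projStr (CohB1.polyGrading N k) ∧ IsFinite π ∧
      Function.Surjective π ∧
      Nonempty ((Scheme.Modules.pullback π).obj (twist (CohB1.polyGrading d k) 1) ≅
        (Scheme.Modules.pullback ι).obj (twist (CohB1.polyGrading N k) 1)) := by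
  obtain ⟨I, Λ, π, hI, hZ, hdimI, hπ, hτ, key⟩ := exists_projection k N d ι hdim
  have hfin := isFinite_of_projection k N d ι Λ π hπ key
  exact ⟨π, hπ, hfin, surjective_of_projection k N d ι I hI hZ hdimI Λ π key, hτ⟩

end Groth.Agent.H2.FinProj
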