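import Mathlib
import Groth.Prelude.Def_EtBase
import Groth.Prelude.Def_EtCore
import Groth.Agent.Lib.Helper2.FinStalkF
import Groth.Agent.Lib.Helper2.FinBCC
import Groth.Agent.Lib.Helper7.ST5
import Groth.Agent.Lib.Helper7.ST12

set_option autoImplicit false
set_option linter.style.haveILetI false
set_option linter.unusedVariables false
universe u
open CategoryTheory CategoryTheory.Limits AlgebraicGeometry MorphismProperty TopologicalSpace Opposite

namespace Groth.Agent.H2.FinStalk

section Nat

variable {X Y : Scheme.{u}} (f : X ⟶ Y) {Ω : Type u} [Field Ω] [IsSepClosed Ω]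

/-- `proj` is natural in the sheaf. -/
lemma proj_naturality {F G : EtCoh.Ab X} (a : F ⟶ G) (η : Spec (.of Ω) ⟶ Y)
    (ξ : Spec (.of Ω) ⟶ X) (hξ : ξ ≫ f = η) :
    (EtCoh.stalk η).map ((EtCoh.push f).map a) ≫ proj f G η ξ hξ =
      proj f F η ξ hξ ≫ (EtCoh.stalk ξ).map a := by
  apply (Scheme.pointSmallEtale η).presheafFiber_hom_ext
  intro V x
  have h1 := (Scheme.pointSmallEtale η).toPresheafFiber_naturality
    ((EtCoh.push f).map a).hom V x
  have h2 := germ_proj f G η ξ hξ V x
  have h3 := germ_proj f F η ξ hξ V x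
  have h4 := (Scheme.pointSmallEtale ξ).toPresheafFiber_naturality a.hom
    ((EtCoh.bc f).obj V) (liftPt f η ξ hξ V x)
  change (Scheme.pointSmallEtale η).toPresheafFiber V x ((EtCoh.push f).obj F).obj ≫
    (Scheme.pointSmallEtale η).presheafFiber.map ((EtCoh.push f).map a).hom ≫
      proj f G η ξ hξ =
    (Scheme.pointSmallEtale η).toPresheafFiber V x ((EtCoh.push f).obj F).obj ≫
      proj f F η ξ hξ ≫ (Scheme.pointSmallEtale ξ).presheafFiber.map a.hom
  rw [reassoc_of% h1, h2, reassoc_of% h3]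
  exact h4.symm

lemma proj_naturality_apply {F G : EtCoh.Ab X} (a : F ⟶ G) (η : Spec (.of Ω) ⟶ Y)
    (ξ : Spec (.of Ω) ⟶ X) (hξ : ξ ≫ f = η)
    (z : ToType ((EtCoh.stalk η).obj ((EtCoh.push f).obj F))) :
    proj f G η ξ hξ ((EtCoh.stalk η).map ((EtCoh.push f).map a) z) =
      (EtCoh.stalk ξ).map a (proj f F η ξ hξ z) :=
  ConcreteCategory.congr_hom (proj_naturality f a η ξ hξ) z

end Nat

section Exact

variable {X Y : Scheme.{u}} (f : X ⟶ Y) [IsFinite f]

/-- For finite `f` and an epimorphism `a`, `f_* a` is surjective on stalks at algebraically closed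
geometric points. -/
theorem stalk_push_map_surjective {F G : EtCoh.Ab X} (a : F ⟶ G) [Epi a]
    {Ω : Type u} [Field Ω] [IsAlgClosed Ω] (η : Spec (.of Ω) ⟶ Y) :
    Function.Surjective ((EtCoh.stalk η).map ((EtCoh.push f).map a)) := by
  intro z
  have hsurj : ∀ ξ : {ξ // ξ ≫ f = η}, Function.Surjective ((EtCoh.stalk ξ.1).map a) := by
    intro ξ
    rw [← AddCommGrpCat.epi_iff_surjective]
    infer_instance
  choose s hs using fun ξ : {ξ // ξ ≫ f = η} => hsurj ξ (proj f G η ξ.1 ξ.2 z)
  obtain ⟨w, hw⟩ := proj_surjective f F η s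
  refine ⟨w, ?_⟩
  have hsub : (EtCoh.stalk η).map ((EtCoh.push f).map a) w - z = 0 := by
    apply proj_injective f G η
    intro ξ hξ
    rw [map_sub, proj_naturality_apply, hw ⟨ξ, hξ⟩, hs ⟨ξ, hξ⟩, sub_self]
  exact sub_eq_zero.mp hsub

/-- The direct image along a finite morphism preserves epimorphisms of abelian étale sheaves. -/
theorem epi_push_of_finite {F G : EtCoh.Ab X} (a : F ⟶ G) [Epi a] :
    Epi ((EtCoh.push f).map a) :=
  Groth.Agent.H7.ST.ab_epi_of_family (fun y : Y => Groth.Agent.H2.FinBC.algξ Y y)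
    (Groth.Agent.H2.FinBC.iUnion_range_algξ Y) _
    (fun y => stalk_push_map_surjective f a (Groth.Agent.H2.FinBC.algξ Y y))

end Exact

end Groth.Agent.H2.FinStalk

namespace Groth.Agent.H2.FinStalk

section Hens

variable {X Y : Scheme.{u}} (f : X ⟶ Y) [IsFinite f]

instance push_preservesEpimorphisms_of_finite : (EtCoh.push f).PreservesEpimorphisms :=
  ⟨fun a _ => epi_push_of_finite f a⟩

variable (R : Type u) [CommRing R] [HenselianLocalRing R]
  [IsSepClosed (IsLocalRing.ResidueField R)] (Z : Scheme.{u})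
  (g : Z ⟶ Spec (CommRingCat.of R)) [IsFinite g]

include g in
lemma gsec_preservesEpimorphisms_of_finite : (EtCore.gsec Z).PreservesEpimorphisms := by
  haveI : (EtCoh.push g ⋙ EtCore.gsec (Spec (CommRingCat.of R))).PreservesEpimorphisms :=
    inferInstance
  exact Functor.PreservesEpimorphisms.of_iso (EtCore.pushGsecIso g)

include g in
lemma projective_const_of_finite :
    Projective ((constantSheaf Z.smallEtaleTopology
      AddCommGrpCat.{u + 1}).obj (AddCommGrpCat.of (ULift.{u + 1} ℤ))) := by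
  haveI := gsec_preservesEpimorphisms_of_finite R Z g
  exact (EtCore.constAdj Z).map_projective _ inferInstance

include g in
/-- Higher étale cohomology vanishes on schemes finite over a strictly henselian local ring. -/
theorem S19222_main (F : EtCoh.Ab Z) (j : ℕ) (hj : 1 ≤ j) : Subsingleton (EtCoh.H Z F j) := by
  obtain ⟨n, rfl⟩ : ∃ n, j = n + 1 := ⟨j - 1, by omega⟩
  haveI := projective_const_of_finite R Z g
  refine ⟨fun a b => ?_⟩
  rw [Abelian.Ext.eq_zero_of_projective a, Abelian.Ext.eq_zero_of_projective b]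

end Hens

end Groth.Agent.H2.FinStalk
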