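import Mathlib
import Groth.Prelude.Def_CAlg
import Groth.Agent.Lib.Helper1.AusBuchReg
import Groth.Agent.Lib.Helper1.CMFlat
import Groth.Agent.Lib.Helper2.ProjInter1
import Groth.Agent.Lib.Helper6.DepthLocalHom

/-! A finite local algebra over a regular local ring is free iff it is Cohen–Macaulay and the
structure map is injective. -/

universe u

namespace Groth.Agent.H2.FinRegFree

open Groth.Agent.H6

variable (A B : Type u) [CommRing A] [CommRing B] [IsRegularLocalRing A] [IsLocalRing B]
  [Algebra A B] [IsLocalHom (algebraMap A B)] [Module.Finite A B]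

theorem dim_eq (hinj : Function.Injective (algebraMap A B)) : ringKrullDim B = ringKrullDim A := by
  apply Groth.Agent.H2.ProjInter.ringKrullDim_eq_of_ringHom (algebraMap A B) _ hinj
  intro x
  exact Algebra.IsIntegral.isIntegral (R := A) x

theorem depth_A_eq_dim : ((LocCoh.depth A A : ℕ∞) : WithBot ℕ∞) = ringKrullDim A := by
  have hcm := Groth.Agent.H1.CMFlat.isCohenMacaulayLocalRing_of_isRegularLocalRing A
  rw [← hcm.supportDim_eq_depth, Module.supportDim_self_eq_ringKrullDim]

theorem free_of_cm (hcm : LocCoh.IsCohenMacaulayLocalRing B)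
    (hinj : Function.Injective (algebraMap A B)) : Module.Free A B := by
  haveI : IsNoetherianRing B := hcm.toIsNoetherian
  apply Groth.Agent.H1.AB.free_of_depth_eq_dim
  rw [Depth.depth_eq_of_isLocalHom_of_finite (A := A) (B := B) B, ← dim_eq A B hinj,
    ← hcm.supportDim_eq_depth, Module.supportDim_self_eq_ringKrullDim]

theorem le_depth_of_flat [Module.Flat A B] : LocCoh.depth A A ≤ LocCoh.depth A B := by
  unfold LocCoh.depth LocCoh.idealDepth
  by_cases hB : IsLocalRing.maximalIdeal A • (⊤ : Submodule A B) = ⊤
  · rw [if_pos hB]; exact le_top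
  · rw [if_neg hB]
    split_ifs with hA
    · exfalso
      have : (⊤ : Ideal A) ≤ IsLocalRing.maximalIdeal A := by
        have h2 : IsLocalRing.maximalIdeal A • (⊤ : Submodule A A) ≤ IsLocalRing.maximalIdeal A := by
          rw [Submodule.smul_le]
          intro r hr n _
          exact Ideal.mul_mem_right _ _ hr
        rwa [hA] at h2
      exact (IsLocalRing.maximalIdeal.isMaximal A).ne_top (top_le_iff.mp this)
    · apply iSup_le; intro rs; apply iSup_le; intro hrs
      refine le_iSup_of_le rs (le_iSup_of_le ⟨?_, hrs.2⟩ le_rfl)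
      have h1 := RingTheory.Sequence.IsWeaklyRegular.of_flat (R := A) (S := B) hrs.1
      exact (RingTheory.Sequence.isWeaklyRegular_map_algebraMap_iff B B rs).mp h1

theorem cm_of_free [Module.Free A B] : LocCoh.IsCohenMacaulayLocalRing B ∧
    Function.Injective (algebraMap A B) := by
  haveI : IsNoetherian A B := isNoetherian_of_isNoetherianRing_of_finite A B
  haveI : IsNoetherianRing B := isNoetherian_of_tower A (inferInstance : IsNoetherian A B)
  have hinj : Function.Injective (algebraMap A B) := FaithfulSMul.algebraMap_injective A B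
  refine ⟨?_, hinj⟩
  refine { supportDim_eq_depth := ?_ }
  obtain ⟨d, hd1, hd2⟩ := Depth.exists_depth_eq (R := B) B
  apply le_antisymm _ (by rw [hd1]; exact hd2)
  rw [Module.supportDim_self_eq_ringKrullDim, dim_eq A B hinj, ← depth_A_eq_dim A,
    ← Depth.depth_eq_of_isLocalHom_of_finite (A := A) (B := B) B]
  exact_mod_cast le_depth_of_flat A B

end Groth.Agent.H2.FinRegFree
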