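import Mathlib
import Groth.Prelude.Def_EtBase
import Groth.Prelude.Def_SGA4b
import Groth.Agent.Lib.Helper2.FinStalkE
import Groth.Agent.Lib.Helper7.ST4

set_option autoImplicit false
set_option linter.style.haveILetI false
set_option linter.unusedVariables false
universe u
open CategoryTheory CategoryTheory.Limits AlgebraicGeometry MorphismProperty TopologicalSpace Opposite

namespace Groth.Agent.H2.FinStalkSet

open Groth.Agent.H2.FinStalk Groth.Agent.H7.Sup Groth.Agent.H7.ES Groth.Agent.H7.GalCov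

section EqOpen

variable {S : Scheme.{u}} (G : EtDesc.Sh S)

/-- The locus where two sections agree, as an open subset. -/
noncomputable def eqOpen (U : S.Etale) (σ τ : G.obj.obj (op U)) : U.left.Opens :=
  ⟨⋃ (V : S.Etale) (φ : V ⟶ U) (_ : G.obj.map φ.op σ = G.obj.map φ.op τ), Set.range φ.left.base,
    isOpen_iUnion fun V => isOpen_iUnion fun φ => isOpen_iUnion fun _ => by
      haveI := etale_left φ
      exact φ.left.isOpenMap.isOpen_range⟩

lemma mem_eqOpen {U : S.Etale} {σ τ : G.obj.obj (op U)} {x : U.left} :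
    x ∈ eqOpen G U σ τ ↔ ∃ (V : S.Etale) (φ : V ⟶ U), G.obj.map φ.op σ = G.obj.map φ.op τ ∧
      x ∈ Set.range φ.left.base := by
  change x ∈ ⋃ (V : S.Etale) (φ : V ⟶ U) (_ : G.obj.map φ.op σ = G.obj.map φ.op τ),
    Set.range φ.left.base ↔ _
  simp only [Set.mem_iUnion, exists_prop]

theorem map_eq_iff {U : S.Etale} (σ τ : G.obj.obj (op U)) (V : S.Etale) (φ : V ⟶ U) :
    G.obj.map φ.op σ = G.obj.map φ.op τ ↔
      Set.range φ.left.base ⊆ (eqOpen G U σ τ : Set U.left) := by
  constructor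
  · intro h x hx
    exact (mem_eqOpen G).2 ⟨V, φ, h, hx⟩
  · intro h
    have hsep : Presieve.IsSeparated S.smallEtaleTopology G.obj :=
      ((isSheaf_iff_isSheaf_of_type _ _).1 G.property).isSeparated
    let T : Sieve V :=
      { arrows := fun V' ψ => G.obj.map (ψ ≫ φ).op σ = G.obj.map (ψ ≫ φ).op τ
        downward_closed := by
          intro Y Z f hf g
          rw [Category.assoc, op_comp, G.obj.map_comp]
          change (G.obj.map g.op) ((G.obj.map (f ≫ φ).op) σ) =
            (G.obj.map g.op) ((G.obj.map (f ≫ φ).op) τ)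
          rw [hf] }
    have hT : T ∈ S.smallEtaleTopology V := by
      refine sieve_mem_of_jointly_surjective T ?_
      intro v
      obtain ⟨V', φ', hφ', v', hv'⟩ := (mem_eqOpen G).1 (h ⟨v, rfl⟩)
      obtain ⟨z, hz1, hz2⟩ := exists_fib_point φ φ' v v' hv'.symm
      refine ⟨fibObj φ φ', fibFst φ φ', z, ?_, hz1⟩
      change G.obj.map (fibFst φ φ' ≫ φ).op σ = G.obj.map (fibFst φ φ' ≫ φ).op τ
      rw [fib_condition, op_comp, G.obj.map_comp]
      change (G.obj.map (fibSnd φ φ').op) ((G.obj.map φ'.op) σ) =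
        (G.obj.map (fibSnd φ φ').op) ((G.obj.map φ'.op) τ)
      rw [hφ']
    refine (hsep T hT).ext ?_
    intro Y f hf
    have e : ∀ ρ, G.obj.map f.op (G.obj.map φ.op ρ) = G.obj.map (f ≫ φ).op ρ := by
      intro ρ
      rw [op_comp, G.obj.map_comp]; rfl
    rw [e, e]
    exact hf

end EqOpen

section Proj

variable {X Y : Scheme.{u}} (f : X ⟶ Y) {Ω : Type u} [Field Ω] [IsSepClosed Ω]

/-- The projection from the stalk of `f_* F` at `η` to the stalk of `F` at a lift `ξ` of `η`
(sheaves of sets). -/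
noncomputable def projSh (F : EtDesc.Sh X) (η : Spec (.of Ω) ⟶ Y) (ξ : Spec (.of Ω) ⟶ X)
    (hξ : ξ ≫ f = η) :
    ((Scheme.pointSmallEtale η).sheafFiber (A := Type (u + 1))).obj ((EtDesc.pushSh f).obj F) ⟶
      ((Scheme.pointSmallEtale ξ).sheafFiber (A := Type (u + 1))).obj F :=
  (Scheme.pointSmallEtale η).presheafFiberDesc (P := ((EtDesc.pushSh f).obj F).obj)
    (fun V x => (Scheme.pointSmallEtale ξ).toPresheafFiber ((EtCoh.bc f).obj V)
      (liftPt f η ξ hξ V x) F.obj)
    (by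
      intro V' V g x
      have := (Scheme.pointSmallEtale ξ).toPresheafFiber_w ((EtCoh.bc f).map g)
        (liftPt f η ξ hξ V' x) F.obj
      rw [liftPt_map] at this
      exact this)

lemma germ_projSh (F : EtDesc.Sh X) (η : Spec (.of Ω) ⟶ Y) (ξ : Spec (.of Ω) ⟶ X)
    (hξ : ξ ≫ f = η) (V : Y.Etale) (x : (Scheme.pointSmallEtale η).fiber.obj V) :
    (Scheme.pointSmallEtale η).toPresheafFiber V x ((EtDesc.pushSh f).obj F).obj ≫
        projSh f F η ξ hξ =
      (Scheme.pointSmallEtale ξ).toPresheafFiber ((EtCoh.bc f).obj V) (liftPt f η ξ hξ V x) F.obj :=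
  (Scheme.pointSmallEtale η).toPresheafFiber_presheafFiberDesc _ _ V x

lemma germ_projSh_apply (F : EtDesc.Sh X) (η : Spec (.of Ω) ⟶ Y) (ξ : Spec (.of Ω) ⟶ X)
    (hξ : ξ ≫ f = η) (V : Y.Etale) (x : (Scheme.pointSmallEtale η).fiber.obj V)
    (s : F.obj.obj (op ((EtCoh.bc f).obj V))) :
    projSh f F η ξ hξ
      ((Scheme.pointSmallEtale η).toPresheafFiber V x ((EtDesc.pushSh f).obj F).obj s) =
      (Scheme.pointSmallEtale ξ).toPresheafFiber ((EtCoh.bc f).obj V) (liftPt f η ξ hξ V x) F.obj s :=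
  ConcreteCategory.congr_hom (germ_projSh f F η ξ hξ V x) s

/-- `projSh` is natural in `F`. -/
noncomputable def projShNat (η : Spec (.of Ω) ⟶ Y) (ξ : Spec (.of Ω) ⟶ X) (hξ : ξ ≫ f = η) :
    EtDesc.pushSh f ⋙ (Scheme.pointSmallEtale η).sheafFiber (A := Type (u + 1)) ⟶
      ((Scheme.pointSmallEtale ξ).sheafFiber (A := Type (u + 1)) : EtDesc.Sh X ⥤ Type (u + 1)) where
  app F := projSh f F η ξ hξ
  naturality F G a := by
    apply (Scheme.pointSmallEtale η).presheafFiber_hom_ext
    intro V x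
    have h1 := (Scheme.pointSmallEtale η).toPresheafFiber_naturality
      ((EtDesc.pushSh f).map a).hom V x
    have h2 := germ_projSh f G η ξ hξ V x
    have h3 := germ_projSh f F η ξ hξ V x
    have h4 := (Scheme.pointSmallEtale ξ).toPresheafFiber_naturality a.hom
      ((EtCoh.bc f).obj V) (liftPt f η ξ hξ V x)
    change (Scheme.pointSmallEtale η).toPresheafFiber V x ((EtDesc.pushSh f).obj F).obj ≫
      (Scheme.pointSmallEtale η).presheafFiber.map ((EtDesc.pushSh f).map a).hom ≫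
        projSh f G η ξ hξ =
      (Scheme.pointSmallEtale η).toPresheafFiber V x ((EtDesc.pushSh f).obj F).obj ≫
        projSh f F η ξ hξ ≫ (Scheme.pointSmallEtale ξ).presheafFiber.map a.hom
    rw [reassoc_of% h1, h2, reassoc_of% h3]
    exact h4.symm

end Proj

section Inj

variable {X Y : Scheme.{u}} (f : X ⟶ Y) [IsFinite f] {Ω : Type u} [Field Ω] [IsAlgClosed Ω]

set_option backward.isDefEq.respectTransparency.types false in
/-- Injectivity part of the stalk formula for finite morphisms (sheaves of sets). -/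
theorem projSh_injective (F : EtDesc.Sh X) (η : Spec (.of Ω) ⟶ Y)
    (z₁ z₂ : ((Scheme.pointSmallEtale η).sheafFiber (A := Type (u + 1))).obj
      ((EtDesc.pushSh f).obj F))
    (hz : ∀ (ξ : Spec (.of Ω) ⟶ X) (hξ : ξ ≫ f = η),
      projSh f F η ξ hξ z₁ = projSh f F η ξ hξ z₂) : z₁ = z₂ := by
  obtain ⟨V, x, s₁, s₂, rfl, rfl⟩ :=
    (Scheme.pointSmallEtale η).toPresheafFiber_jointly_surjective₂
      (P := ((EtDesc.pushSh f).obj F).obj) z₁ z₂
  obtain ⟨s₁', hs₁'⟩ : ∃ s₁' : F.obj.obj (op ((EtCoh.bc f).obj V)), s₁' = s₁ := ⟨s₁, rfl⟩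
  obtain ⟨s₂', hs₂'⟩ : ∃ s₂' : F.obj.obj (op ((EtCoh.bc f).obj V)), s₂' = s₂ := ⟨s₂, rfl⟩
  -- the sections agree near every geometric point of the fibre
  have hvan : ∀ (ξ : Spec (.of Ω) ⟶ X) (hξ : ξ ≫ f = η),
      (liftPt f η ξ hξ V x).left (default : ↥(Spec (CommRingCat.of Ω))) ∈
        eqOpen F ((EtCoh.bc f).obj V) s₁' s₂' := by
    intro ξ hξ
    have h1 : (Scheme.pointSmallEtale ξ).toPresheafFiber ((EtCoh.bc f).obj V)
        (liftPt f η ξ hξ V x) F.obj s₁' =
        (Scheme.pointSmallEtale ξ).toPresheafFiber ((EtCoh.bc f).obj V)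
        (liftPt f η ξ hξ V x) F.obj s₂' := by
      rw [hs₁', hs₂']
      exact (germ_projSh_apply f F η ξ hξ V x s₁).symm.trans
        ((hz ξ hξ).trans (germ_projSh_apply f F η ξ hξ V x s₂))
    obtain ⟨W, g, w, hw, hs⟩ := ((Scheme.pointSmallEtale ξ).toPresheafFiber_eq_iff' _ _ _ _).mp h1
    refine (mem_eqOpen F).2 ⟨W, g, hs,
      w.left (default : ↥(Spec (CommRingCat.of Ω))), ?_⟩
    rw [← hw]
    rfl
  -- shrink `V`
  obtain ⟨Vo, hVo1, hVo2⟩ := exists_open_nhd f V.hom x.left
    (eqOpen F ((EtCoh.bc f).obj V) s₁' s₂') (by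
      intro l hl1
      have hξ : (l ≫ pullback.snd V.hom f) ≫ f = η :=
        calc (l ≫ pullback.snd V.hom f) ≫ f = l ≫ (pullback.snd V.hom f ≫ f) := Category.assoc _ _ _
          _ = l ≫ (pullback.fst V.hom f ≫ V.hom) :=
              congrArg (fun m => l ≫ m) pullback.condition.symm
          _ = (l ≫ pullback.fst V.hom f) ≫ V.hom := (Category.assoc _ _ _).symm
          _ = x.left ≫ V.hom := congrArg (fun m => m ≫ V.hom) hl1
          _ = η := Over.w x
      have h1 : (liftPt f η (l ≫ pullback.snd V.hom f) hξ V x).left = l := by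
        apply pullback.hom_ext
        · exact (pullback.lift_fst _ _ _).trans hl1.symm
        · exact pullback.lift_snd _ _ _
      have h2 := hvan (l ≫ pullback.snd V.hom f) hξ
      have h3 : (liftPt f η (l ≫ pullback.snd V.hom f) hξ V x).left
          (default : ↥(Spec (CommRingCat.of Ω))) = l (default : ↥(Spec (CommRingCat.of Ω))) :=
        congrArg (fun m : Spec (CommRingCat.of Ω) ⟶ ((EtCoh.bc f).obj V).left =>
          m (default : ↥(Spec (CommRingCat.of Ω)))) h1
      exact h3 ▸ h2)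
  obtain ⟨xo, hxo⟩ := exists_fiber_openObj η V Vo x hVo1
  have heq : F.obj.map ((EtCoh.bc f).map (openIncl V Vo)).op s₁' =
      F.obj.map ((EtCoh.bc f).map (openIncl V Vo)).op s₂' := by
    rw [map_eq_iff]
    rintro _ ⟨q, rfl⟩
    apply hVo2
    have e0 : ((EtCoh.bc f).map (openIncl V Vo)).left ≫ pullback.fst V.hom f =
        pullback.fst (openObj V Vo).hom f ≫ (openIncl V Vo).left :=
      (EtCoh.isPullback_bc_map f (openIncl V Vo)).w
    have h2 : (pullback.fst V.hom f) (((EtCoh.bc f).map (openIncl V Vo)).left q) =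
        Vo.ι ((pullback.fst (openObj V Vo).hom f) q) :=
      congrArg (fun m : ((EtCoh.bc f).obj (openObj V Vo)).left ⟶ V.left => m q) e0
    rw [h2]
    exact ((pullback.fst (openObj V Vo).hom f) q).2
  have hw1 := (Scheme.pointSmallEtale η).toPresheafFiber_w_apply (openIncl V Vo) xo
    ((EtDesc.pushSh f).obj F).obj s₁
  have hw2 := (Scheme.pointSmallEtale η).toPresheafFiber_w_apply (openIncl V Vo) xo
    ((EtDesc.pushSh f).obj F).obj s₂
  rw [hxo] at hw1 hw2
  refine hw1.symm.trans (Eq.trans ?_ hw2)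
  have h0 : ((EtDesc.pushSh f).obj F).obj.map (openIncl V Vo).op s₁ =
      ((EtDesc.pushSh f).obj F).obj.map (openIncl V Vo).op s₂ := by
    rw [← hs₁', ← hs₂']
    exact heq
  rw [h0]

end Inj

end Groth.Agent.H2.FinStalkSet
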