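import Mathlib
import Groth.Prelude.Def_EtBase
import Groth.Prelude.Def_SGA4b
import Groth.Agent.Lib.Helper2.FinStalkE
import Groth.Agent.Lib.Helper2.FinStalkSetA
import Groth.Agent.Lib.Helper7.ST4

set_option autoImplicit false
set_option linter.style.haveILetI false
set_option linter.unusedVariables false
universe u
open CategoryTheory CategoryTheory.Limits AlgebraicGeometry MorphismProperty TopologicalSpace Opposite

namespace Groth.Agent.H2.FinStalkSet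

open Groth.Agent.H2.FinStalk Groth.Agent.H7.Sup Groth.Agent.H7.ES Groth.Agent.H7.GalCov

variable {X Y : Scheme.{u}} (f : X ⟶ Y) [IsFinite f] {Ω : Type u} [Field Ω] [IsAlgClosed Ω]

set_option backward.isDefEq.respectTransparency.types false in
/-- Surjectivity part of the stalk formula for finite morphisms (sheaves of sets). -/
theorem projSh_surjective (F : EtDesc.Sh X) (η : Spec (.of Ω) ⟶ Y)
    (t : ∀ ξ : {ξ : Spec (.of Ω) ⟶ X // ξ ≫ f = η},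
      ((Scheme.pointSmallEtale ξ.1).sheafFiber (A := Type (u + 1))).obj F) :
    ∃ z : ((Scheme.pointSmallEtale η).sheafFiber (A := Type (u + 1))).obj
        ((EtDesc.pushSh f).obj F),
      ∀ ξ : {ξ : Spec (.of Ω) ⟶ X // ξ ≫ f = η}, projSh f F η ξ.1 ξ.2 z = t ξ := by
  have hrep : ∀ ξ : {ξ : Spec (.of Ω) ⟶ X // ξ ≫ f = η}, ∃ (U : X.Etale)
      (u : (Scheme.pointSmallEtale ξ.1).fiber.obj U) (s : F.obj.obj (op U)),
      (Scheme.pointSmallEtale ξ.1).toPresheafFiber U u F.obj s = t ξ :=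
    fun ξ => (Scheme.pointSmallEtale ξ.1).toPresheafFiber_jointly_surjective (P := F.obj) (t ξ)
  choose UE uE sE hE using hrep
  haveI : ∀ ξ, Etale (UE ξ).hom := fun ξ => (UE ξ).prop
  obtain ⟨ul, hul⟩ : ∃ ul : ∀ ξ : {ξ : Spec (.of Ω) ⟶ X // ξ ≫ f = η},
      Spec (.of Ω) ⟶ (UE ξ).left, ∀ ξ, ul ξ = (uE ξ).left := ⟨fun ξ => (uE ξ).left, fun _ => rfl⟩
  have hulw : ∀ ξ, ul ξ ≫ (UE ξ).hom = ξ.1 := fun ξ => (hul ξ) ▸ Over.w (uE ξ)
  obtain ⟨V, e, vb, he, hvb, D, h, hdisj, hcov, hG, hpt⟩ :=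
    keyFinGeom' f η (fun ξ => (UE ξ).left) (fun ξ => (UE ξ).hom) ul hulw
  haveI := he
  let VE : Y.Etale := MorphismProperty.Over.mk ⊤ e he
  obtain ⟨x, hx⟩ : ∃ x : (Scheme.pointSmallEtale η).fiber.obj VE, x.left = vb :=
    ⟨Over.homMk vb hvb, rfl⟩
  let B : X.Etale := (EtCoh.bc f).obj VE
  let sym : pullback f e ≅ pullback e f := pullbackSymmetry f e
  have hsym1 : sym.hom ≫ pullback.snd e f = pullback.fst f e := pullbackSymmetry_hom_comp_snd f e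
  have hsym2 : sym.hom ≫ pullback.fst e f = pullback.snd f e := pullbackSymmetry_hom_comp_fst f e
  let W : {ξ : Spec (.of Ω) ⟶ X // ξ ≫ f = η} → X.Etale := fun ξ =>
    MorphismProperty.Over.mk ⊤ ((D ξ).ι ≫ pullback.fst f e) inferInstance
  obtain ⟨q, hq⟩ : ∃ q : ∀ ξ, W ξ ⟶ B, ∀ ξ, (q ξ).left = (D ξ).ι ≫ sym.hom :=
    ⟨fun ξ => MorphismProperty.Over.homMk ((D ξ).ι ≫ sym.hom)
      (by
        change ((D ξ).ι ≫ sym.hom) ≫ pullback.snd e f = (D ξ).ι ≫ pullback.fst f e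
        rw [Category.assoc, hsym1]), fun _ => rfl⟩
  obtain ⟨a, ha⟩ : ∃ a : ∀ ξ, W ξ ⟶ UE ξ, ∀ ξ, (a ξ).left = h ξ :=
    ⟨fun ξ => MorphismProperty.Over.homMk (h ξ) (hG ξ), fun _ => rfl⟩
  -- glue the sections
  have hm : ∀ ξ : {ξ : Spec (.of Ω) ⟶ X // ξ ≫ f = η}, Mono ((D ξ).ι ≫ sym.hom) :=
    fun ξ => inferInstance
  have hmono : ∀ ξ, Mono (q ξ).left := by
    intro ξ
    rw [hq ξ]
    exact hm ξ
  have hqcov : ∀ b : B.left, ∃ ξ w, (q ξ).left.base w = b := by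
    intro b
    obtain ⟨ξ, hξ⟩ := hcov (sym.inv b)
    refine ⟨ξ, (⟨sym.inv b, hξ⟩ : ↥(D ξ)), ?_⟩
    have h1 : (q ξ).left (⟨sym.inv b, hξ⟩ : ↥(D ξ)) = sym.hom ((D ξ).ι ⟨sym.inv b, hξ⟩) :=
      congrArg (fun m : (W ξ).left ⟶ B.left => m (⟨sym.inv b, hξ⟩ : ↥(D ξ))) (hq ξ)
    refine h1.trans ?_
    change (sym.inv ≫ sym.hom) b = b
    rw [Iso.inv_hom_id]
    rfl
  have hqdisj : ∀ ξ ξ', ξ ≠ ξ' → ∀ (w1 : (W ξ).left) (w2 : (W ξ').left),
      (q ξ).left.base w1 ≠ (q ξ').left.base w2 := by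
    intro ξ ξ' hne w1 w2 heq
    have h1 : (q ξ).left w1 = sym.hom ((D ξ).ι w1) :=
      congrArg (fun m : (W ξ).left ⟶ B.left => m w1) (hq ξ)
    have h2 : (q ξ').left w2 = sym.hom ((D ξ').ι w2) :=
      congrArg (fun m : (W ξ').left ⟶ B.left => m w2) (hq ξ')
    have h3 : sym.hom ((D ξ).ι w1) = sym.hom ((D ξ').ι w2) := h1.symm.trans (heq.trans h2)
    have hinj : Function.Injective sym.hom := by
      apply Function.LeftInverse.injective (g := sym.inv)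
      intro p
      change (sym.hom ≫ sym.inv) p = p
      rw [Iso.hom_inv_id]
      rfl
    have h4 : (D ξ).ι w1 = (D ξ').ι w2 := hinj h3
    have h5 : (D ξ).ι w1 ∈ (D ξ : Set ↥(pullback f e)) := w1.2
    have h6 : (D ξ).ι w1 ∈ (D ξ' : Set ↥(pullback f e)) := h4 ▸ w2.2
    exact Set.disjoint_left.mp (hdisj ξ ξ' hne) h5 h6
  obtain ⟨s, hs⟩ := Groth.Agent.H7.PropABC.exists_glue_disjoint F W q hmono hqcov hqdisj
    (fun ξ => F.obj.map (a ξ).op (sE ξ))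
  obtain ⟨s', hs'⟩ : ∃ s' : F.obj.obj (op B),
      ∀ ξ, F.obj.map (q ξ).op s' = F.obj.map (a ξ).op (sE ξ) := ⟨s, hs⟩
  refine ⟨(Scheme.pointSmallEtale η).toPresheafFiber VE x ((EtDesc.pushSh f).obj F).obj s', ?_⟩
  intro ξ
  refine (germ_projSh_apply f F η ξ.1 ξ.2 VE x s').trans ?_
  obtain ⟨lp, hlp⟩ : ∃ lp : (Scheme.pointSmallEtale ξ.1).fiber.obj B,
      lp = liftPt f η ξ.1 ξ.2 VE x := ⟨_, rfl⟩
  obtain ⟨lpl, hlpl⟩ : ∃ lpl : Spec (.of Ω) ⟶ pullback e f, lpl = lp.left := ⟨_, rfl⟩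
  have hlpl1 : lpl ≫ pullback.fst e f = vb := by
    rw [hlpl, hlp]
    exact (pullback.lift_fst _ _ _).trans hx
  have hlpl2 : lpl ≫ pullback.snd e f = ξ.1 := by
    rw [hlpl, hlp]
    exact pullback.lift_snd _ _ _
  have hqb1 : (lpl ≫ sym.inv) ≫ pullback.fst f e = ξ.1 := by
    rw [Category.assoc, pullbackSymmetry_inv_comp_fst, hlpl2]
  have hqb2 : (lpl ≫ sym.inv) ≫ pullback.snd f e = vb := by
    rw [Category.assoc, pullbackSymmetry_inv_comp_snd, hlpl1]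
  obtain ⟨qb', hqb'1, hqb'2⟩ := hpt ξ (lpl ≫ sym.inv) hqb1 hqb2
  have hww : qb' ≫ ((D ξ).ι ≫ pullback.fst f e) = ξ.1 :=
    calc qb' ≫ ((D ξ).ι ≫ pullback.fst f e) = (qb' ≫ (D ξ).ι) ≫ pullback.fst f e :=
          (Category.assoc _ _ _).symm
      _ = (lpl ≫ sym.inv) ≫ pullback.fst f e := congrArg (fun m => m ≫ pullback.fst f e) hqb'1
      _ = ξ.1 := hqb1
  obtain ⟨w, hw⟩ : ∃ w : (Scheme.pointSmallEtale ξ.1).fiber.obj (W ξ), w.left = qb' :=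
    ⟨Over.homMk qb' hww, rfl⟩
  have hw1 : (Scheme.pointSmallEtale ξ.1).fiber.map (q ξ) w = lp := by
    apply Over.OverMorphism.ext
    change w.left ≫ (q ξ).left = lp.left
    have st1 : w.left ≫ (q ξ).left = qb' ≫ ((D ξ).ι ≫ sym.hom) :=
      congrArg₂ (fun (m₁ : Spec (.of Ω) ⟶ (D ξ : Scheme.{u})) (m₂ : (D ξ : Scheme.{u}) ⟶ pullback e f) =>
        m₁ ≫ m₂) hw (hq ξ)
    have st2 : qb' ≫ ((D ξ).ι ≫ sym.hom) = lpl :=
      calc qb' ≫ ((D ξ).ι ≫ sym.hom) = (qb' ≫ (D ξ).ι) ≫ sym.hom := (Category.assoc _ _ _).symm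
        _ = (lpl ≫ sym.inv) ≫ sym.hom := congrArg (fun m => m ≫ sym.hom) hqb'1
        _ = lpl := by rw [Category.assoc, Iso.inv_hom_id, Category.comp_id]
    exact st1.trans (st2.trans hlpl)
  have hw2 : (Scheme.pointSmallEtale ξ.1).fiber.map (a ξ) w = uE ξ := by
    apply Over.OverMorphism.ext
    change w.left ≫ (a ξ).left = (uE ξ).left
    have st1 : w.left ≫ (a ξ).left = qb' ≫ h ξ :=
      congrArg₂ (fun (m₁ : Spec (.of Ω) ⟶ (D ξ : Scheme.{u})) (m₂ : (D ξ : Scheme.{u}) ⟶ (UE ξ).left) =>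
        m₁ ≫ m₂) hw (ha ξ)
    exact st1.trans (hqb'2.trans (hul ξ))
  calc (Scheme.pointSmallEtale ξ.1).toPresheafFiber B (liftPt f η ξ.1 ξ.2 VE x) F.obj s'
      = (Scheme.pointSmallEtale ξ.1).toPresheafFiber B
          ((Scheme.pointSmallEtale ξ.1).fiber.map (q ξ) w) F.obj s' := by rw [hw1, hlp]
    _ = (Scheme.pointSmallEtale ξ.1).toPresheafFiber (W ξ) w F.obj (F.obj.map (q ξ).op s') :=
        ((Scheme.pointSmallEtale ξ.1).toPresheafFiber_w_apply (q ξ) w F.obj s').symm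
    _ = (Scheme.pointSmallEtale ξ.1).toPresheafFiber (W ξ) w F.obj
          (F.obj.map (a ξ).op (sE ξ)) := by rw [hs' ξ]
    _ = (Scheme.pointSmallEtale ξ.1).toPresheafFiber (UE ξ)
          ((Scheme.pointSmallEtale ξ.1).fiber.map (a ξ) w) F.obj (sE ξ) :=
        (Scheme.pointSmallEtale ξ.1).toPresheafFiber_w_apply (a ξ) w F.obj (sE ξ)
    _ = (Scheme.pointSmallEtale ξ.1).toPresheafFiber (UE ξ) (uE ξ) F.obj (sE ξ) := by rw [hw2]
    _ = t ξ := hE ξ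

end Groth.Agent.H2.FinStalkSet
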