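import Mathlib
import Groth.Prelude.Def_EtBase
import Groth.Prelude.Def_SGA4b
import Groth.Agent.Lib.Helper2.FinStalkSetB

set_option autoImplicit false
set_option linter.style.haveILetI false
set_option linter.unusedVariables false
universe u v w
open CategoryTheory CategoryTheory.Limits AlgebraicGeometry MorphismProperty TopologicalSpace Opposite

namespace Groth.Agent.H2.FinStalkSet

/-- A map into a product of types is an isomorphism if it is componentwise bijective. -/
lemma isIso_pi_lift_types {J : Type u} {Z : Type (u + 1)} (A : J → Type (u + 1))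
    (g : ∀ j, Z ⟶ A j)
    (hinj : ∀ z₁ z₂ : Z, (∀ j, g j z₁ = g j z₂) → z₁ = z₂)
    (hsurj : ∀ t : ∀ j, A j, ∃ z : Z, ∀ j, g j z = t j) :
    IsIso (Pi.lift g) := by
  have h : IsIso (Pi.lift g ≫ (Types.productIso.{u, u + 1} A).hom) := by
    rw [isIso_iff_bijective]
    have e : ∀ z j, (Pi.lift g ≫ (Types.productIso.{u, u + 1} A).hom) z j = g j z := by
      intro z j
      have h1 := Types.productIso_hom_comp_eval.{u, u + 1} A j
      have h2 : Pi.lift g ≫ (Types.productIso.{u, u + 1} A).hom ≫ (↾fun f => f j) = g j := by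
        rw [h1]
        exact Pi.lift_π _ _
      exact ConcreteCategory.congr_hom h2 z
    constructor
    · intro z₁ z₂ hz
      apply hinj
      intro j
      rw [← e z₁ j, ← e z₂ j, hz]
    · intro t
      obtain ⟨z, hz⟩ := hsurj t
      refine ⟨z, ?_⟩
      funext j
      exact (e z j).trans (hz j)
  exact IsIso.of_isIso_comp_right _ (Types.productIso.{u, u + 1} A).hom

/-- A natural transformation into a product of `Type`-valued functors is an isomorphism if it is
objectwise "jointly bijective". -/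
lemma isIso_pi_lift_functor {D : Type w} [Category.{v} D] {J : Type u}
    (H : D ⥤ Type (u + 1)) (G : J → (D ⥤ Type (u + 1))) (p : ∀ j, H ⟶ G j)
    (hinj : ∀ (F : D) (z₁ z₂ : H.obj F), (∀ j, (p j).app F z₁ = (p j).app F z₂) → z₁ = z₂)
    (hsurj : ∀ (F : D) (t : ∀ j, (G j).obj F), ∃ z : H.obj F, ∀ j, (p j).app F z = t j) :
    IsIso (Pi.lift p) := by
  haveI : ∀ F, IsIso ((Pi.lift p).app F) := by
    intro F
    have h1 : (Pi.lift p).app F ≫ (piObjIso G F).hom =
        Pi.lift (fun j => (p j).app F) := by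
      apply Pi.hom_ext
      intro j
      rw [Category.assoc, piObjIso_hom_comp_π, Pi.lift_π, ← NatTrans.comp_app, Pi.lift_π]
    have h2 : IsIso ((Pi.lift p).app F ≫ (piObjIso G F).hom) := by
      rw [h1]
      exact isIso_pi_lift_types _ _ (hinj F) (hsurj F)
    exact IsIso.of_isIso_comp_right _ (piObjIso G F).hom
  exact NatIso.isIso_of_isIso_app _

variable {X Y : Scheme.{u}} (f : X ⟶ Y) [IsFinite f] {Ω : Type u} [Field Ω] [IsAlgClosed Ω]

theorem S6181_main (η : Spec (CommRingCat.of Ω) ⟶ Y) :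
    Nonempty (EtDesc.pushSh f ⋙ (Scheme.pointSmallEtale η).sheafFiber (A := Type (u + 1)) ≅
      ∏ᶜ fun ξ : {ξ : Spec (CommRingCat.of Ω) ⟶ X // ξ ≫ f = η} =>
        ((Scheme.pointSmallEtale ξ.1).sheafFiber (A := Type (u + 1)) :
          EtDesc.Sh X ⥤ Type (u + 1))) := by
  haveI := isIso_pi_lift_functor
    (EtDesc.pushSh f ⋙ (Scheme.pointSmallEtale η).sheafFiber (A := Type (u + 1)))
    (fun ξ : {ξ : Spec (CommRingCat.of Ω) ⟶ X // ξ ≫ f = η} =>
        ((Scheme.pointSmallEtale ξ.1).sheafFiber (A := Type (u + 1)) :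
          EtDesc.Sh X ⥤ Type (u + 1)))
    (fun ξ => projShNat f η ξ.1 ξ.2)
    (fun F z₁ z₂ hz => projSh_injective f F η z₁ z₂ (fun ξ hξ => hz ⟨ξ, hξ⟩))
    (fun F t => projSh_surjective f F η t)
  exact ⟨asIso (Pi.lift (fun ξ => projShNat f η ξ.1 ξ.2))⟩

end Groth.Agent.H2.FinStalkSet
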