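import Mathlib

/-!
# Helper2: a functor with connected fibres which is surjective on morphisms is final
-/

namespace Groth.Agent.H2.FinalFib

open CategoryTheory CategoryTheory.Limits

universe v₁ u₁ v₂ u₂

variable {I : Type u₁} [Category.{v₁} I] {I' : Type u₂} [Category.{v₂} I'] (F : I ⥤ I')

/-- The functor from the fibre over `y'` to the structured arrows induced by `φ : x' ⟶ y'`. -/
def fibToStr {x' y' : I'} (φ : x' ⟶ y') : F.Fiber y' ⥤ StructuredArrow x' F where
  obj c := StructuredArrow.mk (φ ≫ eqToHom c.2.symm)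
  map {c c'} ψ := StructuredArrow.homMk ψ.1 (by
    have := ψ.2
    have h := IsHomLift.fac' F (𝟙 y') ψ.1
    simp only [StructuredArrow.mk_hom_eq_self, Category.assoc]
    rw [h]
    simp)
  map_id c := by
    ext
    rfl
  map_comp ψ ψ' := by
    ext
    rfl

lemma final_of_connected_fibers
    (h1 : ∀ x' : I', IsConnected (F.Fiber x'))
    (h2 : ∀ ⦃x' y' : I'⦄ (α' : x' ⟶ y'), ∃ (x y : I) (hx : F.obj x = x') (hy : F.obj y = y')
      (α : x ⟶ y), F.map α = eqToHom hx ≫ α' ≫ eqToHom hy.symm) : F.Final := by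
  constructor
  intro x'
  have := h1 x'
  obtain ⟨a₀⟩ := (inferInstance : Nonempty (F.Fiber x'))
  let base : StructuredArrow x' F := (fibToStr F (𝟙 x')).obj a₀
  have : Nonempty (StructuredArrow x' F) := ⟨base⟩
  suffices ∀ j : StructuredArrow x' F, Zigzag j base from
    zigzag_isConnected (fun j₁ j₂ => (this j₁).trans (this j₂).symm)
  intro j
  obtain ⟨x, y, hx, hy, α, hα⟩ := h2 j.hom
  -- step C
  have := h1 (F.obj j.right)
  have hC : Zigzag ((fibToStr F j.hom).obj ⟨j.right, rfl⟩) ((fibToStr F j.hom).obj ⟨y, hy⟩) :=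
    zigzag_obj_of_zigzag _ (isPreconnected_zigzag _ _)
  have hj : (fibToStr F j.hom).obj ⟨j.right, rfl⟩ = j := by
    obtain ⟨l, r, hom⟩ := j
    obtain ⟨⟨⟩⟩ := l
    simp [fibToStr, StructuredArrow.mk]
  rw [hj] at hC
  -- step B
  have hB : Zigzag ((fibToStr F (𝟙 x')).obj ⟨x, hx⟩) ((fibToStr F j.hom).obj ⟨y, hy⟩) := by
    refine Zigzag.of_hom (StructuredArrow.homMk α ?_)
    simp [fibToStr, hα]
  -- step A
  have hA : Zigzag ((fibToStr F (𝟙 x')).obj ⟨x, hx⟩) base :=
    zigzag_obj_of_zigzag _ (isPreconnected_zigzag _ _)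
  exact hC.trans (hB.symm.trans hA)

end Groth.Agent.H2.FinalFib
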