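import Groth.Agent.Lib.Lead.PN.AmpleSerre
import Groth.Agent.Lib.Helper5.VAmple.K
import Groth.Agent.Lib.Lead.QC.Flat
import Groth.Agent.Lib.Lead.QC.FlatSpec

/-!
# Twists on closed subschemes of `P^r_Y` (helper2)

`i^* O(m) ≅ (i^* O(1))^{⊗ m}`, and flatness over the base is preserved by tensoring with an
invertible module.
-/

set_option autoImplicit false
set_option linter.style.haveILetI false
universe u

open CategoryTheory CategoryTheory.Limits AlgebraicGeometry Opposite TopologicalSpace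

namespace Groth.Agent.H2.FlB

open Groth.Agent.LD Groth.Agent.LD.QC Groth.Agent.LD.PN Twist

variable (r : ℕ) {X Y : Scheme.{u}} (i : X ⟶ CohB1.ProjSpaceOver r Y)

/-- the pullback of `O(1)` to `X`. -/
noncomputable abbrev LL : X.Modules :=
  (Scheme.Modules.pullback i).obj (Twist.twistOver r Y 1)

theorem isInvertible_twistOver (Y : Scheme.{u}) (d : ℤ) :
    PicF.IsInvertible (Twist.twistOver r Y d) :=
  isInvertible_pullback _ (isInvertible_twist r (ULift.{u} ℤ) d)

theorem isInvertible_LL : PicF.IsInvertible (LL r i) :=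
  isInvertible_pullback i (isInvertible_twistOver r Y 1)

/-- `i^* O(m) ≅ (i^* O(1))^{⊗ m}`. -/
theorem nonempty_pullback_twistOver_iso (m : ℕ) :
    Nonempty ((Scheme.Modules.pullback i).obj (Twist.twistOver r Y (m : ℤ)) ≅
      CohB1.tensorPow (LL r i) m) := by
  obtain ⟨e1⟩ := TW.nonempty_twist_iso_tensorPow (X_range_mem r (ULift.{u} ℤ))
    (irrelevant_eq_span r (ULift.{u} ℤ)) m
  have e2 : Twist.twistOver r Y (m : ℤ) ≅ CohB1.tensorPow (Twist.twistOver r Y 1) m :=
    (Scheme.Modules.pullback (pullback.fst (CohB1.ProjSpace.toSpec r (ULift.{u} ℤ))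
      (specULiftZIsTerminal.from Y))).mapIso e1 ≪≫
      pbTensorPowIso _ _ (isInvertible_twist r (ULift.{u} ℤ) 1) m
  exact ⟨(Scheme.Modules.pullback i).mapIso e2 ≪≫
    pbTensorPowIso i _ (isInvertible_twistOver r Y 1) m⟩

/-- `F ⊗ i^* O(m) ≅ F ⊗ (i^* O(1))^{⊗ m}`. -/
theorem nonempty_twist_iso (F : X.Modules) (m : ℕ) :
    Nonempty (CohB1.tensorMod F ((Scheme.Modules.pullback i).obj (Twist.twistOver r Y (m : ℤ))) ≅
      CohB1.tensorMod F (CohB1.tensorPow (LL r i) m)) := by
  obtain ⟨e⟩ := nonempty_pullback_twistOver_iso r i m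
  exact ⟨tensorIso' (Iso.refl F) e⟩

/-- flatness over the base is preserved by tensoring with an invertible module. -/
theorem isFlatOver_tensor_invertible {X Y : Scheme.{u}} (f : X ⟶ Y) (F : X.Modules)
    [F.IsQuasicoherent] (M : X.Modules) (hM : PicF.IsInvertible M)
    (hfl : FlatMod.IsFlatOver f F) : FlatMod.IsFlatOver f (CohB1.tensorMod F M) := by
  haveI : M.IsQuasicoherent := qc_of_isInvertible M hM
  haveI : (CohB1.tensorMod F M).IsQuasicoherent := tensorMod_isQuasicoherent _ _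
  intro x
  obtain ⟨_, ⟨V, hV, rfl⟩, hxV, -⟩ := (Scheme.isBasis_affineOpens Y).exists_subset_of_mem_open
    (Set.mem_univ (f x)) isOpen_univ
  obtain ⟨U, e, hU, hxU, hUV, he⟩ := exists_affine_basis M hM x (f ⁻¹ᵁ V) hxV
  have h1 := flat_sections_of_isFlatOverAt f F hU hV hUV (fun x' _ => hfl x')
  refine isFlatOverAt_of_flat_sections f _ hU hV hUV x hxU ?_
  have hb := bijective_tmul_of_isBasisOver F M he U le_rfl
  let ψ₀ : Γ(F, U) →+ Γ(CohB1.tensorMod F M, U) :=
    AddMonoidHom.mk' (fun t => SecTwist.tmul F M U t (M.presheaf.map (homOfLE (le_refl U)).op e))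
      (fun a b => tmul_add_left F M U a b _)
  let ψ : Γ(F, U) ≃+ Γ(CohB1.tensorMod F M, U) := AddEquiv.ofBijective ψ₀ hb
  letI := sectionsModuleOver f F hUV
  letI := sectionsModuleOver f (CohB1.tensorMod F M) hUV
  refine (flat_iff_of_ringEquiv_semilinear (RingEquiv.refl Γ(Y, V)) ψ (fun a m => ?_)).1 h1
  exact tmul_smul_left F M U ((f.appLE V U hUV).hom a) m _

end Groth.Agent.H2.FlB
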