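import Groth.Agent.Lib.Helper2.FlB
import Groth.Agent.Lib.Lead.PN.AmpleSerreRel2
import Groth.Agent.Lib.Helper5.HP.HP2
import Groth.Agent.Lib.Helper5.AG.ProjProper
import Groth.Agent.Lib.Lead.QCQS.Base
import Groth.Agent.S2390

/-!
# Flatness implies local freeness of the direct images of the large twists (helper2)
-/

set_option autoImplicit false
set_option linter.style.haveILetI false
universe u

open CategoryTheory CategoryTheory.Limits AlgebraicGeometry Opposite TopologicalSpace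

namespace Groth.Agent.H2.FlC

open Groth.Agent.LD Groth.Agent.LD.QC Groth.Agent.LD.PN Twist

variable (r : ℕ) {X Y : Scheme.{u}} (i : X ⟶ CohB1.ProjSpaceOver r Y) [IsClosedImmersion i]

theorem isProper_comp : IsProper (i ≫ CohB1.ProjSpaceOver.toBase r Y) := by
  haveI := Groth.Agent.H5.AG.isProper_toBase r Y
  infer_instance

theorem isFinLocFree_of_iso {M N : Y.Modules} (e : M ≅ N) (h : FlatMod.IsFinLocFree M) :
    FlatMod.IsFinLocFree N := by
  intro y
  obtain ⟨U, n, hy, ⟨e'⟩⟩ := h y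
  exact ⟨U, n, hy, ⟨(Scheme.Modules.restrictFunctor U.ι).mapIso e.symm ≪≫ e'⟩⟩

/-- relative ampleness of `i^* O(1)`, in the form used by relative Serre vanishing. -/
theorem isAmple_restrict_LL (W : Y.Opens) (hW : IsAffineOpen W) :
    CohB1.IsAmple ((FlB.LL r i).restrict ((i ≫ CohB1.ProjSpaceOver.toBase r Y) ⁻¹ᵁ W).ι) := by
  haveI := isProper_comp r i
  exact (Groth.Agent.H5.VAmple.isRelAmple_pullback_twistOver i).2 ⟨W, hW⟩

/-- **(⇒)**: if `F` is flat over `Y`, the direct images of the large twists are finite locally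
free. -/
theorem forward [IsNoetherian Y] (F : X.Modules) (hF : Coh.IsCoh F)
    (hfl : FlatMod.IsFlatOver (i ≫ CohB1.ProjSpaceOver.toBase r Y) F) :
    ∃ n₀ : ℤ, ∀ n : ℤ, n₀ ≤ n →
      FlatMod.IsFinLocFree ((Coh.push (i ≫ CohB1.ProjSpaceOver.toBase r Y)).obj
        (CohB1.tensorMod F ((Scheme.Modules.pullback i).obj (Twist.twistOver r Y n)))) := by
  haveI := isProper_comp r i
  haveI := Groth.Agent.LD.QCQS.hasInjRes X
  haveI : F.IsQuasicoherent := hF.1
  have hL := FlB.isInvertible_LL r i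
  obtain ⟨N, hN⟩ := Groth.Agent.LD.PN.AmS.relative_serre_vanishing_mod
    (i ≫ CohB1.ProjSpaceOver.toBase r Y) (FlB.LL r i) hL
    (fun W hW => isAmple_restrict_LL r i W hW) F hF
  refine ⟨(N : ℤ), fun n hn => ?_⟩
  obtain ⟨m, rfl⟩ : ∃ m : ℕ, n = m :=
    ⟨n.toNat, (Int.toNat_of_nonneg (le_trans (Int.natCast_nonneg N) hn)).symm⟩
  have hm : N ≤ m := by exact_mod_cast hn
  obtain ⟨e⟩ := FlB.nonempty_twist_iso r i F m
  haveI : (FlB.LL r i).IsQuasicoherent := qc_of_isInvertible _ hL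
  have hcoh : Coh.IsCoh (CohB1.tensorMod F (CohB1.tensorPow (FlB.LL r i) m)) :=
    ⟨tensorMod_isQuasicoherent _ _,
      isFiniteType_tensorMod_of_isInvertible F hF.2 _ (isInvertible_tensorPow hL m)⟩
  have hflat := FlB.isFlatOver_tensor_invertible (i ≫ CohB1.ProjSpaceOver.toBase r Y) F _
    (isInvertible_tensorPow hL m) hfl
  have h := (Groth.Agent.S2390.result (i ≫ CohB1.ProjSpaceOver.toBase r Y) _ hcoh hflat
    (fun p hp => hN m hm p hp)).2
  have hfree : FlatMod.IsFinLocFree ((Coh.push (i ≫ CohB1.ProjSpaceOver.toBase r Y)).obj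
      (CohB1.tensorMod F (CohB1.tensorPow (FlB.LL r i) m))) := by
    intro y
    obtain ⟨U, hy, he⟩ := h y
    exact ⟨U, _, hy, he⟩
  exact isFinLocFree_of_iso ((Coh.push _).mapIso e.symm) hfree

end Groth.Agent.H2.FlC
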