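import Mathlib
import Groth.Agent.Lib.Helper2.FlatAlg

/-!
# Local criterion of flatness, nilpotent-type statements (elementary `Tor₁` form)

For a fixed short exact `0 → L → F → M → 0` with `F` flat, `Tor₁(X, M) = 0` is expressed as injectivity of
`X ⊗ L → X ⊗ F`.

* `tor_quot`: from `I ⊗ M → M` injective get `Tor₁(R/I, M) = 0`.
* `tor_of_pow_smul`: if moreover `M/IM` is flat over `R/I`, then `Tor₁(X, M) = 0` for all `X` killed by a
  power of `I`.
* `flat_quot_of_pow_le`: hence `M/JM` is flat over `R/J` whenever `I ^ m ≤ J`.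
* `flat_of_pow_eq_bot`: and `M` is flat if `I` is nilpotent.
* `rTensor_injective_of_flat_baseChange`.
-/

namespace Groth.Agent.H2.LocCrit
open TensorProduct
universe u

section
variable {R : Type u} [CommRing R] (I : Ideal R) {M : Type u} [AddCommGroup M] [Module R M]
variable {L F : Type u} [AddCommGroup L] [AddCommGroup F] [Module R L] [Module R F]

theorem tor_quot (d : L →ₗ[R] F) (ε : F →ₗ[R] M) (hd : Function.Injective d)
    (hdε : Function.Exact d ε) (hε : Function.Surjective ε)
    (htor : Function.Injective ((Submodule.subtype I).rTensor M)) :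
    Function.Injective (d.lTensor (R ⧸ I)) := by
  have h1 : Function.Injective ((Submodule.subtype I).lTensor M) :=
    (LinearMap.lTensor_inj_iff_rTensor_inj _ _).2 htor
  have h2 : Function.Injective (d.rTensor (R ⧸ I)) :=
    FlatAlg.rTensor_injective_of_lTensor_injective d ε hd hdε hε (Submodule.subtype I)
      (Submodule.mkQ I) (LinearMap.exact_subtype_mkQ I) (Submodule.mkQ_surjective I) h1
  exact (LinearMap.lTensor_inj_iff_rTensor_inj _ _).2 h2

theorem tor_of_pow_smul [Module.Flat R F] [Module.Flat (R ⧸ I) ((R ⧸ I) ⊗[R] M)]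
    (d : L →ₗ[R] F) (ε : F →ₗ[R] M)
    (hdε : Function.Exact d ε) (hε : Function.Surjective ε)
    (hA : Function.Injective (d.lTensor (R ⧸ I))) :
    ∀ (m : ℕ) (X : Type u) [AddCommGroup X] [Module R X],
      (∀ r ∈ I ^ m, ∀ x : X, r • x = 0) → Function.Injective (d.lTensor X) := by
  intro m
  induction m with
  | zero =>
    intro X _ _ hX
    haveI : Subsingleton X := ⟨fun a b => by
      have ha := hX 1 (by simp) a
      have hb := hX 1 (by simp) b
      rw [one_smul] at ha hb
      rw [ha, hb]⟩
    haveI : Subsingleton (X ⊗[R] L) := inferInstance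
    exact Function.injective_of_subsingleton _
  | succ m ih =>
    intro X _ _ hX
    let N₁ : Submodule R X := I • ⊤
    have h1 : Function.Injective (d.lTensor N₁) := by
      apply ih
      intro r hr x
      apply Subtype.ext
      rw [Submodule.coe_smul, Submodule.coe_zero]
      obtain ⟨x, hx⟩ := x
      change r • x = 0
      refine Submodule.smul_induction_on hx ?_ ?_
      · intro i hi y _
        rw [smul_smul]
        exact hX _ (by rw [pow_succ]; exact Ideal.mul_mem_mul hr hi) y
      · intro a b ha hb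
        rw [smul_add, ha, hb, add_zero]
    have hT : Module.IsTorsionBySet R (X ⧸ N₁) I := Module.isTorsionBySet_quotient_ideal_smul X I
    have h2 : Function.Injective (d.lTensor (X ⧸ N₁)) :=
      FlatAlg.lTensor_injective_of_baseChange (A := R ⧸ I) d ε hdε hε hA (X ⧸ N₁)
    exact FlatAlg.lTensor_injective_of_exact d N₁.subtype N₁.mkQ N₁.subtype_injective
      (LinearMap.exact_subtype_mkQ N₁) (Submodule.mkQ_surjective N₁) h1 h2

end

section
variable {R : Type u} [CommRing R] (I : Ideal R) (M : Type u) [AddCommGroup M] [Module R M]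

/-- the standard free presentation -/
theorem exists_presentation : ∃ (L F : Type u) (_ : AddCommGroup L) (_ : AddCommGroup F)
    (_ : Module R L) (_ : Module R F) (_ : Module.Free R F) (d : L →ₗ[R] F) (ε : F →ₗ[R] M),
    Function.Injective d ∧ Function.Exact d ε ∧ Function.Surjective ε := by
  let ε : (M →₀ R) →ₗ[R] M := Finsupp.linearCombination R id
  exact ⟨LinearMap.ker ε, M →₀ R, inferInstance, inferInstance, inferInstance, inferInstance,
    inferInstance, (LinearMap.ker ε).subtype, ε, Submodule.subtype_injective _,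
    LinearMap.exact_subtype_ker_map ε, Finsupp.linearCombination_id_surjective R M⟩

variable {M}

/-- `Tor₁(X, M) = 0` for all `X` killed by `J` implies `M/JM` flat over `R/J`. -/
theorem flat_quot_of_forall {L F : Type u} [AddCommGroup L] [AddCommGroup F] [Module R L]
    [Module R F] [Module.Flat R F] (d : L →ₗ[R] F) (ε : F →ₗ[R] M)
    (hdε : Function.Exact d ε) (hε : Function.Surjective ε) (J : Ideal R)
    (h : ∀ (X : Type u) [AddCommGroup X] [Module R X],
      (∀ r ∈ J, ∀ x : X, r • x = 0) → Function.Injective (d.lTensor X)) :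
    Module.Flat (R ⧸ J) ((R ⧸ J) ⊗[R] M) := by
  have hex : Function.Exact (d.baseChange (R ⧸ J)) (ε.baseChange (R ⧸ J)) := by
    have := lTensor_exact (R ⧸ J) hdε hε
    intro x
    simpa only [LinearMap.baseChange_eq_ltensor] using this x
  have hsurj : Function.Surjective (ε.baseChange (R ⧸ J)) := by
    have := LinearMap.lTensor_surjective (R ⧸ J) hε
    intro y
    obtain ⟨x, hx⟩ := this y
    exact ⟨x, by simpa only [LinearMap.baseChange_eq_ltensor] using hx⟩
  refine FlatAlg.flat_of_forall_lTensor_injective (d.baseChange (R ⧸ J)) (ε.baseChange (R ⧸ J))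
    hex hsurj ?_
  intro C _ _
  letI : Module R C := Module.compHom C (algebraMap R (R ⧸ J))
  haveI : IsScalarTower R (R ⧸ J) C := IsScalarTower.of_algebraMap_smul (fun r m => rfl)
  have hC : Function.Injective (d.lTensor C) := by
    apply h
    intro r hr x
    change (algebraMap R (R ⧸ J) r) • x = 0
    rw [Ideal.Quotient.algebraMap_eq, Ideal.Quotient.eq_zero_iff_mem.2 hr, zero_smul]
  let e₁ := AlgebraTensorModule.cancelBaseChange R (R ⧸ J) (R ⧸ J) C L
  let e₀ := AlgebraTensorModule.cancelBaseChange R (R ⧸ J) (R ⧸ J) C F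
  have c₁ : ∀ x, d.lTensor C (e₁ x) = e₀ ((d.baseChange (R ⧸ J)).lTensor C x) := by
    intro x
    exact LinearMap.congr_fun
      (AlgebraTensorModule.lTensor_comp_cancelBaseChange R (R ⧸ J) (R ⧸ J) (M := C) d) x
  intro x y hxy
  apply e₁.injective
  apply hC
  rw [c₁, c₁, hxy]

theorem flat_quot_of_pow_le [Module.Flat (R ⧸ I) ((R ⧸ I) ⊗[R] M)]
    (htor : Function.Injective ((Submodule.subtype I).rTensor M)) (J : Ideal R) (m : ℕ)
    (hJ : I ^ m ≤ J) : Module.Flat (R ⧸ J) ((R ⧸ J) ⊗[R] M) := by
  obtain ⟨L, F, _, _, _, _, _, d, ε, hd, hdε, hε⟩ := exists_presentation (R := R) M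
  have hA := tor_quot I d ε hd hdε hε htor
  refine flat_quot_of_forall d ε hdε hε J ?_
  intro X _ _ hX
  exact tor_of_pow_smul I d ε hdε hε hA m X (fun r hr x => hX r (hJ hr) x)

theorem flat_of_pow_eq_bot [Module.Flat (R ⧸ I) ((R ⧸ I) ⊗[R] M)]
    (htor : Function.Injective ((Submodule.subtype I).rTensor M)) (m : ℕ)
    (hI : I ^ m = ⊥) : Module.Flat R M := by
  obtain ⟨L, F, _, _, _, _, _, d, ε, hd, hdε, hε⟩ := exists_presentation (R := R) M
  have hA := tor_quot I d ε hd hdε hε htor
  refine FlatAlg.flat_of_forall_lTensor_injective d ε hdε hε ?_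
  intro X _ _
  refine tor_of_pow_smul I d ε hdε hε hA m X (fun r hr x => ?_)
  rw [hI] at hr
  rw [(Submodule.mem_bot R).1 hr, zero_smul]

end

end Groth.Agent.H2.LocCrit
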