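import Mathlib
import Groth.Agent.Lib.Helper2.LocCritNil

/-!
# Flatness via an injective ring map and a nilpotent ideal
-/

namespace Groth.Agent.H2.LocCrit
open TensorProduct
universe u

section bc
variable {R A : Type*} [CommRing R] [CommRing A] [Algebra R A]
variable (M : Type*) [AddCommGroup M] [Module R M]
variable {K K' : Type*} [AddCommGroup K] [AddCommGroup K'] [Module R K] [Module A K]
  [IsScalarTower R A K] [Module R K'] [Module A K'] [IsScalarTower R A K']

/-- If `A ⊗ M` is `A`-flat, an injective `A`-linear map stays injective after `- ⊗_R M`. -/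
theorem rTensor_injective_of_flat_baseChange [Module.Flat A (A ⊗[R] M)]
    (f : K →ₗ[A] K') (hf : Function.Injective f) :
    Function.Injective ((f.restrictScalars R).rTensor M) := by
  let e := AlgebraTensorModule.cancelBaseChange R A A K M
  let e' := AlgebraTensorModule.cancelBaseChange R A A K' M
  have key : Function.Injective (f.rTensor (A ⊗[R] M)) :=
    Module.Flat.rTensor_preserves_injective_linearMap f hf
  have sq : ∀ x, (f.restrictScalars R).rTensor M (e x) = e' (f.rTensor (A ⊗[R] M) x) := by
    intro x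
    induction x using TensorProduct.induction_on with
    | zero => simp
    | add x y hx hy => rw [map_add, map_add, hx, hy, map_add, map_add]
    | tmul k y =>
      induction y using TensorProduct.induction_on with
      | zero => simp
      | add x y hx hy => rw [tmul_add, map_add, map_add, hx, hy, map_add, map_add]
      | tmul a m =>
        simp only [e, e', AlgebraTensorModule.cancelBaseChange_tmul, LinearMap.rTensor_tmul,
          LinearMap.coe_restrictScalars, map_smul]
  intro x y hxy
  obtain ⟨x, rfl⟩ := e.surjective x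
  obtain ⟨y, rfl⟩ := e.surjective y
  rw [sq, sq] at hxy
  rw [key (e'.injective hxy)]

end bc

section bc2
variable (R A B : Type*) [CommRing R] [CommRing A] [CommRing B] [Algebra R A] [Algebra R B]
  [Algebra A B] [IsScalarTower R A B]
variable (M : Type*) [AddCommGroup M] [Module R M]

theorem flat_baseChange_comp [Module.Flat A (A ⊗[R] M)] : Module.Flat B (B ⊗[R] M) :=
  Module.Flat.of_linearEquiv (AlgebraTensorModule.cancelBaseChange R A B B M).symm

theorem flat_baseChange_of_comp [Module.Flat B (B ⊗[R] M)] :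
    Module.Flat B (B ⊗[A] (A ⊗[R] M)) :=
  Module.Flat.of_linearEquiv (AlgebraTensorModule.cancelBaseChange R A B B M)

end bc2

section core
variable {R R' : Type u} [CommRing R] [CommRing R'] [Algebra R R']

/-- Core case: `I ^ 2 = 0` and `R → R'` injective. -/
theorem flat_of_sq_eq_bot (hinj : Function.Injective (algebraMap R R')) (I : Ideal R)
    (hI : I ^ 2 = ⊥) (M : Type u) [AddCommGroup M] [Module R M]
    [Module.Flat (R ⧸ I) ((R ⧸ I) ⊗[R] M)] [Module.Flat R' (R' ⊗[R] M)] : Module.Flat R M := by
  let I' : Ideal R' := I.map (algebraMap R R')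
  have hT : Module.IsTorsionBySet R I I := by
    intro x a
    apply Subtype.ext
    rw [Submodule.coe_smul, Submodule.coe_zero, smul_eq_mul]
    have : (a : R) * (x : R) ∈ I ^ 2 := by
      rw [pow_two]; exact Ideal.mul_mem_mul a.2 x.2
    rw [hI] at this
    exact (Submodule.mem_bot R).1 this
  have hT' : Module.IsTorsionBySet R I' I := by
    intro x a
    apply Subtype.ext
    change (a : R) • (x : R') = 0
    rw [Algebra.smul_def]
    have : algebraMap R R' (a : R) * (x : R') ∈ (I ^ 2).map (algebraMap R R') := by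
      rw [pow_two, Ideal.map_mul]
      exact Ideal.mul_mem_mul (Ideal.mem_map_of_mem _ a.2) x.2
    rw [hI, Ideal.map_bot] at this
    exact (Submodule.mem_bot R').1 this
  letI : Module (R ⧸ I) I := hT.module
  letI : Module (R ⧸ I) I' := hT'.module
  haveI : IsScalarTower R (R ⧸ I) I := Module.IsTorsionBySet.isScalarTower hT
  haveI : IsScalarTower R (R ⧸ I) I' := Module.IsTorsionBySet.isScalarTower hT'
  let f₀ : I →ₗ[R] I' :=
    { toFun := fun x => ⟨algebraMap R R' x, Ideal.mem_map_of_mem _ x.2⟩
      map_add' := fun x y => Subtype.ext (by simp)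
      map_smul' := fun r x => Subtype.ext (by simp [Algebra.smul_def]) }
  let f : I →ₗ[R ⧸ I] I' :=
    { toFun := f₀
      map_add' := f₀.map_add
      map_smul' := fun a x => by
        obtain ⟨r, rfl⟩ := Ideal.Quotient.mk_surjective a
        exact f₀.map_smul r x }
  have hf : Function.Injective f := by
    intro x y hxy
    apply Subtype.ext
    apply hinj
    exact congrArg Subtype.val hxy
  have hα : Function.Injective ((f.restrictScalars R).rTensor M) :=
    rTensor_injective_of_flat_baseChange M f hf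
  have hβ : Function.Injective (((Submodule.subtype I').restrictScalars R).rTensor M) :=
    rTensor_injective_of_flat_baseChange M (Submodule.subtype I') (Submodule.subtype_injective I')
  have hcomp : ((Submodule.subtype I').restrictScalars R) ∘ₗ (f.restrictScalars R) =
      (Algebra.linearMap R R') ∘ₗ (Submodule.subtype I) := by
    apply LinearMap.ext
    intro x
    rfl
  have htor : Function.Injective ((Submodule.subtype I).rTensor M) := by
    have h1 : Function.Injective
        ((((Submodule.subtype I').restrictScalars R) ∘ₗ (f.restrictScalars R)).rTensor M) := by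
      rw [LinearMap.rTensor_comp]
      exact hβ.comp hα
    rw [hcomp, LinearMap.rTensor_comp] at h1
    exact Function.Injective.of_comp h1
  exact flat_of_pow_eq_bot I htor 2 hI

/-- `M/I₂M` is flat over `R/I₂` for `I₂ = φ⁻¹(φ(I²)R')`. -/
theorem flat_quot_comap_map_sq (I : Ideal R) (M : Type u) [AddCommGroup M] [Module R M]
    [Module.Flat (R ⧸ I) ((R ⧸ I) ⊗[R] M)] [Module.Flat R' (R' ⊗[R] M)] :
    Module.Flat (R ⧸ ((I ^ 2).map (algebraMap R R')).comap (algebraMap R R'))
      ((R ⧸ ((I ^ 2).map (algebraMap R R')).comap (algebraMap R R')) ⊗[R] M) := by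
  set K : Ideal R' := (I ^ 2).map (algebraMap R R') with hK
  set J : Ideal R := K.comap (algebraMap R R') with hJ
  let ψ : R ⧸ J →+* R' ⧸ K := Ideal.quotientMap K (algebraMap R R') le_rfl
  letI : Algebra (R ⧸ J) (R' ⧸ K) := ψ.toAlgebra
  have hψ : Function.Injective (algebraMap (R ⧸ J) (R' ⧸ K)) :=
    Ideal.quotientMap_injective
  haveI : IsScalarTower R (R ⧸ J) (R' ⧸ K) := IsScalarTower.of_algebraMap_eq (fun r => rfl)
  let Ī : Ideal (R ⧸ J) := I.map (Ideal.Quotient.mk J)
  have hĪ : Ī ^ 2 = ⊥ := by
    rw [← Ideal.map_pow, eq_bot_iff, Ideal.map_le_iff_le_comap, ← RingHom.ker_eq_comap_bot,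
      Ideal.mk_ker]
    exact Ideal.le_comap_map
  let χ : R ⧸ I →+* (R ⧸ J) ⧸ Ī :=
    Ideal.quotientMap Ī (Ideal.Quotient.mk J) Ideal.le_comap_map
  letI : Algebra (R ⧸ I) ((R ⧸ J) ⧸ Ī) := χ.toAlgebra
  haveI : IsScalarTower R (R ⧸ I) ((R ⧸ J) ⧸ Ī) :=
    IsScalarTower.of_algebraMap_eq (fun r => rfl)
  haveI : Module.Flat ((R ⧸ J) ⧸ Ī) (((R ⧸ J) ⧸ Ī) ⊗[R] M) :=
    flat_baseChange_comp R (R ⧸ I) ((R ⧸ J) ⧸ Ī) M
  haveI : Module.Flat ((R ⧸ J) ⧸ Ī) (((R ⧸ J) ⧸ Ī) ⊗[R ⧸ J] ((R ⧸ J) ⊗[R] M)) :=
    flat_baseChange_of_comp R (R ⧸ J) ((R ⧸ J) ⧸ Ī) M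
  haveI : Module.Flat (R' ⧸ K) ((R' ⧸ K) ⊗[R] M) := flat_baseChange_comp R R' (R' ⧸ K) M
  haveI : Module.Flat (R' ⧸ K) ((R' ⧸ K) ⊗[R ⧸ J] ((R ⧸ J) ⊗[R] M)) :=
    flat_baseChange_of_comp R (R ⧸ J) (R' ⧸ K) M
  exact flat_of_sq_eq_bot hψ Ī hĪ ((R ⧸ J) ⊗[R] M)

/-- `R → R'` injective, `I` nilpotent, `M/IM` flat over `R/I`, `R' ⊗ M` flat over `R'`:
then `M` is flat. -/
theorem flat_of_nilpotent_of_injective (hinj : Function.Injective (algebraMap R R'))
    (M : Type u) [AddCommGroup M] [Module R M] [Module.Flat R' (R' ⊗[R] M)] :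
    ∀ (k : ℕ) (I : Ideal R), I ^ k = ⊥ → Module.Flat (R ⧸ I) ((R ⧸ I) ⊗[R] M) →
      Module.Flat R M := by
  intro k
  induction k using Nat.strong_induction_on with
  | _ k ih =>
    intro I hI hflat
    by_cases hk : k ≤ 1
    · have hI1 : I ^ 1 = ⊥ := by
        rw [eq_bot_iff, ← hI]
        exact Ideal.pow_le_pow_right hk
      have hI0 : I = ⊥ := by rwa [pow_one] at hI1
      have htor : Function.Injective ((Submodule.subtype I).rTensor M) := by
        haveI : Subsingleton I := by
          rw [hI0]; infer_instance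
        haveI : Subsingleton (I ⊗[R] M) := inferInstance
        exact Function.injective_of_subsingleton _
      exact flat_of_pow_eq_bot I htor 1 hI1
    · push Not at hk
      set K : Ideal R' := (I ^ 2).map (algebraMap R R') with hK
      set J : Ideal R := K.comap (algebraMap R R') with hJ
      have hJflat : Module.Flat (R ⧸ J) ((R ⧸ J) ⊗[R] M) := flat_quot_comap_map_sq I M
      have hlt : (k + 1) / 2 < k := by omega
      refine ih ((k + 1) / 2) hlt J ?_ hJflat
      rw [eq_bot_iff]
      intro x hx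
      rw [Ideal.mem_bot]
      apply hinj
      rw [map_zero]
      have h1 : algebraMap R R' x ∈ (J ^ ((k + 1) / 2)).map (algebraMap R R') :=
        Ideal.mem_map_of_mem _ hx
      rw [Ideal.map_pow] at h1
      have h2 : J.map (algebraMap R R') ≤ K := Ideal.map_comap_le
      have h3 : (J.map (algebraMap R R')) ^ ((k + 1) / 2) ≤ K ^ ((k + 1) / 2) :=
        Ideal.pow_right_mono h2 _
      have h4 : K ^ ((k + 1) / 2) = ⊥ := by
        rw [hK, ← Ideal.map_pow, ← pow_mul, eq_bot_iff]
        have : I ^ (2 * ((k + 1) / 2)) ≤ I ^ k := Ideal.pow_le_pow_right (by omega)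
        rw [hI] at this
        rw [le_bot_iff.1 this, Ideal.map_bot]
      have h5 := h3 h1
      rw [h4] at h5
      exact (Submodule.mem_bot R').1 h5

end core

end Groth.Agent.H2.LocCrit
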