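import Mathlib
import Groth.Agent.Lib.Helper2.LocCritInj

namespace Groth.Agent.H2.FlatAss
open TensorProduct
universe u

section
variable {A : Type u} [CommRing A] [IsNoetherianRing A] (M : Type u) [AddCommGroup M] [Module A M]

/-- the kernel of `𝔞 ⊗ M → M` is torsion w.r.t. nonzerodivisors, if `M` is flat at all
associated primes of `A`. -/
theorem exists_nzd_smul_eq_zero
    (hloc : ∀ p : associatedPrimes A A,
      haveI : p.1.IsPrime := IsAssociatedPrime.isPrime p.2
      Module.Flat (Localization.AtPrime p.1) (LocalizedModule p.1.primeCompl M))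
    (𝔞 : Ideal A) (z : 𝔞 ⊗[A] M) (hz : 𝔞.subtype.rTensor M z = 0) :
    ∃ s ∈ nonZeroDivisors A, s • z = 0 := by
  by_contra hcon
  push Not at hcon
  have hdisj : Disjoint ((Ideal.torsionOf A _ z : Ideal A) : Set A) (nonZeroDivisors A) := by
    rw [Set.disjoint_left]
    intro s hs hs'
    exact hcon s hs' ((Ideal.mem_torsionOf_iff _ _).mp hs)
  obtain ⟨P, hP, hle⟩ : ∃ P ∈ associatedPrimes A A, Ideal.torsionOf A _ z ≤ P :=
    ((Ideal.torsionOf A _ z).subset_union_prime_finite (associatedPrimes.finite ..) (f := id) 0 0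
      fun _ h _ _ ↦ h.1).1 <|
    biUnion_associatedPrimes_eq_compl_nonZeroDivisors A ▸ hdisj.subset_compl_right
  haveI : P.IsPrime := IsAssociatedPrime.isPrime hP
  haveI hfl : Module.Flat (Localization.AtPrime P) (LocalizedModule P.primeCompl M) := hloc ⟨P, hP⟩
  haveI : Module.Flat A (LocalizedModule P.primeCompl M) :=
    Module.Flat.trans A (Localization.AtPrime P) _
  let g : M →ₗ[A] LocalizedModule P.primeCompl M := LocalizedModule.mkLinearMap P.primeCompl M
  have h1 : 𝔞.subtype.rTensor (LocalizedModule P.primeCompl M) (g.lTensor 𝔞 z) = 0 := by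
    rw [← LinearMap.comp_apply, LinearMap.rTensor_comp_lTensor, ← LinearMap.lTensor_comp_rTensor,
      LinearMap.comp_apply, hz, map_zero]
  have h2 : g.lTensor 𝔞 z = 0 :=
    (Module.Flat.rTensor_preserves_injective_linearMap 𝔞.subtype (Submodule.subtype_injective _))
      (h1.trans (map_zero _).symm)
  have hcomm : ∀ w : 𝔞 ⊗[A] M, (AlgebraTensorModule.rTensor A 𝔞 g) (TensorProduct.comm A 𝔞 M w) =
        TensorProduct.comm A 𝔞 _ (g.lTensor 𝔞 w) := by
    intro w
    induction w using TensorProduct.induction_on with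
    | zero => simp
    | tmul x y => rfl
    | add x y hx hy => simp only [map_add, hx, hy]
  have h3 : (AlgebraTensorModule.rTensor A 𝔞 g) (TensorProduct.comm A 𝔞 M z) = 0 := by
    rw [hcomm, h2, map_zero]
  rw [IsLocalizedModule.eq_zero_iff P.primeCompl (AlgebraTensorModule.rTensor A 𝔞 g)] at h3
  obtain ⟨⟨t, ht⟩, ht0⟩ := h3
  have h4 : t • z = 0 := by
    have : TensorProduct.comm A 𝔞 M (t • z) = 0 := by rw [map_smul]; exact ht0
    exact (TensorProduct.comm A 𝔞 M).injective (this.trans (map_zero _).symm)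
  exact ht (hle ((Ideal.mem_torsionOf_iff _ _).mpr h4))

theorem rTensor_injective_of_pow_mul_eq_bot (J : Ideal A)
    [Module.Flat (A ⧸ J) ((A ⧸ J) ⊗[A] M)]
    (hloc : ∀ p : associatedPrimes A A,
      haveI : p.1.IsPrime := IsAssociatedPrime.isPrime p.2
      Module.Flat (Localization.AtPrime p.1) (LocalizedModule p.1.primeCompl M)) :
    ∀ (k : ℕ) (𝔞 : Ideal A), J ^ k * 𝔞 = ⊥ → Function.Injective (𝔞.subtype.rTensor M) := by
  intro k
  induction k with
  | zero =>
    intro 𝔞 h𝔞
    rw [pow_zero, one_mul] at h𝔞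
    subst h𝔞
    haveI : Subsingleton (↥(⊥ : Ideal A)) := ⟨fun a b => Subtype.ext (by
      rw [(Submodule.mem_bot A).mp a.2, (Submodule.mem_bot A).mp b.2])⟩
    haveI : Subsingleton (↥(⊥ : Ideal A) ⊗[A] M) := inferInstance
    exact Function.injective_of_subsingleton _
  | succ k ih =>
    intro 𝔞 h𝔞
    set 𝔞' : Ideal A := 𝔞 ⊓ (⊥ : Ideal A).colon (((J ^ k : Ideal A)) : Set A) with h𝔞'
    have hmul0 : ∀ p ∈ J ^ k, ∀ j ∈ J, ∀ x ∈ 𝔞, p * j * x = 0 := by
      intro p hp j hj x hx
      have : p * j * x ∈ J ^ (k + 1) * 𝔞 := by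
        rw [pow_succ]
        exact Ideal.mul_mem_mul (Ideal.mul_mem_mul hp hj) hx
      rw [h𝔞] at this
      exact this
    have h1 : J ^ k * 𝔞' = ⊥ := by
      rw [eq_bot_iff, Ideal.mul_le]
      intro r hr x hx
      have := (Submodule.mem_colon.mp hx.2) r hr
      rw [Submodule.mem_bot] at this ⊢
      rw [mul_comm]; exact this
    have ih' := ih 𝔞' h1
    let ι : 𝔞' →ₗ[A] 𝔞 := Submodule.inclusion inf_le_left
    let N' : Submodule A 𝔞 := LinearMap.range ι
    have hmemN' : ∀ x : 𝔞, x ∈ N' ↔ (x : A) ∈ 𝔞' := by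
      intro x
      constructor
      · rintro ⟨y, rfl⟩
        exact y.2
      · intro hx
        exact ⟨⟨x, hx⟩, rfl⟩
    have hJE : Module.IsTorsionBySet A (𝔞 ⧸ N') (J : Set A) := by
      intro e j
      obtain ⟨x, rfl⟩ := Submodule.mkQ_surjective N' e
      change (j : A) • N'.mkQ x = 0
      rw [← map_smul, Submodule.mkQ_apply, Submodule.Quotient.mk_eq_zero, hmemN']
      refine ⟨𝔞.mul_mem_left _ x.2, Submodule.mem_colon.mpr ?_⟩
      intro p hp
      rw [Submodule.mem_bot]
      have := hmul0 p hp j j.2 x x.2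
      change (j : A) * (x : A) * p = 0
      rw [← this]; ring
    letI : Module (A ⧸ J) (𝔞 ⧸ N') := Module.IsTorsionBySet.module hJE
    haveI : IsScalarTower A (A ⧸ J) (𝔞 ⧸ N') := Module.IsTorsionBySet.isScalarTower hJE
    have hsE : ∀ s ∈ nonZeroDivisors A, ∀ e : 𝔞 ⧸ N', s • e = 0 → e = 0 := by
      intro s hs e he
      obtain ⟨x, rfl⟩ := Submodule.mkQ_surjective N' e
      rw [← map_smul, Submodule.mkQ_apply, Submodule.Quotient.mk_eq_zero, hmemN'] at he
      rw [Submodule.mkQ_apply, Submodule.Quotient.mk_eq_zero, hmemN']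
      refine ⟨x.2, Submodule.mem_colon.mpr ?_⟩
      intro p hp
      rw [Submodule.mem_bot]
      have h2 := (Submodule.mem_colon.mp he.2) p hp
      rw [Submodule.mem_bot] at h2
      have h3 : ((x : A) * p) * s = 0 := by
        have : ((s • x : 𝔞) : A) • p = s * (x : A) * p := rfl
        rw [this] at h2
        rw [← h2]; ring
      exact (mem_nonZeroDivisors_iff_right.mp hs) _ h3
    have hsEM : ∀ s ∈ nonZeroDivisors A, ∀ w : (𝔞 ⧸ N') ⊗[A] M, s • w = 0 → w = 0 := by
      intro s hs w hw
      let ℓ : (𝔞 ⧸ N') →ₗ[A ⧸ J] (𝔞 ⧸ N') := (algebraMap A (A ⧸ J) s) • LinearMap.id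
      have hℓ : Function.Injective ℓ := by
        rw [injective_iff_map_eq_zero]
        intro e he
        apply hsE s hs e
        have : ℓ e = (algebraMap A (A ⧸ J) s) • e := rfl
        rw [this, algebraMap_smul] at he
        exact he
      have h4 := LocCrit.rTensor_injective_of_flat_baseChange (R := A) (A := A ⧸ J) M ℓ hℓ
      have h5 : (ℓ.restrictScalars A) = s • LinearMap.id := by
        refine LinearMap.ext fun e => ?_
        change (algebraMap A (A ⧸ J) s) • e = s • e
        rw [algebraMap_smul]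
      rw [h5, LinearMap.rTensor_smul, LinearMap.rTensor_id] at h4
      apply h4
      rw [map_zero]
      exact hw
    rw [injective_iff_map_eq_zero]
    intro z hz
    obtain ⟨s, hs, hsz⟩ := exists_nzd_smul_eq_zero M hloc 𝔞 z hz
    have h6 : N'.mkQ.rTensor M z = 0 := by
      apply hsEM s hs
      rw [← map_smul, hsz, map_zero]
    have hex : Function.Exact (ι.rTensor M) (N'.mkQ.rTensor M) :=
      rTensor_exact M (LinearMap.exact_map_mkQ_range ι) (Submodule.mkQ_surjective N')
    obtain ⟨z', rfl⟩ := (hex z).mp h6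
    have h7 : 𝔞'.subtype.rTensor M z' = 0 := by
      rw [← hz, ← LinearMap.rTensor_comp_apply]
      rfl
    rw [ih' (h7.trans (map_zero _).symm), map_zero]

theorem S2574 (J : Ideal A) (hJ : IsNilpotent J) :
    Module.Flat A M ↔
      Module.Flat (A ⧸ J) ((A ⧸ J) ⊗[A] M) ∧
        ∀ p : associatedPrimes A A,
          haveI : p.1.IsPrime := IsAssociatedPrime.isPrime p.2
          Module.Flat (Localization.AtPrime p.1) (LocalizedModule p.1.primeCompl M) := by
  constructor
  · intro h
    exact ⟨inferInstance, fun p => by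
      haveI : p.1.IsPrime := IsAssociatedPrime.isPrime p.2
      exact inferInstance⟩
  · rintro ⟨h1, h2⟩
    obtain ⟨n, hn⟩ := hJ
    rw [Module.Flat.iff_rTensor_injective']
    intro I
    exact rTensor_injective_of_pow_mul_eq_bot M J h2 n I (by rw [hn]; simp)

end

end Groth.Agent.H2.FlatAss
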