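import Mathlib

/-!
# Flat subalgebras of bounded cardinality (for S6386)
-/

namespace Groth.Agent.H2.FlatCard
open Cardinal

universe u
variable {A B : Type u} [CommRing A] [CommRing B] [Algebra A B]

lemma mk_sigma_fin_le (X : Type u) (κ : Cardinal.{u}) (hκ : ℵ₀ ≤ κ) (hX : #X ≤ κ) :
    #(Σ l : ℕ, (Fin l → X)) ≤ κ := by
  rw [Cardinal.mk_sigma]
  have h : ∀ l : ℕ, #(Fin l → X) ≤ κ := by
    intro l
    rw [Cardinal.mk_arrow]
    simp only [Cardinal.mk_fin, Cardinal.lift_natCast, Cardinal.lift_id']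
    exact Cardinal.power_nat_le_max.trans (max_le hX hκ)
  calc Cardinal.sum (fun l : ℕ => #(Fin l → X)) ≤ Cardinal.sum (fun _ : ℕ => κ) :=
        Cardinal.sum_le_sum _ _ h
    _ = lift.{u} #ℕ * κ := by rw [Cardinal.sum_const]; simp
    _ ≤ κ := by
      simp only [Cardinal.mk_nat, Cardinal.lift_aleph0]
      exact (Cardinal.mul_le_max_of_aleph0_le_right hκ).trans (max_le hκ le_rfl)

section wit
variable [Module.Flat A B]

open Classical in
/-- A finite set of witnesses of the triviality of the relation `r` (if it is a relation). -/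
noncomputable def wit (r : Σ l : ℕ, (Fin l → A × B)) : Set B :=
  if h : ∑ i, (r.2 i).1 • (r.2 i).2 = 0 then
    Set.range (Module.Flat.isTrivialRelation_of_sum_smul_eq_zero
      (f := fun i => (r.2 i).1) (x := fun i => (r.2 i).2) h).choose_spec.choose_spec.choose
  else ∅

lemma wit_finite (r : Σ l : ℕ, (Fin l → A × B)) : (wit r).Finite := by
  unfold wit
  split_ifs
  · exact Set.finite_range _
  · exact Set.finite_empty

lemma wit_spec (r : Σ l : ℕ, (Fin l → A × B)) (h : ∑ i, (r.2 i).1 • (r.2 i).2 = 0) :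
    ∃ (k : ℕ) (a : Fin r.1 → Fin k → A) (y : Fin k → B),
      (∀ j, y j ∈ wit r) ∧ (∀ i, (r.2 i).2 = ∑ j, a i j • y j) ∧
        ∀ j, ∑ i, (r.2 i).1 * a i j = 0 := by
  have H := Module.Flat.isTrivialRelation_of_sum_smul_eq_zero
      (f := fun i => (r.2 i).1) (x := fun i => (r.2 i).2) h
  refine ⟨H.choose, H.choose_spec.choose, H.choose_spec.choose_spec.choose, ?_,
    H.choose_spec.choose_spec.choose_spec.1, H.choose_spec.choose_spec.choose_spec.2⟩
  intro j
  unfold wit
  rw [dif_pos h]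
  exact Set.mem_range_self j

/-- All witnesses for relations with entries in `E`. -/
noncomputable def WW (E : Subalgebra A B) : Set B :=
  ⋃ r : Σ l : ℕ, (Fin l → A × E), wit ⟨r.1, fun i => ((r.2 i).1, ((r.2 i).2 : B))⟩

/-- The next subalgebra. -/
noncomputable def next (E : Subalgebra A B) : Subalgebra A B :=
  Algebra.adjoin A ((E : Set B) ∪ WW E)

lemma le_next (E : Subalgebra A B) : E ≤ next E := fun _ hx =>
  Algebra.subset_adjoin (Or.inl hx)

lemma WW_subset_next (E : Subalgebra A B) : WW E ⊆ next E := fun _ hx =>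
  Algebra.subset_adjoin (Or.inr hx)

lemma mk_WW_le (E : Subalgebra A B) (hE : #E ≤ max #A ℵ₀) : #(WW E) ≤ max #A ℵ₀ := by
  have hκ : ℵ₀ ≤ max #A ℵ₀ := le_max_right _ _
  have hX : #(A × E) ≤ max #A ℵ₀ := by
    rw [Cardinal.mk_prod, Cardinal.lift_id, Cardinal.lift_id]
    exact (Cardinal.mul_le_max _ _).trans (max_le (max_le (le_max_left _ _) hE) hκ)
  unfold WW
  refine (Cardinal.mk_iUnion_le_sum_mk).trans ?_
  calc Cardinal.sum (fun r : Σ l : ℕ, (Fin l → A × E) =>
          #(wit (A := A) (B := B) ⟨r.1, fun i => ((r.2 i).1, ((r.2 i).2 : B))⟩))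
      ≤ Cardinal.sum (fun _ : Σ l : ℕ, (Fin l → A × E) => (ℵ₀ : Cardinal.{u})) :=
        Cardinal.sum_le_sum _ _ fun r => (wit_finite _).lt_aleph0.le
    _ = #(Σ l : ℕ, (Fin l → A × E)) * ℵ₀ := by rw [Cardinal.sum_const]; simp
    _ ≤ max #A ℵ₀ :=
        (Cardinal.mul_le_max _ _).trans
          (max_le (max_le (mk_sigma_fin_le _ _ hκ hX) hκ) hκ)

lemma mk_next_le (E : Subalgebra A B) (hE : #E ≤ max #A ℵ₀) : #(next E) ≤ max #A ℵ₀ := by
  have hκ : ℵ₀ ≤ max #A ℵ₀ := le_max_right _ _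
  unfold next
  refine (Algebra.cardinalMk_adjoin_le A _).trans ?_
  refine max_le (max_le (le_max_left _ _) ?_) hκ
  refine (Cardinal.mk_union_le _ _).trans ?_
  exact (Cardinal.add_le_max _ _).trans (max_le (max_le hE (mk_WW_le E hE)) hκ)

/-- The chain. -/
noncomputable def chain (E : Subalgebra A B) : ℕ → Subalgebra A B
  | 0 => E
  | n + 1 => next (chain E n)

lemma chain_mono (E : Subalgebra A B) : Monotone (chain E) :=
  monotone_nat_of_le_succ fun n => le_next (chain E n)

lemma mk_chain_le (E : Subalgebra A B) (hE : #E ≤ max #A ℵ₀) (n : ℕ) :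
    #(chain E n) ≤ max #A ℵ₀ := by
  induction n with
  | zero => exact hE
  | succ n ih => exact mk_next_le _ ih

theorem main (E : Subalgebra A B) (hE : #E ≤ max #A ℵ₀) :
    ∃ B' : Subalgebra A B, E ≤ B' ∧ Module.Flat A B' ∧ #B' ≤ max #A ℵ₀ := by
  have hκ : ℵ₀ ≤ max #A ℵ₀ := le_max_right _ _
  have hdir : Directed (· ≤ ·) (chain E) := (chain_mono E).directed_le
  have hcoe : ((⨆ n, chain E n : Subalgebra A B) : Set B) = ⋃ n, (chain E n : Set B) :=
    Subalgebra.coe_iSup_of_directed hdir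
  have hmem : ∀ x : B, x ∈ (⨆ n, chain E n : Subalgebra A B) ↔ ∃ n, x ∈ chain E n := by
    intro x
    rw [← SetLike.mem_coe, hcoe, Set.mem_iUnion]
    rfl
  refine ⟨⨆ n, chain E n, le_iSup (chain E) 0, ?_, ?_⟩
  · apply Module.Flat.of_forall_isTrivialRelation
    intro l f x hx
    -- all `x i` lie in a common `chain E n`
    have hn : ∃ n, ∀ i, (x i : B) ∈ chain E n := by
      choose m hm using fun i => (hmem (x i)).mp (x i).2
      refine ⟨Finset.univ.sup m, fun i => ?_⟩
      exact chain_mono E (Finset.le_sup (Finset.mem_univ i)) (hm i)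
    obtain ⟨n, hn⟩ := hn
    have hrel : ∑ i, f i • (x i : B) = 0 := by
      have := congrArg (Subtype.val) hx
      simpa using this
    obtain ⟨k, a, y, hy, hxy, hfa⟩ := wit_spec (A := A) (B := B)
      ⟨l, fun i => (f i, (x i : B))⟩ hrel
    have hyW : ∀ j, y j ∈ WW (chain E n) := by
      intro j
      unfold WW
      rw [Set.mem_iUnion]
      exact ⟨⟨l, fun i => (f i, ⟨(x i : B), hn i⟩)⟩, hy j⟩
    have hyB : ∀ j, y j ∈ (⨆ n, chain E n : Subalgebra A B) := fun j =>
      (hmem _).mpr ⟨n + 1, WW_subset_next _ (hyW j)⟩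
    refine ⟨k, a, fun j => ⟨y j, hyB j⟩, ?_, hfa⟩
    intro i
    apply Subtype.ext
    refine (hxy i).trans ?_
    simp
  · have : #((⨆ n, chain E n : Subalgebra A B)) = #(⋃ n, (chain E n : Set B)) := by
      change #(((⨆ n, chain E n : Subalgebra A B)) : Set B) = _
      rw [hcoe]
    rw [this]
    have h0 := Cardinal.mk_iUnion_le_sum_mk_lift (f := fun n : ℕ => (chain E n : Set B))
    rw [Cardinal.lift_uzero] at h0
    refine h0.trans ?_
    calc Cardinal.sum (fun n : ℕ => #((chain E n : Set B)))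
        ≤ Cardinal.sum (fun _ : ℕ => max #A ℵ₀) :=
          Cardinal.sum_le_sum _ _ fun n => mk_chain_le E hE n
      _ = lift.{u} #ℕ * max #A ℵ₀ := by rw [Cardinal.sum_const]; simp
      _ ≤ max #A ℵ₀ := by
        simp only [Cardinal.mk_nat, Cardinal.lift_aleph0]
        exact (Cardinal.mul_le_max_of_aleph0_le_right hκ).trans (max_le hκ le_rfl)

end wit

end Groth.Agent.H2.FlatCard
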