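import Mathlib

/-! Preimage of an irreducible component under a generalizing map. helper2 -/

set_option autoImplicit false
universe u

open CategoryTheory AlgebraicGeometry Topology TopologicalSpace

namespace Groth.Agent.H2.FlatIrrComp

theorem preimage_irreducibleComponent_eq {S T : Type*} [TopologicalSpace S] [TopologicalSpace T]
    [QuasiSober T] (g : S → T) (hc : Continuous g) (hg : GeneralizingMap g)
    (Y' : Set T) (hY' : Y' ∈ irreducibleComponents T) :
    g ⁻¹' Y' = ⋃₀ {Z : Set S | Z ∈ irreducibleComponents S ∧ g '' Z ⊆ Y'} := by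
  apply Set.Subset.antisymm
  · intro x hx
    have hcl : IsClosed Y' := isClosed_of_mem_irreducibleComponents Y' hY'
    obtain ⟨η, hη⟩ := QuasiSober.sober hY'.1 hcl
    have hsp : η ⤳ g x := by
      rw [specializes_iff_mem_closure, hη.def]
      exact hx
    obtain ⟨x', hx', hgx'⟩ := hg hsp
    refine ⟨irreducibleComponent x', ⟨irreducibleComponent_mem_irreducibleComponents x', ?_⟩, ?_⟩
    · have hirr : IsIrreducible (closure (g '' irreducibleComponent x')) :=
        (isIrreducible_irreducibleComponent.image g hc.continuousOn).closure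
      have hle : Y' ≤ closure (g '' irreducibleComponent x') := by
        rw [← hη.def]
        apply closure_minimal _ isClosed_closure
        rw [Set.singleton_subset_iff]
        exact subset_closure ⟨x', mem_irreducibleComponent, hgx'⟩
      exact subset_closure.trans (hY'.le_of_ge hirr hle)
    · have : closure {x'} ⊆ irreducibleComponent x' :=
        closure_minimal (Set.singleton_subset_iff.mpr mem_irreducibleComponent)
          isClosed_irreducibleComponent
      exact this (specializes_iff_mem_closure.mp hx')
  · rintro x ⟨Z, ⟨-, hZ⟩, hxZ⟩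
    exact hZ ⟨x, hxZ, rfl⟩

theorem flat_preimage_irreducibleComponent {X Y : Scheme.{u}} (f : X ⟶ Y) [Flat f]
    (Y' : Set ↥Y) (hY' : Y' ∈ irreducibleComponents ↥Y) :
    f.base ⁻¹' Y' = ⋃₀ {Z : Set ↥X | Z ∈ irreducibleComponents ↥X ∧ f.base '' Z ⊆ Y'} :=
  preimage_irreducibleComponent_eq f.base f.continuous (Flat.generalizingMap f) Y' hY'

end Groth.Agent.H2.FlatIrrComp
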