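import Mathlib
import Groth.Agent.Lib.Helper2.TorBalLin

/-! An induction principle for classes of modules over a Noetherian ring: a class closed under
isomorphisms, extensions, kernels of epimorphisms and "finitely generated approximation", which
contains all residue fields, contains all modules. -/

universe u

namespace Groth.Agent.H2.ResidueInduction

open CategoryTheory CategoryTheory.Limits Groth.Agent.H2.TorBal

variable {A : Type u} [CommRing A]

/-- The closure properties of a class of modules used in the induction. -/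
structure GoodClass (P : ModuleCat.{u} A → Prop) : Prop where
  iso : ∀ {X Y : ModuleCat.{u} A}, (X ≅ Y) → P X → P Y
  zero : ∀ (X : ModuleCat.{u} A), Subsingleton X → P X
  ext : ∀ (S : ShortComplex (ModuleCat.{u} A)), S.ShortExact → P S.X₁ → P S.X₃ → P S.X₂
  ker : ∀ (S : ShortComplex (ModuleCat.{u} A)), S.ShortExact → P S.X₂ → P S.X₃ → P S.X₁
  fg : ∀ (X : Type u) [AddCommGroup X] [Module A X],
    (∀ X' : Submodule A X, X'.FG → P (ModuleCat.of A X')) → P (ModuleCat.of A X)

variable {P : ModuleCat.{u} A → Prop} (hP : GoodClass P)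

include hP

/-- Prime-filtration induction relative to an ideal `J`. -/
lemma of_finite_of_ann [IsNoetherianRing A] (J : Ideal A)
    (h : ∀ q : PrimeSpectrum A, J ≤ q.asIdeal → P (ModuleCat.of A (A ⧸ q.asIdeal)))
    (X : Type u) [AddCommGroup X] [Module A X] [Module.Finite A X]
    (hX : ∀ a ∈ J, ∀ x : X, a • x = 0) : P (ModuleCat.of A X) := by
  revert hX
  refine IsNoetherianRing.induction_on_isQuotientEquivQuotientPrime A (M := X) inferInstance
    (motive := fun N _ _ _ => (∀ a ∈ J, ∀ x : N, a • x = 0) → P (ModuleCat.of A N)) ?_ ?_ ?_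
  · intro N _ _ _ hN _
    exact hP.zero _ hN
  · intro N _ _ _ q e hN
    have hJq : J ≤ q.asIdeal := by
      intro a ha
      have h1 := hN a ha (e.symm 1)
      have h2 : a • (1 : A ⧸ q.asIdeal) = 0 := by
        have h3 := congrArg e h1
        rwa [map_smul, LinearEquiv.apply_symm_apply, map_zero] at h3
      rw [← Ideal.Quotient.eq_zero_iff_mem]
      rw [Algebra.smul_def, mul_one] at h2
      exact h2
    exact hP.iso (e.symm.toModuleIso) (h q hJq)
  · intro N₁ _ _ _ N₂ _ _ _ N₃ _ _ _ f g hf hg hfg h1 h3 hN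
    exact hP.ext (scOfLinearMaps f g hfg) (scOfLinearMaps_shortExact f g hf hfg hg)
      (h1 (fun a ha x => hf (by rw [map_smul, hN a ha, map_zero])))
      (h3 (fun a ha y => by
        obtain ⟨x, rfl⟩ := hg y
        rw [← map_smul, hN a ha, map_zero]))

omit hP in
/-- Every element of the residue field at `p` is a fraction with denominator outside `p`. -/
lemma exists_smul_eq_algebraMap (p : Ideal A) [p.IsPrime] (z : p.ResidueField) :
    ∃ s : A, s ∉ p ∧ ∃ a : A, s • z = algebraMap A p.ResidueField a := by
  obtain ⟨x, rfl⟩ := IsLocalRing.residue_surjective z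
  obtain ⟨a, ⟨s, hs⟩, rfl⟩ := IsLocalization.exists_mk'_eq p.primeCompl x
  refine ⟨s, hs, a, ?_⟩
  rw [Algebra.smul_def, IsScalarTower.algebraMap_apply A (Localization.AtPrime p) p.ResidueField,
    IsScalarTower.algebraMap_apply A (Localization.AtPrime p) p.ResidueField,
    IsLocalRing.ResidueField.algebraMap_eq, ← map_mul]
  congr 1
  exact IsLocalization.mk'_spec' _ a ⟨s, hs⟩


/-- The main step: `A ⧸ p` is in the class if the residue field at `p` and all `A ⧸ q`, `q > p`,
are. -/
lemma quot_of_residueField [IsNoetherianRing A] (p : PrimeSpectrum A)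
    (hκ : P (ModuleCat.of A p.asIdeal.ResidueField))
    (ih : ∀ q : PrimeSpectrum A, p < q → P (ModuleCat.of A (A ⧸ q.asIdeal))) :
    P (ModuleCat.of A (A ⧸ p.asIdeal)) := by
  classical
  let κ := p.asIdeal.ResidueField
  let φ : A →ₗ[A] κ := Algebra.linearMap A κ
  have hker : LinearMap.ker φ = p.asIdeal := by
    ext a
    exact Ideal.algebraMap_residueField_eq_zero
  -- claim 1
  have claim1 : ∀ f : A, f ∉ p.asIdeal → ∀ (X : Type u) [AddCommGroup X] [Module A X]
      [Module.Finite A X], (∀ a ∈ p.asIdeal ⊔ Ideal.span {f}, ∀ x : X, a • x = 0) →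
      P (ModuleCat.of A X) := by
    intro f hf X _ _ _ hX
    refine of_finite_of_ann hP (p.asIdeal ⊔ Ideal.span {f}) (fun q hq => ih q ?_) X hX
    refine lt_of_le_of_ne (le_sup_left.trans hq) ?_
    intro hpq
    apply hf
    have : f ∈ q.asIdeal := hq (Ideal.mem_sup_right (Ideal.mem_span_singleton_self f))
    rw [hpq]
    exact this
  -- the quotient `Q = κ / A`
  let Q := κ ⧸ LinearMap.range φ
  have hpQ : ∀ a ∈ p.asIdeal, ∀ y : Q, a • y = 0 := by
    intro a ha y
    obtain ⟨z, rfl⟩ := Submodule.mkQ_surjective _ y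
    rw [← map_smul, Algebra.smul_def, Ideal.algebraMap_residueField_eq_zero.2 ha, zero_mul,
      map_zero]
  have claim2 : P (ModuleCat.of A Q) := by
    apply hP.fg
    intro X' hX'
    have hkill : ∃ f : A, f ∉ p.asIdeal ∧ ∀ y ∈ X', f • y = 0 := by
      induction X', hX' using Submodule.fg_induction with
      | singleton y =>
        obtain ⟨z, rfl⟩ := Submodule.mkQ_surjective _ y
        obtain ⟨s, hs, a, hsa⟩ := exists_smul_eq_algebraMap p.asIdeal z
        refine ⟨s, hs, fun y hy => ?_⟩
        obtain ⟨c, rfl⟩ := Submodule.mem_span_singleton.1 hy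
        rw [smul_comm, ← map_smul, hsa]
        have : (LinearMap.range φ).mkQ (algebraMap A κ a) = 0 := by
          rw [← LinearMap.mem_ker, Submodule.ker_mkQ]
          exact ⟨a, rfl⟩
        rw [this, smul_zero]
      | sup N₁ N₂ _ _ h₁ h₂ =>
        obtain ⟨f₁, hf₁, hk₁⟩ := h₁
        obtain ⟨f₂, hf₂, hk₂⟩ := h₂
        refine ⟨f₁ * f₂, ?_, fun y hy => ?_⟩
        · intro hmem
          rcases p.isPrime.mem_or_mem hmem with h | h
          · exact hf₁ h
          · exact hf₂ h
        · obtain ⟨y₁, hy₁, y₂, hy₂, rfl⟩ := Submodule.mem_sup.1 hy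
          have e1 : (f₁ * f₂) • y₁ = 0 := by rw [mul_comm, mul_smul, hk₁ y₁ hy₁, smul_zero]
          have e2 : (f₁ * f₂) • y₂ = 0 := by rw [mul_smul, hk₂ y₂ hy₂, smul_zero]
          rw [smul_add, e1, e2, add_zero]
    obtain ⟨f, hf, hk⟩ := hkill
    have : Module.Finite A X' := Module.Finite.of_fg hX'
    apply claim1 f hf X'
    intro a ha x
    obtain ⟨b, hb, c, hc, rfl⟩ := Submodule.mem_sup.1 ha
    obtain ⟨d, rfl⟩ := Ideal.mem_span_singleton'.1 hc
    apply Subtype.ext
    have e1 : b • (x : Q) = 0 := hpQ b hb _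
    have e2 : (d * f) • (x : Q) = 0 := by rw [mul_smul, hk _ x.2, smul_zero]
    show (b + d * f) • (x : Q) = 0
    rw [add_smul, e1, e2, add_zero]
  -- the short exact sequence `0 → A/p → κ → Q → 0`
  have hle : p.asIdeal ≤ LinearMap.ker φ := hker.ge
  let ι : (A ⧸ p.asIdeal) →ₗ[A] κ := Submodule.liftQ p.asIdeal φ hle
  have hι : Function.Injective ι := by
    rw [← LinearMap.ker_eq_bot, Submodule.ker_liftQ_eq_bot _ _ _ hker.le]
  have hex : Function.Exact ι (LinearMap.range φ).mkQ := by
    intro z
    have hr : LinearMap.range ι = LinearMap.range φ := Submodule.range_liftQ _ _ _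
    rw [← LinearMap.mem_ker, Submodule.ker_mkQ, ← hr]
    rfl
  have hS := scOfLinearMaps_shortExact ι (LinearMap.range φ).mkQ hι hex
    (Submodule.mkQ_surjective _)
  exact hP.ker _ hS hκ claim2

/-- **Induction on residue fields**: a good class of modules over a Noetherian ring containing all
residue fields contains all modules. -/
theorem of_residueFields [IsNoetherianRing A]
    (h : ∀ (x : Ideal A) [x.IsPrime], P (ModuleCat.of A x.ResidueField))
    (N : ModuleCat.{u} A) : P N := by
  have hprime : ∀ p : PrimeSpectrum A, P (ModuleCat.of A (A ⧸ p.asIdeal)) := by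
    intro p
    have hwf : WellFounded (fun p q : PrimeSpectrum A => q < p) :=
      InvImage.wf (f := PrimeSpectrum.asIdeal) (wellFounded_gt (α := Ideal A)) |>.mono
        (by
          intro a b hab
          exact (PrimeSpectrum.asIdeal_lt_asIdeal _ _).2 hab)
    induction p using hwf.induction with
    | _ p ih => exact quot_of_residueField hP p (h p.asIdeal) ih
  have hfin : ∀ (X : Type u) [AddCommGroup X] [Module A X] [Module.Finite A X],
      P (ModuleCat.of A X) := by
    intro X _ _ _
    refine of_finite_of_ann hP ⊥ (fun q _ => hprime q) X ?_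
    intro a ha x
    rw [(Submodule.mem_bot A).1 ha, zero_smul]
  exact hP.fg N (fun X' hX' => by
    have : Module.Finite A X' := Module.Finite.of_fg hX'
    exact hfin X')

end Groth.Agent.H2.ResidueInduction
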