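import Mathlib
import Groth.Agent.Lib.Helper2.ResidueInduction

/-! A map of flat modules over a Noetherian ring which is bijective after tensoring with every
residue field is bijective. -/

universe u

namespace Groth.Agent.H2.FlatIsoResidue

open CategoryTheory CategoryTheory.Limits TensorProduct Groth.Agent.H2.ResidueInduction

variable {A : Type u} [CommRing A]

section Chase

variable {X₁ X₂ X₃ Y₁ Y₂ Y₃ : Type*} [AddCommGroup X₁] [Module A X₁] [AddCommGroup X₂] [Module A X₂]
  [AddCommGroup X₃] [Module A X₃] [AddCommGroup Y₁] [Module A Y₁] [AddCommGroup Y₂] [Module A Y₂]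
  [AddCommGroup Y₃] [Module A Y₃]
  (f : X₁ →ₗ[A] X₂) (g : X₂ →ₗ[A] X₃) (f' : Y₁ →ₗ[A] Y₂) (g' : Y₂ →ₗ[A] Y₃)
  (a₁ : X₁ →ₗ[A] Y₁) (a₂ : X₂ →ₗ[A] Y₂) (a₃ : X₃ →ₗ[A] Y₃)
  (c₁ : ∀ x, f' (a₁ x) = a₂ (f x)) (c₂ : ∀ x, g' (a₂ x) = a₃ (g x))
  (hfg : Function.Exact f g) (hfg' : Function.Exact f' g')

include c₁ c₂ hfg hfg'

/-- Short five lemma, middle term. -/
lemma bijective_mid (hf' : Function.Injective f') (hg : Function.Surjective g)
    (h₁ : Function.Bijective a₁) (h₃ : Function.Bijective a₃) : Function.Bijective a₂ := by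
  constructor
  · rw [injective_iff_map_eq_zero]
    intro x hx
    have h1 : a₃ (g x) = 0 := by rw [← c₂, hx, map_zero]
    have h2 : g x = 0 := h₃.1 (by rw [h1, map_zero])
    obtain ⟨w, rfl⟩ := (hfg x).1 h2
    have h3 : f' (a₁ w) = 0 := by rw [c₁, hx]
    have h4 : a₁ w = 0 := hf' (by rw [h3, map_zero])
    have h5 : w = 0 := h₁.1 (by rw [h4, map_zero])
    rw [h5, map_zero]
  · intro y
    obtain ⟨z, hz⟩ := h₃.2 (g' y)
    obtain ⟨x, rfl⟩ := hg z
    have h1 : g' (y - a₂ x) = 0 := by rw [map_sub, c₂, hz, sub_self]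
    obtain ⟨w, hw⟩ := (hfg' _).1 h1
    obtain ⟨v, rfl⟩ := h₁.2 w
    refine ⟨x + f v, ?_⟩
    rw [map_add, ← c₁, hw]
    abel

/-- Short five lemma, left term. -/
lemma bijective_left (hf : Function.Injective f) (hf' : Function.Injective f')
    (h₂ : Function.Bijective a₂) (h₃ : Function.Bijective a₃) : Function.Bijective a₁ := by
  constructor
  · rw [injective_iff_map_eq_zero]
    intro x hx
    have h1 : a₂ (f x) = 0 := by rw [← c₁, hx, map_zero]
    have h2 : f x = 0 := h₂.1 (by rw [h1, map_zero])
    exact hf (by rw [h2, map_zero])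
  · intro y
    obtain ⟨z, hz⟩ := h₂.2 (f' y)
    have h1 : a₃ (g z) = 0 := by rw [← c₂, hz, hfg'.apply_apply_eq_zero]
    have h2 : g z = 0 := h₃.1 (by rw [h1, map_zero])
    obtain ⟨x, rfl⟩ := (hfg z).1 h2
    refine ⟨x, hf' ?_⟩
    rw [c₁, hz]

end Chase

variable {K F : Type u} [AddCommGroup K] [Module A K] [AddCommGroup F] [Module A F]
  (φ : K →ₗ[A] F)

/-- The class of modules `X` with `X ⊗ φ` bijective. -/
def P (X : ModuleCat.{u} A) : Prop := Function.Bijective (LinearMap.lTensor X φ)

lemma goodClass [Module.Flat A K] [Module.Flat A F] : GoodClass (P φ) where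
  iso {X Y} e h := by
    let eK : X ⊗[A] K ≃ₗ[A] Y ⊗[A] K := TensorProduct.congr e.toLinearEquiv (LinearEquiv.refl A K)
    let eF : X ⊗[A] F ≃ₗ[A] Y ⊗[A] F := TensorProduct.congr e.toLinearEquiv (LinearEquiv.refl A F)
    have hc : ∀ z, LinearMap.lTensor Y φ (eK z) = eF (LinearMap.lTensor X φ z) := by
      intro z
      induction z using TensorProduct.induction_on with
      | zero => simp
      | tmul x k => simp [eK, eF]
      | add a b ha hb => simp only [map_add, ha, hb]
    have : (LinearMap.lTensor Y φ : Y ⊗[A] K → Y ⊗[A] F) =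
        eF ∘ (LinearMap.lTensor X φ) ∘ eK.symm := by
      funext z
      simp only [Function.comp_apply]
      rw [← hc, LinearEquiv.apply_symm_apply]
    show Function.Bijective (LinearMap.lTensor Y φ)
    rw [this]
    exact eF.bijective.comp (h.comp eK.symm.bijective)
  zero X hX := by
    have h1 : Subsingleton (X ⊗[A] K) := Unique.instSubsingleton (α := X ⊗[A] K)
    have h2 : Subsingleton (X ⊗[A] F) := Unique.instSubsingleton (α := X ⊗[A] F)
    exact ⟨fun a b _ => Subsingleton.elim a b, fun y => ⟨0, Subsingleton.elim _ _⟩⟩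
  ext S hS h₁ h₃ := by
    have hf : Function.Injective S.f.hom := (ModuleCat.mono_iff_injective _).1 hS.mono_f
    have hg : Function.Surjective S.g.hom := (ModuleCat.epi_iff_surjective _).1 hS.epi_g
    have hfg : Function.Exact S.f.hom S.g.hom :=
      (ShortComplex.ShortExact.moduleCat_exact_iff_function_exact _).1 hS.exact
    exact bijective_mid (LinearMap.rTensor K S.f.hom) (LinearMap.rTensor K S.g.hom)
      (LinearMap.rTensor F S.f.hom) (LinearMap.rTensor F S.g.hom)
      (LinearMap.lTensor S.X₁ φ) (LinearMap.lTensor S.X₂ φ) (LinearMap.lTensor S.X₃ φ)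
      (fun x => by
        rw [← LinearMap.comp_apply, ← LinearMap.comp_apply, LinearMap.rTensor_comp_lTensor,
          LinearMap.lTensor_comp_rTensor])
      (fun x => by
        rw [← LinearMap.comp_apply, ← LinearMap.comp_apply, LinearMap.rTensor_comp_lTensor,
          LinearMap.lTensor_comp_rTensor])
      (rTensor_exact K hfg hg) (rTensor_exact F hfg hg)
      (Module.Flat.rTensor_preserves_injective_linearMap _ hf)
      (LinearMap.rTensor_surjective K hg) h₁ h₃
  ker S hS h₂ h₃ := by
    have hf : Function.Injective S.f.hom := (ModuleCat.mono_iff_injective _).1 hS.mono_f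
    have hg : Function.Surjective S.g.hom := (ModuleCat.epi_iff_surjective _).1 hS.epi_g
    have hfg : Function.Exact S.f.hom S.g.hom :=
      (ShortComplex.ShortExact.moduleCat_exact_iff_function_exact _).1 hS.exact
    exact bijective_left (LinearMap.rTensor K S.f.hom) (LinearMap.rTensor K S.g.hom)
      (LinearMap.rTensor F S.f.hom) (LinearMap.rTensor F S.g.hom)
      (LinearMap.lTensor S.X₁ φ) (LinearMap.lTensor S.X₂ φ) (LinearMap.lTensor S.X₃ φ)
      (fun x => by
        rw [← LinearMap.comp_apply, ← LinearMap.comp_apply, LinearMap.rTensor_comp_lTensor,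
          LinearMap.lTensor_comp_rTensor])
      (fun x => by
        rw [← LinearMap.comp_apply, ← LinearMap.comp_apply, LinearMap.rTensor_comp_lTensor,
          LinearMap.lTensor_comp_rTensor])
      (rTensor_exact K hfg hg) (rTensor_exact F hfg hg)
      (Module.Flat.rTensor_preserves_injective_linearMap _ hf)
      (Module.Flat.rTensor_preserves_injective_linearMap _ hf) h₂ h₃
  fg X _ _ h := by
    have hc : ∀ (X' : Submodule A X) (z : X' ⊗[A] K),
        LinearMap.lTensor X φ (LinearMap.rTensor K X'.subtype z) =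
          LinearMap.rTensor F X'.subtype (LinearMap.lTensor X' φ z) := by
      intro X' z
      rw [← LinearMap.comp_apply, ← LinearMap.comp_apply, LinearMap.rTensor_comp_lTensor,
        LinearMap.lTensor_comp_rTensor]
    constructor
    · show Function.Injective (LinearMap.lTensor X φ)
      rw [injective_iff_map_eq_zero]
      intro z hz
      obtain ⟨X', hX', z', rfl⟩ := Submodule.exists_fg_le_eq_rTensor_subtype (M := K) z
      rw [hc] at hz
      have hinj : Function.Injective (LinearMap.rTensor F X'.subtype) :=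
        Module.Flat.rTensor_preserves_injective_linearMap _ X'.injective_subtype
      have h1 : LinearMap.lTensor X' φ z' = 0 := hinj (by rw [hz, map_zero])
      have h2 : z' = 0 := (h X' hX').1 (by rw [h1, map_zero])
      rw [h2, map_zero]
    · show Function.Surjective (LinearMap.lTensor X φ)
      intro v
      obtain ⟨X', hX', v', rfl⟩ := Submodule.exists_fg_le_eq_rTensor_subtype (M := F) v
      obtain ⟨z', rfl⟩ := (h X' hX').2 v'
      exact ⟨LinearMap.rTensor K X'.subtype z', hc X' z'⟩

/-- A map of flat modules over a Noetherian ring which is bijective after tensoring with every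
residue field is bijective. -/
theorem bijective_of_residueFields [IsNoetherianRing A] [Module.Flat A K] [Module.Flat A F]
    (h : ∀ (x : Ideal A) [x.IsPrime], Function.Bijective (LinearMap.lTensor x.ResidueField φ)) :
    Function.Bijective φ := by
  have hA : P φ (ModuleCat.of A A) := of_residueFields (goodClass φ) (fun x _ => h x) _
  have hc : ∀ z : A ⊗[A] K, TensorProduct.lid A F (LinearMap.lTensor A φ z) =
      φ (TensorProduct.lid A K z) := by
    intro z
    induction z using TensorProduct.induction_on with
    | zero => simp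
    | tmul a k => simp
    | add a b ha hb => simp only [map_add, ha, hb]
  have : (φ : K → F) = (TensorProduct.lid A F) ∘ (LinearMap.lTensor A φ) ∘
      (TensorProduct.lid A K).symm := by
    funext k
    simp only [Function.comp_apply]
    rw [hc, LinearEquiv.apply_symm_apply]
  rw [this]
  exact (TensorProduct.lid A F).bijective.comp (hA.comp (TensorProduct.lid A K).symm.bijective)

end Groth.Agent.H2.FlatIsoResidue
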