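import Mathlib

/-!
# Injective maps with flat cokernel are universally injective; regular sequences with flat
successive quotients
-/

namespace Groth.Agent.H2.FlatQuot

open TensorProduct Function Pointwise

universe u

section

variable {A : Type u} [CommRing A] {N₁ N₂ N₃ : Type u} [AddCommGroup N₁] [Module A N₁]
  [AddCommGroup N₂] [Module A N₂] [AddCommGroup N₃] [Module A N₃]
  (g₁ : N₁ →ₗ[A] N₂) (g₂ : N₂ →ₗ[A] N₃)

/-- If `0 → N₁ → N₂ → N₃ → 0` is exact with `N₃` flat, then `M ⊗ N₁ → M ⊗ N₂` is injective. -/
theorem lTensor_injective_of_flat_quotient (hinj : Injective g₁) (hex : Exact g₁ g₂)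
    (hsurj : Surjective g₂) [Module.Flat A N₃] (M : Type u) [AddCommGroup M] [Module A M] :
    Injective (g₁.lTensor M) := by
  let π : (M →₀ A) →ₗ[A] M := Finsupp.linearCombination A id
  have hπ : Surjective π := Finsupp.linearCombination_surjective A surjective_id
  have hfex : Exact (LinearMap.ker π).subtype π := LinearMap.exact_subtype_ker_map π
  exact lTensor_injective_of_exact_of_exact_of_rTensor_injective (M₁ := ↥(LinearMap.ker π))
    (M₂ := M →₀ A) (M₃ := M) hfex hπ hex hsurj
    (Module.Flat.rTensor_preserves_injective_linearMap (M := N₃) (LinearMap.ker π).subtype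
      (LinearMap.ker π).injective_subtype)
    (Module.Flat.lTensor_preserves_injective_linearMap (M := M →₀ A) g₁ hinj)

end

section

variable {B : Type u} [CommRing B] {M : Type u} [AddCommGroup M] [Module B M]

/-- `M/P --f--> M/P → M/P'` is exact when `P' = P ⊔ f M`. -/
lemma exact_smul_factor (P P' : Submodule B M) (f : B)
    (hP' : P' = P ⊔ Ideal.span {f} • (⊤ : Submodule B M)) (hle : P ≤ P') :
    Exact (LinearMap.lsmul B (M ⧸ P) f) (Submodule.factor hle) := by
  rw [Submodule.ideal_span_singleton_smul] at hP'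
  intro y
  obtain ⟨m, rfl⟩ := Submodule.Quotient.mk_surjective _ y
  change Submodule.factor hle (Submodule.mkQ P m) = 0 ↔ _
  rw [Submodule.factor_mk, Submodule.mkQ_apply, Submodule.Quotient.mk_eq_zero, hP']
  constructor
  · intro hm
    obtain ⟨u, hu, z, hz, rfl⟩ := Submodule.mem_sup.mp hm
    obtain ⟨v, -, rfl⟩ := hz
    refine ⟨(Submodule.Quotient.mk v : M ⧸ P), ?_⟩
    change f • (Submodule.Quotient.mk v : M ⧸ P) = _
    rw [← Submodule.Quotient.mk_smul, eq_comm, Submodule.Quotient.eq]
    simpa using hu
  · rintro ⟨y', hy'⟩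
    obtain ⟨v, rfl⟩ := Submodule.Quotient.mk_surjective _ y'
    change f • (Submodule.Quotient.mk v : M ⧸ P) = _ at hy'
    rw [← Submodule.Quotient.mk_smul, eq_comm, Submodule.Quotient.eq] at hy'
    have : m = (m - f • v) + f • v := by abel
    rw [this]
    exact Submodule.add_mem_sup hy' (Submodule.smul_mem_pointwise_smul _ _ _ Submodule.mem_top)

end

end Groth.Agent.H2.FlatQuot
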