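import Mathlib
import Groth.Agent.Lib.Helper1.LocalCriterion3
import Groth.Agent.Lib.Helper3.CAlgAux
import Groth.Agent.Lib.Helper2.LocCritInj

universe u
open TensorProduct

namespace Groth.Agent.H2.FlatSquare

theorem S6382 (R S R' S' : Type u) [CommRing R] [CommRing S]
    [CommRing R'] [CommRing S'] [IsLocalRing R] [IsLocalRing S] [IsLocalRing R'] [IsLocalRing S']
    [Algebra R S] [Algebra R R'] [Algebra S S'] [Algebra R' S'] [Algebra R S']
    [IsScalarTower R S S'] [IsScalarTower R R' S']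
    [IsLocalHom (algebraMap R S)] [IsLocalHom (algebraMap R R')] [IsLocalHom (algebraMap S S')]
    [IsLocalHom (algebraMap R' S')] [Module.Flat R R'] [Module.Flat S S']
    [IsNoetherianRing R'] [IsNoetherianRing S']
    (hm : (IsLocalRing.maximalIdeal R).map (algebraMap R R') = IsLocalRing.maximalIdeal R')
    (M : Type u) [AddCommGroup M] [Module S M] [Module R M] [IsScalarTower R S M] [Module.Finite S M]
    [Module.Flat R M]
    (M' : Type u) [AddCommGroup M'] [Module S' M'] [Module S M'] [IsScalarTower S S' M'] [Module R' M']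
    [IsScalarTower R' S' M'] (j : M →ₗ[S] M') (hj : IsBaseChange S' j) :
    Module.Flat R' M' := by
  letI : Module R M' := Module.compHom M' (algebraMap R S')
  have hsmul : ∀ (r : R) (x : M'), r • x = algebraMap R S' r • x := fun _ _ => rfl
  haveI tower1 : IsScalarTower R S' M' := ⟨fun r s x => by
    rw [hsmul, Algebra.smul_def, mul_smul]⟩
  haveI tower2 : IsScalarTower R R' M' := ⟨fun r s x => by
    rw [hsmul, ← algebraMap_smul S' (r • s) x, ← algebraMap_smul S' s x, Algebra.smul_def, map_mul,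
      mul_smul, ← IsScalarTower.algebraMap_apply]⟩
  -- R-flatness of M'
  haveI hflatR : Module.Flat R M' := by
    haveI := Groth.Agent.H3.CAlgAux.flat_baseChange_of_flat (R := R) (S := S) (S' := S') M
    let e : S' ⊗[S] M ≃ₗ[S'] M' := hj.equiv
    exact Module.Flat.of_linearEquiv (e.restrictScalars R).symm
  -- finiteness
  haveI : Module.Finite S' M' := Module.Finite.equiv hj.equiv
  have hIjac : (IsLocalRing.maximalIdeal R').map (algebraMap R' S') ≤ Ideal.jacobson ⊥ := by
    rw [IsLocalRing.jacobson_eq_maximalIdeal ⊥ bot_ne_top]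
    exact ((IsLocalRing.local_hom_TFAE (algebraMap R' S')).out 0 2).1 ‹_›
  have key : ∀ J : Ideal R', (IsLocalRing.maximalIdeal R).map (algebraMap R R') = J →
      Function.Injective (J.subtype.rTensor M') := by
    rintro J rfl
    exact Groth.Agent.H1.rTensor_map_subtype_injective_of_flat (R := R) (S := R') (M := M')
      (IsLocalRing.maximalIdeal R)
  have h1 := key _ hm
  letI : Field (R' ⧸ IsLocalRing.maximalIdeal R') := Ideal.Quotient.field _
  haveI : Module.Flat (R' ⧸ IsLocalRing.maximalIdeal R') ((R' ⧸ IsLocalRing.maximalIdeal R') ⊗[R'] M') := inferInstance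
  exact Groth.Agent.H1.flat_of_rTensor_injective_of_flat_quotient (A := R') (B := S') (M := M')
    (IsLocalRing.maximalIdeal R') hIjac h1

theorem S12419 (A B A' : Type u) [CommRing A] [CommRing B]
    [CommRing A'] [IsNoetherianRing A] [IsLocalRing A] [IsNoetherianRing B] [IsLocalRing B]
    [Algebra A B] [IsLocalHom (algebraMap A B)] [IsNoetherianRing A'] [Finite (MaximalSpectrum A')]
    [Algebra A A']
    (hrad : (Ideal.jacobson (⊥ : Ideal A')).comap (algebraMap A A') = IsLocalRing.maximalIdeal A)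
    (htop : ∀ n : ℕ, ∃ N : ℕ,
      ((Ideal.jacobson (⊥ : Ideal A')) ^ N).comap (algebraMap A A') ≤ (IsLocalRing.maximalIdeal A) ^ n) :
    Module.Flat A B ↔ Module.Flat A' (A' ⊗[A] B) := by
  constructor
  · intro h
    infer_instance
  · intro hflat
    have hmB : (IsLocalRing.maximalIdeal A).map (algebraMap A B) ≤ Ideal.jacobson ⊥ := by
      rw [IsLocalRing.jacobson_eq_maximalIdeal ⊥ bot_ne_top]
      exact ((IsLocalRing.local_hom_TFAE (algebraMap A B)).out 0 2).1 ‹_›
    refine Groth.Agent.H1.flat_of_forall_flat_quotient_pow (A := A) (B := B) (M := B)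
      (IsLocalRing.maximalIdeal A) hmB ?_
    intro n hn
    obtain ⟨N, hN⟩ := htop n
    set m := IsLocalRing.maximalIdeal A with hm
    set K : Ideal A' := (Ideal.jacobson (⊥ : Ideal A')) ^ N with hK
    set J : Ideal A := K.comap (algebraMap A A') with hJ
    have hJle : J ≤ m ^ n := hN
    let ψ : A ⧸ J →+* A' ⧸ K := Ideal.quotientMap K (algebraMap A A') le_rfl
    letI : Algebra (A ⧸ J) (A' ⧸ K) := ψ.toAlgebra
    have hψ : Function.Injective (algebraMap (A ⧸ J) (A' ⧸ K)) := Ideal.quotientMap_injective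
    haveI : IsScalarTower A (A ⧸ J) (A' ⧸ K) := IsScalarTower.of_algebraMap_eq (fun r => rfl)
    haveI : Module.Flat (A' ⧸ K) ((A' ⧸ K) ⊗[A] B) :=
      Groth.Agent.H2.LocCrit.flat_baseChange_comp A A' (A' ⧸ K) B
    haveI : Module.Flat (A' ⧸ K) ((A' ⧸ K) ⊗[A ⧸ J] ((A ⧸ J) ⊗[A] B)) :=
      Groth.Agent.H2.LocCrit.flat_baseChange_of_comp A (A ⧸ J) (A' ⧸ K) B
    let Ī : Ideal (A ⧸ J) := m.map (Ideal.Quotient.mk J)
    have hmr : m.map (algebraMap A A') ≤ Ideal.jacobson (⊥ : Ideal A') := by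
      rw [Ideal.map_le_iff_le_comap, hrad]
    have hĪ : Ī ^ N = ⊥ := by
      rw [← Ideal.map_pow, eq_bot_iff, Ideal.map_le_iff_le_comap, ← RingHom.ker_eq_comap_bot,
        Ideal.mk_ker, hJ, ← Ideal.map_le_iff_le_comap, Ideal.map_pow, hK]
      exact Ideal.pow_right_mono hmr N
    have hJm : J ≤ m := hJle.trans (Ideal.pow_le_self hn.ne')
    haveI hmax : Ī.IsMaximal := by
      refine (Ideal.map_eq_top_or_isMaximal_of_surjective (Ideal.Quotient.mk J)
        Ideal.Quotient.mk_surjective (IsLocalRing.maximalIdeal.isMaximal A)).resolve_left ?_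
      intro htop'
      have h1 : (1 : A ⧸ J) ∈ m.map (Ideal.Quotient.mk J) := by rw [htop']; trivial
      rw [← map_one (Ideal.Quotient.mk J),
        Ideal.mem_map_iff_of_surjective _ Ideal.Quotient.mk_surjective] at h1
      obtain ⟨x, hx, hx1⟩ := h1
      have h2 : x - 1 ∈ J := Ideal.Quotient.eq.1 hx1
      have h3 : (1 : A) ∈ m := by
        have := m.sub_mem hx (hJm h2)
        simpa using this
      exact (IsLocalRing.maximalIdeal.isMaximal A).ne_top ((Ideal.eq_top_iff_one _).2 h3)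
    have hfl : Module.Flat ((A ⧸ J) ⧸ Ī) (((A ⧸ J) ⧸ Ī) ⊗[A ⧸ J] ((A ⧸ J) ⊗[A] B)) := by
      letI := Ideal.Quotient.field Ī
      infer_instance
    have h1 : Module.Flat (A ⧸ J) ((A ⧸ J) ⊗[A] B) :=
      Groth.Agent.H2.LocCrit.flat_of_nilpotent_of_injective hψ ((A ⧸ J) ⊗[A] B) N Ī hĪ hfl
    letI : Algebra (A ⧸ J) (A ⧸ m ^ n) := (Ideal.Quotient.factor hJle).toAlgebra
    haveI : IsScalarTower A (A ⧸ J) (A ⧸ m ^ n) := IsScalarTower.of_algebraMap_eq (fun r => rfl)
    exact Groth.Agent.H2.LocCrit.flat_baseChange_comp A (A ⧸ J) (A ⧸ m ^ n) B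

end Groth.Agent.H2.FlatSquare
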