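import Groth.Agent.Lib.Helper2.FormalQ4
import Groth.Agent.Lib.Lead.Stein.Vanish
import Groth.Prelude.Def_Formal2

/-!
# Comparing ideals through the modules they kill (helper2)
-/

set_option autoImplicit false
set_option linter.style.haveILetI false
universe u
open CategoryTheory Limits Opposite TopologicalSpace AlgebraicGeometry

namespace Groth.Agent.H2.FormalEq

open Groth.Agent.LD.FF Groth.Agent.LD.Stein Groth.Agent.H2.FormalQ Groth.Agent.LD

variable {A : Type u} [CommRing A] (X : Scheme.{u}) [X.Over (Spec (CommRingCat.of A))]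

/-- `J' O_X ⊆ J O_X`, phrased through the modules killed. -/
def SLe (J' J : Ideal A) : Prop :=
  ∀ Z : X.Modules, Formal.KilledBy J Z → Formal.KilledBy J' Z

variable {X}

lemma SLe.of_le {J' J : Ideal A} (h : J' ≤ J) : SLe X J' J := fun _ hZ => killedBy_mono h hZ

lemma SLe.trans {J₁ J₂ J₃ : Ideal A} (h : SLe X J₁ J₂) (h' : SLe X J₂ J₃) : SLe X J₁ J₃ :=
  fun Z hZ => h Z (h' Z hZ)

/-- the ring map `A → Γ(X, U)`. -/
noncomputable def φU (U : X.Opens) : A →+* Γ(X, U) :=
  (X.presheaf.map (homOfLE (le_top : U ≤ ⊤)).op).hom.comp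
    (Coh.toGlobal (X ↘ Spec (CommRingCat.of A)))

lemma φU_apply (U : X.Opens) (a : A) :
    φU U a = X.presheaf.map (homOfLE (le_top : U ≤ ⊤)).op (gl A X a) := rfl

lemma res_φU {U W : X.Opens} (h : W ≤ U) (a : A) :
    X.presheaf.map (homOfLE h).op (φU U a) = φU W a := by
  rw [φU_apply, φU_apply, ← X.presheaf.map_comp_apply]
  rfl

lemma smulMod_app' (M : X.Modules) (a : A) (W : X.Opens) (s : Γ(M, W)) :
    (Formal.smulMod A M a).app W s = φU W a • s := rfl

/-- if the image of `b` in `Γ(X, U)` lies in `J Γ(X, U)` and `Z` is killed by `J` then `b` kills the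
sections of `Z` over all opens inside `U`. -/
lemma smul_eq_zero_of_mem_map {J : Ideal A} (Z : X.Modules) (hZ : Formal.KilledBy J Z)
    (U : X.Opens) (b : A) (hb : φU U b ∈ Ideal.map (φU U) J) {W : X.Opens} (hW : W ≤ U)
    (s : Γ(Z, W)) : φU W b • s = 0 := by
  have key : ∀ r ∈ Ideal.map (φU U) J, X.presheaf.map (homOfLE hW).op r • s = 0 := by
    intro r hr
    refine Submodule.span_induction (p := fun r _ => X.presheaf.map (homOfLE hW).op r • s = 0)
      ?_ ?_ ?_ ?_ hr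
    · rintro _ ⟨j, hj, rfl⟩
      rw [res_φU, ← smulMod_app', hZ j hj]
      rfl
    · rw [map_zero, zero_smul]
    · intro x y _ _ hx hy
      rw [map_add, add_smul, hx, hy, add_zero]
    · intro c x _ hx
      rw [smul_eq_mul, map_mul, mul_smul, hx, smul_zero]
  rw [← res_φU hW]
  exact key _ hb


/-- containment of ideal sheaves can be checked on an open cover. -/
lemma sLe_of_cover {ι : Type*} (U : ι → X.Opens) (hU : (⊤ : X.Opens) ≤ ⨆ i, U i) {J' J : Ideal A}
    (h : ∀ i, ∀ b ∈ J', φU (U i) b ∈ Ideal.map (φU (U i)) J) : SLe X J' J := by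
  intro Z hZ b hb
  ext W s
  change φU W b • s = 0
  apply QC.section_eq_zero_of_cover Z (fun i => W ⊓ U i) (fun i => inf_le_left)
  · intro x hx
    have hx' : x ∈ (⨆ i, U i : X.Opens) := hU (show x ∈ (⊤ : X.Opens) from trivial)
    rw [Opens.mem_iSup] at hx' ⊢
    obtain ⟨i, hi⟩ := hx'
    exact ⟨i, hx, hi⟩
  · intro i
    rw [QC.smul_res, res_φU]
    exact smul_eq_zero_of_mem_map Z hZ (U i) b (h i b hb) inf_le_right _

/-- on an affine open, `I Γ(X, U)` is contained in the radical of `J Γ(X, U)` when the zero locus of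
`J O_X` is contained in that of `I O_X`. -/
lemma map_le_radical {I J : Ideal A}
    (hV : (fun x : X => (X ↘ Spec (CommRingCat.of A)) x) ⁻¹' PrimeSpectrum.zeroLocus (J : Set A) ⊆
      (fun x : X => (X ↘ Spec (CommRingCat.of A)) x) ⁻¹' PrimeSpectrum.zeroLocus (I : Set A))
    (U : X.Opens) (hU : IsAffineOpen U) :
    Ideal.map (φU U) I ≤ (Ideal.map (φU U) J).radical := by
  rw [Ideal.map_le_iff_le_comap]
  intro a ha
  rw [Ideal.mem_comap, Ideal.radical_eq_sInf, Ideal.mem_sInf]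
  rintro q ⟨hq, hqp⟩
  let w : X := hU.fromSpec ⟨q, hqp⟩
  have hwU : w ∈ U := by
    have : w ∈ Set.range hU.fromSpec := ⟨_, rfl⟩
    rw [hU.range_fromSpec] at this
    exact this
  -- membership criterion
  have crit : ∀ c : A, φU U c ∈ q ↔ c ∈ ((X ↘ Spec (CommRingCat.of A)).base w).asIdeal := by
    intro c
    have h1 := mem_basicOpen_gl c w
    have h2 : w ∈ X.basicOpen (φU U c) ↔ w ∈ X.basicOpen (gl A X c) := by
      rw [φU_apply, Scheme.basicOpen_res]
      exact ⟨fun h => h.2, fun h => ⟨hwU, h⟩⟩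
    have h3 : w ∈ X.basicOpen (φU U c) ↔ φU U c ∉ q := by
      have := hU.fromSpec_preimage_basicOpen (φU U c)
      have h4 : (⟨q, hqp⟩ : PrimeSpectrum Γ(X, U)) ∈ hU.fromSpec ⁻¹ᵁ X.basicOpen (φU U c) ↔
          (⟨q, hqp⟩ : PrimeSpectrum Γ(X, U)) ∈ PrimeSpectrum.basicOpen (φU U c) := by
        rw [this]
        rfl
      exact h4
    rw [← not_iff_not, ← h3, h2, h1]
  have hwJ : w ∈ (fun x : X => (X ↘ Spec (CommRingCat.of A)) x) ⁻¹'
      PrimeSpectrum.zeroLocus (J : Set A) := by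
    intro j hj
    exact (crit j).1 (hq (Ideal.mem_map_of_mem _ hj))
  exact (crit a).2 (hV hwJ ha)


theorem exists_pow_sLe [IsNoetherian X] {I J : Ideal A}
    (hV : (fun x : X => (X ↘ Spec (CommRingCat.of A)) x) ⁻¹' PrimeSpectrum.zeroLocus (J : Set A) ⊆
      (fun x : X => (X ↘ Spec (CommRingCat.of A)) x) ⁻¹' PrimeSpectrum.zeroLocus (I : Set A)) :
    ∃ c : ℕ, 0 < c ∧ ∀ k : ℕ, SLe X (I ^ (c * k)) (J ^ k) := by
  obtain ⟨t, ht, e⟩ := isCompact_and_isOpen_iff_finite_and_eq_biUnion_affineOpens.mp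
    ⟨(CompactSpace.isCompact_univ : IsCompact (Set.univ : Set X)), isOpen_univ⟩
  haveI := ht.to_subtype
  have hc : ∀ U : t, ∃ c : ℕ, Ideal.map (φU U.1.1) I ^ c ≤ Ideal.map (φU U.1.1) J := by
    intro U
    haveI : IsNoetherianRing Γ(X, U.1.1) := IsLocallyNoetherian.component_noetherian U.1
    obtain ⟨c, hc⟩ := Ideal.exists_radical_pow_le_of_fg (Ideal.map (φU U.1.1) J)
      (IsNoetherian.noetherian _)
    exact ⟨c, (Ideal.pow_right_mono (map_le_radical hV U.1.1 U.1.2) c).trans hc⟩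
  choose c hc using hc
  obtain ⟨C, hC⟩ := (Set.finite_range c).bddAbove
  refine ⟨C + 1, Nat.succ_pos C, fun k => ?_⟩
  refine sLe_of_cover (fun U : t => U.1.1) ?_ ?_
  · intro x _
    have hx : x ∈ (Set.univ : Set X) := trivial
    rw [e] at hx
    simp only [Set.mem_iUnion] at hx
    obtain ⟨U, hUt, hxU⟩ := hx
    exact Opens.mem_iSup.2 ⟨⟨U, hUt⟩, hxU⟩
  · intro U b hb
    have h1 : φU U.1.1 b ∈ Ideal.map (φU U.1.1) (I ^ ((C + 1) * k)) := Ideal.mem_map_of_mem _ hb
    rw [Ideal.map_pow, pow_mul] at h1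
    rw [Ideal.map_pow]
    refine Ideal.pow_right_mono ?_ k h1
    exact (Ideal.pow_le_pow_right ((hC ⟨U, rfl⟩).trans (Nat.le_succ C))).trans (hc U)

end Groth.Agent.H2.FormalEq
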