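import Groth.Agent.Lib.Helper2.FormalEq2

/-!
# The quotient system `n ↦ F_{m n} / J^(n+1) F_{m n}` (helper2)
-/

set_option autoImplicit false
set_option linter.style.haveILetI false
universe u
open CategoryTheory Limits Opposite TopologicalSpace AlgebraicGeometry

namespace Groth.Agent.H2.FormalEq

open Groth.Agent.LD.FF Groth.Agent.LD.Stein Groth.Agent.H2.FormalQ Groth.Agent.LD

variable {A : Type u} [CommRing A] {X : Scheme.{u}} [X.Over (Spec (CommRingCat.of A))]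
  (J : Ideal A) {m : ℕ → ℕ} (hm : Monotone m)

section Sys

variable (F : ℕᵒᵖ ⥤ X.Modules)

/-- the transition maps of the quotient system. -/
noncomputable def qT {n k : ℕ} (h : n ≤ k) :
    Formal.modPow J (k + 1) (F.obj (op (m k))) ⟶ Formal.modPow J (n + 1) (F.obj (op (m n))) :=
  cokernel.desc _ (tr F (hm h) ≫ Formal.modPowπ J (n + 1) (F.obj (op (m n)))) (by
    rw [smulFamily_comp_eq_zero_iff]
    intro b hb
    rw [← Category.assoc, ← comp_smulMod, Category.assoc,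
      ((isQ_iff _ _).1 (isQ_modPowπ J (n + 1) (F.obj (op (m n))))).2.1 b
        (Ideal.pow_le_pow_right (Nat.succ_le_succ h) hb), comp_zero])

@[reassoc]
lemma π_qT {n k : ℕ} (h : n ≤ k) :
    Formal.modPowπ J (k + 1) (F.obj (op (m k))) ≫ qT J hm F h =
      tr F (hm h) ≫ Formal.modPowπ J (n + 1) (F.obj (op (m n))) :=
  cokernel.π_desc _ _ _

lemma qT_refl (n : ℕ) : qT J hm F (le_refl n) = 𝟙 _ := by
  rw [← cancel_epi (Formal.modPowπ J (n + 1) (F.obj (op (m n)))), π_qT, Category.comp_id]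
  have : tr F (hm (le_refl n)) = 𝟙 _ := tr_refl F (m n)
  rw [this, Category.id_comp]

lemma qT_comp {n k l : ℕ} (h : n ≤ k) (h' : k ≤ l) :
    qT J hm F h' ≫ qT J hm F h = qT J hm F (h.trans h') := by
  rw [← cancel_epi (Formal.modPowπ J (l + 1) (F.obj (op (m l)))), π_qT_assoc, π_qT, π_qT,
    ← Category.assoc, tr_comp]

/-- the quotient system `n ↦ F_{m n} / J^(n+1) F_{m n}`. -/
noncomputable def qSys : ℕᵒᵖ ⥤ X.Modules where
  obj n := Formal.modPow J (n.unop + 1) (F.obj (op (m n.unop)))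
  map {a b} f := qT J hm F (leOfHom f.unop)
  map_id a := qT_refl J hm F a.unop
  map_comp {a b c} f g := (qT_comp J hm F (leOfHom g.unop) (leOfHom f.unop)).symm

lemma qSys_map {n k : ℕ} (h : n ≤ k) : (qSys J hm F).map (homOfLE h).op = qT J hm F h := rfl

end Sys

section Map

variable {F F' F'' : ℕᵒᵖ ⥤ X.Modules}

/-- functoriality of the quotient system. -/
noncomputable def qMap (φ : F ⟶ F') : qSys J hm F ⟶ qSys J hm F' where
  app n := modPowMap J (n.unop + 1) (φ.app (op (m n.unop)))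
  naturality {a b} f := by
    change qT J hm F (leOfHom f.unop) ≫ modPowMap J (b.unop + 1) (φ.app (op (m b.unop))) =
      modPowMap J (a.unop + 1) (φ.app (op (m a.unop))) ≫ qT J hm F' (leOfHom f.unop)
    rw [← cancel_epi (Formal.modPowπ J (a.unop + 1) (F.obj (op (m a.unop)))), π_qT_assoc,
      modPowπ_modPowMap, modPowπ_modPowMap_assoc, π_qT, ← Category.assoc, ← Category.assoc]
    congr 1
    exact φ.naturality (homOfLE (hm (leOfHom f.unop))).op

lemma qMap_app (φ : F ⟶ F') (n : ℕ) :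
    (qMap J hm φ).app (op n) = modPowMap J (n + 1) (φ.app (op (m n))) := rfl

lemma qMap_id (F : ℕᵒᵖ ⥤ X.Modules) : qMap J hm (𝟙 F) = 𝟙 _ := by
  apply NatTrans.ext
  funext n
  change modPowMap J (n.unop + 1) (𝟙 _) = 𝟙 _
  rw [← cancel_epi (Formal.modPowπ J (n.unop + 1) (F.obj (op (m n.unop)))), modPowπ_modPowMap,
    Category.id_comp, Category.comp_id]

lemma qMap_comp (φ : F ⟶ F') (ψ : F' ⟶ F'') :
    qMap J hm (φ ≫ ψ) = qMap J hm φ ≫ qMap J hm ψ := by
  apply NatTrans.ext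
  funext n
  change modPowMap J (n.unop + 1) (φ.app _ ≫ ψ.app _) =
    modPowMap J (n.unop + 1) (φ.app _) ≫ modPowMap J (n.unop + 1) (ψ.app _)
  rw [← cancel_epi (Formal.modPowπ J (n.unop + 1) (F.obj (op (m n.unop)))), modPowπ_modPowMap,
    modPowπ_modPowMap_assoc, modPowπ_modPowMap, Category.assoc]

end Map

section Proj

/-- the projection `F_{m n} ⟶ (F / J)_n`. -/
noncomputable def qπ (F : ℕᵒᵖ ⥤ X.Modules) (n : ℕ) :
    F.obj (op (m n)) ⟶ (qSys J hm F).obj (op n) :=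
  Formal.modPowπ J (n + 1) (F.obj (op (m n)))

lemma isQ_qπ (F : ℕᵒᵖ ⥤ X.Modules) (n : ℕ) : IsQ (J ^ (n + 1)) (qπ J hm F n) :=
  isQ_modPowπ J (n + 1) _

instance (F : ℕᵒᵖ ⥤ X.Modules) (n : ℕ) : Epi (qπ J hm F n) := (isQ_qπ J hm F n).epi

@[reassoc]
lemma qπ_map (F : ℕᵒᵖ ⥤ X.Modules) {n k : ℕ} (h : n ≤ k) :
    qπ J hm F k ≫ (qSys J hm F).map (homOfLE h).op = tr F (hm h) ≫ qπ J hm F n :=
  π_qT J hm F h

@[reassoc]
lemma qπ_naturality {F F' : ℕᵒᵖ ⥤ X.Modules} (φ : F ⟶ F') (n : ℕ) :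
    qπ J hm F n ≫ (qMap J hm φ).app (op n) = φ.app (op (m n)) ≫ qπ J hm F' n :=
  modPowπ_modPowMap J (n + 1) (φ.app (op (m n)))

end Proj

/-- the quotient system functor. -/
noncomputable def qFunctor : (ℕᵒᵖ ⥤ X.Modules) ⥤ (ℕᵒᵖ ⥤ X.Modules) where
  obj F := qSys J hm F
  map φ := qMap J hm φ
  map_id F := qMap_id J hm F
  map_comp φ ψ := qMap_comp J hm φ ψ

variable {J hm}

/-- the quotient system of a coherent formal module for `I` is a coherent formal module for `J` as soon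
as `I^(m n + 1) O_X ⊆ J^(n+1) O_X`. -/
theorem isCohFormal_qSys {I : Ideal A} [IsLocallyNoetherian X] {F : ℕᵒᵖ ⥤ X.Modules}
    (hF : Formal.IsCohFormal I F) (H : ∀ n, SLe X (I ^ (m n + 1)) (J ^ (n + 1))) :
    Formal.IsCohFormal J (qSys J hm F) := by
  refine ⟨fun n => isCoh_modPow J (n + 1) (hF.1 (m n)), fun n => killedBy_modPow J (n + 1) _,
    fun n => ?_⟩
  change IsQ (J ^ (n + 1)) (qT J hm F (Nat.le_succ n))
  refine isQ_of_comp (isQ_modPowπ J (n + 1 + 1) (F.obj (op (m (n + 1))))) ?_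
  rw [π_qT]
  exact isQ_comp_sLe (H n) (isQ_tr hF (hm (Nat.le_succ n))) (isQ_modPowπ J (n + 1) _)

end Groth.Agent.H2.FormalEq
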