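import Groth.Agent.Lib.Helper2.FormalEq3

/-!
# Coherent formal modules only depend on the zero locus of the ideal (helper2)
-/

set_option autoImplicit false
set_option linter.style.haveILetI false
universe u
open CategoryTheory Limits Opposite TopologicalSpace AlgebraicGeometry

namespace Groth.Agent.H2.FormalEq

open Groth.Agent.LD.FF Groth.Agent.LD.Stein Groth.Agent.H2.FormalQ Groth.Agent.LD

variable {A : Type u} [CommRing A] {X : Scheme.{u}} [X.Over (Spec (CommRingCat.of A))]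
  (I J : Ideal A) {m m' : ℕ → ℕ} (hm : Monotone m) (hm' : Monotone m')
  (H' : ∀ n, SLe X (J ^ (m' n + 1)) (I ^ (n + 1))) (hle : ∀ n, n ≤ m (m' n))

section Unit

variable {F F' : ℕᵒᵖ ⥤ X.Modules}

/-- the canonical map `F_{m (m' n)} ⟶ ((F / J) / I)_n`. -/
noncomputable def qq (F : ℕᵒᵖ ⥤ X.Modules) (n : ℕ) :
    F.obj (op (m (m' n))) ⟶ (qSys I hm' (qSys J hm F)).obj (op n) :=
  qπ J hm F (m' n) ≫ qπ I hm' (qSys J hm F) n

include H' in
lemma isQ_qq (F : ℕᵒᵖ ⥤ X.Modules) (n : ℕ) : IsQ (I ^ (n + 1)) (qq I J hm hm' F n) :=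
  isQ_comp_sLe (H' n) (isQ_qπ J hm F (m' n)) (isQ_qπ I hm' _ n)

lemma qq_map (F : ℕᵒᵖ ⥤ X.Modules) {n k : ℕ} (h : n ≤ k) :
    qq I J hm hm' F k ≫ (qSys I hm' (qSys J hm F)).map (homOfLE h).op =
      tr F (hm (hm' h)) ≫ qq I J hm hm' F n := by
  unfold qq
  rw [Category.assoc, qπ_map, qπ_map_assoc]

lemma qq_naturality (φ : F ⟶ F') (n : ℕ) :
    qq I J hm hm' F n ≫ (qMap I hm' (qMap J hm φ)).app (op n) =
      φ.app (op (m (m' n))) ≫ qq I J hm hm' F' n := by
  unfold qq
  rw [Category.assoc, qπ_naturality, qπ_naturality_assoc]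

variable {I} (hF : Formal.IsCohFormal I F) (hF' : Formal.IsCohFormal I F')

include hF H' in
lemma exists_unitIso (n : ℕ) :
    ∃ e : F.obj (op n) ≅ (qSys I hm' (qSys J hm F)).obj (op n),
      tr F (hle n) ≫ e.hom = qq I J hm hm' F n :=
  IsQ.exists_iso (isQ_tr hF (hle n)) (isQ_qq I J hm hm' H' F n)

/-- the components of the unit. -/
noncomputable def unitIsoApp (n : ℕ) : F.obj (op n) ≅ (qSys I hm' (qSys J hm F)).obj (op n) :=
  (exists_unitIso J hm hm' H' hle hF n).choose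

lemma tr_unitIsoApp (n : ℕ) :
    tr F (hle n) ≫ (unitIsoApp J hm hm' H' hle hF n).hom = qq I J hm hm' F n :=
  (exists_unitIso J hm hm' H' hle hF n).choose_spec

/-- the unit isomorphism `F ≅ (F / J) / I`. -/
noncomputable def unitIso : F ≅ qSys I hm' (qSys J hm F) :=
  NatIso.ofComponents (fun n => unitIsoApp J hm hm' H' hle hF n.unop) (by
    intro a b f
    obtain ⟨k⟩ := a
    obtain ⟨n⟩ := b
    have h : n ≤ k := leOfHom f.unop
    have hf : f = (homOfLE h).op := Subsingleton.elim _ _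
    subst hf
    haveI : Epi (tr F (hle k)) := (isQ_tr hF (hle k)).epi
    change tr F h ≫ (unitIsoApp J hm hm' H' hle hF n).hom =
      (unitIsoApp J hm hm' H' hle hF k).hom ≫ (qSys I hm' (qSys J hm F)).map (homOfLE h).op
    rw [← cancel_epi (tr F (hle k)), ← Category.assoc, ← Category.assoc, tr_unitIsoApp, qq_map,
      tr_comp, ← tr_unitIsoApp J hm hm' H' hle hF n, ← Category.assoc, tr_comp])

lemma unitIso_hom_app (n : ℕ) :
    (unitIso J hm hm' H' hle hF).hom.app (op n) = (unitIsoApp J hm hm' H' hle hF n).hom := rfl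

include hF hF' in
lemma unitIso_naturality (φ : F ⟶ F') :
    φ ≫ (unitIso J hm hm' H' hle hF').hom =
      (unitIso J hm hm' H' hle hF).hom ≫ qMap I hm' (qMap J hm φ) := by
  apply NatTrans.ext
  funext n
  obtain ⟨n⟩ := n
  haveI : Epi (tr F (hle n)) := (isQ_tr hF (hle n)).epi
  change φ.app (op n) ≫ (unitIsoApp J hm hm' H' hle hF' n).hom =
    (unitIsoApp J hm hm' H' hle hF n).hom ≫ (qMap I hm' (qMap J hm φ)).app (op n)
  have hnat : tr F (hle n) ≫ φ.app (op n) = φ.app (op (m (m' n))) ≫ tr F' (hle n) :=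
    φ.naturality (homOfLE (hle n)).op
  rw [← cancel_epi (tr F (hle n)), ← Category.assoc, ← Category.assoc, tr_unitIsoApp,
    qq_naturality, hnat, Category.assoc, tr_unitIsoApp]

end Unit

end Groth.Agent.H2.FormalEq
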