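import Groth.Agent.Lib.Helper2.FormalEq4

/-!
# Coherent formal modules only depend on the zero locus of the ideal: the equivalence (helper2)
-/

set_option autoImplicit false
set_option linter.style.haveILetI false
universe u
open CategoryTheory Limits Opposite TopologicalSpace AlgebraicGeometry

namespace Groth.Agent.H2.FormalEq

open Groth.Agent.LD.FF Groth.Agent.LD.Stein Groth.Agent.H2.FormalQ Groth.Agent.LD

variable {A : Type u} [CommRing A] {X : Scheme.{u}} [X.Over (Spec (CommRingCat.of A))]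
  [IsLocallyNoetherian X]
  (I J : Ideal A) {m m' : ℕ → ℕ} (hm : Monotone m) (hm' : Monotone m')
  (H : ∀ n, SLe X (I ^ (m n + 1)) (J ^ (n + 1)))
  (H' : ∀ n, SLe X (J ^ (m' n + 1)) (I ^ (n + 1)))

/-- the functor `Coh(X, I) ⥤ Coh(X, J)`. -/
noncomputable def Φ : Formal2.CohFormalCat I X ⥤ Formal2.CohFormalCat J X :=
  ObjectProperty.lift _ (ObjectProperty.ι _ ⋙ qFunctor J hm) (fun F => isCohFormal_qSys F.2 H)

/-- the unit of the equivalence. -/
noncomputable def unit (hle : ∀ n, n ≤ m (m' n)) :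
    𝟭 (Formal2.CohFormalCat I X) ≅ Φ I J hm H ⋙ Φ J I hm' H' :=
  NatIso.ofComponents (fun F => ObjectProperty.isoMk _ (unitIso J hm hm' H' hle F.2))
    (fun {F F'} φ => by
      apply ObjectProperty.hom_ext
      exact unitIso_naturality J hm hm' H' hle F.2 F'.2 φ.hom)

/-- the equivalence `Coh(X, I) ≌ Coh(X, J)`. -/
noncomputable def equiv (hle : ∀ n, n ≤ m (m' n)) (hle' : ∀ n, n ≤ m' (m n)) :
    Formal2.CohFormalCat I X ≌ Formal2.CohFormalCat J X :=
  CategoryTheory.Equivalence.mk (Φ I J hm H) (Φ J I hm' H') (unit I J hm hm' H H' hle)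
    (unit J I hm' hm H' H hle').symm

omit [IsLocallyNoetherian X] in
theorem nonempty_equiv [IsNoetherian X]
    (hV : (fun x : X => (X ↘ Spec (CommRingCat.of A)) x) ⁻¹' PrimeSpectrum.zeroLocus (I : Set A) =
      (fun x : X => (X ↘ Spec (CommRingCat.of A)) x) ⁻¹' PrimeSpectrum.zeroLocus (J : Set A)) :
    Nonempty (Formal2.CohFormalCat I X ≌ Formal2.CohFormalCat J X) := by
  obtain ⟨c, hc, hcs⟩ := exists_pow_sLe (X := X) (I := I) (J := J) hV.ge
  obtain ⟨c', hc', hcs'⟩ := exists_pow_sLe (X := X) (I := J) (J := I) hV.le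
  have hm : Monotone (fun n : ℕ => c * (n + 1)) := fun a b h =>
    Nat.mul_le_mul_left c (Nat.succ_le_succ h)
  have hm' : Monotone (fun n : ℕ => c' * (n + 1)) := fun a b h =>
    Nat.mul_le_mul_left c' (Nat.succ_le_succ h)
  have hmle : ∀ n : ℕ, n ≤ c * (n + 1) := fun n =>
    (Nat.le_succ n).trans (Nat.le_mul_of_pos_left (n + 1) hc)
  have hmle' : ∀ n : ℕ, n ≤ c' * (n + 1) := fun n =>
    (Nat.le_succ n).trans (Nat.le_mul_of_pos_left (n + 1) hc')
  refine ⟨equiv I J hm hm' (fun n => ?_) (fun n => ?_) (fun n => ?_) (fun n => ?_)⟩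
  · exact (SLe.of_le (Ideal.pow_le_pow_right (Nat.le_succ _))).trans (hcs (n + 1))
  · exact (SLe.of_le (Ideal.pow_le_pow_right (Nat.le_succ _))).trans (hcs' (n + 1))
  · exact (hmle' n).trans (hmle _)
  · exact (hmle n).trans (hmle' _)

end Groth.Agent.H2.FormalEq
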