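import Mathlib

/-!
# A formal inverse function theorem for diagonal substitutions

Helper library (helper2): for units `u s` of `R[[X]]`, the substitution `X s ↦ X s * u s`
is an `R`-algebra automorphism of `MvPowerSeries σ R`.  The proof is a triangular solve on
coefficients.
-/

namespace Groth.Agent.H2.FormalIFT

open Classical

section Triangular

variable {ι R : Type*} [CommRing R] [PartialOrder ι] [LocallyFiniteOrderBot ι] [WellFoundedLT ι]

/-- a lower-triangular operator on functions `ι → R` -/
def tri (A : ι → ι → R) (p : ι → R) : ι → R :=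
  fun e => p e * A e e + ∑ d ∈ Finset.Iio e, p d * A e d

lemma tri_sub (A : ι → ι → R) (p q : ι → R) : tri A (p - q) = tri A p - tri A q := by
  funext e
  simp only [tri, Pi.sub_apply, sub_mul, Finset.sum_sub_distrib]
  ring

lemma tri_eq_zero (A : ι → ι → R) (hA : ∀ e, IsUnit (A e e)) (p : ι → R) (h : tri A p = 0) :
    p = 0 := by
  funext e
  induction e using WellFoundedLT.induction with
  | ind e ih =>
    have he := congrFun h e
    simp only [tri, Pi.zero_apply] at he
    rw [Finset.sum_eq_zero (fun d hd => by rw [ih d (Finset.mem_Iio.mp hd), Pi.zero_apply,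
      zero_mul]), add_zero] at he
    exact (hA e).mul_left_eq_zero.mp he

lemma tri_injective (A : ι → ι → R) (hA : ∀ e, IsUnit (A e e)) : Function.Injective (tri A) := by
  intro p q h
  have := tri_eq_zero A hA (p - q) (by rw [tri_sub, h, sub_self])
  exact sub_eq_zero.mp this

/-- the triangular solve -/
noncomputable def solve (A : ι → ι → R) (inv : ι → R) (q : ι → R) : ι → R :=
  wellFounded_lt.fix (fun e rec =>
    inv e * (q e - ∑ d ∈ (Finset.Iio e).attach, rec d.1 (Finset.mem_Iio.mp d.2) * A e d.1))

lemma solve_eq (A : ι → ι → R) (inv : ι → R) (q : ι → R) (e : ι) :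
    solve A inv q e = inv e * (q e - ∑ d ∈ Finset.Iio e, solve A inv q d * A e d) := by
  rw [solve, WellFounded.fix_eq]
  congr 2
  exact Finset.sum_attach (Finset.Iio e) (fun d => solve A inv q d * A e d)

lemma tri_surjective (A : ι → ι → R) (hA : ∀ e, IsUnit (A e e)) : Function.Surjective (tri A) := by
  intro q
  choose inv hinv using fun e => (hA e).exists_left_inv
  refine ⟨solve A inv q, ?_⟩
  funext e
  simp only [tri]
  rw [solve_eq]
  set S := ∑ d ∈ Finset.Iio e, solve A inv q d * A e d
  linear_combination (q e - S) * hinv e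

end Triangular

section Subst

open MvPowerSeries

variable {σ R : Type*} [CommRing R]

/-- the family `X s * u s` can be substituted -/
lemma hasSubst_X_mul (u : σ → MvPowerSeries σ R) :
    HasSubst (fun s => (X s : MvPowerSeries σ R) * u s) :=
  (HasSubst.X (σ := σ) (S := R)).mul_right u

/-- the matrix of the substitution -/
noncomputable def mat (u : σ → MvPowerSeries σ R) (e d : σ →₀ ℕ) : R :=
  coeff (e - d) (d.prod fun s n => u s ^ n)

lemma prod_X_mul (u : σ → MvPowerSeries σ R) (d : σ →₀ ℕ) :
    (d.prod fun s n => ((X s : MvPowerSeries σ R) * u s) ^ n) =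
      monomial d 1 * d.prod fun s n => u s ^ n := by
  simp only [mul_pow, Finsupp.prod_mul, monomial_one_eq]

lemma coeff_subst_X_mul (u : σ → MvPowerSeries σ R) (p : MvPowerSeries σ R) (e : σ →₀ ℕ) :
    coeff e (subst (fun s => (X s : MvPowerSeries σ R) * u s) p) =
      tri (mat u) (fun d => coeff d p) e := by
  rw [coeff_subst (hasSubst_X_mul u)]
  have hsupp : (Function.support fun d => coeff d p •
      coeff e (d.prod fun s n => ((X s : MvPowerSeries σ R) * u s) ^ n)) ⊆
        ↑(Finset.Iic e) := by
    intro d hd
    rw [Function.mem_support] at hd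
    rw [Finset.coe_Iic, Set.mem_Iic]
    by_contra hde
    apply hd
    rw [prod_X_mul, coeff_monomial_mul, if_neg hde, smul_zero]
  rw [finsum_eq_sum_of_support_subset _ hsupp, ← Finset.Iio_insert,
    Finset.sum_insert (by simp)]
  simp only [tri, mat]
  congr 1
  · rw [prod_X_mul, coeff_monomial_mul, if_pos le_rfl, one_mul, smul_eq_mul]
  · refine Finset.sum_congr rfl (fun d hd => ?_)
    rw [prod_X_mul, coeff_monomial_mul, if_pos (Finset.mem_Iio.mp hd).le, one_mul, smul_eq_mul]

lemma isUnit_mat_self (u : σ → MvPowerSeries σ R) (hu : ∀ s, IsUnit (constantCoeff (u s)))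
    (e : σ →₀ ℕ) : IsUnit (mat u e e) := by
  simp only [mat, tsub_self, coeff_zero_eq_constantCoeff_apply, map_finsuppProd, map_pow]
  rw [Finsupp.prod]
  exact (IsUnit.prod_iff).mpr fun s _ => (hu s).pow _

theorem subst_X_mul_bijective (u : σ → MvPowerSeries σ R)
    (hu : ∀ s, IsUnit (constantCoeff (u s))) :
    Function.Bijective (substAlgHom (R := R) (hasSubst_X_mul u)) := by
  constructor
  · intro p q h
    rw [substAlgHom_apply, substAlgHom_apply] at h
    have h' : tri (mat u) (fun d => coeff d p) = tri (mat u) (fun d => coeff d q) := by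
      funext e
      rw [← coeff_subst_X_mul, ← coeff_subst_X_mul, h]
    have := tri_injective (mat u) (isUnit_mat_self u hu) h'
    ext d
    exact congrFun this d
  · intro q
    obtain ⟨p, hp⟩ := tri_surjective (mat u) (isUnit_mat_self u hu) (fun d => coeff d q)
    refine ⟨p, ?_⟩
    ext e
    rw [substAlgHom_apply, coeff_subst_X_mul]
    exact congrFun hp e

/-- the automorphism `X s ↦ X s * u s` -/
noncomputable def substEquiv (u : σ → MvPowerSeries σ R)
    (hu : ∀ s, IsUnit (constantCoeff (u s))) : MvPowerSeries σ R ≃ₐ[R] MvPowerSeries σ R :=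
  AlgEquiv.ofBijective (substAlgHom (R := R) (hasSubst_X_mul u)) (subst_X_mul_bijective u hu)

lemma substEquiv_apply (u : σ → MvPowerSeries σ R)
    (hu : ∀ s, IsUnit (constantCoeff (u s))) (p : MvPowerSeries σ R) :
    substEquiv u hu p = substAlgHom (R := R) (hasSubst_X_mul u) p := rfl

lemma substEquiv_X (u : σ → MvPowerSeries σ R)
    (hu : ∀ s, IsUnit (constantCoeff (u s))) (s : σ) :
    substEquiv u hu (X s) = X s * u s := by
  rw [substEquiv_apply, substAlgHom_X]

end Subst

end Groth.Agent.H2.FormalIFT
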