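import Groth.Agent.Lib.Helper2.FormalModF

/-!
# Morphisms of systems of pullbacks of tilde modules (helper2)
-/

universe u

open CategoryTheory Limits AlgebraicGeometry TopologicalSpace Opposite TensorProduct

namespace Groth.Agent.H2.FormalMod

open Groth.Agent.LD.QC Groth.Agent.H2.FSchAff

section Beta2
variable {R : CommRingCat.{u}} {Y : Scheme.{u}} (i : Y ⟶ Spec R)

lemma beta_zero (Mc : ModuleCat.{u} R) : beta i Mc 0 = 0 := by
  have h := beta_add i Mc 0 0
  rw [add_zero] at h
  exact left_eq_add.mp h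

lemma beta_neg (Mc : ModuleCat.{u} R) (m : Mc) : beta i Mc (-m) = -beta i Mc m := by
  have h := beta_add i Mc m (-m)
  rw [add_neg_cancel, beta_zero] at h
  exact (neg_eq_of_add_eq_zero_right h.symm).symm

lemma beta_sub (Mc : ModuleCat.{u} R) (m m' : Mc) :
    beta i Mc (m - m') = beta i Mc m - beta i Mc m' := by
  rw [sub_eq_add_neg, beta_add, beta_neg, ← sub_eq_add_neg]

lemma map_beta {M N : ModuleCat.{u} R} (u : M ⟶ N) (m : M) :
    ((Scheme.Modules.pullback i).map ((tilde.functor R).map u)).app ⊤ (beta i M m) =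
      beta i N (u m) := by
  unfold beta
  have h2 := tilde.toOpen_map_app u ⊤
  have h3 := congr($(h2) m)
  have h4 : ((tilde.functor R).map u).app ⊤ (tilde.toOpen M ⊤ m) = tilde.toOpen N ⊤ (u m) := h3
  have h1 := pbSec_naturality i ((tilde.functor R).map u) (top_le_preimage i)
    (show Γ(tilde M, ⊤) from tilde.toOpen M ⊤ m)
  exact h1.trans (congrArg _ h4)

end Beta2

section SysHom
variable {R : CommRingCat.{u}} (𝔜 : FSch.Sys.{u}) (t : ∀ n, 𝔜.X n ⟶ Spec R)
  (ht : ∀ n, 𝔜.ι n ≫ t (n + 1) = t n)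

/-- functoriality of the system of pullbacks. -/
noncomputable def pullSysMap {G G' : (Spec R).Modules} (φ : G ⟶ G') :
    pullSys 𝔜 t ht G ⟶ pullSys 𝔜 t ht G' :=
  (⟨fun n => (Scheme.Modules.pullback (t n)).map φ, fun n =>
    (Scheme.Modules.pullbackComp (𝔜.ι n) (t (n + 1)) ≪≫
      Scheme.Modules.pullbackCongr (ht n)).hom.naturality φ⟩ :
    FSch.ModSys.Hom (pullSys 𝔜 t ht G) (pullSys 𝔜 t ht G'))

variable [h𝔜 : ∀ n, IsAffine (𝔜.X n)] (hsurj : ∀ n, Function.Surjective (t n).appTop)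
  (M N : ModuleCat.{u} R)

include h𝔜 hsurj in
theorem pullSysMap_injective
    (hsep : ∀ x : N, (∀ n, x ∈ RingHom.ker (aMap (t n)) • (⊤ : Submodule R N)) → x = 0) :
    Function.Injective (fun u : M ⟶ N => pullSysMap 𝔜 t ht ((tilde.functor R).map u)) := by
  intro u v huv
  apply ModuleCat.hom_ext
  apply LinearMap.ext
  intro m
  rw [← sub_eq_zero]
  apply hsep
  intro n
  rw [← beta_eq_zero_iff (t n) N (hsurj n), beta_sub, sub_eq_zero, ← map_beta, ← map_beta]
  have h1 : (Scheme.Modules.pullback (t n)).map ((tilde.functor R).map u) =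
      (Scheme.Modules.pullback (t n)).map ((tilde.functor R).map v) :=
    congrArg (fun Φ : FSch.ModSys.Hom (pullSys 𝔜 t ht (tilde M)) (pullSys 𝔜 t ht (tilde N)) =>
      Φ.app n) huv
  rw [h1]

include h𝔜 hsurj in
theorem pullSysMap_surjective
    (hsep : ∀ x : N, (∀ n, x ∈ RingHom.ker (aMap (t n)) • (⊤ : Submodule R N)) → x = 0)
    (hcompl : ∀ y : ℕ → N,
      (∀ n, y (n + 1) - y n ∈ RingHom.ker (aMap (t n)) • (⊤ : Submodule R N)) →
      ∃ L : N, ∀ n, L - y n ∈ RingHom.ker (aMap (t n)) • (⊤ : Submodule R N)) :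
    Function.Surjective (fun u : M ⟶ N => pullSysMap 𝔜 t ht ((tilde.functor R).map u)) := by
  intro Φ
  obtain ⟨Φn, hΦn, hcomm⟩ : ∃ Φn : ∀ n, (Scheme.Modules.pullback (t n)).obj (tilde M) ⟶
      (Scheme.Modules.pullback (t n)).obj (tilde N),
      (∀ n, Φn n = (Φ : FSch.ModSys.Hom _ _).app n) ∧
      ∀ n, (Scheme.Modules.pullback (𝔜.ι n)).map (Φn (n + 1)) ≫
          ((pullSys 𝔜 t ht (tilde N)).e n).hom =
        ((pullSys 𝔜 t ht (tilde M)).e n).hom ≫ Φn n :=
    ⟨fun n => (Φ : FSch.ModSys.Hom _ _).app n, fun n => rfl,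
      fun n => (Φ : FSch.ModSys.Hom _ _).comm n⟩
  let b : ∀ n, M → Γ((Scheme.Modules.pullback (t n)).obj (tilde N), ⊤) := fun n m =>
    (Φn n).app ⊤ (beta (t n) M m)
  have hb_add : ∀ n m m', b n (m + m') = b n m + b n m' := by
    intro n m m'
    show (Φn n).app ⊤ (beta (t n) M (m + m')) = _
    rw [beta_add]
    exact map_add ((Φn n).app ⊤).hom _ _
  have hb_smul : ∀ n (r : R) m, b n (r • m) = aMap (t n) r • b n m := by
    intro n r m
    show (Φn n).app ⊤ (beta (t n) M (r • m)) = _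
    rw [beta_smul]
    exact Scheme.Modules.Hom.app_smul (Φn n) _ _
  have hb_trans : ∀ n m,
      trans 𝔜 (pullSys 𝔜 t ht (tilde N)) n (b (n + 1) m) = b n m := by
    intro n m
    have hc := hcomm n
    have hc2 := congr($(hc).app ⊤
      (pbSec (𝔜.ι n) ((Scheme.Modules.pullback (t (n + 1))).obj (tilde M))
        (top_le_preimage (𝔜.ι n)) (beta (t (n + 1)) M m)))
    have hL : ((Scheme.Modules.pullback (𝔜.ι n)).map (Φn (n + 1)) ≫
          ((pullSys 𝔜 t ht (tilde N)).e n).hom).app ⊤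
        (pbSec (𝔜.ι n) ((Scheme.Modules.pullback (t (n + 1))).obj (tilde M))
          (top_le_preimage (𝔜.ι n)) (beta (t (n + 1)) M m)) =
        trans 𝔜 (pullSys 𝔜 t ht (tilde N)) n (b (n + 1) m) := by
      show ((pullSys 𝔜 t ht (tilde N)).e n).hom.app ⊤
        (((Scheme.Modules.pullback (𝔜.ι n)).map (Φn (n + 1))).app ⊤
          (pbSec (𝔜.ι n) ((Scheme.Modules.pullback (t (n + 1))).obj (tilde M))
            (top_le_preimage (𝔜.ι n)) (beta (t (n + 1)) M m))) = _
      exact congrArg _ (pbSec_naturality (𝔜.ι n) (Φn (n + 1)) (top_le_preimage (𝔜.ι n))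
        (beta (t (n + 1)) M m))
    have hR : (((pullSys 𝔜 t ht (tilde M)).e n).hom ≫ Φn n).app ⊤
        (pbSec (𝔜.ι n) ((Scheme.Modules.pullback (t (n + 1))).obj (tilde M))
          (top_le_preimage (𝔜.ι n)) (beta (t (n + 1)) M m)) = b n m := by
      show (Φn n).app ⊤
        (trans 𝔜 (pullSys 𝔜 t ht (tilde M)) n (beta (t (n + 1)) M m)) = _
      rw [trans_beta]
    exact hL.symm.trans (hc2.trans hR)
  -- existence and uniqueness of the limit
  have huniq : ∀ x x' : N, (∀ n, beta (t n) N x = beta (t n) N x') → x = x' := by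
    intro x x' h
    rw [← sub_eq_zero]
    apply hsep
    intro n
    rw [← beta_eq_zero_iff (t n) N (hsurj n), beta_sub, h n, sub_self]
  have hex : ∀ m : M, ∃ x : N, ∀ n, beta (t n) N x = b n m := by
    intro m
    choose y hy using fun n => beta_surjective (t n) N (hsurj n) (b n m)
    have hy2 : ∀ n, y (n + 1) - y n ∈ RingHom.ker (aMap (t n)) • (⊤ : Submodule R N) := by
      intro n
      rw [← beta_eq_zero_iff (t n) N (hsurj n), beta_sub, sub_eq_zero, hy n,
        ← trans_beta 𝔜 t ht N n (y (n + 1)), hy (n + 1), hb_trans]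
    obtain ⟨L, hL⟩ := hcompl y hy2
    refine ⟨L, fun n => ?_⟩
    have := (beta_eq_zero_iff (t n) N (hsurj n) _).mpr (hL n)
    rw [beta_sub, sub_eq_zero] at this
    rw [this, hy n]
  choose u hu using hex
  let uL : M →ₗ[R] N :=
    { toFun := u
      map_add' := fun m m' => by
        apply huniq
        intro n
        rw [beta_add, hu, hu, hu, hb_add]
      map_smul' := fun r m => by
        apply huniq
        intro n
        simp only [RingHom.id_apply]
        rw [beta_smul, hu, hu, hb_smul] }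
  obtain ⟨uM, huM⟩ : ∃ uM : M ⟶ N, ∀ m, uM m = u m := ⟨ModuleCat.ofHom uL, fun m => rfl⟩
  refine ⟨uM, ?_⟩
  apply FSch.ModSys.Hom.ext
  funext n
  have hq : ((Scheme.Modules.pullback (t n)).obj (tilde M)).IsQuasicoherent := qc_pullback _ _
  have hq0 : ((tilde.functor R).obj M).IsQuasicoherent :=
    (inferInstance : (tilde M).IsQuasicoherent)
  have hq' : ((Scheme.Modules.pullback (t n)).obj ((tilde.functor R).obj M)).IsQuasicoherent :=
    qc_pullback _ _
  have key : (Scheme.Modules.pullback (t n)).map ((tilde.functor R).map uM) =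
      Φn n := by
    apply hom_ext_top
    intro s
    obtain ⟨m, rfl⟩ := beta_surjective (t n) M (hsurj n) s
    rw [map_beta, huM]
    exact hu m n
  exact key.trans (hΦn n)

end SysHom

end Groth.Agent.H2.FormalMod
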