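import Groth.Agent.Lib.Helper2.FormalModG

/-!
# `Hom(M, N) → Hom(M^Δ, N^Δ)` is bijective over a complete noetherian ring (helper2)
-/

universe u

open CategoryTheory Limits AlgebraicGeometry TopologicalSpace Opposite TensorProduct

namespace Groth.Agent.H2.FormalMod

open Groth.Agent.LD.QC Groth.Agent.H2.FSchAff

/-- a finite module over a (raw) complete ring is (raw) complete. -/
lemma raw_complete_module {A : Type u} [CommRing A] (J : Ideal A)
    (hcompl : ∀ y : ℕ → A, (∀ n, y (n + 1) - y n ∈ J ^ n) → ∃ L, ∀ n, L - y n ∈ J ^ n)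
    (N : Type u) [AddCommGroup N] [Module A N] [Module.Finite A N] :
    ∀ y : ℕ → N, (∀ n, y (n + 1) - y n ∈ J ^ n • (⊤ : Submodule A N)) →
      ∃ L, ∀ n, L - y n ∈ J ^ n • (⊤ : Submodule A N) := by
  intro y hy
  obtain ⟨k, g, hg⟩ := Module.Finite.exists_fin (R := A) (M := N)
  have hc : ∀ n, ∃ c : Fin k → A, (∀ j, c j ∈ J ^ n) ∧ ∑ j, c j • g j = y (n + 1) - y n := by
    intro n
    have h := hy n
    rw [← hg, Submodule.mem_ideal_smul_span_iff_exists_sum] at h
    obtain ⟨a, ha, hsum⟩ := h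
    refine ⟨fun j => a j, ha, ?_⟩
    rw [← hsum, Finsupp.sum_fintype a (fun i c => c • g i) (fun i => zero_smul _ _)]
  choose c hcJ hcs using hc
  let S : Fin k → ℕ → A := fun j n => ∑ l ∈ Finset.range n, c l j
  have hS : ∀ j n, S j (n + 1) - S j n ∈ J ^ n := by
    intro j n
    have : S j (n + 1) - S j n = c n j := by
      simp only [S, Finset.sum_range_succ]; ring
    rw [this]
    exact hcJ n j
  choose Lc hLc using fun j => hcompl (S j) (hS j)
  refine ⟨y 0 + ∑ j, Lc j • g j, fun n => ?_⟩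
  have hyn : ∀ n, y n = y 0 + ∑ j, S j n • g j := by
    intro n
    induction n with
    | zero => simp [S]
    | succ n ih =>
      have h1 : y (n + 1) = y n + ∑ j, c n j • g j := by rw [hcs n]; abel
      rw [h1, ih]
      simp only [S, Finset.sum_range_succ, add_smul, Finset.sum_add_distrib]
      abel
  rw [hyn n]
  have h2 : y 0 + ∑ j, Lc j • g j - (y 0 + ∑ j, S j n • g j) = ∑ j, (Lc j - S j n) • g j := by
    simp only [sub_smul, Finset.sum_sub_distrib]; abel
  rw [h2]
  exact Submodule.sum_mem _ fun j _ => Submodule.smul_mem_smul (hLc j n) Submodule.mem_top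

/-- the shifted form of completeness. -/
lemma raw_complete_shift {A : Type u} [CommRing A] (J : Ideal A)
    (N : Type u) [AddCommGroup N] [Module A N]
    (h : ∀ y : ℕ → N, (∀ n, y (n + 1) - y n ∈ J ^ n • (⊤ : Submodule A N)) →
      ∃ L, ∀ n, L - y n ∈ J ^ n • (⊤ : Submodule A N)) :
    ∀ y : ℕ → N, (∀ n, y (n + 1) - y n ∈ J ^ (n + 1) • (⊤ : Submodule A N)) →
      ∃ L, ∀ n, L - y n ∈ J ^ (n + 1) • (⊤ : Submodule A N) := by
  intro y hy
  obtain ⟨L, hL⟩ := h (fun n => y (n - 1)) (fun n => by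
    cases n with
    | zero => simp
    | succ n => simpa using hy n)
  exact ⟨L, fun n => by simpa using hL (n + 1)⟩

/-- **EGA I 10.10.2.9** (S3863). -/
theorem main_S3863 (A : Type u) [CommRing A] [IsNoetherianRing A]
    (J : Ideal A) [IsAdicComplete J A] (M N : ModuleCat.{u} A) [Module.Finite A M]
    [Module.Finite A N] :
    Function.Bijective (fun u : M ⟶ N ↦
      FSch.complModMap (FSch.idealSpec A J) ((tilde.functor (CommRingCat.of A)).map u)) := by
  let 𝓘 := FSch.idealSpec A J
  let 𝔜 := FSch.completionAlong (Spec (CommRingCat.of A)) 𝓘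
  let t : ∀ n, 𝔜.X n ⟶ Spec (CommRingCat.of A) := fun n =>
    FSch.completionToX (Spec (CommRingCat.of A)) 𝓘 n
  have ht : ∀ n, 𝔜.ι n ≫ t (n + 1) = t n := fun n =>
    Scheme.IdealSheafData.inclusion_subschemeι (FSch.pow_succ_le (Spec (CommRingCat.of A)) 𝓘 n)
  have hsurj : ∀ n, Function.Surjective (t n).appTop := appTop_completionToX_surjective A J
  have ha_ker : ∀ n, RingHom.ker (aMap (R := CommRingCat.of A) (t n)) = J ^ (n + 1) :=
    ker_aMap_completionToX A J
  have hsep : ∀ x : N, (∀ n, x ∈ RingHom.ker (aMap (R := CommRingCat.of A) (t n)) •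
      (⊤ : Submodule A N)) → x = 0 := by
    intro x hx
    have h1 := Ideal.iInf_pow_smul_eq_bot_of_le_jacobson (M := N) J
      (IsAdicComplete.le_jacobson_bot J)
    have h2 : x ∈ (⨅ i : ℕ, J ^ i • ⊤ : Submodule A N) := by
      rw [Submodule.mem_iInf]
      intro i
      have := hx i
      rw [ha_ker i] at this
      exact Submodule.smul_mono_left (Ideal.pow_le_pow_right (Nat.le_succ i)) this
    rw [h1] at h2
    exact h2
  have hcompl : ∀ y : ℕ → N,
      (∀ n, y (n + 1) - y n ∈ RingHom.ker (aMap (R := CommRingCat.of A) (t n)) •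
        (⊤ : Submodule A N)) →
      ∃ L : N, ∀ n, L - y n ∈ RingHom.ker (aMap (R := CommRingCat.of A) (t n)) •
        (⊤ : Submodule A N) := by
    intro y hy
    simp only [ha_ker] at hy ⊢
    exact raw_complete_shift J N (raw_complete_module J (raw_complete J) N) y hy
  have hinj := pullSysMap_injective (R := CommRingCat.of A) 𝔜 t ht hsurj M N hsep
  have hsur := pullSysMap_surjective (R := CommRingCat.of A) 𝔜 t ht hsurj M N hsep hcompl
  have hfun : (fun u : M ⟶ N ↦
      FSch.complModMap (FSch.idealSpec A J) ((tilde.functor (CommRingCat.of A)).map u)) =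
      (fun u : M ⟶ N => pullSysMap (R := CommRingCat.of A) 𝔜 t ht
        ((tilde.functor (CommRingCat.of A)).map u)) :=
    funext fun u => FSch.ModSys.Hom.ext rfl
  rw [hfun]
  exact ⟨hinj, hsur⟩

end Groth.Agent.H2.FormalMod
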