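import Groth.Agent.Lib.Lead.FF.IdealMul
import Groth.Prelude.Def_Formal2

/-!
# Quotients `M / J M` of modules on a scheme over `Spec A` (helper2)

`IsQ J p` says that `p : M ⟶ Q` is a cokernel of `∐_{b ∈ J} M ⟶ M`; calculus of such quotients, and
coherent formal modules killed by a fixed power of the ideal.
-/

set_option autoImplicit false
universe u
open CategoryTheory Limits Opposite TopologicalSpace AlgebraicGeometry

namespace Groth.Agent.H2.FormalQ

open Groth.Agent.LD.FF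

variable {A : Type u} [CommRing A] {X : Scheme.{u}} [X.Over (Spec (CommRingCat.of A))]

/-- `p : M ⟶ Q` is a quotient of `M` by `J`: a cokernel of `smulFamily J M`. -/
def IsQ (J : Ideal A) {M Q : X.Modules} (p : M ⟶ Q) : Prop :=
  ∃ h : Formal.smulFamily J M ≫ p = 0, IsIso (cokernel.desc _ p h)

lemma smulFamily_comp_eq_zero_iff (J : Ideal A) {M Z : X.Modules} (g : M ⟶ Z) :
    Formal.smulFamily J M ≫ g = 0 ↔ ∀ b ∈ J, Formal.smulMod A M b ≫ g = 0 := by
  constructor
  · intro h b hb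
    have := congrArg (fun φ => Sigma.ι (fun _ : J => M) ⟨b, hb⟩ ≫ φ) h
    simpa [Formal.smulFamily] using this
  · intro h
    apply Sigma.hom_ext
    intro b
    rw [comp_zero, ← Category.assoc]
    unfold Formal.smulFamily
    rw [Sigma.ι_desc]
    exact h b b.2

lemma isQ_iff (J : Ideal A) {M Q : X.Modules} (p : M ⟶ Q) :
    IsQ J p ↔ Epi p ∧ (∀ b ∈ J, Formal.smulMod A M b ≫ p = 0) ∧
      ∀ {Z : X.Modules} (g : M ⟶ Z), (∀ b ∈ J, Formal.smulMod A M b ≫ g = 0) →
        ∃ g' : Q ⟶ Z, p ≫ g' = g := by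
  constructor
  · rintro ⟨h, hiso⟩
    have hp : p = cokernel.π (Formal.smulFamily J M) ≫ cokernel.desc _ p h :=
      (cokernel.π_desc _ _ _).symm
    refine ⟨?_, (smulFamily_comp_eq_zero_iff J p).1 h, fun {Z} g hg => ?_⟩
    · rw [hp]
      infer_instance
    · have hg' := (smulFamily_comp_eq_zero_iff J g).2 hg
      refine ⟨inv (cokernel.desc _ p h) ≫ cokernel.desc _ g hg', ?_⟩
      have h1 : p ≫ inv (cokernel.desc _ p h) = cokernel.π (Formal.smulFamily J M) :=
        (IsIso.comp_inv_eq _).2 hp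
      rw [← Category.assoc, h1, cokernel.π_desc]
  · rintro ⟨hepi, hk, hu⟩
    have h := (smulFamily_comp_eq_zero_iff J p).2 hk
    refine ⟨h, ?_⟩
    obtain ⟨g', hg'⟩ := hu (cokernel.π (Formal.smulFamily J M))
      ((smulFamily_comp_eq_zero_iff J _).1 (cokernel.condition _))
    refine ⟨g', ?_, ?_⟩
    · rw [← cancel_epi (cokernel.π (Formal.smulFamily J M)), cokernel.π_desc_assoc, hg',
        Category.comp_id]
    · rw [← cancel_epi p, ← Category.assoc, hg', cokernel.π_desc, Category.comp_id]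

lemma IsQ.epi {J : Ideal A} {M Q : X.Modules} {p : M ⟶ Q} (h : IsQ J p) : Epi p :=
  ((isQ_iff J p).1 h).1

/-- the projection to `modPow` is a quotient. -/
lemma isQ_modPowπ (J : Ideal A) (n : ℕ) (M : X.Modules) : IsQ (J ^ n) (Formal.modPowπ J n M) := by
  change IsQ (J ^ n) (cokernel.π (Formal.smulFamily (J ^ n) M))
  refine ⟨cokernel.condition _, ?_⟩
  have : cokernel.desc (Formal.smulFamily (J ^ n) M) (cokernel.π (Formal.smulFamily (J ^ n) M))
      (cokernel.condition _) = 𝟙 _ := by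
    rw [← cancel_epi (cokernel.π (Formal.smulFamily (J ^ n) M)), cokernel.π_desc, Category.comp_id]
  rw [this]
  infer_instance

lemma isQ_id_of_killedBy {J : Ideal A} {M : X.Modules} (h : Formal.KilledBy J M) :
    IsQ J (𝟙 M) := by
  rw [isQ_iff]
  refine ⟨inferInstance, fun b hb => ?_, fun {Z} g _ => ⟨g, Category.id_comp g⟩⟩
  rw [Category.comp_id]
  exact h b hb

lemma isQ_of_isIso {M N : X.Modules} (e : M ⟶ N) [IsIso e] : IsQ (⊥ : Ideal A) e := by
  rw [isQ_iff]
  refine ⟨inferInstance, fun b hb => ?_, fun {Z} g _ => ⟨inv e ≫ g, IsIso.hom_inv_id_assoc e g⟩⟩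
  rw [Ideal.mem_bot] at hb
  rw [hb, smulMod_zero, zero_comp]

lemma isQ_comp {J' J : Ideal A} (hJ : J' ≤ J) {M N Q : X.Modules} {p : M ⟶ N} {q : N ⟶ Q}
    (hp : IsQ J' p) (hq : IsQ J q) : IsQ J (p ≫ q) := by
  rw [isQ_iff] at hp hq ⊢
  obtain ⟨ep, kp, up⟩ := hp
  obtain ⟨eq, kq, uq⟩ := hq
  refine ⟨epi_comp p q, fun b hb => ?_, fun {Z} g hg => ?_⟩
  · rw [← Category.assoc, ← comp_smulMod, Category.assoc, kq b hb, comp_zero]
  · obtain ⟨g₁, hg₁⟩ := up g (fun b hb => hg b (hJ hb))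
    obtain ⟨g₂, hg₂⟩ := uq g₁ (fun b hb => by
      rw [← cancel_epi p, comp_zero, ← Category.assoc, comp_smulMod, Category.assoc, hg₁]
      exact hg b hb)
    exact ⟨g₂, by rw [Category.assoc, hg₂, hg₁]⟩

lemma isQ_iso_comp {J : Ideal A} {M N Q : X.Modules} (e : M ⟶ N) [IsIso e] {q : N ⟶ Q}
    (hq : IsQ J q) : IsQ J (e ≫ q) :=
  isQ_comp bot_le (isQ_of_isIso e) hq

lemma isIso_of_isQ_of_killedBy {J : Ideal A} {M Q : X.Modules} {p : M ⟶ Q} (hp : IsQ J p)
    (h : Formal.KilledBy J M) : IsIso p := by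
  rw [isQ_iff] at hp
  obtain ⟨ep, _, up⟩ := hp
  obtain ⟨g', hg'⟩ := up (𝟙 M) (fun b hb => by rw [Category.comp_id]; exact h b hb)
  refine ⟨g', hg', ?_⟩
  rw [← cancel_epi p, ← Category.assoc, hg', Category.id_comp, Category.comp_id]

lemma killedBy_mono {J' J : Ideal A} (hJ : J' ≤ J) {M : X.Modules} (h : Formal.KilledBy J M) :
    Formal.KilledBy J' M := fun a ha => h a (hJ ha)

/-- the comparison isomorphism `M / J^n M ≅ Q` attached to a quotient. -/
noncomputable def isoOfIsQ (J : Ideal A) (n : ℕ) {M Q : X.Modules} (p : M ⟶ Q) (hp : IsQ (J ^ n) p) :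
    Formal.modPow J n M ≅ Q :=
  haveI : IsIso (cokernel.desc (Formal.smulFamily (J ^ n) M) p hp.choose) := hp.choose_spec
  (asIso (cokernel.desc (Formal.smulFamily (J ^ n) M) p hp.choose) :
    cokernel (Formal.smulFamily (J ^ n) M) ≅ Q)

@[reassoc]
lemma modPowπ_isoOfIsQ_hom (J : Ideal A) (n : ℕ) {M Q : X.Modules} (p : M ⟶ Q)
    (hp : IsQ (J ^ n) p) : Formal.modPowπ J n M ≫ (isoOfIsQ J n p hp).hom = p :=
  cokernel.π_desc (Formal.smulFamily (J ^ n) M) p hp.choose

end Groth.Agent.H2.FormalQ
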