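import Groth.Agent.Lib.Helper2.FormalQ

/-!
# Coherent formal modules killed by a fixed power of the ideal (helper2)
-/

set_option autoImplicit false
set_option linter.style.haveILetI false
universe u
open CategoryTheory Limits Opposite TopologicalSpace AlgebraicGeometry

namespace Groth.Agent.H2.FormalQ

open Groth.Agent.LD.FF

variable {A : Type u} [CommRing A] {X : Scheme.{u}} [X.Over (Spec (CommRingCat.of A))]
  (I : Ideal A) (F : ℕᵒᵖ ⥤ X.Modules)

/-- the transition maps of an inverse system. -/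
abbrev tr {n m : ℕ} (h : n ≤ m) : F.obj (op m) ⟶ F.obj (op n) := F.map (homOfLE h).op

lemma tr_comp {n m k : ℕ} (h : n ≤ m) (h' : m ≤ k) : tr F h' ≫ tr F h = tr F (h.trans h') := by
  unfold tr
  rw [← F.map_comp]
  rfl

lemma tr_refl (n : ℕ) : tr F (le_refl n) = 𝟙 _ := by
  unfold tr
  have : (homOfLE (le_refl n)).op = 𝟙 (op n) := rfl
  rw [this, F.map_id]

variable {I F} (hF : Formal.IsCohFormal I F)

include hF in
/-- in a coherent formal module, `F_{n+k} ⟶ F_n` is the quotient by `I^(n+1)`. -/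
lemma isQ_tr_add (n k : ℕ) : IsQ (I ^ (n + 1)) (tr F (Nat.le_add_right n k)) := by
  induction k with
  | zero =>
    have : tr F (Nat.le_add_right n 0) = 𝟙 _ := tr_refl F n
    rw [this]
    exact isQ_id_of_killedBy (hF.2.1 n)
  | succ k ih =>
    have h1 : tr F (Nat.le_add_right n (k + 1)) =
        tr F (Nat.le_succ (n + k)) ≫ tr F (Nat.le_add_right n k) := (tr_comp F _ _).symm
    rw [h1]
    have h2 : IsQ (I ^ (n + k + 1)) (tr F (Nat.le_succ (n + k))) := hF.2.2 (n + k)
    exact isQ_comp (Ideal.pow_le_pow_right (by omega)) h2 ih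

include hF in
lemma isQ_tr {n m : ℕ} (h : n ≤ m) : IsQ (I ^ (n + 1)) (tr F h) := by
  obtain ⟨k, rfl⟩ := Nat.exists_eq_add_of_le h
  exact isQ_tr_add hF n k

include hF in
/-- if `I^c` kills all the terms, the transition maps above level `c` are isomorphisms. -/
lemma isIso_tr_of_killedBy {c : ℕ} (hc : ∀ n : ℕ, Formal.KilledBy (I ^ c) (F.obj (op n))) {m : ℕ}
    (h : c ≤ m) : IsIso (tr F h) :=
  isIso_of_isQ_of_killedBy (isQ_tr hF h)
    (killedBy_mono (Ideal.pow_le_pow_right (Nat.le_succ c)) (hc m))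

include hF in
/-- **coherent formal modules killed by a power of the ideal are algebraizable.** -/
theorem exists_completion_iso (c : ℕ) (hc : ∀ n : ℕ, Formal.KilledBy (I ^ c) (F.obj (op n))) :
    Nonempty (Formal.completion I (F.obj (op c)) ≅ F) := by
  haveI hiso : ∀ {m : ℕ} (h : c ≤ m), IsIso (tr F h) := fun h => isIso_tr_of_killedBy hF hc h
  -- the projections `F_c ⟶ F_n`
  let p : ∀ n : ℕ, F.obj (op c) ⟶ F.obj (op n) := fun n =>
    inv (tr F (le_max_right n c)) ≫ tr F (le_max_left n c)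
  have hp : ∀ n, IsQ (I ^ (n + 1)) (p n) := fun n =>
    isQ_iso_comp (inv (tr F (le_max_right n c))) (isQ_tr hF (le_max_left n c))
  have key : ∀ {m m' : ℕ} (h : c ≤ m) (h' : m ≤ m'),
      inv (tr F (h.trans h')) ≫ tr F h' = inv (tr F h) := by
    intro m m' h h'
    rw [IsIso.inv_comp_eq, ← tr_comp F h h', Category.assoc, IsIso.hom_inv_id, Category.comp_id]
  have hcompat : ∀ n, p (n + 1) ≫ tr F (Nat.le_succ n) = p n := by
    intro n
    have hmm : max n c ≤ max (n + 1) c := max_le_max (Nat.le_succ n) le_rfl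
    change (inv (tr F (le_max_right (n + 1) c)) ≫ tr F (le_max_left (n + 1) c)) ≫
      tr F (Nat.le_succ n) = inv (tr F (le_max_right n c)) ≫ tr F (le_max_left n c)
    rw [Category.assoc, tr_comp F (Nat.le_succ n) (le_max_left (n + 1) c),
      ← tr_comp F (le_max_left n c) hmm, ← Category.assoc]
    congr 1
    exact key (le_max_right n c) hmm
  let app : ∀ n : ℕ, (Formal.completion I (F.obj (op c))).obj (op n) ⟶ F.obj (op n) := fun n =>
    (isoOfIsQ I (n + 1) (p n) (hp n)).hom
  have hnat : ∀ n : ℕ, (Formal.completion I (F.obj (op c))).map (homOfLE (n.le_add_right 1)).op ≫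
      app n = app (n + 1) ≫ F.map (homOfLE (n.le_add_right 1)).op := by
    intro n
    have h2 : (Formal.completion I (F.obj (op c))).map (homOfLE (Nat.le_add_right n 1)).op =
        Formal.modPowTrans I (n + 1) (F.obj (op c)) := by
      unfold Formal.completion
      exact Functor.ofOpSequence_map_homOfLE_succ _ n
    rw [h2]
    haveI : Epi (Formal.modPowπ I (n + 1 + 1) (F.obj (op c))) := (isQ_modPowπ I _ _).epi
    change Formal.modPowTrans I (n + 1) (F.obj (op c)) ≫ (isoOfIsQ I (n + 1) (p n) (hp n)).hom =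
      (isoOfIsQ I (n + 1 + 1) (p (n + 1)) (hp (n + 1))).hom ≫ tr F (Nat.le_succ n)
    rw [← cancel_epi (Formal.modPowπ I (n + 1 + 1) (F.obj (op c))), ← Category.assoc,
      Formal.modPowπ_trans, ← Category.assoc, modPowπ_isoOfIsQ_hom, modPowπ_isoOfIsQ_hom, hcompat]
  let α : Formal.completion I (F.obj (op c)) ⟶ F := NatTrans.ofOpSequence app hnat
  haveI : ∀ k : ℕᵒᵖ, IsIso (α.app k) := fun k => by
    change IsIso (isoOfIsQ I (k.unop + 1) (p k.unop) (hp k.unop)).hom
    infer_instance
  haveI : IsIso α := NatIso.isIso_of_isIso_app α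
  exact ⟨asIso α⟩

end Groth.Agent.H2.FormalQ
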