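import Groth.Agent.Lib.Helper2.FormalQ2
import Groth.Prelude.Def_Algz

/-!
# Maps out of re-indexed coherent formal modules (helper2)
-/

set_option autoImplicit false
set_option linter.style.haveILetI false
universe u
open CategoryTheory Limits Opposite TopologicalSpace AlgebraicGeometry

namespace Groth.Agent.H2.FormalQ

open Groth.Agent.LD.FF

variable {A : Type u} [CommRing A] {X : Scheme.{u}} [X.Over (Spec (CommRingCat.of A))]
  {I : Ideal A} {F G : ℕᵒᵖ ⥤ X.Modules}

/-- a quotient by `J` maps uniquely to modules killed by `J`. -/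
lemma IsQ.exists_desc {J : Ideal A} {M Q Z : X.Modules} {p : M ⟶ Q} (hp : IsQ J p)
    (hZ : Formal.KilledBy J Z) (g : M ⟶ Z) : ∃ g' : Q ⟶ Z, p ≫ g' = g := by
  rw [isQ_iff] at hp
  refine hp.2.2 g (fun b hb => ?_)
  rw [← comp_smulMod, hZ b hb, comp_zero]

/-- morphisms of systems over `ℕᵒᵖ` from components compatible with the transition maps. -/
noncomputable def natTransOfTr {C : Type*} [Category C] {F G : ℕᵒᵖ ⥤ C}
    (app : ∀ n : ℕ, F.obj (op n) ⟶ G.obj (op n))
    (h : ∀ (n k : ℕ) (hnk : n ≤ k),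
      F.map (homOfLE hnk).op ≫ app n = app k ≫ G.map (homOfLE hnk).op) : F ⟶ G where
  app n := app n.unop
  naturality := by
    intro X Y f
    have hf : f = (homOfLE (leOfHom f.unop)).op := Subsingleton.elim _ _
    rw [hf]
    exact h Y.unop X.unop (leOfHom f.unop)

theorem existsUnique_of_reindex (hF : Formal.IsCohFormal I F) (hG : Formal.IsCohFormal I G)
    (m : ℕ → ℕ) (hm : Monotone m) (hle : ∀ n : ℕ, n ≤ m n) (π : DerCA.reindex F hm ⟶ F)
    (hπ : ∀ n : ℕ, π.app (op n) = F.map (homOfLE (hle n)).op) (α : DerCA.reindex F hm ⟶ G) :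
    ∃! β : F ⟶ G, π ≫ β = α := by
  have hQ : ∀ n, IsQ (I ^ (n + 1)) (tr F (hle n)) := fun n => isQ_tr hF (hle n)
  haveI : ∀ n, Epi (tr F (hle n)) := fun n => (hQ n).epi
  choose b hb using fun n => (hQ n).exists_desc (hG.2.1 n) (α.app (op n))
  have hnat : ∀ (n k : ℕ) (hnk : n ≤ k),
      F.map (homOfLE hnk).op ≫ b n = b k ≫ G.map (homOfLE hnk).op := by
    intro n k hnk
    rw [← cancel_epi (tr F (hle k)), ← Category.assoc, ← Category.assoc, hb k]
    have h1 : tr F (hle k) ≫ F.map (homOfLE hnk).op =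
        (DerCA.reindex F hm).map (homOfLE hnk).op ≫ tr F (hle n) := by
      change tr F (hle k) ≫ tr F hnk = tr F (hm hnk) ≫ tr F (hle n)
      rw [tr_comp, tr_comp]
    refine (congrArg (· ≫ b n) h1).trans ?_
    refine (Category.assoc _ _ _).trans ?_
    refine (congrArg ((DerCA.reindex F hm).map (homOfLE hnk).op ≫ ·) (hb n)).trans ?_
    exact α.naturality (homOfLE hnk).op
  refine ⟨natTransOfTr b hnat, ?_, ?_⟩
  · apply NatTrans.ext
    funext n
    obtain ⟨n⟩ := n
    change π.app (op n) ≫ b n = α.app (op n)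
    rw [hπ]
    exact hb n
  · intro β' hβ'
    apply NatTrans.ext
    funext n
    obtain ⟨n⟩ := n
    change β'.app (op n) = b n
    rw [← cancel_epi (tr F (hle n)), hb n, ← hβ']
    change _ = π.app (op n) ≫ β'.app (op n)
    rw [hπ]
    rfl

end Groth.Agent.H2.FormalQ
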