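import Groth.Agent.Lib.Helper2.MumH
import Groth.Agent.Lib.Helper2.FormalQ
import Groth.Agent.Lib.Lead.QC.HomAffine
import Groth.Agent.Lib.Lead.QC.EpiLocal

/-!
# `F / J F ≅ F ⊗_A (A / J)` for modules on a scheme over `Spec A` (helper2)

The morphisms `F ⟶ f^*(M~) ⊗ F`, `x ↦ x ⊗ m`; the case `M = A`, `m = 1` is an isomorphism, and the case
`M = A / J`, `m = 1` is a quotient of `F` by `J` (for quasi-coherent `F`).
-/

set_option autoImplicit false
set_option linter.style.haveILetI false
universe u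

open CategoryTheory CategoryTheory.Limits AlgebraicGeometry Opposite TopologicalSpace TensorProduct

namespace Groth.Agent.H2.FormalTF

open Groth.Agent.LD.QC Groth.Agent.H2.Mum Groth.Agent.H2.FormalQ

variable (A : Type u) [CommRing A] {X : Scheme.{u}} [X.Over (Spec (CommRingCat.of A))]
  (F : X.Modules) (M : ModuleCat.{u} A)

/-- `x ↦ x ⊗ m` on sections over `V`. -/
noncomputable def secLin (m : M) (V : X.Opens) : Γ(F, V) →ₗ[Γ(X, V)] Γ(TF A F M, V) where
  toFun x := tm (pbT A M) F V (show Γ(pbT A M, V) from μ A M V m) x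
  map_add' x y := tm_add_right _ _ _ _ _ _
  map_smul' r x := tm_smul_right _ _ _ _ _ _

lemma secLin_apply (m : M) (V : X.Opens) (x : Γ(F, V)) :
    secLin A F M m V x = σ A M F V ((show SecA A F V from x) ⊗ₜ m) := rfl

lemma secLin_res (m : M) {V W : X.Opens} (h : W ≤ V) (x : Γ(F, V)) :
    (TF A F M).presheaf.map (homOfLE h).op (secLin A F M m V x) =
      secLin A F M m W (F.presheaf.map (homOfLE h).op x) := by
  have := σ_res A M F h ((show SecA A F V from x) ⊗ₜ m)
  rw [LinearMap.rTensor_tmul] at this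
  exact this

/-- the morphism `F ⟶ f^*(M~) ⊗ F`, `x ↦ x ⊗ m`. -/
noncomputable def ιm (m : M) : F ⟶ TF A F M :=
  homOfAffine F (TF A F M) (fun U => secLin A F M m U.1)
    (fun U V h s => secLin_res A F M m h s)

lemma ιm_app (m : M) (U : X.affineOpens) (x : Γ(F, U.1)) :
    (ιm A F M m).app U.1 x = σ A M F U.1 ((show SecA A F U.1 from x) ⊗ₜ m) :=
  homOfAffine_app _ _ _ _ U x

lemma ιm_map {M M' : ModuleCat.{u} A} (h : M ⟶ M') (m : M) :
    ιm A F M m ≫ TFmap A F h = ιm A F M' (h m) := by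
  apply hom_ext_affine
  intro U s
  rw [Scheme.Modules.Hom.comp_app, ConcreteCategory.comp_apply, ιm_app, ιm_app]
  have := σ_map A F U.1 h ((show SecA A F U.1 from s) ⊗ₜ m)
  rw [LinearMap.lTensor_tmul] at this
  exact this

end Groth.Agent.H2.FormalTF
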