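import Mathlib
import Groth.Agent.Lib.Helper5.FlatCx.C
import Groth.Agent.Lib.Helper3.PCoh.Resol

/-! # Universal acyclicity for complexes of flat modules that are universally exact in high degrees

`flat_of_pure`: the cokernel of a universally injective map into a flat module is flat.
`rTensor_exact_of_univ`: an exact complex of flat modules (indexed by `ℤ`, no boundedness) which stays
exact in degrees `> b` after tensoring with any module stays exact everywhere after tensoring.
`quasiIso_tensor_of_univ`: a quasi-isomorphism `L ⟶ C` from a bounded above flat complex to a flat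
complex that is universally exact in high degrees stays a quasi-isomorphism after `- ⊗ M`. -/

set_option autoImplicit false
set_option linter.style.haveILetI false
universe u v

open TensorProduct CategoryTheory CategoryTheory.Limits

namespace Groth.Agent.H2.Mum

open Groth.Agent.Lib.Helper5.FlatCx

section pure
variable {A : Type u} [CommRing A] {Z C N : Type v} [AddCommGroup Z] [Module A Z]
  [AddCommGroup C] [Module A C] [AddCommGroup N] [Module A N]

/-- the cokernel of a universally injective (pure) map into a flat module is flat. -/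
theorem flat_of_pure [Module.Flat A C] (j : Z →ₗ[A] C) (g : C →ₗ[A] N)
    (hex : Function.Exact j g) (hg : Function.Surjective g)
    (hpure : ∀ I : Ideal A, Function.Injective (LinearMap.rTensor (A ⧸ I) j)) :
    Module.Flat A N := by
  rw [Module.Flat.iff_lTensor_injective']
  intro I
  rw [injective_iff_map_eq_zero]
  intro x hx
  have hgj : g ∘ₗ j = 0 := by
    ext z
    exact hex.apply_apply_eq_zero z
  obtain ⟨y, rfl⟩ := LinearMap.rTensor_surjective I hg x
  have h1 : LinearMap.rTensor A g (LinearMap.lTensor C I.subtype y) = 0 := by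
    rw [← LinearMap.comp_apply, LinearMap.rTensor_comp_lTensor, ← LinearMap.lTensor_comp_rTensor,
      LinearMap.comp_apply, hx]
  obtain ⟨z', hz'⟩ := (rTensor_exact A hex hg (LinearMap.lTensor C I.subtype y)).1 h1
  have h2 : LinearMap.rTensor (A ⧸ I) j (LinearMap.lTensor Z (Submodule.mkQ I) z') = 0 := by
    rw [← LinearMap.comp_apply, LinearMap.rTensor_comp_lTensor, ← LinearMap.lTensor_comp_rTensor,
      LinearMap.comp_apply, hz', ← LinearMap.comp_apply, ← LinearMap.lTensor_comp]
    have : Submodule.mkQ I ∘ₗ I.subtype = 0 := by
      ext a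
      exact (Ideal.Quotient.eq_zero_iff_mem).2 a.2
    rw [this, LinearMap.lTensor_zero, LinearMap.zero_apply]
  have h3 : LinearMap.lTensor Z (Submodule.mkQ I) z' = 0 := hpure I (by rw [h2, map_zero])
  obtain ⟨w, hw⟩ := (lTensor_exact Z (LinearMap.exact_subtype_mkQ I)
    (Submodule.mkQ_surjective I) z').1 h3
  have h4 : LinearMap.lTensor C I.subtype (LinearMap.rTensor I j w) =
      LinearMap.lTensor C I.subtype y := by
    rw [← LinearMap.comp_apply, LinearMap.lTensor_comp_rTensor, ← LinearMap.rTensor_comp_lTensor,
      LinearMap.comp_apply, hw, hz']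
  have h5 : LinearMap.rTensor I j w = y :=
    Module.Flat.lTensor_preserves_injective_linearMap I.subtype Subtype.val_injective h4
  rw [← h5, ← LinearMap.comp_apply, ← LinearMap.rTensor_comp, hgj, LinearMap.rTensor_zero,
    LinearMap.zero_apply]

end pure

section alg
variable {A : Type u} [CommRing A]
variable {X : ℤ → Type v} [∀ i, AddCommGroup (X i)] [∀ i, Module A (X i)]
    (d : ∀ i, X i →ₗ[A] X (i + 1)) (hex : ∀ i, Function.Exact (d i) (d (i + 1)))

include hex in
/-- universal exactness at `X (i+1)` gives universal injectivity of `Z (i+2) → X (i+2)`. -/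
theorem rTensor_subtype_injective_of_univ (M : Type u) [AddCommGroup M] [Module A M] (i : ℤ)
    (huniv : Function.Exact (LinearMap.rTensor M (d i)) (LinearMap.rTensor M (d (i + 1)))) :
    Function.Injective (LinearMap.rTensor M (LinearMap.ker (d (i + 1 + 1))).subtype) := by
  rw [injective_iff_map_eq_zero]
  intro w hw
  obtain ⟨x, rfl⟩ := LinearMap.rTensor_surjective M (toZ_surjective d hex (i + 1)) w
  rw [← LinearMap.comp_apply, ← LinearMap.rTensor_comp, subtype_comp_toZ] at hw
  obtain ⟨v, rfl⟩ := (huniv x).1 hw
  rw [← LinearMap.comp_apply, ← LinearMap.rTensor_comp]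
  have : toZ d hex (i + 1) ∘ₗ d i = 0 := by
    ext x
    exact (hex i).apply_apply_eq_zero x
  rw [this, LinearMap.rTensor_zero, LinearMap.zero_apply]

include hex in
/-- flatness of all the cycle modules, from universal exactness in high degrees. -/
theorem flat_Z_of_univ [∀ i, Module.Flat A (X i)] (b : ℤ)
    (huniv : ∀ (M : Type u) [AddCommGroup M] [Module A M] (i : ℤ), b < i →
      Function.Exact (LinearMap.rTensor M (d i)) (LinearMap.rTensor M (d (i + 1)))) :
    ∀ i, Module.Flat A (LinearMap.ker (d i)) := by
  have hstep : ∀ i, Module.Flat A (LinearMap.ker (d (i + 1))) →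
      Module.Flat A (LinearMap.ker (d i)) := by
    intro i hi
    haveI := hi
    have := flat_ker_of_surjective (toZ d hex i) (toZ_surjective d hex i)
    rw [ker_toZ] at this
    exact this
  have hbase : ∀ i, b < i → Module.Flat A (LinearMap.ker (d (i + 1 + 1 + 1))) := by
    intro i hi
    refine flat_of_pure (LinearMap.ker (d (i + 1 + 1))).subtype (toZ d hex (i + 1 + 1)) ?_
      (toZ_surjective d hex (i + 1 + 1)) ?_
    · have := LinearMap.exact_subtype_ker_map (toZ d hex (i + 1 + 1))
      rw [ker_toZ] at this
      exact this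
    · intro I
      exact rTensor_subtype_injective_of_univ d hex (A ⧸ I) i (huniv (A ⧸ I) i hi)
  have key : ∀ n : ℕ, ∀ i, b + 4 - n ≤ i → Module.Flat A (LinearMap.ker (d i)) := by
    intro n
    induction n with
    | zero =>
      intro i hi
      obtain ⟨i', rfl⟩ : ∃ i', i = i' + 1 + 1 + 1 := ⟨i - 3, by omega⟩
      exact hbase i' (by simp at hi; omega)
    | succ n ih =>
      intro i hi
      apply hstep
      apply ih
      push_cast at hi
      omega
  intro i
  exact key (b + 4 - i).toNat i (by omega)

include hex in
/-- exactness is preserved by `- ⊗ M` when all the cycle modules are flat. -/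
theorem rTensor_exact_of_flat_Z (hflat : ∀ i, Module.Flat A (LinearMap.ker (d i)))
    (M : Type u) [AddCommGroup M] [Module A M] (i : ℤ) :
    Function.Exact (LinearMap.rTensor M (d i)) (LinearMap.rTensor M (d (i + 1))) := by
  haveI := hflat (i + 1 + 1 + 1)
  have hinj : Function.Injective
      (LinearMap.rTensor M (LinearMap.ker (d (i + 1 + 1))).subtype) := by
    have h1 := LinearMap.lTensor_injective_of_exact_of_flat (toZ d hex (i + 1 + 1))
      (toZ_surjective d hex (i + 1 + 1)) (LinearMap.ker (d (i + 1 + 1))).subtype
      (LinearMap.ker (d (i + 1 + 1))).subtype_injective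
      (by
        have := LinearMap.exact_subtype_ker_map (toZ d hex (i + 1 + 1))
        rw [ker_toZ] at this
        exact this) M
    have h2 : LinearMap.rTensor M (LinearMap.ker (d (i + 1 + 1))).subtype =
        (TensorProduct.comm A M _).toLinearMap ∘ₗ
          LinearMap.lTensor M (LinearMap.ker (d (i + 1 + 1))).subtype ∘ₗ
          (TensorProduct.comm A _ M).toLinearMap := by
      ext x m
      simp
    rw [h2]
    exact (TensorProduct.comm A M _).injective.comp (h1.comp (TensorProduct.comm A _ M).injective)
  have hexZ : Function.Exact (LinearMap.rTensor M (LinearMap.ker (d (i + 1))).subtype)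
      (LinearMap.rTensor M (toZ d hex (i + 1))) := by
    apply rTensor_exact M _ (toZ_surjective d hex (i + 1))
    have := LinearMap.exact_subtype_ker_map (toZ d hex (i + 1))
    rw [ker_toZ] at this
    exact this
  have hsurj : Function.Surjective (LinearMap.rTensor M (toZ d hex i)) :=
    LinearMap.rTensor_surjective M (toZ_surjective d hex i)
  intro z
  constructor
  · intro hz
    rw [← subtype_comp_toZ d hex (i + 1), LinearMap.rTensor_comp, LinearMap.comp_apply] at hz
    have hz' : LinearMap.rTensor M (toZ d hex (i + 1)) z = 0 := by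
      apply hinj
      rw [hz, map_zero]
    obtain ⟨w, rfl⟩ := (hexZ z).1 hz'
    obtain ⟨v, rfl⟩ := hsurj w
    refine ⟨v, ?_⟩
    rw [← LinearMap.comp_apply, ← LinearMap.rTensor_comp, subtype_comp_toZ]
  · rintro ⟨v, rfl⟩
    rw [← LinearMap.comp_apply, ← LinearMap.rTensor_comp]
    have : d (i + 1) ∘ₗ d i = 0 := by
      ext x
      exact (hex i).apply_apply_eq_zero x
    rw [this, LinearMap.rTensor_zero, LinearMap.zero_apply]

include hex in
theorem rTensor_exact_of_univ [∀ i, Module.Flat A (X i)] (b : ℤ)
    (huniv : ∀ (M : Type u) [AddCommGroup M] [Module A M] (i : ℤ), b < i →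
      Function.Exact (LinearMap.rTensor M (d i)) (LinearMap.rTensor M (d (i + 1))))
    (M : Type u) [AddCommGroup M] [Module A M] (i : ℤ) :
    Function.Exact (LinearMap.rTensor M (d i)) (LinearMap.rTensor M (d (i + 1))) :=
  rTensor_exact_of_flat_Z d hex (flat_Z_of_univ d hex b huniv) M i

end alg

section cat
variable {A : Type u} [CommRing A]

/-- acyclic complexes of flat modules which are universally exact in high degrees are universally
exact. -/
theorem acyclic_tensor_of_univ (K : CochainComplex (ModuleCat.{u} A) ℤ)
    (hK : ∀ i, Module.Flat A (K.X i)) (hex : ∀ n, K.ExactAt n) (b : ℤ)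
    (huniv : ∀ (M : ModuleCat.{u} A) (n : ℤ), b < n →
      (((MonoidalCategory.tensorRight M).mapHomologicalComplex (ComplexShape.up ℤ)).obj
        K).ExactAt n)
    (M : ModuleCat.{u} A) :
    ∀ n, (((MonoidalCategory.tensorRight M).mapHomologicalComplex (ComplexShape.up ℤ)).obj
      K).ExactAt n := by
  rw [exactAt_all_iff] at hex ⊢
  intro i
  haveI := hK
  refine rTensor_exact_of_univ (X := fun i => K.X i) (fun i => (K.d i (i + 1)).hom) hex b ?_ M i
  intro M' _ _ i hi
  exact (exactAt_iff_function_exact _ i).1 (huniv (ModuleCat.of A M') (i + 1) (by omega))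

/-- a quasi-isomorphism from a bounded above complex of flat modules to a complex of flat modules
which is universally exact in high degrees stays a quasi-isomorphism after tensoring. -/
theorem quasiIso_tensor_of_univ (L C : CochainComplex (ModuleCat.{u} A) ℤ)
    (hL : ∀ i, Module.Flat A (L.X i)) (hC : ∀ i, Module.Flat A (C.X i))
    (bL : ∃ b : ℤ, ∀ i, b < i → IsZero (L.X i)) (φ : L ⟶ C) [QuasiIso φ] (b : ℤ)
    (huniv : ∀ (M : ModuleCat.{u} A) (n : ℤ), b < n →
      (((MonoidalCategory.tensorRight M).mapHomologicalComplex (ComplexShape.up ℤ)).obj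
        C).ExactAt n)
    (M : ModuleCat.{u} A) :
    QuasiIso (((MonoidalCategory.tensorRight M).mapHomologicalComplex (ComplexShape.up ℤ)).map
      φ) := by
  obtain ⟨b₁, hb₁⟩ := bL
  let K := CochainComplex.mappingCone φ
  have hKiso : ∀ i : ℤ, K.X i ≅ L.X (i + 1) ⊞ C.X i := fun i =>
    HomologicalComplex.homotopyCofiber.XIsoBiprod φ i (i + 1) (by simp)
  have hKflat : ∀ i, Module.Flat A (K.X i) := by
    intro i
    haveI := hL (i + 1)
    haveI := hC i
    haveI := flat_biprod (L.X (i + 1)) (C.X i)
    exact flat_of_iso (hKiso i).symm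
  have hKex : ∀ n, K.ExactAt n := (quasiIso_iff_mappingCone_exactAt φ).1 inferInstance
  have hKuniv : ∀ (M' : ModuleCat.{u} A) (n : ℤ), max b b₁ < n →
      (((MonoidalCategory.tensorRight M').mapHomologicalComplex (ComplexShape.up ℤ)).obj
        K).ExactAt n := by
    intro M' n hn
    have e := CochainComplex.mappingCone.mapHomologicalComplexIso φ
      (MonoidalCategory.tensorRight M')
    refine HomologicalComplex.ExactAt.of_iso ?_ e.symm
    rw [HomologicalComplex.exactAt_iff_isZero_homology]
    refine Groth.Agent.H3.PCohLib.isZero_homology_mappingCone _ n ?_ ?_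
    · refine IsZero.epi ?_ _
      rw [← HomologicalComplex.exactAt_iff_isZero_homology]
      exact huniv M' n (by have := le_max_left b b₁; omega)
    · refine IsZero.mono ?_ _
      refine Groth.Agent.H3.PCohLib.isZero_homology_of_isZero_X _ _ ?_
      exact Functor.map_isZero (MonoidalCategory.tensorRight M')
        (hb₁ (n + 1) (by have := le_max_right b b₁; omega))
  have hT := acyclic_tensor_of_univ K hKflat hKex (max b b₁) hKuniv M
  rw [quasiIso_iff_mappingCone_exactAt]
  intro n
  have e := CochainComplex.mappingCone.mapHomologicalComplexIso φ (MonoidalCategory.tensorRight M)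
  exact (hT n).of_iso e

end cat

end Groth.Agent.H2.Mum
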