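import Groth.Agent.Lib.Helper2.MumI
import Groth.Agent.Lib.Helper2.MumA
import Groth.Agent.Lib.Helper2.ExtendFunctor

/-! # Assembly: from a resolution of the (extended) Čech complex to natural isomorphisms
`H^p(L ⊗ M) ≅ H^p(X, f^*(M~) ⊗ F)`. -/

set_option autoImplicit false
set_option linter.style.haveILetI false
universe u

open CategoryTheory CategoryTheory.Limits AlgebraicGeometry Opposite TopologicalSpace TensorProduct

namespace Groth.Agent.H2.Mum

open Groth.Agent.LD Groth.Agent.LD.QC

variable (A : Type u) [CommRing A] {X : Scheme.{u}} [X.Over (Spec (CommRingCat.of A))]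
  {ι : Type u} (U : ι → X.Opens) (F : X.Modules)

instance pbT_qc (M : ModuleCat.{u} A) : (pbT (X := X) A M).IsQuasicoherent :=
  qc_pullback (X ↘ Spec (CommRingCat.of A)) (tilde (R := CommRingCat.of A) M)

instance TF_qc [F.IsQuasicoherent] (M : ModuleCat.{u} A) : (TF A F M).IsQuasicoherent :=
  tensorMod_isQuasicoherent _ _

/-- the embedding `ℕ → ℤ`. -/
abbrev eN : (ComplexShape.up ℕ).Embedding (ComplexShape.up ℤ) := ComplexShape.embeddingUpNat

/-- the `ℤ`-indexed Čech complex. -/
noncomputable abbrev CZ : CochainComplex (ModuleCat.{u} A) ℤ := (CA A U F).extend eN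

section iso
variable [Finite ι] [F.IsQuasicoherent] (hW : ∀ (n : ℕ) (a : Fin (n + 1) → ι), IsAffineOpen (Wc U a))

include hW in
lemma τ_isIso (M : ModuleCat.{u} A) : IsIso (τ A U F M) := by
  haveI : ∀ n, IsIso ((τ A U F M).f n) := fun n => by
    rw [τ_f]
    exact (ConcreteCategory.isIso_iff_bijective _).2
      (τlin_bijective A U F M n (fun a => σ_bijective A M F (hW n a)))
  exact HomologicalComplex.Hom.isIso_of_components _

end iso

section resolution

variable [Finite ι] [F.IsQuasicoherent]
  (haff : ∀ (n : ℕ) (a : Fin (n + 1) → ι), IsAffineOpen (⨅ k, U (a k))) (hU : iSup U = ⊤)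

include haff in
lemma hW_of_haff (n : ℕ) (a : Fin (n + 1) → ι) : IsAffineOpen (Wc U a) := by
  rw [Wc_eq_iInf]
  exact haff n a

/-- cohomology of `CA F ⊗ M` computes `H^p(X, f^*(M~) ⊗ F)`. -/
noncomputable def tEquiv (M : ModuleCat.{u} A) (p : ℕ) :
    ((CohIII.tensorObj (CA A U F) M).homology p : ModuleCat.{u} A) ≃+
      Coh.HH X (TF A F M) p :=
  haveI := τ_isIso A U F (hW_of_haff U haff) M
  (homologyIsoOfIso (asIso (τ A U F M)) p).toLinearEquiv.toAddEquiv.trans
    (hEquiv0 A U haff hU (TF A F M) p)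

include haff hU in
/-- universal exactness of the extended Čech complex above the cohomological dimension. -/
lemma exactAt_tensor_of_vanish (d : ℕ)
    (hd : ∀ (N : X.Modules), N.IsQuasicoherent → ∀ p : ℕ, d ≤ p → Subsingleton (Coh.HH X N p))
    (M : ModuleCat.{u} A) (n : ℤ) (hn : (d : ℤ) ≤ n) :
    (CohIII.tensorObj (CZ A U F) M).ExactAt n := by
  obtain ⟨j, rfl⟩ : ∃ j : ℕ, n = (j : ℤ) := ⟨n.toNat, by omega⟩
  have hj : d ≤ j := by omega
  refine HomologicalComplex.ExactAt.of_iso ?_
    (extendMapHCIso eN (MonoidalCategory.tensorRight M) (CA A U F)).symm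
  rw [HomologicalComplex.extend_exactAt_iff _ eN (j := j) (j' := (j : ℤ)) rfl,
    HomologicalComplex.exactAt_iff_isZero_homology]
  haveI := hd (TF A F M) inferInstance j hj
  haveI : Subsingleton ((CohIII.tensorObj (CA A U F) M).homology j : ModuleCat.{u} A) :=
    (tEquiv A U F haff hU M j).toEquiv.subsingleton
  exact ModuleCat.isZero_of_subsingleton _

end resolution

end Groth.Agent.H2.Mum
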