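import Groth.Agent.Lib.Helper2.FormalTF1
import Groth.Agent.Lib.Helper2.MumJ

/-!
# `F ≅ F ⊗_A A` and `F / J F ≅ F ⊗_A (A / J)` (helper2)
-/

set_option autoImplicit false
set_option linter.style.haveILetI false
universe u

open CategoryTheory CategoryTheory.Limits AlgebraicGeometry Opposite TopologicalSpace TensorProduct

namespace Groth.Agent.H2.FormalTF

open Groth.Agent.LD.QC Groth.Agent.H2.Mum Groth.Agent.H2.FormalQ

variable (A : Type u) [CommRing A] {X : Scheme.{u}} [X.Over (Spec (CommRingCat.of A))]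
  (F : X.Modules)

/-- the unit morphism `F ⟶ F ⊗_A A`. -/
noncomputable abbrev u : F ⟶ TF A F (ModuleCat.of A A) :=
  ιm A F (ModuleCat.of A A) (1 : A)

instance u_isIso [F.IsQuasicoherent] : IsIso (u A F) := by
  apply isIso_of_bijective_affine
  intro U
  have hσ := σ_bijective A (ModuleCat.of A A) F U.2
  have h : ((u A F).app U.1 : Γ(F, U.1) → _) =
      (σ A (ModuleCat.of A A) F U.1) ∘ (TensorProduct.rid A (SecA A F U.1)).symm := by
    funext x
    rw [ιm_app]
    rfl
  rw [h]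
  exact hσ.comp (TensorProduct.rid A (SecA A F U.1)).symm.bijective

variable (J : Ideal A)

/-- the projection `F ⟶ F ⊗_A (A / J)`. -/
noncomputable abbrev q : F ⟶ TF A F (ModuleCat.of A (A ⧸ J)) :=
  ιm A F (ModuleCat.of A (A ⧸ J)) (1 : A ⧸ J)

lemma u_comp_TFmap :
    u A F ≫ TFmap A F (ModuleCat.ofHom (Submodule.mkQ J)) = q A F J :=
  ιm_map A F (ModuleCat.ofHom (Submodule.mkQ J)) (1 : A)

/-- every element of `S ⊗ (A / J)` is of the form `x ⊗ 1`. -/
lemma exists_tmul_one {S : Type*} [AddCommGroup S] [Module A S] (z : S ⊗[A] (A ⧸ J)) :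
    ∃ x : S, z = x ⊗ₜ[A] (1 : A ⧸ J) := by
  induction z using TensorProduct.induction_on with
  | zero => exact ⟨0, (TensorProduct.zero_tmul _ _).symm⟩
  | tmul s a =>
    obtain ⟨a, rfl⟩ := Ideal.Quotient.mk_surjective a
    refine ⟨a • s, ?_⟩
    rw [TensorProduct.smul_tmul]
    congr 1
    change _ = a • (1 : A ⧸ J)
    rw [Algebra.smul_def, mul_one]
    rfl
  | add z w hz hw =>
    obtain ⟨x, rfl⟩ := hz
    obtain ⟨y, rfl⟩ := hw
    exact ⟨x + y, (TensorProduct.add_tmul _ _ _).symm⟩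

lemma q_app_surjective [F.IsQuasicoherent] (U : X.affineOpens) :
    Function.Surjective ((q A F J).app U.1) := by
  intro t
  obtain ⟨z, hz⟩ := (σ_bijective A (ModuleCat.of A (A ⧸ J)) F U.2).2 t
  obtain ⟨x, rfl⟩ := exists_tmul_one A J z
  exact ⟨x, (ιm_app A F _ _ U x).trans hz⟩

lemma q_epi [F.IsQuasicoherent] : Epi (q A F J) := by
  apply epi_of_local_lift
  intro U t x hx
  obtain ⟨V, hV, hxV, hVU⟩ := exists_isAffineOpen_mem_and_subset (x := x) (U := U) hx
  obtain ⟨g, hg⟩ := q_app_surjective A F J ⟨V, hV⟩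
    ((TF A F (ModuleCat.of A (A ⧸ J))).presheaf.map (homOfLE hVU).op t)
  exact ⟨V, hVU, hxV, g, hg⟩

lemma smulMod_comp_q (b : A) (hb : b ∈ J) : Formal.smulMod A F b ≫ q A F J = 0 := by
  apply hom_ext_affine
  intro U s
  rw [Scheme.Modules.Hom.comp_app, ConcreteCategory.comp_apply, ιm_app]
  have h1 : ((Formal.smulMod A F b).app U.1 s : Γ(F, U.1)) =
      (b • (show SecA A F U.1 from s) : SecA A F U.1) := appA_smulMod A F b U.1 s
  have h2 : ((b • (show SecA A F U.1 from s) : SecA A F U.1) ⊗ₜ[A] (1 : A ⧸ J)) = 0 := by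
    rw [TensorProduct.smul_tmul]
    have : b • (1 : A ⧸ J) = 0 := by
      rw [Algebra.smul_def, mul_one]
      exact Ideal.Quotient.eq_zero_iff_mem.2 hb
    rw [this, TensorProduct.tmul_zero]
  change σ A _ F U.1 ((show SecA A F U.1 from (Formal.smulMod A F b).app U.1 s) ⊗ₜ _) = _
  rw [show (show SecA A F U.1 from (Formal.smulMod A F b).app U.1 s) =
    (b • (show SecA A F U.1 from s) : SecA A F U.1) from h1, h2, map_zero]
  rfl

end Groth.Agent.H2.FormalTF
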