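import Groth.Agent.Lib.Helper2.FormalTF2

/-!
# `F ⟶ F ⊗_A (A / J)` is a quotient of `F` by `J` (helper2)
-/

set_option autoImplicit false
set_option linter.style.haveILetI false
universe u

open CategoryTheory CategoryTheory.Limits AlgebraicGeometry Opposite TopologicalSpace TensorProduct

namespace Groth.Agent.H2.FormalTF

open Groth.Agent.LD.QC Groth.Agent.H2.Mum Groth.Agent.H2.FormalQ

variable (A : Type u) [CommRing A] {X : Scheme.{u}} [X.Over (Spec (CommRingCat.of A))]
  (F : X.Modules) (J : Ideal A)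

section desc

variable {F} {Z : X.Modules} (g : F ⟶ Z) (hg : ∀ b ∈ J, Formal.smulMod A F b ≫ g = 0)

include hg in
lemma smul_top_le_ker (V : X.Opens) :
    (J • (⊤ : Submodule A (SecA A F V))) ≤ LinearMap.ker (appA A g V) := by
  rw [Submodule.smul_le]
  intro b hb s _
  rw [LinearMap.mem_ker, ← appA_smulMod A F b V s]
  change (Formal.smulMod A F b ≫ g).app V s = 0
  rw [hg b hb]
  rfl

/-- `Γ(F,V) ⊗_A (A/J) → Γ(Z,V)`, `x ⊗ 1 ↦ g x`. -/
noncomputable def descLin (V : X.Opens) : SecA A F V ⊗[A] (A ⧸ J) →ₗ[A] SecA A Z V :=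
  (Submodule.liftQ (J • (⊤ : Submodule A (SecA A F V))) (appA A g V)
    (smul_top_le_ker A J g hg V)) ∘ₗ
    (TensorProduct.tensorQuotEquivQuotSMul (SecA A F V) J).toLinearMap

lemma descLin_tmul_one (V : X.Opens) (x : SecA A F V) :
    descLin A J g hg V (x ⊗ₜ[A] (1 : A ⧸ J)) = appA A g V x := by
  unfold descLin
  rw [LinearMap.comp_apply, LinearEquiv.coe_coe]
  have : (1 : A ⧸ J) = Ideal.Quotient.mk J 1 := rfl
  rw [this, TensorProduct.tensorQuotEquivQuotSMul_tmul_mk, one_smul, Submodule.liftQ_apply]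

end desc

end Groth.Agent.H2.FormalTF

namespace Groth.Agent.H2.FormalTF

open Groth.Agent.LD.QC Groth.Agent.H2.Mum Groth.Agent.H2.FormalQ

variable (A : Type u) [CommRing A] {X : Scheme.{u}} [X.Over (Spec (CommRingCat.of A))]
  (F : X.Modules) (J : Ideal A) [F.IsQuasicoherent]

/-- `σ` over an affine open as an equivalence. -/
noncomputable def σEquiv (M : ModuleCat.{u} A) (U : X.affineOpens) :
    SecA A F U.1 ⊗[A] M ≃ₗ[A] SecA A (TF A F M) U.1 :=
  LinearEquiv.ofBijective (σ A M F U.1) (σ_bijective A M F U.2)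

section desc

variable {F} {Z : X.Modules} (g : F ⟶ Z) (hg : ∀ b ∈ J, Formal.smulMod A F b ≫ g = 0)

/-- the descended map on sections over an affine open, as a function. -/
noncomputable def descFun (U : X.affineOpens) (t : Γ(TF A F (ModuleCat.of A (A ⧸ J)), U.1)) :
    Γ(Z, U.1) :=
  descLin A J g hg U.1 ((σEquiv A F (ModuleCat.of A (A ⧸ J)) U).symm t)

lemma descFun_q (U : X.affineOpens) (x : Γ(F, U.1)) :
    descFun A J g hg U ((q A F J).app U.1 x) = g.app U.1 x := by
  unfold descFun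
  have h1 : (q A F J).app U.1 x =
      σEquiv A F (ModuleCat.of A (A ⧸ J)) U ((show SecA A F U.1 from x) ⊗ₜ (1 : A ⧸ J)) :=
    ιm_app A F _ _ U x
  rw [h1, LinearEquiv.symm_apply_apply, descLin_tmul_one]
  rfl

/-- the descended map on sections over an affine open. -/
noncomputable def descSec (U : X.affineOpens) :
    Γ(TF A F (ModuleCat.of A (A ⧸ J)), U.1) →ₗ[Γ(X, U.1)] Γ(Z, U.1) where
  toFun := descFun A J g hg U
  map_add' s t :=
    ((descLin A J g hg U.1).comp
      (σEquiv A F (ModuleCat.of A (A ⧸ J)) U).symm.toLinearMap).map_add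
        (show SecA A (TF A F (ModuleCat.of A (A ⧸ J))) U.1 from s)
        (show SecA A (TF A F (ModuleCat.of A (A ⧸ J))) U.1 from t)
  map_smul' r t := by
    obtain ⟨x, rfl⟩ := q_app_surjective A F J U t
    rw [← Scheme.Modules.Hom.app_smul, descFun_q, Scheme.Modules.Hom.app_smul, RingHom.id_apply,
      descFun_q]

lemma descSec_q (U : X.affineOpens) (x : Γ(F, U.1)) :
    descSec A J g hg U ((q A F J).app U.1 x) = g.app U.1 x := descFun_q A J g hg U x

/-- the descended morphism `F ⊗_A (A / J) ⟶ Z`. -/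
noncomputable def desc : TF A F (ModuleCat.of A (A ⧸ J)) ⟶ Z :=
  homOfAffine _ Z (fun U => descSec A J g hg U) (by
    intro U V h t
    obtain ⟨x, rfl⟩ := q_app_surjective A F J U t
    rw [descSec_q, ← app_res, ← app_res, descSec_q])

lemma q_desc : q A F J ≫ desc A J g hg = g := by
  apply hom_ext_affine
  intro U s
  rw [Scheme.Modules.Hom.comp_app, ConcreteCategory.comp_apply]
  exact (homOfAffine_app _ _ _ _ U _).trans (descSec_q A J g hg U s)

end desc

/-- **`F ⟶ F ⊗_A (A / J)` is a quotient of `F` by `J`.** -/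
theorem isQ_q : IsQ J (q A F J) := by
  rw [isQ_iff]
  exact ⟨q_epi A F J, smulMod_comp_q A F J, fun {Z} g hg => ⟨desc A J g hg, q_desc A J g hg⟩⟩

end Groth.Agent.H2.FormalTF
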