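import Groth.Agent.Lib.Helper2.MumM

/-! # Transport of exactness properties along natural isomorphisms `T ⋙ forget₂ ≅ G` -/

set_option autoImplicit false
set_option linter.style.haveILetI false
universe u

open CategoryTheory CategoryTheory.Limits

namespace Groth.Agent.H2.Mum

section generalCat
variable {C D : Type*} [Category C] [Category D] {F G : C ⥤ D}

lemma epi_map_iff_of_iso (e : F ≅ G) {X Y : C} (f : X ⟶ Y) : Epi (G.map f) ↔ Epi (F.map f) := by
  constructor
  · intro h
    have : F.map f = e.hom.app X ≫ G.map f ≫ e.inv.app Y := by simp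
    rw [this]; infer_instance
  · intro h
    have : G.map f = e.inv.app X ≫ F.map f ≫ e.hom.app Y := by simp
    rw [this]; infer_instance

lemma mono_map_iff_of_iso (e : F ≅ G) {X Y : C} (f : X ⟶ Y) : Mono (G.map f) ↔ Mono (F.map f) := by
  constructor
  · intro h
    have : F.map f = e.hom.app X ≫ G.map f ≫ e.inv.app Y := by simp
    rw [this]; infer_instance
  · intro h
    have : G.map f = e.inv.app X ≫ F.map f ≫ e.hom.app Y := by simp
    rw [this]; infer_instance

end generalCat

section transport

variable {A : Type u} [CommRing A] {T : ModuleCat.{u} A ⥤ ModuleCat.{u} A}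
  {G : ModuleCat.{u} A ⥤ AddCommGrpCat.{u}}
  (e : T ⋙ forget₂ (ModuleCat.{u} A) AddCommGrpCat.{u} ≅ G)

lemma epi_forget₂_iff {M N : ModuleCat.{u} A} (g : M ⟶ N) :
    Epi ((forget₂ (ModuleCat.{u} A) AddCommGrpCat.{u}).map g) ↔ Epi g := by
  rw [AddCommGrpCat.epi_iff_surjective, ModuleCat.epi_iff_surjective]
  rfl

lemma mono_forget₂_iff {M N : ModuleCat.{u} A} (g : M ⟶ N) :
    Mono ((forget₂ (ModuleCat.{u} A) AddCommGrpCat.{u}).map g) ↔ Mono g := by
  rw [AddCommGrpCat.mono_iff_injective, ModuleCat.mono_iff_injective]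
  rfl

include e in
lemma epi_map_iff {M N : ModuleCat.{u} A} (f : M ⟶ N) : Epi (G.map f) ↔ Epi (T.map f) := by
  exact (epi_map_iff_of_iso e f).trans (epi_forget₂_iff (T.map f))

include e in
lemma mono_map_iff {M N : ModuleCat.{u} A} (f : M ⟶ N) : Mono (G.map f) ↔ Mono (T.map f) := by
  exact (mono_map_iff_of_iso e f).trans (mono_forget₂_iff (T.map f))

include e in
lemma surjective_map_iff {M N : ModuleCat.{u} A} (f : M ⟶ N) :
    Function.Surjective (G.map f).hom ↔ Function.Surjective (T.map f).hom := by
  rw [← AddCommGrpCat.epi_iff_surjective, ← ModuleCat.epi_iff_surjective]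
  exact epi_map_iff e f

include e in
lemma injective_map_iff {M N : ModuleCat.{u} A} (f : M ⟶ N) :
    Function.Injective (G.map f).hom ↔ Function.Injective (T.map f).hom := by
  rw [← AddCommGrpCat.mono_iff_injective, ← ModuleCat.mono_iff_injective]
  exact mono_map_iff e f

include e in
lemma preservesEpi_iff : G.PreservesEpimorphisms ↔ T.PreservesEpimorphisms := by
  constructor
  · intro h
    exact ⟨fun f hf => (epi_map_iff e f).1 (h.preserves f)⟩
  · intro h
    exact ⟨fun f hf => (epi_map_iff e f).2 (h.preserves f)⟩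

include e in
lemma preservesMono_iff : G.PreservesMonomorphisms ↔ T.PreservesMonomorphisms := by
  constructor
  · intro h
    exact ⟨fun f hf => (mono_map_iff e f).1 (h.preserves f)⟩
  · intro h
    exact ⟨fun f hf => (mono_map_iff e f).2 (h.preserves f)⟩

end transport

section flipTransport

variable {A : Type u} [CommRing A] (L : CochainComplex (ModuleCat.{u} A) ℤ)
  {G : ModuleCat.{u} A ⥤ AddCommGrpCat.{u}} (p : ℤ)
  (e : CohIII.TFun L p ⋙ forget₂ (ModuleCat.{u} A) AddCommGrpCat.{u} ≅ G)

/-- transport of a natural isomorphism to the flipped (chain) complex. -/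
noncomputable def flipNatIso :
    CohIII.TFun (flip L) (-p) ⋙ forget₂ (ModuleCat.{u} A) AddCommGrpCat.{u} ≅ G :=
  Functor.isoWhiskerRight (flipTFunIso L p) _ ≪≫ e

end flipTransport

end Groth.Agent.H2.Mum
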