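import Groth.Agent.Lib.Helper2.MumQ
import Groth.Agent.Lib.Helper2.MumN
import Groth.Agent.Lib.Helper8.DRankBC

/-! # Fibre cohomology via the Mumford complex: `dim H^p(X_y, F_y) = d_p(y)` -/

set_option autoImplicit false
set_option linter.style.haveILetI false
universe u

open CategoryTheory CategoryTheory.Limits AlgebraicGeometry Opposite TopologicalSpace TensorProduct

namespace Groth.Agent.H2.Mum

open Groth.Agent.LD Groth.Agent.LD.QC

section flipBC

variable {A B : Type u} [CommRing A] [CommRing B] (φ : A →+* B)
  (L : CochainComplex (ModuleCat.{u} A) ℤ)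

/-- base change commutes with the cochain/chain flip, on homology. -/
noncomputable def bcFlipHomologyIso (p : ℤ) :
    (CohIII.bcCx φ (flip L)).homology (-p) ≅ (CohIII.bcCx φ L).homology p :=
  HomologicalComplex.homologyMapIso
    (extendMapHCIso eNeg (ModuleCat.extendScalars.{u, u, u} φ) L) (-p) ≪≫
    (CohIII.bcCx φ L).extendHomologyIso eNeg (j := p) (j' := -p) rfl

end flipBC

section fiber

variable (A : Type u) [CommRing A] {X : Scheme.{u}} [X.Over (Spec (CommRingCat.of A))]
  (F : X.Modules) [F.IsQuasicoherent] {ι : Type u} (U : ι → X.Opens) [Finite ι]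
  (haff : ∀ (n : ℕ) (a : Fin (n + 1) → ι), IsAffineOpen (⨅ k, U (a k))) (hU : iSup U = ⊤)
  (L : CochainComplex (ModuleCat.{u} A) ℤ) (v : L ⟶ CZ A U F)
  (hq : ∀ M : ModuleCat.{u} A, QuasiIso
    (((MonoidalCategory.tensorRight M).mapHomologicalComplex (ComplexShape.up ℤ)).map v))

include haff hU hq in
/-- **the dimension of the fibre cohomology is the rank function of the Mumford complex**. -/
theorem fiberRank_eq_dRank (p : ℕ) (y : ↥(Spec (CommRingCat.of A))) :
    CohIII.fiberRank (X ↘ Spec (CommRingCat.of A)) F p y =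
      CohIII.dRank (flip L) (-(p : ℤ)) y := by
  let ψ : y.asIdeal.ResidueField →+* (Spec (CommRingCat.of A)).residueField y :=
    (Scheme.Spec.residueFieldIso (CommRingCat.of A) y).inv.hom
  letI algκ : Algebra A ((Spec (CommRingCat.of A)).residueField y) :=
    (ψ.comp (algebraMap A y.asIdeal.ResidueField)).toAlgebra
  have hmap : Spec.map (CommRingCat.ofHom
      (algebraMap A ((Spec (CommRingCat.of A)).residueField y))) =
      (Spec (CommRingCat.of A)).fromSpecResidueField y := by
    rw [← Scheme.Spec.map_residueFieldIso_inv_eq_fromSpecResidueField, ← Spec.map_comp]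
    rfl
  letI : ((X ↘ Spec (CommRingCat.of A)).fiber y).Over
      (Spec (CommRingCat.of ((Spec (CommRingCat.of A)).residueField y))) :=
    ⟨(X ↘ Spec (CommRingCat.of A)).fiberToSpecResidueField y⟩
  have sq : IsPullback ((X ↘ Spec (CommRingCat.of A)).fiberι y)
      (((X ↘ Spec (CommRingCat.of A)).fiber y) ↘
        Spec (CommRingCat.of ((Spec (CommRingCat.of A)).residueField y)))
      (X ↘ Spec (CommRingCat.of A))
      (Spec.map (CommRingCat.ofHom
        (algebraMap A ((Spec (CommRingCat.of A)).residueField y)))) := by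
    rw [hmap]
    exact IsPullback.of_hasPullback _ _
  have e := bcH A ((Spec (CommRingCat.of A)).residueField y)
    ((X ↘ Spec (CommRingCat.of A)).fiberι y) F U sq haff hU L v hq p
  have h1 : CohIII.fiberRank (X ↘ Spec (CommRingCat.of A)) F p y =
      Module.finrank ((Spec (CommRingCat.of A)).residueField y)
        ((CohIII.bcCx (algebraMap A ((Spec (CommRingCat.of A)).residueField y)) L).homology
          (p : ℤ)) := e.finrank_eq.symm
  rw [h1, ← (bcFlipHomologyIso (algebraMap A ((Spec (CommRingCat.of A)).residueField y)) L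
    (p : ℤ)).toLinearEquiv.finrank_eq]
  have h2 := (HomologicalComplex.homologyMapIso
    (Groth.Agent.H8.DRank.bcCxCompIso (algebraMap A y.asIdeal.ResidueField) ψ (flip L))
    (-(p : ℤ))).toLinearEquiv.finrank_eq
  have h3 := Groth.Agent.H8.DRank.finrank_homology_bc_field ψ
    (CohIII.bcCx (algebraMap A y.asIdeal.ResidueField) (flip L)) (-(p : ℤ))
  exact h2.symm.trans h3

end fiber

end Groth.Agent.H2.Mum
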