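import Groth.Agent.Lib.Helper8.TFunGenOpen
import Groth.Agent.Lib.Helper8.TFunRank
import Groth.Agent.Lib.Helper8.TFunBddFlat
import Groth.Agent.Lib.Helper8.TFunRestrict
import Groth.Agent.Lib.Helper8.DRankBC

/-!
# Algebra of the functors `T_p` for EGA III §7 (helper2)

Consequences of the vanishing of `dRank P q x` for a complex of finite flat modules.
-/

set_option autoImplicit false
set_option linter.style.haveILetI false
universe u

open CategoryTheory CategoryTheory.Limits TensorProduct

namespace Groth.Agent.H2.RpC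

open Groth.Agent.H8.TFun Groth.Agent.H8.DRank Groth.Agent.H8.ExtBridge

variable {A : Type u} [CommRing A] (P : ChainComplex (ModuleCat.{u} A) ℤ)

/-- finiteness of the terms of a base changed complex. -/
lemma finite_bcCx_X {B : Type u} [CommRing B] [Algebra A B] (i : ℤ) [Module.Finite A (P.X i)] :
    Module.Finite B ((CohIII.bcCx (algebraMap A B) P).X i) :=
  Module.Finite.equiv (extEquiv (B := B) (P.X i)).symm

/-- the base change of a complex of finite flat modules consists of finite flat modules. -/
lemma finite_flat_bcCx {B : Type u} [CommRing B] [Algebra A B]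
    (hP : ∀ i, Module.Finite A (P.X i) ∧ Module.Flat A (P.X i)) (i : ℤ) :
    Module.Finite B ((CohIII.bcCx (algebraMap A B) P).X i) ∧
      Module.Flat B ((CohIII.bcCx (algebraMap A B) P).X i) := by
  have := (hP i).1
  have := (hP i).2
  exact ⟨finite_bcCx_X P i, flat_bcCx_X P i⟩

/-- if `dRank P q x = 0` then the homology of the fibre complex at `x` vanishes. -/
lemma subsingleton_homology_fibre_of_dRank_eq_zero (hP : ∀ i, Module.Finite A (P.X i)) (q : ℤ)
    (x : PrimeSpectrum A) (h : CohIII.dRank P q x = 0) :
    Subsingleton ((CohIII.bcCx (algebraMap A x.asIdeal.ResidueField) P).homology q) := by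
  have := hP q
  have hfin : Module.Finite x.asIdeal.ResidueField
      ((CohIII.bcCx (algebraMap A x.asIdeal.ResidueField) P).X q) := finite_bcCx_X P q
  have : Module.Finite x.asIdeal.ResidueField
      ((CohIII.bcCx (algebraMap A x.asIdeal.ResidueField) P).homology q) :=
    finite_homology _ q
  exact Module.finrank_zero_iff.1 h


/-- if `dRank P q x = 0` then `T_q` of the complex localized at `x` vanishes identically. -/
theorem isZero_TFun_loc_of_dRank_eq_zero
    (hP : ∀ i, Module.Finite A (P.X i) ∧ Module.Flat A (P.X i)) (q : ℤ)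
    (x : PrimeSpectrum A) (h : CohIII.dRank P q x = 0)
    (M : ModuleCat.{u} (Localization.AtPrime x.asIdeal)) :
    IsZero ((CohIII.TFun
      (CohIII.bcCx (algebraMap A (Localization.AtPrime x.asIdeal)) P) q).obj M) := by
  refine isZero_TFun_obj_of_residue _ (finite_flat_bcCx P hP) q ?_ M
  have e1 := TObjIsoRestrict (A := Localization.AtPrime x.asIdeal)
    (B := IsLocalRing.ResidueField (Localization.AtPrime x.asIdeal))
    (CohIII.bcCx (algebraMap A (Localization.AtPrime x.asIdeal)) P) q
  have e2 := bcCxCompIso (algebraMap A (Localization.AtPrime x.asIdeal))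
    (algebraMap (Localization.AtPrime x.asIdeal)
      (IsLocalRing.ResidueField (Localization.AtPrime x.asIdeal))) P
  have e3 := (HomologicalComplex.homologyFunctor _ _ q).mapIso e2
  have hs := subsingleton_homology_fibre_of_dRank_eq_zero P (fun i => (hP i).1) q x h
  have hs' : Subsingleton ((CohIII.bcCx (algebraMap (Localization.AtPrime x.asIdeal)
      (IsLocalRing.ResidueField (Localization.AtPrime x.asIdeal)))
      (CohIII.bcCx (algebraMap A (Localization.AtPrime x.asIdeal)) P)).homology q) :=
    e3.toLinearEquiv.toEquiv.subsingleton_congr.2 hs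
  refine IsZero.of_iso ?_ e1
  exact @ModuleCat.isZero_of_subsingleton _ _ _ hs'


/-- if `dRank P q x = 0` then `x` lies in the exactness locus of `T_q`. -/
theorem mem_freeLocus_of_dRank_eq_zero
    (hP : ∀ i, Module.Finite A (P.X i) ∧ Module.Flat A (P.X i)) (q : ℤ)
    (x : PrimeSpectrum A) (h : CohIII.dRank P q x = 0) :
    x ∈ Module.freeLocus A (P.X q ⧸ LinearMap.range (P.d (q + 1) q).hom) ∩
      Module.freeLocus A (P.X (q - 1) ⧸ LinearMap.range (P.d q (q - 1)).hom) := by
  rw [← exactLocus_eq P hP q]
  have hz := isZero_TFun_loc_of_dRank_eq_zero P hP q x h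
  exact ⟨⟨fun {M' M} f _ => ⟨fun g h _ => (hz M').eq_of_tgt _ _⟩⟩,
    ⟨fun {M M''} f _ => ⟨fun g h _ => (hz M'').eq_of_src _ _⟩⟩⟩

lemma mem_freeLocus_of_dRank_eq_zero_left
    (hP : ∀ i, Module.Finite A (P.X i) ∧ Module.Flat A (P.X i)) (q : ℤ)
    (x : PrimeSpectrum A) (h : CohIII.dRank P q x = 0) (i : ℤ) (hi : q + 1 = i) :
    x ∈ Module.freeLocus A (P.X q ⧸ LinearMap.range (P.d i q).hom) := by
  subst hi
  exact (mem_freeLocus_of_dRank_eq_zero P hP q x h).1

lemma mem_freeLocus_of_dRank_eq_zero_right
    (hP : ∀ i, Module.Finite A (P.X i) ∧ Module.Flat A (P.X i)) (q : ℤ)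
    (x : PrimeSpectrum A) (h : CohIII.dRank P q x = 0) (j : ℤ) (hj : j + 1 = q) :
    x ∈ Module.freeLocus A (P.X j ⧸ LinearMap.range (P.d q j).hom) := by
  obtain rfl : j = q - 1 := by omega
  exact (mem_freeLocus_of_dRank_eq_zero P hP q x h).2

/-- if `d_{p-1}` and `d_{p+1}` vanish identically then `T_p` is exact. -/
theorem exact_of_dRank_eq_zero_adjacent [IsNoetherianRing A]
    (hP : ∀ i, Module.Finite A (P.X i) ∧ Module.Flat A (P.X i)) (p : ℤ)
    (h1 : ∀ x, CohIII.dRank P (p + 1) x = 0) (h2 : ∀ x, CohIII.dRank P (p - 1) x = 0) :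
    (CohIII.TFun P p).PreservesMonomorphisms ∧ (CohIII.TFun P p).PreservesEpimorphisms := by
  have hfl := fun i => (hP i).2
  have := fun i => (hP i).1
  have hW1 : Module.Flat A (P.X p ⧸ LinearMap.range (P.d (p + 1) p).hom) := by
    have : Module.FinitePresentation A (P.X p ⧸ LinearMap.range (P.d (p + 1) p).hom) :=
      Module.finitePresentation_of_finite A _
    have : Module.Projective A (P.X p ⧸ LinearMap.range (P.d (p + 1) p).hom) := by
      rw [← Module.freeLocus_eq_univ_iff, Set.eq_univ_iff_forall]
      exact fun x => mem_freeLocus_of_dRank_eq_zero_right P hP (p + 1) x (h1 x) p rfl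
    infer_instance
  have hW2 : Module.Flat A (P.X (p - 1) ⧸ LinearMap.range (P.d p (p - 1)).hom) := by
    have : Module.FinitePresentation A (P.X (p - 1) ⧸ LinearMap.range (P.d p (p - 1)).hom) :=
      Module.finitePresentation_of_finite A _
    have : Module.Projective A (P.X (p - 1) ⧸ LinearMap.range (P.d p (p - 1)).hom) := by
      rw [← Module.freeLocus_eq_univ_iff, Set.eq_univ_iff_forall]
      exact fun x => mem_freeLocus_of_dRank_eq_zero_left P hP (p - 1) x (h2 x) p (by ring)
    infer_instance
  exact ⟨(preservesMono_iff_flat P hfl (p + 1) p rfl).2 hW1,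
    (preservesEpi_iff_flat P hfl p (p - 1) (by ring)).2 hW2⟩

/-- if `T_p` is exact then `H_p(P)` is finite flat of rank `d_p`. -/
theorem flat_finite_rank_of_exact [IsNoetherianRing A]
    (hP : ∀ i, Module.Finite A (P.X i) ∧ Module.Flat A (P.X i)) (p : ℤ)
    (hex : (CohIII.TFun P p).PreservesMonomorphisms ∧ (CohIII.TFun P p).PreservesEpimorphisms) :
    Module.Flat A (P.homology p) ∧ Module.Finite A (P.homology p) ∧
      ∀ x : PrimeSpectrum A, Module.rankAtStalk (P.homology p) x = CohIII.dRank P p x := by
  have hfl := fun i => (hP i).2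
  have := fun i => (hP i).1
  have hH : Module.Flat A (P.homology p) := flat_homology_of_exact P hfl p hex
  have hF : Module.Finite A (P.homology p) := finite_homology P p
  refine ⟨hH, hF, fun x => ?_⟩
  have hW := (preservesEpi_iff_flat P hfl p (p - 1) (by ring)).1 hex.2
  have := hfl (p - 1)
  rw [dRank_eq_fibDim_homology P p (p - 1) (by ring) x]
  exact Module.rankAtStalk_eq (M := P.homology p) x


/-- if `dRank P q x = 0` then `H_q(P)` is killed by some element outside `x`. -/
theorem exists_annihilator_of_dRank_eq_zero [IsNoetherianRing A]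
    (hP : ∀ i, Module.Finite A (P.X i) ∧ Module.Flat A (P.X i)) (q : ℤ)
    (x : PrimeSpectrum A) (h : CohIII.dRank P q x = 0) :
    ∃ r : A, r ∉ x.asIdeal ∧ ∀ m : P.homology q, r • m = 0 := by
  have := fun i => (hP i).1
  have hF : Module.Finite A (P.homology q) := finite_homology P q
  have hz := isZero_TFun_loc_of_dRank_eq_zero P hP q x h
    (ModuleCat.of (Localization.AtPrime x.asIdeal) (Localization.AtPrime x.asIdeal))
  have hz2 : IsZero ((CohIII.bcCx (algebraMap A (Localization.AtPrime x.asIdeal)) P).homology q) :=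
    IsZero.of_iso hz (TObjUnitIso _ q).symm
  have hflat : (algebraMap A (Localization.AtPrime x.asIdeal)).Flat := by
    rw [RingHom.flat_algebraMap_iff]
    infer_instance
  have hz3 : IsZero ((ModuleCat.extendScalars (algebraMap A (Localization.AtPrime x.asIdeal))).obj
      (P.homology q)) :=
    IsZero.of_iso hz2 (homologyBcIsoOfFlat _ hflat P q).symm
  have hs : Subsingleton (Localization.AtPrime x.asIdeal ⊗[A] (P.homology q)) := by
    have := ModuleCat.subsingleton_of_isZero hz3
    exact (extEquiv (B := Localization.AtPrime x.asIdeal) (P.homology q)).symm.toEquiv.subsingleton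
  have hs2 : Subsingleton (LocalizedModule x.asIdeal.primeCompl (P.homology q)) :=
    (LocalizedModule.equivTensorProduct x.asIdeal.primeCompl (P.homology q)).toEquiv.subsingleton
  have hx : x ∉ Module.support A (P.homology q) := Module.notMem_support_iff.2 hs2
  rw [Module.mem_support_iff_of_finite, SetLike.not_le_iff_exists] at hx
  obtain ⟨r, hr, hrx⟩ := hx
  exact ⟨r, hrx, fun m => Module.mem_annihilator.1 hr m⟩

/-- for a bounded below complex of finite projective modules with flat homology, all `d_p` are
locally constant. -/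
theorem dRank_locallyConstant_of_flat_homology [IsNoetherianRing A]
    (hP : ∀ i, Module.Finite A (P.X i) ∧ Module.Projective A (P.X i)) (b : ℤ)
    (hb : ∀ i < b, IsZero (P.X i)) (hH : ∀ q, Module.Flat A (P.homology q)) (p : ℤ) :
    IsLocallyConstant (CohIII.dRank P p) := by
  have hfl : ∀ i, Module.Flat A (P.X i) := fun i => by
    have := (hP i).2
    infer_instance
  have hex := (exact_le_iff_flat_le P hfl b hb p).2 (fun q _ => by
    have := hH q
    exact Module.Flat.of_linearEquiv (TObjUnitIso P q).toLinearEquiv) p le_rfl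
  exact dRank_locallyConstant_of_exact P hP p hex.1 hex.2


/-- if `T_i = 0` for `i > 0` and `H_q(P) = 0` for `q < 0` (bounded below complex), then
`d_q = 0` for `q < 0` and `T_0` is exact. -/
theorem exact_zero_of_vanishing [IsNoetherianRing A]
    (hP : ∀ i, Module.Finite A (P.X i) ∧ Module.Flat A (P.X i)) (b : ℤ)
    (hb : ∀ i < b, IsZero (P.X i))
    (hT : ∀ M : ModuleCat.{u} A, IsZero ((CohIII.TFun P 1).obj M))
    (hH : ∀ q < 0, Subsingleton (P.homology q)) :
    (∀ q < 0, ∀ x, CohIII.dRank P q x = 0) ∧
      ((CohIII.TFun P 0).PreservesMonomorphisms ∧ (CohIII.TFun P 0).PreservesEpimorphisms) := by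
  have hfl := fun i => (hP i).2
  have hHfl : ∀ q ≤ (-1 : ℤ), Module.Flat A (P.homology q) := fun q hq => by
    have := hH q (by omega)
    infer_instance
  have key := flat_coker_of_flat_homology_le P hfl b hb (-1) hHfl
  have hW : ∀ i j : ℤ, j + 1 = i → j ≤ -1 →
      Module.Flat A (P.X j ⧸ LinearMap.range (P.d i j).hom) := fun i j hij hj =>
    key (j - b + 1).toNat i j hij (by omega) hj
  refine ⟨fun q hq x => ?_, ?_, ?_⟩
  · have := hfl (q - 1)
    have := hW q (q - 1) (by ring) (by omega)
    rw [dRank_eq_fibDim_homology P q (q - 1) (by ring) x]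
    have := hH q hq
    unfold fibDim
    exact Module.finrank_zero_of_subsingleton
  · refine preservesMono_of_preservesEpi P hfl 1 0 (by norm_num) ?_
    exact ⟨fun {M M''} f _ => ⟨fun g h _ => (hT M'').eq_of_src _ _⟩⟩
  · rw [preservesEpi_iff_flat P hfl 0 (-1) (by norm_num)]
    exact hW 0 (-1) (by norm_num) le_rfl


/-- if `T_q` vanishes on the residue field at `x` then `d_q(x) = 0`. -/
theorem dRank_eq_zero_of_isZero_TFun (q : ℤ) (x : PrimeSpectrum A)
    (hz : IsZero ((CohIII.TFun P q).obj (ModuleCat.of A x.asIdeal.ResidueField))) :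
    CohIII.dRank P q x = 0 := by
  have hz2 := IsZero.of_iso hz (TObjIsoRestrict (B := x.asIdeal.ResidueField) P q).symm
  have hs0 : Subsingleton ((ModuleCat.restrictScalars (algebraMap A x.asIdeal.ResidueField)).obj
      ((CohIII.bcCx (algebraMap A x.asIdeal.ResidueField) P).homology q)) :=
    ModuleCat.subsingleton_of_isZero hz2
  have hs : Subsingleton ((CohIII.bcCx (algebraMap A x.asIdeal.ResidueField) P).homology q) := hs0
  unfold CohIII.dRank
  exact Module.finrank_zero_of_subsingleton

end Groth.Agent.H2.RpC
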