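import Groth.Agent.Lib.Helper2.FormalTF3
import Groth.Agent.Lib.Helper2.MumS
import Groth.Agent.Lib.Helper2.MumR
import Groth.Agent.Lib.Helper2.RpC1
import Groth.Agent.Lib.Helper8.TFunLocal
import Groth.Agent.Lib.Lead.CohLES.Basic

/-!
# Surjectivity of `H^n(X, F) → H^n(X, F / m^(p+1) F)` over a local base (helper2)
-/

set_option autoImplicit false
set_option linter.style.haveILetI false
universe u

open CategoryTheory CategoryTheory.Limits AlgebraicGeometry Opposite TopologicalSpace TensorProduct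

namespace Groth.Agent.H2.FormalTF

open Groth.Agent.LD.QC Groth.Agent.H2.Mum Groth.Agent.H2.FormalQ Groth.Agent.H8.TFun

section alg

variable {A : Type u} [CommRing A] [IsLocalRing A] (P : ChainComplex (ModuleCat.{u} A) ℤ)

/-- the residue field of a local ring as the residue field of its closed point. -/
noncomputable def residueEquiv :
    IsLocalRing.ResidueField A ≃ₗ[A] (IsLocalRing.closedPoint A).asIdeal.ResidueField :=
  LinearEquiv.ofBijective
    ((Algebra.linearMap (A ⧸ IsLocalRing.maximalIdeal A)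
      (IsLocalRing.maximalIdeal A).ResidueField).restrictScalars A)
    (Ideal.bijective_algebraMap_quotient_residueField (IsLocalRing.maximalIdeal A))

/-- if `dRank P q` vanishes at the closed point then `T_q(k) = 0`. -/
theorem isZero_TFun_residue_of_dRank_eq_zero (hP : ∀ i, Module.Finite A (P.X i)) (q : ℤ)
    (h : CohIII.dRank P q (IsLocalRing.closedPoint A) = 0) :
    IsZero ((CohIII.TFun P q).obj (ModuleCat.of A (IsLocalRing.ResidueField A))) := by
  have hs := Groth.Agent.H2.RpC.subsingleton_homology_fibre_of_dRank_eq_zero P hP q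
    (IsLocalRing.closedPoint A) h
  have e1 := TObjIsoRestrict (A := A) (B := (IsLocalRing.closedPoint A).asIdeal.ResidueField) P q
  have hz : IsZero ((CohIII.TFun P q).obj
      (ModuleCat.of A (IsLocalRing.closedPoint A).asIdeal.ResidueField)) := by
    refine IsZero.of_iso ?_ e1
    exact @ModuleCat.isZero_of_subsingleton _ _ _ hs
  exact IsZero.of_iso hz ((CohIII.TFun P q).mapIso (residueEquiv (A := A)).toModuleIso)

end alg

end Groth.Agent.H2.FormalTF

namespace Groth.Agent.H2.FormalTF

open Groth.Agent.LD.QC Groth.Agent.H2.Mum Groth.Agent.H2.FormalQ Groth.Agent.H8.TFun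

/-- bijectivity of the map induced on cohomology by an isomorphism. -/
lemma bijective_HHmap_of_iso (A : Type u) [CommRing A] {X : Scheme.{u}}
    [X.Over (Spec (CommRingCat.of A))] {M N : X.Modules} (e : M ≅ N) (n : ℕ) :
    Function.Bijective (Groth.Agent.LD.CL.HHmap A e.hom n) := by
  have h1 : (Groth.Agent.LD.CL.HHmap A e.inv n).comp (Groth.Agent.LD.CL.HHmap A e.hom n) =
      LinearMap.id := by
    rw [← Groth.Agent.LD.CL.HHmap_comp, e.hom_inv_id, Groth.Agent.LD.CL.HHmap_id]
  have h2 : (Groth.Agent.LD.CL.HHmap A e.hom n).comp (Groth.Agent.LD.CL.HHmap A e.inv n) =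
      LinearMap.id := by
    rw [← Groth.Agent.LD.CL.HHmap_comp, e.inv_hom_id, Groth.Agent.LD.CL.HHmap_id]
  exact ⟨Function.LeftInverse.injective (g := Groth.Agent.LD.CL.HHmap A e.inv n)
      (fun x => LinearMap.congr_fun h1 x),
    Function.RightInverse.surjective (g := Groth.Agent.LD.CL.HHmap A e.inv n)
      (fun x => LinearMap.congr_fun h2 x)⟩

/-- **EGA III 7.5.x**: over a Noetherian local base, if `H^(n+1)` of the closed fibre vanishes then
`H^n(X, F) → H^n(X, F / m^(p+1) F)` is surjective. -/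
theorem surjective_toHHmodPow (A : Type u) [CommRing A] [IsNoetherianRing A]
    [IsLocalRing A] (X : Scheme.{u}) [X.Over (Spec (CommRingCat.of A))]
    [IsProper (X ↘ Spec (CommRingCat.of A))] (F : X.Modules) (hF : Coh.IsCoh F)
    (hfl : FlatMod.IsFlatOver (X ↘ Spec (CommRingCat.of A)) F) (n : ℕ)
    (hvan : Subsingleton (CohIII.fiberH (X ↘ Spec (CommRingCat.of A)) F
      (IsLocalRing.closedPoint A) (n + 1)))
    (J : Ideal A) (p : ℕ) :
    Function.Surjective (Formal.toHHmodPow J F n p) := by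
  obtain ⟨ι, hfin, U, haff, hU, L, v, hL, hb, hq⟩ :=
    Groth.Agent.H2.Mum.exists_resolution A X F hF hfl
  haveI := hfin
  haveI : F.IsQuasicoherent := hF.1
  have hP := flip_finite_flat L hL
  have hfl' : ∀ i, Module.Flat A ((flip L).X i) := fun i => (hP i).2
  have hrank := fiberRank_eq_dRank A F U haff hU L v hq (n + 1) (IsLocalRing.closedPoint A)
  have h0 : CohIII.dRank (flip L) (-((n + 1 : ℕ) : ℤ)) (IsLocalRing.closedPoint A) = 0 := by
    rw [← hrank]
    exact Module.finrank_zero_of_subsingleton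
  have hk := isZero_TFun_residue_of_dRank_eq_zero (flip L) (fun i => (hP i).1) _ h0
  have hz := isZero_TFun_obj_of_residue (flip L) hP _ hk
  have hm : (CohIII.TFun (flip L) (-((n + 1 : ℕ) : ℤ))).PreservesMonomorphisms :=
    ⟨fun {M' M} f _ => ⟨fun g h _ => (hz M').eq_of_tgt _ _⟩⟩
  have he : (CohIII.TFun (flip L) (-(n : ℤ))).PreservesEpimorphisms :=
    (preservesEpi_iff_preservesMono (flip L) hfl' (-(n : ℤ)) (-((n + 1 : ℕ) : ℤ))
      (by push_cast; ring)).2 hm
  have he' : (CohIII.tensorAFunctor A F ⋙ CohIII.HAb X n).PreservesEpimorphisms :=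
    (preservesEpi_iff (flipNatIso L (n : ℤ) (natIso A U F haff hU L v hq n))).2 he
  -- the key surjectivity
  let π : ModuleCat.of A A ⟶ ModuleCat.of A (A ⧸ J ^ (p + 1)) :=
    ModuleCat.ofHom (Submodule.mkQ (J ^ (p + 1)))
  haveI : Epi π := (ModuleCat.epi_iff_surjective _).2 (Submodule.mkQ_surjective _)
  have hepi : Epi ((CohIII.tensorAFunctor A F ⋙ CohIII.HAb X n).map π) := he'.preserves π
  have hsurj : Function.Surjective
      (Sheaf.H.map ((SheafOfModules.toSheaf X.ringCatSheaf).map (TFmap A F π)) n) := by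
    have h1 := (AddCommGrpCat.epi_iff_surjective _).1 hepi
    have h2 : (CohIII.tensorAFunctor A F).map π = TFmap A F π := KoszTw.tensorRightMod_map _ _
    intro y
    obtain ⟨x, hx⟩ := h1 y
    refine ⟨x, ?_⟩
    rw [← h2]
    exact hx
  -- transport along `F ≅ F ⊗ A` and `F / J^(p+1) F ≅ F ⊗ A / J^(p+1)`
  have hQ := isQ_q A F (J ^ (p + 1))
  let e := isoOfIsQ J (p + 1) (q A F (J ^ (p + 1))) hQ
  have hcomp : Formal.modPowπ J (p + 1) F ≫ e.hom = u A F ≫ TFmap A F π :=
    (modPowπ_isoOfIsQ_hom J (p + 1) _ hQ).trans (u_comp_TFmap A F (J ^ (p + 1))).symm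
  have hπ : Formal.modPowπ J (p + 1) F = (u A F ≫ TFmap A F π) ≫ e.inv := by
    rw [← hcomp, Category.assoc, e.hom_inv_id, Category.comp_id]
  have hfun : (Formal.toHHmodPow J F n p : _ → _) =
      ((Groth.Agent.LD.CL.HHmap A e.inv n).comp
        ((Groth.Agent.LD.CL.HHmap A (TFmap A F π) n).comp
          (Groth.Agent.LD.CL.HHmap A (asIso (u A F)).hom n)) : _ → _) := by
    have : Groth.Agent.LD.CL.HHmap A (Formal.modPowπ J (p + 1) F) n =
        (Groth.Agent.LD.CL.HHmap A e.inv n).comp
          ((Groth.Agent.LD.CL.HHmap A (TFmap A F π) n).comp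
            (Groth.Agent.LD.CL.HHmap A (asIso (u A F)).hom n)) := by
      rw [hπ, Groth.Agent.LD.CL.HHmap_comp, Groth.Agent.LD.CL.HHmap_comp]
      rfl
    funext x
    exact LinearMap.congr_fun this x
  rw [hfun]
  exact ((bijective_HHmap_of_iso A e.symm n).2.comp hsurj).comp
    (bijective_HHmap_of_iso A (asIso (u A F)) n).2

end Groth.Agent.H2.FormalTF
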