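import Groth.Agent.Lib.Helper2.CohPushH1

/-!
# Ideal transforms of fractional ideals of a Noetherian domain, concretely (helper2)

For a domain `R` with fraction field `K`, an ideal `J` and an `R`-submodule `T ≤ K`:
`colon T J = {x ∈ K | J x ⊆ T}`.  We compare the union of the `colon T (J^n)` with the abstract
ideal transform `LocCoh.DT J T`.
-/

set_option autoImplicit false
set_option linter.style.haveILetI false
set_option linter.unusedSectionVars false
universe u

namespace Groth.Agent.H2.FracTrans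

open Groth.Agent.H6 LocCoh

variable {R : Type u} [CommRing R] {K : Type u} [Field K] [Algebra R K]

/-- `{x ∈ K | J x ⊆ T}` -/
def colon (T : Submodule R K) (J : Ideal R) : Submodule R K where
  carrier := {x | ∀ c ∈ J, c • x ∈ T}
  add_mem' := by
    intro x y hx hy c hc
    rw [smul_add]
    exact T.add_mem (hx c hc) (hy c hc)
  zero_mem' := by
    intro c _
    rw [smul_zero]
    exact T.zero_mem
  smul_mem' := by
    intro r x hx c hc
    rw [smul_comm]
    exact T.smul_mem r (hx c hc)

theorem mem_colon {T : Submodule R K} {J : Ideal R} {x : K} :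
    x ∈ colon T J ↔ ∀ c ∈ J, c • x ∈ T := Iff.rfl

theorem colon_anti (T : Submodule R K) {J J' : Ideal R} (h : J ≤ J') : colon T J' ≤ colon T J :=
  fun _ hx c hc => hx c (h hc)

theorem colon_mono {T T' : Submodule R K} (h : T ≤ T') (J : Ideal R) : colon T J ≤ colon T' J :=
  fun _ hx c hc => h (hx c hc)

theorem le_colon (T : Submodule R K) (J : Ideal R) : T ≤ colon T J :=
  fun _ hx c _ => T.smul_mem c hx

theorem mem_colon_mul {T : Submodule R K} {J J' : Ideal R} {x : K} :
    x ∈ colon T (J * J') ↔ ∀ a ∈ J, a • x ∈ colon T J' := by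
  constructor
  · intro hx a ha c hc
    rw [← mul_smul]
    exact hx _ (by rw [mul_comm c a]; exact Ideal.mul_mem_mul ha hc)
  · intro h c hc
    refine Submodule.mul_induction_on hc ?_ ?_
    · intro a ha b hb
      rw [mul_comm, mul_smul]
      exact h a ha b hb
    · intro y z hy hz
      rw [add_smul]
      exact T.add_mem hy hz

theorem mem_colon_pow_succ {T : Submodule R K} {J : Ideal R} {n : ℕ} {x : K} :
    x ∈ colon T (J ^ (n + 1)) ↔ ∀ a ∈ J, a • x ∈ colon T (J ^ n) := by
  rw [pow_succ', mem_colon_mul]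

theorem colon_pow_mono (T : Submodule R K) (J : Ideal R) {n m : ℕ} (h : n ≤ m) :
    colon T (J ^ n) ≤ colon T (J ^ m) :=
  colon_anti T (Ideal.pow_le_pow_right h)

variable [IsDomain R] [IsFractionRing R K]

theorem smul_eq_zero_iff' {d : R} (hd : d ≠ 0) {x : K} : d • x = 0 ↔ x = 0 := by
  rw [Algebra.smul_def, mul_eq_zero]
  constructor
  · rintro (h | h)
    · exact absurd ((IsFractionRing.injective R K) (by rw [h, map_zero])) hd
    · exact h
  · exact Or.inr

theorem smul_left_cancel' {d : R} (hd : d ≠ 0) {x y : K} (h : d • x = d • y) : x = y := by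
  have : d • (x - y) = 0 := by rw [smul_sub, h, sub_self]
  exact sub_eq_zero.mp ((smul_eq_zero_iff' hd).mp this)

theorem exists_ne_zero_mem_pow {J : Ideal R} (hJ : J ≠ ⊥) (n : ℕ) : ∃ d ∈ J ^ n, d ≠ 0 :=
  Submodule.exists_mem_ne_zero_of_ne_bot (pow_ne_zero n hJ)

variable [IsNoetherianRing R]

/-- if `T` is finitely generated and `J ≠ 0`, then `colon T J` is finitely generated -/
theorem colon_fg {T : Submodule R K} (hT : T.FG) {J : Ideal R} (hJ : J ≠ ⊥) : (colon T J).FG := by
  obtain ⟨d, hdJ, hd⟩ := Submodule.exists_mem_ne_zero_of_ne_bot hJ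
  haveI : IsNoetherian R T := isNoetherian_of_fg_of_noetherian T hT
  let f : colon T J →ₗ[R] T :=
    { toFun := fun x => ⟨d • x.1, x.2 d hdJ⟩
      map_add' := fun x y => Subtype.ext (smul_add d x.1 y.1)
      map_smul' := fun r x => Subtype.ext (smul_comm d r x.1) }
  have hf : Function.Injective f := by
    intro x y hxy
    apply Subtype.ext
    exact smul_left_cancel' hd (congrArg Subtype.val hxy)
  haveI : Module.Finite R (colon T J) := Module.Finite.of_injective f hf
  exact (Module.Finite.iff_fg (N := colon T J)).mp inferInstance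

/-- **link (i)**: if the abstract ideal transform `D_J(T)` is a finite module, the concrete
transform `⋃ₙ (T : Jⁿ)` is reached at a finite stage -/
theorem exists_bound_of_finite_DT {J : Ideal R} (hJ : J ≠ ⊥) (T : Submodule R K)
    [Module.Finite R (DT J T)] :
    ∃ j0 : ℕ, ∀ (j : ℕ) (x : K), x ∈ colon T (J ^ j) → x ∈ colon T (J ^ j0) := by
  classical
  obtain ⟨G, hG⟩ := (Module.Finite.fg_top : (⊤ : Submodule R (DT J T)).FG)
  -- all generators come from a common stage
  have hstage : ∀ g : DT J T, ∃ n, g ∈ LinearMap.range (DT.ι J T n) := by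
    intro g
    obtain ⟨n, f, rfl⟩ := DT.ι_surj g
    exact ⟨n, f, rfl⟩
  have hmono : ∀ {n m : ℕ}, n ≤ m →
      LinearMap.range (DT.ι J T n) ≤ LinearMap.range (DT.ι J T m) := by
    rintro n m h _ ⟨f, rfl⟩
    exact ⟨_, DT.ι_restrict h f⟩
  choose stage hst using hstage
  let j0 := G.sup stage
  have htop : LinearMap.range (DT.ι J T j0) = ⊤ := by
    rw [eq_top_iff, ← hG, Submodule.span_le]
    intro g hg
    exact hmono (Finset.le_sup (f := stage) hg) (hst g)
  refine ⟨j0, fun j x hx => ?_⟩
  -- enlarge `j`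
  have hx' : x ∈ colon T (J ^ (j + j0)) := colon_pow_mono T J (Nat.le_add_right j j0) hx
  let fx : ↥(J ^ (j + j0)) →ₗ[R] T :=
    { toFun := fun c => ⟨(c : R) • x, hx' c c.2⟩
      map_add' := fun a b => Subtype.ext (add_smul (a : R) (b : R) x)
      map_smul' := fun r a => Subtype.ext (by
        change ((r • (a : R)) : R) • x = r • ((a : R) • x)
        rw [smul_eq_mul, mul_smul]) }
  obtain ⟨g, hg⟩ : DT.ι J T (j + j0) fx ∈ LinearMap.range (DT.ι J T j0) := by rw [htop]; trivial
  obtain ⟨k, hk1, hk2, hk⟩ := (DT.ι_eq_iff g fx).mp hg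
  -- on `J^k`, `g c = c • x`
  have hgx : ∀ (c : R) (hc : c ∈ J ^ k),
      ((g ⟨c, Ideal.pow_le_pow_right hk1 hc⟩ : T) : K) = c • x := by
    intro c hc
    have := LinearMap.congr_fun hk ⟨c, hc⟩
    exact congrArg Subtype.val this
  obtain ⟨d, hdk, hd⟩ := exists_ne_zero_mem_pow hJ k
  intro c hc
  have hcd : c * d ∈ J ^ j0 := Ideal.mul_mem_left _ c (Ideal.pow_le_pow_right hk1 hdk)
  have h1 : (g ⟨c * d, hcd⟩ : T) = c • g ⟨d, Ideal.pow_le_pow_right hk1 hdk⟩ := by
    rw [← map_smul]
    rfl
  have hdc : d * c ∈ J ^ j0 := Ideal.mul_mem_left _ d hc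
  have h2 : (g ⟨d * c, hdc⟩ : T) = d • g ⟨c, hc⟩ := by
    rw [← map_smul]
    rfl
  have h3 : (g ⟨c * d, hcd⟩ : T) = g ⟨d * c, hdc⟩ := by
    congr 1
    exact Subtype.ext (mul_comm c d)
  have h4 : d • ((g ⟨c, hc⟩ : T) : K) = d • (c • x) := by
    have := congrArg (fun z : T => (z : K)) (h2.symm.trans (h3.symm.trans h1))
    simp only [Submodule.coe_smul] at this
    rw [this, hgx d hdk, smul_comm]
  rw [← smul_left_cancel' hd h4]
  exact (g ⟨c, hc⟩).2

end Groth.Agent.H2.FracTrans
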