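import Groth.Agent.Lib.Helper2.FracTransA

/-!
# The chain `(R : Iⁿ)` of fractional ideals and the ideals `𝔟ₙ = (Tₙ : Tₙ₊₁)` (helper2)
-/

set_option autoImplicit false
set_option linter.style.haveILetI false
set_option linter.unusedSectionVars false
universe u

namespace Groth.Agent.H2.FracTrans

open Groth.Agent.H6 LocCoh

variable {R : Type u} [CommRing R] (K : Type u) [Field K] [Algebra R K]

/-- the image of `R` in `K` -/
def one (R : Type u) [CommRing R] (K : Type u) [Field K] [Algebra R K] : Submodule R K :=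
  LinearMap.range (Algebra.linearMap R K)

theorem one_fg : (one R K).FG := by
  unfold one
  rw [LinearMap.range_eq_map]
  exact Submodule.FG.map _ (Module.Finite.fg_top)

/-- `Tₙ = (R : Iⁿ)` -/
def Tn (I : Ideal R) (n : ℕ) : Submodule R K := colon (one R K) (I ^ n)

/-- `𝔟ₙ = (Tₙ : Tₙ₊₁)` -/
def bIdeal (I : Ideal R) (n : ℕ) : Ideal R where
  carrier := {s | ∀ x ∈ Tn K I (n + 1), s • x ∈ Tn K I n}
  add_mem' := by
    intro a b ha hb x hx
    rw [add_smul]
    exact (Tn K I n).add_mem (ha x hx) (hb x hx)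
  zero_mem' := by
    intro x _
    rw [zero_smul]
    exact (Tn K I n).zero_mem
  smul_mem' := by
    intro r a ha x hx
    rw [smul_eq_mul, mul_smul]
    exact (Tn K I n).smul_mem r (ha x hx)

variable {K}

theorem mem_bIdeal {I : Ideal R} {n : ℕ} {s : R} :
    s ∈ bIdeal K I n ↔ ∀ x ∈ Tn K I (n + 1), s • x ∈ Tn K I n := Iff.rfl

theorem Tn_mono (I : Ideal R) {n m : ℕ} (h : n ≤ m) : Tn K I n ≤ Tn K I m :=
  colon_pow_mono _ I h

theorem le_bIdeal (I : Ideal R) (n : ℕ) : I ≤ bIdeal K I n := by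
  intro a ha x hx
  exact mem_colon_pow_succ.mp hx a ha

theorem bIdeal_le_succ (I : Ideal R) (n : ℕ) : bIdeal K I n ≤ bIdeal K I (n + 1) := by
  intro s hs x hx
  change s • x ∈ colon (one R K) (I ^ (n + 1))
  rw [mem_colon_pow_succ]
  intro a ha
  rw [smul_comm]
  exact hs _ (mem_colon_pow_succ.mp hx a ha)

theorem bIdeal_mono (I : Ideal R) : Monotone (bIdeal K I) :=
  monotone_nat_of_le_succ (bIdeal_le_succ I)

theorem exists_bIdeal_stab [IsNoetherianRing R] (I : Ideal R) :
    ∃ N, ∀ n, N ≤ n → bIdeal K I N = bIdeal K I n :=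
  monotone_stabilizes_iff_noetherian.mpr inferInstance ⟨bIdeal K I, bIdeal_mono I⟩

theorem Tn_le_of_top (I : Ideal R) (N : ℕ) (h : ∀ n, N ≤ n → bIdeal K I n = ⊤) (m : ℕ) :
    Tn K I m ≤ Tn K I N := by
  rcases le_total m N with hm | hm
  · exact Tn_mono I hm
  · obtain ⟨e, rfl⟩ := Nat.exists_eq_add_of_le hm
    induction e with
    | zero => exact le_rfl
    | succ e ih =>
      refine le_trans ?_ (ih (Nat.le_add_right N e))
      intro x hx
      have h1 : (1 : R) ∈ bIdeal K I (N + e) := by rw [h _ (Nat.le_add_right N e)]; trivial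
      have := h1 x hx
      rwa [one_smul] at this

theorem pow_smul_mem (I : Ideal R) (N : ℕ) (b : Ideal R) (h : ∀ n, N ≤ n → bIdeal K I n = b) :
    ∀ (e : ℕ) (s : R), s ∈ b ^ e → ∀ x ∈ Tn K I (N + e), s • x ∈ Tn K I N := by
  intro e
  induction e with
  | zero =>
    intro s _ x hx
    exact (Tn K I N).smul_mem s hx
  | succ e ih =>
    intro s hs x hx
    rw [pow_succ] at hs
    refine Submodule.mul_induction_on hs ?_ ?_
    · intro a ha c hc
      rw [mul_smul]
      apply ih a ha
      rw [← h (N + e) (Nat.le_add_right N e)] at hc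
      exact hc x hx
    · intro y z hy hz
      rw [add_smul]
      exact (Tn K I N).add_mem hy hz

variable [IsDomain R] [IsFractionRing R K] [IsNoetherianRing R]

theorem Tn_fg {I : Ideal R} (hI : I ≠ ⊥) (n : ℕ) : (Tn K I n).FG :=
  colon_fg (one_fg K) (pow_ne_zero n hI)

/-- **link (ii)**: if the concrete transform is reached at stage `n`, then `D_I(R)` is finite -/
theorem finite_DT_of_bound {I : Ideal R} (hI : I ≠ ⊥) (n : ℕ)
    (h : ∀ m : ℕ, Tn K I m ≤ Tn K I n) : Module.Finite R (DT I R) := by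
  have hinj : Function.Injective (Algebra.linearMap R K) := IsFractionRing.injective R K
  let eR := LinearEquiv.ofInjective (Algebra.linearMap R K) hinj
  have heR : ∀ y : LinearMap.range (Algebra.linearMap R K),
      algebraMap R K (eR.symm y) = (y : K) := by
    intro y
    have := eR.apply_symm_apply y
    exact congrArg Subtype.val this
  have htop : LinearMap.range (DT.ι I R n) = ⊤ := by
    rw [eq_top_iff]
    intro y _
    obtain ⟨m0, f0, rfl⟩ := DT.ι_surj y
    have hm0 : m0 ≤ m0 + n := Nat.le_add_right m0 n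
    rw [← DT.ι_restrict hm0 f0]
    set m := m0 + n with hm
    set f : ↥(I ^ m) →ₗ[R] R :=
      f0 ∘ₗ Submodule.inclusion (Ideal.pow_le_pow_right hm0) with hf
    obtain ⟨c0, hc0m, hc0⟩ := exists_ne_zero_mem_pow hI m
    have hc0K : algebraMap R K c0 ≠ 0 := fun h0 => hc0 (hinj (by
      change algebraMap R K c0 = algebraMap R K 0
      rw [h0, map_zero]))
    set x : K := algebraMap R K (f ⟨c0, hc0m⟩) / algebraMap R K c0 with hx
    have key : ∀ (c : R) (hc : c ∈ I ^ m), c • x = algebraMap R K (f ⟨c, hc⟩) := by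
      intro c hc
      have h1 : c0 * f ⟨c, hc⟩ = c * f ⟨c0, hc0m⟩ := by
        have e1 : f (c0 • ⟨c, hc⟩) = c0 * f ⟨c, hc⟩ := by rw [map_smul, smul_eq_mul]
        have e2 : f (c • ⟨c0, hc0m⟩) = c * f ⟨c0, hc0m⟩ := by rw [map_smul, smul_eq_mul]
        rw [← e1, ← e2]
        congr 1
        exact Subtype.ext (mul_comm c0 c)
      have h2 := congrArg (algebraMap R K) h1
      rw [map_mul, map_mul] at h2
      rw [Algebra.smul_def, hx]
      field_simp
      exact h2.symm
    have hxm : x ∈ Tn K I m := fun c hc => ⟨f ⟨c, hc⟩, (key c hc).symm⟩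
    have hxn : x ∈ Tn K I n := h m hxm
    let g0 : ↥(I ^ n) →ₗ[R] K := (LinearMap.toSpanSingleton R K x) ∘ₗ (Submodule.subtype (I ^ n))
    have hg0 : ∀ c, g0 c ∈ LinearMap.range (Algebra.linearMap R K) := fun c => hxn c c.2
    let g : ↥(I ^ n) →ₗ[R] R :=
      eR.symm.toLinearMap ∘ₗ LinearMap.codRestrict (LinearMap.range (Algebra.linearMap R K)) g0 hg0
    have hg : ∀ c : ↥(I ^ n), algebraMap R K (g c) = (c : R) • x := by
      intro c
      change algebraMap R K (eR.symm _) = _
      rw [heR]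
      rfl
    have hnm : n ≤ m := Nat.le_add_left n m0
    refine ⟨g, ?_⟩
    rw [← DT.ι_restrict hnm g]
    congr 1
    ext c
    apply hinj
    change algebraMap R K (g ⟨c.1, _⟩) = algebraMap R K (f c)
    rw [hg, ← key c.1 c.2]
  haveI : Module.Finite R (↥(I ^ n) →ₗ[R] R) := Module.IsNoetherian.finite R _
  exact Module.Finite.of_surjective (DT.ι I R n) (LinearMap.range_eq_top.mp htop)

end Groth.Agent.H2.FracTrans
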