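import Groth.Agent.Lib.Helper2.FracTransB

/-!
# The local step: at a generic point of the bad locus (helper2)
-/

set_option autoImplicit false
set_option linter.style.haveILetI false
set_option linter.unusedSectionVars false
universe u

namespace Groth.Agent.H2.FracTrans

open Groth.Agent.H6 LocCoh IsLocalRing

/-- a monotone chain of submodules below a finitely generated submodule stabilizes -/
theorem chain_stab {R M : Type*} [CommRing R] [IsNoetherianRing R] [AddCommGroup M] [Module R M]
    (B : Submodule R M) (hB : B.FG) (S : ℕ →o Submodule R M) (hS : ∀ m, S m ≤ B) :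
    ∃ n, ∀ m, n ≤ m → S n = S m := by
  haveI : IsNoetherian R B := isNoetherian_of_fg_of_noetherian B hB
  let S' : ℕ →o Submodule R B :=
    ⟨fun m => (S m).comap B.subtype, fun a b hab => Submodule.comap_mono (S.monotone hab)⟩
  obtain ⟨n, hn⟩ := monotone_stabilizes_iff_noetherian.mpr ‹IsNoetherian R B› S'
  refine ⟨n, fun m hm => ?_⟩
  have h1 : (S n).comap B.subtype = (S m).comap B.subtype := hn m hm
  have h2 := congrArg (Submodule.map B.subtype) h1
  rw [Submodule.map_comap_subtype, Submodule.map_comap_subtype, inf_eq_right.mpr (hS n),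
    inf_eq_right.mpr (hS m)] at h2
  exact h2

variable {A : Type u} [CommRing A] [IsDomain A] [IsNoetherianRing A]
  {K : Type u} [Field K] [Algebra A K] [IsFractionRing A K]
  (q : Ideal A) [q.IsPrime] (R : Type u) [CommRing R] [Algebra A R] [IsLocalization.AtPrime R q]
  [Algebra R K] [IsScalarTower A R K]

/-- the `R`-span of `Tₘ` -/
def Sp (I : Ideal A) (m : ℕ) : Submodule R K := Submodule.span R (Tn K I m : Set K)

theorem Sp_mono (I : Ideal A) {n m : ℕ} (h : n ≤ m) : Sp R I n ≤ Sp (K := K) R I m :=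
  Submodule.span_mono (Tn_mono I h)

theorem Sp_fg {I : Ideal A} (hI : I ≠ ⊥) (m : ℕ) : (Sp (K := K) R I m).FG := by
  obtain ⟨G, hG⟩ := Tn_fg (K := K) hI m
  refine ⟨G, ?_⟩
  unfold Sp
  rw [← hG, Submodule.span_span_of_tower]

include q in
/-- clearing denominators -/
theorem exists_smul_mem_Tn (I : Ideal A) (m : ℕ) (x : K) (hx : x ∈ Sp R I m) :
    ∃ s : A, s ∉ q ∧ s • x ∈ Tn K I m := by
  unfold Sp at hx
  induction hx using Submodule.span_induction with
  | mem y hy => exact ⟨1, fun h => (Ideal.IsPrime.ne_top inferInstance)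
      ((Ideal.eq_top_iff_one q).mpr h), by rw [one_smul]; exact hy⟩
  | zero => exact ⟨1, fun h => (Ideal.IsPrime.ne_top inferInstance)
      ((Ideal.eq_top_iff_one q).mpr h), by rw [smul_zero]; exact zero_mem _⟩
  | add y z _ _ hy hz =>
    obtain ⟨s1, hs1, h1⟩ := hy
    obtain ⟨s2, hs2, h2⟩ := hz
    refine ⟨s1 * s2, fun h => (Ideal.IsPrime.mem_or_mem inferInstance h).elim hs1 hs2, ?_⟩
    rw [smul_add]
    refine add_mem ?_ ?_
    · rw [mul_comm, mul_smul]
      exact (Tn K I m).smul_mem s2 h1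
    · rw [mul_smul]
      exact (Tn K I m).smul_mem s1 h2
  | smul r y _ hy =>
    obtain ⟨s, hs, h1⟩ := hy
    obtain ⟨a, t, rfl⟩ := IsLocalization.exists_mk'_eq q.primeCompl r
    refine ⟨t * s, fun h => (Ideal.IsPrime.mem_or_mem inferInstance h).elim t.2 hs, ?_⟩
    have e1 : ((t : A) * s) • (IsLocalization.mk' R a t • y) = a • (s • y) := by
      rw [mul_comm, mul_smul, ← IsScalarTower.algebraMap_smul R (t : A), ← mul_smul,
        mul_comm, IsLocalization.mk'_spec, IsScalarTower.algebraMap_smul, smul_comm]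
    rw [e1]
    exact (Tn K I m).smul_mem a h1

include q in
theorem exists_notMem_bIdeal {I : Ideal A} (hI : I ≠ ⊥) (m : ℕ)
    (h : Sp (K := K) R I (m + 1) ≤ Sp R I m) : ∃ s : A, s ∉ q ∧ s ∈ bIdeal K I m := by
  classical
  obtain ⟨G, hG⟩ := Tn_fg (K := K) hI (m + 1)
  have hGmem : ∀ g ∈ G, g ∈ Tn K I (m + 1) := fun g hg => by
    rw [← hG]; exact Submodule.subset_span hg
  have key : ∀ g : K, ∃ s : A, g ∈ G → s ∉ q ∧ s • g ∈ Tn K I m := by
    intro g
    by_cases hg : g ∈ G
    · obtain ⟨s, hs, h1⟩ := exists_smul_mem_Tn q R I m g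
        (h (Submodule.subset_span (hGmem g hg)))
      exact ⟨s, fun _ => ⟨hs, h1⟩⟩
    · exact ⟨0, fun h' => absurd h' hg⟩
  choose s hs using key
  refine ⟨∏ g ∈ G, s g, ?_, ?_⟩
  · intro hmem
    rw [Ideal.IsPrime.prod_mem_iff] at hmem
    obtain ⟨g, hg, hgq⟩ := hmem
    exact (hs g hg).1 hgq
  · intro x hx
    rw [← hG] at hx
    induction hx using Submodule.span_induction with
    | mem g hg =>
      obtain ⟨k, hk⟩ := Finset.dvd_prod_of_mem s hg
      rw [hk, mul_comm, mul_smul]
      exact (Tn K I m).smul_mem k (hs g hg).2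
    | zero => rw [smul_zero]; exact zero_mem _
    | add y z _ _ hy hz => rw [smul_add]; exact add_mem hy hz
    | smul a y _ hy => rw [smul_comm]; exact (Tn K I m).smul_mem a hy

/-- `(𝔟R)ᵉ · R T_{N+e} ⊆ R T_N` -/
theorem map_pow_smul_mem (I : Ideal A) (N : ℕ) (b : Ideal A)
    (h : ∀ n, N ≤ n → bIdeal K I n = b) (e : ℕ) (c : R)
    (hc : c ∈ (b.map (algebraMap A R)) ^ e) (x : K) (hx : x ∈ Sp R I (N + e)) :
    c • x ∈ Sp R I N := by
  rw [← Ideal.map_pow] at hc
  unfold Ideal.map at hc
  induction hc using Submodule.span_induction with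
  | mem c hc =>
    obtain ⟨s, hs, rfl⟩ := hc
    unfold Sp at hx
    induction hx using Submodule.span_induction with
    | mem y hy =>
      rw [IsScalarTower.algebraMap_smul]
      exact Submodule.subset_span (pow_smul_mem I N b h e s hs y hy)
    | zero => rw [smul_zero]; exact zero_mem _
    | add y z _ _ hy hz => rw [smul_add]; exact add_mem hy hz
    | smul r y _ hy => rw [smul_comm]; exact Submodule.smul_mem _ r hy
  | zero => rw [zero_smul]; exact zero_mem _
  | add c d _ _ hc hd => rw [add_smul]; exact add_mem hc hd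
  | smul r c _ hc => rw [smul_eq_mul, mul_smul]; exact Submodule.smul_mem _ r hc

variable [IsDomain R] [IsFractionRing R K] [IsNoetherianRing R] [IsLocalRing R]

include q in
/-- **the local step** -/
theorem local_step {I : Ideal A} (hI : I ≠ ⊥) (N : ℕ)
    (hstab : ∀ n, N ≤ n → bIdeal K I n = bIdeal K I N)
    (hq : q ∈ (bIdeal K I N).minimalPrimes)
    (Hq : ∀ T : Submodule R K, T.FG → Module.Finite R (DT (maximalIdeal R) T)) : False := by
  set b := bIdeal K I N with hb
  have hT : (Sp (K := K) R I N).FG := Sp_fg R hI N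
  haveI := Hq _ hT
  -- the maximal ideal is nonzero
  have hIq : I ≤ q := (le_bIdeal I N).trans hq.1.2
  have hinjAR : Function.Injective (algebraMap A R) :=
    IsLocalization.injective R (M := q.primeCompl) (by
      intro x hx
      exact mem_nonZeroDivisors_of_ne_zero (fun h0 => hx (by rw [h0]; exact zero_mem _)))
  have hmax : q.map (algebraMap A R) = maximalIdeal R :=
    IsLocalization.AtPrime.map_eq_maximalIdeal q R
  have hm0 : maximalIdeal R ≠ ⊥ := by
    obtain ⟨a, haI, ha0⟩ := Submodule.exists_mem_ne_zero_of_ne_bot hI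
    intro hbot
    have h1 : algebraMap A R a ∈ maximalIdeal R := by
      rw [← hmax]; exact Ideal.mem_map_of_mem _ (hIq haI)
    rw [hbot, Ideal.mem_bot] at h1
    exact ha0 (hinjAR (by rw [h1, map_zero]))
  obtain ⟨j0, hj0⟩ := exists_bound_of_finite_DT hm0 (Sp (K := K) R I N)
  have hBfg : (colon (Sp (K := K) R I N) (maximalIdeal R ^ j0)).FG :=
    colon_fg hT (pow_ne_zero j0 hm0)
  -- a power of the maximal ideal lies in `𝔟R`
  have hrad := IsLocalization.AtPrime.radical_map_of_mem_minimalPrimes (A := R) q b hq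
  rw [hmax] at hrad
  obtain ⟨t, ht⟩ := Ideal.exists_radical_pow_le_of_fg (b.map (algebraMap A R))
    (IsNoetherian.noetherian _)
  rw [hrad] at ht
  have hle : ∀ e, Sp (K := K) R I (N + e) ≤ colon (Sp R I N) (maximalIdeal R ^ j0) := by
    intro e x hx
    apply hj0 (t * e) x
    intro c hc
    rw [pow_mul] at hc
    exact map_pow_smul_mem R I N b hstab e c (Ideal.pow_right_mono ht e hc) x hx
  let Sc : ℕ →o Submodule R K :=
    ⟨fun e => Sp R I (N + e), fun a c hac => Sp_mono R I (Nat.add_le_add_left hac N)⟩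
  obtain ⟨e0, he0⟩ := chain_stab _ hBfg Sc hle
  have h1 : Sp (K := K) R I (N + e0 + 1) ≤ Sp R I (N + e0) :=
    le_of_eq (he0 (e0 + 1) (Nat.le_succ e0)).symm
  obtain ⟨s, hsq, hsb⟩ := exists_notMem_bIdeal q R hI (N + e0) h1
  rw [hstab (N + e0) (Nat.le_add_right N e0)] at hsb
  exact hsq (hq.1.2 hsb)

end Groth.Agent.H2.FracTrans
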