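import Groth.Agent.Lib.Helper2.FracTransC
import Groth.Agent.Lib.Helper2.CohPushCpl

/-!
# Finiteness of `H^1_I(A)` for a Noetherian domain from conditions on the completions of the local
rings at the points of `V(I)` (helper2)
-/

set_option autoImplicit false
set_option linter.style.haveILetI false
set_option linter.unusedSectionVars false
universe u

namespace Groth.Agent.H2.FracTrans

open Groth.Agent.H6 LocCoh IsLocalRing TensorProduct

section Local

variable (R : Type u) [CommRing R] [IsDomain R] [IsNoetherianRing R] [IsLocalRing R]
  (K : Type u) [Field K] [Algebra R K] [IsFractionRing R K]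

/-- a finitely generated `R`-submodule of `K` embeds in `R` -/
theorem exists_injective_to_ring (T : Submodule R K) (hT : T.FG) :
    ∃ j : T →ₗ[R] R, Function.Injective j := by
  obtain ⟨d, hd, hdT⟩ := FractionalIdeal.isFractional_of_fg (S := nonZeroDivisors R) hT
  have hd0 : d ≠ 0 := nonZeroDivisors.ne_zero hd
  have hinj : Function.Injective (Algebra.linearMap R K) := IsFractionRing.injective R K
  let eR := LinearEquiv.ofInjective (Algebra.linearMap R K) hinj
  let g0 : T →ₗ[R] K := (LinearMap.lsmul R K d) ∘ₗ T.subtype
  have hg0 : ∀ x, g0 x ∈ LinearMap.range (Algebra.linearMap R K) := by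
    intro x
    obtain ⟨r, hr⟩ := hdT x.1 x.2
    exact ⟨r, hr⟩
  refine ⟨eR.symm.toLinearMap ∘ₗ LinearMap.codRestrict _ g0 hg0, ?_⟩
  intro x y hxy
  have h1 := eR.symm.injective hxy
  have h2 : d • (x : K) = d • (y : K) := congrArg Subtype.val h1
  exact Subtype.ext (smul_left_cancel' hd0 h2)

/-- if all associated primes of the completion have coheight `≥ 2`, then `D_𝔪(T)` is finite for
every finitely generated `T ≤ K` -/
theorem finite_DT_of_ass_completion
    (h : ∀ P ∈ associatedPrimes (AdicCompletion (maximalIdeal R) R)
        (AdicCompletion (maximalIdeal R) R),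
      (2 : WithBot ℕ∞) ≤ ringKrullDim (AdicCompletion (maximalIdeal R) R ⧸ P))
    (T : Submodule R K) (hT : T.FG) : Module.Finite R (DT (maximalIdeal R) T) := by
  haveI : Module.Finite R T := Module.Finite.iff_fg.mpr hT
  haveI : IsNoetherianRing (AdicCompletion (maximalIdeal R) R) := Groth.Agent.S0543.result R _
  haveI := CanCompl.isAdicComplete_completion (R := R)
  rw [Groth.Agent.H2.CohPushH1.DT_iff_H1 R (maximalIdeal R) T,
    Groth.Agent.H2.CohPushCpl.finite_H1_iff_completion R T,
    Groth.Agent.H2.CohPushCpl.finite_H1_iff_complete]
  intro P hP _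
  apply h P
  obtain ⟨j, hj⟩ := exists_injective_to_ring R K T hT
  let φ : AdicCompletion (maximalIdeal R) R ⊗[R] T →ₗ[AdicCompletion (maximalIdeal R) R]
      AdicCompletion (maximalIdeal R) R :=
    (TensorProduct.AlgebraTensorModule.rid R (AdicCompletion (maximalIdeal R) R)
      (AdicCompletion (maximalIdeal R) R)).toLinearMap ∘ₗ
      (LinearMap.baseChange (AdicCompletion (maximalIdeal R) R) j)
  have hφ : Function.Injective φ := by
    have h1 : Function.Injective (LinearMap.baseChange (AdicCompletion (maximalIdeal R) R) j) :=
      Module.Flat.lTensor_preserves_injective_linearMap (R := R)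
        (M := AdicCompletion (maximalIdeal R) R) j hj
    have h2 : Function.Injective (TensorProduct.AlgebraTensorModule.rid R
        (AdicCompletion (maximalIdeal R) R) (AdicCompletion (maximalIdeal R) R)) :=
      LinearEquiv.injective _
    exact h2.comp h1
  exact associatedPrimes.subset_of_injective hφ hP

end Local

section Global

variable (A : Type u) [CommRing A] [IsDomain A] [IsNoetherianRing A]

/-- **S1754** -/
theorem finite_H1_domain (I : Ideal A) (hI : I ≠ ⊥)
    (h : ∀ (q : PrimeSpectrum A), I ≤ q.asIdeal →
      ∀ P ∈ associatedPrimes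
        (AdicCompletion (maximalIdeal (Localization.AtPrime q.asIdeal))
          (Localization.AtPrime q.asIdeal))
        (AdicCompletion (maximalIdeal (Localization.AtPrime q.asIdeal))
          (Localization.AtPrime q.asIdeal)),
        (2 : WithBot ℕ∞) ≤ ringKrullDim
          (AdicCompletion (maximalIdeal (Localization.AtPrime q.asIdeal))
            (Localization.AtPrime q.asIdeal) ⧸ P)) :
    Module.Finite A (H I 1 A) := by
  obtain ⟨N, hN⟩ := exists_bIdeal_stab (K := FractionRing A) I
  rw [← Groth.Agent.H2.CohPushH1.DT_iff_H1 A I A]
  by_cases htop : bIdeal (FractionRing A) I N = ⊤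
  · exact finite_DT_of_bound (K := FractionRing A) hI N
      (Tn_le_of_top I N (fun n hn => by rw [← hN n hn, htop]))
  · exfalso
    obtain ⟨𝔫, h𝔫, hb𝔫⟩ := Ideal.exists_le_maximal _ htop
    haveI : 𝔫.IsPrime := h𝔫.isPrime
    obtain ⟨q, hq, -⟩ := Ideal.exists_minimalPrimes_le hb𝔫
    haveI hqp : q.IsPrime := hq.1.1
    have hIq : I ≤ q := (le_bIdeal I N).trans hq.1.2
    -- the localization inside the fraction field
    have hSK : ∀ s : q.primeCompl, IsUnit (algebraMap A (FractionRing A) s) := by
      intro s
      apply IsUnit.mk0
      intro h0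
      have : (s : A) = 0 := (IsFractionRing.injective A (FractionRing A)) (by rw [h0, map_zero])
      exact s.2 (by rw [this]; exact zero_mem _)
    letI : Algebra (Localization.AtPrime q) (FractionRing A) :=
      (IsLocalization.lift (M := q.primeCompl) (g := algebraMap A (FractionRing A)) hSK).toAlgebra
    haveI : IsScalarTower A (Localization.AtPrime q) (FractionRing A) :=
      IsScalarTower.of_algebraMap_eq (fun a => (IsLocalization.lift_eq hSK a).symm)
    haveI : IsFractionRing (Localization.AtPrime q) (FractionRing A) :=
      IsFractionRing.isFractionRing_of_isDomain_of_isLocalization q.primeCompl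
        (Localization.AtPrime q) (FractionRing A)
    exact local_step q (Localization.AtPrime q) hI N (fun n hn => (hN n hn).symm) hq
      (finite_DT_of_ass_completion (Localization.AtPrime q) (FractionRing A)
        (h ⟨q, hqp⟩ hIq))

end Global

end Groth.Agent.H2.FracTrans
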