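import Groth.Agent.Lib.Helper2.FracTransD

/-!
# Finiteness of `H^1_I(A)` for a domain, with an arbitrary model of the local rings (helper2)
-/

set_option autoImplicit false
set_option linter.style.haveILetI false
set_option linter.unusedSectionVars false
universe u

namespace Groth.Agent.H2.FracTrans

open Groth.Agent.H6 LocCoh IsLocalRing TensorProduct

variable (A : Type u) [CommRing A] [IsDomain A] [IsNoetherianRing A]

/-- the condition on a local ring: all associated primes of the completion have coheight `≥ 2` -/
def AssCplCond (R : Type u) [CommRing R] [IsLocalRing R] : Prop :=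
  ∀ P ∈ associatedPrimes (AdicCompletion (maximalIdeal R) R) (AdicCompletion (maximalIdeal R) R),
    (2 : WithBot ℕ∞) ≤ ringKrullDim (AdicCompletion (maximalIdeal R) R ⧸ P)

/-- `H^1_I(A)` is finite as soon as, for every prime `q ⊇ I`, some model `R` of the localization
of `A` at `q` satisfies `AssCplCond` -/
theorem finite_H1_domain_of_local (I : Ideal A) (hI : I ≠ ⊥)
    (h : ∀ (q : Ideal A) [q.IsPrime], I ≤ q →
      ∃ (R : Type u) (_ : CommRing R) (_ : Algebra A R) (_ : IsLocalization.AtPrime R q)
        (_ : IsLocalRing R), AssCplCond R) :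
    Module.Finite A (H I 1 A) := by
  obtain ⟨N, hN⟩ := exists_bIdeal_stab (K := FractionRing A) I
  rw [← Groth.Agent.H2.CohPushH1.DT_iff_H1 A I A]
  by_cases htop : bIdeal (FractionRing A) I N = ⊤
  · exact finite_DT_of_bound (K := FractionRing A) hI N
      (Tn_le_of_top I N (fun n hn => by rw [← hN n hn, htop]))
  · exfalso
    obtain ⟨𝔫, h𝔫, hb𝔫⟩ := Ideal.exists_le_maximal _ htop
    haveI : 𝔫.IsPrime := h𝔫.isPrime
    obtain ⟨q, hq, -⟩ := Ideal.exists_minimalPrimes_le hb𝔫
    haveI hqp : q.IsPrime := hq.1.1
    have hIq : I ≤ q := (le_bIdeal I N).trans hq.1.2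
    obtain ⟨R, _, _, _, _, hR⟩ := h q hIq
    have hle : q.primeCompl ≤ nonZeroDivisors A := by
      intro x hx
      exact mem_nonZeroDivisors_of_ne_zero (fun h0 => hx (by rw [h0]; exact zero_mem _))
    haveI : IsDomain R := IsLocalization.isDomain_of_le_nonZeroDivisors R hle
    haveI : IsNoetherianRing R := IsLocalization.isNoetherianRing q.primeCompl R inferInstance
    have hSK : ∀ s : q.primeCompl, IsUnit (algebraMap A (FractionRing A) s) := by
      intro s
      apply IsUnit.mk0
      intro h0
      have : (s : A) = 0 := (IsFractionRing.injective A (FractionRing A)) (by rw [h0, map_zero])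
      exact s.2 (by rw [this]; exact zero_mem _)
    letI : Algebra R (FractionRing A) :=
      (IsLocalization.lift (M := q.primeCompl) (g := algebraMap A (FractionRing A)) hSK).toAlgebra
    haveI : IsScalarTower A R (FractionRing A) :=
      IsScalarTower.of_algebraMap_eq (fun a => (IsLocalization.lift_eq hSK a).symm)
    haveI : IsFractionRing R (FractionRing A) :=
      IsFractionRing.isFractionRing_of_isDomain_of_isLocalization q.primeCompl R (FractionRing A)
    exact local_step q R hI N (fun n hn => (hN n hn).symm) hq
      (finite_DT_of_ass_completion R (FractionRing A) hR)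

end Groth.Agent.H2.FracTrans
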