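import Groth.Agent.Lib.Helper2.FracTransE
import Groth.Agent.S1763

/-!
# Kollár-type criterion for finiteness of `H^1_I(M)` (helper2)
-/

set_option autoImplicit false
set_option linter.style.haveILetI false
set_option linter.unusedSectionVars false
universe u

namespace Groth.Agent.H2.FracTrans

open Groth.Agent.H6 LocCoh IsLocalRing

variable (A : Type u) [CommRing A]

/-- `A_q / p A_q` is the localization of `A/p` at `Q`, where `q` is the preimage of `Q` -/
theorem isLocalization_quot (p : Ideal A) (Q : Ideal (A ⧸ p)) [Q.IsPrime] :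
    IsLocalization.AtPrime
      (Localization.AtPrime (Q.comap (Ideal.Quotient.mk p)) ⧸
        p.map (algebraMap A (Localization.AtPrime (Q.comap (Ideal.Quotient.mk p))))) Q := by
  have inst : IsLocalization
      (Algebra.algebraMapSubmonoid (A ⧸ p) (Q.comap (Ideal.Quotient.mk p)).primeCompl)
      (Localization.AtPrime (Q.comap (Ideal.Quotient.mk p)) ⧸
        p.map (algebraMap A (Localization.AtPrime (Q.comap (Ideal.Quotient.mk p))))) :=
    inferInstance
  have heq : Algebra.algebraMapSubmonoid (A ⧸ p) (Q.comap (Ideal.Quotient.mk p)).primeCompl =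
      Q.primeCompl := by
    ext x
    constructor
    · rintro ⟨y, hy, rfl⟩
      exact hy
    · intro hx
      obtain ⟨y, rfl⟩ := Ideal.Quotient.mk_surjective x
      exact ⟨y, hx, rfl⟩
  rw [heq] at inst
  exact inst

theorem assCplCond_of_eq (R : Type u) [CommRing R] [IsLocalRing R] (J : Ideal R)
    (hJ : J = maximalIdeal R)
    (h : ∀ P ∈ associatedPrimes (AdicCompletion J R) (AdicCompletion J R),
      (2 : WithBot ℕ∞) ≤ ringKrullDim (AdicCompletion J R ⧸ P)) : AssCplCond R := by
  subst hJ
  exact h

variable [IsNoetherianRing A]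

/-- finiteness of `H^1_I(A/p)` from the completions of the local rings `A_q / p A_q` -/
theorem finite_H1_quot (I p : Ideal A) [hpp : p.IsPrime] (hIp : ¬ I ≤ p)
    (h : ∀ (q : PrimeSpectrum A), p ≤ q.asIdeal → I ≤ q.asIdeal →
      ∀ P ∈ associatedPrimes
        (AdicCompletion ((maximalIdeal (Localization.AtPrime q.asIdeal)).map
          (Ideal.Quotient.mk (p.map (algebraMap A (Localization.AtPrime q.asIdeal)))))
          (Localization.AtPrime q.asIdeal ⧸ p.map (algebraMap A (Localization.AtPrime q.asIdeal))))
        (AdicCompletion ((maximalIdeal (Localization.AtPrime q.asIdeal)).map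
          (Ideal.Quotient.mk (p.map (algebraMap A (Localization.AtPrime q.asIdeal)))))
          (Localization.AtPrime q.asIdeal ⧸ p.map (algebraMap A (Localization.AtPrime q.asIdeal)))),
        (2 : WithBot ℕ∞) ≤ ringKrullDim
          (AdicCompletion ((maximalIdeal (Localization.AtPrime q.asIdeal)).map
            (Ideal.Quotient.mk (p.map (algebraMap A (Localization.AtPrime q.asIdeal)))))
            (Localization.AtPrime q.asIdeal ⧸
              p.map (algebraMap A (Localization.AtPrime q.asIdeal))) ⧸ P)) :
    Module.Finite A (H I 1 (A ⧸ p)) := by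
  rw [← Groth.Agent.H2.CohPushH1.coh_quot_iff A I p, Groth.Agent.H2.CohPushH1.coh_iff_H1]
  have hne : I.map (Ideal.Quotient.mk p) ≠ ⊥ := by
    intro h0
    rw [Ideal.map_eq_bot_iff_le_ker, Ideal.mk_ker] at h0
    exact hIp h0
  refine finite_H1_domain_of_local (A ⧸ p) (I.map (Ideal.Quotient.mk p)) hne ?_
  intro Q hQp hQ
  haveI : (Q.comap (Ideal.Quotient.mk p)).IsPrime := Ideal.comap_isPrime _ _
  set q : PrimeSpectrum A := ⟨Q.comap (Ideal.Quotient.mk p), inferInstance⟩ with hq
  have hpq : p ≤ q.asIdeal := by
    intro x hx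
    change Ideal.Quotient.mk p x ∈ Q
    rw [Ideal.Quotient.eq_zero_iff_mem.mpr hx]
    exact zero_mem _
  have hIq : I ≤ q.asIdeal := Ideal.map_le_iff_le_comap.mp hQ
  -- the quotient is a local ring
  have hmaxq : q.asIdeal.map (algebraMap A (Localization.AtPrime q.asIdeal)) =
      maximalIdeal (Localization.AtPrime q.asIdeal) :=
    IsLocalization.AtPrime.map_eq_maximalIdeal q.asIdeal _
  have hker : p.map (algebraMap A (Localization.AtPrime q.asIdeal)) ≤
      maximalIdeal (Localization.AtPrime q.asIdeal) := by
    rw [← hmaxq]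
    exact Ideal.map_mono hpq
  haveI : Nontrivial (Localization.AtPrime q.asIdeal ⧸
      p.map (algebraMap A (Localization.AtPrime q.asIdeal))) :=
    Ideal.Quotient.nontrivial_iff.mpr (fun htop => (maximalIdeal.isMaximal _).ne_top
      (top_le_iff.mp (htop ▸ hker)))
  haveI hloc : IsLocalRing (Localization.AtPrime q.asIdeal ⧸
      p.map (algebraMap A (Localization.AtPrime q.asIdeal))) :=
    IsLocalRing.of_surjective' (Ideal.Quotient.mk _) Ideal.Quotient.mk_surjective
  have hJ0 : (maximalIdeal (Localization.AtPrime q.asIdeal)).map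
      (Ideal.Quotient.mk (p.map (algebraMap A (Localization.AtPrime q.asIdeal)))) =
      maximalIdeal (Localization.AtPrime q.asIdeal ⧸
        p.map (algebraMap A (Localization.AtPrime q.asIdeal))) := by
    have hmax := (Ideal.map_eq_top_or_isMaximal_of_surjective
      (Ideal.Quotient.mk (p.map (algebraMap A (Localization.AtPrime q.asIdeal))))
      Ideal.Quotient.mk_surjective (maximalIdeal.isMaximal (Localization.AtPrime q.asIdeal)))
    rcases hmax with htop | hmax
    · exfalso
      have h1 : (1 : Localization.AtPrime q.asIdeal ⧸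
          p.map (algebraMap A (Localization.AtPrime q.asIdeal))) ∈
          (maximalIdeal (Localization.AtPrime q.asIdeal)).map (Ideal.Quotient.mk _) := by
        rw [htop]; trivial
      rw [Ideal.mem_map_iff_of_surjective _ Ideal.Quotient.mk_surjective] at h1
      obtain ⟨m, hm, hm1⟩ := h1
      have h2 : m - 1 ∈ p.map (algebraMap A (Localization.AtPrime q.asIdeal)) := by
        rw [← Ideal.Quotient.eq_zero_iff_mem, map_sub, hm1, map_one, sub_self]
      have h3 : (1 : Localization.AtPrime q.asIdeal) ∈
          maximalIdeal (Localization.AtPrime q.asIdeal) := by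
        have : (1 : Localization.AtPrime q.asIdeal) = m - (m - 1) := by ring
        rw [this]
        exact sub_mem hm (hker h2)
      exact (maximalIdeal.isMaximal _).ne_top ((Ideal.eq_top_iff_one _).mpr h3)
    · exact IsLocalRing.eq_maximalIdeal hmax
  exact ⟨_, inferInstance, inferInstance, isLocalization_quot A p Q, hloc,
    assCplCond_of_eq _ _ hJ0 (h q hpq hIq)⟩

/-- **S1755** -/
theorem finite_H1_kollar (I : Ideal A) (M : Type u) [AddCommGroup M] [Module A M]
    [Module.Finite A M]
    (h : ∀ p : Ideal A, p ∈ associatedPrimes A M → ¬ I ≤ p → ∀ (q : PrimeSpectrum A),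
      p ≤ q.asIdeal → I ≤ q.asIdeal →
      ∀ P ∈ associatedPrimes
        (AdicCompletion ((maximalIdeal (Localization.AtPrime q.asIdeal)).map
          (Ideal.Quotient.mk (p.map (algebraMap A (Localization.AtPrime q.asIdeal)))))
          (Localization.AtPrime q.asIdeal ⧸ p.map (algebraMap A (Localization.AtPrime q.asIdeal))))
        (AdicCompletion ((maximalIdeal (Localization.AtPrime q.asIdeal)).map
          (Ideal.Quotient.mk (p.map (algebraMap A (Localization.AtPrime q.asIdeal)))))
          (Localization.AtPrime q.asIdeal ⧸ p.map (algebraMap A (Localization.AtPrime q.asIdeal)))),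
        (2 : WithBot ℕ∞) ≤ ringKrullDim
          (AdicCompletion ((maximalIdeal (Localization.AtPrime q.asIdeal)).map
            (Ideal.Quotient.mk (p.map (algebraMap A (Localization.AtPrime q.asIdeal)))))
            (Localization.AtPrime q.asIdeal ⧸
              p.map (algebraMap A (Localization.AtPrime q.asIdeal))) ⧸ P)) :
    Module.Finite A (H I 1 M) := by
  rw [Groth.Agent.S1763.result A I M]
  intro p hp hIp
  haveI := hp.isPrime
  exact finite_H1_quot A I p hIp (h p hp hIp)

end Groth.Agent.H2.FracTrans
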