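import Groth.Agent.Lib.Helper2.FracTransF
import Groth.Agent.Lib.Helper3.CA.FormalFibreQuot
import Groth.Agent.Lib.Helper2.TenCM5
import Groth.Agent.Lib.Helper2.RkE
import Groth.Agent.Lib.Helper2.CatLim3
import Groth.Agent.Lib.Helper2.CohPushChain
import Groth.Agent.S9228
import Groth.Agent.S2645

/-!
# Finiteness of `H^1_I(M)` over a universally catenary ring with `(S_1)` formal fibres (helper2)
-/

set_option autoImplicit false
set_option linter.style.haveILetI false
set_option linter.unusedSectionVars false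
universe u

namespace Groth.Agent.H2.FracTrans

open Groth.Agent.H6 LocCoh IsLocalRing TensorProduct

section Local

variable (R0 : Type u) [CommRing R0] [IsNoetherianRing R0] [IsLocalRing R0]

/-- `(S_n)` formal fibres pass to quotients -/
theorem hasSnFormalFibres_quotient (n : ℕ) (I : Ideal R0) [IsLocalRing (R0 ⧸ I)]
    (hA : EGA4.HasSnFormalFibres n R0) : EGA4.HasSnFormalFibres n (R0 ⧸ I) := by
  intro q _
  have h1 := hA (q.under R0)
  have e1 : q.Fiber ((R0 ⧸ I) ⊗[R0] EGA4.Cpl R0) ≃+* (q.under R0).Fiber (EGA4.Cpl R0) :=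
    Groth.Agent.H3.FFQ.fiberEquivOfSurjective R0 (R0 ⧸ I) (EGA4.Cpl R0)
      Ideal.Quotient.mk_surjective q
  have e2 : q.Fiber ((R0 ⧸ I) ⊗[R0] EGA4.Cpl R0) ≃+* q.Fiber (EGA4.Cpl (R0 ⧸ I)) :=
    (Algebra.TensorProduct.congr (AlgEquiv.refl : q.ResidueField ≃ₐ[R0 ⧸ I] q.ResidueField)
      (Groth.Agent.H3.FFQ.cplQuotAlgEquiv R0 I)).toRingEquiv
  haveI : IsNoetherianRing (EGA4.Cpl R0) := Groth.Agent.S0543.result R0 _
  haveI : IsNoetherianRing ((q.under R0).Fiber (EGA4.Cpl R0)) :=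
    Groth.Agent.H3.RegHomBC.isNoetherianRing_fiber R0 (EGA4.Cpl R0) _
  exact Groth.Agent.H2.TenCM.hasSk_of_ringEquiv (e1.symm.trans e2) n h1

/-- a Noetherian domain satisfies `(S_1)` -/
theorem hasSk_one_of_isDomain (C : Type u) [CommRing C] [IsDomain C] [IsNoetherianRing C] :
    LocCoh.HasSk 1 C C := by
  rw [Groth.Agent.H2.Rk.hasSk_one_self_iff]
  intro P hP
  rw [AssociatedPrimes.mem_iff, isAssociatedPrime_iff] at hP
  obtain ⟨hPp, x, hx⟩ := hP
  have hx0 : x ≠ 0 := by
    rintro rfl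
    apply hPp.ne_top
    rw [hx, eq_top_iff]
    intro r _
    rw [Submodule.mem_colon_singleton, smul_zero]
    exact zero_mem _
  have hbot : P = ⊥ := by
    rw [eq_bot_iff]
    intro r hr
    rw [hx, Submodule.mem_colon_singleton, Submodule.mem_bot, smul_eq_mul, mul_eq_zero] at hr
    rcases hr with h | h
    · rw [Ideal.mem_bot]; exact h
    · exact absurd h hx0
  rw [hbot, IsDomain.minimalPrimes_eq_singleton_bot]
  rfl

/-- for a universally catenary local ring with `(S_1)` formal fibres and a prime `𝔭` with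
`dim R0/𝔭 ≥ 2`, all associated primes of the completion of `R0/𝔭` have coheight `≥ 2` -/
theorem assCplCond_quot (hUC : CAlg.IsUniversallyCatenary R0) (hF : EGA4.HasSnFormalFibres 1 R0)
    (𝔭 : Ideal R0) [𝔭.IsPrime] (hdim : (2 : WithBot ℕ∞) ≤ ringKrullDim (R0 ⧸ 𝔭)) :
    AssCplCond (R0 ⧸ 𝔭) := by
  haveI : IsNoetherianRing (AdicCompletion (maximalIdeal (R0 ⧸ 𝔭)) (R0 ⧸ 𝔭)) :=
    Groth.Agent.S0543.result _ _
  have hFC : EGA4.HasSnFormalFibres 1 (R0 ⧸ 𝔭) := hasSnFormalFibres_quotient R0 1 𝔭 hF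
  have hS1 : LocCoh.HasSk 1 (EGA4.Cpl (R0 ⧸ 𝔭)) (EGA4.Cpl (R0 ⧸ 𝔭)) :=
    (Groth.Agent.S2645.result 1 (R0 ⧸ 𝔭) hFC).mp (hasSk_one_of_isDomain (R0 ⧸ 𝔭))
  have hEq : EGA4.IsEquidim (AdicCompletion (maximalIdeal (R0 ⧸ 𝔭)) (R0 ⧸ 𝔭)) :=
    Groth.Agent.S9228.result R0 hUC 𝔭
  intro P hP
  have hmin := (Groth.Agent.H2.Rk.hasSk_one_self_iff _).mp hS1 P hP
  rw [hEq P hmin, (CanCompl.complLike_adicCompletion (R0 ⧸ 𝔭)).ringKrullDim_eq]
  exact hdim

end Local

section Global

variable (A : Type u) [CommRing A] [IsNoetherianRing A]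

/-- variant of `finite_H1_quot` with the condition `AssCplCond` on `A_q / p A_q` -/
theorem finite_H1_quot' (I p : Ideal A) [hpp : p.IsPrime] (hIp : ¬ I ≤ p)
    (h : ∀ (Q : Ideal (A ⧸ p)) [Q.IsPrime], I.map (Ideal.Quotient.mk p) ≤ Q →
      ∀ [IsLocalRing (Localization.AtPrime (Q.comap (Ideal.Quotient.mk p)) ⧸
        p.map (algebraMap A (Localization.AtPrime (Q.comap (Ideal.Quotient.mk p)))))],
      AssCplCond (Localization.AtPrime (Q.comap (Ideal.Quotient.mk p)) ⧸
        p.map (algebraMap A (Localization.AtPrime (Q.comap (Ideal.Quotient.mk p)))))) :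
    Module.Finite A (H I 1 (A ⧸ p)) := by
  rw [← Groth.Agent.H2.CohPushH1.coh_quot_iff A I p, Groth.Agent.H2.CohPushH1.coh_iff_H1]
  have hne : I.map (Ideal.Quotient.mk p) ≠ ⊥ := by
    intro h0
    rw [Ideal.map_eq_bot_iff_le_ker, Ideal.mk_ker] at h0
    exact hIp h0
  refine finite_H1_domain_of_local (A ⧸ p) (I.map (Ideal.Quotient.mk p)) hne ?_
  intro Q hQp hQ
  haveI : (Q.comap (Ideal.Quotient.mk p)).IsPrime := Ideal.comap_isPrime _ _
  have hpq : p ≤ Q.comap (Ideal.Quotient.mk p) := by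
    intro x hx
    change Ideal.Quotient.mk p x ∈ Q
    rw [Ideal.Quotient.eq_zero_iff_mem.mpr hx]
    exact zero_mem _
  have hmaxq : (Q.comap (Ideal.Quotient.mk p)).map
      (algebraMap A (Localization.AtPrime (Q.comap (Ideal.Quotient.mk p)))) =
      maximalIdeal (Localization.AtPrime (Q.comap (Ideal.Quotient.mk p))) :=
    IsLocalization.AtPrime.map_eq_maximalIdeal (Q.comap (Ideal.Quotient.mk p)) _
  have hker : p.map (algebraMap A (Localization.AtPrime (Q.comap (Ideal.Quotient.mk p)))) ≤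
      maximalIdeal (Localization.AtPrime (Q.comap (Ideal.Quotient.mk p))) := by
    rw [← hmaxq]
    exact Ideal.map_mono hpq
  haveI : Nontrivial (Localization.AtPrime (Q.comap (Ideal.Quotient.mk p)) ⧸
      p.map (algebraMap A (Localization.AtPrime (Q.comap (Ideal.Quotient.mk p))))) :=
    Ideal.Quotient.nontrivial_iff.mpr (fun htop => (maximalIdeal.isMaximal _).ne_top
      (top_le_iff.mp (htop ▸ hker)))
  haveI hloc : IsLocalRing (Localization.AtPrime (Q.comap (Ideal.Quotient.mk p)) ⧸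
      p.map (algebraMap A (Localization.AtPrime (Q.comap (Ideal.Quotient.mk p))))) :=
    IsLocalRing.of_surjective' (Ideal.Quotient.mk _) Ideal.Quotient.mk_surjective
  exact ⟨_, inferInstance, inferInstance, isLocalization_quot A p Q, hloc, h Q hQ⟩

/-- **S1756** -/
theorem finite_H1_of_uc_S1 (hA : CAlg.IsUniversallyCatenary A) (I : Ideal A)
    (hF : ∀ q : PrimeSpectrum A, I ≤ q.asIdeal →
      EGA4.HasSnFormalFibres 1 (Localization.AtPrime q.asIdeal))
    (M : Type u) [AddCommGroup M] [Module A M] [Module.Finite A M]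
    (h : ∀ (p q : PrimeSpectrum A) (hpq : p ≤ q), p.asIdeal ∈ associatedPrimes A M →
      ¬ I ≤ p.asIdeal → I ≤ q.asIdeal → (2 : ℕ∞) ≤ Order.height (⟨q, hpq⟩ : Set.Ici p)) :
    Module.Finite A (H I 1 M) := by
  rw [Groth.Agent.S1763.result A I M]
  intro p hp hIp
  haveI hpp : p.IsPrime := hp.isPrime
  refine finite_H1_quot' A I p hIp ?_
  intro Q hQp hQ hloc
  haveI hqp : (Q.comap (Ideal.Quotient.mk p)).IsPrime := Ideal.comap_isPrime _ _
  set q : Ideal A := Q.comap (Ideal.Quotient.mk p) with hq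
  have hpq : p ≤ q := by
    intro x hx
    change Ideal.Quotient.mk p x ∈ Q
    rw [Ideal.Quotient.eq_zero_iff_mem.mpr hx]
    exact zero_mem _
  have hIq : I ≤ q := Ideal.map_le_iff_le_comap.mp hQ
  have hUCq : CAlg.IsUniversallyCatenary (Localization.AtPrime q) :=
    Groth.Agent.H2.CatLim.isUniversallyCatenary_of_isLocalization A q.primeCompl _ hA
  have hFq := hF ⟨q, hqp⟩ hIq
  have hdisj : Disjoint (q.primeCompl : Set A) (p : Set A) := by
    rw [Set.disjoint_left]
    intro x hx hxp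
    exact hx (hpq hxp)
  haveI : (p.map (algebraMap A (Localization.AtPrime q))).IsPrime :=
    IsLocalization.isPrime_of_isPrime_disjoint q.primeCompl _ p hpp hdisj
  -- the dimension of `A_q / p A_q`
  have hdim : (2 : WithBot ℕ∞) ≤ ringKrullDim
      (Localization.AtPrime q ⧸ p.map (algebraMap A (Localization.AtPrime q))) := by
    haveI := isLocalization_quot A p Q
    rw [IsLocalization.AtPrime.ringKrullDim_eq_height Q]
    have h2 : (2 : ℕ∞) ≤ (q.map (Ideal.Quotient.mk p)).height :=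
      Groth.Agent.H2.CohPushChain.two_le_height_map ⟨p, hpp⟩ q 2
        (fun q' hpq' hqq' => by
          have h3 := h ⟨p, hpp⟩ ⟨q, hqp⟩ hpq hp hIp hIq
          refine h3.trans (Order.height_mono ?_)
          exact hqq')
    rw [hq, Ideal.map_comap_of_surjective _ Ideal.Quotient.mk_surjective] at h2
    exact WithBot.coe_le_coe.mpr h2
  exact assCplCond_quot (Localization.AtPrime q) hUCq hFq _ hdim

end Global

end Groth.Agent.H2.FracTrans
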