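import Mathlib.Algebra.Module.Projective
import Mathlib.LinearAlgebra.TensorProduct.Tower
import Mathlib.LinearAlgebra.TensorProduct.Quotient
import Mathlib.LinearAlgebra.TensorProduct.RightExactness
import Mathlib.RingTheory.Nilpotent.Lemmas
import Mathlib.RingTheory.Ideal.Quotient.Operations
import Mathlib.LinearAlgebra.FreeModule.Basic
import Mathlib.RingTheory.TensorProduct.Free
import Mathlib.RingTheory.Ideal.Over

/-! Freeness can be tested modulo a nilpotent ideal together with a jointly injective family of
base changes (EGA IV 11.4.x type statement). -/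

namespace Groth.Agent.H2

open TensorProduct

section Nakayama

variable {R : Type*} [CommRing R] {M : Type*} [AddCommGroup M] [Module R M]

theorem eq_top_of_sup_smul_top_eq_top_of_isNilpotent {I : Ideal R} (hI : IsNilpotent I)
    (N : Submodule R M) (h : N ⊔ I • (⊤ : Submodule R M) = ⊤) : N = ⊤ := by
  obtain ⟨n, hn⟩ := hI
  have key : ∀ k : ℕ, N ⊔ I ^ k • (⊤ : Submodule R M) = ⊤ := by
    intro k
    induction k with
    | zero => simp
    | succ k ih =>
      rw [eq_top_iff]
      calc (⊤ : Submodule R M) = N ⊔ I • (⊤ : Submodule R M) := h.symm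
        _ = N ⊔ I • (N ⊔ I ^ k • (⊤ : Submodule R M)) := by rw [ih]
        _ = N ⊔ (I • N ⊔ I • I ^ k • (⊤ : Submodule R M)) := by rw [Submodule.smul_sup]
        _ ≤ N ⊔ I ^ (k + 1) • (⊤ : Submodule R M) := by
          rw [← Submodule.mul_smul, ← pow_succ']
          exact sup_le le_sup_left (sup_le (le_sup_of_le_left Submodule.smul_le_right) le_sup_right)
  have := key n
  rwa [hn, Ideal.zero_eq_bot, Submodule.bot_smul, sup_bot_eq] at this

theorem subsingleton_of_smul_top_eq_top_of_isNilpotent {I : Ideal R} (hI : IsNilpotent I)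
    (h : I • (⊤ : Submodule R M) = ⊤) : Subsingleton M := by
  have : (⊥ : Submodule R M) = ⊤ :=
    eq_top_of_sup_smul_top_eq_top_of_isNilpotent hI ⊥ (by rw [bot_sup_eq, h])
  exact (Submodule.subsingleton_iff R).mp (subsingleton_of_bot_eq_top this)

end Nakayama

end Groth.Agent.H2

namespace Groth.Agent.H2

open TensorProduct

section L2

variable {R : Type*} [CommRing R] {P Q : Type*} [AddCommGroup P] [Module R P]
  [AddCommGroup Q] [Module R Q]

/-- A surjection onto a projective module which is injective modulo a nilpotent ideal is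
injective. -/
theorem injective_of_lTensor_quotient_injective {I : Ideal R} (hI : IsNilpotent I)
    (ψ : P →ₗ[R] Q) (hψ : Function.Surjective ψ) [Module.Projective R Q]
    (hinj : Function.Injective (ψ.lTensor (R ⧸ I))) : Function.Injective ψ := by
  obtain ⟨s, hs⟩ := Module.projective_lifting_property ψ LinearMap.id hψ
  let K := LinearMap.ker ψ
  -- the retraction `P → K`
  let r : P →ₗ[R] K := (LinearMap.id - s.comp ψ).codRestrict K (by
    intro x
    rw [LinearMap.mem_ker, LinearMap.sub_apply, map_sub, LinearMap.id_apply, LinearMap.comp_apply]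
    have : ψ (s (ψ x)) = ψ x := congr($hs (ψ x))
    rw [this, sub_self])
  have hr : r.comp K.subtype = LinearMap.id := by
    ext ⟨y, hy⟩
    have hy' : ψ y = 0 := hy
    simp [r, hy']
  -- `(R/I) ⊗ K → (R/I) ⊗ P` is injective and zero
  have hinjK : Function.Injective (K.subtype.lTensor (R ⧸ I)) := by
    apply Function.LeftInverse.injective (g := r.lTensor (R ⧸ I))
    intro x
    rw [← LinearMap.comp_apply, ← LinearMap.lTensor_comp, hr, LinearMap.lTensor_id,
      LinearMap.id_apply]
  have hzero : (ψ.lTensor (R ⧸ I)).comp (K.subtype.lTensor (R ⧸ I)) = 0 := by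
    rw [← LinearMap.lTensor_comp]
    have : ψ.comp K.subtype = 0 := by
      ext ⟨y, hy⟩
      exact hy
    rw [this, LinearMap.lTensor_zero]
  have hsub : Subsingleton ((R ⧸ I) ⊗[R] K) := by
    constructor
    intro x y
    apply hinjK
    apply hinj
    have hx := congr($hzero x)
    have hy := congr($hzero y)
    simp only [LinearMap.comp_apply, LinearMap.zero_apply] at hx hy
    rw [hx, hy]
  have htop : I • (⊤ : Submodule R K) = ⊤ := by
    have e := TensorProduct.quotTensorEquivQuotSMul K I
    have : Subsingleton (K ⧸ I • (⊤ : Submodule R K)) := e.symm.injective.subsingleton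
    exact Submodule.Quotient.subsingleton_iff.mp this
  have hK : Subsingleton K := subsingleton_of_smul_top_eq_top_of_isNilpotent hI htop
  rw [← LinearMap.ker_eq_bot]
  exact Submodule.subsingleton_iff_eq_bot.mp hK

end L2

end Groth.Agent.H2

namespace Groth.Agent.H2

open TensorProduct

section L3

variable {A : Type*} [CommRing A] {F M : Type*} [AddCommGroup F] [Module A F]
  [AddCommGroup M] [Module A M] (φ : F →ₗ[A] M)

/-- If `S ⊗[A] φ` is injective and `D` is an `S`-algebra (over `A`), then `D ⊗[A] φ` is injective
provided ... we only need the bijective case: if `S ⊗[A] φ` is bijective then so is `D ⊗[A] φ`. -/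
theorem lTensor_bijective_of_tower (S D : Type*) [CommRing S] [Algebra A S] [CommRing D]
    [Algebra A D] [Algebra S D] [IsScalarTower A S D]
    (h : Function.Bijective (φ.lTensor S)) : Function.Bijective (φ.lTensor D) := by
  have key := AlgebraTensorModule.lTensor_comp_cancelBaseChange (R := A) (A := S) (B := D)
    (M := D) (N := F) (Q := M) φ
  -- `D ⊗[S] (S ⊗[A] φ)` is bijective
  let e : (S ⊗[A] F) ≃ₗ[S] (S ⊗[A] M) :=
    LinearEquiv.ofBijective (AlgebraTensorModule.lTensor S S φ) h
  have h2 : Function.Bijective
      (AlgebraTensorModule.lTensor D D (AlgebraTensorModule.lTensor S S φ)) := by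
    have : AlgebraTensorModule.lTensor D D (AlgebraTensorModule.lTensor S S φ) =
        (AlgebraTensorModule.congr (LinearEquiv.refl D D) e).toLinearMap := by
      ext; simp [e]
    rw [this]
    exact (AlgebraTensorModule.congr (LinearEquiv.refl D D) e).bijective
  have h3 : Function.Bijective (AlgebraTensorModule.lTensor D D φ) := by
    have : (AlgebraTensorModule.lTensor D D φ : D ⊗[A] F →ₗ[D] D ⊗[A] M) =
        ((AlgebraTensorModule.cancelBaseChange A S D D M).toLinearMap ∘ₗ
          AlgebraTensorModule.lTensor D D (AlgebraTensorModule.lTensor S S φ)) ∘ₗ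
          (AlgebraTensorModule.cancelBaseChange A S D D F).symm.toLinearMap := by
      rw [← key]
      ext; simp
    rw [this]
    exact ((AlgebraTensorModule.cancelBaseChange A S D D M).bijective.comp h2).comp
      (AlgebraTensorModule.cancelBaseChange A S D D F).symm.bijective
  exact h3

end L3

end Groth.Agent.H2

namespace Groth.Agent.H2

open TensorProduct

section L4

variable {A : Type*} [CommRing A] {F M : Type*} [AddCommGroup F] [Module A F]
  [AddCommGroup M] [Module A M] (φ : F →ₗ[A] M)

theorem lTensor_baseChange_injective (R D : Type*) [CommRing R] [Algebra A R] [CommRing D]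
    [Algebra A D] [Algebra R D] [IsScalarTower A R D]
    (h : Function.Injective (φ.lTensor D)) :
    Function.Injective ((φ.baseChange R).lTensor D) := by
  have key := AlgebraTensorModule.lTensor_comp_cancelBaseChange (R := A) (A := R) (B := D)
    (M := D) (N := F) (Q := M) φ
  have h1 : Function.Injective
      (AlgebraTensorModule.lTensor D D (AlgebraTensorModule.lTensor R R φ)) := by
    have : ((AlgebraTensorModule.cancelBaseChange A R D D M).toLinearMap ∘ₗ
        AlgebraTensorModule.lTensor D D (AlgebraTensorModule.lTensor R R φ)) =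
        AlgebraTensorModule.lTensor D D φ ∘ₗ
          (AlgebraTensorModule.cancelBaseChange A R D D F).toLinearMap := key.symm
    have h2 : Function.Injective ((AlgebraTensorModule.cancelBaseChange A R D D M).toLinearMap ∘ₗ
        AlgebraTensorModule.lTensor D D (AlgebraTensorModule.lTensor R R φ)) := by
      rw [this]
      exact (show Function.Injective (AlgebraTensorModule.lTensor D D φ) from h).comp
        (AlgebraTensorModule.cancelBaseChange A R D D F).injective
    intro x y hxy
    apply h2
    simp only [LinearMap.coe_comp, Function.comp_apply, hxy]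
  exact h1

end L4

end Groth.Agent.H2

namespace Groth.Agent.H2

open TensorProduct

section Main

variable {A : Type*} [CommRing A] (J : Ideal A)
  {ι : Type*} (B : ι → Type*) [∀ i, CommRing (B i)] [∀ i, Algebra A (B i)]
  (M : Type*) [AddCommGroup M] [Module A M]

theorem mk_one_surjective_quotient :
    Function.Surjective (TensorProduct.mk A (A ⧸ J) M 1) := by
  rw [← TensorProduct.quotTensorEquivQuotSMul_symm_comp_mkQ]
  exact (TensorProduct.quotTensorEquivQuotSMul M J).symm.surjective.comp
    (Submodule.mkQ_surjective _)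

theorem mk_one_eq_zero_iff (x : M) :
    (1 : A ⧸ J) ⊗ₜ[A] x = 0 ↔ x ∈ J • (⊤ : Submodule A M) := by
  rw [← (TensorProduct.quotTensorEquivQuotSMul M J).map_eq_zero_iff,
    TensorProduct.quotTensorEquivQuotSMul_mk_one_tmul, Submodule.Quotient.mk_eq_zero]

theorem free_of_free_baseChange_family_of_nilpotent (hJ : IsNilpotent J)
    (hB : ∀ a : A, (∀ i, algebraMap A (B i) a = 0) → a = 0)
    (hfree : ∀ i, Module.Free (B i) (B i ⊗[A] M))
    (hfreeJ : Module.Free (A ⧸ J) ((A ⧸ J) ⊗[A] M)) :
    Module.Free A M := by
  classical
  let κ := Module.Free.ChooseBasisIndex (A ⧸ J) ((A ⧸ J) ⊗[A] M)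
  let bb : Module.Basis κ (A ⧸ J) ((A ⧸ J) ⊗[A] M) := Module.Free.chooseBasis _ _
  have hsurj := mk_one_surjective_quotient J M
  choose m hm using fun k => hsurj (bb k)
  let φ : (κ →₀ A) →ₗ[A] M := Finsupp.linearCombination A m
  let bF : Module.Basis κ (A ⧸ J) ((A ⧸ J) ⊗[A] (κ →₀ A)) :=
    Algebra.TensorProduct.basis (A ⧸ J) (Finsupp.basisSingleOne : Module.Basis κ A (κ →₀ A))
  -- `(A/J) ⊗ φ` is bijective
  have hbij : Function.Bijective (φ.lTensor (A ⧸ J)) := by
    have : (φ.baseChange (A ⧸ J)) = (bF.equiv bb (Equiv.refl κ)).toLinearMap := by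
      apply bF.ext
      intro k
      rw [LinearEquiv.coe_coe, Module.Basis.equiv_apply, Equiv.refl_apply]
      simp only [bF, Algebra.TensorProduct.basis_apply, LinearMap.baseChange_tmul,
        Finsupp.coe_basisSingleOne]
      rw [← hm k]
      simp [φ]
    have h2 : Function.Bijective (φ.baseChange (A ⧸ J)) := by
      rw [this]; exact (bF.equiv bb (Equiv.refl κ)).bijective
    exact h2
  -- `φ` is surjective
  have hφsurj : Function.Surjective φ := by
    rw [← LinearMap.range_eq_top]
    apply eq_top_of_sup_smul_top_eq_top_of_isNilpotent hJ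
    rw [eq_top_iff]
    intro x _
    obtain ⟨y, hy⟩ := hbij.2 ((1 : A ⧸ J) ⊗ₜ[A] x)
    obtain ⟨f, rfl⟩ := mk_one_surjective_quotient J (κ →₀ A) y
    have h0 : (1 : A ⧸ J) ⊗ₜ[A] (x - φ f) = 0 := by
      rw [TensorProduct.tmul_sub, ← hy]; simp
    rw [mk_one_eq_zero_iff] at h0
    have : x = φ f + (x - φ f) := by abel
    rw [this]
    exact Submodule.add_mem_sup (LinearMap.mem_range_self φ f) h0
  -- `φ` is injective
  have hφinj : Function.Injective φ := by
    have hψ : ∀ i, Function.Injective (φ.baseChange (B i)) := by
      intro i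
      have := hfree i
      apply injective_of_lTensor_quotient_injective
        (I := J.map (algebraMap A (B i))) (by
          obtain ⟨n, hn⟩ := hJ
          exact ⟨n, by rw [← Ideal.map_pow, hn, Ideal.zero_eq_bot, Ideal.map_bot]; rfl⟩)
      · exact LinearMap.lTensor_surjective _ hφsurj
      · apply lTensor_baseChange_injective
        exact (lTensor_bijective_of_tower φ (A ⧸ J) _ hbij).1
    rw [injective_iff_map_eq_zero]
    intro x hx
    ext k
    rw [Finsupp.zero_apply]
    apply hB
    intro i
    have h1 : (1 : B i) ⊗ₜ[A] x = 0 := by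
      apply hψ i
      rw [LinearMap.baseChange_tmul, hx, TensorProduct.tmul_zero, map_zero]
    have h2 := congr(TensorProduct.rid A (B i) ((Finsupp.lapply k).lTensor (B i) $h1))
    simpa [Algebra.algebraMap_eq_smul_one] using h2
  exact Module.Free.of_equiv (LinearEquiv.ofBijective φ ⟨hφinj, hφsurj⟩)

end Main

end Groth.Agent.H2
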