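import Mathlib

/-!
# Twisted forward differences (S19025)
-/

namespace Groth.Agent.H2.FwdDiffTwist

open Finset

universe u

variable (S : Type u) [CommRing S]

/-- the shift operator on sequences -/
def E : Module.End S (ℕ → S) := LinearMap.funLeft S S (fun j : ℕ => j + 1)

/-- the forward difference operator -/
def Δ : Module.End S (ℕ → S) := E S - 1

lemma E_apply (y : ℕ → S) (j : ℕ) : E S y j = y (j + 1) := rfl

lemma E_pow_apply (y : ℕ → S) (i j : ℕ) : (E S ^ i) y j = y (j + i) := by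
  induction i generalizing y j with
  | zero => simp
  | succ i ih =>
    rw [pow_succ, Module.End.mul_apply, ih, E_apply]
    congr 1

lemma Δ_coe : ⇑(Δ S) = fwdDiff (1 : ℕ) := by
  funext y j
  simp [Δ, E_apply, fwdDiff]

lemma Δ_pow_coe (m : ℕ) : ⇑(Δ S ^ m) = (fwdDiff (1 : ℕ))^[m] := by
  rw [Module.End.coe_pow, Δ_coe]

lemma commute_E_Δ : Commute (E S) (Δ S) := by
  unfold Δ
  exact (Commute.refl _).sub_right (Commute.one_right _)

variable {S}

lemma eval_term (a b : S) (m k c : ℕ) (y : ℕ → S) :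
    (((a • E S) ^ m * (b • (Δ S) ^ k) * (c : Module.End S (ℕ → S))) y) 0 =
      (c : S) * a ^ m * b * (fwdDiff (1 : ℕ))^[k] y m := by
  rw [smul_pow, Module.End.mul_apply, Module.End.mul_apply, Module.End.natCast_apply,
    LinearMap.smul_apply, LinearMap.smul_apply, map_nsmul, map_smul, map_nsmul]
  simp only [Pi.smul_apply, smul_eq_mul, nsmul_eq_mul, Pi.mul_apply, Pi.natCast_apply]
  rw [E_pow_apply, Δ_pow_coe, zero_add]
  ring

/-- the operator identity evaluated on `y` at `0` -/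
theorem key (g₀ g₁ : S) (N : ℕ) (y : ℕ → S) :
    (fwdDiff (1 : ℕ))^[N] (fun j : ℕ => g₀ ^ (N - j) * g₁ ^ j * y j) 0 =
      ∑ i ∈ range (N + 1), (N.choose i : S) * (g₁ - g₀) ^ i * g₀ ^ (N - i) *
        (fwdDiff (1 : ℕ))^[N - i] y i := by
  have hop : g₁ • E S + (-g₀) • (1 : Module.End S (ℕ → S)) = (g₁ - g₀) • E S + g₀ • Δ S := by
    unfold Δ
    module
  have hcomm1 : Commute (g₁ • E S) ((-g₀) • (1 : Module.End S (ℕ → S))) :=
    ((Commute.one_right (E S)).smul_left g₁).smul_right (-g₀)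
  have hcomm2 : Commute ((g₁ - g₀) • E S) (g₀ • Δ S) :=
    ((commute_E_Δ S).smul_left (g₁ - g₀)).smul_right g₀
  have h1 := hcomm1.add_pow N
  have h2 := hcomm2.add_pow N
  rw [hop] at h1
  rw [h1] at h2
  have h3 := congrFun (congrArg (fun (T : Module.End S (ℕ → S)) => (T y : ℕ → S)) h2) 0
  simp only [LinearMap.sum_apply, Finset.sum_apply] at h3
  rw [fwdDiff_iter_eq_sum_shift]
  have hL : ∀ j ∈ range (N + 1),
      ((-1 : ℤ) ^ (N - j) * (N.choose j : ℤ)) • (g₀ ^ (N - (0 + j • 1)) * g₁ ^ (0 + j • 1) *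
        y (0 + j • 1)) =
      (((g₁ • E S) ^ j * ((-g₀) • (1 : Module.End S (ℕ → S))) ^ (N - j) *
        (N.choose j : Module.End S (ℕ → S))) y) 0 := by
    intro j _
    have e1 : ((-g₀) • (1 : Module.End S (ℕ → S))) ^ (N - j) =
        ((-g₀) ^ (N - j)) • (Δ S) ^ 0 := by
      rw [smul_pow, one_pow, pow_zero]
    rw [e1, eval_term, Function.iterate_zero, id, zsmul_eq_mul, neg_pow]
    simp only [smul_eq_mul, mul_one, zero_add]
    push_cast
    ring
  have hR : ∀ i ∈ range (N + 1),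
      (N.choose i : S) * (g₁ - g₀) ^ i * g₀ ^ (N - i) * (fwdDiff (1 : ℕ))^[N - i] y i =
      ((((g₁ - g₀) • E S) ^ i * (g₀ • Δ S) ^ (N - i) *
        (N.choose i : Module.End S (ℕ → S))) y) 0 := by
    intro i _
    rw [smul_pow g₀, eval_term]
  rw [Finset.sum_congr rfl hL, Finset.sum_congr rfl hR]
  exact h3

theorem main (I : Ideal S) (g₀ g₁ : S) (hg : g₁ - g₀ ∈ I)
    (N : ℕ) (y : ℕ → S)
    (hy : ∀ i : ℕ, 1 ≤ i → i ≤ N → (fwdDiff (1 : ℕ))^[N - i] y i ∈ I ^ (N - i)) :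
    g₀ ^ N * (fwdDiff (1 : ℕ))^[N] y 0 -
        (fwdDiff (1 : ℕ))^[N] (fun j : ℕ => g₀ ^ (N - j) * g₁ ^ j * y j) 0 ∈ I ^ N := by
  rw [key, Finset.sum_range_succ']
  simp only [Nat.choose_zero_right, Nat.cast_one, pow_zero, mul_one, one_mul, Nat.sub_zero]
  rw [sub_add_cancel_right]
  apply Ideal.neg_mem_iff _ |>.2
  apply Ideal.sum_mem
  intro i hi
  rw [Finset.mem_range] at hi
  have h1 : (g₁ - g₀) ^ (i + 1) ∈ I ^ (i + 1) := Ideal.pow_mem_pow hg _
  have h2 := hy (i + 1) (by omega) (by omega)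
  have h3 : (g₁ - g₀) ^ (i + 1) * (fwdDiff (1 : ℕ))^[N - (i + 1)] y (i + 1) ∈ I ^ N := by
    have : I ^ N = I ^ (i + 1) * I ^ (N - (i + 1)) := by
      rw [← pow_add]; congr 1; omega
    rw [this]
    exact Ideal.mul_mem_mul h1 h2
  have e : (N.choose (i + 1) : S) * (g₁ - g₀) ^ (i + 1) * g₀ ^ (N - (i + 1)) *
      (fwdDiff (1 : ℕ))^[N - (i + 1)] y (i + 1) =
      ((N.choose (i + 1) : S) * g₀ ^ (N - (i + 1))) *
        ((g₁ - g₀) ^ (i + 1) * (fwdDiff (1 : ℕ))^[N - (i + 1)] y (i + 1)) := by ring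
  rw [e]
  exact Ideal.mul_mem_left _ _ h3

end Groth.Agent.H2.FwdDiffTwist
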