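import Groth.Agent.Lib.Helper2.LamPre

set_option autoImplicit false

namespace Groth.Agent.H2.Lam

open PowerSeries Finset LambdaRing

universe u
variable {K : Type u} [CommRing K]

theorem invOneSub_mul_one_sub : (invOneSubPow K 1).val * (1 - X) = 1 := by
  have := (invOneSubPow K 1).val_inv
  rwa [invOneSubPow_inv_eq_one_sub_pow, pow_one] at this

theorem Y_mul_one_sub : Y K * (1 - X) = X := by
  rw [Y, mul_assoc, invOneSub_mul_one_sub, mul_one]

theorem one_add_Y_mul_one_sub : (1 + Y K) * (1 - X) = 1 := by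
  rw [add_mul, Y_mul_one_sub, one_mul]; ring

theorem subst_Y_one_add_C_mul_X (a : K) : (1 + C a * X : K⟦X⟧).subst (Y K) = 1 + C a * Y K := by
  rw [← coe_substAlgHom (hasSubst_Y K), map_add, map_one, map_mul, substAlgHom_X]
  congr 2
  rw [coe_substAlgHom, subst_C]
  rfl

/-- coefficients of a product of linear factors `1 + a_i X` -/
theorem coeff_prod_one_add_C_mul_X {ι : Type*} [DecidableEq ι] (s : Finset ι) (a : ι → K) (k : ℕ) :
    coeff k (∏ i ∈ s, (1 + C (a i) * X : K⟦X⟧)) = ∑ t ∈ s.powersetCard k, ∏ i ∈ t, a i := by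
  rw [Finset.prod_one_add, map_sum]
  have h : ∀ t ∈ s.powerset, coeff k (∏ i ∈ t, (C (a i) * X : K⟦X⟧)) =
      if t.card = k then ∏ i ∈ t, a i else 0 := by
    intro t _
    rw [Finset.prod_mul_distrib, Finset.prod_const, ← map_prod, coeff_C_mul, coeff_X_pow]
    split_ifs with h1 h2 h2
    · rw [mul_one]
    · exact absurd h1.symm h2
    · exact absurd h2.symm h1
    · rw [mul_zero]
  rw [Finset.sum_congr rfl h, ← Finset.sum_filter, Finset.powersetCard_eq_filter]

variable [LambdaOps K]

theorem gammaSeries_of_linear {x a : K} (h : lamSeries x = 1 + C a * X) :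
    gammaSeries x = 1 + C a * Y K := by
  rw [gammaSeries, h, subst_Y_one_add_C_mul_X]

theorem gammaSeries_one (h1 : lamSeries (1 : K) = 1 + X) : gammaSeries (1 : K) = 1 + Y K := by
  have : lamSeries (1 : K) = 1 + C 1 * X := by rw [h1, map_one, one_mul]
  rw [gammaSeries_of_linear this, map_one, one_mul]

theorem gammaSeries_zero : gammaSeries (0 : K) = 1 := by
  rw [gammaSeries, lamSeries_zero, ← coe_substAlgHom (hasSubst_Y K), map_one]

theorem gammaSeries_finset_sum {ι : Type*} (s : Finset ι) (f : ι → K) :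
    gammaSeries (∑ i ∈ s, f i) = ∏ i ∈ s, gammaSeries (f i) := by
  classical
  induction s using Finset.induction_on with
  | empty => simp [gammaSeries_zero]
  | insert a s ha ih => rw [Finset.sum_insert ha, Finset.prod_insert ha, gammaSeries_add, ih]

theorem gammaSeries_multiset_sum (s : Multiset K) :
    gammaSeries s.sum = (s.map gammaSeries).prod := by
  induction s using Multiset.induction_on with
  | empty => simp [gammaSeries_zero]
  | cons a s ih => simp [gammaSeries_add, ih]

/-- `γ_t(y - 1) = 1 + (y - 1) t` when `λ_t(y) = 1 + y t` and `λ_t(1) = 1 + t`. -/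
theorem gammaSeries_sub_one (h1 : lamSeries (1 : K) = 1 + X) {y : K}
    (hy : lamSeries y = 1 + C y * X) : gammaSeries (y - 1) = 1 + C (y - 1) * X := by
  have h : gammaSeries (y - 1) * gammaSeries 1 = gammaSeries y := by
    rw [← gammaSeries_add, sub_add_cancel]
  rw [gammaSeries_one h1, gammaSeries_of_linear hy] at h
  calc gammaSeries (y - 1) = gammaSeries (y - 1) * ((1 + Y K) * (1 - X)) := by
        rw [one_add_Y_mul_one_sub, mul_one]
    _ = (1 + C y * Y K) * (1 - X) := by rw [← mul_assoc, h]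
    _ = (1 - X) + C y * (Y K * (1 - X)) := by ring
    _ = 1 + C (y - 1) * X := by rw [Y_mul_one_sub, map_sub, map_one]; ring

theorem gamma_sum_sub (h1 : lamSeries (1 : K) = 1 + X) (n : ℕ) (y : Fin n → K)
    (hy : ∀ i, lamSeries (y i) = 1 + C (y i) * X) (k : ℕ) :
    gamma k (∑ i : Fin n, y i - (n : K)) =
      ∑ s ∈ (univ : Finset (Fin n)).powersetCard k, ∏ i ∈ s, (y i - 1) := by
  have e : ∑ i : Fin n, y i - (n : K) = ∑ i : Fin n, (y i - 1) := by
    rw [Finset.sum_sub_distrib]; simp
  rw [e, ← coeff_gammaSeries, gammaSeries_finset_sum,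
    Finset.prod_congr rfl (fun i _ => gammaSeries_sub_one h1 (hy i)),
    coeff_prod_one_add_C_mul_X]

theorem lamSeries_of_vanish {y : K} (hy : ∀ j : ℕ, 2 ≤ j → LambdaOps.lam j y = 0) :
    lamSeries y = 1 + C y * X := by
  ext k
  rw [coeff_lamSeries]
  rcases k with _ | _ | k
  · simp [LambdaOps.lam_zero]
  · simp [LambdaOps.lam_one]
  · rw [hy (k + 2) (by omega)]
    simp [coeff_one, coeff_X]

end Groth.Agent.H2.Lam
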