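import Groth.Agent.Lib.Helper2.ARR1
import Groth.Agent.Lib.Helper2.LamGamma2

/-!
Elementary symmetric functions of an affine change of variables:
`e_n(x_k c + d) = Σ_q C(s-q, n-q) e_q(x) c^q d^(n-q)`.
-/

set_option autoImplicit false

namespace Groth.Agent.H2.GFE

open Finset PowerSeries Groth.Agent.H2.ARR Groth.Agent.H2.Lam

variable {A : Type*} [CommRing A]

theorem coeff_one_add_C_mul_X_pow (d : A) (N m : ℕ) :
    coeff m ((1 + C d * X : A⟦X⟧) ^ N) = (N.choose m : A) * d ^ m := by
  have h : (1 + C d * X : A⟦X⟧) = rescale d (1 + X) := by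
    rw [map_add, map_one, rescale_X]
  rw [h, ← map_pow, coeff_rescale, coeff_one_add_X_pow, mul_comm]

theorem coeff_es_series {s : ℕ} (y : Fin s → A) (n : ℕ) :
    coeff n (∏ k, (1 + C (y k) * X : A⟦X⟧)) = es y n := by
  rw [coeff_prod_one_add_C_mul_X]; rfl

theorem es_affine {s : ℕ} (x : Fin s → A) (c d : A) (n : ℕ) :
    es (fun k => x k * c + d) n =
      ∑ q ∈ range (n + 1), ((s - q).choose (n - q) : A) * (es x q * c ^ q * d ^ (n - q)) := by
  classical
  rw [← coeff_es_series]
  have h1 : ∀ k : Fin s, (1 + C (x k * c + d) * X : A⟦X⟧) = C (x k * c) * X + (1 + C d * X) := by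
    intro k
    rw [map_add]; ring
  rw [Finset.prod_congr rfl (fun k _ => h1 k), Finset.prod_add, map_sum]
  have h2 : ∀ t ∈ (univ : Finset (Fin s)).powerset,
      coeff n ((∏ k ∈ t, (C (x k * c) * X : A⟦X⟧)) * ∏ k ∈ univ \ t, (1 + C d * X : A⟦X⟧)) =
      if t.card ≤ n then ((s - t.card).choose (n - t.card) : A) *
        ((∏ k ∈ t, x k) * c ^ t.card * d ^ (n - t.card)) else 0 := by
    intro t _
    rw [Finset.prod_mul_distrib, Finset.prod_const, Finset.prod_const, ← map_prod,
      Finset.card_sdiff_of_subset (Finset.subset_univ t), Finset.card_univ, Fintype.card_fin,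
      mul_assoc, coeff_C_mul, coeff_X_pow_mul']
    split_ifs with h
    · rw [coeff_one_add_C_mul_X_pow, Finset.prod_mul_distrib, Finset.prod_const]; ring
    · rw [mul_zero]
  rw [Finset.sum_congr rfl h2, Finset.sum_powerset, Finset.card_univ, Fintype.card_fin]
  -- now a sum over q ≤ s
  have h3 : ∀ q ∈ range (s + 1), (∑ t ∈ powersetCard q (univ : Finset (Fin s)),
      if t.card ≤ n then ((s - t.card).choose (n - t.card) : A) *
        ((∏ k ∈ t, x k) * c ^ t.card * d ^ (n - t.card)) else 0) =
      if q ≤ n then ((s - q).choose (n - q) : A) * (es x q * c ^ q * d ^ (n - q)) else 0 := by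
    intro q _
    have : ∀ t ∈ powersetCard q (univ : Finset (Fin s)),
        (if t.card ≤ n then ((s - t.card).choose (n - t.card) : A) *
          ((∏ k ∈ t, x k) * c ^ t.card * d ^ (n - t.card)) else 0) =
        if q ≤ n then ((s - q).choose (n - q) : A) * ((∏ k ∈ t, x k) * c ^ q * d ^ (n - q))
          else 0 := by
      intro t ht
      rw [(Finset.mem_powersetCard.mp ht).2]
    rw [Finset.sum_congr rfl this]
    split_ifs with h
    · rw [es, Finset.sum_mul, Finset.sum_mul, Finset.mul_sum]
    · exact Finset.sum_const_zero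
  rw [Finset.sum_congr rfl h3, ← Finset.sum_filter]
  -- compare the index sets
  have h4 : ∀ q ∈ range (n + 1), ((s - q).choose (n - q) : A) * (es x q * c ^ q * d ^ (n - q)) =
      if q < s + 1 then ((s - q).choose (n - q) : A) * (es x q * c ^ q * d ^ (n - q)) else 0 := by
    intro q _
    split_ifs with h
    · rfl
    · rw [es_vanish x (by omega), zero_mul, zero_mul, mul_zero]
  rw [Finset.sum_congr rfl h4, ← Finset.sum_filter]
  apply Finset.sum_congr
  · ext q
    simp only [mem_filter, mem_range]
    omega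
  · intro _ _; rfl

end Groth.Agent.H2.GFE
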