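import Groth.Agent.Lib.Helper2.GFE1
import Groth.Agent.Lib.Helper2.LamFilt

/-!
The candidate filtration `G^k = Σ_{i ≤ r} F^{k-i} K · t^i` on an extension `L = K[t]` and its
multiplicativity.
-/

set_option autoImplicit false

namespace Groth.Agent.H2.GFE

open Finset LambdaRing Groth.Agent.H2.Lam

universe v

variable {K : Type v} [CommRing K] [LambdaOps K] (P : PosStructure K)
variable {L : Type v} [CommRing L] (ofe : K →+* L) (t : L) (r : ℕ)

/-- generators of `G^k` -/
def GkGen (k : ℕ) : Set L :=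
  {y | ∃ (i : ℕ) (a : K), i ≤ r ∧ a ∈ gammaFiltration P (k - i) ∧ y = ofe a * t ^ i}

/-- `G^k = Σ_{i ≤ r} F^{k-i} K · t^i` -/
def Gk (k : ℕ) : AddSubgroup L := AddSubgroup.closure (GkGen P ofe t r k)

theorem Gk_anti {k k' : ℕ} (h : k ≤ k') : Gk P ofe t r k' ≤ Gk P ofe t r k := by
  refine AddSubgroup.closure_mono ?_
  rintro y ⟨i, a, hi, ha, rfl⟩
  exact ⟨i, a, hi, gammaFiltration_anti P (by omega) ha, rfl⟩

theorem ofe_mul_mem {c d : ℕ} {a : K} (ha : a ∈ gammaFiltration P c) {y : L}
    (hy : y ∈ Gk P ofe t r d) : ofe a * y ∈ Gk P ofe t r (c + d) := by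
  induction hy using AddSubgroup.closure_induction with
  | mem y hy =>
    obtain ⟨i, a', hi, ha', rfl⟩ := hy
    refine AddSubgroup.subset_closure ⟨i, a * a', hi, ?_, by rw [map_mul, mul_assoc]⟩
    exact gammaFiltration_anti P (by omega) (mul_mem_filt P ha ha')
  | zero => rw [mul_zero]; exact zero_mem _
  | add y z _ _ hy hz => rw [mul_add]; exact add_mem hy hz
  | neg y _ hy => rw [mul_neg]; exact neg_mem hy

variable (c : ℕ → K) (hc : ∀ i, c i ∈ gammaFiltration P (i + 1))
  (hrel : t ^ (r + 1) = ∑ i ∈ range (r + 1), ofe (c i) * t ^ (r - i))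

include hc hrel in
theorem t_pow_mem (m : ℕ) : t ^ m ∈ Gk P ofe t r m := by
  induction m using Nat.strong_induction_on with
  | _ m ih =>
    by_cases hm : m ≤ r
    · refine AddSubgroup.subset_closure ⟨m, 1, hm, ?_, by rw [map_one, one_mul]⟩
      rw [Nat.sub_self, gammaFiltration_zero]; trivial
    · obtain ⟨q, rfl⟩ : ∃ q, m = q + (r + 1) := ⟨m - (r + 1), by omega⟩
      rw [pow_add, hrel, Finset.mul_sum]
      refine sum_mem ?_
      intro i hi
      rw [mem_range] at hi
      have h1 : t ^ q * (ofe (c i) * t ^ (r - i)) = ofe (c i) * t ^ (q + (r - i)) := by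
        rw [pow_add]; ring
      rw [h1]
      have h2 := ofe_mul_mem P ofe t r (hc i) (ih (q + (r - i)) (by omega))
      exact Gk_anti P ofe t r (by omega) h2

include hc hrel in
theorem t_pow_mul_mem (m : ℕ) {d : ℕ} {y : L} (hy : y ∈ Gk P ofe t r d) :
    t ^ m * y ∈ Gk P ofe t r (m + d) := by
  induction hy using AddSubgroup.closure_induction with
  | mem y hy =>
    obtain ⟨i, a', hi, ha', rfl⟩ := hy
    have h1 : t ^ m * (ofe a' * t ^ i) = ofe a' * t ^ (m + i) := by rw [pow_add]; ring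
    rw [h1]
    have h2 := ofe_mul_mem P ofe t r ha' (t_pow_mem P ofe t r c hc hrel (m + i))
    exact Gk_anti P ofe t r (by omega) h2
  | zero => rw [mul_zero]; exact zero_mem _
  | add y z _ _ hy hz => rw [mul_add]; exact add_mem hy hz
  | neg y _ hy => rw [mul_neg]; exact neg_mem hy

include hc hrel in
theorem Gk_mul_mem {a b : ℕ} {x y : L} (hx : x ∈ Gk P ofe t r a) (hy : y ∈ Gk P ofe t r b) :
    x * y ∈ Gk P ofe t r (a + b) := by
  induction hx using AddSubgroup.closure_induction with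
  | mem x hx =>
    obtain ⟨i, a', hi, ha', rfl⟩ := hx
    rw [mul_assoc]
    have h2 := ofe_mul_mem P ofe t r ha' (t_pow_mul_mem P ofe t r c hc hrel i hy)
    exact Gk_anti P ofe t r (by omega) h2
  | zero => rw [zero_mul]; exact zero_mem _
  | add x z _ _ hx hz => rw [add_mul]; exact add_mem hx hz
  | neg x _ hx => rw [neg_mul]; exact neg_mem hx

include hc hrel in
theorem Gk_pow_mem {a : ℕ} {x : L} (hx : x ∈ Gk P ofe t r a) (hG0 : Gk P ofe t r 0 = ⊤) (n : ℕ) :
    x ^ n ∈ Gk P ofe t r (n * a) := by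
  induction n with
  | zero => rw [Nat.zero_mul, hG0]; trivial
  | succ n ih =>
    rw [pow_succ, Nat.succ_mul]
    exact Gk_mul_mem P ofe t r c hc hrel ih hx

/-- `G^0` is everything when `L` is additively generated by the `ofe a * (t+1)^i`. -/
theorem Gk_zero (hc : ∀ i, c i ∈ gammaFiltration P (i + 1))
    (hrel : t ^ (r + 1) = ∑ i ∈ range (r + 1), ofe (c i) * t ^ (r - i))
    (hgen : ∀ x : L, x ∈ AddSubgroup.closure {y : L | ∃ (a : K) (i : ℕ), y = ofe a * (t + 1) ^ i}) :
    Gk P ofe t r 0 = ⊤ := by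
  rw [eq_top_iff]
  intro x hxtop
  clear hxtop
  have hx := hgen x
  induction hx using AddSubgroup.closure_induction with
  | mem y hy =>
    obtain ⟨a, i, rfl⟩ := hy
    have h1 : (t + 1) ^ i ∈ Gk P ofe t r 0 := by
      rw [add_pow]
      refine sum_mem ?_
      intro m _
      rw [one_pow, mul_one, mul_comm, ← nsmul_eq_mul]
      refine AddSubgroup.nsmul_mem _ ?_ _
      exact Gk_anti P ofe t r (Nat.zero_le m) (t_pow_mem P ofe t r c hc hrel m)
    have h2 := ofe_mul_mem P ofe t r (a := a) (c := 0) (by rw [gammaFiltration_zero]; trivial) h1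
    simpa using h2
  | zero => exact zero_mem _
  | add y z _ _ hy hz => exact add_mem hy hz
  | neg y _ hy => exact neg_mem hy

end Groth.Agent.H2.GFE
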