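import Groth.Agent.Lib.Helper2.LamSym2
import Groth.Agent.Lib.Helper2.LamSplit2

set_option autoImplicit false

namespace Groth.Agent.H2.Lam

open MvPolynomial LambdaRing

universe u

theorem exists_fin_fun {α : Type*} (s : Multiset α) :
    ∃ (n : ℕ) (v : Fin n → α), s = Finset.univ.val.map v := by
  induction s using Quot.inductionOn with
  | h l =>
    refine ⟨l.length, l.get, ?_⟩
    rw [Fin.univ_val_map, List.ofFn_get]
    rfl

section Filt

variable {K : Type u} [CommRing K] [LambdaOps K] (P : PosStructure K)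

theorem prod_mem_filt {ι : Type*} (s : Finset ι) (x : ι → K) (n : ι → ℕ)
    (h : ∀ i ∈ s, x i ∈ gammaFiltration P (n i)) :
    ∏ i ∈ s, x i ∈ gammaFiltration P (∑ i ∈ s, n i) := by
  classical
  induction s using Finset.induction_on with
  | empty => rw [Finset.sum_empty, gammaFiltration_zero]; trivial
  | insert a s ha ih =>
    rw [Finset.prod_insert ha, Finset.sum_insert ha]
    exact mul_mem_filt P (h a (Finset.mem_insert_self a s))
      (ih fun i hi => h i (Finset.mem_insert_of_mem hi))

theorem aeval_mem_filt {m N : ℕ} (c : Fin m → K) (hc : ∀ i, c i ∈ gammaFiltration P (wt m i))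
    (q : MvPolynomial (Fin m) ℤ) (hq : ∀ t, coeff t q ≠ 0 → N ≤ Finsupp.weight (wt m) t) :
    aeval c q ∈ gammaFiltration P N := by
  rw [q.as_sum, map_sum]
  refine sum_mem ?_
  intro t ht
  rw [mem_support_iff] at ht
  rw [aeval_monomial]
  refine mul_mem_left P N _ ?_
  refine gammaFiltration_anti P (hq t ht) ?_
  rw [Finsupp.weight_apply, Finsupp.prod, Finsupp.sum]
  have e : ∑ i ∈ t.support, t i • wt m i = ∑ i ∈ t.support, t i * wt m i :=
    Finset.sum_congr rfl (fun i _ => by simp)
  rw [e]
  exact prod_mem_filt P t.support (fun i => c i ^ t i) (fun i => t i * wt m i)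
    (fun i _ => pow_mem_filt P (hc i) (t i))

end Filt

section Lines

variable {K : Type u} [CommRing K] [LambdaOps K] (P : PosStructure K)
variable {m : ℕ} (v : Fin m → K)

omit [LambdaOps K] in
theorem aeval_esymm_eq (a : Fin m → K) (i : ℕ) :
    aeval a (esymm (Fin m) ℤ i) = ∑ S ∈ Finset.powersetCard i Finset.univ, ∏ k ∈ S, a k := by
  simp [esymm, map_sum, map_prod]

theorem gamma_fin_lines (hv : ∀ k, P.IsLine (v k)) (i : ℕ) :
    gamma i (∑ k, v k - (m : K)) = aeval (fun k => v k - 1) (esymm (Fin m) ℤ i) := by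
  rw [aeval_esymm_eq]
  exact gamma_sum_sub (lamSeries_one P) m v (fun k => lamSeries_of_line P (hv k)) i

theorem adams_sub_one_line (hv : ∀ k, P.IsLine (v k)) (j : ℕ) (k : Fin m) :
    adams P j (v k - 1) = aeval (fun k => v k - 1) (X k * Gk m j k) := by
  rw [X_mul_Gk, adams_sub, adams_of_line P (hv k), adams_one]
  simp

theorem adams_gamma_fin_lines (hK : HasSplitting K P) (hv : ∀ k, P.IsLine (v k)) (j r : ℕ) :
    adams P j (gamma r (∑ k, v k - (m : K))) - (j : K) ^ r * gamma r (∑ k, v k - (m : K)) =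
      aeval (fun k => v k - 1) (psiPoly m j r) := by
  rw [psiPoly, map_sub, map_mul, ← gamma_fin_lines P v hv]
  congr 1
  · rw [gamma_fin_lines P v hv, aeval_esymm_eq, ← adamsRingHom_apply hK, map_sum]
    rw [esymm, map_sum, map_sum]
    apply Finset.sum_congr rfl
    intro S _
    rw [map_prod, map_prod, map_prod]
    apply Finset.prod_congr rfl
    intro k _
    rw [adamsRingHom_apply, adams_sub_one_line P v hv, aeval_X]
  · simp

end Lines

section Main

variable {K : Type u} [CommRing K] [LambdaOps K] {P : PosStructure K}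

/-- The key congruence `ψ^j(γ^r(e - m)) ≡ j^r γ^r(e - m)` modulo `F^{r+1}`. -/
theorem adams_gamma_sub_mem (hK : HasSplitting K P) (j : ℕ) {e : K} (he : e ∈ P.pos) (r : ℕ) :
    adams P j (gamma r (e - ((P.aug e).toNat : K))) -
        (j : K) ^ r * gamma r (e - ((P.aug e).toNat : K)) ∈ gammaFiltration P (r + 1) := by
  obtain ⟨L, f, hf, hL, s, hs, hsum⟩ := exists_split hK he
  obtain ⟨n, v, rfl⟩ := exists_fin_fun s
  have hv : ∀ k, L.posStr.IsLine (v k) := fun k =>
    hs (v k) (Multiset.mem_map.mpr ⟨k, Finset.mem_univ_val k, rfl⟩)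
  have hm : (P.aug e).toNat = n := by
    have := aug_sum_lines L.posStr hs
    rw [hsum, hf.aug_comp, Multiset.card_map] at this
    rw [this]; simp
  rw [hm]
  have hsum' : ∑ k, v k = f e := hsum
  have haug : P.aug (e - (n : K)) = 0 := by
    have hpos := P.aug_pos e he
    rw [map_sub, map_natCast]; omega
  let c : Fin n → K := fun i => gamma ((i : ℕ) + 1) (e - (n : K))
  have hc : ∀ i, c i ∈ gammaFiltration P (wt n i) := fun i => gamma_mem P haug _
  have hfy : f (e - (n : K)) = ∑ k, v k - (n : L.carrier) := by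
    rw [map_sub, map_natCast, hsum']
  have key : adams P j (gamma r (e - (n : K))) - (j : K) ^ r * gamma r (e - (n : K)) =
      aeval c (psiQ n j r) := by
    apply hf.injective
    have h1 : f (aeval c (psiQ n j r)) =
        aeval (fun i => f (c i)) (psiQ n j r) := by
      have := comp_aeval (R := ℤ) (f := c) (f.toIntAlgHom)
      exact DFunLike.congr_fun this (psiQ n j r)
    have h2 : (fun i => f (c i)) =
        fun i : Fin n => aeval (fun k => v k - 1) (esymm (Fin n) ℤ ((i : ℕ) + 1)) := by
      funext i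
      show f (gamma ((i : ℕ) + 1) (e - (n : K))) = _
      rw [map_gamma hf.isLambdaHom, hfy, gamma_fin_lines L.posStr v hv]
    have h3 : aeval (fun i : Fin n => aeval (fun k => v k - 1) (esymm (Fin n) ℤ ((i : ℕ) + 1)))
        (psiQ n j r) = aeval (fun k => v k - 1) (E n (psiQ n j r)) := by
      have := comp_aeval (R := ℤ) (f := fun i : Fin n => esymm (Fin n) ℤ ((i : ℕ) + 1))
        (aeval (R := ℤ) (fun k => v k - 1))
      exact (DFunLike.congr_fun this (psiQ n j r)).symm
    rw [h1, h2, h3, E_psiQ, ← adams_gamma_fin_lines L.posStr v hL hv, map_sub, map_mul, map_pow,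
      map_natCast, isExtension_map_adams hf, map_gamma hf.isLambdaHom, hfy]
  rw [key]
  exact aeval_mem_filt P c hc _ (psiQ_weight n j r)

end Main

end Groth.Agent.H2.Lam
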