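import Groth.Agent.Lib.Helper2.GFE2
import Groth.Agent.Lib.Helper2.LamSplit2
import Groth.Agent.Lib.Helper2.LamSymK

/-!
The γ-filtration of an elementary extension: `F^k L = Σ_{i ≤ r} F^{k-i} K · (ℓ-1)^i`.
-/

set_option autoImplicit false

namespace Groth.Agent.H2.GFE

open Finset LambdaRing PowerSeries Groth.Agent.H2.Lam Groth.Agent.H2.ARR

universe v

section MapFilt

variable {K : Type v} [CommRing K] [LambdaOps K] (P : PosStructure K)
variable {L : Type v} [CommRing L] [LambdaOps L] (PL : PosStructure L)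

theorem map_mem_filt (g : K →+* L) (hg : IsLambdaHom g) (haug : ∀ x, PL.aug (g x) = P.aug x)
    {n : ℕ} {x : K} (hx : x ∈ gammaFiltration P n) : g x ∈ gammaFiltration PL n := by
  rcases Nat.eq_zero_or_pos n with rfl | hn
  · rw [gammaFiltration_zero]; trivial
  rw [gammaFiltration_of_pos P hn.ne'] at hx
  induction hx using AddSubgroup.closure_induction with
  | mem y hy =>
    obtain ⟨l, h1, h2, rfl⟩ := hy
    refine subset_gammaFiltration PL n ⟨l.map (fun p => (p.1, g p.2)), ?_, ?_, ?_⟩
    · intro p hp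
      obtain ⟨q, hq, rfl⟩ := List.mem_map.mp hp
      show PL.aug (g q.2) = 0
      rw [haug]; exact h1 q hq
    · rw [List.map_map]
      have : (Prod.fst ∘ fun p : ℕ × K => (p.1, g p.2)) = Prod.fst := by funext p; rfl
      rw [this]; exact h2
    · rw [map_list_prod, List.map_map, List.map_map]
      congr 1
      apply List.map_congr_left
      intro p _
      simp only [Function.comp_apply]
      exact map_gamma hg p.1 p.2
  | zero => rw [map_zero]; exact zero_mem _
  | add y z _ _ hy hz => rw [map_add]; exact add_mem hy hz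
  | neg y _ hy => rw [map_neg]; exact neg_mem hy

end MapFilt

section Formula

variable {K : Type v} [CommRing K] [LambdaOps K] {P : PosStructure K}
variable {L : Type v} [CommRing L] [LambdaOps L] {PL : PosStructure L}

/-- `γ^n(b ℓ^i - s)` for positive `b` of augmentation `s` and a line element `ℓ`. -/
theorem gamma_pos_mul_line (hL : HasSplitting L PL) (ofe : K →+* L) (hofe : IsExtension P PL ofe)
    {ℓ : L} (hℓ : PL.IsLine ℓ) {b : K} (hb : b ∈ P.pos) (i n : ℕ) :
    gamma n (ofe b * ℓ ^ i - (((P.aug b).toNat : ℕ) : L)) =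
      ∑ q ∈ range (n + 1), ((((P.aug b).toNat - q).choose (n - q) : ℕ) : L) *
        (ofe (gamma q (b - (((P.aug b).toNat : ℕ) : K))) * (ℓ ^ i) ^ q * (ℓ ^ i - 1) ^ (n - q)) := by
  obtain ⟨L', g, hg, -, S, hS, hsum⟩ := exists_split hL (hofe.pos_subset b hb)
  obtain ⟨s, β, rfl⟩ := exists_fin_fun S
  have hβ : ∀ k, L'.posStr.IsLine (β k) := fun k =>
    hS (β k) (Multiset.mem_map.mpr ⟨k, Finset.mem_univ_val k, rfl⟩)
  have hsum' : ∑ k, β k = g (ofe b) := hsum
  have hs : (P.aug b).toNat = s := by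
    have h : L'.posStr.aug (g (ofe b)) = s := by
      rw [← hsum', map_sum, Finset.sum_congr rfl (fun k _ => (hβ k).2)]; simp
    rw [hg.aug_comp, hofe.aug_comp] at h
    rw [h]; simp
  rw [hs]
  apply hg.injective
  have hgl := isExtension_isLine hg hℓ
  have hw : ∀ k, L'.posStr.IsLine (β k * g ℓ ^ i) := fun k =>
    isLine_mul L'.posStr (hβ k) (isLine_pow L'.posStr hgl i)
  have h1 := lamSeries_one L'.posStr
  have hL1 : g (ofe b * ℓ ^ i - ((s : ℕ) : L)) = ∑ k, β k * g ℓ ^ i - ((s : ℕ) : L'.carrier) := by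
    rw [map_sub, map_mul, map_pow, map_natCast, ← hsum', Finset.sum_mul]
  rw [map_gamma hg.isLambdaHom, hL1,
    gamma_sum_sub h1 s (fun k => β k * g ℓ ^ i) (fun k => lamSeries_of_line L'.posStr (hw k)) n]
  have h2 : ∀ k, β k * g ℓ ^ i - 1 = (β k - 1) * g ℓ ^ i + (g ℓ ^ i - 1) := by intro k; ring
  have h3 := es_affine (fun k => β k - 1) (g ℓ ^ i) (g ℓ ^ i - 1) n
  simp only [es] at h3
  rw [Finset.sum_congr rfl (fun S _ => Finset.prod_congr rfl (fun k _ => h2 k)), h3, map_sum]
  apply Finset.sum_congr rfl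
  intro q _
  rw [map_mul, map_natCast, map_mul, map_mul, map_pow, map_pow, map_pow, map_sub, map_pow, map_one]
  congr 3
  -- the γ's of `b - s`
  have hcomp : IsLambdaHom (g.comp ofe) := fun j x => by
    rw [RingHom.comp_apply, RingHom.comp_apply, hofe.isLambdaHom, hg.isLambdaHom]
  have h4 : g (ofe (gamma q (b - ((s : ℕ) : K)))) = gamma q (∑ k, β k - ((s : ℕ) : L'.carrier)) := by
    have := map_gamma hcomp q (b - ((s : ℕ) : K))
    rw [RingHom.comp_apply, RingHom.comp_apply, map_sub, map_sub, map_natCast, map_natCast,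
      ← hsum'] at this
    exact this
  rw [h4, gamma_sum_sub h1 s β (fun k => lamSeries_of_line L'.posStr (hβ k)) q]

end Formula

end Groth.Agent.H2.GFE
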