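import Groth.Agent.Lib.Helper2.GFE3

/-!
The γ-filtration of an elementary extension, main theorem (abstract form).
-/

set_option autoImplicit false

namespace Groth.Agent.H2.GFE

open Finset LambdaRing PowerSeries Groth.Agent.H2.Lam Groth.Agent.H2.ARR

universe v

variable {K : Type v} [CommRing K] [LambdaOps K] (P : PosStructure K)
variable {L : Type v} [CommRing L] [LambdaOps L] (PL : PosStructure L)
variable (ofe : K →+* L) (t : L) (r : ℕ)

/-- coefficientwise membership in the candidate filtration -/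
def SerG (F : L⟦X⟧) : Prop := ∀ n, coeff n F ∈ Gk P ofe t r n

variable (c : ℕ → K) (hc : ∀ i, c i ∈ gammaFiltration P (i + 1))
  (hrel : t ^ (r + 1) = ∑ i ∈ range (r + 1), ofe (c i) * t ^ (r - i))
  (hG0 : Gk P ofe t r 0 = ⊤)

include hG0 in
theorem SerG_one : SerG P ofe t r (1 : L⟦X⟧) := by
  intro n
  rw [coeff_one]
  split_ifs with h
  · subst h; rw [hG0]; trivial
  · exact zero_mem _

include hc hrel in
theorem SerG_mul {F H : L⟦X⟧} (hF : SerG P ofe t r F) (hH : SerG P ofe t r H) :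
    SerG P ofe t r (F * H) := by
  intro n
  rw [coeff_mul]
  refine sum_mem ?_
  intro p hp
  have h := Gk_mul_mem P ofe t r c hc hrel (hF p.1) (hH p.2)
  rwa [Finset.HasAntidiagonal.mem_antidiagonal.mp hp] at h

include hc hrel in
theorem SerG_inv {F H : L⟦X⟧} (hF : SerG P ofe t r F) (hF0 : coeff 0 F = 1) (hFH : F * H = 1) :
    SerG P ofe t r H := by
  intro n
  induction n using Nat.strong_induction_on with
  | _ n ih =>
    have h := congrArg (coeff n) hFH
    rw [coeff_mul, Finset.Nat.sum_antidiagonal_eq_sum_range_succ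
      (fun i j => coeff i F * coeff j H), Finset.sum_range_succ', hF0, one_mul, Nat.sub_zero] at h
    have h2 : coeff n H = coeff n (1 : L⟦X⟧) -
        ∑ i ∈ range n, coeff (i + 1) F * coeff (n - (i + 1)) H := by
      rw [← h]; ring
    rw [h2]
    refine sub_mem ?_ (sum_mem ?_)
    · rw [coeff_one]
      split_ifs with h0
      · subst h0
        have := Gk_mul_mem P ofe t r c hc hrel (hF 0) (hF 0)
        rw [hF0, mul_one] at this
        exact this
      · exact zero_mem _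
    · intro i hi
      rw [mem_range] at hi
      have h3 := Gk_mul_mem P ofe t r c hc hrel (hF (i + 1)) (ih (n - (i + 1)) (by omega))
      rwa [show i + 1 + (n - (i + 1)) = n by omega] at h3

variable {P PL}

/-- the key membership: `γ^n(ofe b ℓ^i - s) ∈ G^n` -/
theorem gamma_pos_mul_line_mem (hL : HasSplitting L PL) (hofe : IsExtension P PL ofe)
    {ℓ : L} (hℓ : PL.IsLine ℓ)
    (hc : ∀ i, c i ∈ gammaFiltration P (i + 1))
    (hrel : (ℓ - 1) ^ (r + 1) = ∑ i ∈ range (r + 1), ofe (c i) * (ℓ - 1) ^ (r - i))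
    (hG0 : Gk P ofe (ℓ - 1) r 0 = ⊤) {b : K} (hb : b ∈ P.pos) (i n : ℕ) :
    gamma n (ofe b * ℓ ^ i - (((P.aug b).toNat : ℕ) : L)) ∈ Gk P ofe (ℓ - 1) r n := by
  rw [gamma_pos_mul_line hL ofe hofe hℓ hb i n]
  refine sum_mem ?_
  intro q hq
  rw [mem_range] at hq
  rw [← nsmul_eq_mul]
  refine AddSubgroup.nsmul_mem _ ?_ _
  have haug : P.aug (b - (((P.aug b).toNat : ℕ) : K)) = 0 := by
    have hpos := P.aug_pos b hb
    rw [map_sub, map_natCast]
    have : (((P.aug b).toNat : ℕ) : ℤ) = P.aug b := Int.toNat_of_nonneg hpos.le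
    rw [this, sub_self]
  have h1 : gamma q (b - (((P.aug b).toNat : ℕ) : K)) ∈ gammaFiltration P q := gamma_mem P haug q
  have h2 : (ℓ ^ i - 1) ∈ Gk P ofe (ℓ - 1) r 1 := by
    have h3 : ℓ ^ i - 1 = (ℓ - 1) ^ 1 * ∑ a ∈ range i, ℓ ^ a := by
      rw [pow_one, mul_geom_sum]
    rw [h3]
    have := t_pow_mul_mem P ofe (ℓ - 1) r c hc hrel 1 (d := 0) (y := ∑ a ∈ range i, ℓ ^ a)
      (by rw [hG0]; trivial)
    exact this
  have h4 : (ℓ ^ i - 1) ^ (n - q) ∈ Gk P ofe (ℓ - 1) r (n - q) := by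
    have := Gk_pow_mem P ofe (ℓ - 1) r c hc hrel h2 hG0 (n - q)
    rwa [mul_one] at this
  have h5 : (ℓ ^ i) ^ q * (ℓ ^ i - 1) ^ (n - q) ∈ Gk P ofe (ℓ - 1) r (0 + (n - q)) :=
    Gk_mul_mem P ofe (ℓ - 1) r c hc hrel (by rw [hG0]; trivial) h4
  have h6 := ofe_mul_mem P ofe (ℓ - 1) r h1 h5
  rw [mul_assoc]
  exact Gk_anti P ofe (ℓ - 1) r (by omega) h6

/-- `γ_t(x - ε x)` has coefficients in the candidate filtration, for every `x`. -/
theorem SerG_gammaSeries (hL : HasSplitting L PL) (hofe : IsExtension P PL ofe)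
    {ℓ : L} (hℓ : PL.IsLine ℓ)
    (hc : ∀ i, c i ∈ gammaFiltration P (i + 1))
    (hrel : (ℓ - 1) ^ (r + 1) = ∑ i ∈ range (r + 1), ofe (c i) * (ℓ - 1) ^ (r - i))
    (hG0 : Gk P ofe (ℓ - 1) r 0 = ⊤)
    (hgen : ∀ x : L, x ∈ AddSubgroup.closure {y : L | ∃ (a : K) (i : ℕ), y = ofe a * ℓ ^ i})
    (x : L) : SerG P ofe (ℓ - 1) r (gammaSeries (x - ((PL.aug x : ℤ) : L))) := by
  have hx := hgen x
  have hadd : ∀ y z : L, SerG P ofe (ℓ - 1) r (gammaSeries (y - ((PL.aug y : ℤ) : L))) →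
      SerG P ofe (ℓ - 1) r (gammaSeries (z - ((PL.aug z : ℤ) : L))) →
      SerG P ofe (ℓ - 1) r (gammaSeries (y + z - ((PL.aug (y + z) : ℤ) : L))) := by
    intro y z hy hz
    have : y + z - ((PL.aug (y + z) : ℤ) : L) =
        (y - ((PL.aug y : ℤ) : L)) + (z - ((PL.aug z : ℤ) : L)) := by
      rw [map_add]; push_cast; ring
    rw [this, gammaSeries_add]
    exact SerG_mul P ofe (ℓ - 1) r c hc hrel hy hz
  have hneg : ∀ y : L, SerG P ofe (ℓ - 1) r (gammaSeries (y - ((PL.aug y : ℤ) : L))) →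
      SerG P ofe (ℓ - 1) r (gammaSeries (-y - ((PL.aug (-y) : ℤ) : L))) := by
    intro y hy
    have h1 : gammaSeries (y - ((PL.aug y : ℤ) : L)) *
        gammaSeries (-y - ((PL.aug (-y) : ℤ) : L)) = 1 := by
      rw [← gammaSeries_add, ← gammaSeries_zero]
      congr 1
      rw [map_neg]; push_cast; ring
    refine SerG_inv P ofe (ℓ - 1) r c hc hrel hy ?_ h1
    rw [coeff_gammaSeries, gamma_zero]
  induction hx using AddSubgroup.closure_induction with
  | mem y hy =>
    obtain ⟨a, i, rfl⟩ := hy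
    obtain ⟨b, b', hb, hb', rfl⟩ := P.exists_sub a
    have key : ∀ b ∈ P.pos, SerG P ofe (ℓ - 1) r
        (gammaSeries (ofe b * ℓ ^ i - ((PL.aug (ofe b * ℓ ^ i) : ℤ) : L))) := by
      intro b hb n
      rw [coeff_gammaSeries]
      have haug : ((PL.aug (ofe b * ℓ ^ i) : ℤ) : L) = (((P.aug b).toNat : ℕ) : L) := by
        rw [map_mul, map_pow, hℓ.2, one_pow, mul_one, hofe.aug_comp]
        have : (((P.aug b).toNat : ℕ) : ℤ) = P.aug b := Int.toNat_of_nonneg (P.aug_pos b hb).le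
        rw [← this]; push_cast; rfl
      rw [haug]
      exact gamma_pos_mul_line_mem ofe r c hL hofe hℓ hc hrel hG0 hb i n
    have e : ofe (b - b') * ℓ ^ i = ofe b * ℓ ^ i + -(ofe b' * ℓ ^ i) := by
      rw [map_sub]; ring
    rw [e]
    exact hadd _ _ (key b hb) (hneg _ (key b' hb'))
  | zero =>
    rw [map_zero]
    simp only [Int.cast_zero, sub_zero]
    rw [gammaSeries_zero]
    exact SerG_one P ofe (ℓ - 1) r hG0
  | add y z _ _ hy hz => exact hadd y z hy hz
  | neg y _ hy => exact hneg y hy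

/-- The main theorem in abstract form. -/
theorem filt_eq_Gk (hL : HasSplitting L PL) (hofe : IsExtension P PL ofe)
    {ℓ : L} (hℓ : PL.IsLine ℓ)
    (hc : ∀ i, c i ∈ gammaFiltration P (i + 1))
    (hrel : (ℓ - 1) ^ (r + 1) = ∑ i ∈ range (r + 1), ofe (c i) * (ℓ - 1) ^ (r - i))
    (hgen : ∀ x : L, x ∈ AddSubgroup.closure {y : L | ∃ (a : K) (i : ℕ), y = ofe a * ℓ ^ i})
    (k : ℕ) : gammaFiltration PL k = Gk P ofe (ℓ - 1) r k := by
  have hG0 : Gk P ofe (ℓ - 1) r 0 = ⊤ := by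
    refine Gk_zero P ofe (ℓ - 1) r c hc hrel ?_
    intro x
    have := hgen x
    simpa using this
  apply le_antisymm
  · -- `F^k L ≤ G^k`
    rcases Nat.eq_zero_or_pos k with rfl | hk
    · rw [hG0]; exact le_top
    rw [gammaFiltration_of_pos PL hk.ne']
    rw [AddSubgroup.closure_le]
    rintro y ⟨l, h1, h2, rfl⟩
    have hprod : (l.map fun p => gamma p.1 p.2).prod ∈ Gk P ofe (ℓ - 1) r (l.map Prod.fst).sum := by
      clear h2
      induction l with
      | nil => simp only [List.map_nil, List.prod_nil, List.sum_nil]; rw [hG0]; trivial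
      | cons p l ih =>
        simp only [List.map_cons, List.prod_cons, List.sum_cons]
        refine Gk_mul_mem P ofe (ℓ - 1) r c hc hrel ?_
          (ih (fun q hq => h1 q (List.mem_cons_of_mem _ hq)))
        have h3 := SerG_gammaSeries ofe r c hL hofe hℓ hc hrel hG0 hgen p.2 p.1
        rw [h1 p (List.mem_cons_self ..), Int.cast_zero, sub_zero, coeff_gammaSeries] at h3
        exact h3
    exact Gk_anti P ofe (ℓ - 1) r h2 hprod
  · -- `G^k ≤ F^k L`
    rw [Gk, AddSubgroup.closure_le]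
    rintro y ⟨i, a, hi, ha, rfl⟩
    have h1 : ofe a ∈ gammaFiltration PL (k - i) :=
      map_mem_filt P PL ofe hofe.isLambdaHom hofe.aug_comp ha
    have h2 : (ℓ - 1) ∈ gammaFiltration PL 1 := by
      refine mem_one_of_aug_eq_zero PL ?_
      rw [map_sub, hℓ.2, map_one, sub_self]
    have h3 := pow_mem_filt PL h2 i
    rw [mul_one] at h3
    exact gammaFiltration_anti PL (by omega) (mul_mem_filt PL h1 h3)

end Groth.Agent.H2.GFE
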