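import Groth.Agent.Lib.Helper2.LamGamma2

set_option autoImplicit false

namespace Groth.Agent.H2.Lam

open PowerSeries Finset LambdaRing

universe u
variable {K : Type u} [CommRing K]

theorem natDegree_one_sub_X_le : (1 - Polynomial.X : Polynomial K).natDegree ≤ 1 :=
  (Polynomial.natDegree_sub_le _ _).trans (max_le (by simp) Polynomial.natDegree_X_le)

theorem natDegree_one_sub_X_pow_le (n : ℕ) :
    ((1 - Polynomial.X : Polynomial K) ^ n).natDegree ≤ n := by
  refine (Polynomial.natDegree_pow_le).trans ?_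
  have := Nat.mul_le_mul_left n (natDegree_one_sub_X_le (K := K))
  simpa using this

theorem reflect_one_sub_X_pow (n : ℕ) :
    Polynomial.reflect n ((1 - Polynomial.X : Polynomial K) ^ n) = (Polynomial.X - 1) ^ n := by
  have h1 : Polynomial.reflect 1 (1 - Polynomial.X : Polynomial K) = Polynomial.X - 1 := by
    rw [Polynomial.reflect_sub, Polynomial.reflect_one, pow_one]
    have := Polynomial.reflect_monomial (R := K) 1 1
    rw [pow_one] at this
    rw [this]
    simp
  induction n with
  | zero => simp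
  | succ n ih =>
    rw [pow_succ, Polynomial.reflect_mul _ _ (natDegree_one_sub_X_pow_le n) natDegree_one_sub_X_le,
      ih, h1, pow_succ]

theorem reflect_X_pow_mul_one_sub_X_pow (j k : ℕ) :
    Polynomial.reflect (j + k) ((Polynomial.X : Polynomial K) ^ j * (1 - Polynomial.X) ^ k) =
      (Polynomial.X - 1) ^ k := by
  rw [Polynomial.reflect_mul _ _ (Polynomial.natDegree_X_pow_le j) (natDegree_one_sub_X_pow_le k),
    Polynomial.reflect_monomial, Polynomial.revAt_le le_rfl, Nat.sub_self, pow_zero, one_mul,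
    reflect_one_sub_X_pow]

theorem reflect_eq_sum {p : Polynomial K} {m : ℕ} (hp : p.natDegree ≤ m) :
    Polynomial.reflect m p =
      ∑ i ∈ range (m + 1), Polynomial.C (p.coeff i) * Polynomial.X ^ (m - i) := by
  ext i
  rw [Polynomial.coeff_reflect, Polynomial.finsetSum_coeff]
  simp only [Polynomial.coeff_C_mul_X_pow]
  by_cases hi : i ≤ m
  · rw [Polynomial.revAt_le hi, Finset.sum_eq_single (m - i)]
    · rw [if_pos (by omega)]
    · intro b hb hne
      rw [mem_range] at hb
      rw [if_neg (by omega)]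
    · intro h
      rw [mem_range] at h
      omega
  · rw [Polynomial.revAt_eq_self_of_lt (by omega),
      Polynomial.coeff_eq_zero_of_natDegree_lt (by omega)]
    symm
    apply Finset.sum_eq_zero
    intro b hb
    rw [mem_range] at hb
    rw [if_neg (by omega)]

variable [LambdaOps K]

theorem gammaSeries_natCast (n : ℕ) : gammaSeries (n : K) = gammaSeries (1 : K) ^ n := by
  induction n with
  | zero => simp [gammaSeries_zero]
  | succ n ih => rw [Nat.cast_succ, gammaSeries_add, ih, pow_succ]

theorem gammaSeries_sub_natCast (h1 : lamSeries (1 : K) = 1 + X) (x : K) (m : ℕ) :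
    gammaSeries (x - (m : K)) = gammaSeries x * (1 - X) ^ m := by
  have h : gammaSeries (x - (m : K)) * gammaSeries (m : K) = gammaSeries x := by
    rw [← gammaSeries_add, sub_add_cancel]
  rw [gammaSeries_natCast, gammaSeries_one h1] at h
  calc gammaSeries (x - (m : K)) = gammaSeries (x - (m : K)) * ((1 + Y K) * (1 - X)) ^ m := by
        rw [one_add_Y_mul_one_sub, one_pow, mul_one]
    _ = gammaSeries x * (1 - X) ^ m := by rw [mul_pow, ← mul_assoc, h]

/-- a polynomial `λ`-series -/
theorem lamSeries_eq_sum {x : K} {m : ℕ} (hx : ∀ i, m < i → LambdaOps.lam i x = 0) :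
    lamSeries x = ∑ j ∈ range (m + 1), C (LambdaOps.lam j x) * X ^ j := by
  ext k
  rw [coeff_lamSeries, map_sum]
  simp only [coeff_C_mul, coeff_X_pow]
  by_cases hk : k ≤ m
  · rw [Finset.sum_eq_single k]
    · simp
    · intro b _ hne
      rw [if_neg (Ne.symm hne), mul_zero]
    · intro h
      rw [mem_range] at h
      omega
  · rw [hx k (by omega)]
    symm
    apply Finset.sum_eq_zero
    intro b hb
    rw [mem_range] at hb
    rw [if_neg (by omega), mul_zero]

theorem gammaSeries_eq_sum {x : K} {m : ℕ} (hx : ∀ i, m < i → LambdaOps.lam i x = 0) :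
    gammaSeries x = ∑ j ∈ range (m + 1), C (LambdaOps.lam j x) * Y K ^ j := by
  rw [gammaSeries, lamSeries_eq_sum hx, ← coe_substAlgHom (hasSubst_Y K), map_sum]
  apply Finset.sum_congr rfl
  intro j _
  rw [map_mul, map_pow, substAlgHom_X]
  congr 1
  rw [coe_substAlgHom, subst_C]
  rfl

/-- The polynomial whose coefficients are the `γ^i(x - m)`. -/
noncomputable def gammaPoly (x : K) (m : ℕ) : Polynomial K :=
  ∑ j ∈ range (m + 1), Polynomial.C (LambdaOps.lam j x) *
    (Polynomial.X ^ j * (1 - Polynomial.X) ^ (m - j))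

theorem gammaPoly_coe (h1 : lamSeries (1 : K) = 1 + X) {x : K} {m : ℕ}
    (hx : ∀ i, m < i → LambdaOps.lam i x = 0) :
    ((gammaPoly x m : Polynomial K) : K⟦X⟧) = gammaSeries (x - (m : K)) := by
  rw [gammaSeries_sub_natCast h1, gammaSeries_eq_sum hx, Finset.sum_mul, gammaPoly,
    ← Polynomial.coeToPowerSeries.ringHom_apply, map_sum]
  apply Finset.sum_congr rfl
  intro j hj
  rw [mem_range] at hj
  rw [Polynomial.coeToPowerSeries.ringHom_apply, Polynomial.coe_mul, Polynomial.coe_mul,
    Polynomial.coe_C, Polynomial.coe_pow, Polynomial.coe_pow, Polynomial.coe_sub, Polynomial.coe_one,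
    Polynomial.coe_X]
  obtain ⟨k, rfl⟩ : ∃ k, m = j + k := ⟨m - j, by omega⟩
  rw [show j + k - j = k by omega, pow_add]
  symm
  calc C (LambdaOps.lam j x) * Y K ^ j * ((1 - X) ^ j * (1 - X) ^ k)
      = C (LambdaOps.lam j x) * ((Y K * (1 - X)) ^ j * (1 - X) ^ k) := by
        rw [mul_pow]; ring
    _ = _ := by rw [Y_mul_one_sub]

theorem natDegree_gammaPoly_le (x : K) (m : ℕ) : (gammaPoly x m).natDegree ≤ m := by
  refine Polynomial.natDegree_sum_le_of_forall_le _ _ ?_
  intro j hj
  rw [mem_range] at hj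
  refine (Polynomial.natDegree_C_mul_le _ _).trans ?_
  refine (Polynomial.natDegree_mul_le).trans ?_
  have := natDegree_one_sub_X_pow_le (K := K) (m - j)
  have := Polynomial.natDegree_X_pow_le (R := K) j
  omega

theorem coeff_gammaPoly (h1 : lamSeries (1 : K) = 1 + X) {x : K} {m : ℕ}
    (hx : ∀ i, m < i → LambdaOps.lam i x = 0) (i : ℕ) :
    (gammaPoly x m).coeff i = gamma i (x - (m : K)) := by
  rw [← coeff_gammaSeries, ← gammaPoly_coe h1 hx, Polynomial.coeff_coe]

theorem reflect_gammaPoly (x : K) (m : ℕ) :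
    Polynomial.reflect m (gammaPoly x m) =
      ∑ i ∈ range (m + 1), Polynomial.C (LambdaOps.lam i x) * (Polynomial.X - 1) ^ (m - i) := by
  rw [gammaPoly]
  have : ∀ (s : Finset ℕ) (f : ℕ → Polynomial K),
      Polynomial.reflect m (∑ j ∈ s, f j) = ∑ j ∈ s, Polynomial.reflect m (f j) := by
    intro s f
    induction s using Finset.induction_on with
    | empty => simp
    | insert a s ha ih => rw [Finset.sum_insert ha, Finset.sum_insert ha, Polynomial.reflect_add, ih]
  rw [this]
  apply Finset.sum_congr rfl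
  intro j hj
  rw [mem_range] at hj
  rw [Polynomial.reflect_C_mul]
  congr 1
  have hm : m = j + (m - j) := by omega
  conv_lhs => rw [hm]
  rw [show j + (m - j) - j = m - j by omega, reflect_X_pow_mul_one_sub_X_pow]

/-- S3290 in general form. -/
theorem gamma_poly_identity (h1 : lamSeries (1 : K) = 1 + X) {x : K} {m : ℕ}
    (hx : ∀ i, m < i → LambdaOps.lam i x = 0) :
    (∑ i ∈ range (m + 1), Polynomial.C (gamma i (x - (m : K))) * Polynomial.X ^ (m - i)) =
      ∑ i ∈ range (m + 1), Polynomial.C (LambdaOps.lam i x) * (Polynomial.X - 1) ^ (m - i) := by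
  rw [← reflect_gammaPoly, reflect_eq_sum (natDegree_gammaPoly_le x m)]
  apply Finset.sum_congr rfl
  intro i _
  rw [coeff_gammaPoly h1 hx]

end Groth.Agent.H2.Lam
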