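import Groth.Agent.Lib.Helper2.GFE4
import Groth.Agent.Lib.Helper2.LamGammaPoly
import Groth.Agent.Lib.Helper2.LamKe
import Groth.Agent.Lib.Helper2.ARR7

/-!
The γ-filtration of the elementary extension `K_e` (S3782).
-/

set_option autoImplicit false

namespace Groth.Agent.H2.GFE

open Finset LambdaRing Groth.Agent.H2.Lam Groth.Agent.H2.ARR

universe v

theorem sign_rel {A : Type*} [CommRing A] (m : ℕ) (g : ℕ → A) (t : A) (hg0 : g 0 = 1)
    (h : ∑ i ∈ range (m + 2), g i * (-t) ^ (m + 1 - i) = 0) :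
    t ^ (m + 1) = ∑ i ∈ range (m + 1), ((-1) ^ i * g (i + 1)) * t ^ (m - i) := by
  have h1 : ∑ i ∈ range (m + 2), (-1 : A) ^ i * g i * t ^ (m + 1 - i) = 0 := by
    have h2 := congrArg (fun x => (-1 : A) ^ (m + 1) * x) h
    simp only [mul_zero, Finset.mul_sum] at h2
    rw [← h2]
    apply Finset.sum_congr rfl
    intro i hi
    rw [mem_range] at hi
    have h3 : (-1 : A) ^ (m + 1) * (-1) ^ (m + 1 - i) = (-1) ^ i := by
      rw [← pow_add, show m + 1 + (m + 1 - i) = 2 * (m + 1 - i) + i by omega, pow_add, pow_mul]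
      simp
    rw [neg_pow t, ← h3]; ring
  rw [Finset.sum_range_succ'] at h1
  simp only [pow_zero, hg0, one_mul, mul_one, Nat.sub_zero] at h1
  have h4 : ∑ i ∈ range (m + 1), (-1 : A) ^ (i + 1) * g (i + 1) * t ^ (m + 1 - (i + 1)) =
      -∑ i ∈ range (m + 1), ((-1) ^ i * g (i + 1)) * t ^ (m - i) := by
    rw [← Finset.sum_neg_distrib]
    apply Finset.sum_congr rfl
    intro i _
    rw [show m + 1 - (i + 1) = m - i by omega, pow_succ]; ring
  rw [h4] at h1
  linear_combination h1

theorem main (K : Type v) [CommRing K] [LambdaRing.LambdaOps K] (P : LambdaRing.PosStructure K)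
    (hK : LambdaRing.HasSplitting K P) (e : K) (he : e ∈ P.pos) (r : ℕ) (hr : P.aug e = r + 1)
    (inst : LambdaRing.LambdaOps (AdjoinRoot (KRR.extPoly P e)))
    (Pe : @LambdaRing.PosStructure _ _ inst)
    (hext : @LambdaRing.IsExtension K _ _ _ _ inst P Pe (AdjoinRoot.of (KRR.extPoly P e)))
    (hline : @LambdaRing.PosStructure.IsLine _ _ inst Pe (AdjoinRoot.root (KRR.extPoly P e)))
    (hsplit : @LambdaRing.HasSplitting _ _ inst Pe) (k : ℕ) :
    @LambdaRing.gammaFiltration _ _ inst Pe k =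
      ⨆ i ∈ Finset.range (r + 1), AddSubgroup.map
        ((AddMonoidHom.mulRight ((AdjoinRoot.root (KRR.extPoly P e) - 1) ^ i)).comp
          (AdjoinRoot.of (KRR.extPoly P e)).toAddMonoidHom)
        (LambdaRing.gammaFiltration P (k - i)) := by
  letI := inst
  have hm : (P.aug e).toNat = r + 1 := by rw [hr]; omega
  set ofe := AdjoinRoot.of (KRR.extPoly P e) with hofe
  set ℓ := AdjoinRoot.root (KRR.extPoly P e) with hℓ
  set z : K := e - ((r + 1 : ℕ) : K) with hz
  have hzaug : P.aug z = 0 := by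
    rw [hz, map_sub, map_natCast, hr]; push_cast; ring
  set c : ℕ → K := fun i => (-1) ^ i * gamma (i + 1) z with hcdef
  have hc : ∀ i, c i ∈ gammaFiltration P (i + 1) := fun i =>
    mul_mem_left P (i + 1) _ (gamma_mem P hzaug (i + 1))
  -- the relation
  have hlam : ∀ i, r + 1 < i → LambdaOps.lam i e = 0 := by
    intro i hi
    exact P.lam_eq_zero e he i (by rw [hr]; exact_mod_cast hi)
  have hpoly := gamma_poly_identity (lamSeries_one P) (x := e) (m := r + 1) hlam
  have hev := congrArg (Polynomial.eval₂ ofe (1 - ℓ)) hpoly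
  rw [Polynomial.eval₂_finsetSum, Polynomial.eval₂_finsetSum] at hev
  simp only [Polynomial.eval₂_mul, Polynomial.eval₂_C, Polynomial.eval₂_pow, Polynomial.eval₂_X,
    Polynomial.eval₂_sub, Polynomial.eval₂_one] at hev
  have hroot := root_rel (P := P) e
  rw [hm] at hroot
  have hR : ∑ i ∈ range (r + 1 + 1), ofe (LambdaOps.lam i e) * (1 - ℓ - 1) ^ (r + 1 - i) = 0 := by
    have h2 := congrArg (fun x => (-1 : AdjoinRoot (KRR.extPoly P e)) ^ (r + 1) * x) hroot
    simp only [mul_zero, Finset.mul_sum] at h2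
    rw [← h2]
    apply Finset.sum_congr rfl
    intro i hi
    rw [mem_range] at hi
    have h3 : (1 - ℓ - 1 : AdjoinRoot (KRR.extPoly P e)) = -ℓ := by ring
    have h4 : (-1 : AdjoinRoot (KRR.extPoly P e)) ^ (r + 1 - i) = (-1) ^ (r + 1) * (-1) ^ i := by
      rw [← pow_add, show r + 1 + i = (r + 1 - i) + 2 * i by omega, pow_add, pow_mul]
      simp
    rw [h3, neg_pow ℓ, h4, Algebra.smul_def, AdjoinRoot.algebraMap_eq, aCoef, map_mul, map_pow,
      map_neg, map_one]
    ring
  rw [hR] at hev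
  have hrel : (ℓ - 1) ^ (r + 1) = ∑ i ∈ range (r + 1), ofe (c i) * (ℓ - 1) ^ (r - i) := by
    have h5 := sign_rel r (fun i => ofe (gamma i z)) (ℓ - 1) (by
      show ofe (gamma 0 z) = 1
      rw [gamma_zero, map_one]) (by
      rw [← hev]
      apply Finset.sum_congr rfl
      intro i _
      rw [show (-(ℓ - 1) : AdjoinRoot (KRR.extPoly P e)) = 1 - ℓ by ring])
    rw [h5]
    apply Finset.sum_congr rfl
    intro i _
    rw [hcdef, map_mul, map_pow, map_neg, map_one]
  have hgen : ∀ x : AdjoinRoot (KRR.extPoly P e),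
      x ∈ AddSubgroup.closure {y : AdjoinRoot (KRR.extPoly P e) | ∃ (a : K) (i : ℕ),
        y = ofe a * ℓ ^ i} := by
    intro x
    induction x using ke_induction with
    | hadd x y hx hy => exact add_mem hx hy
    | hmon a i => exact AddSubgroup.subset_closure ⟨a, i, rfl⟩
  rw [filt_eq_Gk ofe r c hsplit hext hline hc hrel hgen k]
  apply le_antisymm
  · rw [Gk, AddSubgroup.closure_le]
    rintro y ⟨i, a, hi, ha, rfl⟩
    refine AddSubgroup.mem_iSup_of_mem i (AddSubgroup.mem_iSup_of_mem (mem_range.mpr (by omega)) ?_)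
    exact ⟨a, ha, rfl⟩
  · refine iSup₂_le ?_
    intro i hi
    rw [mem_range] at hi
    rintro _ ⟨a, ha, rfl⟩
    exact AddSubgroup.subset_closure ⟨i, a, by omega, ha, rfl⟩

end Groth.Agent.H2.GFE
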