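import Mathlib
import Groth.Prelude.Def_CAlg2
import Groth.Agent.Lib.Helper8.Hens.StrictQuot
import Groth.Agent.Lib.Helper8.Hens.GeomUnibranch
import Groth.Agent.Lib.Helper8.Hens.EtaleGU

/-! # Geometric unibranchness is insensitive to nilpotents (helper2)

`isGeomUnibranch_iff_quotient_nilradical`, `isGeomUnibranch_iff_of_surjective`
(a surjection of local rings with nil kernel), and the localization form
`isGeomUnibranch_localization_quotient_iff`. -/

set_option autoImplicit false
set_option linter.style.haveILetI false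
universe u

namespace Groth.Agent.H2.GUBir

open IsLocalRing Groth.Agent.H8.Hens Groth.Agent.H8.Hens.UMP Groth.Agent.H8.Hens.GU

/-- geometric unibranchness only depends on the reduction. -/
theorem isGeomUnibranch_iff_quotient_nilradical (A : Type u) [CommRing A] [IsLocalRing A]
    [IsLocalRing (A ⧸ nilradical A)] :
    CAlg2.IsGeomUnibranch A ↔ CAlg2.IsGeomUnibranch (A ⧸ nilradical A) := by
  haveI := isStrictHenselization (R := A ⧸ nilradical A)
  haveI : IsReduced (A ⧸ nilradical A) :=
    (Ideal.isRadical_iff_quotient_reduced _).mp (Ideal.radical_isRadical _)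
  rw [isGeomUnibranch_iff_isDomain A (StrictHenselization (A ⧸ nilradical A)),
    ← geomUnibranch_iff_isDomain (A ⧸ nilradical A) (StrictHenselization (A ⧸ nilradical A))]
  exact ⟨fun h => h.2, fun h => ⟨inferInstance, h⟩⟩

/-- geometric unibranchness is invariant under surjections with nil kernel. -/
theorem isGeomUnibranch_iff_of_surjective {A A' : Type u} [CommRing A] [IsLocalRing A]
    [CommRing A'] [IsLocalRing A'] (θ : A →+* A') (hθ : Function.Surjective θ)
    (hker : RingHom.ker θ ≤ nilradical A) :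
    CAlg2.IsGeomUnibranch A ↔ CAlg2.IsGeomUnibranch A' := by
  haveI : IsLocalRing (A ⧸ nilradical A) := isLocalRing_quotient _ (nilradical_ne_top A)
  haveI : IsLocalRing (A' ⧸ nilradical A') := isLocalRing_quotient _ (nilradical_ne_top A')
  let f : A →+* A' ⧸ nilradical A' := (Ideal.Quotient.mk (nilradical A')).comp θ
  have hf : Function.Surjective f := Ideal.Quotient.mk_surjective.comp hθ
  have hkf : RingHom.ker f = nilradical A := by
    ext a
    rw [RingHom.mem_ker, RingHom.comp_apply, Ideal.Quotient.eq_zero_iff_mem, mem_nilradical,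
      mem_nilradical]
    constructor
    · rintro ⟨n, hn⟩
      have h1 : a ^ n ∈ RingHom.ker θ := by rw [RingHom.mem_ker, map_pow, hn]
      obtain ⟨m, hm⟩ := mem_nilradical.mp (hker h1)
      exact ⟨n * m, by rw [pow_mul, hm]⟩
    · rintro ⟨n, hn⟩
      exact ⟨n, by rw [← map_pow, hn, map_zero]⟩
  let e : A ⧸ nilradical A ≃+* A' ⧸ nilradical A' :=
    (Ideal.quotEquivOfEq hkf.symm).trans (RingHom.quotientKerEquivOfSurjective hf)
  rw [isGeomUnibranch_iff_quotient_nilradical A, isGeomUnibranch_iff_quotient_nilradical A']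
  exact ⟨isGeomUnibranch_of_ringEquiv e, isGeomUnibranch_of_ringEquiv e.symm⟩

/-- **localization form**: if `I ⊆ p` becomes nil in `R_p`, then `R_p` is geometrically unibranch
iff `(R/I)_{p/I}` is. -/
theorem isGeomUnibranch_localization_quotient_iff {R O O' : Type u} [CommRing R] (p : Ideal R)
    [p.IsPrime] [CommRing O] [IsLocalRing O] [Algebra R O] [IsLocalization.AtPrime O p]
    (I : Ideal R) (hI : ∀ a ∈ I, IsNilpotent (algebraMap R O a)) (p₀ : Ideal (R ⧸ I))
    [p₀.IsPrime] (hp₀ : p₀.comap (Ideal.Quotient.mk I) = p)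
    [CommRing O'] [IsLocalRing O'] [Algebra (R ⧸ I) O'] [IsLocalization.AtPrime O' p₀] :
    CAlg2.IsGeomUnibranch O ↔ CAlg2.IsGeomUnibranch O' := by
  have hunit : ∀ s : p.primeCompl, IsUnit (((algebraMap (R ⧸ I) O').comp
      (Ideal.Quotient.mk I)) s) := by
    intro s
    refine IsLocalization.map_units O' (⟨Ideal.Quotient.mk I s, ?_⟩ : p₀.primeCompl)
    intro hs
    have : (s : R) ∈ p₀.comap (Ideal.Quotient.mk I) := hs
    rw [hp₀] at this
    exact s.2 this
  let θ : O →+* O' := IsLocalization.lift (M := p.primeCompl) hunit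
  have hθalg : ∀ a : R, θ (algebraMap R O a) =
      algebraMap (R ⧸ I) O' (Ideal.Quotient.mk I a) :=
    fun a => IsLocalization.lift_eq hunit a
  refine isGeomUnibranch_iff_of_surjective θ ?_ ?_
  · intro y
    obtain ⟨a₁, s₁, rfl⟩ := IsLocalization.exists_mk'_eq p₀.primeCompl y
    obtain ⟨a, rfl⟩ := Ideal.Quotient.mk_surjective a₁
    obtain ⟨s, hs⟩ := Ideal.Quotient.mk_surjective (s₁ : R ⧸ I)
    have hsp : s ∈ p.primeCompl := by
      intro h
      rw [← hp₀] at h
      have : Ideal.Quotient.mk I s ∈ p₀ := h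
      rw [hs] at this
      exact s₁.2 this
    refine ⟨IsLocalization.mk' O a (⟨s, hsp⟩ : p.primeCompl), ?_⟩
    rw [IsLocalization.eq_mk'_iff_mul_eq, ← hs, ← hθalg, ← map_mul,
      IsLocalization.mk'_spec, hθalg]
  · intro x hx
    rw [RingHom.mem_ker] at hx
    obtain ⟨a, s, rfl⟩ := IsLocalization.exists_mk'_eq p.primeCompl x
    have h1 : θ (algebraMap R O a) = 0 := by
      have : algebraMap R O a = IsLocalization.mk' O a s * algebraMap R O s :=
        (IsLocalization.mk'_spec O a s).symm
      rw [this, map_mul, hx, zero_mul]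
    rw [hθalg, IsLocalization.map_eq_zero_iff p₀.primeCompl] at h1
    obtain ⟨t₁, ht₁⟩ := h1
    obtain ⟨t, ht⟩ := Ideal.Quotient.mk_surjective (t₁ : R ⧸ I)
    have htp : t ∈ p.primeCompl := by
      intro h
      rw [← hp₀] at h
      have : Ideal.Quotient.mk I t ∈ p₀ := h
      rw [ht] at this
      exact t₁.2 this
    have h2 : t * a ∈ I := by
      rw [← Ideal.Quotient.eq_zero_iff_mem, map_mul, ht]
      exact ht₁
    obtain ⟨n, hn⟩ := hI _ h2
    have hut : IsUnit (algebraMap R O t) := IsLocalization.map_units O (⟨t, htp⟩ : p.primeCompl)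
    have h3 : algebraMap R O a ^ n = 0 := by
      rw [map_mul, mul_pow] at hn
      exact (hut.pow n).mul_right_eq_zero.mp hn
    rw [mem_nilradical]
    refine ⟨n, ?_⟩
    have h4 : IsLocalization.mk' O a s * algebraMap R O s = algebraMap R O a :=
      IsLocalization.mk'_spec O a s
    have hu : IsUnit (algebraMap R O (s : R)) := IsLocalization.map_units O s
    have h5 : (IsLocalization.mk' O a s) ^ n * (algebraMap R O (s : R)) ^ n = 0 := by
      rw [← mul_pow, h4, h3]
    exact (hu.pow n).mul_left_eq_zero.mp h5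

end Groth.Agent.H2.GUBir
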