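import Mathlib
import Groth.Prelude.Def_CAlg2
import Groth.Agent.H4.Brn12
import Groth.Agent.Lib.Helper8.FinIC.FinIC6

/-! # Normalization of a geometrically unibranch domain in a purely inseparable extension (ring level)

`hom_ext_normRed`: ring maps from `normRed O` to a field extending a given local map `O → Ω`
are unique when `O` is geometrically unibranch.
`hom_ext_integralClosure`: same for the normalization of a domain all of whose local rings are
geometrically unibranch.
`universallyInjective_of_pow_mem`: the universal injectivity criterion used for S13836. -/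

set_option autoImplicit false
set_option linter.style.haveILetI false
universe u

namespace Groth.Agent.H2.QNorm

open Groth.Agent.H4.Brn

/-- ring maps from `normRed O` to a field which extend a given *local* map `ι : O → Ω` are unique
when `O` is geometrically unibranch. -/
theorem hom_ext_normRed {O : Type u} [CommRing O] [IsLocalRing O] (hG : CAlg2.IsGeomUnibranch O)
    {Ω : Type*} [Field Ω] (ι : O →+* Ω) (hι : RingHom.ker ι = IsLocalRing.maximalIdeal O)
    (τ₁ τ₂ : CAlg2.normRed O →+* Ω) (h₁ : τ₁.comp (phi O) = ι) (h₂ : τ₂.comp (phi O) = ι) :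
    τ₁ = τ₂ := by
  obtain ⟨⟨hD, hL⟩, hres⟩ := hG
  haveI := hL
  have hker : ∀ τ : CAlg2.normRed O →+* Ω, τ.comp (phi O) = ι →
      RingHom.ker τ = IsLocalRing.maximalIdeal (CAlg2.normRed O) := by
    intro τ hτ
    haveI : (RingHom.ker τ).IsPrime := RingHom.ker_isPrime τ
    have hc : (RingHom.ker τ).comap (phi O) = IsLocalRing.maximalIdeal O := by
      rw [← hι, ← hτ]; rfl
    have : (RingHom.ker τ).IsMaximal :=
      Ideal.isMaximal_of_isIntegral_of_isMaximal_comap' (phi O) (phi_isIntegral O) _
        (by rw [hc]; infer_instance)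
    exact IsLocalRing.eq_maximalIdeal this
  set m' := IsLocalRing.maximalIdeal (CAlg2.normRed O) with hm'
  haveI : m'.IsMaximal := IsLocalRing.maximalIdeal.isMaximal _
  -- the induced maps on the residue field
  let σ₁ : CAlg2.normRed O ⧸ m' →+* Ω := Ideal.Quotient.lift m' τ₁ (fun a ha => by
    have : a ∈ RingHom.ker τ₁ := by rw [hker τ₁ h₁]; exact ha
    exact this)
  letI : Field (CAlg2.normRed O ⧸ m') := Ideal.Quotient.field m'
  haveI : ExpChar Ω (ringExpChar (CAlg2.normRed O ⧸ m')) :=
    expChar_of_injective_ringHom σ₁.injective _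
  ext x
  obtain ⟨n, o, ho⟩ := hres m' (Ideal.Quotient.mk m' x)
  have hmem : phi O o - x ^ (ringExpChar (CAlg2.normRed O ⧸ m')) ^ n ∈ m' := by
    rw [← Ideal.Quotient.eq, map_pow]
    exact ho
  have e₁ : τ₁ x ^ (ringExpChar (CAlg2.normRed O ⧸ m')) ^ n = ι o := by
    have : phi O o - x ^ (ringExpChar (CAlg2.normRed O ⧸ m')) ^ n ∈ RingHom.ker τ₁ := by
      rw [hker τ₁ h₁]; exact hmem
    rw [RingHom.mem_ker, map_sub, sub_eq_zero, map_pow] at this
    rw [← this, ← h₁]; rfl
  have e₂ : τ₂ x ^ (ringExpChar (CAlg2.normRed O ⧸ m')) ^ n = ι o := by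
    have : phi O o - x ^ (ringExpChar (CAlg2.normRed O ⧸ m')) ^ n ∈ RingHom.ker τ₂ := by
      rw [hker τ₂ h₂]; exact hmem
    rw [RingHom.mem_ker, map_sub, sub_eq_zero, map_pow] at this
    rw [← this, ← h₂]; rfl
  exact iterateFrobenius_inj Ω (ringExpChar (CAlg2.normRed O ⧸ m')) n (e₁.trans e₂.symm)

/-- ring maps from the normalization of a domain `A`, all of whose local rings are geometrically
unibranch, to a field are determined by their restriction to `A`. -/
theorem hom_ext_integralClosure {A : Type u} [CommRing A] [IsDomain A]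
    (hA : ∀ (p : Ideal A) [p.IsPrime], CAlg2.IsGeomUnibranch (Localization.AtPrime p))
    {Ω : Type*} [Field Ω] (τ₁ τ₂ : integralClosure A (FractionRing A) →+* Ω)
    (h : τ₁.comp (algebraMap A (integralClosure A (FractionRing A))) =
      τ₂.comp (algebraMap A (integralClosure A (FractionRing A)))) : τ₁ = τ₂ := by
  set ι₀ : A →+* Ω := τ₁.comp (algebraMap A (integralClosure A (FractionRing A))) with hι₀
  let p : Ideal A := RingHom.ker ι₀
  haveI : p.IsPrime := RingHom.ker_isPrime ι₀
  let ι : Localization.AtPrime p →+* Ω :=
    IsLocalization.lift (M := p.primeCompl) (g := ι₀) (fun y =>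
      isUnit_iff_ne_zero.mpr (fun h0 => y.2 h0))
  have hιA : ι.comp (algebraMap A (Localization.AtPrime p)) = ι₀ := IsLocalization.lift_comp _
  have hker : RingHom.ker ι = IsLocalRing.maximalIdeal (Localization.AtPrime p) := by
    rw [← Localization.AtPrime.map_eq_maximalIdeal,
      ← IsLocalization.map_under p.primeCompl (Localization.AtPrime p) (RingHom.ker ι)]
    congr 1
    show (RingHom.ker ι).comap (algebraMap A (Localization.AtPrime p)) = p
    rw [RingHom.comap_ker, hιA]
  obtain ⟨e⟩ := nonempty_equiv_hom p (Localization.AtPrime p) ι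
  let t₁ : {τ : integralClosure A (FractionRing A) →+* Ω //
      τ.comp (algebraMap A (integralClosure A (FractionRing A))) =
        ι.comp (algebraMap A (Localization.AtPrime p))} := ⟨τ₁, by rw [hιA]⟩
  let t₂ : {τ : integralClosure A (FractionRing A) →+* Ω //
      τ.comp (algebraMap A (integralClosure A (FractionRing A))) =
        ι.comp (algebraMap A (Localization.AtPrime p))} := ⟨τ₂, by rw [hιA, ← h]⟩
  have h12 : e.symm t₁ = e.symm t₂ :=
    Subtype.ext (hom_ext_normRed (hA p) ι hker _ _ (e.symm t₁).2 (e.symm t₂).2)
  exact congrArg Subtype.val (e.symm.injective h12)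

open AlgebraicGeometry CategoryTheory in
/-- **universal injectivity criterion.** `A` a domain with geometrically unibranch local rings,
`B` an `A`-algebra receiving the normalization `A'` of `A`, such that every element of `B` has a
`q^n`-th power in the image of `A'`, `q = 1` or `q` a prime which is zero in `A`. Then
`Spec B → Spec A` is universally injective. -/
theorem universallyInjective_of_pow_mem {A : Type u} [CommRing A] [IsDomain A]
    (hA : ∀ (p : Ideal A) [p.IsPrime], CAlg2.IsGeomUnibranch (Localization.AtPrime p))
    {B : Type u} [CommRing B] [Algebra A B]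
    (j : integralClosure A (FractionRing A) →ₐ[A] B)
    (q : ℕ) (hq : q = 1 ∨ (q.Prime ∧ (q : A) = 0))
    (H : ∀ b : B, ∃ n : ℕ, b ^ q ^ n ∈ j.range) :
    UniversallyInjective (Spec.map (CommRingCat.ofHom (algebraMap A B))) := by
  apply Groth.Agent.H8.FinIC.universallyInjective_specMap
  intro Ω _ g₁ g₂ h
  have hj : g₁.comp j.toRingHom = g₂.comp j.toRingHom := by
    apply hom_ext_integralClosure hA
    ext a
    have := congr($h a)
    simpa using this
  ext b
  obtain ⟨n, y, hy⟩ := H b
  have e : g₁ b ^ q ^ n = g₂ b ^ q ^ n := by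
    rw [← map_pow, ← map_pow, ← hy]; exact congr($hj y)
  rcases hq with rfl | ⟨hqp, hq0⟩
  · simpa using e
  · have hq0' : (q : Ω) = 0 := by
      have := congrArg (fun a => g₁ (algebraMap A B a)) hq0
      simpa using this
    obtain ⟨c, hc⟩ := CharP.exists Ω
    have hcq : c ∣ q := (CharP.cast_eq_zero_iff Ω c q).mp hq0'
    rcases (Nat.dvd_prime hqp).mp hcq with rfl | rfl
    · exact absurd rfl (CharP.char_ne_one Ω 1)
    · haveI : ExpChar Ω c := ExpChar.prime hqp
      exact iterateFrobenius_inj Ω c n e

open AlgebraicGeometry CategoryTheory in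
/-- **ring-level form of S13836.** `A` a domain with fraction field `K` and geometrically
unibranch local rings, `L/K` purely inseparable, `M` an `A`-algebra sitting between `K` and `L`
(in the application `M ≅ L`). Then `Spec (integralClosure A M) → Spec A` is universally
injective. -/
theorem universallyInjective_integralClosure {A K L M : Type u} [CommRing A] [IsDomain A]
    [Field K] [Algebra A K] [IsFractionRing A K] [Field L] [Algebra K L]
    [IsPurelyInseparable K L] [CommRing M] [Algebra A M]
    (hA : ∀ (p : Ideal A) [p.IsPrime], CAlg2.IsGeomUnibranch (Localization.AtPrime p))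
    (k : K →+* M) (hk : k.comp (algebraMap A K) = algebraMap A M)
    (k' : M →+* L) (hk'inj : Function.Injective k') (hk' : k'.comp k = algebraMap K L) :
    UniversallyInjective
      (Spec.map (CommRingCat.ofHom (algebraMap A (integralClosure A M)))) := by
  haveI : Nontrivial M := k'.domain_nontrivial
  let kA : FractionRing A →ₐ[A] M :=
    { k.comp ((FractionRing.algEquiv A K : FractionRing A ≃ₐ[A] K) : FractionRing A →+* K) with
      commutes' := fun a => by
        show k ((FractionRing.algEquiv A K) (algebraMap A (FractionRing A) a)) = algebraMap A M a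
        rw [AlgEquiv.commutes, ← hk]; rfl }
  let kK : K →ₐ[A] M := { k with commutes' := fun a => congr($hk a) }
  have key : ∀ q : ℕ, ExpChar K q → UniversallyInjective
      (Spec.map (CommRingCat.ofHom (algebraMap A (integralClosure A M)))) := by
    intro q hqK
    have hq : q = 1 ∨ (q.Prime ∧ (q : A) = 0) := by
      rcases hqK with _ | ⟨hprime⟩
      · exact Or.inl rfl
      · refine Or.inr ⟨hprime, ?_⟩
        apply IsFractionRing.injective A K
        rw [map_natCast, map_zero]
        exact CharP.cast_eq_zero K q
    refine universallyInjective_of_pow_mem hA kA.mapIntegralClosure q hq ?_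
    intro b
    obtain ⟨n, y, hy⟩ := IsPurelyInseparable.pow_mem K q (k' b.1)
    have hky : k y = b.1 ^ q ^ n := hk'inj (by rw [map_pow, ← hy, ← hk']; rfl)
    have hyint : IsIntegral A y := by
      have : IsIntegral A (kK y) := by
        show IsIntegral A (k y)
        rw [hky]; exact (b.2).pow _
      exact (isIntegral_algHom_iff kK k.injective).mp this
    have hy' : IsIntegral A ((FractionRing.algEquiv A K).symm y) :=
      hyint.map (FractionRing.algEquiv A K).symm
    refine ⟨n, ⟨⟨(FractionRing.algEquiv A K).symm y, hy'⟩, ?_⟩⟩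
    apply Subtype.ext
    show k ((FractionRing.algEquiv A K) ((FractionRing.algEquiv A K).symm y)) = (b ^ q ^ n).1
    rw [AlgEquiv.apply_symm_apply, hky]
    rfl
  exact key (ringExpChar K) inferInstance

end Groth.Agent.H2.QNorm
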