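import Mathlib
import Groth.Prelude.Def_CAlg2
import Groth.Agent.Lib.Helper2.QNormA
import Groth.Agent.Lib.Helper2.BrSepA
import Groth.Agent.Lib.Helper6.HomExt
import Groth.Agent.H4.Brn12

/-! # Geometric unibranchness of a localization of a domain in terms of field-valued points of the
normalization (helper2)

For a domain `D` with fraction field `K` and a ring map `ι : D → Ω` to a field with kernel `p`:
* `hom_ext_of_isGeomUnibranch`: if `D_p` is geometrically unibranch, two extensions of `ι` to the
  integral closure of `D` in `K` agree (any field `Ω`);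
* `isGeomUnibranch_of_hom_ext`: conversely, if `Ω` is algebraically closed and extensions are
  unique, `D_p` is geometrically unibranch. -/

set_option autoImplicit false
set_option linter.style.haveILetI false
universe u

namespace Groth.Agent.H2.GUBir

open Groth.Agent.H4.Brn Groth.Agent.H2.QNorm

section FractionRing

variable {D : Type u} [CommRing D] [IsDomain D]

/-- pointwise form of `QNorm.hom_ext_integralClosure`. -/
theorem hom_ext_fractionRing (p : Ideal D) [p.IsPrime]
    (hG : CAlg2.IsGeomUnibranch (Localization.AtPrime p))
    {Ω : Type*} [Field Ω] (τ₁ τ₂ : integralClosure D (FractionRing D) →+* Ω)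
    (h : τ₁.comp (algebraMap D (integralClosure D (FractionRing D))) =
      τ₂.comp (algebraMap D (integralClosure D (FractionRing D))))
    (hp : RingHom.ker (τ₁.comp (algebraMap D (integralClosure D (FractionRing D)))) = p) :
    τ₁ = τ₂ := by
  set ι₀ : D →+* Ω := τ₁.comp (algebraMap D (integralClosure D (FractionRing D))) with hι₀
  let ι : Localization.AtPrime p →+* Ω :=
    IsLocalization.lift (M := p.primeCompl) (g := ι₀) (fun y =>
      isUnit_iff_ne_zero.mpr (fun h0 => y.2 (by
        have : (y : D) ∈ RingHom.ker ι₀ := h0
        rwa [hp] at this)))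
  have hιA : ι.comp (algebraMap D (Localization.AtPrime p)) = ι₀ := IsLocalization.lift_comp _
  have hker : RingHom.ker ι = IsLocalRing.maximalIdeal (Localization.AtPrime p) := by
    rw [← Localization.AtPrime.map_eq_maximalIdeal,
      ← IsLocalization.map_under p.primeCompl (Localization.AtPrime p) (RingHom.ker ι)]
    congr 1
    show (RingHom.ker ι).comap (algebraMap D (Localization.AtPrime p)) = p
    rw [RingHom.comap_ker, hιA, hp]
  obtain ⟨e⟩ := nonempty_equiv_hom p (Localization.AtPrime p) ι
  let t₁ : {τ : integralClosure D (FractionRing D) →+* Ω //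
      τ.comp (algebraMap D (integralClosure D (FractionRing D))) =
        ι.comp (algebraMap D (Localization.AtPrime p))} := ⟨τ₁, by rw [hιA]⟩
  let t₂ : {τ : integralClosure D (FractionRing D) →+* Ω //
      τ.comp (algebraMap D (integralClosure D (FractionRing D))) =
        ι.comp (algebraMap D (Localization.AtPrime p))} := ⟨τ₂, by rw [hιA, ← h]⟩
  have h12 : e.symm t₁ = e.symm t₂ :=
    Subtype.ext (hom_ext_normRed hG ι hker _ _ (e.symm t₁).2 (e.symm t₂).2)
  exact congrArg Subtype.val (e.symm.injective h12)

/-- converse: uniqueness of the extensions of one map `ι₀ : D → Ω` with kernel `p` to an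
algebraically closed field implies that `D_p` is geometrically unibranch. -/
theorem isGeomUnibranch_of_hom_ext_fractionRing (p : Ideal D) [p.IsPrime]
    (O : Type u) [CommRing O] [IsLocalRing O] [Algebra D O] [IsLocalization.AtPrime O p]
    {Ω : Type u} [Field Ω] [IsAlgClosed Ω] (ι₀ : D →+* Ω) (hp : RingHom.ker ι₀ = p)
    (H : ∀ τ₁ τ₂ : integralClosure D (FractionRing D) →+* Ω,
      τ₁.comp (algebraMap D (integralClosure D (FractionRing D))) = ι₀ →
      τ₂.comp (algebraMap D (integralClosure D (FractionRing D))) = ι₀ → τ₁ = τ₂) :
    CAlg2.IsGeomUnibranch O := by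
  letI := algOK p O
  haveI := isScalarTower_algOK p O
  haveI := isFractionRing_algOK p O
  haveI := isDomain_O p O
  have hunit : ∀ y : p.primeCompl, IsUnit (ι₀ y) := fun y =>
    isUnit_iff_ne_zero.mpr (fun h0 => y.2 (by
      have : (y : D) ∈ RingHom.ker ι₀ := h0
      rwa [hp] at this))
  let ρ : O →+* Ω := IsLocalization.lift (M := p.primeCompl) (g := ι₀) hunit
  have hρ : ρ.comp (algebraMap D O) = ι₀ := IsLocalization.lift_comp _
  haveI : IsLocalHom ρ := by
    constructor
    intro x hx
    obtain ⟨a, s, rfl⟩ := IsLocalization.exists_mk'_eq p.primeCompl x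
    have h1 : ρ (IsLocalization.mk' O a s) * ι₀ s = ι₀ a := by
      rw [← hρ, RingHom.comp_apply, RingHom.comp_apply, ← map_mul, IsLocalization.mk'_spec]
    have h2 : ι₀ a ≠ 0 := by
      rw [← h1]
      exact mul_ne_zero hx.ne_zero (hunit s).ne_zero
    have h3 : a ∈ p.primeCompl := by
      intro ha
      apply h2
      have : a ∈ RingHom.ker ι₀ := by rw [hp]; exact ha
      exact this
    have h4 : IsUnit (algebraMap D O a) := IsLocalization.map_units O (⟨a, h3⟩ : p.primeCompl)
    have h5 : IsLocalization.mk' O a s * algebraMap D O s = algebraMap D O a :=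
      IsLocalization.mk'_spec O a s
    rw [← h5] at h4
    exact isUnit_of_mul_isUnit_left h4
  rw [Groth.Agent.H8.FE.isGeomUnibranch_iff_numGeomBranches,
    Groth.Agent.H2.BrSep.numGeomBranches_eq_card_pts O (FractionRing D) Ω ρ]
  letI : Algebra (integralClosure D (FractionRing D)) (integralClosure O (FractionRing D)) :=
    (inclBN p O).toAlgebra
  haveI : IsScalarTower D (integralClosure D (FractionRing D))
      (integralClosure O (FractionRing D)) :=
    IsScalarTower.of_algebraMap_eq (fun b => by
      apply Subtype.ext
      rfl)
  have hinj : Function.Injective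
      (algebraMap (integralClosure D (FractionRing D)) (integralClosure O (FractionRing D))) := by
    intro x y h
    apply Subtype.ext
    have h1 := congrArg Subtype.val h
    exact h1
  have hA2 : ∀ y : integralClosure O (FractionRing D), ∃ s ∈ p.primeCompl,
      ∃ b' : integralClosure D (FractionRing D),
        algebraMap D (integralClosure O (FractionRing D)) s * y =
          algebraMap (integralClosure D (FractionRing D))
            (integralClosure O (FractionRing D)) b' := by
    intro y
    obtain ⟨m, hm⟩ := IsIntegral.exists_multiple_integral_of_isLocalization p.primeCompl y.1 y.2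
    refine ⟨m.1, m.2, ⟨m • y.1, hm⟩, ?_⟩
    apply Subtype.ext
    change algebraMap D (FractionRing D) m.1 * y.1 = m • y.1
    rw [Submonoid.smul_def, Algebra.smul_def]
  haveI := isLocalization_of_mul_mem O p hinj hA2
  have e : Groth.Agent.H2.BrSep.Pts O (FractionRing D) Ω ρ ≃
      {τ : integralClosure D (FractionRing D) →+* Ω //
        τ.comp (algebraMap D (integralClosure D (FractionRing D))) =
          ρ.comp (algebraMap D O)} := homEquivOfLoc p ρ
  rw [ENat.card_congr e, ENat.card_eq_one_iff_unique]
  haveI : Algebra.IsIntegral D (integralClosure D (FractionRing D)) := inferInstance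
  obtain ⟨ψ, hψ⟩ := Groth.Agent.H6.HomExt.exists_ringHom_extension
    (R := D) (S := integralClosure D (FractionRing D))
    (fun x y h => IsFractionRing.injective D (FractionRing D) (congrArg Subtype.val h)) ι₀
  refine ⟨⟨⟨ψ, by rw [hψ, hρ]⟩, fun τ => Subtype.ext ?_⟩⟩
  exact H _ _ (by rw [τ.2, hρ]) hψ

end FractionRing

section General

variable {D : Type u} [CommRing D] [IsDomain D] {K : Type u} [Field K] [Algebra D K]
  [IsFractionRing D K]

/-- **(H1)** if `D_p` is geometrically unibranch, two ring maps from the integral closure of `D`
in `K` to a field which agree on `D`, with kernel `p` on `D`, are equal. -/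
theorem hom_ext_of_isGeomUnibranch (p : Ideal D) [p.IsPrime]
    (hG : CAlg2.IsGeomUnibranch (Localization.AtPrime p))
    {Ω : Type*} [Field Ω] (τ₁ τ₂ : integralClosure D K →+* Ω)
    (h : τ₁.comp (algebraMap D (integralClosure D K)) =
      τ₂.comp (algebraMap D (integralClosure D K)))
    (hp : RingHom.ker (τ₁.comp (algebraMap D (integralClosure D K))) = p) :
    τ₁ = τ₂ := by
  let e : integralClosure D (FractionRing D) ≃ₐ[D] integralClosure D K :=
    (FractionRing.algEquiv D K).mapIntegralClosure
  have hc : ∀ τ : integralClosure D K →+* Ω,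
      (τ.comp (e : integralClosure D (FractionRing D) →+* integralClosure D K)).comp
        (algebraMap D (integralClosure D (FractionRing D))) =
      τ.comp (algebraMap D (integralClosure D K)) := by
    intro τ
    ext r
    simp only [RingHom.comp_apply]
    congr 1
    exact e.commutes r
  have key := hom_ext_fractionRing p hG
    (τ₁.comp (e : integralClosure D (FractionRing D) →+* integralClosure D K))
    (τ₂.comp (e : integralClosure D (FractionRing D) →+* integralClosure D K))
    (by rw [hc, hc, h]) (by rw [hc, hp])
  ext x
  obtain ⟨x', rfl⟩ := e.surjective x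
  exact congr($key x')

/-- **(H2)** conversely, if `Ω` is algebraically closed and the extensions of `ι₀ : D → Ω` (with
kernel `p`) to the integral closure of `D` in `K` are unique, then `D_p` is geometrically
unibranch. -/
theorem isGeomUnibranch_of_hom_ext (p : Ideal D) [p.IsPrime]
    (O : Type u) [CommRing O] [IsLocalRing O] [Algebra D O] [IsLocalization.AtPrime O p]
    {Ω : Type u} [Field Ω] [IsAlgClosed Ω] (ι₀ : D →+* Ω) (hp : RingHom.ker ι₀ = p)
    (H : ∀ τ₁ τ₂ : integralClosure D K →+* Ω,
      τ₁.comp (algebraMap D (integralClosure D K)) = ι₀ →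
      τ₂.comp (algebraMap D (integralClosure D K)) = ι₀ → τ₁ = τ₂) :
    CAlg2.IsGeomUnibranch O := by
  let e : integralClosure D (FractionRing D) ≃ₐ[D] integralClosure D K :=
    (FractionRing.algEquiv D K).mapIntegralClosure
  have hc : ∀ τ : integralClosure D (FractionRing D) →+* Ω,
      (τ.comp (e.symm : integralClosure D K →+* integralClosure D (FractionRing D))).comp
        (algebraMap D (integralClosure D K)) =
      τ.comp (algebraMap D (integralClosure D (FractionRing D))) := by
    intro τ
    ext r
    simp only [RingHom.comp_apply]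
    congr 1
    exact e.symm.commutes r
  apply isGeomUnibranch_of_hom_ext_fractionRing p O ι₀ hp
  intro τ₁ τ₂ h₁ h₂
  have key := H (τ₁.comp (e.symm : integralClosure D K →+* integralClosure D (FractionRing D)))
    (τ₂.comp (e.symm : integralClosure D K →+* integralClosure D (FractionRing D)))
    (by rw [hc, h₁]) (by rw [hc, h₂])
  ext x
  have := congr($key (e x))
  simpa using this

end General

end Groth.Agent.H2.GUBir
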