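import Mathlib
import Groth.Prelude.Def_CAlg2
import Groth.Agent.Lib.Helper2.GUBirB

/-! # Integral birational extensions of domains and geometric unibranchness (helper2)

`R ⊆ S` domains with the same fraction field `K`, `S` integral over `R`, `p` a prime of `R`:
`R_p` is geometrically unibranch iff `S` is "radicial over `p`" (field-valued points of `S` over a
point of `R` with kernel `p` are unique) and `S_q` is geometrically unibranch for all `q` over `p`.
-/

set_option autoImplicit false
set_option linter.style.haveILetI false
set_option linter.unusedSectionVars false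
universe u

namespace Groth.Agent.H2.GUBir

/-- field-valued points of `S` over a point of `R` with kernel `p` are unique. -/
def RadHom (R S : Type u) [CommRing R] [CommRing S] [Algebra R S] (p : Ideal R) : Prop :=
  ∀ (Ω : Type u) [Field Ω] (g₁ g₂ : S →+* Ω),
    g₁.comp (algebraMap R S) = g₂.comp (algebraMap R S) →
    RingHom.ker (g₁.comp (algebraMap R S)) = p → g₁ = g₂

section Dom

variable {R S K : Type u} [CommRing R] [IsDomain R] [CommRing S] [IsDomain S] [Algebra R S]
  [Algebra.IsIntegral R S] [Field K] [Algebra R K] [Algebra S K] [IsScalarTower R S K]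
  [IsFractionRing R K] [IsFractionRing S K]

variable (R S K) in
/-- the integral closures of `R` and of `S` in `K` coincide. -/
noncomputable def inclEquiv : integralClosure R K ≃+* integralClosure S K where
  toFun x := ⟨x.1, x.2.tower_top⟩
  invFun y := ⟨y.1, isIntegral_trans y.1 y.2⟩
  left_inv _ := rfl
  right_inv _ := rfl
  map_mul' _ _ := rfl
  map_add' _ _ := rfl

lemma inclEquiv_algebraMap (r : R) :
    inclEquiv R S K (algebraMap R (integralClosure R K) r) =
      algebraMap S (integralClosure S K) (algebraMap R S r) := by
  apply Subtype.ext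
  show algebraMap R K r = algebraMap S K (algebraMap R S r)
  exact IsScalarTower.algebraMap_apply R S K r

lemma comp_inclEquiv_comp {Ω : Type*} [CommRing Ω] (τ : integralClosure S K →+* Ω) :
    (τ.comp (inclEquiv R S K : integralClosure R K →+* integralClosure S K)).comp
      (algebraMap R (integralClosure R K)) =
    (τ.comp (algebraMap S (integralClosure S K))).comp (algebraMap R S) := by
  ext r
  simp only [RingHom.comp_apply]
  congr 1
  exact inclEquiv_algebraMap r

/-- a point of a ring with prescribed kernel in an algebraically closed field. -/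
lemma exists_point (A : Type u) [CommRing A] (P : Ideal A) [P.IsPrime] :
    ∃ (Ω : Type u) (_ : Field Ω) (_ : IsAlgClosed Ω) (ι : A →+* Ω), RingHom.ker ι = P := by
  refine ⟨AlgebraicClosure (FractionRing (A ⧸ P)), inferInstance, inferInstance,
    (algebraMap (FractionRing (A ⧸ P)) (AlgebraicClosure (FractionRing (A ⧸ P)))).comp
      ((algebraMap (A ⧸ P) (FractionRing (A ⧸ P))).comp (Ideal.Quotient.mk P)), ?_⟩
  ext a
  rw [RingHom.mem_ker, RingHom.comp_apply, RingHom.comp_apply, map_eq_zero,
    map_eq_zero_iff _ (IsFractionRing.injective (A ⧸ P) (FractionRing (A ⧸ P))),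
    Ideal.Quotient.eq_zero_iff_mem]

end Dom

section Dom2

variable {R S : Type u} [CommRing R] [IsDomain R] [CommRing S] [IsDomain S] [Algebra R S]
  [Algebra.IsIntegral R S]

/-- **(T-dom)** -/
theorem isGeomUnibranch_iff_of_birational (K : Type u) [Field K] [Algebra R K] [Algebra S K]
    [IsScalarTower R S K] [IsFractionRing R K] [IsFractionRing S K] (p : Ideal R) [p.IsPrime] :
    CAlg2.IsGeomUnibranch (Localization.AtPrime p) ↔
      RadHom R S p ∧ ∀ (q : Ideal S) [q.IsPrime], q.comap (algebraMap R S) = p →
        CAlg2.IsGeomUnibranch (Localization.AtPrime q) := by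
  have hinjS : Function.Injective (algebraMap S (integralClosure S K)) :=
    fun x y h => IsFractionRing.injective S K (congrArg Subtype.val h)
  constructor
  · intro hG
    refine ⟨?_, ?_⟩
    · intro Ω _ g₁ g₂ h hk
      let j : Ω →+* AlgebraicClosure Ω := algebraMap Ω (AlgebraicClosure Ω)
      obtain ⟨τ₁, hτ₁⟩ := Groth.Agent.H6.HomExt.exists_ringHom_extension
        (R := S) (S := integralClosure S K) hinjS (j.comp g₁)
      obtain ⟨τ₂, hτ₂⟩ := Groth.Agent.H6.HomExt.exists_ringHom_extension
        (R := S) (S := integralClosure S K) hinjS (j.comp g₂)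
      have key := hom_ext_of_isGeomUnibranch (K := K) p hG
        (τ₁.comp (inclEquiv R S K : integralClosure R K →+* integralClosure S K))
        (τ₂.comp (inclEquiv R S K : integralClosure R K →+* integralClosure S K))
        (by rw [comp_inclEquiv_comp, comp_inclEquiv_comp, hτ₁, hτ₂, RingHom.comp_assoc,
          RingHom.comp_assoc, h])
        (by
          rw [comp_inclEquiv_comp, hτ₁, RingHom.comp_assoc, ← hk]
          ext a
          simp only [RingHom.mem_ker, RingHom.comp_apply]
          exact map_eq_zero_iff _ j.injective)
      have h12 : τ₁ = τ₂ := by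
        ext x
        have := congr($key ((inclEquiv R S K).symm x))
        simpa using this
      ext s
      apply j.injective
      have e1 := congr($hτ₁ s)
      have e2 := congr($hτ₂ s)
      simp only [RingHom.comp_apply] at e1 e2
      rw [← e1, ← e2, h12]
    · intro q _ hq
      obtain ⟨Ω, _, _, ι, hι⟩ := exists_point S q
      refine isGeomUnibranch_of_hom_ext (K := K) q (Localization.AtPrime q) ι hι ?_
      intro τ₁ τ₂ h₁ h₂
      have key := hom_ext_of_isGeomUnibranch (K := K) p hG
        (τ₁.comp (inclEquiv R S K : integralClosure R K →+* integralClosure S K))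
        (τ₂.comp (inclEquiv R S K : integralClosure R K →+* integralClosure S K))
        (by rw [comp_inclEquiv_comp, comp_inclEquiv_comp, h₁, h₂])
        (by rw [comp_inclEquiv_comp, h₁, ← RingHom.comap_ker, hι, hq])
      ext x
      have := congr($key ((inclEquiv R S K).symm x))
      simpa using this
  · rintro ⟨hrad, hGS⟩
    obtain ⟨Ω, _, _, ι, hι⟩ := exists_point R p
    refine isGeomUnibranch_of_hom_ext (K := K) p (Localization.AtPrime p) ι hι ?_
    intro τ₁ τ₂ h₁ h₂
    let t₁ : integralClosure S K →+* Ω :=
      τ₁.comp ((inclEquiv R S K).symm : integralClosure S K →+* integralClosure R K)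
    let t₂ : integralClosure S K →+* Ω :=
      τ₂.comp ((inclEquiv R S K).symm : integralClosure S K →+* integralClosure R K)
    have ht : ∀ (τ : integralClosure R K →+* Ω),
        ((τ.comp ((inclEquiv R S K).symm : integralClosure S K →+* integralClosure R K)).comp
          (algebraMap S (integralClosure S K))).comp (algebraMap R S) =
        τ.comp (algebraMap R (integralClosure R K)) := by
      intro τ
      ext r
      simp only [RingHom.comp_apply]
      congr 1
      rw [← inclEquiv_algebraMap (K := K) r]
      exact (inclEquiv R S K).symm_apply_apply _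
    have hg : t₁.comp (algebraMap S (integralClosure S K)) =
        t₂.comp (algebraMap S (integralClosure S K)) :=
      hrad Ω _ _ (by rw [ht, ht, h₁, h₂]) (by rw [ht, h₁, hι])
    set g := t₁.comp (algebraMap S (integralClosure S K)) with hgdef
    haveI : (RingHom.ker g).IsPrime := RingHom.ker_isPrime g
    have hq : (RingHom.ker g).comap (algebraMap R S) = p := by
      rw [RingHom.comap_ker, hgdef, ht, h₁, hι]
    have key := hom_ext_of_isGeomUnibranch (K := K) (RingHom.ker g) (hGS _ hq) t₁ t₂ hg rfl
    ext x
    have := congr($key (inclEquiv R S K x))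
    simpa [t₁, t₂] using this

end Dom2

end Groth.Agent.H2.GUBir
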