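import Mathlib
import Groth.Prelude.Def_CAlg2
import Groth.Agent.Lib.Helper2.GUBirA
import Groth.Agent.Lib.Helper2.GUBirC
import Groth.Agent.Lib.Helper8.Hens.EtaleGU2
import Groth.Agent.Lib.Helper6.QfDeg3

/-! # Integral birational ring maps and geometric unibranchness: general rings (helper2) -/

set_option autoImplicit false
set_option linter.style.haveILetI false
set_option linter.unusedSectionVars false
universe u

namespace Groth.Agent.H2.GUBir

section DomPrime

variable {D E : Type u} [CommRing D] [IsDomain D] [CommRing E] [IsDomain E] [Algebra D E]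
  [Algebra.IsIntegral D E]

/-- **(T-dom')**: `(T-dom)` with the fraction-field hypothesis in elementary form. -/
theorem isGeomUnibranch_iff_of_birational' (hinj : Function.Injective (algebraMap D E))
    (hfrac : ∀ e : E, ∃ a t : D, t ≠ 0 ∧ algebraMap D E t * e = algebraMap D E a)
    (p : Ideal D) [p.IsPrime] :
    CAlg2.IsGeomUnibranch (Localization.AtPrime p) ↔
      RadHom D E p ∧ ∀ (q : Ideal E) [q.IsPrime], q.comap (algebraMap D E) = p →
        CAlg2.IsGeomUnibranch (Localization.AtPrime q) := by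
  have hinjK : Function.Injective (algebraMap D (FractionRing E)) := by
    rw [IsScalarTower.algebraMap_eq D E (FractionRing E)]
    exact (IsFractionRing.injective E (FractionRing E)).comp hinj
  haveI : FaithfulSMul D (FractionRing E) := (faithfulSMul_iff_algebraMap_injective _ _).mpr hinjK
  haveI : IsFractionRing D (FractionRing E) := IsFractionRing.of_field D (FractionRing E) (by
    intro z
    obtain ⟨e₁, e₂, he₂, rfl⟩ := IsFractionRing.div_surjective E z
    obtain ⟨a₁, t₁, ht₁, h₁⟩ := hfrac e₁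
    obtain ⟨a₂, t₂, ht₂, h₂⟩ := hfrac e₂
    have he₂0 : e₂ ≠ 0 := nonZeroDivisors.ne_zero he₂
    have hK : ∀ d : D, algebraMap D (FractionRing E) d =
        algebraMap E (FractionRing E) (algebraMap D E d) :=
      fun d => IsScalarTower.algebraMap_apply D E (FractionRing E) d
    have ht₁K : algebraMap D (FractionRing E) t₁ ≠ 0 := (map_ne_zero_iff _ hinjK).mpr ht₁
    have ht₂K : algebraMap D (FractionRing E) t₂ ≠ 0 := (map_ne_zero_iff _ hinjK).mpr ht₂
    have he₂K : algebraMap E (FractionRing E) e₂ ≠ 0 :=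
      (map_ne_zero_iff _ (IsFractionRing.injective E (FractionRing E))).mpr he₂0
    have h₁K : algebraMap D (FractionRing E) t₁ * algebraMap E (FractionRing E) e₁ =
        algebraMap D (FractionRing E) a₁ := by
      rw [hK, hK, ← map_mul, h₁]
    have h₂K : algebraMap D (FractionRing E) t₂ * algebraMap E (FractionRing E) e₂ =
        algebraMap D (FractionRing E) a₂ := by
      rw [hK, hK, ← map_mul, h₂]
    have ha₂K : algebraMap D (FractionRing E) a₂ ≠ 0 := by
      rw [← h₂K]; exact mul_ne_zero ht₂K he₂K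
    refine ⟨a₁ * t₂, t₁ * a₂, ?_⟩
    rw [map_mul, map_mul, ← h₁K, ← h₂K]
    field_simp)
  exact isGeomUnibranch_iff_of_birational (FractionRing E) p

end DomPrime

section General

variable {R S : Type u} [CommRing R] [CommRing S] [Algebra R S] [Algebra.IsIntegral R S]

/-- an ideal contained in all primes below `p` becomes nil in `R_p`. -/
lemma isNilpotent_algebraMap_of_forall_le {R : Type u} [CommRing R] (p : Ideal R) [p.IsPrime]
    (I : Ideal R) (h : ∀ p₁ : Ideal R, p₁.IsPrime → p₁ ≤ p → I ≤ p₁) (a : R) (ha : a ∈ I) :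
    IsNilpotent (algebraMap R (Localization.AtPrime p) a) := by
  rw [nilpotent_iff_mem_prime]
  intro P hP
  have h1 : (P.comap (algebraMap R (Localization.AtPrime p))) ≤ p := by
    intro x hx
    by_contra hxp
    have : IsUnit (algebraMap R (Localization.AtPrime p) x) :=
      IsLocalization.map_units _ (⟨x, hxp⟩ : p.primeCompl)
    exact hP.ne_top (Ideal.eq_top_of_isUnit_mem _ hx this)
  exact h _ (Ideal.comap_isPrime _ _) h1 ha

/-- `RadHom` passes to the quotients by `p₀ ⊆ p` and `q₀` over `p₀`, when every prime of `S` over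
`p` contains `q₀`. -/
lemma radHom_quotient_iff (p : Ideal R) (p₀ : Ideal R) (q₀ : Ideal S)
    [q₀.LiesOver p₀] (hp₀p : p₀ ≤ p)
    (U2 : ∀ q₁ : Ideal S, q₁.IsPrime → q₁.comap (algebraMap R S) ≤ p → q₀ ≤ q₁) :
    RadHom R S p ↔ RadHom (R ⧸ p₀) (S ⧸ q₀) (p.map (Ideal.Quotient.mk p₀)) := by
  have hpbar : (p.map (Ideal.Quotient.mk p₀)).comap (Ideal.Quotient.mk p₀) = p := by
    rw [Ideal.comap_map_of_surjective _ Ideal.Quotient.mk_surjective, ← RingHom.ker_eq_comap_bot,
      Ideal.mk_ker, sup_eq_left.mpr hp₀p]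
  constructor
  · intro h Ω _ g₁ g₂ h12 hk
    have e : ∀ g : S ⧸ q₀ →+* Ω, (g.comp (Ideal.Quotient.mk q₀)).comp (algebraMap R S) =
        (g.comp (algebraMap (R ⧸ p₀) (S ⧸ q₀))).comp (Ideal.Quotient.mk p₀) := fun g => rfl
    have := h Ω (g₁.comp (Ideal.Quotient.mk q₀)) (g₂.comp (Ideal.Quotient.mk q₀))
      (by rw [e, e, h12]) (by rw [e, ← RingHom.comap_ker, hk, hpbar])
    exact Ideal.Quotient.ringHom_ext this
  · intro h Ω _ g₁ g₂ h12 hk
    have hle : ∀ g : S →+* Ω, RingHom.ker (g.comp (algebraMap R S)) = p →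
        ∀ a ∈ q₀, g a = 0 := by
      intro g hg a ha
      haveI : (RingHom.ker g).IsPrime := RingHom.ker_isPrime g
      have := U2 (RingHom.ker g) inferInstance (by rw [RingHom.comap_ker, hg])
      exact this ha
    have hk2 : RingHom.ker (g₂.comp (algebraMap R S)) = p := by rw [← h12, hk]
    let gb₁ : S ⧸ q₀ →+* Ω := Ideal.Quotient.lift q₀ g₁ (hle g₁ hk)
    let gb₂ : S ⧸ q₀ →+* Ω := Ideal.Quotient.lift q₀ g₂ (hle g₂ hk2)
    have e : ∀ (g : S →+* Ω) (hg : ∀ a ∈ q₀, g a = 0),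
        ((Ideal.Quotient.lift q₀ g hg).comp (algebraMap (R ⧸ p₀) (S ⧸ q₀))).comp
          (Ideal.Quotient.mk p₀) = g.comp (algebraMap R S) := by
      intro g hg
      ext r
      simp only [RingHom.comp_apply, Ideal.Quotient.algebraMap_mk_of_liesOver,
        Ideal.Quotient.lift_mk]
    have h12b : gb₁.comp (algebraMap (R ⧸ p₀) (S ⧸ q₀)) =
        gb₂.comp (algebraMap (R ⧸ p₀) (S ⧸ q₀)) := by
      apply Ideal.Quotient.ringHom_ext
      rw [e, e, h12]
    have hkb : RingHom.ker (gb₁.comp (algebraMap (R ⧸ p₀) (S ⧸ q₀))) =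
        p.map (Ideal.Quotient.mk p₀) := by
      have h1 : (RingHom.ker (gb₁.comp (algebraMap (R ⧸ p₀) (S ⧸ q₀)))).comap
          (Ideal.Quotient.mk p₀) = p := by
        rw [RingHom.comap_ker, e, hk]
      rw [← h1, Ideal.map_comap_of_surjective _ Ideal.Quotient.mk_surjective]
    have := h Ω gb₁ gb₂ h12b hkb
    ext s
    have := congr($this (Ideal.Quotient.mk q₀ s))
    simpa [gb₁, gb₂] using this

/-- **(CS-main)**: the theorem in the situation where `p₀` is the unique minimal prime below `p`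
and `q₀` (over `p₀`) is contained in all primes of `S` whose contraction is below `p`. -/
theorem isGeomUnibranch_iff_of_CS (p : Ideal R) [p.IsPrime] (p₀ : Ideal R) [p₀.IsPrime]
    (q₀ : Ideal S) [q₀.IsPrime] (hq₀ : q₀.comap (algebraMap R S) = p₀) (hp₀p : p₀ ≤ p)
    (U1 : ∀ p₁ : Ideal R, p₁.IsPrime → p₁ ≤ p → p₀ ≤ p₁)
    (U2 : ∀ q₁ : Ideal S, q₁.IsPrime → q₁.comap (algebraMap R S) ≤ p → q₀ ≤ q₁)
    (B4 : ∀ s : S, ∃ a t : R, algebraMap R S t ∉ q₀ ∧
      algebraMap R S t * s - algebraMap R S a ∈ q₀) :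
    CAlg2.IsGeomUnibranch (Localization.AtPrime p) ↔
      RadHom R S p ∧ ∀ (q : Ideal S) [q.IsPrime], q.comap (algebraMap R S) = p →
        CAlg2.IsGeomUnibranch (Localization.AtPrime q) := by
  haveI : q₀.LiesOver p₀ := ⟨hq₀.symm⟩
  have hinj : Function.Injective (algebraMap (R ⧸ p₀) (S ⧸ q₀)) :=
    FaithfulSMul.algebraMap_injective _ _
  have hfrac : ∀ e : S ⧸ q₀, ∃ a t : R ⧸ p₀, t ≠ 0 ∧
      algebraMap (R ⧸ p₀) (S ⧸ q₀) t * e = algebraMap (R ⧸ p₀) (S ⧸ q₀) a := by
    intro e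
    obtain ⟨s, rfl⟩ := Ideal.Quotient.mk_surjective e
    obtain ⟨a, t, ht, hta⟩ := B4 s
    refine ⟨Ideal.Quotient.mk p₀ a, Ideal.Quotient.mk p₀ t, ?_, ?_⟩
    · rw [Ne, Ideal.Quotient.eq_zero_iff_mem, ← hq₀]
      exact ht
    · rw [Ideal.Quotient.algebraMap_mk_of_liesOver, Ideal.Quotient.algebraMap_mk_of_liesOver,
        ← map_mul, Ideal.Quotient.eq]
      exact hta
  have hker : RingHom.ker (Ideal.Quotient.mk p₀) ≤ p := by rw [Ideal.mk_ker]; exact hp₀p
  haveI hpb : (p.map (Ideal.Quotient.mk p₀)).IsPrime :=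
    Ideal.map_isPrime_of_surjective Ideal.Quotient.mk_surjective hker
  have hpbar : (p.map (Ideal.Quotient.mk p₀)).comap (Ideal.Quotient.mk p₀) = p := by
    rw [Ideal.comap_map_of_surjective _ Ideal.Quotient.mk_surjective, ← RingHom.ker_eq_comap_bot,
      Ideal.mk_ker, sup_eq_left.mpr hp₀p]
  have key := isGeomUnibranch_iff_of_birational' hinj hfrac (p.map (Ideal.Quotient.mk p₀))
  have hA : CAlg2.IsGeomUnibranch (Localization.AtPrime p) ↔
      CAlg2.IsGeomUnibranch (Localization.AtPrime (p.map (Ideal.Quotient.mk p₀))) :=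
    isGeomUnibranch_localization_quotient_iff p (O := Localization.AtPrime p) p₀
      (isNilpotent_algebraMap_of_forall_le p p₀ U1) (p.map (Ideal.Quotient.mk p₀)) hpbar
      (O' := Localization.AtPrime (p.map (Ideal.Quotient.mk p₀)))
  have hC := radHom_quotient_iff p p₀ q₀ hp₀p U2
  -- contraction to `R ⧸ p₀` versus contraction to `R`
  have hcomap : ∀ Q : Ideal (S ⧸ q₀),
      Q.comap (algebraMap (R ⧸ p₀) (S ⧸ q₀)) = p.map (Ideal.Quotient.mk p₀) ↔
        (Q.comap (Ideal.Quotient.mk q₀)).comap (algebraMap R S) = p := by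
    intro Q
    have e : (Q.comap (Ideal.Quotient.mk q₀)).comap (algebraMap R S) =
        (Q.comap (algebraMap (R ⧸ p₀) (S ⧸ q₀))).comap (Ideal.Quotient.mk p₀) := rfl
    rw [e]
    constructor
    · intro h; rw [h, hpbar]
    · intro h
      rw [← Ideal.map_comap_of_surjective _ Ideal.Quotient.mk_surjective
        (Q.comap (algebraMap (R ⧸ p₀) (S ⧸ q₀))), h]
  have hN2 : ∀ (q : Ideal S) [q.IsPrime], q.comap (algebraMap R S) = p →
      ∀ a ∈ q₀, IsNilpotent (algebraMap S (Localization.AtPrime q) a) := by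
    intro q _ hq
    refine isNilpotent_algebraMap_of_forall_le q q₀ (fun q₁ hq₁ hle => U2 q₁ hq₁ ?_)
    rw [← hq]
    exact Ideal.comap_mono hle
  have hB : (∀ (q : Ideal S) [q.IsPrime], q.comap (algebraMap R S) = p →
        CAlg2.IsGeomUnibranch (Localization.AtPrime q)) ↔
      (∀ (Q : Ideal (S ⧸ q₀)) [Q.IsPrime],
        Q.comap (algebraMap (R ⧸ p₀) (S ⧸ q₀)) = p.map (Ideal.Quotient.mk p₀) →
        CAlg2.IsGeomUnibranch (Localization.AtPrime Q)) := by
    constructor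
    · intro h Q _ hQ
      haveI : (Q.comap (Ideal.Quotient.mk q₀)).IsPrime := Ideal.comap_isPrime _ _
      have hq := (hcomap Q).mp hQ
      exact (isGeomUnibranch_localization_quotient_iff (Q.comap (Ideal.Quotient.mk q₀))
        (O := Localization.AtPrime (Q.comap (Ideal.Quotient.mk q₀))) q₀
        (hN2 _ hq) Q rfl (O' := Localization.AtPrime Q)).mp (h _ hq)
    · intro h q _ hq
      have hq₀q : q₀ ≤ q := U2 q inferInstance (le_of_eq hq)
      have hkerq : RingHom.ker (Ideal.Quotient.mk q₀) ≤ q := by rw [Ideal.mk_ker]; exact hq₀q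
      haveI : (q.map (Ideal.Quotient.mk q₀)).IsPrime :=
        Ideal.map_isPrime_of_surjective Ideal.Quotient.mk_surjective hkerq
      have hqbar : (q.map (Ideal.Quotient.mk q₀)).comap (Ideal.Quotient.mk q₀) = q := by
        rw [Ideal.comap_map_of_surjective _ Ideal.Quotient.mk_surjective,
          ← RingHom.ker_eq_comap_bot, Ideal.mk_ker, sup_eq_left.mpr hq₀q]
      have hQ := (hcomap (q.map (Ideal.Quotient.mk q₀))).mpr (by rw [hqbar, hq])
      exact (isGeomUnibranch_localization_quotient_iff q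
        (O := Localization.AtPrime q) q₀
        (hN2 q hq) (q.map (Ideal.Quotient.mk q₀)) hqbar
        (O' := Localization.AtPrime (q.map (Ideal.Quotient.mk q₀)))).mpr (h _ hQ)
  rw [hA, key, hC, hB]

/-- ring-level birationality of `R → S`. -/
structure BirHyp (R S : Type u) [CommRing R] [CommRing S] [Algebra R S] : Prop where
  b1 : ∀ q₀ ∈ minimalPrimes S, q₀.comap (algebraMap R S) ∈ minimalPrimes R
  b2 : ∀ p₀ ∈ minimalPrimes R, ∃ q₀ ∈ minimalPrimes S, q₀.comap (algebraMap R S) = p₀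
  b3 : ∀ p₀ ∈ minimalPrimes R, ∀ q q' : Ideal S, q.IsPrime → q'.IsPrime →
    q.comap (algebraMap R S) = p₀ → q'.comap (algebraMap R S) = p₀ → q = q'
  b4 : ∀ p₀ ∈ minimalPrimes R, ∀ q : Ideal S, q.IsPrime → q.comap (algebraMap R S) = p₀ →
    ∀ s : S, ∃ a t : R, algebraMap R S t ∉ q ∧ algebraMap R S t * s - algebraMap R S a ∈ q

/-- if `R_p` has prime nilradical, there is a smallest prime below `p`. -/
lemma exists_le_all {R : Type u} [CommRing R] (p : Ideal R) [p.IsPrime]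
    (h : (nilradical (Localization.AtPrime p)).IsPrime) :
    ∃ p₀ : Ideal R, p₀.IsPrime ∧ p₀ ≤ p ∧ (∀ p₁ : Ideal R, p₁.IsPrime → p₁ ≤ p → p₀ ≤ p₁) ∧
      p₀ ∈ minimalPrimes R := by
  let p₀ : Ideal R := (nilradical (Localization.AtPrime p)).comap
    (algebraMap R (Localization.AtPrime p))
  haveI hp₀ : p₀.IsPrime := Ideal.comap_isPrime _ _
  have U1 : ∀ p₁ : Ideal R, p₁.IsPrime → p₁ ≤ p → p₀ ≤ p₁ := by
    intro p₁ hp₁ hle a ha
    obtain ⟨n, hn⟩ := mem_nilradical.mp (show algebraMap R (Localization.AtPrime p) a ∈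
      nilradical (Localization.AtPrime p) from ha)
    rw [← map_pow, IsLocalization.map_eq_zero_iff p.primeCompl] at hn
    obtain ⟨t, ht⟩ := hn
    have h1 : (t : R) * a ^ n ∈ p₁ := by rw [ht]; exact p₁.zero_mem
    rcases hp₁.mem_or_mem h1 with h2 | h2
    · exact absurd (hle h2) t.2
    · exact hp₁.mem_of_pow_mem n h2
  refine ⟨p₀, hp₀, U1 p inferInstance le_rfl, U1, ⟨⟨hp₀, bot_le⟩, fun y hy hle => ?_⟩⟩
  exact U1 y hy.1 (hle.trans (U1 p inferInstance le_rfl))

/-- **(T)** `R → S` integral and birational, `p` a prime of `R`: `R_p` is geometrically unibranch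
iff `S` is radicial over `p` and `S_q` is geometrically unibranch for every `q` over `p`. -/
theorem isGeomUnibranch_iff_radHom (hB : BirHyp R S) (p : Ideal R) [p.IsPrime] :
    CAlg2.IsGeomUnibranch (Localization.AtPrime p) ↔
      RadHom R S p ∧ ∀ (q : Ideal S) [q.IsPrime], q.comap (algebraMap R S) = p →
        CAlg2.IsGeomUnibranch (Localization.AtPrime q) := by
  constructor
  · intro hG
    obtain ⟨p₀, hp₀, hp₀p, U1, hp₀min⟩ := exists_le_all p
      (Groth.Agent.H8.Hens.isPrime_nilradical_of_isGeomUnibranch hG)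
    obtain ⟨q₀, hq₀min, hq₀⟩ := hB.b2 p₀ hp₀min
    haveI := hq₀min.1.1
    have U2 : ∀ q₁ : Ideal S, q₁.IsPrime → q₁.comap (algebraMap R S) ≤ p → q₀ ≤ q₁ := by
      intro q₁ hq₁ h
      obtain ⟨q₂, hq₂min, hq₂le⟩ := Ideal.exists_minimalPrimes_le (bot_le : (⊥ : Ideal S) ≤ q₁)
      have h1 := hB.b1 q₂ hq₂min
      have h2 : q₂.comap (algebraMap R S) ≤ p := (Ideal.comap_mono hq₂le).trans h
      have h3 : p₀ ≤ q₂.comap (algebraMap R S) := U1 _ h1.1.1 h2
      have h4 : q₂.comap (algebraMap R S) = p₀ := le_antisymm (h1.2 ⟨hp₀, bot_le⟩ h3) h3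
      have h5 := hB.b3 p₀ hp₀min q₂ q₀ hq₂min.1.1 inferInstance h4 hq₀
      rw [← h5]; exact hq₂le
    exact (isGeomUnibranch_iff_of_CS p p₀ q₀ hq₀ hp₀p U1 U2
      (hB.b4 p₀ hp₀min q₀ inferInstance hq₀)).mp hG
  · rintro ⟨hrad, hGS⟩
    have hkerle : (⊥ : Ideal S).comap (algebraMap R S) ≤ p := by
      obtain ⟨p₁, hp₁min, hp₁le⟩ := Ideal.exists_minimalPrimes_le (bot_le : (⊥ : Ideal R) ≤ p)
      obtain ⟨q₁, _, hq₁⟩ := hB.b2 p₁ hp₁min
      refine le_trans ?_ hp₁le
      rw [← hq₁]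
      exact Ideal.comap_mono bot_le
    obtain ⟨q, _, hqprime, hq⟩ := Ideal.exists_ideal_over_prime_of_isIntegral p (⊥ : Ideal S) hkerle
    haveI := hqprime
    have U3 : ∀ q' : Ideal S, q'.IsPrime → q'.comap (algebraMap R S) = p → q' = q := by
      intro q' hq'prime hq'
      obtain ⟨Ω, _, _, ι, hι⟩ := exists_point R p
      obtain ⟨g, hg⟩ := Groth.Agent.H6.QfDeg.exists_homOver_ker_eq ι q (by rw [hq, hι])
      obtain ⟨g', hg'⟩ := Groth.Agent.H6.QfDeg.exists_homOver_ker_eq ι q' (by rw [hq', hι])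
      have := hrad Ω g.1 g'.1 (by rw [g.2, g'.2]) (by rw [g.2, hι])
      rw [← hg, ← hg', this]
    obtain ⟨q₀, hq₀, hq₀q, U1', hq₀min⟩ := exists_le_all q
      (Groth.Agent.H8.Hens.isPrime_nilradical_of_isGeomUnibranch (hGS q hq))
    have hp₀min := hB.b1 q₀ hq₀min
    haveI := hp₀min.1.1
    have hp₀p : q₀.comap (algebraMap R S) ≤ p := by rw [← hq]; exact Ideal.comap_mono hq₀q
    have U2 : ∀ q₁ : Ideal S, q₁.IsPrime → q₁.comap (algebraMap R S) ≤ p → q₀ ≤ q₁ := by
      intro q₁ hq₁ h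
      obtain ⟨q', hq'ge, hq'prime, hq'⟩ := Ideal.exists_ideal_over_prime_of_isIntegral p q₁ h
      have := U3 q' hq'prime hq'
      exact U1' q₁ hq₁ (this ▸ hq'ge)
    have U1 : ∀ p₁ : Ideal R, p₁.IsPrime → p₁ ≤ p → q₀.comap (algebraMap R S) ≤ p₁ := by
      intro p₁ hp₁ hle
      obtain ⟨p₂, hp₂min, hp₂le⟩ := Ideal.exists_minimalPrimes_le (bot_le : (⊥ : Ideal R) ≤ p₁)
      obtain ⟨q₂, hq₂min, hq₂⟩ := hB.b2 p₂ hp₂min
      have h1 : q₀ ≤ q₂ := U2 q₂ hq₂min.1.1 (by rw [hq₂]; exact hp₂le.trans hle)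
      have h2 : q₂ = q₀ := le_antisymm (hq₂min.2 ⟨hq₀, bot_le⟩ h1) h1
      rw [← h2, hq₂]; exact hp₂le
    exact (isGeomUnibranch_iff_of_CS p (q₀.comap (algebraMap R S)) q₀ rfl hp₀p U1 U2
      (hB.b4 _ hp₀min q₀ hq₀ rfl)).mpr ⟨hrad, hGS⟩

end General

end Groth.Agent.H2.GUBir
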