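import Mathlib
import Groth.Prelude.Def_EGA4Misc
import Groth.Prelude.Def_CAlg2
import Groth.Agent.Lib.Helper2.GUBirD
import Groth.Agent.Lib.Helper3.RadPtBC
import Groth.Agent.Lib.Helper3.IrrCompBC
import Groth.Agent.S7405

/-! # Radicial at a point and birational morphisms: field-valued points and the affine dictionary
(helper2) -/

set_option autoImplicit false
set_option linter.style.haveILetI false
universe u

open AlgebraicGeometry CategoryTheory CategoryTheory.Limits

namespace Groth.Agent.H2.GUBir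

/-- `f` is radicial at `y` iff field-valued points of `X` over a field-valued point of `Y`
located at `y` are unique. -/
theorem isRadicialAt_iff_forall_field {X Y : Scheme.{u}} (f : X ⟶ Y) (y : Y) :
    RadPt.IsRadicialAt f y ↔ ∀ (K : Type u) [Field K] (a₁ a₂ : Spec (.of K) ⟶ X),
      a₁ ≫ f = a₂ ≫ f → (a₁ ≫ f) (IsLocalRing.closedPoint K) = y → a₁ = a₂ := by
  have h01 : UniversallyInjective (f.fiberToSpecResidueField y) ↔
      ∀ (K : Type u) [Field K], Function.Injective
        (fun g : Spec (.of K) ⟶ f.fiber y ↦ g ≫ f.fiberToSpecResidueField y) :=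
    (tfae_universallyInjective (f.fiberToSpecResidueField y)).out 0 1
  refine (Groth.Agent.H3.RadPtBC.isRadicialAt_iff f y).trans (h01.trans ?_)
  constructor
  · intro h K _ a₁ a₂ h12 hy
    subst hy
    have hfac := Scheme.descResidueField_stalkClosedPointTo_fromSpecResidueField K Y (a₁ ≫ f)
    let c : Spec (.of K) ⟶ Spec (Y.residueField ((a₁ ≫ f) (IsLocalRing.closedPoint K))) :=
      Spec.map (Y.descResidueField (Scheme.stalkClosedPointTo (a₁ ≫ f)))
    let g₁ : Spec (.of K) ⟶ f.fiber ((a₁ ≫ f) (IsLocalRing.closedPoint K)) :=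
      pullback.lift a₁ c hfac.symm
    let g₂ : Spec (.of K) ⟶ f.fiber ((a₁ ≫ f) (IsLocalRing.closedPoint K)) :=
      pullback.lift a₂ c (by rw [← h12]; exact hfac.symm)
    have h1 : g₁ ≫ f.fiberToSpecResidueField _ = g₂ ≫ f.fiberToSpecResidueField _ := by
      show g₁ ≫ pullback.snd _ _ = g₂ ≫ pullback.snd _ _
      exact (pullback.lift_snd _ _ _).trans (pullback.lift_snd _ _ _).symm
    have h2 : g₁ = g₂ := h K h1
    calc a₁ = g₁ ≫ pullback.fst _ _ := (pullback.lift_fst _ _ _).symm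
      _ = g₂ ≫ pullback.fst _ _ := by rw [h2]
      _ = a₂ := pullback.lift_fst _ _ _
  · intro h K _ g₁ g₂ h12
    have h12' : g₁ ≫ f.fiberToSpecResidueField y = g₂ ≫ f.fiberToSpecResidueField y := h12
    apply pullback.hom_ext
    · refine h K (g₁ ≫ f.fiberι y) (g₂ ≫ f.fiberι y) ?_ ?_
      · rw [Category.assoc, Category.assoc, f.fiber_fac, ← Category.assoc, ← Category.assoc, h12']
      · rw [Category.assoc, f.fiber_fac, ← Category.assoc, Scheme.Hom.comp_apply,
          Scheme.fromSpecResidueField_apply]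
    · exact h12'

lemma specMap_closedPoint_asIdeal {S : CommRingCat.{u}} {Ω : Type u} [Field Ω] (g : S →+* Ω) :
    ((Spec.map (CommRingCat.ofHom g)) (IsLocalRing.closedPoint Ω)).asIdeal = RingHom.ker g := by
  show Ideal.comap g (IsLocalRing.maximalIdeal Ω) = RingHom.ker g
  rw [IsLocalRing.maximalIdeal_eq_bot, RingHom.ker_eq_comap_bot]

/-- the affine dictionary for "radicial at a point". -/
theorem isRadicialAt_SpecMap_iff {R S : CommRingCat.{u}} (φ : R ⟶ S) (x : Spec R) :
    RadPt.IsRadicialAt (Spec.map φ) x ↔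
      (letI := φ.hom.toAlgebra; RadHom R S x.asIdeal) := by
  letI := φ.hom.toAlgebra
  refine (isRadicialAt_iff_forall_field (Spec.map φ) x).trans ?_
  constructor
  · intro h Ω _ g₁ g₂ h12 hk
    have h1 : Spec.map (CommRingCat.ofHom g₁) ≫ Spec.map φ =
        Spec.map (CommRingCat.ofHom g₂) ≫ Spec.map φ := by
      rw [← Spec.map_comp, ← Spec.map_comp]
      congr 1
      ext r
      exact congr($h12 r)
    have h2 : (Spec.map (CommRingCat.ofHom g₁) ≫ Spec.map φ) (IsLocalRing.closedPoint Ω) = x := by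
      apply PrimeSpectrum.ext
      rw [← Spec.map_comp]
      have := specMap_closedPoint_asIdeal (S := R) (g₁.comp φ.hom)
      rw [← hk]
      exact this
    have h3 := h Ω _ _ h1 h2
    have h4 := Spec.map_injective h3
    ext s
    exact congr($h4 s)
  · intro h K _ a₁ a₂ h12 hy
    obtain ⟨b₁, rfl⟩ : ∃ b, a₁ = Spec.map b := ⟨Spec.preimage a₁, (Spec.map_preimage a₁).symm⟩
    obtain ⟨b₂, rfl⟩ : ∃ b, a₂ = Spec.map b := ⟨Spec.preimage a₂, (Spec.map_preimage a₂).symm⟩
    congr 1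
    have h1 : φ ≫ b₁ = φ ≫ b₂ := by
      apply Spec.map_injective
      rw [Spec.map_comp, Spec.map_comp]
      exact h12
    have h2 : b₁.hom.comp (algebraMap R S) = b₂.hom.comp (algebraMap R S) :=
      congrArg CommRingCat.Hom.hom h1
    have h3 : RingHom.ker (b₁.hom.comp (algebraMap R S)) = x.asIdeal := by
      rw [← hy, ← Spec.map_comp]
      exact (specMap_closedPoint_asIdeal (S := R) (b₁.hom.comp φ.hom)).symm
    have := h K _ _ h2 h3
    ext s
    exact congr($this s)

lemma mem_genericPoints_Spec_iff {R : CommRingCat.{u}} (x : Spec R) :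
    x ∈ genericPoints (Spec R) ↔ x.asIdeal ∈ minimalPrimes R := by
  rw [Groth.Agent.H3.IrrCompBC.mem_genericPoints_iff]
  constructor
  · intro h
    refine ⟨⟨x.isPrime, bot_le⟩, fun q hq hle => ?_⟩
    have h1 : (⟨q, hq.1⟩ : PrimeSpectrum R) ≤ x := hle
    have h2 := h ⟨q, hq.1⟩ ((PrimeSpectrum.le_iff_specializes _ _).mp h1)
    rw [← h2]
  · intro h y hy
    have hle : y.asIdeal ≤ x.asIdeal := (PrimeSpectrum.le_iff_specializes y x).mpr hy
    apply PrimeSpectrum.ext
    exact le_antisymm hle (h.2 ⟨y.isPrime, bot_le⟩ hle)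

/-- the affine dictionary for birational morphisms. -/
theorem birHyp_of_isBirational {R S : CommRingCat.{u}} (φ : R ⟶ S)
    (h : RadPt.IsBirational (Spec.map φ)) :
    (letI := φ.hom.toAlgebra; BirHyp R S) := by
  letI := φ.hom.toAlgebra
  obtain ⟨hbij, hfib⟩ := h
  have hcomap : ∀ (q : Ideal S) (hq : q.IsPrime),
      ((Spec.map φ) (⟨q, hq⟩ : Spec S)).asIdeal = q.comap (algebraMap R S) := fun q hq => rfl
  refine ⟨?_, ?_, ?_, ?_⟩
  · intro q₀ hq₀
    have h1 : (⟨q₀, hq₀.1.1⟩ : Spec S) ∈ genericPoints (Spec S) :=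
      (mem_genericPoints_Spec_iff _).mpr hq₀
    have h2 := hbij.mapsTo h1
    rw [mem_genericPoints_Spec_iff, hcomap] at h2
    exact h2
  · intro p₀ hp₀
    have h1 : (⟨p₀, hp₀.1.1⟩ : Spec R) ∈ genericPoints (Spec R) :=
      (mem_genericPoints_Spec_iff _).mpr hp₀
    obtain ⟨x, hx, hxy⟩ := hbij.surjOn h1
    refine ⟨x.asIdeal, (mem_genericPoints_Spec_iff x).mp hx, ?_⟩
    have := congrArg PrimeSpectrum.asIdeal hxy
    exact this
  · intro p₀ hp₀ q q' hq hq' hqp hq'p
    have h1 : (⟨p₀, hp₀.1.1⟩ : Spec R) ∈ genericPoints (Spec R) :=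
      (mem_genericPoints_Spec_iff _).mpr hp₀
    have h2 := (hfib _ h1).1 ⟨q, hq⟩ ⟨q', hq'⟩ (PrimeSpectrum.ext hqp) (PrimeSpectrum.ext hq'p)
    exact congrArg PrimeSpectrum.asIdeal h2
  · intro p₀ hp₀ q hq hqp s
    have h1 : (⟨p₀, hp₀.1.1⟩ : Spec R) ∈ genericPoints (Spec R) :=
      (mem_genericPoints_Spec_iff _).mpr hp₀
    have h2 := ((hfib _ h1).2 ⟨q, hq⟩ (PrimeSpectrum.ext hqp)).2
    exact (Groth.Agent.S7405.resField_surj_iff φ ⟨q, hq⟩).mp h2 s

end Groth.Agent.H2.GUBir
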