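import Mathlib
import Groth.Prelude.Def_EGA4Misc
import Groth.Prelude.Def_CAlg2
import Groth.Agent.Lib.Helper2.GUBirE
import Groth.Agent.Lib.Helper3.BiratBC

/-! # EGA IV 6.15.5-type statement: for `f : X → Y` integral and birational, `Y` is geometrically
unibranch at `y` iff `f` is radicial at `y` and `X` is geometrically unibranch over `y`
(S5865, S5866) (helper2) -/

set_option autoImplicit false
set_option linter.style.haveILetI false
universe u

open AlgebraicGeometry CategoryTheory CategoryTheory.Limits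

namespace Groth.Agent.H2.GUBir

/-- affine case. -/
theorem isGeomUnibranch_iff_SpecMap {R S : CommRingCat.{u}} (φ : R ⟶ S) (hφ : φ.hom.IsIntegral)
    (hbir : RadPt.IsBirational (Spec.map φ)) (x : Spec R) :
    CAlg2.IsGeomUnibranch (Localization.AtPrime x.asIdeal) ↔
      RadPt.IsRadicialAt (Spec.map φ) x ∧ ∀ z : Spec S, (Spec.map φ) z = x →
        CAlg2.IsGeomUnibranch (Localization.AtPrime z.asIdeal) := by
  letI := φ.hom.toAlgebra
  haveI : Algebra.IsIntegral R S := ⟨hφ⟩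
  rw [isRadicialAt_SpecMap_iff, isGeomUnibranch_iff_radHom (birHyp_of_isBirational φ hbir) x.asIdeal]
  refine and_congr Iff.rfl ⟨fun h z hz => ?_, fun h q hq hqx => ?_⟩
  · exact h z.asIdeal (congrArg PrimeSpectrum.asIdeal hz)
  · exact h ⟨q, hq⟩ (PrimeSpectrum.ext hqx)

/-- the stalk at a point of an affine open is geometrically unibranch iff the localization is. -/
lemma isGeomUnibranch_stalk_fromSpec_iff {X : Scheme.{u}} {V : X.Opens} (hV : IsAffineOpen V)
    (z : Spec Γ(X, V)) :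
    CAlg2.IsGeomUnibranch (X.presheaf.stalk (hV.fromSpec z)) ↔
      CAlg2.IsGeomUnibranch (Localization.AtPrime z.asIdeal) := by
  have hz : hV.fromSpec z ∈ V := (hV.isoSpec.inv _).2
  letI := TopCat.Presheaf.algebra_section_stalk X.presheaf ⟨hV.fromSpec z, hz⟩
  haveI : IsLocalization.AtPrime (X.presheaf.stalk (hV.fromSpec z)) z.asIdeal :=
    hV.isLocalization_stalk' z hz
  let e := (IsLocalization.algEquiv z.asIdeal.primeCompl (X.presheaf.stalk (hV.fromSpec z))
    (Localization.AtPrime z.asIdeal)).toRingEquiv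
  exact ⟨Groth.Agent.H8.Hens.isGeomUnibranch_of_ringEquiv e,
    Groth.Agent.H8.Hens.isGeomUnibranch_of_ringEquiv e.symm⟩

/-- **S5865** -/
theorem main {X Y : Scheme.{u}} (f : X ⟶ Y) [IsIntegralHom f] (hf : RadPt.IsBirational f)
    (y : Y) :
    CAlg2.IsGeomUnibranch (Y.presheaf.stalk y) ↔
      (RadPt.IsRadicialAt f y ∧ ∀ x : X, f x = y → CAlg2.IsGeomUnibranch (X.presheaf.stalk x)) := by
  obtain ⟨_, ⟨U, hU, rfl⟩, hyU, -⟩ :=
    Y.isBasis_affineOpens.exists_subset_of_mem_open (Set.mem_univ y) isOpen_univ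
  have hV : IsAffineOpen (f ⁻¹ᵁ U) := hU.preimage f
  let φ : Γ(Y, U) ⟶ Γ(X, f ⁻¹ᵁ U) := f.appLE U (f ⁻¹ᵁ U) le_rfl
  have hφ : φ.hom.IsIntegral := by
    have := IsIntegralHom.isIntegral_app f U hU
    rwa [Scheme.Hom.app_eq_appLE] at this
  have hcomm : Spec.map φ ≫ hU.fromSpec = hV.fromSpec ≫ f :=
    IsAffineOpen.SpecMap_appLE_fromSpec f hU hV le_rfl
  have sq : IsPullback hV.fromSpec (Spec.map φ) f hU.fromSpec :=
    (IsOpenImmersion.isPullback (Spec.map φ) hV.fromSpec hU.fromSpec f hcomm.symm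
      (by rw [hU.opensRange_fromSpec, hV.opensRange_fromSpec])).flip
  have hbir : RadPt.IsBirational (Spec.map φ) := Groth.Agent.H3.BiratBC.main sq hf
  have hy : hU.fromSpec (hU.primeIdealOf ⟨y, hyU⟩) = y := hU.fromSpec_primeIdealOf ⟨y, hyU⟩
  generalize hU.primeIdealOf ⟨y, hyU⟩ = x₀ at hy
  subst hy
  rw [isGeomUnibranch_stalk_fromSpec_iff hU x₀, Groth.Agent.H3.RadPtBC.main sq x₀,
    isGeomUnibranch_iff_SpecMap φ hφ hbir x₀]
  refine and_congr Iff.rfl ⟨fun h x hx => ?_, fun h z hz => ?_⟩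
  · have hxV : x ∈ f ⁻¹ᵁ U := by
      show f x ∈ U
      rw [hx]; exact hyU
    obtain ⟨z, rfl⟩ : ∃ z, hV.fromSpec z = x := by
      have : x ∈ Set.range hV.fromSpec := by rw [hV.range_fromSpec]; exact hxV
      exact this
    rw [isGeomUnibranch_stalk_fromSpec_iff hV z]
    apply h z
    apply hU.fromSpec.isOpenEmbedding.injective
    rw [← Scheme.Hom.comp_apply, hcomm, Scheme.Hom.comp_apply]
    exact hx
  · rw [← isGeomUnibranch_stalk_fromSpec_iff hV z]
    apply h
    rw [← Scheme.Hom.comp_apply, ← hcomm, Scheme.Hom.comp_apply, hz]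

lemma universallyInjective_iff_forall_isRadicialAt {X Y : Scheme.{u}} (f : X ⟶ Y) :
    UniversallyInjective f ↔ ∀ y : Y, RadPt.IsRadicialAt f y := by
  have h02 : UniversallyInjective f ↔
      (Function.Injective f ∧ ∀ x, (f.residueFieldMap x).hom.IsPurelyInseparable) :=
    (tfae_universallyInjective f).out 0 2
  rw [h02]
  constructor
  · rintro ⟨h1, h2⟩ y
    exact ⟨fun x x' hx hx' => h1 (hx.trans hx'.symm), fun x _ => h2 x⟩
  · intro h
    exact ⟨fun x x' hxx' => (h (f x')).1 x x' hxx' rfl, fun x => (h (f x)).2 x rfl⟩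

/-- **S5866** -/
theorem main_global {X Y : Scheme.{u}} (f : X ⟶ Y) [IsIntegralHom f]
    (hf : RadPt.IsBirational f) :
    (∀ y : Y, CAlg2.IsGeomUnibranch (Y.presheaf.stalk y)) ↔
      ((∀ x : X, CAlg2.IsGeomUnibranch (X.presheaf.stalk x)) ∧ UniversallyInjective f) := by
  rw [universallyInjective_iff_forall_isRadicialAt]
  constructor
  · intro h
    exact ⟨fun x => ((main f hf (f x)).mp (h (f x))).2 x rfl,
      fun y => ((main f hf y).mp (h y)).1⟩
  · rintro ⟨h1, h2⟩ y
    exact (main f hf y).mpr ⟨h2 y, fun x _ => h1 x⟩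

end Groth.Agent.H2.GUBir
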