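import Mathlib
import Groth.Agent.Lib.Helper5.GV.Main
import Groth.Agent.Lib.Helper6.LCGroVanish
import Groth.Agent.Lib.Lead.QC.SubExt
import Groth.Agent.H4.FAmp3

/-!
# Grothendieck vanishing in terms of the dimension of the support (coherent modules).
-/

set_option autoImplicit false
universe u
open CategoryTheory CategoryTheory.Limits AlgebraicGeometry TopologicalSpace Opposite Abelian

namespace Groth.Agent.H2.GVSupp

open Groth.Agent.LD Groth.Agent.LD.SC Groth.Agent.LD.QC

/-- a family of points of a subset `S`, indexed by a preorder whose order is the specialization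
order, bounds the Krull dimension of `S` from below. -/
theorem krullDim_le_topologicalKrullDim_of_specializes {Y : Type*} [TopologicalSpace Y] (S : Set Y)
    {P : Type*} [Preorder P] (f : P → Y) (hf : ∀ p, f p ∈ S)
    (h : ∀ p q, f p ⤳ f q ↔ p ≤ q) : Order.krullDim P ≤ topologicalKrullDim S := by
  let g : P → (IrreducibleCloseds S)ᵒᵈ := fun p => OrderDual.toDual
    ⟨closure {(⟨f p, hf p⟩ : S)}, isIrreducible_singleton.closure, isClosed_closure⟩
  have hle : ∀ p q, g p ≤ g q ↔ p ≤ q := by
    intro p q
    change closure {(⟨f q, hf q⟩ : S)} ⊆ closure {(⟨f p, hf p⟩ : S)} ↔ p ≤ q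
    rw [← specializes_iff_closure_subset, subtype_specializes_iff]
    exact h p q
  have hg : StrictMono g := by
    intro p q hpq
    rw [lt_iff_le_not_ge] at hpq ⊢
    exact ⟨(hle p q).2 hpq.1, fun h' => hpq.2 ((hle q p).1 h')⟩
  have := Order.krullDim_le_of_strictMono g hg
  rwa [Order.krullDim_orderDual] at this

section Spec
variable (R : CommRingCat.{u})

theorem mem_support_tilde (M : ModuleCat.{u} R) (p : PrimeSpectrum R)
    (hp : p ∈ Module.support R M) :
    (show (Spec R) from p) ∈ CohB1.support (tilde M) := by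
  change ¬ Subsingleton ((tilde M).presheaf.stalk p)
  rw [Module.mem_support_iff] at hp
  rw [not_subsingleton_iff_nontrivial]
  exact (IsLocalizedModule.iso p.asIdeal.primeCompl
    (tilde.toStalk M p).hom).toEquiv.nontrivial_congr.1 hp

/-- the dimension of the support of a module is bounded by the dimension of the support of the
associated sheaf. -/
theorem supportDim_le_tilde (M : ModuleCat.{u} R) :
    Module.supportDim R M ≤ topologicalKrullDim (CohB1.support (tilde M)) := by
  refine krullDim_le_topologicalKrullDim_of_specializes (Y := (Spec R))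
    (CohB1.support (tilde M)) (P := Module.support R M) (fun p => (p.1 : PrimeSpectrum R))
    (fun p => mem_support_tilde R M p.1 p.2) ?_
  intro p q
  exact (PrimeSpectrum.le_iff_specializes p.1 q.1).symm

end Spec

theorem finite_top (R : CommRingCat.{u}) : Module.Finite R Γ(Spec R, ⊤) := by
  refine Module.Finite.of_surjective (Algebra.linearMap R Γ(Spec R, ⊤)) ?_
  intro x
  refine ⟨(Scheme.ΓSpecIso R).hom x, ?_⟩
  change (Scheme.ΓSpecIso R).inv ((Scheme.ΓSpecIso R).hom x) = x
  rw [← CommRingCat.comp_apply, Iso.hom_inv_id]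
  rfl

theorem finite_sections_spec (R : CommRingCat.{u}) (N : (Spec R).Modules) [N.IsQuasicoherent]
    (hN : N.IsFiniteType) : Module.Finite R Γ(N, ⊤) := by
  haveI : Module.Finite Γ(Spec R, ⊤) Γ(N, ⊤) :=
    finite_sections_of_isFiniteType N hN (isAffineOpen_top (Spec R))
  haveI : Module.Finite R Γ(Spec R, ⊤) := finite_top R
  exact Module.Finite.trans Γ(Spec R, ⊤) Γ(N, ⊤)

theorem support_subset_of_iso {X : Scheme.{u}} {M N : X.Modules} (e : M ≅ N) :
    CohB1.support M ⊆ CohB1.support N := by
  intro x hx hs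
  apply hx
  let ε := (TopCat.Presheaf.stalkFunctor Ab x).mapIso ((Scheme.Modules.toPresheaf X).mapIso e)
  have hε : ∀ a : M.presheaf.stalk x, ε.inv (ε.hom a) = a := fun a => by
    rw [← ConcreteCategory.comp_apply, Iso.hom_inv_id]; rfl
  refine ⟨fun a b => ?_⟩
  rw [← hε a, ← hε b]
  exact congrArg _ (hs.elim _ _)

theorem topologicalKrullDim_mono {Y : Type*} [TopologicalSpace Y] {S T : Set Y} (h : S ⊆ T) :
    topologicalKrullDim S ≤ topologicalKrullDim T :=
  Topology.IsInducing.topologicalKrullDim_le (f := Set.inclusion h)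
    (Topology.IsEmbedding.inclusion h).isInducing

/-- cohomology over opens of a Noetherian affine scheme, for a coherent module whose support has
dimension `≤ d`, vanishes in degrees `≥ max d 1`. -/
theorem subsingleton_ext_spec (A : Type u) [CommRing A] [IsNoetherianRing A] (d : ℕ)
    (N : (Spec (CommRingCat.of A)).Modules) [N.IsQuasicoherent] (hN : N.IsFiniteType)
    (hd : topologicalKrullDim (CohB1.support N) ≤ d)
    (W : (Spec (CommRingCat.of A)).Opens) (q : ℕ) (hq : d < q + 2) :
    Subsingleton (Ext (ZU (JX (Spec (CommRingCat.of A))) W) (Coh.toAb N) (q + 1)) := by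
  obtain ⟨I, rfl⟩ := H5.GV.exists_puncturedOpen_eq A W
  haveI : IsIso (Scheme.Modules.fromTildeΓ (R := CommRingCat.of A) N) :=
    Scheme.Modules.isIso_fromTildeΓ_of_isQuasicoherent (R := CommRingCat.of A) N
  obtain ⟨e1⟩ := HH_restrict_equiv (LocCoh.puncturedOpen A I).ι N (q + 1)
  rw [Scheme.Opens.opensRange_ι] at e1
  obtain ⟨e2⟩ := Groth.Agent.H8.CK.nonempty_HH_punctured_equiv_lc A I
    ((modulesSpecToSheaf.obj N).presheaf.obj (.op ⊤)) q
  haveI hfin : Module.Finite A ((modulesSpecToSheaf.obj N).presheaf.obj (.op ⊤)) :=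
    finite_sections_spec (CommRingCat.of A) N hN
  have hsd : Module.supportDim A ((modulesSpecToSheaf.obj N).presheaf.obj (.op ⊤)) ≤ d := by
    refine (supportDim_le_tilde (CommRingCat.of A) _).trans (le_trans ?_ hd)
    exact topologicalKrullDim_mono (support_subset_of_iso
      (asIso (Scheme.Modules.fromTildeΓ (R := CommRingCat.of A) N)))
  have hz := Groth.Agent.H6.LC.subsingleton_of_supportDim_lt I
    ((modulesSpecToSheaf.obj N).presheaf.obj (.op ⊤)) (q + 2)
    (lt_of_le_of_lt hsd (by exact_mod_cast hq))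
  haveI : Subsingleton ((localCohomology I (q + 2)).obj
      ((modulesSpecToSheaf.obj N).presheaf.obj (.op ⊤))) := hz
  have h3 := e2.toEquiv.subsingleton
  have h4 : Subsingleton (Coh.HH (↑(LocCoh.puncturedOpen A I))
      (N.restrict (LocCoh.puncturedOpen A I).ι) (q + 1)) :=
    Groth.Agent.H5.GG.subsingleton_HH_of_iso
      ((Scheme.Modules.restrictFunctor (LocCoh.puncturedOpen A I).ι).mapIso
        (asIso (Scheme.Modules.fromTildeΓ (R := CommRingCat.of A) N)).symm) (q + 1) h3
  exact e1.symm.toEquiv.subsingleton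

variable {X : Scheme.{u}}

/-- the support of a restriction to an open subscheme has smaller dimension. -/
theorem topologicalKrullDim_support_restrict {Y : Scheme.{u}} (j : Y ⟶ X) [IsOpenImmersion j]
    (M : X.Modules) :
    topologicalKrullDim (CohB1.support (M.restrict j)) ≤ topologicalKrullDim (CohB1.support M) := by
  have hmem : ∀ y : Y, y ∈ CohB1.support (M.restrict j) → j y ∈ CohB1.support M := by
    intro y hy hs
    apply hy
    exact (Groth.Agent.H4.FAmp3.stalkRestrictAddEquiv j M y).toEquiv.subsingleton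
  let f : CohB1.support (M.restrict j) → CohB1.support M := fun y => ⟨j y.1, hmem y.1 y.2⟩
  have hf : Topology.IsInducing f := by
    rw [← Topology.IsInducing.of_comp_iff Topology.IsInducing.subtypeVal]
    exact j.isOpenEmbedding.isInducing.comp Topology.IsInducing.subtypeVal
  exact hf.topologicalKrullDim_le

/-- cohomology over opens contained in a Noetherian affine open, for a coherent module whose
support has dimension `≤ d`. -/
theorem subsingleton_ext_of_le_affine [IsLocallyNoetherian X] (d : ℕ) (V : X.Opens)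
    (hV : IsAffineOpen V) (M : X.Modules) [M.IsQuasicoherent] (hM : M.IsFiniteType)
    (hd : topologicalKrullDim (CohB1.support M) ≤ d)
    (W : X.Opens) (hW : W ≤ V) (q : ℕ) (hq : d < q + 2) :
    Subsingleton (Ext (ZU (JX X) W) (Coh.toAb M) (q + 1)) := by
  haveI : IsNoetherianRing Γ(X, V) := IsLocallyNoetherian.component_noetherian ⟨V, hV⟩
  haveI : (M.restrict hV.fromSpec).IsQuasicoherent := qc_restrict hV.fromSpec M
  obtain ⟨e⟩ := ext_resAb_equiv hV.fromSpec (q + 1) (Coh.toAb M) (hV.fromSpec ⁻¹ᵁ W)
  have himg : hV.fromSpec ''ᵁ (hV.fromSpec ⁻¹ᵁ W) = W := by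
    rw [Scheme.Hom.image_preimage_eq_opensRange_inf, hV.opensRange_fromSpec,
      inf_eq_right.mpr hW]
  rw [himg] at e
  have h := subsingleton_ext_spec Γ(X, V) d (M.restrict hV.fromSpec)
    (isFiniteType_restrict hV.fromSpec M hM)
    ((topologicalKrullDim_support_restrict hV.fromSpec M).trans hd) (hV.fromSpec ⁻¹ᵁ W) q hq
  haveI : Subsingleton (Ext (ZU (JX (Spec Γ(X, V))) (hV.fromSpec ⁻¹ᵁ W))
      ((resAb hV.fromSpec).obj (Coh.toAb M)) (q + 1)) := h
  exact e.symm.toEquiv.subsingleton

/-- **Grothendieck vanishing by the dimension of the support**, over quasi-compact opens, in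
degrees `≥ 2`. -/
theorem subsingleton_ext_of_support_dim_le [IsLocallyNoetherian X] (d : ℕ)
    (M : X.Modules) [M.IsQuasicoherent] (hM : M.IsFiniteType)
    (hd : topologicalKrullDim (CohB1.support M) ≤ d)
    (S : X.Opens) (hS : IsCompact (S : Set X)) (n : ℕ) (hn : d < n + 2) :
    Subsingleton (Ext (ZU (JX X) S) (Coh.toAb M) (n + 2)) := by
  refine compact_open_induction_on (P := fun S =>
    Subsingleton (Ext (ZU (JX X) S) (Coh.toAb M) (n + 2))) S hS ?_ ?_
  · exact subsingleton_of_forall_eq 0 fun ξ => ext_bot_eq_zero ξ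
  · intro S hS U ih
    apply subsingleton_ext_sup
    · exact ih
    · exact subsingleton_ext_of_isAffineOpen M (n + 1) U.1 U.2
    · exact subsingleton_ext_of_le_affine d U.1 U.2 M hM hd (S ⊓ U.1) inf_le_right n hn

/-- **Grothendieck vanishing by the dimension of the support**: a coherent module on a
quasi-compact locally Noetherian scheme whose support has dimension `≤ d` has no cohomology in
degrees `p > d`, `p ≥ 2`. -/
theorem subsingleton_HH_of_support_dim_le [IsLocallyNoetherian X] [CompactSpace X] (d : ℕ)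
    (M : X.Modules) (hM : Coh.IsCoh M)
    (hd : topologicalKrullDim (CohB1.support M) ≤ d) (p : ℕ) (hp : d < p) (hp2 : 2 ≤ p) :
    Subsingleton (Coh.HH X M p) := by
  haveI := hM.1
  obtain ⟨n, rfl⟩ : ∃ n, p = n + 2 := ⟨p - 2, by omega⟩
  exact subsingleton_H_of_subsingleton_ext (J := JX X) isTerminalTop (Coh.toAb M) (n + 2)
    (subsingleton_ext_of_support_dim_le d M hM.2 hd ⊤ isCompact_univ n hp)

end Groth.Agent.H2.GVSupp
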