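import Mathlib.RingTheory.Filtration
import Mathlib.RingTheory.Noetherian.Basic
import Mathlib.RingTheory.Finiteness.Prod
import Mathlib.LinearAlgebra.Pi
import Mathlib.LinearAlgebra.Prod

/-!
# Commutative algebra for the "tricky lemma" of Grothendieck's existence theorem (helper2)

* `ar_pair`: Artin–Rees for a module embedded in a product of two finite modules.
* `a5`: the two-ideal Artin–Rees statement: for surjections `a_n : Φ_n → L/I^{n+1}L` whose kernels
  are killed by `K^c`, the submodule `K^e Φ_{n+s} ∩ ker a_{n+s}` dies in `Φ_n`, with `e, s`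
  depending only on `L`.
-/

set_option autoImplicit false
universe u

namespace Groth.Agent.H2.GX.Alg

lemma exists_uniform {ι : Type*} {S : Set ι} (hS : S.Finite) (P : ι → ℕ → ℕ → Prop)
    (h : ∀ i ∈ S, ∃ e s, ∀ e', e ≤ e' → ∀ s', s ≤ s' → P i e' s') :
    ∃ e s, ∀ i ∈ S, ∀ e', e ≤ e' → ∀ s', s ≤ s' → P i e' s' := by
  classical
  choose! e s hes using h
  refine ⟨hS.toFinset.sup e, hS.toFinset.sup s, fun i hi e' he' s' hs' => ?_⟩
  have hi' : i ∈ hS.toFinset := hS.mem_toFinset.2 hi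
  exact hes i hi e' ((Finset.le_sup hi').trans he') s' ((Finset.le_sup hi').trans hs')

theorem ar_pair {R : Type*} [CommRing R] [IsNoetherianRing R] (J : Ideal R) {M N₁ N₂ : Type*}
    [AddCommGroup M] [Module R M] [AddCommGroup N₁] [Module R N₁] [Module.Finite R N₁]
    [AddCommGroup N₂] [Module R N₂] [Module.Finite R N₂] (f₁ : M →ₗ[R] N₁) (f₂ : M →ₗ[R] N₂)
    (hinj : ∀ y, f₁ y = 0 → f₂ y = 0 → y = 0) :
    ∃ s : ℕ, ∀ (n : ℕ) (y : M), f₁ y ∈ (J ^ (n + s) • ⊤ : Submodule R N₁) →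
      f₂ y ∈ (J ^ (n + s) • ⊤ : Submodule R N₂) → y ∈ (J ^ n • ⊤ : Submodule R M) := by
  let f : M →ₗ[R] N₁ × N₂ := f₁.prod f₂
  obtain ⟨k, hk⟩ := Ideal.exists_pow_inf_eq_pow_smul J (LinearMap.range f)
  refine ⟨k, fun n y h1 h2 => ?_⟩
  have hfy : f y ∈ (J ^ (n + k) • ⊤ : Submodule R (N₁ × N₂)) := by
    have e : f y = LinearMap.inl R N₁ N₂ (f₁ y) + LinearMap.inr R N₁ N₂ (f₂ y) := by
      ext <;> simp [f]
    rw [e]
    refine Submodule.add_mem _ ?_ ?_
    · have := Submodule.mem_map_of_mem (f := LinearMap.inl R N₁ N₂) h1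
      rw [Submodule.map_smul''] at this
      exact Submodule.smul_mono le_rfl le_top this
    · have := Submodule.mem_map_of_mem (f := LinearMap.inr R N₁ N₂) h2
      rw [Submodule.map_smul''] at this
      exact Submodule.smul_mono le_rfl le_top this
  have h3 : f y ∈ (J ^ (n + k) • ⊤ ⊓ LinearMap.range f : Submodule R (N₁ × N₂)) :=
    ⟨hfy, LinearMap.mem_range_self f y⟩
  rw [hk (n + k) (Nat.le_add_left k n), Nat.add_sub_cancel] at h3
  have h4 : f y ∈ (J ^ n • LinearMap.range f : Submodule R (N₁ × N₂)) :=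
    Submodule.smul_mono le_rfl inf_le_right h3
  rw [LinearMap.range_eq_map, ← Submodule.map_smul''] at h4
  obtain ⟨y', hy', hyy⟩ := h4
  have hd : f (y' - y) = 0 := by rw [map_sub, hyy, sub_self]
  have h5 := hinj (y' - y) (by simpa [f] using congrArg Prod.fst hd)
    (by simpa [f] using congrArg Prod.snd hd)
  rw [← sub_eq_zero.1 h5]
  exact hy'

lemma exists_sum_of_mem_span_smul {R : Type*} [CommRing R] {M : Type*} [AddCommGroup M]
    [Module R M] {r : ℕ} (k : Fin r → R) (N : Submodule R M) (x : M)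
    (hx : x ∈ (Ideal.span (Set.range k)) • N) :
    ∃ y : Fin r → M, (∀ j, y j ∈ N) ∧ x = ∑ j, k j • y j := by
  refine Submodule.smul_induction_on hx (fun a ha n hn => ?_) (fun x₁ x₂ h₁ h₂ => ?_)
  · obtain ⟨c, rfl⟩ := (Ideal.mem_span_range_iff_exists_fun).1 ha
    refine ⟨fun j => c j • n, fun j => N.smul_mem _ hn, ?_⟩
    rw [Finset.sum_smul]
    refine Finset.sum_congr rfl (fun j _ => ?_)
    rw [smul_smul, mul_comm]
  · obtain ⟨y₁, hy₁, rfl⟩ := h₁
    obtain ⟨y₂, hy₂, rfl⟩ := h₂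
    refine ⟨fun j => y₁ j + y₂ j, fun j => N.add_mem (hy₁ j) (hy₂ j), ?_⟩
    rw [← Finset.sum_add_distrib]
    refine Finset.sum_congr rfl (fun j _ => ?_)
    rw [smul_add]

theorem a5 {R : Type u} [CommRing R] [IsNoetherianRing R] (I K : Ideal R) (c : ℕ) (L : Type u)
    [AddCommGroup L] [Module R L] [Module.Finite R L] :
    ∃ e s : ℕ, ∀ (e' : ℕ), e ≤ e' → ∀ (s' : ℕ), s ≤ s' → ∀ (n : ℕ) (Φ' Φ L' L₀ : Type u)
      [AddCommGroup Φ'] [Module R Φ'] [AddCommGroup Φ] [Module R Φ] [AddCommGroup L']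
      [Module R L'] [AddCommGroup L₀] [Module R L₀]
      (τ : Φ' →ₗ[R] Φ) (a' : Φ' →ₗ[R] L') (a : Φ →ₗ[R] L₀) (p' : L →ₗ[R] L') (p : L →ₗ[R] L₀)
      (t : L' →ₗ[R] L₀),
      (∀ l, t (p' l) = p l) → (∀ x, a (τ x) = t (a' x)) →
      Function.Surjective a → Function.Surjective p' →
      (∀ l, p' l = 0 → l ∈ (I ^ (n + s' + 1) • ⊤ : Submodule R L)) →
      (∀ l ∈ (I ^ (n + 1) • ⊤ : Submodule R L), p l = 0) →
      (∀ z, a z = 0 → ∀ κ ∈ K ^ c, κ • z = 0) →
      ∀ x ∈ (K ^ e' • ⊤ : Submodule R Φ'), a' x = 0 → τ x = 0 := by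
  classical
  obtain ⟨r, k, hk⟩ := (Submodule.fg_iff_exists_fin_generating_family).1
    (IsNoetherian.noetherian (K ^ c))
  have hkj : ∀ j, k j ∈ K ^ c := fun j => by
    rw [← hk]; exact Submodule.subset_span ⟨j, rfl⟩
  let Ψ : (Fin r → L) →ₗ[R] L := ∑ j, k j • (LinearMap.proj j : (Fin r → L) →ₗ[R] L)
  have hΨ : ∀ d : Fin r → L, Ψ d = ∑ j, k j • d j := by
    intro d
    simp [Ψ, LinearMap.sum_apply]
  let Q : Submodule R (Fin r → L) := LinearMap.ker Ψ
  obtain ⟨e₀, he₀⟩ := Ideal.exists_pow_inf_eq_pow_smul K Q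
  obtain ⟨s₁, hs₁⟩ := Ideal.exists_pow_inf_eq_pow_smul I
    (K ^ (e₀ + c) • ⊤ : Submodule R ((Fin r → L) ⧸ Q))
  obtain ⟨s₂, hs₂⟩ := Ideal.exists_pow_inf_eq_pow_smul I (LinearMap.range Ψ)
  have hQ : (K ^ (e₀ + c) • ⊤ ⊓ Q : Submodule R (Fin r → L)) ≤ K ^ c • Q := by
    rw [he₀ (e₀ + c) (Nat.le_add_right e₀ c), Nat.add_sub_cancel_left]
    exact Submodule.smul_mono le_rfl inf_le_right
  refine ⟨c + (e₀ + c), s₁ + s₂, ?_⟩
  intro e' he' s' hs' n Φ' Φ L' L₀ _ _ _ _ _ _ _ _ τ a' a p' p t htp hat hsa hsp' hkp' hkp hka x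
    hx hax
  -- step 1: write `x` as a combination
  have hx1 : x ∈ ((Ideal.span (Set.range k)) • (K ^ (e₀ + c) • ⊤) : Submodule R Φ') := by
    rw [show Ideal.span (Set.range k) = K ^ c from hk, ← Submodule.mul_smul, ← pow_add]
    exact Submodule.smul_mono (Ideal.pow_le_pow_right he') le_rfl hx
  obtain ⟨y, hy, hxy⟩ := exists_sum_of_mem_span_smul k _ x hx1
  -- step 2: lift the images
  have hmp : ∀ j, ∃ l : L, l ∈ (K ^ (e₀ + c) • ⊤ : Submodule R L) ∧ p' l = a' (y j) := by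
    intro j
    have h1 : a' (y j) ∈ Submodule.map a' (K ^ (e₀ + c) • ⊤) := Submodule.mem_map_of_mem (hy j)
    rw [Submodule.map_smul''] at h1
    have h2 : a' (y j) ∈ (K ^ (e₀ + c) • ⊤ : Submodule R L') :=
      Submodule.smul_mono le_rfl le_top h1
    have h3 : (K ^ (e₀ + c) • ⊤ : Submodule R L') = Submodule.map p' (K ^ (e₀ + c) • ⊤) := by
      rw [Submodule.map_smul'', Submodule.map_top, LinearMap.range_eq_top.2 hsp']
    rw [h3] at h2
    obtain ⟨l, hl, hl'⟩ := h2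
    exact ⟨l, hl, hl'⟩
  choose h hh hph using hmp
  have hhD : h ∈ (K ^ (e₀ + c) • ⊤ : Submodule R (Fin r → L)) := by
    have e1 : h = ∑ j, LinearMap.single R (fun _ : Fin r => L) j (h j) := by
      simp only [LinearMap.coe_single]
      exact (Finset.univ_sum_single h).symm
    rw [e1]
    refine Submodule.sum_mem _ (fun j _ => ?_)
    have h1 := Submodule.mem_map_of_mem (f := LinearMap.single R (fun _ : Fin r => L) j) (hh j)
    rw [Submodule.map_smul''] at h1
    exact Submodule.smul_mono le_rfl le_top h1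
  -- step 3
  have h4 : p' (Ψ h) = 0 := by
    rw [hΨ, map_sum]
    have e1 : ∀ j, p' (k j • h j) = a' (k j • y j) := fun j => by
      rw [map_smul, map_smul, hph]
    rw [Finset.sum_congr rfl (fun j _ => e1 j), ← map_sum, ← hxy, hax]
  have h5 : Ψ h ∈ (I ^ (n + s₁ + 1 + s₂) • ⊤ : Submodule R L) :=
    Submodule.smul_mono (Ideal.pow_le_pow_right (by omega)) le_rfl (hkp' _ h4)
  have h6 : Ψ h ∈ (I ^ (n + s₁ + 1 + s₂) • ⊤ ⊓ LinearMap.range Ψ : Submodule R L) :=
    ⟨h5, LinearMap.mem_range_self Ψ h⟩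
  rw [hs₂ _ (Nat.le_add_left s₂ _), Nat.add_sub_cancel] at h6
  have h7 : Ψ h ∈ Submodule.map Ψ (I ^ (n + s₁ + 1) • ⊤ : Submodule R (Fin r → L)) := by
    rw [Submodule.map_smul'', Submodule.map_top]
    exact Submodule.smul_mono le_rfl inf_le_right h6
  obtain ⟨d, hd, hdΨ⟩ := h7
  -- step 4
  have h8 : Q.mkQ h = Q.mkQ d := by
    rw [← sub_eq_zero, ← map_sub, Submodule.mkQ_apply, Submodule.Quotient.mk_eq_zero]
    change Ψ (h - d) = 0
    rw [map_sub, hdΨ, sub_self]
  have h9 : Q.mkQ h ∈ (I ^ (n + 1 + s₁) • ⊤ ⊓ (K ^ (e₀ + c) • ⊤) :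
      Submodule R ((Fin r → L) ⧸ Q)) := by
    constructor
    · rw [h8]
      have h1 := Submodule.mem_map_of_mem (f := Q.mkQ) hd
      rw [Submodule.map_smul''] at h1
      exact Submodule.smul_mono (Ideal.pow_le_pow_right (by omega)) le_top h1
    · have h1 := Submodule.mem_map_of_mem (f := Q.mkQ) hhD
      rw [Submodule.map_smul''] at h1
      exact Submodule.smul_mono le_rfl le_top h1
  rw [hs₁ _ (Nat.le_add_left s₁ _), Nat.add_sub_cancel] at h9
  have h10 : Q.mkQ h ∈ Submodule.map Q.mkQ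
      (I ^ (n + 1) • (K ^ (e₀ + c) • ⊤) : Submodule R (Fin r → L)) := by
    rw [Submodule.map_smul'', Submodule.map_smul'', Submodule.map_top, Submodule.range_mkQ]
    exact Submodule.smul_mono le_rfl inf_le_right h9
  obtain ⟨k', hk', hk'q⟩ := h10
  have hq1 : h - k' ∈ Q := by
    have e1 : Q.mkQ (h - k') = 0 := by rw [map_sub, hk'q, sub_self]
    rwa [Submodule.mkQ_apply, Submodule.Quotient.mk_eq_zero] at e1
  have hk'K : k' ∈ (K ^ (e₀ + c) • ⊤ : Submodule R (Fin r → L)) := Submodule.smul_le_right hk'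
  have hq2 : h - k' ∈ (K ^ c • Q : Submodule R (Fin r → L)) :=
    hQ ⟨Submodule.sub_mem _ hhD hk'K, hq1⟩
  have hk'I : ∀ j, p (k' j) = 0 := by
    intro j
    apply hkp
    have hk'' : k' ∈ (I ^ (n + 1) • ⊤ : Submodule R (Fin r → L)) :=
      Submodule.smul_mono le_rfl le_top hk'
    have h1 := Submodule.mem_map_of_mem (f := (LinearMap.proj j : (Fin r → L) →ₗ[R] L)) hk''
    rw [Submodule.map_smul''] at h1
    exact Submodule.smul_mono le_rfl le_top h1
  -- step 5: the key claim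
  have claim : ∀ q ∈ (K ^ c • Q : Submodule R (Fin r → L)), ∀ w : Fin r → Φ,
      (∀ j, a (w j) = p (q j)) → ∑ j, k j • w j = 0 := by
    intro q hq
    refine Submodule.smul_induction_on
      (p := fun q => ∀ w : Fin r → Φ, (∀ j, a (w j) = p (q j)) → ∑ j, k j • w j = 0) hq
      (fun κ hκ q₀ hq₀ w hw => ?_) (fun q₁ q₂ h₁ h₂ w hw => ?_)
    · choose w₀ hw₀ using fun j => hsa (p (q₀ j))
      have hz : a (∑ j, k j • w₀ j) = 0 := by
        rw [map_sum]
        have e1 : ∀ j, a (k j • w₀ j) = p (k j • q₀ j) := fun j => by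
          rw [map_smul, map_smul, hw₀]
        rw [Finset.sum_congr rfl (fun j _ => e1 j), ← map_sum, ← hΨ]
        have e2 : Ψ q₀ = 0 := hq₀
        rw [e2, map_zero]
      have hκz := hka _ hz κ hκ
      have hdiff : ∀ j, k j • (w j - κ • w₀ j) = 0 := fun j => by
        apply hka _ _ (k j) (hkj j)
        rw [map_sub, map_smul, hw j, hw₀ j, Pi.smul_apply, map_smul, sub_self]
      calc ∑ j, k j • w j = ∑ j, (k j • (w j - κ • w₀ j) + κ • (k j • w₀ j)) := by
            refine Finset.sum_congr rfl (fun j _ => ?_)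
            rw [smul_sub, smul_comm κ (k j), sub_add_cancel]
        _ = 0 := by
            rw [Finset.sum_add_distrib, Finset.sum_congr rfl (fun j _ => hdiff j),
              Finset.sum_const_zero, zero_add, ← Finset.smul_sum, hκz]
    · choose w₁ hw₁ using fun j => hsa (p (q₁ j))
      have e1 := h₁ w₁ hw₁
      have e2 := h₂ (fun j => w j - w₁ j) (fun j => by
        rw [map_sub, hw j, hw₁ j, Pi.add_apply, map_add, add_sub_cancel_left])
      calc ∑ j, k j • w j = ∑ j, (k j • w₁ j + k j • (w j - w₁ j)) := by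
            refine Finset.sum_congr rfl (fun j _ => ?_)
            rw [← smul_add, add_sub_cancel]
        _ = 0 := by rw [Finset.sum_add_distrib, e1, e2, add_zero]
  have hfin := claim _ hq2 (fun j => τ (y j)) (fun j => by
    rw [hat, ← hph j, htp, Pi.sub_apply, map_sub, hk'I j, sub_zero])
  rw [hxy, map_sum, ← hfin]
  exact Finset.sum_congr rfl (fun j _ => map_smul _ _ _)

end Groth.Agent.H2.GX.Alg
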