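import Groth.Agent.Lib.Helper2.FormalQ3
import Groth.Agent.Lib.Helper2.FormalQ2

/-!
# Lifting maps of systems through an essentially bijective map (helper2)

If `c : Hc ⟶ M` is a map of inverse systems whose kernels and cokernels are essentially zero with a
uniform shift, every map `γ : G ⟶ M` from a coherent formal module lifts uniquely to `Hc` (when `Hc`
is a coherent formal module).
-/

set_option autoImplicit false
set_option linter.style.haveILetI false
universe u
open CategoryTheory Limits Opposite TopologicalSpace AlgebraicGeometry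

namespace Groth.Agent.H2.GX

open Groth.Agent.H2.FormalQ

section Lift

variable {A : Type u} [CommRing A] {I : Ideal A} {Y : Scheme.{u}}
  [Y.Over (Spec (CommRingCat.of A))] {G Hc M : ℕᵒᵖ ⥤ Y.Modules}

/-- maps into `Hc_{n+s}` killed by `c` die in `Hc_n`. -/
lemma comp_tr_eq_zero_of_comp_eq_zero (c : Hc ⟶ M) (s : ℕ)
    (h1 : ∀ n, kernel.ι (c.app (op (n + s))) ≫ Hc.map (homOfLE (Nat.le_add_right n s)).op = 0)
    (n : ℕ) {Z : Y.Modules} (d : Z ⟶ Hc.obj (op (n + s))) (hd : d ≫ c.app (op (n + s)) = 0) :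
    d ≫ Hc.map (homOfLE (Nat.le_add_right n s)).op = 0 := by
  rw [← kernel.lift_ι (c.app (op (n + s))) d hd, Category.assoc, h1 n, comp_zero]

/-- uniqueness of lifts. -/
theorem lift_unique (hG : Formal.IsCohFormal I G) (c : Hc ⟶ M) (s : ℕ)
    (h1 : ∀ n, kernel.ι (c.app (op (n + s))) ≫ Hc.map (homOfLE (Nat.le_add_right n s)).op = 0)
    (α α' : G ⟶ Hc) (h : α ≫ c = α' ≫ c) : α = α' := by
  apply NatTrans.ext
  funext k
  obtain ⟨n⟩ := k
  haveI : Epi (tr G (Nat.le_add_right n s)) := (isQ_tr hG (Nat.le_add_right n s)).epi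
  have hd : (α.app (op (n + s)) - α'.app (op (n + s))) ≫ c.app (op (n + s)) = 0 := by
    rw [Preadditive.sub_comp, sub_eq_zero]
    exact congrArg (fun χ => χ.app (op (n + s))) h
  have h3 := comp_tr_eq_zero_of_comp_eq_zero c s h1 n _ hd
  rw [Preadditive.sub_comp, sub_eq_zero, ← α.naturality, ← α'.naturality] at h3
  exact (cancel_epi (tr G (Nat.le_add_right n s))).1 h3

/-- level-wise lifts, after a shift by `2s`. -/
lemma exists_level_lift (c : Hc ⟶ M) (γ : G ⟶ M) (s : ℕ)
    (h1 : ∀ n, kernel.ι (c.app (op (n + s))) ≫ Hc.map (homOfLE (Nat.le_add_right n s)).op = 0)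
    (h2 : ∀ n, M.map (homOfLE (Nat.le_add_right n s)).op ≫ cokernel.π (c.app (op n)) = 0)
    (n : ℕ) : ∃ δ : G.obj (op (n + s + s)) ⟶ Hc.obj (op n),
      δ ≫ c.app (op n) =
        G.map (homOfLE (Nat.le_add_right n (s + s) |>.trans (le_of_eq (Nat.add_assoc n s s).symm))).op
          ≫ γ.app (op n) := by
  have hℓ : (G.map (homOfLE (Nat.le_add_right (n + s) s)).op ≫ γ.app (op (n + s))) ≫
      cokernel.π (c.app (op (n + s))) = 0 := by
    rw [γ.naturality, Category.assoc, h2 (n + s), comp_zero]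
  obtain ⟨P, p₁, e, hcond, hepi⟩ : ∃ (P : Y.Modules) (p₁ : P ⟶ Hc.obj (op (n + s)))
      (e : P ⟶ G.obj (op (n + s + s))),
      p₁ ≫ c.app (op (n + s)) =
        e ≫ G.map (homOfLE (Nat.le_add_right (n + s) s)).op ≫ γ.app (op (n + s)) ∧ Epi e := by
    refine ⟨pullback (Abelian.factorThruImage (c.app (op (n + s))))
      (kernel.lift (cokernel.π (c.app (op (n + s)))) _ hℓ), pullback.fst _ _, pullback.snd _ _,
      ?_, inferInstance⟩
    have h3 := pullback.condition (f := Abelian.factorThruImage (c.app (op (n + s))))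
      (g := kernel.lift (cokernel.π (c.app (op (n + s)))) _ hℓ)
    have h4 := congrArg (fun χ => χ ≫ Abelian.image.ι (c.app (op (n + s)))) h3
    simp only [Category.assoc, Abelian.image.fac] at h4
    refine h4.trans ?_
    congr 1
    exact kernel.lift_ι _ _ _
  haveI := hepi
  have hu : kernel.ι e ≫ p₁ ≫ Hc.map (homOfLE (Nat.le_add_right n s)).op = 0 := by
    have h3 : (kernel.ι e ≫ p₁) ≫ c.app (op (n + s)) = 0 := by
      rw [Category.assoc, hcond, ← Category.assoc, kernel.condition, zero_comp]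
    have h4 := comp_tr_eq_zero_of_comp_eq_zero c s h1 n _ h3
    rw [Category.assoc] at h4
    exact h4
  refine ⟨Abelian.epiDesc e _ hu, ?_⟩
  rw [← cancel_epi e, ← Category.assoc, Abelian.comp_epiDesc, Category.assoc, c.naturality,
    ← Category.assoc, hcond, Category.assoc, Category.assoc, ← γ.naturality,
    ← Category.assoc (G.map _), ← G.map_comp]
  rfl

/-- **existence of lifts**. -/
theorem exists_lift (hG : Formal.IsCohFormal I G) (hH : Formal.IsCohFormal I Hc) (c : Hc ⟶ M)
    (γ : G ⟶ M) (s : ℕ)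
    (h1 : ∀ n, kernel.ι (c.app (op (n + s))) ≫ Hc.map (homOfLE (Nat.le_add_right n s)).op = 0)
    (h2 : ∀ n, M.map (homOfLE (Nat.le_add_right n s)).op ≫ cokernel.π (c.app (op n)) = 0) :
    ∃ α : G ⟶ Hc, α ≫ c = γ := by
  choose δ hδ using exists_level_lift c γ s h1 h2
  let m : ℕ → ℕ := fun n => n + s + s + s
  have hm : Monotone m := fun a b h =>
    Nat.add_le_add_right (Nat.add_le_add_right (Nat.add_le_add_right h s) s) s
  have hle : ∀ n, n ≤ m n := fun n => by
    change n ≤ n + s + s + s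
    omega
  -- the maps `G_{n+3s} ⟶ Hc_n`
  let app : ∀ n, (DerCA.reindex G hm).obj (op n) ⟶ Hc.obj (op n) := fun n =>
    δ (n + s) ≫ Hc.map (homOfLE (Nat.le_add_right n s)).op
  have happ_c : ∀ n, app n ≫ c.app (op n) = tr G (hle n) ≫ γ.app (op n) := by
    intro n
    change (δ (n + s) ≫ Hc.map (homOfLE (Nat.le_add_right n s)).op) ≫ c.app (op n) = _
    rw [Category.assoc, c.naturality, ← Category.assoc, hδ (n + s), Category.assoc,
      ← γ.naturality, ← Category.assoc, ← G.map_comp]
    rfl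
  have hnat : ∀ (n k : ℕ) (hnk : n ≤ k),
      (DerCA.reindex G hm).map (homOfLE hnk).op ≫ app n = app k ≫ Hc.map (homOfLE hnk).op := by
    intro n k hnk
    have hnk' : n + s ≤ k + s := Nat.add_le_add_right hnk s
    have hd : (tr G (hm hnk) ≫ δ (n + s) - δ (k + s) ≫ tr Hc hnk') ≫ c.app (op (n + s)) = 0 := by
      rw [Preadditive.sub_comp, sub_eq_zero, Category.assoc, Category.assoc, hδ (n + s),
        c.naturality, ← Category.assoc (δ (k + s)), hδ (k + s), Category.assoc, ← γ.naturality,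
        ← Category.assoc, ← Category.assoc (G.map _), ← G.map_comp, ← G.map_comp]
      rfl
    have h3 := comp_tr_eq_zero_of_comp_eq_zero c s h1 n _ hd
    rw [Preadditive.sub_comp, sub_eq_zero, Category.assoc, Category.assoc] at h3
    change tr G (hm hnk) ≫ δ (n + s) ≫ Hc.map (homOfLE (Nat.le_add_right n s)).op =
      (δ (k + s) ≫ Hc.map (homOfLE (Nat.le_add_right k s)).op) ≫ Hc.map (homOfLE hnk).op
    rw [h3, Category.assoc, ← Hc.map_comp, ← Hc.map_comp]
    rfl
  let π : DerCA.reindex G hm ⟶ G := natTransOfTr (fun n => G.map (homOfLE (hle n)).op) (by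
    intro n k hnk
    change tr G (hm hnk) ≫ tr G (hle n) = tr G (hle k) ≫ tr G hnk
    rw [tr_comp, tr_comp])
  obtain ⟨α, hα, -⟩ := existsUnique_of_reindex hG hH m hm hle π (fun n => rfl)
    (natTransOfTr app hnat)
  refine ⟨α, ?_⟩
  apply NatTrans.ext
  funext k
  obtain ⟨n⟩ := k
  haveI : Epi (tr G (hle n)) := (isQ_tr hG (hle n)).epi
  have h4 : tr G (hle n) ≫ α.app (op n) = app n :=
    congrArg (fun χ => χ.app (op n)) hα
  change α.app (op n) ≫ c.app (op n) = γ.app (op n)
  refine (cancel_epi (tr G (hle n))).1 ?_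
  refine (Category.assoc _ _ _).symm.trans ?_
  refine (congrArg (· ≫ c.app (op n)) h4).trans ?_
  exact happ_c n

end Lift

end Groth.Agent.H2.GX
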