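import Groth.Agent.Lib.Helper2.GXFFShA
import Groth.Agent.Lib.Helper2.GXLiftA

/-!
# Existence of the map `α : G ⟶ (f_* F)^` (helper2)
-/

set_option autoImplicit false
set_option linter.style.haveILetI false
universe u
open CategoryTheory Limits Opposite TopologicalSpace AlgebraicGeometry

namespace Groth.Agent.H2.GX

open Groth.Agent.LD Groth.Agent.LD.FF Groth.Agent.H2.FormalQ Groth.Agent.H2.FormalEq
  Groth.Agent.H2.AlgzExt

section Gamma

variable {X Y : Scheme.{u}} (f : X ⟶ Y)

/-- the map of systems `G ⟶ f_* Fc` adjoint to `β : f^* G ≅ Fc`. -/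
noncomputable def gammaOf {G : ℕᵒᵖ ⥤ Y.Modules} {Fc : ℕᵒᵖ ⥤ X.Modules}
    (β : G ⋙ Scheme.Modules.pullback f ≅ Fc) : G ⟶ Fc ⋙ Scheme.Modules.pushforward f where
  app k := (Scheme.Modules.pullbackPushforwardAdjunction f).unit.app (G.obj k) ≫
    (Scheme.Modules.pushforward f).map (β.hom.app k)
  naturality k k' φ := by
    have h1 := (Scheme.Modules.pullbackPushforwardAdjunction f).unit.naturality (G.map φ)
    have h2 := β.hom.naturality φ
    simp only [Functor.id_obj, Functor.comp_obj, Functor.id_map, Functor.comp_map] at h1 h2 ⊢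
    rw [← Category.assoc, h1, Category.assoc, Category.assoc, ← Functor.map_comp,
      ← Functor.map_comp, h2]

lemma gammaOf_app {G : ℕᵒᵖ ⥤ Y.Modules} {Fc : ℕᵒᵖ ⥤ X.Modules}
    (β : G ⋙ Scheme.Modules.pullback f ≅ Fc) (k : ℕᵒᵖ) :
    (gammaOf f β).app k = (Scheme.Modules.pullbackPushforwardAdjunction f).unit.app (G.obj k) ≫
      (Scheme.Modules.pushforward f).map (β.hom.app k) := rfl

end Gamma

variable {A : Type u} [CommRing A] (J : Ideal A) {X Y : Scheme.{u}}
  [X.Over (Spec (CommRingCat.of A))] [Y.Over (Spec (CommRingCat.of A))]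
  (f : X ⟶ Y)
  (hf : f ≫ (Y ↘ Spec (CommRingCat.of A)) = X ↘ Spec (CommRingCat.of A))

include hf in
/-- **existence of `α`**: the adjoint `γ` of `β` factors uniquely through the comparison map
`c : (f_* F)^ ⟶ f_* (F^)`. -/
theorem exists_alpha [IsNoetherian Y] [IsProper f] (G : ℕᵒᵖ ⥤ Y.Modules)
    (hG : Formal.IsCohFormal J G) (F : X.Modules) (hF : Coh.IsCoh F)
    (β : (G ⋙ Scheme.Modules.pullback f) ≅ Formal.completion J F)
    (c : Formal.completion J ((Scheme.Modules.pushforward f).obj F) ⟶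
        Formal.completion J F ⋙ Scheme.Modules.pushforward f)
    (hc : ∀ n, πc J ((Scheme.Modules.pushforward f).obj F) n ≫ c.app (op n) =
        (Scheme.Modules.pushforward f).map (πc J F n)) :
    ∃ α : G ⟶ Formal.completion J ((Scheme.Modules.pushforward f).obj F),
      α ≫ c = gammaOf f β := by
  obtain ⟨s, h1, h2⟩ := exists_ff_shift J f hf F hF c hc
  exact exists_lift hG (isCohFormal_completion J (isCoh_pushforward_proper f F hF)) c
    (gammaOf f β) s h1 h2

include hf in
/-- uniqueness of `α`. -/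
theorem alpha_unique [IsNoetherian Y] [IsProper f] (G : ℕᵒᵖ ⥤ Y.Modules)
    (hG : Formal.IsCohFormal J G) (F : X.Modules) (hF : Coh.IsCoh F)
    (c : Formal.completion J ((Scheme.Modules.pushforward f).obj F) ⟶
        Formal.completion J F ⋙ Scheme.Modules.pushforward f)
    (hc : ∀ n, πc J ((Scheme.Modules.pushforward f).obj F) n ≫ c.app (op n) =
        (Scheme.Modules.pushforward f).map (πc J F n))
    (α α' : G ⟶ Formal.completion J ((Scheme.Modules.pushforward f).obj F))
    (h : α ≫ c = α' ≫ c) : α = α' := by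
  obtain ⟨s, h1, -⟩ := exists_ff_shift J f hf F hF c hc
  exact lift_unique hG c s h1 α α' h

end Groth.Agent.H2.GX
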