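import Groth.Agent.Lib.Helper2.AlgzExt1
import Groth.Agent.Lib.Helper2.FormalQ4

/-!
# Two base rings for the same scheme (helper2)

If `X` is a scheme over `Spec B` and over `Spec A` compatibly with a ring map `φ : A → B`, quotients
by an ideal `J ⊆ A` are the same as quotients by `J B`.
-/

set_option autoImplicit false
universe u
open CategoryTheory Limits Opposite TopologicalSpace AlgebraicGeometry

namespace Groth.Agent.H2.GX

open Groth.Agent.LD Groth.Agent.LD.FF Groth.Agent.H2.FormalQ Groth.Agent.H2.FormalEq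
  Groth.Agent.H2.AlgzExt

section Family

variable {A : Type u} [CommRing A] {X : Scheme.{u}} [X.Over (Spec (CommRingCat.of A))]

/-- two systems of compatible quotients of `M` by the same ideals are isomorphic, compatibly with
the projections. -/
theorem exists_iso_of_isQ_family {M : X.Modules} {S S' : ℕᵒᵖ ⥤ X.Modules} (J : ℕ → Ideal A)
    (p : ∀ n, M ⟶ S.obj (op n)) (p' : ∀ n, M ⟶ S'.obj (op n))
    (hp : ∀ n, IsQ (J n) (p n)) (hp' : ∀ n, IsQ (J n) (p' n))
    (hc : ∀ (n k : ℕ) (h : n ≤ k), p k ≫ S.map (homOfLE h).op = p n)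
    (hc' : ∀ (n k : ℕ) (h : n ≤ k), p' k ≫ S'.map (homOfLE h).op = p' n) :
    ∃ e : S ≅ S', ∀ n, p n ≫ e.hom.app (op n) = p' n := by
  choose e he using fun n => IsQ.exists_iso (hp n) (hp' n)
  refine ⟨NatIso.ofComponents (fun n => e n.unop) ?_, fun n => he n⟩
  intro a b f
  obtain ⟨k⟩ := a
  obtain ⟨n⟩ := b
  have h : n ≤ k := leOfHom f.unop
  have hf : f = (homOfLE h).op := Subsingleton.elim _ _
  subst hf
  have : Epi (p k) := (hp k).epi
  change S.map (homOfLE h).op ≫ (e n).hom = (e k).hom ≫ S'.map (homOfLE h).op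
  rw [← cancel_epi (p k), ← Category.assoc, hc n k h, he n, ← Category.assoc, he k, hc' n k h]

end Family

section TwoStr

variable {A B : Type u} [CommRing A] [CommRing B] (φ : A →+* B)

/-- `toGlobal` of a composite with `Spec` of a ring map. -/
lemma toGlobal_comp_specMap' {Y : Scheme.{u}} (g : Y ⟶ Spec (CommRingCat.of B)) (a : A) :
    Coh.toGlobal (g ≫ Spec.map (CommRingCat.ofHom φ)) a = Coh.toGlobal g (φ a) := by
  have h2 := Scheme.ΓSpecIso_inv_naturality (CommRingCat.ofHom φ)
  have h3 : (Spec.map (CommRingCat.ofHom φ)).appTop.hom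
      ((Scheme.ΓSpecIso (CommRingCat.of A)).inv.hom a) =
      (Scheme.ΓSpecIso (CommRingCat.of B)).inv.hom (φ a) := by
    have := congr($h2 a)
    exact this.symm
  change g.appTop.hom ((Spec.map (CommRingCat.ofHom φ)).appTop.hom
    ((Scheme.ΓSpecIso (CommRingCat.of A)).inv.hom a)) = _
  rw [h3]
  rfl

variable {X : Scheme.{u}} [X.Over (Spec (CommRingCat.of A))] [X.Over (Spec (CommRingCat.of B))]
  (hφ : (X ↘ Spec (CommRingCat.of B)) ≫ Spec.map (CommRingCat.ofHom φ) =
    X ↘ Spec (CommRingCat.of A))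

include hφ in
lemma smulMod_eq_map (M : X.Modules) (a : A) :
    Formal.smulMod A M a = Formal.smulMod B M (φ a) := by
  unfold Formal.smulMod
  rw [← hφ, toGlobal_comp_specMap']

include hφ in
lemma forall_smulMod_comp_iff (J : Ideal A) {M Z : X.Modules} (g : M ⟶ Z) :
    (∀ b ∈ J.map φ, Formal.smulMod B M b ≫ g = 0) ↔ ∀ a ∈ J, Formal.smulMod A M a ≫ g = 0 := by
  constructor
  · intro h a ha
    rw [smulMod_eq_map φ hφ]
    exact h _ (Ideal.mem_map_of_mem φ ha)
  · intro h b hb
    refine Submodule.span_induction (p := fun b _ => Formal.smulMod B M b ≫ g = 0) ?_ ?_ ?_ ?_ hb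
    · rintro _ ⟨a, ha, rfl⟩
      rw [← smulMod_eq_map φ hφ]
      exact h a ha
    · rw [smulMod_zero, zero_comp]
    · intro x y _ _ hx hy
      rw [smulMod_add, Preadditive.add_comp, hx, hy, add_zero]
    · intro r x _ hx
      rw [smul_eq_mul, mul_comm, CohIII.smulMod_mul, Category.assoc, hx, comp_zero]

include hφ in
/-- quotients by `J B` are quotients by `J`. -/
lemma isQ_map_iff (J : Ideal A) {M Q : X.Modules} (p : M ⟶ Q) :
    IsQ (J.map φ) p ↔ IsQ J p := by
  rw [isQ_iff, isQ_iff]
  constructor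
  · rintro ⟨h1, h2, h3⟩
    exact ⟨h1, (forall_smulMod_comp_iff φ hφ J p).1 h2, fun {Z} g hg =>
      h3 g ((forall_smulMod_comp_iff φ hφ J g).2 hg)⟩
  · rintro ⟨h1, h2, h3⟩
    exact ⟨h1, (forall_smulMod_comp_iff φ hφ J p).2 h2, fun {Z} g hg =>
      h3 g ((forall_smulMod_comp_iff φ hφ J g).1 hg)⟩

include hφ in
lemma killedBy_map_iff (J : Ideal A) (M : X.Modules) :
    Formal.KilledBy (J.map φ) M ↔ Formal.KilledBy J M := by
  have h := forall_smulMod_comp_iff φ hφ J (𝟙 M)
  simp only [Category.comp_id] at h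
  exact h

include hφ in
lemma isCohFormal_map_iff (J : Ideal A) (G : ℕᵒᵖ ⥤ X.Modules) :
    Formal.IsCohFormal (J.map φ) G ↔ Formal.IsCohFormal J G := by
  unfold Formal.IsCohFormal
  refine and_congr Iff.rfl (and_congr ?_ ?_)
  · refine forall_congr' fun n => ?_
    have h := killedBy_map_iff φ hφ (J ^ (n + 1)) (G.obj (op n))
    rw [Ideal.map_pow] at h
    exact h
  · refine forall_congr' fun n => ?_
    have h := isQ_map_iff φ hφ (J ^ (n + 1)) (G.map (homOfLE (Nat.le_succ n)).op)
    rw [Ideal.map_pow] at h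
    exact h

include hφ in
/-- the completions for `J B` and for `J` agree. -/
theorem exists_completion_iso_map (J : Ideal A) (M : X.Modules) :
    ∃ e : Formal.completion (J.map φ) M ≅ Formal.completion J M,
      ∀ n, Formal.modPowπ (J.map φ) (n + 1) M ≫ e.hom.app (op n) =
        Formal.modPowπ J (n + 1) M := by
  refine exists_iso_of_isQ_family (S := Formal.completion (J.map φ) M)
    (S' := Formal.completion J M) (fun n => (J.map φ) ^ (n + 1))
    (fun n => Formal.modPowπ (J.map φ) (n + 1) M) (fun n => Formal.modPowπ J (n + 1) M)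
    (fun n => isQ_modPowπ _ _ _) (fun n => ?_)
    (fun n k h => π_completion_map (J.map φ) M h) (fun n k h => π_completion_map J M h)
  have h := (isQ_map_iff φ hφ (J ^ (n + 1)) (Formal.modPowπ J (n + 1) M)).2
    (isQ_modPowπ J (n + 1) M)
  rw [Ideal.map_pow] at h
  exact h

end TwoStr

end Groth.Agent.H2.GX
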