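import Groth.Agent.Lib.Helper2.GXSqA
import Groth.Agent.Lib.Helper2.GXAlphaA
import Groth.Agent.Lib.Helper2.GXBaseA
import Groth.Agent.Lib.Lead.FBC.BC0Iso
import Groth.Agent.Lib.Lead.QC.Pullback

/-!
# Flat base change of the comparison data (helper2)

For a cartesian square with `g` flat, the data `(G, F, β, α)` with `α ≫ c = γ(β)` base-changes to data
of the same kind over `Y'`.
-/

set_option autoImplicit false
set_option linter.style.haveILetI false
universe u
open CategoryTheory Opposite TopologicalSpace AlgebraicGeometry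

namespace Groth.Agent.H2.GX

open Groth.Agent.LD Groth.Agent.LD.FF Groth.Agent.H2.FormalQ Groth.Agent.H2.FormalEq
  Groth.Agent.H2.AlgzExt

section CohFormal

variable {A : Type u} [CommRing A] (J : Ideal A) {Y Y' : Scheme.{u}}
  [Y.Over (Spec (CommRingCat.of A))] [Y'.Over (Spec (CommRingCat.of A))] (g : Y' ⟶ Y)
  (hg : g ≫ (Y ↘ Spec (CommRingCat.of A)) = Y' ↘ Spec (CommRingCat.of A))

include hg in
/-- the pullback of a coherent formal module is a coherent formal module. -/
theorem isCohFormal_pullback {G : ℕᵒᵖ ⥤ Y.Modules} (hG : Formal.IsCohFormal J G) :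
    Formal.IsCohFormal J (G ⋙ Scheme.Modules.pullback g) := by
  refine ⟨fun n => ?_, fun n => ?_, fun n => ?_⟩
  · haveI := (hG.1 n).1
    exact ⟨QC.qc_pullback g _, QC.isFiniteType_pullback g _ (hG.1 n).2⟩
  · exact Groth.Agent.H2.FormalPB.killedBy_pullback g hg _ _ (hG.2.1 n)
  · exact isQ_pullback g hg (hG.2.2 n)

end CohFormal

variable {A : Type u} [CommRing A] (J : Ideal A) {X Y X' Y' : Scheme.{u}}
  [X.Over (Spec (CommRingCat.of A))] [Y.Over (Spec (CommRingCat.of A))]
  [X'.Over (Spec (CommRingCat.of A))] [Y'.Over (Spec (CommRingCat.of A))]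
  (f : X ⟶ Y) (g : Y' ⟶ Y) (f' : X' ⟶ Y') (g' : X' ⟶ X) (hsq : IsPullback g' f' f g)
  (hg : g ≫ (Y ↘ Spec (CommRingCat.of A)) = Y' ↘ Spec (CommRingCat.of A))
  (hg' : g' ≫ (X ↘ Spec (CommRingCat.of A)) = X' ↘ Spec (CommRingCat.of A))

include hsq hg hg' in
/-- **flat base change of the comparison data.** -/
theorem exists_base_change [Flat g] [QuasiCompact f] [QuasiSeparated f]
    (G : ℕᵒᵖ ⥤ Y.Modules) (F : X.Modules) [F.IsQuasicoherent]
    (β : (G ⋙ Scheme.Modules.pullback f) ≅ Formal.completion J F)
    (c : Formal.completion J ((Scheme.Modules.pushforward f).obj F) ⟶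
        Formal.completion J F ⋙ Scheme.Modules.pushforward f)
    (hc : ∀ n, πc J ((Scheme.Modules.pushforward f).obj F) n ≫ c.app (op n) =
        (Scheme.Modules.pushforward f).map (πc J F n))
    (α : G ⟶ Formal.completion J ((Scheme.Modules.pushforward f).obj F))
    (hα : α ≫ c = gammaOf f β)
    (c' : Formal.completion J ((Scheme.Modules.pushforward f').obj
          ((Scheme.Modules.pullback g').obj F)) ⟶
        Formal.completion J ((Scheme.Modules.pullback g').obj F) ⋙
          Scheme.Modules.pushforward f')
    (hc' : ∀ n, πc J ((Scheme.Modules.pushforward f').obj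
          ((Scheme.Modules.pullback g').obj F)) n ≫ c'.app (op n) =
        (Scheme.Modules.pushforward f').map (πc J ((Scheme.Modules.pullback g').obj F) n)) :
    ∃ (β' : ((G ⋙ Scheme.Modules.pullback g) ⋙ Scheme.Modules.pullback f') ≅
        Formal.completion J ((Scheme.Modules.pullback g').obj F))
      (Ψ : (Formal.completion J ((Scheme.Modules.pushforward f).obj F) ⋙
          Scheme.Modules.pullback g) ≅
        Formal.completion J ((Scheme.Modules.pushforward f').obj
          ((Scheme.Modules.pullback g').obj F))),
      (Functor.whiskerRight α (Scheme.Modules.pullback g) ≫ Ψ.hom) ≫ c' = gammaOf f' β' := by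
  haveI : IsIso (CohBC.bc0 f g f' g' hsq.w F) := FBC.isIso_bc0_of_flat f g f' g' hsq F
  -- Φ
  obtain ⟨Φ, hΦ⟩ := exists_iso_of_isQ_family
    (S := Formal.completion J F ⋙ Scheme.Modules.pullback g')
    (S' := Formal.completion J ((Scheme.Modules.pullback g').obj F))
    (fun n => J ^ (n + 1))
    (fun n => (Scheme.Modules.pullback g').map (πc J F n))
    (fun n => πc J ((Scheme.Modules.pullback g').obj F) n)
    (fun n => isQ_pullback g' hg' (isQ_modPowπ J (n + 1) F))
    (fun n => isQ_modPowπ J (n + 1) _)
    (fun n k h => by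
      rw [Functor.comp_map, ← Functor.map_comp]
      exact congrArg (fun χ => (Scheme.Modules.pullback g').map χ) (πc_map J F h))
    (fun n k h => πc_map J _ h)
  -- Ψ
  obtain ⟨Ψ, hΨ⟩ := exists_iso_of_isQ_family
    (S := Formal.completion J ((Scheme.Modules.pushforward f).obj F) ⋙
      Scheme.Modules.pullback g)
    (S' := Formal.completion J ((Scheme.Modules.pushforward f').obj
      ((Scheme.Modules.pullback g').obj F)))
    (fun n => J ^ (n + 1))
    (fun n => (Scheme.Modules.pullback g).map (πc J ((Scheme.Modules.pushforward f).obj F) n))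
    (fun n => CohBC.bc0 f g f' g' hsq.w F ≫
      πc J ((Scheme.Modules.pushforward f').obj ((Scheme.Modules.pullback g').obj F)) n)
    (fun n => isQ_pullback g hg (isQ_modPowπ J (n + 1) _))
    (fun n => isQ_iso_comp _ (isQ_modPowπ J (n + 1) _))
    (fun n k h => by
      rw [Functor.comp_map, ← Functor.map_comp]
      exact congrArg (fun χ => (Scheme.Modules.pullback g).map χ) (πc_map J _ h))
    (fun n k h => by rw [Category.assoc, πc_map])
  -- β'
  let β' : ((G ⋙ Scheme.Modules.pullback g) ⋙ Scheme.Modules.pullback f') ≅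
      Formal.completion J ((Scheme.Modules.pullback g').obj F) :=
    Functor.associator G (Scheme.Modules.pullback g) (Scheme.Modules.pullback f') ≪≫
      Functor.isoWhiskerLeft G (sqIso f g f' g' hsq.w).symm ≪≫
      (Functor.associator G (Scheme.Modules.pullback f) (Scheme.Modules.pullback g')).symm ≪≫
      Functor.isoWhiskerRight β (Scheme.Modules.pullback g') ≪≫ Φ
  have hβ' : ∀ k, β'.hom.app k = (sqIso f g f' g' hsq.w).inv.app (G.obj k) ≫
      (Scheme.Modules.pullback g').map (β.hom.app k) ≫ Φ.hom.app k := by
    intro k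
    simp [β']
  refine ⟨β', Ψ, ?_⟩
  apply NatTrans.ext
  funext k
  obtain ⟨n⟩ := k
  rw [gammaOf_app, hβ']
  change ((Scheme.Modules.pullback g).map (α.app (op n)) ≫ Ψ.hom.app (op n)) ≫ c'.app (op n) = _
  -- step A
  have hA : Ψ.hom.app (op n) ≫ c'.app (op n) =
      (Scheme.Modules.pullback g).map (c.app (op n)) ≫
        CohBC.bc0 f g f' g' hsq.w ((Formal.completion J F).obj (op n)) ≫
        (Scheme.Modules.pushforward f').map (Φ.hom.app (op n)) := by
    haveI : Epi ((Scheme.Modules.pullback g).map
        (πc J ((Scheme.Modules.pushforward f).obj F) n)) :=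
      (isQ_pullback g hg (isQ_modPowπ J (n + 1) _)).epi
    rw [← cancel_epi ((Scheme.Modules.pullback g).map
      (πc J ((Scheme.Modules.pushforward f).obj F) n))]
    have e1 : (Scheme.Modules.pullback g).map (πc J ((Scheme.Modules.pushforward f).obj F) n) ≫
        Ψ.hom.app (op n) ≫ c'.app (op n) =
        CohBC.bc0 f g f' g' hsq.w F ≫ (Scheme.Modules.pushforward f').map
          (πc J ((Scheme.Modules.pullback g').obj F) n) := by
      rw [← Category.assoc, hΨ n, Category.assoc, hc' n]
    have e2 : (Scheme.Modules.pullback g).map (πc J ((Scheme.Modules.pushforward f).obj F) n) ≫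
        (Scheme.Modules.pullback g).map (c.app (op n)) ≫
        CohBC.bc0 f g f' g' hsq.w ((Formal.completion J F).obj (op n)) ≫
        (Scheme.Modules.pushforward f').map (Φ.hom.app (op n)) =
        CohBC.bc0 f g f' g' hsq.w F ≫ (Scheme.Modules.pushforward f').map
          (πc J ((Scheme.Modules.pullback g').obj F) n) := by
      rw [← Category.assoc, ← Functor.map_comp, hc n, ← Category.assoc, bc0_naturality,
        Category.assoc, ← Functor.map_comp]
      exact congrArg (fun χ => CohBC.bc0 f g f' g' hsq.w F ≫
        (Scheme.Modules.pushforward f').map χ) (hΦ n)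
    rw [e1, e2]
  -- step B
  have hB : (Scheme.Modules.pullback g).map (α.app (op n)) ≫
      (Scheme.Modules.pullback g).map (c.app (op n)) =
      (Scheme.Modules.pullback g).map
        ((Scheme.Modules.pullbackPushforwardAdjunction f).unit.app (G.obj (op n))) ≫
      (Scheme.Modules.pullback g).map
        ((Scheme.Modules.pushforward f).map (β.hom.app (op n))) := by
    rw [← Functor.map_comp, ← Functor.map_comp]
    have e1 : α.app (op n) ≫ c.app (op n) = (gammaOf f β).app (op n) :=
      congrArg (fun χ => χ.app (op n)) hα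
    rw [e1, gammaOf_app]
  have hC : (Scheme.Modules.pullback g).map
        ((Scheme.Modules.pullbackPushforwardAdjunction f).unit.app (G.obj (op n))) ≫
      CohBC.bc0 f g f' g' hsq.w ((Scheme.Modules.pullback f).obj (G.obj (op n))) =
      (Scheme.Modules.pullbackPushforwardAdjunction f').unit.app
        ((Scheme.Modules.pullback g).obj (G.obj (op n))) ≫
      (Scheme.Modules.pushforward f').map ((sqIso f g f' g' hsq.w).inv.app (G.obj (op n))) := by
    have h := unit_bc0 f g f' g' hsq.w (G.obj (op n))
    rw [← Category.assoc] at h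
    exact (Iso.eq_comp_inv ((Scheme.Modules.pushforward f').mapIso
      ((sqIso f g f' g' hsq.w).app (G.obj (op n))))).2 h
  have hD : (Scheme.Modules.pullback g).map
        ((Scheme.Modules.pushforward f).map (β.hom.app (op n))) ≫
      CohBC.bc0 f g f' g' hsq.w ((Formal.completion J F).obj (op n)) =
      CohBC.bc0 f g f' g' hsq.w ((Scheme.Modules.pullback f).obj (G.obj (op n))) ≫
        (Scheme.Modules.pushforward f').map
          ((Scheme.Modules.pullback g').map (β.hom.app (op n))) :=
    bc0_naturality f g f' g' hsq.w (β.hom.app (op n))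
  calc ((Scheme.Modules.pullback g).map (α.app (op n)) ≫ Ψ.hom.app (op n)) ≫ c'.app (op n)
      = ((Scheme.Modules.pullback g).map (α.app (op n)) ≫
        (Scheme.Modules.pullback g).map (c.app (op n))) ≫
        CohBC.bc0 f g f' g' hsq.w ((Formal.completion J F).obj (op n)) ≫
        (Scheme.Modules.pushforward f').map (Φ.hom.app (op n)) := by
        rw [Category.assoc, hA, Category.assoc]
    _ = (Scheme.Modules.pullback g).map
          ((Scheme.Modules.pullbackPushforwardAdjunction f).unit.app (G.obj (op n))) ≫
        ((Scheme.Modules.pullback g).map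
          ((Scheme.Modules.pushforward f).map (β.hom.app (op n))) ≫
        CohBC.bc0 f g f' g' hsq.w ((Formal.completion J F).obj (op n))) ≫
        (Scheme.Modules.pushforward f').map (Φ.hom.app (op n)) := by
        rw [hB]
        simp only [Category.assoc]
    _ = ((Scheme.Modules.pullback g).map
          ((Scheme.Modules.pullbackPushforwardAdjunction f).unit.app (G.obj (op n))) ≫
        CohBC.bc0 f g f' g' hsq.w ((Scheme.Modules.pullback f).obj (G.obj (op n)))) ≫
        (Scheme.Modules.pushforward f').map
          ((Scheme.Modules.pullback g').map (β.hom.app (op n))) ≫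
        (Scheme.Modules.pushforward f').map (Φ.hom.app (op n)) := by
        rw [hD]
        simp only [Category.assoc]
    _ = _ := by
        rw [hC]
        simp only [Category.assoc, Functor.map_comp]
        rfl

end Groth.Agent.H2.GX
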