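import Groth.Agent.Lib.Helper2.GXBaseA

/-!
# The subgroups `J Γ(M, U)` (helper2)
-/

set_option autoImplicit false
universe u
open CategoryTheory Limits Opposite TopologicalSpace AlgebraicGeometry

namespace Groth.Agent.H2.GX

open Groth.Agent.LD Groth.Agent.LD.FF Groth.Agent.H2.FormalQ Groth.Agent.H2.FormalEq
  Groth.Agent.H2.AlgzExt

section SmulSub

variable {A : Type u} [CommRing A] {X : Scheme.{u}} [X.Over (Spec (CommRingCat.of A))]

/-- the additive subgroup `J Γ(M, U)` of `Γ(M, U)`. -/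
noncomputable def smulSub (J : Ideal A) (M : X.Modules) (U : X.Opens) : AddSubgroup Γ(M, U) :=
  AddSubgroup.closure {y | ∃ a ∈ J, ∃ x : Γ(M, U), y = (Formal.smulMod A M a).app U x}

lemma smulMod_app_mem_smulSub {J : Ideal A} {M : X.Modules} {U : X.Opens} {a : A} (ha : a ∈ J)
    (x : Γ(M, U)) : (Formal.smulMod A M a).app U x ∈ smulSub J M U :=
  AddSubgroup.subset_closure ⟨a, ha, x, rfl⟩

lemma smulSub_mono {J J' : Ideal A} (h : J ≤ J') (M : X.Modules) (U : X.Opens) :
    smulSub J M U ≤ smulSub J' M U :=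
  AddSubgroup.closure_mono (fun _ ⟨a, ha, x, hx⟩ => ⟨a, h ha, x, hx⟩)

/-- maps to modules killed by `J` kill `J Γ(M, U)`. -/
lemma app_eq_zero_of_mem_smulSub {J : Ideal A} {M Q : X.Modules} (ψ : M ⟶ Q)
    (hQ : Formal.KilledBy J Q) {U : X.Opens} {x : Γ(M, U)} (hx : x ∈ smulSub J M U) :
    ψ.app U x = 0 := by
  refine AddSubgroup.closure_induction (p := fun x _ => ψ.app U x = 0) ?_ ?_ ?_ ?_ hx
  · rintro _ ⟨a, ha, x, rfl⟩
    have h : Formal.smulMod A M a ≫ ψ = 0 := by rw [← comp_smulMod, hQ a ha, comp_zero]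
    exact congrArg (fun χ => (Scheme.Modules.Hom.app χ U) x) h
  · exact map_zero _
  · intro x y _ _ hx hy
    rw [map_add, hx, hy, add_zero]
  · intro x _ hx
    rw [map_neg, hx, neg_zero]

lemma res_mem_smulSub {J : Ideal A} {M : X.Modules} {U V : X.Opens} (h : V ≤ U) {x : Γ(M, U)}
    (hx : x ∈ smulSub J M U) : M.presheaf.map (homOfLE h).op x ∈ smulSub J M V := by
  refine AddSubgroup.closure_induction
    (p := fun x _ => M.presheaf.map (homOfLE h).op x ∈ smulSub J M V) ?_ ?_ ?_ ?_ hx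
  · rintro _ ⟨a, ha, x, rfl⟩
    rw [← QC.app_res]
    exact smulMod_app_mem_smulSub ha _
  · rw [map_zero]
    exact zero_mem _
  · intro x y _ _ hx hy
    rw [map_add]
    exact add_mem hx hy
  · intro x _ hx
    rw [map_neg]
    exact neg_mem hx

/-- maps respect `J Γ`. -/
lemma app_mem_smulSub {J : Ideal A} {M N : X.Modules} (ψ : M ⟶ N) {U : X.Opens} {x : Γ(M, U)}
    (hx : x ∈ smulSub J M U) : ψ.app U x ∈ smulSub J N U := by
  refine AddSubgroup.closure_induction
    (p := fun x _ => ψ.app U x ∈ smulSub J N U) ?_ ?_ ?_ ?_ hx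
  · rintro _ ⟨a, ha, x, rfl⟩
    have h : Formal.smulMod A M a ≫ ψ = ψ ≫ Formal.smulMod A N a := (comp_smulMod ψ a).symm
    have h2 := congrArg (fun χ => (Scheme.Modules.Hom.app χ U) x) h
    refine (show ψ.app U ((Formal.smulMod A M a).app U x) =
      (Formal.smulMod A N a).app U (ψ.app U x) from h2) ▸ ?_
    exact smulMod_app_mem_smulSub ha _
  · rw [map_zero]
    exact zero_mem _
  · intro x y _ _ hx hy
    rw [map_add]
    exact add_mem hx hy
  · intro x _ hx
    rw [map_neg]
    exact neg_mem hx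

end SmulSub

section TwoStr

variable {A B : Type u} [CommRing A] [CommRing B] (φ : A →+* B)
variable {X : Scheme.{u}} [X.Over (Spec (CommRingCat.of A))] [X.Over (Spec (CommRingCat.of B))]
  (hφ : (X ↘ Spec (CommRingCat.of B)) ≫ Spec.map (CommRingCat.ofHom φ) =
    X ↘ Spec (CommRingCat.of A))

include hφ in
lemma smulSub_map_le (J : Ideal A) (M : X.Modules) (U : X.Opens) :
    smulSub (J.map φ) M U ≤ smulSub J M U := by
  have key : ∀ b ∈ J.map φ, ∀ x : Γ(M, U), (Formal.smulMod B M b).app U x ∈ smulSub J M U := by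
    intro b hb
    refine Submodule.span_induction
      (p := fun b _ => ∀ x : Γ(M, U), (Formal.smulMod B M b).app U x ∈ smulSub J M U)
      ?_ ?_ ?_ ?_ hb
    · rintro _ ⟨a, ha, rfl⟩ x
      rw [← smulMod_eq_map φ hφ]
      exact smulMod_app_mem_smulSub ha x
    · intro x
      rw [smulMod_zero]
      exact zero_mem _
    · intro b b' _ _ hb hb' x
      rw [smulMod_add]
      exact add_mem (hb x) (hb' x)
    · intro r b _ hb x
      rw [smul_eq_mul, mul_comm, CohIII.smulMod_mul]
      exact hb _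
  refine (AddSubgroup.closure_le _).2 ?_
  rintro _ ⟨b, hb, x, rfl⟩
  exact key b hb x

end TwoStr

section Push

variable {A : Type u} [CommRing A] {X Y : Scheme.{u}} [X.Over (Spec (CommRingCat.of A))]
  [Y.Over (Spec (CommRingCat.of A))] (f : X ⟶ Y)
  (hf : f ≫ (Y ↘ Spec (CommRingCat.of A)) = X ↘ Spec (CommRingCat.of A))

include hf in
lemma pushforward_map_smulMod (N : X.Modules) (a : A) :
    (Scheme.Modules.pushforward f).map (Formal.smulMod A N a) =
      Formal.smulMod A ((Scheme.Modules.pushforward f).obj N) a := by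
  unfold Formal.smulMod
  rw [Groth.Agent.H2.FormalPB.toGlobal_eq f hf a]
  exact Groth.Agent.H2.FormalPB.pushforward_map_smulModΓ f N _

include hf in
lemma mem_smulSub_pushforward (J : Ideal A) (N : X.Modules) (W : Y.Opens) {x : Γ(N, f ⁻¹ᵁ W)}
    (hx : x ∈ smulSub J N (f ⁻¹ᵁ W)) :
    (show Γ((Scheme.Modules.pushforward f).obj N, W) from x) ∈
      smulSub J ((Scheme.Modules.pushforward f).obj N) W := by
  refine AddSubgroup.closure_induction
    (p := fun x _ => (show Γ((Scheme.Modules.pushforward f).obj N, W) from x) ∈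
      smulSub J ((Scheme.Modules.pushforward f).obj N) W) ?_ ?_ ?_ ?_ hx
  · rintro _ ⟨a, ha, x, rfl⟩
    have h := smulMod_app_mem_smulSub (M := (Scheme.Modules.pushforward f).obj N) (U := W) ha x
    rw [← pushforward_map_smulMod f hf] at h
    exact h
  · exact zero_mem _
  · intro x y _ _ hx hy
    exact add_mem hx hy
  · intro x _ hx
    exact neg_mem hx

end Push

section Restrict

variable {A : Type u} [CommRing A] {X : Scheme.{u}} [X.Over (Spec (CommRingCat.of A))]
  (U : X.Opens)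

lemma restrict_map_smulMod (F : X.Modules) (a : A) :
    (Scheme.Modules.restrictFunctor U.ι).map (Formal.smulMod A F a) =
      Formal.smulMod A (F.restrict U.ι) a := by
  let e := Scheme.Modules.restrictFunctorIsoPullback U.ι
  rw [← cancel_mono (e.hom.app F), e.hom.naturality,
    Groth.Agent.H2.FormalPB.pullback_map_smulMod U.ι rfl F a, comp_smulMod]

lemma mem_smulSub_of_restrict (J : Ideal A) (F : X.Modules) (U' : U.toScheme.Opens)
    {x : Γ(F.restrict U.ι, U')} (hx : x ∈ smulSub J (F.restrict U.ι) U') :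
    (show Γ(F, U.ι ''ᵁ U') from x) ∈ smulSub J F (U.ι ''ᵁ U') := by
  refine AddSubgroup.closure_induction
    (p := fun x _ => (show Γ(F, U.ι ''ᵁ U') from x) ∈ smulSub J F (U.ι ''ᵁ U')) ?_ ?_ ?_ ?_ hx
  · rintro _ ⟨a, ha, x, rfl⟩
    rw [← restrict_map_smulMod]
    exact smulMod_app_mem_smulSub (M := F) (U := U.ι ''ᵁ U') ha x
  · exact zero_mem _
  · intro x y _ _ hx hy
    exact add_mem hx hy
  · intro x _ hx
    exact neg_mem hx

end Restrict

section Spec

variable {A : Type u} [CommRing A] {E : Scheme.{u}}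

/-- a morphism to an affine scheme is determined by the map on global sections. -/
theorem eq_toSpecΓ_comp' (f : E ⟶ Spec (CommRingCat.of A)) :
    f = E.toSpecΓ ≫ Spec.map (CommRingCat.ofHom (show A →+* Γ(E, ⊤) from Coh.toGlobal f)) := by
  have h1 := Scheme.toSpecΓ_naturality f
  have h2 : (Spec (CommRingCat.of A)).toSpecΓ = Spec.map (Scheme.ΓSpecIso (CommRingCat.of A)).hom :=
    (SpecMap_ΓSpecIso_hom _).symm
  have h3 : CommRingCat.ofHom (show A →+* Γ(E, ⊤) from Coh.toGlobal f) =
      (Scheme.ΓSpecIso (CommRingCat.of A)).inv ≫ f.appTop := rfl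
  rw [h3, Spec.map_comp, ← Category.assoc, ← h1]
  change f = (f ≫ (Spec (CommRingCat.of A)).toSpecΓ) ≫ _
  rw [h2, Category.assoc, ← Spec.map_comp, Iso.inv_hom_id, Spec.map_id]
  exact (Category.comp_id _).symm

end Spec

end Groth.Agent.H2.GX
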