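import Groth.Agent.Lib.Helper2.GXSecA

/-!
# Bounds for kernels and cokernels pass to quotients by powers of `J` (helper2)
-/

set_option autoImplicit false
set_option linter.style.haveILetI false
universe u
open CategoryTheory Limits Opposite TopologicalSpace AlgebraicGeometry

namespace Groth.Agent.H2.GX

open Groth.Agent.LD Groth.Agent.LD.FF Groth.Agent.H2.FormalQ Groth.Agent.H2.FormalEq
  Groth.Agent.LD.HF

variable {A : Type u} [CommRing A] {Z : Scheme.{u}} [Z.Over (Spec (CommRingCat.of A))]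
  [IsNoetherian Z] (J : Ideal A) (m : ℕ)

/-- if `κ₁` kills the cokernel and `κ₂` the kernel of `a : G₀ ⟶ H'` (on the sections over an affine
open), then `κ₁` kills the cokernel and `κ₁ κ₂` the kernel of the induced map on the quotients by
`J^m`. -/
theorem bounds_of_quotient {G₀ H' Gn Hn : Z.Modules} (hG₀ : Coh.IsCoh G₀) (hH' : Coh.IsCoh H')
    (hGn : Gn.IsQuasicoherent) (hHn : Hn.IsQuasicoherent)
    (a : G₀ ⟶ H') (p : G₀ ⟶ Gn) (q : H' ⟶ Hn) (αn : Gn ⟶ Hn) (hp : IsQ (J ^ m) p)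
    (hq : IsQ (J ^ m) q) (hsq : p ≫ αn = a ≫ q) {U : Z.Opens} (hU : IsAffineOpen U)
    (κ₁ κ₂ : Γ(Z, U))
    (hCB : ∀ y : Γ(H', U), ∃ z : Γ(G₀, U), a.app U z = κ₁ • y)
    (hKB : ∀ x : Γ(G₀, U), a.app U x = 0 → κ₂ • x = 0) :
    (∀ x : Γ(Gn, U), αn.app U x = 0 → (κ₁ * κ₂) • x = 0) ∧
      ∀ y : Γ(Hn, U), ∃ z : Γ(Gn, U), αn.app U z = κ₁ • y := by
  haveI := hp.epi
  haveI := hq.epi
  have hsq' : ∀ x₀ : Γ(G₀, U), αn.app U (p.app U x₀) = q.app U (a.app U x₀) := fun x₀ =>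
    congrArg (fun χ => (Scheme.Modules.Hom.app χ U) x₀) hsq
  constructor
  · intro x hx
    obtain ⟨x₀, rfl⟩ := QC.epi_app_affine hG₀.1 hGn p hU x
    have h1 : q.app U (a.app U x₀) = 0 := by rw [← hsq', hx]
    rw [isQ_app_eq_zero_iff J m hH' hq hU] at h1
    have key : ∀ v ∈ ((Ideal.map (φU U) J) ^ m • ⊤ : Submodule Γ(Z, U) Γ(H', U)),
        ∃ w ∈ ((Ideal.map (φU U) J) ^ m • ⊤ : Submodule Γ(Z, U) Γ(G₀, U)),
          a.app U w = κ₁ • v := by
      intro v hv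
      refine Submodule.smul_induction_on hv (fun r hr y _ => ?_) ?_
      · obtain ⟨z, hz⟩ := hCB y
        refine ⟨r • z, Submodule.smul_mem_smul hr Submodule.mem_top, ?_⟩
        have h2 : a.app U (r • z) = r • a.app U z := Scheme.Modules.Hom.app_smul a r z
        rw [h2, hz, smul_comm]
      · rintro v₁ v₂ ⟨w₁, hw₁, e₁⟩ ⟨w₂, hw₂, e₂⟩
        exact ⟨w₁ + w₂, Submodule.add_mem _ hw₁ hw₂, by rw [map_add, e₁, e₂, smul_add]⟩
    obtain ⟨w, hw, hwa⟩ := key _ h1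
    have h3 : a.app U (κ₁ • x₀ - w) = 0 := by
      have h2 : a.app U (κ₁ • x₀) = κ₁ • a.app U x₀ := Scheme.Modules.Hom.app_smul a κ₁ x₀
      rw [map_sub, h2, hwa, sub_self]
    have h4 := hKB _ h3
    rw [smul_sub, sub_eq_zero, ← mul_smul, mul_comm] at h4
    have h5 : p.app U ((κ₁ * κ₂) • x₀) = 0 := by
      rw [isQ_app_eq_zero_iff J m hG₀ hp hU, h4]
      exact Submodule.smul_mem _ _ hw
    have h6 : p.app U ((κ₁ * κ₂) • x₀) = (κ₁ * κ₂) • p.app U x₀ :=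
      Scheme.Modules.Hom.app_smul p _ x₀
    rw [← h6, h5]
  · intro y
    obtain ⟨y₀, rfl⟩ := QC.epi_app_affine hH'.1 hHn q hU y
    obtain ⟨z, hz⟩ := hCB y₀
    refine ⟨p.app U z, ?_⟩
    have h6 : q.app U (κ₁ • y₀) = κ₁ • q.app U y₀ := Scheme.Modules.Hom.app_smul q _ y₀
    rw [hsq', hz, h6]

end Groth.Agent.H2.GX
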