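import Groth.Agent.Lib.Lead.Chow.Lemma

/-!
# Chow's lemma for irreducible (not necessarily reduced) schemes (helper2)

The proof of lead's `Chow.chow_lemma` uses integrality only to see that finitely many nonempty
opens meet; irreducibility suffices.
-/

set_option autoImplicit false
set_option linter.style.haveILetI false
universe u
open CategoryTheory Limits AlgebraicGeometry TopologicalSpace

namespace Groth.Agent.H2.GX

open Groth.Agent.LD.Chow

section Data

variable {A : Type u} [CommRing A] {Z : Scheme.{u}} (f : Z ⟶ Spec (CommRingCat.of A))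

/-- existence of Chow data on an irreducible scheme of finite type over `A`. -/
theorem exists_chowData_irreducible [IrreducibleSpace Z] [LocallyOfFiniteType f]
    [CompactSpace Z] : ∃ d : ChowData f, (d.X₀ : Set Z).Nonempty := by
  classical
  have hcov : (Set.univ : Set Z) ⊆ ⋃ U : Z.affineOpens, (U.1 : Set Z) := by
    intro x _
    have : x ∈ (⨆ U : Z.affineOpens, (U : Z.Opens)) := by
      rw [iSup_affineOpens_eq_top]; trivial
    obtain ⟨U, hU⟩ := Opens.mem_iSup.mp this
    exact Set.mem_iUnion.mpr ⟨U, hU⟩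
  obtain ⟨t, ht⟩ := isCompact_univ.elim_finite_subcover (fun U : Z.affineOpens => (U.1 : Set Z))
    (fun U => U.1.2) hcov
  let t' := t.filter (fun U : Z.affineOpens => (U.1 : Set Z).Nonempty)
  let k := t'.card
  let eq : Fin k ≃ t' := t'.equivFin.symm
  let U : Fin k → Z.Opens := fun i => (eq i).1.1
  have hUaff : ∀ i, IsAffineOpen (U i) := fun i => (eq i).1.2
  have hUne : ∀ i, (U i : Set Z).Nonempty := fun i => (Finset.mem_filter.mp (eq i).2).2
  have hUcov : ⨆ i, U i = ⊤ := by
    rw [eq_top_iff]
    intro x _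
    obtain ⟨V, hV⟩ := Set.mem_iUnion.mp (ht (Set.mem_univ x))
    obtain ⟨hVt, hxV⟩ := Set.mem_iUnion.mp hV
    have hV' : V ∈ t' := Finset.mem_filter.mpr ⟨hVt, ⟨x, hxV⟩⟩
    refine Opens.mem_iSup.mpr ⟨eq.symm ⟨V, hV'⟩, ?_⟩
    change x ∈ ((eq (eq.symm ⟨V, hV'⟩)).1.1 : Z.Opens)
    rw [Equiv.apply_symm_apply]
    exact hxV
  have hgen : ∀ i, ∃ (n : ℕ) (v : Fin n → Γ((U i).toScheme, ⊤)),
      Function.Surjective (MvPolynomial.eval₂Hom (strOf A ((U i).ι ≫ f)) v) := by
    intro i
    haveI : IsAffine (U i).toScheme := hUaff i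
    exact exists_gens ((U i).ι ≫ f)
  choose m v hv using hgen
  let X₀ : Z.Opens := Finset.univ.inf U
  have hX₀ : ∀ i, X₀ ≤ U i := fun i => Finset.inf_le (Finset.mem_univ i)
  have hη : genericPoint Z ∈ X₀ := by
    change genericPoint Z ∈ ((Finset.univ.inf U : Z.Opens) : Set Z)
    rw [Opens.coe_finset_inf]
    simp only [Finset.inf_set_eq_iInter, Set.mem_iInter, Function.comp_apply]
    intro i _
    exact ((genericPoint_spec Z).mem_open_set_iff (U i).2).mpr
      (by simpa [Set.univ_inter] using hUne i)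
  refine ⟨{ k := k, m := m, U := U, isAffineOpen := hUaff, iSup_U := hUcov
            b := fun i => Fin.cons 1 (fun l => (U i).topIso.hom.hom (v i l))
            b_zero := fun i => rfl
            b_surj := ?_
            X₀ := X₀
            le_U := hX₀ }, ⟨_, hη⟩⟩
  intro i
  convert hv i using 3
  funext l
  simp only [Fin.cons_succ]
  exact congrArg (fun t => t.hom (v i l)) (U i).topIso.hom_inv_id

end Data

variable (A : Type u) [CommRing A] [IsNoetherianRing A]

/-- **Chow's lemma** for an irreducible scheme proper over a noetherian ring. -/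
theorem chow_lemma_irreducible {Z : Scheme.{u}} [IrreducibleSpace Z]
    (f : Z ⟶ Spec (CommRingCat.of A)) [IsProper f] :
    ∃ (N : ℕ) (Z' : Scheme.{u}) (c : Z' ⟶ pullback f (pStr N A)) (X₀ : Z.Opens),
      IsClosedImmersion c ∧ IsClosedImmersion (c ≫ pullback.snd f (pStr N A)) ∧
        (X₀ : Set Z).Nonempty ∧ IsIso ((c ≫ pullback.fst f (pStr N A)) ∣_ X₀) := by
  haveI : CompactSpace Z := (quasiCompact_iff_compactSpace f).mp inferInstance
  obtain ⟨d, hd⟩ := exists_chowData_irreducible f
  haveI : IsLocallyNoetherian Z := LocallyOfFiniteType.isLocallyNoetherian f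
  haveI : IsNoetherian Z := {}
  haveI : NoetherianSpace d.X₀.toScheme := by
    change NoetherianSpace (d.X₀ : Set Z)
    infer_instance
  haveI : QuasiCompact d.ψ := inferInstance
  exact ⟨d.N, gcl f (pStr d.N A) d.X₀ d.ψ, d.ψ.imageι, d.X₀, inferInstance,
    d.isClosedImmersion_gq, hd, d.isIso_gπ_restrict⟩

end Groth.Agent.H2.GX
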