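import Groth.Agent.Lib.Helper2.GXQuotA
import Groth.Agent.Lib.Lead.QC.Iso
import Groth.Agent.Lib.Lead.QC.Closure

/-!
# Annihilation by an ideal sheaf can be checked on an affine cover (helper2)
-/

set_option autoImplicit false
set_option linter.style.haveILetI false
universe u
open CategoryTheory Limits Opposite TopologicalSpace AlgebraicGeometry

namespace Groth.Agent.H2.GX

open Groth.Agent.LD Groth.Agent.LD.QC

variable {Y : Scheme.{u}} (K : Y.IdealSheafData)

/-- a quasi-coherent module killed by `K` on the members of an affine cover is killed by `K`. -/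
theorem killedByIdeal_of_affine_cover (N : Y.Modules) [N.IsQuasicoherent]
    (h : ∀ x : Y, ∃ (W : Y.Opens) (hW : IsAffineOpen W), x ∈ W ∧
      ∀ κ ∈ K.ideal ⟨W, hW⟩, ∀ s : Γ(N, W), κ • s = 0) :
    ClSub.KilledByIdeal K N := by
  haveI hP : (kernel (πK K N)).IsQuasicoherent := qc_kernel _ inferInstance (qc_qK K N)
  have hz : IsZero (kernel (πK K N)) := by
    apply isZero_of_affine_cover
    intro x
    obtain ⟨W, hW, hxW, hk⟩ := h x
    refine ⟨W, hW, hxW, fun s => ?_⟩
    apply mono_app (kernel.ι (πK K N)) W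
    rw [map_zero]
    have h1 : (πK K N).app W ((kernel.ι (πK K N)).app W s) = 0 := by
      have h2 := congrArg (fun χ => (Scheme.Modules.Hom.app χ W) s) (kernel.condition (πK K N))
      exact h2
    rw [πK_app_eq_zero_iff K N hW] at h1
    have hbot : (K.ideal ⟨W, hW⟩ • ⊤ : Submodule Γ(Y, W) Γ(N, W)) = ⊥ := by
      rw [eq_bot_iff]
      rw [Submodule.smul_le]
      intro κ hκ s _
      rw [hk κ hκ s]
      exact Submodule.zero_mem _
    rw [hbot] at h1
    exact (Submodule.mem_bot _).1 h1
  haveI : Mono (πK K N) := Preadditive.mono_of_kernel_zero (hz.eq_of_src _ _)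
  haveI : IsIso (πK K N) := isIso_of_mono_of_epi _
  exact killedByIdeal_of_iso K (asIso (πK K N)).symm (killedByIdeal_qK K N)

/-- kernel and cokernel of a map of quasi-coherent modules are killed by `K` if this holds on the
sections over the members of an affine cover. -/
theorem killedByIdeal_kernel_cokernel {N₁ N₂ : Y.Modules} (h₁ : N₁.IsQuasicoherent)
    (h₂ : N₂.IsQuasicoherent) (a : N₁ ⟶ N₂)
    (h : ∀ x : Y, ∃ (W : Y.Opens) (hW : IsAffineOpen W), x ∈ W ∧ ∀ κ ∈ K.ideal ⟨W, hW⟩,
      (∀ s : Γ(N₁, W), a.app W s = 0 → κ • s = 0) ∧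
        ∀ y : Γ(N₂, W), ∃ z : Γ(N₁, W), a.app W z = κ • y) :
    ClSub.KilledByIdeal K (kernel a) ∧ ClSub.KilledByIdeal K (cokernel a) := by
  haveI hk : (kernel a).IsQuasicoherent := qc_kernel a h₁ h₂
  haveI hc : (cokernel a).IsQuasicoherent := qc_cokernel a h₁ h₂
  constructor
  · apply killedByIdeal_of_affine_cover
    intro x
    obtain ⟨W, hW, hxW, hb⟩ := h x
    refine ⟨W, hW, hxW, fun κ hκ s => ?_⟩
    apply mono_app (kernel.ι a) W
    rw [map_zero]
    have h1 : a.app W ((kernel.ι a).app W s) = 0 :=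
      congrArg (fun χ => (Scheme.Modules.Hom.app χ W) s) (kernel.condition a)
    have h2 : (kernel.ι a).app W (κ • s) = κ • (kernel.ι a).app W s :=
      Scheme.Modules.Hom.app_smul _ κ s
    rw [h2]
    exact (hb κ hκ).1 _ h1
  · apply killedByIdeal_of_affine_cover
    intro x
    obtain ⟨W, hW, hxW, hb⟩ := h x
    refine ⟨W, hW, hxW, fun κ hκ t => ?_⟩
    obtain ⟨y, rfl⟩ := epi_app_affine h₂ hc (cokernel.π a) hW t
    obtain ⟨z, hz⟩ := (hb κ hκ).2 y
    have h2 : (cokernel.π a).app W (κ • y) = κ • (cokernel.π a).app W y :=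
      Scheme.Modules.Hom.app_smul _ κ y
    rw [← h2, ← hz]
    exact congrArg (fun χ => (Scheme.Modules.Hom.app χ W) z) (cokernel.condition a)

end Groth.Agent.H2.GX
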