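import Groth.Agent.Lib.Lead.HF.Main
import Groth.Agent.S0003

/-!
# Full faithfulness of completion on proper schemes over a complete base (helper2)
-/

set_option autoImplicit false
set_option linter.style.haveILetI false
universe u
open CategoryTheory Limits Opposite TopologicalSpace AlgebraicGeometry

namespace Groth.Agent.H2.GX

open Groth.Agent.LD Groth.Agent.LD.FF Groth.Agent.H2.HomSh

variable {B : Type u} [CommRing B] [IsNoetherianRing B] (I : Ideal B) [IsAdicComplete I B]
  {X : Scheme.{u}} [X.Over (Spec (CommRingCat.of B))] [IsProper (X ↘ Spec (CommRingCat.of B))]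

/-- **full faithfulness of completion** on a proper scheme over a complete Noetherian base. -/
theorem existsUnique_hom_proper (M N : X.Modules) (hM : Coh.IsCoh M) (hN : Coh.IsCoh N)
    (ψ : Formal.completion I M ⟶ Formal.completion I N) :
    ∃! φ : M ⟶ N, ∀ n : ℕ, πc I M n ≫ ψ.app (op n) = φ ≫ πc I N n := by
  haveI : IsLocallyNoetherian X :=
    LocallyOfFiniteType.isLocallyNoetherian (X ↘ Spec (CommRingCat.of B))
  have hH : Coh.IsCoh (RefHull.homSh M N) := isCoh_homSh hM hN
  exact HF.existsUnique_hom I M N hM hN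
    (fun U k q hq => HF.mem_of_modPowπ_eq_zero I N hN U.2 (k + 1) q hq)
    (Groth.Agent.S0003.result B I X _ hH 0) ψ

/-- an isomorphism of completions comes from an isomorphism. -/
theorem exists_iso_of_completion_iso (E F : X.Modules) (hE : Coh.IsCoh E) (hF : Coh.IsCoh F)
    (e : Formal.completion I E ≅ Formal.completion I F) :
    ∃ φ₀ : E ≅ F, ∀ n : ℕ, πc I E n ≫ e.hom.app (op n) = φ₀.hom ≫ πc I F n := by
  obtain ⟨φ, hφ, -⟩ := existsUnique_hom_proper I E F hE hF e.hom
  obtain ⟨φ', hφ', -⟩ := existsUnique_hom_proper I F E hF hE e.inv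
  obtain ⟨φ₁, _, h1⟩ := existsUnique_hom_proper I E E hE hE (𝟙 _)
  obtain ⟨φ₂, _, h2⟩ := existsUnique_hom_proper I F F hF hF (𝟙 _)
  have e1 : φ ≫ φ' = 𝟙 E := by
    refine (h1 (φ ≫ φ') fun n => ?_).trans (h1 (𝟙 E) fun n => ?_).symm
    · rw [NatTrans.id_app, Category.comp_id, Category.assoc, ← hφ' n, ← Category.assoc, ← hφ n,
        Category.assoc, Iso.hom_inv_id_app, Category.comp_id]
    · rw [NatTrans.id_app, Category.comp_id, Category.id_comp]
  have e2 : φ' ≫ φ = 𝟙 F := by
    refine (h2 (φ' ≫ φ) fun n => ?_).trans (h2 (𝟙 F) fun n => ?_).symm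
    · rw [NatTrans.id_app, Category.comp_id, Category.assoc, ← hφ n, ← Category.assoc, ← hφ' n,
        Category.assoc, Iso.inv_hom_id_app, Category.comp_id]
    · rw [NatTrans.id_app, Category.comp_id, Category.id_comp]
  exact ⟨⟨φ, φ', e1, e2⟩, hφ⟩

end Groth.Agent.H2.GX
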