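import Groth.Agent.Lib.Lead.FBC.AffineSec

/-!
# Morphisms which are isomorphisms over an open (helper2)

Base change of "isomorphism over an open `V`", and bijectivity of the unit `N → f_* f^* N` on the
sections over affine opens over which `f` is an isomorphism.
-/

set_option autoImplicit false
set_option linter.style.haveILetI false
universe u
open CategoryTheory Limits Opposite TopologicalSpace AlgebraicGeometry

namespace Groth.Agent.H2.GX

open Groth.Agent.LD Groth.Agent.LD.QC

/-- a base change of a morphism which is an isomorphism over `V` is an isomorphism over every open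
mapping into `V`. -/
theorem isIso_morphismRestrict_of_isPullback {X Y X' Y' : Scheme.{u}} {f : X ⟶ Y} {g : Y' ⟶ Y}
    {f' : X' ⟶ Y'} {g' : X' ⟶ X} (hsq : IsPullback g' f' f g) (V : Y.Opens) [IsIso (f ∣_ V)]
    (V' : Y'.Opens) (hV' : V' ≤ g ⁻¹ᵁ V) : IsIso (f' ∣_ V') := by
  have hrange : Set.range (V'.ι ≫ g) ⊆ Set.range V.ι := by
    rw [Scheme.Opens.range_ι]
    rintro _ ⟨y, rfl⟩
    exact hV' y.2
  have hj : IsOpenImmersion.lift V.ι (V'.ι ≫ g) hrange ≫ V.ι = V'.ι ≫ g :=
    IsOpenImmersion.lift_fac _ _ _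
  have t : IsPullback (f ⁻¹ᵁ V).ι (f ∣_ V) f V.ι := (isPullback_morphismRestrict f V).flip
  have s0 : IsPullback ((f' ⁻¹ᵁ V').ι ≫ g') (f' ∣_ V') f (V'.ι ≫ g) :=
    (isPullback_morphismRestrict f' V').flip.paste_horiz hsq
  rw [← hj] at s0
  exact (IsPullback.of_right' s0 t).isIso_snd_of_isIso

/-- a base change along a bijective ring map is bijective. -/
lemma bijective_of_isBaseChange_of_bijective {R S M M' : Type*} [CommRing R] [CommRing S]
    [Algebra R S] [AddCommGroup M] [Module R M] [AddCommGroup M'] [Module R M'] [Module S M']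
    [IsScalarTower R S M'] (h : M →ₗ[R] M') (hb : IsBaseChange S h)
    (hRS : Function.Bijective (algebraMap R S)) : Function.Bijective h := by
  let e : R ≃ₗ[R] S := LinearEquiv.ofBijective (Algebra.linearMap R S) hRS
  let τ : TensorProduct R S M →ₗ[R] M :=
    TensorProduct.lift ((LinearMap.lsmul R M).comp e.symm.toLinearMap)
  have hτ : ∀ (s : S) (m : M), τ (s ⊗ₜ[R] m) = e.symm s • m := fun s m => by
    simp [τ]
  have he : ∀ s : S, algebraMap R S (e.symm s) = s := fun s => e.apply_symm_apply s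
  have key : ∀ z : TensorProduct R S M, hb.equiv z = h (τ z) := by
    intro z
    induction z using TensorProduct.induction_on with
    | zero => simp
    | tmul s m =>
      rw [IsBaseChange.equiv_tmul, hτ, map_smul, ← he s, algebraMap_smul, he s]
    | add x y hx hy => rw [map_add, map_add, map_add, hx, hy]
  constructor
  · intro m m' hm
    have h1 : hb.equiv ((1 : S) ⊗ₜ[R] m) = hb.equiv ((1 : S) ⊗ₜ[R] m') := by
      rw [IsBaseChange.equiv_tmul, IsBaseChange.equiv_tmul, hm]
    have h2 := congrArg τ (hb.equiv.injective h1)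
    rw [hτ, hτ] at h2
    have h3 : e.symm (1 : S) = 1 := by
      apply e.injective
      rw [e.apply_symm_apply]
      exact (map_one (algebraMap R S)).symm
    rwa [h3, one_smul, one_smul] at h2
  · intro y
    obtain ⟨z, rfl⟩ := hb.equiv.surjective y
    exact ⟨τ z, (key z).symm⟩

/-- if `f` is an isomorphism over the affine open `V₀`, the unit `N → f_* f^* N` is bijective on the
sections over `V₀`, for quasi-coherent `N`. -/
theorem unitSec_bijective_of_isIso {X Y : Scheme.{u}} (f : X ⟶ Y) (N : Y.Modules)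
    [N.IsQuasicoherent] {V₀ : Y.Opens} (hV₀ : IsAffineOpen V₀) [IsIso (f ∣_ V₀)] :
    Function.Bijective (unitSec f N V₀) := by
  have hU : IsAffineOpen (f ⁻¹ᵁ V₀) := by
    haveI : IsAffine V₀.toScheme := hV₀
    exact IsAffine.of_isIso (f ∣_ V₀)
  have hiso1 : IsIso (f.app (V₀.ι ''ᵁ ⊤)) := by
    have h1 := morphismRestrict_appTop f V₀
    haveI hg : IsIso (X.presheaf.map (eqToHom (image_morphismRestrict_preimage f V₀ ⊤)).op) := by
      rw [eqToHom_op, eqToHom_map]
      infer_instance
    haveI : IsIso (f.app (V₀.ι ''ᵁ ⊤) ≫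
        X.presheaf.map (eqToHom (image_morphismRestrict_preimage f V₀ ⊤)).op) := by
      rw [← h1]
      change IsIso ((f ∣_ V₀).app ⊤)
      infer_instance
    exact IsIso.of_isIso_comp_right (f.app (V₀.ι ''ᵁ ⊤))
      (X.presheaf.map (eqToHom (image_morphismRestrict_preimage f V₀ ⊤)).op)
  have hiso : IsIso (f.app V₀) := by
    rw [Scheme.Hom.app_eq f (Scheme.Opens.ι_image_top V₀).symm]
    haveI : IsIso (Y.presheaf.map (eqToHom (Scheme.Opens.ι_image_top V₀).symm.symm).op) := by
      rw [eqToHom_op, eqToHom_map]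
      infer_instance
    haveI : IsIso (X.presheaf.map (eqToHom (show f ⁻¹ᵁ (V₀.ι ''ᵁ ⊤) = f ⁻¹ᵁ V₀ from
        (Scheme.Opens.ι_image_top V₀).symm ▸ rfl)).op) := by
      rw [eqToHom_op, eqToHom_map]
      infer_instance
    infer_instance
  letI := (f.appLE V₀ (f ⁻¹ᵁ V₀) le_rfl).hom.toAlgebra
  letI := pbModule f N (le_refl (f ⁻¹ᵁ V₀))
  haveI := pbModule_isScalarTower f N (le_refl (f ⁻¹ᵁ V₀))
  have hbc := isBaseChange_pbSec f hU hV₀ (le_refl (f ⁻¹ᵁ V₀)) N
  have halg : Function.Bijective (algebraMap Γ(Y, V₀) Γ(X, f ⁻¹ᵁ V₀)) := by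
    change Function.Bijective (f.appLE V₀ (f ⁻¹ᵁ V₀) le_rfl).hom
    rw [← Scheme.Hom.app_eq_appLE]
    exact ConcreteCategory.bijective_of_isIso (f.app V₀)
  have hb := bijective_of_isBaseChange_of_bijective _ hbc halg
  have heq : ∀ x : Γ(N, V₀), pbSecₗ f N (le_refl (f ⁻¹ᵁ V₀)) x = unitSec f N V₀ x :=
    fun x => FBC.pbSec_le_rfl f N V₀ x
  constructor
  · intro x y hxy
    apply hb.1
    rw [heq, heq, hxy]
  · intro y
    obtain ⟨x, hx⟩ := hb.2 y
    exact ⟨x, (heq x).symm.trans hx⟩

end Groth.Agent.H2.GX
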