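import Groth.Agent.Lib.Helper2.GXBaseA
import Groth.Agent.Lib.Helper2.GXFullA
import Groth.Agent.Lib.Helper2.GXIsoA
import Groth.Agent.Lib.Helper2.GXAlphaA
import Groth.Agent.Lib.Helper2.AlgzAff3
import Groth.Agent.Lib.Helper2.AlgzExt1
import Groth.Agent.Lib.Lead.QC.Pullback
import Groth.Agent.Lib.Lead.QC.InvBasis

/-!
# Algebraization over a complete affine base (helper2)

Over `Spec B` with `B` Noetherian and `J B`-adically complete, a coherent formal module `G'` whose
pullback to a proper `X'` is the completion of a coherent `F'` is the completion of a coherent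
module `G₀`, and the adjoint of the comparison is a genuine map `a : G₀ ⟶ f'_* F'`.
-/

set_option autoImplicit false
set_option linter.style.haveILetI false
universe u
open CategoryTheory Limits Opposite TopologicalSpace AlgebraicGeometry

namespace Groth.Agent.H2.GX

open Groth.Agent.LD Groth.Agent.LD.FF Groth.Agent.H2.FormalQ Groth.Agent.H2.FormalEq
  Groth.Agent.H2.AlgzExt

variable {A : Type u} [CommRing A] (J : Ideal A) {B : Type u} [CommRing B] [IsNoetherianRing B]
  (ψ : A →+* B) [IsAdicComplete (J.map ψ) B]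
  {X' : Scheme.{u}} [X'.Over (Spec (CommRingCat.of A))]
  [(Spec (CommRingCat.of B)).Over (Spec (CommRingCat.of A))]
  (hY : (Spec (CommRingCat.of B) ↘ Spec (CommRingCat.of A)) = Spec.map (CommRingCat.ofHom ψ))
  (f' : X' ⟶ Spec (CommRingCat.of B)) [IsProper f']
  (hf' : f' ≫ (Spec (CommRingCat.of B) ↘ Spec (CommRingCat.of A)) =
    X' ↘ Spec (CommRingCat.of A))

include hY hf' in
theorem exists_algebraization (S : Finset Γ(Spec (CommRingCat.of B), ⊤))
    (hS : ∀ k ∈ S, IsIso (f' ∣_ (Spec (CommRingCat.of B)).basicOpen k))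
    (G' : ℕᵒᵖ ⥤ (Spec (CommRingCat.of B)).Modules) (hG' : Formal.IsCohFormal J G')
    (F' : X'.Modules) (hF' : Coh.IsCoh F')
    (β' : G' ⋙ Scheme.Modules.pullback f' ≅ Formal.completion J F') :
    ∃ (G₀ : (Spec (CommRingCat.of B)).Modules) (p : ∀ n, G₀ ⟶ G'.obj (op n))
      (a : G₀ ⟶ (Scheme.Modules.pushforward f').obj F'),
      Coh.IsCoh G₀ ∧ (∀ n, IsQ (J ^ (n + 1)) (p n)) ∧
      (∀ (n k : ℕ) (h : n ≤ k), p k ≫ G'.map (homOfLE h).op = p n) ∧
      (∀ k ∈ S, Function.Bijective (a.app ((Spec (CommRingCat.of B)).basicOpen k))) ∧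
      ∀ n, p n ≫ (gammaOf f' β').app (op n) =
        a ≫ (Scheme.Modules.pushforward f').map (πc J F' n) := by
  letI oB : (Spec (CommRingCat.of B)).Over (Spec (CommRingCat.of B)) := AlgzAff.idOver B
  letI oX : X'.Over (Spec (CommRingCat.of B)) := ⟨f'⟩
  have hφY : ((Spec (CommRingCat.of B)) ↘ Spec (CommRingCat.of B)) ≫
      Spec.map (CommRingCat.ofHom ψ) = (Spec (CommRingCat.of B)) ↘ Spec (CommRingCat.of A) := by
    change 𝟙 _ ≫ _ = _
    rw [Category.id_comp, hY]
  have hφX : (X' ↘ Spec (CommRingCat.of B)) ≫ Spec.map (CommRingCat.ofHom ψ) =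
      X' ↘ Spec (CommRingCat.of A) := by
    change f' ≫ _ = _
    rw [← hY, hf']
  have hfB : f' ≫ ((Spec (CommRingCat.of B)) ↘ Spec (CommRingCat.of B)) =
      X' ↘ Spec (CommRingCat.of B) := Category.comp_id f'
  haveI : IsProper (X' ↘ Spec (CommRingCat.of B)) := by
    change IsProper f'
    infer_instance
  have hG'B : Formal.IsCohFormal (J.map ψ) G' := (isCohFormal_map_iff ψ hφY J G').2 hG'
  obtain ⟨G₀, p, hG₀, hpQ, hpc⟩ := AlgzAff.exists_isQ_family (J.map ψ) hG'B
  haveI := hG₀.1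
  have hE : Coh.IsCoh ((Scheme.Modules.pullback f').obj G₀) :=
    ⟨QC.qc_pullback f' G₀, QC.isFiniteType_pullback f' G₀ hG₀.2⟩
  let r : ∀ n, (Scheme.Modules.pullback f').obj G₀ ⟶ (Formal.completion J F').obj (op n) :=
    fun n => (Scheme.Modules.pullback f').map (p n) ≫ β'.hom.app (op n)
  have hrQ : ∀ n, IsQ ((J.map ψ) ^ (n + 1)) (r n) := fun n =>
    isQ_comp_iso (AlgzExt.isQ_pullback f' hfB (hpQ n)) _
  have hrc : ∀ (n k : ℕ) (h : n ≤ k),
      r k ≫ (Formal.completion J F').map (homOfLE h).op = r n := by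
    intro n k h
    have h2 := β'.hom.naturality (homOfLE h).op
    simp only [Functor.comp_map] at h2
    change ((Scheme.Modules.pullback f').map (p k) ≫ β'.hom.app (op k)) ≫ _ = _
    rw [Category.assoc, ← h2, ← Category.assoc, ← Functor.map_comp, hpc n k h]
  obtain ⟨ê, hê⟩ := exists_iso_of_isQ_family
    (S := Formal.completion (J.map ψ) ((Scheme.Modules.pullback f').obj G₀))
    (S' := Formal.completion J F')
    (fun n => (J.map ψ) ^ (n + 1))
    (fun n => Formal.modPowπ (J.map ψ) (n + 1) ((Scheme.Modules.pullback f').obj G₀)) r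
    (fun n => isQ_modPowπ _ _ _) hrQ (fun n k h => π_completion_map _ _ h) hrc
  obtain ⟨e₂, he₂⟩ := exists_completion_iso_map ψ hφX J F'
  obtain ⟨φ₀, hφ₀⟩ := exists_iso_of_completion_iso (J.map ψ) _ F' hE hF' (ê ≪≫ e₂.symm)
  have hstar : ∀ n, r n = φ₀.hom ≫ πc J F' n := by
    intro n
    have h1 := hφ₀ n
    have h2 : πc (J.map ψ) F' n ≫ e₂.hom.app (op n) = πc J F' n := he₂ n
    have h3 : πc (J.map ψ) ((Scheme.Modules.pullback f').obj G₀) n ≫ ê.hom.app (op n) = r n :=
      hê n
    rw [← h3, ← h2, ← Category.assoc, ← h1]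
    simp
  refine ⟨G₀, p, (Scheme.Modules.pullbackPushforwardAdjunction f').unit.app G₀ ≫
    (Scheme.Modules.pushforward f').map φ₀.hom, hG₀, fun n => ?_, hpc, fun k hk => ?_, fun n => ?_⟩
  · have h := (isQ_map_iff ψ hφY (J ^ (n + 1)) (p n)).1
    rw [Ideal.map_pow] at h
    exact h (hpQ n)
  · haveI := hS k hk
    have hD : IsAffineOpen ((Spec (CommRingCat.of B)).basicOpen k) :=
      (isAffineOpen_top (Spec (CommRingCat.of B))).basicOpen k
    have h1 := unitSec_bijective_of_isIso f' G₀ hD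
    have h2 := QC.app_bijective_of_isIso φ₀.hom (f' ⁻¹ᵁ (Spec (CommRingCat.of B)).basicOpen k)
    exact h2.comp h1
  · rw [gammaOf_app]
    have h1 := (Scheme.Modules.pullbackPushforwardAdjunction f').unit.naturality (p n)
    simp only [Functor.id_obj, Functor.comp_obj, Functor.id_map, Functor.comp_map] at h1
    rw [← Category.assoc, h1, Category.assoc, Category.assoc, ← Functor.map_comp,
      ← Functor.map_comp]
    exact congrArg (fun χ => (Scheme.Modules.pullbackPushforwardAdjunction f').unit.app G₀ ≫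
      (Scheme.Modules.pushforward f').map χ) (hstar n)

end Groth.Agent.H2.GX
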