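import Groth.Agent.Lib.Lead.QC.Compact
import Groth.Agent.Lib.Lead.QC.FinType
import Groth.Agent.Lib.Lead.QC.Coh
import Groth.Agent.Lib.Lead.QC.Gen
import Groth.Agent.Lib.Lead.QC.Affine
import Groth.Prelude.Def_Coh

/-!
# Kernels and cokernels killed by powers of an ideal (helper2)

A map of coherent modules on a Noetherian affine scheme which is bijective on the sections over
`D(k)` for every `k` in a finite set `S` has kernel and cokernel (on global sections) killed by a
power of the ideal generated by `S`.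
-/

set_option autoImplicit false
set_option linter.style.haveILetI false
universe u
open CategoryTheory Limits Opposite TopologicalSpace AlgebraicGeometry

namespace Groth.Agent.H2.GX

open Groth.Agent.LD

/-- a finite module each of whose elements is killed by a power of every `k ∈ S` is killed by a
power of the ideal generated by `S`. -/
theorem exists_pow_le_annihilator {R : Type*} [CommRing R] {N : Type*} [AddCommGroup N]
    [Module R N] [Module.Finite R N] (S : Finset R)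
    (h : ∀ k ∈ S, ∀ x : N, ∃ m : ℕ, k ^ m • x = 0) :
    ∃ T : ℕ, ∀ κ ∈ (Ideal.span (S : Set R)) ^ T, ∀ x : N, κ • x = 0 := by
  classical
  have hrad : Ideal.span (S : Set R) ≤ (Module.annihilator R N).radical := by
    rw [Ideal.span_le]
    intro k hk
    obtain ⟨s, hs⟩ := (Module.Finite.fg_top : (⊤ : Submodule R N).FG)
    choose! m hm using h k hk
    refine ⟨s.sup m, ?_⟩
    rw [Module.mem_annihilator]
    intro x
    have hx : x ∈ Submodule.span R (s : Set N) := by rw [hs]; trivial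
    induction hx using Submodule.span_induction with
    | mem y hy =>
      have : s.sup m = (s.sup m - m y) + m y := (Nat.sub_add_cancel (Finset.le_sup hy)).symm
      rw [this, pow_add, mul_smul, hm y, smul_zero]
    | zero => exact smul_zero _
    | add y z _ _ hy hz => rw [smul_add, hy, hz, add_zero]
    | smul r y _ hy => rw [smul_comm, hy, smul_zero]
  obtain ⟨T, hT⟩ := Ideal.exists_pow_le_of_le_radical_of_fg hrad ⟨S, rfl⟩
  exact ⟨T, fun κ hκ x => Module.mem_annihilator.1 (hT hκ) x⟩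

variable {X : Scheme.{u}}

lemma res_smul' (M : X.Modules) {U V : X.Opens} (h : V ≤ U) (r : Γ(X, U)) (x : Γ(M, U)) :
    M.presheaf.map (homOfLE h).op (r • x) =
      (X.presheaf.map (homOfLE h).op r) • M.presheaf.map (homOfLE h).op x := by
  letI := QC.resModule M h
  exact (QC.resLinear M h).map_smul r x

lemma exists_pow_smul_eq_res (M : X.Modules) [M.IsQuasicoherent] {U : X.Opens}
    (hU : IsAffineOpen U) (k : Γ(X, U)) (y : Γ(M, X.basicOpen k)) :
    ∃ (n : ℕ) (z : Γ(M, U)), (X.presheaf.map (homOfLE (X.basicOpen_le k)).op (k ^ n)) • y =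
      M.presheaf.map (homOfLE (X.basicOpen_le k)).op z := by
  letI := QC.resModule M (X.basicOpen_le k)
  haveI := QC.isLocalizedModule_basicOpen M hU k
  obtain ⟨⟨z, ⟨_, n, rfl⟩⟩, hz⟩ := IsLocalizedModule.surj (Submonoid.powers k)
    (QC.resLinear M (X.basicOpen_le k)) y
  exact ⟨n, z, hz⟩

/-- kernel and cokernel of a map of coherent modules which is an isomorphism over the `D(k)`,
`k ∈ S`, are killed by a power of `(S)`; on the sections over an affine Noetherian scheme. -/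
theorem exists_pow_kill [IsAffine X] [IsLocallyNoetherian X] {M₁ M₂ : X.Modules}
    (h₁ : Coh.IsCoh M₁) (h₂ : Coh.IsCoh M₂) (a : M₁ ⟶ M₂) (S : Finset Γ(X, ⊤))
    (hS : ∀ k ∈ S, Function.Bijective (a.app (X.basicOpen k))) :
    ∃ T : ℕ, ∀ κ ∈ (Ideal.span (S : Set Γ(X, ⊤))) ^ T,
      (∀ x : Γ(M₁, ⊤), a.app ⊤ x = 0 → κ • x = 0) ∧
        ∀ y : Γ(M₂, ⊤), ∃ z : Γ(M₁, ⊤), a.app ⊤ z = κ • y := by
  haveI := h₁.1
  haveI := h₂.1
  have hT : IsAffineOpen (⊤ : X.Opens) := isAffineOpen_top X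
  haveI : IsNoetherianRing Γ(X, ⊤) := IsLocallyNoetherian.component_noetherian ⟨⊤, hT⟩
  haveI : Module.Finite Γ(X, ⊤) Γ(M₁, ⊤) := QC.finite_sections_of_isFiniteType M₁ h₁.2 hT
  haveI : Module.Finite Γ(X, ⊤) Γ(M₂, ⊤) := QC.finite_sections_of_isFiniteType M₂ h₂.2 hT
  haveI : IsNoetherian Γ(X, ⊤) Γ(M₁, ⊤) := isNoetherian_of_isNoetherianRing_of_finite _ _
  let aL : Γ(M₁, ⊤) →ₗ[Γ(X, ⊤)] Γ(M₂, ⊤) := QC.appLinear a ⊤
  -- the kernel
  have hK : ∀ k ∈ S, ∀ x : LinearMap.ker aL, ∃ m : ℕ, k ^ m • x = 0 := by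
    intro k hk x
    have hx : a.app ⊤ x.1 = 0 := x.2
    have h0 : M₁.presheaf.map (homOfLE (X.basicOpen_le k)).op x.1 = 0 := by
      apply (hS k hk).1
      rw [QC.app_res, hx, map_zero, map_zero]
    obtain ⟨m, hm⟩ := QC.compact_inj M₁ hT.isCompact k x.1 h0
    exact ⟨m, Subtype.ext hm⟩
  -- the cokernel
  have hC : ∀ k ∈ S, ∀ q : Γ(M₂, ⊤) ⧸ LinearMap.range aL, ∃ m : ℕ, k ^ m • q = 0 := by
    intro k hk q
    obtain ⟨y, rfl⟩ := Submodule.Quotient.mk_surjective _ q
    obtain ⟨z', hz'⟩ := (hS k hk).2 (M₂.presheaf.map (homOfLE (X.basicOpen_le k)).op y)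
    obtain ⟨n, z, hz⟩ := exists_pow_smul_eq_res M₁ hT k z'
    have h0 : M₂.presheaf.map (homOfLE (X.basicOpen_le k)).op (a.app ⊤ z - k ^ n • y) = 0 := by
      rw [map_sub, ← QC.app_res, ← hz, res_smul', ← hz']
      have := Scheme.Modules.Hom.app_smul a
        (X.presheaf.map (homOfLE (X.basicOpen_le k)).op (k ^ n)) z'
      rw [this, sub_self]
    obtain ⟨m, hm⟩ := QC.compact_inj M₂ hT.isCompact k _ h0
    refine ⟨m + n, ?_⟩
    rw [← Submodule.Quotient.mk_smul, Submodule.Quotient.mk_eq_zero]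
    refine ⟨k ^ m • z, ?_⟩
    rw [smul_sub, sub_eq_zero] at hm
    change aL (k ^ m • z) = _
    rw [map_smul, pow_add, mul_smul]
    exact hm
  obtain ⟨T₁, hT₁⟩ := exists_pow_le_annihilator S hK
  obtain ⟨T₂, hT₂⟩ := exists_pow_le_annihilator S hC
  refine ⟨T₁ + T₂, fun κ hκ => ⟨fun x hx => ?_, fun y => ?_⟩⟩
  · have hκ₁ : κ ∈ Ideal.span (S : Set Γ(X, ⊤)) ^ T₁ :=
      Ideal.pow_le_pow_right (Nat.le_add_right T₁ T₂) hκ
    have := hT₁ κ hκ₁ ⟨x, hx⟩
    exact congrArg Subtype.val this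
  · have hκ₂ : κ ∈ Ideal.span (S : Set Γ(X, ⊤)) ^ T₂ :=
      Ideal.pow_le_pow_right (Nat.le_add_left T₂ T₁) hκ
    have := hT₂ κ hκ₂ (Submodule.Quotient.mk y)
    rw [← Submodule.Quotient.mk_smul, Submodule.Quotient.mk_eq_zero] at this
    obtain ⟨z, hz⟩ := this
    exact ⟨z, hz⟩

end Groth.Agent.H2.GX
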