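import Groth.Agent.Lib.Helper2.GXCplA
import Groth.Agent.Lib.Helper2.GXKillA
import Groth.Agent.Lib.Helper2.GXBndA

/-!
# Uniform bounds over a complete affine base (helper2)
-/

set_option autoImplicit false
set_option linter.style.haveILetI false
universe u
open CategoryTheory Limits Opposite TopologicalSpace AlgebraicGeometry

namespace Groth.Agent.H2.GX

open Groth.Agent.LD Groth.Agent.LD.FF Groth.Agent.H2.FormalQ Groth.Agent.H2.FormalEq
  Groth.Agent.H2.AlgzExt

variable {A : Type u} [CommRing A] (J : Ideal A) {B : Type u} [CommRing B] [IsNoetherianRing B]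
  (ψ : A →+* B) [IsAdicComplete (J.map ψ) B]
  {X' : Scheme.{u}} [X'.Over (Spec (CommRingCat.of A))]
  [(Spec (CommRingCat.of B)).Over (Spec (CommRingCat.of A))]
  (hY : (Spec (CommRingCat.of B) ↘ Spec (CommRingCat.of A)) = Spec.map (CommRingCat.ofHom ψ))
  (f' : X' ⟶ Spec (CommRingCat.of B)) [IsProper f']
  (hf' : f' ≫ (Spec (CommRingCat.of B) ↘ Spec (CommRingCat.of A)) =
    X' ↘ Spec (CommRingCat.of A))

include hY hf' in
/-- **the uniform bound over a complete affine base.** -/
theorem bounds_complete (S : Finset Γ(Spec (CommRingCat.of B), ⊤))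
    (hS : ∀ k ∈ S, IsIso (f' ∣_ (Spec (CommRingCat.of B)).basicOpen k))
    (G' : ℕᵒᵖ ⥤ (Spec (CommRingCat.of B)).Modules) (hG' : Formal.IsCohFormal J G')
    (F' : X'.Modules) (hF' : Coh.IsCoh F')
    (β' : G' ⋙ Scheme.Modules.pullback f' ≅ Formal.completion J F')
    (c' : Formal.completion J ((Scheme.Modules.pushforward f').obj F') ⟶
        Formal.completion J F' ⋙ Scheme.Modules.pushforward f')
    (hc' : ∀ n, πc J ((Scheme.Modules.pushforward f').obj F') n ≫ c'.app (op n) =
        (Scheme.Modules.pushforward f').map (πc J F' n))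
    (α' : G' ⟶ Formal.completion J ((Scheme.Modules.pushforward f').obj F'))
    (hα' : α' ≫ c' = gammaOf f' β') :
    ∃ T : ℕ, ∀ (n : ℕ) (κ : Γ(Spec (CommRingCat.of B), ⊤)),
      κ ∈ (Ideal.span (S : Set Γ(Spec (CommRingCat.of B), ⊤))) ^ T →
      (∀ x : Γ(G'.obj (op n), ⊤), (α'.app (op n)).app ⊤ x = 0 → κ • x = 0) ∧
      ∀ y : Γ((Formal.completion J ((Scheme.Modules.pushforward f').obj F')).obj (op n), ⊤),
        ∃ z : Γ(G'.obj (op n), ⊤), (α'.app (op n)).app ⊤ z = κ • y := by
  obtain ⟨G₀, p, a, hG₀, hpQ, hpc, hbij, hpa⟩ :=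
    exists_algebraization J ψ hY f' hf' S hS G' hG' F' hF' β'
  have hH' : Coh.IsCoh ((Scheme.Modules.pushforward f').obj F') :=
    isCoh_pushforward_proper f' F' hF'
  obtain ⟨s, h1, -⟩ := exists_ff_shift J f' hf' F' hF' c' hc'
  have hclub : ∀ n, p n ≫ α'.app (op n) =
      a ≫ πc J ((Scheme.Modules.pushforward f').obj F') n := by
    intro n
    have hd : ∀ k, (p k ≫ α'.app (op k) -
        a ≫ πc J ((Scheme.Modules.pushforward f').obj F') k) ≫ c'.app (op k) = 0 := by
      intro k
      have e1 : α'.app (op k) ≫ c'.app (op k) = (gammaOf f' β').app (op k) :=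
        congrArg (fun χ => χ.app (op k)) hα'
      rw [Preadditive.sub_comp, Category.assoc, e1, Category.assoc, hc' k, hpa k, sub_self]
    have hdt : (p (n + s) ≫ α'.app (op (n + s)) -
        a ≫ πc J ((Scheme.Modules.pushforward f').obj F') (n + s)) ≫
        (Formal.completion J ((Scheme.Modules.pushforward f').obj F')).map
          (homOfLE (Nat.le_add_right n s)).op =
        p n ≫ α'.app (op n) - a ≫ πc J ((Scheme.Modules.pushforward f').obj F') n := by
      rw [Preadditive.sub_comp, Category.assoc, Category.assoc, ← α'.naturality,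
        ← Category.assoc, hpc n (n + s) _, πc_map]
    have h3 := comp_tr_eq_zero_of_comp_eq_zero c' s h1 n _ (hd (n + s))
    rw [hdt] at h3
    exact sub_eq_zero.1 h3
  obtain ⟨T, hT⟩ := exists_pow_kill hG₀ hH' a S hbij
  refine ⟨T + T, fun n κ hκ => ?_⟩
  have hGn : (G'.obj (op n)).IsQuasicoherent := (hG'.1 n).1
  have hHn : ((Formal.completion J ((Scheme.Modules.pushforward f').obj F')).obj
      (op n)).IsQuasicoherent := (isCoh_modPow J (n + 1) hH').1
  have hq : IsQ (J ^ (n + 1)) (πc J ((Scheme.Modules.pushforward f').obj F') n) :=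
    isQ_modPowπ J (n + 1) _
  have hTop := isAffineOpen_top (Spec (CommRingCat.of B))
  constructor
  · have hκ' : κ ∈ (Ideal.span (S : Set Γ(Spec (CommRingCat.of B), ⊤))) ^ T •
        (Ideal.span (S : Set Γ(Spec (CommRingCat.of B), ⊤))) ^ T := by
      rw [smul_eq_mul, ← pow_add]
      exact hκ
    refine Submodule.smul_induction_on hκ' (fun κ₁ hκ₁ κ₂ hκ₂ => ?_) (fun κ κ' h h' x hx => ?_)
    · exact (bounds_of_quotient J (n + 1) hG₀ hH' hGn hHn a (p n)
        (πc J ((Scheme.Modules.pushforward f').obj F') n) (α'.app (op n)) (hpQ n) hq (hclub n)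
        hTop κ₁ κ₂ (hT κ₁ hκ₁).2 (hT κ₂ hκ₂).1).1
    · rw [add_smul, h x hx, h' x hx, add_zero]
  · have hκ₁ : κ ∈ (Ideal.span (S : Set Γ(Spec (CommRingCat.of B), ⊤))) ^ T :=
      Ideal.pow_le_pow_right (Nat.le_add_right T T) hκ
    exact (bounds_of_quotient J (n + 1) hG₀ hH' hGn hHn a (p n)
      (πc J ((Scheme.Modules.pushforward f').obj F') n) (α'.app (op n)) (hpQ n) hq (hclub n)
      hTop κ κ (hT κ hκ₁).2 (hT κ hκ₁).1).2

end Groth.Agent.H2.GX
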