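import Groth.Agent.Lib.Helper2.GXFFSecB
import Groth.Agent.Lib.Lead.RS.Coherent
import Groth.Agent.Lib.Lead.FK.Basic
import Groth.Agent.Lib.Helper2.FormalQ3

/-!
# The theorem on formal functions for a proper morphism, sheaf form in degree zero (helper2)

For `f : X ⟶ Y` proper, `Y` Noetherian over `Spec A`, `J ⊆ A` and `F` coherent on `X`, the map of
systems `c : (f_* F / J^{n+1}) ⟶ (f_* (F / J^{n+1} F))` has kernels and cokernels which are
essentially zero with a uniform shift.
-/

set_option autoImplicit false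
set_option linter.style.haveILetI false
universe u
open CategoryTheory Limits Opposite TopologicalSpace AlgebraicGeometry

namespace Groth.Agent.H2.GX

open Groth.Agent.LD Groth.Agent.LD.FF Groth.Agent.H2.FormalQ Groth.Agent.H2.FormalEq
  Groth.Agent.H2.AlgzExt Groth.Agent.LD.FK

section Mono

variable {A : Type u} [CommRing A] (J : Ideal A) {X : Scheme.{u}}
  [X.Over (Spec (CommRingCat.of A))]

/-- Artin–Rees with shift `s` on the sections over `U`. -/
def FFa (s : ℕ) (F : X.Modules) (U : X.Opens) : Prop :=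
  ∀ (n : ℕ) (x : Γ(F, U)), (πc J F (n + s)).app U x = 0 → x ∈ smulSub (J ^ (n + 1)) F U

/-- Mittag-Leffler with shift `s` on the sections over `U`. -/
def FFb (s : ℕ) (F : X.Modules) (U : X.Opens) : Prop :=
  ∀ (n : ℕ) (y : Γ((Formal.completion J F).obj (op (n + s)), U)), ∃ x : Γ(F, U),
    (πc J F n).app U x =
      ((Formal.completion J F).map (homOfLE (Nat.le_add_right n s)).op).app U y

variable {J}

lemma FFa.mono {s s' : ℕ} (h : s ≤ s') {F : X.Modules} {U : X.Opens} (H : FFa J s F U) :
    FFa J s' F U := by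
  intro n x hx
  apply H n x
  have h1 : πc J F (n + s') ≫ (Formal.completion J F).map
      (homOfLE (Nat.add_le_add_left h n)).op = πc J F (n + s) := πc_map J F _
  have h2 := congrArg (fun χ => (Scheme.Modules.Hom.app χ U) x) h1
  refine h2.symm.trans ?_
  change ((Formal.completion J F).map (homOfLE (Nat.add_le_add_left h n)).op).app U
    ((πc J F (n + s')).app U x) = 0
  rw [hx]
  exact map_zero _

lemma FFb.mono {s s' : ℕ} (h : s ≤ s') {F : X.Modules} {U : X.Opens} (H : FFb J s F U) :
    FFb J s' F U := by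
  intro n y
  obtain ⟨x, hx⟩ := H n (((Formal.completion J F).map
    (homOfLE (Nat.add_le_add_left h n)).op).app U y)
  refine ⟨x, hx.trans ?_⟩
  have h1 := tr_comp (Formal.completion J F) (Nat.le_add_right n s) (Nat.add_le_add_left h n)
  exact congrArg (fun χ => (Scheme.Modules.Hom.app χ U) y) h1

end Mono

variable {A : Type u} [CommRing A] (J : Ideal A) {X Y : Scheme.{u}}
  [X.Over (Spec (CommRingCat.of A))] [Y.Over (Spec (CommRingCat.of A))]
  (f : X ⟶ Y)
  (hf : f ≫ (Y ↘ Spec (CommRingCat.of A)) = X ↘ Spec (CommRingCat.of A))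

/-- direct images of coherent modules along proper morphisms are coherent. -/
theorem isCoh_pushforward_proper [IsLocallyNoetherian Y] [IsProper f] (F : X.Modules)
    (hF : Coh.IsCoh F) : Coh.IsCoh ((Scheme.Modules.pushforward f).obj F) := by
  haveI := QCQS.hasInjRes X
  have hfin : RS.FinCoh.{u} := fun B _ _ Z _ _ N hN n => Groth.Agent.S0002.result B Z N hN n
  have e : Coh.Rpush f 0 ≅ Scheme.Modules.pushforward f := Functor.rightDerivedZeroIsoSelf _
  exact QC.isCoh_of_iso (e.app F) (RS.isCoh_Rpush f hfin F hF 0)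

include hf in
lemma killedBy_pushforward (I : Ideal A) (N : X.Modules) (hN : Formal.KilledBy I N) :
    Formal.KilledBy I ((Scheme.Modules.pushforward f).obj N) := by
  intro a ha
  rw [← pushforward_map_smulMod f hf, hN a ha, Functor.map_zero]

include hf in
/-- the comparison `(f_* F)^ ⟶ f_* (F^)`. -/
theorem exists_cmap (F : X.Modules) :
    ∃ c : Formal.completion J ((Scheme.Modules.pushforward f).obj F) ⟶
        Formal.completion J F ⋙ Scheme.Modules.pushforward f,
      ∀ n, πc J ((Scheme.Modules.pushforward f).obj F) n ≫ c.app (op n) =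
        (Scheme.Modules.pushforward f).map (πc J F n) := by
  have hQ : ∀ n, IsQ (J ^ (n + 1)) (πc J ((Scheme.Modules.pushforward f).obj F) n) :=
    fun n => isQ_modPowπ J (n + 1) _
  have hex : ∀ n, ∃ g' : (Formal.completion J ((Scheme.Modules.pushforward f).obj F)).obj (op n) ⟶
      (Formal.completion J F ⋙ Scheme.Modules.pushforward f).obj (op n),
      πc J ((Scheme.Modules.pushforward f).obj F) n ≫ g' =
        (Scheme.Modules.pushforward f).map (πc J F n) := fun n =>
    (hQ n).exists_desc (killedBy_pushforward f hf (J ^ (n + 1)) _ (killedBy_modPow J (n + 1) F)) _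
  choose b hb using hex
  refine ⟨natTransOfTr b ?_, fun n => hb n⟩
  intro n k hnk
  haveI := (hQ k).epi
  rw [← cancel_epi (πc J ((Scheme.Modules.pushforward f).obj F) k), ← Category.assoc, πc_map, hb n,
    ← Category.assoc, hb k]
  change _ = (Scheme.Modules.pushforward f).map (πc J F k) ≫
    (Scheme.Modules.pushforward f).map ((Formal.completion J F).map (homOfLE hnk).op)
  rw [← Functor.map_comp, πc_map]

include hf in
/-- a uniform shift on a finite affine cover. -/
theorem exists_ff_cover [IsNoetherian Y] [IsProper f] (F : X.Modules) (hF : Coh.IsCoh F) :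
    ∃ s : ℕ, ∀ x : Y, ∃ W : Y.Opens, IsAffineOpen W ∧ x ∈ W ∧ FFa J s F (f ⁻¹ᵁ W) ∧
      FFb J s F (f ⁻¹ᵁ W) := by
  obtain ⟨𝒰, h𝒰fin, h𝒰aff, h𝒰cov⟩ := exists_finite_affine_cover Y
  have hex : ∀ W : Y.Opens, ∃ s₀ : ℕ, W ∈ 𝒰 → FFa J s₀ F (f ⁻¹ᵁ W) ∧ FFb J s₀ F (f ⁻¹ᵁ W) := by
    intro W
    by_cases hW : W ∈ 𝒰
    · obtain ⟨s, h⟩ := ff_affine J f hf F hF W (h𝒰aff W hW)
      exact ⟨s, fun _ => h⟩
    · exact ⟨0, fun h => absurd h hW⟩
  choose s₀ hs₀ using hex
  refine ⟨h𝒰fin.toFinset.sup s₀, fun x => ?_⟩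
  obtain ⟨W, hW, hx⟩ := h𝒰cov x
  have hle : s₀ W ≤ h𝒰fin.toFinset.sup s₀ := Finset.le_sup (h𝒰fin.mem_toFinset.2 hW)
  exact ⟨W, h𝒰aff W hW, hx, (hs₀ W hW).1.mono hle, (hs₀ W hW).2.mono hle⟩

include hf in
/-- **formal functions, sheaf form**: the kernels and cokernels of `c` are essentially zero, with a
uniform shift. -/
theorem exists_ff_shift [IsNoetherian Y] [IsProper f] (F : X.Modules) (hF : Coh.IsCoh F)
    (c : Formal.completion J ((Scheme.Modules.pushforward f).obj F) ⟶
        Formal.completion J F ⋙ Scheme.Modules.pushforward f)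
    (hc : ∀ n, πc J ((Scheme.Modules.pushforward f).obj F) n ≫ c.app (op n) =
        (Scheme.Modules.pushforward f).map (πc J F n)) :
    ∃ s : ℕ, (∀ n, kernel.ι (c.app (op (n + s))) ≫
        (Formal.completion J ((Scheme.Modules.pushforward f).obj F)).map
          (homOfLE (Nat.le_add_right n s)).op = 0) ∧
      ∀ n, (Formal.completion J F ⋙ Scheme.Modules.pushforward f).map
        (homOfLE (Nat.le_add_right n s)).op ≫ cokernel.π (c.app (op n)) = 0 := by
  obtain ⟨s, hs⟩ := exists_ff_cover J f hf F hF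
  have hH : Coh.IsCoh ((Scheme.Modules.pushforward f).obj F) := isCoh_pushforward_proper f F hF
  have hHn : ∀ m, ((Formal.completion J ((Scheme.Modules.pushforward f).obj F)).obj
      (op m)).IsQuasicoherent := fun m => (isCoh_modPow J (m + 1) hH).1
  have hMn : ∀ m, ((Formal.completion J F ⋙ Scheme.Modules.pushforward f).obj
      (op m)).IsQuasicoherent := fun m =>
    (isCoh_pushforward_proper f _ (isCoh_modPow J (m + 1) hF)).1
  refine ⟨s, fun n => ?_, fun n => ?_⟩
  · apply hom_eq_zero_of_affine_cover (QC.qc_kernel _ (hHn _) (hMn _)) (hHn _)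
    intro x
    obtain ⟨W, hW, hxW, ha, -⟩ := hs x
    refine ⟨W, hW, hxW, fun z => ?_⟩
    haveI : Epi (πc J ((Scheme.Modules.pushforward f).obj F) (n + s)) :=
      (isQ_modPowπ J (n + s + 1) _).epi
    obtain ⟨x₀, hx₀⟩ := QC.epi_app_affine hH.1 (hHn (n + s))
      (πc J ((Scheme.Modules.pushforward f).obj F) (n + s)) hW
      ((kernel.ι (c.app (op (n + s)))).app W z)
    have h1 : (c.app (op (n + s))).app W ((kernel.ι (c.app (op (n + s)))).app W z) = 0 :=
      congrArg (fun χ => (Scheme.Modules.Hom.app χ W) z) (kernel.condition (c.app (op (n + s))))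
    have h2 : (c.app (op (n + s))).app W
        ((πc J ((Scheme.Modules.pushforward f).obj F) (n + s)).app W x₀) =
        (πc J F (n + s)).app (f ⁻¹ᵁ W) x₀ :=
      congrArg (fun χ => (Scheme.Modules.Hom.app χ W) x₀) (hc (n + s))
    have h3 : (πc J F (n + s)).app (f ⁻¹ᵁ W) x₀ = 0 := by
      rw [← h2, hx₀, h1]
      rfl
    have h4 := mem_smulSub_pushforward f hf (J ^ (n + 1)) F W (ha n x₀ h3)
    have h5 : (πc J ((Scheme.Modules.pushforward f).obj F) n).app W x₀ = 0 :=
      app_eq_zero_of_mem_smulSub _ (killedBy_modPow J (n + 1) _) h4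
    have h6 : ((Formal.completion J ((Scheme.Modules.pushforward f).obj F)).map
        (homOfLE (Nat.le_add_right n s)).op).app W
        ((πc J ((Scheme.Modules.pushforward f).obj F) (n + s)).app W x₀) =
        (πc J ((Scheme.Modules.pushforward f).obj F) n).app W x₀ :=
      congrArg (fun χ => (Scheme.Modules.Hom.app χ W) x₀)
        (πc_map J ((Scheme.Modules.pushforward f).obj F) (Nat.le_add_right n s))
    change ((Formal.completion J ((Scheme.Modules.pushforward f).obj F)).map
        (homOfLE (Nat.le_add_right n s)).op).app W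
        ((kernel.ι (c.app (op (n + s)))).app W z) = 0
    rw [← hx₀, h6, h5]
  · apply hom_eq_zero_of_affine_cover (hMn _) (QC.qc_cokernel _ (hHn _) (hMn _))
    intro x
    obtain ⟨W, hW, hxW, -, hb⟩ := hs x
    refine ⟨W, hW, hxW, fun y => ?_⟩
    obtain ⟨x₀, hx₀⟩ := hb n y
    have h2 : (c.app (op n)).app W
        ((πc J ((Scheme.Modules.pushforward f).obj F) n).app W x₀) =
        (πc J F n).app (f ⁻¹ᵁ W) x₀ :=
      congrArg (fun χ => (Scheme.Modules.Hom.app χ W) x₀) (hc n)
    have h1 : (cokernel.π (c.app (op n))).app W ((c.app (op n)).app W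
        ((πc J ((Scheme.Modules.pushforward f).obj F) n).app W x₀)) = 0 :=
      congrArg (fun χ => (Scheme.Modules.Hom.app χ W)
        ((πc J ((Scheme.Modules.pushforward f).obj F) n).app W x₀))
        (cokernel.condition (c.app (op n)))
    change (cokernel.π (c.app (op n))).app W
      (((Formal.completion J F).map (homOfLE (Nat.le_add_right n s)).op).app (f ⁻¹ᵁ W) y) = 0
    rw [← hx₀, ← h2, h1]

end Groth.Agent.H2.GX
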