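import Groth.Agent.Lib.Helper2.GXSecA
import Groth.Agent.Lib.Helper2.GXBaseB
import Groth.Agent.Lib.Helper2.GXBaseA
import Groth.Agent.Lib.Helper2.GXFFShA
import Groth.Agent.Lib.Helper2.GXBChA
import Groth.Agent.Lib.Lead.QC.ClosedUnit
import Groth.Agent.Lib.Lead.QC.EpiLocal
import Groth.Agent.Lib.Lead.QC.Push

/-!
# Transfer of algebraizability along a closed immersion (helper2)
-/

set_option autoImplicit false
set_option linter.style.haveILetI false
universe u
open CategoryTheory Limits Opposite TopologicalSpace AlgebraicGeometry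

namespace Groth.Agent.H2.GX

open Groth.Agent.LD Groth.Agent.LD.FF Groth.Agent.H2.FormalQ Groth.Agent.H2.FormalEq
  Groth.Agent.H2.AlgzExt

section Conv

variable {A : Type u} [CommRing A] {X : Scheme.{u}} [X.Over (Spec (CommRingCat.of A))]

/-- the two descriptions of `J Γ(M, U)`. -/
lemma mem_smulSub_iff (J : Ideal A) (M : X.Modules) (U : X.Opens) (x : Γ(M, U)) :
    x ∈ smulSub J M U ↔ x ∈ (Ideal.map (φU U) J • ⊤ : Submodule Γ(X, U) Γ(M, U)) := by
  constructor
  · intro hx
    refine AddSubgroup.closure_induction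
      (p := fun x _ => x ∈ (Ideal.map (φU U) J • ⊤ : Submodule Γ(X, U) Γ(M, U))) ?_ ?_ ?_ ?_ hx
    · rintro _ ⟨a, ha, y, rfl⟩
      rw [smulMod_app']
      exact Submodule.smul_mem_smul (Ideal.mem_map_of_mem _ ha) Submodule.mem_top
    · exact Submodule.zero_mem _
    · intro y z _ _ hy hz
      exact Submodule.add_mem _ hy hz
    · intro y _ hy
      exact Submodule.neg_mem _ hy
  · intro hx
    have key : ∀ r ∈ Ideal.map (φU U) J, ∀ m : Γ(M, U), r • m ∈ smulSub J M U := by
      intro r hr
      refine Submodule.span_induction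
        (p := fun r _ => ∀ m : Γ(M, U), r • m ∈ smulSub J M U) ?_ ?_ ?_ ?_ hr
      · rintro _ ⟨a, ha, rfl⟩ m
        rw [← smulMod_app']
        exact smulMod_app_mem_smulSub ha m
      · intro m
        rw [zero_smul]
        exact AddSubgroup.zero_mem _
      · intro r s _ _ hr hs m
        rw [add_smul]
        exact AddSubgroup.add_mem _ (hr m) (hs m)
      · intro s r _ hr m
        rw [smul_eq_mul, mul_comm, mul_smul]
        exact hr (s • m)
    refine Submodule.smul_induction_on hx (fun r hr m _ => key r hr m) (fun y z hy hz => ?_)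
    exact AddSubgroup.add_mem _ hy hz

end Conv

variable {A : Type u} [CommRing A] (I : Ideal A) {Z Z' : Scheme.{u}}
  [Z.Over (Spec (CommRingCat.of A))] [Z'.Over (Spec (CommRingCat.of A))]
  (j : Z' ⟶ Z) [IsClosedImmersion j]
  (hj : j ≫ (Z ↘ Spec (CommRingCat.of A)) = Z' ↘ Spec (CommRingCat.of A))

include hj in
/-- direct images along closed immersions preserve quotients by powers of `I`. -/
theorem isQ_pushforward_closedImmersion [IsNoetherian Z] (n : ℕ) {M' Q' : Z'.Modules}
    (hM' : Coh.IsCoh M') {p : M' ⟶ Q'} (hp : IsQ (I ^ n) p) :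
    IsQ (I ^ n) ((Scheme.Modules.pushforward j).map p) := by
  haveI : IsLocallyNoetherian Z' := LocallyOfFiniteType.isLocallyNoetherian j
  haveI : CompactSpace Z' := QuasiCompact.compactSpace_of_compactSpace j
  haveI : IsNoetherian Z' := {}
  have hQ' : Coh.IsCoh Q' := QC.isCoh_of_iso (isoOfIsQ I n p hp) (isCoh_modPow I n hM')
  have hk : Formal.KilledBy (I ^ n) Q' :=
    Groth.Agent.LD.FK.killedBy_of_iso (isoOfIsQ I n p hp) (killedBy_modPow I n M')
  haveI := hp.epi
  haveI : Epi ((Scheme.Modules.pushforward j).map p) := by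
    apply QC.epi_of_local_lift
    intro U t x hx
    obtain ⟨W, hW, hxW, hWU⟩ := exists_isAffineOpen_mem_and_subset (x := x) (U := U) hx
    have hWU' : W ≤ U := hWU
    obtain ⟨g, hg⟩ := QC.epi_app_affine hM'.1 hQ'.1 p (hW.preimage j)
      (((Scheme.Modules.pushforward j).obj Q').presheaf.map (homOfLE hWU').op t)
    exact ⟨W, hWU', hxW, g, hg⟩
  refine isQ_of_sections I n (isCoh_pushforward_proper j M' hM')
    (isCoh_pushforward_proper j Q' hQ').1 _ (killedBy_pushforward j hj (I ^ n) Q' hk) ?_
  intro U hU x hx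
  have hx' : p.app (j ⁻¹ᵁ U) (show Γ(M', j ⁻¹ᵁ U) from x) = 0 := hx
  rw [isQ_app_eq_zero_iff I n hM' hp (hU.preimage j), ← Ideal.map_pow,
    ← mem_smulSub_iff] at hx'
  have h2 := mem_smulSub_pushforward j hj (I ^ n) M' U hx'
  rw [mem_smulSub_iff, Ideal.map_pow] at h2
  exact h2

/-- the direct image along a closed immersion is killed by its ideal. -/
lemma killedByIdeal_pushforward (M' : Z'.Modules) :
    ClSub.KilledByIdeal j.ker ((Scheme.Modules.pushforward j).obj M') := by
  intro U a ha m
  rw [Scheme.Hom.ker_apply] at ha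
  have h1 : (j.app U.1).hom a = 0 := ha
  refine (QC.pushforward_smul j M' U.1 a m).trans ?_
  change (j.app U.1).hom a • (show Γ(M', j ⁻¹ᵁ U.1) from m) = 0
  rw [h1, zero_smul]

include hj in
/-- **transfer along a closed immersion**: if coherent formal modules on `Z'` are algebraizable,
so are the coherent formal modules on `Z` killed by the ideal of `Z'`. -/
theorem algebraizable_of_closedImmersion [IsNoetherian Z]
    (hZ' : ∀ G' : ℕᵒᵖ ⥤ Z'.Modules, Formal.IsCohFormal I G' →
      ∃ M' : Z'.Modules, Coh.IsCoh M' ∧ Nonempty (Formal.completion I M' ≅ G'))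
    (G : ℕᵒᵖ ⥤ Z.Modules) (hG : Formal.IsCohFormal I G)
    (hk : ∀ n, ClSub.KilledByIdeal j.ker (G.obj (op n))) :
    ∃ M : Z.Modules, Coh.IsCoh M ∧ ClSub.KilledByIdeal j.ker M ∧
      Nonempty (Formal.completion I M ≅ G) := by
  obtain ⟨M', hM', ⟨θ⟩⟩ := hZ' _ (isCohFormal_pullback I j hj hG)
  obtain ⟨e₁, -⟩ := exists_iso_of_isQ_family
    (S := Formal.completion I ((Scheme.Modules.pushforward j).obj M'))
    (S' := Formal.completion I M' ⋙ Scheme.Modules.pushforward j)
    (fun n => I ^ (n + 1))
    (fun n => πc I ((Scheme.Modules.pushforward j).obj M') n)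
    (fun n => (Scheme.Modules.pushforward j).map (πc I M' n))
    (fun n => isQ_modPowπ I (n + 1) _)
    (fun n => isQ_pushforward_closedImmersion I j hj (n + 1) hM' (isQ_modPowπ I (n + 1) M'))
    (fun n k h => πc_map I _ h)
    (fun n k h => by
      rw [Functor.comp_map, ← Functor.map_comp]
      exact congrArg (fun χ => (Scheme.Modules.pushforward j).map χ) (πc_map I M' h))
  have hiso : ∀ k : ℕᵒᵖ, IsIso ((Scheme.Modules.pullbackPushforwardAdjunction j).unit.app
      (G.obj k)) := by
    intro k
    obtain ⟨n⟩ := k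
    haveI := (hG.1 n).1
    exact (QC.isIso_unit_closedImmersion_iff j (G.obj (op n))).2 (fun U a ha s => hk n U a ha s)
  let e₃ : G ≅ (G ⋙ Scheme.Modules.pullback j) ⋙ Scheme.Modules.pushforward j :=
    NatIso.ofComponents (fun k => @asIso _ _ _ _
      ((Scheme.Modules.pullbackPushforwardAdjunction j).unit.app (G.obj k)) (hiso k))
      (fun {k k'} φ => by
        have h := (Scheme.Modules.pullbackPushforwardAdjunction j).unit.naturality (G.map φ)
        simp only [Functor.id_obj, Functor.comp_obj, Functor.id_map, Functor.comp_map] at h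
        exact h)
  exact ⟨(Scheme.Modules.pushforward j).obj M', isCoh_pushforward_proper j M' hM',
    killedByIdeal_pushforward j M',
    ⟨e₁ ≪≫ Functor.isoWhiskerRight θ (Scheme.Modules.pushforward j) ≪≫ e₃.symm⟩⟩

end Groth.Agent.H2.GX
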