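import Groth.Agent.Lib.Helper2.GXQuotA
import Groth.Agent.Lib.Lead.FF.ReesMain
import Groth.Agent.Lib.Lead.QC.Closure

/-!
# Supports of powers of ideal sheaves, nilpotency, and kernels of quotients (helper2)
-/

set_option autoImplicit false
set_option linter.style.haveILetI false
universe u
open CategoryTheory Limits Opposite TopologicalSpace AlgebraicGeometry

namespace Groth.Agent.H2.GX

open Groth.Agent.LD Groth.Agent.LD.QC

variable {Z : Scheme.{u}}

/-- a point outside the support of `K` is outside the support of every power of `K`. -/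
lemma not_mem_support_pow (K : Z.IdealSheafData) (e : ℕ) {x : Z} (hx : x ∉ K.support) :
    x ∉ (K ^ e).support := by
  obtain ⟨_, ⟨U, hU, rfl⟩, hxU, -⟩ :=
    Z.isBasis_affineOpens.exists_subset_of_mem_open (Set.mem_univ x) isOpen_univ
  have hxU' : x ∈ (⟨U, hU⟩ : Z.affineOpens).1 := hxU
  rw [Scheme.IdealSheafData.mem_support_iff_of_mem (U := ⟨U, hU⟩) hxU',
    Scheme.mem_zeroLocus_iff] at hx ⊢
  push Not at hx
  obtain ⟨f, hf, hxf⟩ := hx
  intro h
  have hfe : f ^ e ∈ (K ^ e).ideal ⟨U, hU⟩ := Ideal.pow_mem_pow hf e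
  apply h (f ^ e) hfe
  rw [Scheme.mem_basicOpen _ _ x hxU'] at hxf ⊢
  rw [map_pow]
  exact hxf.pow e

lemma range_subschemeι_ne_univ (K : Z.IdealSheafData) {x : Z} (hx : x ∉ K.support) :
    Set.range K.subschemeι ≠ Set.univ := by
  rw [Scheme.IdealSheafData.range_subschemeι]
  intro h
  have h1 : x ∈ (K.support : Set Z) := by
    rw [h]
    trivial
  exact hx h1

/-- on a Noetherian scheme the product of the vanishing ideals of two closed sets covering the
scheme is nilpotent. -/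
theorem exists_pow_mul_eq_bot [IsNoetherian Z] (T₁ T₂ : Closeds Z) (h : T₁ ⊔ T₂ = ⊤) :
    ∃ m : ℕ, (Scheme.IdealSheafData.vanishingIdeal T₁ *
      Scheme.IdealSheafData.vanishingIdeal T₂) ^ m = ⊥ := by
  have hle : ∀ U : Z.affineOpens, (Scheme.IdealSheafData.vanishingIdeal T₁ *
      Scheme.IdealSheafData.vanishingIdeal T₂).ideal U ≤ nilradical Γ(Z, U.1) := by
    intro U
    have h1 : Scheme.IdealSheafData.vanishingIdeal T₁ *
        Scheme.IdealSheafData.vanishingIdeal T₂ ≤ Z.nilradical := by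
      rw [← Scheme.IdealSheafData.vanishingIdeal_top, ← h,
        Scheme.IdealSheafData.vanishingIdeal_sup]
      intro V
      exact Ideal.mul_le_inf
    exact h1 U
  obtain ⟨𝒰, h𝒰fin, h𝒰aff, h𝒰cov⟩ := FF.exists_finite_affine_cover Z
  have hex : ∀ W : Z.Opens, ∃ m : ℕ, ∀ hW : IsAffineOpen W, (nilradical Γ(Z, W)) ^ m = ⊥ := by
    intro W
    by_cases hW : IsAffineOpen W
    · haveI : IsNoetherianRing Γ(Z, W) := IsLocallyNoetherian.component_noetherian ⟨W, hW⟩
      obtain ⟨m, hm⟩ := IsNoetherianRing.isNilpotent_nilradical Γ(Z, W)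
      exact ⟨m, fun _ => hm⟩
    · exact ⟨0, fun h => absurd h hW⟩
  choose mf hmf using hex
  refine ⟨h𝒰fin.toFinset.sup mf, ?_⟩
  apply Scheme.IdealSheafData.ext_of_iSup_eq_top
    (fun i : 𝒰 => (⟨i.1, h𝒰aff i.1 i.2⟩ : Z.affineOpens))
  · rw [eq_top_iff]
    intro x _
    obtain ⟨W, hW, hx⟩ := h𝒰cov x
    exact Opens.mem_iSup.mpr ⟨⟨W, hW⟩, hx⟩
  · intro i
    change _ = (⊥ : Ideal Γ(Z, i.1))
    rw [eq_bot_iff]
    have hle' : mf i.1 ≤ h𝒰fin.toFinset.sup mf := Finset.le_sup (h𝒰fin.mem_toFinset.2 i.2)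
    calc ((Scheme.IdealSheafData.vanishingIdeal T₁ *
          Scheme.IdealSheafData.vanishingIdeal T₂) ^ h𝒰fin.toFinset.sup mf).ideal
            ⟨i.1, h𝒰aff i.1 i.2⟩
        ≤ (nilradical Γ(Z, i.1)) ^ h𝒰fin.toFinset.sup mf :=
          Ideal.pow_right_mono (hle ⟨i.1, h𝒰aff i.1 i.2⟩) _
      _ ≤ (nilradical Γ(Z, i.1)) ^ mf i.1 := Ideal.pow_le_pow_right hle'
      _ = ⊥ := hmf i.1 (h𝒰aff i.1 i.2)

/-- if `(K₁ K₂)^m = 0`, the kernel of `N ⟶ N / K₁^m N` is killed by `K₂^m`. -/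
theorem killedByIdeal_kernel_πK (K₁ K₂ : Z.IdealSheafData) (m : ℕ) (hm : (K₁ * K₂) ^ m = ⊥)
    (N : Z.Modules) [N.IsQuasicoherent] :
    ClSub.KilledByIdeal (K₂ ^ m) (kernel (πK (K₁ ^ m) N)) := by
  intro U a ha s
  apply mono_app (kernel.ι (πK (K₁ ^ m) N)) U.1
  refine Eq.trans ?_ (map_zero _).symm
  have h1 : (πK (K₁ ^ m) N).app U.1 ((kernel.ι (πK (K₁ ^ m) N)).app U.1 s) = 0 :=
    congrArg (fun χ => (Scheme.Modules.Hom.app χ U.1) s) (kernel.condition (πK (K₁ ^ m) N))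
  rw [πK_app_eq_zero_iff (K₁ ^ m) N U.2] at h1
  have h2 : (kernel.ι (πK (K₁ ^ m) N)).app U.1 (a • s) =
      a • (kernel.ι (πK (K₁ ^ m) N)).app U.1 s := Scheme.Modules.Hom.app_smul _ a s
  rw [h2]
  refine Submodule.smul_induction_on h1 (fun b hb n _ => ?_) (fun x y hx hy => ?_)
  · have hab : a * b ∈ ((K₁ * K₂) ^ m).ideal U := by
      have : a * b ∈ (K₂.ideal U) ^ m * (K₁.ideal U) ^ m := Ideal.mul_mem_mul ha hb
      rw [← mul_pow, mul_comm] at this
      exact this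
    rw [hm] at hab
    have hab' : a * b = 0 := hab
    rw [← mul_smul, hab', zero_smul]
  · rw [smul_add, hx, hy, add_zero]

end Groth.Agent.H2.GX
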