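import Groth.Agent.Lib.Helper2.GXQuotA
import Groth.Agent.Lib.Helper2.AlgzExt1
import Groth.Agent.Lib.Lead.HF.Ker
import Groth.Agent.Lib.Lead.FK.Basic

/-!
# Sections toolkit for quotients by an ideal of the base ring (helper2)

On a Noetherian scheme over `Spec A`: the kernel of a quotient `p : M ⟶ Q` of a coherent module by
`I^n` on sections over an affine open is `(I Γ(U))^n M(U)`; a criterion for a morphism to be such a
quotient; `M ↦ M / K M` preserves quotients by `I^n`, hence coherent formal modules.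
-/

set_option autoImplicit false
set_option linter.style.haveILetI false
universe u
open CategoryTheory Limits Opposite TopologicalSpace AlgebraicGeometry

namespace Groth.Agent.H2.GX

open Groth.Agent.LD Groth.Agent.LD.QC Groth.Agent.H2.FormalQ Groth.Agent.H2.FormalEq
  Groth.Agent.LD.HF Groth.Agent.H2.AlgzExt Groth.Agent.LD.FF

variable {A : Type u} [CommRing A] {X : Scheme.{u}} [X.Over (Spec (CommRingCat.of A))]

/-- sections of a fibre product are determined by their two projections. -/
lemma pullback_sec_ext {M N Z : X.Modules} (f : M ⟶ Z) (g : N ⟶ Z) (U : X.Opens)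
    (t₁ t₂ : Γ(pullback f g, U))
    (h1 : (pullback.fst f g).app U t₁ = (pullback.fst f g).app U t₂)
    (h2 : (pullback.snd f g).app U t₁ = (pullback.snd f g).app U t₂) : t₁ = t₂ := by
  haveI : Mono (biprod.lift (pullback.fst f g) (pullback.snd f g)) := ⟨fun x y h => by
    apply pullback.hom_ext
    · simpa using congrArg (fun z => z ≫ biprod.fst) h
    · simpa using congrArg (fun z => z ≫ biprod.snd) h⟩
  apply mono_app (biprod.lift (pullback.fst f g) (pullback.snd f g)) U
  have e : biprod.lift (pullback.fst f g) (pullback.snd f g) =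
      pullback.fst f g ≫ biprod.inl + pullback.snd f g ≫ biprod.inr := by
    apply biprod.hom_ext <;> simp
  have key : ∀ t : Γ(pullback f g, U),
      (biprod.lift (pullback.fst f g) (pullback.snd f g)).app U t =
      (biprod.inl : M ⟶ M ⊞ N).app U ((pullback.fst f g).app U t) +
      (biprod.inr : N ⟶ M ⊞ N).app U ((pullback.snd f g).app U t) := by
    intro t
    rw [e]
    rfl
  rw [key, key, h1, h2]

/-- a module of the form `M / K M` is killed by whatever kills `M`. -/
lemma killedBy_qK (K : X.IdealSheafData) {J : Ideal A} {M : X.Modules} [M.IsQuasicoherent]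
    (h : Formal.KilledBy J M) : Formal.KilledBy J (qK K M) := by
  intro b hb
  rw [← cancel_epi (πK K M), comp_zero, comp_smulMod, h b hb, zero_comp]

section Noeth

variable [IsNoetherian X] (I : Ideal A) (n : ℕ)

/-- the kernel of a quotient by `I^n` on sections over an affine open. -/
lemma isQ_app_eq_zero_iff {M Q : X.Modules} (hM : Coh.IsCoh M) {p : M ⟶ Q}
    (hp : IsQ (I ^ n) p) {U : X.Opens} (hU : IsAffineOpen U) (x : Γ(M, U)) :
    p.app U x = 0 ↔ x ∈ ((Ideal.map (φU U) I) ^ n • ⊤ : Submodule Γ(X, U) Γ(M, U)) := by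
  have hp' : Formal.modPowπ I n M ≫ (isoOfIsQ I n p hp).hom = p := modPowπ_isoOfIsQ_hom I n p hp
  have h0 : ∀ y : Γ(M, U), (isoOfIsQ I n p hp).hom.app U ((Formal.modPowπ I n M).app U y) =
      p.app U y := fun y => congrArg (fun φ => (Scheme.Modules.Hom.app φ U) y) hp'
  constructor
  · intro h
    apply mem_of_modPowπ_eq_zero' I M hM hU n x
    apply mono_app (isoOfIsQ I n p hp).hom U
    rw [h0, h, map_zero]
  · intro h
    have hk : Formal.KilledBy (I ^ n) Q :=
      Groth.Agent.LD.FK.killedBy_of_iso (isoOfIsQ I n p hp) (killedBy_modPow I n M)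
    refine Submodule.smul_induction_on h (fun r hr m _ => ?_) (fun a b ha hb => ?_)
    · have h1 : p.app U (r • m) = r • p.app U m := Scheme.Modules.Hom.app_smul p r m
      exact h1.trans (smul_eq_zero_of_mem_map_pow I n hk U r hr _)
    · rw [map_add, ha, hb, add_zero]

/-- a criterion, on sections, for being a quotient by `I^n`. -/
theorem isQ_of_sections {M Q : X.Modules} (hM : Coh.IsCoh M) (hQ : Q.IsQuasicoherent)
    (p : M ⟶ Q) [Epi p] (hk : Formal.KilledBy (I ^ n) Q)
    (hker : ∀ (U : X.Opens), IsAffineOpen U → ∀ x : Γ(M, U), p.app U x = 0 →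
      x ∈ ((Ideal.map (φU U) I) ^ n • ⊤ : Submodule Γ(X, U) Γ(M, U))) : IsQ (I ^ n) p := by
  obtain ⟨φ, hφ⟩ := (isQ_modPowπ I n M).exists_desc hk p
  have hMn := isCoh_modPow I n hM
  haveI : Epi (Formal.modPowπ I n M) := (isQ_modPowπ I n M).epi
  haveI : Epi φ := by
    have : Epi (Formal.modPowπ I n M ≫ φ) := by rw [hφ]; infer_instance
    exact epi_of_epi (Formal.modPowπ I n M) φ
  have hz : kernel.ι φ = 0 := by
    apply Groth.Agent.LD.FK.hom_eq_zero_of_affine_cover (QC.qc_kernel φ hMn.1 hQ) hMn.1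
    intro x
    obtain ⟨U, hU, hxU, -⟩ := exists_isAffineOpen_mem_and_subset (x := x) (U := ⊤) trivial
    refine ⟨U, hU, hxU, fun s => ?_⟩
    obtain ⟨y, hy⟩ := QC.epi_app_affine hM.1 hMn.1 (Formal.modPowπ I n M) hU
      ((kernel.ι φ).app U s)
    have h2 : φ.app U ((Formal.modPowπ I n M).app U y) = p.app U y :=
      congrArg (fun ψ => (Scheme.Modules.Hom.app ψ U) y) hφ
    have h1 : p.app U y = 0 := by
      rw [← h2, hy]
      exact congrArg (fun ψ => (Scheme.Modules.Hom.app ψ U) s) (kernel.condition φ)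
    have h3 := hker U hU y h1
    rw [← hy]
    exact (isQ_app_eq_zero_iff I n hM (isQ_modPowπ I n M) hU y).2 h3
  haveI : Mono φ := Preadditive.mono_of_kernel_zero hz
  haveI : IsIso φ := isIso_of_mono_of_epi φ
  rw [← hφ]
  exact isQ_comp_iso (isQ_modPowπ I n M) φ

/-- `M ↦ M / K M` preserves quotients by `I^n` of coherent modules. -/
theorem isQ_qKmap (K : X.IdealSheafData) {M Q : X.Modules} (hM : Coh.IsCoh M) {p : M ⟶ Q}
    (hp : IsQ (I ^ n) p) : IsQ (I ^ n) (qKmap K p) := by
  have hQq : Q.IsQuasicoherent := QC.qc_of_iso (isoOfIsQ I n p hp) (isCoh_modPow I n hM).1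
  haveI := hp.epi
  haveI := hM.1
  haveI := hQq
  haveI : (qK K M).IsQuasicoherent := qc_qK K M
  haveI : (qK K Q).IsQuasicoherent := qc_qK K Q
  have hkQ : Formal.KilledBy (I ^ n) Q :=
    Groth.Agent.LD.FK.killedBy_of_iso (isoOfIsQ I n p hp) (killedBy_modPow I n M)
  refine isQ_of_sections I n (isCoh_qK K hM) (qc_qK K Q) (qKmap K p) (killedBy_qK K hkQ)
    (fun U hU y hy => ?_)
  obtain ⟨x, rfl⟩ := πK_app_surjective K M hU y
  have h1 : (πK K Q).app U (p.app U x) = 0 :=
    (congrArg (fun ψ => (Scheme.Modules.Hom.app ψ U) x) (πK_nat K p)).trans hy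
  have h1' := (πK_app_eq_zero_iff K Q hU (p.app U x)).1 h1
  have hsurj : Function.Surjective (appLinear p U) := QC.epi_app_affine hM.1 hQq p hU
  have hmap : (K.ideal ⟨U, hU⟩ • ⊤ : Submodule Γ(X, U) Γ(Q, U)) =
      Submodule.map (appLinear p U) (K.ideal ⟨U, hU⟩ • ⊤) := by
    rw [Submodule.map_smul'', Submodule.map_top, LinearMap.range_eq_top.2 hsurj]
  rw [hmap] at h1'
  obtain ⟨x', hx', hx'p⟩ := h1'
  have hx'p' : p.app U x' = p.app U x := hx'p
  have h2 : p.app U (x - x') = 0 := by
    rw [map_sub, hx'p', sub_self]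
  have h3 := (isQ_app_eq_zero_iff I n hM hp hU (x - x')).1 h2
  have h4 : (πK K M).app U x = (πK K M).app U (x - x') := by
    rw [map_sub, (πK_app_eq_zero_iff K M hU x').2 hx', sub_zero]
  rw [h4]
  have h5 : appLinear (πK K M) U (x - x') ∈ Submodule.map (appLinear (πK K M) U)
      ((Ideal.map (φU U) I) ^ n • ⊤) := Submodule.mem_map_of_mem h3
  rw [Submodule.map_smul''] at h5
  exact Submodule.smul_mono le_rfl le_top h5

end Noeth

/-- the functor `M ↦ M / K M`. -/
noncomputable def qKF (K : X.IdealSheafData) : X.Modules ⥤ X.Modules :=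
  Scheme.Modules.pullback K.subschemeι ⋙ Scheme.Modules.pushforward K.subschemeι

/-- `(F_n / K F_n)` is a coherent formal module when `(F_n)` is. -/
theorem isCohFormal_qK [IsNoetherian X] (K : X.IdealSheafData) {I : Ideal A}
    {F : ℕᵒᵖ ⥤ X.Modules} (hF : Formal.IsCohFormal I F) :
    Formal.IsCohFormal I (F ⋙ qKF K) := by
  refine ⟨fun n => isCoh_qK K (hF.1 n), fun n => ?_, fun n => ?_⟩
  · haveI := (hF.1 n).1
    exact killedBy_qK K (hF.2.1 n)
  · exact isQ_qKmap I (n + 1) K (hF.1 (n + 1)) (hF.2.2 n)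

end Groth.Agent.H2.GX
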