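import Groth.Agent.Lib.Helper2.GXFibA

/-!
# The tricky lemma of Grothendieck's existence theorem, part 5 (helper2)

The main construction: for a termwise epimorphism `α : F ⟶ H^` with kernels killed by `K^c`, the
coherent module `M = P ×_{H / K^e H} H`, where `P` algebraizes `(F_n / K^e F_n)`, has completion
isomorphic to `F`.
-/

set_option autoImplicit false
set_option linter.style.haveILetI false
set_option linter.unusedSectionVars false
universe u
open CategoryTheory Limits Opposite TopologicalSpace AlgebraicGeometry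

namespace Groth.Agent.H2.GX

open Groth.Agent.LD Groth.Agent.LD.QC Groth.Agent.H2.FormalQ Groth.Agent.H2.FormalEq
  Groth.Agent.LD.HF Groth.Agent.H2.AlgzExt Groth.Agent.LD.FF Groth.Agent.LD.GX Groth.Agent.LD.FK

/-- the conclusion of `Alg.a5`. -/
def A5Prop {R : Type u} [CommRing R] (I K : Ideal R) (c : ℕ) (L : Type u) [AddCommGroup L]
    [Module R L] (e' s' : ℕ) : Prop :=
  ∀ (n : ℕ) (Φ' Φ L' L₀ : Type u)
    [AddCommGroup Φ'] [Module R Φ'] [AddCommGroup Φ] [Module R Φ] [AddCommGroup L']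
    [Module R L'] [AddCommGroup L₀] [Module R L₀]
    (τ : Φ' →ₗ[R] Φ) (a' : Φ' →ₗ[R] L') (a : Φ →ₗ[R] L₀) (p' : L →ₗ[R] L') (p : L →ₗ[R] L₀)
    (t : L' →ₗ[R] L₀),
    (∀ l, t (p' l) = p l) → (∀ x, a (τ x) = t (a' x)) →
    Function.Surjective a → Function.Surjective p' →
    (∀ l, p' l = 0 → l ∈ (I ^ (n + s' + 1) • ⊤ : Submodule R L)) →
    (∀ l ∈ (I ^ (n + 1) • ⊤ : Submodule R L), p l = 0) →
    (∀ z, a z = 0 → ∀ κ ∈ K ^ c, κ • z = 0) →
    ∀ x ∈ (K ^ e' • ⊤ : Submodule R Φ'), a' x = 0 → τ x = 0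

variable {A : Type u} [CommRing A] {X : Scheme.{u}} [X.Over (Spec (CommRingCat.of A))]

lemma Esys_sec_ext (K : X.IdealSheafData) {F G : ℕᵒᵖ ⥤ X.Modules} (α : F ⟶ G) (n : ℕᵒᵖ)
    (U : X.Opens) (t₁ t₂ : Γ((Esys K α).obj n, U))
    (h1 : (Efst K α n).app U t₁ = (Efst K α n).app U t₂)
    (h2 : (Esnd K α n).app U t₁ = (Esnd K α n).app U t₂) : t₁ = t₂ :=
  pullback_sec_ext _ _ U t₁ t₂ h1 h2

variable [IsNoetherian X]

theorem exists_es (I : Ideal A) (K : X.IdealSheafData) (c : ℕ) {H : X.Modules} (hH : Coh.IsCoh H)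
    (t : Finset X.affineOpens) :
    ∃ e s : ℕ, ∀ V ∈ t, ∀ e', e ≤ e' → ∀ s', s ≤ s' →
      A5Prop (Ideal.map (φU V.1) I) (K.ideal V) c Γ(H, V.1) e' s' := by
  haveI := hH.1
  obtain ⟨e, s, h⟩ := Alg.exists_uniform t.finite_toSet
    (fun (V : X.affineOpens) e' s' => A5Prop (Ideal.map (φU V.1) I) (K.ideal V) c Γ(H, V.1) e' s')
    (fun V _ => by
      haveI : IsNoetherianRing Γ(X, V.1) := IsLocallyNoetherian.component_noetherian V
      haveI : Module.Finite Γ(X, V.1) Γ(H, V.1) := QC.finite_sections_of_isFiniteType H hH.2 V.2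
      exact Alg.a5 (Ideal.map (φU V.1) I) (K.ideal V) c Γ(H, V.1))
  exact ⟨e, s, fun V hV => h V (Finset.mem_coe.2 hV)⟩

variable {I : Ideal A} {K : X.IdealSheafData}

/-- the main construction. -/
theorem tricky_epi (h1 : ∀ e : ℕ, Hyp1 I K e) {F : ℕᵒᵖ ⥤ X.Modules}
    (hF : Formal.IsCohFormal I F) {H : X.Modules} (hH : Coh.IsCoh H)
    (α : F ⟶ Formal.completion I H) (hepi : ∀ n : ℕ, Epi (α.app (op n))) {c : ℕ}
    (hker : ∀ n : ℕ, ClSub.KilledByIdeal (K ^ c) (kernel (α.app (op n)))) :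
    ∃ M : X.Modules, Coh.IsCoh M ∧ Nonempty (Formal.completion I M ≅ F) := by
  obtain ⟨t, ht⟩ := exists_finset_affineOpens_cover' X
  obtain ⟨e, s₅, hes⟩ := exists_es I K c hH t
  have hHc := isCohFormal_completion I hH
  haveI := hH.1
  have hFq : ∀ m : ℕ, (F.obj (op m)).IsQuasicoherent := fun m => (hF.1 m).1
  have hHq : ∀ m : ℕ, ((Formal.completion I H).obj (op m)).IsQuasicoherent := fun m => (hHc.1 m).1
  -- (1) the algebraization `P` of `(F_n / K^e F_n)`
  have hFb : Formal.IsCohFormal I (F ⋙ qKF (K ^ e)) := isCohFormal_qK (K ^ e) hF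
  have hFbK : ∀ n : ℕ, ClSub.KilledByIdeal (K ^ e) ((F ⋙ qKF (K ^ e)).obj (op n)) := fun n => by
    haveI := hFq n
    exact killedByIdeal_qK (K ^ e) (F.obj (op n))
  obtain ⟨P, hP, hPK, ⟨bP⟩⟩ := (h1 e).2 _ hFb hFbK
  have hPc := isCohFormal_completion I hP
  haveI := hP.1
  -- (2) `H / K^e H` and its completion
  have hHb : Coh.IsCoh (qK (K ^ e) H) := isCoh_qK (K ^ e) hH
  haveI := hHb.1
  have hHbK : ClSub.KilledByIdeal (K ^ e) (qK (K ^ e) H) := killedByIdeal_qK (K ^ e) H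
  have hHbs : Formal.IsCohFormal I (Formal.completion I H ⋙ qKF (K ^ e)) :=
    isCohFormal_qK (K ^ e) hHc
  have hjq : ∀ n : ℕ, IsQ (I ^ (n + 1)) (qKmap (K ^ e) (cπ I H n)) :=
    fun n => isQ_qKmap I (n + 1) (K ^ e) hH (isQ_cπ H n)
  have hfam : ∀ n : ℕ, qKmap (K ^ e) (cπ I H (n + 1)) ≫
      Groth.Agent.LD.GE.tr (Formal.completion I H ⋙ qKF (K ^ e)) n =
      qKmap (K ^ e) (cπ I H n) := fun n =>
    (qKmap_comp (K ^ e) (cπ I H (n + 1))
      ((Formal.completion I H).map (homOfLE (Nat.le_succ n)).op)).symm.trans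
      (congrArg (qKmap (K ^ e)) (cπ_map H (Nat.le_succ n)))
  obtain ⟨jh, hjh⟩ : ∃ jh : Formal.completion I (qK (K ^ e) H) ⟶
      Formal.completion I H ⋙ qKF (K ^ e),
      ∀ n : ℕ, cπ I (qK (K ^ e) H) n ≫ jh.app (op n) = qKmap (K ^ e) (cπ I H n) :=
    ⟨sysOfFamily (G := Formal.completion I H ⋙ qKF (K ^ e)) hHbs.2.1
      (fun n => qKmap (K ^ e) (cπ I H n)) hfam, fun n => cπ_sysOfFamily _ _ _ n⟩
  haveI hjiso : ∀ n : ℕᵒᵖ, IsIso (jh.app n) := by
    intro n
    obtain ⟨n⟩ := n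
    obtain ⟨ε, hε⟩ := IsQ.exists_iso (isQ_cπ (I := I) (qK (K ^ e) H) n) (hjq n)
    have e1 : jh.app (op n) = ε.hom :=
      (cancel_epi (cπ I (qK (K ^ e) H) n)).1 ((hjh n).trans hε.symm)
    exact ⟨⟨ε.inv, (congrArg (· ≫ ε.inv) e1).trans ε.hom_inv_id,
      (congrArg (ε.inv ≫ ·) e1).trans ε.inv_hom_id⟩⟩
  haveI : IsIso jh := NatIso.isIso_of_isIso_app jh
  obtain ⟨βP, jhc, ψ, hβnat, hβiso, hjhc, hψ⟩ : ∃ (βP : ∀ n : ℕ,
      (Formal.completion I P).obj (op n) ⟶ qK (K ^ e) (F.obj (op n)))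
      (jhc : ∀ n : ℕ, (Formal.completion I (qK (K ^ e) H)).obj (op n) ⟶
        qK (K ^ e) ((Formal.completion I H).obj (op n)))
      (ψ : Formal.completion I P ⟶ Formal.completion I (qK (K ^ e) H)),
      (∀ n : ℕ, βP (n + 1) ≫ qKmap (K ^ e) (F.map (homOfLE (Nat.le_succ n)).op) =
        (Formal.completion I P).map (homOfLE (Nat.le_succ n)).op ≫ βP n) ∧
      (∀ n : ℕ, IsIso (βP n)) ∧
      (∀ n : ℕ, cπ I (qK (K ^ e) H) n ≫ jhc n = qKmap (K ^ e) (cπ I H n)) ∧
      (∀ n : ℕ, ψ.app (op n) ≫ jhc n = βP n ≫ qKmap (K ^ e) (α.app (op n))) :=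
    ⟨fun n => bP.hom.app (op n), fun n => jh.app (op n),
      bP.hom ≫ Functor.whiskerRight α (qKF (K ^ e)) ≫ inv jh,
      fun n => (bP.hom.naturality (homOfLE (Nat.le_succ n)).op).symm,
      fun n => (inferInstance : IsIso (bP.hom.app (op n))), hjh, fun n => by
        show (bP.hom ≫ Functor.whiskerRight α (qKF (K ^ e)) ≫ inv jh).app (op n) ≫
          jh.app (op n) =
          bP.hom.app (op n) ≫ (Functor.whiskerRight α (qKF (K ^ e))).app (op n)
        rw [← NatTrans.comp_app, Category.assoc, Category.assoc, IsIso.inv_hom_id,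
          Category.comp_id]
        rfl⟩
  -- (3) the morphism `u : P ⟶ H / K^e H`
  obtain ⟨u, hu0, -⟩ := (h1 e).1 P (qK (K ^ e) H) hP hHb hPK hHbK ψ
  have hu : ∀ n : ℕ, cπ I P n ≫ ψ.app (op n) = u ≫ cπ I (qK (K ^ e) H) n := hu0
  have hstar : ∀ n : ℕ, cπ I P n ≫ βP n ≫ qKmap (K ^ e) (α.app (op n)) =
      u ≫ qKmap (K ^ e) (cπ I H n) := by
    intro n
    rw [← hψ n, ← Category.assoc, hu n, Category.assoc, hjhc n]
  -- (4) the module `M`
  have hM : Coh.IsCoh (pullback u (πK (K ^ e) H)) :=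
    isCoh_pullback u (πK (K ^ e) H) hP hH hHb.1
  haveI hMmono : Mono (biprod.lift (pullback.fst u (πK (K ^ e) H))
      (pullback.snd u (πK (K ^ e) H))) := ⟨fun x y h => by
    apply pullback.hom_ext
    · simpa using congrArg (fun z => z ≫ biprod.fst) h
    · simpa using congrArg (fun z => z ≫ biprod.snd) h⟩
  have hm : pullback.fst u (πK (K ^ e) H) ≫ u = pullback.snd u (πK (K ^ e) H) ≫ πK (K ^ e) H :=
    pullback.condition
  have hMc := isCohFormal_completion I hM
  -- (5) the family `ν_n : M ⟶ E'_n`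
  have hνc : ∀ n : ℕ, (pullback.fst u (πK (K ^ e) H) ≫ cπ I P n ≫ βP n) ≫
      qKmap (K ^ e) (α.app (op n)) =
      (pullback.snd u (πK (K ^ e) H) ≫ cπ I H n) ≫
        πK (K ^ e) ((Formal.completion I H).obj (op n)) := by
    intro n
    rw [Category.assoc, Category.assoc, hstar n, ← Category.assoc, hm, Category.assoc,
      Category.assoc, ← πK_nat]
  obtain ⟨ν, hν1, hν2⟩ : ∃ ν : ∀ n : ℕ, pullback u (πK (K ^ e) H) ⟶ (Esys (K ^ e) α).obj (op n),
      (∀ n, ν n ≫ Efst (K ^ e) α (op n) =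
        pullback.fst u (πK (K ^ e) H) ≫ cπ I P n ≫ βP n) ∧
      (∀ n, ν n ≫ Esnd (K ^ e) α (op n) = pullback.snd u (πK (K ^ e) H) ≫ cπ I H n) :=
    ⟨fun n => Elift (K ^ e) α (op n) _ _ (hνc n), fun n => Elift_fst _ _ _ _ _ _,
      fun n => Elift_snd _ _ _ _ _ _⟩
  have hνs : ∀ n : ℕ, ν (n + 1) ≫ Groth.Agent.LD.GE.tr (Esys (K ^ e) α) n = ν n := by
    intro n
    apply Esys_hom_ext
    · rw [Category.assoc, Esys_map_fst, ← Category.assoc, hν1, hν1, Category.assoc, Category.assoc,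
        hβnat, cπ_map_assoc]
    · rw [Category.assoc, Esys_map_snd, ← Category.assoc, hν2, hν2, Category.assoc, cπ_map]
  have hEq : ∀ m : ℕ, ((Esys (K ^ e) α).obj (op m)).IsQuasicoherent :=
    fun m => qc_Esys (K ^ e) α (op m) (hFq m) (hHq m)
  have hEk : ∀ m : ℕ, Formal.KilledBy (I ^ (m + 1)) ((Esys (K ^ e) α).obj (op m)) :=
    fun m => killedBy_Esys (K ^ e) α (op m) (hFq m) (hF.2.1 m) (hHc.2.1 m)
  obtain ⟨μ, hμν⟩ : ∃ μ : Formal.completion I (pullback u (πK (K ^ e) H)) ⟶ Esys (K ^ e) α,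
      ∀ n : ℕ, cπ I (pullback u (πK (K ^ e) H)) n ≫ μ.app (op n) = ν n :=
    ⟨sysOfFamily (G := Esys (K ^ e) α) hEk ν hνs, fun n => cπ_sysOfFamily _ _ _ n⟩
  -- (6) `ν_n` is an epimorphism
  have hνepi : ∀ n : ℕ, Epi (ν n) := by
    intro n
    apply epi_of_local_lift
    intro W tt x hx
    obtain ⟨V, hV, hxV, hVW⟩ := exists_isAffineOpen_mem_and_subset (x := x) (U := W) hx
    refine ⟨V, hVW, hxV, ?_⟩
    suffices key : ∀ t' : Γ((Esys (K ^ e) α).obj (op n), V),
        ∃ g : Γ(pullback u (πK (K ^ e) H), V), (ν n).app V g = t' from key _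
    intro t'
    have hcond : (qKmap (K ^ e) (α.app (op n))).app V ((Efst (K ^ e) α (op n)).app V t') =
        (πK (K ^ e) ((Formal.completion I H).obj (op n))).app V
          ((Esnd (K ^ e) α (op n)).app V t') :=
      congrArg (fun ψ => (Scheme.Modules.Hom.app ψ V) t') (Econd (K ^ e) α (op n))
    haveI := hβiso n
    have hpb : (βP n).app V
        ((inv (βP n)).app V ((Efst (K ^ e) α (op n)).app V t')) =
        (Efst (K ^ e) α (op n)).app V t' :=
      congrArg (fun ψ => (Scheme.Modules.Hom.app ψ V) ((Efst (K ^ e) α (op n)).app V t'))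
        (IsIso.inv_hom_id (βP n))
    obtain ⟨p, hp⟩ := QC.epi_app_affine hP.1 (hPc.1 n).1 (cπ I P n) hV
      ((inv (βP n)).app V ((Efst (K ^ e) α (op n)).app V t'))
    obtain ⟨h, hh⟩ := QC.epi_app_affine hH.1 (hHq n) (cπ I H n) hV
      ((Esnd (K ^ e) α (op n)).app V t')
    have e1 : (qKmap (K ^ e) (cπ I H n)).app V (u.app V p) =
        (qKmap (K ^ e) (α.app (op n))).app V ((Efst (K ^ e) α (op n)).app V t') := by
      have e0 : (qKmap (K ^ e) (α.app (op n))).app V
          ((βP n).app V ((cπ I P n).app V p)) =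
          (qKmap (K ^ e) (cπ I H n)).app V (u.app V p) :=
        congrArg (fun ψ => (Scheme.Modules.Hom.app ψ V) p) (hstar n)
      rw [← e0, hp, hpb]
    have e2 : (qKmap (K ^ e) (cπ I H n)).app V ((πK (K ^ e) H).app V h) =
        (πK (K ^ e) ((Formal.completion I H).obj (op n))).app V
          ((Esnd (K ^ e) α (op n)).app V t') := by
      have e0 : (πK (K ^ e) ((Formal.completion I H).obj (op n))).app V ((cπ I H n).app V h) =
          (qKmap (K ^ e) (cπ I H n)).app V ((πK (K ^ e) H).app V h) :=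
        congrArg (fun ψ => (Scheme.Modules.Hom.app ψ V) h) (πK_nat (K ^ e) (cπ I H n))
      rw [← e0, hh]
    have e3 : (qKmap (K ^ e) (cπ I H n)).app V (u.app V p - (πK (K ^ e) H).app V h) = 0 := by
      rw [map_sub, e1, e2, hcond, sub_self]
    have e4 := (isQ_app_eq_zero_iff I (n + 1) hHb (hjq n) hV _).1 e3
    have hsurj : Function.Surjective (appLinear (πK (K ^ e) H) V) :=
      πK_app_surjective (K ^ e) H hV
    have hmap : ((Ideal.map (φU V) I) ^ (n + 1) • ⊤ :
        Submodule Γ(X, V) Γ(qK (K ^ e) H, V)) =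
        Submodule.map (appLinear (πK (K ^ e) H) V) ((Ideal.map (φU V) I) ^ (n + 1) • ⊤) := by
      rw [Submodule.map_smul'', Submodule.map_top, LinearMap.range_eq_top.2 hsurj]
    rw [hmap] at e4
    obtain ⟨h', hh', hh'π⟩ := e4
    have hh'π' : (πK (K ^ e) H).app V h' = u.app V p - (πK (K ^ e) H).app V h := hh'π
    have e5 : u.app V p = (πK (K ^ e) H).app V (h + h') := by
      rw [map_add, hh'π']
      abel
    obtain ⟨g, hg1, hg2⟩ := exists_pullback_section u (πK (K ^ e) H) V p (h + h') e5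
    refine ⟨g, ?_⟩
    apply Esys_sec_ext
    · have e6 : (Efst (K ^ e) α (op n)).app V ((ν n).app V g) =
          (βP n).app V ((cπ I P n).app V
            ((pullback.fst u (πK (K ^ e) H)).app V g)) :=
        congrArg (fun ψ => (Scheme.Modules.Hom.app ψ V) g) (hν1 n)
      rw [e6, hg1, hp, hpb]
    · have e6 : (Esnd (K ^ e) α (op n)).app V ((ν n).app V g) =
          (cπ I H n).app V ((pullback.snd u (πK (K ^ e) H)).app V g) :=
        congrArg (fun ψ => (Scheme.Modules.Hom.app ψ V) g) (hν2 n)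
      have e7 : (cπ I H n).app V h' = 0 :=
        (isQ_app_eq_zero_iff I (n + 1) hH (isQ_cπ H n) hV h').2 hh'
      rw [e6, hg2, map_add, e7, add_zero, hh]
  -- (7) `θ` is a strict pro-isomorphism
  have hθ : StrictProIso (θsys (K ^ e) α) s₅ := by
    refine ⟨fun n => ?_, fun n => ?_⟩
    · haveI := hFq n
      haveI := hHq n
      haveI := hepi n
      exact epi_lift_πK (K ^ e) (α.app (op n))
    · apply Groth.Agent.LD.FK.hom_eq_zero_of_affine_cover
        (QC.qc_kernel _ (hFq (n + s₅)) (hEq (n + s₅))) (hFq n)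
      intro x
      obtain ⟨V, hVt, hxV⟩ := ht x
      refine ⟨V.1, V.2, hxV, fun z => ?_⟩
      have hθy : ((θsys (K ^ e) α).app (op (n + s₅))).app V.1
          ((kernel.ι ((θsys (K ^ e) α).app (op (n + s₅)))).app V.1 z) = 0 :=
        congrArg (fun ψ => (Scheme.Modules.Hom.app ψ V.1) z) (kernel.condition _)
      have hy1 : (πK (K ^ e) (F.obj (op (n + s₅)))).app V.1
          ((kernel.ι ((θsys (K ^ e) α).app (op (n + s₅)))).app V.1 z) = 0 := by
        have e0 : (Efst (K ^ e) α (op (n + s₅))).app V.1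
            (((θsys (K ^ e) α).app (op (n + s₅))).app V.1
              ((kernel.ι ((θsys (K ^ e) α).app (op (n + s₅)))).app V.1 z)) =
            (πK (K ^ e) (F.obj (op (n + s₅)))).app V.1
              ((kernel.ι ((θsys (K ^ e) α).app (op (n + s₅)))).app V.1 z) :=
          congrArg (fun ψ => (Scheme.Modules.Hom.app ψ V.1)
            ((kernel.ι ((θsys (K ^ e) α).app (op (n + s₅)))).app V.1 z))
            (θsys_fst (K ^ e) α (op (n + s₅)))
        rw [← e0, hθy, map_zero]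
      have hy2 : (α.app (op (n + s₅))).app V.1
          ((kernel.ι ((θsys (K ^ e) α).app (op (n + s₅)))).app V.1 z) = 0 := by
        have e0 : (Esnd (K ^ e) α (op (n + s₅))).app V.1
            (((θsys (K ^ e) α).app (op (n + s₅))).app V.1
              ((kernel.ι ((θsys (K ^ e) α).app (op (n + s₅)))).app V.1 z)) =
            (α.app (op (n + s₅))).app V.1
              ((kernel.ι ((θsys (K ^ e) α).app (op (n + s₅)))).app V.1 z) :=
          congrArg (fun ψ => (Scheme.Modules.Hom.app ψ V.1)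
            ((kernel.ι ((θsys (K ^ e) α).app (op (n + s₅)))).app V.1 z))
            (θsys_snd (K ^ e) α (op (n + s₅)))
        rw [← e0, hθy, map_zero]
      haveI := hFq (n + s₅)
      have hyK := (πK_app_eq_zero_iff (K ^ e) (F.obj (op (n + s₅))) V.2 _).1 hy1
      haveI := hepi n
      exact hes V hVt e le_rfl s₅ le_rfl n Γ(F.obj (op (n + s₅)), V.1) Γ(F.obj (op n), V.1)
        Γ((Formal.completion I H).obj (op (n + s₅)), V.1)
        Γ((Formal.completion I H).obj (op n), V.1)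
        (appLinear (ARSys.tr F (Nat.le_add_right n s₅)) V.1)
        (appLinear (α.app (op (n + s₅))) V.1) (appLinear (α.app (op n)) V.1)
        (appLinear (cπ I H (n + s₅)) V.1) (appLinear (cπ I H n) V.1)
        (appLinear (ARSys.tr (Formal.completion I H) (Nat.le_add_right n s₅)) V.1)
        (fun l => congrArg (fun ψ => (Scheme.Modules.Hom.app ψ V.1) l)
          (cπ_map (I := I) H (Nat.le_add_right n s₅)))
        (fun y => congrArg (fun ψ => (Scheme.Modules.Hom.app ψ V.1) y)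
          (tr_nat α (Nat.le_add_right n s₅)))
        (QC.epi_app_affine (hFq n) (hHq n) (α.app (op n)) V.2)
        (QC.epi_app_affine hH.1 (hHq (n + s₅)) (cπ I H (n + s₅)) V.2)
        (fun l hl => mem_of_modPowπ_eq_zero' I H hH V.2 (n + s₅ + 1) l hl)
        (fun l hl => (isQ_app_eq_zero_iff I (n + 1) hH (isQ_cπ H n) V.2 l).2 hl)
        (fun z₀ hz₀ κ hκ => by
          obtain ⟨z', hz'⟩ := exists_kernel_section (α.app (op n)) V.1 z₀ hz₀
          have h0 : κ • z' = 0 := hker n V κ hκ z'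
          have h1' : (kernel.ι (α.app (op n))).app V.1 (κ • z') =
              κ • (kernel.ι (α.app (op n))).app V.1 z' := Scheme.Modules.Hom.app_smul _ κ z'
          rw [← hz', ← h1', h0, map_zero])
        _ hyK hy2
  -- (8) `μ` is a strict pro-isomorphism
  obtain ⟨s₁, hs₁⟩ := exists_AR_pair I hM hP hH (pullback.fst u (πK (K ^ e) H))
    (pullback.snd u (πK (K ^ e) H))
  have hμ : StrictProIso μ s₁ := by
    refine ⟨fun n => ?_, fun n => ?_⟩
    · haveI := hνepi n
      have : Epi (cπ I (pullback u (πK (K ^ e) H)) n ≫ μ.app (op n)) := by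
        rw [hμν n]; infer_instance
      exact epi_of_epi (cπ I (pullback u (πK (K ^ e) H)) n) _
    · refine kernel_tr_eq_zero hM (Nat.le_add_right n s₁) (hEq (n + s₁)) (μ.app (op (n + s₁)))
        (fun {W} hW w hw => ?_)
      have hw' : w ≫ ν (n + s₁) = 0 := by rw [← hμν (n + s₁)]; exact hw
      have e1 : (w ≫ ν (n + s₁)) ≫ Efst (K ^ e) α (op (n + s₁)) =
          (w ≫ pullback.fst u (πK (K ^ e) H) ≫ cπ I P (n + s₁)) ≫ βP (n + s₁) := by
        rw [Category.assoc, hν1, Category.assoc, Category.assoc]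
      have e2 : (w ≫ ν (n + s₁)) ≫ Esnd (K ^ e) α (op (n + s₁)) =
          w ≫ pullback.snd u (πK (K ^ e) H) ≫ cπ I H (n + s₁) := by
        rw [Category.assoc, hν2]
      rw [hw', zero_comp] at e1 e2
      haveI := hβiso (n + s₁)
      have h1' : w ≫ pullback.fst u (πK (K ^ e) H) ≫ cπ I P (n + s₁) = 0 := by
        rw [← cancel_mono (βP (n + s₁)), zero_comp]
        exact e1.symm
      exact hs₁ (n + 1) (n + s₁ + 1) (by omega) hW w h1' e2.symm
  exact ⟨pullback u (πK (K ^ e) H), hM,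
    nonempty_iso_of_isProIsomorphic hMc hF (isProIsomorphic_of_strict hμ hθ)⟩

end Groth.Agent.H2.GX
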