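import Groth.Agent.Lib.Helper2.GXExB
import Groth.Agent.Lib.Helper2.GXSecA
import Groth.Agent.S0830

/-!
# Algebraizability on a scheme covered by two proper closed subsets (helper2)
-/

set_option autoImplicit false
set_option linter.style.haveILetI false
universe u
open CategoryTheory Limits Opposite TopologicalSpace AlgebraicGeometry

namespace Groth.Agent.H2.GX

open Groth.Agent.LD Groth.Agent.LD.QC

section Aux

variable {Z : Scheme.{u}}

lemma killedByIdeal_of_isZero (K : Z.IdealSheafData) {N : Z.Modules} (hN : IsZero N) :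
    ClSub.KilledByIdeal K N := by
  intro U a ha s
  have h1 : (𝟙 N : N ⟶ N) = 0 := hN.eq_of_src _ _
  have h2 : (𝟙 N : N ⟶ N).app U.1 (a • s) = (0 : N ⟶ N).app U.1 (a • s) := by rw [h1]
  exact h2

lemma pow_succ_le_pow (K : Z.IdealSheafData) (m : ℕ) : K ^ (m + 1) ≤ K ^ m := by
  intro U
  exact Ideal.pow_le_pow_right (Nat.le_succ m)

/-- the natural map `G ⟶ (G_n / K G_n)`. -/
noncomputable def toQK (K : Z.IdealSheafData) (G : ℕᵒᵖ ⥤ Z.Modules) : G ⟶ G ⋙ qKF K where
  app k := πK K (G.obj k)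
  naturality _ _ φ := πK_nat K (G.map φ)

end Aux

variable {A : Type u} [CommRing A] (I : Ideal A) {Z : Scheme.{u}}
  [Z.Over (Spec (CommRingCat.of A))] [IsNoetherian Z]

/-- **the reducible case**: if `Z` is covered by two closed subsets `T₁`, `T₂ ≠ Z` and coherent
formal modules killed by ideal sheaves with support `≠ Z` are algebraizable, then all coherent
formal modules on `Z` are algebraizable. -/
theorem algebraizable_of_cover (T₁ T₂ : Closeds Z) (h : T₁ ⊔ T₂ = ⊤) {x₁ x₂ : Z}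
    (hx₁ : x₁ ∉ T₁) (hx₂ : x₂ ∉ T₂)
    (hff : ∀ (M N : Z.Modules), Coh.IsCoh M → Coh.IsCoh N →
      ∀ ψ : Formal.completion I M ⟶ Formal.completion I N, ∃! φ : M ⟶ N, ∀ n : ℕ,
        Formal.modPowπ I (n + 1) M ≫ ψ.app (op n) = φ ≫ Formal.modPowπ I (n + 1) N)
    (IHK : ∀ K : Z.IdealSheafData, (∃ x : Z, x ∉ K.support) → ∀ G : ℕᵒᵖ ⥤ Z.Modules,
      Formal.IsCohFormal I G → (∀ n : ℕ, ClSub.KilledByIdeal K (G.obj (op n))) →
      ∃ M : Z.Modules, Coh.IsCoh M ∧ ClSub.KilledByIdeal K M ∧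
        Nonempty (Formal.completion I M ≅ G))
    (G : ℕᵒᵖ ⥤ Z.Modules) (hG : Formal.IsCohFormal I G) :
    ∃ M : Z.Modules, Coh.IsCoh M ∧ Nonempty (Formal.completion I M ≅ G) := by
  have hs₁ : x₁ ∉ (Scheme.IdealSheafData.vanishingIdeal T₁).support := by
    intro hx
    apply hx₁
    have := Scheme.IdealSheafData.coe_support_vanishingIdeal T₁
    rw [← SetLike.mem_coe, ← this]
    exact hx
  have hs₂ : x₂ ∉ (Scheme.IdealSheafData.vanishingIdeal T₂).support := by
    intro hx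
    apply hx₂
    have := Scheme.IdealSheafData.coe_support_vanishingIdeal T₂
    rw [← SetLike.mem_coe, ← this]
    exact hx
  obtain ⟨m, hm⟩ := exists_pow_mul_eq_bot T₁ T₂ h
  have hGq := isCohFormal_qK (Scheme.IdealSheafData.vanishingIdeal T₁ ^ m) hG
  obtain ⟨H, hH, -, ⟨θ⟩⟩ := IHK (Scheme.IdealSheafData.vanishingIdeal T₁ ^ m)
    ⟨x₁, not_mem_support_pow _ m hs₁⟩ _ hGq (fun n => by
      haveI := (hG.1 n).1
      exact killedByIdeal_qK _ (G.obj (op n)))
  refine Groth.Agent.S0830.result A I Z (Scheme.IdealSheafData.vanishingIdeal T₂) G hG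
    (fun e => ⟨fun M N hM hN _ _ ψ => hff M N hM hN ψ,
      fun G' hG' hk' => IHK _ ⟨x₂, not_mem_support_pow _ e hs₂⟩ G' hG' hk'⟩)
    ⟨H, toQK _ G ≫ θ.inv, hH, m, fun n => ⟨?_, ?_⟩⟩
  · haveI := (hG.1 n).1
    let g : qK (Scheme.IdealSheafData.vanishingIdeal T₁ ^ m) (G.obj (op n)) ⟶
      (Formal.completion I H).obj (op n) := θ.inv.app (op n)
    haveI : IsIso g := ⟨θ.hom.app (op n), Iso.inv_hom_id_app θ _, Iso.hom_inv_id_app θ _⟩
    have h1 := killedByIdeal_kernel_πK (Scheme.IdealSheafData.vanishingIdeal T₁)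
      (Scheme.IdealSheafData.vanishingIdeal T₂) m hm (G.obj (op n))
    have h2 := killedByIdeal_of_le (pow_succ_le_pow (Scheme.IdealSheafData.vanishingIdeal T₂) m) h1
    exact killedByIdeal_of_iso _
      (kernelCompMono (πK (Scheme.IdealSheafData.vanishingIdeal T₁ ^ m) (G.obj (op n))) g).symm h2
  · haveI := (hG.1 n).1
    let g : qK (Scheme.IdealSheafData.vanishingIdeal T₁ ^ m) (G.obj (op n)) ⟶
      (Formal.completion I H).obj (op n) := θ.inv.app (op n)
    haveI : IsIso g := ⟨θ.hom.app (op n), Iso.inv_hom_id_app θ _, Iso.hom_inv_id_app θ _⟩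
    haveI : Epi (πK (Scheme.IdealSheafData.vanishingIdeal T₁ ^ m) (G.obj (op n)) ≫ g) :=
      epi_comp _ _
    exact killedByIdeal_of_isZero _
      (isZero_cokernel_of_epi (πK (Scheme.IdealSheafData.vanishingIdeal T₁ ^ m) (G.obj (op n)) ≫ g))

end Groth.Agent.H2.GX
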