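import Groth.Agent.Lib.Helper2.GXT1A
import Groth.Agent.Lib.Helper2.FormalEq1
import Groth.Agent.S0543

/-!
# The morphism from the spectrum of the completion of an affine open (helper2)
-/

set_option autoImplicit false
set_option linter.style.haveILetI false
universe u
open CategoryTheory Limits Opposite TopologicalSpace AlgebraicGeometry

namespace Groth.Agent.H2.GX

open Groth.Agent.LD Groth.Agent.LD.QC Groth.Agent.H2.FormalEq

section Over

variable {A : Type u} [CommRing A] {Y : Scheme.{u}} [Y.Over (Spec (CommRingCat.of A))]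
  {W : Y.Opens} (hW : IsAffineOpen W)

lemma fromSpec_comp_over : hW.fromSpec ≫ (Y ↘ Spec (CommRingCat.of A)) =
    Spec.map (CommRingCat.ofHom (φU W : A →+* Γ(Y, W))) := by
  have h1 := IsAffineOpen.SpecMap_appLE_fromSpec (Y ↘ Spec (CommRingCat.of A))
    (isAffineOpen_top (Spec (CommRingCat.of A))) hW (le_top : W ≤ _)
  rw [← h1, IsAffineOpen.fromSpec_top, Scheme.isoSpec_Spec_inv, ← Spec.map_comp]
  rfl

end Over

variable {Y : Scheme.{u}} {W : Y.Opens} (hW : IsAffineOpen W) (I : Ideal Γ(Y, W))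

/-- the morphism `Spec (B^) ⟶ Y`, `B = Γ(Y, W)`. -/
noncomputable def cplMap : Spec (CommRingCat.of (AdicCompletion I Γ(Y, W))) ⟶ Y :=
  Spec.map (CommRingCat.ofHom (algebraMap Γ(Y, W) (AdicCompletion I Γ(Y, W)))) ≫ hW.fromSpec

lemma cplMap_le : (⊤ : (Spec (CommRingCat.of (AdicCompletion I Γ(Y, W)))).Opens) ≤
    cplMap hW I ⁻¹ᵁ W := by
  unfold cplMap
  rw [Scheme.Hom.comp_preimage, hW.fromSpec_preimage_self]
  rfl

lemma cplMap_appLE (r : Γ(Y, W)) :
    (Scheme.ΓSpecIso (CommRingCat.of (AdicCompletion I Γ(Y, W)))).hom.hom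
      ((cplMap hW I).appLE W ⊤ (cplMap_le hW I) r) =
      algebraMap Γ(Y, W) (AdicCompletion I Γ(Y, W)) r := by
  have h : (cplMap hW I).appLE W ⊤ (cplMap_le hW I) ≫
      (Scheme.ΓSpecIso (CommRingCat.of (AdicCompletion I Γ(Y, W)))).hom =
      CommRingCat.ofHom (algebraMap Γ(Y, W) (AdicCompletion I Γ(Y, W))) := by
    unfold cplMap
    rw [Scheme.Hom.comp_appLE, hW.fromSpec_app_self]
    simp only [Category.assoc]
    rw [Scheme.Hom.map_appLE_assoc]
    have h2 : ∀ (e' : (⊤ : (Spec (CommRingCat.of (AdicCompletion I Γ(Y, W)))).Opens) ≤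
        Spec.map (CommRingCat.ofHom (algebraMap Γ(Y, W) (AdicCompletion I Γ(Y, W)))) ⁻¹ᵁ ⊤),
        (Spec.map (CommRingCat.ofHom (algebraMap Γ(Y, W)
          (AdicCompletion I Γ(Y, W))))).appLE ⊤ ⊤ e' =
        (Spec.map (CommRingCat.ofHom (algebraMap Γ(Y, W) (AdicCompletion I Γ(Y, W))))).appTop := by
      intro e'
      simp [Scheme.Hom.appLE]
    rw [h2, Scheme.ΓSpecIso_naturality]
    exact Iso.inv_hom_id_assoc (Scheme.ΓSpecIso Γ(Y, W)) _
  exact congr($h r)

instance flat_cplMap [IsNoetherianRing Γ(Y, W)] : Flat (cplMap hW I) := by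
  unfold cplMap
  haveI : Flat (Spec.map (CommRingCat.ofHom
      (algebraMap Γ(Y, W) (AdicCompletion I Γ(Y, W))))) := by
    rw [Flat.SpecMap_iff]
    exact RingHom.flat_algebraMap_iff.2 inferInstance
  infer_instance

/-- **base change to the completion is bijective on sections of modules killed by a power of the
ideal.** -/
theorem pbSec_bijective_cplMap [IsNoetherianRing Γ(Y, W)] (N : Y.Modules) [N.IsQuasicoherent]
    (m : ℕ) (hN : ∀ a ∈ I ^ m, ∀ x : Γ(N, W), a • x = 0) :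
    Function.Bijective (pbSec (cplMap hW I) N (cplMap_le hW I)) := by
  letI := ((cplMap hW I).appLE W ⊤ (cplMap_le hW I)).hom.toAlgebra
  letI := pbModule (cplMap hW I) N (cplMap_le hW I)
  haveI := pbModule_isScalarTower (cplMap hW I) N (cplMap_le hW I)
  have hbc := isBaseChange_pbSec (cplMap hW I) (isAffineOpen_top _) hW (cplMap_le hW I) N
  let ε : Γ(Spec (CommRingCat.of (AdicCompletion I Γ(Y, W))), ⊤) →+* Γ(Y, W) ⧸ I ^ m :=
    (AdicCompletion.evalₐ I m).toRingHom.comp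
      (Scheme.ΓSpecIso (CommRingCat.of (AdicCompletion I Γ(Y, W)))).hom.hom
  have hε : ∀ r, ε (algebraMap Γ(Y, W)
      Γ(Spec (CommRingCat.of (AdicCompletion I Γ(Y, W))), ⊤) r) = Ideal.Quotient.mk (I ^ m) r := by
    intro r
    change AdicCompletion.evalₐ I m
      ((Scheme.ΓSpecIso (CommRingCat.of (AdicCompletion I Γ(Y, W)))).hom.hom
        ((cplMap hW I).appLE W ⊤ (cplMap_le hW I) r)) = _
    rw [cplMap_appLE]
    exact (AdicCompletion.evalₐ I m).commutes r
  have hcomp : ((Scheme.ΓSpecIso (CommRingCat.of (AdicCompletion I Γ(Y, W)))).inv.hom).comp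
      (algebraMap Γ(Y, W) (AdicCompletion I Γ(Y, W))) =
      algebraMap Γ(Y, W) Γ(Spec (CommRingCat.of (AdicCompletion I Γ(Y, W))), ⊤) := by
    ext r
    change (Scheme.ΓSpecIso (CommRingCat.of (AdicCompletion I Γ(Y, W)))).inv.hom
      (algebraMap Γ(Y, W) (AdicCompletion I Γ(Y, W)) r) =
      (cplMap hW I).appLE W ⊤ (cplMap_le hW I) r
    rw [← cplMap_appLE hW I r]
    exact congr($((Scheme.ΓSpecIso (CommRingCat.of (AdicCompletion I Γ(Y, W)))).hom_inv_id) _)
  have hker : ∀ s, ε s = 0 → s ∈ (I ^ m).map (algebraMap Γ(Y, W)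
      Γ(Spec (CommRingCat.of (AdicCompletion I Γ(Y, W))), ⊤)) := by
    intro s hs
    have h1 := adicCompletion_ker_evalₐ_le I (IsNoetherian.noetherian I) m _ hs
    have h2 := Ideal.mem_map_of_mem
      (Scheme.ΓSpecIso (CommRingCat.of (AdicCompletion I Γ(Y, W)))).inv.hom h1
    rw [Ideal.map_map, hcomp] at h2
    have h3 : (Scheme.ΓSpecIso (CommRingCat.of (AdicCompletion I Γ(Y, W)))).inv.hom
        ((Scheme.ΓSpecIso (CommRingCat.of (AdicCompletion I Γ(Y, W)))).hom.hom s) = s :=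
      congr($((Scheme.ΓSpecIso (CommRingCat.of (AdicCompletion I Γ(Y, W)))).hom_inv_id) s)
    rw [h3] at h2
    exact h2
  exact bijective_of_isBaseChange_of_torsion (I ^ m) ε hε hker
    (pbSecₗ (cplMap hW I) N (cplMap_le hW I)) hbc hN

end Groth.Agent.H2.GX
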