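import Groth.Agent.Lib.Helper2.GXBChA
import Groth.Agent.Lib.Helper2.GXCplB
import Groth.Agent.Lib.Helper2.GXT1B
import Groth.Agent.Lib.Lead.HF.Local

/-!
# The uniform bound over an affine open of the base (helper2)
-/

set_option autoImplicit false
set_option linter.style.haveILetI false
universe u
open CategoryTheory Opposite TopologicalSpace AlgebraicGeometry

namespace Groth.Agent.H2.GX

open Groth.Agent.LD Groth.Agent.LD.FF Groth.Agent.H2.FormalQ Groth.Agent.H2.FormalEq
  Groth.Agent.H2.AlgzExt Groth.Agent.LD.QC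

variable {A : Type u} [CommRing A] (J : Ideal A) {X Y : Scheme.{u}}
  [X.Over (Spec (CommRingCat.of A))] [Y.Over (Spec (CommRingCat.of A))] [IsNoetherian Y]
  (f : X ⟶ Y) [IsProper f]
  (hf : f ≫ (Y ↘ Spec (CommRingCat.of A)) = X ↘ Spec (CommRingCat.of A))

include hf in
/-- **the uniform bound over an affine open `W` of `Y`**, through base change to the completion of
`Γ(Y, W)`. -/
theorem exists_bound_affine (K : Y.IdealSheafData) (hV : IsIso (f ∣_ K.support.compl))
    (G : ℕᵒᵖ ⥤ Y.Modules) (hG : Formal.IsCohFormal J G) (F : X.Modules) (hF : Coh.IsCoh F)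
    (β : (G ⋙ Scheme.Modules.pullback f) ≅ Formal.completion J F)
    (c : Formal.completion J ((Scheme.Modules.pushforward f).obj F) ⟶
        Formal.completion J F ⋙ Scheme.Modules.pushforward f)
    (hc : ∀ n, πc J ((Scheme.Modules.pushforward f).obj F) n ≫ c.app (op n) =
        (Scheme.Modules.pushforward f).map (πc J F n))
    (α : G ⟶ Formal.completion J ((Scheme.Modules.pushforward f).obj F))
    (hα : α ≫ c = gammaOf f β) (W : Y.Opens) (hW : IsAffineOpen W) :
    ∃ T : ℕ, ∀ (n : ℕ), ∀ κ₀ ∈ (K.ideal ⟨W, hW⟩) ^ T,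
      (∀ x : Γ(G.obj (op n), W), (α.app (op n)).app W x = 0 → κ₀ • x = 0) ∧
      ∀ y : Γ((Formal.completion J ((Scheme.Modules.pushforward f).obj F)).obj (op n), W),
        ∃ z : Γ(G.obj (op n), W), (α.app (op n)).app W z = κ₀ • y := by
  classical
  haveI : IsNoetherianRing Γ(Y, W) := IsLocallyNoetherian.component_noetherian ⟨W, hW⟩
  let I : Ideal Γ(Y, W) := J.map (φU W : A →+* Γ(Y, W))
  haveI : IsNoetherianRing (AdicCompletion I Γ(Y, W)) := Groth.Agent.S0543.result _ I
  let ψ : A →+* AdicCompletion I Γ(Y, W) :=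
    (algebraMap Γ(Y, W) (AdicCompletion I Γ(Y, W))).comp (φU W : A →+* Γ(Y, W))
  haveI : IsAdicComplete (J.map ψ) (AdicCompletion I Γ(Y, W)) := by
    have h := AdicCompletion.isAdicComplete_self I (IsNoetherian.noetherian I)
    have e : J.map ψ = I.map (algebraMap Γ(Y, W) (AdicCompletion I Γ(Y, W))) :=
      (Ideal.map_map _ _).symm
    rw [e]
    exact h
  letI oY' : (Spec (CommRingCat.of (AdicCompletion I Γ(Y, W)))).Over (Spec (CommRingCat.of A)) :=
    ⟨cplMap hW I ≫ (Y ↘ Spec (CommRingCat.of A))⟩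
  have hg : cplMap hW I ≫ (Y ↘ Spec (CommRingCat.of A)) =
      (Spec (CommRingCat.of (AdicCompletion I Γ(Y, W)))) ↘ Spec (CommRingCat.of A) := rfl
  have hY : ((Spec (CommRingCat.of (AdicCompletion I Γ(Y, W)))) ↘ Spec (CommRingCat.of A)) =
      Spec.map (CommRingCat.ofHom ψ) := by
    change cplMap hW I ≫ _ = _
    unfold cplMap
    rw [Category.assoc, fromSpec_comp_over hW, ← Spec.map_comp]
    rfl
  letI oX' : (Limits.pullback f (cplMap hW I)).Over (Spec (CommRingCat.of A)) :=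
    ⟨Limits.pullback.fst f (cplMap hW I) ≫ (X ↘ Spec (CommRingCat.of A))⟩
  have hsq : IsPullback (Limits.pullback.fst f (cplMap hW I))
      (Limits.pullback.snd f (cplMap hW I)) f (cplMap hW I) := IsPullback.of_hasPullback _ _
  have hg' : Limits.pullback.fst f (cplMap hW I) ≫ (X ↘ Spec (CommRingCat.of A)) =
      (Limits.pullback f (cplMap hW I)) ↘ Spec (CommRingCat.of A) := rfl
  have hf' : Limits.pullback.snd f (cplMap hW I) ≫
      ((Spec (CommRingCat.of (AdicCompletion I Γ(Y, W)))) ↘ Spec (CommRingCat.of A)) =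
      (Limits.pullback f (cplMap hW I)) ↘ Spec (CommRingCat.of A) := by
    change Limits.pullback.snd f (cplMap hW I) ≫ cplMap hW I ≫ _ =
      Limits.pullback.fst f (cplMap hW I) ≫ _
    rw [← Category.assoc, ← hsq.w, Category.assoc, hf]
  haveI := hF.1
  have hF' : Coh.IsCoh ((Scheme.Modules.pullback (Limits.pullback.fst f (cplMap hW I))).obj F) :=
    ⟨qc_pullback _ F, isFiniteType_pullback _ F hF.2⟩
  obtain ⟨c', hc'⟩ := exists_cmap J (Limits.pullback.snd f (cplMap hW I)) hf'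
    ((Scheme.Modules.pullback (Limits.pullback.fst f (cplMap hW I))).obj F)
  obtain ⟨β', Ψ, hα'⟩ := exists_base_change J f (cplMap hW I)
    (Limits.pullback.snd f (cplMap hW I)) (Limits.pullback.fst f (cplMap hW I)) hsq hg hg'
    G F β c hc α hα c' hc'
  have hG' := isCohFormal_pullback J (cplMap hW I) hg hG
  -- the finite set `S`
  obtain ⟨S₀, hS₀⟩ : (K.ideal ⟨W, hW⟩).FG := IsNoetherian.noetherian _
  have hS : ∀ k ∈ S₀.image ((cplMap hW I).appLE W ⊤ (cplMap_le hW I)).hom,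
      IsIso (Limits.pullback.snd f (cplMap hW I) ∣_
        (Spec (CommRingCat.of (AdicCompletion I Γ(Y, W)))).basicOpen k) := by
    intro k hk
    obtain ⟨k₀, hk₀, rfl⟩ := Finset.mem_image.1 hk
    haveI := hV
    apply isIso_morphismRestrict_of_isPullback hsq K.support.compl
    intro y' hy'
    have h1 := Scheme.basicOpen_appLE (cplMap hW I) ⊤ W (cplMap_le hW I) k₀
    have h2 : y' ∈ (⊤ : (Spec (CommRingCat.of (AdicCompletion I Γ(Y, W)))).Opens) ⊓
        (cplMap hW I) ⁻¹ᵁ (Y.basicOpen k₀) := by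
      rw [← h1]
      exact hy'
    have h3 : (cplMap hW I) y' ∈ Y.basicOpen k₀ := h2.2
    have h4 : (cplMap hW I) y' ∈ W := Y.basicOpen_le k₀ h3
    change (cplMap hW I) y' ∉ K.support
    rw [Scheme.IdealSheafData.mem_support_iff_of_mem (U := ⟨W, hW⟩) h4,
      Scheme.mem_zeroLocus_iff]
    intro h5
    have hk₀' : k₀ ∈ K.ideal ⟨W, hW⟩ := by
      rw [← hS₀]
      exact Ideal.subset_span hk₀
    exact h5 k₀ hk₀' h3
  obtain ⟨T, hT⟩ := bounds_complete J ψ hY (Limits.pullback.snd f (cplMap hW I)) hf'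
    (S₀.image ((cplMap hW I).appLE W ⊤ (cplMap_le hW I)).hom) hS
    (G ⋙ Scheme.Modules.pullback (cplMap hW I)) hG' _ hF' β' c' hc'
    (Functor.whiskerRight α (Scheme.Modules.pullback (cplMap hW I)) ≫ Ψ.hom) hα'
  refine ⟨T, fun n κ₀ hκ₀ => ?_⟩
  have hκ : ((cplMap hW I).appLE W ⊤ (cplMap_le hW I)).hom κ₀ ∈
      (Ideal.span ((S₀.image ((cplMap hW I).appLE W ⊤ (cplMap_le hW I)).hom : Finset _) :
        Set Γ(Spec (CommRingCat.of (AdicCompletion I Γ(Y, W))), ⊤))) ^ T := by
    have h1 := Ideal.mem_map_of_mem ((cplMap hW I).appLE W ⊤ (cplMap_le hW I)).hom hκ₀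
    rw [Ideal.map_pow, ← hS₀, Ideal.map_span] at h1
    rw [Finset.coe_image]
    exact h1
  obtain ⟨hKB, hCB⟩ := hT n _ hκ
  have hN₁ : ∀ a ∈ I ^ (n + 1), ∀ x : Γ(G.obj (op n), W), a • x = 0 := fun a ha x =>
    Groth.Agent.LD.HF.smul_eq_zero_of_mem_map_pow J (n + 1) (hG.2.1 n) W a ha x
  have hN₂ : ∀ a ∈ I ^ (n + 1), ∀ x : Γ((Formal.completion J
      ((Scheme.Modules.pushforward f).obj F)).obj (op n), W), a • x = 0 := fun a ha x =>
    Groth.Agent.LD.HF.smul_eq_zero_of_mem_map_pow J (n + 1) (killedBy_modPow J (n + 1) _) W a ha x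
  haveI : (G.obj (op n)).IsQuasicoherent := (hG.1 n).1
  have hH : Coh.IsCoh ((Scheme.Modules.pushforward f).obj F) := isCoh_pushforward_proper f F hF
  haveI : ((Formal.completion J ((Scheme.Modules.pushforward f).obj F)).obj
      (op n)).IsQuasicoherent := (isCoh_modPow J (n + 1) hH).1
  have hb₁ := pbSec_bijective_cplMap hW I (G.obj (op n)) (n + 1) hN₁
  have hb₂ := pbSec_bijective_cplMap hW I
    ((Formal.completion J ((Scheme.Modules.pushforward f).obj F)).obj (op n)) (n + 1) hN₂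
  have happ : ∀ x', ((Functor.whiskerRight α (Scheme.Modules.pullback (cplMap hW I)) ≫
      Ψ.hom).app (op n)).app ⊤ x' = (Ψ.hom.app (op n)).app ⊤
        (((Scheme.Modules.pullback (cplMap hW I)).map (α.app (op n))).app ⊤ x') := fun x' => rfl
  constructor
  · refine descend_KB (cplMap hW I) (α.app (op n)) (cplMap_le hW I) hb₁.1 κ₀ (fun x' hx' => ?_)
    apply hKB x'
    rw [happ, hx']
    exact map_zero _
  · refine descend_CB (cplMap hW I) (α.app (op n)) (cplMap_le hW I) hb₁.2 hb₂.1 κ₀ (fun y' => ?_)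
    obtain ⟨z', hz'⟩ := hCB ((Ψ.hom.app (op n)).app ⊤ y')
    refine ⟨z', ?_⟩
    apply (app_bijective_of_isIso (Ψ.hom.app (op n)) ⊤).1
    rw [← happ, hz']
    exact (Scheme.Modules.Hom.app_smul (Ψ.hom.app (op n)) _ y').symm

end Groth.Agent.H2.GX
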