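import Groth.Agent.Lib.Helper2.GXExB
import Groth.Agent.Lib.Helper2.GXChowI
import Groth.Agent.Lib.Helper2.GXFullA
import Groth.Agent.Lib.Helper2.GXBChA
import Groth.Agent.Lib.Helper2.GXFFShA
import Groth.Agent.Lib.Lead.GX.Main
import Groth.Agent.Lib.Lead.PN.AmpleDev
import Groth.Agent.Lib.Helper5.VAmple.J
import Groth.Agent.Lib.Helper5.AG.ProjProper
import Groth.Agent.S0830
import Groth.Agent.S0831

/-!
# Algebraizability on an irreducible proper scheme (helper2)
-/

set_option autoImplicit false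
set_option linter.style.haveILetI false
universe u
open CategoryTheory Limits Opposite TopologicalSpace AlgebraicGeometry

namespace Groth.Agent.H2.GX

open Groth.Agent.LD Groth.Agent.LD.QC Groth.Agent.LD.Chow

variable {A : Type u} [CommRing A] [IsNoetherianRing A] (I : Ideal A) [IsAdicComplete I A]
  {Z : Scheme.{u}} [Z.Over (Spec (CommRingCat.of A))] [IsProper (Z ↘ Spec (CommRingCat.of A))]

/-- **the irreducible case**, through Chow's lemma, the projective case and the push–pull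
lemmas. -/
theorem algebraizable_of_irreducible [IrreducibleSpace Z]
    (IHK : ∀ K : Z.IdealSheafData, (∃ x : Z, x ∉ K.support) → ∀ G : ℕᵒᵖ ⥤ Z.Modules,
      Formal.IsCohFormal I G → (∀ n : ℕ, ClSub.KilledByIdeal K (G.obj (op n))) →
      ∃ M : Z.Modules, Coh.IsCoh M ∧ ClSub.KilledByIdeal K M ∧
        Nonempty (Formal.completion I M ≅ G))
    (G : ℕᵒᵖ ⥤ Z.Modules) (hG : Formal.IsCohFormal I G) :
    ∃ M : Z.Modules, Coh.IsCoh M ∧ Nonempty (Formal.completion I M ≅ G) := by
  haveI : IsLocallyNoetherian Z :=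
    LocallyOfFiniteType.isLocallyNoetherian (Z ↘ Spec (CommRingCat.of A))
  haveI : CompactSpace Z :=
    (quasiCompact_iff_compactSpace (Z ↘ Spec (CommRingCat.of A))).mp inferInstance
  haveI : IsNoetherian Z := {}
  obtain ⟨N, Z', c, X₀, hc, hcl, ⟨x₀, hx₀⟩, hiso⟩ :=
    chow_lemma_irreducible A (Z ↘ Spec (CommRingCat.of A))
  haveI := hc
  haveI := hcl
  haveI : IsProper (pStr N A) := by
    rw [pStr_eq]
    exact Groth.Agent.H5.AG.isProper_toSpec N A
  letI oZ' : Z'.Over (Spec (CommRingCat.of A)) :=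
    ⟨(c ≫ pullback.fst (Z ↘ Spec (CommRingCat.of A)) (pStr N A)) ≫
      (Z ↘ Spec (CommRingCat.of A))⟩
  have hπ : (c ≫ pullback.fst (Z ↘ Spec (CommRingCat.of A)) (pStr N A)) ≫
      (Z ↘ Spec (CommRingCat.of A)) = Z' ↘ Spec (CommRingCat.of A) := rfl
  haveI : IsProper (c ≫ pullback.fst (Z ↘ Spec (CommRingCat.of A)) (pStr N A)) := inferInstance
  haveI : IsProper (Z' ↘ Spec (CommRingCat.of A)) := by
    rw [← hπ]
    infer_instance
  -- the ample module
  have hL := Groth.Agent.LD.PN.AmD.isAmple_pullback_of_isAffineHom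
    (c ≫ pullback.snd (Z ↘ Spec (CommRingCat.of A)) (pStr N A)) _
    (Groth.Agent.H5.VAmple.isAmple_O1 N A)
  have hG' := isCohFormal_pullback I
    (c ≫ pullback.fst (Z ↘ Spec (CommRingCat.of A)) (pStr N A)) hπ hG
  obtain ⟨F', hF', ⟨θ⟩⟩ := Groth.Agent.LD.GX.exists_completion_iso (I := I) _ hL
    (fun M N hM hN τ => (existsUnique_hom_proper I M N hM hN τ).exists) _ hG'
  -- the ideal sheaf
  let T : Closeds Z := ⟨(X₀ : Set Z)ᶜ, X₀.2.isClosed_compl⟩
  have hsupp : ((Scheme.IdealSheafData.vanishingIdeal T).support : Set Z) = (X₀ : Set Z)ᶜ :=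
    Scheme.IdealSheafData.coe_support_vanishingIdeal T
  have hcompl : (Scheme.IdealSheafData.vanishingIdeal T).support.compl = X₀ := by
    apply Opens.ext
    change ((Scheme.IdealSheafData.vanishingIdeal T).support : Set Z)ᶜ = _
    rw [hsupp, compl_compl]
  have hV : IsIso ((c ≫ pullback.fst (Z ↘ Spec (CommRingCat.of A)) (pStr N A)) ∣_
      (Scheme.IdealSheafData.vanishingIdeal T).support.compl) := by
    rw [hcompl]
    exact hiso
  have hx₀' : x₀ ∉ (Scheme.IdealSheafData.vanishingIdeal T).support := by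
    intro hx
    have h1 : x₀ ∈ ((Scheme.IdealSheafData.vanishingIdeal T).support : Set Z) := hx
    rw [hsupp] at h1
    exact h1 hx₀
  obtain ⟨α, hα⟩ := Groth.Agent.S0831.result A I Z' Z
    (c ≫ pullback.fst (Z ↘ Spec (CommRingCat.of A)) (pStr N A)) hπ
    (Scheme.IdealSheafData.vanishingIdeal T) hV G hG F' hF' θ.symm
  exact Groth.Agent.S0830.result A I Z (Scheme.IdealSheafData.vanishingIdeal T) G hG
    (fun e => ⟨fun M N hM hN _ _ ψ => existsUnique_hom_proper I M N hM hN ψ,
      fun G' hG' hk' => IHK _ ⟨x₀, not_mem_support_pow _ e hx₀'⟩ G' hG' hk'⟩)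
    ⟨_, α, isCoh_pushforward_proper _ F' hF', hα⟩

end Groth.Agent.H2.GX
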