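import Groth.Agent.Lib.Helper2.GXExA
import Groth.Agent.Lib.Helper2.GXExC
import Groth.Agent.Lib.Helper2.GXExD
import Groth.Agent.Lib.Lead.QC.Iso

/-!
# Grothendieck's existence theorem for proper schemes: essential surjectivity (helper2)

Noetherian induction on the closed subschemes, with Chow's lemma in the irreducible case.
-/

set_option autoImplicit false
set_option linter.style.haveILetI false
universe u
open CategoryTheory Limits Opposite TopologicalSpace AlgebraicGeometry

namespace Groth.Agent.H2.GX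

open Groth.Agent.LD Groth.Agent.LD.QC

section Empty

variable {A : Type u} [CommRing A] (I : Ideal A) {Z : Scheme.{u}}
  [Z.Over (Spec (CommRingCat.of A))]

lemma isZero_of_isEmpty [IsEmpty Z] (N : Z.Modules) : IsZero N := by
  apply isZero_of_forall_sections
  intro U s
  haveI : Subsingleton Γ(N, U) := Module.subsingleton Γ(Z, U) Γ(N, U)
  exact Subsingleton.elim _ _

theorem algebraizable_of_isEmpty [IsEmpty Z] (G : ℕᵒᵖ ⥤ Z.Modules)
    (hG : Formal.IsCohFormal I G) :
    ∃ M : Z.Modules, Coh.IsCoh M ∧ Nonempty (Formal.completion I M ≅ G) := by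
  refine ⟨G.obj (op 0), hG.1 0, ⟨NatIso.ofComponents
    (fun k => (isZero_of_isEmpty _).iso (isZero_of_isEmpty _)) (fun {k k'} φ => ?_)⟩⟩
  exact (isZero_of_isEmpty _).eq_of_src _ _

end Empty

variable {A : Type u} [CommRing A] [IsNoetherianRing A] (I : Ideal A) [IsAdicComplete I A]

/-- algebraizability of all coherent formal modules on `Z`, for the structure morphism `q`. -/
def Algz (Z : Scheme.{u}) (q : Z ⟶ Spec (CommRingCat.of A)) : Prop :=
  letI : Z.Over (Spec (CommRingCat.of A)) := ⟨q⟩
  ∀ G : ℕᵒᵖ ⥤ Z.Modules, Formal.IsCohFormal I G →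
    ∃ M : Z.Modules, Coh.IsCoh M ∧ Nonempty (Formal.completion I M ≅ G)

/-- **the induction step.** -/
theorem algz_step {Z : Scheme.{u}} [Z.Over (Spec (CommRingCat.of A))]
    [IsProper (Z ↘ Spec (CommRingCat.of A))]
    (IH : ∀ (Z' : Scheme.{u}) (j : Z' ⟶ Z) [IsClosedImmersion j], Set.range j ≠ Set.univ →
      Algz I Z' (j ≫ (Z ↘ Spec (CommRingCat.of A)))) :
    Algz I Z (Z ↘ Spec (CommRingCat.of A)) := by
  haveI : IsLocallyNoetherian Z :=
    LocallyOfFiniteType.isLocallyNoetherian (Z ↘ Spec (CommRingCat.of A))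
  haveI : CompactSpace Z :=
    (quasiCompact_iff_compactSpace (Z ↘ Spec (CommRingCat.of A))).mp inferInstance
  haveI : IsNoetherian Z := {}
  have IHK : ∀ K : Z.IdealSheafData, (∃ x : Z, x ∉ K.support) → ∀ G : ℕᵒᵖ ⥤ Z.Modules,
      Formal.IsCohFormal I G → (∀ n : ℕ, ClSub.KilledByIdeal K (G.obj (op n))) →
      ∃ M : Z.Modules, Coh.IsCoh M ∧ ClSub.KilledByIdeal K M ∧
        Nonempty (Formal.completion I M ≅ G) := by
    rintro K ⟨x, hx⟩ G hG hk
    letI : K.subscheme.Over (Spec (CommRingCat.of A)) :=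
      ⟨K.subschemeι ≫ (Z ↘ Spec (CommRingCat.of A))⟩
    have h1 := IH K.subscheme K.subschemeι (range_subschemeι_ne_univ K hx)
    have h2 := algebraizable_of_closedImmersion I K.subschemeι rfl h1 G hG
      (by rw [K.ker_subschemeι]; exact hk)
    rw [K.ker_subschemeι] at h2
    exact h2
  intro G hG
  by_cases hirr : IrreducibleSpace Z
  · exact algebraizable_of_irreducible I IHK G hG
  · by_cases hne : Nonempty Z
    · have hnp : ¬ IsPreirreducible (Set.univ : Set Z) := fun h =>
        hirr { isPreirreducible_univ := h, toNonempty := hne }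
      unfold IsPreirreducible at hnp
      push Not at hnp
      obtain ⟨u, v, hu, hv, ⟨x₁, -, hx₁⟩, ⟨x₂, -, hx₂⟩, huv⟩ := hnp
      have huv' : u ∩ v = ∅ := by
        rw [Set.univ_inter] at huv
        exact huv
      refine algebraizable_of_cover I ⟨uᶜ, hu.isClosed_compl⟩ ⟨vᶜ, hv.isClosed_compl⟩ ?_
        (x₁ := x₁) (x₂ := x₂) (fun h => h hx₁) (fun h => h hx₂)
        (fun M N hM hN ψ => existsUnique_hom_proper I M N hM hN ψ) IHK G hG
      apply Closeds.ext
      change uᶜ ∪ vᶜ = Set.univ
      rw [← Set.compl_inter, huv', Set.compl_empty]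
    · haveI : IsEmpty Z := not_nonempty_iff.mp hne
      exact algebraizable_of_isEmpty I G hG

end Groth.Agent.H2.GX
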