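import Groth.Agent.Lib.Helper2.GXExE

/-!
# Grothendieck's existence theorem for proper schemes: the Noetherian induction (helper2)
-/

set_option autoImplicit false
set_option linter.style.haveILetI false
universe u
open CategoryTheory Limits Opposite TopologicalSpace AlgebraicGeometry

namespace Groth.Agent.H2.GX

variable {A : Type u} [CommRing A] [IsNoetherianRing A] (I : Ideal A) [IsAdicComplete I A]

/-- every closed subscheme of a scheme proper over a complete Noetherian ring has all its coherent
formal modules algebraizable. -/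
theorem algz_of_closedImmersion {X : Scheme.{u}} [X.Over (Spec (CommRingCat.of A))]
    [IsProper (X ↘ Spec (CommRingCat.of A))] (T : Closeds X) :
    ∀ (Z : Scheme.{u}) (i : Z ⟶ X) [IsClosedImmersion i], Set.range i ⊆ (T : Set X) →
      Algz I Z (i ≫ (X ↘ Spec (CommRingCat.of A))) := by
  haveI : IsLocallyNoetherian X :=
    LocallyOfFiniteType.isLocallyNoetherian (X ↘ Spec (CommRingCat.of A))
  haveI : CompactSpace X :=
    (quasiCompact_iff_compactSpace (X ↘ Spec (CommRingCat.of A))).mp inferInstance
  haveI : IsNoetherian X := {}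
  refine WellFoundedLT.induction (motive := fun T : Closeds X => ∀ (Z : Scheme.{u}) (i : Z ⟶ X)
    [IsClosedImmersion i], Set.range i ⊆ (T : Set X) →
      Algz I Z (i ≫ (X ↘ Spec (CommRingCat.of A)))) T (fun T ih => ?_)
  intro Z i _ hi
  letI : Z.Over (Spec (CommRingCat.of A)) := ⟨i ≫ (X ↘ Spec (CommRingCat.of A))⟩
  haveI : IsProper (Z ↘ Spec (CommRingCat.of A)) := by
    change IsProper (i ≫ (X ↘ Spec (CommRingCat.of A)))
    infer_instance
  refine algz_step I (Z := Z) (fun Z' j _ hj => ?_)
  have hcl : IsClosed (Set.range (j ≫ i)) := (j ≫ i).isClosedEmbedding.isClosed_range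
  have hle : Set.range (j ≫ i) ⊆ (T : Set X) := by
    rintro _ ⟨z', rfl⟩
    exact hi ⟨j z', rfl⟩
  have hne : (⟨Set.range (j ≫ i), hcl⟩ : Closeds X) ≠ T := by
    intro h
    apply hj
    rw [Set.eq_univ_iff_forall]
    intro z
    have h1 : i z ∈ (T : Set X) := hi ⟨z, rfl⟩
    rw [← h] at h1
    obtain ⟨z', hz'⟩ := h1
    have h2 : i (j z') = i z := hz'
    exact ⟨z', i.isClosedEmbedding.injective h2⟩
  have hlt : (⟨Set.range (j ≫ i), hcl⟩ : Closeds X) < T :=
    lt_of_le_of_ne (fun x hx => hle hx) hne
  have h := ih _ hlt Z' (j ≫ i) (le_refl _)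
  rw [Category.assoc] at h
  exact h

end Groth.Agent.H2.GX
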