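import Groth.Agent.Lib.Lead.FF.Formal
import Groth.Agent.Lib.Lead.FF.Noeth
import Groth.Agent.Lib.Lead.CohLES.H0
import Groth.Agent.Lib.Lead.CohLES.DualLin
import Groth.Agent.S0002
import Groth.Agent.Lib.Helper2.FormalEq1
import Groth.Agent.Lib.Helper2.GXBaseB

/-!
# The theorem on formal functions in degree zero, on global sections (helper2)
-/

set_option autoImplicit false
universe u
open CategoryTheory Limits Opposite TopologicalSpace AlgebraicGeometry

namespace Groth.Agent.H2.GX

open Groth.Agent.LD Groth.Agent.LD.FF Groth.Agent.H2.FormalEq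

variable {B : Type u} [CommRing B] [IsNoetherianRing B] (I : Ideal B) {V : Scheme.{u}}
  [V.Over (Spec (CommRingCat.of B))] [IsProper (V ↘ Spec (CommRingCat.of B))]

omit [IsNoetherianRing B] [IsProper (V ↘ Spec (CommRingCat.of B))] in
lemma HH0Equiv_smul (F : V.Modules) (a : B) (h : Coh.HH V F 0) :
    CL.HH0Equiv F (a • h) = (Formal.smulMod B F a).app ⊤ (CL.HH0Equiv F h) := by
  rw [← CL.HHmap_smulMod]
  exact CL.HH0Equiv_map (Formal.smulMod B F a) h

/-- **formal functions on global sections**: Artin–Rees and Mittag-Leffler with a uniform shift. -/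
theorem ff_top (F : V.Modules) (hF : Coh.IsCoh F) :
    ∃ s : ℕ, (∀ (n : ℕ) (x : Γ(F, ⊤)), (πc I F (n + s)).app ⊤ x = 0 →
        x ∈ smulSub (I ^ (n + 1)) F ⊤) ∧
      ∀ (n : ℕ) (y : Γ((Formal.completion I F).obj (op (n + s)), ⊤)), ∃ x : Γ(F, ⊤),
        (πc I F n).app ⊤ x =
          ((Formal.completion I F).map (homOfLE (Nat.le_add_right n s)).op).app ⊤ y := by
  have : CompactSpace V :=
    (quasiCompact_iff_compactSpace (V ↘ Spec (CommRingCat.of B))).mp inferInstance
  have : IsLocallyNoetherian V :=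
    LocallyOfFiniteType.isLocallyNoetherian (V ↘ Spec (CommRingCat.of B))
  have hfin : FinHyp V B := fun M hM n => Groth.Agent.S0002.result B V M hM n
  obtain ⟨c, hc⟩ := q_AR noethHyp hfin I F hF 0
  obtain ⟨c', hc'⟩ := q_ML noethHyp hfin I F hF 0
  refine ⟨max (c + 1) c', fun n x hx => ?_, fun n y => ?_⟩
  · have h1 : Formal.toHHmodPow I F 0 (n + max (c + 1) c') ((CL.HH0Equiv F).symm x) = 0 := by
      apply (CL.HH0Equiv _).injective
      rw [map_zero]
      refine (CL.HH0Equiv_map (Formal.modPowπ I (n + max (c + 1) c' + 1) F) _).trans ?_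
      rw [AddEquiv.apply_symm_apply]
      exact hx
    have h2 := hc (n + max (c + 1) c') (by omega) _ h1
    have key : ∀ z ∈ (I ^ (n + max (c + 1) c' - c) • ⊤ : Submodule B (Coh.HH V F 0)),
        CL.HH0Equiv F z ∈ smulSub (I ^ (n + 1)) F ⊤ := by
      intro z hz
      refine Submodule.smul_induction_on hz ?_ ?_
      · intro a ha h _
        rw [HH0Equiv_smul]
        exact smulMod_app_mem_smulSub (Ideal.pow_le_pow_right (by omega) ha) _
      · intro z z' hz hz'
        rw [map_add]
        exact add_mem hz hz'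
    have h3 := key _ h2
    rwa [AddEquiv.apply_symm_apply] at h3
  · obtain ⟨x, hx⟩ := hc' n (n + max (c + 1) c') (Nat.le_add_right n _) (by omega)
      ((CL.HH0Equiv (Formal.modPow I (n + max (c + 1) c' + 1) F)).symm y)
    refine ⟨CL.HH0Equiv F x, ?_⟩
    have e1 : CL.HH0Equiv _ (Formal.toHHmodPow I F 0 n x) =
        (πc I F n).app ⊤ (CL.HH0Equiv F x) :=
      CL.HH0Equiv_map (Formal.modPowπ I (n + 1) F) x
    have e2 : CL.HH0Equiv _ (trH I F 0 (Nat.le_add_right n (max (c + 1) c'))
        ((CL.HH0Equiv (Formal.modPow I (n + max (c + 1) c' + 1) F)).symm y)) =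
        ((Formal.completion I F).map (homOfLE (Nat.le_add_right n (max (c + 1) c'))).op).app ⊤
          ((CL.HH0Equiv (Formal.modPow I (n + max (c + 1) c' + 1) F))
            ((CL.HH0Equiv (Formal.modPow I (n + max (c + 1) c' + 1) F)).symm y)) :=
      CL.HH0Equiv_map ((Formal.completion I F).map
        (homOfLE (Nat.le_add_right n (max (c + 1) c'))).op) _
    rw [AddEquiv.apply_symm_apply] at e2
    rw [← e1, hx, e2]

end Groth.Agent.H2.GX
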