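import Groth.Agent.Lib.Helper2.GXFFSecA
import Groth.Agent.Lib.Lead.QC.SubExtRestrict

/-!
# Formal functions over an affine open of the base (helper2)
-/

set_option autoImplicit false
set_option linter.style.haveILetI false
universe u
open CategoryTheory Limits Opposite TopologicalSpace AlgebraicGeometry

namespace Groth.Agent.H2.GX

open Groth.Agent.LD Groth.Agent.LD.FF Groth.Agent.H2.FormalQ Groth.Agent.H2.FormalEq
  Groth.Agent.H2.AlgzExt

variable {A : Type u} [CommRing A] (J : Ideal A) {X Y : Scheme.{u}}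
  [X.Over (Spec (CommRingCat.of A))] [Y.Over (Spec (CommRingCat.of A))] [IsLocallyNoetherian Y]
  (f : X ⟶ Y) [IsProper f]
  (hf : f ≫ (Y ↘ Spec (CommRingCat.of A)) = X ↘ Spec (CommRingCat.of A))

include hf in
/-- **formal functions over an affine open `W` of the base**, on the sections over `f⁻¹W`. -/
theorem ff_affine (F : X.Modules) (hF : Coh.IsCoh F) (W : Y.Opens) (hW : IsAffineOpen W) :
    ∃ s : ℕ, (∀ (n : ℕ) (x : Γ(F, f ⁻¹ᵁ W)), (πc J F (n + s)).app (f ⁻¹ᵁ W) x = 0 →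
        x ∈ smulSub (J ^ (n + 1)) F (f ⁻¹ᵁ W)) ∧
      ∀ (n : ℕ) (y : Γ((Formal.completion J F).obj (op (n + s)), f ⁻¹ᵁ W)),
        ∃ x : Γ(F, f ⁻¹ᵁ W), (πc J F n).app (f ⁻¹ᵁ W) x =
          ((Formal.completion J F).map (homOfLE (Nat.le_add_right n s)).op).app (f ⁻¹ᵁ W) y := by
  haveI : IsAffine W.toScheme := hW
  haveI : IsNoetherianRing Γ(W.toScheme, ⊤) :=
    IsLocallyNoetherian.component_noetherian ⟨⊤, isAffineOpen_top _⟩
  letI iB : (f ⁻¹ᵁ W).toScheme.Over (Spec (CommRingCat.of Γ(W.toScheme, ⊤))) :=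
    ⟨(f ∣_ W) ≫ W.toScheme.isoSpec.hom⟩
  haveI : IsProper ((f ⁻¹ᵁ W).toScheme ↘ Spec (CommRingCat.of Γ(W.toScheme, ⊤))) := by
    change IsProper ((f ∣_ W) ≫ W.toScheme.isoSpec.hom)
    infer_instance
  let φ : A →+* Γ(W.toScheme, ⊤) := Coh.toGlobal (W.toScheme ↘ Spec (CommRingCat.of A))
  have hφ : ((f ⁻¹ᵁ W).toScheme ↘ Spec (CommRingCat.of Γ(W.toScheme, ⊤))) ≫
      Spec.map (CommRingCat.ofHom φ) = (f ⁻¹ᵁ W).toScheme ↘ Spec (CommRingCat.of A) := by
    change ((f ∣_ W) ≫ W.toScheme.toSpecΓ) ≫ Spec.map (CommRingCat.ofHom φ) =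
      (f ⁻¹ᵁ W).ι ≫ (X ↘ Spec (CommRingCat.of A))
    have h1 : W.toScheme.toSpecΓ ≫ Spec.map (CommRingCat.ofHom φ) =
        W.ι ≫ (Y ↘ Spec (CommRingCat.of A)) :=
      (eq_toSpecΓ_comp' (W.toScheme ↘ Spec (CommRingCat.of A))).symm
    rw [Category.assoc, h1, ← hf, ← Category.assoc, ← Category.assoc, morphismRestrict_ι]
  haveI := hF.1
  have hFV : Coh.IsCoh (F.restrict (f ⁻¹ᵁ W).ι) :=
    ⟨QC.qc_restrict _ F, QC.isFiniteType_restrict _ F hF.2⟩
  obtain ⟨s, ha, hb⟩ := ff_top (J.map φ) (F.restrict (f ⁻¹ᵁ W).ι) hFV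
  have hQ : ∀ n, IsQ ((J.map φ) ^ (n + 1))
      ((Scheme.Modules.restrictFunctor (f ⁻¹ᵁ W).ι).map (Formal.modPowπ J (n + 1) F)) := by
    intro n
    have h := (isQ_map_iff φ hφ (J ^ (n + 1)) _).2
      (isQ_restrict (f ⁻¹ᵁ W) (isQ_modPowπ J (n + 1) F))
    rw [Ideal.map_pow] at h
    exact h
  obtain ⟨Θ, hΘ⟩ := exists_iso_of_isQ_family
    (S := Formal.completion (J.map φ) (F.restrict (f ⁻¹ᵁ W).ι))
    (S' := Formal.completion J F ⋙ Scheme.Modules.restrictFunctor (f ⁻¹ᵁ W).ι)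
    (fun n => (J.map φ) ^ (n + 1))
    (fun n => Formal.modPowπ (J.map φ) (n + 1) (F.restrict (f ⁻¹ᵁ W).ι))
    (fun n => (Scheme.Modules.restrictFunctor (f ⁻¹ᵁ W).ι).map (Formal.modPowπ J (n + 1) F))
    (fun n => isQ_modPowπ _ _ _) hQ (fun n k h => π_completion_map _ _ h)
    (fun n k h => by
      rw [Functor.comp_map, ← Functor.map_comp]
      exact congrArg (fun χ => (Scheme.Modules.restrictFunctor (f ⁻¹ᵁ W).ι).map χ)
        (π_completion_map J F h))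
  have hle : (f ⁻¹ᵁ W).ι ''ᵁ ⊤ ≤ f ⁻¹ᵁ W := le_of_eq (Scheme.Opens.ι_image_top _)
  have hge : f ⁻¹ᵁ W ≤ (f ⁻¹ᵁ W).ι ''ᵁ ⊤ := le_of_eq (Scheme.Opens.ι_image_top _).symm
  refine ⟨s, fun n x hx => ?_, fun n y => ?_⟩
  · have h3 : (Formal.modPowπ J (n + s + 1) F).app ((f ⁻¹ᵁ W).ι ''ᵁ ⊤)
        (F.presheaf.map (homOfLE hle).op x) = 0 := by
      change (πc J F (n + s)).app _ (F.presheaf.map (homOfLE hle).op x) = 0
      rw [QC.app_res, hx, map_zero]
    have h2 : πc (J.map φ) (F.restrict (f ⁻¹ᵁ W).ι) (n + s) =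
        (Scheme.Modules.restrictFunctor (f ⁻¹ᵁ W).ι).map (Formal.modPowπ J (n + s + 1) F) ≫
          Θ.inv.app (op (n + s)) :=
      ((Iso.comp_inv_eq (Θ.app (op (n + s)))).2 (hΘ (n + s)).symm).symm
    have hx' : (πc (J.map φ) (F.restrict (f ⁻¹ᵁ W).ι) (n + s)).app ⊤
        (show Γ(F.restrict (f ⁻¹ᵁ W).ι, ⊤) from F.presheaf.map (homOfLE hle).op x) = 0 := by
      rw [h2]
      change (Θ.inv.app (op (n + s))).app ⊤ ((Formal.modPowπ J (n + s + 1) F).app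
        ((f ⁻¹ᵁ W).ι ''ᵁ ⊤) (F.presheaf.map (homOfLE hle).op x)) = 0
      rw [h3]
      exact map_zero _
    have h4 := ha n _ hx'
    have h5 : (show Γ(F.restrict (f ⁻¹ᵁ W).ι, ⊤) from F.presheaf.map (homOfLE hle).op x) ∈
        smulSub (J ^ (n + 1)) (F.restrict (f ⁻¹ᵁ W).ι) ⊤ := by
      have h := smulSub_map_le φ hφ (J ^ (n + 1)) (F.restrict (f ⁻¹ᵁ W).ι) ⊤
      rw [Ideal.map_pow] at h
      exact h h4
    have h6 := mem_smulSub_of_restrict (f ⁻¹ᵁ W) (J ^ (n + 1)) F ⊤ h5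
    have h7 := res_mem_smulSub hge h6
    have h8 : F.presheaf.map (homOfLE hge).op (F.presheaf.map (homOfLE hle).op x) = x := by
      rw [QC.res_res]
      exact QC.res_self F _ x
    rw [← h8]
    exact h7
  · -- Mittag-Leffler
    let y' : Γ((Formal.completion J F).obj (op (n + s)), (f ⁻¹ᵁ W).ι ''ᵁ ⊤) :=
      ((Formal.completion J F).obj (op (n + s))).presheaf.map (homOfLE hle).op y
    let y'' : Γ((Formal.completion (J.map φ) (F.restrict (f ⁻¹ᵁ W).ι)).obj (op (n + s)), ⊤) :=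
      (Θ.inv.app (op (n + s))).app ⊤ y'
    obtain ⟨x', hx'⟩ := hb n y''
    have e1 : (Θ.hom.app (op n)).app ⊤ ((πc (J.map φ) (F.restrict (f ⁻¹ᵁ W).ι) n).app ⊤ x') =
        (Formal.modPowπ J (n + 1) F).app ((f ⁻¹ᵁ W).ι ''ᵁ ⊤) x' :=
      congrArg (fun χ => (Scheme.Modules.Hom.app χ ⊤) x') (hΘ n)
    have e2 : (Θ.hom.app (op n)).app ⊤
        (((Formal.completion (J.map φ) (F.restrict (f ⁻¹ᵁ W).ι)).map
          (homOfLE (Nat.le_add_right n s)).op).app ⊤ y'') =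
        ((Formal.completion J F).map (homOfLE (Nat.le_add_right n s)).op).app
          ((f ⁻¹ᵁ W).ι ''ᵁ ⊤) ((Θ.hom.app (op (n + s))).app ⊤ y'') :=
      congrArg (fun χ => (Scheme.Modules.Hom.app χ ⊤) y'')
        (Θ.hom.naturality (homOfLE (Nat.le_add_right n s)).op)
    have e3 : (Θ.hom.app (op (n + s))).app ⊤ y'' = y' :=
      congrArg (fun χ => (Scheme.Modules.Hom.app χ ⊤) y') (Iso.inv_hom_id_app Θ (op (n + s)))
    have e4 : (Formal.modPowπ J (n + 1) F).app ((f ⁻¹ᵁ W).ι ''ᵁ ⊤) x' =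
        ((Formal.completion J F).map (homOfLE (Nat.le_add_right n s)).op).app
          ((f ⁻¹ᵁ W).ι ''ᵁ ⊤) y' := by
      rw [← e1, hx', e2, e3]
    refine ⟨F.presheaf.map (homOfLE hge).op x', ?_⟩
    change (Formal.modPowπ J (n + 1) F).app (f ⁻¹ᵁ W) (F.presheaf.map (homOfLE hge).op x') = _
    rw [QC.app_res, e4]
    have e6 : ((Formal.completion J F).obj (op (n + s))).presheaf.map (homOfLE hge).op y' = y := by
      change ((Formal.completion J F).obj (op (n + s))).presheaf.map (homOfLE hge).op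
        (((Formal.completion J F).obj (op (n + s))).presheaf.map (homOfLE hle).op y) = y
      rw [QC.res_res]
      exact QC.res_self _ _ y
    have e5 := QC.app_res ((Formal.completion J F).map (homOfLE (Nat.le_add_right n s)).op) hge y'
    exact e5.symm.trans (congrArg (fun z => ((Formal.completion J F).map
      (homOfLE (Nat.le_add_right n s)).op).app (f ⁻¹ᵁ W) z) e6)

end Groth.Agent.H2.GX
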