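import Groth.Agent.Lib.Helper2.GXRexC

/-!
# The tricky lemma of Grothendieck's existence theorem, part 4 (helper2)

Sections of fibre products; the system `E'_n = F_n / K F_n ×_{G_n / K G_n} G_n` attached to a
morphism of systems `α : F ⟶ G`, and the termwise epimorphism `F ⟶ E'` when `α` is termwise epi.
-/

set_option autoImplicit false
set_option linter.style.haveILetI false
set_option linter.unusedSectionVars false
universe u
open CategoryTheory Limits Opposite TopologicalSpace AlgebraicGeometry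

namespace Groth.Agent.H2.GX

open Groth.Agent.LD Groth.Agent.LD.QC Groth.Agent.H2.FormalQ Groth.Agent.H2.FormalEq
  Groth.Agent.LD.HF Groth.Agent.H2.AlgzExt Groth.Agent.LD.FF Groth.Agent.LD.GX Groth.Agent.LD.FK

variable {A : Type u} [CommRing A] {X : Scheme.{u}} [X.Over (Spec (CommRingCat.of A))]

/-- existence of sections of a fibre product. -/
lemma exists_pullback_section {M N Z : X.Modules} (f : M ⟶ Z) (g : N ⟶ Z) (U : X.Opens)
    (a : Γ(M, U)) (b : Γ(N, U)) (h : f.app U a = g.app U b) :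
    ∃ t : Γ(pullback f g, U), (pullback.fst f g).app U t = a ∧ (pullback.snd f g).app U t = b := by
  let d : M ⊞ N ⟶ Z := biprod.fst ≫ f - biprod.snd ≫ g
  let s : Γ(M ⊞ N, U) := (biprod.inl : M ⟶ M ⊞ N).app U a + (biprod.inr : N ⟶ M ⊞ N).app U b
  have hfst : (biprod.fst : M ⊞ N ⟶ M).app U s = a := by
    have h1 : (biprod.fst : M ⊞ N ⟶ M).app U ((biprod.inl : M ⟶ M ⊞ N).app U a) = a :=
      congrArg (fun ψ => (Scheme.Modules.Hom.app ψ U) a)
        (biprod.inl_fst : (biprod.inl : M ⟶ M ⊞ N) ≫ biprod.fst = 𝟙 M)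
    have h2 : (biprod.fst : M ⊞ N ⟶ M).app U ((biprod.inr : N ⟶ M ⊞ N).app U b) = 0 :=
      congrArg (fun ψ => (Scheme.Modules.Hom.app ψ U) b)
        (biprod.inr_fst : (biprod.inr : N ⟶ M ⊞ N) ≫ biprod.fst = 0)
    change (biprod.fst : M ⊞ N ⟶ M).app U ((biprod.inl : M ⟶ M ⊞ N).app U a +
      (biprod.inr : N ⟶ M ⊞ N).app U b) = a
    rw [map_add, h1, h2, add_zero]
  have hsnd : (biprod.snd : M ⊞ N ⟶ N).app U s = b := by
    have h1 : (biprod.snd : M ⊞ N ⟶ N).app U ((biprod.inl : M ⟶ M ⊞ N).app U a) = 0 :=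
      congrArg (fun ψ => (Scheme.Modules.Hom.app ψ U) a)
        (biprod.inl_snd : (biprod.inl : M ⟶ M ⊞ N) ≫ biprod.snd = 0)
    have h2 : (biprod.snd : M ⊞ N ⟶ N).app U ((biprod.inr : N ⟶ M ⊞ N).app U b) = b :=
      congrArg (fun ψ => (Scheme.Modules.Hom.app ψ U) b)
        (biprod.inr_snd : (biprod.inr : N ⟶ M ⊞ N) ≫ biprod.snd = 𝟙 N)
    change (biprod.snd : M ⊞ N ⟶ N).app U ((biprod.inl : M ⟶ M ⊞ N).app U a +
      (biprod.inr : N ⟶ M ⊞ N).app U b) = b
    rw [map_add, h1, h2, zero_add]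
  have hd : d.app U s = 0 := by
    have e : d.app U s = f.app U ((biprod.fst : M ⊞ N ⟶ M).app U s) -
        g.app U ((biprod.snd : M ⊞ N ⟶ N).app U s) := rfl
    rw [e, hfst, hsnd, h, sub_self]
  obtain ⟨t₀, ht₀⟩ := exists_kernel_section d U s hd
  have hc : (kernel.ι d ≫ biprod.fst) ≫ f = (kernel.ι d ≫ biprod.snd) ≫ g := by
    have := kernel.condition d
    rw [Preadditive.comp_sub, sub_eq_zero] at this
    rw [Category.assoc, Category.assoc]
    exact this
  refine ⟨(pullback.lift (kernel.ι d ≫ biprod.fst) (kernel.ι d ≫ biprod.snd) hc).app U t₀, ?_, ?_⟩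
  · have e1 : (pullback.fst f g).app U
        ((pullback.lift (kernel.ι d ≫ biprod.fst) (kernel.ι d ≫ biprod.snd) hc).app U t₀) =
        (biprod.fst : M ⊞ N ⟶ M).app U ((kernel.ι d).app U t₀) :=
      congrArg (fun ψ => (Scheme.Modules.Hom.app ψ U) t₀) (pullback.lift_fst _ _ hc)
    rw [e1, ht₀, hfst]
  · have e1 : (pullback.snd f g).app U
        ((pullback.lift (kernel.ι d ≫ biprod.fst) (kernel.ι d ≫ biprod.snd) hc).app U t₀) =
        (biprod.snd : M ⊞ N ⟶ N).app U ((kernel.ι d).app U t₀) :=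
      congrArg (fun ψ => (Scheme.Modules.Hom.app ψ U) t₀) (pullback.lift_snd _ _ hc)
    rw [e1, ht₀, hsnd]

section Esys

variable (K : X.IdealSheafData) {F G : ℕᵒᵖ ⥤ X.Modules} (α : F ⟶ G)

/-- the system `F_n / K F_n ×_{G_n / K G_n} G_n`. -/
noncomputable def Esys : ℕᵒᵖ ⥤ X.Modules where
  obj n := pullback (qKmap K (α.app n)) (πK K (G.obj n))
  map {n m} f := pullback.lift (pullback.fst _ _ ≫ qKmap K (F.map f)) (pullback.snd _ _ ≫ G.map f)
    (by rw [Category.assoc, Category.assoc, ← qKmap_comp, α.naturality, qKmap_comp,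
      pullback.condition_assoc, πK_nat])
  map_id n := by
    apply pullback.hom_ext <;> simp [qKmap_id]
  map_comp f g := by
    apply pullback.hom_ext
    · refine (pullback.lift_fst _ _ _).trans ?_
      refine Eq.trans ?_ (Category.assoc _ _ _).symm
      rw [pullback.lift_fst, pullback.lift_fst_assoc, F.map_comp, qKmap_comp]
      exact (Category.assoc _ _ _).symm
    · refine (pullback.lift_snd _ _ _).trans ?_
      refine Eq.trans ?_ (Category.assoc _ _ _).symm
      rw [pullback.lift_snd, pullback.lift_snd_assoc, G.map_comp]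
      exact (Category.assoc _ _ _).symm

/-- the first projection of `Esys`. -/
noncomputable def Efst (n : ℕᵒᵖ) : (Esys K α).obj n ⟶ qK K (F.obj n) :=
  pullback.fst (qKmap K (α.app n)) (πK K (G.obj n))

/-- the second projection of `Esys`. -/
noncomputable def Esnd (n : ℕᵒᵖ) : (Esys K α).obj n ⟶ G.obj n :=
  pullback.snd (qKmap K (α.app n)) (πK K (G.obj n))

lemma Econd (n : ℕᵒᵖ) : Efst K α n ≫ qKmap K (α.app n) = Esnd K α n ≫ πK K (G.obj n) :=
  pullback.condition

@[reassoc]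
lemma Esys_map_fst {n m : ℕᵒᵖ} (f : n ⟶ m) :
    (Esys K α).map f ≫ Efst K α m = Efst K α n ≫ qKmap K (F.map f) :=
  pullback.lift_fst _ _ _

@[reassoc]
lemma Esys_map_snd {n m : ℕᵒᵖ} (f : n ⟶ m) :
    (Esys K α).map f ≫ Esnd K α m = Esnd K α n ≫ G.map f :=
  pullback.lift_snd _ _ _

lemma Esys_hom_ext {n : ℕᵒᵖ} {W : X.Modules} (a b : W ⟶ (Esys K α).obj n)
    (h1 : a ≫ Efst K α n = b ≫ Efst K α n) (h2 : a ≫ Esnd K α n = b ≫ Esnd K α n) : a = b :=
  pullback.hom_ext h1 h2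

/-- lifting to `Esys`. -/
noncomputable def Elift (n : ℕᵒᵖ) {W : X.Modules} (a : W ⟶ qK K (F.obj n)) (b : W ⟶ G.obj n)
    (h : a ≫ qKmap K (α.app n) = b ≫ πK K (G.obj n)) : W ⟶ (Esys K α).obj n :=
  pullback.lift a b h

@[reassoc]
lemma Elift_fst (n : ℕᵒᵖ) {W : X.Modules} (a : W ⟶ qK K (F.obj n)) (b : W ⟶ G.obj n)
    (h : a ≫ qKmap K (α.app n) = b ≫ πK K (G.obj n)) : Elift K α n a b h ≫ Efst K α n = a :=
  pullback.lift_fst _ _ _

@[reassoc]
lemma Elift_snd (n : ℕᵒᵖ) {W : X.Modules} (a : W ⟶ qK K (F.obj n)) (b : W ⟶ G.obj n)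
    (h : a ≫ qKmap K (α.app n) = b ≫ πK K (G.obj n)) : Elift K α n a b h ≫ Esnd K α n = b :=
  pullback.lift_snd _ _ _

/-- the canonical morphism `F ⟶ Esys`. -/
noncomputable def θsys : F ⟶ Esys K α where
  app n := Elift K α n (πK K (F.obj n)) (α.app n) (πK_nat K (α.app n)).symm
  naturality n m f := by
    apply Esys_hom_ext
    · rw [Category.assoc, Elift_fst, Category.assoc, Esys_map_fst, Elift_fst_assoc, πK_nat]
    · rw [Category.assoc, Elift_snd, Category.assoc, Esys_map_snd, Elift_snd_assoc, α.naturality]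

@[reassoc]
lemma θsys_fst (n : ℕᵒᵖ) : (θsys K α).app n ≫ Efst K α n = πK K (F.obj n) := Elift_fst _ _ _ _ _ _

@[reassoc]
lemma θsys_snd (n : ℕᵒᵖ) : (θsys K α).app n ≫ Esnd K α n = α.app n := Elift_snd _ _ _ _ _ _

lemma qc_Esys (n : ℕᵒᵖ) (hF : (F.obj n).IsQuasicoherent) (hG : (G.obj n).IsQuasicoherent) :
    ((Esys K α).obj n).IsQuasicoherent := by
  haveI := hF
  haveI := hG
  exact qc_pullback' _ _ (qc_qK K _) hG (qc_qK K _)

lemma killedBy_Esys {J : Ideal A} (n : ℕᵒᵖ) (hFq : (F.obj n).IsQuasicoherent)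
    (hF : Formal.KilledBy J (F.obj n)) (hG : Formal.KilledBy J (G.obj n)) :
    Formal.KilledBy J ((Esys K α).obj n) := by
  haveI := hFq
  intro b hb
  apply Esys_hom_ext
  · rw [zero_comp, ← comp_smulMod, killedBy_qK K hF b hb, comp_zero]
  · rw [zero_comp, ← comp_smulMod, hG b hb, comp_zero]

end Esys

/-- for an epimorphism `a : M ⟶ N` of quasi-coherent modules, `M ⟶ M / K M ×_{N / K N} N` is an
epimorphism. -/
lemma epi_lift_πK (K : X.IdealSheafData) {M N : X.Modules} [M.IsQuasicoherent]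
    [N.IsQuasicoherent] (a : M ⟶ N) [Epi a] :
    Epi (pullback.lift (πK K M) a (πK_nat K a).symm) := by
  apply epi_of_local_lift
  intro W t x hx
  obtain ⟨V, hV, hxV, hVW⟩ := exists_isAffineOpen_mem_and_subset (x := x) (U := W) hx
  refine ⟨V, hVW, hxV, ?_⟩
  suffices key : ∀ t' : Γ(pullback (qKmap K a) (πK K N), V), ∃ g : Γ(M, V),
      (pullback.lift (πK K M) a (πK_nat K a).symm).app V g = t' from key _
  intro t'
  obtain ⟨f₀, hf₀⟩ := πK_app_surjective K M hV ((pullback.fst (qKmap K a) (πK K N)).app V t')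
  have hcond : (qKmap K a).app V ((pullback.fst (qKmap K a) (πK K N)).app V t') =
      (πK K N).app V ((pullback.snd (qKmap K a) (πK K N)).app V t') :=
    congrArg (fun ψ => (Scheme.Modules.Hom.app ψ V) t') pullback.condition
  have hnat : (πK K N).app V (a.app V f₀) = (qKmap K a).app V ((πK K M).app V f₀) :=
    congrArg (fun ψ => (Scheme.Modules.Hom.app ψ V) f₀) (πK_nat K a)
  have h1 : (πK K N).app V (a.app V f₀ - (pullback.snd (qKmap K a) (πK K N)).app V t') = 0 := by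
    rw [map_sub, ← hcond, hnat, hf₀, sub_self]
  have h2 := (πK_app_eq_zero_iff K N hV _).1 h1
  have hsurj : Function.Surjective (appLinear a V) :=
    QC.epi_app_affine inferInstance inferInstance a hV
  have hmap : (K.ideal ⟨V, hV⟩ • ⊤ : Submodule Γ(X, V) Γ(N, V)) =
      Submodule.map (appLinear a V) (K.ideal ⟨V, hV⟩ • ⊤) := by
    rw [Submodule.map_smul'', Submodule.map_top, LinearMap.range_eq_top.2 hsurj]
  rw [hmap] at h2
  obtain ⟨f₁, hf₁, hf₁a⟩ := h2
  have hf₁a' : a.app V f₁ = a.app V f₀ - (pullback.snd (qKmap K a) (πK K N)).app V t' := hf₁a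
  refine ⟨f₀ - f₁, ?_⟩
  apply pullback_sec_ext
  · have e1 : (pullback.fst (qKmap K a) (πK K N)).app V
        ((pullback.lift (πK K M) a (πK_nat K a).symm).app V (f₀ - f₁)) =
        (πK K M).app V (f₀ - f₁) :=
      congrArg (fun ψ => (Scheme.Modules.Hom.app ψ V) (f₀ - f₁)) (pullback.lift_fst _ _ _)
    rw [e1, map_sub, (πK_app_eq_zero_iff K M hV f₁).2 hf₁, sub_zero, hf₀]
  · have e2 : (pullback.snd (qKmap K a) (πK K N)).app V
        ((pullback.lift (πK K M) a (πK_nat K a).symm).app V (f₀ - f₁)) = a.app V (f₀ - f₁) :=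
      congrArg (fun ψ => (Scheme.Modules.Hom.app ψ V) (f₀ - f₁)) (pullback.lift_snd _ _ _)
    rw [e2, map_sub, hf₁a', sub_sub_cancel]

end Groth.Agent.H2.GX
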