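import Groth.Prelude.Def_Algz
import Groth.Agent.Lib.Helper2.FormalQ3

/-!
# Strict pro-isomorphisms of inverse systems in an abelian category (helper2)

A morphism of systems `φ : S ⟶ E` is a strict pro-isomorphism of shift `s` if it is termwise an
epimorphism and the kernel of `φ_{n+s}` dies in `S_n`.  Such a morphism has a pro-inverse
`r_n : E_{n+s} ⟶ S_n`, and two systems mapping by strict pro-isomorphisms to the same system are
pro-isomorphic.
-/

set_option autoImplicit false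
universe v u
open CategoryTheory Limits Opposite

namespace Groth.Agent.H2.GX

variable {C : Type u} [Category.{v} C] [Abelian C]

/-- `φ` is termwise epi and the kernel of `φ_{n+s}` dies in `S_n`. -/
structure StrictProIso {S E : ℕᵒᵖ ⥤ C} (φ : S ⟶ E) (s : ℕ) : Prop where
  epi : ∀ n : ℕ, Epi (φ.app (op n))
  ker : ∀ n : ℕ, kernel.ι (φ.app (op (n + s))) ≫ ARSys.tr S (Nat.le_add_right n s) = 0

lemma tr_tr (S : ℕᵒᵖ ⥤ C) {n m k : ℕ} (h : n ≤ m) (h' : m ≤ k) :
    ARSys.tr S h' ≫ ARSys.tr S h = ARSys.tr S (h.trans h') := by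
  unfold ARSys.tr
  rw [← S.map_comp]
  rfl

@[reassoc]
lemma tr_nat {S E : ℕᵒᵖ ⥤ C} (φ : S ⟶ E) {n k : ℕ} (h : n ≤ k) :
    ARSys.tr S h ≫ φ.app (op n) = φ.app (op k) ≫ ARSys.tr E h :=
  φ.naturality (homOfLE h).op

namespace StrictProIso

variable {S E : ℕᵒᵖ ⥤ C} {φ : S ⟶ E} {s : ℕ} (h : StrictProIso φ s)

/-- the pro-inverse `E_{n+s} ⟶ S_n`. -/
noncomputable def r (n : ℕ) : E.obj (op (n + s)) ⟶ S.obj (op n) :=
  haveI := h.epi (n + s)
  Abelian.epiDesc (φ.app (op (n + s))) (ARSys.tr S (Nat.le_add_right n s)) (h.ker n)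

@[reassoc]
lemma φ_r (n : ℕ) : φ.app (op (n + s)) ≫ h.r n = ARSys.tr S (Nat.le_add_right n s) := by
  haveI := h.epi (n + s)
  exact Abelian.comp_epiDesc _ _ _

@[reassoc]
lemma r_φ (n : ℕ) : h.r n ≫ φ.app (op n) = ARSys.tr E (Nat.le_add_right n s) := by
  haveI := h.epi (n + s)
  rw [← cancel_epi (φ.app (op (n + s))), ← Category.assoc, h.φ_r n]
  exact tr_nat φ _

lemma epi_r (n : ℕ) (hS : Epi (ARSys.tr S (Nat.le_add_right n s))) : Epi (h.r n) := by
  have : Epi (φ.app (op (n + s)) ≫ h.r n) := by rw [h.φ_r n]; exact hS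
  exact epi_of_epi (φ.app (op (n + s))) _

lemma r_nat {n k : ℕ} (hnk : n ≤ k) :
    ARSys.tr E (Nat.add_le_add_right hnk s) ≫ h.r n = h.r k ≫ ARSys.tr S hnk := by
  haveI := h.epi (k + s)
  rw [← cancel_epi (φ.app (op (k + s))), ← Category.assoc, ← tr_nat φ, Category.assoc, h.φ_r n,
    ← Category.assoc, h.φ_r k, tr_tr, tr_tr]

end StrictProIso

/-- two systems mapping by strict pro-isomorphisms to the same system are pro-isomorphic. -/
theorem isProIsomorphic_of_strict {S T E : ℕᵒᵖ ⥤ C} {φ : S ⟶ E} {ψ : T ⟶ E} {s s' : ℕ}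
    (hφ : StrictProIso φ s) (hψ : StrictProIso ψ s') : Algz.IsProIsomorphic S T := by
  have hm : Monotone (fun n : ℕ => n + s') := fun _ _ h => Nat.add_le_add_right h s'
  have key : ∀ (n k : ℕ) (hnk : n ≤ k),
      ARSys.tr S (Nat.add_le_add_right hnk s') ≫ (φ.app (op (n + s')) ≫ hψ.r n) =
        (φ.app (op (k + s')) ≫ hψ.r k) ≫ ARSys.tr T hnk := by
    intro n k hnk
    rw [← Category.assoc, tr_nat φ, Category.assoc, Category.assoc]
    congr 1
    exact hψ.r_nat hnk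
  let a : DerCA.reindex S hm ⟶ T :=
    Groth.Agent.H2.FormalQ.natTransOfTr (F := DerCA.reindex S hm) (G := T)
      (fun n => φ.app (op (n + s')) ≫ hψ.r n) (fun n k hnk => key n k hnk)
  have e1 : ∀ n : ℕ, (φ.app (op (n + s' + s + s')) ≫ hψ.r (n + s' + s)) ≫
      (ψ.app (op (n + s' + s)) ≫ hφ.r (n + s')) =
        ARSys.tr S (Nat.add_le_add_right
          ((Nat.le_add_right n s').trans (Nat.le_add_right (n + s') s)) s') := by
    intro n
    rw [Category.assoc, hψ.r_φ_assoc, ← tr_nat_assoc φ, hφ.φ_r, tr_tr]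
  have e2 : ∀ n : ℕ, (ψ.app (op (n + s' + s)) ≫ hφ.r (n + s')) ≫
      (φ.app (op (n + s')) ≫ hψ.r n) =
        ARSys.tr T ((Nat.le_add_right n s').trans (Nat.le_add_right (n + s') s)) := by
    intro n
    rw [Category.assoc, hφ.r_φ_assoc, ← tr_nat_assoc ψ, hψ.φ_r, tr_tr]
  refine ⟨fun n => n + s', hm, fun n => Nat.le_add_right n s', a, fun n => ?_⟩
  exact ⟨n + s' + s, (Nat.le_add_right n s').trans (Nat.le_add_right _ s),
    ψ.app (op (n + s' + s)) ≫ hφ.r (n + s'), e1 n, e2 n⟩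

end Groth.Agent.H2.GX
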