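import Groth.Agent.Lib.Lead.QC.ClosedUnit
import Groth.Agent.Lib.Lead.QC.SerreSupp
import Groth.Agent.Lib.Lead.QC.Push
import Groth.Agent.Lib.Lead.PS.FormalClosed
import Groth.Agent.Lib.Lead.QC.EpiLocal
import Groth.Prelude.Def_ClSub2

/-!
# The quotient `M / K M` of a module by a quasi-coherent ideal sheaf (helper2)

`qK K M = i_* i^* M` for the closed immersion `i : V(K) ⟶ X`, with the unit `πK K M : M ⟶ qK K M`.
For quasi-coherent `M` the unit is surjective on sections over affine opens with kernel `K(U) M(U)`,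
and `qK K M` is the universal quotient of `M` killed by `K`.
-/

set_option autoImplicit false
set_option linter.style.haveILetI false
universe u
open CategoryTheory Limits Opposite TopologicalSpace AlgebraicGeometry

namespace Groth.Agent.H2.GX

open Groth.Agent.LD Groth.Agent.LD.QC

variable {X : Scheme.{u}} (K : X.IdealSheafData)

/-- `M / K M`, as `i_* i^* M`. -/
noncomputable def qK (M : X.Modules) : X.Modules :=
  (Scheme.Modules.pushforward K.subschemeι).obj ((Scheme.Modules.pullback K.subschemeι).obj M)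

/-- the projection `M ⟶ M / K M`. -/
noncomputable def πK (M : X.Modules) : M ⟶ qK K M :=
  (Scheme.Modules.pullbackPushforwardAdjunction K.subschemeι).unit.app M

/-- functoriality of `M / K M`. -/
noncomputable def qKmap {M N : X.Modules} (f : M ⟶ N) : qK K M ⟶ qK K N :=
  (Scheme.Modules.pushforward K.subschemeι).map ((Scheme.Modules.pullback K.subschemeι).map f)

@[reassoc]
lemma πK_nat {M N : X.Modules} (f : M ⟶ N) : f ≫ πK K N = πK K M ≫ qKmap K f :=
  (Scheme.Modules.pullbackPushforwardAdjunction K.subschemeι).unit.naturality f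

lemma qKmap_id (M : X.Modules) : qKmap K (𝟙 M) = 𝟙 _ :=
  (congrArg (Scheme.Modules.pushforward K.subschemeι).map
    ((Scheme.Modules.pullback K.subschemeι).map_id M)).trans
    ((Scheme.Modules.pushforward K.subschemeι).map_id _)

lemma qKmap_comp {M N P : X.Modules} (f : M ⟶ N) (g : N ⟶ P) :
    qKmap K (f ≫ g) = qKmap K f ≫ qKmap K g :=
  (congrArg (Scheme.Modules.pushforward K.subschemeι).map
    ((Scheme.Modules.pullback K.subschemeι).map_comp f g)).trans
    ((Scheme.Modules.pushforward K.subschemeι).map_comp _ _)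

section Sections

variable (M : X.Modules) [M.IsQuasicoherent] {U : X.Opens} (hU : IsAffineOpen U)

include hU in
lemma πK_app_surjective : Function.Surjective ((πK K M).app U) :=
  (unitSec_closedImmersion K.subschemeι M hU).1

include hU in
lemma πK_app_eq_zero_iff (x : Γ(M, U)) :
    (πK K M).app U x = 0 ↔ x ∈ (K.ideal ⟨U, hU⟩ • ⊤ : Submodule Γ(X, U) Γ(M, U)) := by
  have e : K.subschemeι ⁻¹ᵁ U ≤ K.subschemeι ⁻¹ᵁ U := le_rfl
  have hU' : IsAffineOpen (K.subschemeι ⁻¹ᵁ U) := hU.preimage K.subschemeι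
  letI := (K.subschemeι.appLE U (K.subschemeι ⁻¹ᵁ U) e).hom.toAlgebra
  letI := pbModule K.subschemeι M e
  haveI := pbModule_isScalarTower K.subschemeι M e
  have hbc : IsBaseChange Γ(K.subscheme, K.subschemeι ⁻¹ᵁ U) (pbSecₗ K.subschemeι M e) :=
    isBaseChange_pbSec K.subschemeι hU' hU e M
  have happ : K.subschemeι.appLE U (K.subschemeι ⁻¹ᵁ U) e = K.subschemeι.app U :=
    (Scheme.Hom.app_eq_appLE K.subschemeι).symm
  have hs : Function.Surjective
      (algebraMap Γ(X, U) Γ(K.subscheme, K.subschemeι ⁻¹ᵁ U)) := by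
    change Function.Surjective (K.subschemeι.appLE U (K.subschemeι ⁻¹ᵁ U) e).hom
    rw [happ]
    exact K.subschemeι_app_surjective ⟨U, hU⟩
  have hker : RingHom.ker (algebraMap Γ(X, U) Γ(K.subscheme, K.subschemeι ⁻¹ᵁ U)) =
      K.ideal ⟨U, hU⟩ := by
    change RingHom.ker (K.subschemeι.appLE U (K.subschemeι ⁻¹ᵁ U) e).hom = _
    rw [happ]
    exact K.ker_subschemeι_app ⟨U, hU⟩
  have hfun : ∀ m : Γ(M, U), pbSecₗ K.subschemeι M e m = (πK K M).app U m := by
    intro m
    change pbSec K.subschemeι M e m = _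
    rw [pbSec, res_self]
    rfl
  have hk := isBaseChange_ker_of_surjective hbc hs
  rw [hker] at hk
  rw [← hk, LinearMap.mem_ker]
  exact ⟨fun h => (hfun x).trans h, fun h => (hfun x).symm.trans h⟩

end Sections

/-- `M / K M` is quasi-coherent. -/
lemma qc_qK (M : X.Modules) [M.IsQuasicoherent] : (qK K M).IsQuasicoherent := by
  haveI := qc_pullback K.subschemeι M
  exact qc_pushforward K.subschemeι _

instance epi_πK (M : X.Modules) [M.IsQuasicoherent] : Epi (πK K M) := by
  apply epi_of_local_lift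
  intro W t x hx
  obtain ⟨V, hV, hxV, hVW⟩ := exists_isAffineOpen_mem_and_subset (x := x) (U := W) hx
  obtain ⟨g, hg⟩ := πK_app_surjective K M hV ((qK K M).presheaf.map (homOfLE hVW).op t)
  exact ⟨V, hVW, hxV, g, hg⟩

/-- `M / K M` is coherent when `M` is. -/
lemma isCoh_qK {M : X.Modules} (hM : Coh.IsCoh M) : Coh.IsCoh (qK K M) := by
  haveI := hM.1
  exact ⟨qc_qK K M, isFiniteType_of_epi (πK K M) hM.1 (qc_qK K M) hM.2⟩

/-- `M / K M` is killed by `K`. -/
lemma killedByIdeal_qK (M : X.Modules) [M.IsQuasicoherent] : ClSub.KilledByIdeal K (qK K M) := by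
  intro U a ha m
  obtain ⟨x, rfl⟩ := πK_app_surjective K M U.2 m
  have h1 : a • (πK K M).app U.1 x = (πK K M).app U.1 (a • x) :=
    (Scheme.Modules.Hom.app_smul (πK K M) a x).symm
  exact h1.trans ((πK_app_eq_zero_iff K M U.2 (a • x)).2
    (Submodule.smul_mem_smul ha Submodule.mem_top))

/-- for quasi-coherent `Z` killed by `K`, the projection `Z ⟶ Z / K Z` is an isomorphism. -/
lemma isIso_πK_of_killedByIdeal (Z : X.Modules) [Z.IsQuasicoherent]
    (hZ : ClSub.KilledByIdeal K Z) : IsIso (πK K Z) := by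
  refine (isIso_unit_closedImmersion_iff K.subschemeι Z).2 (fun U a ha s => ?_)
  rw [Scheme.IdealSheafData.ker_subschemeι] at ha
  exact hZ U a ha s

/-- the universal property of `M / K M`. -/
lemma exists_qK_desc {M Z : X.Modules} [M.IsQuasicoherent] [Z.IsQuasicoherent]
    (hZ : ClSub.KilledByIdeal K Z) (g : M ⟶ Z) : ∃ g' : qK K M ⟶ Z, πK K M ≫ g' = g := by
  haveI := isIso_πK_of_killedByIdeal K Z hZ
  exact ⟨qKmap K g ≫ inv (πK K Z), by rw [← Category.assoc, ← πK_nat, Category.assoc,
    IsIso.hom_inv_id, Category.comp_id]⟩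

instance epi_qKmap {M N : X.Modules} [M.IsQuasicoherent] [N.IsQuasicoherent] (f : M ⟶ N)
    [Epi f] : Epi (qKmap K f) := by
  have : Epi (πK K M ≫ qKmap K f) := by
    rw [← πK_nat]
    exact epi_comp _ _
  exact epi_of_epi (πK K M) _

/-- a submodule of a module killed by `K` is killed by `K`. -/
lemma killedByIdeal_of_mono {M N : X.Modules} (i : M ⟶ N) [Mono i]
    (h : ClSub.KilledByIdeal K N) : ClSub.KilledByIdeal K M := by
  intro U a ha m
  apply mono_app i U.1
  have h1 : i.app U.1 (a • m) = a • i.app U.1 m := Scheme.Modules.Hom.app_smul i a m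
  exact h1.trans ((h U a ha (i.app U.1 m)).trans (map_zero _).symm)

/-- a quasi-coherent quotient, with quasi-coherent kernel, of a module killed by `K` is killed by
`K`. -/
lemma killedByIdeal_of_epi {M N : X.Modules} (p : M ⟶ N) [Epi p]
    (hk : (kernel p).IsQuasicoherent) (h : ClSub.KilledByIdeal K M) :
    ClSub.KilledByIdeal K N := by
  intro U a ha m
  obtain ⟨x, rfl⟩ := Groth.Agent.LD.PS.app_surjective_of_epi p hk U.2 m
  have h1 : a • p.app U.1 x = p.app U.1 (a • x) := (Scheme.Modules.Hom.app_smul p a x).symm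
  exact h1.trans ((congrArg (fun y => p.app U.1 y) (h U a ha x)).trans (map_zero _))

lemma killedByIdeal_of_iso {M N : X.Modules} (e : M ≅ N) (h : ClSub.KilledByIdeal K M) :
    ClSub.KilledByIdeal K N :=
  killedByIdeal_of_mono K e.inv h

lemma killedByIdeal_of_le {K K' : X.IdealSheafData} (hle : K' ≤ K) {M : X.Modules}
    (h : ClSub.KilledByIdeal K M) : ClSub.KilledByIdeal K' M :=
  fun U a ha m => h U a (hle U ha) m

end Groth.Agent.H2.GX
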