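import Groth.Agent.Lib.Lead.FK.Glue2
import Groth.Agent.Lib.Helper2.GXProA
import Groth.Agent.Lib.Helper2.GXSecA
import Groth.Agent.Lib.Helper2.GXAlgA
import Groth.Agent.Lib.Helper2.FormalQ4

/-!
# The tricky lemma of Grothendieck's existence theorem, part 1 (helper2)

Right exactness of `M ↦ M / I^n M`, Artin–Rees for a coherent module embedded in a product of two
coherent modules, and the reduction to a termwise epimorphism `F ⟶ (H')^`.
-/

set_option autoImplicit false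
set_option linter.style.haveILetI false
universe u
open CategoryTheory Limits Opposite TopologicalSpace AlgebraicGeometry

namespace Groth.Agent.H2.GX

open Groth.Agent.LD Groth.Agent.LD.QC Groth.Agent.H2.FormalQ Groth.Agent.H2.FormalEq
  Groth.Agent.LD.HF Groth.Agent.H2.AlgzExt Groth.Agent.LD.FF Groth.Agent.LD.GX

variable {A : Type u} [CommRing A] {X : Scheme.{u}} [X.Over (Spec (CommRingCat.of A))]

/-- the fibre product of quasi-coherent modules is quasi-coherent. -/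
lemma qc_pullback' {M N Z : X.Modules} (f : M ⟶ Z) (g : N ⟶ Z) (hM : M.IsQuasicoherent)
    (hN : N.IsQuasicoherent) (hZ : Z.IsQuasicoherent) : (pullback f g).IsQuasicoherent := by
  apply QC.qc_limit (cospan f g)
  rintro (_ | _ | _)
  · exact hZ
  · exact hM
  · exact hN

lemma biprod_lift_app {M P H : X.Modules} (m₁ : M ⟶ P) (m₂ : M ⟶ H) (U : X.Opens)
    (y : Γ(M, U)) : (biprod.lift m₁ m₂).app U y =
      (biprod.inl : P ⟶ P ⊞ H).app U (m₁.app U y) +
      (biprod.inr : H ⟶ P ⊞ H).app U (m₂.app U y) := by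
  have e : biprod.lift m₁ m₂ = m₁ ≫ biprod.inl + m₂ ≫ biprod.inr := by
    apply biprod.hom_ext <;> simp
  rw [e]
  rfl

/-- quotient by `J` is right exact. -/
lemma epi_kernel_lift_of_isQ (J : Ideal A) {H B Q' Q QB : X.Modules} (q : H ⟶ B) [Epi q]
    {p : H ⟶ Q} {pB : B ⟶ QB} (hp : IsQ J p) (hpB : IsQ J pB) (p' : kernel q ⟶ Q')
    (ιb : Q' ⟶ Q) (qb : Q ⟶ QB) (h1 : p' ≫ ιb = kernel.ι q ≫ p) (h2 : p ≫ qb = q ≫ pB)
    (w : ιb ≫ qb = 0) : Epi (kernel.lift qb ιb w) := by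
  haveI := hp.epi
  haveI := hpB.epi
  haveI : Epi qb := by
    have : Epi (p ≫ qb) := by rw [h2]; exact epi_comp _ _
    exact epi_of_epi p qb
  obtain ⟨-, hpk, -⟩ := (isQ_iff J p).1 hp
  obtain ⟨-, -, hBu⟩ := (isQ_iff J pB).1 hpB
  have key : ∀ {Z : X.Modules} (g : Q ⟶ Z), ιb ≫ g = 0 → ∃ g₂ : QB ⟶ Z, qb ≫ g₂ = g := by
    intro Z g hg
    have h0 : kernel.ι q ≫ (p ≫ g) = 0 := by
      rw [← Category.assoc, ← h1, Category.assoc, hg, comp_zero]
    have hg₁ : q ≫ Abelian.epiDesc q (p ≫ g) h0 = p ≫ g := Abelian.comp_epiDesc _ _ _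
    obtain ⟨g₂, hg₂⟩ := hBu (Abelian.epiDesc q (p ≫ g) h0) (fun b hb => by
      rw [← cancel_epi q, comp_zero, ← Category.assoc, comp_smulMod, Category.assoc, hg₁,
        ← Category.assoc, hpk b hb, zero_comp])
    refine ⟨g₂, ?_⟩
    rw [← cancel_epi p, ← Category.assoc, h2, Category.assoc, hg₂, hg₁]
  let S : ShortComplex X.Modules := ShortComplex.mk ιb qb w
  have hS : S.Exact := by
    apply ShortComplex.exact_of_g_is_cokernel
    exact CokernelCofork.IsColimit.ofπ _ _ (fun {Z'} g hg => (key g hg).choose)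
      (fun {Z'} g hg => (key g hg).choose_spec)
      (fun {Z'} g hg m hm => by
        rw [← cancel_epi qb]
        exact hm.trans (key g hg).choose_spec.symm)
  exact (S.exact_iff_epi_kernel_lift).1 hS

/-- the lift to the kernel is unchanged, up to an isomorphism, by composing with a
monomorphism. -/
lemma epi_kernel_lift_comp_mono {C : Type*} [Category C] [Abelian C] {P Y Z W : C} (f : P ⟶ Y)
    (g : Y ⟶ Z) (m : Z ⟶ W) [Mono m] (w : f ≫ g = 0) (w' : f ≫ g ≫ m = 0)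
    (h : Epi (kernel.lift g f w)) : Epi (kernel.lift (g ≫ m) f w') := by
  have h1 : kernel.ι g ≫ g ≫ m = 0 := by rw [← Category.assoc, kernel.condition, zero_comp]
  have h2 : kernel.ι (g ≫ m) ≫ g = 0 := by
    rw [← cancel_mono m, Category.assoc, kernel.condition, zero_comp]
  have h3 : kernel.lift g (kernel.ι (g ≫ m)) h2 ≫ kernel.lift (g ≫ m) (kernel.ι g) h1 = 𝟙 _ := by
    rw [← cancel_mono (kernel.ι (g ≫ m)), Category.assoc, kernel.lift_ι, kernel.lift_ι,
      Category.id_comp]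
  haveI : Epi (kernel.lift (g ≫ m) (kernel.ι g) h1) := epi_of_epi_fac h3
  have h4 : kernel.lift (g ≫ m) f w' = kernel.lift g f w ≫ kernel.lift (g ≫ m) (kernel.ι g) h1 := by
    rw [← cancel_mono (kernel.ι (g ≫ m)), Category.assoc, kernel.lift_ι, kernel.lift_ι,
      kernel.lift_ι]
  rw [h4]
  haveI := h
  exact epi_comp _ _

section Noeth

variable [IsNoetherian X] (I : Ideal A)

/-- **Artin–Rees** for a coherent module embedded in a product of two coherent modules. -/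
theorem exists_AR_pair {M P H : X.Modules} (hM : Coh.IsCoh M) (hP : Coh.IsCoh P)
    (hH : Coh.IsCoh H) (m₁ : M ⟶ P) (m₂ : M ⟶ H) [Mono (biprod.lift m₁ m₂)] :
    ∃ s : ℕ, ∀ (n m : ℕ), n + s ≤ m → ∀ {W : X.Modules} (_ : W.IsQuasicoherent) (w : W ⟶ M),
      w ≫ m₁ ≫ Formal.modPowπ I m P = 0 → w ≫ m₂ ≫ Formal.modPowπ I m H = 0 →
      w ≫ Formal.modPowπ I n M = 0 := by
  obtain ⟨𝒰, hfin, haff, hcov⟩ := FF.exists_finite_affine_cover X
  have hU : ∀ U ∈ 𝒰, ∃ e s : ℕ, ∀ e', e ≤ e' → ∀ s', s ≤ s' → ∀ (n : ℕ) (y : Γ(M, U)),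
      m₁.app U y ∈ ((Ideal.map (φU U) I) ^ (n + s') • ⊤ : Submodule Γ(X, U) Γ(P, U)) →
      m₂.app U y ∈ ((Ideal.map (φU U) I) ^ (n + s') • ⊤ : Submodule Γ(X, U) Γ(H, U)) →
      y ∈ ((Ideal.map (φU U) I) ^ n • ⊤ : Submodule Γ(X, U) Γ(M, U)) := by
    intro U hUm
    have hUa := haff U hUm
    haveI : IsNoetherianRing Γ(X, U) := IsLocallyNoetherian.component_noetherian ⟨U, hUa⟩
    haveI := hP.1
    haveI := hH.1
    haveI : Module.Finite Γ(X, U) Γ(P, U) := QC.finite_sections_of_isFiniteType P hP.2 hUa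
    haveI : Module.Finite Γ(X, U) Γ(H, U) := QC.finite_sections_of_isFiniteType H hH.2 hUa
    obtain ⟨s, hs⟩ := Alg.ar_pair (Ideal.map (φU U) I) (appLinear m₁ U) (appLinear m₂ U)
      (fun y h1 h2 => by
        apply mono_app (biprod.lift m₁ m₂) U
        have h1' : m₁.app U y = 0 := h1
        have h2' : m₂.app U y = 0 := h2
        rw [biprod_lift_app, h1', h2', map_zero, map_zero, map_zero, add_zero])
    refine ⟨0, s, fun e' _ s' hs' n y h1 h2 => ?_⟩
    have hle : n + s ≤ n + s' := Nat.add_le_add_left hs' n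
    exact hs n y (Submodule.smul_mono (Ideal.pow_le_pow_right hle) le_rfl h1)
      (Submodule.smul_mono (Ideal.pow_le_pow_right hle) le_rfl h2)
  obtain ⟨e, s, hs⟩ := Alg.exists_uniform hfin _ hU
  refine ⟨s, fun n m hnm W hW w hw1 hw2 => ?_⟩
  apply Groth.Agent.LD.FK.hom_eq_zero_of_affine_cover hW (isCoh_modPow I n hM).1
  intro x
  obtain ⟨U, hUm, hxU⟩ := hcov x
  refine ⟨U, haff U hUm, hxU, fun z => ?_⟩
  have h1 : (Formal.modPowπ I m P).app U (m₁.app U (w.app U z)) = 0 :=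
    congrArg (fun ψ => (Scheme.Modules.Hom.app ψ U) z) hw1
  have h2 : (Formal.modPowπ I m H).app U (m₂.app U (w.app U z)) = 0 :=
    congrArg (fun ψ => (Scheme.Modules.Hom.app ψ U) z) hw2
  have h1' := mem_of_modPowπ_eq_zero' I P hP (haff U hUm) m _ h1
  have h2' := mem_of_modPowπ_eq_zero' I H hH (haff U hUm) m _ h2
  have h3 := hs U hUm e le_rfl s le_rfl n (w.app U z)
    (Submodule.smul_mono (Ideal.pow_le_pow_right hnm) le_rfl h1')
    (Submodule.smul_mono (Ideal.pow_le_pow_right hnm) le_rfl h2')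
  exact (isQ_app_eq_zero_iff I n hM (isQ_modPowπ I n M) (haff U hUm) (w.app U z)).2 h3

end Noeth

/-- hypothesis (1) of the tricky lemma, at the exponent `e`. -/
def Hyp1 (I : Ideal A) (K : X.IdealSheafData) (e : ℕ) : Prop :=
  (∀ (M N : X.Modules), Coh.IsCoh M → Coh.IsCoh N → ClSub.KilledByIdeal (K ^ e) M →
    ClSub.KilledByIdeal (K ^ e) N → ∀ ψ : Formal.completion I M ⟶ Formal.completion I N,
      ∃! φ : M ⟶ N, ∀ n : ℕ, Formal.modPowπ I (n + 1) M ≫ ψ.app (op n) =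
        φ ≫ Formal.modPowπ I (n + 1) N) ∧
  (∀ G : ℕᵒᵖ ⥤ X.Modules, Formal.IsCohFormal I G →
    (∀ n : ℕ, ClSub.KilledByIdeal (K ^ e) (G.obj (op n))) →
    ∃ M : X.Modules, Coh.IsCoh M ∧ ClSub.KilledByIdeal (K ^ e) M ∧
      Nonempty (Formal.completion I M ≅ G))

end Groth.Agent.H2.GX
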