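import Groth.Agent.Lib.Helper2.GXRexA

/-!
# The tricky lemma of Grothendieck's existence theorem, part 2 (helper2)

Step 1: for `α : F ⟶ H^` with cokernels killed by `K^c`, the system of cokernels is the completion
of a quotient `q : H ⟶ B`.
-/

set_option autoImplicit false
set_option linter.style.haveILetI false
universe u
open CategoryTheory Limits Opposite TopologicalSpace AlgebraicGeometry

namespace Groth.Agent.H2.GX

open Groth.Agent.LD Groth.Agent.LD.QC Groth.Agent.H2.FormalQ Groth.Agent.H2.FormalEq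
  Groth.Agent.LD.HF Groth.Agent.H2.AlgzExt Groth.Agent.LD.FF Groth.Agent.LD.GX Groth.Agent.LD.FK

variable {A : Type u} [CommRing A] {X : Scheme.{u}} [X.Over (Spec (CommRingCat.of A))]
  {I : Ideal A} {K : X.IdealSheafData}

@[reassoc]
lemma cπ_sysOfFamily {P : X.Modules} {G : ℕᵒᵖ ⥤ X.Modules}
    (hk : ∀ n, Formal.KilledBy (I ^ (n + 1)) (G.obj (op n)))
    (σ : ∀ n, P ⟶ G.obj (op n)) (hσ : ∀ n, σ (n + 1) ≫ Groth.Agent.LD.GE.tr G n = σ n) (n : ℕ) :
    cπ I P n ≫ (sysOfFamily hk σ hσ).app (op n) = σ n :=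
  π_sysOfFamily hk σ hσ n

variable [IsNoetherian X]

/-- step 1: the system of cokernels is the completion of a quotient `q : H ⟶ B`. -/
theorem step1 {c : ℕ} (h1 : Hyp1 I K c) {F : ℕᵒᵖ ⥤ X.Modules} (hF : Formal.IsCohFormal I F)
    {H : X.Modules} (hH : Coh.IsCoh H) (α : F ⟶ Formal.completion I H)
    (hcok : ∀ n : ℕ, ClSub.KilledByIdeal (K ^ c) (cokernel (α.app (op n)))) :
    ∃ (B : X.Modules) (q : H ⟶ B) (b : Formal.completion I B ≅ cokerSys α), Coh.IsCoh B ∧ Epi q ∧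
      complMap (I := I) q ≫ b.hom = cokerSysπ α := by
  have hHc := isCohFormal_completion I hH
  have hC : Formal.IsCohFormal I (cokerSys α) := isCohFormal_cokerSys hF hHc α
  obtain ⟨B, hB, hBK, ⟨b⟩⟩ := h1.2 (cokerSys α) hC hcok
  haveI := hH.1
  haveI := hB.1
  have hHb : Coh.IsCoh (qK (K ^ c) H) := isCoh_qK (K ^ c) hH
  haveI := hHb.1
  have hHbK : ClSub.KilledByIdeal (K ^ c) (qK (K ^ c) H) := killedByIdeal_qK (K ^ c) H
  have hσ : ∀ n : ℕ, ∃ g : qK (K ^ c) H ⟶ (cokerSys α).obj (op n),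
      πK (K ^ c) H ≫ g = cπ I H n ≫ (cokerSysπ α).app (op n) := fun n => by
    haveI : ((cokerSys α).obj (op n)).IsQuasicoherent := (hC.1 n).1
    exact exists_qK_desc (K ^ c) (Z := (cokerSys α).obj (op n)) (hcok n) _
  choose σ hσ' using hσ
  have hσc : ∀ n, σ (n + 1) ≫ Groth.Agent.LD.GE.tr (cokerSys α) n = σ n := by
    intro n
    have hnat : (Formal.completion I H).map (homOfLE (Nat.le_succ n)).op ≫
        (cokerSysπ α).app (op n) =
        (cokerSysπ α).app (op (n + 1)) ≫ Groth.Agent.LD.GE.tr (cokerSys α) n :=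
      (cokerSysπ α).naturality _
    rw [← cancel_epi (πK (K ^ c) H), ← Category.assoc, hσ' (n + 1), hσ' n, Category.assoc,
      ← hnat, cπ_map_assoc]
  have hσepi : ∀ n, Epi (σ n) := fun n => by
    have : Epi (πK (K ^ c) H ≫ σ n) := by rw [hσ' n]; exact epi_comp _ _
    exact epi_of_epi (πK (K ^ c) H) (σ n)
  let δ : Formal.completion I (qK (K ^ c) H) ⟶ cokerSys α :=
    sysOfFamily (G := cokerSys α) hC.2.1 σ hσc
  have hδ : ∀ n, cπ I (qK (K ^ c) H) n ≫ δ.app (op n) = σ n :=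
    fun n => cπ_sysOfFamily hC.2.1 σ hσc n
  have hδepi : ∀ n, Epi (δ.app (op n)) := fun n => by
    haveI := hσepi n
    exact epi_sysOfFamily_app hC.2.1 σ hσc n
  obtain ⟨φ, hφ0, -⟩ := h1.1 (qK (K ^ c) H) B hHb hB hHbK hBK (δ ≫ b.inv)
  have hφ : ∀ n, cπ I (qK (K ^ c) H) n ≫ (δ ≫ b.inv).app (op n) = φ ≫ cπ I B n := hφ0
  have hψepi : ∀ n, Epi ((δ ≫ b.inv).app (op n)) := fun n => by
    haveI := hδepi n
    rw [NatTrans.comp_app]
    exact epi_comp _ _
  -- `φ` is an epimorphism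
  have hφepi : Epi φ := by
    have hD : Coh.IsCoh (cokernel φ) := QC.isCoh_cokernel φ hHb hB
    haveI := hD.1
    have hDK : ClSub.KilledByIdeal (K ^ c) (cokernel φ) :=
      killedByIdeal_of_epi (K ^ c) (cokernel.π φ) (QC.qc_kernel _ hB.1 hD.1) hBK
    have hz : ∀ n, cπ I (cokernel φ) n = 0 := by
      intro n
      haveI := hψepi n
      haveI : Epi (φ ≫ cπ I B n) := by
        rw [← hφ n]; exact epi_comp _ _
      have h2 : (φ ≫ cπ I B n) ≫ (complMap (I := I) (cokernel.π φ)).app (op n) = 0 := by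
        rw [Category.assoc, cπ_complMap, cokernel.condition_assoc, zero_comp]
      have h3 : (complMap (I := I) (cokernel.π φ)).app (op n) = 0 := by
        rw [← cancel_epi (φ ≫ cπ I B n), h2, comp_zero]
      have h4 : cokernel.π φ ≫ cπ I (cokernel φ) n = 0 := by
        rw [← cπ_complMap, h3, comp_zero]
      rw [← cancel_epi (cokernel.π φ), h4, comp_zero]
    have hz' : ∀ n, Formal.modPowπ I (n + 1) (cokernel φ) = 0 := hz
    obtain ⟨φ', -, hu⟩ := h1.1 (cokernel φ) (cokernel φ) hD hD hDK hDK 0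
    have e1 : (𝟙 (cokernel φ)) = φ' := hu _ (fun n => by rw [hz' n, zero_comp, comp_zero]; rfl)
    have e2 : (0 : cokernel φ ⟶ cokernel φ) = φ' :=
      hu _ (fun n => by rw [hz' n, zero_comp, comp_zero]; rfl)
    have e3 : cokernel.π φ = 0 := by
      rw [← Category.comp_id (cokernel.π φ), e1, ← e2, comp_zero]
    exact Preadditive.epi_of_cokernel_zero e3
  refine ⟨B, πK (K ^ c) H ≫ φ, b, hB, epi_comp _ _, ?_⟩
  apply NatTrans.ext
  funext n
  obtain ⟨n⟩ := n
  change (complMap (I := I) (πK (K ^ c) H ≫ φ)).app (op n) ≫ b.hom.app (op n) =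
    (cokerSysπ α).app (op n)
  have e1 : (δ ≫ b.inv).app (op n) ≫ b.hom.app (op n) = δ.app (op n) := by
    rw [NatTrans.comp_app, Category.assoc, ← NatTrans.comp_app, b.inv_hom_id, NatTrans.id_app,
      Category.comp_id]
  rw [← cancel_epi (cπ I H n), cπ_complMap_assoc, ← hσ' n, ← hδ n, Category.assoc,
    ← Category.assoc φ, ← hφ n, Category.assoc, e1]

end Groth.Agent.H2.GX
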