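import Groth.Agent.Lib.Helper2.GXRexB

/-!
# The tricky lemma of Grothendieck's existence theorem, part 3 (helper2)

Step 2: reduction to a termwise epimorphism `α' : F ⟶ (H')^` with kernels killed by `K^c`.
-/

set_option autoImplicit false
set_option linter.style.haveILetI false
set_option linter.unusedSectionVars false
universe u
open CategoryTheory Limits Opposite TopologicalSpace AlgebraicGeometry

namespace Groth.Agent.H2.GX

open Groth.Agent.LD Groth.Agent.LD.QC Groth.Agent.H2.FormalQ Groth.Agent.H2.FormalEq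
  Groth.Agent.LD.HF Groth.Agent.H2.AlgzExt Groth.Agent.LD.FF Groth.Agent.LD.GX Groth.Agent.LD.FK

variable {A : Type u} [CommRing A] {X : Scheme.{u}} [X.Over (Spec (CommRingCat.of A))]
  [IsNoetherian X] {I : Ideal A} {K : X.IdealSheafData}

/-- the kernel of a map out of `M_m` whose composite with `M ⟶ M_m` is controlled dies in `M_n`:
the passage from Artin–Rees on `M` to the completion system. -/
lemma kernel_tr_eq_zero {M : X.Modules} (hM : Coh.IsCoh M) {n m : ℕ} (hnm : n ≤ m)
    {Z : X.Modules} (hZ : Z.IsQuasicoherent) (g : (Formal.completion I M).obj (op m) ⟶ Z)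
    (h : ∀ {W : X.Modules} (_ : W.IsQuasicoherent) (w : W ⟶ M), w ≫ cπ I M m ≫ g = 0 →
      w ≫ cπ I M n = 0) :
    kernel.ι g ≫ ARSys.tr (Formal.completion I M) hnm = 0 := by
  have hMm : ((Formal.completion I M).obj (op m)).IsQuasicoherent :=
    ((isCohFormal_completion I hM).1 m).1
  have hk : (kernel g).IsQuasicoherent := QC.qc_kernel g hMm hZ
  haveI : Epi (pullback.fst (kernel.ι g) (cπ I M m)) := Abelian.epi_pullback_of_epi_g _ _
  have hW : (pullback (kernel.ι g) (cπ I M m)).IsQuasicoherent :=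
    qc_pullback' _ _ hk hM.1 hMm
  have h1 : pullback.snd (kernel.ι g) (cπ I M m) ≫ cπ I M m ≫ g = 0 := by
    rw [← pullback.condition_assoc, kernel.condition, comp_zero]
  have h2 := h hW _ h1
  rw [← cancel_epi (pullback.fst (kernel.ι g) (cπ I M m)), comp_zero, pullback.condition_assoc]
  have h3 : cπ I M m ≫ ARSys.tr (Formal.completion I M) hnm = cπ I M n := cπ_map M hnm
  rw [h3, h2]

/-- step 2: reduction to a termwise epimorphism. -/
theorem exists_epi_reduction {c : ℕ} (h1 : Hyp1 I K c) {F : ℕᵒᵖ ⥤ X.Modules}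
    (hF : Formal.IsCohFormal I F) {H : X.Modules} (hH : Coh.IsCoh H)
    (α : F ⟶ Formal.completion I H)
    (hker : ∀ n : ℕ, ClSub.KilledByIdeal (K ^ c) (kernel (α.app (op n))))
    (hcok : ∀ n : ℕ, ClSub.KilledByIdeal (K ^ c) (cokernel (α.app (op n)))) :
    ∃ (H' : X.Modules) (α' : F ⟶ Formal.completion I H'), Coh.IsCoh H' ∧
      (∀ n : ℕ, Epi (α'.app (op n))) ∧
      ∀ n : ℕ, ClSub.KilledByIdeal (K ^ c) (kernel (α'.app (op n))) := by
  obtain ⟨B, q, b, hB, hq, hqb⟩ := step1 h1 hF hH α hcok
  haveI := hq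
  have hH' : Coh.IsCoh (kernel q) := QC.isCoh_kernel q hH hB
  have hHc := isCohFormal_completion I hH
  have hBc := isCohFormal_completion I hB
  have hH'c := isCohFormal_completion I hH'
  -- the two maps to `kerSys (complMap q)`
  have hQ : complMap (I := I) q = cokerSysπ α ≫ b.inv := by
    rw [← hqb, Category.assoc, b.hom_inv_id, Category.comp_id]
  have hαQ : α ≫ complMap (I := I) q = 0 := by
    rw [hQ, ← Category.assoc, comp_cokerSysπ, zero_comp]
  have hιQ : complMap (I := I) (kernel.ι q) ≫ complMap (I := I) q = 0 := by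
    apply NatTrans.ext
    funext n
    obtain ⟨n⟩ := n
    change (complMap (I := I) (kernel.ι q)).app (op n) ≫ (complMap (I := I) q).app (op n) = 0
    rw [← cancel_epi (cπ I (kernel q) n), cπ_complMap_assoc, cπ_complMap, kernel.condition_assoc,
      zero_comp, comp_zero]
  let αt : F ⟶ kerSys (complMap (I := I) q) := kerSysLift _ α hαQ
  let ιt : Formal.completion I (kernel q) ⟶ kerSys (complMap (I := I) q) :=
    kerSysLift _ (complMap (I := I) (kernel.ι q)) hιQ
  have hαtι : ∀ n : ℕ, αt.app (op n) ≫ kernel.ι ((complMap (I := I) q).app (op n)) =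
      α.app (op n) := fun n => kernel.lift_ι _ _ _
  have hιtι : ∀ n : ℕ, ιt.app (op n) ≫ kernel.ι ((complMap (I := I) q).app (op n)) =
      (complMap (I := I) (kernel.ι q)).app (op n) := fun n => kernel.lift_ι _ _ _
  -- termwise epimorphisms
  have hιt_epi : ∀ n : ℕ, Epi (ιt.app (op n)) := fun n =>
    epi_kernel_lift_of_isQ (I ^ (n + 1)) q (isQ_cπ H n) (isQ_cπ B n) (cπ I (kernel q) n)
      ((complMap (I := I) (kernel.ι q)).app (op n)) ((complMap (I := I) q).app (op n))
      (cπ_complMap (kernel.ι q) n) (cπ_complMap q n) _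
  have hαt_epi : ∀ n : ℕ, Epi (αt.app (op n)) := fun n => by
    have e : (complMap (I := I) q).app (op n) = (cokerSysπ α).app (op n) ≫ b.inv.app (op n) := by
      rw [hQ, NatTrans.comp_app]
    have h0 : α.app (op n) ≫ (cokerSysπ α).app (op n) ≫ b.inv.app (op n) = 0 := by
      rw [← Category.assoc, app_comp_cokerSysπ, zero_comp]
    have h1 : Epi (kernel.lift ((cokerSysπ α).app (op n) ≫ b.inv.app (op n)) (α.app (op n)) h0) :=
      epi_kernel_lift_comp_mono (α.app (op n)) ((cokerSysπ α).app (op n)) (b.inv.app (op n))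
        (app_comp_cokerSysπ α (op n)) h0
        (inferInstanceAs (Epi (Abelian.factorThruImage (α.app (op n)))))
    have h2 : αt.app (op n) ≫ kernel.ι ((complMap (I := I) q).app (op n)) = α.app (op n) := hαtι n
    -- transport along `e`
    have key : ∀ (g : (Formal.completion I H).obj (op n) ⟶ (Formal.completion I B).obj (op n))
        (hg : α.app (op n) ≫ g = 0)
        (_ : g = (cokerSysπ α).app (op n) ≫ b.inv.app (op n)),
        Epi (kernel.lift g (α.app (op n)) hg) := by
      intro g hg hge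
      subst hge
      exact h1
    exact key _ _ e
  -- the kernels of `ιt` die
  haveI : Mono (biprod.lift (kernel.ι q) (0 : kernel q ⟶ H)) :=
    mono_of_mono_fac (biprod.lift_fst (kernel.ι q) (0 : kernel q ⟶ H))
  obtain ⟨s, hs⟩ := exists_AR_pair I hH' hH hH (kernel.ι q) (0 : kernel q ⟶ H)
  have hstrict : StrictProIso ιt s := by
    refine ⟨hιt_epi, fun n => ?_⟩
    have hZ : ((kerSys (complMap (I := I) q)).obj (op (n + s))).IsQuasicoherent :=
      QC.qc_kernel _ ((hHc.1 (n + s)).1) ((hBc.1 (n + s)).1)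
    refine kernel_tr_eq_zero hH' (Nat.le_add_right n s) hZ (ιt.app (op (n + s)))
      (fun {W} hW w hw => ?_)
    have h3 : w ≫ kernel.ι q ≫ Formal.modPowπ I (n + s + 1) H = 0 := by
      have h4 : w ≫ cπ I (kernel q) (n + s) ≫ (complMap (I := I) (kernel.ι q)).app (op (n + s)) =
          0 := by
        rw [← hιtι (n + s), ← Category.assoc, ← Category.assoc, Category.assoc w, hw, zero_comp]
      rw [cπ_complMap] at h4
      exact h4
    exact hs (n + 1) (n + s + 1) (by omega) hW w h3 (by rw [zero_comp, comp_zero])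
  -- the pro-inverse and the descended morphism
  have hm : Monotone (fun n : ℕ => n + s) := fun _ _ h => Nat.add_le_add_right h s
  have hle : ∀ n : ℕ, n ≤ n + s := fun n => Nat.le_add_right n s
  have hanat : ∀ (n k : ℕ) (hnk : n ≤ k),
      ARSys.tr F (Nat.add_le_add_right hnk s) ≫ (αt.app (op (n + s)) ≫ hstrict.r n) =
        (αt.app (op (k + s)) ≫ hstrict.r k) ≫ ARSys.tr (Formal.completion I (kernel q)) hnk := by
    intro n k hnk
    rw [← Category.assoc, tr_nat αt, Category.assoc, Category.assoc]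
    congr 1
    exact hstrict.r_nat hnk
  let a : DerCA.reindex F hm ⟶ Formal.completion I (kernel q) :=
    natTransOfTr (F := DerCA.reindex F hm) (G := Formal.completion I (kernel q))
      (fun n => αt.app (op (n + s)) ≫ hstrict.r n) (fun n k hnk => hanat n k hnk)
  have hπnat : ∀ (n k : ℕ) (hnk : n ≤ k),
      (DerCA.reindex F hm).map (homOfLE hnk).op ≫ tr F (hle n) =
        tr F (hle k) ≫ F.map (homOfLE hnk).op := by
    intro n k hnk
    change tr F (hm hnk) ≫ tr F (hle n) = tr F (hle k) ≫ tr F hnk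
    rw [tr_comp, tr_comp]
  let π : DerCA.reindex F hm ⟶ F := natTransOfTr (fun n => tr F (hle n)) hπnat
  obtain ⟨α', hα', -⟩ := existsUnique_of_reindex hF hH'c (fun n : ℕ => n + s) hm hle π
    (fun n => rfl) a
  have hα'n : ∀ n : ℕ, tr F (hle n) ≫ α'.app (op n) = αt.app (op (n + s)) ≫ hstrict.r n :=
    fun n => congrArg (fun t => t.app (op n)) hα'
  have htrF : ∀ n : ℕ, Epi (tr F (hle n)) := fun n => (isQ_tr hF (hle n)).epi
  refine ⟨kernel q, α', hH', fun n => ?_, fun n => ?_⟩
  · haveI := htrF n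
    haveI := hαt_epi (n + s)
    haveI : Epi (hstrict.r n) := hstrict.epi_r n (isQ_tr hH'c (hle n)).epi
    have : Epi (tr F (hle n) ≫ α'.app (op n)) := by rw [hα'n n]; exact epi_comp _ _
    exact epi_of_epi (tr F (hle n)) _
  · haveI := htrF n
    have e1 : α'.app (op n) ≫ ιt.app (op n) = αt.app (op n) := by
      rw [← cancel_epi (tr F (hle n)), ← Category.assoc, hα'n n, Category.assoc, hstrict.r_φ n]
      exact (tr_nat αt (hle n)).symm
    have e2 : kernel.ι (α'.app (op n)) ≫ α.app (op n) = 0 := by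
      rw [← hαtι n, ← e1, Category.assoc, kernel.condition_assoc, zero_comp]
    haveI : Mono (kernel.lift (α.app (op n)) (kernel.ι (α'.app (op n))) e2) :=
      mono_of_mono_fac (kernel.lift_ι _ _ e2)
    exact killedByIdeal_of_mono (K ^ c) (kernel.lift (α.app (op n)) (kernel.ι (α'.app (op n))) e2)
      (hker n)

end Groth.Agent.H2.GX
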