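import Groth.Agent.Lib.Lead.FBC.BC0Comp
import Groth.Agent.Lib.Lead.FBC.AffineSec

/-!
# Compatibilities of the degree-zero base change map (helper2)

For a commutative square `g' ≫ f = f' ≫ g`: the isomorphism `g'^* f^* ≅ f'^* g^*`, naturality of
the base change map `g^* f_* F ⟶ f'_* g'^* F` in `F`, and its compatibility with the units.
-/

set_option autoImplicit false
universe u
open CategoryTheory Opposite TopologicalSpace AlgebraicGeometry
open AlgebraicGeometry.Scheme.Modules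

namespace Groth.Agent.H2.GX

open Groth.Agent.LD Groth.Agent.LD.QC Groth.Agent.LD.FBC

lemma pullbackCongr_hom_pbSec {X Y : Scheme.{u}} {φ ψ : X ⟶ Y} (h : φ = ψ) (N : Y.Modules)
    {U : X.Opens} {V : Y.Opens} (e : U ≤ φ ⁻¹ᵁ V) (e' : U ≤ ψ ⁻¹ᵁ V) (n : Γ(N, V)) :
    ((Scheme.Modules.pullbackCongr h).hom.app N).app U (pbSec φ N e n) = pbSec ψ N e' n := by
  subst h
  have h1 : (Scheme.Modules.pullbackCongr (rfl : φ = φ)).hom.app N = 𝟙 _ := by
    simp [Scheme.Modules.pullbackCongr]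
  rw [h1]
  rfl

variable {X Y X' Y' : Scheme.{u}} (f : X ⟶ Y) (g : Y' ⟶ Y) (f' : X' ⟶ Y') (g' : X' ⟶ X)
  (w : g' ≫ f = f' ≫ g)

/-- `g'^* f^* ≅ f'^* g^*` for a commutative square. -/
noncomputable def sqIso : pullback f ⋙ pullback g' ≅ pullback g ⋙ pullback f' :=
  pullbackComp g' f ≪≫ pullbackCongr w ≪≫ (pullbackComp f' g).symm

lemma sqIso_hom_pbSec (N : Y.Modules) {V : Y.Opens} {U : X.Opens} {V' : Y'.Opens}
    {U' : X'.Opens} (eU : U ≤ f ⁻¹ᵁ V) (eU' : U' ≤ g' ⁻¹ᵁ U) (eV' : V' ≤ g ⁻¹ᵁ V)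
    (eU'' : U' ≤ f' ⁻¹ᵁ V') (n : Γ(N, V)) :
    ((sqIso f g f' g' w).hom.app N).app U' (pbSec g' _ eU' (pbSec f N eU n)) =
      pbSec f' _ eU'' (pbSec g N eV' n) := by
  have e1 : U' ≤ (g' ≫ f) ⁻¹ᵁ V := fun x hx => eU (eU' hx)
  have e2 : U' ≤ (f' ≫ g) ⁻¹ᵁ V := fun x hx => eV' (eU'' hx)
  have h1 := pbSec_comp' g' f N eU' eU e1 n
  have h2 := pullbackCongr_hom_pbSec w N e1 e2 n
  have h3 := pbSec_comp f' g N eU'' eV' e2 n
  change ((pullbackComp f' g).inv.app N).app U' (((pullbackCongr w).hom.app N).app U'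
    (((pullbackComp g' f).hom.app N).app U' (pbSec g' _ eU' (pbSec f N eU n)))) = _
  rw [h1, h2, h3]

/-- naturality of the base change map. -/
theorem bc0_naturality {F₁ F₂ : X.Modules} (φ : F₁ ⟶ F₂) :
    (pullback g).map ((pushforward f).map φ) ≫ CohBC.bc0 f g f' g' w F₂ =
      CohBC.bc0 f g f' g' w F₁ ≫ (pushforward f').map ((pullback g').map φ) := by
  apply hom_ext_unitSec g
  intro V p
  rw [comp_app_apply, comp_app_apply, unitSec_naturality, ← pbSec_le_rfl g _ V,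
    ← pbSec_le_rfl g _ V]
  have h1 := bc0_pbSec f g f' g' w F₂ (le_refl (g ⁻¹ᵁ V)) (φ.app (f ⁻¹ᵁ V) p)
  have h2 := bc0_pbSec f g f' g' w F₁ (le_refl (g ⁻¹ᵁ V)) p
  refine h1.trans ?_
  rw [h2]
  exact (pbSec_naturality g' φ _ p).symm

/-- compatibility of the base change map with the units. -/
theorem unit_bc0 (N : Y.Modules) :
    (pullback g).map ((pullbackPushforwardAdjunction f).unit.app N) ≫
      CohBC.bc0 f g f' g' w ((pullback f).obj N) ≫
      (pushforward f').map ((sqIso f g f' g' w).hom.app N) =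
    (pullbackPushforwardAdjunction f').unit.app ((pullback g).obj N) := by
  apply hom_ext_unitSec g
  intro V n
  rw [comp_app_apply, comp_app_apply, unitSec_naturality, ← pbSec_le_rfl g _ V]
  have h1 := bc0_pbSec f g f' g' w ((pullback f).obj N) (le_refl (g ⁻¹ᵁ V)) (unitSec f N V n)
  have h0 : ((pullbackPushforwardAdjunction f).unit.app N).app V n = unitSec f N V n := rfl
  rw [h0]
  refine (congrArg (fun z => ((pushforward f').map ((sqIso f g f' g' w).hom.app N)).app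
    (g ⁻¹ᵁ V) z) h1).trans ?_
  rw [← pbSec_le_rfl f N V n]
  have h2 := sqIso_hom_pbSec f g f' g' w N (le_refl (f ⁻¹ᵁ V))
    (preimage_le_of_le f g f' g' w (le_refl (g ⁻¹ᵁ V))) (le_refl (g ⁻¹ᵁ V))
    (le_refl (f' ⁻¹ᵁ (g ⁻¹ᵁ V))) n
  refine h2.trans ?_
  rw [pbSec_le_rfl, pbSec_le_rfl]
  rfl

end Groth.Agent.H2.GX
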