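import Mathlib
import Groth.Agent.Lib.Lead.QC.PullbackUnit

/-!
# Base change to the completion is bijective on torsion modules; descent of bounds (helper2)
-/

set_option autoImplicit false
set_option linter.style.haveILetI false
universe u
open CategoryTheory Limits Opposite TopologicalSpace AlgebraicGeometry

namespace Groth.Agent.H2.GX

open Groth.Agent.LD Groth.Agent.LD.QC

section Algebra

/-- if `R/I₀ ≅ S/I₀ S` then base change along `R → S` is bijective on modules killed by `I₀`. -/
theorem bijective_of_isBaseChange_of_torsion {R S : Type*} [CommRing R] [CommRing S] [Algebra R S]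
    (I₀ : Ideal R) (ε : S →+* R ⧸ I₀) (hε : ∀ r, ε (algebraMap R S r) = Ideal.Quotient.mk I₀ r)
    (hker : ∀ s, ε s = 0 → s ∈ I₀.map (algebraMap R S))
    {M M' : Type*} [AddCommGroup M] [Module R M] [AddCommGroup M'] [Module R M'] [Module S M']
    [IsScalarTower R S M'] (ℓ : M →ₗ[R] M') (hbc : IsBaseChange S ℓ)
    (hM : ∀ a ∈ I₀, ∀ m : M, a • m = 0) : Function.Bijective ℓ := by
  constructor
  · -- injectivity, through a retraction
    have hM' : Module.IsTorsionBySet R M (I₀ : Set R) := fun x a => hM a.1 a.2 x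
    letI mQ : Module (R ⧸ I₀) M := hM'.module
    letI mS : Module S M := Module.compHom M ε
    haveI : IsScalarTower R S M := by
      refine ⟨fun r s m => ?_⟩
      change ε (r • s) • m = r • (ε s • m)
      rw [Algebra.smul_def, map_mul, hε, mul_smul]
      rfl
    intro x y hxy
    have h1 := hbc.lift_eq (LinearMap.id : M →ₗ[R] M) x
    have h2 := hbc.lift_eq (LinearMap.id : M →ₗ[R] M) y
    rw [hxy, h2] at h1
    exact h1.symm
  · -- surjectivity
    have h0 : ∀ i ∈ I₀.map (algebraMap R S), ∀ m : M, i • ℓ m = 0 := by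
      intro i hi m
      induction hi using Submodule.span_induction with
      | mem s hs =>
        obtain ⟨a, ha, rfl⟩ := hs
        rw [algebraMap_smul, ← map_smul, hM a ha, map_zero]
      | zero => rw [zero_smul]
      | add s t _ _ hs ht => rw [add_smul, hs, ht, add_zero]
      | smul r s _ hs => rw [smul_eq_mul, mul_smul, hs, smul_zero]
    intro x
    refine hbc.inductionOn x (fun x => ∃ m, ℓ m = x) ⟨0, map_zero _⟩ (fun m => ⟨m, rfl⟩) ?_ ?_
    · rintro s _ ⟨m, rfl⟩
      obtain ⟨r, hr⟩ := Ideal.Quotient.mk_surjective (ε s)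
      have h1 : s - algebraMap R S r ∈ I₀.map (algebraMap R S) := by
        apply hker
        rw [map_sub, hε, hr, sub_self]
      refine ⟨r • m, ?_⟩
      have h2 := h0 _ h1 m
      rw [sub_smul, sub_eq_zero, algebraMap_smul] at h2
      rw [map_smul, h2]
    · rintro _ _ ⟨m₁, rfl⟩ ⟨m₂, rfl⟩
      exact ⟨m₁ + m₂, map_add _ _ _⟩

/-- the hypotheses of `bijective_of_isBaseChange_of_torsion` for the adic completion. -/
theorem adicCompletion_ker_evalₐ_le {R : Type*} [CommRing R] (I : Ideal R) (hI : I.FG) (m : ℕ)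
    (s : AdicCompletion I R) (hs : AdicCompletion.evalₐ I m s = 0) :
    s ∈ (I ^ m).map (algebraMap R (AdicCompletion I R)) := by
  have hle : I ^ m ≤ I ^ m • (⊤ : Ideal R) := by
    rw [smul_eq_mul, Ideal.mul_top]
  have h1 : AdicCompletion.eval I R m s = 0 := by
    rw [← AdicCompletion.factor_evalₐ_eq_eval I s hle, hs, map_zero]
  have h2 : s ∈ (I ^ m • ⊤ : Submodule R (AdicCompletion I R)) := by
    rw [AdicCompletion.pow_smul_top_eq_ker_eval hI]
    exact h1
  refine Submodule.smul_induction_on h2 (fun a ha t _ => ?_) (fun x y hx hy => Ideal.add_mem _ hx hy)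
  rw [Algebra.smul_def]
  exact Ideal.mul_mem_right _ _ (Ideal.mem_map_of_mem _ ha)

end Algebra

section Descent

variable {X Y : Scheme.{u}} (g : X ⟶ Y)

/-- descent of a kernel bound along a morphism for which `pbSec` is injective. -/
theorem descend_KB {N₁ N₂ : Y.Modules} (a : N₁ ⟶ N₂) {U : X.Opens} {W : Y.Opens}
    (e : U ≤ g ⁻¹ᵁ W) (hinj : Function.Injective (pbSec g N₁ e)) (κ₀ : Γ(Y, W))
    (h : ∀ x' : Γ((Scheme.Modules.pullback g).obj N₁, U),
      ((Scheme.Modules.pullback g).map a).app U x' = 0 → (g.appLE W U e κ₀) • x' = 0)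
    (x : Γ(N₁, W)) (hx : a.app W x = 0) : κ₀ • x = 0 := by
  apply hinj
  rw [pbSec_smul, pbSec_zero]
  apply h
  rw [pbSec_naturality, hx, pbSec_zero]

/-- descent of a cokernel bound along a morphism for which `pbSec` is bijective. -/
theorem descend_CB {N₁ N₂ : Y.Modules} (a : N₁ ⟶ N₂) {U : X.Opens} {W : Y.Opens}
    (e : U ≤ g ⁻¹ᵁ W) (hsurj : Function.Surjective (pbSec g N₁ e))
    (hinj : Function.Injective (pbSec g N₂ e)) (κ₀ : Γ(Y, W))
    (h : ∀ y' : Γ((Scheme.Modules.pullback g).obj N₂, U),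
      ∃ z' : Γ((Scheme.Modules.pullback g).obj N₁, U),
        ((Scheme.Modules.pullback g).map a).app U z' = (g.appLE W U e κ₀) • y')
    (y : Γ(N₂, W)) : ∃ z : Γ(N₁, W), a.app W z = κ₀ • y := by
  obtain ⟨z', hz'⟩ := h (pbSec g N₂ e y)
  obtain ⟨z, rfl⟩ := hsurj z'
  refine ⟨z, hinj ?_⟩
  rw [← pbSec_naturality, hz', pbSec_smul]

end Descent

end Groth.Agent.H2.GX
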