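import Mathlib

/-!
# Algebra for the "easy existence, right" lemma (helper2)

Artin–Rees type statements for a finite module `M` over a Noetherian ring `B`, an ideal `J`, a
family `a : Fin r → B` with `J ^ t ≤ (a)`, and a tower `(N n)` of modules receiving compatible maps
`σ n : M → N n` whose kernels and cokernels are killed by the `a i`.
-/

set_option autoImplicit false
universe u

namespace Groth.Agent.H2.GY.Alg

open Submodule

variable {B : Type u} [CommRing B] (J : Ideal B)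

/-- images of elements of `𝔞 • ⊤` under a linear map lie in `𝔞 • ⊤`. -/
lemma map_mem_smul_top {P P' : Type*} [AddCommGroup P] [Module B P] [AddCommGroup P']
    [Module B P'] (𝔞 : Ideal B) (f : P →ₗ[B] P') {p : P}
    (h : p ∈ (𝔞 • ⊤ : Submodule B P)) : f p ∈ (𝔞 • ⊤ : Submodule B P') := by
  have := Submodule.mem_map_of_mem (f := f) h
  rw [Submodule.map_smul''] at this
  exact Submodule.smul_mono le_rfl le_top this

lemma smul_top_mono {P : Type*} [AddCommGroup P] [Module B P] {n m : ℕ} (h : n ≤ m) :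
    (J ^ m • ⊤ : Submodule B P) ≤ J ^ n • ⊤ :=
  Submodule.smul_mono (Ideal.pow_le_pow_right h) le_rfl

lemma pi_mem_smul_top {ι : Type*} [Fintype ι] [DecidableEq ι] {P : Type*} [AddCommGroup P]
    [Module B P] (𝔞 : Ideal B) (z : ι → P) (h : ∀ i, z i ∈ (𝔞 • ⊤ : Submodule B P)) :
    z ∈ (𝔞 • ⊤ : Submodule B (ι → P)) := by
  have e : z = ∑ i, LinearMap.single B (fun _ : ι => P) i (z i) := by
    funext j
    rw [Finset.sum_apply]
    simp [Pi.single_apply]
  rw [e]
  exact Submodule.sum_mem _ (fun i _ => map_mem_smul_top 𝔞 _ (h i))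

lemma apply_mem_smul_top {ι : Type*} {P : Type*} [AddCommGroup P]
    [Module B P] (𝔞 : Ideal B) (z : ι → P) (h : z ∈ (𝔞 • ⊤ : Submodule B (ι → P))) (i : ι) :
    z i ∈ (𝔞 • ⊤ : Submodule B P) :=
  map_mem_smul_top 𝔞 (LinearMap.proj (R := B) (φ := fun _ : ι => P) i) h

section AR
variable [IsNoetherianRing B]

/-- preimage form of Artin–Rees. -/
theorem ar_preimage {P P' : Type*} [AddCommGroup P] [Module B P] [AddCommGroup P'] [Module B P']
    [Module.Finite B P'] (f : P →ₗ[B] P') :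
    ∃ c : ℕ, ∀ (k : ℕ) (p : P), f p ∈ (J ^ (k + c) • ⊤ : Submodule B P') →
      ∃ p' : P, p' ∈ (J ^ k • ⊤ : Submodule B P) ∧ f p' = f p := by
  obtain ⟨c, hc⟩ := Ideal.exists_pow_inf_eq_pow_smul J (LinearMap.range f)
  refine ⟨c, fun k p hp => ?_⟩
  have h1 : f p ∈ (J ^ (k + c) • ⊤ ⊓ LinearMap.range f : Submodule B P') :=
    ⟨hp, LinearMap.mem_range_self f p⟩
  rw [hc (k + c) (Nat.le_add_left c k), Nat.add_sub_cancel] at h1
  have h2 : f p ∈ (J ^ k • LinearMap.range f : Submodule B P') :=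
    Submodule.smul_mono le_rfl inf_le_right h1
  rw [LinearMap.range_eq_map, ← Submodule.map_smul''] at h2
  obtain ⟨p', hp', e⟩ := h2
  exact ⟨p', hp', e⟩

/-- a submodule killed by a power of `J` meets a high power of `J` trivially. -/
theorem ar_torsion {M : Type*} [AddCommGroup M] [Module B M] [Module.Finite B M]
    (T : Submodule B M) (q : ℕ) (hT : ∀ b ∈ J ^ q, ∀ x ∈ T, b • x = 0) :
    ∃ c : ℕ, ∀ m ∈ T, m ∈ (J ^ c • ⊤ : Submodule B M) → m = 0 := by
  obtain ⟨k, hk⟩ := Ideal.exists_pow_inf_eq_pow_smul J T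
  refine ⟨q + k, fun m hmT hm => ?_⟩
  have h1 : m ∈ (J ^ (q + k) • ⊤ ⊓ T : Submodule B M) := ⟨hm, hmT⟩
  rw [hk (q + k) (Nat.le_add_left k q), Nat.add_sub_cancel] at h1
  have h2 : m ∈ (J ^ q • T : Submodule B M) := Submodule.smul_mono le_rfl inf_le_right h1
  have h3 : (J ^ q • T : Submodule B M) ≤ ⊥ := by
    rw [Submodule.smul_le]
    intro b hb x hx
    rw [Submodule.mem_bot]
    exact hT b hb x hx
  exact (Submodule.mem_bot B).1 (h3 h2)

end AR

variable {r : ℕ} (a : Fin r → B) {M : Type u} [AddCommGroup M] [Module B M]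

/-- the Koszul cocycle condition. -/
def IsK (z : Fin r → M) : Prop := ∀ i j, a i • z j = a j • z i

/-- `m ↦ (a i • m)`. -/
def ψ : M →ₗ[B] (Fin r → M) := LinearMap.pi fun i => LinearMap.lsmul B M (a i)

@[simp] lemma ψ_apply (m : M) (i : Fin r) : ψ a m i = a i • m := rfl

/-- `m ↦ ((a i * a j) • m)`. -/
def ψ₂ : M →ₗ[B] (Fin r × Fin r → M) := LinearMap.pi fun p => LinearMap.lsmul B M (a p.1 * a p.2)

@[simp] lemma ψ₂_apply (m : M) (p : Fin r × Fin r) : ψ₂ a m p = (a p.1 * a p.2) • m := rfl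

/-- the Koszul differential. -/
def dK : (Fin r → M) →ₗ[B] (Fin r × Fin r → M) :=
  LinearMap.pi fun p => (LinearMap.lsmul B M (a p.1)).comp (LinearMap.proj p.2) -
    (LinearMap.lsmul B M (a p.2)).comp (LinearMap.proj p.1)

@[simp] lemma dK_apply (z : Fin r → M) (p : Fin r × Fin r) :
    dK a z p = a p.1 • z p.2 - a p.2 • z p.1 := rfl

lemma dK_eq_zero_iff (z : Fin r → M) : dK a z = 0 ↔ IsK a z := by
  constructor
  · intro h i j
    have := congrFun h (i, j)
    rw [dK_apply, Pi.zero_apply, sub_eq_zero] at this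
    exact this
  · intro h
    funext p
    rw [dK_apply, Pi.zero_apply, sub_eq_zero]
    exact h p.1 p.2

variable {J} {t : ℕ}

/-- elements killed by all `a i` are killed by `J ^ t`. -/
lemma smul_eq_zero_of_span (hJa : J ^ t ≤ Ideal.span (Set.range a)) (m : M)
    (h : ∀ i, a i • m = 0) : ∀ b ∈ J ^ t, b • m = 0 := by
  intro b hb
  obtain ⟨c, rfl⟩ := (Ideal.mem_span_range_iff_exists_fun).1 (hJa hb)
  rw [Finset.sum_smul]
  refine Finset.sum_eq_zero fun i _ => ?_
  rw [mul_smul, h i, smul_zero]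

/-- a submodule stable under the `a i`-multiples... : `b • x ∈ S` for `b ∈ J ^ t` once `a i • x ∈ S`. -/
lemma smul_mem_of_span (hJa : J ^ t ≤ Ideal.span (Set.range a)) {P : Type*} [AddCommGroup P]
    [Module B P] (S : Submodule B P) (x : P) (h : ∀ i, a i • x ∈ S) : ∀ b ∈ J ^ t, b • x ∈ S := by
  intro b hb
  obtain ⟨c, rfl⟩ := (Ideal.mem_span_range_iff_exists_fun).1 (hJa hb)
  rw [Finset.sum_smul]
  refine Submodule.sum_mem _ fun i _ => ?_
  rw [mul_smul]
  exact S.smul_mem _ (h i)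

lemma smul_eq_zero_of_span₂ (hJa : J ^ t ≤ Ideal.span (Set.range a)) (m : M)
    (h : ∀ i j, (a i * a j) • m = 0) : ∀ b ∈ J ^ (t + t), b • m = 0 := by
  intro b hb
  rw [pow_add] at hb
  refine Submodule.mul_induction_on hb ?_ ?_
  · intro b₁ hb₁ b₂ hb₂
    rw [mul_smul]
    apply smul_eq_zero_of_span a hJa _ _ b₁ hb₁
    intro i
    have h2 : ∀ b' ∈ J ^ t, b' • (a i • m) = 0 := by
      apply smul_eq_zero_of_span a hJa
      intro j
      rw [← mul_smul, mul_comm]
      exact h i j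
    rw [smul_comm]
    exact h2 b₂ hb₂
  · intro x y hx hy
    rw [add_smul, hx, hy, add_zero]

section Noeth
variable [IsNoetherianRing B] [Module.Finite B M]

/-- (A1). -/
theorem exists_tors (hJa : J ^ t ≤ Ideal.span (Set.range a)) :
    ∃ c : ℕ, ∀ m : M, (∀ i, a i • m = 0) → m ∈ (J ^ c • ⊤ : Submodule B M) → m = 0 := by
  obtain ⟨c, hc⟩ := ar_torsion J (LinearMap.ker (ψ (M := M) a)) t (fun b hb x hx => by
    apply smul_eq_zero_of_span a hJa x _ b hb
    intro i
    exact congrFun (LinearMap.mem_ker.1 hx) i)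
  refine ⟨c, fun m hm hmc => hc m ?_ hmc⟩
  rw [LinearMap.mem_ker]
  funext i
  exact hm i

/-- (A1'). -/
theorem exists_tors₂ (hJa : J ^ t ≤ Ideal.span (Set.range a)) :
    ∃ c : ℕ, ∀ m : M, (∀ i j, (a i * a j) • m = 0) → m ∈ (J ^ c • ⊤ : Submodule B M) → m = 0 := by
  obtain ⟨c, hc⟩ := ar_torsion J (LinearMap.ker (ψ₂ (M := M) a)) (t + t) (fun b hb x hx => by
    apply smul_eq_zero_of_span₂ a hJa x _ b hb
    intro i j
    exact congrFun (LinearMap.mem_ker.1 hx) (i, j))
  refine ⟨c, fun m hm hmc => hc m ?_ hmc⟩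
  rw [LinearMap.mem_ker]
  funext p
  exact hm p.1 p.2

/-- (A3): Koszul cocycles deep in the `J`-adic filtration are deep coboundaries. -/
theorem exists_koszul (hJa : J ^ t ≤ Ideal.span (Set.range a)) :
    ∃ c : ℕ, ∀ (k : ℕ) (z : Fin r → M), IsK a z →
      (∀ i, z i ∈ (J ^ (k + c) • ⊤ : Submodule B M)) →
      ∃ y : M, y ∈ (J ^ k • ⊤ : Submodule B M) ∧ ∀ i, z i = a i • y := by
  classical
  set Z : Submodule B (Fin r → M) := LinearMap.ker (dK (M := M) a) with hZ
  obtain ⟨k₀, hk₀⟩ := Ideal.exists_pow_inf_eq_pow_smul J Z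
  refine ⟨t + k₀, fun k z hz hzk => ?_⟩
  have hzZ : z ∈ Z := by
    rw [hZ, LinearMap.mem_ker]
    exact (dK_eq_zero_iff a z).2 hz
  have h1 : z ∈ (J ^ (k + (t + k₀)) • ⊤ ⊓ Z : Submodule B (Fin r → M)) :=
    ⟨pi_mem_smul_top _ z hzk, hzZ⟩
  have e1 : k + (t + k₀) - k₀ = k + t := by omega
  rw [hk₀ (k + (t + k₀)) (by omega), e1] at h1
  have h2 : z ∈ (J ^ (k + t) • Z : Submodule B (Fin r → M)) :=
    Submodule.smul_mono le_rfl inf_le_right h1
  have h3 : (J ^ t • Z : Submodule B (Fin r → M)) ≤ LinearMap.range (ψ (M := M) a) := by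
    rw [Submodule.smul_le]
    intro b hb w hw
    apply smul_mem_of_span a hJa _ w _ b hb
    intro j
    refine ⟨w j, ?_⟩
    have hwK : IsK a w := (dK_eq_zero_iff a w).1 (LinearMap.mem_ker.1 hw)
    funext i
    rw [ψ_apply, Pi.smul_apply]
    exact hwK i j
  rw [pow_add, Submodule.mul_smul] at h2
  have h4 : z ∈ (J ^ k • LinearMap.range (ψ (M := M) a) : Submodule B (Fin r → M)) :=
    Submodule.smul_mono le_rfl h3 h2
  rw [LinearMap.range_eq_map, ← Submodule.map_smul''] at h4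
  obtain ⟨y, hy, e⟩ := h4
  exact ⟨y, hy, fun i => (congrFun e i).symm⟩

end Noeth

end Groth.Agent.H2.GY.Alg
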