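import Groth.Agent.Lib.Helper2.GYAlgA

/-!
# Algebra for the "easy existence, right" lemma, II: the tower (helper2)
-/

set_option autoImplicit false
universe u

namespace Groth.Agent.H2.GY.Alg

open Submodule

variable {B : Type u} [CommRing B] (J : Ideal B) {r : ℕ} (a : Fin r → B) (t : ℕ)
  {M : Type u} [AddCommGroup M] [Module B M]
  {N : ℕ → Type u} [∀ n, AddCommGroup (N n)] [∀ n, Module B (N n)]
  (T : ∀ {n m : ℕ}, n ≤ m → N m →ₗ[B] N n) (σ : ∀ n, M →ₗ[B] N n)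

/-- the hypotheses on the tower. -/
structure TowerHyp : Prop where
  Tσ : ∀ {n m : ℕ} (h : n ≤ m) (y : M), T h (σ m y) = σ n y
  Tker : ∀ {n m : ℕ} (h : n ≤ m) (x : N m), T h x = 0 → x ∈ (J ^ (n + 1) • ⊤ : Submodule B (N m))
  Tsurj : ∀ {n m : ℕ} (h : n ≤ m), Function.Surjective (T h)
  σJ : ∀ (n : ℕ) (y : M), y ∈ (J ^ (n + 1) • ⊤ : Submodule B M) → σ n y = 0
  hyp1 : ∀ (n : ℕ) (i : Fin r) (x : N n), ∃ y : M, σ n y = a i • x
  hyp2 : ∀ (n : ℕ) (i : Fin r) (y : M), σ n y = 0 → a i • y ∈ (J ^ (n + 1) • ⊤ : Submodule B M)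
  Ja : J ^ t ≤ Ideal.span (Set.range a)

variable {J a t T σ} (H : TowerHyp J a t T σ)
include H

/-- `J ^ t • N_m` lies in the image of `σ m`. -/
lemma exists_preimage (m q : ℕ) (x : N m) (hx : x ∈ (J ^ (q + t) • ⊤ : Submodule B (N m))) :
    ∃ v : M, v ∈ (J ^ q • ⊤ : Submodule B M) ∧ σ m v = x := by
  have h3 : (J ^ t • ⊤ : Submodule B (N m)) ≤ LinearMap.range (σ m) := by
    rw [Submodule.smul_le]
    intro b hb w _
    apply smul_mem_of_span a H.Ja _ w _ b hb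
    intro i
    obtain ⟨y, hy⟩ := H.hyp1 m i w
    exact ⟨y, hy⟩
  rw [pow_add, Submodule.mul_smul] at hx
  have h4 : x ∈ (J ^ q • LinearMap.range (σ m) : Submodule B (N m)) :=
    Submodule.smul_mono le_rfl h3 hx
  rw [LinearMap.range_eq_map, ← Submodule.map_smul''] at h4
  obtain ⟨v, hv, e⟩ := h4
  exact ⟨v, hv, e⟩

section Noeth
variable [IsNoetherianRing B] [Module.Finite B M]

/-- (P3'): uniform Artin–Rees for the tower. -/
theorem exists_P3 : ∃ c₀ : ℕ, ∀ c, c₀ ≤ c → ∀ (m : ℕ) (hcm : c ≤ m) (x : N m),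
    (∀ i, a i • x = 0) → T hcm x = 0 → ∀ (k : ℕ) (hkm : k ≤ m), k + c ≤ m → T hkm x = 0 := by
  classical
  obtain ⟨c₁, hc₁⟩ := exists_tors₂ (M := M) a H.Ja
  obtain ⟨c₂, hc₂⟩ := ar_preimage J (ψ₂ (M := M) a)
  refine ⟨t + c₁ + c₂, fun c hc m hcm x hx hTx k hkm hk => ?_⟩
  have hx1 := H.Tker hcm x hTx
  have e1 : c + 1 = (c + 1 - t) + t := by omega
  rw [e1] at hx1
  obtain ⟨v, hv, rfl⟩ := exists_preimage H m (c + 1 - t) x hx1
  have hv2 : ψ₂ a v ∈ (J ^ (m + 1 - c₂ + c₂) • ⊤ : Submodule B (Fin r × Fin r → M)) := by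
    have e2 : m + 1 - c₂ + c₂ = m + 1 := by omega
    rw [e2]
    apply pi_mem_smul_top
    intro p
    rw [ψ₂_apply, mul_smul]
    apply H.hyp2 m p.1
    rw [map_smul]
    exact hx p.2
  obtain ⟨v', hv', e⟩ := hc₂ (m + 1 - c₂) v hv2
  have hu : v - v' = 0 := by
    apply hc₁ (v - v')
    · intro i j
      have := congrFun e (i, j)
      rw [ψ₂_apply, ψ₂_apply] at this
      rw [smul_sub, this, sub_self]
    · refine Submodule.sub_mem _ (smul_top_mono J (by omega) hv) (smul_top_mono J (by omega) hv')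
  have hvv : v = v' := sub_eq_zero.1 hu
  rw [H.Tσ hkm v, hvv]
  exact H.σJ k v' (smul_top_mono J (by omega) hv')

/-- (PA). -/
theorem exists_PA : ∃ c₀ : ℕ, ∀ c, c₀ ≤ c → ∀ y : M, (∀ i, a i • y = 0) → σ c y = 0 →
    ∀ n, σ n y = 0 := by
  obtain ⟨c₀, hc₀⟩ := exists_P3 H
  refine ⟨c₀, fun c hc y hy hσy n => ?_⟩
  have hcm : c ≤ n + c + 1 := by omega
  have hnm : n ≤ n + c + 1 := by omega
  have := hc₀ c hc (n + c + 1) hcm (σ (n + c + 1) y)
    (fun i => by rw [← map_smul, hy i, map_zero]) (by rw [H.Tσ hcm y, hσy]) n hnm (by omega)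
  rw [H.Tσ hnm y] at this
  exact this

/-- (PA2). -/
theorem exists_PA2 : ∃ c₀ : ℕ, ∀ c, c₀ ≤ c → ∀ y : M, (∀ i j, a j • a i • y = 0) → σ c y = 0 →
    ∀ i, a i • y = 0 := by
  obtain ⟨c₁, hc₁⟩ := exists_tors (M := M) a H.Ja
  refine ⟨c₁, fun c hc y hy hσy i => ?_⟩
  apply hc₁ (a i • y) (fun j => hy i j)
  exact smul_top_mono J (by omega) (H.hyp2 c i y hσy)

variable (cB : ℕ) (hB0 : ∀ y : M, (∀ i, a i • y = 0) → σ cB y = 0 → y = 0)
include hB0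

/-- (L0). -/
theorem exists_L0 : ∃ c₀ : ℕ, ∀ (k : ℕ) (y : M), σ (k + c₀) y = 0 →
    y ∈ (J ^ (k + 1) • ⊤ : Submodule B M) := by
  classical
  obtain ⟨c₂, hc₂⟩ := ar_preimage J (ψ (M := M) a)
  refine ⟨cB + c₂, fun k y hy => ?_⟩
  have h1 : ψ a y ∈ (J ^ (k + cB + 1 + c₂) • ⊤ : Submodule B (Fin r → M)) := by
    apply pi_mem_smul_top
    intro i
    have e : k + cB + 1 + c₂ = k + (cB + c₂) + 1 := by omega
    rw [e, ψ_apply]
    exact H.hyp2 _ i y hy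
  obtain ⟨y', hy', e⟩ := hc₂ (k + cB + 1) y h1
  have hle : cB ≤ k + (cB + c₂) := by omega
  have hu : y - y' = 0 := by
    apply hB0
    · intro i
      have := congrFun e i
      rw [ψ_apply, ψ_apply] at this
      rw [smul_sub, this, sub_self]
    · rw [map_sub, ← H.Tσ hle y, hy, map_zero, zero_sub, neg_eq_zero]
      exact H.σJ cB y' (smul_top_mono J (by omega) hy')
  rw [sub_eq_zero.1 hu]
  exact smul_top_mono J (by omega) hy'

/-- (P1). -/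
theorem P1 (n : ℕ) (x : N n) : ∃ z : Fin r → M, IsK a z ∧ ∀ i, σ n (z i) = a i • x := by
  classical
  obtain ⟨c₀, hc₀⟩ := exists_L0 H cB hB0
  obtain ⟨c₄, hc₄⟩ := ar_preimage J (dK (M := M) a)
  have hle : n ≤ n + c₄ + c₀ := by omega
  obtain ⟨x', rfl⟩ := H.Tsurj hle x
  choose y hy using fun i => H.hyp1 (n + c₄ + c₀) i x'
  have h1 : dK a y ∈ (J ^ (n + 1 + c₄) • ⊤ : Submodule B (Fin r × Fin r → M)) := by
    apply pi_mem_smul_top
    intro p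
    have e : n + 1 + c₄ = n + c₄ + 1 := by omega
    rw [e]
    apply hc₀ (n + c₄)
    rw [dK_apply, map_sub, map_smul, map_smul, hy, hy, smul_comm, sub_self]
  obtain ⟨y', hy', e⟩ := hc₄ (n + 1) y h1
  refine ⟨y - y', (dK_eq_zero_iff a _).1 (by rw [map_sub, e, sub_self]), fun i => ?_⟩
  rw [Pi.sub_apply, map_sub, H.σJ n (y' i) (apply_mem_smul_top _ y' hy' i), sub_zero,
    ← H.Tσ hle (y i), hy i, map_smul]

/-- (P2). -/
theorem exists_P2 : ∃ s₀ : ℕ, ∀ s, s₀ ≤ s → ∀ (n : ℕ) (w : Fin r → M), IsK a w →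
    (∀ i, σ (n + s) (w i) = 0) →
    ∃ y : M, y ∈ (J ^ (n + 1) • ⊤ : Submodule B M) ∧ ∀ i, w i = a i • y := by
  obtain ⟨c₀, hc₀⟩ := exists_L0 H cB hB0
  obtain ⟨c₃, hc₃⟩ := exists_koszul (M := M) a H.Ja
  refine ⟨c₀ + c₃, fun s hs n w hw hσw => ?_⟩
  apply hc₃ (n + 1) w hw
  intro i
  have e : n + s = (n + s - c₀) + c₀ := by omega
  have h1 := hc₀ (n + s - c₀) (w i) (by rw [← e]; exact hσw i)
  exact smul_top_mono J (by omega) h1

end Noeth

end Groth.Agent.H2.GY.Alg
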