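import Groth.Agent.Lib.Helper2.GYKosA

/-!
# The modules `E_n = Z ×_{F_n^r} F_n` (helper2)

For a module `G`, a tower `F` with compatible maps `σ n : G ⟶ F_n` and a finite family `a` of elements
of the base ring: pairs `(z, x)` of a Koszul cocycle `z` of `G` and a section `x` of `F_n` with
`σ n (z i) = a i • x`.
-/

set_option autoImplicit false
set_option linter.style.haveILetI false
set_option linter.unusedVariables false
universe u
open CategoryTheory Limits Opposite TopologicalSpace AlgebraicGeometry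

namespace Groth.Agent.H2.GY

open Groth.Agent.LD Groth.Agent.LD.QC Groth.Agent.H2.FormalQ Groth.Agent.H2.FormalEq
  Groth.Agent.LD.HF Groth.Agent.H2.AlgzExt Groth.Agent.LD.FF Groth.Agent.H2.GX

variable {A : Type u} [CommRing A] {X : Scheme.{u}} [X.Over (Spec (CommRingCat.of A))]
  {r : ℕ} (a : Fin r → A) {G : X.Modules} {F : ℕᵒᵖ ⥤ X.Modules} (σ : ∀ n, G ⟶ F.obj (op n))

/-- `z ↦ (σ_n (z i))_i`. -/
noncomputable def ρE (n : ℕ) : Zk a G ⟶ Pw r (F.obj (op n)) :=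
  biproduct.lift fun i => ev a G i ≫ σ n

@[reassoc]
lemma ρE_π (n : ℕ) (i : Fin r) :
    ρE a σ n ≫ biproduct.π (fun _ : Fin r => F.obj (op n)) i = ev a G i ≫ σ n :=
  biproduct.lift_π _ _

/-- the module `E_n`. -/
noncomputable abbrev En (n : ℕ) : X.Modules := pullback (ρE a σ n) (ψs a (F.obj (op n)))

/-- the cocycle component. -/
noncomputable def Ez (n : ℕ) : En a σ n ⟶ Zk a G := pullback.fst _ _

/-- the `F_n` component. -/
noncomputable def Ex (n : ℕ) : En a σ n ⟶ F.obj (op n) := pullback.snd _ _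

@[reassoc]
lemma E_cond (n : ℕ) (i : Fin r) :
    Ez a σ n ≫ ev a G i ≫ σ n = Ex a σ n ≫ Formal.smulMod A (F.obj (op n)) (a i) := by
  have h := congrArg (fun t => t ≫ biproduct.π (fun _ : Fin r => F.obj (op n)) i)
    (pullback.condition (f := ρE a σ n) (g := ψs a (F.obj (op n))))
  simp only [Category.assoc, ρE_π, ψs_π] at h
  exact h

lemma E_hom_ext {n : ℕ} {W : X.Modules} (u v : W ⟶ En a σ n)
    (hz : u ≫ Ez a σ n = v ≫ Ez a σ n) (hx : u ≫ Ex a σ n = v ≫ Ex a σ n) : u = v :=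
  pullback.hom_ext hz hx

/-- maps into `E_n`. -/
noncomputable def Elift {n : ℕ} {W : X.Modules} (z : W ⟶ Zk a G) (x : W ⟶ F.obj (op n))
    (h : ∀ i, z ≫ ev a G i ≫ σ n = x ≫ Formal.smulMod A (F.obj (op n)) (a i)) : W ⟶ En a σ n :=
  pullback.lift z x (by
    apply biproduct.hom_ext
    intro i
    rw [Category.assoc, Category.assoc, ρE_π, ψs_π]
    exact h i)

@[reassoc]
lemma Elift_Ez {n : ℕ} {W : X.Modules} (z : W ⟶ Zk a G) (x : W ⟶ F.obj (op n))
    (h : ∀ i, z ≫ ev a G i ≫ σ n = x ≫ Formal.smulMod A (F.obj (op n)) (a i)) :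
    Elift a σ z x h ≫ Ez a σ n = z := pullback.lift_fst _ _ _

@[reassoc]
lemma Elift_Ex {n : ℕ} {W : X.Modules} (z : W ⟶ Zk a G) (x : W ⟶ F.obj (op n))
    (h : ∀ i, z ≫ ev a G i ≫ σ n = x ≫ Formal.smulMod A (F.obj (op n)) (a i)) :
    Elift a σ z x h ≫ Ex a σ n = x := pullback.lift_snd _ _ _

variable (hσ : ∀ {n m : ℕ} (h : n ≤ m), σ m ≫ tr F h = σ n)

/-- the transition maps of `(E_n)`. -/
noncomputable def trE {n m : ℕ} (h : n ≤ m) : En a σ m ⟶ En a σ n :=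
  Elift a σ (Ez a σ m) (Ex a σ m ≫ tr F h) (fun i => by
    have h1 : Ez a σ m ≫ ev a G i ≫ σ n = (Ez a σ m ≫ ev a G i ≫ σ m) ≫ tr F h := by
      rw [Category.assoc, Category.assoc, hσ h]
    rw [h1, E_cond, Category.assoc, Category.assoc, ← comp_smulMod])

@[reassoc]
lemma trE_Ez {n m : ℕ} (h : n ≤ m) : trE a σ hσ h ≫ Ez a σ n = Ez a σ m := Elift_Ez _ _ _ _ _

@[reassoc]
lemma trE_Ex {n m : ℕ} (h : n ≤ m) : trE a σ hσ h ≫ Ex a σ n = Ex a σ m ≫ tr F h :=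
  Elift_Ex _ _ _ _ _

lemma trE_comp {n m k : ℕ} (h : n ≤ m) (h' : m ≤ k) :
    trE a σ hσ h' ≫ trE a σ hσ h = trE a σ hσ (h.trans h') := by
  apply E_hom_ext
  · rw [Category.assoc, trE_Ez, trE_Ez, trE_Ez]
  · rw [Category.assoc, trE_Ex, trE_Ex_assoc, trE_Ex, tr_comp]

/-- the maps `G ⟶ E_n`. -/
noncomputable def aE (n : ℕ) : G ⟶ En a σ n :=
  Elift a σ (ψz a G) (σ n) (fun i => by rw [ψz_ev_assoc, comp_smulMod])

@[reassoc]
lemma aE_Ez (n : ℕ) : aE a σ n ≫ Ez a σ n = ψz a G := Elift_Ez _ _ _ _ _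

@[reassoc]
lemma aE_Ex (n : ℕ) : aE a σ n ≫ Ex a σ n = σ n := Elift_Ex _ _ _ _ _

@[reassoc]
lemma aE_trE {n m : ℕ} (h : n ≤ m) : aE a σ m ≫ trE a σ hσ h = aE a σ n := by
  apply E_hom_ext
  · rw [Category.assoc, trE_Ez, aE_Ez, aE_Ez]
  · rw [Category.assoc, trE_Ex, aE_Ex_assoc, aE_Ex, hσ h]

/-! ### sections -/

lemma E_sec_ext {n : ℕ} (U : X.Opens) (e e' : Γ(En a σ n, U))
    (hz : ∀ i, (ev a G i).app U ((Ez a σ n).app U e) = (ev a G i).app U ((Ez a σ n).app U e'))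
    (hx : (Ex a σ n).app U e = (Ex a σ n).app U e') : e = e' :=
  pullback_sec_ext _ _ U e e' (Zk_sec_ext a G U _ _ hz) hx

lemma E_sec_cond {n : ℕ} (U : X.Opens) (e : Γ(En a σ n, U)) (i : Fin r) :
    (σ n).app U ((ev a G i).app U ((Ez a σ n).app U e)) = φU U (a i) • (Ex a σ n).app U e :=
  congrArg (fun ψ => (Scheme.Modules.Hom.app ψ U) e) (E_cond a σ n i)

lemma E_sec_mk {n : ℕ} (U : X.Opens) (w : Fin r → Γ(G, U)) (x : Γ(F.obj (op n), U))
    (hK : ∀ i j, φU U (a i) • w j = φU U (a j) • w i)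
    (hw : ∀ i, (σ n).app U (w i) = φU U (a i) • x) :
    ∃ e : Γ(En a σ n, U), (∀ i, (ev a G i).app U ((Ez a σ n).app U e) = w i) ∧
      (Ex a σ n).app U e = x := by
  obtain ⟨z, hz⟩ := Zk_sec_mk a G U w hK
  have hc : (ρE a σ n).app U z = (ψs a (F.obj (op n))).app U x := by
    apply biproduct_sec_ext
    intro i
    have h1 : (biproduct.π (fun _ : Fin r => F.obj (op n)) i).app U ((ρE a σ n).app U z) =
        (σ n).app U ((ev a G i).app U z) :=
      congrArg (fun ψ => (Scheme.Modules.Hom.app ψ U) z) (ρE_π a σ n i)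
    have h2 : (biproduct.π (fun _ : Fin r => F.obj (op n)) i).app U
        ((ψs a (F.obj (op n))).app U x) = φU U (a i) • x :=
      congrArg (fun ψ => (Scheme.Modules.Hom.app ψ U) x) (ψs_π a (F.obj (op n)) i)
    rw [h1, h2, hz, hw]
  obtain ⟨e, he1, he2⟩ := exists_pullback_section (ρE a σ n) (ψs a (F.obj (op n))) U z x hc
  refine ⟨e, fun i => ?_, he2⟩
  have : (Ez a σ n).app U e = z := he1
  rw [this, hz]

lemma trE_sec_z {n m : ℕ} (h : n ≤ m) (U : X.Opens) (e : Γ(En a σ m, U)) (i : Fin r) :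
    (ev a G i).app U ((Ez a σ n).app U ((trE a σ hσ h).app U e)) =
      (ev a G i).app U ((Ez a σ m).app U e) :=
  congrArg (fun ψ => (ev a G i).app U ((Scheme.Modules.Hom.app ψ U) e)) (trE_Ez a σ hσ h)

lemma trE_sec_x {n m : ℕ} (h : n ≤ m) (U : X.Opens) (e : Γ(En a σ m, U)) :
    (Ex a σ n).app U ((trE a σ hσ h).app U e) = (tr F h).app U ((Ex a σ m).app U e) :=
  congrArg (fun ψ => (Scheme.Modules.Hom.app ψ U) e) (trE_Ex a σ hσ h)

lemma aE_sec_z (n : ℕ) (U : X.Opens) (g : Γ(G, U)) (i : Fin r) :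
    (ev a G i).app U ((Ez a σ n).app U ((aE a σ n).app U g)) = φU U (a i) • g := by
  have h1 : (Ez a σ n).app U ((aE a σ n).app U g) = (ψz a G).app U g :=
    congrArg (fun ψ => (Scheme.Modules.Hom.app ψ U) g) (aE_Ez a σ n)
  rw [h1, ψz_ev_app]

lemma aE_sec_x (n : ℕ) (U : X.Opens) (g : Γ(G, U)) :
    (Ex a σ n).app U ((aE a σ n).app U g) = (σ n).app U g :=
  congrArg (fun ψ => (Scheme.Modules.Hom.app ψ U) g) (aE_Ex a σ n)

/-- multiplication by `a j` on `E_n` factors through `G`. -/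
lemma smul_sec_eq_aE {n : ℕ} (U : X.Opens) (e : Γ(En a σ n, U)) (j : Fin r) :
    φU U (a j) • e = (aE a σ n).app U ((ev a G j).app U ((Ez a σ n).app U e)) := by
  apply E_sec_ext
  · intro i
    rw [aE_sec_z, Scheme.Modules.Hom.app_smul, Scheme.Modules.Hom.app_smul]
    exact Zk_sec_koszul a G U _ j i
  · rw [aE_sec_x, Scheme.Modules.Hom.app_smul, E_sec_cond]

variable {a σ}

lemma qc_En (hG : G.IsQuasicoherent) (n : ℕ) (hFn : (F.obj (op n)).IsQuasicoherent) :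
    (En a σ n).IsQuasicoherent :=
  qc_pullback' _ _ (qc_Zk hG) hFn (qc_biproduct _ fun _ => hFn)

lemma isCoh_En [IsLocallyNoetherian X] (hG : Coh.IsCoh G) (n : ℕ)
    (hFn : Coh.IsCoh (F.obj (op n))) : Coh.IsCoh (En a σ n) :=
  Groth.Agent.LD.FK.isCoh_pullback _ _ (isCoh_Zk hG) hFn (qc_biproduct _ fun _ => hFn.1)

end Groth.Agent.H2.GY
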