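import Groth.Agent.Lib.Helper2.GYSecA

/-!
# Koszul cocycles of a module for a finite family of elements of the base ring (helper2)
-/

set_option autoImplicit false
set_option linter.style.haveILetI false
universe u
open CategoryTheory Limits Opposite TopologicalSpace AlgebraicGeometry

namespace Groth.Agent.H2.GY

open Groth.Agent.LD Groth.Agent.LD.QC Groth.Agent.H2.FormalQ Groth.Agent.H2.FormalEq
  Groth.Agent.LD.HF Groth.Agent.H2.AlgzExt Groth.Agent.LD.FF Groth.Agent.H2.GX

variable {A : Type u} [CommRing A] {X : Scheme.{u}} [X.Over (Spec (CommRingCat.of A))]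
  {r : ℕ} (a : Fin r → A) (G : X.Modules)

/-- `G^r`. -/
noncomputable abbrev Pw (r : ℕ) (G : X.Modules) : X.Modules := ⨁ fun _ : Fin r => G

/-- `g ↦ (a i • g)`. -/
noncomputable def ψs : G ⟶ Pw r G := biproduct.lift fun i => Formal.smulMod A G (a i)

@[reassoc]
lemma ψs_π (i : Fin r) :
    ψs a G ≫ biproduct.π (fun _ : Fin r => G) i = Formal.smulMod A G (a i) :=
  biproduct.lift_π _ _

/-- the Koszul differential `z ↦ (a i • z - ψ (z i))_i`. -/
noncomputable def dKs : Pw r G ⟶ ⨁ fun _ : Fin r => Pw r G :=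
  biproduct.lift fun i =>
    Formal.smulMod A (Pw r G) (a i) - biproduct.π (fun _ : Fin r => G) i ≫ ψs a G

@[reassoc]
lemma dKs_π (i : Fin r) : dKs a G ≫ biproduct.π (fun _ : Fin r => Pw r G) i =
    Formal.smulMod A (Pw r G) (a i) - biproduct.π (fun _ : Fin r => G) i ≫ ψs a G :=
  biproduct.lift_π _ _

lemma ψs_dKs : ψs a G ≫ dKs a G = 0 := by
  apply biproduct.hom_ext
  intro i
  rw [Category.assoc, zero_comp, dKs_π, Preadditive.comp_sub, comp_smulMod, ← Category.assoc,
    ψs_π, sub_self]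

/-- the module of Koszul cocycles. -/
noncomputable abbrev Zk : X.Modules := kernel (dKs a G)

/-- the inclusion `Z ⟶ G^r`. -/
noncomputable def ζ : Zk a G ⟶ Pw r G := kernel.ι (dKs a G)

instance : Mono (ζ a G) := inferInstanceAs (Mono (kernel.ι (dKs a G)))

/-- the components of a cocycle. -/
noncomputable def ev (i : Fin r) : Zk a G ⟶ G := ζ a G ≫ biproduct.π (fun _ : Fin r => G) i

/-- the coboundary map `G ⟶ Z`. -/
noncomputable def ψz : G ⟶ Zk a G := kernel.lift (dKs a G) (ψs a G) (ψs_dKs a G)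

@[reassoc]
lemma ψz_ev (i : Fin r) : ψz a G ≫ ev a G i = Formal.smulMod A G (a i) := by
  unfold ψz ev ζ
  rw [kernel.lift_ι_assoc, ψs_π]

lemma ev_koszul (i j : Fin r) :
    ev a G j ≫ Formal.smulMod A G (a i) = ev a G i ≫ Formal.smulMod A G (a j) := by
  have h0 : ζ a G ≫ dKs a G ≫ biproduct.π (fun _ : Fin r => Pw r G) i ≫
      biproduct.π (fun _ : Fin r => G) j = 0 := by
    unfold ζ
    rw [kernel.condition_assoc, zero_comp]
  rw [dKs_π_assoc, Preadditive.sub_comp, Preadditive.comp_sub, sub_eq_zero, Category.assoc,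
    ψs_π, ← comp_smulMod] at h0
  unfold ev
  rw [Category.assoc, Category.assoc]
  exact h0

lemma ev_hom_ext {W : X.Modules} (u v : W ⟶ Zk a G) (h : ∀ i, u ≫ ev a G i = v ≫ ev a G i) :
    u = v := by
  rw [← cancel_mono (ζ a G)]
  apply biproduct.hom_ext
  intro i
  rw [Category.assoc, Category.assoc]
  exact h i

/-- a family of maps to `G` satisfying the Koszul relations is a map to `Z`. -/
noncomputable def Zlift {W : X.Modules} (w : ∀ i, W ⟶ G)
    (hw : ∀ i j, w j ≫ Formal.smulMod A G (a i) = w i ≫ Formal.smulMod A G (a j)) :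
    W ⟶ Zk a G :=
  kernel.lift (dKs a G) (biproduct.lift w) (by
    apply biproduct.hom_ext
    intro i
    apply biproduct.hom_ext
    intro j
    rw [Category.assoc, Category.assoc, zero_comp, zero_comp, dKs_π_assoc, Preadditive.sub_comp,
      Preadditive.comp_sub, Category.assoc, ψs_π, ← comp_smulMod, biproduct.lift_π_assoc,
      biproduct.lift_π_assoc, sub_eq_zero]
    exact hw i j)

@[reassoc]
lemma Zlift_ev {W : X.Modules} (w : ∀ i, W ⟶ G)
    (hw : ∀ i j, w j ≫ Formal.smulMod A G (a i) = w i ≫ Formal.smulMod A G (a j)) (i : Fin r) :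
    Zlift a G w hw ≫ ev a G i = w i := by
  unfold Zlift ev ζ
  rw [kernel.lift_ι_assoc, biproduct.lift_π]

/-! ### sections -/

lemma ev_app (i : Fin r) (U : X.Opens) (z : Γ(Zk a G, U)) :
    (ev a G i).app U z = (biproduct.π (fun _ : Fin r => G) i).app U ((ζ a G).app U z) := rfl

lemma Zk_sec_ext (U : X.Opens) (z z' : Γ(Zk a G, U))
    (h : ∀ i, (ev a G i).app U z = (ev a G i).app U z') : z = z' := by
  apply mono_app (ζ a G) U
  apply biproduct_sec_ext
  intro i
  exact h i

lemma Zk_sec_koszul (U : X.Opens) (z : Γ(Zk a G, U)) (i j : Fin r) :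
    φU U (a i) • (ev a G j).app U z = φU U (a j) • (ev a G i).app U z :=
  congrArg (fun ψ => (Scheme.Modules.Hom.app ψ U) z) (ev_koszul a G i j)

lemma Zk_sec_mk (U : X.Opens) (w : Fin r → Γ(G, U))
    (hw : ∀ i j, φU U (a i) • w j = φU U (a j) • w i) :
    ∃ z : Γ(Zk a G, U), ∀ i, (ev a G i).app U z = w i := by
  obtain ⟨y, hy⟩ := biproduct_sec_mk (fun _ : Fin r => G) U w
  have hd : (dKs a G).app U y = 0 := by
    apply biproduct_sec_ext
    intro i
    apply biproduct_sec_ext
    intro j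
    have h1 : (biproduct.π (fun _ : Fin r => Pw r G) i).app U ((dKs a G).app U y) =
        φU U (a i) • y - (ψs a G).app U ((biproduct.π (fun _ : Fin r => G) i).app U y) :=
      congrArg (fun ψ => (Scheme.Modules.Hom.app ψ U) y) (dKs_π a G i)
    have h2 : (biproduct.π (fun _ : Fin r => G) j).app U
        ((ψs a G).app U ((biproduct.π (fun _ : Fin r => G) i).app U y)) =
        φU U (a j) • (biproduct.π (fun _ : Fin r => G) i).app U y :=
      congrArg (fun ψ => (Scheme.Modules.Hom.app ψ U)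
        ((biproduct.π (fun _ : Fin r => G) i).app U y)) (ψs_π a G j)
    rw [h1, map_sub, Scheme.Modules.Hom.app_smul, h2, hy, hy, map_zero, map_zero, sub_eq_zero]
    exact hw i j
  obtain ⟨z, hz⟩ := QC.exists_kernel_section (dKs a G) U y hd
  refine ⟨z, fun i => ?_⟩
  rw [ev_app]
  have : (ζ a G).app U z = y := hz
  rw [this, hy]

lemma ψz_ev_app (U : X.Opens) (g : Γ(G, U)) (i : Fin r) :
    (ev a G i).app U ((ψz a G).app U g) = φU U (a i) • g :=
  congrArg (fun ψ => (Scheme.Modules.Hom.app ψ U) g) (ψz_ev a G i)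

variable {a G}

lemma qc_Zk (hG : G.IsQuasicoherent) : (Zk a G).IsQuasicoherent := by
  have h1 : (Pw r G).IsQuasicoherent := qc_biproduct _ fun _ => hG
  exact QC.qc_kernel _ h1 (qc_biproduct _ fun _ => h1)

lemma isCoh_Zk [IsLocallyNoetherian X] (hG : Coh.IsCoh G) : Coh.IsCoh (Zk a G) := by
  have h1 : Coh.IsCoh (Pw r G) := isCoh_biproduct _ fun _ => hG
  exact QC.isCoh_kernel _ h1 (isCoh_biproduct _ fun _ => h1)

end Groth.Agent.H2.GY
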