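import Groth.Agent.Lib.Helper2.GYStA
import Groth.Agent.Lib.Helper2.GXBaseA

/-!
# The "easy existence, right" lemma (helper2)
-/

set_option autoImplicit false
set_option linter.style.haveILetI false
set_option linter.unusedVariables false
set_option linter.unusedSectionVars false
universe u
open CategoryTheory Limits Opposite TopologicalSpace AlgebraicGeometry

namespace Groth.Agent.H2.GY

open Groth.Agent.LD Groth.Agent.LD.QC Groth.Agent.H2.FormalQ Groth.Agent.H2.FormalEq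
  Groth.Agent.LD.HF Groth.Agent.H2.AlgzExt Groth.Agent.LD.FF Groth.Agent.H2.GX
  Groth.Agent.LD.FK

variable {A : Type u} [CommRing A] {X : Scheme.{u}} [X.Over (Spec (CommRingCat.of A))]
  [IsNoetherian X]

/-- finitely many elements of `J` generating `J Γ(X, V)` for all `V` of a finite family of affine
opens. -/
lemma exists_gens (J : Ideal A) (t : Finset X.affineOpens) :
    ∃ (r : ℕ) (a : Fin r → A), (∀ i, a i ∈ J) ∧ ∀ V ∈ t,
      Ideal.map (φU V.1) J ≤ Ideal.span (Set.range fun i => φU V.1 (a i)) := by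
  classical
  have hT : ∀ U : t, ∃ T : Finset A, (↑T : Set A) ⊆ (J : Set A) ∧
      Ideal.map (φU U.1.1) J ≤ Ideal.span ((φU U.1.1) '' (↑T : Set A)) := by
    intro U
    haveI : IsNoetherianRing Γ(X, U.1.1) := IsLocallyNoetherian.component_noetherian U.1
    have hfg : (Submodule.span Γ(X, U.1.1) ((φU U.1.1) '' (J : Set A))).FG :=
      IsNoetherian.noetherian _
    obtain ⟨s', hs', hspan⟩ := (Submodule.fg_span_iff_fg_span_finset_subset _).1 hfg
    obtain ⟨T, hT, rfl⟩ := Finset.subset_set_image_iff.1 hs'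
    refine ⟨T, hT, ?_⟩
    have h3 : Ideal.map (φU U.1.1) J = Ideal.span ((φU U.1.1) '' (↑T : Set A)) := by
      change Submodule.span _ _ = Submodule.span _ _
      rw [hspan, Finset.coe_image]
    exact h3.le
  choose T hTI hTU using hT
  let J' : Ideal A := Ideal.span (⋃ U : t, (↑(T U) : Set A))
  have hJI : J' ≤ J := Ideal.span_le.2 (Set.iUnion_subset hTI)
  have hJfg : J'.FG := Submodule.fg_span (Set.finite_iUnion fun U => (T U).finite_toSet)
  obtain ⟨s, a, ha⟩ := Submodule.fg_iff_exists_fin_generating_family.1 hJfg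
  have ha' : Ideal.span (Set.range a) = J' := ha
  refine ⟨s, a, fun i => hJI ?_, fun V hV => ?_⟩
  · rw [← ha']
    exact Ideal.subset_span ⟨i, rfl⟩
  · refine (hTU ⟨V, hV⟩).trans (Ideal.span_le.2 ?_)
    rintro _ ⟨x, hx, rfl⟩
    have h1 : x ∈ J' := Ideal.subset_span (Set.mem_iUnion.2 ⟨⟨V, hV⟩, hx⟩)
    rw [← ha'] at h1
    have h2 : φU V.1 x ∈ Ideal.map (φU V.1) (Ideal.span (Set.range a)) :=
      Ideal.mem_map_of_mem _ h1
    rw [Ideal.map_span, ← Set.range_comp] at h2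
    exact h2

omit [AlgebraicGeometry.IsNoetherian X] in
/-- a quasi-coherent module killed by the generators is killed by the ideal. -/
lemma killedBy_of_gens {M : X.Modules} (hM : M.IsQuasicoherent) (J : Ideal A) {r : ℕ}
    (a : Fin r → A) (t : Finset X.affineOpens) (ht : ∀ x : X, ∃ V ∈ t, x ∈ V.1)
    (hJa : ∀ V ∈ t, Ideal.map (φU V.1) J ≤ Ideal.span (Set.range fun i => φU V.1 (a i)))
    (h : ∀ i, Formal.smulMod A M (a i) = 0) : Formal.KilledBy J M := by
  intro b hb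
  apply smulMod_eq_zero_of_affine_cover hM b
  intro x
  obtain ⟨V, hVt, hxV⟩ := ht x
  refine ⟨V.1, V.2, hxV, fun s => ?_⟩
  have h1 : φU V.1 b ∈ Ideal.span (Set.range fun i => φU V.1 (a i)) :=
    hJa V hVt (Ideal.mem_map_of_mem _ hb)
  obtain ⟨c, hc⟩ := (Ideal.mem_span_range_iff_exists_fun).1 h1
  rw [← hc, Finset.sum_smul]
  refine Finset.sum_eq_zero fun i _ => ?_
  rw [mul_smul]
  have h2 : φU V.1 (a i) • s = 0 :=
    congrArg (fun ψ => (Scheme.Modules.Hom.app ψ V.1) s) (h i)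
  rw [h2, smul_zero]

variable (I : Ideal A) {r : ℕ} (a : Fin r → A) {G : X.Modules} {F : ℕᵒᵖ ⥤ X.Modules}
  (σ : ∀ n, G ⟶ F.obj (op n)) (hσ : ∀ {n m : ℕ} (h : n ≤ m), σ m ≫ tr F h = σ n)

include hσ in
/-- the construction, for an abstract tower. -/
theorem exists_of_tower (hF : Formal.IsCohFormal I F) (hG : Coh.IsCoh G)
    (t : Finset X.affineOpens) (ht : ∀ x : X, ∃ V ∈ t, x ∈ V.1) (tt : ℕ)
    (hJa : ∀ V ∈ t, (Ideal.map (φU V.1) I) ^ tt ≤ Ideal.span (Set.range fun i => φU V.1 (a i)))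
    (h1 : ∀ n i, Formal.smulMod A (F.obj (op n)) (a i) ≫ cokernel.π (σ n) = 0)
    (h2 : ∀ n i, kernel.ι (σ n) ≫ Formal.smulMod A G (a i) ≫ cπ I G n = 0) :
    ∃ (F' : X.Modules) (b : G ⟶ F') (lam : ∀ n, F' ⟶ F.obj (op n)), Coh.IsCoh F' ∧
      (∀ n, IsQ (I ^ (n + 1)) (lam n)) ∧
      (∀ (n m : ℕ) (h : n ≤ m), lam m ≫ tr F h = lam n) ∧
      (∀ n, b ≫ lam n = σ n) ∧
      (∀ i, Formal.smulMod A (kernel b) (a i) = 0) ∧
      (∀ i, Formal.smulMod A (cokernel b) (a i) = 0) := by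
  -- stage A
  obtain ⟨c, hc⟩ := exists_stAHyp I a σ hσ hF hG t tt hJa h1 h2
  have hA : ∀ x : X, ∃ V : X.Opens, x ∈ V ∧ StAHyp a σ c V := fun x => by
    obtain ⟨V, hVt, hxV⟩ := ht x
    exact ⟨V.1, hxV, hc c le_rfl V hVt⟩
  have hκ := κc_σ I a σ c hF hG hA
  have hGq := isCoh_Gq I a σ c hF hG
  have hσq : ∀ {n m : ℕ} (h : n ≤ m), σq a σ c hκ m ≫ tr F h = σq a σ c hκ n :=
    fun h => σq_tr a σ hσ c hκ h
  have h1'' := h1q a σ c hκ h1
  have h2'' := h2q I a σ c hF hG hκ h2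
  haveI := mono_aEq I a σ c hF hG hA hκ
  -- stage B
  obtain ⟨s₀, hs₀⟩ := exists_secHyp I a (σq a σ c hκ) hσq hF hGq t tt hJa h1'' h2'' c
  have hcs : c ≤ max s₀ c := le_max_right _ _
  have hS : ∀ x : X, ∃ V : X.Opens, x ∈ V ∧ SecHyp I a (σq a σ c hκ) (max s₀ c) V := fun x => by
    obtain ⟨V, hVt, hxV⟩ := ht x
    exact ⟨V.1, hxV, hs₀ _ (le_max_left _ _) V hVt⟩
  haveI hmono_s : Mono (aE a (σq a σ c hκ) (max s₀ c)) := by
    haveI : Mono (aE a (σq a σ c hκ) (max s₀ c) ≫ trE a (σq a σ c hκ) hσq hcs) := by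
      rw [aE_trE]
      infer_instance
    exact mono_of_mono _ (trE a (σq a σ c hκ) hσq hcs)
  haveI hmono_ap : Mono (ap a (σq a σ c hκ) hσq (max s₀ c)) := by
    haveI : Mono (ap a (σq a σ c hκ) hσq (max s₀ c) ≫ ιp a (σq a σ c hκ) hσq (max s₀ c)) := by
      rw [ap_ιp]
      infer_instance
    exact mono_of_mono _ (ιp a (σq a σ c hκ) hσq (max s₀ c))
  have hFp := isCoh_Fp a (σq a σ c hκ) hσq hF hGq (max s₀ c)
  refine ⟨Fp a (σq a σ c hκ) hσq (max s₀ c), pq a σ c ≫ ap a (σq a σ c hκ) hσq (max s₀ c),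
    lam a (σq a σ c hκ) hσq hF hGq (max s₀ c) hS, hFp,
    fun n => isQ_lam a (σq a σ c hκ) hσq hF hGq (max s₀ c) hS n,
    fun n m h => lam_tr a (σq a σ c hκ) hσq hF hGq (max s₀ c) hS h,
    fun n => ?_, fun i => ?_, fun i => ?_⟩
  · rw [Category.assoc, ap_lam, pq_σq]
  · -- the kernel
    have h3 : kernel.ι (pq a σ c ≫ ap a (σq a σ c hκ) hσq (max s₀ c)) ≫ pq a σ c = 0 := by
      rw [← cancel_mono (ap a (σq a σ c hκ) hσq (max s₀ c)), Category.assoc, kernel.condition,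
        zero_comp]
    have h4 : kernel.ι (pq a σ c ≫ ap a (σq a σ c hκ) hσq (max s₀ c)) ≫
        cokernel.π (κc a σ c) = 0 := h3
    rw [← cancel_mono (kernel.ι (pq a σ c ≫ ap a (σq a σ c hκ) hσq (max s₀ c))), zero_comp,
      ← comp_smulMod, ← Abelian.monoLift_comp (κc a σ c) _ h4, Category.assoc, comp_smulMod,
      smulMod_Kc, zero_comp, comp_zero]
  · -- the cokernel
    have h3 : ap a (σq a σ c hκ) hσq (max s₀ c) ≫
        cokernel.π (pq a σ c ≫ ap a (σq a σ c hκ) hσq (max s₀ c)) = 0 := by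
      rw [← cancel_epi (pq a σ c), ← Category.assoc, cokernel.condition, comp_zero]
    have h4 : cokernel.π (pq a σ c ≫ ap a (σq a σ c hκ) hσq (max s₀ c)) =
        cokernel.π (ap a (σq a σ c hκ) hσq (max s₀ c)) ≫ cokernel.desc _ _ h3 :=
      (cokernel.π_desc _ _ _).symm
    rw [← cancel_epi (cokernel.π (pq a σ c ≫ ap a (σq a σ c hκ) hσq (max s₀ c))), comp_zero,
      comp_smulMod, h4, ← Category.assoc,
      smul_comp_cokernel_ap a (σq a σ c hκ) hσq hF hGq (max s₀ c) hS i, zero_comp]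

/-- **Easy existence, right**. -/
theorem existence_easy_right {G : X.Modules} (hG : Coh.IsCoh G)
    {F : ℕᵒᵖ ⥤ X.Modules} (hF : Formal.IsCohFormal I F) (α : Formal.completion I G ⟶ F)
    (hα : Formal2.KerCokerKilledByIPow I α) :
    ∃ (F' : X.Modules) (a : G ⟶ F') (β : Formal.completion I F' ≅ F), Coh.IsCoh F' ∧
      Formal2.KerCokerKilledByIPowHom I a ∧
      ∀ n : ℕ, Formal.modPowπ I (n + 1) G ≫ α.app (op n) =
        a ≫ Formal.modPowπ I (n + 1) F' ≫ β.hom.app (op n) := by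
  obtain ⟨t₀, ht₀⟩ := hα
  obtain ⟨t, ht⟩ := exists_finset_affineOpens_cover' X
  obtain ⟨r, a, haI, hJa'⟩ := exists_gens (I ^ (t₀ + 1)) t
  have hJa : ∀ V ∈ t, (Ideal.map (φU V.1) I) ^ (t₀ + 1) ≤
      Ideal.span (Set.range fun i => φU V.1 (a i)) := by
    intro V hV
    rw [← Ideal.map_pow]
    exact hJa' V hV
  have hσ : ∀ {n m : ℕ} (h : n ≤ m),
      (cπ I G m ≫ α.app (op m)) ≫ tr F h = cπ I G n ≫ α.app (op n) := by
    intro n m h
    rw [Category.assoc]
    change cπ I G m ≫ α.app (op m) ≫ F.map (homOfLE h).op = _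
    rw [← α.naturality, cπ_map_assoc]
  have h1 : ∀ n i, Formal.smulMod A (F.obj (op n)) (a i) ≫
      cokernel.π (cπ I G n ≫ α.app (op n)) = 0 := by
    intro n i
    have h3 : α.app (op n) ≫ cokernel.π (cπ I G n ≫ α.app (op n)) = 0 := by
      rw [← cancel_epi (cπ I G n), ← Category.assoc, cokernel.condition, comp_zero]
    have h4 : cokernel.π (cπ I G n ≫ α.app (op n)) =
        cokernel.π (α.app (op n)) ≫ cokernel.desc _ _ h3 := (cokernel.π_desc _ _ _).symm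
    rw [h4, ← Category.assoc, ← comp_smulMod, (ht₀ n).2 (a i) (haI i), comp_zero, zero_comp]
  have h2 : ∀ n i, kernel.ι (cπ I G n ≫ α.app (op n)) ≫ Formal.smulMod A G (a i) ≫
      cπ I G n = 0 := by
    intro n i
    have h3 : (kernel.ι (cπ I G n ≫ α.app (op n)) ≫ cπ I G n) ≫ α.app (op n) = 0 := by
      rw [Category.assoc]
      exact kernel.condition _
    have h4 : kernel.ι (cπ I G n ≫ α.app (op n)) ≫ cπ I G n =
        kernel.lift _ _ h3 ≫ kernel.ι (α.app (op n)) := (kernel.lift_ι _ _ _).symm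
    rw [← comp_smulMod, ← Category.assoc, h4, Category.assoc, comp_smulMod,
      (ht₀ n).1 (a i) (haI i), zero_comp, comp_zero]
  obtain ⟨F', b, lam, hF', hlamQ, hlamtr, hblam, hker, hcoker⟩ :=
    exists_of_tower I a (fun n => cπ I G n ≫ α.app (op n)) hσ hF hG t ht (t₀ + 1) hJa h1 h2
  obtain ⟨β, hβ⟩ := exists_iso_of_isQ_family (fun n => I ^ (n + 1)) (cπ I F') lam
    (isQ_cπ F') hlamQ (fun n k h => cπ_map F' h) hlamtr
  refine ⟨F', b, β, hF', ⟨t₀, ?_, ?_⟩, fun n => ?_⟩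
  · exact killedBy_of_gens (QC.qc_kernel _ hG.1 hF'.1) (I ^ (t₀ + 1)) a t ht hJa' hker
  · exact killedBy_of_gens (QC.qc_cokernel _ hG.1 hF'.1) (I ^ (t₀ + 1)) a t ht hJa' hcoker
  · have h3 := hβ n
    change cπ I G n ≫ α.app (op n) = b ≫ cπ I F' n ≫ β.hom.app (op n)
    rw [h3, hblam n]

end Groth.Agent.H2.GY
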