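import Groth.Agent.Lib.Helper2.GXFibB

/-!
# Sections toolkit, II: finite biproducts and criteria on an affine cover (helper2)
-/

set_option autoImplicit false
set_option linter.style.haveILetI false
universe u
open CategoryTheory Limits Opposite TopologicalSpace AlgebraicGeometry

namespace Groth.Agent.H2.GY

open Groth.Agent.LD Groth.Agent.LD.QC Groth.Agent.H2.FormalQ Groth.Agent.H2.FormalEq
  Groth.Agent.LD.HF Groth.Agent.H2.AlgzExt Groth.Agent.LD.FF Groth.Agent.H2.GX

section Plain
variable {X : Scheme.{u}}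

lemma sum_app {M N : X.Modules} {ι : Type*} (s : Finset ι) (f : ι → (M ⟶ N)) (U : X.Opens)
    (x : Γ(M, U)) : (∑ i ∈ s, f i).app U x = ∑ i ∈ s, (f i).app U x := by
  classical
  induction s using Finset.induction_on with
  | empty =>
    rw [Finset.sum_empty, Finset.sum_empty]
    rfl
  | insert a s ha ih =>
    rw [Finset.sum_insert ha, Finset.sum_insert ha, ← ih]
    rfl

lemma biproduct_sec_total {r : ℕ} (f : Fin r → X.Modules) (U : X.Opens) (w : Γ(⨁ f, U)) :
    w = ∑ j, (biproduct.ι f j).app U ((biproduct.π f j).app U w) := by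
  calc w = (𝟙 (⨁ f) : ⨁ f ⟶ ⨁ f).app U w := rfl
    _ = (∑ j, biproduct.π f j ≫ biproduct.ι f j).app U w := by rw [biproduct.total]
    _ = ∑ j, (biproduct.π f j ≫ biproduct.ι f j).app U w := sum_app _ _ U w
    _ = ∑ j, (biproduct.ι f j).app U ((biproduct.π f j).app U w) := rfl

lemma biproduct_sec_ext {r : ℕ} (f : Fin r → X.Modules) (U : X.Opens) (x y : Γ(⨁ f, U))
    (h : ∀ j, (biproduct.π f j).app U x = (biproduct.π f j).app U y) : x = y := by
  rw [biproduct_sec_total f U x, biproduct_sec_total f U y]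
  exact Finset.sum_congr rfl fun j _ => by rw [h j]

lemma biproduct_sec_mk {r : ℕ} (f : Fin r → X.Modules) (U : X.Opens) (x : ∀ j, Γ(f j, U)) :
    ∃ y : Γ(⨁ f, U), ∀ j, (biproduct.π f j).app U y = x j := by
  refine ⟨∑ j, (biproduct.ι f j).app U (x j), fun k => ?_⟩
  have h1 : (biproduct.π f k).app U (∑ j, (biproduct.ι f j).app U (x j)) =
      ∑ j, (biproduct.π f k).app U ((biproduct.ι f j).app U (x j)) := map_sum _ _ _
  rw [h1, Finset.sum_eq_single k]
  · have : (biproduct.ι f k ≫ biproduct.π f k).app U (x k) = x k := by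
      rw [biproduct.ι_π_self]
      rfl
    exact this
  · intro j _ hjk
    have : (biproduct.ι f j ≫ biproduct.π f k).app U (x j) = 0 := by
      rw [biproduct.ι_π_ne f hjk]
      rfl
    exact this
  · intro h
    exact absurd (Finset.mem_univ k) h

lemma biproduct_lift_app {r : ℕ} {M : X.Modules} (f : Fin r → X.Modules) (g : ∀ j, M ⟶ f j)
    (U : X.Opens) (x : Γ(M, U)) (j : Fin r) :
    (biproduct.π f j).app U ((biproduct.lift g).app U x) = (g j).app U x :=
  congrArg (fun ψ => (Scheme.Modules.Hom.app ψ U) x) (biproduct.lift_π g j)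

lemma qc_biproduct {r : ℕ} (f : Fin r → X.Modules) (h : ∀ j, (f j).IsQuasicoherent) :
    (⨁ f).IsQuasicoherent := by
  refine QC.qc_of_iso (biproduct.isoProduct f).symm ?_
  apply QC.qc_limit (Discrete.functor f)
  rintro ⟨j⟩
  exact h j

/-- epimorphisms can be tested on the sections over an affine cover. -/
theorem epi_of_affine_cover {M N : X.Modules} (hM : M.IsQuasicoherent) (hN : N.IsQuasicoherent)
    (p : M ⟶ N)
    (h : ∀ x : X, ∃ U : X.Opens, IsAffineOpen U ∧ x ∈ U ∧ Function.Surjective (p.app U)) :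
    Epi p := by
  have hC : (cokernel p).IsQuasicoherent := QC.qc_cokernel p hM hN
  have hz : cokernel.π p = 0 := by
    apply Groth.Agent.LD.FK.hom_eq_zero_of_affine_cover hN hC
    intro x
    obtain ⟨U, hU, hxU, hs⟩ := h x
    refine ⟨U, hU, hxU, fun s => ?_⟩
    obtain ⟨m, rfl⟩ := hs s
    exact congrArg (fun ψ => (Scheme.Modules.Hom.app ψ U) m) (cokernel.condition p)
  exact Preadditive.epi_of_cokernel_zero hz

/-- monomorphisms can be tested on the sections over an affine cover. -/
theorem mono_of_affine_cover {M N : X.Modules} (hM : M.IsQuasicoherent) (hN : N.IsQuasicoherent)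
    (p : M ⟶ N)
    (h : ∀ x : X, ∃ U : X.Opens, IsAffineOpen U ∧ x ∈ U ∧ ∀ s : Γ(M, U), p.app U s = 0 → s = 0) :
    Mono p := by
  have hK : (kernel p).IsQuasicoherent := QC.qc_kernel p hM hN
  have hz : kernel.ι p = 0 := by
    apply Groth.Agent.LD.FK.hom_eq_zero_of_affine_cover hK hM
    intro x
    obtain ⟨U, hU, hxU, hs⟩ := h x
    refine ⟨U, hU, hxU, fun s => ?_⟩
    apply hs
    exact congrArg (fun ψ => (Scheme.Modules.Hom.app ψ U) s) (kernel.condition p)
  exact Preadditive.mono_of_kernel_zero hz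

/-- exactness at the cokernel on sections over an affine open. -/
lemma exists_of_cokernel_π_eq_zero {M N : X.Modules} (hM : M.IsQuasicoherent)
    (hN : N.IsQuasicoherent) (p : M ⟶ N) {U : X.Opens} (hU : IsAffineOpen U) (y : Γ(N, U))
    (hy : (cokernel.π p).app U y = 0) : ∃ x : Γ(M, U), p.app U x = y := by
  have hC : (cokernel p).IsQuasicoherent := QC.qc_cokernel p hM hN
  have hI : (Abelian.image p).IsQuasicoherent := QC.qc_kernel (cokernel.π p) hN hC
  obtain ⟨k, hk⟩ := QC.exists_kernel_section (cokernel.π p) U y hy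
  obtain ⟨x, hx⟩ := QC.epi_app_affine hM hI (Abelian.factorThruImage p) hU k
  refine ⟨x, ?_⟩
  have h1 : (Abelian.image.ι p).app U ((Abelian.factorThruImage p).app U x) = p.app U x :=
    congrArg (fun ψ => (Scheme.Modules.Hom.app ψ U) x) (Abelian.image.fac p)
  rw [← h1, hx]
  exact hk

end Plain

section Base
variable {A : Type u} [CommRing A] {X : Scheme.{u}} [X.Over (Spec (CommRingCat.of A))]

/-- vanishing of a scalar multiplication can be tested on an affine cover. -/
theorem smulMod_eq_zero_of_affine_cover {M : X.Modules} (hM : M.IsQuasicoherent) (b : A)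
    (h : ∀ x : X, ∃ U : X.Opens, IsAffineOpen U ∧ x ∈ U ∧ ∀ s : Γ(M, U), φU U b • s = 0) :
    Formal.smulMod A M b = 0 := by
  apply Groth.Agent.LD.FK.hom_eq_zero_of_affine_cover hM hM
  intro x
  obtain ⟨U, hU, hxU, hs⟩ := h x
  exact ⟨U, hU, hxU, fun s => hs s⟩

variable [IsNoetherian X] (I : Ideal A) (n : ℕ)

/-- a criterion, on sections over an affine cover, for being a quotient by `I^n`. -/
theorem isQ_of_sections_cover {M Q : X.Modules} (hM : Coh.IsCoh M) (hQ : Q.IsQuasicoherent)
    (p : M ⟶ Q) [Epi p] (hk : Formal.KilledBy (I ^ n) Q)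
    (hker : ∀ x : X, ∃ U : X.Opens, IsAffineOpen U ∧ x ∈ U ∧ ∀ s : Γ(M, U), p.app U s = 0 →
      s ∈ ((Ideal.map (φU U) I) ^ n • ⊤ : Submodule Γ(X, U) Γ(M, U))) : IsQ (I ^ n) p := by
  obtain ⟨φ, hφ⟩ := (isQ_modPowπ I n M).exists_desc hk p
  have hMn := isCoh_modPow I n hM
  haveI : Epi (Formal.modPowπ I n M) := (isQ_modPowπ I n M).epi
  haveI : Epi φ := by
    have : Epi (Formal.modPowπ I n M ≫ φ) := by rw [hφ]; infer_instance
    exact epi_of_epi (Formal.modPowπ I n M) φ
  have hz : kernel.ι φ = 0 := by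
    apply Groth.Agent.LD.FK.hom_eq_zero_of_affine_cover (QC.qc_kernel φ hMn.1 hQ) hMn.1
    intro x
    obtain ⟨U, hU, hxU, hUk⟩ := hker x
    refine ⟨U, hU, hxU, fun s => ?_⟩
    obtain ⟨y, hy⟩ := QC.epi_app_affine hM.1 hMn.1 (Formal.modPowπ I n M) hU
      ((kernel.ι φ).app U s)
    have h2 : φ.app U ((Formal.modPowπ I n M).app U y) = p.app U y :=
      congrArg (fun ψ => (Scheme.Modules.Hom.app ψ U) y) hφ
    have h1 : p.app U y = 0 := by
      rw [← h2, hy]
      exact congrArg (fun ψ => (Scheme.Modules.Hom.app ψ U) s) (kernel.condition φ)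
    have h3 := hUk y h1
    rw [← hy]
    exact (isQ_app_eq_zero_iff I n hM (isQ_modPowπ I n M) hU y).2 h3
  haveI : Mono φ := Preadditive.mono_of_kernel_zero hz
  haveI : IsIso φ := isIso_of_mono_of_epi φ
  rw [← hφ]
  exact isQ_comp_iso (isQ_modPowπ I n M) φ

end Base

section Coh
variable {X : Scheme.{u}} [IsLocallyNoetherian X]

/-- finite biproducts of coherent modules are coherent. -/
theorem isCoh_biproduct {r : ℕ} (f : Fin r → X.Modules) (h : ∀ j, Coh.IsCoh (f j)) :
    Coh.IsCoh (⨁ f) := by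
  have hq : (⨁ f).IsQuasicoherent := qc_biproduct f fun j => (h j).1
  refine ⟨hq, ?_⟩
  haveI := hq
  rw [QC.isFiniteType_iff_finite_sections]
  intro U hU
  haveI : IsNoetherianRing Γ(X, U) := IsLocallyNoetherian.component_noetherian ⟨U, hU⟩
  haveI : ∀ j, Module.Finite Γ(X, U) Γ(f j, U) := fun j => by
    haveI := (h j).1
    exact QC.finite_sections_of_isFiniteType (f j) (h j).2 hU
  let L : Γ(⨁ f, U) →ₗ[Γ(X, U)] (∀ j, Γ(f j, U)) :=
    LinearMap.pi fun j => appLinear (biproduct.π f j) U
  have hL : Function.Injective L := by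
    intro x y hxy
    apply biproduct_sec_ext f U x y
    intro j
    exact congrFun hxy j
  exact Module.Finite.of_injective L hL

end Coh

end Groth.Agent.H2.GY
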