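import Groth.Agent.Lib.Helper2.GYStB

/-!
# Stage A of the "easy existence, right" lemma: dividing out the bounded torsion (helper2)
-/

set_option autoImplicit false
set_option linter.style.haveILetI false
set_option linter.unusedVariables false
set_option linter.unusedSectionVars false
universe u
open CategoryTheory Limits Opposite TopologicalSpace AlgebraicGeometry

namespace Groth.Agent.H2.GY

open Groth.Agent.LD Groth.Agent.LD.QC Groth.Agent.H2.FormalQ Groth.Agent.H2.FormalEq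
  Groth.Agent.LD.HF Groth.Agent.H2.AlgzExt Groth.Agent.LD.FF Groth.Agent.H2.GX
  Groth.Agent.LD.FK

variable {A : Type u} [CommRing A] {X : Scheme.{u}} [X.Over (Spec (CommRingCat.of A))]
  [IsNoetherian X] (I : Ideal A)
  {r : ℕ} (a : Fin r → A) {G : X.Modules} {F : ℕᵒᵖ ⥤ X.Modules} (σ : ∀ n, G ⟶ F.obj (op n))
  (hσ : ∀ {n m : ℕ} (h : n ≤ m), σ m ≫ tr F h = σ n)

/-- the properties, on the sections over `V`, used in stage A. -/
structure StAHyp (c : ℕ) (V : X.Opens) : Prop where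
  aff : IsAffineOpen V
  PA : ∀ y : Γ(G, V), (∀ i, φU V (a i) • y = 0) → (σ c).app V y = 0 → ∀ n, (σ n).app V y = 0
  PA2 : ∀ y : Γ(G, V), (∀ i j, φU V (a j) • φU V (a i) • y = 0) → (σ c).app V y = 0 →
    ∀ i, φU V (a i) • y = 0

include hσ in
theorem exists_stAHyp (hF : Formal.IsCohFormal I F) (hG : Coh.IsCoh G)
    (t : Finset X.affineOpens) (tt : ℕ)
    (hJa : ∀ V ∈ t, (Ideal.map (φU V.1) I) ^ tt ≤ Ideal.span (Set.range fun i => φU V.1 (a i)))
    (h1 : ∀ n i, Formal.smulMod A (F.obj (op n)) (a i) ≫ cokernel.π (σ n) = 0)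
    (h2 : ∀ n i, kernel.ι (σ n) ≫ Formal.smulMod A G (a i) ≫ cπ I G n = 0) :
    ∃ c₀ : ℕ, ∀ c, c₀ ≤ c → ∀ V ∈ t, StAHyp a σ c V.1 := by
  apply exists_uniform₁ t (fun V c => StAHyp a σ c V.1)
  intro V hVt
  haveI : IsNoetherianRing Γ(X, V.1) := IsLocallyNoetherian.component_noetherian V
  haveI := hG.1
  haveI : Module.Finite Γ(X, V.1) Γ(G, V.1) := QC.finite_sections_of_isFiniteType G hG.2 V.2
  have H := towerHyp a σ hσ hF hG V.2 tt (hJa V hVt) h1 h2
  obtain ⟨c₁, hc₁⟩ := Alg.exists_PA H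
  obtain ⟨c₂, hc₂⟩ := Alg.exists_PA2 H
  refine ⟨max c₁ c₂, fun c hc => ?_⟩
  exact
    { aff := V.2
      PA := fun y hy hσy n => hc₁ c ((le_max_left _ _).trans hc) y hy hσy n
      PA2 := fun y hy hσy i => hc₂ c ((le_max_right _ _).trans hc) y hy hσy i }

section Constr

variable (c : ℕ)

/-- the bounded torsion `K = ker (G ⟶ E_c)`. -/
noncomputable abbrev Kc : X.Modules := kernel (aE a σ c)

/-- `K ⟶ G`. -/
noncomputable def κc : Kc a σ c ⟶ G := kernel.ι _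

instance : Mono (κc a σ c) := inferInstanceAs (Mono (kernel.ι _))

/-- `G'' = G / K`. -/
noncomputable abbrev Gq : X.Modules := cokernel (κc a σ c)

/-- `G ⟶ G''`. -/
noncomputable def pq : G ⟶ Gq a σ c := cokernel.π _

instance : Epi (pq a σ c) := inferInstanceAs (Epi (cokernel.π _))

@[reassoc]
lemma κc_aE : κc a σ c ≫ aE a σ c = 0 := kernel.condition _

@[reassoc]
lemma κc_pq : κc a σ c ≫ pq a σ c = 0 := cokernel.condition _

lemma κc_sec (V : X.Opens) (k : Γ(Kc a σ c, V)) :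
    (∀ i, φU V (a i) • (κc a σ c).app V k = 0) ∧ (σ c).app V ((κc a σ c).app V k) = 0 := by
  have h0 : (aE a σ c).app V ((κc a σ c).app V k) = 0 :=
    congrArg (fun ψ => (Scheme.Modules.Hom.app ψ V) k) (κc_aE a σ c)
  refine ⟨fun i => ?_, ?_⟩
  · rw [← aE_sec_z a σ c, h0, map_zero, map_zero]
  · rw [← aE_sec_x a σ c, h0, map_zero]

lemma smulMod_Kc (i : Fin r) : Formal.smulMod A (Kc a σ c) (a i) = 0 := by
  rw [← cancel_mono (κc a σ c), zero_comp, ← comp_smulMod, ← ψz_ev a G i, ← aE_Ez a σ c,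
    Category.assoc, κc_aE_assoc, zero_comp]

variable (hF : Formal.IsCohFormal I F) (hG : Coh.IsCoh G)
  (hA : ∀ x : X, ∃ V : X.Opens, x ∈ V ∧ StAHyp a σ c V)

include hF hG in
lemma isCoh_Kc : Coh.IsCoh (Kc a σ c) :=
  QC.isCoh_kernel _ hG (isCoh_En hG c (hF.1 c))

include hF hG in
lemma isCoh_Gq : Coh.IsCoh (Gq a σ c) :=
  QC.isCoh_cokernel _ (isCoh_Kc I a σ c hF hG) hG

include hF hG hA in
lemma κc_σ (n : ℕ) : κc a σ c ≫ σ n = 0 := by
  apply Groth.Agent.LD.FK.hom_eq_zero_of_affine_cover (isCoh_Kc I a σ c hF hG).1 (hF.1 n).1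
  intro x
  obtain ⟨V, hxV, hV⟩ := hA x
  refine ⟨V, hV.aff, hxV, fun k => ?_⟩
  obtain ⟨h1, h2⟩ := κc_sec a σ c V k
  exact hV.PA _ h1 h2 n

variable (hκ : ∀ n, κc a σ c ≫ σ n = 0)

/-- the induced maps `G'' ⟶ F_n`. -/
noncomputable def σq (n : ℕ) : Gq a σ c ⟶ F.obj (op n) := cokernel.desc _ (σ n) (hκ n)

omit [AlgebraicGeometry.IsNoetherian X] in
@[reassoc]
lemma pq_σq (n : ℕ) : pq a σ c ≫ σq a σ c hκ n = σ n := cokernel.π_desc _ _ _

omit [AlgebraicGeometry.IsNoetherian X] in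
include hσ in
lemma σq_tr {n m : ℕ} (h : n ≤ m) : σq a σ c hκ m ≫ tr F h = σq a σ c hκ n := by
  rw [← cancel_epi (pq a σ c), pq_σq_assoc, hσ h, pq_σq]

omit [AlgebraicGeometry.IsNoetherian X] in
lemma h1q (h1 : ∀ n i, Formal.smulMod A (F.obj (op n)) (a i) ≫ cokernel.π (σ n) = 0)
    (n : ℕ) (i : Fin r) :
    Formal.smulMod A (F.obj (op n)) (a i) ≫ cokernel.π (σq a σ c hκ n) = 0 := by
  have h3 : σ n ≫ cokernel.π (σq a σ c hκ n) = 0 := by
    rw [← pq_σq a σ c hκ n, Category.assoc, cokernel.condition, comp_zero]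
  have h4 : cokernel.π (σq a σ c hκ n) =
      cokernel.π (σ n) ≫ cokernel.desc (σ n) (cokernel.π (σq a σ c hκ n)) h3 :=
    (cokernel.π_desc _ _ _).symm
  rw [h4, ← Category.assoc, h1 n i, zero_comp]

include hF hG in
lemma h2q (h2 : ∀ n i, kernel.ι (σ n) ≫ Formal.smulMod A G (a i) ≫ cπ I G n = 0)
    (n : ℕ) (i : Fin r) :
    kernel.ι (σq a σ c hκ n) ≫ Formal.smulMod A (Gq a σ c) (a i) ≫ cπ I (Gq a σ c) n = 0 := by
  have hGq := isCoh_Gq I a σ c hF hG
  apply Groth.Agent.LD.FK.hom_eq_zero_of_affine_cover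
    (QC.qc_kernel _ hGq.1 (hF.1 n).1) ((isCohFormal_completion I hGq).1 n).1
  intro x
  obtain ⟨V, hV, hxV, -⟩ := exists_isAffineOpen_mem_and_subset (x := x) (U := ⊤) trivial
  refine ⟨V, hV, hxV, fun k => ?_⟩
  set y'' := (kernel.ι (σq a σ c hκ n)).app V k with hy''
  have h0 : (σq a σ c hκ n).app V y'' = 0 :=
    congrArg (fun ψ => (Scheme.Modules.Hom.app ψ V) k) (kernel.condition (σq a σ c hκ n))
  obtain ⟨y, hy⟩ := QC.epi_app_affine hG.1 hGq.1 (pq a σ c) hV y''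
  have h3 : (σ n).app V y = 0 := by
    have e1 : (σq a σ c hκ n).app V ((pq a σ c).app V y) = (σ n).app V y :=
      congrArg (fun ψ => (Scheme.Modules.Hom.app ψ V) y) (pq_σq a σ c hκ n)
    rw [← e1, hy, h0]
  obtain ⟨k', hk'⟩ := QC.exists_kernel_section (σ n) V y h3
  have h4 : (cπ I G n).app V (φU V (a i) • y) = 0 := by
    rw [← hk']
    exact congrArg (fun ψ => (Scheme.Modules.Hom.app ψ V) k') (h2 n i)
  have h5 : (cπ I (Gq a σ c) n).app V ((pq a σ c).app V (φU V (a i) • y)) =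
      ((Groth.Agent.LD.GX.complMap (I := I) (pq a σ c)).app (op n)).app V ((cπ I G n).app V (φU V (a i) • y)) :=
    (congrArg (fun ψ => (Scheme.Modules.Hom.app ψ V) (φU V (a i) • y))
      (cπ_complMap (I := I) (pq a σ c) n)).symm
  have h6 : (kernel.ι (σq a σ c hκ n) ≫ Formal.smulMod A (Gq a σ c) (a i) ≫
      cπ I (Gq a σ c) n).app V k = (cπ I (Gq a σ c) n).app V (φU V (a i) • y'') := rfl
  rw [h6, ← hy, ← Scheme.Modules.Hom.app_smul, h5, h4, map_zero]

include hF hG hA in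
lemma mono_aEq : Mono (aE a (σq a σ c hκ) c) := by
  have hGq := isCoh_Gq I a σ c hF hG
  have hK := isCoh_Kc I a σ c hF hG
  apply mono_of_affine_cover hGq.1 (qc_En hGq.1 c (hF.1 c).1)
  intro x
  obtain ⟨V, hxV, hV⟩ := hA x
  refine ⟨V, hV.aff, hxV, fun y'' hy'' => ?_⟩
  obtain ⟨y, hy⟩ := QC.epi_app_affine hG.1 hGq.1 (pq a σ c) hV.aff y''
  have hz : ∀ i, (pq a σ c).app V (φU V (a i) • y) = 0 := by
    intro i
    rw [Scheme.Modules.Hom.app_smul, hy, ← aE_sec_z a (σq a σ c hκ) c, hy'', map_zero, map_zero]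
  have hx : (σ c).app V y = 0 := by
    have e1 : (σq a σ c hκ c).app V ((pq a σ c).app V y) = (σ c).app V y :=
      congrArg (fun ψ => (Scheme.Modules.Hom.app ψ V) y) (pq_σq a σ c hκ c)
    rw [← e1, hy, ← aE_sec_x a (σq a σ c hκ) c, hy'', map_zero]
  have h3 : ∀ i j, φU V (a j) • φU V (a i) • y = 0 := by
    intro i j
    obtain ⟨k, hk⟩ := exists_of_cokernel_π_eq_zero hK.1 hG.1 (κc a σ c) hV.aff _ (hz i)
    rw [← hk]
    exact (κc_sec a σ c V k).1 j
  have h4 := hV.PA2 y h3 hx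
  have h5 : (aE a σ c).app V y = 0 := by
    apply E_sec_ext
    · intro i
      rw [aE_sec_z, h4 i, map_zero, map_zero]
    · rw [aE_sec_x, hx, map_zero]
  obtain ⟨k, hk⟩ := QC.exists_kernel_section (aE a σ c) V y h5
  rw [← hy, ← hk]
  exact congrArg (fun ψ => (Scheme.Modules.Hom.app ψ V) k) (κc_pq a σ c)

end Constr

end Groth.Agent.H2.GY
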