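import Groth.Agent.Lib.Helper2.GYTowA

/-!
# Stage B of the "easy existence, right" lemma: the module `F'` (helper2)
-/

set_option autoImplicit false
set_option linter.style.haveILetI false
set_option linter.unusedVariables false
set_option linter.unusedSectionVars false
universe u
open CategoryTheory Limits Opposite TopologicalSpace AlgebraicGeometry

namespace Groth.Agent.H2.GY

open Groth.Agent.LD Groth.Agent.LD.QC Groth.Agent.H2.FormalQ Groth.Agent.H2.FormalEq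
  Groth.Agent.LD.HF Groth.Agent.H2.AlgzExt Groth.Agent.LD.FF Groth.Agent.H2.GX
  Groth.Agent.LD.FK

variable {A : Type u} [CommRing A] {X : Scheme.{u}} [X.Over (Spec (CommRingCat.of A))]
  [IsNoetherian X] (I : Ideal A)
  {r : ℕ} (a : Fin r → A) {G : X.Modules} {F : ℕᵒᵖ ⥤ X.Modules} (σ : ∀ n, G ⟶ F.obj (op n))
  (hσ : ∀ {n m : ℕ} (h : n ≤ m), σ m ≫ tr F h = σ n)

/-- the properties, on the sections over `V`, used in the construction. -/
structure SecHyp (s : ℕ) (V : X.Opens) : Prop where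
  aff : IsAffineOpen V
  exS : ∀ (n : ℕ) (x : Γ(F.obj (op n), V)), ∃ e : Γ(En a σ n, V), (Ex a σ n).app V e = x
  P2 : ∀ (n : ℕ) (w : Fin r → Γ(G, V)), (∀ i j, φU V (a i) • w j = φU V (a j) • w i) →
    (∀ i, (σ (n + s)).app V (w i) = 0) →
    ∃ y : Γ(G, V), y ∈ ((Ideal.map (φU V) I) ^ (n + 1) • ⊤ : Submodule Γ(X, V) Γ(G, V)) ∧
      ∀ i, w i = φU V (a i) • y
  P3 : ∀ (m : ℕ) (hsm : s ≤ m) (x : Γ(F.obj (op m), V)), (∀ i, φU V (a i) • x = 0) →
    (tr F hsm).app V x = 0 → ∀ (k : ℕ) (hkm : k ≤ m), k + s ≤ m → (tr F hkm).app V x = 0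
  σJ : ∀ (n : ℕ) (y : Γ(G, V)),
    y ∈ ((Ideal.map (φU V) I) ^ (n + 1) • ⊤ : Submodule Γ(X, V) Γ(G, V)) → (σ n).app V y = 0
  Tker : ∀ {n m : ℕ} (h : n ≤ m) (x : Γ(F.obj (op m), V)), (tr F h).app V x = 0 →
    x ∈ ((Ideal.map (φU V) I) ^ (n + 1) • ⊤ : Submodule Γ(X, V) Γ(F.obj (op m), V))
  Tsurj : ∀ {n m : ℕ} (h : n ≤ m), Function.Surjective ((tr F h).app V)

include hσ in
theorem exists_secHyp (hF : Formal.IsCohFormal I F) (hG : Coh.IsCoh G)
    (t : Finset X.affineOpens) (tt : ℕ)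
    (hJa : ∀ V ∈ t, (Ideal.map (φU V.1) I) ^ tt ≤ Ideal.span (Set.range fun i => φU V.1 (a i)))
    (h1 : ∀ n i, Formal.smulMod A (F.obj (op n)) (a i) ≫ cokernel.π (σ n) = 0)
    (h2 : ∀ n i, kernel.ι (σ n) ≫ Formal.smulMod A G (a i) ≫ cπ I G n = 0)
    (cB : ℕ) [Mono (aE a σ cB)] :
    ∃ s₀ : ℕ, ∀ s, s₀ ≤ s → ∀ V ∈ t, SecHyp I a σ s V.1 := by
  apply exists_uniform₁ t (fun V s => SecHyp I a σ s V.1)
  intro V hVt
  haveI : IsNoetherianRing Γ(X, V.1) := IsLocallyNoetherian.component_noetherian V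
  haveI := hG.1
  haveI : Module.Finite Γ(X, V.1) Γ(G, V.1) := QC.finite_sections_of_isFiniteType G hG.2 V.2
  have H := towerHyp a σ hσ hF hG V.2 tt (hJa V hVt) h1 h2
  obtain ⟨s₂, hs₂⟩ := Alg.exists_P2 H cB (hB0_of_mono a σ cB V.1)
  obtain ⟨s₃, hs₃⟩ := Alg.exists_P3 H
  refine ⟨max s₂ s₃, fun s hs => ?_⟩
  exact
    { aff := V.2
      exS := fun n x => Ex_surjective a σ hσ hF hG V.2 tt (hJa V hVt) h1 h2 cB n x
      P2 := fun n w hw hσw => hs₂ s ((le_max_left _ _).trans hs) n w hw hσw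
      P3 := fun m hsm x hx hTx k hkm hk =>
        hs₃ s ((le_max_right _ _).trans hs) m hsm x hx hTx k hkm hk
      σJ := fun n y hy => H.σJ n y hy
      Tker := fun {n m} h x hx => H.Tker h x hx
      Tsurj := fun {n m} h => H.Tsurj h }

variable {I a σ}

/-- sections of `E_{n+s}` with vanishing `F`-component come from `I^(n+1) G`. -/
lemma SecHyp.exists_y {s : ℕ} {V : X.Opens} (hV : SecHyp I a σ s V) (n : ℕ)
    (d : Γ(En a σ (n + s), V)) (hd : (Ex a σ (n + s)).app V d = 0) :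
    ∃ y : Γ(G, V), y ∈ ((Ideal.map (φU V) I) ^ (n + 1) • ⊤ : Submodule Γ(X, V) Γ(G, V)) ∧
      ∀ (n' : ℕ) (h : n' ≤ n + s), n' ≤ n →
        (trE a σ hσ h).app V d = (aE a σ n').app V y := by
  obtain ⟨y, hy, hwy⟩ := hV.P2 n (fun i => (ev a G i).app V ((Ez a σ (n + s)).app V d))
    (fun i j => Zk_sec_koszul a G V _ i j)
    (fun i => by rw [E_sec_cond, hd, smul_zero])
  refine ⟨y, hy, fun n' h hn' => ?_⟩
  apply E_sec_ext
  · intro i
    rw [trE_sec_z, aE_sec_z]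
    exact hwy i
  · rw [trE_sec_x, aE_sec_x, hd, map_zero]
    exact (hV.σJ n' y (Alg.smul_top_mono _ (by omega) hy)).symm

section Constr

variable (a σ)
variable (hF : Formal.IsCohFormal I F) (hG : Coh.IsCoh G) (s : ℕ)
  (hS : ∀ x : X, ∃ V : X.Opens, x ∈ V ∧ SecHyp I a σ s V)

/-- the module `F'`. -/
noncomputable abbrev Fp : X.Modules := Abelian.image (trE a σ hσ (Nat.le_add_right s s))

/-- `F' ⟶ E_s`. -/
noncomputable def ιp : Fp a σ hσ s ⟶ En a σ s := Abelian.image.ι _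

/-- `E_{s+s} ⟶ F'`. -/
noncomputable def πp : En a σ (s + s) ⟶ Fp a σ hσ s := Abelian.factorThruImage _

instance : Mono (ιp a σ hσ s) := inferInstanceAs (Mono (Abelian.image.ι _))

instance : Epi (πp a σ hσ s) := inferInstanceAs (Epi (Abelian.factorThruImage _))

@[reassoc]
lemma πp_ιp : πp a σ hσ s ≫ ιp a σ hσ s = trE a σ hσ (Nat.le_add_right s s) :=
  Abelian.image.fac _

lemma le1 (s k : ℕ) : s + s ≤ s + k + s := by omega
lemma le2 (s k : ℕ) : s ≤ s + k + s := by omega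
lemma le3 (s k : ℕ) : k ≤ s + k + s := by omega

/-- `E_{s+k+s} ⟶ F'`. -/
noncomputable def qk (k : ℕ) : En a σ (s + k + s) ⟶ Fp a σ hσ s :=
  trE a σ hσ (le1 s k) ≫ πp a σ hσ s

@[reassoc]
lemma qk_ιp (k : ℕ) : qk a σ hσ s k ≫ ιp a σ hσ s = trE a σ hσ (le2 s k) := by
  unfold qk
  rw [Category.assoc, πp_ιp, trE_comp]

/-- `G ⟶ F'`. -/
noncomputable def ap : G ⟶ Fp a σ hσ s := aE a σ (s + s) ≫ πp a σ hσ s

@[reassoc]
lemma ap_ιp : ap a σ hσ s ≫ ιp a σ hσ s = aE a σ s := by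
  unfold ap
  rw [Category.assoc, πp_ιp, aE_trE]

@[reassoc]
lemma aE_qk (k : ℕ) : aE a σ (s + k + s) ≫ qk a σ hσ s k = ap a σ hσ s := by
  unfold qk ap
  rw [aE_trE_assoc]

lemma qk_trE {k k' : ℕ} (h : k ≤ k') :
    trE a σ hσ (by omega : s + k + s ≤ s + k' + s) ≫ qk a σ hσ s k = qk a σ hσ s k' := by
  unfold qk
  rw [← Category.assoc, trE_comp]

include hF hG in
lemma qc_En' (n : ℕ) : (En a σ n).IsQuasicoherent := qc_En hG.1 n (hF.1 n).1

include hF hG in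
lemma isCoh_Fp : Coh.IsCoh (Fp a σ hσ s) := by
  have h1 : Coh.IsCoh (En a σ s) := isCoh_En hG s (hF.1 s)
  have h2 : (Fp a σ hσ s).IsQuasicoherent :=
    QC.qc_kernel _ h1.1 (QC.qc_cokernel _ (qc_En' a σ hF hG (s + s)) h1.1)
  exact QC.isCoh_of_mono (ιp a σ hσ s) h2 h1

include hF hG hS in
lemma epi_Ex (n : ℕ) : Epi (Ex a σ n) := by
  apply epi_of_affine_cover (qc_En' a σ hF hG n) (hF.1 n).1
  intro x
  obtain ⟨V, hxV, hV⟩ := hS x
  exact ⟨V, hV.aff, hxV, fun y => hV.exS n y⟩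

include hF hG hS in
lemma epi_qk (k : ℕ) : Epi (qk a σ hσ s k) := by
  have hFp := isCoh_Fp a σ hσ hF hG s
  apply epi_of_affine_cover (qc_En' a σ hF hG (s + k + s)) hFp.1
  intro x
  obtain ⟨V, hxV, hV⟩ := hS x
  refine ⟨V, hV.aff, hxV, fun e' => ?_⟩
  obtain ⟨e₁, he₁⟩ := QC.epi_app_affine (qc_En' a σ hF hG (s + s)) hFp.1 (πp a σ hσ s) hV.aff e'
  obtain ⟨x', hx'⟩ := hV.Tsurj (le1 s k) ((Ex a σ (s + s)).app V e₁)
  obtain ⟨e₂, he₂⟩ := hV.exS (s + k + s) x'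
  have hd : (Ex a σ (s + s)).app V ((trE a σ hσ (le1 s k)).app V e₂ - e₁) = 0 := by
    rw [map_sub, trE_sec_x, he₂, hx', sub_self]
  obtain ⟨y, hy, hyd⟩ := hV.exists_y hσ s _ hd
  have h3 := hyd s (Nat.le_add_right s s) le_rfl
  have h4 : (πp a σ hσ s).app V ((trE a σ hσ (le1 s k)).app V e₂ - e₁) =
      (ap a σ hσ s).app V y := by
    apply mono_app (ιp a σ hσ s) V
    have e1 : (ιp a σ hσ s).app V ((πp a σ hσ s).app V
        ((trE a σ hσ (le1 s k)).app V e₂ - e₁)) =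
        (trE a σ hσ (Nat.le_add_right s s)).app V ((trE a σ hσ (le1 s k)).app V e₂ - e₁) :=
      congrArg (fun ψ => (Scheme.Modules.Hom.app ψ V)
        ((trE a σ hσ (le1 s k)).app V e₂ - e₁)) (πp_ιp a σ hσ s)
    have e2 : (ιp a σ hσ s).app V ((ap a σ hσ s).app V y) = (aE a σ s).app V y :=
      congrArg (fun ψ => (Scheme.Modules.Hom.app ψ V) y) (ap_ιp a σ hσ s)
    rw [e1, e2, h3]
  refine ⟨e₂ - (aE a σ (s + k + s)).app V y, ?_⟩
  have e3 : (qk a σ hσ s k).app V ((aE a σ (s + k + s)).app V y) = (ap a σ hσ s).app V y :=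
    congrArg (fun ψ => (Scheme.Modules.Hom.app ψ V) y) (aE_qk a σ hσ s k)
  have e4 : (qk a σ hσ s k).app V e₂ = (πp a σ hσ s).app V ((trE a σ hσ (le1 s k)).app V e₂) := rfl
  rw [map_sub, e3, e4, ← h4, map_sub, sub_sub_cancel, he₁]

include hF hG hS in
lemma kernel_qk_comp (k : ℕ) :
    kernel.ι (qk a σ hσ s k) ≫ Ex a σ (s + k + s) ≫ tr F (le3 s k) = 0 := by
  have hFp := isCoh_Fp a σ hσ hF hG s
  apply Groth.Agent.LD.FK.hom_eq_zero_of_affine_cover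
    (QC.qc_kernel _ (qc_En' a σ hF hG (s + k + s)) hFp.1) (hF.1 k).1
  intro x
  obtain ⟨V, hxV, hV⟩ := hS x
  refine ⟨V, hV.aff, hxV, fun κ => ?_⟩
  set e := (kernel.ι (qk a σ hσ s k)).app V κ with he
  have h0 : (qk a σ hσ s k).app V e = 0 :=
    congrArg (fun ψ => (Scheme.Modules.Hom.app ψ V) κ) (kernel.condition (qk a σ hσ s k))
  have h1 : (trE a σ hσ (le2 s k)).app V e = 0 := by
    have e1 : (ιp a σ hσ s).app V ((qk a σ hσ s k).app V e) = (trE a σ hσ (le2 s k)).app V e :=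
      congrArg (fun ψ => (Scheme.Modules.Hom.app ψ V) e) (qk_ιp a σ hσ s k)
    rw [← e1, h0, map_zero]
  have h2 : ∀ i, φU V (a i) • (Ex a σ (s + k + s)).app V e = 0 := by
    intro i
    rw [← E_sec_cond, ← trE_sec_z a σ hσ (le2 s k), h1, map_zero, map_zero, map_zero]
  have h3 : (tr F (le2 s k)).app V ((Ex a σ (s + k + s)).app V e) = 0 := by
    rw [← trE_sec_x a σ hσ (le2 s k), h1, map_zero]
  exact hV.P3 (s + k + s) (le2 s k) _ h2 h3 k (le3 s k) (by omega)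

/-- the maps `F' ⟶ F_k`. -/
noncomputable def lam (k : ℕ) : Fp a σ hσ s ⟶ F.obj (op k) :=
  haveI := epi_qk a σ hσ hF hG s hS k
  Abelian.epiDesc (qk a σ hσ s k) (Ex a σ (s + k + s) ≫ tr F (le3 s k))
    (kernel_qk_comp a σ hσ hF hG s hS k)

@[reassoc]
lemma qk_lam (k : ℕ) : qk a σ hσ s k ≫ lam a σ hσ hF hG s hS k =
    Ex a σ (s + k + s) ≫ tr F (le3 s k) := by
  haveI := epi_qk a σ hσ hF hG s hS k
  exact Abelian.comp_epiDesc _ _ _

lemma lam_tr {k k' : ℕ} (h : k ≤ k') :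
    lam a σ hσ hF hG s hS k' ≫ tr F h = lam a σ hσ hF hG s hS k := by
  haveI := epi_qk a σ hσ hF hG s hS k'
  rw [← cancel_epi (qk a σ hσ s k'), qk_lam_assoc, tr_comp, ← qk_trE a σ hσ s h, Category.assoc,
    qk_lam, trE_Ex_assoc, tr_comp]

lemma ap_lam (k : ℕ) : ap a σ hσ s ≫ lam a σ hσ hF hG s hS k = σ k := by
  rw [← aE_qk a σ hσ s k, Category.assoc, qk_lam, aE_Ex_assoc, hσ]

lemma epi_lam (k : ℕ) : Epi (lam a σ hσ hF hG s hS k) := by
  haveI := epi_Ex a σ hF hG s hS (s + k + s)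
  haveI : Epi (tr F (le3 s k)) := (isQ_tr hF (le3 s k)).epi
  haveI : Epi (qk a σ hσ s k ≫ lam a σ hσ hF hG s hS k) := by
    rw [qk_lam]
    exact epi_comp _ _
  exact epi_of_epi (qk a σ hσ s k) _

theorem isQ_lam (k : ℕ) : IsQ (I ^ (k + 1)) (lam a σ hσ hF hG s hS k) := by
  have hFp := isCoh_Fp a σ hσ hF hG s
  haveI := epi_lam a σ hσ hF hG s hS k
  haveI := epi_qk a σ hσ hF hG s hS k
  refine isQ_of_sections_cover I (k + 1) hFp (hF.1 k).1 _ (hF.2.1 k) (fun x => ?_)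
  obtain ⟨V, hxV, hV⟩ := hS x
  refine ⟨V, hV.aff, hxV, fun e' he' => ?_⟩
  obtain ⟨e, he⟩ := QC.epi_app_affine (qc_En' a σ hF hG (s + k + s)) hFp.1 (qk a σ hσ s k) hV.aff e'
  have htr : (tr F (le3 s k)).app V ((Ex a σ (s + k + s)).app V e) = 0 := by
    have e1 : (lam a σ hσ hF hG s hS k).app V ((qk a σ hσ s k).app V e) =
        (tr F (le3 s k)).app V ((Ex a σ (s + k + s)).app V e) :=
      congrArg (fun ψ => (Scheme.Modules.Hom.app ψ V) e) (qk_lam a σ hσ hF hG s hS k)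
    rw [← e1, he, he']
  have hxJ := hV.Tker (le3 s k) _ htr
  have star : ∀ x' : Γ(F.obj (op (s + k + s)), V),
      x' ∈ ((Ideal.map (φU V) I) ^ (k + 1) • ⊤ :
        Submodule Γ(X, V) Γ(F.obj (op (s + k + s)), V)) →
      ∃ e₂ : Γ(En a σ (s + k + s), V), (Ex a σ (s + k + s)).app V e₂ = x' ∧
        (qk a σ hσ s k).app V e₂ ∈ ((Ideal.map (φU V) I) ^ (k + 1) • ⊤ :
          Submodule Γ(X, V) Γ(Fp a σ hσ s, V)) := by
    intro x' hx'
    refine Submodule.smul_induction_on hx' ?_ ?_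
    · intro b hb x₀ _
      obtain ⟨e₀, he₀⟩ := hV.exS (s + k + s) x₀
      refine ⟨b • e₀, ?_, ?_⟩
      · rw [Scheme.Modules.Hom.app_smul, he₀]
      · rw [Scheme.Modules.Hom.app_smul]
        exact Submodule.smul_mem_smul hb Submodule.mem_top
    · rintro x₁ x₂ ⟨e₁, h₁, h₁'⟩ ⟨e₂, h₂, h₂'⟩
      refine ⟨e₁ + e₂, ?_, ?_⟩
      · rw [map_add, h₁, h₂]
      · rw [map_add]
        exact Submodule.add_mem _ h₁' h₂'
  obtain ⟨e₂, he₂, he₂'⟩ := star _ hxJ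
  have hd : (Ex a σ (s + k + s)).app V (e - e₂) = 0 := by
    rw [map_sub, he₂, sub_self]
  obtain ⟨y, hy, hyd⟩ := hV.exists_y hσ (s + k) _ hd
  have h3 := hyd s (le2 s k) (by omega)
  have h4 : (qk a σ hσ s k).app V (e - e₂) = (ap a σ hσ s).app V y := by
    apply mono_app (ιp a σ hσ s) V
    have e1 : (ιp a σ hσ s).app V ((qk a σ hσ s k).app V (e - e₂)) =
        (trE a σ hσ (le2 s k)).app V (e - e₂) :=
      congrArg (fun ψ => (Scheme.Modules.Hom.app ψ V) (e - e₂)) (qk_ιp a σ hσ s k)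
    have e2 : (ιp a σ hσ s).app V ((ap a σ hσ s).app V y) = (aE a σ s).app V y :=
      congrArg (fun ψ => (Scheme.Modules.Hom.app ψ V) y) (ap_ιp a σ hσ s)
    rw [e1, e2, h3]
  have h5 : e' = (qk a σ hσ s k).app V e₂ + (ap a σ hσ s).app V y := by
    rw [← h4, ← map_add, add_sub_cancel, he]
  rw [h5]
  refine Submodule.add_mem _ he₂' ?_
  exact Alg.map_mem_smul_top _ (appLinear (ap a σ hσ s) V) (Alg.smul_top_mono _ (by omega) hy)

include hF hG hS in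
lemma smul_comp_cokernel_ap (j : Fin r) :
    Formal.smulMod A (Fp a σ hσ s) (a j) ≫ cokernel.π (ap a σ hσ s) = 0 := by
  have hFp := isCoh_Fp a σ hσ hF hG s
  apply Groth.Agent.LD.FK.hom_eq_zero_of_affine_cover hFp.1 (QC.qc_cokernel _ hG.1 hFp.1)
  intro x
  obtain ⟨V, hxV, hV⟩ := hS x
  refine ⟨V, hV.aff, hxV, fun e' => ?_⟩
  obtain ⟨e₁, he₁⟩ := QC.epi_app_affine (qc_En' a σ hF hG (s + s)) hFp.1 (πp a σ hσ s) hV.aff e'
  have h1 : φU V (a j) • e' = (ap a σ hσ s).app V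
      ((ev a G j).app V ((Ez a σ (s + s)).app V e₁)) := by
    rw [← he₁, ← Scheme.Modules.Hom.app_smul, smul_sec_eq_aE]
    rfl
  have h2 : (Formal.smulMod A (Fp a σ hσ s) (a j) ≫ cokernel.π (ap a σ hσ s)).app V e' =
      (cokernel.π (ap a σ hσ s)).app V (φU V (a j) • e') := rfl
  rw [h2, h1]
  exact congrArg (fun ψ => (Scheme.Modules.Hom.app ψ V)
    ((ev a G j).app V ((Ez a σ (s + s)).app V e₁))) (cokernel.condition (ap a σ hσ s))

end Constr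

end Groth.Agent.H2.GY
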