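import Groth.Agent.Lib.Helper2.GYEnA
import Groth.Agent.Lib.Helper2.GYAlgB

/-!
# The tower hypotheses on the sections over an affine open (helper2)
-/

set_option autoImplicit false
set_option linter.style.haveILetI false
set_option linter.unusedVariables false
universe u
open CategoryTheory Limits Opposite TopologicalSpace AlgebraicGeometry

namespace Groth.Agent.H2.GY

open Groth.Agent.LD Groth.Agent.LD.QC Groth.Agent.H2.FormalQ Groth.Agent.H2.FormalEq
  Groth.Agent.LD.HF Groth.Agent.H2.AlgzExt Groth.Agent.LD.FF Groth.Agent.H2.GX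
  Groth.Agent.LD.FK

lemma exists_uniform₁ {ι : Type*} (t : Finset ι) (P : ι → ℕ → Prop)
    (h : ∀ i ∈ t, ∃ c₀, ∀ c, c₀ ≤ c → P i c) : ∃ c₀, ∀ c, c₀ ≤ c → ∀ i ∈ t, P i c := by
  classical
  choose! c hc using h
  exact ⟨t.sup c, fun c' hc' i hi => hc i hi c' ((Finset.le_sup hi).trans hc')⟩

variable {A : Type u} [CommRing A] {X : Scheme.{u}} [X.Over (Spec (CommRingCat.of A))]
  [IsNoetherian X] {I : Ideal A}
  {r : ℕ} (a : Fin r → A) {G : X.Modules} {F : ℕᵒᵖ ⥤ X.Modules} (σ : ∀ n, G ⟶ F.obj (op n))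
  (hσ : ∀ {n m : ℕ} (h : n ≤ m), σ m ≫ tr F h = σ n)

include hσ in
theorem towerHyp (hF : Formal.IsCohFormal I F) (hG : Coh.IsCoh G) {V : X.Opens}
    (hV : IsAffineOpen V) (tt : ℕ)
    (hJa : (Ideal.map (φU V) I) ^ tt ≤ Ideal.span (Set.range fun i => φU V (a i)))
    (h1 : ∀ n i, Formal.smulMod A (F.obj (op n)) (a i) ≫ cokernel.π (σ n) = 0)
    (h2 : ∀ n i, kernel.ι (σ n) ≫ Formal.smulMod A G (a i) ≫ cπ I G n = 0) :
    Alg.TowerHyp (Ideal.map (φU V) I) (fun i => φU V (a i)) tt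
      (N := fun n => Γ(F.obj (op n), V))
      (fun {n m} h => appLinear (tr F h) V) (fun n => appLinear (σ n) V) where
  Tσ {n m} h y := congrArg (fun ψ => (Scheme.Modules.Hom.app ψ V) y) (hσ h)
  Tker {n m} h x hx := (isQ_app_eq_zero_iff I (n + 1) (hF.1 m) (isQ_tr hF h) hV x).1 hx
  Tsurj {n m} h := by
    haveI : Epi (tr F h) := (isQ_tr hF h).epi
    exact QC.epi_app_affine (hF.1 m).1 (hF.1 n).1 (tr F h) hV
  σJ n y hy := by
    have h3 : (σ n).app V y ∈ ((Ideal.map (φU V) I) ^ (n + 1) • ⊤ :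
        Submodule Γ(X, V) Γ(F.obj (op n), V)) :=
      Alg.map_mem_smul_top _ (appLinear (σ n) V) hy
    have h4 := (isQ_app_eq_zero_iff I (n + 1) (hF.1 n) (isQ_id_of_killedBy (hF.2.1 n)) hV
      ((σ n).app V y)).2 h3
    exact h4
  hyp1 n i x := by
    have h3 : (cokernel.π (σ n)).app V (φU V (a i) • x) = 0 :=
      congrArg (fun ψ => (Scheme.Modules.Hom.app ψ V) x) (h1 n i)
    exact exists_of_cokernel_π_eq_zero hG.1 (hF.1 n).1 (σ n) hV _ h3
  hyp2 n i y hy := by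
    obtain ⟨k, hk⟩ := QC.exists_kernel_section (σ n) V y hy
    have h3 : (cπ I G n).app V (φU V (a i) • (kernel.ι (σ n)).app V k) = 0 :=
      congrArg (fun ψ => (Scheme.Modules.Hom.app ψ V) k) (h2 n i)
    rw [hk] at h3
    exact (isQ_app_eq_zero_iff I (n + 1) hG (isQ_cπ G n) hV _).1 h3
  Ja := hJa

omit [AlgebraicGeometry.IsNoetherian X] in
/-- the hypothesis (B0) on sections, from `Mono (aE cB)`. -/
lemma hB0_of_mono (cB : ℕ) [Mono (aE a σ cB)] (V : X.Opens) (y : Γ(G, V))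
    (h1 : ∀ i, φU V (a i) • y = 0) (h2 : (σ cB).app V y = 0) : y = 0 := by
  apply mono_app (aE a σ cB) V
  rw [map_zero]
  apply E_sec_ext
  · intro i
    rw [aE_sec_z, h1 i, map_zero, map_zero]
  · rw [aE_sec_x, h2, map_zero]

include hσ in
/-- `E_n ⟶ F_n` is surjective on the sections over an affine open. -/
lemma Ex_surjective (hF : Formal.IsCohFormal I F) (hG : Coh.IsCoh G) {V : X.Opens}
    (hV : IsAffineOpen V) (tt : ℕ)
    (hJa : (Ideal.map (φU V) I) ^ tt ≤ Ideal.span (Set.range fun i => φU V (a i)))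
    (h1 : ∀ n i, Formal.smulMod A (F.obj (op n)) (a i) ≫ cokernel.π (σ n) = 0)
    (h2 : ∀ n i, kernel.ι (σ n) ≫ Formal.smulMod A G (a i) ≫ cπ I G n = 0)
    (cB : ℕ) [Mono (aE a σ cB)] (n : ℕ) (x : Γ(F.obj (op n), V)) :
    ∃ e : Γ(En a σ n, V), (Ex a σ n).app V e = x := by
  haveI : IsNoetherianRing Γ(X, V) := IsLocallyNoetherian.component_noetherian ⟨V, hV⟩
  haveI := hG.1
  haveI : Module.Finite Γ(X, V) Γ(G, V) := QC.finite_sections_of_isFiniteType G hG.2 hV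
  have H := towerHyp a σ hσ hF hG hV tt hJa h1 h2
  obtain ⟨z, hz, hzx⟩ := Alg.P1 H cB (hB0_of_mono a σ cB V) n x
  obtain ⟨e, -, he⟩ := E_sec_mk a σ V z x hz hzx
  exact ⟨e, he⟩

end Groth.Agent.H2.GY
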