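import Groth.Agent.Lib.Helper1.Deformation
import Groth.Agent.Lib.Helper9.Misc.DNP2
import Groth.Prelude.Def_CohB1

/-!
# Infinitesimal thickenings of a flat morphism which is an isomorphism modulo `I` (helper2)
-/

set_option autoImplicit false
set_option linter.style.haveILetI false
set_option linter.unusedVariables false
set_option linter.unusedSectionVars false
universe u
open CategoryTheory Limits AlgebraicGeometry

namespace Groth.Agent.H2.GZ

variable {A : Type u} [CommRing A] (I : Ideal A)

/-- `Spec (A/I) ⟶ Spec (A/I^(n+1))`. -/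
noncomputable def cn (n : ℕ) :
    Spec (CommRingCat.of (A ⧸ I ^ (0 + 1))) ⟶ Spec (CommRingCat.of (A ⧸ I ^ (n + 1))) :=
  Spec.map (CommRingCat.ofHom
    (Ideal.Quotient.factor (Ideal.pow_le_pow_right (by omega : 0 + 1 ≤ n + 1))))

@[reassoc (attr := simp)]
lemma cn_specQuot (n : ℕ) : cn I n ≫ CohB1.specQuot I n = CohB1.specQuot I 0 := by
  simp only [cn, CohB1.specQuot, ← Spec.map_comp, ← CommRingCat.ofHom_comp]
  rfl

lemma surjective_specMap_of_nilpotent {R S : CommRingCat.{u}} (φ : R ⟶ S)
    (hs : Function.Surjective φ.hom) (hn : ∀ x ∈ RingHom.ker φ.hom, IsNilpotent x) :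
    Surjective (Spec.map φ) := by
  constructor
  intro x
  have hx : (show PrimeSpectrum R from x) ∈ Set.range (PrimeSpectrum.comap φ.hom) := by
    rw [range_comap_of_surjective _ _ hs, PrimeSpectrum.mem_zeroLocus]
    intro a ha
    obtain ⟨k, hk⟩ := hn a ha
    have hp : (show PrimeSpectrum R from x).asIdeal.IsPrime := (show PrimeSpectrum R from x).2
    exact hp.mem_of_pow_mem k (by rw [hk]; exact Ideal.zero_mem _)
  obtain ⟨y, hy⟩ := hx
  exact ⟨y, hy⟩

lemma ker_factor_pow (n : ℕ) :
    RingHom.ker (Ideal.Quotient.factor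
      (Ideal.pow_le_pow_right (by omega : 0 + 1 ≤ n + 1)) :
        A ⧸ I ^ (n + 1) →+* A ⧸ I ^ (0 + 1)) ^ (n + 1) = ⊥ := by
  have h1 : RingHom.ker (Ideal.Quotient.factor
      (Ideal.pow_le_pow_right (by omega : 0 + 1 ≤ n + 1)) :
        A ⧸ I ^ (n + 1) →+* A ⧸ I ^ (0 + 1)) ≤
      Ideal.map (Ideal.Quotient.mk (I ^ (n + 1))) I := by
    intro x hx
    obtain ⟨a, rfl⟩ := Ideal.Quotient.mk_surjective x
    rw [RingHom.mem_ker, Ideal.Quotient.factor_mk, Ideal.Quotient.eq_zero_iff_mem] at hx
    rw [zero_add, pow_one] at hx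
    exact Ideal.mem_map_of_mem _ hx
  rw [eq_bot_iff]
  refine (Ideal.pow_right_mono h1 (n + 1)).trans ?_
  rw [← Ideal.map_pow, Ideal.map_quotient_self]

lemma isFiniteOrderThickening_cn (n : ℕ) : MoreMor.IsFiniteOrderThickening (cn I n) := by
  have hs : Function.Surjective (Ideal.Quotient.factor
      (Ideal.pow_le_pow_right (by omega : 0 + 1 ≤ n + 1)) :
        A ⧸ I ^ (n + 1) →+* A ⧸ I ^ (0 + 1)) := Ideal.Quotient.factor_surjective _
  refine ⟨⟨IsClosedImmersion.spec_of_surjective _ hs, ?_⟩, ?_⟩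
  · apply surjective_specMap_of_nilpotent _ hs
    intro x hx
    refine ⟨n + 1, ?_⟩
    have h2 : x ^ (n + 1) ∈ RingHom.ker (Ideal.Quotient.factor
      (Ideal.pow_le_pow_right (by omega : 0 + 1 ≤ n + 1)) :
        A ⧸ I ^ (n + 1) →+* A ⧸ I ^ (0 + 1)) ^ (n + 1) := Ideal.pow_mem_pow hx _
    rw [ker_factor_pow] at h2
    exact h2
  · exact Groth.Agent.H9.DNP.isNilpotent_ker_SpecMap _ (n + 1) (ker_factor_pow I n)

variable {X X' : Scheme.{u}} (π : X ⟶ Spec (CommRingCat.of A))
  (π' : X' ⟶ Spec (CommRingCat.of A)) (f : X' ⟶ X) (hf : f ≫ π = π')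

/-- the morphism `X'_n ⟶ X_n`. -/
noncomputable def thickMap (n : ℕ) :
    pullback π' (CohB1.specQuot I n) ⟶ pullback π (CohB1.specQuot I n) :=
  pullback.map π' (CohB1.specQuot I n) π (CohB1.specQuot I n) f (𝟙 _) (𝟙 _)
    ((Category.comp_id _).trans hf.symm) ((Category.comp_id _).trans (Category.id_comp _).symm)

@[reassoc (attr := simp)]
lemma thickMap_fst (n : ℕ) : thickMap I π π' f hf n ≫ pullback.fst π (CohB1.specQuot I n) =
    pullback.fst π' (CohB1.specQuot I n) ≫ f := by
  unfold thickMap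
  exact pullback.lift_fst _ _ _

@[reassoc (attr := simp)]
lemma thickMap_snd (n : ℕ) : thickMap I π π' f hf n ≫ pullback.snd π (CohB1.specQuot I n) =
    pullback.snd π' (CohB1.specQuot I n) := by
  unfold thickMap
  exact (pullback.lift_snd _ _ _).trans (Category.comp_id _)

lemma isPullback_thickMap (n : ℕ) :
    IsPullback (pullback.fst π' (CohB1.specQuot I n)) (thickMap I π π' f hf n) f
      (pullback.fst π (CohB1.specQuot I n)) := by
  have t := IsPullback.of_hasPullback π (CohB1.specQuot I n)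
  have s := IsPullback.of_hasPullback π' (CohB1.specQuot I n)
  have s' : IsPullback (pullback.fst π' (CohB1.specQuot I n))
      (thickMap I π π' f hf n ≫ pullback.snd π (CohB1.specQuot I n)) (f ≫ π)
      (CohB1.specQuot I n) := by
    rw [thickMap_snd, hf]
    exact s
  exact IsPullback.of_bot s' (thickMap_fst I π π' f hf n).symm t

lemma flat_thickMap [Flat f] (n : ℕ) : Flat (thickMap I π π' f hf n) :=
  MorphismProperty.of_isPullback (P := @Flat) (isPullback_thickMap I π π' f hf n) inferInstance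

/-- the transition `X_0 ⟶ X_n`. -/
noncomputable def tn (n : ℕ) :
    pullback π (CohB1.specQuot I 0) ⟶ pullback π (CohB1.specQuot I n) :=
  pullback.map π (CohB1.specQuot I 0) π (CohB1.specQuot I n) (𝟙 _) (cn I n) (𝟙 _)
    (by simp) (by simp)

@[reassoc (attr := simp)]
lemma tn_fst (n : ℕ) : tn I π n ≫ pullback.fst π (CohB1.specQuot I n) =
    pullback.fst π (CohB1.specQuot I 0) := by
  unfold tn
  exact (pullback.lift_fst _ _ _).trans (Category.comp_id _)

@[reassoc (attr := simp)]
lemma tn_snd (n : ℕ) : tn I π n ≫ pullback.snd π (CohB1.specQuot I n) =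
    pullback.snd π (CohB1.specQuot I 0) ≫ cn I n := by
  unfold tn
  exact pullback.lift_snd _ _ _

lemma isPullback_tn (n : ℕ) :
    IsPullback (tn I π n) (pullback.snd π (CohB1.specQuot I 0))
      (pullback.snd π (CohB1.specQuot I n)) (cn I n) := by
  have t := IsPullback.of_hasPullback π (CohB1.specQuot I n)
  have s := IsPullback.of_hasPullback π (CohB1.specQuot I 0)
  have s' : IsPullback (tn I π n ≫ pullback.fst π (CohB1.specQuot I n))
      (pullback.snd π (CohB1.specQuot I 0)) π (cn I n ≫ CohB1.specQuot I n) := by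
    rw [tn_fst, cn_specQuot]
    exact s
  exact IsPullback.of_right s' (tn_snd I π n) t

lemma isFiniteOrderThickening_tn (n : ℕ) : MoreMor.IsFiniteOrderThickening (tn I π n) :=
  Groth.Agent.H1.IsFiniteOrderThickening.of_isPullback (isPullback_tn I π n).flip
    (isFiniteOrderThickening_cn I n)

lemma tn_thickMap (n : ℕ) :
    tn I π' n ≫ thickMap I π π' f hf n = thickMap I π π' f hf 0 ≫ tn I π n := by
  apply pullback.hom_ext
  · simp
  · simp

lemma isPullback_tn_thickMap (n : ℕ) :
    IsPullback (tn I π' n) (thickMap I π π' f hf 0) (thickMap I π π' f hf n) (tn I π n) := by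
  have s' : IsPullback (tn I π' n ≫ pullback.fst π' (CohB1.specQuot I n))
      (thickMap I π π' f hf 0) f (tn I π n ≫ pullback.fst π (CohB1.specQuot I n)) := by
    rw [tn_fst, tn_fst]
    exact isPullback_thickMap I π π' f hf 0
  exact IsPullback.of_right s' (tn_thickMap I π π' f hf n) (isPullback_thickMap I π π' f hf n)

/-- **the thickenings of a flat morphism which is an isomorphism modulo `I` are isomorphisms.** -/
theorem isIso_thickMap [Flat f] (h0 : IsIso (thickMap I π π' f hf 0)) (n : ℕ) :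
    IsIso (thickMap I π π' f hf n) := by
  haveI := flat_thickMap I π π' f hf n
  exact Groth.Agent.H1.isIso_of_finiteOrderThickening_of_flat (isFiniteOrderThickening_tn I π n)
    (isPullback_tn_thickMap I π π' f hf n) h0

end Groth.Agent.H2.GZ
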