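import Groth.Agent.Lib.Helper2.GZ1
import Groth.Agent.Lib.Helper5.RelC.C
import Groth.Agent.Lib.Helper2.FormalPB
import Groth.Agent.Lib.Lead.QC.Pullback

/-!
# The unit of a flat morphism which is an isomorphism modulo `I`, on `I`-power torsion modules
(helper2)
-/

set_option autoImplicit false
set_option linter.style.haveILetI false
set_option linter.unusedVariables false
set_option linter.unusedSectionVars false
universe u
open CategoryTheory Limits AlgebraicGeometry

namespace Groth.Agent.H2.GZ

section Comp

variable {X Y Z : Scheme.{u}} (g₁ : Z ⟶ Y) (g₂ : Y ⟶ X)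

/-- the unit of a composite morphism, in terms of the units of the factors. -/
lemma unit_comp_eq (M : X.Modules) :
    ((Scheme.Modules.pullbackPushforwardAdjunction g₂).unit.app M ≫
      (Scheme.Modules.pushforward g₂).map
        ((Scheme.Modules.pullbackPushforwardAdjunction g₁).unit.app
          ((Scheme.Modules.pullback g₂).obj M))) ≫
      (Scheme.Modules.pushforwardComp g₁ g₂).hom.app _ =
    (Scheme.Modules.pullbackPushforwardAdjunction (g₁ ≫ g₂)).unit.app M ≫
      (Scheme.Modules.pushforward (g₁ ≫ g₂)).map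
        ((Scheme.Modules.pullbackComp g₁ g₂).inv.app M) := by
  have e := unit_conjugateEquiv
    ((Scheme.Modules.pullbackPushforwardAdjunction g₂).comp
      (Scheme.Modules.pullbackPushforwardAdjunction g₁))
    (Scheme.Modules.pullbackPushforwardAdjunction (g₁ ≫ g₂))
    (Scheme.Modules.pullbackComp g₁ g₂).inv M
  rw [Scheme.Modules.conjugateEquiv_pullbackComp_inv, Adjunction.comp_unit_app] at e
  exact e

/-- if the units of `g₁ ≫ g₂` at `M` and of `g₁` at `g₂^* M` are isomorphisms, so is the unit of
`g₂` at `M`. -/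
lemma isIso_unit_of_comp (M : X.Modules)
    (h12 : IsIso ((Scheme.Modules.pullbackPushforwardAdjunction (g₁ ≫ g₂)).unit.app M))
    (h1 : IsIso ((Scheme.Modules.pullbackPushforwardAdjunction g₁).unit.app
      ((Scheme.Modules.pullback g₂).obj M))) :
    IsIso ((Scheme.Modules.pullbackPushforwardAdjunction g₂).unit.app M) := by
  have e := unit_comp_eq g₁ g₂ M
  haveI : IsIso (((Scheme.Modules.pullbackPushforwardAdjunction g₂).unit.app M ≫
      (Scheme.Modules.pushforward g₂).map
        ((Scheme.Modules.pullbackPushforwardAdjunction g₁).unit.app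
          ((Scheme.Modules.pullback g₂).obj M))) ≫
      (Scheme.Modules.pushforwardComp g₁ g₂).hom.app _) := by
    rw [e]
    infer_instance
  haveI : IsIso ((Scheme.Modules.pullbackPushforwardAdjunction g₂).unit.app M ≫
      (Scheme.Modules.pushforward g₂).map
        ((Scheme.Modules.pullbackPushforwardAdjunction g₁).unit.app
          ((Scheme.Modules.pullback g₂).obj M))) :=
    IsIso.of_isIso_comp_right _ ((Scheme.Modules.pushforwardComp g₁ g₂).hom.app _)
  exact IsIso.of_isIso_comp_right _ ((Scheme.Modules.pushforward g₂).map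
        ((Scheme.Modules.pullbackPushforwardAdjunction g₁).unit.app
          ((Scheme.Modules.pullback g₂).obj M)))

end Comp

variable {A : Type u} [CommRing A] (I : Ideal A) {X X' : Scheme.{u}}
  [X.Over (Spec (CommRingCat.of A))] [X'.Over (Spec (CommRingCat.of A))]
  (f : X' ⟶ X) (hf : f ≫ (X ↘ Spec (CommRingCat.of A)) = X' ↘ Spec (CommRingCat.of A))

/-- the closed immersion `X'_n ⟶ X`. -/
noncomputable abbrev hn (n : ℕ) :
    pullback (X' ↘ Spec (CommRingCat.of A)) (CohB1.specQuot I n) ⟶ X :=
  pullback.fst (X' ↘ Spec (CommRingCat.of A)) (CohB1.specQuot I n) ≫ f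

instance isClosedImmersion_specQuot' (n : ℕ) : IsClosedImmersion (CohB1.specQuot I n) :=
  IsClosedImmersion.spec_of_surjective _ Ideal.Quotient.mk_surjective

variable [Flat f]
  (hZ : IsIso (thickMap I (X ↘ Spec (CommRingCat.of A)) (X' ↘ Spec (CommRingCat.of A)) f hf 0))

include hZ in
lemma isClosedImmersion_hn (n : ℕ) : IsClosedImmersion (hn I f n) := by
  haveI := isIso_thickMap I _ _ f hf hZ n
  have hh : hn I f n = thickMap I _ _ f hf n ≫
      pullback.fst (X ↘ Spec (CommRingCat.of A)) (CohB1.specQuot I n) :=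
    (thickMap_fst I _ _ f hf n).symm
  rw [hh]
  infer_instance

include hZ in
lemma isPullback_hn (n : ℕ) :
    IsPullback (hn I f n) (pullback.snd (X' ↘ Spec (CommRingCat.of A)) (CohB1.specQuot I n))
      (X ↘ Spec (CommRingCat.of A)) (CohB1.specQuot I n) := by
  haveI := isIso_thickMap I _ _ f hf hZ n
  have t := IsPullback.of_hasPullback (X ↘ Spec (CommRingCat.of A)) (CohB1.specQuot I n)
  have s : IsPullback (thickMap I _ _ f hf n)
      (pullback.snd (X' ↘ Spec (CommRingCat.of A)) (CohB1.specQuot I n))
      (pullback.snd (X ↘ Spec (CommRingCat.of A)) (CohB1.specQuot I n)) (𝟙 _) :=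
    IsPullback.of_horiz_isIso ⟨by rw [thickMap_snd, Category.comp_id]⟩
  have h := s.paste_horiz t
  rw [Category.id_comp, thickMap_fst] at h
  exact h

include hZ in
/-- **the unit `M ⟶ f_* f^* M` is an isomorphism on quasi-coherent modules killed by a power of
`I`.** -/
theorem isIso_unit_of_killedBy (n : ℕ) (M : X.Modules) [M.IsQuasicoherent]
    (hM : Formal.KilledBy (I ^ (n + 1)) M) :
    IsIso ((Scheme.Modules.pullbackPushforwardAdjunction f).unit.app M) := by
  haveI := isClosedImmersion_hn I f hf hZ n
  have h12 : IsIso ((Scheme.Modules.pullbackPushforwardAdjunction (hn I f n)).unit.app M) :=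
    Groth.Agent.H5.RelC.isIso_unit_of_killedBy (I ^ (n + 1)) _ (hn I f n)
      (isPullback_hn I f hf hZ n) M hM
  haveI : ((Scheme.Modules.pullback f).obj M).IsQuasicoherent := Groth.Agent.LD.QC.qc_pullback f M
  have h1 : IsIso ((Scheme.Modules.pullbackPushforwardAdjunction
      (pullback.fst (X' ↘ Spec (CommRingCat.of A)) (CohB1.specQuot I n))).unit.app
        ((Scheme.Modules.pullback f).obj M)) :=
    Groth.Agent.H5.RelC.isIso_unit_of_killedBy (I ^ (n + 1)) _ _
      (IsPullback.of_hasPullback (X' ↘ Spec (CommRingCat.of A)) (CohB1.specQuot I n)) _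
      (Groth.Agent.H2.FormalPB.killedBy_pullback f hf _ M hM)
  exact isIso_unit_of_comp _ f M h12 h1

end Groth.Agent.H2.GZ
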