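import Groth.Agent.Lib.Helper2.GZ2
import Groth.Agent.Lib.Helper2.GXExA
import Groth.Agent.Lib.Lead.QC.Push

/-!
# Direct images of `I`-power torsion modules along a flat morphism which is an isomorphism
modulo `I` (helper2)
-/

set_option autoImplicit false
set_option linter.style.haveILetI false
set_option linter.unusedVariables false
set_option linter.unusedSectionVars false
universe u
open CategoryTheory Limits AlgebraicGeometry TopologicalSpace

namespace Groth.Agent.H2.GZ

open Groth.Agent.LD Groth.Agent.LD.FF Groth.Agent.H2.FormalQ Groth.Agent.H2.FormalEq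
  Groth.Agent.H2.AlgzExt Groth.Agent.H2.GX

section Reflect

/-- direct images along a topological embedding reflect isomorphisms. -/
lemma isIso_of_isIso_pushforward_of_isEmbedding {Z X : Scheme.{u}} (h : Z ⟶ X)
    (hemb : Topology.IsEmbedding h) {N₁ N₂ : Z.Modules} (ψ : N₁ ⟶ N₂)
    (hψ : IsIso ((Scheme.Modules.pushforward h).map ψ)) : IsIso ψ := by
  rw [Scheme.Modules.Hom.isIso_iff_isIso_app]
  intro W
  obtain ⟨V, hV⟩ : ∃ V : X.Opens, h ⁻¹ᵁ V = W := by
    obtain ⟨t, ht, e⟩ := hemb.isInducing.isOpen_iff.1 W.2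
    exact ⟨⟨t, ht⟩, Opens.ext e⟩
  subst hV
  exact inferInstanceAs (IsIso (((Scheme.Modules.pushforward h).map ψ).app V))

end Reflect

section IsQ

variable {A : Type u} [CommRing A] {X : Scheme.{u}} [X.Over (Spec (CommRingCat.of A))]

lemma isQ_iso_comp {J : Ideal A} {M₁ M Q : X.Modules} (e : M₁ ⟶ M) [IsIso e] {p : M ⟶ Q}
    (hp : IsQ J p) : IsQ J (e ≫ p) := by
  rw [isQ_iff] at hp ⊢
  obtain ⟨hepi, hk, hun⟩ := hp
  refine ⟨epi_comp e p, fun b hb => ?_, fun {Z} g hg => ?_⟩
  · rw [← Category.assoc, ← comp_smulMod, Category.assoc, hk b hb, comp_zero]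
  · obtain ⟨g', hg'⟩ := hun (inv e ≫ g) (fun b hb => by
      rw [← Category.assoc, ← comp_smulMod, Category.assoc, hg b hb, comp_zero])
    exact ⟨g', by rw [Category.assoc, hg', IsIso.hom_inv_id_assoc]⟩

end IsQ

section Theta

variable {X' X Z : Scheme.{u}} (j : Z ⟶ X') (f : X' ⟶ X)

/-- the comparison `f_* P ⟶ (j ≫ f)_* j^* P`. -/
noncomputable def θ (P : X'.Modules) : (Scheme.Modules.pushforward f).obj P ⟶
    (Scheme.Modules.pushforward (j ≫ f)).obj ((Scheme.Modules.pullback j).obj P) :=
  (Scheme.Modules.pushforward f).map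
      ((Scheme.Modules.pullbackPushforwardAdjunction j).unit.app P) ≫
    (Scheme.Modules.pushforwardComp j f).hom.app ((Scheme.Modules.pullback j).obj P)

lemma θ_naturality {P Q : X'.Modules} (φ : P ⟶ Q) :
    θ j f P ≫ (Scheme.Modules.pushforward (j ≫ f)).map ((Scheme.Modules.pullback j).map φ) =
      (Scheme.Modules.pushforward f).map φ ≫ θ j f Q := by
  unfold θ
  rw [Category.assoc, ← (Scheme.Modules.pushforwardComp j f).hom.naturality, Functor.comp_map,
    ← Category.assoc, ← Functor.map_comp,
    (Scheme.Modules.pullbackPushforwardAdjunction j).unit_naturality, Functor.map_comp,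
    Category.assoc]

lemma isIso_θ (P : X'.Modules)
    (hP : IsIso ((Scheme.Modules.pullbackPushforwardAdjunction j).unit.app P)) :
    IsIso (θ j f P) := by
  unfold θ
  infer_instance

end Theta

variable {A : Type u} [CommRing A] (I : Ideal A) {X X' : Scheme.{u}}
  [X.Over (Spec (CommRingCat.of A))] [X'.Over (Spec (CommRingCat.of A))]
  (f : X' ⟶ X) (hf : f ≫ (X ↘ Spec (CommRingCat.of A)) = X' ↘ Spec (CommRingCat.of A))

/-- the closed immersion `X'_n ⟶ X'`. -/
noncomputable abbrev jn (n : ℕ) :
    pullback (X' ↘ Spec (CommRingCat.of A)) (CohB1.specQuot I n) ⟶ X' :=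
  pullback.fst (X' ↘ Spec (CommRingCat.of A)) (CohB1.specQuot I n)

omit [X.Over (Spec (CommRingCat.of A))] in
lemma isIso_unit_jn (n : ℕ) (P : X'.Modules) [P.IsQuasicoherent]
    (hP : Formal.KilledBy (I ^ (n + 1)) P) :
    IsIso ((Scheme.Modules.pullbackPushforwardAdjunction (jn I (X' := X') n)).unit.app P) :=
  Groth.Agent.H5.RelC.isIso_unit_of_killedBy (I ^ (n + 1)) _ _
    (IsPullback.of_hasPullback (X' ↘ Spec (CommRingCat.of A)) (CohB1.specQuot I n)) _ hP

variable [Flat f]
  (hZ : IsIso (thickMap I (X ↘ Spec (CommRingCat.of A)) (X' ↘ Spec (CommRingCat.of A)) f hf 0))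

include hZ in
/-- `f_*` reflects isomorphisms between quasi-coherent modules killed by a power of `I`. -/
lemma isIso_of_isIso_pushforward (n : ℕ) {P Q : X'.Modules} [P.IsQuasicoherent]
    [Q.IsQuasicoherent] (hP : Formal.KilledBy (I ^ (n + 1)) P)
    (hQ : Formal.KilledBy (I ^ (n + 1)) Q) (φ : P ⟶ Q)
    (hφ : IsIso ((Scheme.Modules.pushforward f).map φ)) : IsIso φ := by
  haveI := isClosedImmersion_hn I f hf hZ n
  haveI hηP := isIso_unit_jn I n P hP
  haveI hηQ := isIso_unit_jn I n Q hQ
  haveI := isIso_θ (jn I (X' := X') n) f P hηP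
  haveI := isIso_θ (jn I (X' := X') n) f Q hηQ
  have h1 : (Scheme.Modules.pushforward (jn I (X' := X') n ≫ f)).map
      ((Scheme.Modules.pullback (jn I (X' := X') n)).map φ) =
      inv (θ (jn I (X' := X') n) f P) ≫ (Scheme.Modules.pushforward f).map φ ≫
        θ (jn I (X' := X') n) f Q := by
    rw [← θ_naturality, IsIso.inv_hom_id_assoc]
  have h2 : IsIso ((Scheme.Modules.pushforward (jn I (X' := X') n ≫ f)).map
      ((Scheme.Modules.pullback (jn I (X' := X') n)).map φ)) := by
    rw [h1]
    infer_instance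
  have h3 : IsIso ((Scheme.Modules.pullback (jn I (X' := X') n)).map φ) :=
    isIso_of_isIso_pushforward_of_isEmbedding (hn I f n)
      (hn I f n).isClosedEmbedding.isEmbedding _ h2
  have nat := (Scheme.Modules.pullbackPushforwardAdjunction (jn I (X' := X') n)).unit_naturality φ
  haveI h5 : IsIso ((Scheme.Modules.pushforward (jn I (X' := X') n)).map
      ((Scheme.Modules.pullback (jn I (X' := X') n)).map φ)) := inferInstance
  have h6 : IsIso (φ ≫
      (Scheme.Modules.pullbackPushforwardAdjunction (jn I (X' := X') n)).unit.app Q) := by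
    rw [← nat]
    exact IsIso.comp_isIso
  exact IsIso.of_isIso_comp_right φ
    ((Scheme.Modules.pullbackPushforwardAdjunction (jn I (X' := X') n)).unit.app Q)

include hZ in
/-- **the counit `f^* f_* M' ⟶ M'` is an isomorphism on quasi-coherent modules killed by a power
of `I`.** -/
theorem isIso_counit_of_killedBy [QuasiCompact f] [QuasiSeparated f] (n : ℕ) (M' : X'.Modules)
    [M'.IsQuasicoherent] (hM' : Formal.KilledBy (I ^ (n + 1)) M') :
    IsIso ((Scheme.Modules.pullbackPushforwardAdjunction f).counit.app M') := by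
  haveI hq : ((Scheme.Modules.pushforward f).obj M').IsQuasicoherent := QC.qc_pushforward f M'
  have hk : Formal.KilledBy (I ^ (n + 1)) ((Scheme.Modules.pushforward f).obj M') :=
    killedBy_pushforward f hf (I ^ (n + 1)) M' hM'
  haveI hU := isIso_unit_of_killedBy I f hf hZ n _ hk
  have tri := (Scheme.Modules.pullbackPushforwardAdjunction f).right_triangle_components M'
  haveI : IsIso ((Scheme.Modules.pullbackPushforwardAdjunction f).unit.app
      ((Scheme.Modules.pushforward f).obj M') ≫ (Scheme.Modules.pushforward f).map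
        ((Scheme.Modules.pullbackPushforwardAdjunction f).counit.app M')) := by
    rw [tri]
    infer_instance
  have h1 : IsIso ((Scheme.Modules.pushforward f).map
      ((Scheme.Modules.pullbackPushforwardAdjunction f).counit.app M')) :=
    IsIso.of_isIso_comp_left ((Scheme.Modules.pullbackPushforwardAdjunction f).unit.app
      ((Scheme.Modules.pushforward f).obj M')) _
  haveI : ((Scheme.Modules.pullback f).obj ((Scheme.Modules.pushforward f).obj M')).IsQuasicoherent :=
    QC.qc_pullback f _
  exact isIso_of_isIso_pushforward I f hf hZ n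
    (Groth.Agent.H2.FormalPB.killedBy_pullback f hf _ _ hk) hM' _ h1

include hZ in
/-- direct images of coherent modules killed by a power of `I` are coherent. -/
theorem isCoh_pushforward_of_killedBy [IsLocallyNoetherian X] (n : ℕ) (P : X'.Modules)
    (hP : Coh.IsCoh P) (hk : Formal.KilledBy (I ^ (n + 1)) P) :
    Coh.IsCoh ((Scheme.Modules.pushforward f).obj P) := by
  haveI := hP.1
  haveI := isClosedImmersion_hn I f hf hZ n
  haveI hηP := isIso_unit_jn I n P hk
  haveI := isIso_θ (jn I (X' := X') n) f P hηP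
  have h1 : Coh.IsCoh ((Scheme.Modules.pullback (jn I (X' := X') n)).obj P) :=
    ⟨QC.qc_pullback _ _, QC.isFiniteType_pullback _ _ hP.2⟩
  have h2 := isCoh_pushforward_proper (hn I f n) _ h1
  exact QC.isCoh_of_iso (asIso (θ (jn I (X' := X') n) f P)).symm h2

include hZ in
/-- direct images preserve the quotients by powers of `I` of coherent modules killed by a power
of `I`. -/
theorem isQ_pushforward_of_killedBy [IsNoetherian X] (n m : ℕ) {P Q : X'.Modules}
    (hP : Coh.IsCoh P) [Q.IsQuasicoherent] (hkP : Formal.KilledBy (I ^ (n + 1)) P)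
    (hkQ : Formal.KilledBy (I ^ (n + 1)) Q) {p : P ⟶ Q} (hp : IsQ (I ^ m) p) :
    IsQ (I ^ m) ((Scheme.Modules.pushforward f).map p) := by
  haveI := hP.1
  haveI := isClosedImmersion_hn I f hf hZ n
  haveI hηP := isIso_unit_jn I n P hkP
  haveI hηQ := isIso_unit_jn I n Q hkQ
  haveI := isIso_θ (jn I (X' := X') n) f P hηP
  haveI := isIso_θ (jn I (X' := X') n) f Q hηQ
  letI : (pullback (X' ↘ Spec (CommRingCat.of A)) (CohB1.specQuot I n)).Over
      (Spec (CommRingCat.of A)) := ⟨jn I (X' := X') n ≫ (X' ↘ Spec (CommRingCat.of A))⟩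
  have hj : jn I (X' := X') n ≫ (X' ↘ Spec (CommRingCat.of A)) =
      (pullback (X' ↘ Spec (CommRingCat.of A)) (CohB1.specQuot I n)) ↘
        Spec (CommRingCat.of A) := rfl
  have hh : hn I f n ≫ (X ↘ Spec (CommRingCat.of A)) =
      (pullback (X' ↘ Spec (CommRingCat.of A)) (CohB1.specQuot I n)) ↘
        Spec (CommRingCat.of A) := by
    rw [Category.assoc, hf]
    rfl
  have h1 : Coh.IsCoh ((Scheme.Modules.pullback (jn I (X' := X') n)).obj P) :=
    ⟨QC.qc_pullback _ _, QC.isFiniteType_pullback _ _ hP.2⟩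
  have h2 : IsQ (I ^ m) ((Scheme.Modules.pullback (jn I (X' := X') n)).map p) :=
    isQ_pullback (jn I (X' := X') n) hj hp
  have h3 : IsQ (I ^ m) ((Scheme.Modules.pushforward (hn I f n)).map
      ((Scheme.Modules.pullback (jn I (X' := X') n)).map p)) :=
    isQ_pushforward_closedImmersion I (hn I f n) hh m h1 h2
  have h4 : (Scheme.Modules.pushforward f).map p = θ (jn I (X' := X') n) f P ≫
      (Scheme.Modules.pushforward (hn I f n)).map
        ((Scheme.Modules.pullback (jn I (X' := X') n)).map p) ≫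
      inv (θ (jn I (X' := X') n) f Q) := by
    rw [← Category.assoc, θ_naturality, Category.assoc, IsIso.hom_inv_id, Category.comp_id]
  rw [h4]
  exact isQ_iso_comp _ (isQ_comp_iso h3 _)

end Groth.Agent.H2.GZ
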