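import Groth.Agent.Lib.Helper2.GZ3

/-!
# Coherent formal modules along a flat morphism which is an isomorphism modulo `I` (helper2)
-/

set_option autoImplicit false
set_option linter.style.haveILetI false
set_option linter.unusedVariables false
set_option linter.unusedSectionVars false
universe u
open CategoryTheory Limits AlgebraicGeometry TopologicalSpace Opposite

namespace Groth.Agent.H2.GZ

open Groth.Agent.LD Groth.Agent.LD.FF Groth.Agent.H2.FormalQ Groth.Agent.H2.FormalEq
  Groth.Agent.H2.AlgzExt Groth.Agent.H2.GX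

section Adj

variable {C D : Type*} [Category C] [Category D] {L : C ⥤ D} {R : D ⥤ C} (adj : L ⊣ R)

lemma eq_of_map_eq {M N : C} [IsIso (adj.unit.app N)] {φ φ' : M ⟶ N}
    (h : L.map φ = L.map φ') : φ = φ' := by
  have h1 := adj.unit_naturality φ
  have h2 := adj.unit_naturality φ'
  rw [h] at h1
  exact (cancel_mono (adj.unit.app N)).1 (h1.symm.trans h2)

/-- the preimage of a morphism under `L`. -/
noncomputable def pre {M N : C} [IsIso (adj.unit.app N)] (ψ : L.obj M ⟶ L.obj N) : M ⟶ N :=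
  adj.unit.app M ≫ R.map ψ ≫ inv (adj.unit.app N)

lemma map_pre {M N : C} [IsIso (adj.unit.app N)] (ψ : L.obj M ⟶ L.obj N) :
    L.map (pre adj ψ) = ψ := by
  apply (adj.homEquiv _ _).injective
  rw [adj.homEquiv_unit, adj.homEquiv_unit]
  refine (adj.unit_naturality (pre adj ψ)).trans ?_
  unfold pre
  simp

lemma pre_naturality {M M' N N' : C} [IsIso (adj.unit.app N)] [IsIso (adj.unit.app N')]
    (a : M ⟶ M') (b : N ⟶ N') (ψ : L.obj M ⟶ L.obj N) (ψ' : L.obj M' ⟶ L.obj N')
    (h : L.map a ≫ ψ' = ψ ≫ L.map b) : a ≫ pre adj ψ' = pre adj ψ ≫ b := by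
  apply eq_of_map_eq adj
  rw [L.map_comp, L.map_comp, map_pre, map_pre, h]

end Adj

variable {A : Type u} [CommRing A] (I : Ideal A) {X X' : Scheme.{u}}
  [X.Over (Spec (CommRingCat.of A))] [X'.Over (Spec (CommRingCat.of A))]
  [IsNoetherian X] [IsNoetherian X']
  (f : X' ⟶ X) (hf : f ≫ (X ↘ Spec (CommRingCat.of A)) = X' ↘ Spec (CommRingCat.of A))
  [Flat f]
  (hZ : IsIso (thickMap I (X ↘ Spec (CommRingCat.of A)) (X' ↘ Spec (CommRingCat.of A)) f hf 0))

include hZ in
theorem fullyFaithful (G₁ G₂ : ℕᵒᵖ ⥤ X.Modules) (h₂ : Formal.IsCohFormal I G₂) :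
    Function.Bijective (fun φ : G₁ ⟶ G₂ =>
      Functor.whiskerRight φ (Scheme.Modules.pullback f)) := by
  haveI hη : ∀ k : ℕᵒᵖ, IsIso ((Scheme.Modules.pullbackPushforwardAdjunction f).unit.app
      (G₂.obj k)) := fun k => by
    obtain ⟨n⟩ := k
    haveI := (h₂.1 n).1
    exact isIso_unit_of_killedBy I f hf hZ n _ (h₂.2.1 n)
  constructor
  · intro φ φ' h
    apply NatTrans.ext
    funext k
    exact eq_of_map_eq (Scheme.Modules.pullbackPushforwardAdjunction f)
      (congrArg (fun ψ => NatTrans.app ψ k) h)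
  · intro ψ
    refine ⟨{ app := fun k => pre (Scheme.Modules.pullbackPushforwardAdjunction f) (ψ.app k)
              naturality := fun k k' m =>
                pre_naturality (Scheme.Modules.pullbackPushforwardAdjunction f)
                  (G₁.map m) (G₂.map m) (ψ.app k) (ψ.app k') (ψ.naturality m) }, ?_⟩
    apply NatTrans.ext
    funext k
    exact map_pre (Scheme.Modules.pullbackPushforwardAdjunction f) (ψ.app k)

include hZ in
theorem essSurj (G' : ℕᵒᵖ ⥤ X'.Modules) (hG' : Formal.IsCohFormal I G') :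
    ∃ G : ℕᵒᵖ ⥤ X.Modules, Formal.IsCohFormal I G ∧
      Nonempty (G ⋙ Scheme.Modules.pullback f ≅ G') := by
  haveI : QuasiCompact f := inferInstance
  haveI : QuasiSeparated f := inferInstance
  have hε : ∀ k : ℕᵒᵖ, IsIso ((Scheme.Modules.pullbackPushforwardAdjunction f).counit.app
      (G'.obj k)) := fun k => by
    obtain ⟨n⟩ := k
    haveI := (hG'.1 n).1
    exact isIso_counit_of_killedBy I f hf hZ n _ (hG'.2.1 n)
  refine ⟨G' ⋙ Scheme.Modules.pushforward f, ⟨fun n => ?_, fun n => ?_, fun n => ?_⟩, ⟨?_⟩⟩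
  · exact isCoh_pushforward_of_killedBy I f hf hZ n _ (hG'.1 n) (hG'.2.1 n)
  · exact killedBy_pushforward f hf (I ^ (n + 1)) _ (hG'.2.1 n)
  · haveI := (hG'.1 n).1
    have hk : Formal.KilledBy (I ^ (n + 1 + 1)) (G'.obj (op n)) := fun a ha =>
      hG'.2.1 n a (Ideal.pow_le_pow_right (Nat.le_succ _) ha)
    exact isQ_pushforward_of_killedBy I f hf hZ (n + 1) (n + 1) (hG'.1 (n + 1))
      (hG'.2.1 (n + 1)) hk (hG'.2.2 n)
  · exact NatIso.ofComponents
      (fun k => @asIso _ _ _ _ ((Scheme.Modules.pullbackPushforwardAdjunction f).counit.app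
        (G'.obj k)) (hε k))
      (fun {k k'} m => (Scheme.Modules.pullbackPushforwardAdjunction f).counit_naturality
        (G'.map m))

end Groth.Agent.H2.GZ
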