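import Groth.Agent.Lib.Helper2.GZ4

/-!
# Change of the base ring for coherent formal modules (helper2)
-/

set_option autoImplicit false
set_option linter.style.haveILetI false
set_option linter.unusedVariables false
set_option linter.unusedSectionVars false
universe u
open CategoryTheory Limits AlgebraicGeometry TopologicalSpace Opposite

namespace Groth.Agent.H2.GZ

open Groth.Agent.LD Groth.Agent.LD.FF Groth.Agent.H2.FormalQ Groth.Agent.H2.FormalEq
  Groth.Agent.H2.AlgzExt Groth.Agent.H2.GX Groth.Agent.LD.FK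

section BaseRing

variable {A A' : Type u} [CommRing A] [CommRing A'] (φ : A →+* A') {Y : Scheme.{u}}
  [Y.Over (Spec (CommRingCat.of A'))] [Y.Over (Spec (CommRingCat.of A))]
  (h : (Y ↘ Spec (CommRingCat.of A')) ≫ Spec.map (CommRingCat.ofHom φ) =
    Y ↘ Spec (CommRingCat.of A))

include h in
lemma toGlobal_baseRing (a : A) : Coh.toGlobal (Y ↘ Spec (CommRingCat.of A)) a =
    Coh.toGlobal (Y ↘ Spec (CommRingCat.of A')) (φ a) := by
  have key : Coh.toGlobal (Spec.map (CommRingCat.ofHom φ)) a =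
      (Scheme.ΓSpecIso (CommRingCat.of A')).inv.hom (φ a) := by
    have nat := Scheme.ΓSpecIso_inv_naturality (CommRingCat.ofHom φ)
    exact (congr($(nat) a)).symm
  rw [← h, KLin.toGlobal_comp, key]
  rfl

include h in
lemma smulMod_baseRing (M : Y.Modules) (a : A) :
    Formal.smulMod A M a = Formal.smulMod A' M (φ a) := by
  unfold Formal.smulMod
  rw [toGlobal_baseRing φ h a]

include h in
lemma comp_eq_zero_iff_baseRing (J : Ideal A) {M Z : Y.Modules} (g : M ⟶ Z) :
    (∀ b ∈ J.map φ, Formal.smulMod A' M b ≫ g = 0) ↔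
      (∀ a ∈ J, Formal.smulMod A M a ≫ g = 0) := by
  constructor
  · intro H a ha
    rw [smulMod_baseRing φ h M a]
    exact H _ (Ideal.mem_map_of_mem _ ha)
  · intro H b hb
    refine Submodule.span_induction (p := fun b _ => Formal.smulMod A' M b ≫ g = 0)
      ?_ ?_ ?_ ?_ hb
    · rintro _ ⟨a, ha, rfl⟩
      rw [← smulMod_baseRing φ h M a]
      exact H a ha
    · rw [smulMod_zero, zero_comp]
    · intro x y _ _ hx hy
      rw [smulMod_add, Preadditive.add_comp, hx, hy, add_zero]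
    · intro c x _ hx
      rw [smul_eq_mul, mul_comm, CohIII.smulMod_mul, Category.assoc, hx, comp_zero]

include h in
lemma killedBy_baseRing (J : Ideal A) (M : Y.Modules) :
    Formal.KilledBy (J.map φ) M ↔ Formal.KilledBy J M := by
  have := comp_eq_zero_iff_baseRing φ h J (𝟙 M)
  simp only [Category.comp_id] at this
  exact this

include h in
lemma isQ_baseRing (J : Ideal A) {M Q : Y.Modules} (p : M ⟶ Q) :
    IsQ (J.map φ) p ↔ IsQ J p := by
  rw [isQ_iff, isQ_iff, comp_eq_zero_iff_baseRing φ h J p]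
  constructor
  · rintro ⟨h1, h2, h3⟩
    exact ⟨h1, h2, fun {Z} g hg => h3 g ((comp_eq_zero_iff_baseRing φ h J g).2 hg)⟩
  · rintro ⟨h1, h2, h3⟩
    exact ⟨h1, h2, fun {Z} g hg => h3 g ((comp_eq_zero_iff_baseRing φ h J g).1 hg)⟩

include h in
lemma isCohFormal_baseRing (I : Ideal A) (F : ℕᵒᵖ ⥤ Y.Modules) :
    Formal.IsCohFormal (I.map φ) F ↔ Formal.IsCohFormal I F := by
  have e1 : ∀ n : ℕ, Formal.KilledBy ((I.map φ) ^ (n + 1)) (F.obj (op n)) ↔
      Formal.KilledBy (I ^ (n + 1)) (F.obj (op n)) := fun n => by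
    rw [← Ideal.map_pow]
    exact killedBy_baseRing φ h _ _
  have e2 : ∀ n : ℕ, IsQ ((I.map φ) ^ (n + 1)) (F.map (homOfLE (Nat.le_succ n)).op) ↔
      IsQ (I ^ (n + 1)) (F.map (homOfLE (Nat.le_succ n)).op) := fun n => by
    rw [← Ideal.map_pow]
    exact isQ_baseRing φ h _ _
  constructor
  · rintro ⟨h1, h2, h3⟩
    exact ⟨h1, fun n => (e1 n).1 (h2 n), fun n => (e2 n).1 (h3 n)⟩
  · rintro ⟨h1, h2, h3⟩
    exact ⟨h1, fun n => (e1 n).2 (h2 n), fun n => (e2 n).2 (h3 n)⟩

include h in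
lemma completion_baseRing_iso (I : Ideal A) (M : Y.Modules) :
    Nonempty (Formal.completion (I.map φ) M ≅ Formal.completion I M) := by
  obtain ⟨e, -⟩ := exists_iso_of_isQ_family (A := A) (fun n => I ^ (n + 1))
    (πc (I.map φ) M) (πc I M)
    (fun n => by
      have h1 := isQ_modPowπ (I.map φ) (n + 1) M
      rw [← Ideal.map_pow] at h1
      exact (isQ_baseRing φ h _ _).1 h1)
    (fun n => isQ_modPowπ I (n + 1) M) (fun n k hnk => πc_map (I.map φ) M hnk)
    (fun n k hnk => πc_map I M hnk)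
  exact ⟨e⟩

end BaseRing

end Groth.Agent.H2.GZ
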