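import Groth.Agent.Lib.Helper2.GZ5
import Groth.Agent.Lib.Helper1.ComplQuot
import Groth.Agent.S0543

/-!
# The completion `Spec Â ⟶ Spec A` is an isomorphism modulo `I` (helper2)
-/

set_option autoImplicit false
set_option linter.style.haveILetI false
set_option linter.unusedVariables false
set_option linter.unusedSectionVars false
universe u
open CategoryTheory Limits AlgebraicGeometry TopologicalSpace Opposite

namespace Groth.Agent.H2.GZ

section Restrict

variable {A : Type u} [CommRing A] (I : Ideal A) {S' : Scheme.{u}}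
  (f : S' ⟶ Spec (CommRingCat.of A)) (U : (Spec (CommRingCat.of A)).Opens)

/-- the restriction over an open of a morphism which is an isomorphism modulo `I` is an
isomorphism modulo `I`. -/
lemma isIso_thickMap_restrict
    (h0 : IsIso (thickMap I (𝟙 _) f f (Category.comp_id _) 0)) :
    IsIso (thickMap I U.ι ((f ⁻¹ᵁ U).ι ≫ f) (f ∣_ U) (morphismRestrict_ι f U) 0) := by
  have t := isPullback_thickMap I (𝟙 _) f f (Category.comp_id _) 0
  have s1 := isPullback_thickMap I U.ι ((f ⁻¹ᵁ U).ι ≫ f) (f ∣_ U) (morphismRestrict_ι f U) 0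
  have s2 := (isPullback_morphismRestrict f U).flip
  have s := s1.paste_horiz s2
  have e1 : pullback.fst ((f ⁻¹ᵁ U).ι ≫ f) (CohB1.specQuot I 0) ≫ (f ⁻¹ᵁ U).ι =
      thickMap I f ((f ⁻¹ᵁ U).ι ≫ f) (f ⁻¹ᵁ U).ι rfl 0 ≫ pullback.fst f (CohB1.specQuot I 0) :=
    (thickMap_fst I f ((f ⁻¹ᵁ U).ι ≫ f) (f ⁻¹ᵁ U).ι rfl 0).symm
  have e2 : pullback.fst U.ι (CohB1.specQuot I 0) ≫ U.ι =
      thickMap I (𝟙 _) U.ι U.ι (Category.comp_id _) 0 ≫
        pullback.fst (𝟙 _) (CohB1.specQuot I 0) :=
    (thickMap_fst I (𝟙 _) U.ι U.ι (Category.comp_id _) 0).symm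
  rw [e1, e2] at s
  have p : thickMap I f ((f ⁻¹ᵁ U).ι ≫ f) (f ⁻¹ᵁ U).ι rfl 0 ≫
      thickMap I (𝟙 _) f f (Category.comp_id _) 0 =
      thickMap I U.ι ((f ⁻¹ᵁ U).ι ≫ f) (f ∣_ U) (morphismRestrict_ι f U) 0 ≫
        thickMap I (𝟙 _) U.ι U.ι (Category.comp_id _) 0 := by
    apply pullback.hom_ext
    · simp only [Category.assoc, thickMap_fst, thickMap_fst_assoc, morphismRestrict_ι]
    · simp only [Category.assoc, thickMap_snd, thickMap_snd_assoc]
  have sq := IsPullback.of_right s p t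
  haveI := h0
  exact sq.isIso_snd_of_isIso

end Restrict

section Compl

open TensorProduct

variable {A : Type u} [CommRing A] [IsNoetherianRing A] (I : Ideal A)

lemma tmul_one_eq_zero (x : AdicCompletion I A)
    (hx : x ∈ (I ^ (0 + 1)).map (algebraMap A (AdicCompletion I A))) :
    x ⊗ₜ[A] (1 : A ⧸ I ^ (0 + 1)) = 0 := by
  refine Submodule.span_induction (p := fun x _ => x ⊗ₜ[A] (1 : A ⧸ I ^ (0 + 1)) = 0)
    ?_ ?_ ?_ ?_ hx
  · rintro _ ⟨i, hi, rfl⟩
    rw [Algebra.algebraMap_eq_smul_one, TensorProduct.smul_tmul]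
    have h0 : i • (1 : A ⧸ I ^ (0 + 1)) = 0 := by
      rw [Algebra.smul_def, mul_one]
      exact Ideal.Quotient.eq_zero_iff_mem.2 hi
    rw [h0, TensorProduct.tmul_zero]
  · exact TensorProduct.zero_tmul _ _
  · intro x y _ _ hx hy
    rw [TensorProduct.add_tmul, hx, hy, add_zero]
  · intro c x _ hx
    rw [← TensorProduct.smul_tmul', hx, smul_zero]

lemma includeRight_bijective :
    Function.Bijective (Algebra.TensorProduct.includeRight :
      (A ⧸ I ^ (0 + 1)) →ₐ[A] AdicCompletion I A ⊗[A] (A ⧸ I ^ (0 + 1))) := by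
  constructor
  · have hr : Function.LeftInverse
        (Algebra.TensorProduct.productMap (AdicCompletion.evalₐ I (0 + 1))
          (AlgHom.id A (A ⧸ I ^ (0 + 1))))
        (Algebra.TensorProduct.includeRight :
          (A ⧸ I ^ (0 + 1)) →ₐ[A] AdicCompletion I A ⊗[A] (A ⧸ I ^ (0 + 1))) := by
      intro b
      rw [Algebra.TensorProduct.includeRight_apply, Algebra.TensorProduct.productMap_right_apply]
      rfl
    exact hr.injective
  · intro y
    obtain ⟨a', rfl⟩ := Algebra.TensorProduct.includeLeft_surjective (R := A)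
      (T := A ⧸ I ^ (0 + 1)) A (AdicCompletion I A) Ideal.Quotient.mk_surjective y
    obtain ⟨a, ha⟩ := Ideal.Quotient.mk_surjective (AdicCompletion.evalₐ I (0 + 1) a')
    have hk : a' - algebraMap A (AdicCompletion I A) a ∈
        RingHom.ker (AdicCompletion.evalₐ I (0 + 1) : AdicCompletion I A →+* A ⧸ I ^ (0 + 1)) := by
      rw [RingHom.mem_ker, map_sub, sub_eq_zero]
      have : (AdicCompletion.evalₐ I (0 + 1)) (algebraMap A (AdicCompletion I A) a) =
          Ideal.Quotient.mk (I ^ (0 + 1)) a := by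
        rw [AlgHom.commutes]
        rfl
      exact (ha.symm.trans this.symm)
    have hm := Groth.Agent.H1.ComplQuot.ker_evalₐ_le I (IsNoetherian.noetherian I) (0 + 1) hk
    have h0 := tmul_one_eq_zero I _ hm
    refine ⟨Ideal.Quotient.mk _ a, ?_⟩
    rw [Algebra.TensorProduct.includeRight_apply, Algebra.TensorProduct.includeLeft_apply]
    rw [sub_tmul, sub_eq_zero] at h0
    rw [h0, Algebra.algebraMap_eq_smul_one, TensorProduct.smul_tmul]
    congr 1
    rw [Algebra.smul_def, mul_one]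
    rfl

/-- the completion morphism `Spec Â ⟶ Spec A`. -/
noncomputable abbrev fC : Spec (CommRingCat.of (AdicCompletion I A)) ⟶ Spec (CommRingCat.of A) :=
  Spec.map (CommRingCat.ofHom (algebraMap A (AdicCompletion I A)))

lemma isIso_snd_fC : IsIso (pullback.snd (fC I) (CohB1.specQuot I 0)) := by
  have e := pullbackSpecIso_hom_snd A (AdicCompletion I A) (A ⧸ I ^ (0 + 1))
  haveI : IsIso (CommRingCat.ofHom (RingHomClass.toRingHom
      (Algebra.TensorProduct.includeRight :
        (A ⧸ I ^ (0 + 1)) →ₐ[A] AdicCompletion I A ⊗[A] (A ⧸ I ^ (0 + 1))))) :=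
    (ConcreteCategory.isIso_iff_bijective _).2 (includeRight_bijective I)
  have h1 : IsIso (pullback.snd (Spec.map (CommRingCat.ofHom (algebraMap A (AdicCompletion I A))))
      (Spec.map (CommRingCat.ofHom (algebraMap A (A ⧸ I ^ (0 + 1)))))) := by
    rw [← e]
    infer_instance
  exact h1

lemma isIso_thickMap_fC :
    IsIso (thickMap I (𝟙 _) (fC I) (fC I) (Category.comp_id _) 0) := by
  haveI := isIso_snd_fC I
  haveI : IsIso (thickMap I (𝟙 _) (fC I) (fC I) (Category.comp_id _) 0 ≫
      pullback.snd (𝟙 _) (CohB1.specQuot I 0)) := by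
    rw [thickMap_snd]
    infer_instance
  exact IsIso.of_isIso_comp_right _ (pullback.snd (𝟙 _) (CohB1.specQuot I 0))

end Compl

end Groth.Agent.H2.GZ
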