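import Groth.Agent.Lib.Helper2.GZ6
import Groth.Agent.Lib.Helper2.AlgzAff4
import Groth.Agent.Lib.Helper2.AlgzExt4

/-!
# Extending along the completion map (helper2)
-/

set_option autoImplicit false
set_option linter.style.haveILetI false
universe u
open CategoryTheory Limits Opposite TopologicalSpace AlgebraicGeometry

namespace Groth.Agent.H2.GZ

open Groth.Agent.LD

section Reflect

variable {J C D : Type*} [Category J] [Category C] [Category D]

lemma iso_of_whiskerRight_bijective (Φ : C ⥤ D) (G₁ G₂ : J ⥤ C)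
    (h12 : Function.Bijective (fun φ : G₁ ⟶ G₂ => Functor.whiskerRight φ Φ))
    (h21 : Function.Bijective (fun φ : G₂ ⟶ G₁ => Functor.whiskerRight φ Φ))
    (h11 : Function.Injective (fun φ : G₁ ⟶ G₁ => Functor.whiskerRight φ Φ))
    (h22 : Function.Injective (fun φ : G₂ ⟶ G₂ => Functor.whiskerRight φ Φ))
    (e : G₁ ⋙ Φ ≅ G₂ ⋙ Φ) : Nonempty (G₁ ≅ G₂) := by
  obtain ⟨a, ha⟩ := h12.2 e.hom
  obtain ⟨b, hb⟩ := h21.2 e.inv
  refine ⟨⟨a, b, h11 ?_, h22 ?_⟩⟩
  · change Functor.whiskerRight (a ≫ b) Φ = Functor.whiskerRight (𝟙 _) Φ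
    rw [Functor.whiskerRight_comp, Functor.whiskerRight_id']
    change Functor.whiskerRight a Φ = _ at ha
    change Functor.whiskerRight b Φ = _ at hb
    rw [ha, hb, Iso.hom_inv_id]
  · change Functor.whiskerRight (b ≫ a) Φ = Functor.whiskerRight (𝟙 _) Φ
    rw [Functor.whiskerRight_comp, Functor.whiskerRight_id']
    change Functor.whiskerRight a Φ = _ at ha
    change Functor.whiskerRight b Φ = _ at hb
    rw [ha, hb, Iso.inv_hom_id]

end Reflect


lemma isNoetherian_opens {X : Scheme.{u}} [AlgebraicGeometry.IsNoetherian X] (U : X.Opens) :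
    AlgebraicGeometry.IsNoetherian (U : Scheme.{u}) := by
  haveI : IsLocallyNoetherian (U : Scheme.{u}) := isLocallyNoetherian_of_isOpenImmersion U.ι
  haveI : CompactSpace (U : Scheme.{u}) :=
    isCompact_iff_compactSpace.mp (NoetherianSpace.isCompact (U : Set X))
  exact {}

variable {A : Type u} [CommRing A] [IsNoetherianRing A] (I : Ideal A)

instance flat_fC : Flat (fC I) := by
  rw [Flat.SpecMap_iff]
  exact (RingHom.flat_algebraMap_iff).2 inferInstance

theorem extends_iff_completion (U : (Spec (CommRingCat.of A)).Opens)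
    (G : ℕᵒᵖ ⥤ (U : Scheme.{u}).Modules) (hG : Formal.IsCohFormal I G) :
    @Algz.Extends A _ (Spec (CommRingCat.of A)) ⟨𝟙 _⟩ I U G ↔
      ∃ F' : (↑(fC I ⁻¹ᵁ U) : Scheme.{u}).Modules, Coh.IsCoh F' ∧
        Nonempty (Formal.completion (I.map (algebraMap A (AdicCompletion I A))) F' ≅
          G ⋙ Scheme.Modules.pullback (fC I ∣_ U)) := by
  haveI hN' : IsNoetherianRing (AdicCompletion I A) := Groth.Agent.S0543.result A I
  haveI hAC : IsAdicComplete (I.map (algebraMap A (AdicCompletion I A))) (AdicCompletion I A) :=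
    (IsAdicComplete.map_algebraMap_iff _ _).mpr
      (AdicCompletion.isAdicComplete (IsNoetherian.noetherian I))
  letI oS : (Spec (CommRingCat.of A)).Over (Spec (CommRingCat.of A)) := ⟨𝟙 _⟩
  letI oS' : (Spec (CommRingCat.of (AdicCompletion I A))).Over
      (Spec (CommRingCat.of (AdicCompletion I A))) := ⟨𝟙 _⟩
  letI oS'A : (Spec (CommRingCat.of (AdicCompletion I A))).Over (Spec (CommRingCat.of A)) :=
    ⟨fC I⟩
  letI oU' : (↑(fC I ⁻¹ᵁ U) : Scheme.{u}).Over (Spec (CommRingCat.of A)) :=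
    ⟨(fC I ⁻¹ᵁ U).ι ≫ fC I⟩
  haveI : AlgebraicGeometry.IsNoetherian (U : Scheme.{u}) := isNoetherian_opens U
  haveI : AlgebraicGeometry.IsNoetherian (↑(fC I ⁻¹ᵁ U) : Scheme.{u}) := isNoetherian_opens _
  have hf : fC I ≫ (Spec (CommRingCat.of A) ↘ Spec (CommRingCat.of A)) =
      (Spec (CommRingCat.of (AdicCompletion I A)) ↘ Spec (CommRingCat.of A)) :=
    Category.comp_id _
  have hfU : (fC I ∣_ U) ≫ ((U : Scheme.{u}) ↘ Spec (CommRingCat.of A)) =
      ((↑(fC I ⁻¹ᵁ U) : Scheme.{u}) ↘ Spec (CommRingCat.of A)) :=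
    morphismRestrict_ι (fC I) U
  have hbr : (Spec (CommRingCat.of (AdicCompletion I A)) ↘
        Spec (CommRingCat.of (AdicCompletion I A))) ≫
      Spec.map (CommRingCat.ofHom (algebraMap A (AdicCompletion I A))) =
      (Spec (CommRingCat.of (AdicCompletion I A)) ↘ Spec (CommRingCat.of A)) :=
    Category.id_comp _
  have sq : (fC I ⁻¹ᵁ U).ι ≫ fC I = (fC I ∣_ U) ≫ U.ι := (morphismRestrict_ι (fC I) U).symm
  constructor
  · rintro ⟨Ĝ, hĜ, ⟨e⟩⟩
    have hP : Formal.IsCohFormal I (Ĝ ⋙ Scheme.Modules.pullback (fC I)) :=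
      Groth.Agent.H2.GX.isCohFormal_pullback I (fC I) hf hĜ
    have hP' : Formal.IsCohFormal (I.map (algebraMap A (AdicCompletion I A)))
        (Ĝ ⋙ Scheme.Modules.pullback (fC I)) :=
      (isCohFormal_baseRing (algebraMap A (AdicCompletion I A)) hbr I _).mpr hP
    have ext : @Algz.Extends (AdicCompletion I A) _ (Spec (CommRingCat.of (AdicCompletion I A)))
        ⟨𝟙 _⟩ (I.map (algebraMap A (AdicCompletion I A))) (fC I ⁻¹ᵁ U)
        (G ⋙ Scheme.Modules.pullback (fC I ∣_ U)) := by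
      refine ⟨Ĝ ⋙ Scheme.Modules.pullback (fC I), hP', ⟨?_⟩⟩
      exact Functor.associator _ _ _ ≪≫
        Functor.isoWhiskerLeft Ĝ (QC.pullbackRestrictIso (fC I) (fC I ⁻¹ᵁ U).ι U.ι (fC I ∣_ U) sq)
        ≪≫ (Functor.associator _ _ _).symm ≪≫
        Functor.isoWhiskerRight e (Scheme.Modules.pullback (fC I ∣_ U))
    exact Groth.Agent.H2.AlgzAff.exists_completion_iso_of_extends
      (I.map (algebraMap A (AdicCompletion I A))) (fC I ⁻¹ᵁ U) _ ext
  · rintro ⟨F', hF', ⟨e'⟩⟩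
    obtain ⟨Ĝ', hĜ', ⟨e1⟩⟩ := Groth.Agent.H2.AlgzExt.extends_of_completion_iso
      (I.map (algebraMap A (AdicCompletion I A))) (fC I ⁻¹ᵁ U)
      (G ⋙ Scheme.Modules.pullback (fC I ∣_ U)) F' hF' e'
    have hĜ'A : Formal.IsCohFormal I Ĝ' :=
      (isCohFormal_baseRing (algebraMap A (AdicCompletion I A)) hbr I _).mp hĜ'
    have hZf := isIso_thickMap_fC I
    obtain ⟨Ĝ, hĜ, ⟨e2⟩⟩ := essSurj I (fC I) hf hZf Ĝ' hĜ'A
    have hZU := isIso_thickMap_restrict I (fC I) U hZf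
    have hR : Formal.IsCohFormal I (Algz.restrictSys U Ĝ) :=
      Groth.Agent.H2.AlgzExt.isCohFormal_restrictSys U hĜ
    have e3 : (Algz.restrictSys U Ĝ) ⋙ Scheme.Modules.pullback (fC I ∣_ U) ≅
        G ⋙ Scheme.Modules.pullback (fC I ∣_ U) :=
      Functor.associator _ _ _ ≪≫
        Functor.isoWhiskerLeft Ĝ
          (QC.pullbackRestrictIso (fC I) (fC I ⁻¹ᵁ U).ι U.ι (fC I ∣_ U) sq).symm
        ≪≫ (Functor.associator _ _ _).symm ≪≫
        Functor.isoWhiskerRight e2 (Scheme.Modules.restrictFunctor (fC I ⁻¹ᵁ U).ι) ≪≫ e1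
    obtain ⟨e4⟩ := iso_of_whiskerRight_bijective (Scheme.Modules.pullback (fC I ∣_ U))
      (Algz.restrictSys U Ĝ) G
      (fullyFaithful I (fC I ∣_ U) hfU hZU _ _ hG)
      (fullyFaithful I (fC I ∣_ U) hfU hZU _ _ hR)
      (fullyFaithful I (fC I ∣_ U) hfU hZU _ _ hR).1
      (fullyFaithful I (fC I ∣_ U) hfU hZU _ _ hG).1 e3
    exact ⟨Ĝ, hĜ, ⟨e4⟩⟩

end Groth.Agent.H2.GZ
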