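import Groth.Agent.Lib.Helper2.GZ7
import Groth.Agent.Lib.Helper2.GYMain
import Groth.Agent.Lib.Lead.FK.Glue3
import Groth.Agent.Lib.Helper5.Lim.ModuleBridge

/-!
# Extending is insensitive to maps with `I`-power-torsion kernel and cokernel (helper2)
-/

set_option autoImplicit false
set_option linter.style.haveILetI false
universe u
open CategoryTheory Limits Opposite TopologicalSpace AlgebraicGeometry

namespace Groth.Agent.H2.GZ

open Groth.Agent.LD

section KC

variable {A : Type u} [CommRing A] {X : Scheme.{u}} [X.Over (Spec (CommRingCat.of A))]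

lemma kerCoker_iso_comp (I : Ideal A) {H₀ H H' : ℕᵒᵖ ⥤ X.Modules} (e : H₀ ≅ H) (α : H ⟶ H')
    (hα : Formal2.KerCokerKilledByIPow I α) : Formal2.KerCokerKilledByIPow I (e.hom ≫ α) := by
  obtain ⟨t, ht⟩ := hα
  refine ⟨t, fun n => ⟨?_, ?_⟩⟩
  · exact FK.killedBy_of_iso (kernelIsIsoComp (e.hom.app (op n)) (α.app (op n))).symm (ht n).1
  · exact FK.killedBy_of_iso (cokernelEpiComp (e.hom.app (op n)) (α.app (op n))).symm (ht n).2

lemma kerCoker_comp_iso (I : Ideal A) {H H' H₁ : ℕᵒᵖ ⥤ X.Modules} (α : H ⟶ H') (e : H' ≅ H₁)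
    (hα : Formal2.KerCokerKilledByIPow I α) : Formal2.KerCokerKilledByIPow I (α ≫ e.hom) := by
  obtain ⟨t, ht⟩ := hα
  refine ⟨t, fun n => ⟨?_, ?_⟩⟩
  · exact FK.killedBy_of_iso (kernelCompMono (α.app (op n)) (e.hom.app (op n))).symm (ht n).1
  · exact FK.killedBy_of_iso (cokernelCompIsIso (α.app (op n)) (e.hom.app (op n))).symm (ht n).2

variable [AlgebraicGeometry.IsNoetherian X]

/-- being the completion of a coherent module is insensitive to maps of systems with
`I`-power-torsion kernels and cokernels. -/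
theorem completion_transfer (I : Ideal A) {H H' : ℕᵒᵖ ⥤ X.Modules}
    (hH : Formal.IsCohFormal I H) (hH' : Formal.IsCohFormal I H') (α : H ⟶ H')
    (hα : Formal2.KerCokerKilledByIPow I α) :
    (∃ F : X.Modules, Coh.IsCoh F ∧ Nonempty (Formal.completion I F ≅ H)) ↔
      (∃ F : X.Modules, Coh.IsCoh F ∧ Nonempty (Formal.completion I F ≅ H')) := by
  constructor
  · rintro ⟨F, hF, ⟨e⟩⟩
    obtain ⟨F', -, β, hF', -, -⟩ := Groth.Agent.H2.GY.existence_easy_right I hF hH' (e.hom ≫ α)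
      (kerCoker_iso_comp I e α hα)
    exact ⟨F', hF', ⟨β⟩⟩
  · rintro ⟨F, hF, ⟨e⟩⟩
    obtain ⟨F', -, β, hF', -, -⟩ := FK.s0829 A I X F hF H hH (α ≫ e.inv)
      (kerCoker_comp_iso I α e.symm hα)
    exact ⟨F', hF', ⟨β.symm⟩⟩

end KC


section PB

variable {A : Type u} [CommRing A] {Y Y' : Scheme.{u}} [Y.Over (Spec (CommRingCat.of A))]
  [Y'.Over (Spec (CommRingCat.of A))] (g : Y' ⟶ Y)
  (hg : g ≫ (Y ↘ Spec (CommRingCat.of A)) = (Y' ↘ Spec (CommRingCat.of A))) [Flat g]

include hg in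
lemma kerCoker_pullback (I : Ideal A) {H H' : ℕᵒᵖ ⥤ Y.Modules}
    (hqH : ∀ n : ℕ, (H.obj (op n)).IsQuasicoherent)
    (hqH' : ∀ n : ℕ, (H'.obj (op n)).IsQuasicoherent) (α : H ⟶ H')
    (hα : Formal2.KerCokerKilledByIPow I α) :
    Formal2.KerCokerKilledByIPow I (Functor.whiskerRight α (Scheme.Modules.pullback g)) := by
  obtain ⟨t, ht⟩ := hα
  refine ⟨t, fun n => ⟨?_, ?_⟩⟩
  · haveI := hqH n
    haveI := hqH' n
    have e : kernel ((Scheme.Modules.pullback g).map (α.app (op n))) ≅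
        (Scheme.Modules.pullback g).obj (kernel (α.app (op n))) :=
      IsLimit.conePointUniqueUpToIso (kernelIsKernel _)
        (Groth.Agent.H5.Lim.isLimitKernelForkPullbackOfFlat g (α.app (op n)))
    exact FK.killedBy_of_iso e.symm
      (Groth.Agent.H2.FormalPB.killedBy_pullback g hg _ _ (ht n).1)
  · haveI : PreservesColimitsOfSize.{0, 0} (Scheme.Modules.pullback g) :=
      (Scheme.Modules.pullbackPushforwardAdjunction g).leftAdjoint_preservesColimits
    have e : (Scheme.Modules.pullback g).obj (cokernel (α.app (op n))) ≅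
        cokernel ((Scheme.Modules.pullback g).map (α.app (op n))) :=
      PreservesCokernel.iso (Scheme.Modules.pullback g) (α.app (op n))
    exact FK.killedBy_of_iso e
      (Groth.Agent.H2.FormalPB.killedBy_pullback g hg _ _ (ht n).2)

end PB


section BaseRing2

variable {A A' : Type u} [CommRing A] [CommRing A'] (φ : A →+* A') {Y : Scheme.{u}}
  [Y.Over (Spec (CommRingCat.of A'))] [Y.Over (Spec (CommRingCat.of A))]
  (h : (Y ↘ Spec (CommRingCat.of A')) ≫ Spec.map (CommRingCat.ofHom φ) =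
    (Y ↘ Spec (CommRingCat.of A)))

include h in
lemma kerCoker_baseRing (I : Ideal A) {H H' : ℕᵒᵖ ⥤ Y.Modules} (α : H ⟶ H')
    (hα : Formal2.KerCokerKilledByIPow I α) : Formal2.KerCokerKilledByIPow (I.map φ) α := by
  obtain ⟨t, ht⟩ := hα
  refine ⟨t, fun n => ⟨?_, ?_⟩⟩
  · rw [← Ideal.map_pow]
    exact (killedBy_baseRing φ h _ _).mpr (ht n).1
  · rw [← Ideal.map_pow]
    exact (killedBy_baseRing φ h _ _).mpr (ht n).2

end BaseRing2

section Main

variable {A : Type u} [CommRing A] [IsNoetherianRing A] (I : Ideal A)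

theorem extends_iff_of_kerCoker (U : (Spec (CommRingCat.of A)).Opens)
    (G G' : ℕᵒᵖ ⥤ (U : Scheme.{u}).Modules) (hG : Formal.IsCohFormal I G)
    (hG' : Formal.IsCohFormal I G') (α : G ⟶ G') (hα : Formal2.KerCokerKilledByIPow I α) :
    @Algz.Extends A _ (Spec (CommRingCat.of A)) ⟨𝟙 _⟩ I U G ↔
      @Algz.Extends A _ (Spec (CommRingCat.of A)) ⟨𝟙 _⟩ I U G' := by
  rw [extends_iff_completion I U G hG, extends_iff_completion I U G' hG']
  haveI hN' : IsNoetherianRing (AdicCompletion I A) := Groth.Agent.S0543.result A I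
  letI oU' : (↑(fC I ⁻¹ᵁ U) : Scheme.{u}).Over (Spec (CommRingCat.of A)) :=
    ⟨(fC I ⁻¹ᵁ U).ι ≫ fC I⟩
  haveI : AlgebraicGeometry.IsNoetherian (↑(fC I ⁻¹ᵁ U) : Scheme.{u}) := isNoetherian_opens _
  have hfU : (fC I ∣_ U) ≫ ((U : Scheme.{u}) ↘ Spec (CommRingCat.of A)) =
      ((↑(fC I ⁻¹ᵁ U) : Scheme.{u}) ↘ Spec (CommRingCat.of A)) :=
    morphismRestrict_ι (fC I) U
  have hbr : ((↑(fC I ⁻¹ᵁ U) : Scheme.{u}) ↘ Spec (CommRingCat.of (AdicCompletion I A))) ≫
      Spec.map (CommRingCat.ofHom (algebraMap A (AdicCompletion I A))) =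
      ((↑(fC I ⁻¹ᵁ U) : Scheme.{u}) ↘ Spec (CommRingCat.of A)) := rfl
  have hH : Formal.IsCohFormal (I.map (algebraMap A (AdicCompletion I A)))
      (G ⋙ Scheme.Modules.pullback (fC I ∣_ U)) :=
    (isCohFormal_baseRing (algebraMap A (AdicCompletion I A)) hbr I _).mpr
      (Groth.Agent.H2.GX.isCohFormal_pullback I (fC I ∣_ U) hfU hG)
  have hH' : Formal.IsCohFormal (I.map (algebraMap A (AdicCompletion I A)))
      (G' ⋙ Scheme.Modules.pullback (fC I ∣_ U)) :=
    (isCohFormal_baseRing (algebraMap A (AdicCompletion I A)) hbr I _).mpr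
      (Groth.Agent.H2.GX.isCohFormal_pullback I (fC I ∣_ U) hfU hG')
  have hα' : Formal2.KerCokerKilledByIPow (I.map (algebraMap A (AdicCompletion I A)))
      (Functor.whiskerRight α (Scheme.Modules.pullback (fC I ∣_ U))) :=
    kerCoker_baseRing (algebraMap A (AdicCompletion I A)) hbr I _
      (kerCoker_pullback (fC I ∣_ U) hfU I (fun n => (hG.1 n).1) (fun n => (hG'.1 n).1) α hα)
  exact completion_transfer (I.map (algebraMap A (AdicCompletion I A))) hH hH' _ hα'

end Main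

end Groth.Agent.H2.GZ
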