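import Groth.Agent.Lib.Helper2.GZ5
import Groth.Agent.Lib.Helper2.GXBChA
import Groth.Agent.Lib.Helper2.AlgzExt4

/-!
# Canonical extension and flat base change (helper2)
-/

set_option autoImplicit false
set_option linter.style.haveILetI false
universe u
open CategoryTheory Limits Opposite TopologicalSpace AlgebraicGeometry

namespace Groth.Agent.H2.GZ

open Groth.Agent.LD Groth.Agent.H2.AlgzExt

section

variable (A : Type u) [CommRing A] [IsNoetherianRing A] (I : Ideal A)
  (U : (Spec (CommRingCat.of A)).Opens) (G : ℕᵒᵖ ⥤ (U : Scheme.{u}).Modules)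
  (A' : Type u) [CommRing A'] [Algebra A A'] [Module.Flat A A']

theorem canonicallyExtends_flat_baseChange (hG : Formal.IsCohFormal I G)
    (h : Algz.CanonicallyExtends A I U G) :
    Algz.CanonicallyExtends A' (I.map (algebraMap A A'))
      (Spec.map (CommRingCat.ofHom (algebraMap A A')) ⁻¹ᵁ U)
      (G ⋙ Scheme.Modules.pullback
        (morphismRestrict (Spec.map (CommRingCat.ofHom (algebraMap A A'))) U)) := by
  set f := Spec.map (CommRingCat.ofHom (algebraMap A A')) with hfdef
  haveI : Flat f := by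
    rw [hfdef, Flat.SpecMap_iff]
    exact RingHom.flat_algebraMap_iff.2 inferInstance
  obtain ⟨G', hG', hpro⟩ := h
  letI oS : (Spec (CommRingCat.of A)).Over (Spec (CommRingCat.of A)) := ⟨𝟙 _⟩
  letI oS' : (Spec (CommRingCat.of A')).Over (Spec (CommRingCat.of A')) := ⟨𝟙 _⟩
  letI oS'A : (Spec (CommRingCat.of A')).Over (Spec (CommRingCat.of A)) := ⟨f⟩
  have hf : f ≫ (Spec (CommRingCat.of A) ↘ Spec (CommRingCat.of A)) =
      (Spec (CommRingCat.of A') ↘ Spec (CommRingCat.of A)) := Category.comp_id _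
  have hbr : (Spec (CommRingCat.of A') ↘ Spec (CommRingCat.of A')) ≫
      Spec.map (CommRingCat.ofHom (algebraMap A A')) =
      (Spec (CommRingCat.of A') ↘ Spec (CommRingCat.of A)) := Category.id_comp _
  have hsq : IsPullback (f ∣_ U) (f ⁻¹ᵁ U).ι U.ι f := isPullback_morphismRestrict f U
  haveI : QuasiCompact (f ⁻¹ᵁ U).ι := MorphismProperty.of_isPullback hsq inferInstance
  have hq : ∀ n, (G.obj n).IsQuasicoherent := fun n => (hG.1 n.unop).1
  have hq' : ∀ n, ((G ⋙ Scheme.Modules.pullback (f ∣_ U)).obj n).IsQuasicoherent := fun n => by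
    haveI := hq n
    exact QC.qc_pullback (f ∣_ U) _
  refine ⟨G' ⋙ Scheme.Modules.pullback f, ?_, ?_⟩
  · exact (isCohFormal_baseRing (algebraMap A A') hbr I _).mpr
      (Groth.Agent.H2.GX.isCohFormal_pullback I f hf hG')
  · haveI i1 : IsIso (sectCounit A U G) := by
      haveI : ∀ n, IsIso ((sectCounit A U G).app n) := by
        intro n
        haveI := hq n
        haveI : ((Scheme.Modules.pushforward U.ι).obj (G.obj n)).IsQuasicoherent :=
          QC.qc_pushforward U.ι (G.obj n)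
        exact Scheme.Modules.isIso_fromTildeΓ_of_isQuasicoherent (R := CommRingCat.of A)
          ((Scheme.Modules.pushforward U.ι).obj (G.obj n))
      exact NatIso.isIso_of_isIso_app _
    haveI i2 : IsIso (sectCounit A' (f ⁻¹ᵁ U) (G ⋙ Scheme.Modules.pullback (f ∣_ U))) := by
      haveI : ∀ n, IsIso ((sectCounit A' (f ⁻¹ᵁ U)
          (G ⋙ Scheme.Modules.pullback (f ∣_ U))).app n) := by
        intro n
        haveI := hq' n
        haveI : ((Scheme.Modules.pushforward (f ⁻¹ᵁ U).ι).obj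
            ((G ⋙ Scheme.Modules.pullback (f ∣_ U)).obj n)).IsQuasicoherent :=
          QC.qc_pushforward (f ⁻¹ᵁ U).ι _
        exact Scheme.Modules.isIso_fromTildeΓ_of_isQuasicoherent (R := CommRingCat.of A')
          ((Scheme.Modules.pushforward (f ⁻¹ᵁ U).ι).obj
            ((G ⋙ Scheme.Modules.pullback (f ∣_ U)).obj n))
      exact NatIso.isIso_of_isIso_app _
    let e3 : (G ⋙ Scheme.Modules.pushforward U.ι) ⋙ Scheme.Modules.pullback f ≅
        (G ⋙ Scheme.Modules.pullback (f ∣_ U)) ⋙ Scheme.Modules.pushforward (f ⁻¹ᵁ U).ι :=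
      NatIso.ofComponents
        (fun n => by
          haveI := hq n
          haveI : IsIso (CohBC.bc0 U.ι f (f ⁻¹ᵁ U).ι (f ∣_ U) hsq.w (G.obj n)) :=
            FBC.isIso_bc0_of_flat U.ι f (f ⁻¹ᵁ U).ι (f ∣_ U) hsq (G.obj n)
          exact asIso (CohBC.bc0 U.ι f (f ⁻¹ᵁ U).ι (f ∣_ U) hsq.w (G.obj n)))
        (fun {n k} φ => Groth.Agent.H2.GX.bc0_naturality U.ι f (f ⁻¹ᵁ U).ι (f ∣_ U) hsq.w
          (G.map φ))
    have e : Algz.sectSys A U G ⋙ Scheme.Modules.pullback f ≅
        Algz.sectSys A' (f ⁻¹ᵁ U) (G ⋙ Scheme.Modules.pullback (f ∣_ U)) :=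
      Functor.isoWhiskerRight (asIso (sectCounit A U G)) (Scheme.Modules.pullback f) ≪≫ e3 ≪≫
        (asIso (sectCounit A' (f ⁻¹ᵁ U) (G ⋙ Scheme.Modules.pullback (f ∣_ U)))).symm
    exact isProIsomorphic_of_iso_comp (Scheme.Modules.pullback f) e hpro

end

end Groth.Agent.H2.GZ
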