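import Mathlib

/-!
# Characters of the additive group in characteristic `p`: digit products (helper2)
-/

namespace Groth.Agent.H2.GaChar

variable {A : Type*} [CommRing A]

/-- The "digit product": `dp p a m N = ∏_{k<m} a_k^{d_k} / d_k!` where `d_k` are the base-`p`
digits of `N`, and `0` if `N ≥ p^m`. -/
noncomputable def dp (p : ℕ) : ℕ → (ℕ → A) → ℕ → A
  | 0, _, N => if N = 0 then 1 else 0
  | m + 1, a, N =>
    Ring.inverse ((N % p).factorial : A) * a 0 ^ (N % p) * dp p m (fun k => a (k + 1)) (N / p)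

/-- Character sequences up to level `n`. -/
def IsCharSeq (p : ℕ) (c : ℕ → A) (n : ℕ) : Prop :=
  c 0 = 1 ∧ ∀ i j, i < p ^ n → j < p ^ n → ((i + j).choose i : A) * c (i + j) = c i * c j

variable (p : ℕ) [hp : Fact p.Prime] [CharP A p]

include hp in
theorem isUnit_natCast_of_not_dvd {m : ℕ} (hm : ¬ p ∣ m) : IsUnit (m : A) := by
  have h1 : IsUnit ((m : ZMod p)) := by
    rw [isUnit_iff_ne_zero]
    intro h
    exact hm ((ZMod.natCast_eq_zero_iff m p).mp h)
  have h2 := h1.map (ZMod.castHom (dvd_refl p) A)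
  simpa using h2

include hp in
theorem isUnit_factorial {d : ℕ} (hd : d < p) : IsUnit ((d.factorial : ℕ) : A) := by
  apply isUnit_natCast_of_not_dvd p
  rw [hp.out.dvd_factorial]
  omega

include hp in
theorem lucas (n k : ℕ) :
    ((n.choose k : ℕ) : A) = ((n % p).choose (k % p) : A) * ((n / p).choose (k / p) : A) := by
  have h := Choose.choose_modEq_choose_mod_mul_choose_div_nat (p := p) (n := n) (k := k)
  have := (CharP.natCast_eq_natCast A p).mpr h
  rw [this]
  push_cast
  rfl

theorem dp_zero_zero (a : ℕ → A) : dp p 0 a 0 = 1 := by simp [dp]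

theorem dp_zero_arg : ∀ (m : ℕ) (a : ℕ → A), dp p m a 0 = 1
  | 0, a => by simp [dp]
  | m + 1, a => by
    rw [dp, Nat.zero_mod, Nat.zero_div, dp_zero_arg m]
    simp

include hp in
theorem dp_eq_zero_of_le : ∀ (m : ℕ) (a : ℕ → A) (N : ℕ), p ^ m ≤ N → dp p m a N = 0
  | 0, a, N, h => by
    have : N ≠ 0 := by
      rw [pow_zero] at h; omega
    simp [dp, this]
  | m + 1, a, N, h => by
    rw [dp, dp_eq_zero_of_le m _ (N / p), mul_zero]
    rw [Nat.le_div_iff_mul_le hp.out.pos, ← pow_succ]
    exact h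

end Groth.Agent.H2.GaChar
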