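import Groth.Agent.Lib.Helper2.GaChar1

namespace Groth.Agent.H2.GaChar

variable {A : Type*} [CommRing A] (p : ℕ) [hp : Fact p.Prime] [CharP A p]

include hp in
theorem p_le_pow_succ (n : ℕ) : p ≤ p ^ (n + 1) := by
  calc p = p ^ 1 := (pow_one p).symm
    _ ≤ p ^ (n + 1) := Nat.pow_le_pow_right hp.out.pos (by omega)

/-- T1: the sequence `m ↦ c (p * m)` is again a character sequence. -/
theorem IsCharSeq.shift {c : ℕ → A} {n : ℕ} (h : IsCharSeq p c (n + 1)) :
    IsCharSeq p (fun m => c (p * m)) n := by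
  refine ⟨by simpa using h.1, ?_⟩
  intro i j hi hj
  have hpi : p * i < p ^ (n + 1) := by
    rw [pow_succ']; exact Nat.mul_lt_mul_of_pos_left hi hp.out.pos
  have hpj : p * j < p ^ (n + 1) := by
    rw [pow_succ']; exact Nat.mul_lt_mul_of_pos_left hj hp.out.pos
  have h1 := h.2 (p * i) (p * j) hpi hpj
  rw [lucas p (A := A)] at h1
  have e1 : (p * i + p * j) % p = 0 := by
    rw [← Nat.mul_add]; exact Nat.mul_mod_right p _
  have e2 : (p * i) % p = 0 := Nat.mul_mod_right p _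
  have e3 : (p * i + p * j) / p = i + j := by
    rw [← Nat.mul_add]; exact Nat.mul_div_cancel_left _ hp.out.pos
  have e4 : (p * i) / p = i := Nat.mul_div_cancel_left _ hp.out.pos
  rw [e1, e2, e3, e4, Nat.choose_self, Nat.cast_one, one_mul] at h1
  simp only
  rw [Nat.mul_add]
  exact h1

/-- T2 -/
theorem IsCharSeq.pow_one {c : ℕ → A} {n : ℕ} (h : IsCharSeq p c (n + 1)) :
    ∀ d, d < p → c 1 ^ d = (d.factorial : A) * c d := by
  intro d
  induction d with
  | zero => intro _; simp [h.1]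
  | succ d ih =>
    intro hd
    have hp1 : 1 < p ^ (n + 1) := lt_of_lt_of_le hp.out.one_lt (p_le_pow_succ p n)
    have hdp : d < p ^ (n + 1) := lt_of_lt_of_le (by omega) (p_le_pow_succ p n)
    have h1 := h.2 d 1 hdp hp1
    rw [Nat.choose_symm_add, Nat.choose_one_right] at h1
    rw [pow_succ, ih (by omega), mul_assoc, ← h1, Nat.factorial_succ]
    push_cast
    ring

/-- T3 -/
theorem IsCharSeq.pow_p_eq_zero {c : ℕ → A} {n : ℕ} (h : IsCharSeq p c (n + 1)) :
    c 1 ^ p = 0 := by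
  have hp1 : 1 < p ^ (n + 1) := lt_of_lt_of_le hp.out.one_lt (p_le_pow_succ p n)
  have hpp : p - 1 < p ^ (n + 1) :=
    lt_of_lt_of_le (Nat.sub_lt hp.out.pos one_pos) (p_le_pow_succ p n)
  have h1 := h.2 (p - 1) 1 hpp hp1
  have e : p - 1 + 1 = p := Nat.sub_add_cancel hp.out.one_le
  rw [Nat.choose_symm_add, Nat.choose_one_right, e, CharP.cast_eq_zero, zero_mul] at h1
  have h2 := h.pow_one p (p - 1) (Nat.sub_lt hp.out.pos one_pos)
  calc c 1 ^ p = c 1 ^ (p - 1) * c 1 := by rw [← pow_succ, e]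
    _ = ((p - 1).factorial : A) * (c (p - 1) * c 1) := by rw [h2]; ring
    _ = 0 := by rw [← h1, mul_zero]

/-- T4 -/
theorem IsCharSeq.split {c : ℕ → A} {n : ℕ} (h : IsCharSeq p c (n + 1)) {N : ℕ}
    (hN : N < p ^ (n + 1)) : c N = c (N % p) * c (p * (N / p)) := by
  have hi : N % p < p ^ (n + 1) :=
    lt_of_lt_of_le (Nat.mod_lt _ hp.out.pos) (p_le_pow_succ p n)
  have hj : p * (N / p) < p ^ (n + 1) := lt_of_le_of_lt (Nat.mul_div_le N p) hN
  have h1 := h.2 (N % p) (p * (N / p)) hi hj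
  rw [Nat.mod_add_div, lucas p (A := A), Nat.mod_mod, Nat.choose_self,
    Nat.div_eq_of_lt (Nat.mod_lt N hp.out.pos), Nat.choose_zero_right] at h1
  simpa using h1

/-- T5 -/
theorem IsCharSeq.eq_dp : ∀ (n : ℕ) {c : ℕ → A}, IsCharSeq p c n → ∀ N, N < p ^ n →
    c N = dp p n (fun k => c (p ^ k)) N
  | 0, c, h, N, hN => by
    have : N = 0 := by rw [pow_zero] at hN; omega
    subst this
    rw [h.1, dp_zero_arg]
  | n + 1, c, h, N, hN => by
    rw [h.split p hN, dp]
    have hd : N % p < p := Nat.mod_lt _ hp.out.pos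
    have h1 : c (N % p) = Ring.inverse ((N % p).factorial : A) * c 1 ^ (N % p) := by
      rw [h.pow_one p _ hd, ← mul_assoc, Ring.inverse_mul_cancel _ (isUnit_factorial p hd), one_mul]
    have hN' : N / p < p ^ n := by
      rw [Nat.div_lt_iff_lt_mul hp.out.pos, ← pow_succ]; exact hN
    have h2 := IsCharSeq.eq_dp n (h.shift p) (N / p) hN'
    rw [h1, h2, pow_zero]
    congr 2
    funext k
    rw [pow_succ']

/-- T6 -/
theorem IsCharSeq.pow_pow_p_eq_zero : ∀ (k n : ℕ) {c : ℕ → A}, IsCharSeq p c (n + 1) → k ≤ n →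
    c (p ^ k) ^ p = 0
  | 0, n, c, h, _ => by rw [pow_zero]; exact h.pow_p_eq_zero p
  | k + 1, 0, c, h, hk => by omega
  | k + 1, n + 1, c, h, hk => by
    have := IsCharSeq.pow_pow_p_eq_zero k n (h.shift p) (by omega)
    rwa [← pow_succ'] at this

end Groth.Agent.H2.GaChar
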