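import Groth.Agent.Lib.Helper2.GaChar2

namespace Groth.Agent.H2.GaChar

variable {A : Type*} [CommRing A] (p : ℕ) [hp : Fact p.Prime] [CharP A p]

include hp in
theorem choose_mul_inverse_factorial {s t : ℕ} (h : s + t < p) :
    ((s + t).choose s : A) * Ring.inverse (((s + t).factorial : ℕ) : A) =
      Ring.inverse ((s.factorial : ℕ) : A) * Ring.inverse ((t.factorial : ℕ) : A) := by
  have hs : IsUnit ((s.factorial : ℕ) : A) := isUnit_factorial p (by omega)
  have ht : IsUnit ((t.factorial : ℕ) : A) := isUnit_factorial p (by omega)
  have hst : IsUnit (((s + t).factorial : ℕ) : A) := isUnit_factorial p h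
  have e : (((s + t).factorial : ℕ) : A) =
      ((s + t).choose s : A) * (s.factorial : A) * (t.factorial : A) := by
    rw [← Nat.add_choose_mul_factorial_mul_factorial s t, ← Nat.choose_symm_add]
    push_cast
    ring
  have h1 : ((s + t).choose s : A) * Ring.inverse (((s + t).factorial : ℕ) : A) *
      ((s.factorial : A) * (t.factorial : A)) = 1 := by
    have : ((s + t).choose s : A) * Ring.inverse (((s + t).factorial : ℕ) : A) *
        ((s.factorial : A) * (t.factorial : A)) =
        (((s + t).factorial : ℕ) : A) * Ring.inverse (((s + t).factorial : ℕ) : A) := by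
      rw [e]; ring
    rw [this, Ring.mul_inverse_cancel _ hst]
  have h2 : Ring.inverse ((s.factorial : ℕ) : A) * Ring.inverse ((t.factorial : ℕ) : A) *
      ((s.factorial : A) * (t.factorial : A)) = 1 := by
    have : Ring.inverse ((s.factorial : ℕ) : A) * Ring.inverse ((t.factorial : ℕ) : A) *
        ((s.factorial : A) * (t.factorial : A)) =
        (Ring.inverse ((s.factorial : ℕ) : A) * (s.factorial : A)) *
          (Ring.inverse ((t.factorial : ℕ) : A) * (t.factorial : A)) := by ring
    rw [this, Ring.inverse_mul_cancel _ hs, Ring.inverse_mul_cancel _ ht, one_mul]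
  exact (hs.mul ht).mul_left_injective (h1.trans h2.symm)

/-- T7: digit products are character sequences. -/
theorem dp_char : ∀ (m : ℕ) (a : ℕ → A), (∀ k, a k ^ p = 0) → ∀ i j,
    ((i + j).choose i : A) * dp p m a (i + j) = dp p m a i * dp p m a j
  | 0, a, _, i, j => by
    by_cases hi : i = 0
    · subst hi
      by_cases hj : j = 0
      · subst hj; simp [dp]
      · simp [dp, hj]
    · have : i + j ≠ 0 := by omega
      simp [dp, hi]
  | m + 1, a, ha, i, j => by
    have ih := dp_char m (fun k => a (k + 1)) (fun k => ha (k + 1)) (i / p) (j / p)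
    rw [dp, dp, dp, lucas p (A := A)]
    by_cases hc : i % p + j % p < p
    · have e1 : (i + j) % p = i % p + j % p := by
        rw [Nat.add_mod, Nat.mod_eq_of_lt hc]
      have e2 : (i + j) / p = i / p + j / p := by
        rw [Nat.add_div hp.out.pos, if_neg (by omega), add_zero]
      rw [e1, e2]
      have h3 := choose_mul_inverse_factorial p (A := A) hc
      calc ((i % p + j % p).choose (i % p) : A) * ((i / p + j / p).choose (i / p) : A) *
            (Ring.inverse (((i % p + j % p).factorial : ℕ) : A) * a 0 ^ (i % p + j % p) *
              dp p m (fun k => a (k + 1)) (i / p + j / p))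
          = (((i % p + j % p).choose (i % p) : A) *
              Ring.inverse (((i % p + j % p).factorial : ℕ) : A)) * a 0 ^ (i % p + j % p) *
              (((i / p + j / p).choose (i / p) : A) *
                dp p m (fun k => a (k + 1)) (i / p + j / p)) := by ring
        _ = _ := by rw [h3, ih, pow_add]; ring
    · have e1 : (i + j) % p < i % p := by
        have h1 : (i + j) % p = (i % p + j % p) % p := Nat.add_mod i j p
        have h2 : (i % p + j % p) % p = i % p + j % p - p := by
          rw [Nat.mod_eq_sub_mod (by omega)]
          apply Nat.mod_eq_of_lt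
          have := Nat.mod_lt i hp.out.pos
          have := Nat.mod_lt j hp.out.pos
          omega
        have := Nat.mod_lt j hp.out.pos
        omega
      rw [Nat.choose_eq_zero_of_lt e1, Nat.cast_zero, zero_mul, zero_mul]
      have h0 : a 0 ^ (i % p) * a 0 ^ (j % p) = 0 := by
        rw [← pow_add]
        obtain ⟨r, hr⟩ : ∃ r, i % p + j % p = p + r := ⟨i % p + j % p - p, by omega⟩
        rw [hr, pow_add, ha 0, zero_mul]
      calc (0 : A) = (a 0 ^ (i % p) * a 0 ^ (j % p)) *
            (Ring.inverse ((i % p).factorial : A) * dp p m (fun k => a (k + 1)) (i / p) *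
              (Ring.inverse ((j % p).factorial : A) * dp p m (fun k => a (k + 1)) (j / p))) := by
            rw [h0, zero_mul]
        _ = _ := by ring

end Groth.Agent.H2.GaChar
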