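import Groth.Agent.Lib.Helper2.GaChar3

namespace Groth.Agent.H2.GaChar

variable {A : Type*} [CommRing A] (p : ℕ) [hp : Fact p.Prime] [CharP A p]

/-- The truncated exponential `exp_p(b X^(p^k))`. -/
noncomputable def E (p : ℕ) (b : A) (k : ℕ) : Polynomial A :=
  ∑ j ∈ Finset.range p,
    Polynomial.C (Ring.inverse (j.factorial : A) * b ^ j) * Polynomial.X ^ (j * p ^ k)

/-- The product of the first `m` truncated exponentials. -/
noncomputable def P (p : ℕ) (a : ℕ → A) (m : ℕ) : Polynomial A :=
  ∏ k ∈ Finset.range m, E p (a k) k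

omit hp [CharP A p] in
theorem E_succ (b : A) (k : ℕ) : E p b (k + 1) = Polynomial.expand A p (E p b k) := by
  unfold E
  rw [map_sum]
  refine Finset.sum_congr rfl (fun j _ => ?_)
  simp only [map_mul, Polynomial.expand_C, map_pow, Polynomial.expand_X]
  rw [← pow_mul, pow_succ]
  congr 2
  ring

omit hp [CharP A p] in
theorem P_succ (a : ℕ → A) (m : ℕ) :
    P p a (m + 1) = E p (a 0) 0 * Polynomial.expand A p (P p (fun k => a (k + 1)) m) := by
  unfold P
  rw [Finset.prod_range_succ', mul_comm, map_prod]
  congr 1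
  refine Finset.prod_congr rfl (fun k _ => ?_)
  rw [E_succ]

include hp in
omit [CharP A p] in
theorem coeff_E_zero_mul (b : A) (Q : Polynomial A) (N : ℕ) :
    (E p b 0 * Polynomial.expand A p Q).coeff N =
      Ring.inverse ((N % p).factorial : A) * b ^ (N % p) * Q.coeff (N / p) := by
  unfold E
  rw [Finset.sum_mul, Polynomial.finsetSum_coeff]
  have hterm : ∀ j ∈ Finset.range p,
      (Polynomial.C (Ring.inverse (j.factorial : A) * b ^ j) * Polynomial.X ^ (j * p ^ 0) *
        Polynomial.expand A p Q).coeff N =
      if j = N % p then Ring.inverse (j.factorial : A) * b ^ j * Q.coeff (N / p) else 0 := by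
    intro j hj
    rw [Finset.mem_range] at hj
    rw [pow_zero, mul_one, mul_assoc, Polynomial.coeff_C_mul, Polynomial.coeff_X_pow_mul',
      Polynomial.coeff_expand hp.out.pos]
    by_cases hjN : j = N % p
    · subst hjN
      rw [if_pos (Nat.mod_le N p), if_pos (Nat.dvd_sub_mod N), if_pos rfl]
      congr 2
      have : N - N % p = p * (N / p) := by
        have := Nat.mod_add_div N p
        omega
      rw [this, Nat.mul_div_cancel_left _ hp.out.pos]
    · rw [if_neg hjN]
      by_cases hle : j ≤ N
      · rw [if_pos hle]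
        by_cases hdvd : p ∣ N - j
        · exfalso
          apply hjN
          have h1 : N % p = j % p := by
            have : N = (N - j) + j := by omega
            rw [this, Nat.add_mod, Nat.dvd_iff_mod_eq_zero.mp hdvd, zero_add, Nat.mod_mod]
          rw [h1, Nat.mod_eq_of_lt hj]
        · rw [if_neg hdvd, mul_zero]
      · rw [if_neg hle, mul_zero]
  rw [Finset.sum_congr rfl hterm, Finset.sum_ite_eq' (Finset.range p) (N % p)]
  rw [if_pos (Finset.mem_range.mpr (Nat.mod_lt N hp.out.pos))]

include hp in
omit [CharP A p] in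
theorem coeff_P : ∀ (m : ℕ) (a : ℕ → A) (N : ℕ), (P p a m).coeff N = dp p m a N
  | 0, a, N => by
    simp [P, dp, Polynomial.coeff_one]
  | m + 1, a, N => by
    rw [P_succ, coeff_E_zero_mul, coeff_P m, dp]

end Groth.Agent.H2.GaChar
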