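import Groth.Agent.Lib.Helper2.GaChar4

/-! Bridging lemmas: coefficients of `f(X₀+X₁)` and `f(X₀) f(X₁)`. -/

namespace Groth.Agent.H2.GaChar

variable {A : Type*} [CommRing A]

theorem coe_aeval (f : Polynomial A) (a : MvPolynomial (Fin 2) A)
    (ha : PowerSeries.HasSubst (a : MvPowerSeries (Fin 2) A)) :
    ((Polynomial.aeval a f : MvPolynomial (Fin 2) A) : MvPowerSeries (Fin 2) A) =
      PowerSeries.subst (a : MvPowerSeries (Fin 2) A) (f : PowerSeries A) := by
  rw [PowerSeries.subst_coe ha]
  exact (Polynomial.aeval_algHom_apply (MvPolynomial.coeToMvPowerSeries.algHom (R := A) A) a f).symm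

theorem hasSubst_X (i : Fin 2) :
    PowerSeries.HasSubst ((MvPolynomial.X i : MvPolynomial (Fin 2) A) : MvPowerSeries (Fin 2) A) := by
  rw [MvPolynomial.coe_X]
  exact PowerSeries.HasSubst.X i

theorem hasSubst_add :
    PowerSeries.HasSubst
      (((MvPolynomial.X 0 + MvPolynomial.X 1 : MvPolynomial (Fin 2) A)) :
        MvPowerSeries (Fin 2) A) := by
  rw [MvPolynomial.coe_add, MvPolynomial.coe_X, MvPolynomial.coe_X]
  exact (PowerSeries.HasSubst.X 0).add (PowerSeries.HasSubst.X 1)

theorem poly_coeff_add (f : Polynomial A) (e : Fin 2 →₀ ℕ) :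
    MvPolynomial.coeff e
        (Polynomial.aeval (MvPolynomial.X 0 + MvPolynomial.X 1 : MvPolynomial (Fin 2) A) f) =
      ((e 0 + e 1).choose (e 0) : A) * f.coeff (e 0 + e 1) := by
  rw [← MvPolynomial.coeff_coe, coe_aeval f _ hasSubst_add, MvPolynomial.coe_add,
    MvPolynomial.coe_X, MvPolynomial.coe_X, PowerSeries.coeff_subst_X_zero_add_X_one,
    Polynomial.coeff_coe]

theorem poly_coeff_mul (f : Polynomial A) (e : Fin 2 →₀ ℕ) :
    MvPolynomial.coeff e
        (Polynomial.aeval (MvPolynomial.X 0 : MvPolynomial (Fin 2) A) f *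
          Polynomial.aeval (MvPolynomial.X 1 : MvPolynomial (Fin 2) A) f) =
      f.coeff (e 0) * f.coeff (e 1) := by
  rw [← MvPolynomial.coeff_coe, MvPolynomial.coe_mul, coe_aeval f _ (hasSubst_X 0),
    coe_aeval f _ (hasSubst_X 1), MvPolynomial.coe_X, MvPolynomial.coe_X,
    PowerSeries.coeff_subst_X_zero_subst_mul_X_one, Polynomial.coeff_coe, Polynomial.coeff_coe]

/-- Power series characters in terms of coefficients. -/
theorem ps_char_iff (χ : PowerSeries A) :
    (PowerSeries.subst (MvPowerSeries.X 0 + MvPowerSeries.X 1 : MvPowerSeries (Fin 2) A) χ =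
        PowerSeries.subst (MvPowerSeries.X 0 : MvPowerSeries (Fin 2) A) χ *
          PowerSeries.subst (MvPowerSeries.X 1 : MvPowerSeries (Fin 2) A) χ) ↔
      ∀ i j : ℕ, ((i + j).choose i : A) * PowerSeries.coeff (i + j) χ =
        PowerSeries.coeff i χ * PowerSeries.coeff j χ := by
  constructor
  · intro h i j
    have h1 := congrArg (MvPowerSeries.coeff (Finsupp.single (0 : Fin 2) i + Finsupp.single 1 j)) h
    rw [PowerSeries.coeff_subst_X_zero_add_X_one,
      PowerSeries.coeff_subst_X_zero_subst_mul_X_one] at h1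
    simpa using h1
  · intro h
    ext e
    rw [PowerSeries.coeff_subst_X_zero_add_X_one,
      PowerSeries.coeff_subst_X_zero_subst_mul_X_one]
    exact h (e 0) (e 1)

/-- Polynomial characters in terms of coefficients. -/
theorem poly_char_iff (f : Polynomial A) :
    (Polynomial.aeval (MvPolynomial.X 0 + MvPolynomial.X 1 : MvPolynomial (Fin 2) A) f =
        Polynomial.aeval (MvPolynomial.X 0 : MvPolynomial (Fin 2) A) f *
          Polynomial.aeval (MvPolynomial.X 1 : MvPolynomial (Fin 2) A) f) ↔
      ∀ i j : ℕ, ((i + j).choose i : A) * f.coeff (i + j) = f.coeff i * f.coeff j := by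
  constructor
  · intro h i j
    have h1 := congrArg (MvPolynomial.coeff (Finsupp.single (0 : Fin 2) i + Finsupp.single 1 j)) h
    rw [poly_coeff_add, poly_coeff_mul] at h1
    simpa using h1
  · intro h
    ext e
    rw [poly_coeff_add, poly_coeff_mul]
    exact h (e 0) (e 1)

end Groth.Agent.H2.GaChar
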