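import Groth.Agent.Lib.Helper2.GaChar5

/-! Main theorems on characters of the additive group in characteristic `p`. -/

namespace Groth.Agent.H2.GaChar

variable {A : Type*} [CommRing A] (p : ℕ) [hp : Fact p.Prime] [CharP A p]

theorem P_def (a : ℕ → A) (m : ℕ) :
    P p a m = ∏ n ∈ Finset.range m, ∑ j ∈ Finset.range p,
      Polynomial.C (Ring.inverse (j.factorial : A) * a n ^ j) * Polynomial.X ^ (j * p ^ n) := rfl

include hp in
/-- A polynomial whose coefficient sequence is a character sequence at level `n`, of degree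
`< p ^ n`, is the product of truncated exponentials. -/
theorem eq_P_of_isCharSeq {f : Polynomial A} {n : ℕ} (h : IsCharSeq p f.coeff n)
    (hdeg : ∀ N, p ^ n ≤ N → f.coeff N = 0) :
    f = P p (fun k => f.coeff (p ^ k)) n := by
  ext N
  rw [coeff_P]
  by_cases hN : N < p ^ n
  · exact h.eq_dp p n N hN
  · rw [hdeg N (by omega), dp_eq_zero_of_le p n _ N (by omega)]

include hp in
theorem isCharSeq_of_forall {c : ℕ → A} (h0 : c 0 = 1)
    (h : ∀ i j : ℕ, ((i + j).choose i : A) * c (i + j) = c i * c j) (n : ℕ) : IsCharSeq p c n :=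
  ⟨h0, fun i j _ _ => h i j⟩

include hp in
theorem poly_main (f : Polynomial A) :
    (f.eval 0 = 1 ∧
      Polynomial.aeval (MvPolynomial.X 0 + MvPolynomial.X 1 : MvPolynomial (Fin 2) A) f =
        Polynomial.aeval (MvPolynomial.X 0 : MvPolynomial (Fin 2) A) f *
          Polynomial.aeval (MvPolynomial.X 1 : MvPolynomial (Fin 2) A) f) ↔
      ∃ (N : ℕ) (a : ℕ → A), (∀ n, a n ^ p = 0) ∧ f = P p a N := by
  rw [poly_char_iff, ← Polynomial.coeff_zero_eq_eval_zero]
  constructor
  · rintro ⟨h0, h⟩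
    have hc : ∀ n, IsCharSeq p f.coeff n := isCharSeq_of_forall p h0 h
    refine ⟨f.natDegree + 1, fun k => f.coeff (p ^ k), ?_, ?_⟩
    · intro k
      exact IsCharSeq.pow_pow_p_eq_zero p k k (hc (k + 1)) le_rfl
    · apply eq_P_of_isCharSeq p (hc _)
      intro N hN
      apply Polynomial.coeff_eq_zero_of_natDegree_lt
      have : f.natDegree + 1 < p ^ (f.natDegree + 1) := Nat.lt_pow_self hp.out.one_lt
      omega
  · rintro ⟨N, a, ha, rfl⟩
    refine ⟨?_, ?_⟩
    · rw [coeff_P, dp_zero_arg]
    · intro i j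
      rw [coeff_P, coeff_P, coeff_P]
      exact dp_char p N a ha i j

include hp in
theorem ps_main (χ : PowerSeries A) :
    (PowerSeries.constantCoeff χ = 1 ∧
      PowerSeries.subst (MvPowerSeries.X 0 + MvPowerSeries.X 1 : MvPowerSeries (Fin 2) A) χ =
        PowerSeries.subst (MvPowerSeries.X 0 : MvPowerSeries (Fin 2) A) χ *
          PowerSeries.subst (MvPowerSeries.X 1 : MvPowerSeries (Fin 2) A) χ) ↔
      ∃ a : ℕ → A, (∀ n, a n ^ p = 0) ∧ ∀ m : ℕ, PowerSeries.trunc (p ^ m) χ = P p a m := by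
  rw [ps_char_iff, ← PowerSeries.coeff_zero_eq_constantCoeff_apply]
  constructor
  · rintro ⟨h0, h⟩
    have hc : ∀ n, IsCharSeq p (fun N => PowerSeries.coeff N χ) n :=
      isCharSeq_of_forall p (c := fun N => PowerSeries.coeff N χ) h0 h
    refine ⟨fun k => PowerSeries.coeff (p ^ k) χ, ?_, ?_⟩
    · intro k
      exact IsCharSeq.pow_pow_p_eq_zero p k k (hc (k + 1)) le_rfl
    · intro m
      ext N
      rw [coeff_P, PowerSeries.coeff_trunc]
      by_cases hN : N < p ^ m
      · rw [if_pos hN]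
        exact (hc m).eq_dp p m N hN
      · rw [if_neg hN, dp_eq_zero_of_le p m _ N (by omega)]
  · rintro ⟨a, ha, h⟩
    have hcoef : ∀ m N, N < p ^ m → PowerSeries.coeff N χ = dp p m a N := by
      intro m N hN
      have := congrArg (fun q => Polynomial.coeff q N) (h m)
      simp only [PowerSeries.coeff_trunc, if_pos hN, coeff_P] at this
      exact this
    refine ⟨?_, ?_⟩
    · rw [hcoef 0 0 (by simp), dp_zero_arg]
    · intro i j
      have hlt : i + j < p ^ (i + j) := Nat.lt_pow_self hp.out.one_lt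
      rw [hcoef (i + j) (i + j) hlt, hcoef (i + j) i (by omega), hcoef (i + j) j (by omega)]
      exact dp_char p _ a ha i j

end Groth.Agent.H2.GaChar
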