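import Groth.Agent.Lib.Helper2.GaChar6

/-! Characters of `α_{p^n}`. -/

namespace Groth.Agent.H2.GaChar

variable {A : Type*} [CommRing A] (p : ℕ) [hp : Fact p.Prime] [CharP A p]

omit [CharP A p] hp in
theorem coeff_eq_zero_of_mem_span (q : ℕ) {x : MvPolynomial (Fin 2) A}
    (hx : x ∈ Ideal.span {(MvPolynomial.X 0 ^ q : MvPolynomial (Fin 2) A), MvPolynomial.X 1 ^ q})
    {e : Fin 2 →₀ ℕ} (h0 : e 0 < q) (h1 : e 1 < q) : MvPolynomial.coeff e x = 0 := by
  have hset : ({(MvPolynomial.X 0 ^ q : MvPolynomial (Fin 2) A), MvPolynomial.X 1 ^ q} :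
      Set (MvPolynomial (Fin 2) A)) =
      (fun s => MvPolynomial.monomial s (1 : A)) ''
        ({Finsupp.single 0 q, Finsupp.single 1 q} : Set (Fin 2 →₀ ℕ)) := by
    rw [Set.image_pair, MvPolynomial.X_pow_eq_monomial, MvPolynomial.X_pow_eq_monomial]
  rw [hset, MvPolynomial.mem_ideal_span_monomial_image] at hx
  by_contra hne
  obtain ⟨s, hs, hle⟩ := hx e (MvPolynomial.mem_support_iff.mpr hne)
  rcases hs with rfl | rfl
  · have := hle 0
    simp at this
    omega
  · have := hle 1
    simp at this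
    omega

include hp in
theorem alpha_main (n : ℕ) (f : Polynomial A) (hdeg : f.natDegree < p ^ n) (h0 : f.eval 0 = 1)
    (hmul : Ideal.Quotient.mk
        (Ideal.span {(MvPolynomial.X 0 ^ p ^ n : MvPolynomial (Fin 2) A), MvPolynomial.X 1 ^ p ^ n})
        (Polynomial.aeval (MvPolynomial.X 0 + MvPolynomial.X 1 : MvPolynomial (Fin 2) A) f) =
      Ideal.Quotient.mk
        (Ideal.span {(MvPolynomial.X 0 ^ p ^ n : MvPolynomial (Fin 2) A), MvPolynomial.X 1 ^ p ^ n})
        (Polynomial.aeval (MvPolynomial.X 0 : MvPolynomial (Fin 2) A) f *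
          Polynomial.aeval (MvPolynomial.X 1 : MvPolynomial (Fin 2) A) f)) :
    ∃ a : ℕ → A, (∀ i, a i ^ p = 0) ∧ f = P p a n := by
  rw [Ideal.Quotient.eq] at hmul
  have hc : IsCharSeq p f.coeff n := by
    refine ⟨by rw [Polynomial.coeff_zero_eq_eval_zero, h0], ?_⟩
    intro i j hi hj
    have h1 := coeff_eq_zero_of_mem_span (p ^ n) hmul
      (e := Finsupp.single (0 : Fin 2) i + Finsupp.single 1 j) (by simpa using hi)
      (by simpa using hj)
    rw [MvPolynomial.coeff_sub, poly_coeff_add, poly_coeff_mul, sub_eq_zero] at h1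
    simpa using h1
  refine ⟨fun k => if k < n then f.coeff (p ^ k) else 0, ?_, ?_⟩
  · intro k
    by_cases hk : k < n
    · simp only [if_pos hk]
      obtain ⟨n', rfl⟩ : ∃ n', n = n' + 1 := ⟨n - 1, by omega⟩
      exact IsCharSeq.pow_pow_p_eq_zero p k n' hc (by omega)
    · simp only [if_neg hk]
      exact zero_pow hp.out.ne_zero
  · have h1 : f = P p (fun k => f.coeff (p ^ k)) n := by
      apply eq_P_of_isCharSeq p hc
      intro N hN
      exact Polynomial.coeff_eq_zero_of_natDegree_lt (by omega)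
    refine h1.trans ?_
    unfold P
    refine Finset.prod_congr rfl (fun k hk => ?_)
    rw [Finset.mem_range] at hk
    simp only [if_pos hk]

end Groth.Agent.H2.GaChar
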