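import Groth.Agent.Lib.Helper2.GaChar5

/-! Characters of the additive group over `ℚ`-algebras. -/

namespace Groth.Agent.H2.GaChar

variable {A : Type*} [CommRing A] [Algebra ℚ A]

/-- Exponential sequences. -/
theorem expSeq_iff (c : ℕ → A) :
    (c 0 = 1 ∧ ∀ i j : ℕ, ((i + j).choose i : A) * c (i + j) = c i * c j) ↔
      ∃ a : A, ∀ n, c n = a ^ n * algebraMap ℚ A (1 / n.factorial) := by
  constructor
  · rintro ⟨h0, h⟩
    refine ⟨c 1, ?_⟩
    intro n
    induction n with
    | zero => simp [h0]
    | succ n ih =>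
      have h1 := h n 1
      rw [Nat.choose_symm_add, Nat.choose_one_right] at h1
      have h2 : c (n + 1) = algebraMap ℚ A (1 / (n + 1 : ℕ)) * (c n * c 1) := by
        rw [← h1, ← mul_assoc]
        have : algebraMap ℚ A (1 / (n + 1 : ℕ)) * ((n + 1 : ℕ) : A) = 1 := by
          rw [← map_natCast (algebraMap ℚ A), ← map_mul]
          rw [one_div, inv_mul_cancel₀ (by exact_mod_cast Nat.succ_ne_zero n), map_one]
        rw [this, one_mul]
      rw [h2, ih, pow_succ, Nat.factorial_succ]
      have : algebraMap ℚ A (1 / ((n + 1) * n.factorial : ℕ)) =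
          algebraMap ℚ A (1 / (n + 1 : ℕ)) * algebraMap ℚ A (1 / n.factorial) := by
        rw [← map_mul]
        congr 1
        push_cast
        field_simp
      rw [this]
      ring
  · rintro ⟨a, ha⟩
    refine ⟨by simp [ha], ?_⟩
    intro i j
    rw [ha, ha, ha, pow_add]
    have : ((i + j).choose i : A) * algebraMap ℚ A (1 / (i + j).factorial) =
        algebraMap ℚ A (1 / i.factorial) * algebraMap ℚ A (1 / j.factorial) := by
      rw [← map_natCast (algebraMap ℚ A), ← map_mul, ← map_mul]
      congr 1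
      have hf := Nat.add_choose_mul_factorial_mul_factorial i j
      rw [← Nat.choose_symm_add] at hf
      have hf' : (((i + j).choose i : ℕ) : ℚ) * (i.factorial : ℚ) * (j.factorial : ℚ) =
          ((i + j).factorial : ℚ) := by exact_mod_cast hf
      have hi : (i.factorial : ℚ) ≠ 0 := by exact_mod_cast Nat.factorial_ne_zero i
      have hj : (j.factorial : ℚ) ≠ 0 := by exact_mod_cast Nat.factorial_ne_zero j
      have hij : ((i + j).factorial : ℚ) ≠ 0 := by exact_mod_cast Nat.factorial_ne_zero (i + j)
      have hc : (((i + j).choose i : ℕ) : ℚ) ≠ 0 := by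
        intro h0
        rw [h0, zero_mul, zero_mul] at hf'
        exact hij hf'.symm
      rw [← hf']
      field_simp
    calc ((i + j).choose i : A) * (a ^ i * a ^ j * algebraMap ℚ A (1 / (i + j).factorial))
        = a ^ i * a ^ j *
          (((i + j).choose i : A) * algebraMap ℚ A (1 / (i + j).factorial)) := by ring
      _ = _ := by rw [this]; ring

theorem ps_mainQ (χ : PowerSeries A) :
    (PowerSeries.constantCoeff χ = 1 ∧
      PowerSeries.subst (MvPowerSeries.X 0 + MvPowerSeries.X 1 : MvPowerSeries (Fin 2) A) χ =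
        PowerSeries.subst (MvPowerSeries.X 0 : MvPowerSeries (Fin 2) A) χ *
          PowerSeries.subst (MvPowerSeries.X 1 : MvPowerSeries (Fin 2) A) χ) ↔
      ∃ a : A, χ = PowerSeries.rescale a (PowerSeries.exp A) := by
  rw [ps_char_iff, ← PowerSeries.coeff_zero_eq_constantCoeff_apply,
    expSeq_iff (fun n => PowerSeries.coeff n χ)]
  refine exists_congr (fun a => ?_)
  rw [PowerSeries.ext_iff]
  refine forall_congr' (fun n => ?_)
  rw [PowerSeries.coeff_rescale, PowerSeries.coeff_exp]

theorem poly_mainQ (f : Polynomial A) :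
    (f.eval 0 = 1 ∧
      Polynomial.aeval (MvPolynomial.X 0 + MvPolynomial.X 1 : MvPolynomial (Fin 2) A) f =
        Polynomial.aeval (MvPolynomial.X 0 : MvPolynomial (Fin 2) A) f *
          Polynomial.aeval (MvPolynomial.X 1 : MvPolynomial (Fin 2) A) f) ↔
      ∃ a : A, IsNilpotent a ∧
        (f : PowerSeries A) = PowerSeries.rescale a (PowerSeries.exp A) := by
  rw [poly_char_iff, ← Polynomial.coeff_zero_eq_eval_zero, expSeq_iff f.coeff]
  have key : ∀ a : A, (∀ n, f.coeff n = a ^ n * algebraMap ℚ A (1 / n.factorial)) ↔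
      (f : PowerSeries A) = PowerSeries.rescale a (PowerSeries.exp A) := by
    intro a
    rw [PowerSeries.ext_iff]
    refine forall_congr' (fun n => ?_)
    rw [PowerSeries.coeff_rescale, PowerSeries.coeff_exp, Polynomial.coeff_coe]
  constructor
  · rintro ⟨a, ha⟩
    refine ⟨a, ?_, (key a).mp ha⟩
    refine ⟨f.natDegree + 1, ?_⟩
    have h1 := ha (f.natDegree + 1)
    rw [Polynomial.coeff_eq_zero_of_natDegree_lt (Nat.lt_succ_self _)] at h1
    have hu : IsUnit (algebraMap ℚ A (1 / (f.natDegree + 1).factorial)) := by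
      apply IsUnit.map
      rw [isUnit_iff_ne_zero]
      have : ((f.natDegree + 1).factorial : ℚ) ≠ 0 := by
        exact_mod_cast Nat.factorial_ne_zero _
      positivity
    exact (hu.mul_left_eq_zero).mp h1.symm
  · rintro ⟨a, _, ha⟩
    exact ⟨a, (key a).mpr ha⟩

end Groth.Agent.H2.GaChar
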