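import Mathlib

/-!
# Helper2: faithful exact left adjoints into Grothendieck categories (Gabriel-type lemmas), part 1

General lemmas: the key AB5 lemma on pullbacks of a filtered colimit along a monomorphism,
transfer of AB5, subobjects under faithful exact functors.
-/

namespace Groth.Agent.H2.Gab

open CategoryTheory CategoryTheory.Limits

universe w v u₁ u₂

section Key

variable {A : Type u₁} [Category.{v} A] [Abelian A]
  {J : Type w} [SmallCategory J] [IsFiltered J] [HasColimitsOfShape J A]
  [HasExactColimitsOfShape J A]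

attribute [local instance] IsFiltered.isConnected

/-- In an abelian category with exact `J`-shaped colimits (`J` filtered), if `m : X ⟶ colim D` is a
monomorphism, then the pullbacks of `m` along the legs of the colimit cocone jointly cover `X`. -/
lemma eq_zero_of_pullback_fst_comp_eq_zero {D : J ⥤ A} {c : Cocone D} (hc : IsColimit c)
    {X : A} (m : X ⟶ c.pt) [Mono m] {Z : A} (t : X ⟶ Z)
    (ht : ∀ j, pullback.fst m (c.ι.app j) ≫ t = 0) : t = 0 := by
  let g : D ⟶ (Functor.const J).obj (cokernel m) :=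
    { app j := c.ι.app j ≫ cokernel.π m
      naturality j j' φ := by
        simp only [Functor.const_obj_obj, Functor.const_obj_map, Category.comp_id]
        rw [← Category.assoc, c.w φ] }
  let S : ShortComplex (J ⥤ A) := ShortComplex.mk (kernel.ι g) g (kernel.condition g)
  have hS : S.Exact := ShortComplex.exact_of_f_is_kernel _ (kernelIsKernel g)
  let c₁ := colimit.cocone S.X₁
  let f' : c₁.pt ⟶ c.pt := colimit.desc S.X₁ ⟨c.pt, kernel.ι g ≫ c.ι⟩
  have hf : ∀ j, c₁.ι.app j ≫ f' = S.f.app j ≫ c.ι.app j := by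
    intro j
    simp [f', c₁, S]
  have hg : ∀ j, c.ι.app j ≫ cokernel.π m =
      S.g.app j ≫ (constCocone J (cokernel m)).ι.app j := by
    intro j
    simp only [S, g, constCocone_pt, constCocone_ι, NatTrans.id_app, Functor.const_obj_obj]
    erw [Category.comp_id]
  have hex := colim.exact_mapShortComplex (S := S) hS (colimit.isColimit _) hc
    (isColimitConstCocone J (cokernel m)) f' (cokernel.π m) hf hg
  have hepi := hex.epi_kernelLift
  have hz : f' ≫ cokernel.π m = 0 := (colim.mapShortComplex S (colimit.isColimit _) c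
    (constCocone J (cokernel m)) f' (cokernel.π m) hf hg).zero
  let a : c₁.pt ⟶ X := Abelian.monoLift m f' hz
  have ha : a ≫ m = f' := Abelian.monoLift_comp m f' hz
  have hfac : kernel.lift (cokernel.π m) f' hz = a ≫ Abelian.factorThruImage m := by
    rw [← cancel_mono (kernel.ι (cokernel.π m))]
    simp only [kernel.lift_ι, Category.assoc]
    exact ha.symm
  have hepia : Epi a := by
    have h1 : Epi (a ≫ Abelian.factorThruImage m) := by
      rw [← hfac]; exact hepi
    have h2 : a = (a ≫ Abelian.factorThruImage m) ≫ inv (Abelian.factorThruImage m) := by simp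
    rw [h2]
    infer_instance
  rw [← cancel_epi a, comp_zero]
  apply colimit.hom_ext
  intro j
  rw [comp_zero]
  have haj : (colimit.ι S.X₁ j ≫ a) ≫ m = (kernel.ι g).app j ≫ c.ι.app j := by
    rw [Category.assoc, ha]
    exact hf j
  have : colimit.ι S.X₁ j ≫ a =
      pullback.lift (colimit.ι S.X₁ j ≫ a) ((kernel.ι g).app j) haj ≫
        pullback.fst m (c.ι.app j) := (pullback.lift_fst _ _ _).symm
  rw [← Category.assoc, this, Category.assoc, ht, comp_zero]

end Key

section Faithful

variable {A : Type u₁} [Category.{v} A] [Abelian A] {B : Type u₂} [Category.{w} B] [Abelian B]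
  (F : A ⥤ B) [F.Faithful] [PreservesFiniteLimits F]

lemma reflectsIsomorphisms : F.ReflectsIsomorphisms := inferInstance

/-- The map on subobjects induced by a functor preserving monomorphisms. -/
noncomputable def mapSub (X : A) (S : Subobject X) : Subobject (F.obj X) :=
  Subobject.mk (F.map S.arrow)

lemma mapSub_mono (X : A) : Monotone (mapSub F X) := by
  intro S T h
  exact Subobject.mk_le_mk_of_comm (F.map (Subobject.ofLE S T h))
    (by rw [← F.map_comp, Subobject.ofLE_arrow])

lemma le_of_mapSub_le {X : A} {S T : Subobject X} (h : mapSub F X S ≤ mapSub F X T) : S ≤ T := by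
  let ψ : F.obj (S : A) ⟶ F.obj (T : A) := Subobject.ofMkLEMk _ _ h
  have hψ : ψ ≫ F.map T.arrow = F.map S.arrow := Subobject.ofMkLEMk_comp h
  let e := PreservesPullback.iso F S.arrow T.arrow
  let σ : F.obj (S : A) ⟶ F.obj (pullback S.arrow T.arrow) :=
    pullback.lift (𝟙 _) ψ (by rw [Category.id_comp, hψ]) ≫ e.inv
  have hσ : σ ≫ F.map (pullback.fst S.arrow T.arrow) = 𝟙 _ := by
    simp only [σ, e, Category.assoc, PreservesPullback.iso_inv_fst]
    exact pullback.lift_fst _ _ _
  have : IsSplitEpi (F.map (pullback.fst S.arrow T.arrow)) := ⟨⟨σ, hσ⟩⟩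
  have : IsIso (F.map (pullback.fst S.arrow T.arrow)) := isIso_of_mono_of_isSplitEpi _
  have : IsIso (pullback.fst S.arrow T.arrow) := isIso_of_reflects_iso _ F
  exact Subobject.le_of_comm (inv (pullback.fst S.arrow T.arrow) ≫ pullback.snd _ _)
    (by rw [Category.assoc, ← pullback.condition, IsIso.inv_hom_id_assoc])

lemma mapSub_le_iff {X : A} {S T : Subobject X} : mapSub F X S ≤ mapSub F X T ↔ S ≤ T :=
  ⟨le_of_mapSub_le F, fun h => mapSub_mono F X h⟩

lemma mapSub_injective (X : A) : Function.Injective (mapSub F X) := by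
  intro S T h
  exact le_antisymm (le_of_mapSub_le F h.le) (le_of_mapSub_le F h.ge)

lemma mapSub_strictMono (X : A) : StrictMono (mapSub F X) := by
  intro S T h
  exact lt_of_le_of_ne (mapSub_mono F X h.le) (fun e => h.ne (mapSub_injective F X e))

lemma isNoetherianObject_of_map (X : A) [IsNoetherianObject (F.obj X)] : IsNoetherianObject X := by
  have : WellFoundedGT (Subobject X) := (mapSub_strictMono F X).wellFoundedGT
  exact (ObjectProperty.is_iff _ _).2 this

include F in
lemma wellPowered_of_faithful [LocallySmall.{w} A] [WellPowered.{w} B] : WellPowered.{w} A where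
  subobject_small X := small_of_injective (mapSub_injective F X)

end Faithful

section Noeth

variable {C : Type u₁} [Category.{v} C] [Abelian C]

/-- Pull back a subobject along a morphism (explicit version). -/
noncomputable def pbSub {X Y : C} (e : X ⟶ Y) (T : Subobject Y) : Subobject X :=
  Subobject.mk (pullback.snd T.arrow e)

lemma pbSub_mono {X Y : C} (e : X ⟶ Y) : Monotone (pbSub e) := by
  intro T T' h
  refine Subobject.mk_le_mk_of_comm
    (pullback.lift (pullback.fst T.arrow e ≫ Subobject.ofLE T T' h) (pullback.snd T.arrow e) ?_) ?_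
  · rw [Category.assoc, Subobject.ofLE_arrow, pullback.condition]
  · exact pullback.lift_snd _ _ _

lemma le_of_pbSub_le_of_epi {X Y : C} (e : X ⟶ Y) [Epi e] {T T' : Subobject Y}
    (h : pbSub e T ≤ pbSub e T') : T ≤ T' := by
  let a : pullback T.arrow e ⟶ pullback T'.arrow e := Subobject.ofMkLEMk _ _ h
  have ha : a ≫ pullback.snd T'.arrow e = pullback.snd T.arrow e := Subobject.ofMkLEMk_comp h
  let π := pullback.fst T.arrow e
  have : Epi π := Abelian.epi_pullback_of_epi_g T.arrow e
  let φ : pullback T.arrow e ⟶ (T' : C) := a ≫ pullback.fst T'.arrow e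
  have hφ : φ ≫ T'.arrow = π ≫ T.arrow := by
    simp only [φ, π, Category.assoc]
    rw [pullback.condition, ← Category.assoc, ha, pullback.condition]
  have hk : kernel.ι π ≫ φ = 0 := by
    rw [← cancel_mono T'.arrow, Category.assoc, hφ, zero_comp, ← Category.assoc,
      kernel.condition, zero_comp]
  refine Subobject.le_of_comm (Abelian.epiDesc π φ hk) ?_
  rw [← cancel_epi π, ← Category.assoc, Abelian.comp_epiDesc, hφ]

lemma isNoetherianObject_of_epi {X Y : C} (e : X ⟶ Y) [Epi e] [IsNoetherianObject X] :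
    IsNoetherianObject Y := by
  have hs : StrictMono (pbSub e) := by
    intro T T' h
    refine lt_of_le_of_ne (pbSub_mono e h.le) (fun he => h.ne ?_)
    exact le_antisymm (le_of_pbSub_le_of_epi e he.le) (le_of_pbSub_le_of_epi e he.ge)
  have : WellFoundedGT (Subobject Y) := hs.wellFoundedGT
  exact (ObjectProperty.is_iff _ _).2 this

lemma isNoetherianObject_of_iso {X Y : C} (e : X ≅ Y) [IsNoetherianObject X] :
    IsNoetherianObject Y := isNoetherianObject_of_epi e.hom

/-- The image of a subobject under a morphism. -/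
noncomputable def imSub {X Y : C} (g : X ⟶ Y) (T : Subobject X) : Subobject Y :=
  imageSubobject (T.arrow ≫ g)

lemma imSub_mono {X Y : C} (g : X ⟶ Y) : Monotone (imSub g) := by
  intro T T' h
  dsimp only [imSub]
  refine imageSubobject_le _ (Subobject.ofLE T T' h ≫ factorThruImageSubobject (T'.arrow ≫ g)) ?_
  rw [Category.assoc, imageSubobject_arrow_comp, ← Category.assoc, Subobject.ofLE_arrow]

lemma le_of_pbSub_le_of_imSub_le (S : ShortComplex C) (hS : S.ShortExact) {T T' : Subobject S.X₂}
    (hle : T ≤ T') (h1 : pbSub S.f T' ≤ pbSub S.f T) (h3 : imSub S.g T' ≤ imSub S.g T) :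
    T' ≤ T := by
  have := hS.mono_f
  let i : (T : C) ⟶ (T' : C) := Subobject.ofLE T T' hle
  have hi : i ≫ T'.arrow = T.arrow := Subobject.ofLE_arrow hle
  suffices Epi i by
    have : IsIso i := isIso_of_mono_of_epi i
    exact Subobject.le_of_comm (inv i) (by rw [← hi, IsIso.inv_hom_id_assoc])
  apply Preadditive.epi_of_cancel_zero
  intro Q q hq
  -- step 1: `fst' ≫ q = 0`
  let a : pullback T'.arrow S.f ⟶ pullback T.arrow S.f := Subobject.ofMkLEMk _ _ h1
  have ha : a ≫ pullback.snd T.arrow S.f = pullback.snd T'.arrow S.f := Subobject.ofMkLEMk_comp h1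
  have h1' : pullback.fst T'.arrow S.f = a ≫ pullback.fst T.arrow S.f ≫ i := by
    rw [← cancel_mono T'.arrow]
    simp only [Category.assoc, hi]
    rw [pullback.condition, pullback.condition, ← Category.assoc, ha]
  have hq1 : pullback.fst T'.arrow S.f ≫ q = 0 := by
    rw [h1', Category.assoc, Category.assoc, hq, comp_zero, comp_zero]
  -- step 2: `q` factors through the image
  let e' := factorThruImageSubobject (T'.arrow ≫ S.g)
  have he' : e' ≫ (imageSubobject (T'.arrow ≫ S.g)).arrow = T'.arrow ≫ S.g :=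
    imageSubobject_arrow_comp _
  have hk : kernel.ι e' ≫ q = 0 := by
    have hz : (kernel.ι e' ≫ T'.arrow) ≫ S.g = 0 := by
      calc (kernel.ι e' ≫ T'.arrow) ≫ S.g = kernel.ι e' ≫ (T'.arrow ≫ S.g) := Category.assoc _ _ _
        _ = kernel.ι e' ≫ (e' ≫ (imageSubobject (T'.arrow ≫ S.g)).arrow) :=
            congrArg (kernel.ι e' ≫ ·) he'.symm
        _ = 0 := by rw [← Category.assoc, kernel.condition, zero_comp]
    let l : kernel e' ⟶ S.X₁ := hS.fIsKernel.lift (KernelFork.ofι _ hz)
    have hl : l ≫ S.f = kernel.ι e' ≫ T'.arrow := hS.fIsKernel.fac (KernelFork.ofι _ hz) .zero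
    have : kernel.ι e' = pullback.lift (kernel.ι e') l hl.symm ≫ pullback.fst T'.arrow S.f :=
      (pullback.lift_fst _ _ _).symm
    rw [this, Category.assoc, hq1, comp_zero]
  let qbar := Abelian.epiDesc e' q hk
  have hqbar : e' ≫ qbar = q := Abelian.comp_epiDesc e' q hk
  -- step 3: `i ≫ e'` is an epimorphism
  let e := factorThruImageSubobject (T.arrow ≫ S.g)
  have he : e ≫ (imageSubobject (T.arrow ≫ S.g)).arrow = T.arrow ≫ S.g :=
    imageSubobject_arrow_comp _
  have h3' : imSub S.g T ≤ imSub S.g T' := imSub_mono S.g hle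
  let k : ((imageSubobject (T'.arrow ≫ S.g) : Subobject S.X₃) : C) ⟶
      ((imageSubobject (T.arrow ≫ S.g) : Subobject S.X₃) : C) :=
    Subobject.ofLE (imageSubobject (T'.arrow ≫ S.g)) (imageSubobject (T.arrow ≫ S.g)) h3
  let k' : ((imageSubobject (T.arrow ≫ S.g) : Subobject S.X₃) : C) ⟶
      ((imageSubobject (T'.arrow ≫ S.g) : Subobject S.X₃) : C) :=
    Subobject.ofLE (imageSubobject (T.arrow ≫ S.g)) (imageSubobject (T'.arrow ≫ S.g)) h3'
  have hkk' : k ≫ k' = 𝟙 _ := by
    rw [← cancel_mono (imageSubobject (T'.arrow ≫ S.g)).arrow]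
    simp [k, k']
  have : IsSplitEpi k' := ⟨⟨k, hkk'⟩⟩
  have hie : i ≫ e' = e ≫ k' := by
    have hk' : k' ≫ (imageSubobject (T'.arrow ≫ S.g)).arrow =
        (imageSubobject (T.arrow ≫ S.g)).arrow := Subobject.ofLE_arrow h3'
    rw [← cancel_mono (imageSubobject (T'.arrow ≫ S.g)).arrow, Category.assoc, he',
      ← Category.assoc, hi, Category.assoc, hk', he]
  have hepi : Epi (i ≫ e') := by
    rw [hie]
    infer_instance
  have : qbar = 0 := by
    rw [← cancel_epi (i ≫ e'), Category.assoc, hqbar, hq, comp_zero]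
  rw [← hqbar, this, comp_zero]

lemma isNoetherianObject_of_shortExact (S : ShortComplex C) (hS : S.ShortExact)
    [IsNoetherianObject S.X₁] [IsNoetherianObject S.X₃] : IsNoetherianObject S.X₂ := by
  let φ : Subobject S.X₂ → Subobject S.X₁ × Subobject S.X₃ := fun T => (pbSub S.f T, imSub S.g T)
  have hφ : StrictMono φ := by
    intro T T' h
    have hle : φ T ≤ φ T' := ⟨pbSub_mono S.f h.le, imSub_mono S.g h.le⟩
    refine lt_of_le_of_ne hle (fun he => h.ne ?_)
    have h1 : pbSub S.f T' ≤ pbSub S.f T := (congrArg Prod.fst he).ge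
    have h3 : imSub S.g T' ≤ imSub S.g T := (congrArg Prod.snd he).ge
    exact le_antisymm h.le (le_of_pbSub_le_of_imSub_le S hS h.le h1 h3)
  have : WellFoundedGT (Subobject S.X₂) := hφ.wellFoundedGT
  exact (ObjectProperty.is_iff _ _).2 this

/-- The two canonical maps into a binary supremum of subobjects are jointly epimorphic. -/
lemma eq_zero_of_sup {X : C} (Y₁ Y₂ : Subobject X) {Z : C}
    (g : ((Y₁ ⊔ Y₂ : Subobject X) : C) ⟶ Z)
    (h₁ : Subobject.ofLE Y₁ (Y₁ ⊔ Y₂) le_sup_left ≫ g = 0)
    (h₂ : Subobject.ofLE Y₂ (Y₁ ⊔ Y₂) le_sup_right ≫ g = 0) : g = 0 := by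
  let T : Subobject X := Subobject.mk (kernel.ι g ≫ (Y₁ ⊔ Y₂).arrow)
  have hT₁ : Y₁ ≤ T := Subobject.le_mk_of_comm (kernel.lift g _ h₁) (by simp)
  have hT₂ : Y₂ ≤ T := Subobject.le_mk_of_comm (kernel.lift g _ h₂) (by simp)
  have hT : Y₁ ⊔ Y₂ ≤ T := sup_le hT₁ hT₂
  let φ : ((Y₁ ⊔ Y₂ : Subobject X) : C) ⟶ kernel g :=
    Subobject.ofLE _ _ hT ≫ (Subobject.underlyingIso _).hom
  have hφ : φ ≫ kernel.ι g = 𝟙 _ := by
    rw [← cancel_mono (Y₁ ⊔ Y₂).arrow]
    simp [φ, T]
  rw [← Category.id_comp g, ← hφ, Category.assoc, kernel.condition, comp_zero]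

lemma isNoetherianObject_sup {X : C} (Y₁ Y₂ : Subobject X) [IsNoetherianObject (Y₁ : C)]
    [IsNoetherianObject (Y₂ : C)] : IsNoetherianObject ((Y₁ ⊔ Y₂ : Subobject X) : C) := by
  let i₁ := Subobject.ofLE Y₁ (Y₁ ⊔ Y₂) le_sup_left
  let i₂ := Subobject.ofLE Y₂ (Y₁ ⊔ Y₂) le_sup_right
  let S : ShortComplex C := ShortComplex.mk i₁ (cokernel.π i₁) (cokernel.condition i₁)
  have hS : S.ShortExact :=
    { exact := ShortComplex.exact_of_g_is_cokernel _ (cokernelIsCokernel i₁)
      mono_f := by dsimp [S, i₁]; infer_instance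
      epi_g := by dsimp [S]; infer_instance }
  have : Epi (i₂ ≫ cokernel.π i₁) := by
    apply Preadditive.epi_of_cancel_zero
    intro Z g hg
    have : cokernel.π i₁ ≫ g = 0 := by
      apply eq_zero_of_sup
      · change i₁ ≫ _ = 0
        rw [← Category.assoc, cokernel.condition, zero_comp]
      · change i₂ ≫ _ = 0
        rw [← Category.assoc, hg]
    rw [← cancel_epi (cokernel.π i₁), this, comp_zero]
  have : IsNoetherianObject S.X₃ := isNoetherianObject_of_epi (i₂ ≫ cokernel.π i₁)
  have : IsNoetherianObject S.X₁ := by dsimp [S]; infer_instance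
  exact isNoetherianObject_of_shortExact S hS

end Noeth

section Small

variable {C : Type u₁} [Category.{v} C]

/-- Subobjects of objects satisfying an essentially small property form an essentially small
property (in a well-powered category). -/
lemma essentiallySmall_sub [LocallySmall.{w} C] [WellPowered.{w} C] (P : ObjectProperty C)
    [ObjectProperty.EssentiallySmall.{w} P] :
    ObjectProperty.EssentiallySmall.{w} (fun T : C => ∃ Y, P Y ∧ ∃ r : T ⟶ Y, Mono r) := by
  obtain ⟨Q, hQ, hPQ⟩ := ObjectProperty.EssentiallySmall.exists_small_le' P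
  let R : ObjectProperty C :=
    ⨆ (y : Subtype Q), ObjectProperty.ofObj (fun S : Subobject y.1 => (S : C))
  have : ObjectProperty.Small.{w} R := inferInstance
  refine ⟨R, inferInstance, ?_⟩
  rintro T ⟨Y, hY, r, hr⟩
  obtain ⟨Y', hY', ⟨e⟩⟩ := hPQ _ hY
  refine ⟨(Subobject.mk (r ≫ e.hom) : C), ?_, ⟨(Subobject.underlyingIso _).symm⟩⟩
  simp only [R, ObjectProperty.prop_iSup_iff]
  exact ⟨⟨Y', hY'⟩, ⟨Subobject.mk (r ≫ e.hom)⟩⟩

/-- Quotients of objects satisfying an essentially small property form an essentially small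
property (in a well-powered abelian category). -/
lemma essentiallySmall_quot [Abelian C] [LocallySmall.{w} C] [WellPowered.{w} C]
    (P : ObjectProperty C) [ObjectProperty.EssentiallySmall.{w} P] :
    ObjectProperty.EssentiallySmall.{w} (fun T : C => ∃ Y, P Y ∧ ∃ e : Y ⟶ T, Epi e) := by
  obtain ⟨Q, hQ, hPQ⟩ := ObjectProperty.EssentiallySmall.exists_small_le' P
  let R : ObjectProperty C :=
    ⨆ (y : Subtype Q), ObjectProperty.ofObj (fun S : Subobject y.1 => cokernel S.arrow)
  have : ObjectProperty.Small.{w} R := inferInstance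
  refine ⟨R, inferInstance, ?_⟩
  rintro T ⟨Y, hY, e, he⟩
  obtain ⟨Y', hY', ⟨φ⟩⟩ := hPQ _ hY
  let e' : Y' ⟶ T := φ.inv ≫ e
  have : Epi e' := epi_comp _ _
  let K : Subobject Y' := Subobject.mk (kernel.ι e')
  refine ⟨cokernel K.arrow, ?_, ⟨?_⟩⟩
  · simp only [R, ObjectProperty.prop_iSup_iff]
    exact ⟨⟨Y', hY'⟩, ⟨K⟩⟩
  · have h1 : K.arrow = (Subobject.underlyingIso (kernel.ι e')).hom ≫ kernel.ι e' := by
      simp [K]
    have hc : IsColimit (CokernelCofork.ofπ e' (kernel.condition e')) :=
      Abelian.epiIsCokernelOfKernel _ (limit.isLimit _)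
    have e1 : T ≅ cokernel (kernel.ι e') :=
      IsColimit.coconePointUniqueUpToIso hc (colimit.isColimit _)
    exact e1 ≪≫ (cokernelEpiComp (Subobject.underlyingIso (kernel.ι e')).hom
      (kernel.ι e')).symm ≪≫ cokernelIsoOfEq h1.symm

end Small

end Groth.Agent.H2.Gab
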