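import Groth.Agent.Lib.Helper2.Gab1

/-!
# Helper2: faithful exact left adjoints into Grothendieck categories, part 2

Objects finitely generated by a family; every object of a Grothendieck category with a separating
family is the filtered colimit of its finitely generated subobjects.
-/

namespace Groth.Agent.H2.Gab

open CategoryTheory CategoryTheory.Limits

universe w u₁ u₂

section BSide

variable {B : Type u₂} [Category.{w} B] [Abelian B] {ι : Type w} (s : ι → B)

/-- Objects which are quotients of a finite coproduct of members of the family `s`. -/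
def FG : ObjectProperty B :=
  fun Y => ∃ (n : ℕ) (φ : Fin n → ι) (e : (∐ fun k => s (φ k)) ⟶ Y), Epi e

/-- Closure properties of a class of objects allowing to run the construction. -/
structure Good (P : ObjectProperty B) : Prop where
  zero : ∀ Y : B, IsZero Y → P Y
  gen : ∀ {X : B} {i : ι} (h : s i ⟶ X), P (imageSubobject h : B)
  sup : ∀ {X : B} (Y₁ Y₂ : Subobject X), P (Y₁ : B) → P (Y₂ : B) → P ((Y₁ ⊔ Y₂ : Subobject X) : B)

lemma fg_zero (Y : B) (hY : IsZero Y) : FG s Y :=
  ⟨0, Fin.elim0, 0, ⟨fun _ _ _ => hY.eq_of_src _ _⟩⟩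

lemma fg_gen {X : B} {i : ι} (h : s i ⟶ X) : FG s (imageSubobject h : B) := by
  refine ⟨1, fun _ => i, Sigma.desc (fun _ => factorThruImageSubobject h), ?_⟩
  apply Preadditive.epi_of_cancel_zero
  intro Z g hg
  have := Sigma.ι (fun _ : Fin 1 => s i) 0 ≫= hg
  rw [← Category.assoc, Sigma.ι_desc, comp_zero] at this
  rwa [← cancel_epi (factorThruImageSubobject h), comp_zero]

lemma fg_sup {X : B} (Y₁ Y₂ : Subobject X) (h₁ : FG s (Y₁ : B)) (h₂ : FG s (Y₂ : B)) :
    FG s ((Y₁ ⊔ Y₂ : Subobject X) : B) := by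
  obtain ⟨n, φ, e₁, he₁⟩ := h₁
  obtain ⟨m, ψ, e₂, he₂⟩ := h₂
  let i₁ := Subobject.ofLE Y₁ (Y₁ ⊔ Y₂) le_sup_left
  let i₂ := Subobject.ofLE Y₂ (Y₁ ⊔ Y₂) le_sup_right
  let χ : Fin (n + m) → ι := Fin.addCases φ ψ
  let d : ∀ k : Fin (n + m), s (χ k) ⟶ ((Y₁ ⊔ Y₂ : Subobject X) : B) :=
    Fin.addCases (fun k => eqToHom (by simp [χ]) ≫ Sigma.ι (fun k => s (φ k)) k ≫ e₁ ≫ i₁)
      (fun k => eqToHom (by simp [χ]) ≫ Sigma.ι (fun k => s (ψ k)) k ≫ e₂ ≫ i₂)
  refine ⟨n + m, χ, Sigma.desc d, ?_⟩
  apply Preadditive.epi_of_cancel_zero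
  intro Z g hg
  apply eq_zero_of_sup
  · change i₁ ≫ g = 0
    rw [← cancel_epi e₁, comp_zero]
    apply Sigma.hom_ext
    intro k
    have := Sigma.ι (fun k => s (χ k)) (Fin.castAdd m k) ≫= hg
    rw [← Category.assoc, Sigma.ι_desc, comp_zero] at this
    simp only [d, Fin.addCases_left, Category.assoc] at this
    rw [comp_zero]
    rw [← cancel_epi (eqToHom (by simp [χ]) : s (χ (Fin.castAdd m k)) ⟶ s (φ k)), comp_zero]
    simpa using this
  · change i₂ ≫ g = 0
    rw [← cancel_epi e₂, comp_zero]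
    apply Sigma.hom_ext
    intro k
    have := Sigma.ι (fun k => s (χ k)) (Fin.natAdd n k) ≫= hg
    rw [← Category.assoc, Sigma.ι_desc, comp_zero] at this
    simp only [d, Fin.addCases_right, Category.assoc] at this
    rw [comp_zero]
    rw [← cancel_epi (eqToHom (by simp [χ]) : s (χ (Fin.natAdd n k)) ⟶ s (ψ k)), comp_zero]
    simpa using this

lemma good_fg : Good s (FG s) := ⟨fg_zero s, fg_gen s, fg_sup s⟩

lemma essentiallySmall_fg [LocallySmall.{w} B] [WellPowered.{w} B] :
    ObjectProperty.EssentiallySmall.{w} (FG s) := by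
  let P₀ : ObjectProperty B :=
    ObjectProperty.ofObj (fun x : (Σ n : ℕ, Fin n → ι) => ∐ fun k => s (x.2 k))
  have : ObjectProperty.EssentiallySmall.{w} P₀ := inferInstance
  have h := essentiallySmall_quot.{w} P₀
  refine ObjectProperty.EssentiallySmall.of_le (Q := fun T : B => ∃ Y, P₀ Y ∧ ∃ e : Y ⟶ T, Epi e) ?_
  rintro Y ⟨n, φ, e, he⟩
  exact ⟨_, ⟨⟨n, φ⟩⟩, e, he⟩

/-- The finitely generated noetherian objects. -/
def FGN : ObjectProperty B := fun Y => FG s Y ∧ IsNoetherianObject Y

lemma good_fgn (hs : ∀ i, IsNoetherianObject (s i)) : Good s (FGN s) where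
  zero Y hY := ⟨fg_zero s Y hY, isNoetherianObject_of_isZero hY⟩
  gen {X i} h := by
    have := hs i
    exact ⟨fg_gen s h, isNoetherianObject_of_epi (factorThruImageSubobject h)⟩
  sup {X} Y₁ Y₂ h₁ h₂ := by
    have := h₁.2
    have := h₂.2
    exact ⟨fg_sup s Y₁ Y₂ h₁.1 h₂.1, isNoetherianObject_sup Y₁ Y₂⟩

lemma essentiallySmall_fgn [LocallySmall.{w} B] [WellPowered.{w} B] :
    ObjectProperty.EssentiallySmall.{w} (FGN s) := by
  have := essentiallySmall_fg s
  exact ObjectProperty.EssentiallySmall.of_le (Q := FG s) (fun Y hY => hY.1)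

end BSide

section Colim

variable {B : Type u₂} [Category.{w} B] [Abelian B] {ι : Type w} (s : ι → B)

open Classical in
/-- The subobject of `X` generated by a finite set of maps from members of the family. -/
noncomputable def Ysub (X : B) (S : Finset (Σ i, s i ⟶ X)) : Subobject X :=
  S.sup (fun a => imageSubobject a.2)

lemma Ysub_mono (X : B) : Monotone (Ysub s X) := fun _ _ h => Finset.sup_mono h

lemma good_Ysub {P : ObjectProperty B} (hP : Good s P) (X : B) (S : Finset (Σ i, s i ⟶ X)) :
    P (Ysub s X S : B) := by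
  classical
  induction S using Finset.induction_on with
  | empty =>
    apply hP.zero
    simp only [Ysub, Finset.sup_empty]
    exact (isZero_zero B).of_iso Subobject.botCoeIsoZero
  | insert a S ha ih =>
    simp only [Ysub, Finset.sup_insert]
    exact hP.sup _ _ (hP.gen a.2) ih

lemma iSup_Ysub [IsGrothendieckAbelian.{w} B]
    (hsep : ∀ ⦃X Y : B⦄ (f g : X ⟶ Y), (∀ (i : ι) (h : s i ⟶ X), h ≫ f = h ≫ g) → f = g)
    (X : B) : ⨆ S, Ysub s X S = ⊤ := by
  classical
  set T := ⨆ S, Ysub s X S with hT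
  have h0 : cokernel.π T.arrow = 0 := by
    apply hsep
    intro i h
    rw [comp_zero]
    have hle : imageSubobject h ≤ T := by
      refine le_trans ?_ (le_iSup (Ysub s X) {⟨i, h⟩})
      simp [Ysub]
    have : h = (factorThruImageSubobject h ≫ Subobject.ofLE _ _ hle) ≫ T.arrow := by simp
    rw [this, Category.assoc, cokernel.condition, comp_zero]
  have : Epi T.arrow := Preadditive.epi_of_cokernel_zero h0
  have : IsIso T.arrow := isIso_of_mono_of_epi _
  exact Subobject.eq_top_of_isIso_arrow T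

/-- The functor of finitely generated subobjects. -/
noncomputable def Yfun (X : B) : Finset (Σ i, s i ⟶ X) ⥤ MonoOver X :=
  (Ysub_mono s X).functor ⋙ Subobject.representative

/-- The cocone of finitely generated subobjects. -/
noncomputable def Ycocone (X : B) : Cocone (Yfun s X ⋙ MonoOver.forget X) where
  pt := Over.mk (𝟙 X)
  ι :=
    { app := fun S => Over.homMk ((Yfun s X).obj S).obj.hom (by simp)
      naturality := fun S S' f => by
        ext
        simp }

instance (X : B) : Mono (Ycocone s X).pt.hom := by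
  dsimp [Ycocone]
  infer_instance

/-- Every object is the filtered colimit of its finitely generated subobjects. -/
noncomputable def Ycolim [IsGrothendieckAbelian.{w} B]
    (hsep : ∀ ⦃X Y : B⦄ (f g : X ⟶ Y), (∀ (i : ι) (h : s i ⟶ X), h ≫ f = h ≫ g) → f = g)
    (X : B) : IsColimit ((Over.forget X).mapCocone (Ycocone s X)) :=
  IsGrothendieckAbelian.isColimitMapCoconeOfSubobjectMkEqISup (Yfun s X) (Ycocone s X) (by
    have h1 : Subobject.mk (Ycocone s X).pt.hom = ⊤ := by
      dsimp [Ycocone]
      exact (Subobject.top_eq_id X).symm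
    have h2 : ∀ S, Subobject.mk ((Yfun s X).obj S).obj.hom = Ysub s X S := by
      intro S
      exact Subobject.mk_arrow _
    rw [h1]
    simp only [h2]
    exact (iSup_Ysub s hsep X).symm)

end Colim

end Groth.Agent.H2.Gab
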