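import Groth.Agent.Lib.Helper2.Gab2

/-!
# Helper2: faithful exact left adjoints into Grothendieck categories, part 3 (main theorems)
-/

namespace Groth.Agent.H2.Gab

open CategoryTheory CategoryTheory.Limits

universe w u₁ u₂

section Main

variable {A : Type u₁} [Category.{w} A] [Abelian A] [HasColimitsOfSize.{w, w} A]
  {B : Type u₂} [Category.{w} B] [Abelian B] [IsGrothendieckAbelian.{w} B]
  (F : A ⥤ B) (G : B ⥤ A) (adj : F ⊣ G) [F.Faithful]
  [PreservesFiniteLimits F] [PreservesFiniteColimits F]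

include adj in
lemma ab5 : AB5OfSize.{w, w} A := by
  haveI := adj.leftAdjoint_preservesColimits
  haveI : ReflectsFiniteLimits F := ⟨fun J _ _ => reflectsLimitsOfShape_of_reflectsIsomorphisms⟩
  exact ⟨fun J _ _ => HasExactColimitsOfShape.domain_of_functor J F⟩

variable [PreservesFilteredColimitsOfSize.{w, w} G] {ι : Type w} (s : ι → B)
  (hsep : ∀ ⦃X Y : B⦄ (f g : X ⟶ Y), (∀ (i : ι) (h : s i ⟶ X), h ≫ f = h ≫ g) → f = g)

/-- The subobject `X ∩ G(Y_S)` of `X`. -/
noncomputable abbrev XS (X : A) (S : Finset (Σ i, s i ⟶ F.obj X)) : A :=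
  pullback (adj.unit.app X) (G.map (Ysub s (F.obj X) S).arrow)

/-- The inclusion `X_S ⟶ X`. -/
noncomputable abbrev pS (X : A) (S : Finset (Σ i, s i ⟶ F.obj X)) : XS F G adj s X S ⟶ X :=
  pullback.fst _ _

/-- The map `F (X_S) ⟶ Y_S`. -/
noncomputable def rS (X : A) (S : Finset (Σ i, s i ⟶ F.obj X)) :
    F.obj (XS F G adj s X S) ⟶ (Ysub s (F.obj X) S : B) :=
  F.map (pullback.snd _ _) ≫ adj.counit.app _

lemma rS_arrow (X : A) (S : Finset (Σ i, s i ⟶ F.obj X)) :
    rS F G adj s X S ≫ (Ysub s (F.obj X) S).arrow = F.map (pS F G adj s X S) := by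
  dsimp only [rS, pS]
  rw [Category.assoc, ← adj.counit_naturality, ← Category.assoc, ← F.map_comp,
    ← pullback.condition, F.map_comp, Category.assoc]
  erw [adj.left_triangle_components]
  rw [Category.comp_id]

instance (X : A) (S : Finset (Σ i, s i ⟶ F.obj X)) : Mono (pS F G adj s X S) := by
  haveI : G.PreservesMonomorphisms := Functor.preservesMonomorphisms_of_adjunction adj
  dsimp only [pS]
  infer_instance

instance (X : A) (S : Finset (Σ i, s i ⟶ F.obj X)) : Mono (rS F G adj s X S) := by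
  haveI : Mono (rS F G adj s X S ≫ (Ysub s (F.obj X) S).arrow) := by
    rw [rS_arrow]
    infer_instance
  exact mono_of_mono _ (Ysub s (F.obj X) S).arrow

include hsep in
/-- The subobjects `X_S` jointly cover `X`. -/
lemma eq_zero_of_pS_comp_eq_zero (X : A) {Z : A} (t : X ⟶ Z)
    (ht : ∀ S, pS F G adj s X S ≫ t = 0) : t = 0 := by
  haveI := ab5 F G adj
  have hc := isColimitOfPreserves G (Ycolim s hsep (F.obj X))
  let c := G.mapCocone ((Over.forget (F.obj X)).mapCocone (Ycocone s (F.obj X)))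
  let m : X ⟶ c.pt := adj.unit.app X
  haveI : Mono m := adj.unit_mono_of_L_faithful X
  exact eq_zero_of_pullback_fst_comp_eq_zero hc m t (fun S => ht S)

omit [HasColimitsOfSize.{w, w} A] [IsGrothendieckAbelian.{w} B] [F.Faithful]
  [PreservesFiniteLimits F] [PreservesFiniteColimits F]
  [PreservesFilteredColimitsOfSize.{w, w} G] in
lemma pS_le (X : A) {S S' : Finset (Σ i, s i ⟶ F.obj X)} (h : S ≤ S') :
    Subobject.mk (pS F G adj s X S) ≤ Subobject.mk (pS F G adj s X S') := by
  refine Subobject.mk_le_mk_of_comm (pullback.lift (pullback.fst _ _)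
    (pullback.snd _ _ ≫ G.map (Subobject.ofLE _ _ (Ysub_mono s (F.obj X) h))) ?_) ?_
  · rw [Category.assoc, ← G.map_comp, Subobject.ofLE_arrow, pullback.condition]
  · exact pullback.lift_fst _ _ _

/-- Objects of `A` whose image under `F` embeds into an object satisfying `P`. -/
def TT (P : ObjectProperty B) : ObjectProperty A :=
  fun T => ∃ Y, P Y ∧ ∃ r : F.obj T ⟶ Y, Mono r

include adj hsep in
lemma TT_separating {P : ObjectProperty B} (hP : Good s P) :
    (TT F P).IsSeparating := by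
  intro X Z f g h
  rw [← sub_eq_zero]
  apply eq_zero_of_pS_comp_eq_zero F G adj s hsep
  intro S
  rw [Preadditive.comp_sub, sub_eq_zero]
  exact h _ ⟨_, good_Ysub s hP _ S, rS F G adj s X S, inferInstance⟩ _

include adj in
omit [HasColimitsOfSize.{w, w} A] [PreservesFiniteColimits F] in
lemma TT_essentiallySmall (P : ObjectProperty B) [ObjectProperty.EssentiallySmall.{w} P] :
    ObjectProperty.EssentiallySmall.{w} (TT F P) := by
  have : WellPowered.{w} A := wellPowered_of_faithful F
  have : G.PreservesMonomorphisms := Functor.preservesMonomorphisms_of_adjunction adj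
  have h := essentiallySmall_sub.{w} (P.map G)
  refine ObjectProperty.EssentiallySmall.of_le
    (Q := fun T : A => ∃ Y, (P.map G) Y ∧ ∃ r : T ⟶ Y, Mono r) ?_
  rintro T ⟨Y, hY, r, hr⟩
  have : Mono (adj.unit.app T) := adj.unit_mono_of_L_faithful T
  have : Mono (G.map r) := inferInstance
  exact ⟨G.obj Y, P.prop_map_obj G hY, adj.unit.app T ≫ G.map r, mono_comp _ _⟩

include adj hsep in
theorem exists_small_separating {P : ObjectProperty B} (hP : Good s P)
    [ObjectProperty.EssentiallySmall.{w} P] :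
    ∃ (κ : Type w) (t : κ → A), (∀ k, TT F P (t k)) ∧
      ∀ ⦃X Y : A⦄ (f g : X ⟶ Y), (∀ (k : κ) (h : t k ⟶ X), h ≫ f = h ≫ g) → f = g := by
  haveI := TT_essentiallySmall F G adj P
  obtain ⟨Q, hQ, hQle, hle⟩ := ObjectProperty.EssentiallySmall.exists_small_le.{w} (TT F P)
  haveI : Small.{w} (Subtype Q) := hQ
  refine ⟨Shrink.{w} (Subtype Q), fun k => ((equivShrink (Subtype Q)).symm k).1,
    fun k => hQle _ ((equivShrink (Subtype Q)).symm k).2, ?_⟩
  intro X Y f g H
  apply TT_separating F G adj s hsep hP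
  intro T hT h
  obtain ⟨T', hT', ⟨e⟩⟩ := hle _ hT
  obtain ⟨k, hk⟩ := (equivShrink (Subtype Q)).symm.surjective ⟨T', hT'⟩
  have hk' : ((equivShrink (Subtype Q)).symm k).1 = T' := congrArg Subtype.val hk
  have := H k (eqToHom hk' ≫ e.inv ≫ h)
  calc h ≫ f = e.hom ≫ eqToHom hk'.symm ≫ ((eqToHom hk' ≫ e.inv ≫ h) ≫ f) := by simp
    _ = e.hom ≫ eqToHom hk'.symm ≫ ((eqToHom hk' ≫ e.inv ≫ h) ≫ g) := by rw [this]
    _ = h ≫ g := by simp

include adj hsep in
/-- If the members of the separating family are noetherian, `F` preserves noetherian objects. -/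
lemma isNoetherianObject_map (hs : ∀ i, IsNoetherianObject (s i)) (X : A)
    [IsNoetherianObject X] : IsNoetherianObject (F.obj X) := by
  classical
  let σ : Finset (Σ i, s i ⟶ F.obj X) → Subobject X := fun S => Subobject.mk (pS F G adj s X S)
  have hσ : Monotone σ := fun S S' h => pS_le F G adj s X h
  obtain ⟨m, ⟨S₀, rfl⟩, hm⟩ := (wellFounded_gt (α := Subobject X)).has_min (Set.range σ)
    ⟨σ ∅, ⟨∅, rfl⟩⟩
  have hle : ∀ S, σ S ≤ σ S₀ := by
    intro S
    have h1 : σ S ≤ σ (S ∪ S₀) := hσ Finset.subset_union_left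
    have h2 : σ S₀ ≤ σ (S ∪ S₀) := hσ Finset.subset_union_right
    have h3 : σ (S ∪ S₀) = σ S₀ := (eq_of_le_of_not_lt h2 (hm _ ⟨_, rfl⟩)).symm
    exact h1.trans h3.le
  have hepi : Epi (pS F G adj s X S₀) := by
    apply Preadditive.epi_of_cancel_zero
    intro Z t ht
    apply eq_zero_of_pS_comp_eq_zero F G adj s hsep
    intro S
    have : pS F G adj s X S = Subobject.ofMkLEMk _ _ (hle S) ≫ pS F G adj s X S₀ :=
      (Subobject.ofMkLEMk_comp (hle S)).symm
    rw [this, Category.assoc, ht, comp_zero]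
  have hiso : IsIso (pS F G adj s X S₀) := isIso_of_mono_of_epi _
  have : IsIso (F.map (pS F G adj s X S₀)) := inferInstance
  have : Epi (rS F G adj s X S₀ ≫ (Ysub s (F.obj X) S₀).arrow) := by
    rw [rS_arrow]
    infer_instance
  have : Epi (Ysub s (F.obj X) S₀).arrow := epi_of_epi (rS F G adj s X S₀) _
  have : IsIso (Ysub s (F.obj X) S₀).arrow := isIso_of_mono_of_epi _
  have := (good_Ysub s (good_fgn s hs) (F.obj X) S₀).2
  exact isNoetherianObject_of_iso (asIso (Ysub s (F.obj X) S₀).arrow)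

end Main

end Groth.Agent.H2.Gab
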