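import Mathlib
import Groth.Agent.Lib.Helper2.GalFieldD

/-! # `H^i(Spec k, ℤ) ≃ H^{i-1}(Spec k, ℚ/ℤ)` for `i ≥ 2`. -/

set_option autoImplicit false
set_option linter.style.haveILetI false
set_option linter.unusedVariables false
set_option linter.unusedSectionVars false
universe u
open CategoryTheory CategoryTheory.Limits AlgebraicGeometry Opposite Abelian

namespace Groth.Agent.H2.GalField
open Groth.Agent.H2.EtSmall Groth.Agent.LD.Colim Groth.Agent.H2.TorsColim

/-- the map `ℤ → ℚ`. -/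
def fZQ : ULift.{u + 1} ℤ →+ ULift.{u + 1} ℚ where
  toFun x := ULift.up (x.down : ℚ)
  map_zero' := by ext; simp
  map_add' x y := by ext; simp

/-- the map `ℚ → ℚ/ℤ`. -/
def gQZ : ULift.{u + 1} ℚ →+ ULift.{u + 1} (ℚ ⧸ AddSubgroup.zmultiples (1 : ℚ)) where
  toFun x := ULift.up (QuotientAddGroup.mk x.down)
  map_zero' := by ext; simp
  map_add' x y := by ext; simp

/-- the short complex `ℤ → ℚ → ℚ/ℤ`. -/
noncomputable def scZQ : ShortComplex AddCommGrpCat.{u + 1} :=
  ShortComplex.mk (AddCommGrpCat.ofHom fZQ.{u}) (AddCommGrpCat.ofHom gQZ.{u}) (by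
    ext x
    change (QuotientAddGroup.mk ((x.down : ℤ) : ℚ) : ℚ ⧸ AddSubgroup.zmultiples (1 : ℚ)) = 0
    rw [QuotientAddGroup.eq_zero_iff]
    exact ⟨x.down, by simp⟩)

lemma scZQ_shortExact : (scZQ.{u}).ShortExact := by
  refine ShortComplex.ShortExact.mk' ?_ ?_ ?_
  · rw [ShortComplex.ab_exact_iff]
    intro x hx
    have h1 : (QuotientAddGroup.mk x.down : ℚ ⧸ AddSubgroup.zmultiples (1 : ℚ)) = 0 :=
      congrArg ULift.down hx
    rw [QuotientAddGroup.eq_zero_iff] at h1
    obtain ⟨k, hk⟩ := h1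
    refine ⟨ULift.up k, ?_⟩
    change ULift.up ((k : ℤ) : ℚ) = x
    ext
    simpa using hk
  · rw [AddCommGrpCat.mono_iff_injective]
    intro x y h
    have : ((x.down : ℤ) : ℚ) = (y.down : ℤ) := congrArg ULift.down h
    apply ULift.ext
    exact_mod_cast this
  · rw [AddCommGrpCat.epi_iff_surjective]
    intro y
    obtain ⟨q, hq⟩ := QuotientAddGroup.mk_surjective y.down
    exact ⟨ULift.up q, by
      change ULift.up (QuotientAddGroup.mk q) = y
      ext
      exact hq⟩

lemma isIso_nsmul_Q (n : ℕ) (hn : 0 < n) :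
    IsIso (n • 𝟙 (AddCommGrpCat.of (ULift.{u + 1} ℚ))) := by
  rw [ConcreteCategory.isIso_iff_bijective]
  have h0 : ∀ x : ULift.{u + 1} ℚ, (n • 𝟙 (AddCommGrpCat.of (ULift.{u + 1} ℚ))) x = n • x := by
    intro x
    simp
  have h : ∀ x : ULift.{u + 1} ℚ, ((n • 𝟙 (AddCommGrpCat.of (ULift.{u + 1} ℚ))) x).down =
      (n : ℚ) * x.down := by
    intro x
    rw [h0]
    change n • x.down = _
    rw [nsmul_eq_mul]
  have hn' : (n : ℚ) ≠ 0 := by exact_mod_cast hn.ne'
  constructor
  · intro x y hxy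
    have : (n : ℚ) * x.down = (n : ℚ) * y.down := by
      rw [← h, ← h]
      exact congrArg ULift.down hxy
    apply ULift.ext
    exact mul_left_cancel₀ hn' this
  · intro y
    refine ⟨ULift.up (y.down / n), ?_⟩
    apply ULift.ext
    rw [h]
    field_simp

variable (K : Type u) [Field K]

noncomputable instance const_preservesFiniteLimits' : PreservesFiniteLimits
    (constantSheaf (SK K).smallEtaleTopology AddCommGrpCat.{u + 1}) :=
  inferInstanceAs (PreservesFiniteLimits (Functor.const _ ⋙ presheafToSheaf _ _))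

noncomputable instance const_preservesFiniteColimits' : PreservesFiniteColimits
    (constantSheaf (SK K).smallEtaleTopology AddCommGrpCat.{u + 1}) :=
  inferInstanceAs (PreservesFiniteColimits (Functor.const _ ⋙ presheafToSheaf _ _))

theorem nonempty_addEquiv (i : ℕ) (hi : 2 ≤ i) :
    Nonempty (EtCoh.H (SK K) (EtCoh.const (SK K) ℤ) i ≃+
      EtCoh.H (SK K) (EtCoh.const (SK K) (ℚ ⧸ AddSubgroup.zmultiples (1 : ℚ))) (i - 1)) := by
  obtain ⟨n, rfl⟩ : ∃ n, i = n + 2 := ⟨i - 2, by omega⟩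
  let cs := constantSheaf (SK K).smallEtaleTopology AddCommGrpCat.{u + 1}
  have hS : (scZQ.{u}.map cs).ShortExact := scZQ_shortExact.map_of_exact cs
  have hdiv : ∀ m : ℕ, 0 < m → IsIso (m • 𝟙 (EtCoh.const (SK K) ℚ)) := by
    intro m hm
    haveI := isIso_nsmul_Q.{u} m hm
    have : m • 𝟙 (EtCoh.const (SK K) ℚ) =
        cs.map (m • 𝟙 (AddCommGrpCat.of (ULift.{u + 1} ℚ))) := by
      rw [Functor.map_nsmul, cs.map_id]
    rw [this]
    infer_instance
  haveI h1 := subsingleton_H_of_divisible K (EtCoh.const (SK K) ℚ) hdiv (n + 1) (by omega)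
  haveI h2 := subsingleton_H_of_divisible K (EtCoh.const (SK K) ℚ) hdiv (n + 2) (by omega)
  let δ : Ext (constZ (SK K)) (scZQ.{u}.map cs).X₃ (n + 1) →+
      Ext (constZ (SK K)) (scZQ.{u}.map cs).X₁ (n + 2) := hS.extClass.postcomp (constZ (SK K)) rfl
  have hinj : Function.Injective δ := by
    rw [injective_iff_map_eq_zero]
    intro x hx
    obtain ⟨x₂, hx₂⟩ := Ext.covariant_sequence_exact₃ (constZ (SK K)) hS x rfl hx
    have : x₂ = 0 := @Subsingleton.elim _ h1 _ _
    rw [← hx₂, this, Ext.zero_comp]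
  have hsurj : Function.Surjective δ := by
    intro y
    obtain ⟨x₃, hx₃⟩ := Ext.covariant_sequence_exact₁ (constZ (SK K)) hS y
      (@Subsingleton.elim _ h2 _ _) (rfl : n + 1 + 1 = n + 2)
    exact ⟨x₃, hx₃⟩
  exact ⟨(AddEquiv.ofBijective δ ⟨hinj, hsurj⟩).symm⟩

end Groth.Agent.H2.GalField
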