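import Mathlib
import Groth.Prelude.Def_Dix
import Groth.Agent.Lib.Helper2.GalFieldE
import Groth.Agent.Lib.Helper2.EdgeInjLite
import Groth.Agent.Lib.Helper7.GT2

/-! # `H¹` of a field with torsion-free constant coefficients vanishes; `H¹` of a direct image. -/

set_option autoImplicit false
set_option linter.style.haveILetI false
set_option linter.unusedVariables false
set_option linter.unusedSectionVars false
universe u
open CategoryTheory CategoryTheory.Limits AlgebraicGeometry Opposite Abelian

namespace Groth.Agent.H2.GalField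
open Groth.Agent.H2.EtSmall Groth.Agent.LD.Colim Groth.Agent.H2.TorsColim

section Surj
variable (X : Scheme.{u})

/-- sections of constant sheaves preserve surjections (they factor through sets). -/
lemma surjective_sections (B C' : AddCommGrpCat.{u + 1}) (g : B ⟶ C')
    (hg : Function.Surjective g) (U : X.Etale) :
    Function.Surjective
      (((constantSheaf X.smallEtaleTopology AddCommGrpCat.{u + 1}).map g).hom.app (op U)) := by
  let J := X.smallEtaleTopology
  let V := forget AddCommGrpCat.{u + 1}
  let e := constantCommuteCompose J V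
  let Γ := (sheafSections J (Type (u + 1))).obj (op U)
  obtain ⟨σ, hσ⟩ := hg.hasRightInverse
  let σ' : V.obj C' ⟶ V.obj B := TypeCat.ofHom σ
  have h1 : σ' ≫ V.map g = 𝟙 _ := by
    ext x
    exact hσ x
  have h2 : (constantSheaf J (Type (u + 1))).map σ' ≫
      (constantSheaf J (Type (u + 1))).map (V.map g) = 𝟙 _ := by
    rw [← CategoryTheory.Functor.map_comp, h1, CategoryTheory.Functor.map_id]
  have nat := e.hom.naturality g
  have natU := congrArg (fun φ => Γ.map φ) nat
  have h2U := congrArg (fun φ => Γ.map φ) h2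
  simp only [CategoryTheory.Functor.map_comp, CategoryTheory.Functor.map_id] at natU h2U
  intro y
  let y' := (Γ.map (e.hom.app C')) y
  let x' := (Γ.map ((constantSheaf J (Type (u + 1))).map σ')) y'
  let x := (Γ.map (e.inv.app B)) x'
  refine ⟨x, ?_⟩
  have hinj : Function.Injective (Γ.map (e.hom.app C')) := by
    have : IsIso (Γ.map (e.hom.app C')) := inferInstance
    exact ((isIso_iff_bijective _).mp this).1
  apply hinj
  have e1 := ConcreteCategory.congr_hom natU x
  have e2 := ConcreteCategory.congr_hom h2U y'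
  have e3 : (Γ.map (e.hom.app B)) x = x' := by
    change (Γ.map (e.inv.app B) ≫ Γ.map (e.hom.app B)) x' = x'
    rw [← CategoryTheory.Functor.map_comp, ← NatTrans.comp_app, e.inv_hom_id]
    simp
  simp only [types_comp_apply, types_id_apply] at e1 e2
  rw [e3] at e1
  exact e1.trans e2

/-- maps from `ℤ` lift along the image of a surjection under the constant sheaf functor. -/
lemma exists_lift_const (B C' : AddCommGrpCat.{u + 1}) (g : B ⟶ C')
    (hg : Function.Surjective g)
    (φ : constZ X ⟶ (constantSheaf X.smallEtaleTopology AddCommGrpCat.{u + 1}).obj C') :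
    ∃ φ' : constZ X ⟶ (constantSheaf X.smallEtaleTopology AddCommGrpCat.{u + 1}).obj B,
      φ' ≫ (constantSheaf X.smallEtaleTopology AddCommGrpCat.{u + 1}).map g = φ := by
  obtain ⟨s', hs'⟩ := surjective_sections X B C' g hg (EtCoh.top X) (constEquiv X _ φ)
  refine ⟨(constEquiv X _).symm s', ?_⟩
  apply (constEquiv X _).injective
  rw [constEquiv_comp, Equiv.apply_symm_apply]
  exact hs'

end Surj

variable (K : Type u) [Field K]

theorem subsingleton_H1_of_torsionFree (A : AddCommGrpCat.{u + 1})
    (hA : ∀ m : ℕ, 0 < m → Function.Injective (fun a : A => m • a)) :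
    Subsingleton (EtCoh.H (SK K)
      ((constantSheaf (SK K).smallEtaleTopology AddCommGrpCat.{u + 1}).obj A) 1) := by
  let cs := constantSheaf (SK K).smallEtaleTopology AddCommGrpCat.{u + 1}
  refine subsingleton_of_forall_eq 0 fun ξ => ?_
  obtain ⟨m, hm, hξ⟩ := exists_nsmul_eq_zero K (cs.obj A) 0 ξ
  let f : A ⟶ A := m • 𝟙 A
  haveI : Mono f := by
    rw [AddCommGrpCat.mono_iff_injective]
    intro a b hab
    apply hA m hm
    have h : ∀ x : A, f x = m • x := by
      intro x
      simp [f]
    change m • a = m • b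
    rw [← h, ← h]
    exact hab
  let S : ShortComplex AddCommGrpCat.{u + 1} :=
    ShortComplex.mk f (cokernel.π f) (cokernel.condition f)
  have hS : S.ShortExact :=
    { exact := ShortComplex.exact_of_g_is_cokernel _ (cokernelIsCokernel f)
      mono_f := inferInstanceAs (Mono f)
      epi_g := inferInstanceAs (Epi (cokernel.π f)) }
  have hS' : (S.map cs).ShortExact := hS.map_of_exact cs
  have h1 : (ξ : Ext (constZ (SK K)) (cs.obj A) 1).comp (Ext.mk₀ (S.map cs).f) (add_zero 1) = 0 := by
    have e1 : (S.map cs).f = m • 𝟙 (cs.obj A) := by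
      change cs.map (m • 𝟙 A) = _
      rw [Functor.map_nsmul, cs.map_id]
    rw [e1]
    have e2 := pc_nsmul (𝟙 (cs.obj A)) m (ξ : Ext (constZ (SK K)) (cs.obj A) 1)
    rw [pc_id] at e2
    exact e2.trans hξ
  obtain ⟨t, ht⟩ := Ext.covariant_sequence_exact₁ (constZ (SK K)) hS'
    (ξ : Ext (constZ (SK K)) (cs.obj A) 1) h1 (rfl : 0 + 1 = 1)
  obtain ⟨φ, rfl⟩ := (Ext.mk₀_bijective _ _).2 t
  have hg : Function.Surjective (cokernel.π f) :=
    (AddCommGrpCat.epi_iff_surjective _).1 inferInstance
  obtain ⟨φ', hφ'⟩ := exists_lift_const (SK K) A (cokernel f) (cokernel.π f) hg φ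
  have h2 : (Ext.mk₀ φ).comp hS'.extClass (rfl : 0 + 1 = 1) = 0 := by
    have e3 : (Ext.mk₀ φ : Ext (constZ (SK K)) (S.map cs).X₃ 0) =
        (Ext.mk₀ (show constZ (SK K) ⟶ (S.map cs).X₂ from φ')).comp
          (Ext.mk₀ (S.map cs).g) (add_zero 0) := by
      rw [Ext.mk₀_comp_mk₀]
      congr 1
      exact hφ'.symm
    rw [e3, Ext.comp_assoc_of_second_deg_zero, hS'.comp_extClass, Ext.comp_zero]
  exact ht.symm.trans h2

theorem subsingleton_H1_const (M : Type) [AddCommGroup M] [IsAddTorsionFree M] :
    Subsingleton (EtCoh.H (SK K) (EtCoh.const (SK K) M) 1) := by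
  apply subsingleton_H1_of_torsionFree K (AddCommGrpCat.of (ULift.{u + 1} M))
  intro m hm a b hab
  apply ULift.ext
  have h : m • a.down = m • b.down := congrArg ULift.down hab
  exact nsmul_right_injective hm.ne' h

section Push
variable {X Y : Scheme.{u}} (f : Y ⟶ X)

theorem subsingleton_H1_push (G : EtCoh.Ab Y) (h : Subsingleton (EtCoh.H Y G 1)) :
    Subsingleton (EtCoh.H X ((EtCoh.push f).obj G) 1) := by
  haveI : PreservesFiniteLimits (EtCoh.pull f) := Groth.Agent.H7.GT.S101_main f
  haveI : PreservesFiniteColimits (EtCoh.pull f) := by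
    haveI := (EtCoh.pullPushAdj f).leftAdjoint_preservesColimits
    infer_instance
  haveI : (EtCoh.pull f).Additive := Functor.additive_of_preserves_binary_products _
  haveI : (EtCoh.push f).Additive := by
    haveI := (EtCoh.pullPushAdj f).rightAdjoint_preservesLimits
    exact Functor.additive_of_preserves_binary_products _
  have hinj := Groth.Agent.H2.EdgeInjLite.edge_one_injective (EtCoh.pullPushAdj f)
    (A := constZ X) (A' := constZ Y) (EtCore.pullConst f ℤ).inv G
  refine subsingleton_of_forall_eq 0 fun ξ => ?_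
  apply hinj
  exact @Subsingleton.elim _ h _ _

end Push

end Groth.Agent.H2.GalField
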