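import Mathlib

/-! # The torsor glued from two trivial pieces (as a locally directed colimit of opens). -/

set_option autoImplicit false
set_option linter.style.haveILetI false
set_option linter.unusedVariables false
set_option linter.unusedSectionVars false

universe u

open CategoryTheory CategoryTheory.Limits Opposite AlgebraicGeometry TopologicalSpace

namespace Groth.Agent.H2.Gbr

/-- index poset of the gluing. -/
inductive Idx (M : Type) : Type
  | v (m : M) : Idx M
  | w (m : M) : Idx M
  | t (m m' : M) : Idx M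

namespace Idx

variable {M : Type}

/-- the order: `t m m' ≤ v m`, `t m m' ≤ w m'`. -/
def le : Idx M → Idx M → Prop
  | v m, v n => m = n
  | w m, w n => m = n
  | t m m', t n n' => m = n ∧ m' = n'
  | t m _, v n => m = n
  | t _ m', w n => m' = n
  | _, _ => False

instance : Preorder (Idx M) where
  le := le
  le_refl a := by cases a <;> simp [le]
  le_trans a b c hab hbc := by
    cases a <;> cases b <;> cases c <;> simp_all [le]

lemma le_def (a b : Idx M) : a ≤ b ↔ le a b := Iff.rfl

lemma v_le_v {m n : M} : (v m : Idx M) ≤ v n ↔ m = n := Iff.rfl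
lemma w_le_w {m n : M} : (w m : Idx M) ≤ w n ↔ m = n := Iff.rfl
lemma t_le_v {m m' n : M} : (t m m' : Idx M) ≤ v n ↔ m = n := Iff.rfl
lemma t_le_w {m m' n : M} : (t m m' : Idx M) ≤ w n ↔ m' = n := Iff.rfl

lemma eq_of_le_v_v {k : Idx M} {m n : M} (h1 : k ≤ v m) (h2 : k ≤ v n) : m = n := by
  cases k <;> simp_all [le_def, le]

lemma eq_of_le_w_w {k : Idx M} {m n : M} (h1 : k ≤ w m) (h2 : k ≤ w n) : m = n := by
  cases k <;> simp_all [le_def, le]

end Idx

/-- The gluing data: two opens covering `Y` and a partition of their intersection indexed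
by `M`. -/
structure TData (Y : Scheme.{u}) (M : Type) where
  V : Y.Opens
  W : Y.Opens
  T : M → Y.Opens
  hTV : ∀ d, T d ≤ V
  hTW : ∀ d, T d ≤ W
  huniq : ∀ d d' (x : Y), x ∈ T d → x ∈ T d' → d = d'
  hex : ∀ x : Y, x ∈ V → x ∈ W → ∃ d, x ∈ T d
  hcov : ∀ x : Y, x ∈ V ∨ x ∈ W

variable {Y : Scheme.{u}} {M : Type} [AddCommGroup M] (D : TData Y M)

/-- the opens of the diagram. -/
def TData.O : Idx M → Y.Opens
  | Idx.v _ => D.V
  | Idx.w _ => D.W
  | Idx.t m m' => D.T (m' - m)

lemma TData.mono {a b : Idx M} (h : a ≤ b) : D.O a ≤ D.O b := by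
  cases a <;> cases b <;> simp_all [Idx.le_def, Idx.le, TData.O]
  · exact D.hTV _
  · exact D.hTW _

/-- the diagram of opens. -/
noncomputable def TData.F : Idx M ⥤ Scheme.{u} where
  obj j := ↑(D.O j)
  map f := Y.homOfLE (D.mono f.le)
  map_id j := Y.homOfLE_rfl _
  map_comp f g := (Y.homOfLE_homOfLE _ _).symm

instance {i j : Idx M} (f : i ⟶ j) : IsOpenImmersion (D.F.map f) := by
  change IsOpenImmersion (Y.homOfLE (D.mono f.le))
  infer_instance

lemma TData.F_map_val {i j : Idx M} (f : i ⟶ j) (x : ↥(D.O i)) :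
    ((D.F.map f) x : ↥(D.O j)).1 = x.1 :=
  Y.homOfLE_apply (D.mono f.le) x

end Groth.Agent.H2.Gbr
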