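import Mathlib
import Groth.Agent.Lib.Helper2.GbrF

/-! # The glued torsor: colimit and its basic properties. -/

set_option autoImplicit false
set_option linter.style.haveILetI false
set_option linter.unusedVariables false
set_option linter.unusedSectionVars false

universe u

open CategoryTheory CategoryTheory.Limits Opposite AlgebraicGeometry TopologicalSpace

namespace Groth.Agent.H2.Gbr

variable {Y : Scheme.{u}} {M : Type} [AddCommGroup M] (D : TData Y M)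

lemma TData.exists_lower {i j k : Idx M} (hi : i ≤ k) (hj : j ≤ k) (y : Y)
    (hyi : y ∈ D.O i) (hyj : y ∈ D.O j) : ∃ l, l ≤ i ∧ l ≤ j ∧ y ∈ D.O l := by
  by_cases h1 : i ≤ j
  · exact ⟨i, le_rfl, h1, hyi⟩
  by_cases h2 : j ≤ i
  · exact ⟨j, h2, le_rfl, hyj⟩
  exfalso
  rcases i with a | a | ⟨a, a'⟩ <;> rcases j with b | b | ⟨b, b'⟩ <;> rcases k with c | c | ⟨c, c'⟩ <;>
    simp only [Idx.le_def, Idx.le] at hi hj h1 h2 <;> try (first | exact hi | exact hj | (subst hi; subst hj; exact h1 rfl) | (subst hi; exact h1 rfl) | (subst hj; exact h2 rfl))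
  · exact h2 (hj.trans hi.symm)
  · exact h2 (hj.trans hi.symm)
  · have hab : a = b := hi.trans hj.symm
    subst hab
    have h3 : a' - a = b' - a := D.huniq _ _ y hyi hyj
    exact h1 ⟨rfl, sub_left_injective h3⟩
  · have hab : a' = b' := hi.trans hj.symm
    subst hab
    have h3 : a' - a = a' - b := D.huniq _ _ y hyi hyj
    exact h1 ⟨sub_right_injective h3, rfl⟩
  · exact h1 ⟨hi.1.trans hj.1.symm, hi.2.trans hj.2.symm⟩

instance : (D.F ⋙ Scheme.forget).IsLocallyDirected := by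
  constructor
  intro i j k fi fj xi xj h
  have h' : (D.F.map fi) xi = (D.F.map fj) xj := h
  let xi' : ↥(D.O i) := xi
  let xj' : ↥(D.O j) := xj
  have hval : xi'.1 = xj'.1 := by
    rw [← D.F_map_val fi xi', ← D.F_map_val fj xj']
    exact congrArg Subtype.val h'
  obtain ⟨l, hli, hlj, hyl⟩ := D.exists_lower fi.le fj.le xi'.1 xi'.2 (hval ▸ xj'.2)
  refine ⟨l, homOfLE hli, homOfLE hlj, (⟨xi'.1, hyl⟩ : ↥(D.O l)), ?_, ?_⟩
  · exact Subtype.ext (D.F_map_val (homOfLE hli) ⟨xi'.1, hyl⟩)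
  · exact Subtype.ext ((D.F_map_val (homOfLE hlj) ⟨xi'.1, hyl⟩).trans hval)

/-- the glued scheme. -/
noncomputable def TData.P : Scheme.{u} := colimit D.F

/-- the charts. -/
noncomputable def TData.ι (j : Idx M) : (↑(D.O j) : Scheme.{u}) ⟶ D.P := colimit.ι D.F j

instance (j : Idx M) : IsOpenImmersion (D.ι j) :=
  inferInstanceAs (IsOpenImmersion (colimit.ι D.F j))

/-- the cocone over `Y`. -/
noncomputable def TData.cocone : Cocone D.F where
  pt := Y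
  ι := { app := fun j => (D.O j).ι
         naturality := fun i j f => by
           change Y.homOfLE (D.mono f.le) ≫ (D.O j).ι = (D.O i).ι ≫ 𝟙 _
           rw [Y.homOfLE_ι, Category.comp_id] }

/-- the projection. -/
noncomputable def TData.π : D.P ⟶ Y := colimit.desc D.F D.cocone

@[reassoc]
lemma TData.ι_π (j : Idx M) : D.ι j ≫ D.π = (D.O j).ι := colimit.ι_desc D.cocone j

lemma TData.π_ι_apply (j : Idx M) (x : ↥(D.O j)) : D.π (D.ι j x) = x.1 := by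
  rw [← Scheme.Hom.comp_apply, D.ι_π]
  rfl

lemma TData.exists_ι (p : D.P) : ∃ (j : Idx M) (x : ↥(D.O j)), D.ι j x = p :=
  Scheme.IsLocallyDirected.ι_jointly_surjective D.F p

lemma TData.ι_eq_ι_iff {i j : Idx M} {xi : ↥(D.O i)} {xj : ↥(D.O j)} :
    D.ι i xi = D.ι j xj ↔
      ∃ (k : Idx M) (fi : k ⟶ i) (fj : k ⟶ j) (x : ↥(D.O k)),
        D.F.map fi x = xi ∧ D.F.map fj x = xj :=
  Scheme.IsLocallyDirected.ι_eq_ι_iff D.F

lemma TData.ι_eq_of_le {i j : Idx M} (h : i ≤ j) (y : Y) (hy : y ∈ D.O i) :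
    D.ι i ⟨y, hy⟩ = D.ι j ⟨y, D.mono h hy⟩ := by
  rw [D.ι_eq_ι_iff]
  refine ⟨i, 𝟙 i, homOfLE h, ⟨y, hy⟩, ?_, ?_⟩
  · rw [D.F.map_id]; rfl
  · exact Subtype.ext (D.F_map_val (homOfLE h) ⟨y, hy⟩)

lemma TData.ι_v_eq_ι_w (m m' : M) (y : Y) (hy : y ∈ D.T (m' - m)) :
    D.ι (Idx.v m) ⟨y, D.hTV _ hy⟩ = D.ι (Idx.w m') ⟨y, D.hTW _ hy⟩ := by
  have h1 := D.ι_eq_of_le (i := Idx.t m m') (j := Idx.v m) (Idx.t_le_v.2 rfl) y hy
  have h2 := D.ι_eq_of_le (i := Idx.t m m') (j := Idx.w m') (Idx.t_le_w.2 rfl) y hy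
  exact h1.symm.trans h2

lemma TData.ι_v_inj {m m' : M} {x y : ↥D.V} (h : D.ι (Idx.v m) x = D.ι (Idx.v m') y) :
    m = m' := by
  obtain ⟨k, fi, fj, -, -, -⟩ := D.ι_eq_ι_iff.1 h
  exact Idx.eq_of_le_v_v fi.le fj.le

lemma TData.ι_w_inj {m m' : M} {x y : ↥D.W} (h : D.ι (Idx.w m) x = D.ι (Idx.w m') y) :
    m = m' := by
  obtain ⟨k, fi, fj, -, -, -⟩ := D.ι_eq_ι_iff.1 h
  exact Idx.eq_of_le_w_w fi.le fj.le

/-- points over `V` lie in a unique `V`-chart. -/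
lemma TData.exists_v (p : D.P) (hp : D.π p ∈ D.V) :
    ∃ m : M, D.ι (Idx.v m) ⟨D.π p, hp⟩ = p := by
  obtain ⟨j, x, rfl⟩ := D.exists_ι p
  have hx : D.π (D.ι j x) = x.1 := D.π_ι_apply j x
  rcases j with m | m | ⟨m, m'⟩
  · refine ⟨m, ?_⟩
    congr 1
    exact Subtype.ext hx
  · have hxV : x.1 ∈ D.V := hx ▸ hp
    obtain ⟨d, hd⟩ := D.hex x.1 hxV x.2
    refine ⟨m - d, ?_⟩
    have h1 := D.ι_v_eq_ι_w (m - d) m x.1 (by rwa [sub_sub_cancel])
    have h2 : (⟨D.π (D.ι (Idx.w m) x), hp⟩ : ↥D.V) = ⟨x.1, hxV⟩ := Subtype.ext hx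
    exact (congrArg (D.ι (Idx.v (m - d))) h2).trans h1
  · have h1 := D.ι_eq_of_le (i := Idx.t m m') (j := Idx.v m) (Idx.t_le_v.2 rfl) x.1 x.2
    refine ⟨m, ?_⟩
    have h2 : (⟨D.π (D.ι (Idx.t m m') x), hp⟩ : ↥D.V) = ⟨x.1, D.hTV _ x.2⟩ := Subtype.ext hx
    exact (congrArg (D.ι (Idx.v m)) h2).trans h1.symm

end Groth.Agent.H2.Gbr
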