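import Mathlib
import Groth.Agent.Lib.Helper2.GbrG

/-! # The glued torsor: étale, surjective, closed, affine; extraction of a splitting. -/

set_option autoImplicit false
set_option linter.style.haveILetI false
set_option linter.unusedVariables false
set_option linter.unusedSectionVars false

universe u

open CategoryTheory CategoryTheory.Limits Opposite AlgebraicGeometry TopologicalSpace

namespace Groth.Agent.H2.Gbr

variable {Y : Scheme.{u}} {M : Type} [AddCommGroup M] (D : TData Y M)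

/-- points over `W` lie in a `W`-chart. -/
lemma TData.exists_w (p : D.P) (hp : D.π p ∈ D.W) :
    ∃ m : M, D.ι (Idx.w m) ⟨D.π p, hp⟩ = p := by
  obtain ⟨j, x, rfl⟩ := D.exists_ι p
  have hx : D.π (D.ι j x) = x.1 := D.π_ι_apply j x
  rcases j with m | m | ⟨m, m'⟩
  · have hxW : x.1 ∈ D.W := hx ▸ hp
    obtain ⟨d, hd⟩ := D.hex x.1 x.2 hxW
    refine ⟨m + d, ?_⟩
    have h1 := D.ι_v_eq_ι_w m (m + d) x.1 (by rwa [add_sub_cancel_left])
    have h2 : (⟨D.π (D.ι (Idx.v m) x), hp⟩ : ↥D.W) = ⟨x.1, hxW⟩ := Subtype.ext hx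
    exact (congrArg (D.ι (Idx.w (m + d))) h2).trans h1.symm
  · refine ⟨m, ?_⟩
    congr 1
    exact Subtype.ext hx
  · have h1 := D.ι_eq_of_le (i := Idx.t m m') (j := Idx.w m') (Idx.t_le_w.2 rfl) x.1 x.2
    refine ⟨m', ?_⟩
    have h2 : (⟨D.π (D.ι (Idx.t m m') x), hp⟩ : ↥D.W) = ⟨x.1, D.hTW _ x.2⟩ := Subtype.ext hx
    exact (congrArg (D.ι (Idx.w m')) h2).trans h1.symm

instance : Surjective D.π := ⟨fun y => by
  rcases D.hcov y with h | h
  · exact ⟨D.ι (Idx.v 0) ⟨y, h⟩, D.π_ι_apply _ _⟩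
  · exact ⟨D.ι (Idx.w 0) ⟨y, h⟩, D.π_ι_apply _ _⟩⟩

instance : Etale D.π := by
  refine (IsZariskiLocalAtSource.iff_of_openCover (P := @Etale) (f := D.π)
    (Scheme.IsLocallyDirected.openCover D.F)).2 fun j => ?_
  change Etale (D.ι j ≫ D.π)
  rw [D.ι_π]
  infer_instance

section aux

variable [Finite M] (O : Y.Opens) (g : M → ((↑O : Scheme.{u}) ⟶ D.P))
  (hg : ∀ (m : M) (x : ↥O), D.π (g m x) = x.1)
  (hex : ∀ (p : D.P) (hp : D.π p ∈ O), ∃ m, g m ⟨D.π p, hp⟩ = p)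

include hg hex in
lemma TData.closed_aux (C : Set D.P) (hC : IsClosed C) :
    IsClosed ((↑) ⁻¹' (D.π '' C) : Set ↥O) := by
  have h : ((↑) ⁻¹' (D.π '' C) : Set ↥O) = ⋃ m, (g m) ⁻¹' C := by
    ext x
    constructor
    · rintro ⟨p, hpC, hpx⟩
      have hp : D.π p ∈ O := hpx ▸ x.2
      obtain ⟨m, hm⟩ := hex p hp
      refine Set.mem_iUnion.2 ⟨m, ?_⟩
      have h2 : (⟨D.π p, hp⟩ : ↥O) = x := Subtype.ext hpx
      change g m x ∈ C
      rw [← h2, hm]
      exact hpC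
    · intro hx
      obtain ⟨m, hm⟩ := Set.mem_iUnion.1 hx
      exact ⟨g m x, hm, hg m x⟩
  rw [h]
  exact isClosed_iUnion_of_finite fun m => hC.preimage (g m).continuous

include hg hex in
lemma TData.affine_aux (hO : IsAffineOpen O) (hgo : ∀ m, IsOpenImmersion (g m))
    (hinj : ∀ (m m' : M) (x y : ↥O), g m x = g m' y → m = m') :
    IsAffineOpen (D.π ⁻¹ᵁ O) := by
  haveI := hgo
  haveI : IsAffine (↑O : Scheme.{u}) := hO
  have hr : ∀ m, Set.range (g m) ⊆ Set.range (D.π ⁻¹ᵁ O).ι := by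
    rintro m _ ⟨x, rfl⟩
    rw [Scheme.Opens.range_ι]
    change D.π (g m x) ∈ O
    rw [hg m x]
    exact x.2
  let f : ∀ m : M, (↑O : Scheme.{u}) ⟶ ↑(D.π ⁻¹ᵁ O) := fun m =>
    IsOpenImmersion.lift (D.π ⁻¹ᵁ O).ι (g m) (hr m)
  have hf : ∀ m, f m ≫ (D.π ⁻¹ᵁ O).ι = g m := fun m => IsOpenImmersion.lift_fac _ _ _
  haveI : ∀ m, IsOpenImmersion (f m) := fun m => by
    haveI : IsOpenImmersion (f m ≫ (D.π ⁻¹ᵁ O).ι) := by rw [hf m]; infer_instance
    exact IsOpenImmersion.of_comp (f m) (D.π ⁻¹ᵁ O).ι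
  have hfx : ∀ m (x : ↥O), (D.π ⁻¹ᵁ O).ι (f m x) = g m x := fun m x => by
    rw [← Scheme.Hom.comp_apply, hf]
  have hinjι : Function.Injective (D.π ⁻¹ᵁ O).ι := (D.π ⁻¹ᵁ O).ι.isOpenEmbedding.injective
  have hcov : ⨆ m, (f m).opensRange = ⊤ := by
    rw [eq_top_iff]
    intro q _
    have hp : D.π ((D.π ⁻¹ᵁ O).ι q) ∈ O := q.2
    obtain ⟨m, hm⟩ := hex _ hp
    simp only [Opens.iSup_mk, Opens.mem_mk, Set.mem_iUnion]
    refine ⟨m, ⟨D.π ((D.π ⁻¹ᵁ O).ι q), hp⟩, ?_⟩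
    apply hinjι
    rw [hfx, hm]
  have hdisj : Pairwise (Function.onFun Disjoint (fun m => (f m).opensRange)) := by
    intro m m' hne
    change Disjoint (f m).opensRange (f m').opensRange
    rw [disjoint_iff]
    ext q
    simp only [Opens.coe_inf, Set.mem_inter_iff, SetLike.mem_coe, Opens.coe_bot,
      Set.mem_empty_iff_false, iff_false, not_and]
    rintro ⟨x, hx⟩ ⟨y, hy⟩
    apply hne
    apply hinj m m' x y
    rw [← hfx, ← hfx]
    exact congrArg _ (hx.trans hy.symm)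
  obtain ⟨hc⟩ := nonempty_isColimit_cofanMk_of f hcov hdisj
  let e : (∐ fun _ : M => (↑O : Scheme.{u})) ≅ ↑(D.π ⁻¹ᵁ O) :=
    (colimit.isColimit _).coconePointUniqueUpToIso hc
  change IsAffine (↑(D.π ⁻¹ᵁ O) : Scheme.{u})
  exact IsAffine.of_isIso e.inv

end aux

lemma TData.isClosedMap_π [Finite M] : IsClosedMap D.π := by
  intro C hC
  have hU : IsOpenCover (fun b : Bool => cond b D.V D.W) := by
    apply IsOpenCover.mk
    rw [eq_top_iff]
    intro y _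
    simp only [Opens.iSup_mk, Opens.mem_mk, Set.mem_iUnion]
    rcases D.hcov y with h | h
    · exact ⟨true, h⟩
    · exact ⟨false, h⟩
  rw [hU.isClosed_iff_coe_preimage]
  intro b
  cases b
  · exact D.closed_aux D.W (fun m => D.ι (Idx.w m)) (fun m x => D.π_ι_apply (Idx.w m) x)
      (fun p hp => D.exists_w p hp) C hC
  · exact D.closed_aux D.V (fun m => D.ι (Idx.v m)) (fun m x => D.π_ι_apply (Idx.v m) x)
      (fun p hp => D.exists_v p hp) C hC

lemma TData.isAffineHom_π [Finite M] (hV : IsAffineOpen D.V) (hW : IsAffineOpen D.W) :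
    IsAffineHom D.π := by
  apply isAffineHom_of_forall_exists_isAffineOpen
  intro y
  rcases D.hcov y with h | h
  · refine ⟨D.V, h, hV, ?_⟩
    exact D.affine_aux D.V (fun m => D.ι (Idx.v m)) (fun m x => D.π_ι_apply (Idx.v m) x)
      (fun p hp => D.exists_v p hp) hV
      (fun m => inferInstanceAs (IsOpenImmersion (D.ι (Idx.v m))))
      (fun m m' x y h => D.ι_v_inj h)
  · refine ⟨D.W, h, hW, ?_⟩
    exact D.affine_aux D.W (fun m => D.ι (Idx.w m)) (fun m x => D.π_ι_apply (Idx.w m) x)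
      (fun p hp => D.exists_w p hp) hW
      (fun m => inferInstanceAs (IsOpenImmersion (D.ι (Idx.w m))))
      (fun m m' x y h => D.ι_w_inj h)

/-- a section of the torsor gives a splitting of the cocycle. -/
theorem TData.exists_ab (σ : Y ⟶ D.P) (hσ : σ ≫ D.π = 𝟙 Y) :
    ∃ (a : ↥D.V → M) (b : ↥D.W → M), IsLocallyConstant a ∧ IsLocallyConstant b ∧
      ∀ (y : Y) (d : M) (hy : y ∈ D.T d), b ⟨y, D.hTW d hy⟩ - a ⟨y, D.hTV d hy⟩ = d := by
  have hπσ : ∀ y : Y, D.π (σ y) = y := fun y => by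
    rw [← Scheme.Hom.comp_apply, hσ]; rfl
  have hV : ∀ x : ↥D.V, ∃ m : M, D.ι (Idx.v m) x = σ x.1 := by
    intro x
    have hp : D.π (σ x.1) ∈ D.V := (hπσ x.1).symm ▸ x.2
    obtain ⟨m, hm⟩ := D.exists_v (σ x.1) hp
    refine ⟨m, ?_⟩
    have h2 : (⟨D.π (σ x.1), hp⟩ : ↥D.V) = x := Subtype.ext (hπσ x.1)
    exact (congrArg (D.ι (Idx.v m)) h2).symm.trans hm
  have hW : ∀ x : ↥D.W, ∃ m : M, D.ι (Idx.w m) x = σ x.1 := by
    intro x
    have hp : D.π (σ x.1) ∈ D.W := (hπσ x.1).symm ▸ x.2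
    obtain ⟨m, hm⟩ := D.exists_w (σ x.1) hp
    refine ⟨m, ?_⟩
    have h2 : (⟨D.π (σ x.1), hp⟩ : ↥D.W) = x := Subtype.ext (hπσ x.1)
    exact (congrArg (D.ι (Idx.w m)) h2).symm.trans hm
  choose a ha using hV
  choose b hb using hW
  refine ⟨a, b, ?_, ?_, ?_⟩
  · rw [IsLocallyConstant.iff_isOpen_fiber]
    intro m
    have h : a ⁻¹' {m} = (fun x : ↥D.V => σ x.1) ⁻¹' Set.range (D.ι (Idx.v m)) := by
      ext x
      simp only [Set.mem_preimage, Set.mem_singleton_iff, Set.mem_range]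
      constructor
      · rintro rfl
        exact ⟨x, ha x⟩
      · rintro ⟨z, hz⟩
        exact D.ι_v_inj ((ha x).trans hz.symm)
    rw [h]
    exact (D.ι (Idx.v m)).isOpenEmbedding.isOpen_range.preimage
      (σ.continuous.comp continuous_subtype_val)
  · rw [IsLocallyConstant.iff_isOpen_fiber]
    intro m
    have h : b ⁻¹' {m} = (fun x : ↥D.W => σ x.1) ⁻¹' Set.range (D.ι (Idx.w m)) := by
      ext x
      simp only [Set.mem_preimage, Set.mem_singleton_iff, Set.mem_range]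
      constructor
      · rintro rfl
        exact ⟨x, hb x⟩
      · rintro ⟨z, hz⟩
        exact D.ι_w_inj ((hb x).trans hz.symm)
    rw [h]
    exact (D.ι (Idx.w m)).isOpenEmbedding.isOpen_range.preimage
      (σ.continuous.comp continuous_subtype_val)
  · intro y d hy
    have h1 := ha ⟨y, D.hTV d hy⟩
    have h2 := hb ⟨y, D.hTW d hy⟩
    have h3 := D.ι_v_eq_ι_w (a ⟨y, D.hTV d hy⟩) (a ⟨y, D.hTV d hy⟩ + d) y
      (by rwa [add_sub_cancel_left])
    have h4 : b ⟨y, D.hTW d hy⟩ = a ⟨y, D.hTV d hy⟩ + d :=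
      D.ι_w_inj (h2.trans (h1.symm.trans h3))
    rw [h4, add_sub_cancel_left]

end Groth.Agent.H2.Gbr
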