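import Mathlib
import Groth.Agent.Lib.Helper2.GbrH
import Groth.Agent.Lib.Helper2.GbrE
import Groth.Agent.Lib.Helper6.EtNormE

/-! # Splitting cocycles on closed subschemes of normal schemes with separably closed function
field. -/

set_option autoImplicit false
set_option linter.style.haveILetI false
set_option linter.unusedVariables false
set_option linter.unusedSectionVars false

universe u

open CategoryTheory CategoryTheory.Limits Opposite AlgebraicGeometry TopologicalSpace

namespace Groth.Agent.H2.Gbr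

/-- the torsor over a closed subscheme splits. -/
theorem split_of_closed {Z X : Scheme.{u}} [IsAffine X] [IsIntegral X]
    (hN : ∀ x : X, IsIntegrallyClosed (X.presheaf.stalk x)) [IsSepClosed X.functionField]
    (i : Z ⟶ X) [IsClosedImmersion i] {M : Type} [AddCommGroup M] [Finite M] (D : TData Z M)
    (hV : IsAffineOpen D.V) (hW : IsAffineOpen D.W) :
    ∃ (a : ↥D.V → M) (b : ↥D.W → M), IsLocallyConstant a ∧ IsLocallyConstant b ∧
      ∀ (y : Z) (d : M) (hy : y ∈ D.T d), b ⟨y, D.hTW d hy⟩ - a ⟨y, D.hTV d hy⟩ = d := by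
  haveI hZ : IsAffine Z := isAffine_of_isAffineHom i
  haveI := D.isAffineHom_π hV hW
  haveI : IsAffine D.P := isAffine_of_isAffineHom D.π
  obtain ⟨ι, hfin, W', e, he⟩ := Groth.Agent.H6.EtNorm.exists_iso_sigma_opens_of_closed hN i D.π
  obtain ⟨σ, hσ⟩ := Groth.Agent.H6.EtNorm.exists_section_of_sigma_opens D.π D.isClosedMap_π
    ι W' e he
  exact D.exists_ab σ hσ

lemma isSepClosed_functionField_opens {X : Scheme.{u}} [IsIntegral X] (U : X.Opens)
    [Nonempty U] [IsSepClosed X.functionField] :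
    IsSepClosed (↑U : Scheme.{u}).functionField := by
  have h : U.ι (genericPoint ↥(↑U : Scheme.{u})) = genericPoint X :=
    genericPoint_eq_of_isOpenImmersion U.ι
  have e1 : Nonempty (X.presheaf.stalk (genericPoint X) ≃+*
      X.presheaf.stalk (U.ι (genericPoint ↥(↑U : Scheme.{u})))) := by
    rw [h]
    exact ⟨RingEquiv.refl _⟩
  obtain ⟨e1⟩ := e1
  let e2 : X.presheaf.stalk (U.ι (genericPoint ↥(↑U : Scheme.{u}))) ≃+*
      (↑U : Scheme.{u}).presheaf.stalk (genericPoint ↥(↑U : Scheme.{u})) :=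
    (asIso (U.ι.stalkMap (genericPoint ↥(↑U : Scheme.{u})))).commRingCatIsoToRingEquiv
  exact isSepClosed_of_ringEquiv (k := X.functionField) (k' := (↑U : Scheme.{u}).functionField)
    (e1.trans e2)

lemma isIntegrallyClosed_stalk_opens {X : Scheme.{u}} (U : X.Opens)
    (hN : ∀ x : X, IsIntegrallyClosed (X.presheaf.stalk x)) (x : (↑U : Scheme.{u})) :
    IsIntegrallyClosed ((↑U : Scheme.{u}).presheaf.stalk x) := by
  haveI := hN (U.ι x)
  exact IsIntegrallyClosed.of_equiv
    (asIso (U.ι.stalkMap x)).commRingCatIsoToRingEquiv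

/-- the same over an affine open of the ambient scheme. -/
theorem split_of_closed_restrict {Z X : Scheme.{u}} [IsAffine X] [IsIntegral X]
    (hN : ∀ x : X, IsIntegrallyClosed (X.presheaf.stalk x)) [IsSepClosed X.functionField]
    (i : Z ⟶ X) [IsClosedImmersion i] (X₀ : X.Opens) (hX₀ : IsAffineOpen X₀)
    {M : Type} [AddCommGroup M] [Finite M] (D : TData (↑(i ⁻¹ᵁ X₀) : Scheme.{u}) M)
    (hV : IsAffineOpen D.V) (hW : IsAffineOpen D.W) :
    ∃ (a : ↥D.V → M) (b : ↥D.W → M), IsLocallyConstant a ∧ IsLocallyConstant b ∧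
      ∀ (y : (↑(i ⁻¹ᵁ X₀) : Scheme.{u})) (d : M) (hy : y ∈ D.T d),
        b ⟨y, D.hTW d hy⟩ - a ⟨y, D.hTV d hy⟩ = d := by
  by_cases hne : Nonempty ↥X₀
  · haveI := hne
    haveI : IsAffine (↑X₀ : Scheme.{u}) := hX₀
    haveI : Nonempty ↥(↑X₀ : Scheme.{u}) := hne
    haveI : IsIntegral (↑X₀ : Scheme.{u}) := isIntegral_of_isOpenImmersion X₀.ι
    haveI := isSepClosed_functionField_opens X₀
    exact split_of_closed (isIntegrallyClosed_stalk_opens X₀ hN) (i ∣_ X₀) D hV hW
  · refine ⟨fun _ => 0, fun _ => 0, IsLocallyConstant.const 0, IsLocallyConstant.const 0, ?_⟩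
    intro y
    exact (hne ⟨⟨i y.1, y.2⟩⟩).elim

end Groth.Agent.H2.Gbr
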