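import Mathlib
import Groth.Agent.Lib.Helper2.GbrL

/-! # Splitting locally constant cocycles on two opens of a closed subscheme. -/

set_option autoImplicit false
set_option linter.style.haveILetI false
set_option linter.unusedVariables false
set_option linter.unusedSectionVars false

universe u

open CategoryTheory CategoryTheory.Limits Opposite AlgebraicGeometry TopologicalSpace

namespace Groth.Agent.H2.Gbr

/-- the gluing data on `↑U₀` attached to a locally constant function on `V ⊓ W`. -/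
def mkTData {S : Scheme.{u}} {U₀ V W : S.Opens} (hV : V ≤ U₀) (hW : W ≤ U₀) (hcov : U₀ ≤ V ⊔ W)
    {M : Type} (s : ↥(V ⊓ W) → M) (hs : IsLocallyConstant s) : TData (↑U₀ : Scheme.{u}) M where
  V := U₀.ι ⁻¹ᵁ V
  W := U₀.ι ⁻¹ᵁ W
  T d := U₀.ι ⁻¹ᵁ ⟨Subtype.val '' (s ⁻¹' {d}),
    (V ⊓ W).isOpen.isOpenMap_subtype_val _ (hs.isOpen_fiber d)⟩
  hTV d := by
    rintro x ⟨y, hy, hyx⟩
    change U₀.ι x ∈ V
    rw [← hyx]
    exact y.2.1
  hTW d := by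
    rintro x ⟨y, hy, hyx⟩
    change U₀.ι x ∈ W
    rw [← hyx]
    exact y.2.2
  huniq d d' x := by
    rintro ⟨y₁, h₁, e₁⟩ ⟨y₂, h₂, e₂⟩
    have h12 : y₁ = y₂ := Subtype.ext (e₁.trans e₂.symm)
    have h₁' : s y₁ = d := h₁
    have h₂' : s y₂ = d' := h₂
    rw [← h₁', ← h₂', h12]
  hex x hxV hxW := ⟨s ⟨U₀.ι x, hxV, hxW⟩, ⟨⟨U₀.ι x, hxV, hxW⟩, rfl, rfl⟩⟩
  hcov x := by
    have hx : x.1 ∈ V ⊔ W := hcov x.2
    rcases hx with hx | hx
    · exact Or.inl hx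
    · exact Or.inr hx

/-- **(T)**: cocycles of a finite constant sheaf on two affine opens of (an open piece of) a
closed subscheme split. -/
theorem lc_split {Z X : Scheme.{u}} [IsAffine X] [IsIntegral X]
    (hN : ∀ x : X, IsIntegrallyClosed (X.presheaf.stalk x)) [IsSepClosed X.functionField]
    (i : Z ⟶ X) [IsClosedImmersion i] (X₀ : X.Opens) (hX₀ : IsAffineOpen X₀)
    {M : Type} [AddCommGroup M] [Finite M]
    {V W : Z.Opens} (hV : V ≤ i ⁻¹ᵁ X₀) (hW : W ≤ i ⁻¹ᵁ X₀) (hcov : i ⁻¹ᵁ X₀ ≤ V ⊔ W)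
    (hVa : IsAffineOpen V) (hWa : IsAffineOpen W)
    (s : ↥(V ⊓ W) → M) (hs : IsLocallyConstant s) :
    ∃ (a : ↥V → M) (b : ↥W → M), IsLocallyConstant a ∧ IsLocallyConstant b ∧
      ∀ (y : Z) (hy : y ∈ V ⊓ W), s ⟨y, hy⟩ = a ⟨y, hy.1⟩ - b ⟨y, hy.2⟩ := by
  let D := mkTData hV hW hcov s hs
  have hVa' : IsAffineOpen D.V :=
    hVa.preimage_of_isOpenImmersion (i ⁻¹ᵁ X₀).ι (by rw [Scheme.Opens.opensRange_ι]; exact hV)
  have hWa' : IsAffineOpen D.W :=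
    hWa.preimage_of_isOpenImmersion (i ⁻¹ᵁ X₀).ι (by rw [Scheme.Opens.opensRange_ι]; exact hW)
  obtain ⟨a₀, b₀, ha, hb, hab⟩ := split_of_closed_restrict hN i X₀ hX₀ D hVa' hWa'
  let fV : ↥V → ↥D.V := fun y => ⟨⟨y.1, hV y.2⟩, y.2⟩
  let fW : ↥W → ↥D.W := fun y => ⟨⟨y.1, hW y.2⟩, y.2⟩
  have hfV : Continuous fV :=
    Continuous.subtype_mk (Continuous.subtype_mk continuous_subtype_val _) _
  have hfW : Continuous fW :=
    Continuous.subtype_mk (Continuous.subtype_mk continuous_subtype_val _) _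
  refine ⟨fun y => - a₀ (fV y), fun y => - b₀ (fW y),
    (ha.comp_continuous hfV).comp Neg.neg, (hb.comp_continuous hfW).comp Neg.neg, ?_⟩
  intro y hy
  let y₀ : (↑(i ⁻¹ᵁ X₀) : Scheme.{u}) := ⟨y, hV hy.1⟩
  have hy₀ : y₀ ∈ D.T (s ⟨y, hy⟩) := ⟨⟨y, hy⟩, rfl, rfl⟩
  have h := hab y₀ (s ⟨y, hy⟩) hy₀
  change s ⟨y, hy⟩ = - a₀ ⟨y₀, _⟩ - - b₀ ⟨y₀, _⟩
  rw [← h]
  abel

end Groth.Agent.H2.Gbr
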