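import Mathlib
import Groth.Agent.Lib.Helper2.GbrJ
import Groth.Agent.Lib.Helper2.GbrK
import Groth.Agent.Lib.Helper2.GbrM
import Groth.Agent.Lib.Helper2.HpullE
import Groth.Agent.Lib.Helper8.Hens.QuotHens
import Groth.Agent.S0090

/-! # Vanishing of the cohomology of finite constant sheaves on closed subschemes of affine normal
schemes with separably closed function field. -/

set_option autoImplicit false
set_option linter.style.haveILetI false
set_option linter.unusedVariables false
set_option linter.unusedSectionVars false

universe u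

open CategoryTheory CategoryTheory.Limits Opposite AlgebraicGeometry TopologicalSpace

namespace Groth.Agent.H2.Gbr

theorem isStrictlyHenselian_of_surjective {A B : Type u} [CommRing A] [CommRing B]
    [IsLocalRing B] (f : A →+* B) (hf : Function.Surjective f)
    (hA : EtCoh.IsStrictlyHenselianLocalRing A) : EtCoh.IsStrictlyHenselianLocalRing B := by
  obtain ⟨hH, hC⟩ := hA
  haveI := hH
  haveI := hC
  let J := RingHom.ker f
  let e : A ⧸ J ≃+* B := RingHom.quotientKerEquivOfSurjective hf
  haveI : IsLocalRing (A ⧸ J) := e.symm.isLocalRing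
  haveI : HenselianLocalRing (A ⧸ J) := Groth.Agent.H8.Hens.henselianLocalRing_quotient J
  haveI hloc : IsLocalHom (Ideal.Quotient.mk J) :=
    .of_surjective _ Ideal.Quotient.mk_surjective
  have hsurj : Function.Surjective (IsLocalRing.ResidueField.map (Ideal.Quotient.mk J)) := by
    intro y
    obtain ⟨b, rfl⟩ := IsLocalRing.residue_surjective y
    obtain ⟨a, rfl⟩ := Ideal.Quotient.mk_surjective b
    exact ⟨IsLocalRing.residue A a, IsLocalRing.ResidueField.map_residue _ a⟩
  let ek : IsLocalRing.ResidueField A ≃+* IsLocalRing.ResidueField (A ⧸ J) :=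
    RingEquiv.ofBijective _ ⟨RingHom.injective _, hsurj⟩
  haveI : IsSepClosed (IsLocalRing.ResidueField (A ⧸ J)) := isSepClosed_of_ringEquiv ek
  exact isStrictlyHenselian_of_ringEquiv e ⟨inferInstance, inferInstance⟩

set_option backward.isDefEq.respectTransparency.types false in
/-- the affine case `Z = Spec R`. -/
theorem const_vanish_spec (R : CommRingCat.{u}) {X : Scheme.{u}} [IsAffine X] [IsIntegral X]
    (hN : ∀ x : X, IsIntegrallyClosed (X.presheaf.stalk x)) [IsSepClosed X.functionField]
    (i : Spec R ⟶ X) [IsClosedImmersion i] (M : Type) [AddCommGroup M] [Finite M] (q : ℕ) :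
    Subsingleton (EtCoh.H (Spec R) (EtCoh.const (Spec R) M) (q + 1)) := by
  apply gabber R
  · intro s
    have h0 := Groth.Agent.S0090.result X hN (i s)
    exact isStrictlyHenselian_of_surjective (i.stalkMap s).hom (i.stalkMap_surjective s) h0
  · intro f g ξ h1 h2
    obtain ⟨r, hr⟩ := (IsClosedImmersion.isAffine_surjective_of_isAffine i).2 (f + g)
    have hX₀ : IsAffineOpen (X.basicOpen r) := (isAffineOpen_top X).basicOpen r
    have hpre : i ⁻¹ᵁ X.basicOpen r = D (X := Spec R) (f + g) := by
      rw [Scheme.preimage_basicOpen_top]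
      exact congrArg (Spec R).basicOpen hr
    refine hk_of_sec_surj (EtCoh.const (Spec R) M) (D_mul_le_right f (f + g))
      (D_mul_le_right g (f + g)) (D_add_cover f g) ?_ ξ h1 h2
    apply const_sec_surj (Spec R) M
    intro s hs
    exact lc_split hN i (X.basicOpen r) hX₀ (hpre ▸ D_mul_le_right f (f + g))
      (hpre ▸ D_mul_le_right g (f + g)) (hpre ▸ D_add_cover f g)
      ((isAffineOpen_top (Spec R)).basicOpen _) ((isAffineOpen_top (Spec R)).basicOpen _) s hs

end Groth.Agent.H2.Gbr
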