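import Mathlib
import Groth.Agent.Lib.Helper2.GbrN

/-! # Gabber: vanishing for closed subschemes (general closed immersion). -/

set_option autoImplicit false
set_option linter.style.haveILetI false
set_option linter.unusedVariables false
set_option linter.unusedSectionVars false

universe u

open CategoryTheory CategoryTheory.Limits Opposite AlgebraicGeometry TopologicalSpace

namespace Groth.Agent.H2.Gbr

lemma HF_map_iso_inj {X : Scheme.{u}} {A B : EtCoh.Ab X} (i : A ≅ B) (p : ℕ)
    (y y' : EtCoh.H X A p)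
    (h : ((EtCoh.HF X p).map i.hom).hom y = ((EtCoh.HF X p).map i.hom).hom y') : y = y' := by
  have e : ∀ t : EtCoh.H X A p,
      ((EtCoh.HF X p).map i.inv).hom (((EtCoh.HF X p).map i.hom).hom t) = t := by
    intro t
    change ((EtCoh.HF X p).map i.hom ≫ (EtCoh.HF X p).map i.inv).hom t = t
    rw [← Functor.map_comp, i.hom_inv_id, CategoryTheory.Functor.map_id]
    rfl
  have h2 := congrArg ((EtCoh.HF X p).map i.inv).hom h
  exact (e y).symm.trans (h2.trans (e y'))

theorem const_vanish {Z X : Scheme.{u}} [IsAffine X] [IsIntegral X]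
    (hN : ∀ x : X, IsIntegrallyClosed (X.presheaf.stalk x)) [IsSepClosed X.functionField]
    (i : Z ⟶ X) [IsClosedImmersion i] (M : Type) [AddCommGroup M] [Finite M] (q : ℕ) :
    Subsingleton (EtCoh.H Z (EtCoh.const Z M) (q + 1)) := by
  haveI : IsAffine Z := isAffine_of_isAffineHom i
  let ε : Spec Γ(Z, ⊤) ⟶ Z := Z.isoSpec.inv
  have hsub := const_vanish_spec Γ(Z, ⊤) hN (ε ≫ i) M q
  refine ⟨fun x y => ?_⟩
  apply (Groth.Agent.H2.HpullA.Hpull_bijective_of_isIso ε (EtCoh.const Z M) (q + 1)).1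
  apply HF_map_iso_inj (EtCore.pullConst ε M) (q + 1)
  exact @Subsingleton.elim (EtCoh.H (Spec Γ(Z, ⊤)) (EtCoh.const (Spec Γ(Z, ⊤)) M) (q + 1)) hsub _ _

end Groth.Agent.H2.Gbr
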