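import Mathlib
import Groth.Agent.Lib.Helper2.GbrO

/-! # Every affine scheme is dominated (integrally, surjectively) by a scheme whose closed
subschemes have no higher cohomology with finite constant coefficients. -/

set_option autoImplicit false
set_option linter.style.haveILetI false
set_option linter.unusedVariables false
set_option linter.unusedSectionVars false

universe u

open CategoryTheory CategoryTheory.Limits Opposite AlgebraicGeometry TopologicalSpace

namespace Groth.Agent.H2.Gbr

section ring

variable (P : Type u) [CommRing P] [IsDomain P]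

/-- the integral closure of a domain in an algebraic closure of its fraction field. -/
abbrev AIC : Type u := integralClosure P (AlgebraicClosure (FractionRing P))

instance : Algebra.IsAlgebraic P (AlgebraicClosure (FractionRing P)) :=
  IsFractionRing.comap_isAlgebraic_iff.mpr
    (inferInstance : Algebra.IsAlgebraic (FractionRing P) (AlgebraicClosure (FractionRing P)))

lemma algebraMap_aic_injective_aux (x : P)
    (hx : algebraMap P (AlgebraicClosure (FractionRing P)) x = 0) : x = 0 := by
  rw [IsScalarTower.algebraMap_apply P (FractionRing P) (AlgebraicClosure (FractionRing P))] at hx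
  exact IsFractionRing.to_map_eq_zero_iff.mp ((map_eq_zero _).mp hx)

instance aic_isFractionRing : IsFractionRing (AIC P) (AlgebraicClosure (FractionRing P)) :=
  integralClosure.isFractionRing_of_algebraic (algebraMap_aic_injective_aux P)

instance aic_isIntegrallyClosed : IsIntegrallyClosed (AIC P) :=
  (isIntegrallyClosed_iff_isIntegrallyClosedIn (AlgebraicClosure (FractionRing P))).2
    inferInstance

lemma algebraMap_aic_injective : Function.Injective (algebraMap P (AIC P)) := by
  rw [injective_iff_map_eq_zero]
  intro x hx
  apply algebraMap_aic_injective_aux P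
  rw [IsScalarTower.algebraMap_apply P (AIC P) (AlgebraicClosure (FractionRing P)), hx, map_zero]

end ring

lemma isSepClosed_functionField_spec (R : CommRingCat.{u}) [IsDomain R] (L : Type u) [Field L]
    [Algebra R L] [IsFractionRing R L] [IsSepClosed L] : IsSepClosed (Spec R).functionField := by
  let e : L ≃ₐ[R] (Spec R).functionField := IsLocalization.algEquiv (nonZeroDivisors R) _ _
  exact isSepClosed_of_ringEquiv (k := L) (k' := (Spec R).functionField) e.toRingEquiv

section scheme

variable (P : Type u) [CommRing P] [IsDomain P]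

/-- `Spec` of the absolute integral closure. -/
noncomputable abbrev SR : Scheme.{u} := Spec (CommRingCat.of (AIC P))

lemma stalk_integrallyClosed (x : SR P) : IsIntegrallyClosed ((SR P).presheaf.stalk x) := by
  haveI : IsIntegrallyClosed (Localization.AtPrime x.asIdeal) :=
    isIntegrallyClosed_of_isLocalization (Localization.AtPrime x.asIdeal) x.asIdeal.primeCompl
      (Ideal.primeCompl_le_nonZeroDivisors _)
  exact IsIntegrallyClosed.of_equiv (StructureSheaf.stalkIso (AIC P) x).toRingEquiv

instance sr_isSepClosed : IsSepClosed (SR P).functionField :=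
  isSepClosed_functionField_spec (CommRingCat.of (AIC P)) (AlgebraicClosure (FractionRing P))

end scheme

/-- **S0093**. -/
theorem exists_cover (X : Scheme.{u}) [IsAffine X] :
    ∃ (X' : Scheme.{u}) (π : X' ⟶ X) (_ : IsIntegralHom π) (_ : Surjective π),
      ∀ (Z' : Scheme.{u}) (i : Z' ⟶ X') (_ : IsClosedImmersion i)
        (M : Type) (_ : AddCommGroup M) (_ : Finite M) (q : ℕ), 1 ≤ q →
        Subsingleton (EtCoh.H Z' (EtCoh.const Z' M) q) := by
  let A : CommRingCat.{u} := Γ(X, ⊤)
  let P := MvPolynomial A ℤ
  let φ : P →+* A := MvPolynomial.eval₂Hom (Int.castRingHom A) (fun a : A => a)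
  have hφ : Function.Surjective φ := fun a => ⟨MvPolynomial.X a, MvPolynomial.eval₂Hom_X' _ _ a⟩
  let ψ : P →+* AIC P := algebraMap P (AIC P)
  let fφ : Spec A ⟶ Spec (CommRingCat.of P) := Spec.map (CommRingCat.ofHom φ)
  let fψ : SR P ⟶ Spec (CommRingCat.of P) := Spec.map (CommRingCat.ofHom ψ)
  haveI : IsClosedImmersion fφ := IsClosedImmersion.spec_of_surjective _ hφ
  haveI : IsIntegralHom fψ :=
    IsIntegralHom.SpecMap_iff.2 (algebraMap_isIntegral_iff.2 inferInstance)
  haveI : FaithfulSMul P (AIC P) :=
    (faithfulSMul_iff_algebraMap_injective P (AIC P)).mpr (algebraMap_aic_injective P)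
  haveI : Surjective fψ := ⟨by
    intro x
    obtain ⟨y, hy⟩ := Algebra.IsIntegral.comap_surjective P (AIC P) x
    exact ⟨y, hy⟩⟩
  refine ⟨pullback fφ fψ, pullback.fst fφ fψ ≫ X.isoSpec.inv, inferInstance, inferInstance, ?_⟩
  intro Z' i hi M _ _ q hq
  obtain ⟨q, rfl⟩ : ∃ q', q = q' + 1 := ⟨q - 1, by omega⟩
  exact const_vanish (X := SR P) (stalk_integrallyClosed P) (i ≫ pullback.snd fφ fψ) M q

end Groth.Agent.H2.Gbr
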