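import Mathlib
import Groth.Agent.Lib.Lead.QC.Epi
import Groth.Agent.Lib.Lead.QC.Stalk

/-!
# Sections of a module generated by finitely many sections are locally combinations of them
(helper2)
-/

set_option autoImplicit false
universe u
open CategoryTheory Limits AlgebraicGeometry TopologicalSpace Opposite

namespace Groth.Agent.H2.GenComb

open Groth.Agent.LD.QC

variable {Y : Scheme.{u}}

/-- the structure sheaf as a module -/
noncomputable abbrev unitM (Y : Scheme.{u}) : Y.Modules := SheafOfModules.unit Y.ringCatSheaf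

/-- the free module on `I` -/
noncomputable abbrev freeM (Y : Scheme.{u}) (I : Type u) : Y.Modules :=
  SheafOfModules.free (R := Y.ringCatSheaf) I

/-- the inclusions -/
noncomputable abbrev inc (Y : Scheme.{u}) {I : Type u} (i : I) : unitM Y ⟶ freeM Y I :=
  SheafOfModules.ιFree (R := Y.ringCatSheaf) i

/-- the `i`-th coordinate projection `free I ⟶ unit`. -/
noncomputable def proj (Y : Scheme.{u}) (I : Type u) [DecidableEq I] (i : I) : freeM Y I ⟶ unitM Y :=
  Sigma.desc (f := fun _ : I => unitM Y)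
    (fun j => (if j = i then 𝟙 (unitM Y) else 0 : unitM Y ⟶ unitM Y))

lemma ι_proj (I : Type u) [DecidableEq I] (i j : I) :
    inc Y j ≫ proj Y I i = if j = i then 𝟙 _ else 0 :=
  Sigma.ι_desc (f := fun _ : I => unitM Y)
    (fun j => (if j = i then 𝟙 (unitM Y) else 0 : unitM Y ⟶ unitM Y)) j

theorem id_eq_sum (I : Type u) [DecidableEq I] [Fintype I] :
    𝟙 (freeM Y I) = ∑ i, proj Y I i ≫ inc Y i := by
  apply Sigma.hom_ext (f := fun _ : I => unitM Y)
  intro j
  change inc Y j ≫ _ = inc Y j ≫ _
  rw [Category.comp_id, Preadditive.comp_sum]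
  rw [Finset.sum_eq_single j]
  · rw [← Category.assoc, ι_proj, if_pos rfl, Category.id_comp]
  · intro i _ hij
    rw [← Category.assoc, ι_proj, if_neg (Ne.symm hij), zero_comp]
  · intro h
    exact absurd (Finset.mem_univ j) h

lemma sum_app {M N : Y.Modules} {ι : Type*} (s : Finset ι) (φ : ι → (M ⟶ N)) (U : Y.Opens)
    (c : Γ(M, U)) : (∑ i ∈ s, φ i).app U c = ∑ i ∈ s, (φ i).app U c := by
  classical
  induction s using Finset.induction_on with
  | empty => simp
  | insert a s ha ih =>
    rw [Finset.sum_insert ha, Finset.sum_insert ha, ← ih]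
    rfl

/-- a morphism out of the structure sheaf acts by multiplying the corresponding section -/
lemma unitHom_app {N : Y.Modules} (s : SheafOfModules.sections N) (W : Y.Opens)
    (r : Γ(Y, W)) :
    Scheme.Modules.Hom.app (M := unitM Y) ((SheafOfModules.unitHomEquiv N).symm s) W r =
      r • (show Γ(N, W) from s.1 (op W)) := by
  set ψ : unitM Y ⟶ N := (SheafOfModules.unitHomEquiv N).symm s with hψ
  have h1 : ((SheafOfModules.unitHomEquiv N) ψ).val (op W) = ψ.app W (1 : Γ(Y, W)) := rfl
  have h2 : (SheafOfModules.unitHomEquiv N) ψ = s := Equiv.apply_symm_apply _ _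
  rw [h2] at h1
  have h3 : ψ.app W r = ψ.app W (r • (1 : Γ(Y, W))) := by
    congr 1
    exact (mul_one r).symm
  rw [h3]
  have h4 : ψ.app W (r • (1 : Γ(Y, W))) = r • ψ.app W (1 : Γ(Y, W)) :=
    (ψ.val.app (op W)).hom.map_smul r (1 : Γ(Y, W))
  rw [h4, ← h1]

/-- **sections of a module with finitely many generating sections are locally linear
combinations of the generating sections** -/
theorem exists_local_comb (N : Y.Modules) (σ : N.GeneratingSections) [Fintype σ.I]
    (V : Y.Opens) (m : Γ(N, V)) (y : Y) (hy : y ∈ V) :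
    ∃ (W : Y.Opens) (hW : W ≤ V), y ∈ W ∧ ∃ r : σ.I → Γ(Y, W),
      N.presheaf.map (homOfLE hW).op m =
        ∑ i, r i • (show Γ(N, W) from (σ.s i).1 (op W)) := by
  classical
  let π : freeM Y σ.I ⟶ N := σ.π
  obtain ⟨W, hW, hyW, c, hc⟩ := exists_local_lift π σ.epi V m y hy
  refine ⟨W, hW, hyW, fun i => (proj Y σ.I i).app W c, ?_⟩
  rw [← hc]
  have h1 : c = (∑ i, proj Y σ.I i ≫ inc Y i).app W c := by
    rw [← id_eq_sum]
    rfl
  conv_lhs => rw [h1]
  rw [sum_app, map_sum]
  refine Finset.sum_congr rfl fun i _ => ?_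
  have h2 : inc Y i ≫ π = (SheafOfModules.unitHomEquiv N).symm (σ.s i) := by
    change SheafOfModules.ιFree i ≫ σ.π = _
    rw [← SheafOfModules.unitHomEquiv_symm_freeHomEquiv_apply]
    congr 1
    change N.freeHomEquiv (N.freeHomEquiv.symm σ.s) i = σ.s i
    rw [Equiv.apply_symm_apply]
  rw [← unitHom_app, ← h2]
  rfl

end Groth.Agent.H2.GenComb
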