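import Mathlib
import Groth.Prelude.Def_EtBase
import Groth.Agent.Lib.Helper2.StalkLCE
import Groth.Agent.Lib.Helper2.SmEtSheafA

set_option autoImplicit false
set_option linter.style.haveILetI false
set_option linter.unusedSectionVars false
universe u

open CategoryTheory CategoryTheory.Limits Opposite TopologicalSpace AlgebraicGeometry

namespace Groth.Agent.H2.GenConst

open Groth.Agent.H2.SmEtSheaf

variable {T : Scheme.{u}}

/-- Lift a fibre point of a geometric point along an étale map at a prescribed point. -/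
theorem exists_fiber_lift {Ω : Type u} [Field Ω] [IsSepClosed Ω] (η : Spec (CommRingCat.of Ω) ⟶ T)
    {V W : T.Etale} (f : V ⟶ W) (p : (Scheme.pointSmallEtale η).fiber.obj W) (v : V.left)
    (hv : f.left v = p.left (default : ↥(Spec (CommRingCat.of Ω)))) :
    ∃ p' : (Scheme.pointSmallEtale η).fiber.obj V,
      (Scheme.pointSmallEtale η).fiber.map f p' = p ∧
        p'.left (default : ↥(Spec (CommRingCat.of Ω))) = v := by
  obtain ⟨pl, hpl⟩ : ∃ pl : Spec (.of Ω) ⟶ W.left, pl = p.left := ⟨_, rfl⟩
  have hplw : pl ≫ W.hom = η := hpl ▸ Over.w p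
  obtain ⟨l, hl1, hl2⟩ := Scheme.exists_fac_of_etale_of_isSepClosed f.left pl v (hpl ▸ hv)
  have hfw : f.left ≫ W.hom = V.hom := MorphismProperty.Over.w f
  have hw : l ≫ V.hom = η := by
    rw [← hfw, ← Category.assoc, hl1, hplw]
  have key : ∃ xo : Over.mk η ⟶ (Scheme.Etale.forget T).obj V, xo.left = l :=
    ⟨Over.homMk l hw, rfl⟩
  obtain ⟨xo, hxo⟩ := key
  refine ⟨xo, ?_, ?_⟩
  · apply Over.OverMorphism.ext
    change xo.left ≫ f.left = p.left
    exact (congrArg (fun m => m ≫ f.left) hxo).trans (hl1.trans hpl)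
  · exact (congrArg (fun m : Spec (.of Ω) ⟶ V.left => m default) hxo).trans hl2

/-- Jointly surjective sieves are covering in the slice of the small étale site. -/
theorem mem_over_of_surj (W : T.Etale) (V : Over W) (S : Sieve V)
    (h : ∀ v : V.left.left, ∃ (V' : Over W) (f : V' ⟶ V) (v' : V'.left.left),
      S f ∧ f.left.left v' = v) :
    S ∈ (T.smallEtaleTopology.over W) V := by
  rw [GrothendieckTopology.mem_over_iff, mem_Jet_iff]
  intro x
  obtain ⟨V', f, v', hf, hv⟩ := h x
  refine ⟨V'.left, f.left, v', ?_, hv⟩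
  rw [Sieve.overEquiv_iff]
  have e : (Over.homMk f.left rfl : Over.mk (f.left ≫ V.hom) ⟶ V) =
      (Over.homMk (𝟙 _) (by rw [Category.id_comp]; exact (Over.w f).symm) :
        Over.mk (f.left ≫ V.hom) ⟶ V') ≫ f := by
    apply Over.OverMorphism.ext
    exact (Category.id_comp _).symm
  rw [e]
  exact S.downward_closed hf _

end Groth.Agent.H2.GenConst
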