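import Mathlib
import Groth.Agent.Lib.Helper2.LocConstAbA
import Groth.Agent.Lib.Helper2.SubFLCA

set_option autoImplicit false
set_option linter.style.haveILetI false
set_option linter.unusedSectionVars false
universe u
open CategoryTheory CategoryTheory.Limits Opposite TopologicalSpace

namespace Groth.Agent.H2.LCIso

open Groth.Agent.H2.LCModel Groth.Agent.H2.LocConstAb

variable {C : Type (u + 1)} [Category.{u} C] {J : GrothendieckTopology C} (R : TopReal J)
  [HasWeakSheafify J AddCommGrpCat.{u + 1}] [J.WEqualsLocallyBijective AddCommGrpCat.{u + 1}]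
  {A : AddCommGrpCat.{u + 1}} {G : Sheaf J AddCommGrpCat.{u + 1}}
  (θ : (lcAb R A).sheaf ⟶ G)

/-- The constant section with value `a`. -/
def cst (V : C) (a : A) : (lcAbPre R A).obj (op V) :=
  (LocallyConstant.const (R.pt V) a : LocallyConstant (R.pt V) A)

lemma map_cst {V W : C} (f : V ⟶ W) (a : A) :
    ((lcAbPre R A).map f.op).hom (cst R W a) = cst R V a := rfl

/-- Apply `θ` to a section. -/
noncomputable def ap (V : C) (φ : (lcAbPre R A).obj (op V)) : G.obj.obj (op V) :=
  (θ.hom.app (op V)).hom φ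

lemma ap_map {V W : C} (f : V ⟶ W) (φ : (lcAbPre R A).obj (op W)) :
    ap R θ V (((lcAbPre R A).map f.op).hom φ) = (G.obj.map f.op).hom (ap R θ W φ) :=
  NatTrans.naturality_apply θ.hom f.op φ

lemma ap_zero (V : C) : ap R θ V 0 = 0 := map_zero (θ.hom.app (op V)).hom

lemma ap_sub (V : C) (φ ψ : (lcAbPre R A).obj (op V)) :
    ap R θ V (φ - ψ) = ap R θ V φ - ap R θ V ψ := map_sub (θ.hom.app (op V)).hom φ ψ

variable (hinj : ∀ (V : C) (a : A), Nonempty (R.pt V) → ap R θ V (cst R V a) = 0 → a = 0)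

include hinj in
theorem eq_zero_of_ap_eq_zero (V : C) (φ : (lcAbPre R A).obj (op V)) (h : ap R θ V φ = 0) :
    φ = 0 := by
  let φ' : LocallyConstant (R.pt V) A := φ
  change φ' = 0
  refine LocallyConstant.ext (fun v => ?_)
  obtain ⟨S, hS, hSref⟩ := R.exists_refine V (Set.range fun m : A => φ' ⁻¹' {m})
    (by rintro _ ⟨m, rfl⟩; exact φ'.isLocallyConstant.isOpen_fiber m)
    (by
      ext v'
      simp only [Set.mem_sUnion, Set.mem_range, exists_exists_eq_and, Set.mem_preimage,
        Set.mem_singleton_iff, exists_eq', Set.mem_univ])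
  obtain ⟨W, f, w, hf, hw⟩ := R.exists_mem S hS v
  obtain ⟨_, ⟨m, rfl⟩, hr⟩ := hSref f hf
  have hm : φ' v = m := by
    have := hr ⟨w, hw⟩
    exact this
  have hconst : ((lcAbPre R A).map f.op).hom φ = cst R W m := by
    refine LocallyConstant.ext (fun w' => ?_)
    have := hr ⟨w', rfl⟩
    exact this
  have h1 : ap R θ W (cst R W m) = 0 := by
    rw [← hconst, ap_map, h, map_zero]
  have := hinj W m ⟨w⟩ h1
  rw [hm, this]
  rfl

include hinj in
theorem injective_app (V : C) : Function.Injective (θ.hom.app (op V)) := by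
  intro φ ψ h
  let φ' : (lcAbPre R A).obj (op V) := φ
  let ψ' : (lcAbPre R A).obj (op V) := ψ
  have h' : ap R θ V (φ' - ψ') = 0 := by
    refine (ap_sub R θ V φ' ψ').trans ?_
    exact sub_eq_zero.2 h
  have := eq_zero_of_ap_eq_zero R θ hinj V _ h'
  exact sub_eq_zero.1 this

variable (hJ : ∀ (V : C) (S : Sieve V),
    (∀ v : R.pt V, ∃ (V' : C) (f : V' ⟶ V) (v' : R.pt V'), S f ∧ R.map f v' = v) → S ∈ J V)
  (hsurj : ∀ (V : C) (g : G.obj.obj (op V)) (v : R.pt V),
    ∃ (V' : C) (f : V' ⟶ V) (v' : R.pt V') (a : A), R.map f v' = v ∧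
      (G.obj.map f.op).hom g = ap R θ V' (cst R V' a))

include hinj hJ hsurj in
theorem surjective_app (V : C) : Function.Surjective (θ.hom.app (op V)) := by
  intro g
  let S : Sieve V :=
    { arrows := fun Y f => ∃ h : (lcAbPre R A).obj (op Y), ap R θ Y h = (G.obj.map f.op).hom g
      downward_closed := by
        rintro Y Z f ⟨h, hh⟩ k
        refine ⟨((lcAbPre R A).map k.op).hom h, ?_⟩
        rw [ap_map, hh, op_comp, G.obj.map_comp]
        rfl }
  have hS : S ∈ J V := by
    apply hJ
    intro v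
    obtain ⟨V', f, v', a, hv, ha⟩ := hsurj V g v
    exact ⟨V', f, v', ⟨cst R V' a, ha.symm⟩, hv⟩
  exact Groth.Agent.H2.SubFLC.exists_preimage_of_locally θ (injective_app R θ hinj) V g S hS
    (fun f hf => hf)

include hinj hJ hsurj in
/-- **Criterion for a map from the sheaf of locally constant functions to be an isomorphism.** -/
theorem isIso_of_local : IsIso θ := by
  haveI : ∀ V, IsIso (θ.hom.app V) := by
    intro V
    rw [ConcreteCategory.isIso_iff_bijective]
    exact ⟨injective_app R θ hinj V.unop, surjective_app R θ hinj hJ hsurj V.unop⟩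
  haveI : IsIso θ.hom := NatIso.isIso_of_isIso_app _
  haveI : IsIso ((sheafToPresheaf J AddCommGrpCat.{u + 1}).map θ) := ‹IsIso θ.hom›
  exact isIso_of_reflects_iso θ (sheafToPresheaf J AddCommGrpCat.{u + 1})

end Groth.Agent.H2.LCIso
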