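import Mathlib
import Groth.Agent.Lib.Helper2.LCIsoA

set_option autoImplicit false
set_option linter.style.haveILetI false
set_option linter.unusedSectionVars false
universe u
open CategoryTheory CategoryTheory.Limits Opposite TopologicalSpace

namespace Groth.Agent.H2.LCIso

open Groth.Agent.H2.LCModel Groth.Agent.H2.LocConstAb

variable {C : Type (u + 1)} [Category.{u} C] {J : GrothendieckTopology C} (R : TopReal J)
  [HasWeakSheafify J AddCommGrpCat.{u + 1}] [J.WEqualsLocallyBijective AddCommGrpCat.{u + 1}]
  {A : AddCommGrpCat.{u + 1}} (G : Sheaf J AddCommGrpCat.{u + 1})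
  {T₀ : C} (hT : IsTerminal T₀) (s : A ⟶ G.obj.obj (op T₀))

/-- The map from the constant presheaf defined by a family of sections over the final object. -/
noncomputable def preMap : (Functor.const Cᵒᵖ).obj A ⟶ G.obj where
  app V := s ≫ G.obj.map (hT.from V.unop).op
  naturality := by
    intro V W f
    change 𝟙 A ≫ s ≫ G.obj.map (hT.from W.unop).op =
      (s ≫ G.obj.map (hT.from V.unop).op) ≫ G.obj.map f
    rw [Category.id_comp, Category.assoc, ← G.obj.map_comp]
    congr 2
    have : hT.from W.unop = f.unop ≫ hT.from V.unop := hT.hom_ext _ _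
    rw [this, op_comp]
    rfl

/-- The associated map from the constant sheaf. -/
noncomputable def theta₁ : (constantSheaf J AddCommGrpCat.{u + 1}).obj A ⟶ G :=
  ((sheafificationAdjunction J AddCommGrpCat.{u + 1}).homEquiv _ _).symm (preMap G hT s)

lemma toSheafify_theta₁ :
    toSheafify J ((Functor.const Cᵒᵖ).obj A) ≫ (theta₁ G hT s).hom = preMap G hT s := by
  have h := ((sheafificationAdjunction J AddCommGrpCat.{u + 1}).homEquiv
    ((Functor.const Cᵒᵖ).obj A) G).apply_symm_apply (preMap G hT s)
  rw [Adjunction.homEquiv_unit] at h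
  exact h

/-- The map from the sheaf of locally constant functions defined by sections over the final
object. -/
noncomputable def thetaOf : (lcAb R A).sheaf ⟶ G :=
  (lcAb R A).iso.inv ≫ theta₁ G hT s

lemma phi_thetaOf : (lcAb R A).φ ≫ (thetaOf R G hT s).hom = preMap G hT s := by
  have h1 := (lcAb R A).toSheafify_toSheaf
  have h2 : (lcAb R A).toSheaf ≫ (lcAb R A).iso.inv = 𝟙 _ := (lcAb R A).iso.hom_inv_id
  have h3 : (lcAb R A).toSheaf.hom ≫ (thetaOf R G hT s).hom = (theta₁ G hT s).hom := by
    change ((lcAb R A).toSheaf ≫ ((lcAb R A).iso.inv ≫ theta₁ G hT s)).hom = _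
    rw [← Category.assoc, h2, Category.id_comp]
  refine (congrArg (fun m => m ≫ (thetaOf R G hT s).hom) h1.symm).trans ?_
  refine (Category.assoc _ _ _).trans ?_
  refine (congrArg (fun m => toSheafify J ((Functor.const Cᵒᵖ).obj A) ≫ m) h3).trans ?_
  exact toSheafify_theta₁ G hT s

lemma ap_thetaOf_cst (V : C) (a : A) :
    ap R (thetaOf R G hT s) V (cst R V a) = (G.obj.map (hT.from V).op).hom (s.hom a) := by
  have h := congrArg (fun m => (m.app (op V)).hom a) (phi_thetaOf R G hT s)
  exact h

end Groth.Agent.H2.LCIso
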