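import Mathlib
import Groth.Prelude.Def_EtBase
import Groth.Agent.Lib.Helper2.GenConstA
import Groth.Agent.Lib.Helper2.LCIsoB
import Groth.Agent.Lib.Helper2.PtSecA
import Groth.Agent.Lib.Helper2.LCModelE

set_option autoImplicit false
set_option linter.style.haveILetI false
set_option linter.unusedSectionVars false
universe u

open CategoryTheory CategoryTheory.Limits Opposite TopologicalSpace AlgebraicGeometry

namespace Groth.Agent.H2.GenConst

open Groth.Agent.H2.LCModel Groth.Agent.H2.LocConstAb Groth.Agent.H2.PtSec Groth.Agent.H2.LCIso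
  Groth.Agent.H2.StalkLC

variable {T : Scheme.{u}} (G : EtCoh.Ab T) {Ω : Type u} [Field Ω] [IsSepClosed Ω]
  (η : Spec (CommRingCat.of Ω) ⟶ T) (W : T.Etale) (p : (Scheme.pointSmallEtale η).fiber.obj W)
  (hirr : ∀ (V : T.Etale) (f : V ⟶ W), Nonempty V.left →
    ∃ v : V.left, f.left v = p.left (default : ↥(Spec (CommRingCat.of Ω))))
  (s : Stk (Scheme.pointSmallEtale η) G.obj →+ G.obj.obj (op W))
  (hs : ∀ a, germ (Scheme.pointSmallEtale η) G.obj W p (s a) = a)

include hirr hs in
/-- A section `s a` restricting to zero on a nonempty étale scheme over `W` has `a = 0`. -/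
theorem eq_zero_of_map_eq_zero (V : T.Etale) (f : V ⟶ W) (hV : Nonempty V.left)
    (a : Stk (Scheme.pointSmallEtale η) G.obj) (h : (G.obj.map f.op).hom (s a) = 0) : a = 0 := by
  obtain ⟨v, hv⟩ := hirr V f hV
  obtain ⟨p', hp', -⟩ := exists_fiber_lift η f p v hv
  have h1 := germ_map (Scheme.pointSmallEtale η) G.obj f p' (s a)
  rw [hp', hs a, h, map_zero] at h1
  exact h1.symm

/-- The restriction of `G` to the slice over `W`. -/
noncomputable abbrev GW : Sheaf (T.smallEtaleTopology.over W) AddCommGrpCat.{u + 1} :=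
  EtCoh.restr G W

/-- The comparison map from the sheaf of locally constant functions with values in the stalk. -/
noncomputable def theta : (lcAb ((etReal T).over W)
    ((Scheme.pointSmallEtale η).presheafFiber.obj G.obj)).sheaf ⟶ GW G W :=
  thetaOf ((etReal T).over W) (GW G W) (T₀ := Over.mk (𝟙 W)) Over.mkIdTerminal
    (AddCommGrpCat.ofHom s)

lemma ap_theta_cst (V : Over W) (a : Stk (Scheme.pointSmallEtale η) G.obj) :
    ap ((etReal T).over W) (theta G η W s) V (cst ((etReal T).over W) V a) =
      (G.obj.map V.hom.op).hom (s a) := by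
  have h := ap_thetaOf_cst ((etReal T).over W) (GW G W) (T₀ := Over.mk (𝟙 W)) Over.mkIdTerminal
    (AddCommGrpCat.ofHom s) V a
  have e : (Over.mkIdTerminal (X := W)).from V = Over.homMk V.hom := Over.mkIdTerminal.hom_ext _ _
  rw [e] at h
  exact h

include hirr hs in
lemma theta_inj (V : Over W) (a : Stk (Scheme.pointSmallEtale η) G.obj)
    (hV : Nonempty (((etReal T).over W).pt V))
    (h : ap ((etReal T).over W) (theta G η W s) V (cst ((etReal T).over W) V a) = 0) : a = 0 := by
  rw [ap_theta_cst] at h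
  exact eq_zero_of_map_eq_zero G η W p hirr s hs V.left V.hom hV a h

variable (n : ℕ)
  (hcard : ∀ (Ω' : Type u) [Field Ω'] [IsSepClosed Ω'] (l : Spec (CommRingCat.of Ω') ⟶ T),
    Nat.card ((EtCoh.stalk l).obj G) = n)

include hirr hs hcard in
lemma theta_surj [Finite (Stk (Scheme.pointSmallEtale η) G.obj)]
    (V : Over W) (g : (GW G W).obj.obj (op V)) (v : ((etReal T).over W).pt V) :
    ∃ (V' : Over W) (f : V' ⟶ V) (v' : ((etReal T).over W).pt V')
      (a : Stk (Scheme.pointSmallEtale η) G.obj),
      ((etReal T).over W).map f v' = v ∧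
        ((GW G W).obj.map f.op).hom g =
          ap ((etReal T).over W) (theta G η W s) V' (cst ((etReal T).over W) V' a) := by
  let v₀ : V.left.left := v
  obtain ⟨Ω', _, _, l₀, hl₀⟩ := exists_geomPt v₀
  let l : Spec (CommRingCat.of Ω') ⟶ T := l₀ ≫ V.left.hom
  obtain ⟨q, hq⟩ : ∃ q : Over.mk l ⟶ (Scheme.Etale.forget T).obj V.left, q.left = l₀ :=
    ⟨Over.homMk l₀ rfl, rfl⟩
  let q' : (Scheme.pointSmallEtale l).fiber.obj V.left := q
  let g₀ : G.obj.obj (op V.left) := g
  let c : Stk (Scheme.pointSmallEtale η) G.obj →+ Stk (Scheme.pointSmallEtale l) G.obj :=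
    (germ (Scheme.pointSmallEtale l) G.obj V.left q').comp ((G.obj.map V.hom.op).hom.comp s)
  have hcinj : Function.Injective c := by
    rw [injective_iff_map_eq_zero]
    intro a ha
    have ha' : germ (Scheme.pointSmallEtale l) G.obj V.left q' ((G.obj.map V.hom.op).hom (s a)) =
        germ (Scheme.pointSmallEtale l) G.obj V.left q' 0 := by
      rw [map_zero]; exact ha
    obtain ⟨Y, k, y, -, hk⟩ := (germ_eq_iff (Scheme.pointSmallEtale l) G.obj V.left q' _ _).1 ha'
    rw [map_zero] at hk
    have hk' : (G.obj.map (k ≫ V.hom).op).hom (s a) = 0 := by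
      rw [op_comp, G.obj.map_comp]
      exact hk
    let yl : Spec (CommRingCat.of Ω') ⟶ Y.left := y.left
    exact eq_zero_of_map_eq_zero G η W p hirr s hs Y (k ≫ V.hom)
      ⟨yl (default : ↥(Spec (CommRingCat.of Ω')))⟩ a hk'
  have hc1 : Nat.card (Stk (Scheme.pointSmallEtale η) G.obj) = n := hcard Ω η
  have hc2 : Nat.card (Stk (Scheme.pointSmallEtale l) G.obj) = n := hcard Ω' l
  have hn : n ≠ 0 := by
    rw [← hc1]
    exact Nat.card_pos.ne'
  haveI : Finite (Stk (Scheme.pointSmallEtale l) G.obj) :=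
    Nat.finite_of_card_ne_zero (by rw [hc2]; exact hn)
  have hcbij : Function.Bijective c :=
    hcinj.bijective_of_nat_card_le (by rw [hc1, hc2])
  obtain ⟨a, ha⟩ := hcbij.2 (germ (Scheme.pointSmallEtale l) G.obj V.left q' g₀)
  obtain ⟨Y, k, y, hy, hk⟩ := (germ_eq_iff (Scheme.pointSmallEtale l) G.obj V.left q' _ _).1 ha
  let yl : Spec (CommRingCat.of Ω') ⟶ Y.left := y.left
  refine ⟨Over.mk (k ≫ V.hom), Over.homMk k rfl, yl (default : ↥(Spec (CommRingCat.of Ω'))),
    a, ?_, ?_⟩
  · change k.left (yl default) = v₀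
    have h1 : ((Scheme.pointSmallEtale l).fiber.map k y).left = l₀ := by rw [hy]; exact hq
    have h2 := congrArg (fun m : Spec (CommRingCat.of Ω') ⟶ V.left.left => m default) h1
    exact h2.trans hl₀
  · rw [ap_theta_cst]
    change (G.obj.map k.op).hom g₀ = (G.obj.map (k ≫ V.hom).op).hom (s a)
    rw [← hk, op_comp, G.obj.map_comp]
    rfl

include hirr hs hcard in
/-- **Generic local constancy**: the restriction of `G` to `W` is the constant sheaf with value the
generic stalk. -/
theorem nonempty_restr_iso_const [Finite (Stk (Scheme.pointSmallEtale η) G.obj)] :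
    Nonempty (EtCoh.restr G W ≅
      (constantSheaf (T.smallEtaleTopology.over W) AddCommGrpCat.{u + 1}).obj
        ((Scheme.pointSmallEtale η).presheafFiber.obj G.obj)) := by
  haveI : IsIso (theta G η W s) :=
    isIso_of_local ((etReal T).over W) (theta G η W s)
      (fun V a hV h => theta_inj G η W p hirr s hs V a hV h)
      (fun V S h => mem_over_of_surj W V S h)
      (fun V g v => theta_surj G η W p hirr s hs n hcard V g v)
  exact ⟨(asIso (theta G η W s)).symm ≪≫
    (lcAb ((etReal T).over W) ((Scheme.pointSmallEtale η).presheafFiber.obj G.obj)).iso.symm⟩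

end Groth.Agent.H2.GenConst
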