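import Mathlib

set_option autoImplicit false
set_option linter.style.haveILetI false
set_option linter.unusedSectionVars false
universe u
open CategoryTheory CategoryTheory.Limits AlgebraicGeometry TopologicalSpace Opposite

namespace Groth.Agent.H2.IrrNbhd

/-- Étale morphisms are locally quasi-finite. -/
theorem locallyQuasiFinite_of_etale {X Y : Scheme.{u}} (f : X ⟶ Y) [Etale f] :
    LocallyQuasiFinite f := by
  rw [HasRingHomProperty.iff_appLE (P := @LocallyQuasiFinite)]
  intro U V e
  have h := HasRingHomProperty.appLE (P := @Etale) f ‹_› U V e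
  algebraize [(f.appLE U.1 V.1 e).hom]
  have : Algebra.Etale Γ(Y, U.1) Γ(X, V.1) := h
  show Algebra.QuasiFinite _ _
  infer_instance

/-- A point of an étale scheme lying over a point specializing to everything has no proper
generizations. -/
theorem eq_of_specializes {W T : Scheme.{u}} (f : W ⟶ T) [Etale f] (t₀ : T)
    (ht₀ : ∀ t : T, t₀ ⤳ t) (w : W) (hw : f w = t₀) (w' : W) (h : w' ⤳ w) : w' = w := by
  haveI := locallyQuasiFinite_of_etale f
  have h1 : f w' ⤳ f w := h.map f.continuous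
  have h2 : f w' = t₀ := by
    rw [hw] at h1
    exact (h1.antisymm (ht₀ _)).eq
  have hd : _root_.IsDiscrete (f ⁻¹' {t₀}) := f.isDiscrete_preimage_singleton t₀
  haveI : DiscreteTopology ↥(f ⁻¹' {t₀}) := hd.to_subtype
  have h3 : (⟨w', h2⟩ : ↥(f ⁻¹' {t₀})) ⤳ ⟨w, hw⟩ := (subtype_specializes_iff _ _).2 h
  exact congrArg Subtype.val h3.eq

/-- In a locally Noetherian scheme, a point without proper generizations has an open
neighbourhood contained in its closure. -/
theorem exists_open_subset_closure {Z : Scheme.{u}} [IsLocallyNoetherian Z] (w : Z)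
    (hmin : ∀ w' : Z, w' ⤳ w → w' = w) :
    ∃ O : Set Z, IsOpen O ∧ w ∈ O ∧ O ⊆ closure {w} := by
  obtain ⟨U, hU, hwU, -⟩ := exists_isAffineOpen_mem_and_subset (x := w)
    (U := (⊤ : Z.Opens)) trivial
  haveI : IsNoetherianRing Γ(Z, U) := IsLocallyNoetherian.component_noetherian ⟨U, hU⟩
  haveI : NoetherianSpace ↥U := noetherianSpace_of_isAffineOpen U hU
  haveI : QuasiSober ↥U := inferInstanceAs (QuasiSober (U : Scheme.{u}))
  let w₁ : ↥U := ⟨w, hwU⟩
  let B : Set (Set ↥U) := {Zc | Zc ∈ irreducibleComponents ↥U ∧ w₁ ∉ Zc}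
  have hBfin : B.Finite :=
    (NoetherianSpace.finite_irreducibleComponents (α := ↥U)).subset (fun _ h => h.1)
  have hBclosed : IsClosed (⋃₀ B) := by
    rw [Set.sUnion_eq_biUnion]
    exact Set.Finite.isClosed_biUnion hBfin
      (fun Zc hZc => isClosed_of_mem_irreducibleComponents Zc hZc.1)
  let O₁ : Set ↥U := (⋃₀ B)ᶜ
  have hO₁ : IsOpen O₁ := hBclosed.isOpen_compl
  have hwO₁ : w₁ ∈ O₁ := by
    rintro ⟨Zc, hZc, hw⟩
    exact hZc.2 hw
  have hsub : ∀ y ∈ O₁, (y : Z) ∈ closure ({w} : Set Z) := by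
    intro y hy
    let Zc := irreducibleComponent y
    have hZc : Zc ∈ irreducibleComponents ↥U := irreducibleComponent_mem_irreducibleComponents y
    have hwZc : w₁ ∈ Zc := by
      by_contra hn
      exact hy ⟨Zc, ⟨hZc, hn⟩, mem_irreducibleComponent⟩
    obtain ⟨z, hz⟩ := QuasiSober.sober (isIrreducible_irreducibleComponent (x := y))
      (isClosed_irreducibleComponent (x := y))
    have hzw : z ⤳ w₁ := hz.specializes hwZc
    have hzw' : (z : Z) ⤳ w := (subtype_specializes_iff z w₁).1 hzw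
    have hzeq : z = w₁ := Subtype.ext (hmin _ hzw')
    have hwy : w₁ ⤳ y := by
      rw [← hzeq]
      exact hz.specializes mem_irreducibleComponent
    have hwy' : w ⤳ (y : Z) := (subtype_specializes_iff w₁ y).1 hwy
    exact hwy'.mem_closure
  refine ⟨Subtype.val '' O₁, U.2.isOpenMap_subtype_val _ hO₁, ⟨w₁, hwO₁, rfl⟩, ?_⟩
  rintro _ ⟨y, hy, rfl⟩
  exact hsub y hy

end Groth.Agent.H2.IrrNbhd
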