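import Mathlib
import Groth.Prelude.Def_EtBase
import Groth.Agent.Lib.Helper2.GenConstB
import Groth.Agent.Lib.Helper2.IrrNbhdA
import Groth.Agent.Lib.Helper2.FinStalkD

set_option autoImplicit false
set_option linter.style.haveILetI false
set_option linter.unusedSectionVars false
universe u

open CategoryTheory CategoryTheory.Limits Opposite TopologicalSpace AlgebraicGeometry

namespace Groth.Agent.H2.GenConst

open Groth.Agent.H2.LCModel Groth.Agent.H2.LocConstAb Groth.Agent.H2.PtSec Groth.Agent.H2.LCIso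
  Groth.Agent.H2.StalkLC Groth.Agent.H2.IrrNbhd Groth.Agent.H2.FinStalk

/-- **Generic local constancy.** On a locally Noetherian scheme with a point specializing to every
point, a sheaf all of whose geometric stalks have the same finite cardinality is constant on an
étale neighbourhood of that point. -/
theorem exists_etale_const_of_card {T : Scheme.{u}} [IsLocallyNoetherian T] (t₀ : T)
    (ht₀ : ∀ t : T, t₀ ⤳ t) (G : EtCoh.Ab T) (n : ℕ) (hn : n ≠ 0)
    (hcard : ∀ (Ω' : Type u) [Field Ω'] [IsSepClosed Ω'] (l : Spec (CommRingCat.of Ω') ⟶ T),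
      Nat.card ((EtCoh.stalk l).obj G) = n) :
    ∃ (W : T.Etale), (∃ w : W.left, W.hom w = t₀) ∧
      ∃ (A : Type) (_ : AddCommGroup A) (_ : Finite A),
        Nonempty (EtCoh.restr G W ≅
          (constantSheaf (T.smallEtaleTopology.over W) AddCommGrpCat.{u + 1}).obj
            (AddCommGrpCat.of (ULift.{u + 1} A))) := by
  obtain ⟨Ω, _, _, η, hη⟩ := exists_geomPt t₀
  haveI : Finite (Stk (Scheme.pointSmallEtale η) G.obj) :=
    Nat.finite_of_card_ne_zero (by
      have := hcard Ω η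
      change Nat.card (Stk (Scheme.pointSmallEtale η) G.obj) = n at this
      rw [this]; exact hn)
  obtain ⟨W₀, p₀, s₀, hs₀⟩ := exists_additive_section (Scheme.pointSmallEtale η) G.obj
  let p₀l : Spec (CommRingCat.of Ω) ⟶ W₀.left := p₀.left
  have hp₀w : p₀l ≫ W₀.hom = η := Over.w p₀
  let w₀ : W₀.left := p₀l default
  have hw₀ : W₀.hom w₀ = t₀ := by
    rw [← hη, ← hp₀w]
    rfl
  haveI : Etale W₀.hom := W₀.prop
  haveI : IsLocallyNoetherian W₀.left :=
    LocallyOfFiniteType.isLocallyNoetherian (Y := T) W₀.hom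
  have hmin := eq_of_specializes W₀.hom t₀ ht₀ w₀ hw₀
  obtain ⟨O, hO, hwO, hOsub⟩ := exists_open_subset_closure w₀ hmin
  let Vo : W₀.left.Opens := ⟨O, hO⟩
  obtain ⟨p, hp⟩ := exists_fiber_openObj η W₀ Vo p₀ hwO
  let W : T.Etale := openObj W₀ Vo
  let incl : W ⟶ W₀ := openIncl W₀ Vo
  let s : Stk (Scheme.pointSmallEtale η) G.obj →+ G.obj.obj (op W) :=
    ((G.obj.map incl.op).hom).comp s₀
  have hs : ∀ a, germ (Scheme.pointSmallEtale η) G.obj W p (s a) = a := by
    intro a
    have h1 := germ_map (Scheme.pointSmallEtale η) G.obj incl p (s₀ a)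
    rw [hp, hs₀ a] at h1
    exact h1
  let pl : Spec (CommRingCat.of Ω) ⟶ W.left := p.left
  let w : W.left := pl default
  have hwι : incl.left w = w₀ := by
    have h1 : pl ≫ incl.left = p₀l := congrArg (fun m => m.left) hp
    exact congrArg (fun m : Spec (CommRingCat.of Ω) ⟶ W₀.left => m default) h1
  have hirr : ∀ (V : T.Etale) (f : V ⟶ W), Nonempty V.left →
      ∃ v : V.left, f.left v = p.left (default : ↥(Spec (CommRingCat.of Ω))) := by
    intro V f ⟨v₁⟩
    haveI : IsOpenImmersion incl.left := inferInstanceAs (IsOpenImmersion Vo.ι)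
    have hQ : IsOpen (Set.range f.left) := f.left.isOpenMap.isOpen_range
    have hQ' : IsOpen (incl.left '' Set.range f.left) :=
      incl.left.isOpenEmbedding.isOpenMap _ hQ
    have hmem : incl.left (f.left v₁) ∈ closure ({w₀} : Set W₀.left) := by
      apply hOsub
      change (Vo.ι (f.left v₁)) ∈ O
      exact (f.left v₁).2
    have hsp : w₀ ⤳ incl.left (f.left v₁) := specializes_iff_mem_closure.2 hmem
    have hw₀Q : w₀ ∈ incl.left '' Set.range f.left :=
      hsp.mem_open hQ' ⟨f.left v₁, ⟨v₁, rfl⟩, rfl⟩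
    obtain ⟨q', ⟨v, rfl⟩, hq'⟩ := hw₀Q
    refine ⟨v, ?_⟩
    apply incl.left.isOpenEmbedding.injective
    rw [hq']
    exact hwι.symm
  obtain ⟨e⟩ := nonempty_restr_iso_const G η W p hirr s hs n hcard
  let A₀ := Stk (Scheme.pointSmallEtale η) G.obj
  let φ₁ : Shrink.{0} A₀ ≃+ A₀ := Shrink.addEquiv
  let φ₂ : ULift.{u + 1} (Shrink.{0} A₀) ≃+ Shrink.{0} A₀ := AddEquiv.ulift
  let φ : A₀ ≃+ ULift.{u + 1} (Shrink.{0} A₀) := φ₁.symm.trans φ₂.symm
  have hw : ∃ w' : W.left, W.hom w' = t₀ := by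
    refine ⟨w, ?_⟩
    have hW : incl.left ≫ W₀.hom = W.hom := MorphismProperty.Over.w incl
    rw [← hW, Scheme.Hom.comp_apply, hwι, hw₀]
  refine ⟨W, hw, Shrink.{0} A₀, inferInstance, inferInstance, ⟨e ≪≫
    (constantSheaf (T.smallEtaleTopology.over W) AddCommGrpCat.{u + 1}).mapIso
      (AddEquiv.toAddCommGrpIso φ)⟩⟩

end Groth.Agent.H2.GenConst
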