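import Mathlib

/-!
# Algebra for S7856: finite algebras over a field with geometrically connected spectrum
-/

set_option autoImplicit false
set_option linter.style.haveILetI false
universe u
open TensorProduct

namespace Groth.Agent.H2.GeoConn

/-- an Artinian ring with only trivial idempotents is local of dimension 0. -/
theorem isLocalRing_of_trivial_idempotents (R : Type*) [CommRing R] [IsArtinianRing R]
    [Nontrivial R] (h : ∀ e : R, IsIdempotentElem e → e = 0 ∨ e = 1) :
    IsLocalRing R ∧ ringKrullDim R = 0 := by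
  have hsub : Subsingleton (PrimeSpectrum R) := by
    refine ⟨fun p q => ?_⟩
    by_contra hpq
    have hcl : IsClopen ({p} : Set (PrimeSpectrum R)) := isClopen_discrete _
    obtain ⟨e, he, he'⟩ := PrimeSpectrum.isClopen_iff.mp hcl
    rcases h e he with h0 | h1
    · rw [h0, PrimeSpectrum.basicOpen_zero] at he'
      exact (Set.singleton_ne_empty p) he'
    · rw [h1, PrimeSpectrum.basicOpen_one] at he'
      have : q ∈ ({p} : Set (PrimeSpectrum R)) := by rw [he']; trivial
      exact hpq (Set.mem_singleton_iff.mp this).symm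
  obtain ⟨m, hm⟩ := Ideal.exists_maximal R
  have hloc : IsLocalRing R := by
    refine IsLocalRing.of_unique_max_ideal ⟨m, hm, fun m' hm' => ?_⟩
    have := Subsingleton.elim (⟨m', hm'.isPrime⟩ : PrimeSpectrum R) ⟨m, hm.isPrime⟩
    exact congrArg PrimeSpectrum.asIdeal this
  refine ⟨hloc, ?_⟩
  have : Ring.KrullDimLE 0 R := inferInstance
  exact le_antisymm ((Ring.krullDimLE_iff).mp this) ringKrullDim_nonneg_of_nontrivial

/-- purely inseparable residue field from connectedness of the geometric spectrum. -/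
theorem pi_of_preconnected (k R : Type u) [Field k] [CommRing R] [Algebra k R] [IsLocalRing R]
    [Module.Finite k R] (hdim : ringKrullDim R = 0)
    (h : ∀ (K : Type u) [Field K] [Algebra k K], PreconnectedSpace (PrimeSpectrum (K ⊗[k] R))) :
    ∀ a : R, ∃ (n : ℕ) (c : k), IsNilpotent (a ^ (ringExpChar k ^ n) - algebraMap k R c) := by
  let κ := IsLocalRing.ResidueField R
  haveI : Module.Finite k κ :=
    Module.Finite.of_surjective (IsScalarTower.toAlgHom k R κ).toLinearMap
      (IsLocalRing.residue_surjective)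
  haveI : Algebra.IsAlgebraic k κ := Algebra.IsAlgebraic.of_finite k κ
  let K := AlgebraicClosure κ
  haveI : Ring.KrullDimLE 0 R := (Ring.krullDimLE_iff).mpr (le_of_eq hdim)
  haveI hsub : Subsingleton (Field.Emb k κ) := by
    refine ⟨fun σ₁ σ₂ => ?_⟩
    let T := K ⊗[k] R
    haveI : IsArtinianRing T := IsArtinianRing.of_finite K T
    haveI : PreconnectedSpace (PrimeSpectrum T) := h K
    haveI : Subsingleton (PrimeSpectrum T) := PreconnectedSpace.trivial_of_discrete
    let ρ : R →ₐ[k] κ := IsScalarTower.toAlgHom k R κ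
    let τ : (κ →ₐ[k] K) → (T →ₐ[K] K) := fun σ =>
      Algebra.TensorProduct.lift (Algebra.ofId K K) (σ.comp ρ) (fun _ _ => Commute.all _ _)
    have hτ : ∀ (σ : κ →ₐ[k] K) (a : R), τ σ (1 ⊗ₜ a) = σ (ρ a) := by
      intro σ a
      simp only [τ]
      rw [Algebra.TensorProduct.lift_tmul]
      simp
    have hker : RingHom.ker (τ σ₁ : T →+* K) = RingHom.ker (τ σ₂ : T →+* K) := by
      have := Subsingleton.elim
        (⟨RingHom.ker (τ σ₁ : T →+* K), RingHom.ker_isPrime _⟩ : PrimeSpectrum T)
        ⟨RingHom.ker (τ σ₂ : T →+* K), RingHom.ker_isPrime _⟩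
      exact congrArg PrimeSpectrum.asIdeal this
    have heq : ∀ x : T, τ σ₁ x = τ σ₂ x := by
      intro x
      have h1 : x - algebraMap K T (τ σ₁ x) ∈ RingHom.ker (τ σ₁ : T →+* K) := by
        rw [RingHom.mem_ker]
        simp
      rw [hker, RingHom.mem_ker] at h1
      have h2 : τ σ₂ x - τ σ₂ (algebraMap K T (τ σ₁ x)) = 0 := by
        rw [← map_sub]; exact h1
      rw [AlgHom.commutes] at h2
      exact (sub_eq_zero.mp h2).symm
    apply AlgHom.ext
    intro z
    obtain ⟨a, rfl⟩ := IsLocalRing.residue_surjective z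
    have := heq (1 ⊗ₜ a)
    rw [hτ, hτ] at this
    exact this
  haveI : IsPurelyInseparable k κ := (isPurelyInseparable_iff_subsingleton_emb k κ).mpr hsub
  intro a
  obtain ⟨n, c, hc⟩ := IsPurelyInseparable.pow_mem k (ringExpChar k) (IsLocalRing.residue R a)
  refine ⟨n, c, ?_⟩
  rw [Ring.KrullDimLE.isNilpotent_iff_mem_maximalIdeal, ← IsLocalRing.residue_eq_zero_iff,
    map_sub, map_pow, ← hc, sub_eq_zero]
  rfl

/-- raising to a further `q`-power keeps the "scalar modulo nilpotents" property. -/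
theorem nilp_pow_step {K T : Type*} [Field K] [CommRing T] [Algebra K T] (q : ℕ) [ExpChar T q]
    (x : T) (n m : ℕ) (l : K) (h : IsNilpotent (x ^ (q ^ n) - algebraMap K T l)) :
    IsNilpotent (x ^ (q ^ (n + m)) - algebraMap K T (l ^ (q ^ m))) := by
  have : x ^ (q ^ (n + m)) - algebraMap K T (l ^ (q ^ m)) =
      (x ^ (q ^ n) - algebraMap K T l) ^ (q ^ m) := by
    rw [sub_pow_expChar_pow, ← pow_mul, ← pow_add, map_pow]
  rw [this]
  exact h.pow_of_pos (pow_pos (expChar_pos T q) m).ne'

/-- a `k`-algebra all of whose elements are, up to `q`-powers and nilpotents, scalars has a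
geometric spectrum with at most one point. -/
theorem subsingleton_primeSpectrum_tensor (k R : Type u) [Field k] [CommRing R] [Algebra k R]
    (h : ∀ a : R, ∃ (n : ℕ) (c : k), IsNilpotent (a ^ (ringExpChar k ^ n) - algebraMap k R c))
    (K : Type u) [Field K] [Algebra k K] : Subsingleton (PrimeSpectrum (K ⊗[k] R)) := by
  let T := K ⊗[k] R
  by_cases hT : Nontrivial T
  swap
  · rw [not_nontrivial_iff_subsingleton] at hT
    exact ⟨fun p q => (p.2.ne_top (Subsingleton.elim _ _)).elim⟩
  set q := ringExpChar k with hq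
  haveI : ExpChar k q := ringExpChar.expChar k
  haveI : ExpChar K q := expChar_of_injective_algebraMap (algebraMap k K).injective q
  haveI : ExpChar T q := expChar_of_injective_algebraMap (algebraMap K T).injective q
  have key : ∀ x : T, ∃ (n : ℕ) (l : K), IsNilpotent (x ^ (q ^ n) - algebraMap K T l) := by
    intro x
    induction x using TensorProduct.induction_on with
    | zero => exact ⟨0, 0, by simp only [pow_zero, pow_one, map_zero, sub_zero]; exact IsNilpotent.zero⟩
    | tmul c a =>
      obtain ⟨n, c', hc'⟩ := h a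
      refine ⟨n, c ^ (q ^ n) * algebraMap k K c', ?_⟩
      have e1 : (c ⊗ₜ[k] a) ^ (q ^ n) - algebraMap K T (c ^ (q ^ n) * algebraMap k K c') =
          (c ^ (q ^ n)) ⊗ₜ[k] (a ^ (q ^ n) - algebraMap k R c') := by
        rw [Algebra.TensorProduct.tmul_pow, TensorProduct.tmul_sub,
          Algebra.TensorProduct.algebraMap_apply, Algebra.algebraMap_self_apply,
          Algebra.algebraMap_eq_smul_one c', Algebra.algebraMap_eq_smul_one c',
          TensorProduct.tmul_smul, mul_smul_comm, mul_one, TensorProduct.smul_tmul']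
      rw [e1]
      obtain ⟨m, hm⟩ := hc'
      exact ⟨m, by rw [Algebra.TensorProduct.tmul_pow, hm, TensorProduct.tmul_zero]⟩
    | add x y hx hy =>
      obtain ⟨n₁, l₁, h₁⟩ := hx
      obtain ⟨n₂, l₂, h₂⟩ := hy
      have h₁' := nilp_pow_step q x n₁ n₂ l₁ h₁
      have h₂' := nilp_pow_step q y n₂ n₁ l₂ h₂
      rw [add_comm n₂ n₁] at h₂'
      refine ⟨n₁ + n₂, l₁ ^ (q ^ n₂) + l₂ ^ (q ^ n₁), ?_⟩
      have : (x + y) ^ (q ^ (n₁ + n₂)) - algebraMap K T (l₁ ^ (q ^ n₂) + l₂ ^ (q ^ n₁)) =
          (x ^ (q ^ (n₁ + n₂)) - algebraMap K T (l₁ ^ (q ^ n₂))) +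
            (y ^ (q ^ (n₁ + n₂)) - algebraMap K T (l₂ ^ (q ^ n₁))) := by
        rw [add_pow_expChar_pow, map_add]; ring
      rw [this]
      exact (Commute.all _ _).isNilpotent_add h₁' h₂'
  have mem_iff : ∀ (P : PrimeSpectrum T) (x : T) (n : ℕ) (l : K),
      IsNilpotent (x ^ (q ^ n) - algebraMap K T l) → (x ∈ P.asIdeal ↔ l = 0) := by
    intro P x n l hn
    have hnil : x ^ (q ^ n) - algebraMap K T l ∈ P.asIdeal := by
      obtain ⟨m, hm⟩ := hn
      exact P.2.mem_of_pow_mem m (hm ▸ P.asIdeal.zero_mem)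
    have hpos : q ^ n ≠ 0 := (pow_pos (expChar_pos T q) n).ne'
    constructor
    · intro hx
      by_contra hl
      have h1 : x ^ (q ^ n) ∈ P.asIdeal := Ideal.pow_mem_of_mem _ hx _ (Nat.pos_of_ne_zero hpos)
      have h2 : algebraMap K T l ∈ P.asIdeal := by
        have := P.asIdeal.sub_mem h1 hnil
        rwa [sub_sub_cancel] at this
      have h3 : IsUnit (algebraMap K T l) := (IsUnit.mk0 l hl).map _
      exact P.2.ne_top (Ideal.eq_top_of_isUnit_mem _ h2 h3)
    · intro hl
      rw [hl, map_zero, sub_zero] at hnil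
      exact P.2.mem_of_pow_mem _ hnil
  refine ⟨fun P Q => ?_⟩
  apply PrimeSpectrum.ext
  ext x
  obtain ⟨n, l, hn⟩ := key x
  rw [mem_iff P x n l hn, mem_iff Q x n l hn]

end Groth.Agent.H2.GeoConn
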