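import Mathlib
import Groth.Agent.Lib.Helper2.GeoConnA
import Groth.Agent.Lib.Helper5.DegC.H0Dvd
import Groth.Agent.Lib.Lead.Stein.ZariskiGeom
import Groth.Agent.Lib.Helper6.HC2

/-!
# S7856: geometric connectedness of a proper scheme over a field via its ring of global functions
-/

set_option autoImplicit false
set_option linter.style.haveILetI false
universe u
open CategoryTheory CategoryTheory.Limits AlgebraicGeometry TensorProduct

namespace Groth.Agent.H2.GeoConn

variable (k : Type u) [Field k] {X : Scheme.{u}} (f : X ⟶ Spec (CommRingCat.of k))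

/-- the structure map of `Γ(X, ⊤)`. -/
noncomputable abbrev strMap : k →+* Γ(X, ⊤) :=
  f.appTop.hom.comp (Scheme.ΓSpecIso (CommRingCat.of k)).inv.hom

theorem toSpecΓ_comp :
    X.toSpecΓ ≫ Spec.map (CommRingCat.ofHom (strMap k f)) = f := by
  have h1 : CommRingCat.ofHom (strMap k f) =
      (Scheme.ΓSpecIso (CommRingCat.of k)).inv ≫ f.appTop := rfl
  rw [h1, Spec.map_comp, ← Category.assoc, ← Scheme.toSpecΓ_naturality, Category.assoc,
    toSpecΓ_SpecMap_ΓSpecIso_inv, Category.comp_id]

omit k in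
/-- a connected quasi-compact scheme has only trivial idempotent global functions. -/
theorem trivial_idempotents [ConnectedSpace X] [CompactSpace X] (e : Γ(X, ⊤))
    (he : IsIdempotentElem e) : e = 0 ∨ e = 1 := by
  have hinf : X.basicOpen e ⊓ X.basicOpen (1 - e) = ⊥ := by
    rw [← Scheme.basicOpen_mul, mul_sub, mul_one, he.eq, sub_self, Scheme.basicOpen_zero]
  have hsup : X.basicOpen e ⊔ X.basicOpen (1 - e) = ⊤ := by
    apply le_antisymm le_top
    have := X.basicOpen_add_le e (1 - e)
    rwa [add_sub_cancel, Scheme.basicOpen_one] at this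
  have hcl : IsClopen ((X.basicOpen e : X.Opens) : Set X) := by
    refine ⟨?_, (X.basicOpen e).2⟩
    have : ((X.basicOpen e : X.Opens) : Set X)ᶜ = ((X.basicOpen (1 - e) : X.Opens) : Set X) := by
      ext x
      constructor
      · intro hx
        have h1 : x ∈ X.basicOpen e ⊔ X.basicOpen (1 - e) := by rw [hsup]; trivial
        rcases h1 with h1 | h1
        · exact (hx h1).elim
        · exact h1
      · intro hx hx'
        have h1 : x ∈ X.basicOpen e ⊓ X.basicOpen (1 - e) := ⟨hx', hx⟩
        rw [hinf] at h1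
        exact h1
    rw [← isOpen_compl_iff, this]
    exact (X.basicOpen (1 - e)).2
  rcases isClopen_iff.mp hcl with h | h
  · left
    have h0 : X.basicOpen e = ⊥ := TopologicalSpace.Opens.ext h
    have hn : IsNilpotent e := (Scheme.isNilpotent_iff_basicOpen_eq_bot e).mpr h0
    obtain ⟨n, hn⟩ := hn
    rcases n with _ | n
    · rw [pow_zero] at hn
      rw [← mul_one e, hn, mul_zero]
    · rwa [he.pow_succ_eq] at hn
  · right
    have h1 : X.basicOpen e = ⊤ := TopologicalSpace.Opens.ext h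
    have hu : IsUnit e := by
      apply RingedSpace.isUnit_of_isUnit_germ X.toRingedSpace ⊤ e
      intro x hx
      have : x ∈ X.basicOpen e := by rw [h1]; trivial
      exact (Scheme.mem_basicOpen_top X e x).mp this
    have := he.eq
    exact (hu.mul_right_inj).mp (by rw [this, mul_one])

/-- the comparison map `X ×_k K ⟶ Spec R ×_k K` is a base change of `X ⟶ Spec R`. -/
theorem isPullback_comparison {S Y T : Scheme.{u}} (g : X ⟶ S) (h : S ⟶ T) (y : Y ⟶ T) :
    IsPullback (pullback.lift (pullback.snd (g ≫ h) y) (pullback.fst (g ≫ h) y ≫ g)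
        (by rw [Category.assoc, pullback.condition]))
      (pullback.fst (g ≫ h) y) (pullback.snd y h) g := by
  refine IsPullback.of_right ?_ (pullback.lift_snd _ _ _) (IsPullback.of_hasPullback y h)
  rw [pullback.lift_fst]
  exact (IsPullback.of_hasPullback (g ≫ h) y).flip

theorem forward [IsProper f] [GeometricallyConnected f] :
    IsLocalRing Γ(X, ⊤) ∧ ringKrullDim Γ(X, ⊤) = 0 ∧
      ∀ a : Γ(X, ⊤), ∃ (n : ℕ) (c : k),
        IsNilpotent (a ^ (ringExpChar k ^ n) - strMap k f c) := by
  letI : Algebra k Γ(X, ⊤) := (strMap k f).toAlgebra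
  letI : X.Over (Spec (CommRingCat.of k)) := ⟨f⟩
  haveI : IsProper (X ↘ Spec (CommRingCat.of k)) := ‹IsProper f›
  haveI hfin : Module.Finite k Γ(X, ⊤) := Groth.Agent.H5.DegC.finite_Γ k X
  haveI : IsArtinianRing Γ(X, ⊤) := IsArtinianRing.of_finite k _
  haveI : ConnectedSpace X := GeometricallyConnected.connectedSpace_of_subsingleton f
  haveI : CompactSpace X := (quasiCompact_iff_compactSpace f).mp inferInstance
  haveI : Nonempty (⊤ : X.Opens) := ⟨⟨Classical.arbitrary X, trivial⟩⟩
  haveI : Nontrivial Γ(X, ⊤) := X.component_nontrivial ⊤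
  obtain ⟨hloc, hdim⟩ := isLocalRing_of_trivial_idempotents Γ(X, ⊤) trivial_idempotents
  refine ⟨hloc, hdim, ?_⟩
  haveI := hloc
  haveI : Ring.KrullDimLE 0 Γ(X, ⊤) := (Ring.krullDimLE_iff).mpr (le_of_eq hdim)
  apply pi_of_preconnected k Γ(X, ⊤) hdim
  intro K _ _
  let g : X ⟶ Spec Γ(X, ⊤) := X.toSpecΓ
  let h : Spec Γ(X, ⊤) ⟶ Spec (CommRingCat.of k) :=
    Spec.map (CommRingCat.ofHom (algebraMap k Γ(X, ⊤)))
  let y : Spec (CommRingCat.of K) ⟶ Spec (CommRingCat.of k) :=
    Spec.map (CommRingCat.ofHom (algebraMap k K))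
  have hgh : g ≫ h = f := toSpecΓ_comp k f
  haveI : Subsingleton (PrimeSpectrum Γ(X, ⊤)) :=
    ⟨fun p q => PrimeSpectrum.ext ((IsLocalRing.eq_maximalIdeal (p.2.isMaximal')).trans
      (IsLocalRing.eq_maximalIdeal (q.2.isMaximal')).symm)⟩
  haveI : Surjective g := ⟨fun s => ⟨Classical.arbitrary X, Subsingleton.elim (α := PrimeSpectrum Γ(X, ⊤)) _ _⟩⟩
  haveI : GeometricallyConnected (g ≫ h) := by rw [hgh]; infer_instance
  haveI : ConnectedSpace ↥(pullback (g ≫ h) y) :=
    GeometricallyConnected.geometrically_connectedSpace (f := g ≫ h) y _ _ (IsPullback.of_hasPullback _ _)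
  have sq := isPullback_comparison g h y
  have hsurj : Surjective (pullback.lift (pullback.snd (g ≫ h) y) (pullback.fst (g ≫ h) y ≫ g)
        (by rw [Category.assoc, pullback.condition])) :=
    MorphismProperty.of_isPullback (P := @Surjective) sq.flip inferInstance
  haveI : ConnectedSpace ↥(pullback y h) :=
    hsurj.1.connectedSpace (Scheme.Hom.continuous _)
  exact ((pullbackSpecIso k K Γ(X, ⊤)).hom.homeomorph.connectedSpace_iff.mp inferInstance).toPreconnectedSpace

theorem backward [IsProper f] (hloc : IsLocalRing Γ(X, ⊤)) (hdim : ringKrullDim Γ(X, ⊤) = 0)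
    (hpi : ∀ a : Γ(X, ⊤), ∃ (n : ℕ) (c : k),
        IsNilpotent (a ^ (ringExpChar k ^ n) - strMap k f c)) :
    GeometricallyConnected f := by
  letI : Algebra k Γ(X, ⊤) := (strMap k f).toAlgebra
  letI : X.Over (Spec (CommRingCat.of k)) := ⟨f⟩
  haveI : IsProper (X ↘ Spec (CommRingCat.of k)) := ‹IsProper f›
  haveI hfin : Module.Finite k Γ(X, ⊤) := Groth.Agent.H5.DegC.finite_Γ k X
  haveI : IsNoetherianRing Γ(X, ⊤) := Algebra.FiniteType.isNoetherianRing k Γ(X, ⊤)
  haveI := hloc
  haveI : Ring.KrullDimLE 0 Γ(X, ⊤) := (Ring.krullDimLE_iff).mpr (le_of_eq hdim)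
  let g : X ⟶ Spec Γ(X, ⊤) := X.toSpecΓ
  let h : Spec Γ(X, ⊤) ⟶ Spec (CommRingCat.of k) :=
    Spec.map (CommRingCat.ofHom (algebraMap k Γ(X, ⊤)))
  have hgh : g ≫ h = f := toSpecΓ_comp k f
  haveI : Subsingleton (PrimeSpectrum Γ(X, ⊤)) :=
    ⟨fun p q => PrimeSpectrum.ext ((IsLocalRing.eq_maximalIdeal (p.2.isMaximal')).trans
      (IsLocalRing.eq_maximalIdeal (q.2.isMaximal')).symm)⟩
  haveI : Subsingleton ↥(Spec Γ(X, ⊤)) := ‹Subsingleton (PrimeSpectrum Γ(X, ⊤))›
  haveI : IsProper (g ≫ h) := by rw [hgh]; infer_instance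
  haveI : IsProper g := IsProper.of_comp g h
  have hiso : ∀ U : (Spec Γ(X, ⊤)).Opens, IsIso (g.app U) := by
    intro U
    by_cases hU : (U : Set ↥(Spec Γ(X, ⊤))).Nonempty
    · have : U = ⊤ := by
        obtain ⟨x, hx⟩ := hU
        ext z
        simp only [TopologicalSpace.Opens.coe_top, Set.mem_univ, iff_true]
        rw [Subsingleton.elim z x]; exact hx
      subst this
      change IsIso g.appTop
      rw [Scheme.toSpecΓ_appTop]
      infer_instance
    · have : U = ⊥ := by
        ext z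
        simp only [TopologicalSpace.Opens.coe_bot, Set.mem_empty_iff_false, iff_false]
        exact fun hz => hU ⟨z, hz⟩
      subst this
      haveI : Subsingleton Γ(Spec Γ(X, ⊤), ⊥) := inferInstance
      haveI : Subsingleton Γ(X, g ⁻¹ᵁ ⊥) := inferInstanceAs (Subsingleton Γ(X, ⊥))
      rw [ConcreteCategory.isIso_iff_bijective]
      exact ⟨fun a b _ => Subsingleton.elim a b, fun b => ⟨0, Subsingleton.elim _ _⟩⟩
  haveI : GeometricallyConnected g :=
    (Groth.Agent.LD.Stein.zariski_connectedness g Groth.Agent.H6.HC.formalBij hiso).2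
  haveI : Nonempty ↥(Spec Γ(X, ⊤)) := ⟨IsLocalRing.closedPoint Γ(X, ⊤)⟩
  haveI : Surjective h := ⟨fun s => ⟨IsLocalRing.closedPoint Γ(X, ⊤),
    Subsingleton.elim (α := PrimeSpectrum k) _ _⟩⟩
  refine ⟨fun K _ y Z fst snd hpb => ?_⟩
  letI : Algebra k K := (Spec.preimage y).hom.toAlgebra
  have hy : y = Spec.map (CommRingCat.ofHom (algebraMap k K)) := by
    rw [show CommRingCat.ofHom (algebraMap k K) = Spec.preimage y from rfl, Spec.map_preimage]
  rw [hy] at hpb
  clear_value this
  clear hy y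
  set y := Spec.map (CommRingCat.ofHom (algebraMap k K)) with hy
  haveI : Subsingleton ↥(pullback y h) := by
    haveI h1 : Subsingleton ↥(Spec (CommRingCat.of (K ⊗[k] Γ(X, ⊤)))) :=
      subsingleton_primeSpectrum_tensor k Γ(X, ⊤) hpi K
    exact (pullbackSpecIso k K Γ(X, ⊤)).hom.homeomorph.injective.subsingleton
  haveI : Nonempty ↥(pullback y h) := by
    obtain ⟨z, -⟩ := (pullback.fst y h).surjective (Classical.arbitrary _)
    exact ⟨z⟩
  haveI : ConnectedSpace ↥(pullback g (pullback.snd y h)) :=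
    GeometricallyConnected.connectedSpace_of_subsingleton (pullback.snd g (pullback.snd y h))
  have sq : IsPullback (pullback.snd g (pullback.snd y h) ≫ pullback.fst y h)
      (pullback.fst g (pullback.snd y h)) y (g ≫ h) :=
    (IsPullback.of_hasPullback g (pullback.snd y h)).flip.paste_horiz (IsPullback.of_hasPullback y h)
  rw [hgh] at sq
  let e : Z ≅ pullback g (pullback.snd y h) := hpb.flip.isoIsPullback _ _ sq
  exact e.hom.homeomorph.connectedSpace_iff.mpr inferInstance

end Groth.Agent.H2.GeoConn
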