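import Groth.Agent.Lib.Helper2.WayOut3

/-!
# The ghost lemma in the derived category of an abelian category
-/

universe w v u

open CategoryTheory CategoryTheory.Limits CategoryTheory.Pretriangulated

namespace Groth.Agent.H2.Ghost

variable {C : Type u} [Category.{v} C] [Abelian C] [HasDerivedCategory.{w} C]

open DerivedCategory

/-- a morphism between objects concentrated in one degree which is zero on cohomology is zero -/
lemma eq_zero_of_single {X Y : DerivedCategory C} (b : ℤ) [X.IsGE b] [X.IsLE b] [Y.IsGE b]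
    [Y.IsLE b] (g : X ⟶ Y) (hg : (homologyFunctor C b).map g = 0) : g = 0 := by
  obtain ⟨X', ⟨eX⟩⟩ := exists_iso_singleFunctor_obj_of_isGE_of_isLE X b
  obtain ⟨Y', ⟨eY⟩⟩ := exists_iso_singleFunctor_obj_of_isGE_of_isLE Y b
  obtain ⟨γ, hγ⟩ := (singleFunctor C b).map_surjective (eX.inv ≫ g ≫ eY.hom)
  have h0 : (homologyFunctor C b).map ((singleFunctor C b).map γ) = 0 := by
    rw [hγ, Functor.map_comp, Functor.map_comp, hg, zero_comp, comp_zero]
  have h1 := NatIso.naturality_1 (singleFunctorCompHomologyFunctorIso C b) γ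
  dsimp at h1
  rw [h0, zero_comp, comp_zero] at h1
  have h2 : eX.inv ≫ g ≫ eY.hom = 0 := by rw [← hγ, ← h1, Functor.map_zero]
  have : g = eX.hom ≫ (eX.inv ≫ g ≫ eY.hom) ≫ eY.inv := by simp
  rw [this, h2, zero_comp, comp_zero]

/-- the iterated composite of a sequence of morphisms -/
noncomputable def iterComp {D : Type*} [Category D] (X : ℕ → D) (f : ∀ i, X i ⟶ X (i + 1)) :
    ∀ m, X 0 ⟶ X m
  | 0 => 𝟙 _
  | m + 1 => iterComp X f m ≫ f m

lemma iterComp_succ' {D : Type*} [Category D] (X : ℕ → D) (f : ∀ i, X i ⟶ X (i + 1)) (m : ℕ) :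
    iterComp X f (m + 1) =
      f 0 ≫ iterComp (fun i => X (i + 1)) (fun i => f (i + 1)) m := by
  induction m with
  | zero => simp [iterComp]
  | succ m ih =>
    rw [iterComp, ih, iterComp, Category.assoc]

lemma iterComp_naturality {D : Type*} [Category D] (X Y : ℕ → D) (f : ∀ i, X i ⟶ X (i + 1))
    (g : ∀ i, Y i ⟶ Y (i + 1)) (α : ∀ i, X i ⟶ Y i)
    (m : ℕ) (h : ∀ i, i < m → f i ≫ α (i + 1) = α i ≫ g i) :
    iterComp X f m ≫ α m = α 0 ≫ iterComp Y g m := by
  induction m with
  | zero => simp [iterComp]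
  | succ m ih =>
    rw [iterComp, iterComp, Category.assoc, h m (Nat.lt_succ_self m), ← Category.assoc,
      ih (fun i hi => h i (Nat.lt_succ_of_lt hi)), Category.assoc]

theorem ghost (a : ℤ) : ∀ (n : ℕ) (X : ℕ → DerivedCategory C) (f : ∀ i, X i ⟶ X (i + 1))
    (_ : ∀ i : ℕ, i ≤ n + 1 → (X i).IsGE a)
    (_ : ∀ i : ℕ, i ≤ n + 1 → (X i).IsLE (a + n))
    (_ : ∀ i : ℕ, i ≤ n → ∀ q : ℤ, (homologyFunctor C q).map (f i) = 0),
    iterComp X f (n + 1) = 0 := by
  intro n
  induction n with
  | zero =>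
    intro X f hGE hLE hz
    have := hGE 0 (by omega)
    have := hGE 1 (by omega)
    have h0 : (X 0).IsLE a := by simpa using hLE 0 (by omega)
    have h1 : (X 1).IsLE a := by simpa using hLE 1 (by omega)
    have : (X (0 + 1)).IsLE a := h1
    have : (X (0 + 1)).IsGE a := hGE 1 (by omega)
    simp only [iterComp, Category.id_comp]
    exact eq_zero_of_single a (f 0) (hz 0 le_rfl a)
  | succ n ih =>
    intro X f hGE hLE hz
    -- the top degree
    set b : ℤ := a + ((n + 1 : ℕ) : ℤ) with hb
    -- truncated chain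
    let X' : ℕ → DerivedCategory C := fun i => (TStructure.t.truncLE (b - 1)).obj (X (i + 1))
    let f' : ∀ i, X' i ⟶ X' (i + 1) := fun i => (TStructure.t.truncLE (b - 1)).map (f (i + 1))
    let ι : ∀ i, X' i ⟶ X (i + 1) := fun i => (TStructure.t.truncLEι (b - 1)).app (X (i + 1))
    have hι : ∀ i, f' i ≫ ι (i + 1) = ι i ≫ f (i + 1) := fun i =>
      (TStructure.t.truncLEι (b - 1)).naturality (f (i + 1))
    have hX'GE : ∀ i : ℕ, i ≤ n + 1 → (X' i).IsGE a := by
      intro i hi
      have := hGE (i + 1) (by omega)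
      dsimp only [X']
      infer_instance
    have hX'LE : ∀ i : ℕ, i ≤ n + 1 → (X' i).IsLE (a + n) := by
      intro i hi
      have : (X' i).IsLE (b - 1) := by dsimp only [X']; infer_instance
      exact TStructure.t.isLE_of_le _ (b - 1) _ (by rw [hb]; push_cast; omega)
    have hf' : ∀ i : ℕ, i ≤ n → ∀ q : ℤ, (homologyFunctor C q).map (f' i) = 0 := by
      intro i hi q
      by_cases hq : q ≤ b - 1
      · have := WayOut.isIso_homology_truncLEι (X (i + 1 + 1)) (b - 1) q hq
        rw [← cancel_mono ((homologyFunctor C q).map (ι (i + 1))), zero_comp, ← Functor.map_comp,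
          hι, Functor.map_comp, hz (i + 1) (by omega) q, comp_zero]
      · apply IsZero.eq_of_src
        exact isZero_of_isLE (X' i) (b - 1) q (by omega)
    have key := ih X' f' hX'GE hX'LE hf'
    -- factor `f 0` through the truncation
    have hfac : ∃ g₀ : X 0 ⟶ X' 0, g₀ ≫ ι 0 = f 0 := by
      have hT := TStructure.t.triangleLEGT_distinguished (b - 1) (X (0 + 1))
      have hzero : f 0 ≫ (TStructure.t.truncGTπ (b - 1)).app (X (0 + 1)) = 0 := by
        have hn := (TStructure.t.truncGTπ (b - 1)).naturality (f 0)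
        dsimp at hn
        rw [hn]
        have i0 : (X 0).IsLE b := hLE 0 (by omega)
        have i1 : (X (0 + 1)).IsLE b := hLE 1 (by omega)
        have : ((TStructure.t.truncGT (b - 1)).obj (X 0)).IsGE b := inferInstance
        have : ((TStructure.t.truncGT (b - 1)).obj (X (0 + 1))).IsGE b := inferInstance
        have : ((TStructure.t.truncGT (b - 1)).obj (X 0)).IsLE b := inferInstance
        have : ((TStructure.t.truncGT (b - 1)).obj (X (0 + 1))).IsLE b := inferInstance
        have hτ : (TStructure.t.truncGT (b - 1)).map (f 0) = 0 := by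
          apply eq_zero_of_single b
          have := WayOut.isIso_homology_truncGTπ (X 0) (b - 1) b (by omega)
          rw [← cancel_epi ((homologyFunctor C b).map ((TStructure.t.truncGTπ (b - 1)).app (X 0))),
            comp_zero, ← Functor.map_comp, ← hn, Functor.map_comp, hz 0 (by omega) b, zero_comp]
        rw [hτ, comp_zero]
      obtain ⟨g₀, hg₀⟩ := Triangle.coyoneda_exact₂ _ hT (f 0) hzero
      exact ⟨g₀, hg₀.symm⟩
    obtain ⟨g₀, hg₀⟩ := hfac
    rw [iterComp_succ', ← hg₀, Category.assoc]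
    have hnat := iterComp_naturality X' (fun i => X (i + 1)) f' (fun i => f (i + 1)) ι (n + 1)
      (fun i _ => hι i)
    rw [← hnat, key, zero_comp, comp_zero]

lemma map_eq_iterComp {D : Type*} [Category D] (K : ℕ ⥤ D) (m : ℕ) :
    K.map (homOfLE (Nat.zero_le m)) =
      iterComp K.obj (fun i => K.map (homOfLE (Nat.le_succ i))) m := by
  induction m with
  | zero =>
    simp only [iterComp]
    exact K.map_id 0
  | succ m ih =>
    rw [iterComp, ← ih, ← K.map_comp]
    rfl

theorem ghost_functor (a : ℤ) (n : ℕ) (K : ℕ ⥤ DerivedCategory C)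
    (hGE : ∀ i : ℕ, i ≤ n + 1 → (K.obj i).IsGE a)
    (hLE : ∀ i : ℕ, i ≤ n + 1 → (K.obj i).IsLE (a + n))
    (hzero : ∀ i : ℕ, i ≤ n → ∀ q : ℤ,
      (DerivedCategory.homologyFunctor C q).map (K.map (homOfLE (Nat.le_succ i))) = 0) :
    K.map (homOfLE (Nat.zero_le (n + 1))) = 0 := by
  rw [map_eq_iterComp]
  exact ghost a n K.obj _ hGE hLE hzero

end Groth.Agent.H2.Ghost
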