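import Mathlib
set_option autoImplicit false
universe u
open DirectSum

/-! Graded algebra lemmas for S10908. -/

namespace Groth.Agent.H2.GlobNorm

variable {R A : Type u} [CommRing R] [CommRing A] [Algebra R A] (𝒜 : ℕ → Submodule R A)
  [GradedAlgebra 𝒜]

/-- degree lemma: in a graded domain, if `z * g` is homogeneous of degree `e + k` with `g ≠ 0`
homogeneous of degree `k`, then `z` is homogeneous of degree `e`. -/
theorem mem_of_mul_mem [IsDomain A] {z g : A} {k e : ℕ} (hg : g ∈ 𝒜 k) (hg0 : g ≠ 0)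
    (h : z * g ∈ 𝒜 (e + k)) : z ∈ 𝒜 e := by
  classical
  have hz : ∀ i, i ≠ e → (decompose 𝒜 z i : A) = 0 := by
    intro i hi
    have h1 : ((decompose 𝒜 (z * g)) (i + k) : A) = (decompose 𝒜 z i : A) * g :=
      coe_decompose_mul_add_of_right_mem 𝒜 hg
    have h2 : ((decompose 𝒜 (z * g)) (i + k) : A) = 0 :=
      decompose_of_mem_ne 𝒜 h (by omega)
    rw [h2] at h1
    rcases mul_eq_zero.mp h1.symm with h3 | h3
    · exact h3
    · exact (hg0 h3).elim
  have h3 : z = (decompose 𝒜 z e : A) := by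
    conv_lhs => rw [← sum_support_decompose 𝒜 z]
    refine Finset.sum_eq_single e (fun i _ hi => hz i hi) (fun he => ?_)
    rw [DFinsupp.notMem_support_iff] at he
    rw [he]
    rfl
  rw [h3]
  exact (decompose 𝒜 z e).2

/-- when the ring is generated in degree one, `𝒜 j ⊆ (A₊)^j`. -/
theorem mem_irrelevant_pow (hgen : ∀ i : ℕ, 𝒜 1 * 𝒜 i = 𝒜 (i + 1)) (j : ℕ) :
    ∀ y ∈ 𝒜 j, y ∈ (HomogeneousIdeal.irrelevant 𝒜).toIdeal ^ j := by
  induction j with
  | zero =>
    intro y _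
    rw [pow_zero, Ideal.one_eq_top]
    trivial
  | succ j ih =>
    intro y hy
    rw [← hgen j] at hy
    refine Submodule.mul_induction_on hy (fun a ha b hb => ?_) (fun x y hx hy => Ideal.add_mem _ hx hy)
    rw [pow_succ']
    exact Ideal.mul_mem_mul (HomogeneousIdeal.mem_irrelevant_of_mem 𝒜 Nat.one_pos ha) (ih b hb)

/-- when the ring is generated in degree one, the irrelevant ideal is generated by `𝒜 1`. -/
theorem irrelevant_le_span (hgen : ∀ i : ℕ, 𝒜 1 * 𝒜 i = 𝒜 (i + 1)) :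
    (HomogeneousIdeal.irrelevant 𝒜).toIdeal ≤ Ideal.span (𝒜 1 : Set A) := by
  rw [HomogeneousIdeal.irrelevant_eq_span, Ideal.span_le]
  intro y hy
  simp only [Set.mem_iUnion] at hy
  obtain ⟨i, hi, hy⟩ := hy
  obtain ⟨j, rfl⟩ : ∃ j, i = j + 1 := ⟨i - 1, by omega⟩
  have hy' : y ∈ 𝒜 (j + 1) := hy
  rw [← hgen j] at hy'
  exact Submodule.mul_induction_on hy'
    (fun a ha b hb => Ideal.mul_mem_right _ _ (Ideal.subset_span ha))
    (fun x y hx hy => Ideal.add_mem _ hx hy)

end Groth.Agent.H2.GlobNorm
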