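import Mathlib
import Groth.Agent.Lib.Helper2.GlobNormA
set_option autoImplicit false
universe u
open DirectSum

/-! The algebraic core of S10908: a homogeneous fraction of degree `d ≥ 0` with denominators powers
of every degree one element lies in `𝒜 d`, for an integrally closed Noetherian graded domain
generated in degree one. -/

namespace Groth.Agent.H2.GlobNorm

variable {R A : Type u} [CommRing R] [CommRing A] [Algebra R A] (𝒜 : ℕ → Submodule R A)
  [GradedAlgebra 𝒜]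

theorem exists_mem_of_fraction [IsDomain A] [IsNoetherianRing A] [IsIntegrallyClosed A]
    (hgen : ∀ i : ℕ, 𝒜 1 * 𝒜 i = 𝒜 (i + 1)) (h1 : 𝒜 1 ≠ ⊥)
    (K : Type*) [Field K] [Algebra A K] [IsFractionRing A K] (ℓ : K) (d : ℕ)
    (hℓ : ∀ f ∈ 𝒜 1, f ≠ 0 → ∃ (k : ℕ) (b : A), b ∈ 𝒜 (k + d) ∧
      algebraMap A K (f ^ k) * ℓ = algebraMap A K b) :
    ∃ a ∈ 𝒜 d, algebraMap A K a = ℓ := by
  classical
  have hinj : Function.Injective (algebraMap A K) := IsFractionRing.injective A K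
  -- a nonzero element of degree one
  obtain ⟨f₀, hf₀, hf₀0⟩ : ∃ f₀ ∈ 𝒜 1, f₀ ≠ 0 := by
    by_contra hcon
    push Not at hcon
    exact h1 ((Submodule.eq_bot_iff _).mpr hcon)
  obtain ⟨k₀, b₀, hb₀, hkb₀⟩ := hℓ f₀ hf₀ hf₀0
  have hf₀k : f₀ ^ k₀ ∈ 𝒜 k₀ := by
    have := SetLike.pow_mem_graded k₀ hf₀
    simpa using this
  have hf₀k0 : f₀ ^ k₀ ≠ 0 := pow_ne_zero _ hf₀0
  -- the conductor ideal
  let J : Ideal A :=
    { carrier := {y | ∃ z : A, algebraMap A K y * ℓ = algebraMap A K z}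
      add_mem' := by
        rintro y y' ⟨z, hz⟩ ⟨z', hz'⟩
        exact ⟨z + z', by rw [map_add, map_add, add_mul, hz, hz']⟩
      zero_mem' := ⟨0, by simp⟩
      smul_mem' := by
        rintro c y ⟨z, hz⟩
        exact ⟨c * z, by rw [smul_eq_mul, map_mul, map_mul, mul_assoc, hz]⟩ }
  have hJ : ∀ y, y ∈ J ↔ ∃ z : A, algebraMap A K y * ℓ = algebraMap A K z := fun y => Iff.rfl
  have hrad : (HomogeneousIdeal.irrelevant 𝒜).toIdeal ≤ J.radical := by
    refine (irrelevant_le_span 𝒜 hgen).trans ?_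
    rw [Ideal.span_le]
    intro f hf
    by_cases hf0 : f = 0
    · rw [hf0]; exact Ideal.zero_mem _
    · obtain ⟨k, b, -, hkb⟩ := hℓ f hf hf0
      exact ⟨k, (hJ _).mpr ⟨b, hkb⟩⟩
  obtain ⟨N, hN⟩ := Ideal.exists_pow_le_of_le_radical_of_fg hrad
    (IsNoetherian.noetherian _)
  -- multiplication by `ℓ` maps `𝒜 j` into `𝒜 (j + d)` for `j ≥ N`
  have hmul : ∀ j, N ≤ j → ∀ y ∈ 𝒜 j, ∃ z ∈ 𝒜 (j + d), algebraMap A K y * ℓ = algebraMap A K z := by
    intro j hj y hy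
    have h2 : y ∈ J := hN (Ideal.pow_le_pow_right hj (mem_irrelevant_pow 𝒜 hgen j y hy))
    obtain ⟨z, hz⟩ := (hJ y).mp h2
    refine ⟨z, ?_, hz⟩
    have h3 : z * f₀ ^ k₀ = y * b₀ := by
      apply hinj
      rw [map_mul, map_mul, ← hz, ← hkb₀]
      ring
    refine mem_of_mul_mem 𝒜 hf₀k hf₀k0 (e := j + d) ?_
    rw [h3]
    have h4 := SetLike.mul_mem_graded hy hb₀
    have e1 : j + (k₀ + d) = j + d + k₀ := by omega
    rw [← e1]
    exact h4
  -- the module of elements of degree `≥ N`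
  let M : Ideal A := Ideal.span {y | ∃ j, N ≤ j ∧ y ∈ 𝒜 j}
  let N' : Submodule A K := Submodule.map (Algebra.linearMap A K) M
  have hN'fg : N'.FG := (IsNoetherian.noetherian M).map _
  have hN'ne : N' ≠ ⊥ := by
    intro h
    have hfN : f₀ ^ N ∈ 𝒜 N := by
      have := SetLike.pow_mem_graded N hf₀
      simpa using this
    have h2 : algebraMap A K (f₀ ^ N) ∈ N' :=
      ⟨f₀ ^ N, Ideal.subset_span ⟨N, le_rfl, hfN⟩, rfl⟩
    rw [h, Submodule.mem_bot] at h2
    exact pow_ne_zero N hf₀0 (hinj (h2.trans (map_zero _).symm))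
  have hstab : ∀ n ∈ N', ℓ • n ∈ N' := by
    rintro _ ⟨m, hm, rfl⟩
    induction hm using Submodule.span_induction with
    | mem y hy =>
      obtain ⟨j, hj, hyj⟩ := hy
      obtain ⟨z, hz, hzeq⟩ := hmul j hj y hyj
      refine ⟨z, Ideal.subset_span ⟨j + d, by omega, hz⟩, ?_⟩
      change algebraMap A K z = ℓ • algebraMap A K y
      rw [← hzeq, smul_eq_mul, mul_comm]
    | zero => simp
    | add x y _ _ hx hy =>
      rw [map_add, smul_add]
      exact N'.add_mem hx hy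
    | smul a x _ hx =>
      rw [map_smul, smul_comm]
      exact N'.smul_mem a hx
  have hint : IsIntegral A ℓ := isIntegral_of_smul_mem_submodule N' hN'ne hN'fg ℓ hstab
  obtain ⟨a, ha⟩ := IsIntegrallyClosed.isIntegral_iff.mp hint
  refine ⟨a, ?_, ha⟩
  have h5 : a * f₀ ^ k₀ = b₀ := hinj (by rw [map_mul, ha, ← hkb₀]; ring)
  refine mem_of_mul_mem 𝒜 hf₀k hf₀k0 (e := d) ?_
  rw [h5, add_comm]
  exact hb₀

end Groth.Agent.H2.GlobNorm
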