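import Groth.Agent.Lib.Helper2.GlobNormB
import Groth.Agent.Lib.Lead.PN.Rep2
set_option autoImplicit false
universe u
open CategoryTheory AlgebraicGeometry TopologicalSpace Opposite

/-! S10908: `𝒜 d → Γ(Proj 𝒜, O(d))` is bijective for an integrally closed Noetherian graded domain
generated in degree one. -/

namespace Groth.Agent.H2.GlobNorm
open Twist Groth.Agent.LD.TW Groth.Agent.LD.PN

variable {R A : Type u} [CommRing R] [CommRing A] [IsDomain A] [Algebra R A]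
  (𝒜 : ℕ → Submodule R A) [GradedAlgebra 𝒜]

/-- the generic point of `Proj` of a graded domain with `𝒜 1 ≠ 0`. -/
noncomputable def genPt (h1 : 𝒜 1 ≠ ⊥) : ProjectiveSpectrum 𝒜 :=
  ⟨⊥, by rw [HomogeneousIdeal.toIdeal_bot]; exact Ideal.isPrime_bot, by
    intro hle
    obtain ⟨f₀, hf₀, hf₀0⟩ : ∃ f₀ ∈ 𝒜 1, f₀ ≠ 0 := by
      by_contra hcon
      push Not at hcon
      exact h1 ((Submodule.eq_bot_iff _).mpr hcon)
    have h2 : f₀ ∈ HomogeneousIdeal.irrelevant 𝒜 :=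
      HomogeneousIdeal.mem_irrelevant_of_mem 𝒜 Nat.one_pos hf₀
    have h3 : f₀ ∈ (⊥ : HomogeneousIdeal 𝒜).toIdeal := hle h2
    rw [HomogeneousIdeal.toIdeal_bot, Ideal.mem_bot] at h3
    exact hf₀0 h3⟩

lemma genPt_toIdeal (h1 : 𝒜 1 ≠ ⊥) : (genPt 𝒜 h1).asHomogeneousIdeal.toIdeal = ⊥ :=
  HomogeneousIdeal.toIdeal_bot

lemma notMem_genPt (h1 : 𝒜 1 ≠ ⊥) {f : A} (hf : f ≠ 0) :
    f ∉ (genPt 𝒜 h1).asHomogeneousIdeal := by
  intro h
  have h3 : f ∈ (⊥ : HomogeneousIdeal 𝒜).toIdeal := h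
  rw [HomogeneousIdeal.toIdeal_bot, Ideal.mem_bot] at h3
  exact hf h3

instance isFractionRing_genPt (h1 : 𝒜 1 ≠ ⊥) : IsFractionRing A (Loc 𝒜 (genPt 𝒜 h1)) := by
  have h : (genPt 𝒜 h1).asHomogeneousIdeal.toIdeal.primeCompl = nonZeroDivisors A := by
    rw [← Ideal.primeCompl_bot]
    rfl
  unfold IsFractionRing
  rw [← h]
  infer_instance

end Groth.Agent.H2.GlobNorm
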