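import Groth.Agent.Lib.Helper2.GlobNormC
set_option autoImplicit false
universe u
open CategoryTheory AlgebraicGeometry TopologicalSpace Opposite

namespace Groth.Agent.H2.GlobNorm
open Twist Groth.Agent.LD.TW Groth.Agent.LD.PN

variable {R A : Type u} [CommRing R] [CommRing A] [Algebra R A]
  (𝒜 : ℕ → Submodule R A) [GradedAlgebra 𝒜]

/-- a global section of `O(d)` is given on `D₊(f)`, `f` of degree one, by a fraction `b / f^k`. -/
theorem exists_rep_global {f : A} (hf : f ∈ 𝒜 1) (d : ℕ) (s : sectN (𝒜 := 𝒜) (d : ℤ) (op ⊤)) :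
    ∃ (k : ℕ) (b : A), b ∈ 𝒜 (k + d) ∧ ∀ (x : ProjectiveSpectrum 𝒜)
      (hx : f ∉ x.asHomogeneousIdeal),
      ((s.1 ⟨x, trivial⟩ : twistAt 𝒜 (d : ℤ) x) : Loc 𝒜 x) =
        Localization.mk b ⟨f ^ k, pow_notMem f x hx k⟩ := by
  have hone : (1 : A) ∈ 𝒜 0 := SetLike.GradedOne.one_mem
  obtain ⟨ℓ, ⟨k, j, b, hb, hj, rfl⟩, hrep⟩ := exists_rep (𝒜 := 𝒜) (g := f) (f := f) (g' := 1)
    (m' := 0) hf hone (one_mul f).symm (d : ℤ) rfl
    (resSec (le_top : ProjectiveSpectrum.basicOpen 𝒜 f ≤ ⊤) s)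
  have hjk : j = k + d := by
    have : (j : ℤ) = ((k + d : ℕ) : ℤ) := by rw [hj]; push_cast; ring
    exact_mod_cast this
  subst hjk
  refine ⟨k, b, hb, fun x hx => ?_⟩
  have h1 := hrep ⟨x, hx⟩
  rw [toLoc_mk f x hx b k (pow_notMem f x hx k)] at h1
  exact h1

end Groth.Agent.H2.GlobNorm
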