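import Groth.Agent.Lib.Helper2.GlobNormD
set_option autoImplicit false
universe u
open CategoryTheory AlgebraicGeometry TopologicalSpace Opposite

namespace Groth.Agent.H2.GlobNorm
open Twist Groth.Agent.LD.TW Groth.Agent.LD.PN

variable {R A : Type u} [CommRing R] [CommRing A] [IsDomain A] [Algebra R A]
  (𝒜 : ℕ → Submodule R A) [GradedAlgebra 𝒜]

theorem globalOf_bijective [IsNoetherianRing A]
    (hgen : ∀ i : ℕ, 𝒜 1 * 𝒜 i = 𝒜 (i + 1)) (h1 : 𝒜 1 ≠ ⊥) (hint : IsIntegrallyClosed A) (d : ℕ) :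
    Function.Bijective (fun a : ↥(𝒜 d) => Twist.globalOf 𝒜 a) := by
  have hinjK : Function.Injective (algebraMap A (Loc 𝒜 (genPt 𝒜 h1))) :=
    IsFractionRing.injective A _
  constructor
  · intro a a' h
    have h2 := congrArg (fun t : sectN (𝒜 := 𝒜) (d : ℤ) (op ⊤) =>
      ((t.1 ⟨genPt 𝒜 h1, trivial⟩ : twistAt 𝒜 (d : ℤ) (genPt 𝒜 h1)) : Loc 𝒜 (genPt 𝒜 h1))) h
    simp only [globalOf_val] at h2
    have e : ∀ c : A, algebraMap A (Loc 𝒜 (genPt 𝒜 h1)) c =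
        (Localization.mk c (1 : (genPt 𝒜 h1).asHomogeneousIdeal.toIdeal.primeCompl) :
          Loc 𝒜 (genPt 𝒜 h1)) := fun c =>
      (Localization.mk_one_eq_algebraMap c).symm
    exact Subtype.ext (hinjK ((e _).trans (h2.trans (e _).symm)))
  · intro s
    letI : Field (Loc 𝒜 (genPt 𝒜 h1)) := IsFractionRing.toField A
    obtain ⟨ℓ, hℓdef⟩ : ∃ ℓ : Loc 𝒜 (genPt 𝒜 h1),
        ℓ = ((s.1 ⟨genPt 𝒜 h1, trivial⟩ : twistAt 𝒜 (d : ℤ) (genPt 𝒜 h1)) :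
          Loc 𝒜 (genPt 𝒜 h1)) := ⟨_, rfl⟩
    have key : ∀ f ∈ 𝒜 1, f ≠ 0 → ∀ (k : ℕ) (b : A),
        (∀ (x : ProjectiveSpectrum 𝒜) (hx : f ∉ x.asHomogeneousIdeal),
          ((s.1 ⟨x, trivial⟩ : twistAt 𝒜 (d : ℤ) x) : Loc 𝒜 x) =
            Localization.mk b ⟨f ^ k, pow_notMem f x hx k⟩) →
        algebraMap A (Loc 𝒜 (genPt 𝒜 h1)) (f ^ k) * ℓ = algebraMap A (Loc 𝒜 (genPt 𝒜 h1)) b := by
      intro f hf hf0 k b hrep
      have h3 := hrep (genPt 𝒜 h1) (notMem_genPt 𝒜 h1 hf0)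
      rw [hℓdef, h3, Localization.mk_eq_mk']
      exact IsLocalization.mk'_spec'_mk _ _ _ _
    obtain ⟨a, ha, haℓ⟩ := exists_mem_of_fraction 𝒜 hgen h1 (Loc 𝒜 (genPt 𝒜 h1)) ℓ d (by
      intro f hf hf0
      obtain ⟨k, b, hb, hrep⟩ := exists_rep_global 𝒜 hf d s
      exact ⟨k, b, hb, key f hf hf0 k b hrep⟩)
    refine ⟨⟨a, ha⟩, ?_⟩
    apply sectN_ext
    intro x
    obtain ⟨f, hf, hfx⟩ : ∃ f ∈ 𝒜 1, f ∉ x.1.asHomogeneousIdeal := by
      by_contra hcon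
      push Not at hcon
      apply x.1.not_irrelevant_le
      intro y hy
      exact (Ideal.span_le.mpr hcon) (irrelevant_le_span 𝒜 hgen hy)
    obtain ⟨k, b, hb, hrep⟩ := exists_rep_global 𝒜 hf d s
    have hf0 : f ≠ 0 := fun h => hfx (h ▸ Submodule.zero_mem _)
    have h4 : b = a * f ^ k := by
      apply hinjK
      rw [← key f hf hf0 k b hrep, map_mul, haℓ, mul_comm]
    have h5 := hrep x.1 hfx
    rw [globalOf_val]
    refine Eq.trans ?_ h5.symm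
    rw [h4, Localization.mk_eq_mk_iff, Localization.r_iff_exists]
    refine ⟨1, ?_⟩
    simp only [OneMemClass.coe_one, one_mul]
    ring

end Groth.Agent.H2.GlobNorm
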