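import Mathlib
import Groth.Prelude.Def_GrSyz

/-! Graded Betti numbers are independent of the minimal resolution: graded parts of matrices. -/

universe u
open DirectSum

namespace Groth.Agent.H2.GrSyzBetti

section Ring
variable {R : Type u} [CommRing R] {σ' : Type u} [SetLike σ' R] [AddSubgroupClass σ' R]
variable (𝒜 : ℤ → σ') [GradedRing 𝒜]

/-- the part of a matrix that is homogeneous for the given degrees of the basis vectors -/
noncomputable def grMat {m n : ℕ} (e : Fin n → ℤ) (e' : Fin m → ℤ) (A : Matrix (Fin m) (Fin n) R) :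
    Matrix (Fin m) (Fin n) R :=
  fun b a => GradedRing.proj 𝒜 (e a - e' b) (A b a)

theorem grMat_mem {m n : ℕ} (e : Fin n → ℤ) (e' : Fin m → ℤ) (A : Matrix (Fin m) (Fin n) R)
    (b : Fin m) (a : Fin n) : grMat 𝒜 e e' A b a ∈ 𝒜 (e a - e' b) := by
  unfold grMat
  rw [GradedRing.proj_apply]
  exact SetLike.coe_mem _

theorem grMat_eq_self {m n : ℕ} (e : Fin n → ℤ) (e' : Fin m → ℤ) (A : Matrix (Fin m) (Fin n) R)
    (hA : ∀ b a, A b a ∈ 𝒜 (e a - e' b)) : grMat 𝒜 e e' A = A := by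
  ext b a
  unfold grMat
  rw [GradedRing.proj_apply, DirectSum.decompose_of_mem_same 𝒜 (hA b a)]

theorem proj_mul_of_left_mem {x : R} {i : ℤ} (hx : x ∈ 𝒜 i) (y : R) (n : ℤ) :
    GradedRing.proj 𝒜 n (x * y) = x * GradedRing.proj 𝒜 (n - i) y := by
  rw [GradedRing.proj_apply, GradedRing.proj_apply]
  have h : n = i + (n - i) := by ring
  conv_lhs => rw [h]
  exact DirectSum.coe_decompose_mul_add_of_left_mem 𝒜 hx

theorem proj_mul_of_right_mem {y : R} {j : ℤ} (hy : y ∈ 𝒜 j) (x : R) (n : ℤ) :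
    GradedRing.proj 𝒜 n (x * y) = GradedRing.proj 𝒜 (n - j) x * y := by
  rw [mul_comm, proj_mul_of_left_mem 𝒜 hy, mul_comm]

theorem grMat_mul_left {l m n : ℕ} (e : Fin n → ℤ) (e' : Fin m → ℤ) (e'' : Fin l → ℤ)
    (D : Matrix (Fin l) (Fin m) R) (hD : ∀ c b, D c b ∈ 𝒜 (e' b - e'' c))
    (A : Matrix (Fin m) (Fin n) R) :
    grMat 𝒜 e e'' (D * A) = D * grMat 𝒜 e e' A := by
  ext c a
  unfold grMat
  rw [Matrix.mul_apply, Matrix.mul_apply, map_sum]
  apply Finset.sum_congr rfl
  intro b _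
  rw [proj_mul_of_left_mem 𝒜 (hD c b)]
  congr 2
  ring

theorem grMat_mul_right {m n p : ℕ} (e : Fin n → ℤ) (e' : Fin m → ℤ) (f : Fin p → ℤ)
    (A : Matrix (Fin m) (Fin n) R) (D : Matrix (Fin n) (Fin p) R)
    (hD : ∀ a z, D a z ∈ 𝒜 (f z - e a)) :
    grMat 𝒜 f e' (A * D) = grMat 𝒜 e e' A * D := by
  ext b z
  unfold grMat
  rw [Matrix.mul_apply, Matrix.mul_apply, map_sum]
  apply Finset.sum_congr rfl
  intro a _
  rw [proj_mul_of_right_mem 𝒜 (hD a z)]
  congr 2
  ring

end Ring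

section Module
variable {R : Type u} [CommRing R] {σ' : Type u} [SetLike σ' R] [AddSubgroupClass σ' R]
variable (𝒜 : ℤ → σ') [GradedRing 𝒜]
variable {M : Type u} [AddCommGroup M] [Module R M] {τ : Type u} [SetLike τ M]
  [AddSubgroupClass τ M] (ℳ : ℤ → τ) [DirectSum.Decomposition ℳ] [SetLike.GradedSMul 𝒜 ℳ]

/-- the homogeneous components of a multiple of a homogeneous element -/
theorem decompose_smul_of_mem {m' : M} {e' : ℤ} (hm : m' ∈ ℳ e') (r : R) (n : ℤ) :
    (DirectSum.decompose ℳ (r • m') n : M) = GradedRing.proj 𝒜 (n - e') r • m' := by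
  classical
  have hr : r = ∑ i ∈ (decompose 𝒜 r).support, (decompose 𝒜 r i : R) :=
    (DirectSum.sum_support_decompose 𝒜 r).symm
  have h1 : r • m' = ∑ i ∈ (decompose 𝒜 r).support, (decompose 𝒜 r i : R) • m' := by
    conv_lhs => rw [hr]
    rw [Finset.sum_smul]
  have hmem : ∀ i, (decompose 𝒜 r i : R) • m' ∈ ℳ (i + e') := fun i => by
    have h := SetLike.GradedSMul.smul_mem (A := 𝒜) (B := ℳ) (SetLike.coe_mem (decompose 𝒜 r i)) hm
    rwa [vadd_eq_add] at h
  rw [h1, DirectSum.decompose_sum, DFinsupp.finsetSum_apply, AddSubmonoidClass.coe_finsetSum]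
  rw [GradedRing.proj_apply]
  by_cases hn : (n - e') ∈ (decompose 𝒜 r).support
  · rw [Finset.sum_eq_single_of_mem (n - e') hn]
    · have h2 : (n - e') + e' = n := by ring
      have h3 := hmem (n - e')
      rw [h2] at h3
      rw [DirectSum.decompose_of_mem_same ℳ h3]
    · intro i _ hi
      rw [DirectSum.decompose_of_mem_ne ℳ (hmem i)]
      intro h
      apply hi
      rw [← h]
      ring
  · have h0 : (decompose 𝒜 r (n - e') : R) = 0 := by
      rw [DFinsupp.notMem_support_iff] at hn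
      rw [hn]
      rfl
    rw [h0, zero_smul]
    apply Finset.sum_eq_zero
    intro i hi
    rw [DirectSum.decompose_of_mem_ne ℳ (hmem i)]
    intro h
    apply hn
    have : n - e' = i := by rw [← h]; ring
    rw [this]
    exact hi

/-- the homogeneous components of a linear combination of homogeneous elements -/
theorem decompose_sum_smul {m : ℕ} (e' : Fin m → ℤ) (g : Fin m → M) (hg : ∀ b, g b ∈ ℳ (e' b))
    (v : Fin m → R) (n : ℤ) :
    (DirectSum.decompose ℳ (∑ b, v b • g b) n : M) =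
      ∑ b, GradedRing.proj 𝒜 (n - e' b) (v b) • g b := by
  rw [DirectSum.decompose_sum, DFinsupp.finsetSum_apply, AddSubmonoidClass.coe_finsetSum]
  apply Finset.sum_congr rfl
  intro b _
  exact decompose_smul_of_mem 𝒜 ℳ (hg b) (v b) n

end Module

end Groth.Agent.H2.GrSyzBetti
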