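import Mathlib

/-! Homogeneous components for modules over a `ℤ`-graded ring, as plain data: graded modules via
`DirectSum.Decomposition`, free modules with shifted bases; graded submodules, homogeneous and
irredundant generating families. -/

universe u v

namespace Groth.Agent.H2.GrComp

open DirectSum

variable {R : Type u} [CommRing R] {σ' : Type*} [SetLike σ' R] [AddSubgroupClass σ' R]
  (𝒜 : ℤ → σ') [GradedRing 𝒜]

/-- Homogeneous components on an `R`-module. -/
structure Comp (T : Type v) [AddCommGroup T] [Module R T] where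
  /-- homogeneous of degree `j` -/
  IsHom : ℤ → T → Prop
  /-- the component of degree `j` -/
  comp : ℤ → T →+ T
  comp_mem : ∀ j t, IsHom j (comp j t)
  comp_same : ∀ j t, IsHom j t → comp j t = t
  comp_ne : ∀ i j t, IsHom i t → i ≠ j → comp j t = 0
  exists_support : ∀ t, ∃ s : Finset ℤ, (∀ j, j ∉ s → comp j t = 0) ∧ ∑ j ∈ s, comp j t = t
  smul_mem : ∀ i j a t, a ∈ 𝒜 i → IsHom j t → IsHom (i + j) (a • t)

namespace Comp

variable {𝒜} {T : Type v} [AddCommGroup T] [Module R T] (C : Comp 𝒜 T)

/-- The component of `a • t` for homogeneous `t`. -/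
lemma comp_smul_of_isHom (a : R) (l j : ℤ) (t : T) (ht : C.IsHom l t) :
    C.comp j (a • t) = (GradedRing.proj 𝒜 (j - l) a) • t := by
  classical
  conv_lhs => rw [← DirectSum.sum_support_decompose 𝒜 a]
  rw [Finset.sum_smul, map_sum]
  have hterm : ∀ i : ℤ, C.comp j ((decompose 𝒜 a i : R) • t) =
      if i = j - l then (decompose 𝒜 a i : R) • t else 0 := by
    intro i
    have hmem : C.IsHom (i + l) ((decompose 𝒜 a i : R) • t) :=
      C.smul_mem i l _ t (decompose 𝒜 a i).2 ht
    split_ifs with h
    · have : i + l = j := by omega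
      exact C.comp_same j _ (this ▸ hmem)
    · exact C.comp_ne (i + l) j _ hmem (by omega)
  simp_rw [hterm]
  rw [Finset.sum_ite_eq']
  split_ifs with h
  · rfl
  · rw [DFinsupp.notMem_support_iff] at h
    rw [GradedRing.proj_apply, h]
    simp

/-- A submodule stable under taking components. -/
def IsGraded (K : Submodule R T) : Prop := ∀ t ∈ K, ∀ j, C.comp j t ∈ K

lemma isGraded_top : C.IsGraded ⊤ := fun _ _ _ => Submodule.mem_top

end Comp

/-- The components of a free module with shifted basis degrees. -/
def free {n : ℕ} (e : Fin n → ℤ) : Comp 𝒜 (Fin n → R) where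
  IsHom j v := ∀ b, v b ∈ 𝒜 (j - e b)
  comp j :=
    { toFun := fun v b => GradedRing.proj 𝒜 (j - e b) (v b)
      map_zero' := by ext b; simp
      map_add' := fun v w => by ext b; simp }
  comp_mem j v b := by
    show GradedRing.proj 𝒜 (j - e b) (v b) ∈ 𝒜 (j - e b)
    rw [GradedRing.proj_apply]
    exact (decompose 𝒜 (v b) (j - e b)).2
  comp_same j v hv := by
    ext b
    show GradedRing.proj 𝒜 (j - e b) (v b) = v b
    rw [GradedRing.proj_apply]
    exact decompose_of_mem_same 𝒜 (hv b)
  comp_ne i j v hv hij := by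
    ext b
    show GradedRing.proj 𝒜 (j - e b) (v b) = 0
    rw [GradedRing.proj_apply]
    exact decompose_of_mem_ne 𝒜 (hv b) (by omega)
  exists_support v := by
    classical
    refine ⟨Finset.univ.biUnion (fun b => (decompose 𝒜 (v b)).support.image (fun l => l + e b)),
      ?_, ?_⟩
    · intro j hj
      ext b
      show GradedRing.proj 𝒜 (j - e b) (v b) = 0
      rw [GradedRing.proj_apply]
      by_contra hne
      apply hj
      rw [Finset.mem_biUnion]
      refine ⟨b, Finset.mem_univ b, Finset.mem_image.2 ⟨j - e b, ?_, by omega⟩⟩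
      rw [DFinsupp.mem_support_iff]
      intro h0
      exact hne (by rw [h0]; rfl)
    · ext b
      rw [Finset.sum_apply]
      show ∑ j ∈ _, GradedRing.proj 𝒜 (j - e b) (v b) = v b
      have hsub : (decompose 𝒜 (v b)).support.image (fun l => l + e b) ⊆
          Finset.univ.biUnion (fun b => (decompose 𝒜 (v b)).support.image (fun l => l + e b)) :=
        Finset.subset_biUnion_of_mem (fun b => (decompose 𝒜 (v b)).support.image (fun l => l + e b))
          (Finset.mem_univ b)
      rw [← Finset.sum_subset hsub]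
      · rw [Finset.sum_image (fun x _ y _ h => by omega)]
        conv_rhs => rw [← DirectSum.sum_support_decompose 𝒜 (v b)]
        refine Finset.sum_congr rfl (fun l _ => ?_)
        rw [GradedRing.proj_apply]
        have hl : l + e b - e b = l := by omega
        rw [hl]
      · intro j _ hj
        rw [GradedRing.proj_apply]
        by_contra hne
        apply hj
        refine Finset.mem_image.2 ⟨j - e b, ?_, by omega⟩
        rw [DFinsupp.mem_support_iff]
        intro h0
        exact hne (by rw [h0]; rfl)
  smul_mem i j a v ha hv b := by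
    have h := SetLike.mul_mem_graded ha (hv b)
    have hij : i + (j - e b) = i + j - e b := by omega
    rw [hij] at h
    exact h

lemma free_isHom_iff {n : ℕ} (e : Fin n → ℤ) (j : ℤ) (v : Fin n → R) :
    (free 𝒜 e).IsHom j v ↔ ∀ b, v b ∈ 𝒜 (j - e b) := Iff.rfl

lemma free_comp_apply {n : ℕ} (e : Fin n → ℤ) (j : ℤ) (v : Fin n → R) (b : Fin n) :
    (free 𝒜 e).comp j v b = GradedRing.proj 𝒜 (j - e b) (v b) := rfl

/-- The components of a graded module. -/
def ofDecomposition {M : Type v} [AddCommGroup M] [Module R M] {τ : Type*} [SetLike τ M]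
    [AddSubgroupClass τ M] (ℳ : ℤ → τ) [DirectSum.Decomposition ℳ] [SetLike.GradedSMul 𝒜 ℳ] :
    Comp 𝒜 M where
  IsHom j m := m ∈ ℳ j
  comp j :=
    { toFun := fun m => (decompose ℳ m j : M)
      map_zero' := by simp
      map_add' := fun x y => by simp }
  comp_mem j m := (decompose ℳ m j).2
  comp_same j m hm := decompose_of_mem_same ℳ hm
  comp_ne i j m hm hij := decompose_of_mem_ne ℳ hm hij
  exists_support m := by
    classical
    refine ⟨(decompose ℳ m).support, ?_, DirectSum.sum_support_decompose ℳ m⟩
    intro j hj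
    rw [DFinsupp.notMem_support_iff] at hj
    show ((decompose ℳ m j : ℳ j) : M) = 0
    rw [hj]
    rfl
  smul_mem i j a m ha hm := SetLike.GradedSMul.smul_mem ha hm

lemma ofDecomposition_isHom_iff {M : Type v} [AddCommGroup M] [Module R M] {τ : Type*}
    [SetLike τ M] [AddSubgroupClass τ M] (ℳ : ℤ → τ) [DirectSum.Decomposition ℳ]
    [SetLike.GradedSMul 𝒜 ℳ] (j : ℤ) (m : M) :
    (ofDecomposition 𝒜 ℳ).IsHom j m ↔ m ∈ ℳ j := Iff.rfl

section Gen

variable {𝒜} {T : Type v} [AddCommGroup T] [Module R T] (C : Comp 𝒜 T)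

/-- Components commute with a linear combination of homogeneous elements. -/
lemma comp_linearCombination {n : ℕ} (g : Fin n → T) (e : Fin n → ℤ)
    (hg : ∀ b, C.IsHom (e b) (g b)) (w : Fin n → R) (j : ℤ) :
    C.comp j (Fintype.linearCombination R g w) =
      Fintype.linearCombination R g ((free 𝒜 e).comp j w) := by
  rw [Fintype.linearCombination_apply, Fintype.linearCombination_apply, map_sum]
  refine Finset.sum_congr rfl (fun b _ => ?_)
  rw [C.comp_smul_of_isHom (w b) (e b) j (g b) (hg b)]
  rfl

/-- The module of relations between homogeneous elements is graded. -/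
lemma isGraded_ker_linearCombination {n : ℕ} (g : Fin n → T) (e : Fin n → ℤ)
    (hg : ∀ b, C.IsHom (e b) (g b)) :
    (free 𝒜 e).IsGraded (LinearMap.ker (Fintype.linearCombination R g)) := by
  intro w hw j
  rw [LinearMap.mem_ker] at hw ⊢
  rw [← comp_linearCombination C g e hg w j, hw, map_zero]

/-- A finitely generated graded submodule is generated by finitely many homogeneous elements. -/
lemma exists_finset_homogeneous (K : Submodule R T) (hK : C.IsGraded K) (hfg : K.FG) :
    ∃ s : Finset T, (∀ t ∈ s, t ∈ K ∧ ∃ j, C.IsHom j t) ∧ Submodule.span R (s : Set T) = K := by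
  classical
  obtain ⟨s, hs⟩ := hfg
  choose supp hsupp0 hsupp using C.exists_support
  refine ⟨s.biUnion (fun t => (supp t).image (fun j => C.comp j t)), ?_, ?_⟩
  · intro t ht
    rw [Finset.mem_biUnion] at ht
    obtain ⟨t0, ht0, ht⟩ := ht
    rw [Finset.mem_image] at ht
    obtain ⟨j, _, rfl⟩ := ht
    have ht0K : t0 ∈ K := hs ▸ Submodule.subset_span ht0
    exact ⟨hK t0 ht0K j, j, C.comp_mem j t0⟩
  · apply le_antisymm
    · rw [Submodule.span_le]
      intro t ht
      rw [Finset.mem_coe, Finset.mem_biUnion] at ht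
      obtain ⟨t0, ht0, ht⟩ := ht
      rw [Finset.mem_image] at ht
      obtain ⟨j, _, rfl⟩ := ht
      have ht0K : t0 ∈ K := hs ▸ Submodule.subset_span ht0
      exact hK t0 ht0K j
    · rw [← hs, Submodule.span_le]
      intro t ht
      rw [SetLike.mem_coe, ← hsupp t]
      refine Submodule.sum_mem _ (fun j hj => Submodule.subset_span ?_)
      rw [Finset.mem_coe, Finset.mem_biUnion]
      exact ⟨t, ht, Finset.mem_image.2 ⟨j, hj, rfl⟩⟩

/-- A finitely generated graded submodule has an irredundant family of homogeneous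
generators. -/
theorem exists_irredundant_family (K : Submodule R T) (hK : C.IsGraded K) (hfg : K.FG) :
    ∃ (n : ℕ) (g : Fin n → T) (e : Fin n → ℤ), (∀ b, C.IsHom (e b) (g b)) ∧
      Submodule.span R (Set.range g) = K ∧
      ∀ b, g b ∉ Submodule.span R (g '' {b' | b' ≠ b}) := by
  classical
  have hex : ∃ n : ℕ, ∃ s : Finset T, s.card = n ∧ (∀ t ∈ s, ∃ j, C.IsHom j t) ∧
      Submodule.span R (s : Set T) = K := by
    obtain ⟨s, hs1, hs2⟩ := exists_finset_homogeneous C K hK hfg
    exact ⟨s.card, s, rfl, fun t ht => (hs1 t ht).2, hs2⟩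
  obtain ⟨s, hcard, hhom, hspan⟩ := Nat.find_spec hex
  have hmin : ∀ t ∈ s, t ∉ Submodule.span R ((s.erase t : Finset T) : Set T) := by
    intro t ht hmem
    have hlt : (s.erase t).card < Nat.find hex := by
      rw [Finset.card_erase_of_mem ht, hcard]
      exact Nat.sub_lt (by rw [← hcard]; exact Finset.card_pos.2 ⟨t, ht⟩) one_pos
    apply Nat.find_min hex hlt
    refine ⟨s.erase t, rfl, fun t' ht' => hhom t' (Finset.mem_of_mem_erase ht'), ?_⟩
    apply le_antisymm
    · rw [← hspan]
      exact Submodule.span_mono (by exact_mod_cast Finset.erase_subset t s)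
    · rw [← hspan, Submodule.span_le]
      intro t' ht'
      by_cases h : t' = t
      · rw [h]; exact hmem
      · exact Submodule.subset_span (by exact_mod_cast Finset.mem_erase.2 ⟨h, ht'⟩)
  let φ : Fin s.card ≃ s := s.equivFin.symm
  choose! deg hdeg using hhom
  refine ⟨s.card, fun b => (φ b : T), fun b => deg (φ b), fun b => hdeg _ (φ b).2, ?_, ?_⟩
  · rw [← hspan]
    congr 1
    ext t
    constructor
    · rintro ⟨b, rfl⟩
      exact (φ b).2
    · intro ht
      exact ⟨φ.symm ⟨t, ht⟩, by simp⟩
  · intro b hb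
    apply hmin (φ b) (φ b).2
    refine Submodule.span_mono ?_ hb
    rintro _ ⟨b', hb', rfl⟩
    rw [Finset.mem_coe, Finset.mem_erase]
    refine ⟨fun h => hb' ?_, (φ b').2⟩
    exact φ.injective (Subtype.ext h)

end Gen

end Groth.Agent.H2.GrComp
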