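import Mathlib
import Groth.Prelude.Def_GrSyz
import Groth.Agent.Lib.Helper2.GrSyzBasic

/-! Minimality of a graded free resolution versus irredundancy of the generating families. -/

universe u v

namespace Groth.Agent.H2.GrSyzMin

section Family

variable {R : Type u} [CommRing R] {T : Type v} [AddCommGroup T] [Module R T] {n : ℕ}

/-- A relation with a unit coefficient makes the corresponding member redundant. -/
lemma mem_span_of_relation (g : Fin n → T) (v : Fin n → R) (b : Fin n) (hb : IsUnit (v b))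
    (hv : Fintype.linearCombination R g v = 0) :
    g b ∈ Submodule.span R (g '' {b' | b' ≠ b}) := by
  classical
  obtain ⟨u, hu⟩ := hb
  rw [Fintype.linearCombination_apply, ← Finset.add_sum_erase _ _ (Finset.mem_univ b)] at hv
  have h1 : g b = -((↑u⁻¹ : R) • ∑ x ∈ Finset.univ.erase b, v x • g x) := by
    have h2 : v b • g b = -∑ x ∈ Finset.univ.erase b, v x • g x := eq_neg_of_add_eq_zero_left hv
    rw [← smul_neg, ← h2, ← hu, smul_smul, Units.inv_mul, one_smul]
  rw [h1]
  refine Submodule.neg_mem _ (Submodule.smul_mem _ _ (Submodule.sum_mem _ (fun x hx => ?_)))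
  exact Submodule.smul_mem _ _ (Submodule.subset_span ⟨x, Finset.ne_of_mem_erase hx, rfl⟩)

/-- A redundant member gives a relation with coefficient one. -/
lemma exists_relation_of_mem_span (g : Fin n → T) (b : Fin n)
    (h : g b ∈ Submodule.span R (g '' {b' | b' ≠ b})) :
    ∃ v : Fin n → R, v b = 1 ∧ Fintype.linearCombination R g v = 0 := by
  classical
  rw [Finsupp.mem_span_image_iff_linearCombination] at h
  obtain ⟨l, hl, hlb⟩ := h
  have hlb0 : l b = 0 := by
    by_contra hne
    have : b ∈ l.support := Finsupp.mem_support_iff.2 hne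
    exact (hl this) rfl
  refine ⟨fun x => (Pi.single b (1 : R) : Fin n → R) x - l x, by simp [hlb0], ?_⟩
  rw [Fintype.linearCombination_apply]
  simp only [sub_smul, Finset.sum_sub_distrib]
  rw [Finsupp.linearCombination_apply, Finsupp.sum_fintype _ _ (fun i => zero_smul R (g i))] at hlb
  rw [hlb, Finset.sum_eq_single b]
  · simp
  · intro x _ hx
    simp [hx]
  · intro hb
    exact absurd (Finset.mem_univ b) hb

end Family

section Res

variable {R : Type u} [CommRing R] {σ' : Type u} [SetLike σ' R]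
  {𝒜 : ℤ → σ'} {M : Type u} [AddCommGroup M] [Module R M] {τ : Type u} [SetLike τ M]
  [AddSubgroupClass τ M] {ℳ : ℤ → τ} [DirectSum.Decomposition ℳ] [SetLike.GradedSMul 𝒜 ℳ]
  (F : GrSyz.FreeRes 𝒜 ℳ) (𝔪 : Ideal R)

lemma linearCombination_columns {m n : ℕ} (D : Matrix (Fin m) (Fin n) R) (v : Fin n → R) :
    Fintype.linearCombination R (fun b a => D a b) v = Matrix.mulVecLin D v := by
  ext a
  rw [Fintype.linearCombination_apply, Finset.sum_apply, Matrix.mulVecLin_apply]
  simp only [Pi.smul_apply, smul_eq_mul, Matrix.mulVec, dotProduct]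
  exact Finset.sum_congr rfl (fun b _ => mul_comm _ _)

lemma mulVec_mem_of_entries {m n : ℕ} (D : Matrix (Fin m) (Fin n) R)
    (hD : ∀ a b, D a b ∈ 𝔪) (w : Fin n → R) (a : Fin m) : Matrix.mulVecLin D w a ∈ 𝔪 := by
  rw [Matrix.mulVecLin_apply]
  simp only [Matrix.mulVec, dotProduct]
  exact Ideal.sum_mem _ (fun b _ => Ideal.mul_mem_right _ _ (hD a b))

/-- A minimal resolution has irredundant generating families. -/
theorem irredundant_of_isMinimal (h1 : 𝔪 ≠ ⊤) (hmin : F.IsMinimal 𝔪) :
    (∀ b : Fin (F.rk 0), F.aug b ∉ Submodule.span R (F.aug '' {b' | b' ≠ b})) ∧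
      ∀ (i : ℕ) (b : Fin (F.rk (i + 1))),
        (fun a => F.d i a b) ∉ Submodule.span R ((fun b' a => F.d i a b') '' {b' | b' ≠ b}) := by
  have h1' : (1 : R) ∉ 𝔪 := fun h => h1 ((Ideal.eq_top_iff_one _).2 h)
  constructor
  · intro b hb
    obtain ⟨v, hvb, hv⟩ := exists_relation_of_mem_span F.aug b hb
    have hmem : v ∈ LinearMap.ker (Fintype.linearCombination R F.aug) := hv
    rw [F.exact_zero] at hmem
    obtain ⟨w, rfl⟩ := hmem
    apply h1'
    rw [← hvb]
    exact mulVec_mem_of_entries 𝔪 (F.d 0) (hmin 0) w b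
  · intro i b hb
    obtain ⟨v, hvb, hv⟩ := exists_relation_of_mem_span (fun b' a => F.d i a b') b hb
    rw [linearCombination_columns] at hv
    have hmem : v ∈ LinearMap.ker (Matrix.mulVecLin (F.d i)) := hv
    rw [F.exact_succ i] at hmem
    obtain ⟨w, rfl⟩ := hmem
    apply h1'
    rw [← hvb]
    exact mulVec_mem_of_entries 𝔪 (F.d (i + 1)) (hmin (i + 1)) w b

/-- A resolution with irredundant generating families is minimal, when homogeneous elements
outside `𝔪` are units. -/
theorem isMinimal_of_irredundant (hunit : ∀ (n : ℤ) (x : R), x ∈ 𝒜 n → x ∉ 𝔪 → IsUnit x)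
    (h0 : ∀ b : Fin (F.rk 0), F.aug b ∉ Submodule.span R (F.aug '' {b' | b' ≠ b}))
    (hS : ∀ (i : ℕ) (b : Fin (F.rk (i + 1))),
        (fun a => F.d i a b) ∉ Submodule.span R ((fun b' a => F.d i a b') '' {b' | b' ≠ b})) :
    F.IsMinimal 𝔪 := by
  classical
  intro i a b
  by_contra hnot
  have hu : IsUnit (F.d i a b) := hunit _ _ (F.d_mem i a b) hnot
  have hcol : (fun a' => F.d i a' b) = Matrix.mulVecLin (F.d i) (Pi.single b 1) := by
    ext a'
    simp
  cases i with
  | zero =>
    have hker : (fun a' => F.d 0 a' b) ∈ LinearMap.ker (Fintype.linearCombination R F.aug) := by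
      rw [F.exact_zero, hcol]
      exact ⟨_, rfl⟩
    exact h0 a (mem_span_of_relation F.aug _ a hu hker)
  | succ i =>
    have hker : (fun a' => F.d (i + 1) a' b) ∈ LinearMap.ker (Matrix.mulVecLin (F.d i)) := by
      rw [F.exact_succ i, hcol]
      exact ⟨_, rfl⟩
    rw [LinearMap.mem_ker, ← linearCombination_columns] at hker
    exact hS i a (mem_span_of_relation _ _ a hu hker)

end Res

section Std

variable {k : Type u} [Field k] {σ : Type v}

/-- A homogeneous polynomial outside the irrelevant ideal is a unit. -/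
lemma isUnit_of_mem_stdGr_of_notMem_irrel (n : ℤ) (x : MvPolynomial σ k)
    (hx : x ∈ GrSyz.stdGr k σ n) (hx' : x ∉ (GrSyz.irrel (GrSyz.stdGr k σ)).toIdeal) :
    IsUnit x := by
  classical
  rw [GrSyzBasic.mem_irrel_iff] at hx'
  have hn : n = 0 := by
    by_contra hn
    exact hx' (GrSyzBasic.constantCoeff_eq_zero_of_mem_stdGr hx hn)
  subst hn
  have hC : x = MvPolynomial.C (MvPolynomial.constantCoeff x) := by
    ext d
    rw [MvPolynomial.coeff_C]
    by_cases hd : d = 0
    · subst hd
      simp [MvPolynomial.constantCoeff_eq]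
    · rw [if_neg (Ne.symm hd)]
      by_contra hne
      have := hx hne
      exact hd ((GrSyzBasic.weight_one_eq_zero_iff σ d).1 this)
  rw [hC]
  exact (IsUnit.mk0 _ hx').map MvPolynomial.C

end Std

end Groth.Agent.H2.GrSyzMin
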