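import Mathlib
import Groth.Prelude.Def_GrSyz
import Groth.Agent.Lib.Helper2.ResRec
import Groth.Agent.Lib.Helper2.GrComp
import Groth.Agent.Lib.Helper2.GrSyzMin

/-! Existence of graded free resolutions with irredundant (hence minimal) generating families. -/

universe u

namespace Groth.Agent.H2.GrSyzExist

open GrComp

variable {R : Type u} [CommRing R] [IsNoetherianRing R] {σ' : Type u} [SetLike σ' R]
  [AddSubgroupClass σ' R] (𝒜 : ℤ → σ') [GradedRing 𝒜]

/-- the invariant: the submodule to be covered is graded -/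
def Inv (s : ResRec.Stage R) : Prop := (free 𝒜 s.e).IsGraded s.K

/-- the property of a step: homogeneous matrix with irredundant columns -/
def Good (n : ℕ) (e : Fin n → ℤ) (m : ℕ) (e' : Fin m → ℤ) (D : Matrix (Fin n) (Fin m) R) : Prop :=
  (∀ a b, D a b ∈ 𝒜 (e' b - e a)) ∧
    ∀ b, (fun a => D a b) ∉ Submodule.span R ((fun b' a => D a b') '' {b' | b' ≠ b})

lemma step (s : ResRec.Stage R) (hs : Inv 𝒜 s) :
    Nonempty (ResRec.Next (Inv 𝒜) (Good 𝒜) s) := by
  have hfg : s.K.FG := IsNoetherian.noetherian s.K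
  obtain ⟨m, g, e', hg, hspan, hirr⟩ := exists_irredundant_family (free 𝒜 s.e) s.K hs hfg
  refine ⟨⟨m, e', Matrix.of (fun a b => g b a), ?_, ⟨fun a b => hg b a, ?_⟩, ?_⟩⟩
  · rw [Matrix.range_mulVecLin, ← hspan]
    congr 1
  · intro b hb
    exact hirr b hb
  · show (free 𝒜 e').IsGraded (LinearMap.ker (Matrix.mulVecLin (Matrix.of (fun a b => g b a))))
    have h := isGraded_ker_linearCombination (free 𝒜 s.e) g e' hg
    have heq : Fintype.linearCombination R g =
        Matrix.mulVecLin (Matrix.of (fun a b => g b a)) := by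
      apply LinearMap.ext
      intro v
      exact GrSyzMin.linearCombination_columns (Matrix.of (fun a b => g b a)) v
    rw [← heq]
    exact h

variable {M : Type u} [AddCommGroup M] [Module R M] [Module.Finite R M] {τ : Type u}
  [SetLike τ M] [AddSubgroupClass τ M] (ℳ : ℤ → τ) [DirectSum.Decomposition ℳ]
  [SetLike.GradedSMul 𝒜 ℳ]

/-- A finitely generated graded module over a Noetherian graded ring has a graded free
resolution all of whose generating families are irredundant. -/
theorem exists_freeRes_irredundant :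
    ∃ F : GrSyz.FreeRes 𝒜 ℳ,
      (∀ b : Fin (F.rk 0), F.aug b ∉ Submodule.span R (F.aug '' {b' | b' ≠ b})) ∧
      ∀ (i : ℕ) (b : Fin (F.rk (i + 1))),
        (fun a => F.d i a b) ∉ Submodule.span R ((fun b' a => F.d i a b') '' {b' | b' ≠ b}) := by
  have hfg : (⊤ : Submodule R M).FG := Module.Finite.fg_top
  obtain ⟨n0, aug0, e0, hg0, hspan0, hirr0⟩ :=
    exists_irredundant_family (ofDecomposition 𝒜 ℳ) ⊤ (Comp.isGraded_top _) hfg
  have hsurj : Function.Surjective (Fintype.linearCombination R aug0) := by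
    rw [← LinearMap.range_eq_top, Fintype.range_linearCombination, hspan0]
  obtain ⟨rk, deg, d, aug, h0, hz, hs, hgood⟩ := ResRec.exists_resolution
    (R := R) (Inv := Inv 𝒜) (Good := Good 𝒜) (step 𝒜)
    (fun n e aug => (∀ b, aug b ∈ ℳ (e b)) ∧
      Function.Surjective (Fintype.linearCombination R aug) ∧
      ∀ b, aug b ∉ Submodule.span R (aug '' {b' | b' ≠ b}))
    n0 e0 aug0 ⟨hg0, hsurj, hirr0⟩
    (isGraded_ker_linearCombination (ofDecomposition 𝒜 ℳ) aug0 e0 hg0)
  exact ⟨{ rk := rk, deg := deg, d := d, aug := aug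
           d_mem := fun i a b => (hgood i).1 a b
           aug_mem := h0.1
           aug_surjective := h0.2.1
           exact_zero := hz
           exact_succ := hs }, h0.2.2, fun i b => (hgood i).2 b⟩

end Groth.Agent.H2.GrSyzExist
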