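import Mathlib
import Groth.Agent.Lib.Helper2.TorLESR
import Groth.Agent.Lib.Helper2.TorAdd
import Groth.Agent.Lib.Helper2.MatRes

/-! Projective dimension versus `Tor`: `pd Y < n` kills `Tor_i(X, Y)` for `i ≥ n`; a matrix
resolution of length `≤ n` gives `pd ≤ n`; for a resolution minimal w.r.t. a proper ideal, the
length is the projective dimension. -/

universe u

namespace Groth.Agent.H2.TorBal

open CategoryTheory CategoryTheory.Limits MonoidalCategory

variable {R : Type u} [CommRing R]

lemma isZero_tor_of_isZero_right (X Y : ModuleCat.{u} R) (hY : IsZero Y) (i : ℕ) :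
    IsZero (((Tor (ModuleCat.{u} R) i).obj X).obj Y) := by
  rw [IsZero.iff_id_eq_zero, ← CategoryTheory.Functor.map_id, hY.eq_of_src (𝟙 Y) 0]
  exact tor_map_zero_right X Y Y i

/-- If `Y` has projective dimension `< n`, then `Tor_i(X, Y) = 0` for all `i ≥ n`. -/
theorem isZero_tor_of_hasProjectiveDimensionLT (X : ModuleCat.{u} R) :
    ∀ (n : ℕ) (Y : ModuleCat.{u} R), HasProjectiveDimensionLT Y n → ∀ i, n ≤ i →
      IsZero (((Tor (ModuleCat.{u} R) i).obj X).obj Y) := by
  intro n
  induction n with
  | zero =>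
    intro Y hY i _
    exact isZero_tor_of_isZero_right X Y (isZero_of_hasProjectiveDimensionLT_zero Y) i
  | succ n ih =>
    intro Y hY i hi
    obtain ⟨j, rfl⟩ : ∃ j, i = j + 1 := ⟨i - 1, by omega⟩
    have hj : n ≤ j := by omega
    cases n with
    | zero =>
      have : Projective Y := projective_iff_hasProjectiveDimensionLT_one.2 hY
      exact isZero_Tor_succ_of_projective _ X Y j
    | succ m =>
      have hS := Y.shortExact_projectiveShortComplex
      set S := Y.projectiveShortComplex with hSdef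
      have hP : Projective S.X₂ := by
        have : Module.Free R S.X₂ := inferInstanceAs (Module.Free R Y.projectiveShortComplex.X₂)
        have : Module.Projective R S.X₂ := inferInstance
        exact (IsProjective.iff_projective _).1 this
      have hK : HasProjectiveDimensionLT S.X₁ (m + 1) :=
        (hS.hasProjectiveDimensionLT_X₃_iff m hP).1 hY
      have h1 : IsZero (((Tor (ModuleCat.{u} R) j).obj X).obj S.X₁) := ih S.X₁ hK j hj
      have h2 : IsZero (((Tor (ModuleCat.{u} R) (j + 1)).obj X).obj S.X₂) :=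
        isZero_Tor_succ_of_projective _ X S.X₂ j
      obtain ⟨_, δ, w₁, w₂, ex1, ex2⟩ := tor_les_right X S hS j
      exact ex1.isZero_of_both_zeros (h2.eq_of_src _ _) (h1.eq_of_tgt _ _)

end Groth.Agent.H2.TorBal

namespace Groth.Agent.H2.MatRes

open CategoryTheory CategoryTheory.Limits MonoidalCategory Groth.Agent.H2.TorBal

variable {R : Type u} [CommRing R] {M : Type u} [AddCommGroup M] [Module R M] (F : MatRes R M)

/-- A matrix resolution of length `≤ n` bounds the projective dimension. -/
theorem hasProjectiveDimensionLE_of_rk_eq_zero (n : ℕ) (h : ∀ i, n < i → F.rk i = 0) :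
    HasProjectiveDimensionLE (ModuleCat.of R M) n := by
  show HasProjectiveDimensionLT (ModuleCat.of R M) (n + 1)
  rw [hasProjectiveDimensionLT_iff]
  intro i hi Y e
  obtain ⟨f, hf, rfl⟩ := F.projRes.extMk_surjective e (i + 1) rfl
  have hz : IsZero (F.projRes.complex.X i) := by
    have h0 : F.rk i = 0 := h i (by omega)
    show IsZero (F.X i)
    rw [ModuleCat.isZero_iff_subsingleton]
    show Subsingleton (Fin (F.rk i) → R)
    rw [h0]
    infer_instance
  obtain rfl : f = 0 := hz.eq_of_src f 0
  exact F.projRes.extMk_zero _ _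

/-- For a resolution minimal with respect to a proper ideal, the length is the projective
dimension. -/
theorem rk_eq_zero_iff_hasProjectiveDimensionLE (𝔪 : Ideal R) (hne : 𝔪 ≠ ⊤)
    (hmin : ∀ i a b, F.d i a b ∈ 𝔪) (n : ℕ) :
    (∀ i, n < i → F.rk i = 0) ↔ HasProjectiveDimensionLE (ModuleCat.of R M) n := by
  refine ⟨F.hasProjectiveDimensionLE_of_rk_eq_zero n, fun hpd i hi => ?_⟩
  have hz := isZero_tor_of_hasProjectiveDimensionLT (ModuleCat.of R (R ⧸ 𝔪)) (n + 1)
    (ModuleCat.of R M) hpd i (by omega)
  have hz' : IsZero (ModuleCat.of R (Fin (F.rk i) → R ⧸ 𝔪)) := hz.of_iso (F.torIso 𝔪 hmin i).symm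
  rw [ModuleCat.isZero_iff_subsingleton] at hz'
  have : Nontrivial (R ⧸ 𝔪) := Ideal.Quotient.nontrivial_iff.2 hne
  by_contra h0
  have hpos : 0 < F.rk i := Nat.pos_of_ne_zero h0
  obtain ⟨a, b, hab⟩ := exists_pair_ne (R ⧸ 𝔪)
  have h1 : (fun _ : Fin (F.rk i) => a) = fun _ => b := @Subsingleton.elim _ hz' _ _
  exact hab (congrFun h1 ⟨0, hpos⟩)

end Groth.Agent.H2.MatRes
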