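import Groth.Agent.Lib.Helper2.QuasiReg3

/-!
# Invariance of quasi-regularity under change of generators; regular sequences in Noetherian local
rings depend only on the ideal and the length (helper2)
-/

namespace Groth.Agent.H2.QuasiReg

open MvPolynomial

variable {A : Type*} [CommRing A]

theorem algHom_mem_map_C {σ τ : Type*} (J : Ideal A)
    (φ : MvPolynomial σ A →ₐ[A] MvPolynomial τ A) {P : MvPolynomial σ A}
    (hP : P ∈ Ideal.map C J) : φ P ∈ Ideal.map C J := by
  have hle : Ideal.map C J ≤ Ideal.comap φ (Ideal.map C J) := by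
    rw [Ideal.map_le_iff_le_comap]
    intro a ha
    rw [Ideal.mem_comap, Ideal.mem_comap]
    have : φ (C a) = C a := by
      rw [← algebraMap_eq, AlgHom.commutes, algebraMap_eq]
    rw [this]
    exact Ideal.mem_map_of_mem _ ha
  exact hle hP

/-- Linear substitution of variables by a matrix. -/
noncomputable def lin {c : ℕ} (M : Matrix (Fin c) (Fin c) A) :
    MvPolynomial (Fin c) A →ₐ[A] MvPolynomial (Fin c) A :=
  aeval (fun i => ∑ j, C (M i j) * X j)

theorem lin_comp {c : ℕ} (M M' : Matrix (Fin c) (Fin c) A) :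
    (lin M').comp (lin M) = lin (M * M') := by
  apply algHom_ext
  intro i
  simp only [lin, AlgHom.comp_apply, aeval_X, map_sum, map_mul, aeval_C, algebraMap_eq,
    Matrix.mul_apply, Finset.mul_sum, Finset.sum_mul]
  rw [Finset.sum_comm]
  refine Finset.sum_congr rfl (fun k _ => Finset.sum_congr rfl (fun j _ => ?_))
  ring

theorem lin_one {c : ℕ} : lin (1 : Matrix (Fin c) (Fin c) A) = AlgHom.id A _ := by
  classical
  apply algHom_ext
  intro i
  simp only [lin, aeval_X, Matrix.one_apply, AlgHom.id_apply]
  rw [Finset.sum_eq_single i]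
  · simp
  · intro j _ hj
    rw [if_neg (Ne.symm hj)]
    simp
  · intro h; exact absurd (Finset.mem_univ i) h

theorem lin_isHomogeneous {c n : ℕ} (M : Matrix (Fin c) (Fin c) A) {P : MvPolynomial (Fin c) A}
    (hP : P.IsHomogeneous n) : (lin M P).IsHomogeneous n := by
  have := hP.aeval (n := 1) (fun i => ∑ j, C (M i j) * X j)
    (fun i => IsHomogeneous.sum _ _ _ (fun j _ => isHomogeneous_C_mul_X _ _))
  rw [one_mul] at this
  exact this

theorem eval_lin {c : ℕ} (M : Matrix (Fin c) (Fin c) A) (a b : Fin c → A)
    (hb : ∀ i, b i = ∑ j, M i j * a j) (P : MvPolynomial (Fin c) A) :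
    eval a (lin M P) = eval b P := by
  have h : (aeval a : MvPolynomial (Fin c) A →ₐ[A] A).comp (lin M) = aeval b := by
    apply algHom_ext
    intro i
    simp only [lin, AlgHom.comp_apply, aeval_X, map_sum, map_mul, aeval_C,
      Algebra.algebraMap_self, RingHom.id_apply, hb]
  have := DFunLike.congr_fun h P
  simpa [aeval_eq_eval] using this

/-- Quasi-regularity is invariant under an invertible linear change of the generators. -/
theorem qReg_of_matrix {c : ℕ} (a b : Fin c → A) (M M' : Matrix (Fin c) (Fin c) A)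
    (hMM' : M * M' = 1) (hb : ∀ i, b i = ∑ j, M i j * a j)
    (hspan : Ideal.span (Set.range a) = Ideal.span (Set.range b)) (ha : QReg a) : QReg b := by
  intro n P hP hev
  rw [← hspan] at hev ⊢
  rw [← eval_lin M a b hb] at hev
  have h1 := ha n _ (lin_isHomogeneous M hP) hev
  have h2 := algHom_mem_map_C _ (lin M') h1
  rw [← AlgHom.comp_apply, lin_comp, hMM', lin_one, AlgHom.id_apply] at h2
  exact h2

universe u

theorem ofList_ofFn {A : Type*} [CommRing A] {n : ℕ} (a : Fin n → A) :
    Ideal.ofList (List.ofFn a) = Ideal.span (Set.range a) := by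
  unfold Ideal.ofList
  congr 1
  ext x
  simp [List.mem_ofFn]

theorem span_ne_top_of_isRegular {A : Type*} [CommRing A] {n : ℕ} (a : Fin n → A)
    (ha : RingTheory.Sequence.IsRegular A (List.ofFn a)) : Ideal.span (Set.range a) ≠ ⊤ := by
  intro h
  apply ha.top_ne_smul
  rw [ofList_ofFn, h, smul_eq_mul, Ideal.mul_top]

/-- In a Noetherian local ring, `n` elements generating the same ideal as a regular sequence of
length `n` form a regular sequence. -/
theorem isRegular_of_span_eq {A : Type u} [CommRing A] [IsLocalRing A] [IsNoetherianRing A]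
    {n : ℕ} (a b : Fin n → A) (ha : RingTheory.Sequence.IsRegular A (List.ofFn a))
    (hab : Ideal.span (Set.range a) = Ideal.span (Set.range b)) :
    RingTheory.Sequence.IsRegular A (List.ofFn b) := by
  classical
  have hJtop := span_ne_top_of_isRegular a ha
  have hJm : Ideal.span (Set.range a) ≤ IsLocalRing.maximalIdeal A :=
    IsLocalRing.le_maximalIdeal hJtop
  have haw := ha.toIsWeaklyRegular
  -- matrices
  have hM : ∀ i, ∃ r : Fin n → A, ∑ j, r j * a j = b i := fun i =>
    Ideal.mem_span_range_iff_exists_fun.mp (hab.symm ▸ Ideal.subset_span (Set.mem_range_self i))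
  have hN : ∀ i, ∃ r : Fin n → A, ∑ j, r j * b j = a i := fun i =>
    Ideal.mem_span_range_iff_exists_fun.mp (hab ▸ Ideal.subset_span (Set.mem_range_self i))
  choose M hM using hM
  choose N hN using hN
  let MM : Matrix (Fin n) (Fin n) A := Matrix.of M
  let NN : Matrix (Fin n) (Fin n) A := Matrix.of N
  -- `(NN * MM - 1)` has entries in `J`
  have hK : ∀ i k, (NN * MM) i k - (1 : Matrix (Fin n) (Fin n) A) i k ∈
      Ideal.span (Set.range a) := by
    intro i
    apply coeff_mem_of_sum_mem_sq a haw
    have h0 : ∑ k, ((NN * MM) i k - (1 : Matrix (Fin n) (Fin n) A) i k) * a k = 0 := by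
      simp only [sub_mul, Finset.sum_sub_distrib, Matrix.mul_apply, Finset.sum_mul,
        Matrix.one_apply, ite_mul, one_mul, zero_mul, Finset.sum_ite_eq, Finset.mem_univ,
        if_true]
      rw [Finset.sum_comm, sub_eq_zero, ← hN i]
      refine Finset.sum_congr rfl (fun j _ => ?_)
      rw [← hM j, Finset.mul_sum]
      refine Finset.sum_congr rfl (fun k _ => ?_)
      simp only [MM, NN, Matrix.of_apply]
      ring
    rw [h0]
    exact zero_mem _
  have hdet : IsUnit (NN * MM).det := by
    have h1 : (Ideal.Quotient.mk (Ideal.span (Set.range a))).mapMatrix (NN * MM) = 1 := by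
      ext i k
      rw [RingHom.mapMatrix_apply, Matrix.map_apply, Matrix.one_apply]
      have := hK i k
      rw [← Ideal.Quotient.eq, Matrix.one_apply] at this
      rw [this]
      split_ifs <;> simp
    have h2 : Ideal.Quotient.mk (Ideal.span (Set.range a)) (NN * MM).det = 1 := by
      rw [RingHom.map_det, h1, Matrix.det_one]
    have h3 : (NN * MM).det - 1 ∈ Ideal.span (Set.range a) := by
      rw [← Ideal.Quotient.eq, h2, map_one]
    rw [← IsLocalRing.notMem_maximalIdeal]
    intro h4
    have : (1 : A) ∈ IsLocalRing.maximalIdeal A := by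
      have := sub_mem h4 (hJm h3)
      simp at this
    exact (Ideal.ne_top_iff_one _).mp (IsLocalRing.maximalIdeal.isMaximal A).ne_top this
  rw [Matrix.det_mul] at hdet
  have hdetM : IsUnit MM.det := isUnit_of_mul_isUnit_right hdet
  have hq : QReg b := by
    refine qReg_of_matrix a b MM MM⁻¹ (Matrix.mul_nonsing_inv MM hdetM) ?_ hab
      (qReg_of_isWeaklyRegular a haw)
    intro i
    rw [← hM i]
    rfl
  have hbw : RingTheory.Sequence.IsWeaklyRegular A (List.ofFn b) := by
    apply isWeaklyRegular_of_qReg n A b _ hq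
    intro i
    rw [IsLocalRing.jacobson_eq_maximalIdeal ⊥ bot_ne_top]
    exact hJm (hab.symm ▸ Ideal.subset_span (Set.mem_range_self i))
  refine ⟨hbw, ?_⟩
  have := ha.top_ne_smul
  rwa [ofList_ofFn, ← hab, ← ofList_ofFn]

end Groth.Agent.H2.QuasiReg
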