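import Groth.Agent.Lib.Helper2.RegPerm2

/-!
# Permutable regular sequences and the sequence `f i * X i` (helper2)
-/

namespace Groth.Agent.H2.RegPerm

open MvPolynomial Groth.Agent.H2.QuasiReg

variable {A : Type*} [CommRing A]

/-- The coefficient ideal attached to a set of indices `T` and a monomial `m`. -/
def coeffIdeal {r : ℕ} (f : Fin r → A) (T : Set (Fin r)) (m : Fin r →₀ ℕ) : Ideal A :=
  Ideal.span (f '' {j | j ∈ T ∧ m j ≠ 0})

theorem coeffIdeal_mono {r : ℕ} (f : Fin r → A) (T : Set (Fin r)) {b m : Fin r →₀ ℕ}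
    (h : b ≤ m) : coeffIdeal f T b ≤ coeffIdeal f T m := by
  apply Ideal.span_mono
  apply Set.image_mono
  rintro j ⟨hj, hb⟩
  refine ⟨hj, ?_⟩
  have := h j
  omega

theorem monomial_mem {r : ℕ} (f : Fin r → A) (T : Set (Fin r)) (m : Fin r →₀ ℕ) {c : A}
    (hc : c ∈ coeffIdeal f T m) :
    monomial m c ∈ Ideal.span ((fun i => C (f i) * X i : Fin r → MvPolynomial (Fin r) A) '' T) := by
  classical
  unfold coeffIdeal at hc
  induction hc using Submodule.span_induction with
  | mem x hx =>
    obtain ⟨j, ⟨hjT, hmj⟩, rfl⟩ := hx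
    have hle : Finsupp.single j 1 ≤ m := by
      rw [Finsupp.single_le_iff]
      exact Nat.one_le_iff_ne_zero.mpr hmj
    have : monomial m (f j) = (C (f j) * X j) * monomial (m - Finsupp.single j 1) 1 := by
      rw [mul_assoc, X, monomial_mul, C_mul_monomial, one_mul, mul_one,
        add_tsub_cancel_of_le hle]
    rw [this]
    exact Ideal.mul_mem_right _ _ (Ideal.subset_span ⟨j, hjT, rfl⟩)
  | zero => rw [monomial_zero]; exact zero_mem _
  | add x y _ _ hx hy => rw [map_add]; exact add_mem hx hy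
  | smul a x _ hx =>
    rw [smul_eq_mul, ← C_mul_monomial]
    exact Ideal.mul_mem_left _ _ hx

/-- Membership in the monomial-type ideal generated by the `f i * X i`, `i ∈ T`. -/
theorem mem_span_iff {r : ℕ} (f : Fin r → A) (T : Set (Fin r)) (P : MvPolynomial (Fin r) A) :
    P ∈ Ideal.span ((fun i => C (f i) * X i : Fin r → MvPolynomial (Fin r) A) '' T) ↔
      ∀ m, coeff m P ∈ coeffIdeal f T m := by
  classical
  constructor
  · intro hP
    induction hP using Submodule.span_induction with
    | mem x hx =>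
      obtain ⟨j, hjT, rfl⟩ := hx
      intro m
      simp only
      rw [coeff_C_mul, coeff_X]
      split_ifs with hm
      · rw [mul_one]
        apply Ideal.subset_span
        refine ⟨j, ⟨hjT, ?_⟩, rfl⟩
        rw [← hm]
        simp
      · rw [mul_zero]; exact zero_mem _
    | zero => intro m; rw [coeff_zero]; exact zero_mem _
    | add x y _ _ hx hy => intro m; rw [coeff_add]; exact add_mem (hx m) (hy m)
    | smul Q x _ hx =>
      intro m
      rw [smul_eq_mul, coeff_mul]
      refine Ideal.sum_mem _ (fun ab hab => ?_)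
      have hab := Finset.HasAntidiagonal.mem_antidiagonal.mp hab
      refine Ideal.mul_mem_left _ _ (coeffIdeal_mono f T ?_ (hx ab.2))
      rw [← hab]
      exact le_add_self
  · intro h
    rw [← support_sum_monomial_coeff P]
    exact Ideal.sum_mem _ (fun m _ => monomial_mem f T m (h m))

theorem coeffIdeal_add_single {r : ℕ} (f : Fin r → A) (k : Fin r) (m : Fin r →₀ ℕ) :
    coeffIdeal f (Set.Iio k) (Finsupp.single k 1 + m) = coeffIdeal f (Set.Iio k) m := by
  unfold coeffIdeal
  congr 2
  ext j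
  simp only [Set.mem_ofPred_eq, Set.mem_Iio, Finsupp.coe_add, Pi.add_apply]
  constructor
  · rintro ⟨hj, h⟩
    refine ⟨hj, ?_⟩
    rwa [Finsupp.single_eq_of_ne (ne_of_lt hj), zero_add] at h
  · rintro ⟨hj, h⟩
    refine ⟨hj, ?_⟩
    rwa [Finsupp.single_eq_of_ne (ne_of_lt hj), zero_add]

/-- `NZ f` implies that `f i * X i` is a weakly regular sequence. -/
theorem NZ.isWeaklyRegular_mul_X {r : ℕ} {f : Fin r → A} (h : NZ f) :
    RingTheory.Sequence.IsWeaklyRegular (MvPolynomial (Fin r) A)
      (List.ofFn fun i => (C (f i) * X i : MvPolynomial (Fin r) A)) := by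
  classical
  rw [isWeaklyRegular_ofFn_iff]
  intro k P hP
  rw [mem_span_iff] at hP ⊢
  intro m
  have h1 := hP (Finsupp.single k 1 + m)
  rw [mul_assoc, coeff_C_mul, coeff_X_mul, coeffIdeal_add_single] at h1
  have hS : {j | j ∈ Set.Iio k ∧ m j ≠ 0} =
      ((Finset.univ.filter (fun j => j < k ∧ m j ≠ 0) : Finset (Fin r)) : Set (Fin r)) := by
    ext j; simp
  unfold coeffIdeal at h1 ⊢
  rw [hS] at h1 ⊢
  refine h k _ ?_ _ h1
  intro j hj
  rw [Finset.mem_filter] at hj
  exact hj.2.1

/-- Conversely. -/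
theorem nz_of_isWeaklyRegular_mul_X {r : ℕ} {f : Fin r → A}
    (h : RingTheory.Sequence.IsWeaklyRegular (MvPolynomial (Fin r) A)
      (List.ofFn fun i => (C (f i) * X i : MvPolynomial (Fin r) A))) : NZ f := by
  classical
  rw [isWeaklyRegular_ofFn_iff] at h
  intro i S hS a ha
  set m : Fin r →₀ ℕ := Finsupp.equivFunOnFinite.symm (fun j => if j ∈ S then 1 else 0) with hm
  have hmj : ∀ j, m j = if j ∈ S then 1 else 0 := fun j => by
    rw [hm]; rfl
  have hset : {j | j ∈ Set.Iio i ∧ m j ≠ 0} = (S : Set (Fin r)) := by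
    ext j
    simp only [Set.mem_ofPred_eq, Set.mem_Iio, hmj, Finset.mem_coe]
    constructor
    · rintro ⟨_, h2⟩
      by_contra hjS
      rw [if_neg hjS] at h2
      exact h2 rfl
    · intro hjS
      exact ⟨hS j hjS, by rw [if_pos hjS]; exact one_ne_zero⟩
  have hI : coeffIdeal f (Set.Iio i) m = Ideal.span (f '' (S : Set (Fin r))) := by
    unfold coeffIdeal
    rw [hset]
  have h1 : (C (f i) * X i : MvPolynomial (Fin r) A) * monomial m a ∈
      Ideal.span ((fun i => C (f i) * X i : Fin r → MvPolynomial (Fin r) A) '' Set.Iio i) := by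
    have e : (C (f i) * X i : MvPolynomial (Fin r) A) * monomial m a =
        monomial (Finsupp.single i 1 + m) (f i * a) := by
      rw [mul_assoc, X, monomial_mul, C_mul_monomial, one_mul]
    rw [e]
    apply monomial_mem
    rw [coeffIdeal_add_single, hI]
    exact ha
  have h2 := h i (monomial m a) h1
  rw [mem_span_iff] at h2
  have h3 := h2 m
  rwa [coeff_monomial, if_pos rfl, hI] at h3

theorem span_range_mul_X_ne_top {r : ℕ} (f : Fin r → A) [Nontrivial A] :
    Ideal.span (Set.range fun i => (C (f i) * X i : MvPolynomial (Fin r) A)) ≠ ⊤ := by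
  intro htop
  have h1 : (1 : MvPolynomial (Fin r) A) ∈
      Ideal.span ((fun i => C (f i) * X i : Fin r → MvPolynomial (Fin r) A) '' Set.univ) := by
    rw [Set.image_univ, htop]; trivial
  rw [mem_span_iff] at h1
  have h2 := h1 0
  unfold coeffIdeal at h2
  have hempty : {j : Fin r | j ∈ Set.univ ∧ (0 : Fin r →₀ ℕ) j ≠ 0} = ∅ := by
    ext j; simp
  rw [hempty, Set.image_empty, Ideal.span_empty, Ideal.mem_bot, coeff_one, if_pos rfl] at h2
  exact one_ne_zero h2

/-- **All reorderings are regular iff `f i * X i` is regular.** -/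
theorem perm_regular_iff {r : ℕ} (f : Fin r → A) (hf : Ideal.span (Set.range f) ≠ ⊤) :
    (∀ σ : Equiv.Perm (Fin r), RingTheory.Sequence.IsRegular A (List.ofFn (f ∘ σ))) ↔
      RingTheory.Sequence.IsRegular (MvPolynomial (Fin r) A)
        (List.ofFn fun i => C (f i) * X i) := by
  have hnt : Nontrivial A := by
    by_contra hcon
    rw [not_nontrivial_iff_subsingleton] at hcon
    exact hf (Subsingleton.elim _ _)
  constructor
  · intro h
    have hnz : NZ f := nz_of_forall_perm (fun σ => (h σ).toIsWeaklyRegular)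
    refine ⟨hnz.isWeaklyRegular_mul_X, ?_⟩
    rw [ofList_ofFn, smul_eq_mul, Ideal.mul_top]
    exact (span_range_mul_X_ne_top f).symm
  · intro h σ
    have hnz : NZ f := nz_of_isWeaklyRegular_mul_X h.toIsWeaklyRegular
    refine ⟨hnz.nz'.isWeaklyRegular σ, ?_⟩
    rw [ofList_ofFn, smul_eq_mul, Ideal.mul_top, σ.surjective.range_comp]
    exact hf.symm

end Groth.Agent.H2.RegPerm
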