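import Mathlib
import Groth.Agent.Lib.Helper2.TorLin
import Groth.Agent.Lib.Helper2.TorBalOne

/-! `Tor` of the quotient by a (weakly) regular sequence: top degree and vanishing above. -/

universe u

namespace Groth.Agent.H2.TorBal

open CategoryTheory CategoryTheory.Limits Category HomologicalComplex MonoidalCategory
open RingTheory.Sequence

variable {A : Type u} [CommRing A]

/-- The elements of `N` killed by the ideal `I`. -/
def annSub (I : Ideal A) (N : Type*) [AddCommGroup N] [Module A N] : Submodule A N where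
  carrier := {n | ∀ a ∈ I, a • n = 0}
  add_mem' := fun {x y} hx hy a ha => by rw [smul_add, hx a ha, hy a ha, add_zero]
  zero_mem' := fun a _ => smul_zero a
  smul_mem' := fun c x hx a ha => by rw [smul_comm, hx a ha, smul_zero]

lemma mem_annSub {I : Ideal A} {N : Type*} [AddCommGroup N] [Module A N] {n : N} :
    n ∈ annSub I N ↔ ∀ a ∈ I, a • n = 0 := Iff.rfl

lemma smul_one_quot (I : Ideal A) (a : A) : a • (1 : A ⧸ I) = Ideal.Quotient.mk I a := by
  show a • Submodule.Quotient.mk (p := I) (1 : A) = Submodule.Quotient.mk (p := I) a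
  rw [← Submodule.Quotient.mk_smul, smul_eq_mul, mul_one]

/-- `Hom(A/I, N)` is the set of elements of `N` killed by `I`. -/
noncomputable def homQuotEquivAnnSub (I : Ideal A) (N : Type*) [AddCommGroup N] [Module A N] :
    ((A ⧸ I) →ₗ[A] N) ≃ₗ[A] annSub I N where
  toFun φ := ⟨φ 1, fun a ha => by
    rw [← map_smul, smul_one_quot, Ideal.Quotient.eq_zero_iff_mem.2 ha, map_zero]⟩
  map_add' φ ψ := rfl
  map_smul' c φ := rfl
  invFun n := Submodule.liftQ I (LinearMap.toSpanSingleton A N n.1) (fun a ha => by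
    rw [LinearMap.mem_ker, LinearMap.toSpanSingleton_apply]
    exact n.2 a ha)
  left_inv φ := by
    apply LinearMap.ext
    intro y
    obtain ⟨a, rfl⟩ := Ideal.Quotient.mk_surjective y
    show Submodule.liftQ I _ _ (Submodule.Quotient.mk a) = _
    rw [Submodule.liftQ_apply, LinearMap.toSpanSingleton_apply]
    show a • φ 1 = φ (Ideal.Quotient.mk I a)
    rw [← map_smul, smul_one_quot]
  right_inv n := by
    apply Subtype.ext
    show Submodule.liftQ I _ _ (Submodule.Quotient.mk (1 : A)) = n.1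
    rw [Submodule.liftQ_apply, LinearMap.toSpanSingleton_apply, one_smul]

section Step

variable (I' : Ideal A) (x : A)

/-- multiplication by `x` on `A/I'`. -/
noncomputable def mulQuot : (A ⧸ I') →ₗ[A] (A ⧸ I') := x • LinearMap.id

/-- the projection `A/I' → A/(I' + (x))`. -/
noncomputable def projQuot : (A ⧸ I') →ₗ[A] (A ⧸ (I' ⊔ Ideal.span {x})) :=
  Submodule.factor (le_sup_left : I' ≤ I' ⊔ Ideal.span {x})

lemma projQuot_surjective : Function.Surjective (projQuot I' x) := by
  intro y
  obtain ⟨a, rfl⟩ := Ideal.Quotient.mk_surjective y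
  exact ⟨Ideal.Quotient.mk I' a, rfl⟩

lemma exact_mulQuot_projQuot : Function.Exact (mulQuot I' x) (projQuot I' x) := by
  intro y
  obtain ⟨a, rfl⟩ := Ideal.Quotient.mk_surjective y
  constructor
  · intro h
    have h1 : a ∈ I' ⊔ Ideal.span {x} := Ideal.Quotient.eq_zero_iff_mem.1 h
    obtain ⟨i, hi, j, hj, rfl⟩ := Submodule.mem_sup.1 h1
    obtain ⟨c, rfl⟩ := Ideal.mem_span_singleton'.1 hj
    refine ⟨Ideal.Quotient.mk I' c, ?_⟩
    show x • (Ideal.Quotient.mk I' c) = Ideal.Quotient.mk I' (i + c * x)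
    rw [map_add, Ideal.Quotient.eq_zero_iff_mem.2 hi, zero_add, mul_comm, map_mul,
      Algebra.smul_def]
    rfl
  · rintro ⟨z, hz⟩
    obtain ⟨c, rfl⟩ := Ideal.Quotient.mk_surjective z
    rw [← hz]
    show projQuot I' x (x • (Ideal.Quotient.mk I' c)) = 0
    rw [map_smul]
    show x • Ideal.Quotient.mk (I' ⊔ Ideal.span {x}) c = 0
    rw [Algebra.smul_def]
    show Ideal.Quotient.mk (I' ⊔ Ideal.span {x}) x * _ = 0
    rw [Ideal.Quotient.eq_zero_iff_mem.2
      (Ideal.mem_sup_right (Ideal.mem_span_singleton_self x)), zero_mul]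

end Step

section TorStep

variable (I' : Ideal A) (x : A) (N : ModuleCat.{u} A)

/-- The short exact sequence `0 → A/I' → A/I' → A/(I' + (x)) → 0`. -/
noncomputable def stepSC : ShortComplex (ModuleCat.{u} A) :=
  scOfLinearMaps (mulQuot I' x) (projQuot I' x) (exact_mulQuot_projQuot I' x)

lemma stepSC_shortExact (hx : IsSMulRegular (A ⧸ I') x) : (stepSC I' x).ShortExact :=
  scOfLinearMaps_shortExact _ _ (show Function.Injective (mulQuot I' x) from hx)
    (exact_mulQuot_projQuot I' x) (projQuot_surjective I' x)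

lemma stepSC_f : (stepSC I' x).f = x • 𝟙 (ModuleCat.of A (A ⧸ I')) := rfl

lemma tor_map_stepSC_f (p : ℕ) :
    ((Tor (ModuleCat.{u} A) p).map (stepSC I' x).f).app N =
      x • 𝟙 (torObj p (ModuleCat.of A (A ⧸ I')) N) := by
  have h := tor_map_smul_left x (𝟙 (ModuleCat.of A (A ⧸ I'))) N p
  rw [CategoryTheory.Functor.map_id] at h
  exact h

/-- Inductive step for Tor of a quotient by a regular sequence. -/
theorem tor_step (hx : IsSMulRegular (A ⧸ I') x) (p : ℕ)
    (e' : torObj p (ModuleCat.of A (A ⧸ I')) N ≃ₗ[A] annSub I' N)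
    (hvan : ∀ q, p < q → IsZero (torObj q (ModuleCat.of A (A ⧸ I')) N)) :
    Nonempty (torObj (p + 1) (ModuleCat.of A (A ⧸ (I' ⊔ Ideal.span {x}))) N ≃ₗ[A]
        annSub (I' ⊔ Ideal.span {x}) N) ∧
      ∀ q, p + 1 < q → IsZero (torObj q (ModuleCat.of A (A ⧸ (I' ⊔ Ideal.span {x}))) N) := by
  have hS := stepSC_shortExact I' x hx
  constructor
  · obtain ⟨e⟩ := nonempty_tor_succ_linearEquiv_ker_left N (stepSC I' x) hS p
      (hvan (p + 1) (Nat.lt_succ_self p))
    rw [tor_map_stepSC_f] at e
    -- the kernel of `x` on `Tor_p(A/I', N)` is `annSub (I' + (x)) N`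
    have hker : ∀ t : torObj p (ModuleCat.of A (A ⧸ I')) N,
        t ∈ LinearMap.ker (x • 𝟙 (torObj p (ModuleCat.of A (A ⧸ I')) N)).hom ↔ x • t = 0 := by
      intro t
      rfl
    let φ : LinearMap.ker (x • 𝟙 (torObj p (ModuleCat.of A (A ⧸ I')) N)).hom →ₗ[A]
        annSub (I' ⊔ Ideal.span {x}) N :=
      { toFun := fun t => ⟨(e' t.1).1, fun a ha => by
          obtain ⟨i, hi, j, hj, rfl⟩ := Submodule.mem_sup.1 ha
          obtain ⟨c, rfl⟩ := Ideal.mem_span_singleton'.1 hj
          rw [add_smul, (e' t.1).2 i hi, zero_add, mul_smul]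
          have h1 : x • (e' t.1).1 = 0 := by
            have h2 : x • t.1 = 0 := (hker t.1).1 t.2
            have h3 : e' (x • t.1) = 0 := by rw [h2, map_zero]
            rw [map_smul] at h3
            exact congrArg Subtype.val h3
          rw [h1, smul_zero]⟩
        map_add' := fun s t => by
          apply Subtype.ext
          simp
        map_smul' := fun c t => by
          apply Subtype.ext
          simp }
    have hφ : Function.Bijective φ := by
      constructor
      · intro s t hst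
        have h1 : (φ s).1 = (φ t).1 := congrArg Subtype.val hst
        exact Subtype.ext (e'.injective (Subtype.ext h1))
      · intro n
        have hn' : n.1 ∈ annSub I' N := fun a ha => n.2 a (Ideal.mem_sup_left ha)
        refine ⟨⟨e'.symm ⟨n.1, hn'⟩, ?_⟩, ?_⟩
        · rw [hker, ← map_smul]
          have : x • (⟨n.1, hn'⟩ : annSub I' N) = 0 := by
            apply Subtype.ext
            exact n.2 x (Ideal.mem_sup_right (Ideal.mem_span_singleton_self x))
          rw [this, map_zero]
        · apply Subtype.ext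
          show (e' (e'.symm ⟨n.1, hn'⟩)).1 = n.1
          rw [LinearEquiv.apply_symm_apply]
    exact ⟨e.trans (LinearEquiv.ofBijective φ hφ)⟩
  · intro q hq
    obtain ⟨q', rfl⟩ : ∃ q', q = q' + 1 := ⟨q - 1, by omega⟩
    exact isZero_tor_X₃_left (stepSC I' x) hS N q' (hvan (q' + 1) (by omega)) (hvan q' (by omega))

end TorStep

section Main

lemma annSub_bot (N : Type*) [AddCommGroup N] [Module A N] : annSub (⊥ : Ideal A) N = ⊤ := by
  rw [eq_top_iff]
  intro n _ a ha
  rw [(Submodule.mem_bot A).1 ha, zero_smul]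

/-- Base case: `I = ⊥`. -/
theorem tor_base (I : Ideal A) (hI : I = ⊥) (N : ModuleCat.{u} A) :
    Nonempty (torObj 0 (ModuleCat.of A (A ⧸ I)) N ≃ₗ[A] annSub I N) ∧
      ∀ q, 0 < q → IsZero (torObj q (ModuleCat.of A (A ⧸ I)) N) := by
  subst hI
  let e0 : (A ⧸ (⊥ : Ideal A)) ≃ₗ[A] A := Submodule.quotEquivOfEqBot ⊥ rfl
  constructor
  · let e1 : torObj 0 (ModuleCat.of A (A ⧸ (⊥ : Ideal A))) N ≃ₗ[A]
        TensorProduct A (A ⧸ (⊥ : Ideal A)) N :=
      (torZeroIso (ModuleCat.of A (A ⧸ (⊥ : Ideal A))) N).toLinearEquiv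
    let e2 : TensorProduct A (A ⧸ (⊥ : Ideal A)) N ≃ₗ[A] N :=
      (TensorProduct.congr e0 (LinearEquiv.refl A N)).trans (TensorProduct.lid A N)
    let e3 : N ≃ₗ[A] annSub (⊥ : Ideal A) N := (LinearEquiv.ofTop _ (annSub_bot N)).symm
    exact ⟨e1.trans (e2.trans e3)⟩
  · intro q hq
    obtain ⟨q', rfl⟩ : ∃ q', q = q' + 1 := ⟨q - 1, by omega⟩
    haveI : Module.Flat A (ModuleCat.of A (A ⧸ (⊥ : Ideal A))) :=
      Module.Flat.of_linearEquiv e0
    exact isZero_tor_succ_of_flat_left _ N q'

/-- **Tor of the quotient by a weakly regular sequence**: in top degree it is the submodule of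
elements killed by the ideal, and it vanishes above. -/
theorem tor_regular (xs : List A) (hreg : IsWeaklyRegular A xs) (N : ModuleCat.{u} A) :
    Nonempty (torObj xs.length (ModuleCat.of A (A ⧸ Ideal.ofList xs)) N ≃ₗ[A]
        annSub (Ideal.ofList xs) N) ∧
      ∀ q, xs.length < q → IsZero (torObj q (ModuleCat.of A (A ⧸ Ideal.ofList xs)) N) := by
  induction xs using List.reverseRecOn with
  | nil => exact tor_base _ Ideal.ofList_nil N
  | append_singleton xs x ih =>
    rw [isWeaklyRegular_append_iff, isWeaklyRegular_singleton_iff] at hreg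
    obtain ⟨h1, h2⟩ := hreg
    obtain ⟨⟨e'⟩, hvan⟩ := ih h1
    have hsm : (Ideal.ofList xs • ⊤ : Submodule A A) = Ideal.ofList xs := by
      rw [smul_eq_mul, Ideal.mul_top]
    have hx : IsSMulRegular (A ⧸ Ideal.ofList xs) x :=
      ((Submodule.quotEquivOfEq _ _ hsm).isSMulRegular_congr x).1 h2
    have hI : Ideal.ofList (xs ++ [x]) = Ideal.ofList xs ⊔ Ideal.span {x} := by
      rw [Ideal.ofList_append, Ideal.ofList_singleton]
    have hlen : (xs ++ [x]).length = xs.length + 1 := by simp
    rw [hI, hlen]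
    exact tor_step (Ideal.ofList xs) x N hx xs.length e' hvan

end Main

end Groth.Agent.H2.TorBal
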