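import Mathlib
import Groth.Agent.Lib.Helper2.GrSyzExist
import Groth.Agent.Lib.Helper2.GrSyzMin
import Groth.Agent.Lib.Helper2.GrSyzBasic
import Groth.Agent.Lib.Helper2.MatRes
import Groth.Agent.Lib.Helper2.PdTor
import Groth.Agent.Lib.Helper2.TorRegSeq
import Groth.Agent.Lib.Helper2.RegPerm3
import Groth.Agent.Lib.Helper2.QuasiReg4

/-! Hilbert's syzygy theorem for graded modules over a polynomial ring, via `Tor` against the
residue field and the regular sequence of the variables. -/

universe u
open CategoryTheory

namespace Groth.Agent.H2.GrSyzHilbert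

open MvPolynomial

section Vars
variable (k : Type u) [Field k] (n : ℕ)

/-- the variables form a weakly regular sequence -/
theorem isWeaklyRegular_X :
    RingTheory.Sequence.IsWeaklyRegular (MvPolynomial (Fin n) k)
      (List.ofFn fun i => (X i : MvPolynomial (Fin n) k)) := by
  have hnz : RegPerm.NZ (fun _ : Fin n => (1 : k)) := by
    intro i S hS a ha
    rwa [one_mul] at ha
  have h := hnz.isWeaklyRegular_mul_X
  have e : (fun i => (C ((fun _ : Fin n => (1 : k)) i) * X i : MvPolynomial (Fin n) k)) =
      fun i => X i := by
    funext i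
    rw [map_one, one_mul]
  rwa [e] at h

/-- the irrelevant ideal is generated by the variables -/
theorem irrel_eq_ofList :
    (GrSyz.irrel (GrSyz.stdGr k (Fin n))).toIdeal =
      Ideal.ofList (List.ofFn fun i => (X i : MvPolynomial (Fin n) k)) := by
  classical
  rw [QuasiReg.ofList_ofFn, GrSyzBasic.irrel_toIdeal_eq]
  apply le_antisymm
  · intro p hp
    rw [RingHom.mem_ker] at hp
    rw [p.as_sum]
    refine Ideal.sum_mem _ (fun d hd => ?_)
    by_cases hd0 : d = 0
    · subst hd0
      have : coeff 0 p = 0 := hp
      rw [this, map_zero]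
      exact Ideal.zero_mem _
    · obtain ⟨i, hi⟩ : ∃ i, d i ≠ 0 := by
        by_contra hcon
        push Not at hcon
        exact hd0 (Finsupp.ext hcon)
      have e : monomial d (coeff d p) = monomial (d - Finsupp.single i 1) (coeff d p) * X i := by
        rw [X, monomial_mul, mul_one]
        have hd' : d = (d - Finsupp.single i 1) + Finsupp.single i 1 := by
          ext j
          by_cases hj : j = i
          · subst hj
            simp only [Finsupp.coe_add, Finsupp.coe_tsub, Pi.add_apply, Pi.sub_apply,
              Finsupp.single_eq_same]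
            omega
          · simp only [Finsupp.coe_add, Finsupp.coe_tsub, Pi.add_apply, Pi.sub_apply,
              Finsupp.single_eq_of_ne hj]
            omega
        rw [← hd']
      rw [e]
      exact Ideal.mul_mem_left _ _ (Ideal.subset_span ⟨i, rfl⟩)
  · rw [Ideal.span_le]
    rintro _ ⟨i, rfl⟩
    rw [SetLike.mem_coe, RingHom.mem_ker]
    exact constantCoeff_X (R := k) i

end Vars

end Groth.Agent.H2.GrSyzHilbert
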