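import Mathlib

/-! Complexes of free modules in matrix form over a commutative ring: reduction modulo a
nonzerodivisor, and the mapping cone of multiplication by an element. -/

universe u

namespace Groth.Agent.H2.MatRes

open Matrix

section Basic

variable {A : Type u} [CommRing A] (ι : ℕ → Type) [∀ i, Fintype (ι i)] [∀ i, DecidableEq (ι i)]
  (D : ∀ i, Matrix (ι i) (ι (i + 1)) A)

/-- Exactness at position `i + 1`. -/
def ExactAt (i : ℕ) : Prop :=
  LinearMap.ker (D i).mulVecLin = LinearMap.range (D (i + 1)).mulVecLin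

variable {ι D}

lemma ExactAt.mul_eq_zero {i : ℕ} (h : ExactAt ι D i) (v : ι (i + 1 + 1) → A) :
    D i *ᵥ (D (i + 1) *ᵥ v) = 0 := by
  have : (D (i + 1)).mulVecLin v ∈ LinearMap.ker (D i).mulVecLin := by
    rw [h]
    exact ⟨v, rfl⟩
  exact this

lemma ExactAt.exists_of_mulVec_eq_zero {i : ℕ} (h : ExactAt ι D i) {v : ι (i + 1) → A}
    (hv : D i *ᵥ v = 0) : ∃ w, D (i + 1) *ᵥ w = v := by
  have : v ∈ LinearMap.ker (D i).mulVecLin := hv
  rw [h] at this
  exact this

lemma exactAt_iff {i : ℕ} : ExactAt ι D i ↔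
    (∀ v, D i *ᵥ (D (i + 1) *ᵥ v) = 0) ∧ ∀ v, D i *ᵥ v = 0 → ∃ w, D (i + 1) *ᵥ w = v := by
  constructor
  · intro h
    exact ⟨h.mul_eq_zero, fun v hv => h.exists_of_mulVec_eq_zero hv⟩
  · rintro ⟨h1, h2⟩
    apply le_antisymm
    · intro v hv
      exact h2 v hv
    · rintro _ ⟨w, rfl⟩
      exact h1 w

end Basic

lemma map_mulVec' {A B : Type u} [CommRing A] [CommRing B] (φ : A →+* B) {m n : Type}
    [Fintype n] (M : Matrix m n A) (v : n → A) : M.map φ *ᵥ (φ ∘ v) = φ ∘ (M *ᵥ v) :=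
  funext fun b => (RingHom.map_mulVec φ M v b).symm

section Reduce

variable {A B : Type u} [CommRing A] [CommRing B] (φ : A →+* B) (hφ : Function.Surjective φ)
  (x : A) (hx : ∀ a, φ a = 0 → ∃ b, a = x * b) (hx0 : φ x = 0)
  (ι : ℕ → Type) [∀ i, Fintype (ι i)] [∀ i, DecidableEq (ι i)]
  (D : ∀ i, Matrix (ι i) (ι (i + 1)) A)

include hφ hx hx0 in
/-- Reduction of an exact complex modulo an element `x`, regular on the image at the previous
position. -/
theorem exactAt_map_of_reg (i : ℕ) (h : ExactAt ι D i)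
    (hreg : ∀ w : ι i → A, (∃ v, D i *ᵥ v = x • w) → ∃ u, D i *ᵥ u = w) :
    ExactAt ι (fun i => (D i).map φ) i := by
  rw [exactAt_iff]
  have hlift : ∀ {κ : Type} (v : κ → B), ∃ v' : κ → A, φ ∘ v' = v := fun v =>
    ⟨fun a => (hφ (v a)).choose, funext fun a => (hφ (v a)).choose_spec⟩
  constructor
  · intro v
    obtain ⟨v', rfl⟩ := hlift v
    rw [map_mulVec', map_mulVec', h.mul_eq_zero v']
    funext a
    simp
  · intro v hv
    obtain ⟨v', rfl⟩ := hlift v
    have h1 : ∀ a, φ ((D i *ᵥ v') a) = 0 := fun a => by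
      rw [map_mulVec'] at hv
      exact congrFun hv a
    choose w hw using fun a => hx _ (h1 a)
    have h2 : D i *ᵥ v' = x • w := funext hw
    obtain ⟨u, hu⟩ := hreg w ⟨v', h2⟩
    have h3 : D i *ᵥ (v' - x • u) = 0 := by
      rw [Matrix.mulVec_sub, Matrix.mulVec_smul, hu, h2, sub_self]
    obtain ⟨z, hz⟩ := h.exists_of_mulVec_eq_zero h3
    refine ⟨φ ∘ z, ?_⟩
    rw [map_mulVec', hz]
    funext b
    simp [hx0]

include hφ hx hx0 in
/-- Reduction modulo a nonzerodivisor costs one position. -/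
theorem exactAt_map (hxreg : ∀ a : A, x * a = 0 → a = 0) (i : ℕ) (h0 : ExactAt ι D i)
    (h1 : ExactAt ι D (i + 1)) : ExactAt ι (fun i => (D i).map φ) (i + 1) := by
  apply exactAt_map_of_reg φ hφ x hx hx0 ι D (i + 1) h1
  rintro w ⟨v, hv⟩
  apply h0.exists_of_mulVec_eq_zero
  have h2 : x • (D i *ᵥ w) = 0 := by
    rw [← Matrix.mulVec_smul, ← hv]
    exact h0.mul_eq_zero v
  funext a
  exact hxreg _ (congrFun h2 a)

end Reduce

section Bottom

variable {A : Type u} [CommRing A] [Nontrivial A] {ι : ℕ → Type} [∀ i, Fintype (ι i)]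
  [∀ i, DecidableEq (ι i)] {D : ∀ i, Matrix (ι i) (ι (i + 1)) A}

/-- Over a nontrivial ring, exactness between two zero maps forces a zero term. -/
theorem isEmpty_of_exactAt_zero (i : ℕ) (h : ExactAt ι D i) (h0 : D i = 0) (h1 : D (i + 1) = 0) :
    IsEmpty (ι (i + 1)) := by
  by_contra hne
  rw [not_isEmpty_iff] at hne
  obtain ⟨a⟩ := hne
  have hv : D i *ᵥ (Pi.single a 1) = 0 := by rw [h0, Matrix.zero_mulVec]
  obtain ⟨w, hw⟩ := h.exists_of_mulVec_eq_zero hv
  rw [h1, Matrix.zero_mulVec] at hw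
  have := congrFun hw a
  simp at this

end Bottom

end Groth.Agent.H2.MatRes
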