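import Mathlib
import Groth.Agent.Lib.Helper2.MatRes1

/-! Hilbert's syzygy theorem in matrix form: an exact complex of free modules over a polynomial
ring in `n` variables over a field, with matrix entries in the ideal of the variables, vanishes
beyond position `n`. -/

universe u

namespace Groth.Agent.H2.MatRes

open MvPolynomial Matrix

variable (k : Type u) [Field k]

/-- Setting the variable `X 0` to zero. -/
noncomputable def killX (n : ℕ) : MvPolynomial (Fin (n + 1)) k →+* MvPolynomial (Fin n) k :=
  (Polynomial.constantCoeff).comp (finSuccEquiv k n : MvPolynomial (Fin (n + 1)) k →+* _)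

variable {k} {n : ℕ}

lemma killX_apply (p : MvPolynomial (Fin (n + 1)) k) :
    killX k n p = (finSuccEquiv k n p).coeff 0 := rfl

lemma killX_surjective : Function.Surjective (killX k n) := by
  intro q
  refine ⟨(finSuccEquiv k n).symm (Polynomial.C q), ?_⟩
  rw [killX_apply, AlgEquiv.apply_symm_apply, Polynomial.coeff_C_zero]

lemma killX_X_zero : killX k n (X 0) = 0 := by
  rw [killX_apply, finSuccEquiv_X_zero, Polynomial.coeff_X_zero]

lemma exists_of_killX_eq_zero (p : MvPolynomial (Fin (n + 1)) k) (hp : killX k n p = 0) :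
    ∃ b, p = X 0 * b := by
  have h : (finSuccEquiv k n p).coeff 0 = 0 := hp
  obtain ⟨q, hq⟩ := Polynomial.X_dvd_iff.2 h
  refine ⟨(finSuccEquiv k n).symm q, ?_⟩
  apply (finSuccEquiv k n).injective
  rw [map_mul, finSuccEquiv_X_zero, AlgEquiv.apply_symm_apply, hq]

lemma constantCoeff_killX (p : MvPolynomial (Fin (n + 1)) k) :
    constantCoeff (killX k n p) = constantCoeff p := by
  show coeff 0 ((finSuccEquiv k n p).coeff 0) = coeff 0 p
  rw [finSuccEquiv_coeff_coeff]
  congr 1
  ext i
  refine Fin.cases ?_ (fun j => ?_) i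
  · simp
  · simp

variable (k)

/-- **Hilbert's syzygy theorem**, matrix form. -/
theorem hs : ∀ (n : ℕ) (ι : ℕ → Type) [∀ i, Fintype (ι i)] [∀ i, DecidableEq (ι i)]
    (D : ∀ i, Matrix (ι i) (ι (i + 1)) (MvPolynomial (Fin n) k)) (j : ℕ)
    (_ : ∀ i, j ≤ i → ExactAt ι D i)
    (_ : ∀ i, j + n ≤ i → ∀ a b, constantCoeff (D i a b) = 0),
    ∀ i, j + n ≤ i → IsEmpty (ι (i + 1)) := by
  intro n
  induction n with
  | zero =>
    intro ι _ _ D j hex hm i hi
    have hz : ∀ i, j ≤ i → D i = 0 := by
      intro i hi
      ext a b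
      rw [eq_C_of_isEmpty (D i a b)]
      have := hm i (by omega) a b
      rw [constantCoeff_eq] at this
      rw [this]
      simp
    exact isEmpty_of_exactAt_zero i (hex i (by omega)) (hz i (by omega)) (hz (i + 1) (by omega))
  | succ n ih =>
    intro ι _ _ D j hex hm i hi
    refine ih ι (fun i => (D i).map (killX k n)) (j + 1) ?_ ?_ i (by omega)
    · intro i' hi'
      obtain ⟨i'', rfl⟩ : ∃ i'', i' = i'' + 1 := ⟨i' - 1, by omega⟩
      exact exactAt_map (killX k n) killX_surjective (X 0) exists_of_killX_eq_zero killX_X_zero ι D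
        (fun a ha => by
          rcases mul_eq_zero.1 ha with h | h
          · exact absurd h (X_ne_zero 0)
          · exact h)
        i'' (hex i'' (by omega)) (hex (i'' + 1) (by omega))
    · intro i' hi' a b
      rw [Matrix.map_apply, constantCoeff_killX]
      exact hm i' (by omega) a b

end Groth.Agent.H2.MatRes
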