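import Mathlib
import Groth.Agent.Lib.Helper2.MatRes1

/-! The mapping cone of multiplication by an element on a complex of free modules in matrix
form. -/

universe u

namespace Groth.Agent.H2.MatRes

open Matrix

variable {A : Type u} [CommRing A] (ι : ℕ → Type) [∀ i, Fintype (ι i)] [∀ i, DecidableEq (ι i)]
  (D : ∀ i, Matrix (ι i) (ι (i + 1)) A) (g : A)

/-- The index types of the cone. -/
def coneι : ℕ → Type
  | 0 => ι 0
  | i + 1 => ι (i + 1) ⊕ ι i

instance coneFintype : ∀ i, Fintype (coneι ι i)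
  | 0 => inferInstanceAs (Fintype (ι 0))
  | i + 1 => inferInstanceAs (Fintype (ι (i + 1) ⊕ ι i))

instance coneDecEq : ∀ i, DecidableEq (coneι ι i)
  | 0 => inferInstanceAs (DecidableEq (ι 0))
  | i + 1 => inferInstanceAs (DecidableEq (ι (i + 1) ⊕ ι i))

/-- The sign. -/
def sgn (A : Type u) [CommRing A] (i : ℕ) : A := (-1) ^ (i + 1)

lemma sgn_zero : sgn A 0 = -1 := by simp [sgn]

lemma sgn_succ (i : ℕ) : sgn A (i + 1) = - sgn A i := by
  simp [sgn, pow_succ]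

/-- The differentials of the cone. -/
def coneD : (i : ℕ) → Matrix (coneι ι i) (coneι ι (i + 1)) A
  | 0 => Matrix.fromCols (D 0) (g • (1 : Matrix (ι 0) (ι 0) A))
  | i + 1 => Matrix.fromBlocks (D (i + 1)) ((sgn A i * g) • (1 : Matrix (ι (i + 1)) (ι (i + 1)) A))
      0 (D i)

lemma coneD_zero_mulVec (v : ι 1 ⊕ ι 0 → A) :
    coneD ι D g 0 *ᵥ v = D 0 *ᵥ (v ∘ Sum.inl) + g • (v ∘ Sum.inr) := by
  show Matrix.fromCols (D 0) (g • (1 : Matrix (ι 0) (ι 0) A)) *ᵥ v = _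
  rw [Matrix.fromCols_mulVec, Matrix.smul_mulVec, Matrix.one_mulVec]

lemma coneD_succ_mulVec (i : ℕ) (v : ι (i + 1 + 1) ⊕ ι (i + 1) → A) :
    coneD ι D g (i + 1) *ᵥ v =
      Sum.elim (D (i + 1) *ᵥ (v ∘ Sum.inl) + (sgn A i * g) • (v ∘ Sum.inr))
        (D i *ᵥ (v ∘ Sum.inr)) := by
  show Matrix.fromBlocks (D (i + 1)) ((sgn A i * g) • (1 : Matrix (ι (i + 1)) (ι (i + 1)) A))
      0 (D i) *ᵥ v = _
  rw [Matrix.fromBlocks_mulVec, Matrix.smul_mulVec, Matrix.one_mulVec, Matrix.zero_mulVec,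
    zero_add]

variable {ι D g}

theorem cone_exactAt_zero (h0 : ExactAt ι D 0)
    (hreg : ∀ w : ι 0 → A, (∃ v, D 0 *ᵥ v = g • w) → ∃ u, D 0 *ᵥ u = w) :
    ExactAt (coneι ι) (coneD ι D g) 0 := by
  rw [exactAt_iff]
  constructor
  · intro v
    rw [coneD_succ_mulVec, coneD_zero_mulVec]
    simp only [Sum.elim_comp_inl, Sum.elim_comp_inr]
    rw [Matrix.mulVec_add, h0.mul_eq_zero, Matrix.mulVec_smul, sgn_zero]
    simp
    rfl
  · intro v hv
    rw [coneD_zero_mulVec] at hv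
    obtain ⟨w', hw'⟩ := hreg (v ∘ Sum.inr) ⟨-(v ∘ Sum.inl), by
      rw [Matrix.mulVec_neg]
      exact neg_eq_of_add_eq_zero_right hv |>.symm ▸ rfl⟩
    have h3 : D 0 *ᵥ (v ∘ Sum.inl + g • w') = 0 := by
      rw [Matrix.mulVec_add, Matrix.mulVec_smul, hw']
      exact hv
    obtain ⟨v', hv'⟩ := h0.exists_of_mulVec_eq_zero h3
    refine ⟨Sum.elim v' w', ?_⟩
    rw [coneD_succ_mulVec]
    simp only [Sum.elim_comp_inl, Sum.elim_comp_inr]
    rw [hv', hw', sgn_zero]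
    funext a
    rcases a with a | a
    · simp
    · simp

theorem cone_exactAt_succ (i : ℕ) (h0 : ExactAt ι D i) (h1 : ExactAt ι D (i + 1)) :
    ExactAt (coneι ι) (coneD ι D g) (i + 1) := by
  rw [exactAt_iff]
  constructor
  · intro v
    rw [coneD_succ_mulVec, coneD_succ_mulVec]
    simp only [Sum.elim_comp_inl, Sum.elim_comp_inr]
    rw [Matrix.mulVec_add, h1.mul_eq_zero, Matrix.mulVec_smul, sgn_succ, h0.mul_eq_zero]
    funext a
    rcases a with a | a
    · simp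
      rfl
    · simp
      rfl
  · intro v hv
    rw [coneD_succ_mulVec] at hv
    have hv1 : D (i + 1) *ᵥ (v ∘ Sum.inl) + (sgn A i * g) • (v ∘ Sum.inr) = 0 := by
      funext a
      exact congrFun hv (Sum.inl a)
    have hv2 : D i *ᵥ (v ∘ Sum.inr) = 0 := by
      funext a
      exact congrFun hv (Sum.inr a)
    obtain ⟨w', hw'⟩ := h0.exists_of_mulVec_eq_zero hv2
    have h3 : D (i + 1) *ᵥ (v ∘ Sum.inl + (sgn A i * g) • w') = 0 := by
      rw [Matrix.mulVec_add, Matrix.mulVec_smul, hw']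
      exact hv1
    obtain ⟨v', hv'⟩ := h1.exists_of_mulVec_eq_zero h3
    refine ⟨Sum.elim v' w', ?_⟩
    rw [coneD_succ_mulVec]
    simp only [Sum.elim_comp_inl, Sum.elim_comp_inr]
    rw [hv', hw', sgn_succ]
    funext a
    rcases a with a | a
    · simp
    · simp

theorem cone_exactAt (hex : ∀ i, ExactAt ι D i)
    (hreg : ∀ w : ι 0 → A, (∃ v, D 0 *ᵥ v = g • w) → ∃ u, D 0 *ᵥ u = w) :
    ∀ i, ExactAt (coneι ι) (coneD ι D g) i
  | 0 => cone_exactAt_zero (hex 0) hreg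
  | i + 1 => cone_exactAt_succ i (hex i) (hex (i + 1))

omit [∀ i, Fintype (ι i)] in
theorem coneD_mem (J : Ideal A) (hg : g ∈ J) (i : ℕ) (h1 : ∀ a b, D (i + 1) a b ∈ J)
    (h0 : ∀ a b, D i a b ∈ J) : ∀ a b, coneD ι D g (i + 1) a b ∈ J := by
  intro a b
  show Matrix.fromBlocks (D (i + 1)) ((sgn A i * g) • (1 : Matrix (ι (i + 1)) (ι (i + 1)) A))
      0 (D i) a b ∈ J
  rcases a with a | a <;> rcases b with b | b
  · exact h1 a b
  · simp only [Matrix.fromBlocks_apply₁₂, Matrix.smul_apply, Matrix.one_apply, smul_eq_mul]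
    split_ifs
    · rw [mul_one]
      exact J.mul_mem_left _ hg
    · rw [mul_zero]
      exact J.zero_mem
  · simp
  · exact h0 a b

end Groth.Agent.H2.MatRes
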