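import Mathlib
import Groth.Agent.Lib.Helper2.MatRes2
import Groth.Agent.Lib.Helper2.MatRes3

/-! The easy half of the Auslander–Buchsbaum formula over a polynomial ring, in matrix form: a
weakly regular sequence in the ideal of the variables on the cokernel of a minimal exact complex
is no longer than the number of variables minus the length of the complex. -/

universe u

namespace Groth.Agent.H2.MatRes

open MvPolynomial RingTheory.Sequence Matrix Pointwise

section Cone0

variable {A : Type u} [CommRing A] {ι : ℕ → Type} [∀ i, Fintype (ι i)] [∀ i, DecidableEq (ι i)]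
  {D : ∀ i, Matrix (ι i) (ι (i + 1)) A} {g : A}

omit [∀ i, Fintype (ι i)] in
theorem coneD_zero_mem (J : Ideal A) (hg : g ∈ J) (h0 : ∀ a b, D 0 a b ∈ J) :
    ∀ a b, coneD ι D g 0 a b ∈ J := by
  intro (a : ι 0) (b : ι 1 ⊕ ι 0)
  show Matrix.fromCols (D 0) (g • (1 : Matrix (ι 0) (ι 0) A)) a b ∈ J
  rcases b with b | b
  · exact h0 a b
  · simp only [Matrix.fromCols_apply_inr, Matrix.smul_apply, Matrix.one_apply, smul_eq_mul]
    split_ifs
    · rw [mul_one]
      exact hg
    · rw [mul_zero]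
      exact J.zero_mem

omit [∀ i, Fintype (ι i)] in
theorem coneD_all_mem (J : Ideal A) (hg : g ∈ J) (h : ∀ i a b, D i a b ∈ J) :
    ∀ i a b, coneD ι D g i a b ∈ J
  | 0 => coneD_zero_mem J hg (h 0)
  | i + 1 => coneD_mem J hg i (h (i + 1)) (h i)

end Cone0

theorem ker_mkQ_comp {A : Type u} [CommRing A] {κ₀ κ₁ : Type} [Fintype κ₀] [Fintype κ₁]
    [DecidableEq κ₀] (D0 : Matrix κ₀ κ₁ A) (r : A) {N : Type u} [AddCommGroup N] [Module A N]
    (π : (κ₀ → A) →ₗ[A] N) (hπ : Function.Surjective π)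
    (hker : LinearMap.ker π = LinearMap.range D0.mulVecLin) :
    LinearMap.ker ((Submodule.mkQ (r • (⊤ : Submodule A N))) ∘ₗ π) =
      LinearMap.range (Matrix.fromCols D0 (r • (1 : Matrix κ₀ κ₀ A))).mulVecLin := by
  ext w
  rw [LinearMap.mem_ker, LinearMap.comp_apply, Submodule.mkQ_apply,
    Submodule.Quotient.mk_eq_zero, Submodule.mem_smul_pointwise_iff_exists]
  constructor
  · rintro ⟨y, -, hy⟩
    obtain ⟨u, rfl⟩ := hπ y
    have h1 : w - r • u ∈ LinearMap.ker π := by
      rw [LinearMap.mem_ker, map_sub, map_smul, hy, sub_self]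
    rw [hker] at h1
    obtain ⟨v, hv⟩ := h1
    refine ⟨Sum.elim v u, ?_⟩
    rw [Matrix.mulVecLin_apply, Matrix.fromCols_mulVec, Matrix.smul_mulVec, Matrix.one_mulVec]
    simp only [Sum.elim_comp_inl, Sum.elim_comp_inr]
    rw [Matrix.mulVecLin_apply] at hv
    rw [hv]
    exact sub_add_cancel w (r • u)
  · rintro ⟨v, rfl⟩
    rw [Matrix.mulVecLin_apply, Matrix.fromCols_mulVec, Matrix.smul_mulVec, Matrix.one_mulVec]
    refine ⟨π (v ∘ Sum.inr), Submodule.mem_top, ?_⟩
    rw [map_add, map_smul]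
    have h1 : D0 *ᵥ (v ∘ Sum.inl) ∈ LinearMap.ker π := by
      rw [hker]
      exact ⟨_, rfl⟩
    rw [LinearMap.mem_ker.1 h1, zero_add]

variable {k : Type u} [Field k] {n : ℕ}

theorem length_le : ∀ (rs : List (MvPolynomial (Fin n) k)) (_ : ∀ r ∈ rs, constantCoeff r = 0)
    (ι : ℕ → Type) [∀ i, Fintype (ι i)] [∀ i, DecidableEq (ι i)]
    (D : ∀ i, Matrix (ι i) (ι (i + 1)) (MvPolynomial (Fin n) k))
    (_ : ∀ i, ExactAt ι D i) (_ : ∀ i a b, constantCoeff (D i a b) = 0)
    (N : Type u) [AddCommGroup N] [Module (MvPolynomial (Fin n) k) N]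
    (π : (ι 0 → MvPolynomial (Fin n) k) →ₗ[MvPolynomial (Fin n) k] N) (_ : Function.Surjective π)
    (_ : LinearMap.ker π = LinearMap.range (D 0).mulVecLin)
    (_ : IsWeaklyRegular N rs) (p : ℕ) (_ : Nonempty (ι p)), p + rs.length ≤ n := by
  intro rs
  induction rs with
  | nil =>
    intro _ ι _ _ D hex hm N _ _ π _ _ _ p hp
    by_contra hlt
    obtain ⟨i, rfl⟩ : ∃ i, p = i + 1 := ⟨p - 1, by simp at hlt; omega⟩
    have := hs k n ι D 0 (fun i _ => hex i) (fun i _ => hm i) i (by simp at hlt; omega)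
    exact this.false hp.some
  | cons r rs ih =>
    intro hrs ι _ _ D hex hm N _ _ π hπ hker hreg p hp
    obtain ⟨hr, hrs'⟩ := (isWeaklyRegular_cons_iff N r rs).1 hreg
    have hr0 : constantCoeff r = 0 := hrs r (List.mem_cons_self)
    have hregD : ∀ w : ι 0 → MvPolynomial (Fin n) k,
        (∃ v, D 0 *ᵥ v = r • w) → ∃ u, D 0 *ᵥ u = w := by
      rintro w ⟨v, hv⟩
      have h1 : r • w ∈ LinearMap.ker π := by
        rw [hker]
        exact ⟨v, hv⟩
      rw [LinearMap.mem_ker, map_smul] at h1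
      have h2 : π w = 0 := hr (show r • π w = r • 0 by rw [h1, smul_zero])
      have h3 : w ∈ LinearMap.ker π := h2
      rw [hker] at h3
      exact h3
    have hπ' : Function.Surjective ((Submodule.mkQ (r • (⊤ : Submodule (MvPolynomial (Fin n) k) N))) ∘ₗ π) :=
      (Submodule.mkQ_surjective _).comp hπ
    have hker' := ker_mkQ_comp (D 0) r π hπ hker
    have := ih (fun r' hr' => hrs r' (List.mem_cons_of_mem _ hr')) (coneι ι) (coneD ι D r)
      (cone_exactAt hex hregD)
      (coneD_all_mem (RingHom.ker (constantCoeff (R := k) (σ := Fin n))) hr0 hm)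
      (QuotSMulTop r N) ((Submodule.mkQ (r • (⊤ : Submodule (MvPolynomial (Fin n) k) N))) ∘ₗ π) hπ' hker' hrs' (p + 1)
      ⟨Sum.inr hp.some⟩
    rw [List.length_cons]
    omega

end Groth.Agent.H2.MatRes
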