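import Mathlib
import Groth.Agent.Lib.Helper6.DepthKit
import Groth.Agent.Lib.Helper2.MatRes1

/-! The depth of the cokernel of a finite exact complex of free modules, through local
cohomology: the other half of the Auslander–Buchsbaum formula. -/

universe u

namespace Groth.Agent.H2.MatRes

open Matrix Groth.Agent.H6

variable {R : Type u} [CommRing R] [IsNoetherianRing R] (I : Ideal R)

lemma subsingleton_H_of_subsingleton (M : Type u) [AddCommGroup M] [Module R M] [Subsingleton M]
    (j : ℕ) : Subsingleton (LocCoh.H I j M) := by
  haveI : Module.Finite R M := Module.Finite.of_surjective (0 : R →ₗ[R] M)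
    (fun m => ⟨0, Subsingleton.elim _ _⟩)
  exact Depth.subsingleton_H_of_smul_top_eq_top I M (Subsingleton.elim _ _) j

variable (N₀ : ℕ) (hR : ∀ j < N₀, Subsingleton (LocCoh.H I j R))

include hR in
lemma subsingleton_H_free : ∀ (m : ℕ) (j : ℕ), j < N₀ → Subsingleton (LocCoh.H I j (Fin m → R))
  | 0, j, _ => subsingleton_H_of_subsingleton I _ j
  | m + 1, j, hj => by
    have ih := subsingleton_H_free m j hj
    let f : R →ₗ[R] (Fin (m + 1) → R) := LinearMap.single R (fun _ => R) 0
    let g : (Fin (m + 1) → R) →ₗ[R] (Fin m → R) := LinearMap.funLeft R R Fin.succ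
    have hf : Function.Injective f := by
      intro a b hab
      have := congrFun hab 0
      simpa [f] using this
    have hg : Function.Surjective g := by
      intro w
      refine ⟨Fin.cons 0 w, ?_⟩
      funext i
      simp [g, LinearMap.funLeft_apply]
    have hex : Function.Exact f g := by
      intro y
      constructor
      · intro hy
        refine ⟨y 0, ?_⟩
        funext i
        refine Fin.cases ?_ (fun i' => ?_) i
        · simp [f]
        · have := congrFun hy i'
          simp only [g, LinearMap.funLeft_apply, Pi.zero_apply] at this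
          simp [f, this]
      · rintro ⟨a, rfl⟩
        funext i
        simp [f, g, LinearMap.funLeft_apply]
    exact Depth.subsingleton_mid f g I j hf hg hex (hR j hj) ih

variable {r : ℕ → ℕ} (D : ∀ i, Matrix (Fin (r i)) (Fin (r (i + 1))) R)
  (hex : ∀ i, ExactAt (fun i => Fin (r i)) D i) (ℓ : ℕ) (hℓ : r (ℓ + 1) = 0)

include hR hex hℓ in
lemma subsingleton_H_range : ∀ (m i : ℕ), i + m = ℓ → ∀ j, j + m < N₀ + 1 →
    Subsingleton (LocCoh.H I j (LinearMap.range (D i).mulVecLin)) := by
  intro m
  induction m with
  | zero =>
    intro i hi j _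
    have hi' : i = ℓ := by omega
    subst hi'
    have : IsEmpty (Fin (r (i + 1))) := by
      rw [hℓ]
      infer_instance
    have : Subsingleton (LinearMap.range (D i).mulVecLin) := by
      constructor
      rintro ⟨_, ⟨v, rfl⟩⟩ ⟨_, ⟨w, rfl⟩⟩
      rw [Subsingleton.elim v w]
    exact subsingleton_H_of_subsingleton I _ j
  | succ m ih =>
    intro i hi j hj
    have h1 := ih (i + 1) (by omega) (j + 1) (by omega)
    have h2 := subsingleton_H_free I N₀ hR (r (i + 1)) j (by omega)
    let f : LinearMap.range (D (i + 1)).mulVecLin →ₗ[R] (Fin (r (i + 1)) → R) :=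
      (LinearMap.range (D (i + 1)).mulVecLin).subtype
    let g : (Fin (r (i + 1)) → R) →ₗ[R] LinearMap.range (D i).mulVecLin :=
      (D i).mulVecLin.rangeRestrict
    have hf : Function.Injective f := Submodule.subtype_injective _
    have hg : Function.Surjective g := LinearMap.surjective_rangeRestrict _
    have hexfg : Function.Exact f g := by
      intro y
      constructor
      · intro hy
        have hy' : y ∈ LinearMap.ker (D i).mulVecLin := by
          rw [LinearMap.mem_ker]
          exact congrArg Subtype.val hy
        rw [hex i] at hy'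
        exact ⟨⟨y, hy'⟩, rfl⟩
      · rintro ⟨⟨y', hy'⟩, rfl⟩
        apply Subtype.ext
        have : y' ∈ LinearMap.ker (D i).mulVecLin := by
          rw [hex i]
          exact hy'
        exact this
    exact Depth.subsingleton_right f g I j hf hg hexfg h2 h1

include hR hex hℓ in
/-- Vanishing of local cohomology of the cokernel below `N₀ - ℓ`. -/
theorem subsingleton_H_coker {M : Type u} [AddCommGroup M] [Module R M]
    (π : (Fin (r 0) → R) →ₗ[R] M) (hπ : Function.Surjective π)
    (hker : LinearMap.ker π = LinearMap.range (D 0).mulVecLin) (j : ℕ) (hj : j + ℓ < N₀) :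
    Subsingleton (LocCoh.H I j M) := by
  have h1 := subsingleton_H_range I N₀ hR D hex ℓ hℓ ℓ 0 (by omega) (j + 1) (by omega)
  have h2 := subsingleton_H_free I N₀ hR (r 0) j (by omega)
  let f : LinearMap.range (D 0).mulVecLin →ₗ[R] (Fin (r 0) → R) :=
    (LinearMap.range (D 0).mulVecLin).subtype
  have hf : Function.Injective f := Submodule.subtype_injective _
  have hexfg : Function.Exact f π := by
    intro y
    constructor
    · intro hy
      have hy' : y ∈ LinearMap.ker π := hy
      rw [hker] at hy'
      exact ⟨⟨y, hy'⟩, rfl⟩
    · rintro ⟨⟨y', hy'⟩, rfl⟩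
      have : y' ∈ LinearMap.ker π := by
        rw [hker]
        exact hy'
      exact this
  exact Depth.subsingleton_right f π I j hf hπ hexfg h2 h1

end Groth.Agent.H2.MatRes
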