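import Mathlib
import Groth.Prelude.Def_GrSyz
import Groth.Prelude.Def_CAlg
import Groth.Agent.Lib.Helper2.GrSyzBasic
import Groth.Agent.Lib.Helper2.GrSyzMin
import Groth.Agent.Lib.Helper2.GrSyzBetti1
import Groth.Agent.Lib.Helper2.GrSyzHilbert
import Groth.Agent.Lib.Helper2.MatRes4
import Groth.Agent.Lib.Helper2.MatRes5

/-! The graded Auslander–Buchsbaum formula over a polynomial ring: for a minimal graded free
resolution of length exactly `ℓ` of a graded module `M` over `k[x_1, …, x_n]`,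
`ℓ + depth(𝔪, M) = n`. -/

universe u

namespace Groth.Agent.H2.GrAB

open MvPolynomial Groth.Agent.H6 RingTheory.Sequence

section Std

variable (k : Type u) [Field k] (σ : Type*)

/-- (after helper6's `Liai.decompose_zero`) the degree-zero component is the constant term -/
theorem decompose_zero (x : MvPolynomial σ k) :
    (DirectSum.decompose (GrSyz.stdGr k σ) x 0 : MvPolynomial σ k) =
      C (constantCoeff x) := by
  classical
  have h1 : (DirectSum.decompose (GrSyz.stdGr k σ) x 0 : MvPolynomial σ k) =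
      weightedHomogeneousComponent (fun _ : σ => (1 : ℤ)) 0 x :=
    weightedDecomposition.decompose'_apply k (fun _ : σ => (1 : ℤ)) x 0
  rw [h1]
  ext d
  rw [coeff_weightedHomogeneousComponent, coeff_C]
  by_cases hd : d = 0
  · subst hd
    simp [constantCoeff_eq]
  · have : ¬ (Finsupp.weight (fun _ : σ => (1 : ℤ)) d = 0) := by
      rw [GrSyzBasic.weight_one_eq_zero_iff]
      exact hd
    rw [if_neg this, if_neg (Ne.symm hd)]

end Std

/-- the irrelevant ideal -/
noncomputable abbrev mI (k : Type u) [Field k] (n : ℕ) : Ideal (MvPolynomial (Fin n) k) :=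
  (GrSyz.irrel (GrSyz.stdGr k (Fin n))).toIdeal

variable {k : Type u} [Field k] {n : ℕ}
  {M : Type u} [AddCommGroup M] [Module k M] [Module (MvPolynomial (Fin n) k) M]
  [IsScalarTower k (MvPolynomial (Fin n) k) M] [Module.Finite (MvPolynomial (Fin n) k) M]
  (ℳ : ℤ → Submodule k M) [DirectSum.Decomposition ℳ]
  [SetLike.GradedSMul (GrSyz.stdGr k (Fin n)) ℳ]

local notation "𝔪" => mI k n

include ℳ in
omit [Module.Finite (MvPolynomial (Fin n) k) M] [IsScalarTower k (MvPolynomial (Fin n) k) M] in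
/-- a nonzero graded module is not killed by an element with constant term one -/
theorem eq_zero_of_smul_eq_zero (r : MvPolynomial (Fin n) k) (hr : constantCoeff r = 1)
    (h : ∀ m : M, r • m = 0) (m : M) : m = 0 := by
  classical
  have hhom : ∀ (j : ℤ) (x : M), x ∈ ℳ j → x = 0 := by
    intro j x hx
    have h1 := GrSyzBetti.decompose_smul_of_mem (GrSyz.stdGr k (Fin n)) ℳ hx r j
    rw [h x, DirectSum.decompose_zero, DirectSum.zero_apply, ZeroMemClass.coe_zero, sub_self,
      GradedRing.proj_apply, decompose_zero, hr, map_one, one_smul] at h1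
    exact h1.symm
  rw [← DirectSum.sum_support_decompose ℳ m]
  exact Finset.sum_eq_zero (fun j _ => hhom j _ (SetLike.coe_mem _))

omit [Module.Finite (MvPolynomial (Fin n) k) M] in
variable {ℳ} in
theorem nontrivial_of_rk_ne_zero (F : GrSyz.FreeRes (GrSyz.stdGr k (Fin n)) ℳ)
    (hF : F.IsMinimal 𝔪) (ℓ : ℕ) (hℓ' : F.rk ℓ ≠ 0) : Nontrivial M := by
  by_contra hM
  rw [not_nontrivial_iff_subsingleton] at hM
  have hm1 : 𝔪 ≠ ⊤ := fun h =>
    GrSyzBasic.one_notMem_irrel (k := k) (σ := Fin n)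
      (show (1 : MvPolynomial (Fin n) k) ∈ 𝔪 by rw [h]; trivial)
  obtain ⟨h0, hS⟩ := GrSyzMin.irredundant_of_isMinimal F 𝔪 hm1 hF
  have hall : ∀ i, F.rk i = 0 := by
    intro i
    induction i with
    | zero =>
      by_contra hne
      have b : Fin (F.rk 0) := ⟨0, Nat.pos_of_ne_zero hne⟩
      apply h0 b
      rw [Subsingleton.elim (F.aug b) 0]
      exact Submodule.zero_mem _
    | succ i ih =>
      by_contra hne
      have b : Fin (F.rk (i + 1)) := ⟨0, Nat.pos_of_ne_zero hne⟩
      apply hS i b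
      have : IsEmpty (Fin (F.rk i)) := by
        rw [ih]
        infer_instance
      rw [Subsingleton.elim (fun a => F.d i a b) 0]
      exact Submodule.zero_mem _
  exact hℓ' (hall ℓ)

include ℳ in
theorem smul_top_ne_top [Nontrivial M] : 𝔪 • (⊤ : Submodule (MvPolynomial (Fin n) k) M) ≠ ⊤ := by
  intro htop
  obtain ⟨r, hr, hkill⟩ := Submodule.exists_sub_one_mem_and_smul_eq_zero_of_fg_of_le_smul 𝔪
    (⊤ : Submodule (MvPolynomial (Fin n) k) M) Module.Finite.fg_top htop.ge
  have hr1 : constantCoeff r = 1 := by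
    rw [GrSyzBasic.mem_irrel_iff, map_sub, map_one, sub_eq_zero] at hr
    exact hr
  obtain ⟨m, hm⟩ := exists_ne (0 : M)
  exact hm (eq_zero_of_smul_eq_zero ℳ r hr1 (fun m => hkill m Submodule.mem_top) m)

omit [Module.Finite (MvPolynomial (Fin n) k) M] in
/-- the depth of the polynomial ring -/
theorem subsingleton_H_self (j : ℕ) (hj : j < n) :
    Subsingleton (LocCoh.H 𝔪 j (MvPolynomial (Fin n) k)) := by
  classical
  have hle : ((n : ℕ) : ℕ∞) ≤ LocCoh.idealDepth 𝔪 (MvPolynomial (Fin n) k) := by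
    unfold LocCoh.idealDepth
    split_ifs with h
    · exact le_top
    · refine le_iSup₂_of_le (List.ofFn fun i => (X i : MvPolynomial (Fin n) k))
        ⟨GrSyzHilbert.isWeaklyRegular_X k n, ?_⟩ ?_
      · intro r hr
        rw [List.mem_ofFn] at hr
        obtain ⟨i, rfl⟩ := hr
        rw [GrSyzBasic.mem_irrel_iff, constantCoeff_X]
      · rw [List.length_ofFn]
  exact (Depth.le_idealDepth_iff 𝔪 (MvPolynomial (Fin n) k) n).1 hle j hj

variable {ℳ} in
/-- **Graded Auslander–Buchsbaum formula** over a polynomial ring. -/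
theorem main (F : GrSyz.FreeRes (GrSyz.stdGr k (Fin n)) ℳ) (hF : F.IsMinimal 𝔪)
    (ℓ : ℕ) (hℓ : F.HasLengthLE ℓ) (hℓ' : F.rk ℓ ≠ 0) :
    (ℓ : ℕ∞) + LocCoh.idealDepth 𝔪 M = ((n : ℕ) : ℕ∞) := by
  classical
  have := nontrivial_of_rk_ne_zero F hF ℓ hℓ'
  have hne := smul_top_ne_top (k := k) (n := n) (M := M) ℳ
  have hex : ∀ i, MatRes.ExactAt (fun i => Fin (F.rk i)) F.d i := F.exact_succ
  have hmin : ∀ i a b, constantCoeff (F.d i a b) = 0 := fun i a b =>
    GrSyzBasic.mem_irrel_iff.1 (hF i a b)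
  have hup : ∀ rs : List (MvPolynomial (Fin n) k),
      IsWeaklyRegular M rs ∧ (∀ r ∈ rs, r ∈ 𝔪) → ℓ + rs.length ≤ n := by
    rintro rs ⟨hreg, hmem⟩
    exact MatRes.length_le rs (fun r hr => GrSyzBasic.mem_irrel_iff.1 (hmem r hr))
      (fun i => Fin (F.rk i)) F.d hex hmin M (Fintype.linearCombination _ F.aug)
      F.aug_surjective F.exact_zero hreg ℓ ⟨⟨0, Nat.pos_of_ne_zero hℓ'⟩⟩
  have hℓn : ℓ ≤ n := by
    have := hup [] ⟨IsWeaklyRegular.nil _ _, fun r hr => absurd hr (List.not_mem_nil)⟩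
    simpa using this
  have hlow : ((n - ℓ : ℕ) : ℕ∞) ≤ LocCoh.idealDepth 𝔪 M := by
    rw [Depth.le_idealDepth_iff]
    intro j hj
    exact MatRes.subsingleton_H_coker 𝔪 n (fun j hj => subsingleton_H_self j hj) F.d hex ℓ
      (hℓ (ℓ + 1) (Nat.lt_succ_self ℓ)) (Fintype.linearCombination _ F.aug) F.aug_surjective
      F.exact_zero j (by omega)
  have hupper : LocCoh.idealDepth 𝔪 M ≤ ((n - ℓ : ℕ) : ℕ∞) := by
    unfold LocCoh.idealDepth
    rw [if_neg hne]
    refine iSup₂_le (fun rs hrs => ?_)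
    have := hup rs hrs
    exact_mod_cast (by omega : rs.length ≤ n - ℓ)
  rw [le_antisymm hupper hlow]
  exact_mod_cast (by omega : ℓ + (n - ℓ) = n)

end Groth.Agent.H2.GrAB
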