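import Mathlib
import Groth.Agent.Lib.Helper6.GrShiftRes
import Groth.Agent.Lib.Helper6.GrFinite
import Groth.Agent.Lib.Helper6.GrRes
import Groth.Agent.Lib.Helper6.GrSubQuot

/-! Vanishing of pieces of graded local cohomology: the basic toolkit (long exact sequence,
isomorphisms, shifts, torsion modules, `H^0`). -/

universe u
open DirectSum GrLC Groth.Agent.H6 Groth.Agent.H6.Gr
set_option linter.unusedSectionVars false

namespace Groth.Agent.H2.GrEG

variable {R : Type u} [CommRing R] {𝒜 : ℤ → AddSubgroup R} [GradedRing 𝒜]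

/-- vanishing of the degree-`j` piece of `H^q_a` of a graded module -/
def HV (a : HomogeneousIdeal 𝒜) (X : GMod.{u} 𝒜) (q : ℕ) (j : ℤ) : Prop :=
  ∀ E : StarInjRes 𝒜 X.gr, E.Hgr a q j = ⊥

variable (a : HomogeneousIdeal 𝒜)

theorem HV_of_one {X : GMod.{u} 𝒜} {q : ℕ} {j : ℤ} (E : StarInjRes 𝒜 X.gr)
    (h : E.Hgr a q j = ⊥) : HV a X q j := by
  intro E'
  rw [eq_bot_iff]
  intro y hy
  have h1 := Hequiv_isGrHom a E' E q j y hy
  rw [h] at h1
  have h2 : (Hequiv a E' E q) y = 0 := h1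
  rw [AddSubgroup.mem_bot]
  exact (Hequiv a E' E q).injective (h2.trans (map_zero _).symm)

theorem HV.eq_zero {X : GMod.{u} 𝒜} {q : ℕ} {j : ℤ} (h : HV a X q j) (E : StarInjRes 𝒜 X.gr)
    {y : E.H a q} (hy : y ∈ E.Hgr a q j) : y = 0 := by
  rw [h E] at hy
  exact hy

section SES

variable {X' X X'' : GMod.{u} 𝒜} {i : X'.carrier →ₗ[R] X.carrier} {p : X.carrier →ₗ[R] X''.carrier}
  (S : GrSES X'.gr X.gr X''.gr i p)

include S

theorem HV_mid {q : ℕ} {j : ℤ} (h' : HV a X' q j) (h'' : HV a X'' q j) : HV a X q j := by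
  intro E
  set E' := starInjRes 𝒜 X'.gr
  set E'' := starInjRes 𝒜 X''.gr
  obtain ⟨δ, hδ, -, hex1, -, -⟩ := exists_les S E' E E'' a
  rw [eq_bot_iff]
  intro y hy
  rw [AddSubgroup.mem_bot]
  have h1 : Hmap E E'' a p S.hp q y = 0 :=
    h''.eq_zero a E'' (Hmap_isGrHom (E := E) (F := E'') a S.hp q j y hy)
  have h2 := (hex1 q y).mp h1
  obtain ⟨x, hx, hxy⟩ := exists_mem_of_isGrHom (E'.Hgr a q) (E.Hgr a q)
    (isInternal_Hgr 𝒜 _ E' a q) (isInternal_Hgr 𝒜 _ E a q)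
    (Hmap_isGrHom (E := E') (F := E) a S.hi q) hy h2
  rw [← hxy, h'.eq_zero a E' hx, map_zero]

theorem HV_right {q : ℕ} {j : ℤ} (h : HV a X q j) (h' : HV a X' (q + 1) j) : HV a X'' q j := by
  intro E''
  set E' := starInjRes 𝒜 X'.gr
  set E := starInjRes 𝒜 X.gr
  obtain ⟨δ, hδ, -, -, hex2, -⟩ := exists_les S E' E E'' a
  rw [eq_bot_iff]
  intro z hz
  rw [AddSubgroup.mem_bot]
  have h1 : δ q z = 0 := h'.eq_zero a E' (hδ q j z hz)
  have h2 := (hex2 q z).mp h1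
  obtain ⟨y, hy, hyz⟩ := exists_mem_of_isGrHom (E.Hgr a q) (E''.Hgr a q)
    (isInternal_Hgr 𝒜 _ E a q) (isInternal_Hgr 𝒜 _ E'' a q)
    (Hmap_isGrHom (E := E) (F := E'') a S.hp q) hz h2
  rw [← hyz, h.eq_zero a E hy, map_zero]

theorem HV_left {q : ℕ} {j : ℤ} (h : HV a X (q + 1) j) (h'' : HV a X'' q j) :
    HV a X' (q + 1) j := by
  intro E'
  set E := starInjRes 𝒜 X.gr
  set E'' := starInjRes 𝒜 X''.gr
  obtain ⟨δ, hδ, -, -, -, hex3⟩ := exists_les S E' E E'' a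
  rw [eq_bot_iff]
  intro x hx
  rw [AddSubgroup.mem_bot]
  have h1 : Hmap E' E a i S.hi (q + 1) x = 0 :=
    h.eq_zero a E (Hmap_isGrHom (E := E') (F := E) a S.hi (q + 1) j x hx)
  have h2 := (hex3 q x).mp h1
  obtain ⟨z, hz, hzx⟩ := exists_mem_of_isGrHom (E''.Hgr a q) (E'.Hgr a (q + 1))
    (isInternal_Hgr 𝒜 _ E'' a q) (isInternal_Hgr 𝒜 _ E' a (q + 1)) (hδ q) hx h2
  rw [← hzx, h''.eq_zero a E'' hz, map_zero]

theorem HV_left_zero {j : ℤ} (h : HV a X 0 j) : HV a X' 0 j := by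
  intro E'
  set E := starInjRes 𝒜 X.gr
  set E'' := starInjRes 𝒜 X''.gr
  obtain ⟨δ, hδ, hinj, -, -, -⟩ := exists_les S E' E E'' a
  rw [eq_bot_iff]
  intro x hx
  rw [AddSubgroup.mem_bot]
  have h1 : Hmap E' E a i S.hi 0 x = 0 :=
    h.eq_zero a E (Hmap_isGrHom (E := E') (F := E) a S.hi 0 j x hx)
  exact hinj (h1.trans (map_zero _).symm)

end SES

/-- invariance under graded isomorphisms -/
theorem HV_of_equiv {X Y : GMod.{u} 𝒜} (e : X.carrier ≃ₗ[R] Y.carrier)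
    (he : IsGrHom X.gr Y.gr e.toLinearMap) (he' : IsGrHom Y.gr X.gr e.symm.toLinearMap)
    {q : ℕ} {j : ℤ} (h : HV a X q j) : HV a Y q j := by
  intro EY
  set EX := starInjRes 𝒜 X.gr
  rw [eq_bot_iff]
  intro y hy
  rw [AddSubgroup.mem_bot]
  have h1 := Hmap_comp (E := EY) (F := EX) (G := EY) a he' he q
  have h2 : e.toLinearMap ∘ₗ e.symm.toLinearMap = LinearMap.id := by
    ext x
    simp
  have h3 := Hmap_congr EY EY a h2 (fun k x hx => he k _ (he' k x hx)) q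
  rw [h3, Hmap_id] at h1
  have h4 : Hmap EY EX a e.symm.toLinearMap he' q y = 0 :=
    h.eq_zero a EX (Hmap_isGrHom (E := EY) (F := EX) a he' q j y hy)
  have h5 := LinearMap.congr_fun h1 y
  rw [LinearMap.comp_apply, h4, map_zero] at h5
  exact h5

/-- shifts -/
theorem HV_shift_iff (X : GMod.{u} 𝒜) (t : ℤ) (q : ℕ) (j : ℤ) :
    HV a (Msh (𝒜 := 𝒜) X.gr t) q j ↔ HV a X q (j - t) := by
  constructor
  · intro h E
    have h1 := h (shiftRes E t)
    rw [eq_bot_iff]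
    intro y hy
    rw [AddSubgroup.mem_bot]
    have h2 : y ∈ (shiftRes E t).Hgr a q j := (shiftH_mem E a t q j y).mpr hy
    rw [h1] at h2
    exact h2
  · intro h
    set E := starInjRes 𝒜 X.gr
    apply HV_of_one a (shiftRes E t)
    rw [eq_bot_iff]
    intro y hy
    rw [AddSubgroup.mem_bot]
    have h2 := (shiftH_mem E a t q j y).mp hy
    rw [h E] at h2
    exact h2

/-- torsion modules have no higher local cohomology -/
theorem HV_of_torsion [IsNoetherianRing R] (X : GMod.{u} 𝒜)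
    (hX : ∀ m : X.carrier, m ∈ gam a.toIdeal X.carrier) (q : ℕ) (j : ℤ) : HV a X (q + 1) j := by
  intro E
  rw [eq_bot_iff]
  intro y _
  rw [AddSubgroup.mem_bot]
  exact H_eq_zero_of_torsion E a hX q y

/-- `H^0` is the torsion submodule -/
theorem HV_zero_iff (X : GMod.{u} 𝒜) (j : ℤ) :
    HV a X 0 j ↔ ∀ m ∈ X.gr j, m ∈ gam a.toIdeal X.carrier → m = 0 := by
  constructor
  · intro h m hm hmt
    set E := starInjRes 𝒜 X.gr
    have hz : E.ε m ∈ E.cocyc a 0 := ⟨map_mem_gam E.ε a.toIdeal hmt, d_ε E m⟩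
    have h1 : E.toH a 0 ⟨E.ε m, hz⟩ ∈ E.Hgr a 0 j := ⟨⟨E.ε m, hz⟩, E.ε_grHom j m hm, rfl⟩
    have h2 := h.eq_zero a E h1
    rw [toH_eq_zero_iff, mem_cobdy_zero] at h2
    exact E.ε_injective (h2.trans (map_zero _).symm)
  · intro h E
    rw [eq_bot_iff]
    rintro _ ⟨z, hz, rfl⟩
    rw [AddSubgroup.mem_bot]
    obtain ⟨m, hm⟩ := exists_of_d_zero_eq_zero E (show E.d 0 z = 0 from z.2.2)
    have hmt : m ∈ gam a.toIdeal X.carrier := by
      obtain ⟨k, hk⟩ := z.2.1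
      refine ⟨k, fun r hr => E.ε_injective ?_⟩
      rw [map_smul, hm, hk r hr, map_zero]
    have hmj : m ∈ X.gr j := by
      apply mem_of_map_mem X.gr (E.X 0).gr E.ε_grHom E.ε_injective
      rw [hm]
      exact hz
    have h0 := h m hmj hmt
    have hz0 : z = 0 := by
      apply Subtype.ext
      rw [← hm, h0, map_zero]
      rfl
    rw [hz0, map_zero]

/-- if multiplication by an element of the ideal is injective on all pieces from `j` on,
the piece of degree `j` vanishes -/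
theorem Hgr_eq_bot_of_smul_injective {X : GMod.{u} 𝒜} (E : StarInjRes 𝒜 X.gr) {x : R}
    (hxa : x ∈ a.toIdeal) (hx1 : x ∈ 𝒜 1) (q : ℕ) (j : ℤ)
    (h : ∀ e : ℤ, j ≤ e → ∀ y ∈ E.Hgr a q e, x • y = 0 → y = 0) : E.Hgr a q j = ⊥ := by
  have key : ∀ (k : ℕ) (e : ℤ), j ≤ e → ∀ y ∈ E.Hgr a q e, x ^ k • y = 0 → y = 0 := by
    intro k
    induction k with
    | zero =>
      intro e _ y _ hy
      rwa [pow_zero, one_smul] at hy
    | succ k ih =>
      intro e he y hy hxy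
      rw [pow_succ, mul_smul] at hxy
      have h1 : x • y ∈ E.Hgr a q (1 + e) := smul_mem_Hgr E a q hx1 hy
      have h2 := ih (1 + e) (by omega) (x • y) h1 hxy
      exact h e he y hy h2
  rw [eq_bot_iff]
  intro y hy
  rw [AddSubgroup.mem_bot]
  obtain ⟨k, hk⟩ := H_torsion E a q y
  exact key k j le_rfl y hy (hk _ (Ideal.pow_mem_pow hxa k))

end Groth.Agent.H2.GrEG
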