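import Mathlib
import Groth.Agent.Lib.Helper2.GrEG1

/-! Vanishing of pieces of graded local cohomology: regular elements of degree one, submodules
and quotients. -/

universe u
open DirectSum GrLC Groth.Agent.H6 Groth.Agent.H6.Gr
set_option linter.unusedSectionVars false

namespace Groth.Agent.H2.GrEG

variable {R : Type u} [CommRing R] {𝒜 : ℤ → AddSubgroup R} [GradedRing 𝒜]
variable (a : HomogeneousIdeal 𝒜)

theorem HV_of_subsingleton [IsNoetherianRing R] (X : GMod.{u} 𝒜) (hX : Subsingleton X.carrier)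
    (q : ℕ) (j : ℤ) : HV a X q j := by
  cases q with
  | zero =>
    rw [HV_zero_iff]
    intro m _ _
    exact Subsingleton.elim _ _
  | succ q =>
    apply HV_of_torsion
    intro m
    rw [Subsingleton.elim m 0]
    exact zero_mem _

section Reg

variable {X Y : GMod.{u} 𝒜} {x : R} (hx1 : x ∈ 𝒜 1)
  (hreg : IsSMulRegular X.carrier x) (π : X.carrier →ₗ[R] Y.carrier) (hπ : Function.Surjective π)
  (hπg : IsGrHom X.gr Y.gr π) (hker : ∀ m, π m = 0 ↔ ∃ m', x • m' = m)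

include hx1 hreg hπ hπg hker in
/-- the short exact sequence `0 → X(-1) → X → X/xX → 0` -/
theorem ses_smul : GrSES (Msh (𝒜 := 𝒜) X.gr 1).gr X.gr Y.gr
    (show (Msh (𝒜 := 𝒜) X.gr 1).carrier →ₗ[R] X.carrier from LinearMap.lsmul R X.carrier x) π where
  hi := lsmul_isGrHom_shift (𝒜 := 𝒜) (ℳ := X.gr) 1 hx1
  hp := hπg
  inj := by
    rw [injective_iff_map_eq_zero]
    intro m hm
    exact hreg (show x • (show X.carrier from m) = x • (0 : X.carrier) from
      (hm : x • (show X.carrier from m) = 0).trans (smul_zero x).symm)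
  surj := hπ
  exact := fun m => hker m

include hx1 hreg hπ hπg hker in
theorem HV_reg_succ (hxa : x ∈ a.toIdeal) {q : ℕ} {j : ℤ} (h : ∀ e : ℤ, j < e → HV a Y q e) :
    HV a X (q + 1) j := by
  intro E
  have S2 := ses_smul hx1 hreg π hπ hπg hker
  set EY := starInjRes 𝒜 Y.gr
  obtain ⟨δ, hδ, -, -, -, hex3⟩ := exists_les S2 (shiftRes E 1) E EY a
  apply Hgr_eq_bot_of_smul_injective a E hxa hx1 (q + 1) j
  intro e he y hy hxy
  have hy' : (show (shiftRes E 1).H a (q + 1) from y) ∈ (shiftRes E 1).Hgr a (q + 1) (e + 1) := by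
    rw [shiftH_mem]
    have : e + 1 - 1 = e := by omega
    rw [this]
    exact hy
  have h1 : Hmap (shiftRes E 1) E a _ S2.hi (q + 1) y = 0 := by
    rw [Hmap_smul E a 1 hx1 (q + 1) y]
    exact hxy
  have h2 := (hex3 q y).mp h1
  obtain ⟨z, hz, hzy⟩ := exists_mem_of_isGrHom (EY.Hgr a q) ((shiftRes E 1).Hgr a (q + 1))
    (isInternal_Hgr 𝒜 _ EY a q) (isInternal_Hgr 𝒜 _ (shiftRes E 1) a (q + 1)) (hδ q) hy' h2
  have hz0 := (h (e + 1) (by omega)).eq_zero a EY hz
  rw [hz0, map_zero] at hzy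
  exact hzy.symm

include hreg in
theorem HV_reg_zero (hxa : x ∈ a.toIdeal) (j : ℤ) : HV a X 0 j := by
  rw [HV_zero_iff]
  rintro m - ⟨k, hk⟩
  have h1 : x ^ k • m = 0 := hk _ (Ideal.pow_mem_pow hxa k)
  exact (hreg.pow k) (h1.trans (smul_zero _).symm)

include hx1 hreg hπ hπg hker in
theorem HV_reg_quot {q : ℕ} {e : ℤ} (h1 : HV a X q e) (h2 : HV a X (q + 1) (e - 1)) :
    HV a Y q e := by
  have S2 := ses_smul hx1 hreg π hπ hπg hker
  exact HV_right a S2 h1 ((HV_shift_iff a X 1 (q + 1) e).mpr h2)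

end Reg

section SubQuot

theorem comap_isHomogeneous {A B : GMod.{u} 𝒜} {f : A.carrier →ₗ[R] B.carrier}
    (hf : IsGrHom A.gr B.gr f) {P : Submodule R B.carrier} (hP : P.IsHomogeneous B.gr) :
    (P.comap f).IsHomogeneous A.gr := by
  intro g z hz
  change f (proj A.gr g z) ∈ P
  rw [isGrHom_proj A.gr B.gr hf]
  exact hP g hz

/-- two graded modules mapping isomorphically onto the same submodule are interchangeable -/
theorem HV_of_range_eq {G G' K : GMod.{u} 𝒜} (ι : G.carrier →ₗ[R] K.carrier)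
    (ι' : G'.carrier →ₗ[R] K.carrier) (hinj : Function.Injective ι) (hinj' : Function.Injective ι')
    (hg : IsGrHom G.gr K.gr ι) (hg' : IsGrHom G'.gr K.gr ι')
    (h : LinearMap.range ι = LinearMap.range ι') {q : ℕ} {j : ℤ} (hv : HV a G q j) :
    HV a G' q j := by
  set e : G.carrier ≃ₗ[R] G'.carrier :=
    (LinearEquiv.ofInjective ι hinj) ≪≫ₗ (LinearEquiv.ofEq _ _ h) ≪≫ₗ
      (LinearEquiv.ofInjective ι' hinj').symm with he
  have h1 : ∀ x, ι' (e x) = ι x := by
    intro x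
    have : (LinearEquiv.ofInjective ι' hinj') (e x) =
        (LinearEquiv.ofEq _ _ h) (LinearEquiv.ofInjective ι hinj x) := by
      rw [he]
      simp
    have h2 := congrArg Subtype.val this
    exact h2
  have h2 : ∀ y, ι (e.symm y) = ι' y := by
    intro y
    rw [← h1, LinearEquiv.apply_symm_apply]
  refine HV_of_equiv a e ?_ ?_ hv
  · intro g x hx
    apply mem_of_map_mem G'.gr K.gr hg' hinj'
    change ι' (e x) ∈ K.gr g
    rw [h1]
    exact hg g x hx
  · intro g y hy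
    apply mem_of_map_mem G.gr K.gr hg hinj
    change ι (e.symm y) ∈ K.gr g
    rw [h2]
    exact hg' g y hy

/-- vanishing of a piece of the local cohomology of a (homogeneous) submodule -/
def HVs (K : GMod.{u} 𝒜) (P : Submodule R K.carrier) (q : ℕ) (j : ℤ) : Prop :=
  ∀ (G : GMod.{u} 𝒜) (ι : G.carrier →ₗ[R] K.carrier), Function.Injective ι →
    LinearMap.range ι = P → IsGrHom G.gr K.gr ι → HV a G q j

theorem HVs_of_one {K : GMod.{u} 𝒜} {P : Submodule R K.carrier} {q : ℕ} {j : ℤ}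
    (G : GMod.{u} 𝒜) (ι : G.carrier →ₗ[R] K.carrier) (hinj : Function.Injective ι)
    (hr : LinearMap.range ι = P) (hg : IsGrHom G.gr K.gr ι) (h : HV a G q j) : HVs a K P q j := by
  intro G' ι' hinj' hr' hg'
  exact HV_of_range_eq a ι ι' hinj hinj' hg hg' (hr.trans hr'.symm) h

theorem HVs_top_iff (K : GMod.{u} 𝒜) (q : ℕ) (j : ℤ) : HVs a K ⊤ q j ↔ HV a K q j := by
  constructor
  · intro h
    exact h K LinearMap.id (fun _ _ h => h) LinearMap.range_id (fun _ _ h => h)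
  · intro h
    exact HVs_of_one a K LinearMap.id (fun _ _ h => h) LinearMap.range_id (fun _ _ h => h) h

theorem HVs_bot [IsNoetherianRing R] (K : GMod.{u} 𝒜) (q : ℕ) (j : ℤ) : HVs a K ⊥ q j := by
  intro G ι hinj hr _
  apply HV_of_subsingleton
  refine ⟨fun x y => hinj ?_⟩
  have hx : ι x ∈ (⊥ : Submodule R K.carrier) := hr ▸ LinearMap.mem_range_self ι x
  have hy : ι y ∈ (⊥ : Submodule R K.carrier) := hr ▸ LinearMap.mem_range_self ι y
  rw [Submodule.mem_bot] at hx hy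
  rw [hx, hy]

/-- if `P ≤ Q` are homogeneous and `Q / P` is killed by the ideal, vanishing in positive degree
passes from `P` to `Q` -/
theorem HVs_of_torsion_quot [IsNoetherianRing R] {K : GMod.{u} 𝒜} {P Q : Submodule R K.carrier}
    (hP : P.IsHomogeneous K.gr) (hPQ : P ≤ Q) (htors : ∀ z ∈ Q, ∀ r ∈ a.toIdeal, r • z ∈ P)
    {q : ℕ} {j : ℤ} (h : HVs a K P (q + 1) j) : HVs a K Q (q + 1) j := by
  intro G ι hinj hr hg
  -- the submodule `P` inside `G`
  have hP' : (P.comap ι).IsHomogeneous G.gr := comap_isHomogeneous hg hP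
  obtain ⟨Pm, jP, hjinj, hjr, hjg⟩ := exists_gmod_sub 𝒜 G.gr (P.comap ι) hP'
  obtain ⟨Qm, π, hπ, hπker, hπg⟩ := exists_gmod_quot 𝒜 G.gr (P.comap ι) hP'
  have hPm : HV a Pm (q + 1) j := by
    apply h Pm (ι ∘ₗ jP) (hinj.comp hjinj) ?_ (fun g x hx => hg g _ (hjg g x hx))
    rw [LinearMap.range_comp, hjr, Submodule.map_comap_eq, hr]
    exact inf_eq_right.mpr hPQ
  have S : GrSES Pm.gr G.gr Qm.gr jP π :=
    { hi := hjg
      hp := hπg
      inj := hjinj
      surj := hπ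
      exact := fun m => by
        rw [← LinearMap.mem_ker, hπker, ← hjr]
        rfl }
  refine HV_mid a S hPm ?_
  apply HV_of_torsion
  intro m
  obtain ⟨z, rfl⟩ := hπ m
  refine ⟨1, fun r hr1 => ?_⟩
  rw [pow_one] at hr1
  rw [← map_smul, ← LinearMap.mem_ker, hπker]
  change ι (r • z) ∈ P
  rw [map_smul]
  exact htors (ι z) (hr ▸ LinearMap.mem_range_self ι z) r hr1

theorem map_isHomogeneous {A B : GMod.{u} 𝒜} {f : A.carrier →ₗ[R] B.carrier}
    (hf : IsGrHom A.gr B.gr f) {P : Submodule R A.carrier} (hP : P.IsHomogeneous A.gr) :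
    (P.map f).IsHomogeneous B.gr := by
  rintro g _ ⟨c, hc, rfl⟩
  change proj B.gr g (f c) ∈ P.map f
  rw [← isGrHom_proj A.gr B.gr hf]
  exact ⟨_, hP g hc, rfl⟩

/-- images: `0 → C ⊓ ker f → C → f(C) → 0` -/
theorem exists_ses_map {K K' : GMod.{u} 𝒜} {f : K.carrier →ₗ[R] K'.carrier}
    (hf : IsGrHom K.gr K'.gr f)
    {C : Submodule R K.carrier} (hC : C.IsHomogeneous K.gr)
    (G : GMod.{u} 𝒜) (ι : G.carrier →ₗ[R] K'.carrier) (hinj : Function.Injective ι)
    (hr : LinearMap.range ι = C.map f) (hg : IsGrHom G.gr K'.gr ι) :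
    ∃ (Cm Zm : GMod.{u} 𝒜) (jC : Cm.carrier →ₗ[R] K.carrier) (jZ : Zm.carrier →ₗ[R] K.carrier)
      (i : Zm.carrier →ₗ[R] Cm.carrier) (p : Cm.carrier →ₗ[R] G.carrier),
      Function.Injective jC ∧ LinearMap.range jC = C ∧ IsGrHom Cm.gr K.gr jC ∧
      Function.Injective jZ ∧ LinearMap.range jZ = C ⊓ LinearMap.ker f ∧ IsGrHom Zm.gr K.gr jZ ∧
      GrSES Zm.gr Cm.gr G.gr i p := by
  obtain ⟨Cm, jC, hjinj, hjr, hjg⟩ := exists_gmod_sub 𝒜 K.gr C hC
  have hZ : (C ⊓ LinearMap.ker f).IsHomogeneous K.gr :=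
    isHomogeneous_inf K.gr hC (ker_isHomogeneous K.gr K'.gr hf)
  obtain ⟨Zm, jZ, hZinj, hZr, hZg⟩ := exists_gmod_sub 𝒜 K.gr (C ⊓ LinearMap.ker f) hZ
  -- the map `Cm → G`
  have hmem : ∀ c : Cm.carrier, f (jC c) ∈ LinearMap.range ι := by
    intro c
    rw [hr]
    exact ⟨jC c, hjr ▸ LinearMap.mem_range_self jC c, rfl⟩
  set e := LinearEquiv.ofInjective ι hinj with he
  set p : Cm.carrier →ₗ[R] G.carrier :=
    e.symm.toLinearMap ∘ₗ (f ∘ₗ jC).codRestrict (LinearMap.range ι) hmem with hp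
  have hp1 : ∀ c, ι (p c) = f (jC c) := by
    intro c
    have : e (p c) = (f ∘ₗ jC).codRestrict (LinearMap.range ι) hmem c := by
      rw [hp, LinearMap.comp_apply]
      exact e.apply_symm_apply _
    exact congrArg Subtype.val this
  -- the map `Zm → Cm`
  have hmemZ : ∀ z : Zm.carrier, jZ z ∈ LinearMap.range jC := by
    intro z
    rw [hjr]
    exact ((hZr ▸ LinearMap.mem_range_self jZ z : jZ z ∈ C ⊓ LinearMap.ker f)).1
  set eC := LinearEquiv.ofInjective jC hjinj with heC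
  set i : Zm.carrier →ₗ[R] Cm.carrier :=
    eC.symm.toLinearMap ∘ₗ jZ.codRestrict (LinearMap.range jC) hmemZ with hi
  have hi1 : ∀ z, jC (i z) = jZ z := by
    intro z
    have : eC (i z) = jZ.codRestrict (LinearMap.range jC) hmemZ z := by
      rw [hi, LinearMap.comp_apply]
      exact eC.apply_symm_apply _
    exact congrArg Subtype.val this
  refine ⟨Cm, Zm, jC, jZ, i, p, hjinj, hjr, hjg, hZinj, hZr, hZg, ?_⟩
  exact
    { hi := by
        intro g z hz
        apply mem_of_map_mem Cm.gr K.gr hjg hjinj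
        rw [hi1]
        exact hZg g z hz
      hp := by
        intro g c hc
        apply mem_of_map_mem G.gr K'.gr hg hinj
        rw [hp1]
        exact hf g _ (hjg g c hc)
      inj := by
        intro z z' hzz
        apply hZinj
        rw [← hi1, ← hi1, hzz]
      surj := by
        intro y
        have hy : ι y ∈ C.map f := hr ▸ LinearMap.mem_range_self ι y
        obtain ⟨c, hc, hcy⟩ := hy
        rw [← hjr] at hc
        obtain ⟨c', rfl⟩ := hc
        refine ⟨c', hinj ?_⟩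
        rw [hp1, hcy]
      exact := by
        intro c
        constructor
        · intro hc
          have h3 : f (jC c) = 0 := by rw [← hp1, hc, map_zero]
          have h4 : jC c ∈ C ⊓ LinearMap.ker f :=
            ⟨hjr ▸ LinearMap.mem_range_self jC c, h3⟩
          rw [← hZr] at h4
          obtain ⟨z, hz⟩ := h4
          refine ⟨z, hjinj ?_⟩
          rw [hi1, hz]
        · rintro ⟨z, rfl⟩
          apply hinj
          rw [hp1, hi1, map_zero]
          exact ((hZr ▸ LinearMap.mem_range_self jZ z : jZ z ∈ C ⊓ LinearMap.ker f)).2 }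

theorem HVs_map_right {K K' : GMod.{u} 𝒜} {f : K.carrier →ₗ[R] K'.carrier}
    (hf : IsGrHom K.gr K'.gr f)
    {C : Submodule R K.carrier} (hC : C.IsHomogeneous K.gr) {q : ℕ} {j : ℤ}
    (h1 : HVs a K C q j) (h2 : HVs a K (C ⊓ LinearMap.ker f) (q + 1) j) :
    HVs a K' (C.map f) q j := by
  intro G ι hinj hr hg
  obtain ⟨Cm, Zm, jC, jZ, i, p, hjinj, hjr, hjg, hZinj, hZr, hZg, S⟩ :=
    exists_ses_map hf hC G ι hinj hr hg
  exact HV_right a S (h1 Cm jC hjinj hjr hjg) (h2 Zm jZ hZinj hZr hZg)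

theorem HVs_map_mid {K K' : GMod.{u} 𝒜} {f : K.carrier →ₗ[R] K'.carrier}
    (hf : IsGrHom K.gr K'.gr f)
    {C : Submodule R K.carrier} (hC : C.IsHomogeneous K.gr) {q : ℕ} {j : ℤ}
    (h1 : HVs a K (C ⊓ LinearMap.ker f) q j) (h2 : HVs a K' (C.map f) q j) :
    HVs a K C q j := by
  obtain ⟨G, ι, hinj, hr, hg⟩ := exists_gmod_sub 𝒜 K'.gr (C.map f) (map_isHomogeneous hf hC)
  obtain ⟨Cm, Zm, jC, jZ, i, p, hjinj, hjr, hjg, hZinj, hZr, hZg, S⟩ :=
    exists_ses_map hf hC G ι hinj hr hg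
  exact HVs_of_one a Cm jC hjinj hjr hjg
    (HV_mid a S (h1 Zm jZ hZinj hZr hZg) (h2 G ι hinj hr hg))

theorem HVs_map_left {K K' : GMod.{u} 𝒜} {f : K.carrier →ₗ[R] K'.carrier}
    (hf : IsGrHom K.gr K'.gr f)
    {C : Submodule R K.carrier} (hC : C.IsHomogeneous K.gr) {q : ℕ} {j : ℤ}
    (h1 : HVs a K C (q + 1) j) (h2 : HVs a K' (C.map f) q j) :
    HVs a K (C ⊓ LinearMap.ker f) (q + 1) j := by
  obtain ⟨G, ι, hinj, hr, hg⟩ := exists_gmod_sub 𝒜 K'.gr (C.map f) (map_isHomogeneous hf hC)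
  obtain ⟨Cm, Zm, jC, jZ, i, p, hjinj, hjr, hjg, hZinj, hZr, hZg, S⟩ :=
    exists_ses_map hf hC G ι hinj hr hg
  exact HVs_of_one a Zm jZ hZinj hZr hZg
    (HV_left a S (h1 Cm jC hjinj hjr hjg) (h2 G ι hinj hr hg))

theorem HVs_map_left_zero {K K' : GMod.{u} 𝒜} {f : K.carrier →ₗ[R] K'.carrier}
    (hf : IsGrHom K.gr K'.gr f)
    {C : Submodule R K.carrier} (hC : C.IsHomogeneous K.gr) {j : ℤ}
    (h1 : HVs a K C 0 j) : HVs a K (C ⊓ LinearMap.ker f) 0 j := by
  obtain ⟨G, ι, hinj, hr, hg⟩ := exists_gmod_sub 𝒜 K'.gr (C.map f) (map_isHomogeneous hf hC)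
  obtain ⟨Cm, Zm, jC, jZ, i, p, hjinj, hjr, hjg, hZinj, hZr, hZg, S⟩ :=
    exists_ses_map hf hC G ι hinj hr hg
  exact HVs_of_one a Zm jZ hZinj hZr hZg (HV_left_zero a S (h1 Cm jC hjinj hjr hjg))

end SubQuot

end Groth.Agent.H2.GrEG
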