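import Mathlib
import Groth.Agent.Lib.Helper2.GrEG2

/-! Finite powers of a graded module with shifted factors, and the local cohomology of the
submodules of functions with given support. -/

universe u
open DirectSum GrLC Groth.Agent.H6 Groth.Agent.H6.Gr
set_option linter.unusedSectionVars false

namespace Groth.Agent.H2.GrEG

variable {R : Type u} [CommRing R] {𝒜 : ℤ → AddSubgroup R} [GradedRing 𝒜]

section Pow

variable {κ : Type} [Fintype κ] [DecidableEq κ] (d : κ → ℤ) (X : GMod.{u} 𝒜)

/-- the pieces of `⨁_s X(-d s)` -/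
def powGr (k : ℤ) : AddSubgroup (κ → X.carrier) where
  carrier := {v | ∀ s, v s ∈ X.gr (k - d s)}
  zero_mem' := fun _ => zero_mem _
  add_mem' := fun hv hw s => add_mem (hv s) (hw s)
  neg_mem' := fun hv s => neg_mem (hv s)

theorem mem_powGr {k : ℤ} {v : κ → X.carrier} : v ∈ powGr d X k ↔ ∀ s, v s ∈ X.gr (k - d s) :=
  Iff.rfl

/-- the projections -/
noncomputable def powProj (k : ℤ) : (κ → X.carrier) →+ (κ → X.carrier) where
  toFun v s := proj X.gr (k - d s) (v s)
  map_zero' := by
    funext s
    exact map_zero _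
  map_add' v w := by
    funext s
    exact map_add _ _ _

theorem powProj_apply (k : ℤ) (v : κ → X.carrier) (s : κ) :
    powProj d X k v s = proj X.gr (k - d s) (v s) := rfl

theorem single_mem_powGr (s : κ) {g : ℤ} {m : X.carrier} (hm : m ∈ X.gr g) :
    Pi.single s m ∈ powGr d X (g + d s) := by
  intro s'
  by_cases hs : s' = s
  · subst hs
    rw [Pi.single_eq_same, add_sub_cancel_right]
    exact hm
  · rw [Pi.single_eq_of_ne hs]
    exact zero_mem _

theorem pow_hsame (k : ℤ) (v : κ → X.carrier) (hv : v ∈ powGr d X k) : powProj d X k v = v := by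
  funext s
  rw [powProj_apply]
  exact proj_of_mem X.gr (hv s)

theorem pow_hne (k h : ℤ) (v : κ → X.carrier) (hv : v ∈ powGr d X k) (hne : k ≠ h) :
    powProj d X h v = 0 := by
  funext s
  rw [powProj_apply]
  exact proj_of_mem_ne X.gr (hv s) fun heq => hne (sub_left_injective heq)

theorem pow_isInternal : DirectSum.IsInternal (powGr d X) := by
  refine isInternal_of_proj (powGr d X) (powProj d X) (pow_hsame d X) (pow_hne d X) ?_
  intro v
  rw [← Finset.univ_sum_single v]
  refine sum_mem fun s _ => ?_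
  obtain ⟨t, ht⟩ := exists_finset_sum_proj X.gr (v s)
  rw [← ht]
  have : (Pi.single s (∑ g ∈ t, proj X.gr g (v s)) : κ → X.carrier) =
      ∑ g ∈ t, Pi.single s (proj X.gr g (v s)) := by
    exact map_sum (AddMonoidHom.single (fun _ : κ => X.carrier) s) _ _
  rw [this]
  refine sum_mem fun g _ => ?_
  exact AddSubgroup.mem_iSup_of_mem (g + d s) (single_mem_powGr d X s (proj_mem X.gr g _))

/-- the decomposition of a power -/
@[instance_reducible]
noncomputable def powDecomposition : DirectSum.Decomposition (powGr d X) :=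
  (pow_isInternal d X).chooseDecomposition

theorem pow_gradedSMul : SetLike.GradedSMul 𝒜 (powGr d X) where
  smul_mem := by
    intro h k r v hr hv s
    change r • v s ∈ X.gr (h + k - d s)
    rw [add_sub_assoc]
    exact SetLike.GradedSMul.smul_mem (A := 𝒜) (B := X.gr) hr (hv s)

/-- the power `⨁_s X(-d s)`, bundled -/
noncomputable def powG : GMod.{u} 𝒜 :=
  @GrLC.GMod.mk ℤ _ _ R _ _ _ _ 𝒜 _ (κ → X.carrier) _ _ (powGr d X) (powDecomposition d X)
    (pow_gradedSMul d X)

theorem proj_powG (k : ℤ) (v : κ → X.carrier) :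
    proj (powG d X).gr k (show (powG d X).carrier from v) = powProj d X k v := by
  letI := powDecomposition d X
  exact proj_eq_of_proj (powGr d X) (powProj d X) (pow_hsame d X) (pow_hne d X) k v

/-- functions vanishing outside a finite set of indices -/
def supp (𝒮 : Finset κ) : Submodule R (powG d X).carrier where
  carrier := {v | ∀ s, s ∉ 𝒮 → (show κ → X.carrier from v) s = 0}
  zero_mem' := fun _ _ => rfl
  add_mem' := by
    intro v w hv hw s hs
    change (show κ → X.carrier from v) s + (show κ → X.carrier from w) s = 0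
    rw [hv s hs, hw s hs, add_zero]
  smul_mem' := by
    intro r v hv s hs
    change r • (show κ → X.carrier from v) s = 0
    rw [hv s hs, smul_zero]

theorem mem_supp {𝒮 : Finset κ} {v : (powG d X).carrier} :
    v ∈ supp d X 𝒮 ↔ ∀ s, s ∉ 𝒮 → (show κ → X.carrier from v) s = 0 := Iff.rfl

theorem supp_isHomogeneous (𝒮 : Finset κ) : (supp d X 𝒮).IsHomogeneous (powG d X).gr := by
  intro g v hv
  change proj (powG d X).gr g v ∈ supp d X 𝒮
  rw [proj_powG]
  intro s hs
  change proj X.gr (g - d s) ((show κ → X.carrier from v) s) = 0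
  rw [hv s hs, map_zero]

theorem supp_empty : supp d X (∅ : Finset κ) = ⊥ := by
  rw [eq_bot_iff]
  intro v hv
  rw [Submodule.mem_bot]
  funext s
  exact hv s (Finset.notMem_empty s)

theorem supp_univ : supp d X (Finset.univ : Finset κ) = ⊤ := by
  rw [eq_top_iff]
  intro v _ s hs
  exact absurd (Finset.mem_univ s) hs

/-- evaluation at an index, as a homogeneous map to the shifted module -/
def evL (s : κ) : (powG d X).carrier →ₗ[R] (Msh (𝒜 := 𝒜) X.gr (d s)).carrier :=
  (LinearMap.proj s : (κ → X.carrier) →ₗ[R] X.carrier)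

theorem evL_apply (s : κ) (v : (powG d X).carrier) :
    evL d X s v = (show κ → X.carrier from v) s := rfl

theorem evL_isGrHom (s : κ) : IsGrHom (powG d X).gr (Msh (𝒜 := 𝒜) X.gr (d s)).gr (evL d X s) := by
  intro k v hv
  exact hv s

theorem supp_insert_inf_ker (𝒮 : Finset κ) (s : κ) :
    supp d X (insert s 𝒮) ⊓ LinearMap.ker (evL d X s) = supp d X 𝒮 ⊓ LinearMap.ker (evL d X s) := by
  ext v
  constructor
  · rintro ⟨hv, hvs⟩
    refine ⟨fun t ht => ?_, hvs⟩
    by_cases hts : t = s
    · subst hts
      exact hvs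
    · exact hv t (by rw [Finset.mem_insert]; tauto)
  · rintro ⟨hv, hvs⟩
    refine ⟨fun t ht => hv t (fun h => ht (Finset.mem_insert_of_mem h)), hvs⟩

theorem supp_inf_ker_of_notMem (𝒮 : Finset κ) (s : κ) (hs : s ∉ 𝒮) :
    supp d X 𝒮 ⊓ LinearMap.ker (evL d X s) = supp d X 𝒮 := by
  apply inf_eq_left.mpr
  intro v hv
  exact hv s hs

theorem supp_insert_map (𝒮 : Finset κ) (s : κ) :
    (supp d X (insert s 𝒮)).map (evL d X s) = ⊤ := by
  rw [eq_top_iff]
  intro m _
  refine ⟨(show (powG d X).carrier from Pi.single s (show X.carrier from m)), ?_, ?_⟩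
  · intro t ht
    have hts : t ≠ s := fun h => ht (h ▸ Finset.mem_insert_self s 𝒮)
    exact Pi.single_eq_of_ne hts _
  · exact Pi.single_eq_same s _

variable (a : HomogeneousIdeal 𝒜)

/-- local cohomology of the functions supported in `𝒮` vanishes in a degree as soon as it
does for every shifted factor -/
theorem HVs_supp [IsNoetherianRing R] (𝒮 : Finset κ) (q : ℕ) (j : ℤ)
    (h : ∀ s ∈ 𝒮, HV a X q (j - d s)) : HVs a (powG d X) (supp d X 𝒮) q j := by
  induction 𝒮 using Finset.induction_on with
  | empty =>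
    rw [supp_empty]
    exact HVs_bot a _ q j
  | insert s 𝒮 hs ih =>
    apply HVs_map_mid a (evL_isGrHom d X s) (supp_isHomogeneous d X (insert s 𝒮))
    · rw [supp_insert_inf_ker, supp_inf_ker_of_notMem d X 𝒮 s hs]
      exact ih fun t ht => h t (Finset.mem_insert_of_mem ht)
    · rw [supp_insert_map, HVs_top_iff, HV_shift_iff]
      exact h s (Finset.mem_insert_self s 𝒮)

/-- conversely for a single index -/
theorem HV_of_HVs_supp_singleton [IsNoetherianRing R] (s : κ) (q : ℕ) (j : ℤ)
    (h : HVs a (powG d X) (supp d X {s}) q j) : HV a X q (j - d s) := by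
  have h1 : supp d X ({s} : Finset κ) ⊓ LinearMap.ker (evL d X s) = ⊥ := by
    have := supp_insert_inf_ker d X ∅ s
    rw [supp_empty, bot_inf_eq] at this
    exact this
  have h2 := HVs_map_right a (evL_isGrHom d X s) (supp_isHomogeneous d X {s}) h
    (h1 ▸ HVs_bot a _ (q + 1) j)
  have h3 : (supp d X ({s} : Finset κ)).map (evL d X s) = ⊤ := supp_insert_map d X ∅ s
  rw [h3, HVs_top_iff, HV_shift_iff] at h2
  exact h2

end Pow

end Groth.Agent.H2.GrEG
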