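import Mathlib

/-! The Koszul complex of a finite family of ring elements on a module, in coordinates:
functions on the subsets of `Fin n`. -/

universe u v

namespace Groth.Agent.H2.GrEG.Kos

variable {R : Type u} [CommRing R] {n : ℕ}

/-- the sign `(-1)^{#{t' ∈ t | t' < i}}` as a ring element -/
def eps (R : Type u) [CommRing R] (i : Fin n) (t : Finset (Fin n)) : R :=
  (-1) ^ (t.filter (· < i)).card

theorem eps_mul_self (i : Fin n) (t : Finset (Fin n)) : eps R i t * eps R i t = 1 := by
  unfold eps
  rw [← pow_add, ← two_mul, pow_mul]
  simp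

theorem eps_insert {i j : Fin n} {t : Finset (Fin n)} (hi : i ∉ t) :
    eps R j (insert i t) = if i < j then - eps R j t else eps R j t := by
  unfold eps
  rw [Finset.filter_insert]
  split_ifs with h
  · rw [Finset.card_insert_of_notMem (fun h' => hi (Finset.mem_filter.mp h').1), pow_succ]
    ring
  · rfl

theorem eps_swap {i j : Fin n} {t : Finset (Fin n)} (hi : i ∉ t) (hj : j ∉ t) (hij : i ≠ j) :
    eps R i t * eps R j (insert i t) = - (eps R j t * eps R i (insert j t)) := by
  rw [eps_insert hi, eps_insert hj]
  rcases lt_or_gt_of_ne hij with h | h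
  · rw [if_pos h, if_neg (not_lt.mpr h.le)]
    ring
  · rw [if_neg (not_lt.mpr h.le), if_pos h]
    ring

theorem eps_swap' {i j : Fin n} {u : Finset (Fin n)} (hi : i ∉ u) (hj : j ∉ u) (hij : i ≠ j) :
    eps R j (insert i u) * eps R i (insert j u) = - (eps R i u * eps R j u) := by
  rw [eps_insert hi, eps_insert hj]
  rcases lt_or_gt_of_ne hij with h | h
  · rw [if_pos h, if_neg (not_lt.mpr h.le)]
    ring
  · rw [if_neg (not_lt.mpr h.le), if_pos h]
    ring

variable (x : Fin n → R) {M : Type v} [AddCommGroup M] [Module R M]

/-- the Koszul differential -/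
def dK : (Finset (Fin n) → M) →ₗ[R] (Finset (Fin n) → M) where
  toFun v t := ∑ i, if i ∈ t then 0 else (eps R i t * x i) • v (insert i t)
  map_add' v w := by
    funext t
    rw [Pi.add_apply, ← Finset.sum_add_distrib]
    apply Finset.sum_congr rfl
    intro i _
    split_ifs
    · rw [add_zero]
    · rw [Pi.add_apply, smul_add]
  map_smul' r v := by
    funext t
    rw [Pi.smul_apply, RingHom.id_apply, Finset.smul_sum]
    apply Finset.sum_congr rfl
    intro i _
    split_ifs
    · rw [smul_zero]
    · rw [Pi.smul_apply, smul_comm]

theorem dK_apply (v : Finset (Fin n) → M) (t : Finset (Fin n)) :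
    dK x v t = ∑ i, if i ∈ t then 0 else (eps R i t * x i) • v (insert i t) := rfl

/-- the contracting homotopy for the `i`-th element -/
def hK (i : Fin n) : (Finset (Fin n) → M) →ₗ[R] (Finset (Fin n) → M) where
  toFun v s := if i ∈ s then eps R i (s.erase i) • v (s.erase i) else 0
  map_add' v w := by
    funext s
    by_cases h : i ∈ s
    · simp only [Pi.add_apply, if_pos h, smul_add]
    · simp only [Pi.add_apply, if_neg h, add_zero]
  map_smul' r v := by
    funext s
    by_cases h : i ∈ s
    · simp only [Pi.smul_apply, if_pos h, RingHom.id_apply]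
      rw [smul_comm]
    · simp only [Pi.smul_apply, if_neg h, RingHom.id_apply, smul_zero]

theorem hK_apply (i : Fin n) (v : Finset (Fin n) → M) (s : Finset (Fin n)) :
    hK (R := R) i v s = if i ∈ s then eps R i (s.erase i) • v (s.erase i) else 0 := rfl

/-- the double sum computing `d ∘ d` -/
def ddTerm (v : Finset (Fin n) → M) (t : Finset (Fin n)) (p : Fin n × Fin n) : M :=
  if p.1 ∈ t then 0 else if p.2 ∈ insert p.1 t then 0 else
    (eps R p.1 t * x p.1) • ((eps R p.2 (insert p.1 t) * x p.2) • v (insert p.2 (insert p.1 t)))

theorem dK_dK_apply (v : Finset (Fin n) → M) (t : Finset (Fin n)) :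
    dK x (dK x v) t = ∑ p ∈ (Finset.univ : Finset (Fin n × Fin n)), ddTerm x v t p := by
  rw [dK_apply, ← Finset.univ_product_univ, Finset.sum_product]
  apply Finset.sum_congr rfl
  intro i _
  by_cases hi : i ∈ t
  · rw [if_pos hi]
    symm
    apply Finset.sum_eq_zero
    intro j _
    unfold ddTerm
    rw [if_pos hi]
  · rw [if_neg hi, dK_apply, Finset.smul_sum]
    apply Finset.sum_congr rfl
    intro j _
    unfold ddTerm
    rw [if_neg hi]
    split_ifs
    · rw [smul_zero]
    · rfl

theorem ddTerm_swap (v : Finset (Fin n) → M) (t : Finset (Fin n)) (i j : Fin n) :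
    ddTerm x v t (i, j) + ddTerm x v t (j, i) = 0 := by
  unfold ddTerm
  by_cases hi : i ∈ t
  · have hi' : i ∈ insert j t := Finset.mem_insert_of_mem hi
    simp only [if_pos hi, if_pos hi', zero_add]
    split_ifs <;> rfl
  by_cases hj : j ∈ t
  · have hj' : j ∈ insert i t := Finset.mem_insert_of_mem hj
    simp only [if_pos hj, if_pos hj', add_zero]
    split_ifs <;> rfl
  by_cases hij : i = j
  · subst hij
    have : i ∈ insert i t := Finset.mem_insert_self i t
    simp only [if_neg hi, if_pos this, add_zero]
  · have h1 : j ∉ insert i t := by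
      rw [Finset.mem_insert]
      rintro (h | h)
      · exact hij h.symm
      · exact hj h
    have h2 : i ∉ insert j t := by
      rw [Finset.mem_insert]
      rintro (h | h)
      · exact hij h
      · exact hi h
    simp only [if_neg hi, if_neg hj, if_neg h1, if_neg h2]
    rw [Finset.insert_comm j i t, smul_smul, smul_smul, ← add_smul]
    have : eps R i t * x i * (eps R j (insert i t) * x j) +
        eps R j t * x j * (eps R i (insert j t) * x i) = 0 := by
      have h3 := eps_swap (R := R) hi hj hij
      calc eps R i t * x i * (eps R j (insert i t) * x j) +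
          eps R j t * x j * (eps R i (insert j t) * x i)
          = (eps R i t * eps R j (insert i t) + eps R j t * eps R i (insert j t)) * (x i * x j) := by
            ring
        _ = 0 := by rw [h3]; ring
    rw [this, zero_smul]

/-- `d ∘ d = 0` -/
theorem dK_dK (v : Finset (Fin n) → M) : dK x (dK x v) = 0 := by
  funext t
  rw [dK_dK_apply, Pi.zero_apply]
  apply Finset.sum_involution (fun p _ => (p.2, p.1))
  · intro p _
    exact ddTerm_swap x v t p.1 p.2
  · intro p _ hp hpp
    apply hp
    have h12 : p.2 = p.1 := congrArg Prod.fst hpp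
    unfold ddTerm
    by_cases h1 : p.1 ∈ t
    · rw [if_pos h1]
    · rw [if_neg h1, if_pos (h12 ▸ Finset.mem_insert_self p.1 t)]
  · intro p _
    exact Finset.mem_univ _
  · intro p _
    rfl

/-- the homotopy identity `d h_i + h_i d = x_i` -/
theorem dK_hK_add (i : Fin n) (v : Finset (Fin n) → M) :
    dK x (hK (R := R) i v) + hK (R := R) i (dK x v) = x i • v := by
  funext t
  rw [Pi.add_apply, Pi.smul_apply, dK_apply, hK_apply]
  by_cases hi : i ∈ t
  · rw [if_pos hi, dK_apply, Finset.smul_sum]
    -- isolate the term `j = i` in the second sum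
    rw [← Finset.sum_add_distrib]
    rw [Finset.sum_eq_single i]
    · have h1 : i ∉ t.erase i := Finset.notMem_erase i t
      rw [if_pos hi, if_neg h1, zero_add, Finset.insert_erase hi, smul_smul, ← mul_assoc,
        eps_mul_self, one_mul]
    · intro j _ hji
      by_cases hj : j ∈ t
      · have hj' : j ∈ t.erase i := Finset.mem_erase.mpr ⟨hji, hj⟩
        rw [if_pos hj, if_pos hj', smul_zero, add_zero]
      · have hj' : j ∉ t.erase i := fun h => hj (Finset.mem_of_mem_erase h)
        rw [if_neg hj, if_neg hj', hK_apply, if_pos (Finset.mem_insert_of_mem hi),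
          Finset.erase_insert_of_ne hji, smul_smul, smul_smul, ← add_smul]
        have hiu : i ∉ t.erase i := Finset.notMem_erase i t
        have h3 := eps_swap' (R := R) hiu hj' (Ne.symm hji)
        rw [Finset.insert_erase hi] at h3
        have : eps R j t * x j * eps R i (insert j (t.erase i)) +
            eps R i (t.erase i) * (eps R j (t.erase i) * x j) = 0 := by
          calc eps R j t * x j * eps R i (insert j (t.erase i)) +
              eps R i (t.erase i) * (eps R j (t.erase i) * x j)
              = (eps R j t * eps R i (insert j (t.erase i)) +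
                  eps R i (t.erase i) * eps R j (t.erase i)) * x j := by ring
            _ = 0 := by rw [h3]; ring
        rw [this, zero_smul]
    · intro h
      exact absurd (Finset.mem_univ i) h
  · rw [if_neg hi, add_zero, Finset.sum_eq_single i]
    · rw [if_neg hi, hK_apply, if_pos (Finset.mem_insert_self i t), Finset.erase_insert hi,
        smul_smul, mul_right_comm, eps_mul_self, one_mul]
    · intro j _ hji
      by_cases hj : j ∈ t
      · rw [if_pos hj]
      · rw [if_neg hj, hK_apply]
        have : i ∉ insert j t := by
          rw [Finset.mem_insert]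
          rintro (h | h)
          · exact hji h.symm
          · exact hi h
        rw [if_neg this, smul_zero]
    · intro h
      exact absurd (Finset.mem_univ i) h

end Groth.Agent.H2.GrEG.Kos
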