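import Mathlib
import Groth.Agent.Lib.Helper2.GrEG3
import Groth.Agent.Lib.Helper2.GrEG4

/-! The Koszul complex of degree-one elements on a graded module and the ladder of long exact
sequences: from vanishing of local cohomology to generation in low degrees, and from weak
regularity to regularity. -/

universe u
open DirectSum GrLC Groth.Agent.H6 Groth.Agent.H6.Gr
set_option linter.unusedSectionVars false

namespace Groth.Agent.H2.GrEG

variable {R : Type u} [CommRing R] {𝒜 : ℤ → AddSubgroup R} [GradedRing 𝒜]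
variable {n : ℕ} (x : Fin n → R) (X : GMod.{u} 𝒜)

/-- degrees of the basis vectors of the Koszul complex -/
def cardD (n : ℕ) : Finset (Fin n) → ℤ := fun s => (s.card : ℤ)

/-- the total Koszul module `⨁_s X(-|s|)` -/
noncomputable abbrev KG (n : ℕ) (X : GMod.{u} 𝒜) : GMod.{u} 𝒜 := powG (cardD n) X

/-- the Koszul differential on the total Koszul module -/
def dG : (KG n X).carrier →ₗ[R] (KG n X).carrier :=
  (Kos.dK x : (Finset (Fin n) → X.carrier) →ₗ[R] (Finset (Fin n) → X.carrier))

/-- the homotopy -/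
def hG (i : Fin n) : (KG n X).carrier →ₗ[R] (KG n X).carrier :=
  (Kos.hK (R := R) i : (Finset (Fin n) → X.carrier) →ₗ[R] (Finset (Fin n) → X.carrier))

theorem dG_dG (v : (KG n X).carrier) : dG x X (dG x X v) = 0 := Kos.dK_dK x _

theorem dG_hG_add (i : Fin n) (v : (KG n X).carrier) :
    dG x X (hG X i v) + hG X i (dG x X v) = x i • v := Kos.dK_hK_add x i _

theorem eps_mem (i : Fin n) (t : Finset (Fin n)) : Kos.eps R i t ∈ 𝒜 0 := by
  unfold Kos.eps
  have h1 : (-1 : R) ∈ SetLike.GradeZero.subring 𝒜 := neg_mem (one_mem _)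
  exact pow_mem h1 _

variable {x} in
theorem dG_isGrHom (hx1 : ∀ i, x i ∈ 𝒜 1) : IsGrHom (KG n X).gr (KG n X).gr (dG x X) := by
  intro k v hv t
  change (∑ i, if i ∈ t then 0 else (Kos.eps R i t * x i) •
    (show Finset (Fin n) → X.carrier from v) (insert i t)) ∈ X.gr (k - cardD n t)
  refine sum_mem fun i _ => ?_
  split_ifs with h
  · exact zero_mem _
  · have h1 : Kos.eps R i t * x i ∈ 𝒜 (0 + 1) :=
      SetLike.GradedMul.mul_mem (eps_mem i t) (hx1 i)
    have h2 := SetLike.GradedSMul.smul_mem (A := 𝒜) (B := X.gr) h1 (hv (insert i t))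
    have h3 : (0 + 1 : ℤ) +ᵥ (k - cardD n (insert i t)) = k - cardD n t := by
      unfold cardD
      rw [Finset.card_insert_of_notMem h, vadd_eq_add]
      push_cast
      ring
    rw [h3] at h2
    exact h2

/-- the functions supported on subsets of cardinality `p` -/
def Cp (p : ℕ) : Submodule R (KG n X).carrier :=
  supp (cardD n) X (Finset.univ.filter fun s : Finset (Fin n) => s.card = p)

theorem mem_Cp {p : ℕ} {v : (KG n X).carrier} :
    v ∈ Cp X p ↔ ∀ s : Finset (Fin n), s.card ≠ p →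
      (show Finset (Fin n) → X.carrier from v) s = 0 := by
  unfold Cp
  rw [mem_supp]
  apply forall_congr'
  intro s
  rw [Finset.mem_filter]
  simp

theorem Cp_isHomogeneous (p : ℕ) : (Cp (n := n) X p).IsHomogeneous (KG n X).gr :=
  supp_isHomogeneous _ _ _

theorem Cp_eq_bot {p : ℕ} (hp : n < p) : Cp (n := n) X p = ⊥ := by
  rw [eq_bot_iff]
  intro v hv
  rw [Submodule.mem_bot]
  funext s
  rw [mem_Cp] at hv
  apply hv s
  have := Finset.card_le_univ s
  rw [Fintype.card_fin] at this
  omega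

theorem dG_mem_Cp {p : ℕ} {v : (KG n X).carrier} (hv : v ∈ Cp X (p + 1)) : dG x X v ∈ Cp X p := by
  rw [mem_Cp] at hv ⊢
  intro t ht
  change (∑ i, if i ∈ t then 0 else (Kos.eps R i t * x i) •
    (show Finset (Fin n) → X.carrier from v) (insert i t)) = 0
  apply Finset.sum_eq_zero
  intro i _
  split_ifs with h
  · rfl
  · rw [hv (insert i t) (by rw [Finset.card_insert_of_notMem h]; omega), smul_zero]

theorem dG_eq_zero_of_mem_Cp_zero {v : (KG n X).carrier} (hv : v ∈ Cp X 0) : dG x X v = 0 := by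
  rw [mem_Cp] at hv
  funext t
  change (∑ i, if i ∈ t then 0 else (Kos.eps R i t * x i) •
    (show Finset (Fin n) → X.carrier from v) (insert i t)) = 0
  apply Finset.sum_eq_zero
  intro i _
  split_ifs with h
  · rfl
  · rw [hv (insert i t) (by rw [Finset.card_insert_of_notMem h]; omega), smul_zero]

theorem hG_mem_Cp {p : ℕ} (i : Fin n) {v : (KG n X).carrier} (hv : v ∈ Cp X p) :
    hG X i v ∈ Cp X (p + 1) := by
  rw [mem_Cp] at hv ⊢
  intro s hs
  change (if i ∈ s then Kos.eps R i (s.erase i) •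
    (show Finset (Fin n) → X.carrier from v) (s.erase i) else 0) = 0
  split_ifs with h
  · rw [hv (s.erase i) (by rw [Finset.card_erase_of_mem h]; have := Finset.card_pos.mpr ⟨i, h⟩; omega),
      smul_zero]
  · rfl

/-- cycles -/
noncomputable def Zp (p : ℕ) : Submodule R (KG n X).carrier := Cp X p ⊓ LinearMap.ker (dG x X)

/-- boundaries -/
noncomputable def Bp (p : ℕ) : Submodule R (KG n X).carrier := (Cp X (p + 1)).map (dG x X)

theorem Bp_le_Zp (p : ℕ) : Bp x X p ≤ Zp x X p := by
  rintro _ ⟨v, hv, rfl⟩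
  exact ⟨dG_mem_Cp x X hv, dG_dG x X v⟩

theorem Zp_zero : Zp x X 0 = Cp X 0 := by
  apply inf_eq_left.mpr
  intro v hv
  exact dG_eq_zero_of_mem_Cp_zero x X hv

variable (a : HomogeneousIdeal 𝒜)

/-- the homology of the Koszul complex is killed by the ideal generated by the elements -/
theorem smul_mem_Bp (ha : a.toIdeal ≤ Ideal.span (Set.range x)) (p : ℕ) (z : (KG n X).carrier)
    (hz : z ∈ Zp x X p) (r : R) (hr : r ∈ a.toIdeal) : r • z ∈ Bp x X p := by
  have h1 : ∀ i, x i • z ∈ Bp x X p := by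
    intro i
    have h2 := dG_hG_add x X i z
    rw [(show dG x X z = 0 from hz.2), map_zero, add_zero] at h2
    rw [← h2]
    exact ⟨hG X i z, hG_mem_Cp X i hz.1, rfl⟩
  have hr' := ha hr
  refine Submodule.span_induction ?_ ?_ ?_ ?_ hr'
  · rintro _ ⟨i, rfl⟩
    exact h1 i
  · rw [zero_smul]
    exact zero_mem _
  · intro r s _ _ hr hs
    rw [add_smul]
    exact add_mem hr hs
  · intro c r _ hr
    rw [smul_eq_mul, mul_smul]
    exact Submodule.smul_mem _ c hr

variable [IsNoetherianRing R]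

variable {x} in
/-- **the ladder** -/
theorem ladder (hx1 : ∀ i, x i ∈ 𝒜 1) (ha : a.toIdeal ≤ Ideal.span (Set.range x)) (i : ℕ) (e : ℤ)
    (h : ∀ p : ℕ, HV a X (i + 1 + p) (e - (p + 1))) :
    ∀ m p : ℕ, n + 1 ≤ p + m → HVs a (KG n X) (Zp x X p) (i + 1 + p) e := by
  have hC : ∀ p : ℕ, HVs a (KG n X) (Cp X (p + 1)) (i + 1 + p) e := by
    intro p
    apply HVs_supp
    intro s hs
    rw [Finset.mem_filter] at hs
    have : e - cardD n s = e - ((p : ℤ) + 1) := by
      unfold cardD
      rw [hs.2]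
      push_cast
      ring
    rw [this]
    exact h p
  intro m
  induction m with
  | zero =>
    intro p hp
    unfold Zp
    rw [Cp_eq_bot X (by omega), bot_inf_eq]
    exact HVs_bot a _ _ _
  | succ m ih =>
    intro p hp
    have h1 : HVs a (KG n X) (Zp x X (p + 1)) (i + 1 + p + 1) e := by
      have := ih (p + 1) (by omega)
      rwa [← add_assoc] at this
    have h2 : HVs a (KG n X) (Bp x X p) (i + 1 + p) e :=
      HVs_map_right a (dG_isGrHom X hx1) (Cp_isHomogeneous X (p + 1)) (hC p) h1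
    have h3 : (Bp x X p).IsHomogeneous (KG n X).gr :=
      map_isHomogeneous (dG_isGrHom X hx1) (Cp_isHomogeneous X (p + 1))
    have h4 : i + 1 + p = (i + p) + 1 := by omega
    rw [h4] at h2 ⊢
    exact HVs_of_torsion_quot a h3 (Bp_le_Zp x X p) (smul_mem_Bp x X a ha p) h2

end Groth.Agent.H2.GrEG
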