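import Mathlib
import Groth.Agent.Lib.Helper2.GrEG5

/-! Consequences of the ladder: weak regularity propagates, and vanishing of local cohomology
forces generation in low degrees. -/

universe u
open DirectSum GrLC Groth.Agent.H6 Groth.Agent.H6.Gr
set_option linter.unusedSectionVars false

namespace Groth.Agent.H2.GrEG

variable {R : Type u} [CommRing R] [IsNoetherianRing R] {𝒜 : ℤ → AddSubgroup R} [GradedRing 𝒜]
variable (a : HomogeneousIdeal 𝒜)

/-- if `P ≤ Q` are homogeneous with `Q / P` killed by the ideal, `H^0(Q)_j = 0` and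
`H^1(P)_j = 0`, then `Q_j ⊆ P` -/
theorem mem_of_HVs {K : GMod.{u} 𝒜} {P Q : Submodule R K.carrier}
    (hP : P.IsHomogeneous K.gr) (hQ : Q.IsHomogeneous K.gr) (hPQ : P ≤ Q)
    (htors : ∀ z ∈ Q, ∀ r ∈ a.toIdeal, r • z ∈ P) {j : ℤ}
    (h1 : HVs a K Q 0 j) (h2 : HVs a K P 1 j) : ∀ z ∈ Q, z ∈ K.gr j → z ∈ P := by
  obtain ⟨G, ι, hinj, hr, hg⟩ := exists_gmod_sub 𝒜 K.gr Q hQ
  have hP' : (P.comap ι).IsHomogeneous G.gr := comap_isHomogeneous hg hP
  obtain ⟨Pm, jP, hjinj, hjr, hjg⟩ := exists_gmod_sub 𝒜 G.gr (P.comap ι) hP'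
  obtain ⟨Qm, π, hπ, hπker, hπg⟩ := exists_gmod_quot 𝒜 G.gr (P.comap ι) hP'
  have hPm : HV a Pm 1 j := by
    apply h2 Pm (ι ∘ₗ jP) (hinj.comp hjinj) ?_ (fun g x hx => hg g _ (hjg g x hx))
    rw [LinearMap.range_comp, hjr, Submodule.map_comap_eq, hr]
    exact inf_eq_right.mpr hPQ
  have S : GrSES Pm.gr G.gr Qm.gr jP π :=
    { hi := hjg
      hp := hπg
      inj := hjinj
      surj := hπ
      exact := fun m => by
        rw [← LinearMap.mem_ker, hπker, ← hjr]
        rfl }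
  have hQm : HV a Qm 0 j := HV_right a S (h1 G ι hinj hr hg) hPm
  rw [HV_zero_iff] at hQm
  intro z hzQ hzj
  rw [← hr] at hzQ
  obtain ⟨w, rfl⟩ := hzQ
  have hwj : w ∈ G.gr j := mem_of_map_mem G.gr K.gr hg hinj hzj
  have h3 : π w = 0 := by
    apply hQm (π w) (hπg j w hwj)
    refine ⟨1, fun r hr1 => ?_⟩
    rw [pow_one] at hr1
    rw [← map_smul, ← LinearMap.mem_ker, hπker]
    change ι (r • w) ∈ P
    rw [map_smul]
    exact htors (ι w) (hr ▸ LinearMap.mem_range_self ι w) r hr1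
  have h4 : w ∈ P.comap ι := by
    rw [← hπker]
    exact h3
  exact h4

variable {n : ℕ} {x : Fin n → R} (X : GMod.{u} 𝒜)

theorem filter_card_zero :
    (Finset.univ.filter fun s : Finset (Fin n) => s.card = 0) = {∅} := by
  ext s
  simp

/-- **propagation of vanishing along the Koszul ladder** -/
theorem HV_of_ladder (hx1 : ∀ i, x i ∈ 𝒜 1) (ha : a.toIdeal ≤ Ideal.span (Set.range x)) (i : ℕ)
    (e : ℤ) (h : ∀ p : ℕ, HV a X (i + 1 + p) (e - (p + 1))) : HV a X (i + 1) e := by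
  have h1 := ladder X a hx1 ha i e h (n + 1) 0 (by omega)
  rw [Zp_zero] at h1
  unfold Cp at h1
  rw [filter_card_zero] at h1
  have h2 := HV_of_HVs_supp_singleton (cardD n) X a ∅ (i + 1 + 0) e h1
  have h3 : e - cardD n ∅ = e := by
    unfold cardD
    simp
  rw [h3] at h2
  exact h2

/-- **vanishing of local cohomology forces generation in low degrees** -/
theorem mem_smul_top_of_HV (hx1 : ∀ i, x i ∈ 𝒜 1) (ha : a.toIdeal = Ideal.span (Set.range x))
    (j : ℤ) (h : ∀ p : ℕ, HV a X (p + 1) (j - (p + 1))) (h0 : HV a X 0 j) :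
    ∀ m ∈ X.gr j, m ∈ a.toIdeal • (⊤ : Submodule R X.carrier) := by
  have h' : ∀ p : ℕ, HV a X (0 + 1 + p) (j - (p + 1)) := by
    intro p
    have : 0 + 1 + p = p + 1 := by omega
    rw [this]
    exact h p
  have h1 := ladder X a hx1 ha.le 0 j h' (n + 1) 1 (by omega)
  have hC1 : HVs a (KG n X) (Cp X (0 + 1)) (0 + 1 + 0) j := by
    apply HVs_supp
    intro s hs
    rw [Finset.mem_filter] at hs
    have : j - cardD n s = j - ((0 : ℕ) + 1) := by
      unfold cardD
      rw [hs.2]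
      push_cast
      ring
    rw [this]
    exact h' 0
  have h2 : HVs a (KG n X) (Bp x X 0) 1 j :=
    HVs_map_right a (dG_isGrHom X hx1) (Cp_isHomogeneous X (0 + 1)) hC1 h1
  have hC0 : HVs a (KG n X) (Cp X 0) 0 j := by
    apply HVs_supp
    intro s hs
    rw [Finset.mem_filter] at hs
    have : j - cardD n s = j := by
      unfold cardD
      rw [hs.2]
      simp
    rw [this]
    exact h0
  have h3 : (Bp x X 0).IsHomogeneous (KG n X).gr :=
    map_isHomogeneous (dG_isGrHom X hx1) (Cp_isHomogeneous X (0 + 1))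
  have hle : Bp x X 0 ≤ Cp X 0 := by
    have := Bp_le_Zp x X 0
    rwa [Zp_zero] at this
  have htors : ∀ z ∈ Cp X 0, ∀ r ∈ a.toIdeal, r • z ∈ Bp x X 0 := by
    intro z hz r hr
    apply smul_mem_Bp x X a ha.le 0 z _ r hr
    rw [Zp_zero]
    exact hz
  have key := mem_of_HVs a h3 (Cp_isHomogeneous X 0) hle htors hC0 h2
  intro m hm
  -- the element `single ∅ m`
  set z : (KG n X).carrier := (Pi.single (∅ : Finset (Fin n)) m : Finset (Fin n) → X.carrier)
    with hz
  have hzC : z ∈ Cp X 0 := by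
    rw [mem_Cp]
    intro s hs
    have : s ≠ ∅ := fun h => hs (h ▸ Finset.card_empty)
    exact Pi.single_eq_of_ne this _
  have hzj : z ∈ (KG n X).gr j := by
    have := single_mem_powGr (cardD n) X (∅ : Finset (Fin n)) hm
    have h5 : j + cardD n ∅ = j := by
      unfold cardD
      simp
    rw [h5] at this
    exact this
  obtain ⟨w, -, hw⟩ := key z hzC hzj
  have h6 : m = (show Finset (Fin n) → X.carrier from dG x X w) ∅ := by
    rw [hw, hz]
    exact (Pi.single_eq_same (M := fun _ : Finset (Fin n) => X.carrier) (∅ : Finset (Fin n)) m).symm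
  rw [h6]
  change (∑ i, if i ∈ (∅ : Finset (Fin n)) then 0 else (Kos.eps R i ∅ * x i) •
    (show Finset (Fin n) → X.carrier from w) (insert i ∅)) ∈ _
  refine sum_mem fun i _ => ?_
  rw [if_neg (Finset.notMem_empty i)]
  refine Submodule.smul_mem_smul ?_ Submodule.mem_top
  apply Ideal.mul_mem_left
  rw [ha]
  exact Ideal.subset_span ⟨i, rfl⟩

end Groth.Agent.H2.GrEG
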