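import Mathlib
import Groth.Agent.Lib.Helper2.GrEG6
import Groth.Agent.Lib.Helper6.GrLCCompare
import Groth.Agent.S0326

/-! Weak regularity implies regularity; vanishing above the number of generators; towers of
quotients by regular elements of degree one. -/

universe u
open DirectSum GrLC Groth.Agent.H6 Groth.Agent.H6.Gr
set_option linter.unusedSectionVars false

namespace Groth.Agent.H2.GrEG

variable {R : Type u} [CommRing R] [IsNoetherianRing R] {𝒜 : ℤ → AddSubgroup R} [GradedRing 𝒜]
variable (a : HomogeneousIdeal 𝒜)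

section Weak

variable {n : ℕ} {x : Fin n → R} (X : GMod.{u} 𝒜)

/-- weak `d`-regularity implies weak `(d+k)`-regularity -/
theorem HV_of_weak (hx1 : ∀ i, x i ∈ 𝒜 1) (ha : a.toIdeal ≤ Ideal.span (Set.range x)) (d : ℤ)
    (hw : ∀ i : ℕ, HV a X (i + 1) (d - (i + 1) + 1)) :
    ∀ (k i : ℕ), HV a X (i + 1) (d + k - (i + 1) + 1) := by
  intro k
  induction k with
  | zero =>
    intro i
    have : d + ((0 : ℕ) : ℤ) - (i + 1) + 1 = d - (i + 1) + 1 := by push_cast; ring
    rw [this]
    exact hw i
  | succ k ih =>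
    intro i
    apply HV_of_ladder a X hx1 ha i
    intro p
    have h1 := ih (i + p)
    have h2 : d + (k : ℤ) - (((i + p : ℕ) : ℤ) + 1) + 1 =
        d + ((k + 1 : ℕ) : ℤ) - ((i : ℤ) + 1) + 1 - ((p : ℤ) + 1) := by
      push_cast
      ring
    rw [h2] at h1
    have h3 : i + p + 1 = i + 1 + p := by omega
    rw [h3] at h1
    exact h1

/-- weak regularity implies regularity -/
theorem HV_of_weak' (hx1 : ∀ i, x i ∈ 𝒜 1) (ha : a.toIdeal ≤ Ideal.span (Set.range x)) (d : ℤ)
    (hw : ∀ i : ℕ, HV a X (i + 1) (d - (i + 1) + 1)) (i : ℕ) (e : ℤ) (he : d - (i + 1) + 1 ≤ e) :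
    HV a X (i + 1) e := by
  have h1 := HV_of_weak a X hx1 ha d hw (e - (d - (i + 1) + 1)).toNat i
  have h2 : d + ((e - (d - (i + 1) + 1)).toNat : ℤ) - (i + 1) + 1 = e := by
    rw [Int.toNat_of_nonneg (by omega)]
    ring
  rw [h2] at h1
  exact h1

/-- local cohomology vanishes above the number of generators of the ideal -/
theorem HV_of_gt (ha : a.toIdeal = Ideal.span (Set.range x)) (q : ℕ) (hq : n < q) (j : ℤ) :
    HV a X q j := by
  classical
  intro E
  obtain ⟨e⟩ := nonempty_H_equiv 𝒜 X.gr E a q
  have hcd := Groth.Agent.S0326.result R (Finset.univ.image x)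
  have hspan : Ideal.span ((Finset.univ.image x : Finset R) : Set R) = a.toIdeal := by
    rw [ha, Finset.coe_image, Finset.coe_univ, Set.image_univ]
  rw [hspan] at hcd
  have hcard : (Finset.univ.image x).card < q := by
    refine lt_of_le_of_lt Finset.card_image_le ?_
    rw [Finset.card_univ, Fintype.card_fin]
    exact hq
  haveI : Subsingleton (LocCoh.H a.toIdeal q X.carrier) := hcd X.carrier q hcard
  rw [eq_bot_iff]
  intro y _
  rw [AddSubgroup.mem_bot]
  apply e.injective
  exact Subsingleton.elim _ _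

end Weak

section Tower

/-- a tower of quotients by regular elements of degree one lying in the ideal -/
inductive RegTower : List R → GMod.{u} 𝒜 → GMod.{u} 𝒜 → Prop
  | nil (X N : GMod.{u} 𝒜) (e : X.carrier ≃ₗ[R] N.carrier)
      (he : IsGrHom X.gr N.gr e.toLinearMap) (he' : IsGrHom N.gr X.gr e.symm.toLinearMap) :
      RegTower [] X N
  | cons (y : R) (ys : List R) (X X' N : GMod.{u} 𝒜) (hy1 : y ∈ 𝒜 1) (hya : y ∈ a.toIdeal)
      (hreg : IsSMulRegular X.carrier y) (π : X.carrier →ₗ[R] X'.carrier)
      (hπ : Function.Surjective π) (hπg : IsGrHom X.gr X'.gr π)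
      (hker : ∀ m, π m = 0 ↔ ∃ m', y • m' = m) (h : RegTower ys X' N) :
      RegTower (y :: ys) X N

variable {a}

theorem RegTower.HV_lt {ys : List R} {X N : GMod.{u} 𝒜} (h : RegTower a ys X N) :
    ∀ (q : ℕ) (j : ℤ), q < ys.length → HV a X q j := by
  induction h with
  | nil X N e he he' =>
    intro q j hq
    exact absurd hq (by simp)
  | cons y ys X X' N hy1 hya hreg π hπ hπg hker h ih =>
    intro q j hq
    cases q with
    | zero => exact HV_reg_zero a hreg hya j
    | succ q =>
      apply HV_reg_succ a hy1 hreg π hπ hπg hker hya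
      intro e _
      apply ih
      rw [List.length_cons] at hq
      omega

theorem RegTower.HV_add {ys : List R} {X N : GMod.{u} 𝒜} (h : RegTower a ys X N) :
    ∀ (q : ℕ) (j : ℤ), (∀ e : ℤ, j + ys.length ≤ e → HV a N q e) →
      HV a X (q + ys.length) j := by
  induction h with
  | nil X N e he he' =>
    intro q j hN
    have h1 := hN j (by simp)
    exact HV_of_equiv a e.symm he' (by rwa [LinearEquiv.symm_symm]) h1
  | cons y ys X X' N hy1 hya hreg π hπ hπg hker h ih =>
    intro q j hN
    rw [List.length_cons, ← add_assoc]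
    apply HV_reg_succ a hy1 hreg π hπ hπg hker hya
    intro e he
    apply ih
    intro e' he'
    apply hN
    rw [List.length_cons]
    push_cast
    omega

theorem RegTower.HV_quot {ys : List R} {X N : GMod.{u} 𝒜} (h : RegTower a ys X N) :
    ∀ (q : ℕ) (e : ℤ), (∀ i : ℕ, i ≤ ys.length → HV a X (q + i) (e - i)) → HV a N q e := by
  induction h with
  | nil X N e he he' =>
    intro q j hX
    have h1 := hX 0 (Nat.zero_le _)
    rw [Nat.add_zero, Nat.cast_zero, sub_zero] at h1
    exact HV_of_equiv a e he he' h1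
  | cons y ys X X' N hy1 hya hreg π hπ hπg hker h ih =>
    intro q e hX
    apply ih
    intro i hi
    apply HV_reg_quot a hy1 hreg π hπ hπg hker
    · exact hX i (by rw [List.length_cons]; omega)
    · have := hX (i + 1) (by rw [List.length_cons]; omega)
      have h2 : e - ((i + 1 : ℕ) : ℤ) = e - i - 1 := by push_cast; ring
      rw [h2] at this
      exact this

end Tower

end Groth.Agent.H2.GrEG
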