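import Mathlib
import Groth.Agent.Lib.Helper2.GrEG7

/-! Construction of towers of quotients from weakly regular sequences of degree-one elements. -/

universe u
open DirectSum GrLC Groth.Agent.H6 Groth.Agent.H6.Gr Pointwise
set_option linter.unusedSectionVars false

namespace Groth.Agent.H2.GrEG

variable {R : Type u} [CommRing R] [IsNoetherianRing R] {𝒜 : ℤ → AddSubgroup R} [GradedRing 𝒜]
variable (a : HomogeneousIdeal 𝒜)

/-- a surjective homogeneous map hits every homogeneous element by a homogeneous element -/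
theorem exists_mem_of_surjective {X Y : GMod.{u} 𝒜} {π : X.carrier →ₗ[R] Y.carrier}
    (hπ : Function.Surjective π) (hπg : IsGrHom X.gr Y.gr π) {g : ℤ} {z : Y.carrier}
    (hz : z ∈ Y.gr g) : ∃ m ∈ X.gr g, π m = z := by
  obtain ⟨m, rfl⟩ := hπ z
  refine ⟨proj X.gr g m, proj_mem X.gr g m, ?_⟩
  rw [isGrHom_proj X.gr Y.gr hπg, proj_of_mem Y.gr hz]

theorem smul_top_eq_range {M : Type u} [AddCommGroup M] [Module R M] (y : R) :
    (y • (⊤ : Submodule R M)) = LinearMap.range (LinearMap.lsmul R M y) := by
  ext m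
  rw [Submodule.mem_smul_pointwise_iff_exists, LinearMap.mem_range]
  constructor
  · rintro ⟨m', -, rfl⟩
    exact ⟨m', rfl⟩
  · rintro ⟨m', rfl⟩
    exact ⟨m', trivial, rfl⟩

theorem exists_regTower (ys : List R) (hys1 : ∀ y ∈ ys, y ∈ 𝒜 1) (hysa : ∀ y ∈ ys, y ∈ a.toIdeal) :
    ∀ (X N : GMod.{u} 𝒜), RingTheory.Sequence.IsWeaklyRegular X.carrier ys →
      ∀ (π : X.carrier →ₗ[R] N.carrier), Function.Surjective π → IsGrHom X.gr N.gr π →
        LinearMap.ker π = Ideal.ofList ys • (⊤ : Submodule R X.carrier) → RegTower a ys X N := by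
  induction ys with
  | nil =>
    intro X N _ π hπ hπg hker
    rw [Ideal.ofList_nil, Submodule.bot_smul] at hker
    have hinj : Function.Injective π := LinearMap.ker_eq_bot.mp hker
    set e := LinearEquiv.ofBijective π ⟨hinj, hπ⟩ with he
    refine RegTower.nil X N e hπg ?_
    intro g z hz
    apply mem_of_map_mem X.gr N.gr hπg hinj
    have : π (e.symm z) = z := e.apply_symm_apply z
    change π (e.symm z) ∈ N.gr g
    rw [this]
    exact hz
  | cons y ys ih =>
    intro X N hreg π hπ hπg hker
    have hy1 : y ∈ 𝒜 1 := hys1 y List.mem_cons_self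
    have hya : y ∈ a.toIdeal := hysa y List.mem_cons_self
    obtain ⟨hregy, hreg'⟩ := (RingTheory.Sequence.isWeaklyRegular_cons_iff X.carrier y ys).mp hreg
    -- the quotient by `y`
    have hP : (LinearMap.range (LinearMap.lsmul R X.carrier y)).IsHomogeneous X.gr :=
      range_isHomogeneous (Msh (𝒜 := 𝒜) X.gr 1).gr X.gr
        (lsmul_isGrHom_shift (𝒜 := 𝒜) (ℳ := X.gr) 1 hy1)
    obtain ⟨X', q, hq, hqker, hqg⟩ := exists_gmod_quot 𝒜 X.gr _ hP
    have hqker' : ∀ m, q m = 0 ↔ ∃ m', y • m' = m := by
      intro m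
      rw [← LinearMap.mem_ker, hqker, LinearMap.mem_range]
      rfl
    -- regularity transfers
    have hkerq : LinearMap.ker q = y • (⊤ : Submodule R X.carrier) := by
      rw [hqker, smul_top_eq_range]
    set e : QuotSMulTop y X.carrier ≃ₗ[R] X'.carrier :=
      (Submodule.quotEquivOfEq _ _ hkerq.symm) ≪≫ₗ (q.quotKerEquivOfSurjective hq) with he
    have hreg'' : RingTheory.Sequence.IsWeaklyRegular X'.carrier ys :=
      (e.isWeaklyRegular_congr ys).mp hreg'
    -- the induced map to `N`
    have hle : LinearMap.ker q ≤ LinearMap.ker π := by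
      rw [hkerq, hker, Ideal.ofList_cons_smul]
      exact le_sup_left
    set π' : X'.carrier →ₗ[R] N.carrier :=
      ((LinearMap.ker q).liftQ π hle) ∘ₗ (q.quotKerEquivOfSurjective hq).symm.toLinearMap with hπ'
    have hπ'q : ∀ m, π' (q m) = π m := by
      intro m
      rw [hπ', LinearMap.comp_apply]
      have : (q.quotKerEquivOfSurjective hq).symm (q m) = Submodule.Quotient.mk m := by
        rw [LinearEquiv.symm_apply_eq]
        rfl
      change ((LinearMap.ker q).liftQ π hle) ((q.quotKerEquivOfSurjective hq).symm (q m)) = π m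
      rw [this]
      rfl
    have hπ's : Function.Surjective π' := by
      intro z
      obtain ⟨m, rfl⟩ := hπ z
      exact ⟨q m, hπ'q m⟩
    have hπ'g : IsGrHom X'.gr N.gr π' := by
      intro g z hz
      obtain ⟨m, hm, rfl⟩ := exists_mem_of_surjective hq hqg hz
      rw [hπ'q]
      exact hπg g m hm
    have hπ'ker : LinearMap.ker π' = Ideal.ofList ys • (⊤ : Submodule R X'.carrier) := by
      have htop : (⊤ : Submodule R X'.carrier) = (⊤ : Submodule R X.carrier).map q := by
        rw [Submodule.map_top, LinearMap.range_eq_top.mpr hq]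
      rw [htop, ← Submodule.map_smul'']
      ext z
      obtain ⟨m, rfl⟩ := hq z
      rw [LinearMap.mem_ker, hπ'q, ← LinearMap.mem_ker, hker, Ideal.ofList_cons_smul]
      constructor
      · intro hm
        obtain ⟨m1, hm1, m2, hm2, rfl⟩ := Submodule.mem_sup.mp hm
        rw [← hkerq] at hm1
        refine ⟨m2, hm2, ?_⟩
        rw [map_add, (show q m1 = 0 from hm1), zero_add]
      · rintro ⟨m2, hm2, h2⟩
        have h3 : m - m2 ∈ LinearMap.ker q := by
          rw [LinearMap.mem_ker, map_sub, h2, sub_self]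
        rw [hkerq] at h3
        have : m = (m - m2) + m2 := by abel
        rw [this]
        exact Submodule.add_mem_sup h3 hm2
    exact RegTower.cons y ys X X' N hy1 hya hregy q hq hqg hqker'
      (ih (fun y hy => hys1 y (List.mem_cons_of_mem _ hy))
        (fun y hy => hysa y (List.mem_cons_of_mem _ hy)) X' N hreg'' π' hπ's hπ'g hπ'ker)

end Groth.Agent.H2.GrEG
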