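import Mathlib
import Groth.Prelude.Def_GrLC
import Groth.Prelude.Def_GrSyz
import Groth.Agent.Lib.Helper6.GrSubQuot

/-! Transfer of gradings valued in an arbitrary `SetLike` class of additive subgroups to
gradings valued in `AddSubgroup`, for graded rings, graded modules, *injective resolutions,
homogeneous ideals and graded free resolutions. -/

universe u
open DirectSum GrLC Groth.Agent.H6 Groth.Agent.H6.Gr
set_option linter.unusedSectionVars false

namespace Groth.Agent.H2.GrEGT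

variable {R : Type u} [CommRing R] {σ : Type u} [SetLike σ R] [AddSubgroupClass σ R]
variable (𝒜 : ℤ → σ) [GradedRing 𝒜]

/-- the grading, valued in `AddSubgroup` -/
def toAS : ℤ → AddSubgroup R := fun n => AddSubgroup.ofClass (𝒜 n)

theorem mem_toAS {n : ℤ} {x : R} : x ∈ toAS 𝒜 n ↔ x ∈ 𝒜 n := Iff.rfl

theorem toAS_isInternal : DirectSum.IsInternal (toAS 𝒜) := by
  refine isInternal_of_proj (toAS 𝒜) (fun g => GradedRing.proj 𝒜 g) ?_ ?_ ?_
  · intro g x hx
    exact DirectSum.decompose_of_mem_same 𝒜 hx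
  · intro g h x hx hne
    exact DirectSum.decompose_of_mem_ne 𝒜 hx hne
  · intro x
    classical
    rw [← DirectSum.sum_support_decompose 𝒜 x]
    refine sum_mem fun g _ => ?_
    exact AddSubgroup.mem_iSup_of_mem g (DirectSum.decompose 𝒜 x g).2

noncomputable instance toAS_gradedRing : GradedRing (toAS 𝒜) :=
  { (toAS_isInternal 𝒜).chooseDecomposition with
    one_mem := SetLike.GradedOne.one_mem (A := 𝒜)
    mul_mem := fun _ _ _ _ hx hy => SetLike.GradedMul.mul_mem (A := 𝒜) hx hy }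

theorem proj_toAS (g : ℤ) (x : R) : proj (toAS 𝒜) g x = GradedRing.proj 𝒜 g x := by
  refine proj_eq_of_proj (toAS 𝒜) (fun g => GradedRing.proj 𝒜 g) ?_ ?_ g x
  · intro g x hx
    exact DirectSum.decompose_of_mem_same 𝒜 hx
  · intro g h x hx hne
    exact DirectSum.decompose_of_mem_ne 𝒜 hx hne

/-- homogeneous ideals transfer -/
noncomputable def toASIdeal (a : HomogeneousIdeal 𝒜) : HomogeneousIdeal (toAS 𝒜) :=
  ⟨a.toIdeal, by
    intro g r hr
    change proj (toAS 𝒜) g r ∈ a.toIdeal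
    rw [proj_toAS]
    exact a.isHomogeneous g hr⟩

theorem toASIdeal_toIdeal (a : HomogeneousIdeal 𝒜) : (toASIdeal 𝒜 a).toIdeal = a.toIdeal := rfl

section Module

variable {M : Type u} [AddCommGroup M] [Module R M] {τ : Type u} [SetLike τ M]
  [AddSubgroupClass τ M] (ℳ : ℤ → τ) [DirectSum.Decomposition ℳ] [SetLike.GradedSMul 𝒜 ℳ]

/-- the grading of a module, valued in `AddSubgroup` -/
def toASm : ℤ → AddSubgroup M := fun n => AddSubgroup.ofClass (ℳ n)

theorem mem_toASm {n : ℤ} {x : M} : x ∈ toASm ℳ n ↔ x ∈ ℳ n := Iff.rfl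

/-- the projections of the module grading -/
noncomputable def projM (g : ℤ) : M →+ M where
  toFun m := (DirectSum.decompose ℳ m g : M)
  map_zero' := by rw [DirectSum.decompose_zero]; rfl
  map_add' m m' := by rw [DirectSum.decompose_add]; rfl

theorem toASm_isInternal : DirectSum.IsInternal (toASm ℳ) := by
  refine isInternal_of_proj (toASm ℳ) (projM ℳ) ?_ ?_ ?_
  · intro g x hx
    exact DirectSum.decompose_of_mem_same ℳ hx
  · intro g h x hx hne
    exact DirectSum.decompose_of_mem_ne ℳ hx hne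
  · intro x
    classical
    rw [← DirectSum.sum_support_decompose ℳ x]
    refine sum_mem fun g _ => ?_
    exact AddSubgroup.mem_iSup_of_mem g (DirectSum.decompose ℳ x g).2

@[instance_reducible]
noncomputable def toASm_decomposition : DirectSum.Decomposition (toASm ℳ) :=
  (toASm_isInternal ℳ).chooseDecomposition

theorem toASm_gradedSMul : SetLike.GradedSMul (toAS 𝒜) (toASm ℳ) where
  smul_mem := fun {_ _ _ _} hx hy => SetLike.GradedSMul.smul_mem (A := 𝒜) (B := ℳ) hx hy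

/-- the graded module with `AddSubgroup`-valued gradings -/
noncomputable def toGMod : GMod.{u} (toAS 𝒜) :=
  @GrLC.GMod.mk ℤ _ _ R _ _ _ _ (toAS 𝒜) _ M _ _ (toASm ℳ) (toASm_decomposition ℳ)
    (toASm_gradedSMul 𝒜 ℳ)

end Module

section GModT

/-- a graded module over `𝒜` as a graded module over `toAS 𝒜` -/
noncomputable def gmodTo (X : GMod.{u} 𝒜) : GMod.{u} (toAS 𝒜) :=
  @GrLC.GMod.mk ℤ _ _ R _ _ _ _ (toAS 𝒜) _ X.carrier _ _ X.gr X.dec
    ⟨fun {_ _ _ _} hx hy => SetLike.GradedSMul.smul_mem (A := 𝒜) (B := X.gr) hx hy⟩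

/-- and back -/
noncomputable def gmodFrom (X : GMod.{u} (toAS 𝒜)) : GMod.{u} 𝒜 :=
  @GrLC.GMod.mk ℤ _ _ R _ _ _ _ 𝒜 _ X.carrier _ _ X.gr X.dec
    ⟨fun {_ _ _ _} hx hy => SetLike.GradedSMul.smul_mem (A := toAS 𝒜) (B := X.gr) hx hy⟩

theorem starInj_to {X : GMod.{u} 𝒜} (h : IsStarInj 𝒜 X.gr) :
    IsStarInj (toAS 𝒜) (gmodTo 𝒜 X).gr := by
  intro A B f hf hinj g hg
  exact h (gmodFrom 𝒜 A) (gmodFrom 𝒜 B) f hf hinj g hg

end GModT

section Res

variable {M : Type u} [AddCommGroup M] [Module R M] {τ : Type u} [SetLike τ M]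
  [AddSubgroupClass τ M] (ℳ : ℤ → τ) [DirectSum.Decomposition ℳ] [SetLike.GradedSMul 𝒜 ℳ]

/-- transfer of a *injective resolution -/
noncomputable def resTo (E : StarInjRes 𝒜 ℳ) : StarInjRes (toAS 𝒜) (toGMod 𝒜 ℳ).gr where
  X n := gmodTo 𝒜 (E.X n)
  d := E.d
  ε := E.ε
  d_grHom := E.d_grHom
  ε_grHom := E.ε_grHom
  ε_injective := E.ε_injective
  exact_zero := E.exact_zero
  exact_succ := E.exact_succ
  starInj n := starInj_to 𝒜 (E.starInj n)

theorem resTo_Hgr (E : StarInjRes 𝒜 ℳ) (a : HomogeneousIdeal 𝒜) (q : ℕ) (j : ℤ) :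
    (resTo 𝒜 ℳ E).Hgr (toASIdeal 𝒜 a) q j = E.Hgr a q j := rfl

end Res

end Groth.Agent.H2.GrEGT

namespace Groth.Agent.H2.GrEGT

variable {R : Type u} [CommRing R] {σ : Type u} [SetLike σ R] [AddSubgroupClass σ R]
variable (𝒜 : ℤ → σ) [GradedRing 𝒜]
variable {M : Type u} [AddCommGroup M] [Module R M] {τ : Type u} [SetLike τ M]
  [AddSubgroupClass τ M] (ℳ : ℤ → τ) [DirectSum.Decomposition ℳ] [SetLike.GradedSMul 𝒜 ℳ]

/-- transfer of a graded free resolution -/
def freeResTo (F : GrSyz.FreeRes 𝒜 ℳ) : GrSyz.FreeRes (toAS 𝒜) (toGMod 𝒜 ℳ).gr where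
  rk := F.rk
  deg := F.deg
  d := F.d
  aug := F.aug
  d_mem := F.d_mem
  aug_mem := F.aug_mem
  aug_surjective := F.aug_surjective
  exact_zero := F.exact_zero
  exact_succ := F.exact_succ

/-- and back -/
def freeResFrom (F : GrSyz.FreeRes (toAS 𝒜) (toGMod 𝒜 ℳ).gr) : GrSyz.FreeRes 𝒜 ℳ where
  rk := F.rk
  deg := F.deg
  d := F.d
  aug := F.aug
  d_mem := F.d_mem
  aug_mem := F.aug_mem
  aug_surjective := F.aug_surjective
  exact_zero := F.exact_zero
  exact_succ := F.exact_succ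

end Groth.Agent.H2.GrEGT
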