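import Mathlib
import Groth.Agent.Lib.Helper2.GrEG8
import Groth.Agent.Lib.Helper2.GrEGT
import Groth.Agent.Lib.Helper2.GrSyzHilbert
import Groth.Agent.Lib.Helper2.GrSyzBasic

/-! Graded local cohomology of the polynomial ring and of graded free modules with respect to
the irrelevant ideal. -/

universe u
open DirectSum GrLC Groth.Agent.H6 Groth.Agent.H6.Gr Groth.Agent.H2.GrEGT MvPolynomial
set_option linter.unusedSectionVars false

namespace Groth.Agent.H2.GrEG

section Poly

variable (k : Type u) [Field k] (n : ℕ)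

/-- the standard grading, valued in additive subgroups -/
noncomputable abbrev As : ℤ → AddSubgroup (MvPolynomial (Fin n) k) := toAS (GrSyz.stdGr k (Fin n))

/-- the irrelevant ideal -/
noncomputable abbrev am : HomogeneousIdeal (As k n) :=
  toASIdeal _ (GrSyz.irrel (GrSyz.stdGr k (Fin n)))

theorem X_mem_one (i : Fin n) : (X i : MvPolynomial (Fin n) k) ∈ As k n 1 :=
  isWeightedHomogeneous_X k (fun _ : Fin n => (1 : ℤ)) i

theorem am_eq_span : (am k n).toIdeal =
    Ideal.span (Set.range fun i : Fin n => (X i : MvPolynomial (Fin n) k)) := by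
  rw [toASIdeal_toIdeal, GrSyzHilbert.irrel_eq_ofList, QuasiReg.ofList_ofFn]

theorem X_mem_am (i : Fin n) : (X i : MvPolynomial (Fin n) k) ∈ (am k n).toIdeal := by
  rw [am_eq_span]
  exact Ideal.subset_span ⟨i, rfl⟩

/-- the polynomial ring as a graded module over itself -/
noncomputable def Sg : GMod.{u} (As k n) :=
  toGMod (GrSyz.stdGr k (Fin n)) (GrSyz.stdGr k (Fin n))

theorem mem_Sg_gr {e : ℤ} {p : MvPolynomial (Fin n) k} :
    p ∈ (Sg k n).gr e ↔ p ∈ GrSyz.stdGr k (Fin n) e := Iff.rfl

theorem proj_Sg (g : ℤ) (p : MvPolynomial (Fin n) k) :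
    proj (Sg k n).gr g (show (Sg k n).carrier from p) =
      GradedRing.proj (GrSyz.stdGr k (Fin n)) g p := by
  refine proj_eq_of_proj (Sg k n).gr (fun g => GradedRing.proj (GrSyz.stdGr k (Fin n)) g) ?_ ?_ g p
  · intro g x hx
    exact DirectSum.decompose_of_mem_same (GrSyz.stdGr k (Fin n)) hx
  · intro g h x hx hne
    exact DirectSum.decompose_of_mem_ne (GrSyz.stdGr k (Fin n)) hx hne

/-- the irrelevant ideal as a homogeneous submodule of the ring -/
theorem irrel_isHomogeneous_sub :
    (show Submodule (MvPolynomial (Fin n) k) (Sg k n).carrier from (am k n).toIdeal).IsHomogeneous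
      (Sg k n).gr := by
  intro g m hm
  change proj (Sg k n).gr g m ∈ (am k n).toIdeal
  rw [proj_Sg]
  exact (GrSyz.irrel (GrSyz.stdGr k (Fin n))).isHomogeneous g hm

theorem mem_am_of_mem_gr {e : ℤ} (he : e ≠ 0) {p : MvPolynomial (Fin n) k}
    (hp : p ∈ GrSyz.stdGr k (Fin n) e) : p ∈ (am k n).toIdeal := by
  rw [toASIdeal_toIdeal, GrSyzBasic.mem_irrel_iff]
  exact GrSyzBasic.constantCoeff_eq_zero_of_mem_stdGr hp he

/-- **local cohomology of the polynomial ring** -/
theorem HV_Sg (q : ℕ) (j : ℤ) (h : q ≠ n ∨ -(n : ℤ) < j) : HV (am k n) (Sg k n) q j := by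
  set ys := List.ofFn fun i : Fin n => (X i : MvPolynomial (Fin n) k) with hys
  have hlen : ys.length = n := List.length_ofFn
  have hP : (Ideal.ofList ys • (⊤ : Submodule (MvPolynomial (Fin n) k) (Sg k n).carrier)) =
      (show Submodule (MvPolynomial (Fin n) k) (Sg k n).carrier from (am k n).toIdeal) := by
    rw [toASIdeal_toIdeal, GrSyzHilbert.irrel_eq_ofList]
    exact Ideal.mul_top _
  obtain ⟨N, π, hπ, hπker, hπg⟩ := exists_gmod_quot (As k n) (Sg k n).gr _
    (irrel_isHomogeneous_sub k n)
  have htower : RegTower (am k n) ys (Sg k n) N := by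
    apply exists_regTower (am k n) ys ?_ ?_ (Sg k n) N (GrSyzHilbert.isWeaklyRegular_X k n) π hπ hπg
      (hπker.trans hP.symm)
    · intro y hy
      rw [hys, List.mem_ofFn] at hy
      obtain ⟨i, rfl⟩ := hy
      exact X_mem_one k n i
    · intro y hy
      rw [hys, List.mem_ofFn] at hy
      obtain ⟨i, rfl⟩ := hy
      exact X_mem_am k n i
  -- the residue field: pieces and torsion
  have hN0 : ∀ e : ℤ, e ≠ 0 → ∀ z ∈ N.gr e, z = 0 := by
    intro e he z hz
    obtain ⟨p, hp, rfl⟩ := exists_mem_of_surjective hπ hπg hz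
    have : p ∈ LinearMap.ker π := by
      rw [hπker]
      exact mem_am_of_mem_gr k n he hp
    exact this
  have hNt : ∀ z : N.carrier, z ∈ gam (am k n).toIdeal N.carrier := by
    intro z
    obtain ⟨p, rfl⟩ := hπ z
    refine ⟨1, fun r hr => ?_⟩
    rw [pow_one] at hr
    rw [← map_smul, ← LinearMap.mem_ker, hπker]
    change r • (show MvPolynomial (Fin n) k from p) ∈ (am k n).toIdeal
    rw [smul_eq_mul]
    exact Ideal.mul_mem_right _ _ hr
  by_cases hq : q < n
  · exact htower.HV_lt q j (by rw [hlen]; exact hq)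
  · obtain ⟨q', rfl⟩ : ∃ q', q = q' + n := ⟨q - n, by omega⟩
    have := htower.HV_add q' j ?_
    · rwa [hlen] at this
    · intro e he
      rw [hlen] at he
      cases q' with
      | zero =>
        rw [HV_zero_iff]
        intro z hz _
        apply hN0 e ?_ z hz
        rcases h with h | h
        · exact absurd (by omega) h
        · omega
      | succ q' => exact HV_of_torsion (am k n) N hNt q' e

end Poly

end Groth.Agent.H2.GrEG
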