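import Mathlib
import Groth.Agent.Lib.Helper2.GrEG9

/-! Graded free modules over the polynomial ring, the syzygy modules of a graded free resolution,
and the passage from generator degrees to local cohomology. -/

universe u
open DirectSum GrLC Groth.Agent.H6 Groth.Agent.H6.Gr Groth.Agent.H2.GrEGT MvPolynomial
set_option linter.unusedSectionVars false

namespace Groth.Agent.H2.GrEG

section Free

variable (k : Type u) [Field k] (n : ℕ)

/-- the graded free module with basis degrees `deg` -/
noncomputable abbrev Fg {m : ℕ} (deg : Fin m → ℤ) : GMod.{u} (As k n) := powG deg (Sg k n)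

theorem HV_Fg {m : ℕ} (deg : Fin m → ℤ) (q : ℕ) (j : ℤ)
    (h : ∀ b, q ≠ n ∨ -(n : ℤ) < j - deg b) : HV (am k n) (Fg k n deg) q j := by
  rw [← HVs_top_iff, ← supp_univ deg (Sg k n)]
  apply HVs_supp
  intro b _
  exact HV_Sg k n q _ (h b)

theorem mulVecLin_isGrHom {m m' : ℕ} (deg : Fin m → ℤ) (deg' : Fin m' → ℤ)
    (A : Matrix (Fin m) (Fin m') (MvPolynomial (Fin n) k))
    (hA : ∀ a b, A a b ∈ As k n (deg' b - deg a)) :
    IsGrHom (Fg k n deg').gr (Fg k n deg).gr
      (show (Fg k n deg').carrier →ₗ[MvPolynomial (Fin n) k] (Fg k n deg).carrier from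
        Matrix.mulVecLin A) := by
  intro e v hv a
  change (A.mulVec v) a ∈ GrSyz.stdGr k (Fin n) (e - deg a)
  rw [Matrix.mulVec, dotProduct]
  refine sum_mem fun b _ => ?_
  have h1 := SetLike.GradedMul.mul_mem (A := GrSyz.stdGr k (Fin n)) (hA a b) (hv b)
  have h2 : deg' b - deg a + (e - deg' b) = e - deg a := by ring
  rw [h2] at h1
  exact h1

theorem linearCombination_isGrHom' {m : ℕ} (deg : Fin m → ℤ) (Xm : GMod.{u} (As k n))
    (aug : Fin m → Xm.carrier) (haug : ∀ b, aug b ∈ Xm.gr (deg b)) :
    IsGrHom (Fg k n deg).gr Xm.gr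
      (show (Fg k n deg).carrier →ₗ[MvPolynomial (Fin n) k] Xm.carrier from
        Fintype.linearCombination (MvPolynomial (Fin n) k) aug) := by
  intro e v hv
  change Fintype.linearCombination (MvPolynomial (Fin n) k) aug v ∈ Xm.gr e
  rw [Fintype.linearCombination_apply]
  refine sum_mem fun b _ => ?_
  have h1 := SetLike.GradedSMul.smul_mem (A := As k n) (B := Xm.gr) (hv b) (haug b)
  rw [vadd_eq_add, sub_add_cancel] at h1
  exact h1

end Free

section Syz

variable {k : Type u} [Field k] {n : ℕ} {Xm : GMod.{u} (As k n)}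
  (F : GrSyz.FreeRes (As k n) Xm.gr)

/-- the terms of the resolution -/
noncomputable abbrev Fi (i : ℕ) : GMod.{u} (As k n) := Fg k n (F.deg i)

/-- the differentials -/
noncomputable def dL (i : ℕ) : (Fi F (i + 1)).carrier →ₗ[MvPolynomial (Fin n) k] (Fi F i).carrier :=
  Matrix.mulVecLin (F.d i)

/-- the augmentation -/
noncomputable def aL : (Fi F 0).carrier →ₗ[MvPolynomial (Fin n) k] Xm.carrier :=
  Fintype.linearCombination (MvPolynomial (Fin n) k) F.aug

theorem dL_isGrHom (i : ℕ) : IsGrHom (Fi F (i + 1)).gr (Fi F i).gr (dL F i) :=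
  mulVecLin_isGrHom k n (F.deg i) (F.deg (i + 1)) (F.d i) (F.d_mem i)

theorem aL_isGrHom : IsGrHom (Fi F 0).gr Xm.gr (aL F) :=
  linearCombination_isGrHom' k n (F.deg 0) Xm F.aug F.aug_mem

/-- the syzygy modules -/
noncomputable def Ki (i : ℕ) : Submodule (MvPolynomial (Fin n) k) (Fi F i).carrier := LinearMap.range (dL F i)

theorem ker_dL (i : ℕ) : LinearMap.ker (dL F i) = Ki F (i + 1) := F.exact_succ i

theorem ker_aL : LinearMap.ker (aL F) = Ki F 0 := F.exact_zero

theorem top_isHomogeneous (X : GMod.{u} (As k n)) :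
    (⊤ : Submodule (MvPolynomial (Fin n) k) X.carrier).IsHomogeneous X.gr := fun _ _ _ => trivial

/-- **from generator degrees to local cohomology** -/
theorem HV_of_isGenLE (d : ℤ) (hgen : F.IsGenLE d) :
    ∀ (m' q : ℕ), n + 1 ≤ q + m' →
      (∀ (i : ℕ) (j : ℤ), d + i + 1 - q < j → HVs (am k n) (Fi F i) (Ki F i) q j) ∧
        (∀ j : ℤ, d - q < j → HV (am k n) Xm q j) := by
  intro m'
  induction m' with
  | zero =>
    intro q hq
    have hgt : ∀ (Y : GMod.{u} (As k n)) (j : ℤ), HV (am k n) Y q j := fun Y j =>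
      HV_of_gt (am k n) (x := fun i : Fin n => (X i : MvPolynomial (Fin n) k)) Y (am_eq_span k n) q
        (by omega) j
    exact ⟨fun i j _ G ι _ _ _ => hgt G j, fun j _ => hgt Xm j⟩
  | succ m' ih =>
    intro q hq
    obtain ⟨ih1, ih2⟩ := ih (q + 1) (by omega)
    constructor
    · intro i j hj
      have h1 : HVs (am k n) (Fi F (i + 1)) ⊤ q j := by
        rw [HVs_top_iff]
        apply HV_Fg
        intro b
        by_cases hqn : q = n
        · right
          have := hgen (i + 1) b
          push_cast at this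
          subst hqn
          omega
        · left
          exact hqn
      have h2 : HVs (am k n) (Fi F (i + 1)) (⊤ ⊓ LinearMap.ker (dL F i)) (q + 1) j := by
        rw [top_inf_eq, ker_dL]
        apply ih1
        push_cast
        omega
      have h3 := HVs_map_right (am k n) (dL_isGrHom F i) (top_isHomogeneous _) h1 h2
      rw [Submodule.map_top] at h3
      exact h3
    · intro j hj
      have h1 : HVs (am k n) (Fi F 0) ⊤ q j := by
        rw [HVs_top_iff]
        apply HV_Fg
        intro b
        by_cases hqn : q = n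
        · right
          have := hgen 0 b
          push_cast at this
          subst hqn
          omega
        · left
          exact hqn
      have h2 : HVs (am k n) (Fi F 0) (⊤ ⊓ LinearMap.ker (aL F)) (q + 1) j := by
        rw [top_inf_eq, ker_aL]
        apply ih1
        push_cast
        omega
      have h3 := HVs_map_right (am k n) (aL_isGrHom F) (top_isHomogeneous _) h1 h2
      have h4 : LinearMap.range (aL F) = ⊤ := LinearMap.range_eq_top.mpr F.aug_surjective
      rw [Submodule.map_top, h4, HVs_top_iff] at h3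
      exact h3

theorem HV_of_isGenLE' (d : ℤ) (hgen : F.IsGenLE d) (q : ℕ) (j : ℤ) (hj : d - q < j) :
    HV (am k n) Xm q j :=
  (HV_of_isGenLE F d hgen (n + 1) q (by omega)).2 j hj

end Syz

end Groth.Agent.H2.GrEG
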