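import Mathlib
import Groth.Agent.Lib.Helper2.GrEG10

/-! From local cohomology to generator degrees of a minimal graded free resolution. -/

universe u
open DirectSum GrLC Groth.Agent.H6 Groth.Agent.H6.Gr Groth.Agent.H2.GrEGT MvPolynomial
set_option linter.unusedSectionVars false

namespace Groth.Agent.H2.GrEG

section Cover

variable {k : Type u} [Field k] {n : ℕ} {m : ℕ} (deg : Fin m → ℤ) {T : GMod.{u} (As k n)}
  (f : (Fg k n deg).carrier →ₗ[MvPolynomial (Fin n) k] T.carrier)

theorem coord_mem_of_mem_smul_top (I : Ideal (MvPolynomial (Fin n) k))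
    (w : Fin m → MvPolynomial (Fin n) k)
    (hw : w ∈ I • (⊤ : Submodule (MvPolynomial (Fin n) k) (Fin m → MvPolynomial (Fin n) k)))
    (c : Fin m) : w c ∈ I := by
  refine Submodule.smul_induction_on hw ?_ ?_
  · intro r hr v _
    rw [Pi.smul_apply, smul_eq_mul]
    exact Ideal.mul_mem_right _ _ hr
  · intro v v' hv hv'
    rw [Pi.add_apply]
    exact Ideal.add_mem _ hv hv'

/-- a basis vector of a minimal cover cannot have a degree in which the image is contained in
the irrelevant ideal times the image -/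
theorem deg_ne_of_minimal (hf : IsGrHom (Fg k n deg).gr T.gr f)
    (hker : ∀ v : Fin m → MvPolynomial (Fin n) k, f v = 0 → ∀ c, v c ∈ (am k n).toIdeal) (j : ℤ)
    (hgen : ∀ t ∈ LinearMap.range f, t ∈ T.gr j → t ∈ (am k n).toIdeal • LinearMap.range f) :
    ∀ b, deg b ≠ j := by
  intro b hb
  set eb : Fin m → MvPolynomial (Fin n) k := Pi.single b 1 with heb
  have h1 : (show (Fg k n deg).carrier from eb) ∈ (Fg k n deg).gr j := by
    have h0 : (1 : MvPolynomial (Fin n) k) ∈ (Sg k n).gr 0 :=
      (SetLike.GradeZero.subring (As k n)).one_mem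
    have := single_mem_powGr deg (Sg k n) b h0
    rw [zero_add, hb] at this
    exact this
  have h2 := hgen (f eb) ⟨eb, rfl⟩ (hf j _ h1)
  have h3 : (am k n).toIdeal • LinearMap.range f =
      ((am k n).toIdeal • (⊤ : Submodule (MvPolynomial (Fin n) k) (Fg k n deg).carrier)).map f := by
    rw [Submodule.map_smul'', Submodule.map_top]
  rw [h3] at h2
  obtain ⟨w0, hw, hwf⟩ := h2
  set w : Fin m → MvPolynomial (Fin n) k := w0 with hw0
  have h4 : f (eb - w) = 0 := by
    have : f (eb - w) = f eb - f w := map_sub f eb w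
    rw [this, hw0, hwf, sub_self]
  have h5 := hker (eb - w) h4 b
  have h6 := coord_mem_of_mem_smul_top (am k n).toIdeal w hw b
  have h7 : (1 : MvPolynomial (Fin n) k) ∈ (am k n).toIdeal := by
    have : (1 : MvPolynomial (Fin n) k) = (eb - w) b + w b := by
      rw [Pi.sub_apply, heb, Pi.single_eq_same]
      ring
    rw [this]
    exact Ideal.add_mem _ h5 h6
  exact GrSyzBasic.one_notMem_irrel h7

/-- generator degrees of a minimal cover are bounded by the regularity of the image -/
theorem deg_le_of_HVs (hf : IsGrHom (Fg k n deg).gr T.gr f)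
    (hker : ∀ v : Fin m → MvPolynomial (Fin n) k, f v = 0 → ∀ c, v c ∈ (am k n).toIdeal) (D : ℤ)
    (h : ∀ (q : ℕ) (j : ℤ), D - q < j → HVs (am k n) T (LinearMap.range f) q j) :
    ∀ b, deg b ≤ D := by
  intro b
  by_contra hb
  push Not at hb
  have hR : (LinearMap.range f).IsHomogeneous T.gr := range_isHomogeneous (Fg k n deg).gr T.gr hf
  obtain ⟨G, ι, hinj, hr, hg⟩ := exists_gmod_sub (As k n) T.gr (LinearMap.range f) hR
  have hG : ∀ (q : ℕ) (j : ℤ), D - q < j → HV (am k n) G q j := fun q j hj =>
    h q j hj G ι hinj hr hg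
  have h1 := mem_smul_top_of_HV (am k n) (x := fun i : Fin n => (X i : MvPolynomial (Fin n) k)) G
    (X_mem_one k n) (am_eq_span k n) (deg b)
    (fun p => hG (p + 1) _ (by push_cast; omega)) (hG 0 _ (by push_cast; omega))
  refine deg_ne_of_minimal deg f hf hker (deg b) ?_ b rfl
  intro t ht htj
  rw [← hr] at ht
  obtain ⟨g, rfl⟩ := ht
  have hgj : g ∈ G.gr (deg b) := mem_of_map_mem G.gr T.gr hg hinj htj
  have h2 := h1 g hgj
  have h3 : ι g ∈ ((am k n).toIdeal • (⊤ : Submodule (MvPolynomial (Fin n) k) G.carrier)).map ι :=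
    ⟨g, h2, rfl⟩
  rw [Submodule.map_smul'', Submodule.map_top, hr] at h3
  exact h3

/-- local cohomology of the kernel of a cover -/
theorem HVs_ker_of (hn : 0 < n) (hf : IsGrHom (Fg k n deg).gr T.gr f) (D : ℤ)
    (hdeg : ∀ b, deg b ≤ D)
    (h : ∀ (q : ℕ) (j : ℤ), D - q < j → HVs (am k n) T (LinearMap.range f) q j) :
    ∀ (q : ℕ) (j : ℤ), D + 1 - q < j → HVs (am k n) (Fg k n deg) (LinearMap.ker f) q j := by
  intro q j hj
  cases q with
  | zero =>
    have h1 : HVs (am k n) (Fg k n deg) ⊤ 0 j := by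
      rw [HVs_top_iff]
      apply HV_Fg
      intro b
      left
      omega
    have h2 := HVs_map_left_zero (am k n) hf (top_isHomogeneous _) h1
    rwa [top_inf_eq] at h2
  | succ q =>
    have h1 : HVs (am k n) (Fg k n deg) ⊤ (q + 1) j := by
      rw [HVs_top_iff]
      apply HV_Fg
      intro b
      by_cases hqn : q + 1 = n
      · right
        have := hdeg b
        push_cast at hj
        have h3 : (n : ℤ) = q + 1 := by exact_mod_cast hqn.symm
        omega
      · left
        exact hqn
    have h2 : HVs (am k n) T ((⊤ : Submodule _ (Fg k n deg).carrier).map f) q j := by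
      rw [Submodule.map_top]
      apply h
      push_cast at hj
      omega
    have h3 := HVs_map_left (am k n) hf (top_isHomogeneous _) h1 h2
    rwa [top_inf_eq] at h3

end Cover

section Main

variable {k : Type u} [Field k] {n : ℕ} {Xm : GMod.{u} (As k n)}
  (F : GrSyz.FreeRes (As k n) Xm.gr)

theorem coord_mem_of_mulVec {m m' : ℕ} (A : Matrix (Fin m) (Fin m') (MvPolynomial (Fin n) k))
    (I : Ideal (MvPolynomial (Fin n) k)) (hA : ∀ a b, A a b ∈ I)
    (w : Fin m' → MvPolynomial (Fin n) k) (c : Fin m) : (A.mulVec w) c ∈ I := by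
  rw [Matrix.mulVec, dotProduct]
  exact Ideal.sum_mem _ fun b _ => Ideal.mul_mem_right _ _ (hA c b)

/-- **from local cohomology to generator degrees** -/
theorem isGenLE_of_HV (hn : 0 < n) (hmin : F.IsMinimal (am k n).toIdeal) (d : ℤ)
    (h : ∀ (q : ℕ) (j : ℤ), d - q < j → HV (am k n) Xm q j) : F.IsGenLE d := by
  have key : ∀ i : ℕ, (∀ b, F.deg i b ≤ d + i) ∧
      (∀ (q : ℕ) (j : ℤ), d + i + 1 - q < j → HVs (am k n) (Fi F i) (Ki F i) q j) := by
    intro i
    induction i with
    | zero =>
      have hker : ∀ v : Fin (F.rk 0) → MvPolynomial (Fin n) k, aL F v = 0 →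
          ∀ c, v c ∈ (am k n).toIdeal := by
        intro v hv c
        have hv' : v ∈ LinearMap.ker (aL F) := hv
        rw [ker_aL] at hv'
        obtain ⟨w, rfl⟩ := hv'
        exact coord_mem_of_mulVec (F.d 0) _ (hmin 0) w c
      have hrange : LinearMap.range (aL F) = ⊤ := LinearMap.range_eq_top.mpr F.aug_surjective
      have hH : ∀ (q : ℕ) (j : ℤ), d - q < j →
          HVs (am k n) Xm (LinearMap.range (aL F)) q j := by
        intro q j hj
        rw [hrange, HVs_top_iff]
        exact h q j hj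
      have h1 := deg_le_of_HVs (F.deg 0) (aL F) (aL_isGrHom F) hker d hH
      refine ⟨fun b => by simpa using h1 b, ?_⟩
      have h2 := HVs_ker_of (F.deg 0) (aL F) hn (aL_isGrHom F) d h1 hH
      intro q j hj
      rw [← ker_aL]
      apply h2
      push_cast at hj
      omega
    | succ i ih =>
      obtain ⟨-, ih2⟩ := ih
      have hker : ∀ v : Fin (F.rk (i + 1)) → MvPolynomial (Fin n) k, dL F i v = 0 →
          ∀ c, v c ∈ (am k n).toIdeal := by
        intro v hv c
        have hv' : v ∈ LinearMap.ker (dL F i) := hv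
        rw [ker_dL] at hv'
        obtain ⟨w, rfl⟩ := hv'
        exact coord_mem_of_mulVec (F.d (i + 1)) _ (hmin (i + 1)) w c
      have hH : ∀ (q : ℕ) (j : ℤ), d + i + 1 - q < j →
          HVs (am k n) (Fi F i) (LinearMap.range (dL F i)) q j := ih2
      have h1 := deg_le_of_HVs (F.deg (i + 1)) (dL F i) (dL_isGrHom F i) hker (d + i + 1) hH
      refine ⟨fun b => by have := h1 b; push_cast; omega, ?_⟩
      have h2 := HVs_ker_of (F.deg (i + 1)) (dL F i) hn (dL_isGrHom F i) (d + i + 1) h1 hH
      intro q j hj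
      rw [← ker_dL]
      apply h2
      push_cast at hj
      omega
  intro i b
  exact (key i).1 b

end Main

end Groth.Agent.H2.GrEG
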