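import Mathlib
import Groth.Agent.Lib.Helper2.GrEG11

/-! The Eisenbud–Goto theorem: generator degrees of a minimal graded free resolution versus
graded local cohomology, in terms of arbitrary *injective resolutions, with the gradings of the
statement rows (valued in submodules over the field). -/

universe u
open DirectSum GrLC Groth.Agent.H6 Groth.Agent.H6.Gr Groth.Agent.H2.GrEGT MvPolynomial
set_option linter.unusedSectionVars false

namespace Groth.Agent.H2.GrEG

section EndDeg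

variable {H : Type u} [AddCommGroup H] (𝒢 : ℤ → AddSubgroup H)

theorem endDeg_le_iff (c : ℤ) :
    GrLC.endDeg 𝒢 ≤ ((c : WithTop ℤ) : WithBot (WithTop ℤ)) ↔ ∀ j : ℤ, c < j → 𝒢 j = ⊥ := by
  unfold GrLC.endDeg
  rw [iSup₂_le_iff]
  constructor
  · intro h j hj
    by_contra hne
    have := h j hne
    rw [WithBot.coe_le_coe, WithTop.coe_le_coe] at this
    omega
  · intro h j hne
    rw [WithBot.coe_le_coe, WithTop.coe_le_coe]
    by_contra hlt
    exact hne (h j (by omega))

theorem endDeg_add_le_iff (i : ℕ) (d : ℤ) :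
    GrLC.endDeg 𝒢 + (((i : ℤ) : WithTop ℤ) : WithBot (WithTop ℤ)) ≤
      ((d : WithTop ℤ) : WithBot (WithTop ℤ)) ↔ ∀ j : ℤ, d - i < j → 𝒢 j = ⊥ := by
  rw [← endDeg_le_iff]
  generalize GrLC.endDeg 𝒢 = s
  induction s with
  | bot => simp
  | coe y =>
    induction y with
    | top =>
      constructor
      · intro h
        rw [← WithBot.coe_add, WithBot.coe_le_coe, WithTop.top_add] at h
        exact absurd h (by simp)
      · intro h
        rw [WithBot.coe_le_coe] at h
        exact absurd h (by simp)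
    | coe m =>
      rw [← WithBot.coe_add, ← WithTop.coe_add, WithBot.coe_le_coe, WithTop.coe_le_coe,
        WithBot.coe_le_coe, WithTop.coe_le_coe]
      omega

end EndDeg

section Transfer

variable {k : Type u} [Field k] {n : ℕ}
  {M : Type u} [AddCommGroup M] [Module k M] [Module (MvPolynomial (Fin n) k) M]
  (ℳ : ℤ → Submodule k M) [DirectSum.Decomposition ℳ]
  [SetLike.GradedSMul (GrSyz.stdGr k (Fin n)) ℳ]

/-- the module of a statement row, with `AddSubgroup`-valued gradings -/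
noncomputable abbrev Xrow : GMod.{u} (As k n) := toGMod (GrSyz.stdGr k (Fin n)) ℳ

theorem HV_row_iff (E : GrLC.StarInjRes (GrSyz.stdGr k (Fin n)) ℳ) (q : ℕ) (j : ℤ) :
    HV (am k n) (Xrow ℳ) q j ↔ E.Hgr (GrSyz.irrel (GrSyz.stdGr k (Fin n))) q j = ⊥ := by
  constructor
  · intro h
    exact h (resTo (GrSyz.stdGr k (Fin n)) ℳ E)
  · intro h
    exact HV_of_one (am k n) (resTo (GrSyz.stdGr k (Fin n)) ℳ E) h

theorem Hcomp_eq_bot_iff (E : GrLC.StarInjRes (GrSyz.stdGr k (Fin n)) ℳ) (q : ℕ) (j : ℤ) :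
    E.Hcomp (GrSyz.irrel (GrSyz.stdGr k (Fin n))) q j = ⊥ ↔
      E.Hgr (GrSyz.irrel (GrSyz.stdGr k (Fin n))) q j = ⊥ := by
  unfold GrLC.StarInjRes.Hgr
  rw [← Submodule.toAddSubgroup_inj, Submodule.bot_toAddSubgroup]

variable (F : GrSyz.FreeRes (GrSyz.stdGr k (Fin n)) ℳ)

/-- **Eisenbud–Goto**, for a minimal resolution and an arbitrary *injective resolution -/
theorem isGenLE_iff (hn : 0 < n)
    (hF : F.IsMinimal (GrSyz.irrel (GrSyz.stdGr k (Fin n))).toIdeal)
    (E : GrLC.StarInjRes (GrSyz.stdGr k (Fin n)) ℳ) (d : ℤ) :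
    F.IsGenLE d ↔ ∀ (q : ℕ) (j : ℤ), d - q < j →
      E.Hgr (GrSyz.irrel (GrSyz.stdGr k (Fin n))) q j = ⊥ := by
  constructor
  · intro h q j hj
    rw [← HV_row_iff]
    exact HV_of_isGenLE' (freeResTo (GrSyz.stdGr k (Fin n)) ℳ F) d h q j hj
  · intro h
    exact isGenLE_of_HV (freeResTo (GrSyz.stdGr k (Fin n)) ℳ F) hn hF d
      (fun q j hj => (HV_row_iff ℳ E q j).mpr (h q j hj))

/-- weak regularity implies regularity, for an arbitrary *injective resolution -/
theorem Hgr_eq_bot_of_weak (E : GrLC.StarInjRes (GrSyz.stdGr k (Fin n)) ℳ) (d : ℤ)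
    (h0 : ∀ j : ℤ, d < j → E.Hgr (GrSyz.irrel (GrSyz.stdGr k (Fin n))) 0 j = ⊥)
    (hw : ∀ i : ℕ, E.Hgr (GrSyz.irrel (GrSyz.stdGr k (Fin n))) (i + 1) (d - (i + 1) + 1) = ⊥) :
    ∀ (q : ℕ) (j : ℤ), d - q < j → E.Hgr (GrSyz.irrel (GrSyz.stdGr k (Fin n))) q j = ⊥ := by
  intro q j hj
  cases q with
  | zero => exact h0 j (by simpa using hj)
  | succ q =>
    rw [← HV_row_iff]
    apply HV_of_weak' (am k n) (x := fun i : Fin n => (X i : MvPolynomial (Fin n) k)) (Xrow ℳ)
      (X_mem_one k n) (am_eq_span k n).le d ?_ q j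
    · push_cast at hj
      omega
    · intro i
      rw [HV_row_iff ℳ E]
      exact hw i

end Transfer

end Groth.Agent.H2.GrEG
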