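import Mathlib
import Groth.Agent.Lib.Helper2.GrEG12
import Groth.Agent.Lib.Helper6.LCGroVanish
import Groth.Agent.Lib.Helper6.GrLCCompare

/-! Graded local cohomology: Grothendieck vanishing above the dimension of the support, and
vanishing of a single piece read off from the degrees of one term of a graded free resolution. -/

universe u
open DirectSum GrLC Groth.Agent.H6 Groth.Agent.H6.Gr Groth.Agent.H2.GrEGT MvPolynomial
set_option linter.unusedSectionVars false

namespace Groth.Agent.H2.GrEG

section GV

variable {R : Type u} [CommRing R] [IsNoetherianRing R] {𝒜 : ℤ → AddSubgroup R} [GradedRing 𝒜]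
  (a : HomogeneousIdeal 𝒜)

/-- **Grothendieck vanishing**, graded form -/
theorem HV_of_supportDim_lt (X : GMod.{u} 𝒜) [Module.Finite R X.carrier] (q : ℕ)
    (hq : Module.supportDim R X.carrier < (q : WithBot ℕ∞)) (j : ℤ) : HV a X q j := by
  intro E
  obtain ⟨e⟩ := nonempty_H_equiv 𝒜 X.gr E a q
  have hs : Subsingleton (LocCoh.H a.toIdeal q X.carrier) :=
    LC.subsingleton_of_supportDim_lt a.toIdeal X.carrier q hq
  rw [eq_bot_iff]
  intro y _
  rw [AddSubgroup.mem_bot]
  apply e.injective
  exact Subsingleton.elim _ _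

end GV

section Syz

variable {k : Type u} [Field k] {n : ℕ} {Xm : GMod.{u} (As k n)}
  (F : GrSyz.FreeRes (As k n) Xm.gr)

/-- the degree-`j` piece of `H^{q₀}` vanishes as soon as the term of the resolution at position
`n - q₀` has no basis vector of degree at least `j + n` -/
theorem HV_of_deg (q₀ : ℕ) (j : ℤ)
    (hdeg : ∀ p, q₀ + p = n → ∀ b : Fin (F.rk p), -(n : ℤ) < j - F.deg p b) :
    HV (am k n) Xm q₀ j := by
  have hF : ∀ p, HV (am k n) (Fi F p) (q₀ + p) j := by
    intro p
    apply HV_Fg
    intro b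
    by_cases h : q₀ + p = n
    · right
      exact hdeg p h b
    · left
      exact h
  have key : ∀ m' i, n + 1 ≤ q₀ + i + 1 + m' →
      HVs (am k n) (Fi F i) (Ki F i) (q₀ + i + 1) j := by
    intro m'
    induction m' with
    | zero =>
      intro i hi G ι _ _ _
      exact HV_of_gt (am k n) (x := fun i : Fin n => (X i : MvPolynomial (Fin n) k)) G
        (am_eq_span k n) (q₀ + i + 1) (by omega) j
    | succ m' ih =>
      intro i hi
      have h1 : HVs (am k n) (Fi F (i + 1)) ⊤ (q₀ + i + 1) j := by
        rw [HVs_top_iff]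
        exact hF (i + 1)
      have h2 : HVs (am k n) (Fi F (i + 1)) (⊤ ⊓ LinearMap.ker (dL F i)) (q₀ + i + 1 + 1) j := by
        rw [top_inf_eq, ker_dL]
        exact ih (i + 1) (by omega)
      have h3 := HVs_map_right (am k n) (dL_isGrHom F i) (top_isHomogeneous _) h1 h2
      rw [Submodule.map_top] at h3
      exact h3
  have h1 : HVs (am k n) (Fi F 0) ⊤ q₀ j := by
    rw [HVs_top_iff]
    exact hF 0
  have h2 : HVs (am k n) (Fi F 0) (⊤ ⊓ LinearMap.ker (aL F)) (q₀ + 1) j := by
    rw [top_inf_eq, ker_aL]
    exact key (n + 1) 0 (by omega)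
  have h3 := HVs_map_right (am k n) (aL_isGrHom F) (top_isHomogeneous _) h1 h2
  have h4 : LinearMap.range (aL F) = ⊤ := LinearMap.range_eq_top.mpr F.aug_surjective
  rw [Submodule.map_top, h4, HVs_top_iff] at h3
  exact h3

end Syz

end Groth.Agent.H2.GrEG
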