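import Mathlib
import Groth.Agent.Lib.Helper2.GrCM1
import Groth.Agent.Lib.Helper2.GrAB

/-! For a Cohen–Macaulay graded module over a polynomial ring, the regularity is attained at the
last term of the minimal graded free resolution. -/

universe u
open DirectSum GrLC Groth.Agent.H6 Groth.Agent.H6.Gr Groth.Agent.H2.GrEGT MvPolynomial
set_option linter.unusedSectionVars false

namespace Groth.Agent.H2.GrEG

variable {k : Type u} [Field k] {n : ℕ}
  {M : Type u} [AddCommGroup M] [Module k M] [Module (MvPolynomial (Fin n) k) M]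
  [IsScalarTower k (MvPolynomial (Fin n) k) M] [Module.Finite (MvPolynomial (Fin n) k) M]
  {ℳ : ℤ → Submodule k M} [DirectSum.Decomposition ℳ]
  [SetLike.GradedSMul (GrSyz.stdGr k (Fin n)) ℳ]

theorem exists_top_deg (hn : 0 < n) (F : GrSyz.FreeRes (GrSyz.stdGr k (Fin n)) ℳ)
    (hF : F.IsMinimal (GrSyz.irrel (GrSyz.stdGr k (Fin n))).toIdeal)
    (ℓ : ℕ) (hℓ : F.HasLengthLE ℓ) (hℓ' : F.rk ℓ ≠ 0)
    (ρ : ℤ) (hρ : F.IsGenLE ρ) (hρ' : ∃ (i : ℕ) (b : Fin (F.rk i)), F.deg i b = ρ + i)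
    (hCM : Module.supportDim (MvPolynomial (Fin n) k) M =
      ((LocCoh.idealDepth (GrSyz.irrel (GrSyz.stdGr k (Fin n))).toIdeal M : ℕ∞) : WithBot ℕ∞)) :
    ∃ b : Fin (F.rk ℓ), F.deg ℓ b = ρ + ℓ := by
  classical
  have hAB := GrAB.main F hF ℓ hℓ hℓ'
  obtain ⟨δ, hδ⟩ : ∃ δ : ℕ, LocCoh.idealDepth (GrSyz.irrel (GrSyz.stdGr k (Fin n))).toIdeal M = δ := by
    cases h : LocCoh.idealDepth (GrSyz.irrel (GrSyz.stdGr k (Fin n))).toIdeal M with
    | top =>
      rw [h] at hAB
      simp at hAB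
    | coe δ => exact ⟨δ, rfl⟩
  rw [hδ] at hAB hCM
  have hsum : ℓ + δ = n := by exact_mod_cast hAB
  haveI : Module.Finite (MvPolynomial (Fin n) k) (Xrow (k := k) (n := n) ℳ).carrier :=
    inferInstanceAs (Module.Finite (MvPolynomial (Fin n) k) M)
  have hGV : ∀ q, δ < q → ∀ j, HV (am k n) (Xrow (k := k) (n := n) ℳ) q j := by
    intro q hq j
    apply HV_of_supportDim_lt (am k n) (Xrow (k := k) (n := n) ℳ) q _ j
    show Module.supportDim (MvPolynomial (Fin n) k) M < _
    rw [hCM]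
    exact_mod_cast hq
  obtain ⟨i₀, b₀, hb₀⟩ := hρ'
  have hnot : ¬ F.IsGenLE (ρ - 1) := by
    intro h
    have := h i₀ b₀
    omega
  by_contra hcon
  push Not at hcon
  have hlt : ∀ b : Fin (F.rk ℓ), F.deg ℓ b ≤ ρ + ℓ - 1 := by
    intro b
    have h1 := hρ ℓ b
    have h2 := hcon b
    omega
  apply hnot
  have key := isGenLE_of_HV (freeResTo (GrSyz.stdGr k (Fin n)) ℳ F) hn hF (ρ - 1) (by
    intro q j hj
    by_cases hq : δ < q
    · exact hGV q hq j
    · apply HV_of_deg (freeResTo (GrSyz.stdGr k (Fin n)) ℳ F) q j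
      intro p hp b
      have hb : b.val < F.rk p := b.2
      have hpℓ : p ≤ ℓ := by
        by_contra hgt
        have := hℓ p (by omega)
        omega
      have hpe : p = ℓ := by omega
      subst hpe
      have := hlt b
      show -(n : ℤ) < j - F.deg p b
      have hq' : (q : ℤ) ≤ δ := by exact_mod_cast (not_lt.1 hq)
      have hs' : (p : ℤ) + δ = n := by exact_mod_cast hsum
      have hp' : (q : ℤ) + p = n := by exact_mod_cast hp
      omega)
  exact key

end Groth.Agent.H2.GrEG
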