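import Mathlib
import Groth.Prelude.Def_GrSyz
import Groth.Agent.Lib.Helper2.GrComp
import Groth.Agent.Lib.Helper2.GrSyzMin

/-! The Hilbert function of a graded module with a finite graded free resolution, over a graded
algebra with finite-dimensional pieces. -/

universe u

namespace Groth.Agent.H2.GrHilbRes

open GrComp

variable {k : Type u} [Field k] {S : Type u} [CommRing S] [Algebra k S]
  (𝒜 : ℤ → Submodule k S) [GradedRing 𝒜]

/-- The degree `d` piece of a free module with shifted basis degrees, as a `k`-subspace. -/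
def piece {n : ℕ} (e : Fin n → ℤ) (d : ℤ) : Submodule k (Fin n → S) where
  carrier := {v | ∀ b, v b ∈ 𝒜 (d - e b)}
  add_mem' := fun hv hw b => (𝒜 _).add_mem (hv b) (hw b)
  zero_mem' := fun _ => (𝒜 _).zero_mem
  smul_mem' := fun c _ hv b => (𝒜 _).smul_mem c (hv b)

lemma mem_piece_iff {n : ℕ} (e : Fin n → ℤ) (d : ℤ) (v : Fin n → S) :
    v ∈ piece 𝒜 e d ↔ (free 𝒜 e).IsHom d v := Iff.rfl

/-- The piece is a product of pieces of the ring. -/
def pieceEquiv {n : ℕ} (e : Fin n → ℤ) (d : ℤ) :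
    piece 𝒜 e d ≃ₗ[k] ((b : Fin n) → 𝒜 (d - e b)) where
  toFun v b := ⟨v.1 b, v.2 b⟩
  invFun w := ⟨fun b => (w b : S), fun b => (w b).2⟩
  map_add' _ _ := rfl
  map_smul' _ _ := rfl
  left_inv _ := rfl
  right_inv _ := rfl

variable [∀ j, FiniteDimensional k (𝒜 j)]

instance {n : ℕ} (e : Fin n → ℤ) (d : ℤ) : FiniteDimensional k (piece 𝒜 e d) :=
  Module.Finite.equiv (pieceEquiv 𝒜 e d).symm

lemma finrank_piece {n : ℕ} (e : Fin n → ℤ) (d : ℤ) :
    Module.finrank k (piece 𝒜 e d) = ∑ b, Module.finrank k (𝒜 (d - e b)) := by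
  rw [(pieceEquiv 𝒜 e d).finrank_eq, Module.finrank_pi_fintype]

section Maps

variable {𝒜} {T : Type u} [AddCommGroup T] [Module S T] [Module k T] [IsScalarTower k S T]
  (C : Comp 𝒜 T) (P : Submodule k T) (d : ℤ) (hP : ∀ t, t ∈ P ↔ C.IsHom d t)
  {n' : ℕ} (e' : Fin n' → ℤ) (L : (Fin n' → S) →ₗ[S] T)
  (hL : ∀ j w, C.comp j (L w) = L ((free 𝒜 e').comp j w))

include hP hL

lemma map_mem_piece (w : Fin n' → S) (hw : w ∈ piece 𝒜 e' d) : L w ∈ P := by
  rw [hP]
  have h1 := C.comp_mem d (L w)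
  rw [hL, (free 𝒜 e').comp_same d w hw] at h1
  exact h1

/-- The restriction of a graded map to the pieces of degree `d`. -/
def restr : piece 𝒜 e' d →ₗ[k] P :=
  (L.restrictScalars k).restrict (fun w hw => map_mem_piece C P d hP e' L hL w hw)

lemma restr_apply (w : piece 𝒜 e' d) : ((restr C P d hP e' L hL w : P) : T) = L w.1 := rfl

lemma restr_surjective (hsurj : Function.Surjective L) :
    Function.Surjective (restr C P d hP e' L hL) := by
  rintro ⟨t, ht⟩
  obtain ⟨w, rfl⟩ := hsurj t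
  refine ⟨⟨(free 𝒜 e').comp d w, (free 𝒜 e').comp_mem d w⟩, Subtype.ext ?_⟩
  show L ((free 𝒜 e').comp d w) = L w
  rw [← hL, C.comp_same d _ ((hP _).1 ht)]

lemma ker_restr_eq_range {n'' : ℕ} (e'' : Fin n'' → ℤ) (L' : (Fin n'' → S) →ₗ[S] (Fin n' → S))
    (hL' : ∀ j w, (free 𝒜 e').comp j (L' w) = L' ((free 𝒜 e'').comp j w))
    (hex : LinearMap.ker L = LinearMap.range L') :
    LinearMap.ker (restr C P d hP e' L hL) =
      LinearMap.range (restr (free 𝒜 e') (piece 𝒜 e' d) d (fun _ => Iff.rfl) e'' L' hL') := by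
  ext w
  constructor
  · intro hw
    have hw0 : L w.1 = 0 := congrArg Subtype.val hw
    have hmem : w.1 ∈ LinearMap.ker L := hw0
    rw [hex] at hmem
    obtain ⟨u, hu⟩ := hmem
    refine ⟨⟨(free 𝒜 e'').comp d u, (free 𝒜 e'').comp_mem d u⟩, Subtype.ext ?_⟩
    show L' ((free 𝒜 e'').comp d u) = w.1
    rw [← hL', hu, (free 𝒜 e').comp_same d w.1 w.2]
  · rintro ⟨u, rfl⟩
    apply Subtype.ext
    show L (L' u.1) = 0
    have : L' u.1 ∈ LinearMap.ker L := by
      rw [hex]
      exact ⟨u.1, rfl⟩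
    exact this

end Maps

/-- Telescoping alternating sum. -/
lemma alternating_sum_eq (v z : ℕ → ℤ) (w : ℤ) (h0 : v 0 = z 0 + w)
    (hs : ∀ i, v (i + 1) = z (i + 1) + z i) (n : ℕ) :
    ∑ i ∈ Finset.range (n + 1), (-1 : ℤ) ^ i * v i = w + (-1 : ℤ) ^ n * z n := by
  induction n with
  | zero => simp [h0, add_comm]
  | succ n ih =>
    rw [Finset.sum_range_succ, ih, hs n, pow_succ]
    ring

section Main

variable {𝒜} {M : Type u} [AddCommGroup M] [Module k M] [Module S M] [IsScalarTower k S M]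
  {ℳ : ℤ → Submodule k M} [DirectSum.Decomposition ℳ] [SetLike.GradedSMul 𝒜 ℳ]
  (F : GrSyz.FreeRes 𝒜 ℳ)

lemma graded_aug (j : ℤ) (w : Fin (F.rk 0) → S) :
    (ofDecomposition 𝒜 ℳ).comp j (Fintype.linearCombination S F.aug w) =
      Fintype.linearCombination S F.aug ((free 𝒜 (F.deg 0)).comp j w) :=
  comp_linearCombination (ofDecomposition 𝒜 ℳ) F.aug (F.deg 0) F.aug_mem w j

lemma graded_d (i : ℕ) (j : ℤ) (w : Fin (F.rk (i + 1)) → S) :
    (free 𝒜 (F.deg i)).comp j (Matrix.mulVecLin (F.d i) w) =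
      Matrix.mulVecLin (F.d i) ((free 𝒜 (F.deg (i + 1))).comp j w) := by
  rw [← GrSyzMin.linearCombination_columns, ← GrSyzMin.linearCombination_columns]
  exact comp_linearCombination (free 𝒜 (F.deg i)) (fun b a => F.d i a b) (F.deg (i + 1))
    (fun b a => F.d_mem i a b) w j

/-- The differential in degree `d`. -/
noncomputable def φ (d : ℤ) (i : ℕ) :
    piece 𝒜 (F.deg (i + 1)) d →ₗ[k] piece 𝒜 (F.deg i) d :=
  restr (free 𝒜 (F.deg i)) (piece 𝒜 (F.deg i) d) d (fun _ => Iff.rfl) (F.deg (i + 1))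
    (Matrix.mulVecLin (F.d i)) (fun j w => graded_d F i j w)

/-- The augmentation in degree `d`. -/
noncomputable def ψ (d : ℤ) : piece 𝒜 (F.deg 0) d →ₗ[k] ℳ d :=
  restr (ofDecomposition 𝒜 ℳ) (ℳ d) d (fun _ => Iff.rfl) (F.deg 0)
    (Fintype.linearCombination S F.aug) (fun j w => graded_aug F j w)

lemma ker_ψ (d : ℤ) : LinearMap.ker (ψ F d) = LinearMap.range (φ F d 0) :=
  ker_restr_eq_range (ofDecomposition 𝒜 ℳ) (ℳ d) d (fun _ => Iff.rfl) (F.deg 0)
    (Fintype.linearCombination S F.aug) (fun j w => graded_aug F j w) (F.deg 1)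
    (Matrix.mulVecLin (F.d 0)) (fun j w => graded_d F 0 j w) F.exact_zero

lemma ker_φ (d : ℤ) (i : ℕ) : LinearMap.ker (φ F d i) = LinearMap.range (φ F d (i + 1)) :=
  ker_restr_eq_range (free 𝒜 (F.deg i)) (piece 𝒜 (F.deg i) d) d (fun _ => Iff.rfl) (F.deg (i + 1))
    (Matrix.mulVecLin (F.d i)) (fun j w => graded_d F i j w) (F.deg (i + 2))
    (Matrix.mulVecLin (F.d (i + 1))) (fun j w => graded_d F (i + 1) j w) (F.exact_succ i)

lemma ψ_surjective (d : ℤ) : Function.Surjective (ψ F d) :=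
  restr_surjective (ofDecomposition 𝒜 ℳ) (ℳ d) d (fun _ => Iff.rfl) (F.deg 0)
    (Fintype.linearCombination S F.aug) (fun j w => graded_aug F j w) F.aug_surjective

/-- The Hilbert function from a finite graded free resolution. -/
theorem hilbert_eq (m : ℕ) (hF : F.HasLengthLE m) (d : ℤ) :
    (Module.finrank k (ℳ d) : ℤ) =
      ∑ i ∈ Finset.range (m + 1), (-1 : ℤ) ^ i *
        ∑ b : Fin (F.rk i), (Module.finrank k (𝒜 (d - F.deg i b)) : ℤ) := by
  have h0 : (Module.finrank k (piece 𝒜 (F.deg 0) d) : ℤ) =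
      (Module.finrank k (LinearMap.range (φ F d 0)) : ℤ) + (Module.finrank k (ℳ d) : ℤ) := by
    have h := LinearMap.finrank_range_add_finrank_ker (ψ F d)
    rw [LinearMap.range_eq_top.2 (ψ_surjective F d), finrank_top, ker_ψ] at h
    rw [← h]
    push_cast
    ring
  have hs : ∀ i, (Module.finrank k (piece 𝒜 (F.deg (i + 1)) d) : ℤ) =
      (Module.finrank k (LinearMap.range (φ F d (i + 1))) : ℤ) +
        (Module.finrank k (LinearMap.range (φ F d i)) : ℤ) := by
    intro i
    have h := LinearMap.finrank_range_add_finrank_ker (φ F d i)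
    rw [ker_φ] at h
    rw [← h]
    push_cast
    ring
  have hz : Module.finrank k (LinearMap.range (φ F d m)) = 0 := by
    have hrk : F.rk (m + 1) = 0 := hF (m + 1) (Nat.lt_succ_self m)
    have hsub : Subsingleton (piece 𝒜 (F.deg (m + 1)) d) := by
      constructor
      intro a b
      apply Subtype.ext
      funext x
      exact (Fin.elim0 (hrk ▸ x))
    have : LinearMap.range (φ F d m) = ⊥ := by
      rw [LinearMap.range_eq_bot]
      apply LinearMap.ext
      intro x
      rw [Subsingleton.elim x 0, map_zero]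
      rfl
    rw [this, finrank_bot]
  have key := alternating_sum_eq (fun i => (Module.finrank k (piece 𝒜 (F.deg i) d) : ℤ))
    (fun i => (Module.finrank k (LinearMap.range (φ F d i)) : ℤ)) (Module.finrank k (ℳ d) : ℤ)
    h0 hs m
  simp only [hz, Nat.cast_zero, mul_zero, add_zero] at key
  rw [← key]
  refine Finset.sum_congr rfl (fun i _ => ?_)
  rw [finrank_piece]
  push_cast
  rfl

end Main

end Groth.Agent.H2.GrHilbRes
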