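import Mathlib
import Groth.Prelude.Def_GrSyz
import Groth.Agent.Lib.Helper2.GrSyzBasic

/-! The dimension of the graded pieces of a polynomial ring with its standard `ℤ`-grading. -/

universe u

namespace Groth.Agent.H2.StdGrDim

open MvPolynomial

variable (k : Type u) [Field k] (r : ℕ)

lemma weight_one_eq_sum (d : Fin (r + 1) →₀ ℕ) :
    Finsupp.weight (fun _ : Fin (r + 1) => (1 : ℤ)) d = ((∑ i, d i : ℕ) : ℤ) := by
  rw [Finsupp.weight_apply, Finsupp.sum_fintype _ _ (fun i => by simp)]
  simp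

lemma setOf_weight_eq_of_nonneg (n : ℕ) :
    {d : Fin (r + 1) →₀ ℕ | Finsupp.weight (fun _ : Fin (r + 1) => (1 : ℤ)) d = (n : ℤ)} =
      ↑((Finset.univ : Finset (Fin (r + 1))).finsuppAntidiag n) := by
  ext d
  rw [Set.mem_ofPred_eq, Finset.mem_coe, Finset.mem_finsuppAntidiag, weight_one_eq_sum]
  constructor
  · intro h
    exact ⟨by exact_mod_cast h, Finset.subset_univ _⟩
  · rintro ⟨h, -⟩
    exact_mod_cast h

lemma setOf_weight_eq_of_neg (j : ℤ) (hj : j < 0) :
    {d : Fin (r + 1) →₀ ℕ | Finsupp.weight (fun _ : Fin (r + 1) => (1 : ℤ)) d = j} = ∅ := by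
  ext d
  simp only [Set.mem_ofPred_eq, Set.mem_empty_iff_false, iff_false]
  intro h
  have := GrSyzBasic.weight_one_nonneg (Fin (r + 1)) d
  omega

lemma stdGr_eq_restrictSupport (j : ℤ) :
    GrSyz.stdGr k (Fin (r + 1)) j =
      restrictSupport k {d | Finsupp.weight (fun _ : Fin (r + 1) => (1 : ℤ)) d = j} :=
  weightedHomogeneousSubmodule_eq_finsupp_supported k _ j

instance finiteDimensional_stdGr (j : ℤ) :
    FiniteDimensional k (GrSyz.stdGr k (Fin (r + 1)) j) := by
  rw [stdGr_eq_restrictSupport]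
  by_cases hj : 0 ≤ j
  · obtain ⟨n, rfl⟩ := Int.eq_ofNat_of_zero_le hj
    rw [setOf_weight_eq_of_nonneg]
    have : Finite ↑(↑((Finset.univ : Finset (Fin (r + 1))).finsuppAntidiag n) :
        Set (Fin (r + 1) →₀ ℕ)) := Finset.finite_toSet _ |>.to_subtype
    exact Module.Finite.of_basis (basisRestrictSupport k _)
  · rw [setOf_weight_eq_of_neg r j (by omega)]
    have : Finite ↑(∅ : Set (Fin (r + 1) →₀ ℕ)) := Set.finite_empty.to_subtype
    exact Module.Finite.of_basis (basisRestrictSupport k _)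

/-- The dimension of the space of homogeneous polynomials of degree `j` in `r + 1` variables. -/
theorem finrank_stdGr (j : ℤ) :
    Module.finrank k (GrSyz.stdGr k (Fin (r + 1)) j) =
      if 0 ≤ j then Nat.choose (r + j.toNat) r else 0 := by
  rw [stdGr_eq_restrictSupport]
  split_ifs with hj
  · obtain ⟨n, rfl⟩ := Int.eq_ofNat_of_zero_le hj
    rw [setOf_weight_eq_of_nonneg]
    rw [Module.finrank_eq_nat_card_basis (basisRestrictSupport k _)]
    rw [Nat.card_eq_fintype_card]
    have hc : Fintype.card ↑(↑((Finset.univ : Finset (Fin (r + 1))).finsuppAntidiag n) :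
        Set (Fin (r + 1) →₀ ℕ)) = ((Finset.univ : Finset (Fin (r + 1))).finsuppAntidiag n).card := by
      simp
    rw [hc, Finset.card_finsuppAntidiag_nat_eq_choose]
    simp only [Finset.card_univ, Fintype.card_fin, Int.toNat_natCast]
    rw [show r + 1 + n - 1 = r + n by omega, Nat.choose_symm_add]
  · rw [setOf_weight_eq_of_neg r j (by omega)]
    rw [Module.finrank_eq_nat_card_basis (basisRestrictSupport k _)]
    simp

end Groth.Agent.H2.StdGrDim
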