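import Mathlib
import Groth.Prelude.Def_GrSyz
import Groth.Agent.Lib.Helper2.StdGrDim
import Groth.Agent.Lib.Helper2.GrHilbRes

/-! The Hilbert function of a graded module over a polynomial ring with a finite graded free
resolution, versus its Hilbert polynomial: they differ in degree `ρ + ℓ - (number of variables)`
when the last term of the resolution has a basis vector of degree `ρ + ℓ` and all terms are
generated in degrees at most `ρ + i`. -/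

universe u

namespace Groth.Agent.H2.GrCM

open Polynomial

/-- the binomial polynomial `x ↦ C(x + r, r)` -/
noncomputable def B (r : ℕ) : Polynomial ℚ :=
  C (1 / (r.factorial : ℚ)) * (ascPochhammer ℚ r).comp (X + 1)

lemma eval_B (r : ℕ) (x : ℚ) :
    (B r).eval x = (1 / (r.factorial : ℚ)) * (ascPochhammer ℚ r).eval (x + 1) := by
  unfold B
  rw [eval_mul, eval_C, eval_comp, eval_add, eval_X, eval_one]

lemma eval_B_nat (r m : ℕ) : (B r).eval (m : ℚ) = ((r + m).choose r : ℚ) := by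
  rw [eval_B]
  have h1 : ((ascPochhammer ℕ r).eval (m + 1) : ℕ) = (m + 1).ascFactorial r :=
    ascPochhammer_nat_eq_ascFactorial (m + 1) r
  have h2 : (((ascPochhammer ℕ r).eval (m + 1) : ℕ) : ℚ) =
      (ascPochhammer ℚ r).eval (((m + 1 : ℕ)) : ℚ) := ascPochhammer_eval_cast ℚ r (m + 1)
  rw [h1, Nat.ascFactorial_eq_factorial_mul_choose] at h2
  push_cast at h2
  rw [← h2, add_comm r m]
  have hne : (r.factorial : ℚ) ≠ 0 := by exact_mod_cast r.factorial_ne_zero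
  field_simp

lemma eval_B_neg (r : ℕ) (j : ℤ) (hj1 : -(r : ℤ) ≤ j) (hj2 : j < 0) : (B r).eval (j : ℚ) = 0 := by
  rw [eval_B]
  obtain ⟨t, ht⟩ : ∃ t : ℕ, j + 1 = -(t : ℤ) := ⟨(-(j + 1)).toNat, by omega⟩
  have htr : t < r := by omega
  have : ((j : ℚ) + 1) = -((t : ℕ) : ℚ) := by exact_mod_cast ht
  rw [this, ascPochhammer_eval_neg_coe_nat_of_lt htr, mul_zero]

lemma eval_B_bottom (r : ℕ) : (B r).eval ((-(r : ℤ) - 1 : ℤ) : ℚ) = (-1) ^ r := by
  rw [eval_B]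
  have : (((-(r : ℤ) - 1 : ℤ) : ℚ) + 1) = -((r : ℕ) : ℚ) := by
    push_cast
    ring
  rw [this, ascPochhammer_eval_neg_eq_descPochhammer, descPochhammer_eval_eq_descFactorial,
    Nat.descFactorial_self]
  have hne : (r.factorial : ℚ) ≠ 0 := by exact_mod_cast r.factorial_ne_zero
  field_simp

variable (k : Type u) [Field k] (r : ℕ)

/-- the Hilbert function of the polynomial ring -/
noncomputable def hS (j : ℤ) : ℚ := (Module.finrank k (GrSyz.stdGr k (Fin (r + 1)) j) : ℚ)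

lemma hS_eq_eval_B (j : ℤ) (hj : -(r : ℤ) ≤ j) : hS k r j = (B r).eval (j : ℚ) := by
  unfold hS
  rw [StdGrDim.finrank_stdGr]
  by_cases h0 : 0 ≤ j
  · rw [if_pos h0]
    obtain ⟨m, rfl⟩ := Int.eq_ofNat_of_zero_le h0
    rw [Int.toNat_natCast]
    have := eval_B_nat r m
    rw [← this]
    norm_cast
  · rw [if_neg h0, eval_B_neg r j hj (by omega)]
    simp

lemma hS_of_lt (j : ℤ) (hj : j < 0) : hS k r j = 0 := by
  unfold hS
  rw [StdGrDim.finrank_stdGr, if_neg (by omega)]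
  simp

variable {k r}
variable {M : Type u} [AddCommGroup M] [Module k M] [Module (MvPolynomial (Fin (r + 1)) k) M]
  [IsScalarTower k (MvPolynomial (Fin (r + 1)) k) M]
  {ℳ : ℤ → Submodule k M} [DirectSum.Decomposition ℳ]
  [SetLike.GradedSMul (GrSyz.stdGr k (Fin (r + 1))) ℳ]
  (F : GrSyz.FreeRes (GrSyz.stdGr k (Fin (r + 1))) ℳ)

/-- the Hilbert function as an alternating sum -/
lemma hilbert_eq_hS (ℓ : ℕ) (hℓ : F.HasLengthLE ℓ) (d : ℤ) :
    (Module.finrank k (ℳ d) : ℚ) =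
      ∑ i ∈ Finset.range (ℓ + 1), (-1 : ℚ) ^ i * ∑ b : Fin (F.rk i), hS k r (d - F.deg i b) := by
  have h := GrHilbRes.hilbert_eq F ℓ hℓ d
  have h2 : ((Module.finrank k (ℳ d) : ℤ) : ℚ) = (Module.finrank k (ℳ d) : ℚ) := by norm_cast
  rw [← h2, h]
  push_cast
  rfl

/-- the candidate Hilbert polynomial -/
noncomputable def Q (ℓ : ℕ) : Polynomial ℚ :=
  ∑ i ∈ Finset.range (ℓ + 1), C ((-1 : ℚ) ^ i) *
    ∑ b : Fin (F.rk i), (B r).comp (X - C ((F.deg i b : ℤ) : ℚ))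

omit [IsScalarTower k (MvPolynomial (Fin (r + 1)) k) M] in
lemma eval_Q (ℓ : ℕ) (x : ℚ) :
    (Q F ℓ).eval x = ∑ i ∈ Finset.range (ℓ + 1), (-1 : ℚ) ^ i *
      ∑ b : Fin (F.rk i), (B r).eval (x - ((F.deg i b : ℤ) : ℚ)) := by
  unfold Q
  rw [eval_finsetSum]
  refine Finset.sum_congr rfl (fun i _ => ?_)
  rw [eval_mul, eval_C, eval_finsetSum]
  congr 1
  refine Finset.sum_congr rfl (fun b _ => ?_)
  rw [eval_comp, eval_sub, eval_X, eval_C]

theorem hilbert_ne (ℓ : ℕ) (hℓ : F.HasLengthLE ℓ) (ρ : ℤ) (hρ : F.IsGenLE ρ)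
    (b₀ : Fin (F.rk ℓ)) (hb₀ : F.deg ℓ b₀ = ρ + ℓ) (P : Polynomial ℚ)
    (hP : ∃ d₁ : ℤ, ∀ d : ℤ, d₁ ≤ d → ((Module.finrank k (ℳ d) : ℤ) : ℚ) = P.eval (d : ℚ)) :
    ((Module.finrank k (ℳ (ρ + ℓ - r - 1)) : ℤ) : ℚ) ≠ P.eval ((ρ + ℓ - r - 1 : ℤ) : ℚ) := by
  classical
  obtain ⟨d₁, hd₁⟩ := hP
  -- for large `d` the Hilbert function is `Q`
  have hlarge : ∀ d : ℤ, ρ + ℓ ≤ d → (Module.finrank k (ℳ d) : ℚ) = (Q F ℓ).eval (d : ℚ) := by
    intro d hd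
    rw [hilbert_eq_hS F ℓ hℓ d, eval_Q]
    refine Finset.sum_congr rfl (fun i hi => ?_)
    congr 1
    refine Finset.sum_congr rfl (fun b _ => ?_)
    have h1 := hρ i b
    have hi' : i ≤ ℓ := Nat.lt_succ_iff.1 (Finset.mem_range.1 hi)
    have hi'' : (i : ℤ) ≤ ℓ := by exact_mod_cast hi'
    rw [hS_eq_eval_B k r _ (by omega)]
    push_cast
    rfl
  have hPQ : P = Q F ℓ := by
    apply Polynomial.eq_of_infinite_eval_eq
    have hsub : Set.range (fun m : ℕ => ((max d₁ (ρ + ℓ) + m : ℤ) : ℚ)) ⊆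
        {x | eval x P = eval x (Q F ℓ)} := by
      rintro _ ⟨m, rfl⟩
      show eval _ P = eval _ (Q F ℓ)
      rw [← hd₁ _ (by omega), ← hlarge _ (by omega)]
      norm_cast
    refine Set.Infinite.mono hsub (Set.infinite_range_of_injective ?_)
    intro a b hab
    have hab' : ((max d₁ (ρ + ℓ) + a : ℤ) : ℚ) = ((max d₁ (ρ + ℓ) + b : ℤ) : ℚ) := hab
    have : (max d₁ (ρ + ℓ) + a : ℤ) = max d₁ (ρ + ℓ) + b := by exact_mod_cast hab'
    omega
  rw [hPQ]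
  have h2 : ((Module.finrank k (ℳ (ρ + ℓ - r - 1)) : ℤ) : ℚ) =
      (Module.finrank k (ℳ (ρ + ℓ - r - 1)) : ℚ) := by norm_cast
  rw [h2, hilbert_eq_hS F ℓ hℓ, eval_Q]
  intro heq
  -- the difference
  have hdiff : ∑ i ∈ Finset.range (ℓ + 1), (-1 : ℚ) ^ i * ∑ b : Fin (F.rk i),
      ((B r).eval (((ρ + ℓ - r - 1 : ℤ) : ℚ) - ((F.deg i b : ℤ) : ℚ)) -
        hS k r (ρ + ℓ - r - 1 - F.deg i b)) = 0 := by
    have : ∀ i ∈ Finset.range (ℓ + 1), (-1 : ℚ) ^ i * ∑ b : Fin (F.rk i),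
        ((B r).eval (((ρ + ℓ - r - 1 : ℤ) : ℚ) - ((F.deg i b : ℤ) : ℚ)) -
          hS k r (ρ + ℓ - r - 1 - F.deg i b)) =
        (-1 : ℚ) ^ i * ∑ b : Fin (F.rk i),
          (B r).eval (((ρ + ℓ - r - 1 : ℤ) : ℚ) - ((F.deg i b : ℤ) : ℚ)) -
        (-1 : ℚ) ^ i * ∑ b : Fin (F.rk i), hS k r (ρ + ℓ - r - 1 - F.deg i b) := by
      intro i _
      rw [Finset.sum_sub_distrib, mul_sub]
    rw [Finset.sum_congr rfl this, Finset.sum_sub_distrib, heq, sub_self]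
  -- evaluate the terms
  have hterm : ∀ (i : ℕ) (b : Fin (F.rk i)), i ≤ ℓ →
      (B r).eval (((ρ + ℓ - r - 1 : ℤ) : ℚ) - ((F.deg i b : ℤ) : ℚ)) -
        hS k r (ρ + ℓ - r - 1 - F.deg i b) =
      if F.deg i b = ρ + ℓ then (-1 : ℚ) ^ r else 0 := by
    intro i b hi
    have h1 := hρ i b
    have hi'' : (i : ℤ) ≤ ℓ := by exact_mod_cast hi
    have hcast : (((ρ + ℓ - r - 1 : ℤ) : ℚ) - ((F.deg i b : ℤ) : ℚ)) =
        ((ρ + ℓ - r - 1 - F.deg i b : ℤ) : ℚ) := by push_cast; ring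
    rw [hcast]
    split_ifs with hdeg
    · have : ρ + ℓ - r - 1 - F.deg i b = -(r : ℤ) - 1 := by omega
      rw [this, eval_B_bottom, hS_of_lt k r _ (by omega), sub_zero]
    · rw [hS_eq_eval_B k r _ (by omega), sub_self]
  rw [Finset.sum_range_succ] at hdiff
  have hzero : ∑ i ∈ Finset.range ℓ, (-1 : ℚ) ^ i * ∑ b : Fin (F.rk i),
      ((B r).eval (((ρ + ℓ - r - 1 : ℤ) : ℚ) - ((F.deg i b : ℤ) : ℚ)) -
        hS k r (ρ + ℓ - r - 1 - F.deg i b)) = 0 := by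
    apply Finset.sum_eq_zero
    intro i hi
    have hi' : i < ℓ := Finset.mem_range.1 hi
    rw [Finset.sum_eq_zero, mul_zero]
    intro b _
    rw [hterm i b hi'.le, if_neg]
    have h1 := hρ i b
    have hi'' : (i : ℤ) < ℓ := by exact_mod_cast hi'
    omega
  rw [hzero, zero_add] at hdiff
  have hlast : ∑ b : Fin (F.rk ℓ),
      ((B r).eval (((ρ + ℓ - r - 1 : ℤ) : ℚ) - ((F.deg ℓ b : ℤ) : ℚ)) -
        hS k r (ρ + ℓ - r - 1 - F.deg ℓ b)) =
      ((Finset.univ.filter (fun b : Fin (F.rk ℓ) => F.deg ℓ b = ρ + ℓ)).card : ℚ) * (-1) ^ r := by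
    rw [Finset.sum_congr rfl (fun b _ => hterm ℓ b le_rfl), Finset.sum_ite, Finset.sum_const_zero,
      add_zero, Finset.sum_const, nsmul_eq_mul]
  rw [hlast] at hdiff
  have hcard : 0 < (Finset.univ.filter (fun b : Fin (F.rk ℓ) => F.deg ℓ b = ρ + ℓ)).card :=
    Finset.card_pos.2 ⟨b₀, Finset.mem_filter.2 ⟨Finset.mem_univ _, hb₀⟩⟩
  have hne : ((Finset.univ.filter (fun b : Fin (F.rk ℓ) => F.deg ℓ b = ρ + ℓ)).card : ℚ) ≠ 0 := by
    exact_mod_cast hcard.ne'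
  have h3 : (-1 : ℚ) ^ ℓ ≠ 0 := pow_ne_zero _ (by norm_num)
  have h4 : (-1 : ℚ) ^ r ≠ 0 := pow_ne_zero _ (by norm_num)
  exact (mul_ne_zero h3 (mul_ne_zero hne h4)) hdiff

end Groth.Agent.H2.GrCM
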