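import Mathlib
import Groth.Prelude.Def_GrSyz
import Groth.Agent.Lib.Helper2.GrSyzBetti1

/-! Graded Betti numbers are independent of the minimal resolution: comparison maps. -/

universe u
open DirectSum

namespace Groth.Agent.H2.GrSyzBetti

section Mat
variable {R : Type u} [CommRing R]

/-- a matrix all of whose columns lie in the range of `D` factors through `D` -/
theorem exists_mul_eq_of_cols {l m n : ℕ} (D : Matrix (Fin l) (Fin m) R) (X : Matrix (Fin l) (Fin n) R)
    (h : ∀ z, (fun c => X c z) ∈ LinearMap.range (Matrix.mulVecLin D)) :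
    ∃ Y : Matrix (Fin m) (Fin n) R, D * Y = X := by
  choose y hy using h
  refine ⟨fun b z => y z b, ?_⟩
  ext c z
  have := congrFun (hy z) c
  rw [Matrix.mulVecLin_apply] at this
  rw [Matrix.mul_apply, ← this]
  rfl

theorem col_mem_ker_of_mul_eq_zero {k l n : ℕ} (D : Matrix (Fin k) (Fin l) R)
    (X : Matrix (Fin l) (Fin n) R) (h : D * X = 0) (z : Fin n) :
    (fun c => X c z) ∈ LinearMap.ker (Matrix.mulVecLin D) := by
  rw [LinearMap.mem_ker, Matrix.mulVecLin_apply]
  ext c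
  have := congrFun (congrFun h c) z
  rw [Matrix.mul_apply] at this
  exact this

theorem mul_eq_zero_of_range_le_ker {k l n : ℕ} (D : Matrix (Fin k) (Fin l) R)
    (E : Matrix (Fin l) (Fin n) R)
    (h : LinearMap.range (Matrix.mulVecLin E) ≤ LinearMap.ker (Matrix.mulVecLin D)) :
    D * E = 0 := by
  apply Matrix.mulVec_injective
  funext v
  rw [← Matrix.mulVec_mulVec, Matrix.zero_mulVec]
  have := LinearMap.mem_ker.mp (h ⟨v, rfl⟩)
  rwa [Matrix.mulVecLin_apply, Matrix.mulVecLin_apply] at this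

end Mat

section Res
variable {R : Type u} [CommRing R] {σ' : Type u} [SetLike σ' R] [AddSubgroupClass σ' R]
variable {𝒜 : ℤ → σ'} [GradedRing 𝒜]
variable {M : Type u} [AddCommGroup M] [Module R M] {τ : Type u} [SetLike τ M]
  [AddSubgroupClass τ M] {ℳ : ℤ → τ} [DirectSum.Decomposition ℳ] [SetLike.GradedSMul 𝒜 ℳ]

open GrSyz

theorem d_mul_d (F : FreeRes 𝒜 ℳ) (i : ℕ) : F.d i * F.d (i + 1) = 0 :=
  mul_eq_zero_of_range_le_ker _ _ (F.exact_succ i).ge

/-- the augmentation kills the first differential -/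
theorem aug_d (F : FreeRes 𝒜 ℳ) (z : Fin (F.rk 1)) : ∑ a, F.d 0 a z • F.aug a = 0 := by
  have h : Matrix.mulVecLin (F.d 0) (Pi.single z 1) ∈
      LinearMap.ker (Fintype.linearCombination R F.aug) := by
    rw [F.exact_zero]
    exact ⟨_, rfl⟩
  rw [LinearMap.mem_ker, Fintype.linearCombination_apply] at h
  rw [← h]
  apply Finset.sum_congr rfl
  intro a _
  rw [Matrix.mulVecLin_apply, Matrix.mulVec_single_one]
  rfl

/-- a comparison map between two resolutions of the same module -/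
structure Cmp (F F' : FreeRes 𝒜 ℳ) where
  /-- the matrices -/
  A : ∀ i, Matrix (Fin (F'.rk i)) (Fin (F.rk i)) R
  comm : ∀ i, F'.d i * A (i + 1) = A i * F.d i
  aug : ∀ a, ∑ b, A 0 b a • F'.aug b = F.aug a

/-- a stage of the construction of a comparison map -/
def Stage (F F' : FreeRes 𝒜 ℳ) (i : ℕ) : Type u :=
  {A : Matrix (Fin (F'.rk i)) (Fin (F.rk i)) R //
    ∃ Y : Matrix (Fin (F'.rk (i + 1))) (Fin (F.rk (i + 1))) R, F'.d i * Y = A * F.d i}

theorem exists_stage_zero (F F' : FreeRes 𝒜 ℳ) :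
    ∃ A : Matrix (Fin (F'.rk 0)) (Fin (F.rk 0)) R, (∀ a, ∑ b, A b a • F'.aug b = F.aug a) ∧
      ∃ Y : Matrix (Fin (F'.rk 1)) (Fin (F.rk 1)) R, F'.d 0 * Y = A * F.d 0 := by
  have h : ∀ a, ∃ v : Fin (F'.rk 0) → R, ∑ b, v b • F'.aug b = F.aug a := by
    intro a
    obtain ⟨v, hv⟩ := F'.aug_surjective (F.aug a)
    exact ⟨v, by rw [← hv, Fintype.linearCombination_apply]⟩
  choose v hv using h
  refine ⟨Matrix.of fun b a => v a b, hv, ?_⟩
  apply exists_mul_eq_of_cols
  intro z
  rw [← F'.exact_zero, LinearMap.mem_ker, Fintype.linearCombination_apply]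
  have h1 : ∀ b, ((Matrix.of fun b a => v a b : Matrix (Fin (F'.rk 0)) (Fin (F.rk 0)) R) * F.d 0) b z =
      ∑ a, v a b * F.d 0 a z := fun b => Matrix.mul_apply
  simp only [h1, Finset.sum_smul]
  rw [Finset.sum_comm]
  have h2 : ∀ a, ∑ b, (v a b * F.d 0 a z) • F'.aug b = F.d 0 a z • F.aug a := by
    intro a
    rw [← hv a, Finset.smul_sum]
    apply Finset.sum_congr rfl
    intro b _
    rw [smul_smul, mul_comm]
  simp only [h2]
  exact aug_d F z

theorem exists_stage_succ (F F' : FreeRes 𝒜 ℳ) (i : ℕ)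
    (A : Matrix (Fin (F'.rk i)) (Fin (F.rk i)) R)
    (Y : Matrix (Fin (F'.rk (i + 1))) (Fin (F.rk (i + 1))) R) (hY : F'.d i * Y = A * F.d i) :
    ∃ Y' : Matrix (Fin (F'.rk (i + 1 + 1))) (Fin (F.rk (i + 1 + 1))) R,
      F'.d (i + 1) * Y' = Y * F.d (i + 1) := by
  apply exists_mul_eq_of_cols
  intro z
  rw [← F'.exact_succ i]
  apply col_mem_ker_of_mul_eq_zero
  rw [← Matrix.mul_assoc, hY, Matrix.mul_assoc, d_mul_d, Matrix.mul_zero]

/-- the stages of the construction -/
noncomputable def stage (F F' : FreeRes 𝒜 ℳ) : (i : ℕ) → Stage F F' i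
  | 0 => ⟨(exists_stage_zero F F').choose, (exists_stage_zero F F').choose_spec.2⟩
  | i + 1 => ⟨(stage F F' i).2.choose,
      exists_stage_succ F F' i (stage F F' i).1 _ (stage F F' i).2.choose_spec⟩

/-- comparison maps exist -/
noncomputable def cmp (F F' : FreeRes 𝒜 ℳ) : Cmp F F' where
  A i := (stage F F' i).1
  comm i := (stage F F' i).2.choose_spec
  aug := (exists_stage_zero F F').choose_spec.1

end Res

end Groth.Agent.H2.GrSyzBetti
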