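import Mathlib
import Groth.Prelude.Def_GrSyz
import Groth.Agent.Lib.Helper2.GrSyzBetti2

/-! Graded Betti numbers are independent of the minimal resolution: the main comparison. -/

universe u
open DirectSum

namespace Groth.Agent.H2.GrSyzBetti

section Res
variable {R : Type u} [CommRing R] {σ' : Type u} [SetLike σ' R] [AddSubgroupClass σ' R]
variable {𝒜 : ℤ → σ'} [GradedRing 𝒜]
variable {M : Type u} [AddCommGroup M] [Module R M] {τ : Type u} [SetLike τ M]
  [AddSubgroupClass τ M] {ℳ : ℤ → τ} [DirectSum.Decomposition ℳ] [SetLike.GradedSMul 𝒜 ℳ]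

open GrSyz

/-- the graded part of a comparison map -/
noncomputable def Cmp.gr {F F' : FreeRes 𝒜 ℳ} (c : Cmp F F') : Cmp F F' where
  A i := grMat 𝒜 (F.deg i) (F'.deg i) (c.A i)
  comm i := by
    rw [← grMat_mul_left 𝒜 (F.deg (i + 1)) (F'.deg (i + 1)) (F'.deg i) (F'.d i) (F'.d_mem i)
      (c.A (i + 1)), c.comm i,
      grMat_mul_right 𝒜 (F.deg i) (F'.deg i) (F.deg (i + 1)) (c.A i) (F.d i) (F.d_mem i)]
  aug a := by
    have h := decompose_sum_smul 𝒜 ℳ (F'.deg 0) F'.aug F'.aug_mem (fun b => c.A 0 b a) (F.deg 0 a)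
    rw [c.aug a, DirectSum.decompose_of_mem_same ℳ (F.aug_mem a)] at h
    exact h.symm

theorem Cmp.gr_mem {F F' : FreeRes 𝒜 ℳ} (c : Cmp F F') (i : ℕ) (b : Fin (F'.rk i))
    (a : Fin (F.rk i)) : c.gr.A i b a ∈ 𝒜 (F.deg i a - F'.deg i b) :=
  grMat_mem 𝒜 _ _ _ b a

/-- a chain endomorphism of a minimal resolution lifting zero has all entries in `𝔪` -/
theorem entries_mem_of_null (F : FreeRes 𝒜 ℳ) (𝔪 : Ideal R) (hF : F.IsMinimal 𝔪)
    (χ : ∀ i, Matrix (Fin (F.rk i)) (Fin (F.rk i)) R)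
    (hcomm : ∀ i, F.d i * χ (i + 1) = χ i * F.d i)
    (haug : ∀ a, ∑ b, χ 0 b a • F.aug b = 0) :
    ∀ i a b, χ i a b ∈ 𝔪 := by
  have key : ∀ i, ∃ (h : Matrix (Fin (F.rk (i + 1))) (Fin (F.rk i)) R)
      (E : Matrix (Fin (F.rk i)) (Fin (F.rk i)) R),
      χ i = F.d i * h + E ∧ E * F.d i = 0 ∧ ∀ a b, E a b ∈ 𝔪 := by
    intro i
    induction i with
    | zero =>
      obtain ⟨h, hh⟩ := exists_mul_eq_of_cols (F.d 0) (χ 0) (by
        intro z
        rw [← F.exact_zero, LinearMap.mem_ker, Fintype.linearCombination_apply]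
        exact haug z)
      exact ⟨h, 0, by rw [hh, add_zero], Matrix.zero_mul _, fun a b => 𝔪.zero_mem⟩
    | succ i ih =>
      obtain ⟨h, E, h1, h2, h3⟩ := ih
      have h4 : F.d i * (χ (i + 1) - h * F.d i) = 0 := by
        rw [Matrix.mul_sub, hcomm i, h1, Matrix.add_mul, h2, add_zero, Matrix.mul_assoc, sub_self]
      obtain ⟨h', hh'⟩ := exists_mul_eq_of_cols (F.d (i + 1)) (χ (i + 1) - h * F.d i) (by
        intro z
        rw [← F.exact_succ i]
        exact col_mem_ker_of_mul_eq_zero _ _ h4 z)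
      refine ⟨h', h * F.d i, ?_, ?_, ?_⟩
      · rw [hh']
        abel
      · rw [Matrix.mul_assoc, d_mul_d, Matrix.mul_zero]
      · intro a b
        rw [Matrix.mul_apply]
        exact 𝔪.sum_mem fun c _ => 𝔪.mul_mem_left _ (hF i c b)
  intro i a b
  obtain ⟨h, E, h1, -, h3⟩ := key i
  rw [h1, Matrix.add_apply, Matrix.mul_apply]
  exact 𝔪.add_mem (𝔪.sum_mem fun c _ => 𝔪.mul_mem_right _ (hF i a c)) (h3 a b)

/-- the composite of two comparison maps is the identity modulo `𝔪` -/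
theorem comp_sub_one_mem (F F' : FreeRes 𝒜 ℳ) (𝔪 : Ideal R) (hF : F.IsMinimal 𝔪)
    (Φ : Cmp F F') (Ψ : Cmp F' F) (i : ℕ) (a b : Fin (F.rk i)) :
    (Ψ.A i * Φ.A i - 1 : Matrix (Fin (F.rk i)) (Fin (F.rk i)) R) a b ∈ 𝔪 := by
  apply entries_mem_of_null F 𝔪 hF
    (fun i => (Ψ.A i * Φ.A i - 1 : Matrix (Fin (F.rk i)) (Fin (F.rk i)) R))
  · intro i
    rw [Matrix.mul_sub, Matrix.sub_mul, Matrix.mul_one, Matrix.one_mul, ← Matrix.mul_assoc,
      Ψ.comm i, Matrix.mul_assoc, Φ.comm i, Matrix.mul_assoc]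
  · intro a
    have h1 : ∀ b, (Ψ.A 0 * Φ.A 0 - 1 : Matrix (Fin (F.rk 0)) (Fin (F.rk 0)) R) b a • F.aug b =
        (∑ c, (Ψ.A 0 b c * Φ.A 0 c a) • F.aug b) - (1 : Matrix _ _ R) b a • F.aug b := by
      intro b
      rw [Matrix.sub_apply, Matrix.mul_apply, sub_smul, Finset.sum_smul]
    simp only [h1, Finset.sum_sub_distrib]
    rw [Finset.sum_comm]
    have h2 : ∀ c, ∑ b, (Ψ.A 0 b c * Φ.A 0 c a) • F.aug b = Φ.A 0 c a • F'.aug c := by
      intro c
      rw [← Ψ.aug c, Finset.smul_sum]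
      apply Finset.sum_congr rfl
      intro b _
      rw [smul_smul, mul_comm]
    simp only [h2]
    rw [Φ.aug a]
    have h3 : ∑ b, (1 : Matrix _ _ R) b a • F.aug b = F.aug a := by
      rw [Finset.sum_eq_single a]
      · rw [Matrix.one_apply_eq, one_smul]
      · intro b _ hb
        rw [Matrix.one_apply_ne hb, zero_smul]
      · intro h
        exact absurd (Finset.mem_univ a) h
    rw [h3, sub_self]

/-- **graded Betti numbers of a minimal resolution are the smallest possible** -/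
theorem betti_le (F F' : FreeRes 𝒜 ℳ) (𝔪 : Ideal R) (hF : F.IsMinimal 𝔪)
    {K : Type*} [CommRing K] [Nontrivial K] (c : R →+* K) (hc𝔪 : ∀ x ∈ 𝔪, c x = 0)
    (hc : ∀ n : ℤ, n ≠ 0 → ∀ x ∈ 𝒜 n, c x = 0) (i : ℕ) (j : ℤ) :
    F.betti i j ≤ F'.betti i j := by
  classical
  set Φ := (cmp F F').gr with hΦ
  set Ψ := (cmp F' F).gr with hΨ
  have h1 : ∀ a a' : Fin (F.rk i), ∑ b, c (Ψ.A i a b) * c (Φ.A i b a') = if a = a' then 1 else 0 := by
    intro a a'
    have h : c ((Ψ.A i * Φ.A i - 1 : Matrix (Fin (F.rk i)) (Fin (F.rk i)) R) a a') = 0 :=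
      hc𝔪 _ (comp_sub_one_mem F F' 𝔪 hF Φ Ψ i a a')
    rw [Matrix.sub_apply, map_sub, sub_eq_zero, Matrix.mul_apply, map_sum] at h
    simp only [map_mul] at h
    rw [h, Matrix.one_apply]
    split_ifs
    · exact map_one c
    · exact map_zero c
  let I := {a : Fin (F.rk i) // F.deg i a = j}
  let I' := {b : Fin (F'.rk i) // F'.deg i b = j}
  let P : Matrix I' I K := Matrix.of fun b a => c (Φ.A i b.1 a.1)
  let Q : Matrix I I' K := Matrix.of fun a b => c (Ψ.A i a.1 b.1)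
  have hQP : Q * P = 1 := by
    ext a a'
    rw [Matrix.mul_apply]
    have h2 : ∑ b : I', Q a b * P b a' = ∑ b, c (Ψ.A i a.1 b) * c (Φ.A i b a'.1) := by
      have h3 : ∑ b, c (Ψ.A i a.1 b) * c (Φ.A i b a'.1) =
          ∑ b ∈ Finset.univ.filter (fun b => F'.deg i b = j),
            c (Ψ.A i a.1 b) * c (Φ.A i b a'.1) := by
        rw [Finset.sum_filter]
        apply Finset.sum_congr rfl
        intro b _
        split_ifs with hb
        · rfl
        · have hmem := Cmp.gr_mem (cmp F F') i b a'.1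
          have hne : F.deg i a'.1 - F'.deg i b ≠ 0 := by
            rw [a'.2]
            intro h
            apply hb
            omega
          rw [hΦ, hc _ hne _ hmem, mul_zero]
      rw [h3]
      exact (Finset.sum_subtype (Finset.univ.filter fun b => F'.deg i b = j) (by simp)
        (fun b => c (Ψ.A i a.1 b) * c (Φ.A i b a'.1))).symm
    rw [h2, h1, Matrix.one_apply]
    by_cases h : a = a'
    · rw [if_pos h, if_pos (congrArg Subtype.val h)]
    · rw [if_neg h, if_neg (fun h' => h (Subtype.ext h'))]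
  have hinj : Function.Injective (Matrix.mulVecLin P) := by
    intro v w hvw
    have := congrArg (Matrix.mulVec Q) hvw
    simp only [Matrix.mulVecLin_apply, Matrix.mulVec_mulVec, hQP, Matrix.one_mulVec] at this
    exact this
  have hcard := card_le_of_injective (R := K) (Matrix.mulVecLin P) hinj
  unfold FreeRes.betti
  rw [← Fintype.card_subtype, ← Fintype.card_subtype]
  exact hcard

theorem betti_eq (F F' : FreeRes 𝒜 ℳ) (𝔪 : Ideal R) (hF : F.IsMinimal 𝔪) (hF' : F'.IsMinimal 𝔪)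
    {K : Type*} [CommRing K] [Nontrivial K] (c : R →+* K) (hc𝔪 : ∀ x ∈ 𝔪, c x = 0)
    (hc : ∀ n : ℤ, n ≠ 0 → ∀ x ∈ 𝒜 n, c x = 0) (i : ℕ) (j : ℤ) :
    F.betti i j = F'.betti i j :=
  le_antisymm (betti_le F F' 𝔪 hF c hc𝔪 hc i j) (betti_le F' F 𝔪 hF' c hc𝔪 hc i j)

end Res

end Groth.Agent.H2.GrSyzBetti
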