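import Mathlib
import Groth.Prelude.Def_GrSyz
import Groth.Agent.Lib.Helper2.GrSyzBetti3

/-! Regularity as the supremum of `t_i - i` over a minimal resolution. -/

universe u
open DirectSum

namespace Groth.Agent.H2.GrSyzBetti

theorem iInf_coe_of_le (s : WithBot (WithTop ℤ)) :
    ⨅ (r : ℤ) (_ : s ≤ ((r : WithTop ℤ) : WithBot (WithTop ℤ))),
      ((r : WithTop ℤ) : WithBot (WithTop ℤ)) = s := by
  apply le_antisymm
  · induction s with
    | bot =>
      set x := ⨅ (r : ℤ) (_ : (⊥ : WithBot (WithTop ℤ)) ≤ ((r : WithTop ℤ) : WithBot (WithTop ℤ))),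
        ((r : WithTop ℤ) : WithBot (WithTop ℤ)) with hx
      have hle : ∀ r : ℤ, x ≤ ((r : WithTop ℤ) : WithBot (WithTop ℤ)) := fun r =>
        iInf_le_of_le r (iInf_le_of_le (bot_le : (⊥ : WithBot (WithTop ℤ)) ≤ _) le_rfl)
      clear_value x
      induction x with
      | bot => exact le_rfl
      | coe y =>
        exfalso
        induction y with
        | top =>
          have := hle 0
          rw [WithBot.coe_le_coe] at this
          exact absurd this (by simp)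
        | coe n =>
          have := hle (n - 1)
          rw [WithBot.coe_le_coe, WithTop.coe_le_coe] at this
          omega
    | coe y =>
      induction y with
      | top => exact le_top
      | coe n => exact iInf_le_of_le n (iInf_le_of_le le_rfl le_rfl)
  · exact le_iInf₂ fun r hr => hr

section Res
variable {R : Type u} [CommRing R] {σ' : Type u} [SetLike σ' R] [AddSubgroupClass σ' R]
variable {𝒜 : ℤ → σ'} [GradedRing 𝒜]
variable {M : Type u} [AddCommGroup M] [Module R M] {τ : Type u} [SetLike τ M]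
  [AddSubgroupClass τ M] {ℳ : ℤ → τ} [DirectSum.Decomposition ℳ] [SetLike.GradedSMul 𝒜 ℳ]

open GrSyz

omit [AddSubgroupClass σ' R] [GradedRing 𝒜] in
theorem isGenLE_iff_sup_le (F : FreeRes 𝒜 ℳ) (r : ℤ) :
    F.IsGenLE r ↔ (⨆ i : ℕ, WithBot.map (fun t : ℤ => ((t - (i : ℤ) : ℤ) : WithTop ℤ))
      (F.maxGenDeg i)) ≤ ((r : WithTop ℤ) : WithBot (WithTop ℤ)) := by
  rw [iSup_le_iff]
  apply forall_congr'
  intro i
  have h1 : ∀ x : WithBot ℤ, WithBot.map (fun t : ℤ => ((t - (i : ℤ) : ℤ) : WithTop ℤ)) x ≤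
      ((r : WithTop ℤ) : WithBot (WithTop ℤ)) ↔ x ≤ ((r + i : ℤ) : WithBot ℤ) := by
    intro x
    induction x with
    | bot => simp
    | coe t =>
      rw [WithBot.map_coe, WithBot.coe_le_coe, WithBot.coe_le_coe, WithTop.coe_le_coe]
      omega
  rw [h1]
  unfold FreeRes.maxGenDeg
  rw [Finset.sup_le_iff]
  constructor
  · intro h b _
    exact WithBot.coe_le_coe.2 (h b)
  · intro h b
    exact WithBot.coe_le_coe.1 (h b (Finset.mem_univ b))

omit [AddSubgroupClass σ' R] [GradedRing 𝒜] in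
theorem isGenLE_of_betti_le (F F' : FreeRes 𝒜 ℳ) (h : ∀ i j, F.betti i j ≤ F'.betti i j) (r : ℤ)
    (h' : F'.IsGenLE r) : F.IsGenLE r := by
  classical
  intro i b
  have h1 : 0 < F.betti i (F.deg i b) := by
    unfold FreeRes.betti
    rw [Finset.card_pos]
    exact ⟨b, by simp⟩
  have h2 : 0 < F'.betti i (F.deg i b) := lt_of_lt_of_le h1 (h i _)
  unfold FreeRes.betti at h2
  rw [Finset.card_pos] at h2
  obtain ⟨b', hb'⟩ := h2
  rw [Finset.mem_filter] at hb'
  rw [← hb'.2]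
  exact h' i b'

/-- **regularity is the supremum of `t_i - i` over a minimal resolution** -/
theorem reg_eq (F : FreeRes 𝒜 ℳ) (𝔪 : Ideal R) (hF : F.IsMinimal 𝔪)
    {K : Type*} [CommRing K] [Nontrivial K] (c : R →+* K) (hc𝔪 : ∀ x ∈ 𝔪, c x = 0)
    (hc : ∀ n : ℤ, n ≠ 0 → ∀ x ∈ 𝒜 n, c x = 0) :
    GrSyz.reg 𝒜 ℳ 𝔪 = ⨆ i : ℕ, WithBot.map (fun t : ℤ => ((t - (i : ℤ) : ℤ) : WithTop ℤ))
      (F.maxGenDeg i) := by
  have h1 : ∀ r : ℤ, IsRegLE 𝒜 ℳ 𝔪 r ↔ (⨆ i : ℕ, WithBot.map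
      (fun t : ℤ => ((t - (i : ℤ) : ℤ) : WithTop ℤ)) (F.maxGenDeg i)) ≤
      ((r : WithTop ℤ) : WithBot (WithTop ℤ)) := by
    intro r
    rw [← isGenLE_iff_sup_le]
    constructor
    · rintro ⟨F', hF', h'⟩
      exact isGenLE_of_betti_le F F' (fun i j => betti_le F F' 𝔪 hF c hc𝔪 hc i j) r h'
    · intro h
      exact ⟨F, hF, h⟩
  unfold GrSyz.reg
  simp only [h1]
  exact iInf_coe_of_le _

end Res

end Groth.Agent.H2.GrSyzBetti
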