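import Mathlib
import Groth.Agent.Lib.Helper2.GrEG12
import Groth.Agent.Lib.Helper2.GrSyzExist
import Groth.Agent.Lib.Helper2.GrSyzMin
import Groth.Agent.Lib.Helper2.GrSyzBetti4

/-! The regularity of a finitely generated graded module over a polynomial ring in terms of
graded local cohomology. -/

universe u
open DirectSum GrLC Groth.Agent.H6 Groth.Agent.H6.Gr Groth.Agent.H2.GrEGT MvPolynomial
set_option linter.unusedSectionVars false

namespace Groth.Agent.H2.GrEG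

section Reg

variable {k : Type u} [Field k] {n : ℕ}
  {M : Type u} [AddCommGroup M] [Module k M] [Module (MvPolynomial (Fin n) k) M]
  [Module.Finite (MvPolynomial (Fin n) k) M]
  (ℳ : ℤ → Submodule k M) [DirectSum.Decomposition ℳ]
  [SetLike.GradedSMul (GrSyz.stdGr k (Fin n)) ℳ]

/-- minimal graded free resolutions exist -/
theorem exists_minimal : ∃ F : GrSyz.FreeRes (GrSyz.stdGr k (Fin n)) ℳ,
    F.IsMinimal (GrSyz.irrel (GrSyz.stdGr k (Fin n))).toIdeal := by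
  obtain ⟨F, h0, hS⟩ := GrSyzExist.exists_freeRes_irredundant (GrSyz.stdGr k (Fin n)) ℳ
  exact ⟨F, GrSyzMin.isMinimal_of_irredundant F _
    (fun n x hx hx' => GrSyzMin.isUnit_of_mem_stdGr_of_notMem_irrel n x hx hx') h0 hS⟩

theorem isRegLE_iff (hn : 0 < n) (E : GrLC.StarInjRes (GrSyz.stdGr k (Fin n)) ℳ) (r : ℤ) :
    GrSyz.IsRegLE (GrSyz.stdGr k (Fin n)) ℳ (GrSyz.irrel (GrSyz.stdGr k (Fin n))).toIdeal r ↔
      ∀ (q : ℕ) (j : ℤ), r - q < j →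
        E.Hgr (GrSyz.irrel (GrSyz.stdGr k (Fin n))) q j = ⊥ := by
  constructor
  · rintro ⟨F, hF, hgen⟩
    exact (isGenLE_iff ℳ F hn hF E r).mp hgen
  · intro h
    obtain ⟨F, hF⟩ := exists_minimal (k := k) (n := n) ℳ
    exact ⟨F, hF, (isGenLE_iff ℳ F hn hF E r).mpr h⟩

theorem isRegLE_iff_iSup (hn : 0 < n) (E : GrLC.StarInjRes (GrSyz.stdGr k (Fin n)) ℳ) (r : ℤ) :
    GrSyz.IsRegLE (GrSyz.stdGr k (Fin n)) ℳ (GrSyz.irrel (GrSyz.stdGr k (Fin n))).toIdeal r ↔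
      (⨆ i : ℕ, (GrLC.endDeg (E.Hgr (GrSyz.irrel (GrSyz.stdGr k (Fin n))) i) +
        (((i : ℤ) : WithTop ℤ) : WithBot (WithTop ℤ)))) ≤
        ((r : WithTop ℤ) : WithBot (WithTop ℤ)) := by
  rw [isRegLE_iff ℳ hn E r, iSup_le_iff]
  apply forall_congr'
  intro i
  rw [endDeg_add_le_iff]

/-- **regularity is the supremum of `end H^i + i`** -/
theorem reg_eq_iSup (hn : 0 < n) (E : GrLC.StarInjRes (GrSyz.stdGr k (Fin n)) ℳ) :
    GrSyz.reg (GrSyz.stdGr k (Fin n)) ℳ (GrSyz.irrel (GrSyz.stdGr k (Fin n))).toIdeal =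
      ⨆ i : ℕ, (GrLC.endDeg (E.Hgr (GrSyz.irrel (GrSyz.stdGr k (Fin n))) i) +
        (((i : ℤ) : WithTop ℤ) : WithBot (WithTop ℤ))) := by
  unfold GrSyz.reg
  simp only [isRegLE_iff_iSup ℳ hn E]
  exact GrSyzBetti.iInf_coe_of_le _

/-- two extended integers with the same integer upper bounds are equal -/
theorem eq_of_forall_le_iff (s t : WithBot (WithTop ℤ))
    (h : ∀ r : ℤ, s ≤ ((r : WithTop ℤ) : WithBot (WithTop ℤ)) ↔
      t ≤ ((r : WithTop ℤ) : WithBot (WithTop ℤ))) : s = t := by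
  rw [← GrSyzBetti.iInf_coe_of_le s, ← GrSyzBetti.iInf_coe_of_le t]
  simp only [h]

/-- the regularity is characterised by its integer upper bounds -/
theorem reg_le_iff (hn : 0 < n) (E : GrLC.StarInjRes (GrSyz.stdGr k (Fin n)) ℳ) (r : ℤ) :
    GrSyz.reg (GrSyz.stdGr k (Fin n)) ℳ (GrSyz.irrel (GrSyz.stdGr k (Fin n))).toIdeal ≤
      ((r : WithTop ℤ) : WithBot (WithTop ℤ)) ↔
      ∀ (q : ℕ) (j : ℤ), r - q < j →
        E.Hgr (GrSyz.irrel (GrSyz.stdGr k (Fin n))) q j = ⊥ := by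
  rw [reg_eq_iSup ℳ hn E, ← isRegLE_iff_iSup ℳ hn E, isRegLE_iff ℳ hn E]

theorem isRegLE_iff_HV (hn : 0 < n) (r : ℤ) :
    GrSyz.IsRegLE (GrSyz.stdGr k (Fin n)) ℳ (GrSyz.irrel (GrSyz.stdGr k (Fin n))).toIdeal r ↔
      ∀ (q : ℕ) (j : ℤ), r - q < j → HV (am k n) (Xrow ℳ) q j := by
  constructor
  · rintro ⟨F, hF, hgen⟩ q j hj
    exact HV_of_isGenLE' (freeResTo (GrSyz.stdGr k (Fin n)) ℳ F) r hgen q j hj
  · intro h
    obtain ⟨F, hF⟩ := exists_minimal (k := k) (n := n) ℳ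
    exact ⟨F, hF, isGenLE_of_HV (freeResTo (GrSyz.stdGr k (Fin n)) ℳ F) hn hF r h⟩

theorem HV_iff_starInjRes (X : GMod.{u} (As k n)) (q : ℕ) (j : ℤ) :
    HV (am k n) X q j ↔ (starInjRes (As k n) X.gr).Hgr (am k n) q j = ⊥ :=
  ⟨fun h => h _, fun h => HV_of_one (am k n) _ h⟩

/-- the regularity is characterised by its integer upper bounds -/
theorem reg_le_iff_HV (hn : 0 < n) (r : ℤ) :
    GrSyz.reg (GrSyz.stdGr k (Fin n)) ℳ (GrSyz.irrel (GrSyz.stdGr k (Fin n))).toIdeal ≤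
      ((r : WithTop ℤ) : WithBot (WithTop ℤ)) ↔
      ∀ (q : ℕ) (j : ℤ), r - q < j → HV (am k n) (Xrow ℳ) q j := by
  set E' := starInjRes (As k n) (Xrow (k := k) (n := n) ℳ).gr with hE'
  have hs : ∀ r : ℤ, GrSyz.IsRegLE (GrSyz.stdGr k (Fin n)) ℳ
      (GrSyz.irrel (GrSyz.stdGr k (Fin n))).toIdeal r ↔
      (⨆ i : ℕ, (GrLC.endDeg (E'.Hgr (am k n) i) +
        (((i : ℤ) : WithTop ℤ) : WithBot (WithTop ℤ)))) ≤
        ((r : WithTop ℤ) : WithBot (WithTop ℤ)) := by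
    intro r
    rw [isRegLE_iff_HV ℳ hn r, iSup_le_iff]
    apply forall_congr'
    intro i
    rw [endDeg_add_le_iff]
    apply forall_congr'
    intro j
    rw [HV_iff_starInjRes]
  have hreg : GrSyz.reg (GrSyz.stdGr k (Fin n)) ℳ
      (GrSyz.irrel (GrSyz.stdGr k (Fin n))).toIdeal =
      ⨆ i : ℕ, (GrLC.endDeg (E'.Hgr (am k n) i) +
        (((i : ℤ) : WithTop ℤ) : WithBot (WithTop ℤ))) := by
    unfold GrSyz.reg
    simp only [hs]
    exact GrSyzBetti.iInf_coe_of_le _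
  rw [hreg, ← hs, isRegLE_iff_HV ℳ hn r]

end Reg

end Groth.Agent.H2.GrEG
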