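import Mathlib
import Groth.Agent.Lib.Helper2.GrEG13
import Groth.Agent.Lib.Helper6.GrRegVanish

/-! Graded modules of finite length over the polynomial ring are torsion for the irrelevant ideal;
their regularity is their top degree. -/

universe u
open DirectSum GrLC Groth.Agent.H6 Groth.Agent.H6.Gr Groth.Agent.H2.GrEGT MvPolynomial
set_option linter.unusedSectionVars false

namespace Groth.Agent.H2.GrEG

section FinLen

variable {k : Type u} [Field k] {n : ℕ}

theorem As_neg (e : ℤ) (he : e < 0) : As k n e = ⊥ := by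
  rw [eq_bot_iff]
  intro p hp
  rw [AddSubgroup.mem_bot]
  by_contra h0
  have := GrSyzBasic.deg_nonneg_of_mem_stdGr (show p ∈ GrSyz.stdGr k (Fin n) e from hp) h0
  omega

theorem am_eq_span_pos : (am k n).toIdeal =
    Ideal.span (⋃ m ∈ Set.Ioi (0 : ℤ), (As k n m : Set (MvPolynomial (Fin n) k))) := by
  change Ideal.span {r | ∃ m : ℤ, 0 < m ∧ r ∈ GrSyz.stdGr k (Fin n) m} = _
  congr 1
  ext r
  simp only [Set.mem_ofPred_eq, Set.mem_iUnion, Set.mem_Ioi, SetLike.mem_coe, exists_prop]
  rfl

variable (X : GMod.{u} (As k n))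

/-- the elements with no component in degrees below `t` -/
def geSub (t : ℤ) : Submodule (MvPolynomial (Fin n) k) X.carrier where
  carrier := {m | ∀ j : ℤ, j < t → proj X.gr j m = 0}
  zero_mem' := fun j _ => map_zero _
  add_mem' := by
    intro m m' hm hm' j hj
    rw [map_add, hm j hj, hm' j hj, add_zero]
  smul_mem' := by
    intro s m hm j hj
    apply RegVan.proj_smul_eq_zero (𝒜 := As k n) X.gr (p := 0) (q := t) ?_ hm (by omega)
    intro e he
    have h1 := proj_mem (As k n) e s
    rw [As_neg e he, AddSubgroup.mem_bot] at h1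
    exact h1

theorem geSub_anti {t t' : ℤ} (h : t ≤ t') : geSub X t' ≤ geSub X t :=
  fun _ hm j hj => hm j (lt_of_lt_of_le hj h)

theorem eventually_bot (hA : IsArtinian (MvPolynomial (Fin n) k) X.carrier) :
    ∃ t₀ : ℤ, ∀ t : ℤ, t₀ ≤ t → X.gr t = ⊥ := by
  let f : ℕ →o (Submodule (MvPolynomial (Fin n) k) X.carrier)ᵒᵈ :=
    { toFun := fun N => OrderDual.toDual (geSub X (N : ℤ))
      monotone' := fun N N' h => geSub_anti X (by exact_mod_cast h) }
  obtain ⟨N₀, hN₀⟩ := IsArtinian.monotone_stabilizes f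
  refine ⟨N₀, fun t ht => ?_⟩
  rw [eq_bot_iff]
  intro m hm
  rw [AddSubgroup.mem_bot]
  have h1 : geSub X (t.toNat : ℤ) = geSub X ((t.toNat + 1 : ℕ) : ℤ) := by
    have ha := hN₀ t.toNat (by omega)
    have hb := hN₀ (t.toNat + 1) (by omega)
    have ha' : geSub X (N₀ : ℤ) = geSub X (t.toNat : ℤ) := congrArg OrderDual.ofDual ha
    have hb' : geSub X (N₀ : ℤ) = geSub X ((t.toNat + 1 : ℕ) : ℤ) := congrArg OrderDual.ofDual hb
    rw [← ha', hb']
  have ht' : (t.toNat : ℤ) = t := Int.toNat_of_nonneg (by omega)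
  rw [ht'] at h1
  have h2 : m ∈ geSub X t := fun j hj => proj_of_mem_ne X.gr hm (by omega)
  rw [h1] at h2
  have h3 := h2 t (by push_cast; omega)
  rw [proj_of_mem X.gr hm] at h3
  exact h3

theorem torsion_of_isFiniteLength (h : IsFiniteLength (MvPolynomial (Fin n) k) X.carrier)
    (m : X.carrier) : m ∈ gam (am k n).toIdeal X.carrier := by
  have hA : IsArtinian (MvPolynomial (Fin n) k) X.carrier :=
    (isFiniteLength_iff_isNoetherian_isArtinian.mp h).2
  obtain ⟨t₀, ht₀⟩ := eventually_bot X hA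
  exact RegVan.torsion_of_eventually_bot (𝒜 := As k n) As_neg (am k n) am_eq_span_pos X.gr t₀ ht₀ m

/-- for a torsion module, all local cohomology is in `H^0`, which is the module itself -/
theorem HV_torsion_iff (ht : ∀ m : X.carrier, m ∈ gam (am k n).toIdeal X.carrier) (r : ℤ) :
    (∀ (q : ℕ) (j : ℤ), r - q < j → HV (am k n) X q j) ↔ ∀ j : ℤ, r < j → X.gr j = ⊥ := by
  constructor
  · intro h j hj
    have h0 := h 0 j (by simpa using hj)
    rw [HV_zero_iff] at h0
    rw [eq_bot_iff]
    intro m hm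
    exact h0 m hm (ht m)
  · intro h q j hj
    cases q with
    | zero =>
      rw [HV_zero_iff]
      intro m hm _
      rw [h j (by simpa using hj)] at hm
      exact hm
    | succ q => exact HV_of_torsion (am k n) X ht q j

end FinLen

section Row

variable {k : Type u} [Field k] {n : ℕ}
  {M : Type u} [AddCommGroup M] [Module k M] [Module (MvPolynomial (Fin n) k) M]
  [Module.Finite (MvPolynomial (Fin n) k) M]
  (ℳ : ℤ → Submodule k M) [DirectSum.Decomposition ℳ]
  [SetLike.GradedSMul (GrSyz.stdGr k (Fin n)) ℳ]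

/-- **the regularity of a module of finite length is its top degree** -/
theorem reg_eq_endDeg_of_isFiniteLength (hn : 0 < n)
    (hM : IsFiniteLength (MvPolynomial (Fin n) k) M) :
    GrSyz.reg (GrSyz.stdGr k (Fin n)) ℳ (GrSyz.irrel (GrSyz.stdGr k (Fin n))).toIdeal =
      GrLC.endDeg (fun j => (ℳ j).toAddSubgroup) := by
  apply eq_of_forall_le_iff
  intro r
  rw [reg_le_iff_HV ℳ hn r, endDeg_le_iff,
    HV_torsion_iff (Xrow ℳ) (torsion_of_isFiniteLength (Xrow ℳ) hM) r]
  rfl

end Row

end Groth.Agent.H2.GrEG
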