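import Mathlib
import Groth.Agent.Lib.Helper2.GrEG8

/-! Quasi-regular elements of degree one: the two short exact sequences
`0 → (0 :_X x)(-1) → X(-1) → xX → 0` and `0 → xX → X → X/xX → 0` and their consequences for
graded local cohomology. -/

universe u
open DirectSum GrLC Groth.Agent.H6 Groth.Agent.H6.Gr
set_option linter.unusedSectionVars false

namespace Groth.Agent.H2.GrEG

variable {R : Type u} [CommRing R] [IsNoetherianRing R] {𝒜 : ℤ → AddSubgroup R} [GradedRing 𝒜]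
variable (a : HomogeneousIdeal 𝒜)

section QR

variable {X Y : GMod.{u} 𝒜} {x : R} (hx1 : x ∈ 𝒜 1)
  (π : X.carrier →ₗ[R] Y.carrier) (hπ : Function.Surjective π)
  (hπg : IsGrHom X.gr Y.gr π) (hker : ∀ m, π m = 0 ↔ ∃ m', x • m' = m)
  (hT : ∀ m : X.carrier, x • m = 0 → m ∈ gam a.toIdeal X.carrier)

include hx1 hπ hπg hker hT in
/-- the data of the two short exact sequences attached to a quasi-regular element -/
theorem exists_qr_data : ∃ (Im Tm : GMod.{u} 𝒜) (ι : Im.carrier →ₗ[R] X.carrier)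
    (x' : (Msh (𝒜 := 𝒜) X.gr 1).carrier →ₗ[R] Im.carrier)
    (jT : Tm.carrier →ₗ[R] (Msh (𝒜 := 𝒜) X.gr 1).carrier),
    GrSES Tm.gr (Msh (𝒜 := 𝒜) X.gr 1).gr Im.gr jT x' ∧ GrSES Im.gr X.gr Y.gr ι π ∧
      (∀ t : Tm.carrier, t ∈ gam a.toIdeal Tm.carrier) ∧
      (∀ m : X.carrier, ι (x' m) = x • m) := by
  have hlg : IsGrHom (Msh (𝒜 := 𝒜) X.gr 1).gr X.gr
      (show (Msh (𝒜 := 𝒜) X.gr 1).carrier →ₗ[R] X.carrier from LinearMap.lsmul R X.carrier x) :=
    lsmul_isGrHom_shift (𝒜 := 𝒜) (ℳ := X.gr) 1 hx1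
  have hP : (LinearMap.range (LinearMap.lsmul R X.carrier x)).IsHomogeneous X.gr :=
    range_isHomogeneous (Msh (𝒜 := 𝒜) X.gr 1).gr X.gr hlg
  obtain ⟨Im, ι, hιinj, hιr, hιg⟩ := exists_gmod_sub 𝒜 X.gr _ hP
  have hmem : ∀ m : X.carrier, LinearMap.lsmul R X.carrier x m ∈ LinearMap.range ι := by
    intro m
    rw [hιr]
    exact ⟨m, rfl⟩
  set e := LinearEquiv.ofInjective ι hιinj with he
  set x' : X.carrier →ₗ[R] Im.carrier :=
    e.symm.toLinearMap ∘ₗ (LinearMap.lsmul R X.carrier x).codRestrict (LinearMap.range ι) hmem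
    with hx'
  have hx'1 : ∀ m, ι (x' m) = x • m := by
    intro m
    have : e (x' m) = (LinearMap.lsmul R X.carrier x).codRestrict (LinearMap.range ι) hmem m := by
      rw [hx', LinearMap.comp_apply]
      exact e.apply_symm_apply _
    exact congrArg Subtype.val this
  have hx'g : IsGrHom (Msh (𝒜 := 𝒜) X.gr 1).gr Im.gr
      (show (Msh (𝒜 := 𝒜) X.gr 1).carrier →ₗ[R] Im.carrier from x') := by
    intro g m hm
    apply mem_of_map_mem Im.gr X.gr hιg hιinj
    change ι (x' m) ∈ X.gr g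
    rw [hx'1]
    exact hlg g m hm
  have hx's : Function.Surjective x' := by
    intro z
    have hz : ι z ∈ LinearMap.range (LinearMap.lsmul R X.carrier x) :=
      hιr ▸ LinearMap.mem_range_self ι z
    obtain ⟨m, hm⟩ := hz
    refine ⟨m, hιinj ?_⟩
    rw [hx'1]
    exact hm
  have hK : (LinearMap.ker (show (Msh (𝒜 := 𝒜) X.gr 1).carrier →ₗ[R] Im.carrier from x')).IsHomogeneous
      (Msh (𝒜 := 𝒜) X.gr 1).gr :=
    ker_isHomogeneous (Msh (𝒜 := 𝒜) X.gr 1).gr Im.gr hx'g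
  obtain ⟨Tm, jT, hjinj, hjr, hjg⟩ := exists_gmod_sub 𝒜 (Msh (𝒜 := 𝒜) X.gr 1).gr _ hK
  refine ⟨Im, Tm, ι, x', jT, ?_, ?_, ?_, hx'1⟩
  · exact
      { hi := hjg
        hp := hx'g
        inj := hjinj
        surj := hx's
        exact := fun m => by
          change x' m = 0 ↔ _
          rw [← LinearMap.mem_ker]
          change m ∈ LinearMap.ker (show (Msh (𝒜 := 𝒜) X.gr 1).carrier →ₗ[R] Im.carrier from x') ↔ _
          rw [← hjr]
          rfl }
  · exact
      { hi := hιg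
        hp := hπg
        inj := hιinj
        surj := hπ
        exact := fun m => by
          rw [hker m]
          constructor
          · rintro ⟨m', rfl⟩
            exact ⟨x' m', hx'1 m'⟩
          · rintro ⟨z, rfl⟩
            have hz : ι z ∈ LinearMap.range (LinearMap.lsmul R X.carrier x) :=
              hιr ▸ LinearMap.mem_range_self ι z
            exact hz }
  · intro t
    have h1 : x' (jT t) = 0 := by
      have : jT t ∈ LinearMap.ker (show (Msh (𝒜 := 𝒜) X.gr 1).carrier →ₗ[R] Im.carrier from x') :=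
        hjr ▸ LinearMap.mem_range_self jT t
      exact this
    have h2 : x • (show X.carrier from jT t) = 0 := by
      rw [← hx'1, h1, map_zero]
    obtain ⟨N, hN⟩ := hT _ h2
    refine ⟨N, fun r hr => hjinj ?_⟩
    rw [map_smul, map_zero]
    exact hN r hr

include hx1 hπ hπg hker hT in
/-- vanishing passes to the quotient by a quasi-regular element -/
theorem HV_qr_quot {q : ℕ} {e : ℤ} (h1 : HV a X q e) (h2 : HV a X (q + 1) (e - 1)) :
    HV a Y q e := by
  obtain ⟨Im, Tm, ι, x', jT, S1, S2, hTt, -⟩ := exists_qr_data a hx1 π hπ hπg hker hT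
  have h3 : HV a (Msh (𝒜 := 𝒜) X.gr 1) (q + 1) e := (HV_shift_iff a X 1 (q + 1) e).mpr h2
  have h4 : HV a Im (q + 1) e := HV_right a S1 h3 (HV_of_torsion a Tm hTt (q + 1) e)
  exact HV_right a S2 h1 h4

include hx1 hπ hπg hker hT in
/-- vanishing for the quotient by a quasi-regular element in all higher degrees gives vanishing
one cohomological degree up -/
theorem HV_qr_succ (hxa : x ∈ a.toIdeal) {q : ℕ} {j : ℤ} (h : ∀ e : ℤ, j < e → HV a Y q e) :
    HV a X (q + 1) j := by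
  obtain ⟨Im, Tm, ι, x', jT, S1, S2, hTt, hιx'⟩ := exists_qr_data a hx1 π hπ hπg hker hT
  intro E
  set EI := starInjRes 𝒜 Im.gr
  set ET := starInjRes 𝒜 Tm.gr
  set EY := starInjRes 𝒜 Y.gr
  obtain ⟨δ1, hδ1, -, hex11, -, -⟩ := exists_les S1 ET (shiftRes E 1) EI a
  obtain ⟨δ2, hδ2, -, -, -, hex23⟩ := exists_les S2 EI E EY a
  apply Hgr_eq_bot_of_smul_injective a E hxa hx1 (q + 1) j
  intro e he y hy hxy
  have hy' : (show (shiftRes E 1).H a (q + 1) from y) ∈ (shiftRes E 1).Hgr a (q + 1) (e + 1) := by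
    rw [shiftH_mem]
    have : e + 1 - 1 = e := by omega
    rw [this]
    exact hy
  have hlg : IsGrHom (Msh (𝒜 := 𝒜) X.gr 1).gr X.gr
      (show (Msh (𝒜 := 𝒜) X.gr 1).carrier →ₗ[R] X.carrier from LinearMap.lsmul R X.carrier x) :=
    lsmul_isGrHom_shift (𝒜 := 𝒜) (ℳ := X.gr) 1 hx1
  have h1 : Hmap (shiftRes E 1) E a _ hlg (q + 1) y = 0 := by
    rw [Hmap_smul E a 1 hx1 (q + 1) y]
    exact hxy
  have hcomp : ι ∘ₗ x' = (show (Msh (𝒜 := 𝒜) X.gr 1).carrier →ₗ[R] X.carrier from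
      LinearMap.lsmul R X.carrier x) := by
    apply LinearMap.ext
    intro m
    exact hιx' m
  have h2 := Hmap_comp (E := shiftRes E 1) (F := EI) (G := E) a S1.hp S2.hi (q + 1)
  have h3 := Hmap_congr (shiftRes E 1) E a hcomp (fun k m hm => S2.hi k _ (S1.hp k m hm)) (q + 1)
  rw [h3] at h2
  have h4 : Hmap EI E a ι S2.hi (q + 1) (Hmap (shiftRes E 1) EI a x' S1.hp (q + 1) y) = 0 := by
    have := LinearMap.congr_fun h2 y
    rw [LinearMap.comp_apply] at this
    rw [← this]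
    exact h1
  have h5 := (hex23 q _).mp h4
  have hgr : Hmap (shiftRes E 1) EI a x' S1.hp (q + 1) y ∈ EI.Hgr a (q + 1) (e + 1) :=
    Hmap_isGrHom (E := shiftRes E 1) (F := EI) a S1.hp (q + 1) (e + 1) y hy'
  obtain ⟨z, hz, hzy⟩ := exists_mem_of_isGrHom (EY.Hgr a q) (EI.Hgr a (q + 1))
    (isInternal_Hgr 𝒜 _ EY a q) (isInternal_Hgr 𝒜 _ EI a (q + 1)) (hδ2 q) hgr h5
  have hz0 := (h (e + 1) (by omega)).eq_zero a EY hz
  rw [hz0, map_zero] at hzy
  have h6 := (hex11 (q + 1) y).mp hzy.symm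
  obtain ⟨t, ht⟩ := h6
  have ht0 : t = 0 := H_eq_zero_of_torsion ET a hTt q t
  rw [ht0, map_zero] at ht
  exact ht.symm

end QR

end Groth.Agent.H2.GrEG
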