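import Mathlib
import Groth.Agent.Lib.Helper2.GrEG14
import Groth.Agent.Lib.Helper2.GrEG15

/-! Quasi-regular linear forms and regular sequences of linear forms over the polynomial ring:
the statements about regularity. -/

universe u
open DirectSum GrLC Groth.Agent.H6 Groth.Agent.H6.Gr Groth.Agent.H2.GrEGT MvPolynomial
set_option linter.unusedSectionVars false

namespace Groth.Agent.H2.GrEG

section Poly

variable {k : Type u} [Field k] {n : ℕ}

/-- elements killed by a quasi-regular linear form are torsion for the irrelevant ideal -/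
theorem qr_torsion (X : GMod.{u} (As k n)) {x : MvPolynomial (Fin n) k} (hx1 : x ∈ As k n 1)
    (hq : IsFiniteLength (MvPolynomial (Fin n) k)
      ↥(Submodule.torsionBy (MvPolynomial (Fin n) k) X.carrier x)) :
    ∀ m : X.carrier, x • m = 0 → m ∈ gam (am k n).toIdeal X.carrier := by
  have hdeg : IsGrHomDeg X.gr X.gr (LinearMap.lsmul (MvPolynomial (Fin n) k) X.carrier x) 1 := by
    intro g m hm
    have := SetLike.GradedSMul.smul_mem (A := As k n) (B := X.gr) hx1 hm
    rw [vadd_eq_add, add_comm] at this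
    exact this
  have hT : (Submodule.torsionBy (MvPolynomial (Fin n) k) X.carrier x).IsHomogeneous X.gr := by
    have h := ker_isHomogeneous_deg X.gr X.gr hdeg
    have heq : LinearMap.ker (LinearMap.lsmul (MvPolynomial (Fin n) k) X.carrier x) =
        Submodule.torsionBy (MvPolynomial (Fin n) k) X.carrier x := by
      ext m
      rw [LinearMap.mem_ker, Submodule.mem_torsionBy_iff]
      rfl
    rwa [heq] at h
  obtain ⟨Tg, j, hjinj, hjr, hjg⟩ := exists_gmod_sub (As k n) X.gr _ hT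
  have e : Tg.carrier ≃ₗ[MvPolynomial (Fin n) k]
      ↥(Submodule.torsionBy (MvPolynomial (Fin n) k) X.carrier x) :=
    (LinearEquiv.ofInjective j hjinj) ≪≫ₗ (LinearEquiv.ofEq _ _ hjr)
  have hfl : IsFiniteLength (MvPolynomial (Fin n) k) Tg.carrier := e.symm.isFiniteLength hq
  intro m hm
  have hmT : m ∈ Submodule.torsionBy (MvPolynomial (Fin n) k) X.carrier x :=
    (Submodule.mem_torsionBy_iff _ _).mpr hm
  rw [← hjr] at hmT
  obtain ⟨t, rfl⟩ := hmT
  exact map_mem_gam j (am k n).toIdeal (torsion_of_isFiniteLength Tg hfl t)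

theorem mem_am_of_mem_one {x : MvPolynomial (Fin n) k} (hx1 : x ∈ As k n 1) :
    x ∈ (am k n).toIdeal :=
  mem_am_of_mem_gr k n one_ne_zero hx1

/-- weak regularity implies regularity -/
theorem HV_of_weak_all (Y : GMod.{u} (As k n)) (d : ℤ) (h0 : ∀ j : ℤ, d < j → HV (am k n) Y 0 j)
    (hw : ∀ i : ℕ, HV (am k n) Y (i + 1) (d - (i + 1) + 1)) :
    ∀ (q : ℕ) (j : ℤ), d - q < j → HV (am k n) Y q j := by
  intro q j hj
  cases q with
  | zero => exact h0 j (by simpa using hj)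
  | succ q =>
    apply HV_of_weak' (am k n) (x := fun i : Fin n => (X i : MvPolynomial (Fin n) k)) Y
      (X_mem_one k n) (am_eq_span k n).le d hw q j
    push_cast at hj
    omega

end Poly

section Rows

variable {k : Type u} [Field k] {n : ℕ}
  {M : Type u} [AddCommGroup M] [Module k M] [Module (MvPolynomial (Fin n) k) M]
  (ℳ : ℤ → Submodule k M) [DirectSum.Decomposition ℳ]
  [SetLike.GradedSMul (GrSyz.stdGr k (Fin n)) ℳ]
  {N : Type u} [AddCommGroup N] [Module k N] [Module (MvPolynomial (Fin n) k) N]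
  (𝒩 : ℤ → Submodule k N) [DirectSum.Decomposition 𝒩]
  [SetLike.GradedSMul (GrSyz.stdGr k (Fin n)) 𝒩]

section QRRows

variable {x : MvPolynomial (Fin n) k} (hx : x ∈ GrSyz.stdGr k (Fin n) 1)
  (hq : IsFiniteLength (MvPolynomial (Fin n) k)
    ↥(Submodule.torsionBy (MvPolynomial (Fin n) k) M x))
  (π : M →ₗ[MvPolynomial (Fin n) k] N) (hπ : Function.Surjective π)
  (hπg : GrLC.IsGrHom ℳ 𝒩 π)
  (hker : LinearMap.ker π =
    LinearMap.range (x • (LinearMap.id : M →ₗ[MvPolynomial (Fin n) k] M)))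

include hker in
theorem hker_iff (m : M) : π m = 0 ↔ ∃ m', x • m' = m := by
  rw [← LinearMap.mem_ker, hker, LinearMap.mem_range]
  rfl

include hx hq hπ hπg hker in
theorem HV_qr_quot_row {q : ℕ} {e : ℤ} (h1 : HV (am k n) (Xrow ℳ) q e)
    (h2 : HV (am k n) (Xrow ℳ) (q + 1) (e - 1)) : HV (am k n) (Xrow 𝒩) q e :=
  HV_qr_quot (X := Xrow ℳ) (Y := Xrow 𝒩) (am k n) hx π hπ (fun g m hm => hπg g m hm)
    (hker_iff π hker) (qr_torsion (Xrow ℳ) hx hq) h1 h2

include hx hq hπ hπg hker in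
theorem HV_qr_succ_row {q : ℕ} {j : ℤ} (h : ∀ e : ℤ, j < e → HV (am k n) (Xrow 𝒩) q e) :
    HV (am k n) (Xrow ℳ) (q + 1) j :=
  HV_qr_succ (X := Xrow ℳ) (Y := Xrow 𝒩) (am k n) hx π hπ (fun g m hm => hπg g m hm)
    (hker_iff π hker) (qr_torsion (Xrow ℳ) hx hq) (mem_am_of_mem_one hx) h

end QRRows

end Rows

end Groth.Agent.H2.GrEG

namespace Groth.Agent.H2.GrEG

section Rows2

variable {k : Type u} [Field k] {n : ℕ}
  {M : Type u} [AddCommGroup M] [Module k M] [Module (MvPolynomial (Fin n) k) M]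
  (ℳ : ℤ → Submodule k M) [DirectSum.Decomposition ℳ]
  [SetLike.GradedSMul (GrSyz.stdGr k (Fin n)) ℳ]

theorem endDeg_zero_le_iff (E : GrLC.StarInjRes (GrSyz.stdGr k (Fin n)) ℳ) (d : ℤ) :
    GrLC.endDeg (E.Hgr (GrSyz.irrel (GrSyz.stdGr k (Fin n))) 0) ≤
      ((d : WithTop ℤ) : WithBot (WithTop ℤ)) ↔ ∀ j : ℤ, d < j → HV (am k n) (Xrow ℳ) 0 j := by
  rw [endDeg_le_iff]
  apply forall_congr'
  intro j
  rw [HV_row_iff ℳ E]

theorem weak_iff (E : GrLC.StarInjRes (GrSyz.stdGr k (Fin n)) ℳ) (d : ℤ) :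
    (∀ i : ℕ, 0 < i → E.Hcomp (GrSyz.irrel (GrSyz.stdGr k (Fin n))) i (d - (i : ℤ) + 1) = ⊥) ↔
      ∀ i : ℕ, HV (am k n) (Xrow ℳ) (i + 1) (d - (i + 1) + 1) := by
  constructor
  · intro h i
    have := h (i + 1) (Nat.succ_pos i)
    rw [Hcomp_eq_bot_iff, ← HV_row_iff] at this
    push_cast at this
    exact this
  · intro h i hi
    obtain ⟨i', rfl⟩ : ∃ i', i = i' + 1 := ⟨i - 1, by omega⟩
    rw [Hcomp_eq_bot_iff, ← HV_row_iff]
    have := h i'
    push_cast
    exact this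

end Rows2

end Groth.Agent.H2.GrEG
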