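import Mathlib
import Groth.Agent.Lib.Helper2.GrEG16

/-! Regular sequences of linear forms with quotient of finite length: the regularity is the top
degree of the quotient. -/

universe u
open DirectSum GrLC Groth.Agent.H6 Groth.Agent.H6.Gr Groth.Agent.H2.GrEGT MvPolynomial
set_option linter.unusedSectionVars false

namespace Groth.Agent.H2.GrEG

section Rows

variable {k : Type u} [Field k] {n : ℕ}
  {M : Type u} [AddCommGroup M] [Module k M] [Module (MvPolynomial (Fin n) k) M]
  [Module.Finite (MvPolynomial (Fin n) k) M]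
  (ℳ : ℤ → Submodule k M) [DirectSum.Decomposition ℳ]
  [SetLike.GradedSMul (GrSyz.stdGr k (Fin n)) ℳ]
  {N : Type u} [AddCommGroup N] [Module k N] [Module (MvPolynomial (Fin n) k) N]
  (𝒩 : ℤ → Submodule k N) [DirectSum.Decomposition 𝒩]
  [SetLike.GradedSMul (GrSyz.stdGr k (Fin n)) 𝒩]

theorem reg_eq_endDeg_of_regular (hn : 0 < n) (ys : List (MvPolynomial (Fin n) k))
    (hys : ∀ y ∈ ys, y ∈ GrSyz.stdGr k (Fin n) 1)
    (hreg : RingTheory.Sequence.IsWeaklyRegular M ys)
    (π : M →ₗ[MvPolynomial (Fin n) k] N) (hπ : Function.Surjective π)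
    (hπg : GrLC.IsGrHom ℳ 𝒩 π)
    (hker : LinearMap.ker π = Ideal.ofList ys • (⊤ : Submodule (MvPolynomial (Fin n) k) M))
    (hN : IsFiniteLength (MvPolynomial (Fin n) k) N) :
    GrSyz.reg (GrSyz.stdGr k (Fin n)) ℳ (GrSyz.irrel (GrSyz.stdGr k (Fin n))).toIdeal =
      GrLC.endDeg (fun j => (𝒩 j).toAddSubgroup) := by
  have tower : RegTower (am k n) ys (Xrow ℳ) (Xrow 𝒩) :=
    exists_regTower (am k n) ys (fun y hy => hys y hy)
      (fun y hy => mem_am_of_mem_one (hys y hy)) (Xrow ℳ) (Xrow 𝒩) hreg π hπ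
      (fun g m hm => hπg g m hm) hker
  have ht := torsion_of_isFiniteLength (Xrow 𝒩) hN
  apply eq_of_forall_le_iff
  intro r
  rw [reg_le_iff_HV ℳ hn r, endDeg_le_iff]
  constructor
  · intro h j hj
    have h1 := tower.HV_quot 0 j (fun i _ => h (0 + i) (j - i) (by push_cast; omega))
    rw [HV_zero_iff] at h1
    rw [eq_bot_iff]
    intro m hm
    exact h1 m hm (ht m)
  · intro h q j hj
    by_cases hq : q < ys.length
    · exact tower.HV_lt q j hq
    · obtain ⟨q', rfl⟩ : ∃ q', q = q' + ys.length := ⟨q - ys.length, by omega⟩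
      apply tower.HV_add q' j
      intro e he
      cases q' with
      | zero =>
        rw [HV_zero_iff]
        intro m hm _
        have h2 : (𝒩 e).toAddSubgroup = ⊥ := h e (by push_cast at hj; omega)
        have h3 : m ∈ (𝒩 e).toAddSubgroup := hm
        rw [h2] at h3
        exact h3
      | succ q' => exact HV_of_torsion (am k n) (Xrow 𝒩) ht q' e

end Rows

end Groth.Agent.H2.GrEG
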