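import Mathlib

/-!
Graded algebras generated by finitely many homogeneous elements of positive degrees:
graded pieces are spanned by monomials; `B_{n+l} = B_n B_l` for large `n`.
-/

namespace Groth.Agent.H2.GrGen

open DirectSum

universe u

variable {R A : Type u} [CommRing R] [CommRing A] [Algebra R A] (𝒜 : ℕ → Submodule R A)
  [GradedAlgebra 𝒜]

/-- a sum of homogeneous terms lying in degree `N` equals the sum of its degree-`N` terms -/
theorem sum_filter_of_mem {J : Type*} (S : Finset J) (t : J → A) (w : J → ℕ)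
    (ht : ∀ j ∈ S, t j ∈ 𝒜 (w j)) {N : ℕ} (hx : ∑ j ∈ S, t j ∈ 𝒜 N) :
    ∑ j ∈ S, t j = ∑ j ∈ S with w j = N, t j := by
  classical
  have h1 : ((decompose 𝒜 (∑ j ∈ S, t j)) N : A) = ∑ j ∈ S, t j := decompose_of_mem_same 𝒜 hx
  rw [← h1, decompose_sum, DFinsupp.finsetSum_apply, AddSubmonoidClass.coe_finsetSum,
    Finset.sum_filter]
  apply Finset.sum_congr rfl
  intro j hj
  split_ifs with h
  · subst h; exact decompose_of_mem_same 𝒜 (ht j hj)
  · exact decompose_of_mem_ne 𝒜 (ht j hj) h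

variable {s : ℕ} (f : Fin s → A) (deg : Fin s → ℕ)

/-- weight of an exponent vector -/
def wt (m : Fin s →₀ ℕ) : ℕ := ∑ i, m i * deg i

/-- monomial in the `f i` -/
def mono (m : Fin s →₀ ℕ) : A := ∏ i, f i ^ m i

theorem mono_mem (hf : ∀ i, f i ∈ 𝒜 (deg i)) (m : Fin s →₀ ℕ) : mono f m ∈ 𝒜 (wt deg m) := by
  unfold mono wt
  apply SetLike.prod_mem_graded
  intro i _
  have := SetLike.pow_mem_graded (A := 𝒜) (m i) (hf i)
  rwa [smul_eq_mul] at this

theorem aeval_monomial' (m : Fin s →₀ ℕ) (c : R) :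
    MvPolynomial.aeval f (MvPolynomial.monomial m c) = c • mono f m := by
  rw [MvPolynomial.aeval_monomial, Finsupp.prod_fintype _ _ (fun i => pow_zero _), Algebra.smul_def]
  rfl

include 𝒜 in
theorem mem_sum (hf : ∀ i, f i ∈ 𝒜 (deg i)) (hgen : Algebra.adjoin R (Set.range f) = ⊤) (N : ℕ)
    (x : A) (hx : x ∈ 𝒜 N) :
    ∃ (S : Finset (Fin s →₀ ℕ)) (c : (Fin s →₀ ℕ) → R), (∀ m ∈ S, wt deg m = N) ∧
      x = ∑ m ∈ S, c m • mono f m := by
  classical
  have hx' : x ∈ (MvPolynomial.aeval f : MvPolynomial (Fin s) R →ₐ[R] A).range := by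
    rw [← Algebra.adjoin_range_eq_range_aeval, hgen]; trivial
  obtain ⟨P, hPx⟩ := hx'
  change MvPolynomial.aeval f P = x at hPx
  subst hPx
  have hP : MvPolynomial.aeval f P = ∑ m ∈ P.support, P.coeff m • mono f m := by
    conv_lhs => rw [P.as_sum]
    rw [map_sum]
    apply Finset.sum_congr rfl
    intro m _
    exact aeval_monomial' f m _
  rw [hP] at hx ⊢
  refine ⟨P.support.filter (fun m => wt deg m = N), fun m => P.coeff m, ?_, ?_⟩
  · intro m hm
    exact (Finset.mem_filter.mp hm).2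
  · exact sum_filter_of_mem 𝒜 _ _ (wt deg) (fun m _ => Submodule.smul_mem _ _ (mono_mem 𝒜 f deg hf m)) hx

theorem lcm_pos (hdeg : ∀ i, 0 < deg i) : 0 < Finset.univ.lcm deg := by
  rw [Nat.pos_iff_ne_zero, Ne, Finset.lcm_eq_zero_iff]
  push Not
  intro i _
  exact (hdeg i).ne'

theorem mul_le (n m : ℕ) : 𝒜 n * 𝒜 m ≤ 𝒜 (n + m) :=
  Submodule.mul_le.mpr fun _ ha _ hb => SetLike.mul_mem_graded ha hb

theorem pow_le (n k : ℕ) : 𝒜 n ^ k ≤ 𝒜 (k * n) := by
  induction k with
  | zero =>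
    rw [pow_zero, zero_mul, Submodule.one_le]
    exact SetLike.one_mem_graded 𝒜
  | succ k ih =>
    rw [pow_succ, add_mul, one_mul]
    exact (mul_le_mul' ih le_rfl).trans (mul_le 𝒜 _ _)

/-- pigeonhole: a monomial of large weight has a factor `f i ^ (l / deg i)` -/
theorem mono_mem_mul (hdeg : ∀ i, 0 < deg i) (hf : ∀ i, f i ∈ 𝒜 (deg i)) (n : ℕ)
    (hn : (s - 1) * (Finset.univ.lcm deg - 1) ≤ n) (m : Fin s →₀ ℕ)
    (hm : wt deg m = n + Finset.univ.lcm deg) :
    mono f m ∈ 𝒜 n * 𝒜 (Finset.univ.lcm deg) := by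
  classical
  set l := Finset.univ.lcm deg with hl
  have hlpos : 0 < l := lcm_pos deg hdeg
  -- some i has m i * deg i ≥ l
  have hex : ∃ i, l ≤ m i * deg i := by
    by_contra hcon
    push Not at hcon
    have hle : wt deg m ≤ ∑ _i : Fin s, (l - 1) := by
      unfold wt
      apply Finset.sum_le_sum
      intro i _
      have := hcon i
      omega
    rw [Finset.sum_const, Finset.card_univ, Fintype.card_fin, smul_eq_mul, hm] at hle
    rcases Nat.eq_zero_or_pos s with h0 | hs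
    · subst h0
      omega
    · obtain ⟨t, rfl⟩ := Nat.exists_eq_succ_of_ne_zero (by omega : s ≠ 0)
      rw [Nat.succ_sub_one] at hn
      rw [Nat.succ_mul] at hle
      omega
  obtain ⟨i, hi⟩ := hex
  have hdvd : deg i ∣ l := Finset.dvd_lcm (Finset.mem_univ i)
  obtain ⟨e, he⟩ := hdvd
  have hem : e ≤ m i := by
    rw [he, mul_comm (deg i) e] at hi
    exact Nat.le_of_mul_le_mul_right hi (hdeg i)
  -- split m = m' + single i e
  set m' : Fin s →₀ ℕ := m - Finsupp.single i e with hm'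
  have hsplit : m = m' + Finsupp.single i e := by
    ext j
    by_cases hj : j = i
    · subst hj; simp [hm']; omega
    · simp [hm', Ne.symm hj]
  have hmono : mono f m = mono f m' * f i ^ e := by
    unfold mono
    rw [hsplit]
    simp only [Finsupp.coe_add, Pi.add_apply, pow_add, Finset.prod_mul_distrib]
    congr 1
    rw [Finset.prod_eq_single i]
    · simp
    · intro j _ hj
      simp [Ne.symm hj]
    · intro h; exact absurd (Finset.mem_univ i) h
  have hwt : wt deg m = wt deg m' + l := by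
    unfold wt
    rw [hsplit]
    simp only [Finsupp.coe_add, Pi.add_apply, add_mul, Finset.sum_add_distrib]
    congr 1
    rw [Finset.sum_eq_single i]
    · simp [he, mul_comm]
    · intro j _ hj
      simp [Ne.symm hj]
    · intro h; exact absurd (Finset.mem_univ i) h
  have hwt' : wt deg m' = n := by omega
  rw [hmono]
  apply Submodule.mul_mem_mul
  · rw [← hwt']; exact mono_mem 𝒜 f deg hf m'
  · have := SetLike.pow_mem_graded (A := 𝒜) e (hf i)
    rwa [smul_eq_mul, mul_comm, ← he] at this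

theorem main1 (hdeg : ∀ i, 0 < deg i) (hf : ∀ i, f i ∈ 𝒜 (deg i))
    (hgen : Algebra.adjoin R (Set.range f) = ⊤) (n : ℕ)
    (hn : (s - 1) * (Finset.univ.lcm deg - 1) ≤ n) :
    𝒜 (n + Finset.univ.lcm deg) = 𝒜 n * 𝒜 (Finset.univ.lcm deg) := by
  apply le_antisymm _ (mul_le 𝒜 _ _)
  intro x hx
  obtain ⟨S, c, hS, rfl⟩ := mem_sum 𝒜 f deg hf hgen _ x hx
  apply Submodule.sum_mem
  intro m hm
  exact Submodule.smul_mem _ _ (mono_mem_mul 𝒜 f deg hdeg hf n hn m (hS m hm))

include 𝒜 in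
theorem zero_eq (hdeg : ∀ i, 0 < deg i) (hf : ∀ i, f i ∈ 𝒜 (deg i))
    (hgen : Algebra.adjoin R (Set.range f) = ⊤) : 𝒜 0 = 1 := by
  apply le_antisymm _ (Submodule.one_le.mpr (SetLike.one_mem_graded 𝒜))
  intro x hx
  obtain ⟨S, c, hS, rfl⟩ := mem_sum 𝒜 f deg hf hgen _ x hx
  apply Submodule.sum_mem
  intro m hm
  apply Submodule.smul_mem
  have h0 : m = 0 := by
    ext i
    have h1 := hS m hm
    unfold wt at h1
    have h2 := (Finset.sum_eq_zero_iff.mp h1) i (Finset.mem_univ i)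
    have := hdeg i
    simpa [this.ne'] using h2
  rw [h0]
  unfold mono
  simp only [Finsupp.coe_zero, Pi.zero_apply, pow_zero, Finset.prod_const_one]
  exact Submodule.one_le.mp le_rfl

theorem main1_pow (hdeg : ∀ i, 0 < deg i) (hf : ∀ i, f i ∈ 𝒜 (deg i))
    (hgen : Algebra.adjoin R (Set.range f) = ⊤) (n : ℕ)
    (hn : (s - 1) * (Finset.univ.lcm deg - 1) ≤ n) (a : ℕ) :
    𝒜 (n + a * Finset.univ.lcm deg) = 𝒜 n * 𝒜 (Finset.univ.lcm deg) ^ a := by
  induction a with
  | zero => simp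
  | succ a ih =>
    rw [Nat.succ_mul, ← add_assoc, main1 𝒜 f deg hdeg hf hgen _ (hn.trans (Nat.le_add_right _ _)), ih,
      pow_succ, mul_assoc]

theorem main2 (hdeg : ∀ i, 0 < deg i) (hf : ∀ i, f i ∈ 𝒜 (deg i))
    (hgen : Algebra.adjoin R (Set.range f) = ⊤) (a : ℕ) (ha : s - 1 ≤ a) (k : ℕ) :
    𝒜 (k * (a * Finset.univ.lcm deg)) = 𝒜 (a * Finset.univ.lcm deg) ^ k := by
  set l := Finset.univ.lcm deg with hl
  induction k with
  | zero => rw [zero_mul, pow_zero]; exact zero_eq 𝒜 f deg hdeg hf hgen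
  | succ k ih =>
    rcases Nat.eq_zero_or_pos k with h0 | hk
    · subst h0; simp
    · have hle : (s - 1) * (l - 1) ≤ k * (a * l) := by
        calc (s - 1) * (l - 1) ≤ a * l := Nat.mul_le_mul ha (Nat.sub_le _ _)
          _ ≤ k * (a * l) := Nat.le_mul_of_pos_left _ hk
      rw [Nat.succ_mul, pow_succ, ← ih]
      apply le_antisymm _ (mul_le 𝒜 _ _)
      rw [main1_pow 𝒜 f deg hdeg hf hgen _ hle a]
      exact mul_le_mul' le_rfl (pow_le 𝒜 _ _)

end Groth.Agent.H2.GrGen
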