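import Groth.Agent.Lib.Helper2.GrGen

/-!
`Proj` of a graded algebra generated by homogeneous `f i` is covered by `D_+(g)`, `g ∈ B_{a l}`.
-/

namespace Groth.Agent.H2.GrGen

open DirectSum AlgebraicGeometry

universe u

variable {R A : Type u} [CommRing R] [CommRing A] [Algebra R A] (𝒜 : ℕ → Submodule R A)
  [GradedAlgebra 𝒜]

variable {s : ℕ} (f : Fin s → A) (deg : Fin s → ℕ)

theorem exists_not_mem (hdeg : ∀ i, 0 < deg i) (hf : ∀ i, f i ∈ 𝒜 (deg i))
    (hgen : Algebra.adjoin R (Set.range f) = ⊤) (x : Proj 𝒜) :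
    ∃ i, f i ∉ x.asHomogeneousIdeal := by
  classical
  by_contra hcon
  push Not at hcon
  apply x.not_irrelevant_le
  intro a ha
  change a ∈ x.asHomogeneousIdeal.toIdeal
  rw [← DirectSum.sum_support_decompose 𝒜 a]
  apply Ideal.sum_mem
  intro N _
  by_cases hN0 : N = 0
  · subst hN0
    have h0 : (decompose 𝒜 a 0 : A) = 0 := ha
    rw [h0]
    exact Ideal.zero_mem _
  · obtain ⟨S, c, hS, heq⟩ := mem_sum 𝒜 f deg hf hgen N _ (decompose 𝒜 a N).2
    rw [heq]
    apply Ideal.sum_mem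
    intro m hm
    rw [Algebra.smul_def]
    apply Ideal.mul_mem_left
    have hwt := hS m hm
    have hex : ∃ i, m i ≠ 0 := by
      by_contra hc
      push Not at hc
      apply hN0
      rw [← hwt]
      unfold wt
      simp [hc]
    obtain ⟨i, hi⟩ := hex
    have hdvd : f i ∣ mono f m :=
      (dvd_pow_self (f i) hi).trans (Finset.dvd_prod_of_mem _ (Finset.mem_univ i))
    exact Ideal.mem_of_dvd _ hdvd (hcon i)

theorem main3 (hdeg : ∀ i, 0 < deg i) (hf : ∀ i, f i ∈ 𝒜 (deg i))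
    (hgen : Algebra.adjoin R (Set.range f) = ⊤) (a : ℕ) (ha : 0 < a) :
    (⨆ g : 𝒜 (a * Finset.univ.lcm deg), Proj.basicOpen 𝒜 (g : A)) = ⊤ := by
  rw [eq_top_iff]
  intro x _
  obtain ⟨i, hi⟩ := exists_not_mem 𝒜 f deg hdeg hf hgen x
  have hdvd : deg i ∣ Finset.univ.lcm deg := Finset.dvd_lcm (Finset.mem_univ i)
  obtain ⟨e, he⟩ := hdvd
  have hmem : f i ^ (a * e) ∈ 𝒜 (a * Finset.univ.lcm deg) := by
    have := SetLike.pow_mem_graded (A := 𝒜) (a * e) (hf i)
    rw [smul_eq_mul] at this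
    rw [he]
    convert this using 2
    ring
  rw [TopologicalSpace.Opens.mem_iSup]
  refine ⟨⟨f i ^ (a * e), hmem⟩, ?_⟩
  rw [Proj.mem_basicOpen]
  intro h
  exact hi (x.isPrime.mem_of_pow_mem _ h)

end Groth.Agent.H2.GrGen
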