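import Mathlib

/-!
Avoidance of `n` proper `p`-saturated submodules when the residue field at `p` has at least `n`
elements.
-/

namespace Groth.Agent.H2.PrAvoid

universe u v w

variable {R : Type u} {M : Type v} [CommRing R] [AddCommGroup M] [Module R M] (p : Ideal R)

/-- `W` is `p`-saturated -/
def Sat (W : Submodule R M) : Prop := ∀ r : R, r ∉ p → ∀ m : M, r • m ∈ W → m ∈ W

theorem exists_not_mem_aux {ι : Type w} [DecidableEq ι] (N : ℕ) (a b : Fin N → R)
    (hb : ∀ j, b j ∉ p)
    (hab : ∀ j k, j ≠ k → a j * b k - a k * b j ∉ p) (W : ι → Submodule R M) :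
    ∀ (n : ℕ) (s : Finset ι), s.card = n → n ≤ N → (∀ i ∈ s, Sat p (W i)) → (∀ i ∈ s, W i ≠ ⊤) →
      ∃ m, ∀ i ∈ s, m ∉ W i := by
  intro n
  induction n using Nat.strong_induction_on with
  | _ n ih =>
    intro s hcard hn hsat hprop
    rcases s.eq_empty_or_nonempty with he | hne
    · subst he
      exact ⟨0, by simp⟩
    have hpos : 0 < n := by rw [← hcard]; exact Finset.card_pos.mpr hne
    -- for each j ∈ s, an element avoiding all others
    have hg : ∀ j ∈ s, ∃ g, ∀ i ∈ s.erase j, g ∉ W i := by
      intro j hj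
      refine ih (n - 1) (by omega) (s.erase j) ?_ (by omega) ?_ ?_
      · rw [Finset.card_erase_of_mem hj, hcard]
      · intro i hi; exact hsat i (Finset.mem_of_mem_erase hi)
      · intro i hi; exact hprop i (Finset.mem_of_mem_erase hi)
    by_cases hex : ∃ j ∈ s, ∃ g, (∀ i ∈ s.erase j, g ∉ W i) ∧ g ∉ W j
    · obtain ⟨j, hj, g, hg1, hg2⟩ := hex
      refine ⟨g, fun i hi => ?_⟩
      by_cases hij : i = j
      · subst hij; exact hg2
      · exact hg1 i (Finset.mem_erase.mpr ⟨hij, hi⟩)
    push Not at hex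
    obtain ⟨i₁, hi₁⟩ := hne
    obtain ⟨u, hu⟩ := hg i₁ hi₁
    have hu1 : u ∈ W i₁ := hex i₁ hi₁ u hu
    obtain ⟨v, hv⟩ : ∃ v, v ∉ W i₁ := by
      by_contra hcon
      push Not at hcon
      exact hprop i₁ hi₁ (by rw [eq_top_iff]; intro x _; exact hcon x)
    by_contra hcon
    push Not at hcon
    -- every e_c lies in some W i with i ≠ i₁
    have hch : ∀ c : Fin N, ∃ i ∈ s.erase i₁, b c • v + a c • u ∈ W i := by
      intro c
      obtain ⟨i, hi, hmem⟩ := hcon (b c • v + a c • u)
      refine ⟨i, Finset.mem_erase.mpr ⟨?_, hi⟩, hmem⟩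
      rintro rfl
      have h1 : b c • v ∈ W i := by
        have := (W i).sub_mem hmem ((W i).smul_mem (a c) hu1)
        simpa using this
      exact hv (hsat i hi (b c) (hb c) v h1)
    choose f hf1 hf2 using hch
    have hlt : (s.erase i₁).card < (Finset.univ : Finset (Fin N)).card := by
      rw [Finset.card_erase_of_mem hi₁, Finset.card_univ, Fintype.card_fin]; omega
    obtain ⟨c, -, c', -, hcc, hfc⟩ :=
      Finset.exists_ne_map_eq_of_card_lt_of_maps_to hlt (f := f) (fun c _ => hf1 c)
    have hi := hf1 c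
    have hm1 := hf2 c
    have hm2 := hf2 c'
    rw [← hfc] at hm2
    have hmem : (a c * b c' - a c' * b c) • u ∈ W (f c) := by
      have h3 := (W (f c)).sub_mem ((W (f c)).smul_mem (b c') hm1) ((W (f c)).smul_mem (b c) hm2)
      have h4 : b c' • (b c • v + a c • u) - b c • (b c' • v + a c' • u) =
          (a c * b c' - a c' * b c) • u := by
        simp only [smul_add, smul_smul, sub_smul]
        rw [mul_comm (b c') (b c), mul_comm (b c') (a c), mul_comm (b c) (a c')]
        abel
      rwa [h4] at h3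
    have hu2 := hsat (f c) (Finset.mem_of_mem_erase hi) _ (hab c c' hcc) u hmem
    exact hu (f c) hi hu2

variable [p.IsPrime]

/-- elements of the residue field as fractions -/
theorem exists_frac (c : p.ResidueField) :
    ∃ a b : R, b ∉ p ∧ c * algebraMap R p.ResidueField b = algebraMap R p.ResidueField a := by
  obtain ⟨y, rfl⟩ := IsLocalRing.residue_surjective (R := Localization.AtPrime p) c
  obtain ⟨a, s, rfl⟩ := IsLocalization.exists_mk'_eq p.primeCompl y
  refine ⟨a, s, s.2, ?_⟩
  rw [IsScalarTower.algebraMap_apply R (Localization.AtPrime p) p.ResidueField,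
    IsScalarTower.algebraMap_apply R (Localization.AtPrime p) p.ResidueField]
  change IsLocalRing.residue _ _ * IsLocalRing.residue _ _ = IsLocalRing.residue _ _
  rw [← map_mul, IsLocalization.mk'_spec]

theorem exists_not_mem {ι : Type w} (d : ℕ) (hcard : (d : Cardinal.{u}) ≤ Cardinal.mk p.ResidueField)
    (s : Finset ι) (hs : s.card ≤ d) (W : ι → Submodule R M)
    (hsat : ∀ i ∈ s, Sat p (W i)) (hprop : ∀ i ∈ s, W i ≠ ⊤) : ∃ m, ∀ i ∈ s, m ∉ W i := by
  classical
  have h1 : Cardinal.lift.{u} (Cardinal.mk (Fin d)) ≤ Cardinal.lift.{0} (Cardinal.mk p.ResidueField) := by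
    simpa using hcard
  obtain ⟨e⟩ := Cardinal.lift_mk_le'.mp h1
  choose a b hb hc using fun j : Fin d => exists_frac p (e j)
  have hφ : ∀ x : R, algebraMap R p.ResidueField x = 0 ↔ x ∈ p :=
    fun x => Ideal.algebraMap_residueField_eq_zero
  have hab : ∀ j k, j ≠ k → a j * b k - a k * b j ∉ p := by
    intro j k hjk hmem
    rw [← hφ, map_sub, map_mul, map_mul, ← hc j, ← hc k, sub_eq_zero] at hmem
    have hbj : algebraMap R p.ResidueField (b j) ≠ 0 := fun h => hb j ((hφ _).mp h)
    have hbk : algebraMap R p.ResidueField (b k) ≠ 0 := fun h => hb k ((hφ _).mp h)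
    have : e j = e k := by
      have h2 : (e j - e k) * (algebraMap R p.ResidueField (b j) * algebraMap R p.ResidueField (b k)) = 0 := by
        linear_combination hmem
      rcases mul_eq_zero.mp h2 with h3 | h3
      · exact sub_eq_zero.mp h3
      · exact absurd h3 (mul_ne_zero hbj hbk)
    exact hjk (e.injective this)
  exact exists_not_mem_aux p d a b hb hab W s.card s rfl hs hsat hprop

end Groth.Agent.H2.PrAvoid
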