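import Groth.Agent.Lib.Helper2.GrGen2
import Groth.Agent.Lib.Helper2.PrAvoid

/-!
Degree-one sections avoiding finitely many points of `Proj` over a common prime with large
residue field.
-/

namespace Groth.Agent.H2.GrGen

open DirectSum AlgebraicGeometry

universe u

variable {R A : Type u} [CommRing R] [CommRing A] [Algebra R A] (𝒜 : ℕ → Submodule R A)
  [GradedAlgebra 𝒜]

theorem exists_degOne_not_mem (hgen : Algebra.adjoin R (𝒜 1 : Set A) = ⊤) (hfg : (𝒜 1).FG)
    (x : Proj 𝒜) : ∃ g ∈ 𝒜 1, g ∉ x.asHomogeneousIdeal := by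
  obtain ⟨s, f, hspan⟩ := Submodule.fg_iff_exists_fin_generating_family.mp hfg
  have hf : ∀ i, f i ∈ 𝒜 ((fun _ : Fin s => 1) i) := by
    intro i
    rw [← hspan]
    exact Submodule.subset_span ⟨i, rfl⟩
  have hgen' : Algebra.adjoin R (Set.range f) = ⊤ := by
    rw [eq_top_iff, ← hgen]
    apply Algebra.adjoin_le
    intro y hy
    have hy' : y ∈ Submodule.span R (Set.range f) := by rw [hspan]; exact hy
    exact Algebra.span_le_adjoin R _ hy'
  obtain ⟨i, hi⟩ := exists_not_mem 𝒜 f (fun _ => 1) (fun _ => Nat.one_pos) hf hgen' x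
  exact ⟨f i, hf i, hi⟩

theorem main4 (hgen : Algebra.adjoin R (𝒜 1 : Set A) = ⊤) (hfg : (𝒜 1).FG)
    (p : Ideal R) [p.IsPrime] {d : ℕ} (x : Fin d → Proj 𝒜)
    (hx : ∀ i, ((x i).asHomogeneousIdeal.toIdeal).comap (algebraMap R A) = p)
    (hcard : (d : Cardinal) ≤ Cardinal.mk p.ResidueField) :
    ∃ g ∈ 𝒜 1, ∀ i, x i ∈ Proj.basicOpen 𝒜 g := by
  set W : Fin d → Submodule R (𝒜 1) := fun i =>
    Submodule.comap (𝒜 1).subtype ((x i).asHomogeneousIdeal.toIdeal.restrictScalars R) with hW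
  have hmem : ∀ i (m : 𝒜 1), m ∈ W i ↔ (m : A) ∈ (x i).asHomogeneousIdeal.toIdeal := by
    intro i m
    rfl
  have hsat : ∀ i ∈ (Finset.univ : Finset (Fin d)), PrAvoid.Sat p (W i) := by
    intro i _ r hr m hm
    rw [hmem] at hm ⊢
    rw [Submodule.coe_smul, Algebra.smul_def] at hm
    rcases (x i).isPrime.mem_or_mem hm with h | h
    · exfalso
      apply hr
      rw [← hx i]
      exact h
    · exact h
  have hprop : ∀ i ∈ (Finset.univ : Finset (Fin d)), W i ≠ ⊤ := by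
    intro i _ htop
    obtain ⟨g, hg1, hg2⟩ := exists_degOne_not_mem 𝒜 hgen hfg (x i)
    apply hg2
    have : (⟨g, hg1⟩ : 𝒜 1) ∈ W i := by rw [htop]; trivial
    exact (hmem i _).mp this
  obtain ⟨m, hm⟩ := PrAvoid.exists_not_mem p d hcard Finset.univ (by simp) W hsat hprop
  refine ⟨m.1, m.2, fun i => ?_⟩
  rw [Proj.mem_basicOpen]
  intro h
  exact hm i (Finset.mem_univ i) ((hmem i m).mpr h)

end Groth.Agent.H2.GrGen
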