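import Mathlib
import Groth.Agent.Lib.Helper2.Serre1
import Groth.Agent.Lib.Helper6.GrShiftRes
import Groth.Agent.Lib.Helper6.GrFinite
import Groth.Agent.Lib.Helper6.GrRes
import Groth.Agent.Lib.Helper6.GrSubQuot
import Groth.Agent.Lib.Helper6.GrGamma

/-! Lengths of the pieces of graded modules and of graded local cohomology over the degree-zero
subring: additivity of the Hilbert function on short exact sequences, the Euler characteristic of
the long exact sequence, invariance under change of resolution and shifts, torsion modules. -/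

universe u
open DirectSum GrLC Groth.Agent.H6 Groth.Agent.H6.Gr
set_option linter.unusedSectionVars false

namespace Groth.Agent.H2.Serre

variable {R : Type u} [CommRing R] {𝒜 : ℤ → AddSubgroup R} [GradedRing 𝒜]

section Generic

variable {A B C : Type u} [AddCommGroup A] [Module R A] [AddCommGroup B] [Module R B]
  [AddCommGroup C] [Module R C]

variable (𝒜) in
/-- an `R`-linear map as a map over the degree-zero subring -/
noncomputable abbrev rs (f : A →ₗ[R] B) : A →ₗ[GrLC.deg0 𝒜] B := f.restrictScalars (GrLC.deg0 𝒜)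

/-- exactness on pieces -/
theorem piece_inf_ker (𝓐 : ℤ → AddSubgroup A) (𝓑 : ℤ → AddSubgroup B)
    (hA : DirectSum.IsInternal 𝓐) (hB : DirectSum.IsInternal 𝓑) {f : A →ₗ[R] B} {g : B →ₗ[R] C}
    (hf : GrLC.IsGrHom 𝓐 𝓑 f) (hfg : Function.Exact f g) (n : ℤ)
    (UA : Submodule (GrLC.deg0 𝒜) A) (hUA : ∀ x, x ∈ UA ↔ x ∈ 𝓐 n)
    (UB : Submodule (GrLC.deg0 𝒜) B) (hUB : ∀ x, x ∈ UB ↔ x ∈ 𝓑 n) :
    UB ⊓ LinearMap.ker (rs 𝒜 g) = UA.map (rs 𝒜 f) := by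
  ext y
  constructor
  · rintro ⟨hy1, hy2⟩
    have h1 : g y = 0 := hy2
    have h2 : ∃ x, f x = y := (hfg y).mp h1
    obtain ⟨x, hx, hxy⟩ := exists_mem_of_isGrHom 𝓐 𝓑 hA hB hf ((hUB y).mp hy1) h2
    exact ⟨x, (hUA x).mpr hx, hxy⟩
  · rintro ⟨x, hx, rfl⟩
    refine ⟨(hUB _).mpr (hf n x ((hUA x).mp hx)), ?_⟩
    change g (f x) = 0
    exact (hfg (f x)).mpr ⟨x, rfl⟩

theorem piece_inf_ker_of_injective {f : A →ₗ[R] B} (hf : Function.Injective f)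
    (UA : Submodule (GrLC.deg0 𝒜) A) : UA ⊓ LinearMap.ker (rs 𝒜 f) = ⊥ := by
  rw [eq_bot_iff]
  rintro x ⟨-, hx⟩
  have h1 : f x = 0 := hx
  rw [Submodule.mem_bot]
  exact hf (h1.trans (map_zero f).symm)

/-- pieces matched by a linear equivalence have the same length -/
theorem len_eq_of_equiv (φ : A ≃ₗ[R] B) (UA : Submodule (GrLC.deg0 𝒜) A)
    (UB : Submodule (GrLC.deg0 𝒜) B) (h : ∀ y, y ∈ UA ↔ φ y ∈ UB) : len UA = len UB := by
  have h1 : UB = UA.map (rs 𝒜 φ.toLinearMap) := by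
    ext z
    constructor
    · intro hz
      refine ⟨φ.symm z, (h _).mpr (by rw [LinearEquiv.apply_symm_apply]; exact hz), ?_⟩
      exact φ.apply_symm_apply z
    · rintro ⟨y, hy, rfl⟩
      exact (h y).mp hy
  rw [h1, len_map_eq _ _ (piece_inf_ker_of_injective φ.injective UA)]

theorem length_eq_of_equiv (φ : A ≃ₗ[R] B) (UA : Submodule (GrLC.deg0 𝒜) A)
    (UB : Submodule (GrLC.deg0 𝒜) B) (h : ∀ y, y ∈ UA ↔ φ y ∈ UB) :
    Module.length (GrLC.deg0 𝒜) UA = Module.length (GrLC.deg0 𝒜) UB := by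
  have h1 : UB = UA.map (rs 𝒜 φ.toLinearMap) := by
    ext z
    constructor
    · intro hz
      refine ⟨φ.symm z, (h _).mpr (by rw [LinearEquiv.apply_symm_apply]; exact hz), ?_⟩
      exact φ.apply_symm_apply z
    · rintro ⟨y, hy, rfl⟩
      exact (h y).mp hy
  rw [h1, length_map_eq _ _ (piece_inf_ker_of_injective φ.injective UA)]

end Generic

section Hilb

variable {M' M M'' : Type u} [AddCommGroup M'] [Module R M'] [AddCommGroup M] [Module R M]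
  [AddCommGroup M''] [Module R M''] {ℳ' : ℤ → AddSubgroup M'} {ℳ : ℤ → AddSubgroup M}
  {ℳ'' : ℤ → AddSubgroup M''} [DirectSum.Decomposition ℳ'] [DirectSum.Decomposition ℳ]
  [DirectSum.Decomposition ℳ''] [SetLike.GradedSMul 𝒜 ℳ'] [SetLike.GradedSMul 𝒜 ℳ]
  [SetLike.GradedSMul 𝒜 ℳ''] {i : M' →ₗ[R] M} {p : M →ₗ[R] M''}

/-- additivity of the Hilbert function -/
theorem hilb_add (S : GrSES ℳ' ℳ ℳ'' i p) (n : ℤ)
    (hfin : Module.length (GrLC.deg0 𝒜) (GrLC.comp 𝒜 ℳ n) ≠ ⊤) :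
    len (GrLC.comp 𝒜 ℳ n) = len (GrLC.comp 𝒜 ℳ' n) + len (GrLC.comp 𝒜 ℳ'' n) := by
  have hex : Function.Exact i p := by
    intro m
    rw [S.exact m]
    rfl
  have h1 := piece_inf_ker (𝒜 := 𝒜) ℳ' ℳ (DirectSum.Decomposition.isInternal ℳ')
    (DirectSum.Decomposition.isInternal ℳ) S.hi hex n (GrLC.comp 𝒜 ℳ' n) (fun _ => Iff.rfl)
    (GrLC.comp 𝒜 ℳ n) (fun _ => Iff.rfl)
  have h2 : (GrLC.comp 𝒜 ℳ n).map (rs 𝒜 p) = GrLC.comp 𝒜 ℳ'' n := by
    ext z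
    constructor
    · rintro ⟨y, hy, rfl⟩
      exact S.hp n y hy
    · intro hz
      obtain ⟨y, hy⟩ := S.surj z
      refine ⟨proj ℳ n y, proj_mem ℳ n y, ?_⟩
      change p (proj ℳ n y) = z
      rw [isGrHom_proj ℳ ℳ'' S.hp, hy]
      exact proj_of_mem ℳ'' hz
  rw [len_eq_inf_ker_add_map (rs 𝒜 p) _ hfin, h1, h2,
    len_map_eq _ _ (piece_inf_ker_of_injective S.inj _)]

end Hilb

section LC

variable {M' M M'' : Type u} [AddCommGroup M'] [Module R M'] [AddCommGroup M] [Module R M]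
  [AddCommGroup M''] [Module R M''] {ℳ' : ℤ → AddSubgroup M'} {ℳ : ℤ → AddSubgroup M}
  {ℳ'' : ℤ → AddSubgroup M''} [DirectSum.Decomposition ℳ'] [DirectSum.Decomposition ℳ]
  [DirectSum.Decomposition ℳ''] [SetLike.GradedSMul 𝒜 ℳ'] [SetLike.GradedSMul 𝒜 ℳ]
  [SetLike.GradedSMul 𝒜 ℳ''] {i : M' →ₗ[R] M} {p : M →ₗ[R] M''}

/-- the length of a piece of graded local cohomology -/
noncomputable def cl (E : GrLC.StarInjRes 𝒜 ℳ) (a : HomogeneousIdeal 𝒜) (q : ℕ) (n : ℤ) : ℕ :=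
  len (E.Hcomp a q n)

/-- independence of the resolution -/
theorem length_Hcomp_congr (E F : GrLC.StarInjRes 𝒜 ℳ) (a : HomogeneousIdeal 𝒜) (q : ℕ) (n : ℤ) :
    Module.length (GrLC.deg0 𝒜) (E.Hcomp a q n) = Module.length (GrLC.deg0 𝒜) (F.Hcomp a q n) := by
  apply length_eq_of_equiv (Hequiv a E F q)
  intro y
  constructor
  · intro hy
    exact Hequiv_isGrHom a E F q n y hy
  · intro hy
    have := Hequiv_symm_isGrHom a E F q n _ hy
    rwa [LinearEquiv.coe_coe, LinearEquiv.symm_apply_apply] at this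

theorem cl_congr (E F : GrLC.StarInjRes 𝒜 ℳ) (a : HomogeneousIdeal 𝒜) (q : ℕ) (n : ℤ) :
    cl E a q n = cl F a q n := by
  unfold cl len
  rw [length_Hcomp_congr E F a q n]

/-- shifts -/
theorem cl_shift (E : GrLC.StarInjRes 𝒜 ℳ) (a : HomogeneousIdeal 𝒜) (d : ℤ) (q : ℕ) (n : ℤ) :
    cl (shiftRes E d) a q n = cl E a q (n - d) := by
  unfold cl
  apply len_eq_of_equiv (shiftH E a d q)
  intro y
  exact shiftH_mem E a d q n y

theorem length_Hcomp_shift (E : GrLC.StarInjRes 𝒜 ℳ) (a : HomogeneousIdeal 𝒜) (d : ℤ) (q : ℕ)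
    (n : ℤ) : Module.length (GrLC.deg0 𝒜) ((shiftRes E d).Hcomp a q n) =
      Module.length (GrLC.deg0 𝒜) (E.Hcomp a q (n - d)) := by
  apply length_eq_of_equiv (shiftH E a d q)
  intro y
  exact shiftH_mem E a d q n y

/-- the Euler characteristic of the long exact sequence, in one degree -/
theorem euler_les (S : GrSES ℳ' ℳ ℳ'' i p) (E' : GrLC.StarInjRes 𝒜 ℳ')
    (E : GrLC.StarInjRes 𝒜 ℳ) (E'' : GrLC.StarInjRes 𝒜 ℳ'') (a : HomogeneousIdeal 𝒜) (n : ℤ)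
    (hfin' : ∀ q, Module.length (GrLC.deg0 𝒜) (E'.Hcomp a q n) ≠ ⊤)
    (hfin : ∀ q, Module.length (GrLC.deg0 𝒜) (E.Hcomp a q n) ≠ ⊤)
    (hfin'' : ∀ q, Module.length (GrLC.deg0 𝒜) (E''.Hcomp a q n) ≠ ⊤)
    (N : ℕ) (hN : E'.Hcomp a (N + 1) n = ⊥) :
    ∑ q ∈ Finset.range (N + 1),
      (-1 : ℤ) ^ q * ((cl E' a q n : ℤ) - (cl E a q n : ℤ) + (cl E'' a q n : ℤ)) = 0 := by
  obtain ⟨δ, hδ, hinj, hex1, hex2, hex3⟩ := exists_les S E' E E'' a
  set α : ∀ q, E'.H a q →ₗ[R] E.H a q := fun q => Hmap E' E a i S.hi q with hα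
  set β : ∀ q, E.H a q →ₗ[R] E''.H a q := fun q => Hmap E E'' a p S.hp q with hβ
  have hαg : ∀ q, GrLC.IsGrHom (E'.Hgr a q) (E.Hgr a q) (α q) := fun q =>
    Hmap_isGrHom (E := E') (F := E) a S.hi q
  have hβg : ∀ q, GrLC.IsGrHom (E.Hgr a q) (E''.Hgr a q) (β q) := fun q =>
    Hmap_isGrHom (E := E) (F := E'') a S.hp q
  have hI' := fun q => isInternal_Hgr 𝒜 ℳ' E' a q
  have hI := fun q => isInternal_Hgr 𝒜 ℳ E a q
  have hI'' := fun q => isInternal_Hgr 𝒜 ℳ'' E'' a q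
  -- exactness on pieces
  have e1 : ∀ q, E.Hcomp a q n ⊓ LinearMap.ker (rs 𝒜 (β q)) = (E'.Hcomp a q n).map (rs 𝒜 (α q)) :=
    fun q => piece_inf_ker (𝒜 := 𝒜) (E'.Hgr a q) (E.Hgr a q) (hI' q) (hI q) (hαg q) (hex1 q) n
      (E'.Hcomp a q n) (fun _ => Iff.rfl) (E.Hcomp a q n) (fun _ => Iff.rfl)
  have e2 : ∀ q, E''.Hcomp a q n ⊓ LinearMap.ker (rs 𝒜 (δ q)) = (E.Hcomp a q n).map (rs 𝒜 (β q)) :=
    fun q => piece_inf_ker (𝒜 := 𝒜) (E.Hgr a q) (E''.Hgr a q) (hI q) (hI'' q) (hβg q) (hex2 q) n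
      (E.Hcomp a q n) (fun _ => Iff.rfl) (E''.Hcomp a q n) (fun _ => Iff.rfl)
  have e3 : ∀ q, E'.Hcomp a (q + 1) n ⊓ LinearMap.ker (rs 𝒜 (α (q + 1))) =
      (E''.Hcomp a q n).map (rs 𝒜 (δ q)) :=
    fun q => piece_inf_ker (𝒜 := 𝒜) (E''.Hgr a q) (E'.Hgr a (q + 1)) (hI'' q) (hI' (q + 1)) (hδ q)
      (hex3 q) n (E''.Hcomp a q n) (fun _ => Iff.rfl) (E'.Hcomp a (q + 1) n) (fun _ => Iff.rfl)
  have e0 : E'.Hcomp a 0 n ⊓ LinearMap.ker (rs 𝒜 (α 0)) = ⊥ :=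
    piece_inf_ker_of_injective hinj _
  -- the lengths of the images
  set ca : ℕ → ℤ := fun q => (len ((E'.Hcomp a q n).map (rs 𝒜 (α q))) : ℤ) with hca
  set cb : ℕ → ℤ := fun q => (len ((E.Hcomp a q n).map (rs 𝒜 (β q))) : ℤ) with hcb
  set cc : ℕ → ℤ := fun q => (len ((E''.Hcomp a q n).map (rs 𝒜 (δ q))) : ℤ) with hcc
  have key := alt_sum_eq (fun q => (cl E' a q n : ℤ)) (fun q => (cl E a q n : ℤ))
    (fun q => (cl E'' a q n : ℤ)) ca cb cc ?_ ?_ ?_ ?_ N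
  · rw [key]
    have h1 : cc N = 0 := by
      have h2 : (E''.Hcomp a N n).map (rs 𝒜 (δ N)) = ⊥ := by
        rw [← e3 N, hN, bot_inf_eq]
      change (len ((E''.Hcomp a N n).map (rs 𝒜 (δ N))) : ℤ) = 0
      rw [h2, len_bot]
      rfl
    rw [h1, mul_zero]
  · change (cl E' a 0 n : ℤ) = (len ((E'.Hcomp a 0 n).map (rs 𝒜 (α 0))) : ℤ)
    unfold cl
    rw [len_eq_inf_ker_add_map (rs 𝒜 (α 0)) _ (hfin' 0), e0, len_bot, zero_add]
  · intro q
    change (cl E' a (q + 1) n : ℤ) = (len ((E''.Hcomp a q n).map (rs 𝒜 (δ q))) : ℤ) +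
      (len ((E'.Hcomp a (q + 1) n).map (rs 𝒜 (α (q + 1)))) : ℤ)
    unfold cl
    rw [len_eq_inf_ker_add_map (rs 𝒜 (α (q + 1))) _ (hfin' (q + 1)), e3 q]
    push_cast
    rfl
  · intro q
    change (cl E a q n : ℤ) = (len ((E'.Hcomp a q n).map (rs 𝒜 (α q))) : ℤ) +
      (len ((E.Hcomp a q n).map (rs 𝒜 (β q))) : ℤ)
    unfold cl
    rw [len_eq_inf_ker_add_map (rs 𝒜 (β q)) _ (hfin q), e1 q]
    push_cast
    rfl
  · intro q
    change (cl E'' a q n : ℤ) = (len ((E.Hcomp a q n).map (rs 𝒜 (β q))) : ℤ) +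
      (len ((E''.Hcomp a q n).map (rs 𝒜 (δ q))) : ℤ)
    unfold cl
    rw [len_eq_inf_ker_add_map (rs 𝒜 (δ q)) _ (hfin'' q), e2 q]
    push_cast
    rfl

end LC

section Torsion

variable [IsNoetherianRing R] {M : Type u} [AddCommGroup M] [Module R M] {ℳ : ℤ → AddSubgroup M}
  [DirectSum.Decomposition ℳ] [SetLike.GradedSMul 𝒜 ℳ]

/-- higher local cohomology of a torsion module vanishes -/
theorem Hcomp_eq_bot_of_torsion (E : GrLC.StarInjRes 𝒜 ℳ) (a : HomogeneousIdeal 𝒜)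
    (hM : ∀ m : M, m ∈ GrLC.gam a.toIdeal M) (q : ℕ) (n : ℤ) : E.Hcomp a (q + 1) n = ⊥ := by
  rw [eq_bot_iff]
  intro y _
  rw [Submodule.mem_bot]
  exact H_eq_zero_of_torsion E a hM q y

/-- the map from a torsion module to its `H^0` -/
noncomputable def toH0 (E : GrLC.StarInjRes 𝒜 ℳ) (a : HomogeneousIdeal 𝒜)
    (hM : ∀ m : M, m ∈ GrLC.gam a.toIdeal M) : M →ₗ[R] E.H a 0 :=
  E.toH a 0 ∘ₗ LinearMap.codRestrict (E.cocyc a 0) E.ε
    (fun m => ⟨map_mem_gam E.ε a.toIdeal (hM m), d_ε E m⟩)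

theorem toH0_injective (E : GrLC.StarInjRes 𝒜 ℳ) (a : HomogeneousIdeal 𝒜)
    (hM : ∀ m : M, m ∈ GrLC.gam a.toIdeal M) : Function.Injective (toH0 E a hM) := by
  rw [injective_iff_map_eq_zero]
  intro m hm
  change E.toH a 0 _ = 0 at hm
  rw [toH_eq_zero_iff, mem_cobdy_zero] at hm
  exact E.ε_injective ((show E.ε m = 0 from hm).trans (map_zero _).symm)

/-- `H^0` of a torsion module is the module itself, piece by piece -/
theorem length_H0_of_torsion (E : GrLC.StarInjRes 𝒜 ℳ) (a : HomogeneousIdeal 𝒜)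
    (hM : ∀ m : M, m ∈ GrLC.gam a.toIdeal M) (n : ℤ) :
    Module.length (GrLC.deg0 𝒜) (E.Hcomp a 0 n) =
      Module.length (GrLC.deg0 𝒜) (GrLC.comp 𝒜 ℳ n) := by
  have h1 : E.Hcomp a 0 n = (GrLC.comp 𝒜 ℳ n).map (rs 𝒜 (toH0 E a hM)) := by
    ext y
    constructor
    · rintro ⟨z, hz, rfl⟩
      obtain ⟨m, hm⟩ := exists_of_d_zero_eq_zero E (show E.d 0 z = 0 from z.2.2)
      have hmn : m ∈ ℳ n := by
        apply mem_of_map_mem ℳ (E.X 0).gr E.ε_grHom E.ε_injective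
        rw [hm]
        exact hz
      refine ⟨m, hmn, ?_⟩
      change E.toH a 0 _ = E.toH a 0 z
      congr 1
      apply Subtype.ext
      exact hm
    · rintro ⟨m, hm, rfl⟩
      exact ⟨_, E.ε_grHom n m hm, rfl⟩
  rw [h1, length_map_eq _ _ (piece_inf_ker_of_injective (toH0_injective E a hM) _)]

end Torsion

end Groth.Agent.H2.Serre
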