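import Mathlib
import Groth.Agent.Lib.Helper2.Serre2

/-! The Grothendieck–Serre formula, core induction: the difference between the Hilbert function
and the alternating sum of the lengths of the pieces of graded local cohomology is a polynomial
function on all of `ℤ`. -/

universe u
open DirectSum GrLC Groth.Agent.H6 Groth.Agent.H6.Gr
set_option linter.unusedSectionVars false

namespace Groth.Agent.H2.Serre

variable {R : Type u} [CommRing R] [IsNoetherianRing R] {𝒜 : ℤ → AddSubgroup R} [GradedRing 𝒜]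

/-- the finiteness and vanishing properties of the supporting ideal used in the induction -/
structure Good (m : HomogeneousIdeal 𝒜) (c : ℕ) : Prop where
  fin_comp : ∀ (X : GMod.{u} 𝒜) [Module.Finite R X.carrier] (n : ℤ),
    Module.length (GrLC.deg0 𝒜) (GrLC.comp 𝒜 X.gr n) ≠ ⊤
  fin_H : ∀ (X : GMod.{u} 𝒜) [Module.Finite R X.carrier] (E : GrLC.StarInjRes 𝒜 X.gr) (q : ℕ)
    (n : ℤ), Module.length (GrLC.deg0 𝒜) (E.Hcomp m q n) ≠ ⊤
  van_H : ∀ (X : GMod.{u} 𝒜) [Module.Finite R X.carrier] (E : GrLC.StarInjRes 𝒜 X.gr) (q : ℕ),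
    c < q → ∀ n : ℤ, E.Hcomp m q n = ⊥
  van_large : ∀ (X : GMod.{u} 𝒜) [Module.Finite R X.carrier] (E : GrLC.StarInjRes 𝒜 X.gr) (q : ℕ),
    ∃ N : ℤ, ∀ n : ℤ, N ≤ n → E.Hcomp m q n = ⊥
  tors : ∀ (X : GMod.{u} 𝒜) [Module.Finite R X.carrier],
    (∀ k : ℤ, 0 < k → ∀ r ∈ 𝒜 k, ∀ u : X.carrier, r • u = 0) →
      ∀ u : X.carrier, u ∈ GrLC.gam m.toIdeal X.carrier

variable (m : HomogeneousIdeal 𝒜) (c : ℕ)

/-- the Hilbert function -/
noncomputable def hil (X : GMod.{u} 𝒜) (n : ℤ) : ℤ := (len (GrLC.comp 𝒜 X.gr n) : ℤ)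

/-- the Euler characteristic of the pieces of local cohomology -/
noncomputable def chi (X : GMod.{u} 𝒜) (n : ℤ) : ℤ :=
  ∑ q ∈ Finset.range (c + 1), (-1 : ℤ) ^ q * (cl (starInjRes 𝒜 X.gr) m q n : ℤ)

/-- the defect -/
noncomputable def Dl (X : GMod.{u} 𝒜) (n : ℤ) : ℤ := hil X n - chi m c X n

variable {m c} (hG : Good m c)

include hG

theorem chi_eq (X : GMod.{u} 𝒜) (E : GrLC.StarInjRes 𝒜 X.gr) (n : ℤ) :
    chi m c X n = ∑ q ∈ Finset.range (c + 1), (-1 : ℤ) ^ q * (cl E m q n : ℤ) := by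
  unfold chi
  refine Finset.sum_congr rfl fun q _ => ?_
  rw [cl_congr (starInjRes 𝒜 X.gr) E m q n]

section SES

variable {X' X X'' : GMod.{u} 𝒜} [Module.Finite R X'.carrier] [Module.Finite R X.carrier]
  [Module.Finite R X''.carrier] {i : X'.carrier →ₗ[R] X.carrier}
  {p : X.carrier →ₗ[R] X''.carrier}

theorem Dl_add (S : GrSES X'.gr X.gr X''.gr i p) (n : ℤ) :
    Dl m c X n = Dl m c X' n + Dl m c X'' n := by
  have h1 := hilb_add (𝒜 := 𝒜) S n (hG.fin_comp X n)
  have h2 := euler_les S (starInjRes 𝒜 X'.gr) (starInjRes 𝒜 X.gr) (starInjRes 𝒜 X''.gr) m n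
    (fun q => hG.fin_H X' _ q n) (fun q => hG.fin_H X _ q n) (fun q => hG.fin_H X'' _ q n) c
    (hG.van_H X' _ (c + 1) (Nat.lt_succ_self c) n)
  have h3 : chi m c X' n - chi m c X n + chi m c X'' n = 0 := by
    unfold chi
    rw [← Finset.sum_sub_distrib, ← Finset.sum_add_distrib, ← h2]
    refine Finset.sum_congr rfl fun q _ => ?_
    ring
  unfold Dl hil
  rw [h1]
  push_cast
  linarith

end SES

theorem Dl_shift (X : GMod.{u} 𝒜) (d : ℤ) (n : ℤ) :
    Dl m c (Msh (𝒜 := 𝒜) X.gr d) n = Dl m c X (n - d) := by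
  unfold Dl
  congr 1
  rw [chi_eq hG (Msh (𝒜 := 𝒜) X.gr d) (shiftRes (starInjRes 𝒜 X.gr) d) n]
  unfold chi
  refine Finset.sum_congr rfl fun q _ => ?_
  rw [cl_shift]

/-- torsion modules have zero defect -/
theorem Dl_of_torsion (X : GMod.{u} 𝒜) [Module.Finite R X.carrier]
    (hX : ∀ u : X.carrier, u ∈ GrLC.gam m.toIdeal X.carrier) (n : ℤ) : Dl m c X n = 0 := by
  unfold Dl chi hil
  rw [Finset.sum_range_succ']
  have h1 : ∀ q ∈ Finset.range c,
      (-1 : ℤ) ^ (q + 1) * (cl (starInjRes 𝒜 X.gr) m (q + 1) n : ℤ) = 0 := by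
    intro q _
    unfold cl
    rw [Hcomp_eq_bot_of_torsion (starInjRes 𝒜 X.gr) m hX q n, len_bot]
    simp
  rw [Finset.sum_eq_zero h1, zero_add, pow_zero, one_mul]
  unfold cl len
  rw [length_H0_of_torsion (starInjRes 𝒜 X.gr) m hX n, sub_self]

omit hG in
theorem finite_of_shift (X : GMod.{u} 𝒜) [h : Module.Finite R X.carrier] (d : ℤ) :
    Module.Finite R (Msh (𝒜 := 𝒜) X.gr d).carrier := h

/-- the difference equation: multiplication by an element of degree one -/
theorem Dl_diff (X : GMod.{u} 𝒜) [Module.Finite R X.carrier] {x : R} (hx : x ∈ 𝒜 1) :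
    ∃ (K L : GMod.{u} 𝒜) (_ : Module.Finite R K.carrier) (_ : Module.Finite R L.carrier),
      (∀ u : K.carrier, x • u = 0) ∧ (∀ u : L.carrier, x • u = 0) ∧
      (∀ r : R, (∀ u : X.carrier, r • u = 0) → ∀ u : K.carrier, r • u = 0) ∧
      (∀ r : R, (∀ u : X.carrier, r • u = 0) → ∀ u : L.carrier, r • u = 0) ∧
      ∀ n : ℤ, Dl m c X n - Dl m c X (n - 1) = Dl m c L n - Dl m c K n := by
  let Xs : GMod.{u} 𝒜 := Msh (𝒜 := 𝒜) X.gr 1
  haveI : Module.Finite R Xs.carrier := finite_of_shift X 1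
  let mx : Xs.carrier →ₗ[R] X.carrier := LinearMap.lsmul R X.carrier x
  have hmx : GrLC.IsGrHom Xs.gr X.gr mx := lsmul_isGrHom_shift (𝒜 := 𝒜) (ℳ := X.gr) 1 hx
  have hker : (LinearMap.ker mx).IsHomogeneous Xs.gr := ker_isHomogeneous Xs.gr X.gr hmx
  have hrange : (LinearMap.range mx).IsHomogeneous X.gr := range_isHomogeneous Xs.gr X.gr hmx
  have hkq : (LinearMap.ker (LinearMap.range mx).mkQ).IsHomogeneous X.gr := by
    rw [Submodule.ker_mkQ]; exact hrange
  let K : GMod.{u} 𝒜 := GMod.ofSub 𝒜 Xs.gr hker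
  let I : GMod.{u} 𝒜 := GMod.ofSub 𝒜 X.gr hrange
  let L : GMod.{u} 𝒜 := GMod.ofQuot 𝒜 X.gr (Submodule.mkQ_surjective (LinearMap.range mx)) hkq
  haveI hKf : Module.Finite R K.carrier :=
    (inferInstance : Module.Finite R ↥(LinearMap.ker mx))
  haveI hIf : Module.Finite R I.carrier :=
    (inferInstance : Module.Finite R ↥(LinearMap.range mx))
  haveI hLf : Module.Finite R L.carrier :=
    (inferInstance : Module.Finite R (X.carrier ⧸ LinearMap.range mx))
  let iK : K.carrier →ₗ[R] Xs.carrier := (LinearMap.ker mx).subtype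
  let pI : Xs.carrier →ₗ[R] I.carrier := mx.rangeRestrict
  let iI : I.carrier →ₗ[R] X.carrier := (LinearMap.range mx).subtype
  let pL : X.carrier →ₗ[R] L.carrier := (LinearMap.range mx).mkQ
  have S1 : GrSES K.gr Xs.gr I.gr iK pI :=
    { hi := fun g y hy => hy
      hp := fun g y hy => hmx g y hy
      inj := Subtype.val_injective
      surj := LinearMap.surjective_rangeRestrict mx
      exact := by
        intro y
        constructor
        · intro hy
          have h1 : mx y = 0 := congrArg Subtype.val hy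
          exact ⟨⟨y, h1⟩, rfl⟩
        · rintro ⟨y', rfl⟩
          apply Subtype.ext
          exact y'.2 }
  have S2 : GrSES I.gr X.gr L.gr iI pL :=
    { hi := fun g y hy => hy
      hp := fun g y hy => ⟨y, hy, rfl⟩
      inj := Subtype.val_injective
      surj := Submodule.mkQ_surjective _
      exact := by
        intro y
        constructor
        · intro hy
          have h1 : y ∈ LinearMap.range mx := (Submodule.Quotient.mk_eq_zero _).mp hy
          exact ⟨⟨y, h1⟩, rfl⟩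
        · rintro ⟨y', rfl⟩
          exact (Submodule.Quotient.mk_eq_zero _).mpr y'.2 }
  refine ⟨K, L, hKf, hLf, ?_, ?_, ?_, ?_, ?_⟩
  · intro u
    apply Subtype.ext
    exact u.2
  · intro u
    obtain ⟨y, rfl⟩ := S2.surj u
    have h1 : x • pL y = pL (x • y) := (map_smul pL x y).symm
    rw [h1]
    exact (S2.exact _).mpr ⟨⟨x • y, ⟨y, rfl⟩⟩, rfl⟩
  · intro r hr u
    apply Subtype.ext
    exact hr u.1
  · intro r hr u
    obtain ⟨y, rfl⟩ := S2.surj u
    have h1 : r • pL y = pL (r • y) := (map_smul pL r y).symm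
    rw [h1, hr y, map_zero]
  · intro n
    have h1 := Dl_add hG S1 n
    have h2 := Dl_add hG S2 n
    have h3 := Dl_shift hG X 1 n
    change Dl m c Xs n = _ at h3
    rw [h3] at h1
    linarith

/-- **polynomiality of the defect** -/
theorem exists_poly (T : Finset R) (hT : ∀ t ∈ T, t ∈ 𝒜 1)
    (hgen : ∀ k : ℤ, 0 < k → ∀ r ∈ 𝒜 k, r ∈ Ideal.span (T : Set R)) (X : GMod.{u} 𝒜)
    [Module.Finite R X.carrier] :
    ∃ Q : Polynomial ℚ, ∀ n : ℤ, (Dl m c X n : ℚ) = Q.eval (n : ℚ) := by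
  classical
  have key : ∀ S : Finset R, S ⊆ T → ∀ (X : GMod.{u} 𝒜) [Module.Finite R X.carrier],
      (∀ t ∈ T, t ∉ S → ∀ u : X.carrier, t • u = 0) →
      ∃ Q : Polynomial ℚ, ∀ n : ℤ, (Dl m c X n : ℚ) = Q.eval (n : ℚ) := by
    intro S
    induction S using Finset.induction_on with
    | empty =>
      intro _ X _ hX
      refine ⟨0, fun n => ?_⟩
      have hkill : ∀ r ∈ Ideal.span (T : Set R), ∀ u : X.carrier, r • u = 0 := by
        intro r hr u
        induction hr using Submodule.span_induction with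
        | mem t ht => exact hX t ht (Finset.notMem_empty t) u
        | zero => exact zero_smul _ _
        | add a b _ _ ha hb => rw [add_smul, ha, hb, add_zero]
        | smul a b _ hb => rw [smul_eq_mul, mul_smul, hb, smul_zero]
      have htors := hG.tors X (fun k hk r hr u => hkill r (hgen k hk r hr) u)
      rw [Dl_of_torsion hG X htors n]
      simp
    | insert t S htS ih =>
      intro hsub X _ hX
      have htT : t ∈ T := hsub (Finset.mem_insert_self t S)
      have hST : S ⊆ T := fun s hs => hsub (Finset.mem_insert_of_mem hs)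
      obtain ⟨K, L, hKf, hLf, hK, hL, hKX, hLX, hdiff⟩ := Dl_diff hG X (hT t htT)
      have hcond : ∀ (Y : GMod.{u} 𝒜), (∀ u : Y.carrier, t • u = 0) →
          (∀ r : R, (∀ u : X.carrier, r • u = 0) → ∀ u : Y.carrier, r • u = 0) →
          ∀ t' ∈ T, t' ∉ S → ∀ u : Y.carrier, t' • u = 0 := by
        intro Y hY hYX t' ht' ht'S u
        by_cases h : t' = t
        · rw [h]; exact hY u
        · exact hYX t' (hX t' ht' (fun hmem => by
            rcases Finset.mem_insert.mp hmem with h1 | h1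
            · exact h h1
            · exact ht'S h1)) u
      obtain ⟨QK, hQK⟩ := ih hST K (hcond K hK hKX)
      obtain ⟨QL, hQL⟩ := ih hST L (hcond L hL hLX)
      apply exists_poly_of_diff (fun n => (Dl m c X n : ℚ)) (QL - QK)
      intro n
      have := hdiff n
      rw [Polynomial.eval_sub, ← hQL n, ← hQK n]
      exact_mod_cast this
  exact key T (Finset.Subset.refl T) X (fun t ht hnt => absurd ht hnt)

/-- **the Grothendieck–Serre formula**, core form -/
theorem formula (T : Finset R) (hT : ∀ t ∈ T, t ∈ 𝒜 1)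
    (hgen : ∀ k : ℤ, 0 < k → ∀ r ∈ 𝒜 k, r ∈ Ideal.span (T : Set R)) (X : GMod.{u} 𝒜)
    [Module.Finite R X.carrier] (E : GrLC.StarInjRes 𝒜 X.gr) (P : Polynomial ℚ)
    (hP : ∃ N : ℤ, ∀ n : ℤ, N ≤ n → P.eval (n : ℚ) = (hil X n : ℚ)) (n : ℤ) :
    (hil X n : ℚ) - P.eval (n : ℚ) =
      ∑ q ∈ Finset.range (c + 1), (-1 : ℚ) ^ q * (cl E m q n : ℚ) := by
  obtain ⟨Q, hQ⟩ := exists_poly hG T hT hgen X
  obtain ⟨N0, hN0⟩ := hP
  -- all pieces vanish in large degrees
  have hvan : ∃ N1 : ℤ, ∀ n : ℤ, N1 ≤ n → ∀ q ∈ Finset.range (c + 1),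
      cl (starInjRes 𝒜 X.gr) m q n = 0 := by
    have : ∀ k : ℕ, ∃ N1 : ℤ, ∀ n : ℤ, N1 ≤ n → ∀ q ∈ Finset.range k,
        cl (starInjRes 𝒜 X.gr) m q n = 0 := by
      intro k
      induction k with
      | zero => exact ⟨0, fun n _ q hq => absurd (Finset.mem_range.mp hq) (Nat.not_lt_zero q)⟩
      | succ k ih =>
        obtain ⟨N1, hN1⟩ := ih
        obtain ⟨N2, hN2⟩ := hG.van_large X (starInjRes 𝒜 X.gr) k
        refine ⟨max N1 N2, fun n hn q hq => ?_⟩
        rcases Nat.lt_succ_iff_lt_or_eq.mp (Finset.mem_range.mp hq) with h | h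
        · exact hN1 n (le_trans (le_max_left _ _) hn) q (Finset.mem_range.mpr h)
        · subst h
          unfold cl
          rw [hN2 n (le_trans (le_max_right _ _) hn), len_bot]
    exact this (c + 1)
  obtain ⟨N1, hN1⟩ := hvan
  have hQP : Q = P := by
    apply Polynomial.eq_of_infinite_eval_eq
    apply Set.Infinite.mono (s := Set.range (fun k : ℕ => ((max N0 N1 + k : ℤ) : ℚ)))
    · rintro _ ⟨k, rfl⟩
      set n' : ℤ := max N0 N1 + k with hn'
      have h1 : N0 ≤ n' := by have := le_max_left N0 N1; omega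
      have h2 : N1 ≤ n' := by have := le_max_right N0 N1; omega
      change Q.eval (n' : ℚ) = P.eval (n' : ℚ)
      rw [← hQ n', hN0 n' h1]
      unfold Dl chi
      rw [Finset.sum_eq_zero (fun q hq => by rw [hN1 n' h2 q hq]; simp), sub_zero]
    · apply Set.infinite_range_of_injective
      intro k k' hkk'
      have : ((max N0 N1 + k : ℤ) : ℚ) = ((max N0 N1 + k' : ℤ) : ℚ) := hkk'
      have h3 : (max N0 N1 + k : ℤ) = max N0 N1 + k' := by exact_mod_cast this
      omega
  rw [← hQP, ← hQ n]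
  unfold Dl
  rw [chi_eq hG X E n]
  push_cast
  ring

end Groth.Agent.H2.Serre
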