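import Mathlib
import Groth.Agent.Lib.Helper2.Serre3
import Groth.Agent.Lib.Helper2.GrCM1
import Groth.Agent.Lib.Helper6.GrArtinian

/-! The Grothendieck–Serre formula for standard graded rings with Artinian degree-zero part
which are *local: verification of the hypotheses of the core induction. -/

universe u
open DirectSum GrLC Groth.Agent.H6 Groth.Agent.H6.Gr
set_option linter.unusedSectionVars false

namespace Groth.Agent.H2.Serre

variable {R : Type u} [CommRing R] {𝒜 : ℤ → AddSubgroup R} [GradedRing 𝒜]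
  (hpos : ∀ n : ℤ, n < 0 → 𝒜 n = ⊥)

section StarLocal

/-- the homogeneous ideal generated by an ideal of the degree-zero subring and the elements of
positive degree -/
def bigIdeal (n₀ : Ideal (GrLC.deg0 𝒜)) : Ideal R :=
  Ideal.span (((fun s : GrLC.deg0 𝒜 => (s : R)) '' (n₀ : Set (GrLC.deg0 𝒜))) ∪
    ⋃ k ∈ Set.Ioi (0 : ℤ), (𝒜 k : Set R))

theorem bigIdeal_isHomogeneous (n₀ : Ideal (GrLC.deg0 𝒜)) : (bigIdeal n₀).IsHomogeneous 𝒜 := by
  apply Ideal.homogeneous_span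
  rintro x (⟨s, -, rfl⟩ | hx)
  · exact ⟨0, s.2⟩
  · simp only [Set.mem_iUnion, Set.mem_Ioi, SetLike.mem_coe] at hx
    obtain ⟨k, -, hk⟩ := hx
    exact ⟨k, hk⟩

include hpos in
/-- the degree-zero component of an element of the big ideal lies in the small ideal -/
theorem proj_zero_mem_of_mem_bigIdeal (n₀ : Ideal (GrLC.deg0 𝒜)) {z : R} (hz : z ∈ bigIdeal n₀) :
    (⟨proj 𝒜 0 z, proj_mem 𝒜 0 z⟩ : GrLC.deg0 𝒜) ∈ n₀ := by
  have key : ∀ a : R, (⟨proj 𝒜 0 (a * z), proj_mem 𝒜 0 (a * z)⟩ : GrLC.deg0 𝒜) ∈ n₀ := by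
    unfold bigIdeal at hz
    induction hz using Submodule.span_induction with
    | mem x hx =>
      intro a
      rcases hx with ⟨s, hs, rfl⟩ | hx
      · have h1 : proj 𝒜 0 (a * (s : R)) = proj 𝒜 0 a * (s : R) := by
          rw [proj_mul_of_mem_right 𝒜 s.2, sub_zero]
        have h2 : (⟨proj 𝒜 0 (a * (s : R)), proj_mem 𝒜 0 _⟩ : GrLC.deg0 𝒜) =
            (⟨proj 𝒜 0 a, proj_mem 𝒜 0 a⟩ : GrLC.deg0 𝒜) * s := Subtype.ext h1
        rw [h2]
        exact n₀.mul_mem_left _ hs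
      · simp only [Set.mem_iUnion, Set.mem_Ioi, SetLike.mem_coe] at hx
        obtain ⟨k, hk, hxk⟩ := hx
        have h1 : proj 𝒜 0 (a * x) = 0 := by
          rw [proj_mul_of_mem_right 𝒜 hxk]
          have h2 := proj_mem 𝒜 (0 - k) a
          rw [hpos (0 - k) (by omega), AddSubgroup.mem_bot] at h2
          rw [h2, zero_mul]
        have h2 : (⟨proj 𝒜 0 (a * x), proj_mem 𝒜 0 _⟩ : GrLC.deg0 𝒜) = 0 := Subtype.ext h1
        rw [h2]
        exact n₀.zero_mem
    | zero =>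
      intro a
      have h1 : proj 𝒜 0 (a * 0) = 0 := by rw [mul_zero, map_zero]
      have h2 : (⟨proj 𝒜 0 (a * 0), proj_mem 𝒜 0 _⟩ : GrLC.deg0 𝒜) = 0 := Subtype.ext h1
      rw [h2]
      exact n₀.zero_mem
    | add x y _ _ hx hy =>
      intro a
      have h1 : proj 𝒜 0 (a * (x + y)) = proj 𝒜 0 (a * x) + proj 𝒜 0 (a * y) := by
        rw [mul_add, map_add]
      have h2 : (⟨proj 𝒜 0 (a * (x + y)), proj_mem 𝒜 0 _⟩ : GrLC.deg0 𝒜) =
          (⟨proj 𝒜 0 (a * x), proj_mem 𝒜 0 _⟩ : GrLC.deg0 𝒜) +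
            (⟨proj 𝒜 0 (a * y), proj_mem 𝒜 0 _⟩ : GrLC.deg0 𝒜) := Subtype.ext h1
      rw [h2]
      exact n₀.add_mem (hx a) (hy a)
    | smul b x _ hx =>
      intro a
      have h1 : proj 𝒜 0 (a * (b • x)) = proj 𝒜 0 ((a * b) * x) := by
        rw [smul_eq_mul, mul_assoc]
      have h2 : (⟨proj 𝒜 0 (a * (b • x)), proj_mem 𝒜 0 _⟩ : GrLC.deg0 𝒜) =
          (⟨proj 𝒜 0 ((a * b) * x), proj_mem 𝒜 0 _⟩ : GrLC.deg0 𝒜) := Subtype.ext h1
      rw [h2]
      exact hx (a * b)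
  have := key 1
  simpa using this

include hpos in
/-- the big ideal of a maximal ideal is a coatom of the lattice of homogeneous ideals -/
theorem bigIdeal_isCoatom (n₀ : Ideal (GrLC.deg0 𝒜)) [hn : n₀.IsMaximal] :
    IsCoatom (⟨bigIdeal n₀, bigIdeal_isHomogeneous n₀⟩ : HomogeneousIdeal 𝒜) := by
  constructor
  · intro h
    have h1 : (1 : R) ∈ bigIdeal (𝒜 := 𝒜) n₀ := by
      have : bigIdeal (𝒜 := 𝒜) n₀ = ⊤ := congrArg HomogeneousIdeal.toIdeal h
      rw [this]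
      trivial
    have h2 := proj_zero_mem_of_mem_bigIdeal hpos n₀ h1
    have h3 : (⟨proj 𝒜 0 (1 : R), proj_mem 𝒜 0 1⟩ : GrLC.deg0 𝒜) = 1 :=
      Subtype.ext (proj_of_mem 𝒜 SetLike.GradedOne.one_mem)
    rw [h3] at h2
    exact hn.ne_top ((Ideal.eq_top_iff_one _).mpr h2)
  · intro (J' : HomogeneousIdeal 𝒜) hJ'
    -- an element of `J'` outside the big ideal
    obtain ⟨z, hzJ', hz⟩ : ∃ z, z ∈ J'.toIdeal ∧ z ∉ bigIdeal (𝒜 := 𝒜) n₀ := by
      by_contra hcon
      push Not at hcon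
      exact (not_le_of_gt hJ') (fun z hz => hcon z hz)
    -- a component outside
    obtain ⟨k, hk⟩ : ∃ k, proj 𝒜 k z ∉ bigIdeal (𝒜 := 𝒜) n₀ := by
      by_contra hcon
      push Not at hcon
      apply hz
      obtain ⟨s, hs⟩ := exists_finset_sum_proj 𝒜 z
      rw [← hs]
      exact Ideal.sum_mem _ (fun k _ => hcon k)
    have hkJ' : proj 𝒜 k z ∈ J'.toIdeal := J'.isHomogeneous k hzJ'
    have hk0 : k = 0 := by
      rcases lt_trichotomy k 0 with h | h | h
      · exfalso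
        apply hk
        have h2 := proj_mem 𝒜 k z
        rw [hpos k h, AddSubgroup.mem_bot] at h2
        rw [h2]
        exact Ideal.zero_mem _
      · exact h
      · exfalso
        apply hk
        apply Ideal.subset_span
        right
        simp only [Set.mem_iUnion, Set.mem_Ioi, SetLike.mem_coe]
        exact ⟨k, h, proj_mem 𝒜 k z⟩
    subst hk0
    set y : GrLC.deg0 𝒜 := ⟨proj 𝒜 0 z, proj_mem 𝒜 0 z⟩ with hy
    have hyn : y ∉ n₀ := by
      intro h
      apply hk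
      apply Ideal.subset_span
      left
      exact ⟨y, h, rfl⟩
    obtain ⟨b, s, hs, hbs⟩ := hn.exists_inv hyn
    apply HomogeneousIdeal.toIdeal_injective
    rw [HomogeneousIdeal.toIdeal_top, Ideal.eq_top_iff_one]
    have h1 : (1 : R) = (b : R) * proj 𝒜 0 z + (s : R) := by
      have := congrArg (fun t : GrLC.deg0 𝒜 => (t : R)) hbs
      simpa using this.symm
    rw [h1]
    apply Ideal.add_mem
    · exact Ideal.mul_mem_left _ _ hkJ'
    · apply (le_of_lt hJ')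
      apply Ideal.subset_span
      left
      exact ⟨s, hs, rfl⟩

variable [IsArtinianRing (GrLC.deg0 𝒜)] (m : HomogeneousIdeal 𝒜) (hm : GrLC.IsStarLocal 𝒜 m)

include hpos hm in
/-- degree-zero components of elements of the *maximal ideal are nilpotent -/
theorem isNilpotent_proj_zero {r : R} (hr : r ∈ m.toIdeal) : IsNilpotent (proj 𝒜 0 r) := by
  set y : GrLC.deg0 𝒜 := ⟨proj 𝒜 0 r, proj_mem 𝒜 0 r⟩ with hy
  have hyJ : y ∈ Ideal.jacobson (⊥ : Ideal (GrLC.deg0 𝒜)) := by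
    rw [Ideal.jacobson, Ideal.mem_sInf]
    rintro n₀ ⟨-, hn⟩
    have := hn
    have h1 := hm.2 _ (bigIdeal_isCoatom hpos n₀)
    have h2 : proj 𝒜 0 r ∈ bigIdeal (𝒜 := 𝒜) n₀ := by
      have h3 : proj 𝒜 0 r ∈ m.toIdeal := m.isHomogeneous 0 hr
      rw [← h1] at h3
      exact h3
    have h4 := proj_zero_mem_of_mem_bigIdeal hpos n₀ h2
    have h5 : (⟨proj 𝒜 0 (proj 𝒜 0 r), proj_mem 𝒜 0 _⟩ : GrLC.deg0 𝒜) = y :=
      Subtype.ext (proj_proj_same 𝒜 0 r)
    rw [h5] at h4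
    exact h4
  obtain ⟨N, hN⟩ := IsArtinianRing.isNilpotent_jacobson_bot (R := GrLC.deg0 𝒜)
  have h1 : y ^ N ∈ (Ideal.jacobson (⊥ : Ideal (GrLC.deg0 𝒜))) ^ N := Ideal.pow_mem_pow hyJ N
  rw [hN] at h1
  refine ⟨N, ?_⟩
  have h2 : y ^ N = 0 := h1
  have := congrArg (fun t : GrLC.deg0 𝒜 => (t : R)) h2
  simpa using this

include hpos hm in
/-- a power of the *maximal ideal lies in the irrelevant ideal -/
theorem exists_pow_le_irrelevant [IsNoetherianRing R] :
    ∃ N : ℕ, m.toIdeal ^ N ≤ Ideal.span (⋃ k ∈ Set.Ioi (0 : ℤ), (𝒜 k : Set R)) := by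
  apply Ideal.exists_pow_le_of_le_radical_of_fg _ (IsNoetherian.noetherian _)
  intro r hr
  obtain ⟨s, hs⟩ := exists_finset_sum_proj 𝒜 r
  rw [← hs]
  refine Ideal.sum_mem _ (fun k _ => ?_)
  rcases lt_trichotomy k 0 with h | h | h
  · have h2 := proj_mem 𝒜 k r
    rw [hpos k h, AddSubgroup.mem_bot] at h2
    rw [h2]
    exact Ideal.zero_mem _
  · subst h
    obtain ⟨N, hN⟩ := isNilpotent_proj_zero hpos m hm hr
    exact ⟨N, by rw [hN]; exact Ideal.zero_mem _⟩
  · apply Ideal.le_radical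
    apply Ideal.subset_span
    simp only [Set.mem_iUnion, Set.mem_Ioi, SetLike.mem_coe]
    exact ⟨k, h, proj_mem 𝒜 k r⟩

end StarLocal

section Good

variable [IsNoetherianRing R] [IsArtinianRing (GrLC.deg0 𝒜)] (m : HomogeneousIdeal 𝒜)
  (hm : GrLC.IsStarLocal 𝒜 m) (d : ℕ) (hd : ringKrullDim R = d)

include hpos hm hd in
theorem good : Good m d where
  fin_comp := by
    intro X _ n
    obtain ⟨G⟩ := exists_posGens 𝒜 (Ideal.span (⋃ k ∈ Set.Ioi (0 : ℤ), (𝒜 k : Set R))) rfl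
    have ha : ∀ k : ℤ, 0 < k → ∀ y ∈ 𝒜 k,
        y ∈ Ideal.span (⋃ k ∈ Set.Ioi (0 : ℤ), (𝒜 k : Set R)) := by
      intro k hk y hy
      apply Ideal.subset_span
      simp only [Set.mem_iUnion, Set.mem_Ioi, SetLike.mem_coe]
      exact ⟨k, hk, hy⟩
    have hfg := G.comp_module_fg (ℳ := X.gr) hpos ha n
    have hfin : Module.Finite (GrLC.deg0 𝒜) ↥(GrLC.comp 𝒜 X.gr n) :=
      Module.Finite.iff_fg.mpr hfg
    rw [Module.length_ne_top_iff]
    exact ((IsArtinianRing.tfae (GrLC.deg0 𝒜) ↥(GrLC.comp 𝒜 X.gr n)).out 0 3).mp hfin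
  fin_H := by
    intro X _ E q n
    have hart := isArtinian_Hcomp_of_isCoatom hpos E m hm.1 q n
    rw [Module.length_ne_top_iff]
    exact ((IsArtinianRing.tfae (GrLC.deg0 𝒜) ↥(E.Hcomp m q n)).out 2 3).mp hart
  van_H := by
    intro X _ E q hq n
    have h1 : Module.supportDim R X.carrier < (q : WithBot ℕ∞) := by
      refine lt_of_le_of_lt (Module.supportDim_le_ringKrullDim R X.carrier) ?_
      rw [hd]
      exact_mod_cast hq
    have h2 := Groth.Agent.H2.GrEG.HV_of_supportDim_lt m X q h1 n E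
    rw [eq_bot_iff]
    intro y hy
    have h3 : y ∈ E.Hgr m q n := hy
    rw [h2, AddSubgroup.mem_bot] at h3
    rw [Submodule.mem_bot]
    exact h3
  van_large := by
    intro X _ E q
    exact exists_Hcomp_eq_bot_of_isCoatom hpos E m hm.1 q
  tors := by
    intro X _ hX u
    obtain ⟨N, hN⟩ := exists_pow_le_irrelevant hpos m hm
    have hkill : ∀ r ∈ Ideal.span (⋃ k ∈ Set.Ioi (0 : ℤ), (𝒜 k : Set R)), r • u = 0 := by
      intro r hr
      induction hr using Submodule.span_induction with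
      | mem t ht =>
        simp only [Set.mem_iUnion, Set.mem_Ioi, SetLike.mem_coe] at ht
        obtain ⟨k, hk, htk⟩ := ht
        exact hX k hk t htk u
      | zero => exact zero_smul _ _
      | add a b _ _ ha hb => rw [add_smul, ha, hb, add_zero]
      | smul a b _ hb => rw [smul_eq_mul, mul_smul, hb, smul_zero]
    exact ⟨N, fun r hr => hkill r (hN hr)⟩

end Good

end Groth.Agent.H2.Serre
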