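import Mathlib
import Groth.Agent.Lib.Helper2.Serre4
import Groth.Agent.Lib.Helper6.GrDim

/-! `ht m = dim R` for the *maximal ideal of a positively graded Noetherian *local ring with
Artinian degree-zero part. -/

universe u
open DirectSum GrLC Groth.Agent.H6 Groth.Agent.H6.Gr
set_option linter.unusedSectionVars false

namespace Groth.Agent.H2.Serre

/-- a finite type algebra is of finite type over the image of the base ring -/
theorem finiteType_range (S A : Type*) [CommRing S] [CommRing A] [Algebra S A]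
    [Algebra.FiniteType S A] : Algebra.FiniteType (algebraMap S A).range A := by
  letI : Algebra S (algebraMap S A).range := (algebraMap S A).rangeRestrict.toAlgebra
  haveI : IsScalarTower S (algebraMap S A).range A := IsScalarTower.of_algebraMap_eq (fun x => rfl)
  exact Algebra.FiniteType.of_restrictScalars_finiteType S _ A

variable {R : Type u} [CommRing R] {𝒜 : ℤ → AddSubgroup R} [GradedRing 𝒜]
  (hpos : ∀ n : ℤ, n < 0 → 𝒜 n = ⊥) [IsArtinianRing (GrLC.deg0 𝒜)] (m : HomogeneousIdeal 𝒜)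
  (hm : GrLC.IsStarLocal 𝒜 m)

include hpos hm in
/-- proper homogeneous ideals lie in the *maximal ideal -/
theorem le_starMaximal (P : Ideal R) (hP : P.IsHomogeneous 𝒜) (hne : P ≠ ⊤) : P ≤ m.toIdeal := by
  intro z hz
  obtain ⟨s, hs⟩ := exists_finset_sum_proj 𝒜 z
  rw [← hs]
  refine Ideal.sum_mem _ (fun k _ => ?_)
  have hzk : proj 𝒜 k z ∈ P := hP k hz
  rcases lt_trichotomy k 0 with h | h | h
  · have h2 := proj_mem 𝒜 k z
    rw [hpos k h, AddSubgroup.mem_bot] at h2
    rw [h2]
    exact Ideal.zero_mem _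
  · subst h
    set y : GrLC.deg0 𝒜 := ⟨proj 𝒜 0 z, proj_mem 𝒜 0 z⟩ with hy
    have hyne : Ideal.span {y} ≠ ⊤ := by
      intro htop
      rw [Ideal.span_singleton_eq_top] at htop
      obtain ⟨b, hb⟩ := htop.exists_left_inv
      apply hne
      rw [Ideal.eq_top_iff_one]
      have h1 : (1 : R) = (b : R) * proj 𝒜 0 z := by
        have := congrArg (fun t : GrLC.deg0 𝒜 => (t : R)) hb
        simpa using this.symm
      rw [h1]
      exact Ideal.mul_mem_left _ _ hzk
    obtain ⟨n₀, hn₀, hle⟩ := Ideal.exists_le_maximal _ hyne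
    have h1 := hm.2 _ (bigIdeal_isCoatom hpos n₀)
    have h2 : proj 𝒜 0 z ∈ bigIdeal (𝒜 := 𝒜) n₀ := by
      apply Ideal.subset_span
      left
      exact ⟨y, hle (Ideal.subset_span (Set.mem_singleton y)), rfl⟩
    rw [← h1]
    exact h2
  · exact pos_mem_of_isCoatom hpos m hm.1 h (proj_mem 𝒜 k z)

include hpos hm in
/-- `ht m = dim R` -/
theorem height_starMaximal [IsNoetherianRing R] (n : ℕ) (hn : ringKrullDim R = n) :
    m.toIdeal.height = n := by
  haveI hmax : m.toIdeal.IsMaximal := isMaximal_of_isCoatom hpos m hm.1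
  apply le_antisymm
  · have h1 := Ideal.height_le_ringKrullDim_of_ne_top hmax.ne_top
    rw [hn] at h1
    exact_mod_cast h1
  · haveI : Nontrivial R := ⟨⟨0, 1, fun h => hmax.ne_top (by
      rw [Ideal.eq_top_iff_one, ← h]; exact Ideal.zero_mem _)⟩⟩
    haveI hfin : FiniteRingKrullDim R := by
      rw [finiteRingKrullDim_iff_ne_bot_and_top, hn]
      exact ⟨WithBot.coe_ne_bot, fun h => by
        have : ((n : ℕ∞) : WithBot ℕ∞) = ((⊤ : ℕ∞) : WithBot ℕ∞) := h
        exact ENat.coe_ne_top n (WithBot.coe_injective this)⟩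
    obtain ⟨𝔫, h𝔫max, h𝔫⟩ := Ideal.exists_isMaximal_height (R := R)
    haveI := h𝔫max.isPrime
    haveI : 𝔫.FiniteHeight := by
      rw [Ideal.finiteHeight_iff_lt]
      right
      have : (𝔫.height : WithBot ℕ∞) = ((n : ℕ∞) : WithBot ℕ∞) := by rw [h𝔫, hn]; rfl
      rw [WithBot.coe_injective this]
      exact ENat.coe_lt_top n
    obtain ⟨s, hs1, hs2⟩ := Ideal.exists_ltSeries_length_eq_height 𝔫
    have hsn : s.length = n := by
      have : ((s.length : ℕ∞) : WithBot ℕ∞) = n := by rw [hs2, h𝔫, hn]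
      exact_mod_cast this
    obtain ⟨P, hPmin, hPle⟩ := Ideal.exists_minimalPrimes_le (I := ⊥) (J := s.head.asIdeal) bot_le
    haveI hPprime : P.IsPrime := hPmin.1.1
    have hPhom : P.IsHomogeneous 𝒜 := by
      have h1 : ((P.homogeneousCore 𝒜).toIdeal).IsPrime := Ideal.IsPrime.homogeneousCore hPprime
      have h2 : (P.homogeneousCore 𝒜).toIdeal ≤ P := Ideal.toIdeal_homogeneousCore_le 𝒜 P
      have h3 : P ≤ (P.homogeneousCore 𝒜).toIdeal := hPmin.2 ⟨h1, bot_le⟩ h2
      have h4 : (P.homogeneousCore 𝒜).toIdeal = P := le_antisymm h2 h3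
      rw [← h4]
      exact (P.homogeneousCore 𝒜).isHomogeneous
    have hPm : P ≤ m.toIdeal := le_starMaximal hpos m hm P hPhom hPprime.ne_top
    let pP : PrimeSpectrum R := ⟨P, hPprime⟩
    let pm : PrimeSpectrum R := ⟨m.toIdeal, hmax.isPrime⟩
    have hdimP : (n : WithBot ℕ∞) ≤ ringKrullDim (R ⧸ P) := by
      have h1 : ringKrullDim (R ⧸ pP.asIdeal) = Order.coheight pP :=
        Dim.ringKrullDim_quotient_eq_coheight pP
      change ringKrullDim (R ⧸ P) = _ at h1
      rw [h1]
      have h2 : (s.length : ℕ∞) ≤ Order.coheight pP :=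
        Order.length_le_coheight (x := pP) (p := s) hPle
      rw [hsn] at h2
      exact_mod_cast h2
    -- `R/P` is a domain of finite type over the image of the degree-zero subring, a field
    haveI : Algebra.FiniteType (GrLC.deg0 𝒜) R :=
      finiteType_deg0 𝒜 hpos (Ideal.span (⋃ n ∈ Set.Ioi (0 : ℤ), (𝒜 n : Set R))) rfl
    haveI : Algebra.FiniteType (GrLC.deg0 𝒜) (R ⧸ P) :=
      Algebra.FiniteType.of_surjective (Ideal.Quotient.mkₐ (GrLC.deg0 𝒜) P)
        (Ideal.Quotient.mkₐ_surjective _ _)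
    haveI : IsDomain (R ⧸ P) := Ideal.Quotient.isDomain P
    set F : Subring (R ⧸ P) := (algebraMap (GrLC.deg0 𝒜) (R ⧸ P)).range with hF
    haveI : IsArtinianRing F :=
      Function.Surjective.isArtinianRing (f := (algebraMap (GrLC.deg0 𝒜) (R ⧸ P)).rangeRestrict)
        (RingHom.rangeRestrict_surjective _)
    letI : Field F := (IsArtinianRing.isField_of_isDomain F).toField
    haveI : Algebra.FiniteType F (R ⧸ P) := finiteType_range (GrLC.deg0 𝒜) (R ⧸ P)
    have hker : RingHom.ker (Ideal.Quotient.mk P) ≤ m.toIdeal := by rw [Ideal.mk_ker]; exact hPm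
    haveI hmbar : (m.toIdeal.map (Ideal.Quotient.mk P)).IsMaximal :=
      Ideal.IsMaximal.map_of_surjective_of_ker_le Ideal.Quotient.mk_surjective hker
    have h3 := Groth.Agent.H2.DimFG.height_eq_ringKrullDim_of_isMaximal F (R ⧸ P)
      (m.toIdeal.map (Ideal.Quotient.mk P))
    have h4 := FinThm.height_map_eq_height_Ici pP pm hPm
    change (m.toIdeal.map (Ideal.Quotient.mk P)).height = _ at h4
    have h5 : Order.height (⟨pm, hPm⟩ : Set.Ici pP) ≤ Order.height pm :=
      Order.height_le_height_apply_of_strictMono (f := (Subtype.val : Set.Ici pP → PrimeSpectrum R))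
        (fun a b hab => hab) _
    have h6 : Order.height pm = m.toIdeal.height := (PrimeSpectrum.height_eq_orderHeight pm).symm
    have h7 : (n : WithBot ℕ∞) ≤ ((m.toIdeal.map (Ideal.Quotient.mk P)).height : WithBot ℕ∞) := by
      rw [h3]; exact hdimP
    have h8 : (n : ℕ∞) ≤ (m.toIdeal.map (Ideal.Quotient.mk P)).height := by exact_mod_cast h7
    calc (n : ℕ∞) ≤ (m.toIdeal.map (Ideal.Quotient.mk P)).height := h8
      _ = Order.height (⟨pm, hPm⟩ : Set.Ici pP) := h4
      _ ≤ Order.height pm := h5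
      _ = m.toIdeal.height := h6

end Groth.Agent.H2.Serre
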