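import Mathlib
import Groth.Agent.Lib.Helper2.GrEG17
import Groth.Agent.Lib.Helper2.GrReg1
import Groth.Agent.Lib.Helper6.GrPos

/-! Lower bounds for the length of a graded module over a polynomial ring over a field from
nonvanishing of pieces and independent elements in one degree. -/

universe u
open DirectSum GrLC Groth.Agent.H6 Groth.Agent.H6.Gr Groth.Agent.H2.GrEGT MvPolynomial
set_option linter.unusedSectionVars false

namespace Groth.Agent.H2.GrEG

section Order

theorem height_add_le_of_chain {α : Type*} [Preorder α] (f : ℕ → α) (m : ℕ)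
    (h : ∀ i < m, f i < f (i + 1)) : Order.height (f 0) + m ≤ Order.height (f m) := by
  induction m with
  | zero => simp
  | succ m ih =>
    have h1 := ih (fun i hi => h i (by omega))
    have h2 := Order.height_add_one_le (h m (by omega))
    calc Order.height (f 0) + ((m + 1 : ℕ) : ℕ∞) = Order.height (f 0) + m + 1 := by
          push_cast; rw [add_assoc]
      _ ≤ Order.height (f m) + 1 := by gcongr
      _ ≤ Order.height (f (m + 1)) := h2

end Order

section Poly

variable {k : Type u} [Field k] {n : ℕ}

theorem eq_C_of_mem_zero {p : MvPolynomial (Fin n) k} (hp : p ∈ As k n 0) :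
    p = C (constantCoeff p) := by
  ext d
  rw [coeff_C]
  by_cases hd : 0 = d
  · rw [if_pos hd, ← hd]
    rfl
  · rw [if_neg hd]
    by_contra hne
    have h1 : Finsupp.weight (fun _ : Fin n => (1 : ℤ)) d = 0 := hp hne
    rw [GrSyzBasic.weight_one_eq_zero_iff] at h1
    exact hd h1.symm

variable (X : GMod.{u} (As k n))

theorem geSub_lt {t : ℤ} (h : X.gr t ≠ ⊥) : geSub X (t + 1) < geSub X t := by
  refine lt_of_le_of_ne (geSub_anti X (by omega)) ?_
  intro heq
  apply h
  rw [eq_bot_iff]
  intro u hu
  rw [AddSubgroup.mem_bot]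
  have h1 : u ∈ geSub X t := fun j hj => proj_of_mem_ne X.gr hu (by omega)
  rw [← heq] at h1
  have h2 := h1 t (by omega)
  rwa [proj_of_mem X.gr hu] at h2

theorem height_geSub_chain (a : ℤ) (L : ℕ) (h : ∀ t : ℤ, a ≤ t → t < a + L → X.gr t ≠ ⊥) :
    Order.height (geSub X (a + L)) + L ≤ Order.height (geSub X a) := by
  have h1 := height_add_le_of_chain (fun i : ℕ => geSub X (a + L - i)) L ?_
  · simpa using h1
  · intro i hi
    have h2 := geSub_lt X (t := a + L - (i + 1 : ℕ)) (h _ (by push_cast; omega) (by push_cast; omega))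
    have h3 : a + (L : ℤ) - ((i + 1 : ℕ) : ℤ) + 1 = a + L - i := by push_cast; ring
    rw [h3] at h2
    exact h2

/-- independent homogeneous elements of one degree refine the chain -/
theorem height_geSub_refine (d : ℤ) : ∀ (m : ℕ) (v : Fin m → X.carrier), (∀ i, v i ∈ X.gr d) →
    (∀ c : Fin m → k, ∑ i, (C (c i) : MvPolynomial (Fin n) k) • v i = 0 → ∀ i, c i = 0) →
    Order.height (geSub X (d + 1)) + m ≤
      Order.height (geSub X (d + 1) ⊔ Submodule.span (MvPolynomial (Fin n) k) (Set.range v)) := by
  intro m
  induction m with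
  | zero =>
    intro v _ _
    simp only [Nat.cast_zero, add_zero]
    exact Order.height_mono le_sup_left
  | succ m ih =>
    intro v hv hind
    set v' : Fin m → X.carrier := fun i => v (Fin.castSucc i) with hv'
    have hind' : ∀ c : Fin m → k, ∑ i, (C (c i) : MvPolynomial (Fin n) k) • v' i = 0 →
        ∀ i, c i = 0 := by
      intro c hc i
      have h1 := hind (Fin.snoc c 0) ?_ (Fin.castSucc i)
      · simpa using h1
      · rw [Fin.sum_univ_castSucc]
        simp only [Fin.snoc_castSucc, Fin.snoc_last, map_zero, zero_smul, add_zero]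
        exact hc
    have h1 := ih v' (fun i => hv _) hind'
    have hlt : geSub X (d + 1) ⊔ Submodule.span (MvPolynomial (Fin n) k) (Set.range v') <
        geSub X (d + 1) ⊔ Submodule.span (MvPolynomial (Fin n) k) (Set.range v) := by
      refine lt_of_le_of_ne (sup_le_sup_left (Submodule.span_mono ?_) _) ?_
      · rintro _ ⟨i, rfl⟩
        exact ⟨Fin.castSucc i, rfl⟩
      · intro heq
        have h2 : v (Fin.last m) ∈
            geSub X (d + 1) ⊔ Submodule.span (MvPolynomial (Fin n) k) (Set.range v') := by
          rw [heq]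
          exact Submodule.mem_sup_right (Submodule.subset_span ⟨Fin.last m, rfl⟩)
        obtain ⟨p, hp, z, hz, hpz⟩ := Submodule.mem_sup.mp h2
        obtain ⟨f, rfl⟩ := (Submodule.mem_span_range_iff_exists_fun _).mp hz
        have h3 := congrArg (proj X.gr d) hpz
        rw [map_add, hp d (by omega), zero_add, map_sum, proj_of_mem X.gr (hv _)] at h3
        have h4 : ∀ i : Fin m, proj X.gr d (f i • v' i) =
            (C (constantCoeff (proj (As k n) 0 (f i))) : MvPolynomial (Fin n) k) • v' i := by
          intro i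
          rw [proj_smul_of_mem_right (As k n) X.gr (hv _) d (f i), sub_self]
          congr 1
          exact eq_C_of_mem_zero (proj_mem (As k n) 0 (f i))
        rw [Finset.sum_congr rfl (fun i _ => h4 i)] at h3
        have h5 := hind (Fin.snoc (fun i => constantCoeff (proj (As k n) 0 (f i))) (-1)) ?_
          (Fin.last m)
        · simp at h5
        · rw [Fin.sum_univ_castSucc]
          simp only [Fin.snoc_castSucc, Fin.snoc_last, map_neg, map_one, neg_smul, one_smul]
          rw [h3]
          exact add_neg_cancel _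
    have h2 := Order.height_add_one_le hlt
    calc Order.height (geSub X (d + 1)) + ((m + 1 : ℕ) : ℕ∞)
        = Order.height (geSub X (d + 1)) + m + 1 := by push_cast; rw [add_assoc]
      _ ≤ Order.height (geSub X (d + 1) ⊔
            Submodule.span (MvPolynomial (Fin n) k) (Set.range v')) + 1 := by gcongr
      _ ≤ _ := h2

/-- **a lower bound for the length** -/
theorem add_le_length (j : ℕ) (hne : ∀ t : ℤ, 0 ≤ t → t ≤ j → X.gr t ≠ ⊥) (m : ℕ)
    (v : Fin m → X.carrier) (hv : ∀ i, v i ∈ X.gr 1)
    (hind : ∀ c : Fin m → k, ∑ i, (C (c i) : MvPolynomial (Fin n) k) • v i = 0 → ∀ i, c i = 0) :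
    ((j + m : ℕ) : ℕ∞) ≤ Module.length (MvPolynomial (Fin n) k) X.carrier := by
  rw [Module.length_eq_height]
  have h1 : Order.height (geSub X 1) + 1 ≤ Order.height (geSub X 0) := by
    have := Order.height_add_one_le (geSub_lt X (t := 0) (hne 0 le_rfl (by positivity)))
    simpa using this
  have h2 : Order.height (geSub X (1 + 1)) + m ≤ Order.height (geSub X 1) := by
    refine le_trans (height_geSub_refine X 1 m v hv hind) (Order.height_mono ?_)
    refine sup_le (geSub_anti X (by omega)) (Submodule.span_le.mpr ?_)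
    rintro _ ⟨i, rfl⟩
    intro e he
    exact proj_of_mem_ne X.gr (hv i) (by omega)
  have h3 : Order.height (geSub X 0) ≤ Order.height (⊤ : Submodule (MvPolynomial (Fin n) k) X.carrier) :=
    Order.height_mono le_top
  have h4 : ((j - 1 : ℕ) : ℕ∞) ≤ Order.height (geSub X (1 + 1)) := by
    have := height_geSub_chain X (1 + 1) (j - 1) (fun t ht ht' => hne t (by omega) (by
      have : ((j - 1 : ℕ) : ℤ) ≤ (j : ℤ) - 1 ∨ j = 0 := by omega
      rcases this with h | h
      · omega
      · subst h
        simp at ht'
        omega))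
    exact le_trans le_add_self this
  have h5 : ((j + m : ℕ) : ℕ∞) ≤ ((j - 1 : ℕ) : ℕ∞) + m + 1 := by
    have : j + m ≤ (j - 1) + m + 1 := by omega
    exact_mod_cast this
  calc ((j + m : ℕ) : ℕ∞) ≤ ((j - 1 : ℕ) : ℕ∞) + m + 1 := h5
    _ ≤ Order.height (geSub X (1 + 1)) + m + 1 := by gcongr
    _ ≤ Order.height (geSub X 1) + 1 := by gcongr
    _ ≤ Order.height (geSub X 0) := h1
    _ ≤ _ := h3

end Poly

end Groth.Agent.H2.GrEG
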