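import Mathlib
import Groth.Agent.Lib.Helper2.GrLen1

/-! Cyclic graded modules over a polynomial ring: nonvanishing of pieces below a nonzero piece,
and independent elements in degree one of a quotient by linear forms. -/

universe u
open DirectSum GrLC Groth.Agent.H6 Groth.Agent.H6.Gr Groth.Agent.H2.GrEGT MvPolynomial
set_option linter.unusedSectionVars false

namespace Groth.Agent.H2.GrEG

section EndDeg

variable {H : Type u} [AddCommGroup H] (𝒢 : ℤ → AddSubgroup H)

theorem endDeg_add_int_le_iff (z d : ℤ) :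
    GrLC.endDeg 𝒢 + (((z : ℤ) : WithTop ℤ) : WithBot (WithTop ℤ)) ≤
      ((d : WithTop ℤ) : WithBot (WithTop ℤ)) ↔ ∀ j : ℤ, d - z < j → 𝒢 j = ⊥ := by
  rw [← endDeg_le_iff]
  generalize GrLC.endDeg 𝒢 = s
  induction s with
  | bot => simp
  | coe y =>
    induction y with
    | top =>
      constructor
      · intro h
        rw [← WithBot.coe_add, WithBot.coe_le_coe, WithTop.top_add] at h
        exact absurd h (by simp)
      · intro h
        rw [WithBot.coe_le_coe] at h
        exact absurd h (by simp)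
    | coe m =>
      rw [← WithBot.coe_add, ← WithTop.coe_add, WithBot.coe_le_coe, WithTop.coe_le_coe,
        WithBot.coe_le_coe, WithTop.coe_le_coe]
      omega

end EndDeg

section Helper

variable {k : Type u} [Field k] {n : ℕ}

theorem mem_smul_top_Sg (I : Ideal (MvPolynomial (Fin n) k)) (p : MvPolynomial (Fin n) k)
    (hp : p ∈ I) : (show (Sg k n).carrier from p) ∈
      I • (⊤ : Submodule (MvPolynomial (Fin n) k) (Sg k n).carrier) := by
  have h := Submodule.smul_mem_smul hp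
    (Submodule.mem_top (x := (show (Sg k n).carrier from (1 : MvPolynomial (Fin n) k))))
  have h3 : p • (show (Sg k n).carrier from (1 : MvPolynomial (Fin n) k)) =
      (show (Sg k n).carrier from p) := mul_one p
  rw [h3] at h
  exact h

end Helper

section Cyclic

variable {k : Type u} [Field k] {n : ℕ} (Y : GMod.{u} (As k n))
  (τ : (Sg k n).carrier →ₗ[MvPolynomial (Fin n) k] Y.carrier)
  (hτ : IsGrHom (Sg k n).gr Y.gr τ) (hτs : Function.Surjective τ)

include hτ hτs

theorem exists_of_mem_gr {j : ℤ} {u : Y.carrier} (hu : u ∈ Y.gr j) :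
    ∃ f ∈ (Sg k n).gr j, τ f = u := by
  obtain ⟨g, rfl⟩ := hτs u
  refine ⟨proj (Sg k n).gr j g, proj_mem _ j g, ?_⟩
  rw [isGrHom_proj (Sg k n).gr Y.gr hτ, proj_of_mem Y.gr hu]

theorem gr_neg_eq_bot (j : ℤ) (hj : j < 0) : Y.gr j = ⊥ := by
  rw [eq_bot_iff]
  intro u hu
  rw [AddSubgroup.mem_bot]
  obtain ⟨f, hf, rfl⟩ := exists_of_mem_gr Y τ hτ hτs hu
  have h1 : (show MvPolynomial (Fin n) k from f) ∈ As k n j := hf
  rw [As_neg j hj] at h1
  have h2 : f = 0 := AddSubgroup.mem_bot.mp h1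
  rw [h2, map_zero]

theorem gr_succ_eq_bot (t : ℤ) (ht : 0 ≤ t) (h : Y.gr t = ⊥) : Y.gr (t + 1) = ⊥ := by
  rw [eq_bot_iff]
  intro u hu
  rw [AddSubgroup.mem_bot]
  obtain ⟨f, hf, rfl⟩ := exists_of_mem_gr Y τ hτ hτs hu
  have h1 : (show MvPolynomial (Fin n) k from f) ∈ (am k n).toIdeal :=
    mem_am_of_mem_gr k n (by omega) hf
  have h2 : f ∈ (am k n).toIdeal • (⊤ : Submodule (MvPolynomial (Fin n) k) (Sg k n).carrier) :=
    mem_smul_top_Sg (am k n).toIdeal f h1
  obtain ⟨w, hw, hfw⟩ := exists_sum_of_mem_smul_top (am k n) (Sg k n)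
    (x := fun i : Fin n => (X i : MvPolynomial (Fin n) k)) (X_mem_one k n) (am_eq_span k n)
    (t + 1) f hf h2
  rw [hfw, map_sum]
  refine Finset.sum_eq_zero fun i _ => ?_
  rw [map_smul]
  have h4 : τ (w i) ∈ Y.gr t := by
    have := hτ (t + 1 - 1) (w i) (hw i)
    rwa [add_sub_cancel_right] at this
  rw [h, AddSubgroup.mem_bot] at h4
  rw [h4, smul_zero]

theorem gr_ne_bot_of_le {j : ℤ} (hj : Y.gr j ≠ ⊥) (t : ℤ) (ht : 0 ≤ t) (htj : t ≤ j) :
    Y.gr t ≠ ⊥ := by
  intro h
  apply hj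
  have key : ∀ i : ℕ, Y.gr (t + i) = ⊥ := by
    intro i
    induction i with
    | zero => simpa using h
    | succ i ih =>
      have := gr_succ_eq_bot Y τ hτ hτs (t + i) (by omega) ih
      rw [add_assoc] at this
      exact_mod_cast this
  have := key (j - t).toNat
  rwa [Int.toNat_of_nonneg (by omega), add_sub_cancel] at this

theorem nonneg_of_gr_ne_bot {j : ℤ} (hj : Y.gr j ≠ ⊥) : 0 ≤ j := by
  by_contra h
  exact hj (gr_neg_eq_bot Y τ hτ hτs j (by omega))

end Cyclic

end Groth.Agent.H2.GrEG
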