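import Mathlib
import Groth.Agent.Lib.Helper2.GrLen2

/-! Independent elements in degree one of the quotient of a cyclic graded module without linear
relations by linear forms. -/

universe u
open DirectSum GrLC Groth.Agent.H6 Groth.Agent.H6.Gr Groth.Agent.H2.GrEGT MvPolynomial
set_option linter.unusedSectionVars false

namespace Groth.Agent.H2.GrEG

section Rows

variable {k : Type u} [Field k] {n : ℕ}
  {M : Type u} [AddCommGroup M] [Module k M] [Module (MvPolynomial (Fin n) k) M]
  [IsScalarTower k (MvPolynomial (Fin n) k) M]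
  (ℳ : ℤ → Submodule k M) [DirectSum.Decomposition ℳ]
  [SetLike.GradedSMul (GrSyz.stdGr k (Fin n)) ℳ]
  {N : Type u} [AddCommGroup N] [Module k N] [Module (MvPolynomial (Fin n) k) N]
  [IsScalarTower k (MvPolynomial (Fin n) k) N]
  (𝒩 : ℤ → Submodule k N) [DirectSum.Decomposition 𝒩]
  [SetLike.GradedSMul (GrSyz.stdGr k (Fin n)) 𝒩]
  (π : MvPolynomial (Fin n) k →ₗ[MvPolynomial (Fin n) k] M) (hπ : Function.Surjective π)
  (hπg : GrLC.IsGrHom (GrSyz.stdGr k (Fin n)) ℳ π)
  (hlin : ∀ x : MvPolynomial (Fin n) k, x ∈ GrSyz.stdGr k (Fin n) 1 → π x = 0 → x = 0)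
  (ys : List (MvPolynomial (Fin n) k)) (hys : ∀ y ∈ ys, y ∈ GrSyz.stdGr k (Fin n) 1)
  (σ : M →ₗ[MvPolynomial (Fin n) k] N)
  (hker : LinearMap.ker σ = Ideal.ofList ys • (⊤ : Submodule (MvPolynomial (Fin n) k) M))

include hπ hπg hlin hys hker in
theorem mem_span_of_map_eq_zero (f : MvPolynomial (Fin n) k) (hf : f ∈ GrSyz.stdGr k (Fin n) 1)
    (h0 : σ (π f) = 0) : f ∈ Submodule.span k {y | y ∈ ys} := by
  have h1 : π f ∈ Ideal.ofList ys • (⊤ : Submodule (MvPolynomial (Fin n) k) M) := by
    rw [← hker]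
    exact h0
  set x : Fin ys.length → MvPolynomial (Fin n) k := ys.get with hx
  have hx1 : ∀ i, x i ∈ As k n 1 := fun i => hys _ (List.get_mem ys i)
  let a : HomogeneousIdeal (As k n) := ⟨Ideal.span (Set.range x),
    Ideal.homogeneous_span _ _ (by rintro _ ⟨i, rfl⟩; exact ⟨1, hx1 i⟩)⟩
  have ha : a.toIdeal = Ideal.span (Set.range x) := rfl
  have hof : Ideal.ofList ys = Ideal.span (Set.range x) := by
    unfold Ideal.ofList
    rw [hx, Set.range_list_get]
  have h2 : (show (Xrow (k := k) (n := n) ℳ).carrier from π f) ∈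
      a.toIdeal • (⊤ : Submodule (MvPolynomial (Fin n) k) (Xrow (k := k) (n := n) ℳ).carrier) := by
    rw [ha, ← hof]
    exact h1
  have h3 : (show (Xrow (k := k) (n := n) ℳ).carrier from π f) ∈ (Xrow (k := k) (n := n) ℳ).gr 1 := hπg 1 f hf
  obtain ⟨w, hw, hsum⟩ := exists_sum_of_mem_smul_top a (Xrow (k := k) (n := n) ℳ) hx1 ha 1 _ h3 h2
  have hw0 : ∀ i, ∃ c : k, w i = π (C c) := by
    intro i
    have hwi : w i ∈ (Xrow (k := k) (n := n) ℳ).gr 0 := by
      have := hw i
      rwa [sub_self] at this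
    obtain ⟨g, hg, hgw⟩ := exists_of_mem_gr (Xrow (k := k) (n := n) ℳ) π (fun g m hm => hπg g m hm) hπ hwi
    refine ⟨constantCoeff (show MvPolynomial (Fin n) k from g), ?_⟩
    rw [← hgw]
    congr 1
    exact eq_C_of_mem_zero hg
  choose c hc using hw0
  have h4 : π (f - ∑ i, C (c i) * x i) = 0 := by
    rw [map_sub, map_sum, sub_eq_zero]
    refine Eq.trans hsum ?_
    refine Finset.sum_congr rfl fun i _ => ?_
    rw [hc i]
    have h8 : (x i • π (C (c i)) : M) = π (C (c i) * x i) := by
      rw [← map_smul, smul_eq_mul, mul_comm]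
    exact h8
  have h5 : f - ∑ i, C (c i) * x i ∈ GrSyz.stdGr k (Fin n) 1 :=
    Submodule.sub_mem _ hf (Submodule.sum_mem _ fun i _ => by
      rw [C_mul']
      exact Submodule.smul_mem _ _ (hys _ (List.get_mem ys i)))
  have h6 := hlin _ h5 h4
  have h7 : f = ∑ i, C (c i) * x i := sub_eq_zero.mp h6
  rw [h7]
  refine Submodule.sum_mem _ fun i _ => ?_
  rw [C_mul']
  exact Submodule.smul_mem _ _ (Submodule.subset_span (List.get_mem ys i))

include hπ hπg hlin hys hker in
/-- independent elements in degree one of the quotient -/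
theorem exists_independent (hσg : GrLC.IsGrHom ℳ 𝒩 σ) :
    ∃ (m : ℕ) (v : Fin m → N), (n : ℤ) - ys.length ≤ m ∧ (∀ i, v i ∈ 𝒩 1) ∧
      ∀ c : Fin m → k, ∑ i, (C (c i) : MvPolynomial (Fin n) k) • v i = 0 → ∀ i, c i = 0 := by
  classical
  let lin : (Fin n → k) →ₗ[k] MvPolynomial (Fin n) k :=
    Fintype.linearCombination k (fun i : Fin n => (X i : MvPolynomial (Fin n) k))
  have hlin1 : ∀ a, lin a ∈ GrSyz.stdGr k (Fin n) 1 := by
    intro a
    rw [Fintype.linearCombination_apply]
    exact Submodule.sum_mem _ fun i _ => Submodule.smul_mem _ _ (X_mem_one k n i)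
  have hlin_inj : Function.Injective lin := by
    rw [← LinearMap.ker_eq_bot, LinearMap.ker_eq_bot']
    intro a ha
    ext i
    have h1 := congrArg (coeff (Finsupp.single i 1)) ha
    rw [Fintype.linearCombination_apply, coeff_sum, coeff_zero] at h1
    simp only [coeff_smul, coeff_X, smul_eq_mul, mul_ite, mul_one, mul_zero] at h1
    rw [Finset.sum_eq_single i] at h1
    · simpa using h1
    · intro j _ hji
      rw [if_neg]
      intro h
      exact hji ((Finsupp.single_left_inj one_ne_zero).mp h)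
    · intro h
      exact absurd (Finset.mem_univ i) h
  let τ : MvPolynomial (Fin n) k →ₗ[k] N := (σ ∘ₗ π).restrictScalars k
  let g : (Fin n → k) →ₗ[k] N := τ ∘ₗ lin
  set K : Submodule k (Fin n → k) := LinearMap.ker g with hK
  -- the kernel is small
  have hKmap : K.map lin ≤ Submodule.span k {y | y ∈ ys} := by
    rintro _ ⟨a, ha, rfl⟩
    exact mem_span_of_map_eq_zero ℳ π hπ hπg hlin ys hys σ hker (lin a) (hlin1 a) ha
  have hfin : Module.Finite k (Submodule.span k {y | y ∈ ys}) := by
    have : {y | y ∈ ys} = ((ys.toFinset : Finset (MvPolynomial (Fin n) k)) : Set _) := by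
      ext y
      simp
    rw [this]
    exact FiniteDimensional.span_finset k _
  have hKle : Module.finrank k K ≤ ys.length := by
    have h1 : Module.finrank k K = Module.finrank k (K.map lin) :=
      (Submodule.equivMapOfInjective lin hlin_inj K).finrank_eq
    have h2 : Module.finrank k (K.map lin) ≤ Module.finrank k (Submodule.span k {y | y ∈ ys}) :=
      Submodule.finrank_mono hKmap
    have h3 : Module.finrank k (Submodule.span k {y | y ∈ ys}) ≤ ys.length := by
      have : {y | y ∈ ys} = ((ys.toFinset : Finset (MvPolynomial (Fin n) k)) : Set _) := by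
        ext y
        simp
      rw [this]
      exact le_trans (finrank_span_finset_le_card _) (List.toFinset_card_le ys)
    omega
  obtain ⟨W, hW⟩ := Submodule.exists_isCompl K
  have hsum := Submodule.finrank_add_eq_of_isCompl hW
  rw [Module.finrank_fin_fun] at hsum
  let b := Module.finBasis k W
  refine ⟨Module.finrank k W, fun i => g (b i : Fin n → k), by omega, ?_, ?_⟩
  · intro i
    have h1 : σ (π (lin (b i : Fin n → k))) ∈ 𝒩 1 :=
      hσg 1 _ (hπg 1 _ (hlin1 _))
    exact h1
  · intro c hc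
    have h1 : g (∑ i, c i • (b i : Fin n → k)) = 0 := by
      rw [map_sum, ← hc]
      refine Finset.sum_congr rfl fun i _ => ?_
      rw [map_smul, ← algebraMap_smul (MvPolynomial (Fin n) k) (c i) (g (b i : Fin n → k)),
        MvPolynomial.algebraMap_eq]
    have h2 : (∑ i, c i • (b i : Fin n → k)) ∈ K := h1
    have h3 : (∑ i, c i • (b i : Fin n → k)) ∈ W :=
      Submodule.sum_mem _ fun i _ => Submodule.smul_mem _ _ (b i).2
    have h4 : (∑ i, c i • (b i : Fin n → k)) ∈ K ⊓ W := ⟨h2, h3⟩
    rw [hW.inf_eq_bot, Submodule.mem_bot] at h4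
    have h5 : ∑ i, c i • b i = 0 := by
      apply Subtype.ext
      rw [Submodule.coe_sum]
      simpa using h4
    exact Fintype.linearIndependent_iff.mp b.linearIndependent c h5

end Rows

end Groth.Agent.H2.GrEG
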