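import Mathlib
import Groth.Prelude.Def_GrLC
import Groth.Prelude.Def_CAlg
import Groth.Agent.Lib.Helper6.GrDim
import Groth.Agent.Lib.Helper6.GrRegVanish

/-! The irrelevant ideal of a positively graded ring over a field is maximal, and a
Cohen–Macaulay such ring of positive dimension has no nonzero element killed by it. -/

universe u
open DirectSum GrLC Groth.Agent.H6 Groth.Agent.H6.Gr
set_option linter.unusedSectionVars false

namespace Groth.Agent.H2.GrMono

variable {R : Type u} [CommRing R] (𝒜 : ℤ → AddSubgroup R) [GradedRing 𝒜]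

/-- the irrelevant ideal -/
def irr : Ideal R := Ideal.span (⋃ n ∈ Set.Ioi (0 : ℤ), (𝒜 n : Set R))

variable (hpos : ∀ n : ℤ, n < 0 → 𝒜 n = ⊥)

include hpos in
theorem proj_neg (r : R) (e : ℤ) (he : e < 0) : proj 𝒜 e r = 0 := by
  have h := proj_mem 𝒜 e r
  rw [hpos e he] at h
  exact h

include hpos in
theorem proj_zero_of_mem_irr {x : R} (hx : x ∈ irr 𝒜) : proj 𝒜 0 x = 0 := by
  unfold irr at hx
  induction hx using Submodule.span_induction with
  | mem y hy =>
    simp only [Set.mem_iUnion, Set.mem_Ioi, SetLike.mem_coe] at hy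
    obtain ⟨n, hn, hyn⟩ := hy
    exact proj_of_mem_ne 𝒜 hyn (by omega)
  | zero => exact map_zero _
  | add y z _ _ hy hz => rw [map_add, hy, hz, add_zero]
  | smul a y _ hy =>
    apply RegVan.proj_smul_eq_zero (𝒜 := 𝒜) 𝒜 (p := 0) (q := 1)
      (fun e he => proj_neg 𝒜 hpos a e he) ?_ (by omega)
    intro f hf
    rcases lt_or_eq_of_le (show f ≤ 0 by omega) with h | h
    · exact proj_neg 𝒜 hpos y f h
    · rw [h]
      exact hy

include hpos in
theorem sub_proj_zero_mem_irr (x : R) : x - proj 𝒜 0 x ∈ irr 𝒜 := by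
  induction x using induction_on 𝒜 with
  | zero => simp
  | homogeneous g x hx =>
    rcases lt_trichotomy g 0 with h | h | h
    · have : x = 0 := by
        rw [hpos g h] at hx
        exact hx
      rw [this]
      simp
    · subst h
      rw [proj_of_mem 𝒜 hx, sub_self]
      exact zero_mem _
    · rw [proj_of_mem_ne 𝒜 hx (by omega), sub_zero]
      apply Ideal.subset_span
      simp only [Set.mem_iUnion, Set.mem_Ioi, SetLike.mem_coe]
      exact ⟨g, h, hx⟩
  | add x y hx hy =>
    have : x + y - proj 𝒜 0 (x + y) = (x - proj 𝒜 0 x) + (y - proj 𝒜 0 y) := by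
      rw [map_add]
      ring
    rw [this]
    exact add_mem hx hy

variable (h0 : IsField (GrLC.deg0 𝒜))

include hpos h0 in
/-- an element outside the irrelevant ideal is invertible modulo it: its degree-zero component
has an inverse -/
theorem exists_inv_of_notMem_irr {x : R} (hx : x ∉ irr 𝒜) :
    ∃ b : R, proj 𝒜 0 x * b = 1 := by
  have hne : proj 𝒜 0 x ≠ 0 := by
    intro h
    apply hx
    have := sub_proj_zero_mem_irr 𝒜 hpos x
    rwa [h, sub_zero] at this
  have hne0 : (⟨proj 𝒜 0 x, proj_mem 𝒜 0 x⟩ : GrLC.deg0 𝒜) ≠ 0 :=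
    fun h => hne (congrArg Subtype.val h)
  obtain ⟨b, hb⟩ := h0.mul_inv_cancel hne0
  exact ⟨(b : R), congrArg Subtype.val hb⟩

include hpos h0 in
theorem irr_isMaximal : (irr 𝒜).IsMaximal := by
  rw [Ideal.isMaximal_iff]
  constructor
  · intro h1
    have h2 := proj_zero_of_mem_irr 𝒜 hpos h1
    rw [proj_of_mem 𝒜 (SetLike.GradeZero.subring 𝒜).one_mem] at h2
    haveI : Nontrivial (GrLC.deg0 𝒜) := h0.nontrivial
    have h3 : (1 : GrLC.deg0 𝒜) = 0 := Subtype.ext h2
    exact one_ne_zero h3
  · intro J x hJ hx hxJ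
    obtain ⟨b, hb⟩ := exists_inv_of_notMem_irr 𝒜 hpos h0 hx
    have h1 : proj 𝒜 0 x ∈ J := by
      have h2 : x - proj 𝒜 0 x ∈ J := hJ (sub_proj_zero_mem_irr 𝒜 hpos x)
      have : proj 𝒜 0 x = x - (x - proj 𝒜 0 x) := by ring
      rw [this]
      exact J.sub_mem hxJ h2
    rw [← hb]
    exact J.mul_mem_right _ h1

include hpos h0 in
/-- an element killed by the irrelevant ideal and by an element outside it is zero -/
theorem eq_zero_of_mul_eq_zero {c s : R} (hc : ∀ x ∈ irr 𝒜, x * c = 0) (hs : s ∉ irr 𝒜)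
    (hsc : s * c = 0) : c = 0 := by
  obtain ⟨b, hb⟩ := exists_inv_of_notMem_irr 𝒜 hpos h0 hs
  have h1 : (s - proj 𝒜 0 s) * c = 0 := hc _ (sub_proj_zero_mem_irr 𝒜 hpos s)
  have h2 : proj 𝒜 0 s * c = 0 := by
    have : proj 𝒜 0 s * c = s * c - (s - proj 𝒜 0 s) * c := by ring
    rw [this, hsc, h1, sub_zero]
  calc c = (proj 𝒜 0 s * b) * c := by rw [hb, one_mul]
    _ = b * (proj 𝒜 0 s * c) := by ring
    _ = 0 := by rw [h2, mul_zero]

section CM

variable [hCM : LocCoh.IsCohenMacaulayRing R]

include hpos h0 in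
/-- the irrelevant ideal has positive height when the ring has positive dimension -/
theorem one_le_height_irr (h1 : 1 ≤ ringKrullDim R) :
    haveI := (irr_isMaximal 𝒜 hpos h0).isPrime
    1 ≤ (irr 𝒜).height := by
  haveI hmax := irr_isMaximal 𝒜 hpos h0
  haveI := hmax.isPrime
  obtain ⟨P, Q, hPQ⟩ := Order.one_le_krullDim_iff.mp h1
  have hcore : ((P.asIdeal.homogeneousCore 𝒜).toIdeal).IsPrime :=
    Ideal.IsPrime.homogeneousCore P.2
  have hle : (P.asIdeal.homogeneousCore 𝒜).toIdeal ≤ P.asIdeal :=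
    Ideal.toIdeal_homogeneousCore_le 𝒜 P.asIdeal
  have hcm : (P.asIdeal.homogeneousCore 𝒜).toIdeal ≤ irr 𝒜 :=
    le_irrelevant 𝒜 hpos h0 (irr 𝒜) rfl _ (P.asIdeal.homogeneousCore 𝒜).isHomogeneous hcore.ne_top
  have hlt : (P.asIdeal.homogeneousCore 𝒜).toIdeal < irr 𝒜 := by
    refine lt_of_le_of_ne hcm ?_
    intro heq
    have h2 : irr 𝒜 ≤ P.asIdeal := heq ▸ hle
    have h3 : irr 𝒜 = P.asIdeal := hmax.eq_of_le P.2.ne_top h2
    have h4 : P.asIdeal < Q.asIdeal := hPQ
    have h5 : Q.asIdeal = ⊤ := by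
      by_contra hne
      have := hmax.eq_of_le hne (h3 ▸ h4.le)
      rw [h3] at this
      exact absurd this (ne_of_lt h4)
    exact Q.2.ne_top h5
  have := Ideal.height_add_one_le_of_lt_of_isPrime hlt
  exact le_trans le_add_self this

include hpos h0 in
/-- **a Cohen–Macaulay positively graded ring of positive dimension over a field has no
nonzero element killed by the irrelevant ideal** -/
theorem eq_zero_of_irr_mul (h1 : 1 ≤ ringKrullDim R) (c : R) (hc : ∀ x ∈ irr 𝒜, x * c = 0) :
    c = 0 := by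
  haveI hmax := irr_isMaximal 𝒜 hpos h0
  haveI hprime := hmax.isPrime
  set A := Localization.AtPrime (irr 𝒜) with hA
  haveI : LocCoh.IsCohenMacaulayLocalRing A :=
    LocCoh.IsCohenMacaulayRing.isCohenMacaulayLocalRing_localization (irr 𝒜)
  have hdim : (1 : WithBot ℕ∞) ≤ ringKrullDim A := by
    rw [IsLocalization.AtPrime.ringKrullDim_eq_height (irr 𝒜) A]
    exact_mod_cast one_le_height_irr 𝒜 hpos h0 h1
  have hdepth : (1 : ℕ∞) ≤ LocCoh.depth A A := by
    have h2 := LocCoh.IsCohenMacaulayLocalRing.supportDim_eq_depth (R := A)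
    rw [Module.supportDim_self_eq_ringKrullDim] at h2
    rw [h2] at hdim
    exact_mod_cast hdim
  -- a regular element in the maximal ideal
  obtain ⟨r, hr, hreg⟩ : ∃ r ∈ IsLocalRing.maximalIdeal A, IsSMulRegular A r := by
    unfold LocCoh.depth LocCoh.idealDepth at hdepth
    have hne : ¬ (IsLocalRing.maximalIdeal A • (⊤ : Submodule A A) = ⊤) := by
      rw [smul_eq_mul, Ideal.mul_top]
      exact Ideal.IsPrime.ne_top'
    rw [if_neg hne] at hdepth
    by_contra hcon
    push Not at hcon
    have : (⨆ (rs : List A) (_ : RingTheory.Sequence.IsWeaklyRegular A rs ∧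
        ∀ r ∈ rs, r ∈ IsLocalRing.maximalIdeal A), (rs.length : ℕ∞)) ≤ 0 := by
      refine iSup₂_le fun rs hrs => ?_
      cases rs with
      | nil => simp
      | cons r rs' =>
        exfalso
        have h3 := (RingTheory.Sequence.isWeaklyRegular_cons_iff A r rs').mp hrs.1
        exact hcon r (hrs.2 r List.mem_cons_self) h3.1
    have h4 := le_trans hdepth this
    simp at h4
  -- the image of `c` is killed by `r`
  have hzero : r • (algebraMap R A c) = 0 := by
    rw [← Localization.AtPrime.map_eq_maximalIdeal] at hr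
    have key : ∀ y ∈ Ideal.map (algebraMap R A) (irr 𝒜), y * algebraMap R A c = 0 := by
      intro y hy
      unfold Ideal.map at hy
      induction hy using Submodule.span_induction with
      | mem z hz =>
        obtain ⟨x, hx, rfl⟩ := hz
        rw [← map_mul, hc x hx, map_zero]
      | zero => rw [zero_mul]
      | add y z _ _ hy hz => rw [add_mul, hy, hz, add_zero]
      | smul a y _ hy => rw [smul_eq_mul, mul_assoc, hy, mul_zero]
    exact key r hr
  have h5 : algebraMap R A c = 0 := hreg (by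
    change r • (algebraMap R A c) = r • (0 : A)
    rw [hzero, smul_zero])
  obtain ⟨s, hs⟩ := (IsLocalization.map_eq_zero_iff (irr 𝒜).primeCompl A c).mp h5
  exact eq_zero_of_mul_eq_zero 𝒜 hpos h0 hc s.2 hs

end CM

end Groth.Agent.H2.GrMono
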