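import Mathlib
import Groth.Agent.Lib.Helper2.GrMono1
import Groth.Agent.Lib.Helper6.GrPos

/-! The Hilbert function of a positively graded ring over a field, generated in degree one and
without nonzero elements killed by the irrelevant ideal, is nondecreasing: multiplication by the
generic linear form `∑ xᵢ Tⁱ` on `R[T]` is injective (McCoy) and a dimension count. -/

universe u
open DirectSum GrLC Groth.Agent.H6 Groth.Agent.H6.Gr Polynomial
set_option linter.unusedSectionVars false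

namespace Groth.Agent.H2.GrMono

variable {R : Type u} [CommRing R] (𝒜 : ℤ → AddSubgroup R) [GradedRing 𝒜]

section GenForm

variable {N : ℕ} (x : Fin N → R)

/-- the generic linear form -/
noncomputable def genForm : R[X] := ∑ i : Fin N, C (x i) * X ^ (i : ℕ)

theorem coeff_genForm (l : ℕ) :
    (genForm x).coeff l = ∑ i : Fin N, if l = (i : ℕ) then x i else 0 := by
  unfold genForm
  rw [finset_sum_coeff]
  refine Finset.sum_congr rfl fun i _ => ?_
  rw [coeff_C_mul_X_pow]

theorem coeff_genForm_fin (i : Fin N) : (genForm x).coeff (i : ℕ) = x i := by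
  rw [coeff_genForm, Finset.sum_eq_single i]
  · rw [if_pos rfl]
  · intro j _ hji
    rw [if_neg]
    intro h
    exact hji (Fin.ext h.symm)
  · intro h
    exact absurd (Finset.mem_univ i) h

theorem coeff_genForm_of_le (l : ℕ) (hl : N ≤ l) : (genForm x).coeff l = 0 := by
  rw [coeff_genForm]
  refine Finset.sum_eq_zero fun i _ => ?_
  rw [if_neg]
  have := i.2
  omega

theorem coeff_genForm_mem (hx : ∀ i, x i ∈ 𝒜 1) (l : ℕ) : (genForm x).coeff l ∈ 𝒜 1 := by
  rw [coeff_genForm]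
  refine sum_mem fun i _ => ?_
  split_ifs
  · exact hx i
  · exact zero_mem _

theorem genForm_mem_nonZeroDivisors (h : ∀ a : R, (∀ i, a * x i = 0) → a = 0) :
    genForm x ∈ nonZeroDivisors R[X] := by
  rw [Polynomial.mem_nonZeroDivisors_iff]
  intro a ha
  apply h
  intro i
  have h1 := congrArg (fun p => p.coeff (i : ℕ)) ha
  simp only [coeff_smul, coeff_zero, smul_eq_mul] at h1
  rwa [coeff_genForm_fin] at h1

end GenForm

section Spaces

/-- polynomials of degree at most `E` with coefficients in the piece of degree `m` -/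
def Wsub (E : ℕ) (m : ℤ) : Submodule (GrLC.deg0 𝒜) R[X] where
  carrier := {p | (∀ l, p.coeff l ∈ 𝒜 m) ∧ ∀ l, E < l → p.coeff l = 0}
  zero_mem' := ⟨fun l => by rw [coeff_zero]; exact zero_mem _, fun l _ => coeff_zero l⟩
  add_mem' := by
    rintro p q ⟨hp1, hp2⟩ ⟨hq1, hq2⟩
    refine ⟨fun l => ?_, fun l hl => ?_⟩
    · rw [coeff_add]
      exact add_mem (hp1 l) (hq1 l)
    · rw [coeff_add, hp2 l hl, hq2 l hl, add_zero]
  smul_mem' := by
    rintro k p ⟨hp1, hp2⟩
    refine ⟨fun l => ?_, fun l hl => ?_⟩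
    · rw [coeff_smul]
      have := SetLike.GradedMul.mul_mem (A := 𝒜) k.2 (hp1 l)
      rw [zero_add] at this
      exact this
    · rw [coeff_smul, hp2 l hl, smul_zero]

/-- the coefficients of an element of `Wsub` -/
noncomputable def coeffMap (E : ℕ) (m : ℤ) :
    Wsub 𝒜 E m →ₗ[GrLC.deg0 𝒜] (Fin (E + 1) → GrLC.comp 𝒜 𝒜 m) where
  toFun p := fun i => ⟨p.1.coeff (i : ℕ), p.2.1 i⟩
  map_add' p q := by
    funext i
    apply Subtype.ext
    simp [coeff_add]
  map_smul' k p := by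
    funext i
    apply Subtype.ext
    simp [coeff_smul]

theorem coeffMap_injective (E : ℕ) (m : ℤ) : Function.Injective (coeffMap 𝒜 E m) := by
  rw [← LinearMap.ker_eq_bot, LinearMap.ker_eq_bot']
  intro p hp
  apply Subtype.ext
  ext l
  rw [Submodule.coe_zero, coeff_zero]
  by_cases hl : l < E + 1
  · have h1 := congrFun hp ⟨l, hl⟩
    exact congrArg Subtype.val h1
  · exact p.2.2 l (by omega)

/-- a tuple of elements of the piece of degree `m` as a polynomial -/
noncomputable def monoMap (D : ℕ) (m : ℤ) :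
    (Fin (D + 1) → GrLC.comp 𝒜 𝒜 m) →ₗ[GrLC.deg0 𝒜] R[X] where
  toFun a := ∑ i : Fin (D + 1), monomial (i : ℕ) ((a i : R))
  map_add' a b := by
    rw [← Finset.sum_add_distrib]
    refine Finset.sum_congr rfl fun i _ => ?_
    rw [Pi.add_apply, Submodule.coe_add, map_add]
  map_smul' k a := by
    rw [Finset.smul_sum]
    refine Finset.sum_congr rfl fun i _ => ?_
    rw [Pi.smul_apply, Submodule.coe_smul, RingHom.id_apply, smul_monomial]

theorem coeff_monoMap (D : ℕ) (m : ℤ) (a : Fin (D + 1) → GrLC.comp 𝒜 𝒜 m) (l : ℕ) :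
    (monoMap 𝒜 D m a).coeff l = if h : l < D + 1 then ((a ⟨l, h⟩ : GrLC.comp 𝒜 𝒜 m) : R) else 0 := by
  change (∑ i : Fin (D + 1), monomial (i : ℕ) ((a i : R))).coeff l = _
  rw [finset_sum_coeff]
  simp only [coeff_monomial]
  split_ifs with h
  · rw [Finset.sum_eq_single ⟨l, h⟩]
    · rw [if_pos rfl]
    · intro j _ hj
      rw [if_neg]
      intro h'
      exact hj (Fin.ext h')
    · intro h'
      exact absurd (Finset.mem_univ _) h'
  · refine Finset.sum_eq_zero fun i _ => ?_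
    rw [if_neg]
    have := i.2
    omega

theorem monoMap_injective (D : ℕ) (m : ℤ) : Function.Injective (monoMap 𝒜 D m) := by
  rw [← LinearMap.ker_eq_bot, LinearMap.ker_eq_bot']
  intro a ha
  funext i
  apply Subtype.ext
  have h1 := congrArg (fun p => p.coeff (i : ℕ)) ha
  simp only [coeff_monoMap, coeff_zero] at h1
  rw [dif_pos i.2] at h1
  exact h1

theorem monoMap_mem (D : ℕ) (m : ℤ) (a : Fin (D + 1) → GrLC.comp 𝒜 𝒜 m) :
    monoMap 𝒜 D m a ∈ Wsub 𝒜 D m := by
  refine ⟨fun l => ?_, fun l hl => ?_⟩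
  · rw [coeff_monoMap]
    split_ifs with h
    · exact (a ⟨l, h⟩).2
    · exact zero_mem _
  · rw [coeff_monoMap, dif_neg (by omega)]

end Spaces

section Main

variable {N : ℕ} (x : Fin N → R) (hx : ∀ i, x i ∈ 𝒜 1)

include hx in
theorem mul_mem_Wsub (D : ℕ) (m : ℤ) (p : R[X]) (hp : p ∈ Wsub 𝒜 D m) :
    genForm x * p ∈ Wsub 𝒜 (D + N) (m + 1) := by
  refine ⟨fun l => ?_, fun l hl => ?_⟩
  · rw [coeff_mul]
    refine sum_mem fun ij _ => ?_
    have := SetLike.GradedMul.mul_mem (A := 𝒜) (coeff_genForm_mem 𝒜 x hx ij.1) (hp.1 ij.2)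
    rwa [add_comm] at this
  · rw [coeff_mul]
    refine Finset.sum_eq_zero fun ij hij => ?_
    have hij := Finset.HasAntidiagonal.mem_antidiagonal.mp hij
    by_cases h1 : N ≤ ij.1
    · rw [coeff_genForm_of_le x _ h1, zero_mul]
    · rw [hp.2 ij.2 (by omega), mul_zero]

include hx in
/-- the dimension count -/
theorem finrank_mul_le (h0 : IsField (GrLC.deg0 𝒜))
    (hreg : genForm x ∈ nonZeroDivisors R[X])
    (hfin : ∀ m : ℤ, Module.Finite (GrLC.deg0 𝒜) (GrLC.comp 𝒜 𝒜 m)) (n : ℤ) (D : ℕ) :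
    (D + 1) * Module.finrank (GrLC.deg0 𝒜) (GrLC.comp 𝒜 𝒜 n) ≤
      (D + N + 1) * Module.finrank (GrLC.deg0 𝒜) (GrLC.comp 𝒜 𝒜 (n + 1)) := by
  letI : Field (GrLC.deg0 𝒜) := h0.toField
  haveI := hfin
  -- the composite injective map
  let Ψ : (Fin (D + 1) → GrLC.comp 𝒜 𝒜 n) →ₗ[GrLC.deg0 𝒜] Wsub 𝒜 (D + N) (n + 1) :=
    { toFun := fun a => ⟨genForm x * monoMap 𝒜 D n a,
        mul_mem_Wsub 𝒜 x hx D n _ (monoMap_mem 𝒜 D n a)⟩
      map_add' := fun a b => by
        apply Subtype.ext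
        simp [map_add, mul_add]
      map_smul' := fun k a => by
        apply Subtype.ext
        simp [map_smul, mul_smul_comm] }
  have hΨ : Function.Injective Ψ := by
    intro a b hab
    have h1 : genForm x * monoMap 𝒜 D n a = genForm x * monoMap 𝒜 D n b :=
      congrArg Subtype.val hab
    have h2 : genForm x * (monoMap 𝒜 D n a - monoMap 𝒜 D n b) = 0 := by
      rw [mul_sub, h1, sub_self]
    have h3 := (mem_nonZeroDivisors_iff.mp hreg).1 _ h2
    exact monoMap_injective 𝒜 D n (sub_eq_zero.mp h3)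
  have hinj : Function.Injective ((coeffMap 𝒜 (D + N) (n + 1)) ∘ₗ Ψ) :=
    (coeffMap_injective 𝒜 (D + N) (n + 1)).comp hΨ
  have h4 := LinearMap.finrank_le_finrank_of_injective hinj
  rw [Module.finrank_pi_fintype, Module.finrank_pi_fintype] at h4
  simpa [Finset.sum_const, Finset.card_univ, Fintype.card_fin, smul_eq_mul] using h4

include hx in
/-- **monotonicity of the Hilbert function** -/
theorem finrank_le_succ (h0 : IsField (GrLC.deg0 𝒜))
    (hreg : genForm x ∈ nonZeroDivisors R[X])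
    (hfin : ∀ m : ℤ, Module.Finite (GrLC.deg0 𝒜) (GrLC.comp 𝒜 𝒜 m)) (n : ℤ) :
    Module.finrank (GrLC.deg0 𝒜) (GrLC.comp 𝒜 𝒜 n) ≤
      Module.finrank (GrLC.deg0 𝒜) (GrLC.comp 𝒜 𝒜 (n + 1)) := by
  set a := Module.finrank (GrLC.deg0 𝒜) (GrLC.comp 𝒜 𝒜 n) with ha
  set b := Module.finrank (GrLC.deg0 𝒜) (GrLC.comp 𝒜 𝒜 (n + 1)) with hb
  by_contra hlt
  push Not at hlt
  have h1 := finrank_mul_le 𝒜 x hx h0 hreg hfin n (N * b)
  rw [← ha, ← hb] at h1
  have h2 : (N * b + 1) * (b + 1) ≤ (N * b + 1) * a := Nat.mul_le_mul_left _ hlt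
  have h3 : (N * b + 1) * (b + 1) ≤ (N * b + N + 1) * b := le_trans h2 h1
  nlinarith

end Main

end Groth.Agent.H2.GrMono
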