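import Mathlib

/-!
# Finite graded algebras over standard graded algebras: `S_{n+k} = S_k S_n` for large `n` (S14052)
-/

open DirectSum

namespace Groth.Agent.H2.GrVeronese

variable {R A S : Type*} [CommRing R] [CommRing A] [Algebra R A]
  (𝒜 : ℕ → Submodule R A) [GradedAlgebra 𝒜]
  [CommRing S] [Algebra R S] [Algebra A S] [IsScalarTower R A S]
  (𝒮 : ℕ → Submodule R S) [GradedAlgebra 𝒮]

lemma A_add (hA : ∀ n : ℕ, 𝒜 (n + 1) = 𝒜 1 * 𝒜 n) (k j : ℕ) : 𝒜 (k + j) = 𝒜 k * 𝒜 j := by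
  induction k with
  | zero =>
    rw [zero_add]
    apply le_antisymm
    · intro x hx
      have : x = 1 * x := (one_mul x).symm
      rw [this]
      exact Submodule.mul_mem_mul (SetLike.GradedOne.one_mem) hx
    · rw [Submodule.mul_le]
      intro a ha b hb
      have := SetLike.GradedMul.mul_mem ha hb
      rwa [zero_add] at this
  | succ k ih =>
    have : k + 1 + j = (k + j) + 1 := by ring
    rw [this, hA, ih, ← mul_assoc, ← hA]

include 𝒜 in
lemma decompose_map (hAS : ∀ (i : ℕ) (a : A), a ∈ 𝒜 i → algebraMap A S a ∈ 𝒮 i) (a : A) (j : ℕ) :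
    (decompose 𝒮 (algebraMap A S a) j : S) = algebraMap A S (decompose 𝒜 a j) := by
  classical
  induction a using DirectSum.Decomposition.inductionOn 𝒜 with
  | zero => simp
  | @homogeneous i a =>
    by_cases hij : i = j
    · subst hij
      rw [decompose_of_mem_same 𝒮 (hAS i a a.2), decompose_of_mem_same 𝒜 a.2]
    · rw [decompose_of_mem_ne 𝒮 (hAS i a a.2) hij, decompose_of_mem_ne 𝒜 a.2 hij, map_zero]
  | add a b ha hb =>
    simp only [map_add, decompose_add, DirectSum.add_apply, Submodule.coe_add, ha, hb]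

lemma mul_mem_aux (hAS : ∀ (i : ℕ) (a : A), a ∈ 𝒜 i → algebraMap A S a ∈ 𝒮 i) (k j e : ℕ)
    (b : A) (hb : b ∈ 𝒜 k * 𝒜 j) (y : S) (hy : y ∈ 𝒮 e) :
    algebraMap A S b * y ∈ 𝒮 k * 𝒮 (j + e) := by
  induction hb using Submodule.mul_induction_on' with
  | mem_mul_mem b1 h1 b2 h2 =>
    rw [map_mul, mul_assoc]
    exact Submodule.mul_mem_mul (hAS k b1 h1) (SetLike.GradedMul.mul_mem (hAS j b2 h2) hy)
  | add x _ z _ hx hz =>
    rw [map_add, add_mul]
    exact Submodule.add_mem _ hx hz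

theorem part1 (hA : ∀ n : ℕ, 𝒜 (n + 1) = 𝒜 1 * 𝒜 n)
    (hAS : ∀ (i : ℕ) (a : A), a ∈ 𝒜 i → algebraMap A S a ∈ 𝒮 i)
    (s : Set S) (hsfin : s.Finite) (n₀ : ℕ)
    (hs : ∀ y ∈ s, ∃ d : ℕ, d ≤ n₀ ∧ y ∈ 𝒮 d) (hspan : Submodule.span A s = ⊤)
    (n k : ℕ) (hn : n₀ ≤ n) : 𝒮 (n + k) = 𝒮 k * 𝒮 n := by
  classical
  apply le_antisymm
  · intro x hx
    have hx' : x ∈ Submodule.span A (hsfin.toFinset : Set S) := by
      rw [Set.Finite.coe_toFinset, hspan]; trivial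
    rw [Submodule.mem_span_finset] at hx'
    obtain ⟨f, -, hf⟩ := hx'
    have hx2 : x = (decompose 𝒮 x (n + k) : S) := (decompose_of_mem_same 𝒮 hx).symm
    rw [hx2, ← hf, decompose_sum, DFinsupp.finsetSum_apply, AddSubmonoidClass.coe_finsetSum]
    apply Submodule.sum_mem
    intro y hy
    have hys : y ∈ s := (Set.Finite.mem_toFinset hsfin).1 hy
    obtain ⟨e, he, hye⟩ := hs y hys
    rw [Algebra.smul_def]
    have hle : e ≤ n + k := by omega
    rw [coe_decompose_mul_of_right_mem_of_le 𝒮 hye hle, decompose_map 𝒜 𝒮 hAS]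
    have h1 : n + k - e = k + (n - e) := by omega
    have h2 : (decompose 𝒜 (f y) (n + k - e) : A) ∈ 𝒜 k * 𝒜 (n - e) := by
      rw [← A_add 𝒜 hA, ← h1]
      exact Subtype.mem _
    have h3 := mul_mem_aux 𝒜 𝒮 hAS k (n - e) e _ h2 y hye
    have h4 : n - e + e = n := by omega
    rwa [h4] at h3
  · rw [Submodule.mul_le]
    intro a ha b hb
    have := SetLike.GradedMul.mul_mem ha hb
    rwa [add_comm] at this

theorem part2 (hA : ∀ n : ℕ, 𝒜 (n + 1) = 𝒜 1 * 𝒜 n)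
    (hAS : ∀ (i : ℕ) (a : A), a ∈ 𝒜 i → algebraMap A S a ∈ 𝒮 i)
    (s : Set S) (hsfin : s.Finite) (n₀ : ℕ)
    (hs : ∀ y ∈ s, ∃ d : ℕ, d ≤ n₀ ∧ y ∈ 𝒮 d) (hspan : Submodule.span A s = ⊤)
    (d : ℕ) (hd : n₀ ≤ d) (m : ℕ) (hm : 0 < m) : 𝒮 (m * d) = 𝒮 d ^ m := by
  induction m with
  | zero => omega
  | succ m ih =>
    by_cases hm0 : m = 0
    · subst hm0; simp
    · have h1 : (m + 1) * d = d + m * d := by ring
      rw [h1, part1 𝒜 𝒮 hA hAS s hsfin n₀ hs hspan d (m * d) hd, ih (Nat.pos_of_ne_zero hm0),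
        pow_succ]

end Groth.Agent.H2.GrVeronese
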