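import Mathlib

/-! # Algebra of the Grassmannian functor: description of `Grassmannian.map`. -/

universe u v w
open TensorProduct Module Module.Grassmannian

namespace Groth.Agent.H2.GrassAlg

/-- For a projective module `Q`, `1 ⊗ q = 0` in `B ⊗ Q` iff all linear forms vanish on `q`
after mapping to `B`. -/
lemma one_tmul_eq_zero_iff {A : Type*} [CommRing A] {Q : Type*} [AddCommGroup Q] [Module A Q]
    [Module.Projective A Q] {B : Type*} [CommRing B] [Algebra A B] (q : Q) :
    (1 : B) ⊗ₜ[A] q = 0 ↔ ∀ l : Q →ₗ[A] A, algebraMap A B (l q) = 0 := by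
  constructor
  · intro h l
    have h1 := congrArg ((TensorProduct.rid A B).toLinearMap ∘ₗ (l.lTensor B)) h
    simpa [Algebra.smul_def] using h1
  · intro h
    obtain ⟨s, hs⟩ := Module.projective_def'.mp (inferInstance : Module.Projective A Q)
    have hq : q = Finsupp.linearCombination A id (s q) := by
      conv_lhs => rw [← LinearMap.id_apply (R := A) q, ← hs]
      rfl
    rw [hq, Finsupp.linearCombination_apply, Finsupp.sum, TensorProduct.tmul_sum]
    apply Finset.sum_eq_zero
    intro i _
    have h2 := h (Finsupp.lapply i ∘ₗ s)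
    simp only [LinearMap.coe_comp, Function.comp_apply, Finsupp.lapply_apply] at h2
    rw [id, ← TensorProduct.smul_tmul, Algebra.smul_def, mul_one, h2, TensorProduct.zero_tmul]

variable {R : Type u} [CommRing R] {M : Type v} [AddCommGroup M] [Module R M] {k : ℕ}
variable {A : Type w} [CommRing A] [Algebra R A] {B : Type w} [CommRing B] [Algebra R B]

/-- base change of tensors along an algebra hom -/
noncomputable def bc (φ : A →ₐ[R] B) : A ⊗[R] M →ₗ[R] B ⊗[R] M :=
  LinearMap.rTensor M φ.toLinearMap

@[simp] lemma bc_tmul (φ : A →ₐ[R] B) (a : A) (m : M) : bc φ (a ⊗ₜ[R] m) = φ a ⊗ₜ[R] m := rfl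

lemma bc_smul (φ : A →ₐ[R] B) (a : A) (y : A ⊗[R] M) : bc φ (a • y) = φ a • bc φ y := by
  induction y using TensorProduct.induction_on with
  | zero => simp
  | tmul a' m => simp [TensorProduct.smul_tmul']
  | add x y hx hy => simp only [smul_add, map_add, hx, hy]

lemma baseChangeMkQ_bc (φ : A →ₐ[R] B) (N : Submodule A (A ⊗[R] M)) (y : A ⊗[R] M) :
    letI : Algebra A B := φ.toAlgebra
    letI : IsScalarTower R A B :=
      IsScalarTower.of_algebraMap_eq' <| IsScalarTower.algebraMap_eq R A B
    baseChangeMkQ B N (bc φ y) = (1 : B) ⊗ₜ[A] N.mkQ y := by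
  let _ : Algebra A B := φ.toAlgebra
  let _ : IsScalarTower R A B :=
    IsScalarTower.of_algebraMap_eq' <| IsScalarTower.algebraMap_eq R A B
  change baseChangeMkQ B N (bc φ y) = (1 : B) ⊗ₜ[A] N.mkQ y
  induction y using TensorProduct.induction_on with
  | zero => simp
  | tmul a m =>
    have h1 : φ a = a • (1 : B) := by
      rw [Algebra.smul_def, mul_one]; rfl
    have h2 : (a ⊗ₜ[R] m : A ⊗[R] M) = a • ((1 : A) ⊗ₜ[R] m) := by
      rw [TensorProduct.smul_tmul', smul_eq_mul, mul_one]
    simp only [baseChangeMkQ, bc_tmul, LinearMap.coe_comp, LinearEquiv.coe_coe,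
      Function.comp_apply, AlgebraTensorModule.cancelBaseChange_symm_tmul,
      LinearMap.baseChange_tmul]
    rw [h1, h2, TensorProduct.smul_tmul, map_smul]
  | add x y hx hy => simp only [map_add, hx, hy, TensorProduct.tmul_add]

/-- `bc φ y` lies in the base-changed submodule iff all linear forms on the quotient vanish on
`y` after applying `φ`. -/
lemma bc_mem_map_iff (φ : A →ₐ[R] B) (N : G(k, A ⊗[R] M; A)) (y : A ⊗[R] M) :
    bc φ y ∈ (map φ N).toSubmodule ↔
      ∀ l : (A ⊗[R] M ⧸ N.toSubmodule) →ₗ[A] A, φ (l (N.toSubmodule.mkQ y)) = 0 := by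
  let _ : Algebra A B := φ.toAlgebra
  let _ : IsScalarTower R A B :=
    IsScalarTower.of_algebraMap_eq' <| IsScalarTower.algebraMap_eq R A B
  rw [map_toSubmodule, LinearMap.mem_ker]
  have h1 := baseChangeMkQ_bc φ N.toSubmodule y
  change baseChangeMkQ B N.toSubmodule (bc φ y) = (1 : B) ⊗ₜ[A] N.toSubmodule.mkQ y at h1
  rw [h1, one_tmul_eq_zero_iff]
  rfl

lemma bc_mem_map (φ : A →ₐ[R] B) (N : G(k, A ⊗[R] M; A)) (y : A ⊗[R] M)
    (hy : y ∈ N.toSubmodule) : bc φ y ∈ (map φ N).toSubmodule := by
  rw [bc_mem_map_iff]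
  intro l
  rw [Submodule.mkQ_apply, (Submodule.Quotient.mk_eq_zero _).mpr hy, map_zero, map_zero]

/-- The base-changed submodule is spanned by the image of `N`. -/
lemma map_toSubmodule_eq_span (φ : A →ₐ[R] B) (N : G(k, A ⊗[R] M; A)) :
    (map φ N).toSubmodule = Submodule.span B (bc φ '' (N.toSubmodule : Set (A ⊗[R] M))) := by
  apply le_antisymm
  · let _ : Algebra A B := φ.toAlgebra
    let _ : IsScalarTower R A B :=
      IsScalarTower.of_algebraMap_eq' <| IsScalarTower.algebraMap_eq R A B
    intro z hz
    rw [map_toSubmodule, LinearMap.mem_ker] at hz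
    change (N.toSubmodule.mkQ.baseChange B)
      ((AlgebraTensorModule.cancelBaseChange R A B B M).symm z) = 0 at hz
    have hz' : (AlgebraTensorModule.cancelBaseChange R A B B M).symm z ∈
        LinearMap.ker (N.toSubmodule.mkQ.lTensor B) := by
      rw [LinearMap.mem_ker, ← LinearMap.baseChange_eq_ltensor]
      exact hz
    rw [lTensor_mkQ] at hz'
    obtain ⟨t, ht⟩ := hz'
    have hz2 : z = AlgebraTensorModule.cancelBaseChange R A B B M
        (N.toSubmodule.subtype.lTensor B t) := by
      rw [ht, LinearEquiv.apply_symm_apply]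
    rw [hz2]
    clear hz2 ht hz
    induction t using TensorProduct.induction_on with
    | zero => simp
    | tmul b n =>
      have h3 : AlgebraTensorModule.cancelBaseChange R A B B M
          (N.toSubmodule.subtype.lTensor B (b ⊗ₜ[A] n)) = b • bc φ (n : A ⊗[R] M) := by
        rw [LinearMap.lTensor_tmul, Submodule.subtype_apply]
        generalize (n : A ⊗[R] M) = y
        induction y using TensorProduct.induction_on with
        | zero => simp
        | tmul a m =>
          rw [AlgebraTensorModule.cancelBaseChange_tmul, bc_tmul, TensorProduct.smul_tmul',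
            Algebra.smul_def, smul_eq_mul, mul_comm]
          rfl
        | add x y hx hy => simp only [TensorProduct.tmul_add, map_add, smul_add, hx, hy]
      rw [h3]
      exact Submodule.smul_mem _ _ (Submodule.subset_span ⟨n, n.2, rfl⟩)
    | add x y hx hy =>
      rw [map_add, map_add]
      exact Submodule.add_mem _ hx hy
  · rw [Submodule.span_le]
    rintro _ ⟨y, hy, rfl⟩
    exact bc_mem_map φ N y hy

end Groth.Agent.H2.GrassAlg
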