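import Groth.Agent.Lib.Helper2.AffRepD
import Groth.Agent.Lib.Helper2.GrassAlgA

/-! # Left ideals form a closed subfunctor of the Grassmannian functor of an algebra. -/

universe u
open CategoryTheory AlgebraicGeometry TensorProduct Module Module.Grassmannian

namespace Groth.Agent.H2.GrassAlg

variable {R : Type u} [CommRing R] (Λ : Type u) [Ring Λ] [Algebra R Λ] (e : ℕ)

/-- stability under left multiplication by the elements `1 ⊗ a`. -/
def IsLeftStable (B : CommAlgCat.{u} R) (U : (functor (R := R) (M := Λ) e).obj B) : Prop :=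
  ∀ (a : Λ) (x : B ⊗[R] Λ), x ∈ U.toSubmodule → ((1 : B) ⊗ₜ[R] a) * x ∈ U.toSubmodule

variable {Λ}

lemma bc_one_tmul_mul {A B : Type u} [CommRing A] [Algebra R A] [CommRing B] [Algebra R B]
    (φ : A →ₐ[R] B) (a : Λ) (y : A ⊗[R] Λ) :
    bc φ (((1 : A) ⊗ₜ[R] a) * y) = ((1 : B) ⊗ₜ[R] a) * bc φ y := by
  induction y using TensorProduct.induction_on with
  | zero => simp
  | tmul a' m => simp [Algebra.TensorProduct.tmul_mul_tmul]
  | add x y hx hy => simp only [mul_add, map_add, hx, hy]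

variable (Λ)

theorem isClosedPred_leftStable :
    AffRep.IsClosedPred (functor (R := R) (M := Λ) e) (IsLeftStable Λ e) := by
  intro A N
  refine ⟨Ideal.span {t | ∃ (l : (A ⊗[R] Λ ⧸ N.toSubmodule) →ₗ[A] A) (a : Λ) (y : A ⊗[R] Λ),
    y ∈ N.toSubmodule ∧ t = l (N.toSubmodule.mkQ (((1 : A) ⊗ₜ[R] a) * y))}, ?_⟩
  intro B φ
  change IsLeftStable Λ e B (map φ.hom N) ↔ _
  constructor
  · intro h
    rw [Ideal.span_le]
    rintro _ ⟨l, a, y, hy, rfl⟩
    rw [SetLike.mem_coe, RingHom.mem_ker]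
    have h1 := h a _ (bc_mem_map φ.hom N y hy)
    rw [← bc_one_tmul_mul, bc_mem_map_iff] at h1
    exact h1 l
  · intro h a x hx
    rw [map_toSubmodule_eq_span] at hx
    induction hx using Submodule.span_induction with
    | mem x hx =>
      obtain ⟨y, hy, rfl⟩ := hx
      rw [← bc_one_tmul_mul, bc_mem_map_iff]
      intro l
      exact h (Ideal.subset_span ⟨l, a, y, hy, rfl⟩)
    | zero => simp
    | add x y _ _ hx hy => rw [mul_add]; exact add_mem hx hy
    | smul b x _ hx => rw [mul_smul_comm]; exact Submodule.smul_mem _ _ hx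

end Groth.Agent.H2.GrassAlg
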