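import Groth.Agent.Lib.Helper2.GrassAlgE
import Groth.Agent.Lib.Helper2.AffRepH

/-! # The standard charts of the Grassmannian functor of `R^n`: the open predicate. -/

universe u
open TensorProduct Module Module.Grassmannian CategoryTheory

namespace Groth.Agent.H2.GrassChart
open Groth.Agent.H2.GrassAlg

variable (R : Type u) [CommRing R] {n k : ℕ}

/-- the standard basis vectors of `A ⊗ R^n`. -/
noncomputable def ε (A : Type u) [CommRing A] [Algebra R A] (j : Fin n) : A ⊗[R] (Fin n → R) :=
  (1 : A) ⊗ₜ[R] Pi.single j 1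

lemma bc_ε {A B : Type u} [CommRing A] [Algebra R A] [CommRing B] [Algebra R B]
    (φ : A →ₐ[R] B) (j : Fin n) : bc φ (ε R A j) = ε R B j := by
  rw [ε, bc_tmul, map_one, ε]

/-- the span of the chosen basis vectors. -/
noncomputable def L (x : Fin k → Fin n) (A : Type u) [CommRing A] [Algebra R A] :
    Submodule A (A ⊗[R] (Fin n → R)) :=
  Submodule.span A (Set.range (fun i => ε R A (x i)))

/-- the chart condition: the chosen basis vectors generate the quotient. -/
def IsChart (x : Fin k → Fin n) (A : CommAlgCat.{u} R)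
    (N : (functor (R := R) (M := Fin n → R) k).obj A) : Prop :=
  N.toSubmodule ⊔ L R x A = ⊤

variable {R}

lemma span_bc_L {A B : Type u} [CommRing A] [Algebra R A] [CommRing B] [Algebra R B]
    (φ : A →ₐ[R] B) (x : Fin k → Fin n) :
    Submodule.span B (bc φ '' (L R x A : Set (A ⊗[R] (Fin n → R)))) = L R x B := by
  rw [L, span_bc_image_span, L, ← Set.range_comp]
  congr 2
  ext i
  exact bc_ε R φ (x i)

lemma map_sup_L {A B : Type u} [CommRing A] [Algebra R A] [CommRing B] [Algebra R B]
    (φ : A →ₐ[R] B) (x : Fin k → Fin n) (N : G(k, A ⊗[R] (Fin n → R); A)) :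
    (map φ N).toSubmodule ⊔ L R x B =
      Submodule.span B (bc φ '' ((N.toSubmodule ⊔ L R x A : Submodule A _) :
        Set (A ⊗[R] (Fin n → R)))) := by
  have h1 : (N.toSubmodule ⊔ L R x A : Submodule A (A ⊗[R] (Fin n → R))) =
      Submodule.span A ((N.toSubmodule : Set (A ⊗[R] (Fin n → R))) ∪ (L R x A : Set _)) := by
    rw [Submodule.span_union, Submodule.span_eq, Submodule.span_eq]
  rw [h1, span_bc_image_span, Set.image_union, Submodule.span_union, ← map_toSubmodule_eq_span,
    span_bc_L]

theorem isOpenPred_isChart (x : Fin k → Fin n) :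
    AffRep.IsOpenPred (functor (R := R) (M := Fin n → R) k) (IsChart R x) := by
  intro A N
  refine ⟨Fitt.ideal A (A ⊗[R] (Fin n → R) ⧸ (N.toSubmodule ⊔ L R x A)) 0, ?_⟩
  intro B φ
  change (map φ.hom N).toSubmodule ⊔ L R x B = ⊤ ↔ _
  rw [map_sup_L, span_bc_eq_top_iff]

end Groth.Agent.H2.GrassChart
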