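import Groth.Agent.Lib.Helper2.GrassChartA

/-! # The standard charts of the Grassmannian functor of `R^n`: parametrisation by matrices. -/

universe u
open TensorProduct Module Module.Grassmannian CategoryTheory

namespace Groth.Agent.H2.GrassChart
open Groth.Agent.H2.GrassAlg

section rank

/-- A surjection from `A^k` onto a projective module of constant rank `k` is injective. -/
lemma injective_of_surjective_of_rank {A : Type u} [CommRing A] {k : ℕ} {Q : Type u}
    [AddCommGroup Q] [Module A Q] [Module.Finite A Q] [Module.Projective A Q]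
    (hr : ∀ p, Module.rankAtStalk (R := A) Q p = k) (f : (Fin k → A) →ₗ[A] Q)
    (hf : Function.Surjective f) : Function.Injective f := by
  obtain ⟨s, hs⟩ := Module.projective_lifting_property f LinearMap.id hf
  have hs' : ∀ q, f (s q) = q := fun q => LinearMap.congr_fun hs q
  -- the projection onto the kernel
  let p : (Fin k → A) →ₗ[A] LinearMap.ker f :=
    (LinearMap.id - s ∘ₗ f).codRestrict (LinearMap.ker f) (by
      intro c
      rw [LinearMap.mem_ker, LinearMap.sub_apply, map_sub, LinearMap.comp_apply, hs',
        LinearMap.id_apply, sub_self])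
  have hp : ∀ z : LinearMap.ker f, p z = z := by
    intro z
    apply Subtype.ext
    change (z : Fin k → A) - s (f z) = z
    rw [LinearMap.mem_ker.mp z.2, map_zero, sub_zero]
  have hpsurj : Function.Surjective p := fun z => ⟨z, hp z⟩
  have : Module.Finite A (LinearMap.ker f) := Module.Finite.of_surjective p hpsurj
  have : Module.Projective A (LinearMap.ker f) :=
    Module.Projective.of_split (LinearMap.ker f).subtype p (by ext z : 1; exact hp z)
  let e : (Fin k → A) ≃ₗ[A] Q × LinearMap.ker f :=
    LinearEquiv.ofLinearMap (f.prod p) (s.coprod (LinearMap.ker f).subtype)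
      (by
        apply LinearMap.ext
        rintro ⟨q, z⟩
        apply Prod.ext
        · change f (s q + z) = q
          rw [map_add, hs', LinearMap.mem_ker.mp z.2, add_zero]
        · change p (s q + z) = z
          rw [map_add, hp]
          have : p (s q) = 0 := by
            apply Subtype.ext
            change s q - s (f (s q)) = 0
            rw [hs', sub_self]
          rw [this, zero_add])
      (by
        apply LinearMap.ext
        intro c
        change s (f c) + (c - s (f c)) = c
        abel)
  have hsub : Subsingleton (LinearMap.ker f) := by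
    rw [← Module.rankAtStalk_eq_zero_iff_subsingleton (R := A)]
    ext q
    have h1 := congrFun (Module.rankAtStalk_eq_of_equiv e) q
    rw [Module.rankAtStalk_prod] at h1
    have : Nontrivial A := q.nontrivial
    rw [Module.rankAtStalk_eq_finrank_of_free] at h1
    simp only [Pi.add_apply, Module.finrank_fin_fun, Pi.natCast_apply, Nat.cast_id] at h1
    rw [hr q] at h1
    simp only [Pi.zero_apply]
    omega
  rw [← LinearMap.ker_eq_bot]
  exact Submodule.eq_bot_of_subsingleton

end rank

variable {R : Type u} [CommRing R] {n k : ℕ}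

variable (R) in
/-- the standard basis of `A ⊗ R^n`. -/
noncomputable def bA (A : Type u) [CommRing A] [Algebra R A] :
    Basis (Fin n) A (A ⊗[R] (Fin n → R)) :=
  Algebra.TensorProduct.basis A (Pi.basisFun R (Fin n))

lemma bA_apply (A : Type u) [CommRing A] [Algebra R A] (j : Fin n) :
    bA R A j = ε R A j := by
  rw [bA, Algebra.TensorProduct.basis_apply, Pi.basisFun_apply, ε]

section chart
variable (A : Type u) [CommRing A] [Algebra R A]

variable (R) in
/-- the linear map `A ⊗ R^n → A^k` with prescribed values on the basis vectors. -/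
noncomputable def T (t : Fin n → Fin k → A) : A ⊗[R] (Fin n → R) →ₗ[A] (Fin k → A) :=
  (bA R A).constr A t

lemma T_ε (t : Fin n → Fin k → A) (j : Fin n) : T R A t (ε R A j) = t j := by
  rw [T, ← bA_apply, Basis.constr_basis]

/-- the matrices which are the identity on the chosen columns. -/
def Valid (x : Fin k → Fin n) (t : Fin n → Fin k → A) : Prop := ∀ i, t (x i) = Pi.single i 1

variable {A} {x : Fin k → Fin n}

lemma T_surjective {t : Fin n → Fin k → A} (ht : Valid A x t) :
    Function.Surjective (T R A t) := by
  intro c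
  refine ⟨∑ i, c i • ε R A (x i), ?_⟩
  rw [map_sum]
  simp_rw [map_smul, T_ε, (show ∀ i, t (x i) = Pi.single i 1 from ht)]
  ext i
  simp [Finset.sum_apply, Pi.single_apply]

lemma sub_mem_ker_T {t : Fin n → Fin k → A} (ht : Valid A x t) (y : A ⊗[R] (Fin n → R)) :
    y - ∑ i, (T R A t y) i • ε R A (x i) ∈ LinearMap.ker (T R A t) := by
  rw [LinearMap.mem_ker, map_sub, map_sum]
  simp_rw [map_smul, T_ε, (show ∀ i, t (x i) = Pi.single i 1 from ht)]
  rw [sub_eq_zero]
  ext i
  simp [Finset.sum_apply, Pi.single_apply]

variable (R) in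
/-- the point of the Grassmannian attached to a valid matrix. -/
noncomputable def chartPt (t : Fin n → Fin k → A) (ht : Valid A x t) :
    G(k, A ⊗[R] (Fin n → R); A) :=
  let e := (T R A t).quotKerEquivOfSurjective (T_surjective ht)
  { toSubmodule := LinearMap.ker (T R A t)
    finite_quotient := Module.Finite.equiv e.symm
    projective_quotient := Module.Projective.of_equiv e.symm
    rankAtStalk_eq := fun p => by
      have : Nontrivial A := p.nontrivial
      rw [Module.rankAtStalk_eq_of_equiv e, Module.rankAtStalk_eq_finrank_of_free]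
      simp }

lemma chartPt_toSubmodule (t : Fin n → Fin k → A) (ht : Valid A x t) :
    (chartPt R t ht).toSubmodule = LinearMap.ker (T R A t) := rfl

lemma ker_T_sup_L {t : Fin n → Fin k → A} (ht : Valid A x t) :
    LinearMap.ker (T R A t) ⊔ L R x A = ⊤ := by
  rw [eq_top_iff]
  intro y _
  have h1 := sub_mem_ker_T ht y
  have h2 : ∑ i, (T R A t y) i • ε R A (x i) ∈ L R x A :=
    Submodule.sum_mem _ (fun i _ => Submodule.smul_mem _ _ (Submodule.subset_span ⟨i, rfl⟩))
  have := Submodule.add_mem_sup h1 h2
  rwa [sub_add_cancel] at this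

/-- generators of the kernel. -/
lemma ker_T_eq_span {t : Fin n → Fin k → A} (ht : Valid A x t) :
    LinearMap.ker (T R A t) =
      Submodule.span A (Set.range (fun j : Fin n => ε R A j - ∑ i, t j i • ε R A (x i))) := by
  apply le_antisymm
  · intro y hy
    have hy' : y = ∑ j, (bA R A).repr y j • (ε R A j - ∑ i, t j i • ε R A (x i)) := by
      have h0 : T R A t y = 0 := hy
      have h1 : y = ∑ j, (bA R A).repr y j • ε R A j := by
        conv_lhs => rw [← (bA R A).sum_repr y]
        simp_rw [bA_apply]
      have h2 : ∑ j, (bA R A).repr y j • ∑ i, t j i • ε R A (x i) = 0 := by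
        simp_rw [Finset.smul_sum, smul_smul]
        rw [Finset.sum_comm]
        apply Finset.sum_eq_zero
        intro i _
        rw [← Finset.sum_smul]
        have h3 : ∑ j, (bA R A).repr y j * t j i = (T R A t y) i := by
          conv_rhs => rw [h1, map_sum]
          simp_rw [map_smul, T_ε]
          simp [Finset.sum_apply]
        rw [h3, h0, Pi.zero_apply, zero_smul]
      simp_rw [smul_sub]
      rw [Finset.sum_sub_distrib, h2, sub_zero]
      exact h1
    rw [hy']
    exact Submodule.sum_mem _ (fun j _ => Submodule.smul_mem _ _ (Submodule.subset_span ⟨j, rfl⟩))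
  · rw [Submodule.span_le]
    rintro _ ⟨j, rfl⟩
    rw [SetLike.mem_coe, LinearMap.mem_ker, map_sub, map_sum]
    simp_rw [map_smul, T_ε, (show ∀ i, t (x i) = Pi.single i 1 from ht)]
    rw [sub_eq_zero]
    ext i
    simp [Finset.sum_apply, Pi.single_apply]

lemma chartPt_injective {t t' : Fin n → Fin k → A} (ht : Valid A x t) (ht' : Valid A x t')
    (h : chartPt R t ht = chartPt R t' ht') : t = t' := by
  have h1 : LinearMap.ker (T R A t) = LinearMap.ker (T R A t') :=
    congrArg Grassmannian.toSubmodule h
  funext j
  have h2 : ε R A j - ∑ i, t j i • ε R A (x i) ∈ LinearMap.ker (T R A t') := by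
    rw [← h1, ker_T_eq_span ht]
    exact Submodule.subset_span ⟨j, rfl⟩
  rw [LinearMap.mem_ker, map_sub, map_sum] at h2
  simp_rw [map_smul, T_ε, (show ∀ i, t' (x i) = Pi.single i 1 from ht')] at h2
  rw [sub_eq_zero] at h2
  rw [h2]
  ext i
  simp [Finset.sum_apply, Pi.single_apply]

/-- every point satisfying the chart condition comes from a valid matrix. -/
lemma exists_chartPt (N : G(k, A ⊗[R] (Fin n → R); A)) (hN : N.toSubmodule ⊔ L R x A = ⊤) :
    ∃ (t : Fin n → Fin k → A) (ht : Valid A x t), chartPt R t ht = N := by
  let π := N.toSubmodule.mkQ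
  let f : (Fin k → A) →ₗ[A] (A ⊗[R] (Fin n → R) ⧸ N.toSubmodule) :=
    Fintype.linearCombination A (fun i => π (ε R A (x i)))
  have hf : Function.Surjective f := by
    intro q
    obtain ⟨y, rfl⟩ := N.toSubmodule.mkQ_surjective q
    have hy : y ∈ N.toSubmodule ⊔ L R x A := hN ▸ Submodule.mem_top
    obtain ⟨y1, hy1, y2, hy2, rfl⟩ := Submodule.mem_sup.mp hy
    rw [L, Submodule.mem_span_range_iff_exists_fun] at hy2
    obtain ⟨c, rfl⟩ := hy2
    refine ⟨c, ?_⟩
    rw [map_add, Submodule.mkQ_apply, (Submodule.Quotient.mk_eq_zero _).mpr hy1, zero_add,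
      Fintype.linearCombination_apply, map_sum]
    simp_rw [map_smul]
    rfl
  have hinj := injective_of_surjective_of_rank N.rankAtStalk_eq f hf
  let fe := LinearEquiv.ofBijective f ⟨hinj, hf⟩
  let T' : A ⊗[R] (Fin n → R) →ₗ[A] (Fin k → A) := fe.symm.toLinearMap ∘ₗ π
  let t : Fin n → Fin k → A := fun j => T' (ε R A j)
  have hT' : T' = T R A t := by
    apply (bA R A).ext
    intro j
    rw [bA_apply, T_ε]
  have ht : Valid A x t := by
    intro i
    change fe.symm (π (ε R A (x i))) = _
    rw [LinearEquiv.symm_apply_eq]
    change _ = f (Pi.single i 1)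
    rw [Fintype.linearCombination_apply_single, one_smul]
  refine ⟨t, ht, ?_⟩
  apply Grassmannian.ext
  rw [chartPt_toSubmodule, ← hT']
  ext y
  rw [LinearMap.mem_ker, LinearMap.comp_apply]
  change fe.symm (π y) = 0 ↔ _
  rw [LinearEquiv.map_eq_zero_iff, Submodule.mkQ_apply, Submodule.Quotient.mk_eq_zero]

end chart

/-- base change of chart points. -/
lemma map_chartPt {A B : Type u} [CommRing A] [Algebra R A] [CommRing B] [Algebra R B]
    (φ : A →ₐ[R] B) {x : Fin k → Fin n} (t : Fin n → Fin k → A) (ht : Valid A x t)
    (ht' : Valid B x (fun j i => φ (t j i))) :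
    map φ (chartPt R t ht) = chartPt R (fun j i => φ (t j i)) ht' := by
  apply Grassmannian.ext
  rw [map_toSubmodule_eq_span, chartPt_toSubmodule, chartPt_toSubmodule, ker_T_eq_span ht,
    ker_T_eq_span ht', span_bc_image_span, ← Set.range_comp]
  congr 2
  ext j
  simp only [Function.comp_apply, map_sub, map_sum, bc_smul, bc_ε]

end Groth.Agent.H2.GrassChart
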