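import Groth.Agent.Lib.Helper2.GrassChartB
import Groth.Agent.Lib.Helper2.AffSpaceRep

/-! # The standard charts of the Grassmannian functor of `R^n` as subfunctors isomorphic to the
functor of points of affine space. -/

universe u
open TensorProduct Module Module.Grassmannian CategoryTheory

namespace Groth.Agent.H2.GrassChart
open Groth.Agent.H2.GrassAlg Groth.Agent.H2.AffRep

variable {R : Type u} [CommRing R] {n k : ℕ}

section decode
variable (x : Fin k ↪ Fin n) {J : Type u}
  (β : {j : Fin n // j ∉ Set.range x} × Fin k ≃ J)

/-- the matrix which is the identity on the columns `x` and has the given free entries. -/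
noncomputable def decode {A : Type u} [CommRing A] (s : J → A) : Fin n → Fin k → A :=
  fun j i => if h : j ∈ Set.range x then (if x i = j then 1 else 0) else s (β (⟨j, h⟩, i))

lemma decode_valid {A : Type u} [CommRing A] (s : J → A) : Valid A x (decode x β s) := by
  intro i'
  funext i
  have h : x i' ∈ Set.range x := ⟨i', rfl⟩
  rw [decode, dif_pos h, Pi.single_apply]
  simp only [x.injective.eq_iff]

lemma decode_comp {A B : Type u} [CommRing A] [CommRing B] {F : Type*} [FunLike F A B]
    [RingHomClass F A B] (φ : F) (s : J → A) :
    (fun j i => φ (decode x β s j i)) = decode x β (fun l => φ (s l)) := by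
  funext j i
  rw [decode, decode]
  split_ifs <;> simp

lemma decode_injective {A : Type u} [CommRing A] : Function.Injective (decode (A := A) x β) := by
  intro s s' h
  funext l
  obtain ⟨⟨⟨j, hj⟩, i⟩, rfl⟩ := β.surjective l
  have := congrFun (congrFun h j) i
  rwa [decode, decode, dif_neg hj, dif_neg hj] at this

lemma decode_surjective {A : Type u} [CommRing A] (t : Fin n → Fin k → A) (ht : Valid A x t) :
    ∃ s, decode x β s = t := by
  refine ⟨fun l => t (β.symm l).1.1 (β.symm l).2, ?_⟩
  funext j i
  rw [decode]
  split_ifs with h h'
  · subst h'
    rw [ht i, Pi.single_apply, if_pos rfl]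
  · obtain ⟨i', rfl⟩ := h
    rw [ht i', Pi.single_apply, if_neg]
    intro hii
    exact h' (by rw [hii])
  · rw [Equiv.symm_apply_apply]

end decode

variable (R) (x : Fin k ↪ Fin n) {J : Type u}
  (β : {j : Fin n // j ∉ Set.range x} × Fin k ≃ J)

attribute [local ext high] ConcreteCategory.hom_ext

/-- the chart as a natural transformation from the functor of points of affine space. -/
noncomputable def chartNat :
    Aff R J ⟶ functor (R := R) (M := Fin n → R) k where
  app A := ↾(fun s : J → A => chartPt R (decode x β s) (decode_valid x β s))
  naturality A B φ := by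
    ext s
    change chartPt R (decode x β (fun j => φ.hom (s j)))
        (decode_valid x β (fun j => φ.hom (s j))) =
      map φ.hom (chartPt R (decode x β s) (decode_valid x β s))
    have h1 := decode_comp x β φ.hom s
    have hv : Valid B x (fun j i => φ.hom (decode x β s j i)) := by
      have := decode_valid x β (fun l => φ.hom (s l))
      rw [← decode_comp x β φ.hom s] at this
      exact this
    rw [map_chartPt φ.hom (decode x β s) (decode_valid x β s) hv]
    congr 1
    exact h1.symm

lemma chartNat_app (A : CommAlgCat.{u} R) (s : J → A) :
    (chartNat R x β).app A s = chartPt R (decode x β s) (decode_valid x β s) := rfl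

lemma chartNat_injective (A : CommAlgCat.{u} R) :
    Function.Injective ((chartNat R x β).app A) := by
  intro s s' h
  rw [chartNat_app, chartNat_app] at h
  exact decode_injective x β (chartPt_injective _ _ h)

theorem isChart_iff_range (A : CommAlgCat.{u} R)
    (N : (functor (R := R) (M := Fin n → R) k).obj A) :
    IsChart R x A N ↔ ∃ s, (chartNat R x β).app A s = N := by
  constructor
  · intro h
    obtain ⟨t, ht, rfl⟩ := exists_chartPt N h
    obtain ⟨s, rfl⟩ := decode_surjective x β t ht
    exact ⟨s, rfl⟩
  · rintro ⟨s, rfl⟩
    exact ker_T_sup_L (decode_valid x β s)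

end Groth.Agent.H2.GrassChart
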