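import Groth.Agent.Lib.Helper2.GrassAlgE

/-! # Algebraic lemmas for Zariski descent of points of the Grassmannian functor. -/

universe u v w
open TensorProduct Module Module.Grassmannian

namespace Groth.Agent.H2.GrassSheaf

open Groth.Agent.H2.GrassAlg

/-- an element vanishing in all localisations of a cover by basic opens is zero. -/
lemma eq_zero_of_away_cover {A : Type*} [CommRing A] {ι : Type*} (s : ι → A)
    (hs : Ideal.span (Set.range s) = ⊤) (a : A)
    (h : ∀ i, algebraMap A (Localization.Away (s i)) a = 0) : a = 0 := by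
  have htop : (Ideal.span {a}).annihilator = ⊤ := by
    by_contra hne
    obtain ⟨m, hm, hle⟩ := Ideal.exists_le_maximal _ hne
    have hex : ∃ i, s i ∉ m := by
      by_contra hcon
      push Not at hcon
      apply hm.ne_top
      rw [eq_top_iff, ← hs, Ideal.span_le]
      rintro _ ⟨i, rfl⟩
      exact hcon i
    obtain ⟨i, hi⟩ := hex
    have h1 := h i
    rw [IsLocalization.map_eq_zero_iff (Submonoid.powers (s i))] at h1
    obtain ⟨⟨_, n, rfl⟩, h2⟩ := h1
    have h3 : s i ^ n ∈ (Ideal.span {a}).annihilator := by
      rw [Submodule.mem_annihilator_span_singleton]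
      exact h2
    exact hi (hm.isPrime.mem_of_pow_mem _ (hle h3))
  have h1 : (1 : A) ∈ (Ideal.span {a}).annihilator := htop ▸ Submodule.mem_top
  rw [Submodule.mem_annihilator_span_singleton] at h1
  simpa using h1

/-- **finite projective modules of constant rank glue over a cover by basic opens.** -/
theorem finite_projective_of_away_cover {A : Type u} [CommRing A] {Q : Type v} [AddCommGroup Q]
    [Module A Q] {ι : Type*} (s : ι → A) (hs : Ideal.span (Set.range s) = ⊤) (k : ℕ)
    (hfin : ∀ i, Module.Finite (Localization.Away (s i)) (Localization.Away (s i) ⊗[A] Q))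
    (hproj : ∀ i, Module.Projective (Localization.Away (s i)) (Localization.Away (s i) ⊗[A] Q))
    (hrank : ∀ i p, Module.rankAtStalk (R := Localization.Away (s i))
      (Localization.Away (s i) ⊗[A] Q) p = k) :
    Module.Finite A Q ∧ Module.Projective A Q ∧ ∀ p, Module.rankAtStalk (R := A) Q p = k := by
  have hfp : Module.FinitePresentation A Q := by
    refine Module.FinitePresentation.of_localizationSpan' (Set.range s) hs
      (Rₚ := fun g => Localization.Away g.val) (Mₚ := fun g => Localization.Away g.val ⊗[A] Q)
      (fun g => TensorProduct.mk A (Localization.Away g.val) Q 1) ?_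
    rintro ⟨_, i, rfl⟩
    have := hfin i
    have := hproj i
    exact Module.finitePresentation_of_projective _ _
  have hflat : Module.Flat A Q := by
    refine Module.flat_of_isLocalized_span A Q (Set.range s) hs
      (fun g => Localization.Away g.val ⊗[A] Q)
      (fun g => TensorProduct.mk A (Localization.Away g.val) Q 1) ?_
    rintro ⟨_, i, rfl⟩
    have := hproj i
    have h1 : Module.Flat A (Localization.Away (s i)) :=
      IsLocalization.flat _ (Submonoid.powers (s i))
    exact Module.Flat.trans A (Localization.Away (s i)) _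
  have hprojQ : Module.Projective A Q := Module.Flat.projective_of_finitePresentation
  refine ⟨inferInstance, hprojQ, fun p => ?_⟩
  have hex : ∃ i, s i ∉ p.asIdeal := by
    by_contra hcon
    push Not at hcon
    apply p.isPrime.ne_top
    rw [eq_top_iff, ← hs, Ideal.span_le]
    rintro _ ⟨i, rfl⟩
    exact hcon i
  obtain ⟨i, hi⟩ := hex
  have hp : p ∈ Set.range (PrimeSpectrum.comap (algebraMap A (Localization.Away (s i)))) := by
    rw [PrimeSpectrum.localization_away_comap_range (Localization.Away (s i)) (s i)]
    exact hi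
  obtain ⟨p', rfl⟩ := hp
  rw [← Module.rankAtStalk_baseChange]
  exact hrank i p'

variable {R : Type u} [CommRing R] {M : Type v} [AddCommGroup M] [Module R M] {k : ℕ}
variable {A : Type w} [CommRing A] [Algebra R A] {B : Type w} [CommRing B] [Algebra R B]

lemma bc_comp {C : Type w} [CommRing C] [Algebra R C] (φ : A →ₐ[R] B) (ψ : B →ₐ[R] C)
    (y : A ⊗[R] M) : bc (ψ.comp φ) y = bc ψ (bc φ y) := by
  induction y using TensorProduct.induction_on with
  | zero => simp
  | tmul a m => simp
  | add x y hx hy => simp only [map_add, hx, hy]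

/-- the canonical map to a localisation, as a map of `R`-algebras. -/
noncomputable abbrev toAway (f : A) : A →ₐ[R] Localization.Away f :=
  IsScalarTower.toAlgHom R A (Localization.Away f)

/-- every tensor over a localisation comes from the base ring, up to a power. -/
lemma exists_pow_smul_eq_bc (f : A) (z : Localization.Away f ⊗[R] M) :
    ∃ (n : ℕ) (y : A ⊗[R] M),
      bc (toAway (R := R) f) y = (algebraMap A (Localization.Away f) f) ^ n • z := by
  induction z using TensorProduct.induction_on with
  | zero => exact ⟨0, 0, by simp⟩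
  | tmul a' m =>
    obtain ⟨n, a, h⟩ := IsLocalization.Away.surj f a'
    refine ⟨n, a ⊗ₜ[R] m, ?_⟩
    rw [bc_tmul, TensorProduct.smul_tmul', smul_eq_mul, mul_comm, h]
    rfl
  | add z₁ z₂ h₁ h₂ =>
    obtain ⟨n₁, y₁, e₁⟩ := h₁
    obtain ⟨n₂, y₂, e₂⟩ := h₂
    refine ⟨n₁ + n₂, f ^ n₂ • y₁ + f ^ n₁ • y₂, ?_⟩
    have hc : ∀ n : ℕ, (toAway (R := R) f) (f ^ n) = algebraMap A (Localization.Away f) f ^ n := by
      intro n
      rw [map_pow]
      rfl
    rw [map_add, bc_smul, bc_smul, e₁, e₂, hc, hc, smul_smul, smul_smul, smul_add, pow_add,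
      mul_comm (algebraMap A (Localization.Away f) f ^ n₂)]

private lemma ker_aux (φ : A →ₐ[R] B) (inst : Algebra A B) (h : inst = φ.toAlgebra)
    (tower : @IsScalarTower R A B _ inst.toSMul _) (N : Submodule A (A ⊗[R] M)) :
    LinearMap.ker (@baseChangeMkQ R _ M _ _ A _ _ B _ _ inst tower N) =
      Submodule.span B (bc φ '' (N : Set (A ⊗[R] M))) := by
  subst h
  have h1 := ker_baseChangeMkQ_eq_span φ N
  exact h1

/-- the kernel of the base-changed quotient map, for an arbitrary compatible algebra structure. -/
lemma ker_baseChangeMkQ_eq_span' [inst : Algebra A B] [tower : IsScalarTower R A B]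
    (N : Submodule A (A ⊗[R] M)) :
    LinearMap.ker (baseChangeMkQ B N) =
      Submodule.span B (bc (IsScalarTower.toAlgHom R A B) '' (N : Set (A ⊗[R] M))) :=
  ker_aux (IsScalarTower.toAlgHom R A B) inst (Algebra.algebra_ext _ _ (fun _ => rfl)) tower N

/-- base change of the quotient by a submodule is the quotient by the span of the image. -/
noncomputable def tensorQuotEquiv [Algebra A B] [IsScalarTower R A B]
    (N : Submodule A (A ⊗[R] M)) (N' : Submodule B (B ⊗[R] M))
    (h : N' = Submodule.span B (bc (IsScalarTower.toAlgHom R A B) '' (N : Set (A ⊗[R] M)))) :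
    B ⊗[A] ((A ⊗[R] M) ⧸ N) ≃ₗ[B] (B ⊗[R] M) ⧸ N' :=
  (baseChangeMkQEquiv (B := B) N).symm.trans
    (Submodule.quotEquivOfEq _ _ (by rw [h, ker_baseChangeMkQ_eq_span']))

/-- membership in a Grassmannian point after inverting `g` gives membership up to a power. -/
lemma exists_pow_smul_mem_of_bc_mem (N : G(k, A ⊗[R] M; A)) (g : A) (y : A ⊗[R] M)
    (hy : bc (toAway (R := R) g) y ∈ (map (toAway (R := R) g) N).toSubmodule) :
    ∃ b : ℕ, g ^ b • y ∈ N.toSubmodule := by
  rw [map_toSubmodule_eq_span] at hy
  have h1 : bc (toAway (R := R) g) y ∈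
      LinearMap.ker (baseChangeMkQ (Localization.Away g) N.toSubmodule) := by
    rw [ker_baseChangeMkQ_eq_span']
    exact hy
  rw [LinearMap.mem_ker] at h1
  have h2 : baseChangeMkQ (Localization.Away g) N.toSubmodule (bc (toAway (R := R) g) y) =
      (1 : Localization.Away g) ⊗ₜ[A] N.toSubmodule.mkQ y := by
    generalize y = y'
    induction y' using TensorProduct.induction_on with
    | zero => simp
    | tmul a m =>
      have e1 : (toAway (R := R) g) a = a • (1 : Localization.Away g) := by
        rw [Algebra.smul_def, mul_one]; rfl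
      have e2 : (a ⊗ₜ[R] m : A ⊗[R] M) = a • ((1 : A) ⊗ₜ[R] m) := by
        rw [TensorProduct.smul_tmul', smul_eq_mul, mul_one]
      simp only [baseChangeMkQ, bc_tmul, LinearMap.coe_comp, LinearEquiv.coe_coe,
        Function.comp_apply, AlgebraTensorModule.cancelBaseChange_symm_tmul,
        LinearMap.baseChange_tmul]
      rw [e1, e2, TensorProduct.smul_tmul, map_smul]
    | add x y hx hy => simp only [map_add, hx, hy, TensorProduct.tmul_add]
  rw [h2] at h1
  have h3 : TensorProduct.mk A (Localization.Away g) _ 1 (N.toSubmodule.mkQ y) = 0 := h1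
  rw [IsLocalizedModule.eq_zero_iff (Submonoid.powers g)] at h3
  obtain ⟨⟨_, b, rfl⟩, h4⟩ := h3
  refine ⟨b, ?_⟩
  rw [← Submodule.Quotient.mk_eq_zero, Submodule.Quotient.mk_smul]
  exact h4

end Groth.Agent.H2.GrassSheaf
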