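import Groth.Agent.Lib.Helper2.GrassSheafB
import Groth.Agent.Lib.Helper2.AffRepL

/-! # The Grassmannian functor is a Zariski sheaf on `R`-algebras. -/

universe u
open CategoryTheory TensorProduct Module Module.Grassmannian

namespace Groth.Agent.H2.AffRep

variable {R : Type u} [CommRing R]

/-- the lift of an algebra map along a localisation. -/
noncomputable def awayLiftAlg {A B : Type u} [CommRing A] [Algebra R A] [CommRing B] [Algebra R B]
    (f : A) (g : A →ₐ[R] B) (hg : IsUnit (g f)) : Localization.Away f →ₐ[R] B :=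
  { IsLocalization.Away.lift (S := Localization.Away f) f (g := (g : A →+* B)) hg with
    commutes' := fun r => by
      change IsLocalization.Away.lift (S := Localization.Away f) f (g := (g : A →+* B)) hg
        (algebraMap R (Localization.Away f) r) = _
      rw [IsScalarTower.algebraMap_apply R A (Localization.Away f), IsLocalization.Away.lift_eq]
      exact g.commutes r }

lemma awayLiftAlg_algebraMap {A B : Type u} [CommRing A] [Algebra R A] [CommRing B] [Algebra R B]
    (f : A) (g : A →ₐ[R] B) (hg : IsUnit (g f)) (a : A) :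
    awayLiftAlg f g hg (algebraMap A (Localization.Away f) a) = g a :=
  IsLocalization.Away.lift_eq (S := Localization.Away f) f (g := (g : A →+* B)) hg a

/-- the lift of a map of `R`-algebras along a localisation. -/
noncomputable def awayLift {A B : CommAlgCat.{u} R} (f : A) (g : A ⟶ B) (hg : IsUnit (g.hom f)) :
    awayObj A f ⟶ B :=
  CommAlgCat.ofHom (R := R) (X := awayObj A f) (Y := B) (awayLiftAlg f g.hom hg)

lemma awayMap_awayLift {A B : CommAlgCat.{u} R} (f : A) (g : A ⟶ B) (hg : IsUnit (g.hom f)) :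
    awayMap A f ≫ awayLift f g hg = g := by
  ext a
  exact awayLiftAlg_algebraMap f g.hom hg a

/-- a separated presheaf which glues over finite covers is a Zariski sheaf. -/
theorem IsZarSheaf.of_finite {F : CommAlgCat.{u, u} R ⥤ Type u}
    (sep : ∀ (A : CommAlgCat.{u} R) {ι : Type u} (s : ι → A)
      (_ : Ideal.span (Set.range s) = ⊤) (ξ ξ' : F.obj A),
      (∀ i, F.map (awayMap A (s i)) ξ = F.map (awayMap A (s i)) ξ') → ξ = ξ')
    (glue : ∀ (A : CommAlgCat.{u} R) {ι : Type u} [Finite ι] (s : ι → A)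
      (_ : Ideal.span (Set.range s) = ⊤) (ξ : ∀ i, F.obj (awayObj A (s i))),
      (∀ (i k : ι) (B : CommAlgCat.{u} R) (α : awayObj A (s i) ⟶ B) (β : awayObj A (s k) ⟶ B),
        awayMap A (s i) ≫ α = awayMap A (s k) ≫ β → F.map α (ξ i) = F.map β (ξ k)) →
      ∃ ξ₀ : F.obj A, ∀ i, F.map (awayMap A (s i)) ξ₀ = ξ i) : IsZarSheaf F := by
  refine ⟨sep, fun A ι s hs ξ hξ => ?_⟩
  obtain ⟨T, hT, hTs⟩ := (Ideal.span_eq_top_iff_finite _).mp hs
  choose idx hidx using fun a : {a // a ∈ T} => hT a.2
  let s' : {a // a ∈ T} → A := fun a => s (idx a)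
  have hs' : Ideal.span (Set.range s') = ⊤ := by
    have : Set.range s' = (T : Set A) := by
      ext x
      constructor
      · rintro ⟨a, rfl⟩
        change s (idx a) ∈ (T : Set A)
        rw [hidx]
        exact a.2
      · intro hx
        exact ⟨⟨x, hx⟩, hidx _⟩
    rw [this]
    exact hTs
  obtain ⟨ξ₀, hξ₀⟩ := glue A s' hs' (fun a => ξ (idx a))
    (fun a a' B α β h => hξ (idx a) (idx a') B α β h)
  refine ⟨ξ₀, fun i => ?_⟩
  let u : {a // a ∈ T} → awayObj A (s i) := fun a => (awayMap A (s i)).hom (s' a)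
  have hu : Ideal.span (Set.range u) = ⊤ := by
    have h1 : Set.range u = (algebraMap A (Localization.Away (s i))) '' Set.range s' := by
      rw [← Set.range_comp]
      rfl
    rw [h1, ← Ideal.map_span, hs', Ideal.map_top]
  apply sep (awayObj A (s i)) u hu
  intro a
  have hunit : IsUnit ((awayMap A (s i) ≫ awayMap (awayObj A (s i)) (u a)).hom (s' a)) :=
    IsLocalization.Away.algebraMap_isUnit (u a)
  let γ := awayLift (s' a) (awayMap A (s i) ≫ awayMap (awayObj A (s i)) (u a)) hunit
  have hγ : awayMap A (s' a) ≫ γ = awayMap A (s i) ≫ awayMap (awayObj A (s i)) (u a) :=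
    awayMap_awayLift _ _ _
  calc F.map (awayMap (awayObj A (s i)) (u a)) (F.map (awayMap A (s i)) ξ₀)
      = F.map (awayMap A (s i) ≫ awayMap (awayObj A (s i)) (u a)) ξ₀ :=
        (FunctorToTypes.map_comp_apply F _ _ ξ₀).symm
    _ = F.map (awayMap A (s' a) ≫ γ) ξ₀ := by rw [hγ]
    _ = F.map γ (F.map (awayMap A (s' a)) ξ₀) := FunctorToTypes.map_comp_apply F _ _ ξ₀
    _ = F.map γ (ξ (idx a)) := by rw [hξ₀ a]
    _ = F.map (awayMap (awayObj A (s i)) (u a)) (ξ i) :=
        hξ (idx a) i _ γ (awayMap (awayObj A (s i)) (u a)) hγ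

open Groth.Agent.H2.GrassAlg Groth.Agent.H2.GrassSheaf in
/-- **The Grassmannian functor of any module is a Zariski sheaf.** -/
theorem isZarSheaf_grass (M : Type u) [AddCommGroup M] [Module R M] (k : ℕ) :
    IsZarSheaf (functor (R := R) (M := M) k) := by
  apply IsZarSheaf.of_finite
  · intro A ι s hs ξ ξ' h
    exact grass_sep (R := R) (M := M) (k := k) (A := A) s hs ξ ξ' h
  · intro A ι _ s hs N hN
    have H : ∀ i j (t : A ⊗[R] M), bc (toAway (R := R) (s i)) t ∈ (N i).toSubmodule →
        ∃ b : ℕ, bc (toAway (R := R) (s j)) ((s i) ^ b • t) ∈ (N j).toSubmodule := by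
      intro i j t ht
      let g : awayObj A (s j) := (awayMap A (s j)).hom (s i)
      let β := awayMap (awayObj A (s j)) g
      have hunit : IsUnit ((awayMap A (s j) ≫ β).hom (s i)) :=
        IsLocalization.Away.algebraMap_isUnit g
      let α := awayLift (s i) (awayMap A (s j) ≫ β) hunit
      have hα : awayMap A (s i) ≫ α = awayMap A (s j) ≫ β := awayMap_awayLift _ _ _
      have h1 : map α.hom (N i) = map β.hom (N j) := hN i j _ α β hα
      have h2 : bc β.hom (bc (toAway (R := R) (s j)) t) ∈ (map β.hom (N j)).toSubmodule := by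
        rw [← h1, ← bc_comp]
        have h3 : β.hom.comp (toAway (R := R) (s j)) = α.hom.comp (toAway (R := R) (s i)) :=
          congrArg (fun χ : A ⟶ _ => χ.hom) hα.symm
        rw [h3, bc_comp]
        exact bc_mem_map α.hom (N i) _ ht
      obtain ⟨b, hb⟩ := exists_pow_smul_mem_of_bc_mem (N j) g _ h2
      refine ⟨b, ?_⟩
      rw [bc_smul, map_pow]
      exact hb
    obtain ⟨N₀, hN₀⟩ := exists_glue_of_pow (R := R) (M := M) (k := k) (A := A) s N H hs
    exact ⟨N₀, hN₀⟩

end Groth.Agent.H2.AffRep
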