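import Groth.Agent.Lib.Helper2.H1Reg1

/-!
# Appending `H₁`-regular sequences (helper2)
-/

namespace Groth.Agent.H2.H1Reg

variable {A : Type*} [CommRing A]

theorem natAdd_ne_castAdd {n m : ℕ} (i : Fin n) (j : Fin m) :
    Fin.natAdd n j ≠ Fin.castAdd m i := by
  intro h
  have := congrArg Fin.val h
  simp at this
  omega

/-- Extension by zero on the right. -/
noncomputable def inl (n m : ℕ) : (Fin n → A) →ₗ[A] (Fin (n + m) → A) where
  toFun v := Fin.append v 0
  map_add' v w := by
    ext k; refine Fin.addCases (fun i => ?_) (fun j => ?_) k <;> simp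
  map_smul' r v := by
    ext k; refine Fin.addCases (fun i => ?_) (fun j => ?_) k <;> simp

/-- Extension by zero on the left. -/
noncomputable def inr (n m : ℕ) : (Fin m → A) →ₗ[A] (Fin (n + m) → A) where
  toFun v := Fin.append 0 v
  map_add' v w := by
    ext k; refine Fin.addCases (fun i => ?_) (fun j => ?_) k <;> simp
  map_smul' r v := by
    ext k; refine Fin.addCases (fun i => ?_) (fun j => ?_) k <;> simp

theorem inl_single (n m : ℕ) (i : Fin n) (x : A) :
    inl n m (Pi.single i x) = Pi.single (Fin.castAdd m i) x := by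
  ext k; refine Fin.addCases (fun i' => ?_) (fun j => ?_) k
  · simp [inl, Pi.single_apply]
  · have := natAdd_ne_castAdd i j
    simp [inl, Pi.single_apply, this]

theorem inr_single (n m : ℕ) (j : Fin m) (x : A) :
    inr n m (Pi.single j x) = Pi.single (Fin.natAdd n j) x := by
  ext k; refine Fin.addCases (fun i' => ?_) (fun j' => ?_) k
  · have := (natAdd_ne_castAdd i' j).symm
    simp [inr, Pi.single_apply, this]
  · simp [inr, Pi.single_apply]

theorem decomp (n m : ℕ) (a : Fin (n + m) → A) :
    a = inl n m (fun i => a (Fin.castAdd m i)) + inr n m (fun j => a (Fin.natAdd n j)) := by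
  ext k; refine Fin.addCases (fun i' => ?_) (fun j => ?_) k
  · simp [inl, inr]
  · simp [inl, inr]

theorem inl_triv_le {n m : ℕ} (f : Fin n → A) (g : Fin m → A) :
    (triv f).map (inl n m) ≤ triv (Fin.append f g) := by
  rw [Submodule.map_le_iff_le_comap]
  refine Submodule.span_le.mpr ?_
  rintro _ ⟨i, j, rfl⟩
  rw [SetLike.mem_coe, Submodule.mem_comap, map_sub, inl_single, inl_single]
  have := gen_mem_triv (Fin.append f g) (Fin.castAdd m i) (Fin.castAdd m j)
  simpa using this

theorem inr_triv_le {n m : ℕ} (f : Fin n → A) (g : Fin m → A) :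
    (triv g).map (inr n m) ≤ triv (Fin.append f g) := by
  rw [Submodule.map_le_iff_le_comap]
  refine Submodule.span_le.mpr ?_
  rintro _ ⟨i, j, rfl⟩
  rw [SetLike.mem_coe, Submodule.mem_comap, map_sub, inr_single, inr_single]
  have := gen_mem_triv (Fin.append f g) (Fin.natAdd n i) (Fin.natAdd n j)
  simpa using this

theorem mixed_mem {n m : ℕ} (f : Fin n → A) (g : Fin m → A) (i : Fin n) (j : Fin m) :
    inr n m (Pi.single j (f i)) - inl n m (Pi.single i (g j)) ∈ triv (Fin.append f g) := by
  rw [inl_single, inr_single]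
  have := gen_mem_triv (Fin.append f g) (Fin.natAdd n j) (Fin.castAdd m i)
  simpa using this

theorem dot_append {n m : ℕ} (f : Fin n → A) (g : Fin m → A) (a : Fin (n + m) → A) :
    ∑ k, a k * Fin.append f g k =
      ∑ i, a (Fin.castAdd m i) * f i + ∑ j, a (Fin.natAdd n j) * g j := by
  rw [Fin.sum_univ_add]
  simp

/-- Lifting trivial relations from a quotient. -/
theorem triv_quot_le {m : ℕ} (J : Ideal A) (g : Fin m → A) :
    ∀ w ∈ triv (fun j => Ideal.Quotient.mk J (g j)),
      ∃ t ∈ triv g, ∀ j, Ideal.Quotient.mk J (t j) = w j := by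
  intro w hw
  induction hw using Submodule.span_induction with
  | mem x hx =>
    obtain ⟨i, j, rfl⟩ := hx
    refine ⟨Pi.single i (g j) - Pi.single j (g i), gen_mem_triv g i j, ?_⟩
    intro k
    simp only [Pi.sub_apply, map_sub, Pi.single_apply]
    split_ifs <;> simp
  | zero => exact ⟨0, zero_mem _, fun j => by simp⟩
  | add x y _ _ hx hy =>
    obtain ⟨t, ht, htx⟩ := hx
    obtain ⟨t', ht', hty⟩ := hy
    exact ⟨t + t', add_mem ht ht', fun j => by simp [htx, hty]⟩
  | smul r x _ hx =>
    obtain ⟨t, ht, htx⟩ := hx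
    obtain ⟨r', rfl⟩ := Ideal.Quotient.mk_surjective r
    exact ⟨r' • t, Submodule.smul_mem _ _ ht, fun j => by simp [htx]⟩

/-- **Appending `H₁`-regular sequences.** -/
theorem H1.append {n m : ℕ} {f : Fin n → A} {g : Fin m → A} (hf : H1 f)
    (hg : H1 (fun j => Ideal.Quotient.mk (Ideal.span (Set.range f)) (g j))) :
    H1 (Fin.append f g) := by
  classical
  intro a ha
  rw [dot_append] at ha
  set a₁ : Fin n → A := fun i => a (Fin.castAdd m i) with ha₁
  set a₂ : Fin m → A := fun j => a (Fin.natAdd n j) with ha₂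
  set J := Ideal.span (Set.range f) with hJ
  -- reduce modulo `J`
  have hJmem : ∑ i, a₁ i * f i ∈ J :=
    Ideal.sum_mem _ (fun i _ => Ideal.mul_mem_left _ _ (Ideal.subset_span (Set.mem_range_self i)))
  have hrel : ∑ j, (Ideal.Quotient.mk J (a₂ j)) * Ideal.Quotient.mk J (g j) = 0 := by
    have : ∑ j, a₂ j * g j = -∑ i, a₁ i * f i := by
      rw [eq_neg_iff_add_eq_zero, add_comm]; exact ha
    rw [← map_zero (Ideal.Quotient.mk J)]
    simp only [← map_mul, ← map_sum]
    rw [this, map_neg, map_zero, neg_eq_zero, Ideal.Quotient.eq_zero_iff_mem]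
    exact hJmem
  obtain ⟨t, ht, htw⟩ := triv_quot_le J g _ (hg _ hrel)
  -- the difference has entries in `J`
  have hb : ∀ j, a₂ j - t j ∈ J := by
    intro j
    rw [← Ideal.Quotient.eq_zero_iff_mem, map_sub, htw, sub_self]
  have hs : ∀ j, ∃ s : Fin n → A, ∑ i, s i * f i = a₂ j - t j := fun j =>
    Ideal.mem_span_range_iff_exists_fun.mp (hb j)
  choose s hs using hs
  -- the modified `f`-relation
  set u : Fin n → A := fun i => a₁ i + ∑ j, s j i * g j with hu
  have htg : ∑ j, t j * g j = 0 := by
    have := triv_le_ker g ht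
    rwa [LinearMap.mem_ker, dot_apply] at this
  have hurel : ∑ i, u i * f i = 0 := by
    have h1 : ∑ i, u i * f i = ∑ i, a₁ i * f i + ∑ j, (∑ i, s j i * f i) * g j := by
      simp only [hu, add_mul, Finset.sum_add_distrib, Finset.sum_mul]
      congr 1
      rw [Finset.sum_comm]
      refine Finset.sum_congr rfl (fun j _ => Finset.sum_congr rfl (fun i _ => ?_))
      ring
    rw [h1]
    simp only [hs, sub_mul, Finset.sum_sub_distrib, htg, sub_zero]
    exact ha
  have hutriv := hf u hurel
  -- assemble
  have key : a = inl n m u + inr n m t +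
      ∑ j, ∑ i, s j i • (inr n m (Pi.single j (f i)) - inl n m (Pi.single i (g j))) := by
    have e1 : ∑ j, ∑ i, s j i • (inr n m (Pi.single j (f i)) - inl n m (Pi.single i (g j))) =
        inr n m (fun j => a₂ j - t j) - inl n m (fun i => ∑ j, s j i * g j) := by
      simp only [smul_sub, Finset.sum_sub_distrib, ← map_smul, ← map_sum]
      congr 2
      · ext j
        simp only [Finset.sum_apply, Pi.smul_apply, Pi.single_apply, smul_eq_mul, mul_ite,
          mul_zero]
        rw [← hs j]
        rw [Finset.sum_eq_single j]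
        · simp
        · intro j' _ hj'
          simp [hj'.symm]
        · simp
      · ext i
        simp only [Finset.sum_apply, Pi.smul_apply, Pi.single_apply, smul_eq_mul, mul_ite,
          mul_zero]
        refine Finset.sum_congr rfl (fun j _ => ?_)
        simp
    rw [e1]
    have e2 : inl n m u = inl n m a₁ + inl n m (fun i => ∑ j, s j i * g j) := by
      rw [← map_add]; rfl
    have e3 : inr n m (fun j => a₂ j - t j) = inr n m a₂ - inr n m t := by
      rw [← map_sub]; rfl
    rw [e2, e3]
    conv_lhs => rw [decomp n m a]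
    abel
  rw [key]
  refine add_mem (add_mem ?_ ?_) ?_
  · exact inl_triv_le f g ⟨u, hutriv, rfl⟩
  · exact inr_triv_le f g ⟨t, ht, rfl⟩
  · exact Submodule.sum_mem _ (fun j _ => Submodule.sum_mem _ (fun i _ =>
      Submodule.smul_mem _ _ (mixed_mem f g i j)))

end Groth.Agent.H2.H1Reg
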