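import Groth.Agent.Lib.Helper2.H1Reg2

/-!
# Relative linear type for `H₁`-regular sequences modulo an ideal (helper2)
-/

namespace Groth.Agent.H2.H1Reg

open MvPolynomial Groth.Agent.H2.QuasiReg

variable {A : Type*} [CommRing A]

attribute [local instance] MvPolynomial.gradedAlgebra

/-- Elements of `(f)^k * 𝔟` are the values at `f` of degree-`k` forms with coefficients in `𝔟`. -/
theorem mem_pow_mul_iff {c : ℕ} (f : Fin c → A) (k : ℕ) (𝔟 : Ideal A) (x : A) :
    x ∈ Ideal.span (Set.range f) ^ k * 𝔟 ↔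
      ∃ H : MvPolynomial (Fin c) A, H.IsHomogeneous k ∧ (∀ α, coeff α H ∈ 𝔟) ∧ eval f H = x := by
  constructor
  · intro hx
    refine Submodule.mul_induction_on hx ?_ ?_
    · intro y hy b hb
      obtain ⟨H₀, hH₀, rfl⟩ := (Ideal.mem_span_pow_iff_exists_isHomogeneous f y).mp hy
      refine ⟨C b * H₀, hH₀.C_mul b, fun α => ?_, ?_⟩
      · rw [coeff_C_mul]; exact Ideal.mul_mem_right _ _ hb
      · rw [map_mul, eval_C, mul_comm]
    · rintro x y ⟨H, hH, hHb, rfl⟩ ⟨H', hH', hHb', rfl⟩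
      exact ⟨H + H', hH.add hH', fun α => by rw [coeff_add]; exact add_mem (hHb α) (hHb' α),
        map_add _ _ _⟩
  · rintro ⟨H, hH, hHb, rfl⟩
    rw [eval_eq]
    refine Ideal.sum_mem _ (fun α hα => ?_)
    rw [mul_comm (coeff α H)]
    refine Ideal.mul_mem_mul ?_ (hHb α)
    have hmon : (monomial α (1 : A)).IsHomogeneous k := by
      have := hH (mem_support_iff.mp hα)
      refine isHomogeneous_monomial _ ?_
      rw [Finsupp.degree_eq_weight_one]
      exact this
    have := eval_mem_pow_of_isHomogeneous f hmon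
    rw [eval_monomial, one_mul] at this
    exact this

/-- Values of homogeneous elements of `Jb g ⊔ map C 𝔞`. -/
theorem eval_mem_of_mem_sup {m : ℕ} (g : Fin m → A) (𝔞 : Ideal A) {e : ℕ}
    {q : MvPolynomial (Fin m) A} (hq : q.IsHomogeneous e) (hmem : q ∈ Jb g ⊔ Ideal.map C 𝔞) :
    eval g q ∈ Ideal.span (Set.range g) ^ e * 𝔞 := by
  obtain ⟨E, hE, D, hD, rfl⟩ := Submodule.mem_sup.mp hmem
  have hE' := homogeneousComponent_mem_of_mem (isHomogeneous_Jb g) hE e
  have hD' := homogeneousComponent_mem_of_mem (isHomogeneous_map_C (n := m) 𝔞) hD e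
  have hsplit : E + D = homogeneousComponent e E + homogeneousComponent e D := by
    rw [← map_add, homogeneousComponent_of_mem ((mem_homogeneousSubmodule _ _).mpr hq), if_pos rfl]
  rw [hsplit, map_add]
  have h1 : eval g (homogeneousComponent e E) = 0 := by
    have := aeval_mem_of_mem g ⊥ (q := homogeneousComponent e E)
      (Ideal.mem_sup_left hE')
    rw [Ideal.mem_bot] at this
    rw [← this, aeval_eq_eval]
  rw [h1, zero_add]
  rw [mem_pow_mul_iff]
  exact ⟨_, homogeneousComponent_isHomogeneous e D, fun α => mem_map_C_iff.mp hD' α, rfl⟩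

theorem map_Jb {B : Type*} [CommRing B] {m : ℕ} (φ : A →+* B) (g : Fin m → A) :
    Jb (fun j => φ (g j)) = (Jb g).map (MvPolynomial.map φ) := by
  unfold Jb
  rw [Ideal.map_span]
  congr 1
  ext q
  constructor
  · rintro ⟨i, j, rfl⟩
    exact ⟨_, ⟨i, j, rfl⟩, by simp⟩
  · rintro ⟨_, ⟨i, j, rfl⟩, rfl⟩
    exact ⟨i, j, by simp⟩

/-- **Relative linear type**: if `g` is `H₁`-regular modulo `𝔞`, a form of degree `e` whose value at
`g` lies in `𝔞` belongs to `Jb g ⊔ map C 𝔞`. -/
theorem H1.relLinearType {m : ℕ} {g : Fin m → A} (𝔞 : Ideal A)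
    (hg : H1 (fun j => Ideal.Quotient.mk 𝔞 (g j))) {e : ℕ} {F : MvPolynomial (Fin m) A}
    (hF : F.IsHomogeneous e) (hev : eval g F ∈ 𝔞) : F ∈ Jb g ⊔ Ideal.map C 𝔞 := by
  set φ := Ideal.Quotient.mk 𝔞 with hφ
  have h0 : eval (fun j => φ (g j)) (MvPolynomial.map φ F) = 0 := by
    rw [eval_map]
    have h1 := eval₂_comp_left φ (RingHom.id A) g F
    rw [RingHom.comp_id] at h1
    have h2 : φ (eval g F) = 0 := Ideal.Quotient.eq_zero_iff_mem.mpr hev
    rw [← h2]
    exact h1.symm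
  have h1 := hg.linearType e (MvPolynomial.map φ F) (hF.map φ) h0
  rw [map_Jb φ g] at h1
  have h2 : F ∈ Ideal.comap (MvPolynomial.map φ) ((Jb g).map (MvPolynomial.map φ)) := h1
  rw [Ideal.comap_map_of_surjective _
    (MvPolynomial.map_surjective φ Ideal.Quotient.mk_surjective)] at h2
  have h3 : Ideal.comap (MvPolynomial.map φ : MvPolynomial (Fin m) A →+* _) ⊥ =
      Ideal.map C 𝔞 := by
    rw [← RingHom.ker_eq_comap_bot, MvPolynomial.ker_map, hφ, Ideal.mk_ker]
  rwa [h3] at h2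

end Groth.Agent.H2.H1Reg
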