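import Groth.Agent.Lib.Helper2.H1Reg3

/-!
# Quasi-regular followed by `H₁`-regular: the inductive step (helper2)
-/

namespace Groth.Agent.H2.H1Reg

open MvPolynomial Groth.Agent.H2.QuasiReg

variable {A : Type*} [CommRing A]

/-- Relative linear type with an error term. -/
theorem H1.relLinearType' {m : ℕ} {g : Fin m → A} (J : Ideal A)
    (hg : H1 (fun j => Ideal.Quotient.mk J (g j))) {e : ℕ} {F : MvPolynomial (Fin m) A}
    (hF : F.IsHomogeneous e) {t : A} (ht : t ∈ Ideal.span (Set.range g) ^ (e + 1))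
    (hev : eval g F + t ∈ J) :
    F ∈ Ideal.map C (J ⊔ Ideal.span (Set.range g)) ∧
      eval g F + t ∈ Ideal.span (Set.range g) ^ e * J := by
  obtain ⟨T, hT, rfl⟩ := (Ideal.mem_span_pow_iff_exists_isHomogeneous g t).mp ht
  obtain ⟨Q, hQ, rfl⟩ := exists_decomp hT
  set F' : MvPolynomial (Fin m) A := F + ∑ j, Q j * C (g j) with hF'
  have hsum : (∑ j, Q j * C (g j)).IsHomogeneous e := IsHomogeneous.sum _ _ _ (fun j _ => by
    have := (hQ j).mul (isHomogeneous_C (Fin m) (g j))
    simpa using this)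
  have hF'hom : F'.IsHomogeneous e := hF.add hsum
  have hF'ev : eval g F' = eval g F + eval g (∑ j, Q j * X j) := by
    rw [hF', map_add, map_sum, map_sum]
    congr 1
    refine Finset.sum_congr rfl (fun j _ => ?_)
    rw [map_mul, map_mul, eval_C, eval_X]
  have hmem := hg.relLinearType J hF'hom (by rw [hF'ev]; exact hev)
  refine ⟨?_, ?_⟩
  · have h1 : F' ∈ Ideal.map C (J ⊔ Ideal.span (Set.range g)) := by
      have hle : Jb g ⊔ Ideal.map C J ≤ Ideal.map C (J ⊔ Ideal.span (Set.range g)) := by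
        refine sup_le ((Jb_le_map_C g).trans (Ideal.map_mono le_sup_right))
          (Ideal.map_mono le_sup_left)
      exact hle hmem
    have h2 : ∑ j, Q j * C (g j) ∈ Ideal.map C (J ⊔ Ideal.span (Set.range g)) :=
      Ideal.sum_mem _ (fun j _ => Ideal.mul_mem_left _ _
        (Ideal.mem_map_of_mem _ (Ideal.mem_sup_right (Ideal.subset_span (Set.mem_range_self j)))))
    have : F = F' - ∑ j, Q j * C (g j) := by rw [hF']; ring
    rw [this]
    exact sub_mem h1 h2
  · rw [← hF'ev]
    exact eval_mem_of_mem_sup g J hF'hom hmem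

/-- The step: degree-`k` forms in `X` with coefficients degree-`e` forms in `Y`. -/
theorem step {n m : ℕ} {f : Fin n → A} {g : Fin m → A} (hf : QReg f)
    (hg : H1 (fun j => Ideal.Quotient.mk (Ideal.span (Set.range f)) (g j))) {k e : ℕ}
    {PP : MvPolynomial (Fin n) (MvPolynomial (Fin m) A)} (hPP : PP.IsHomogeneous k)
    (hco : ∀ α, (coeff α PP).IsHomogeneous e) {t : A}
    (ht : t ∈ Ideal.span (Set.range f) ^ k * Ideal.span (Set.range g) ^ (e + 1))
    (hev : eval₂ (eval g) f PP + t ∈ Ideal.span (Set.range f) ^ (k + 1)) :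
    (∀ α, coeff α PP ∈ Ideal.map C (Ideal.span (Set.range f) ⊔ Ideal.span (Set.range g))) ∧
      eval₂ (eval g) f PP + t ∈
        Ideal.span (Set.range f) ^ (k + 1) * Ideal.span (Set.range g) ^ e := by
  set J := Ideal.span (Set.range f) with hJ
  set G := Ideal.span (Set.range g) with hG
  obtain ⟨T, hT, hTco, rfl⟩ := (mem_pow_mul_iff f k _ t).mp ht
  set H : MvPolynomial (Fin n) A := MvPolynomial.map (eval g) PP + T with hH
  have hHhom : H.IsHomogeneous k := (hPP.map _).add hT
  have hHev : eval f H = eval₂ (eval g) f PP + eval f T := by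
    rw [hH, map_add, eval_map]
  have hcoJ : ∀ α, coeff α H ∈ J := by
    have := hf k H hHhom (by rw [hHev]; exact hev)
    exact fun α => mem_map_C_iff.mp this α
  have hcoeff : ∀ α, coeff α H = eval g (coeff α PP) + coeff α T := by
    intro α
    rw [hH, coeff_add, coeff_map]
  have hkey : ∀ α, coeff α PP ∈ Ideal.map C (J ⊔ G) ∧ coeff α H ∈ G ^ e * J := by
    intro α
    rw [hcoeff]
    exact hg.relLinearType' J (hco α) (hTco α) (by rw [← hcoeff]; exact hcoJ α)
  refine ⟨fun α => (hkey α).1, ?_⟩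
  rw [← hHev]
  have : eval f H ∈ J ^ k * (G ^ e * J) :=
    (mem_pow_mul_iff f k _ _).mpr ⟨H, hHhom, fun α => (hkey α).2, rfl⟩
  have hid : J ^ k * (G ^ e * J) = J ^ (k + 1) * G ^ e := by
    rw [pow_succ]; ring
  rwa [hid] at this

end Groth.Agent.H2.H1Reg
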