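import Groth.Agent.Lib.Helper2.H1Reg4

/-!
# Quasi-regular followed by `H₁`-regular: core induction on the `X`-degree (helper2)
-/

namespace Groth.Agent.H2.H1Reg

open MvPolynomial Groth.Agent.H2.QuasiReg

variable {A : Type*} [CommRing A]

/-- Bihomogeneity of total degree `d` for a polynomial in `X` with coefficients polynomials in
`Y`. -/
def BiHom {n m : ℕ} (d : ℕ) (PP : MvPolynomial (Fin n) (MvPolynomial (Fin m) A)) : Prop :=
  ∀ α β, coeff β (coeff α PP) ≠ 0 → Finsupp.degree α + Finsupp.degree β = d

theorem BiHom.coeff_eq_zero {n m d : ℕ} {PP : MvPolynomial (Fin n) (MvPolynomial (Fin m) A)}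
    (h : BiHom d PP) {α : Fin n →₀ ℕ} (hα : d < Finsupp.degree α) : coeff α PP = 0 := by
  ext β
  by_contra hne
  have := h α β hne
  omega

theorem BiHom.coeff_component {n m d : ℕ} {PP : MvPolynomial (Fin n) (MvPolynomial (Fin m) A)}
    (h : BiHom d PP) (j : ℕ) (α : Fin n →₀ ℕ) :
    (coeff α (homogeneousComponent j PP)).IsHomogeneous (d - j) := by
  rw [coeff_homogeneousComponent]
  split_ifs with hα
  · intro β hβ
    have := h α β hβ
    have hw : (Finsupp.weight 1) β = Finsupp.degree β := by
      rw [Finsupp.degree_eq_weight_one]; rfl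
    rw [hw]
    omega
  · exact isHomogeneous_zero _ _ _

theorem BiHom.sum_components {n m d : ℕ} {PP : MvPolynomial (Fin n) (MvPolynomial (Fin m) A)}
    (h : BiHom d PP) : ∑ j ∈ Finset.range (d + 1), homogeneousComponent j PP = PP := by
  ext1 α
  rw [coeff_sum]
  simp only [coeff_homogeneousComponent]
  rw [Finset.sum_ite_eq (Finset.range (d + 1)) (Finsupp.degree α)]
  split_ifs with hα
  · rfl
  · rw [Finset.mem_range] at hα
    exact (h.coeff_eq_zero (by omega)).symm

theorem eval₂_mem_pow {n m : ℕ} (f : Fin n → A) (g : Fin m → A) {j : ℕ}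
    {Q : MvPolynomial (Fin n) (MvPolynomial (Fin m) A)} (hQ : Q.IsHomogeneous j) :
    eval₂ (eval g) f Q ∈ Ideal.span (Set.range f) ^ j := by
  rw [← eval_map]
  exact eval_mem_pow_of_isHomogeneous f (hQ.map _)

/-- **Core.** -/
theorem core {n m : ℕ} {f : Fin n → A} {g : Fin m → A} (hf : QReg f)
    (hg : H1 (fun j => Ideal.Quotient.mk (Ideal.span (Set.range f)) (g j))) {d : ℕ}
    {PP : MvPolynomial (Fin n) (MvPolynomial (Fin m) A)} (hPP : BiHom d PP)
    (hev : eval₂ (eval g) f PP = 0) :
    ∀ α, coeff α PP ∈ Ideal.map C (Ideal.span (Set.range f) ⊔ Ideal.span (Set.range g)) := by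
  set J := Ideal.span (Set.range f) with hJ
  set G := Ideal.span (Set.range g) with hG
  set E : ℕ → A := fun k => ∑ j ∈ Finset.range k, eval₂ (eval g) f (homogeneousComponent j PP)
    with hE
  have hEtop : E (d + 1) = 0 := by
    rw [hE]
    simp only
    rw [← hev]
    conv_rhs => rw [← hPP.sum_components]
    rw [← coe_eval₂Hom, map_sum]
  have claim : ∀ k, k ≤ d + 1 → E k ∈ J ^ k * G ^ (d + 1 - k) ∧
      ∀ j, j < k → ∀ α, coeff α (homogeneousComponent j PP) ∈ Ideal.map C (J ⊔ G) := by
    intro k
    induction k with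
    | zero =>
      intro _
      refine ⟨?_, fun j hj => absurd hj (Nat.not_lt_zero j)⟩
      simp [hE]
    | succ k ih =>
      intro hk
      obtain ⟨ih1, ih2⟩ := ih (by omega)
      have hEs : E (k + 1) = eval₂ (eval g) f (homogeneousComponent k PP) + E k := by
        simp only [hE]
        rw [Finset.sum_range_succ, add_comm]
      have ht : E k ∈ J ^ k * G ^ (d - k + 1) := by
        have : d + 1 - k = d - k + 1 := by omega
        rwa [this] at ih1
      have hmem : E (k + 1) ∈ J ^ (k + 1) := by
        have hsplit := Finset.sum_range_add_sum_Ico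
          (fun j => eval₂ (eval g) f (homogeneousComponent j PP)) hk
        have h0 : E (k + 1) = -∑ j ∈ Finset.Ico (k + 1) (d + 1),
            eval₂ (eval g) f (homogeneousComponent j PP) := by
          rw [eq_neg_iff_add_eq_zero]
          exact hsplit.trans hEtop
        rw [h0]
        refine neg_mem (Ideal.sum_mem _ (fun j hj => ?_))
        rw [Finset.mem_Ico] at hj
        exact Ideal.pow_le_pow_right hj.1
          (eval₂_mem_pow f g (homogeneousComponent_isHomogeneous j PP))
      have hstep := step hf hg (homogeneousComponent_isHomogeneous k PP)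
        (hPP.coeff_component k) ht (by rw [← hEs]; exact hmem)
      refine ⟨?_, ?_⟩
      · have : d + 1 - (k + 1) = d - k := by omega
        rw [this, hEs]
        exact hstep.2
      · intro j hj α
        rcases Nat.lt_succ_iff_lt_or_eq.mp hj with hlt | rfl
        · exact ih2 j hlt α
        · exact hstep.1 α
  intro α
  by_cases hα : Finsupp.degree α ≤ d
  · have := (claim (d + 1) le_rfl).2 (Finsupp.degree α) (by omega) α
    rwa [coeff_homogeneousComponent, if_pos rfl] at this
  · rw [hPP.coeff_eq_zero (by omega)]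
    exact zero_mem _

end Groth.Agent.H2.H1Reg
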