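import Groth.Agent.Lib.Helper2.H1Reg5

/-!
# Quasi-regular followed by `H₁`-regular is quasi-regular (helper2)
-/

namespace Groth.Agent.H2.H1Reg

open MvPolynomial Groth.Agent.H2.QuasiReg

variable {A : Type*} [CommRing A]

/-- Splitting the variables. -/
noncomputable def Phi (n m : ℕ) :
    MvPolynomial (Fin (n + m)) A →ₐ[A] MvPolynomial (Fin n) (MvPolynomial (Fin m) A) :=
  aeval (Fin.append (fun i => (X i : MvPolynomial (Fin n) (MvPolynomial (Fin m) A)))
    (fun j => C (X j)))

/-- Joining the variables. -/
noncomputable def Psi (n m : ℕ) :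
    MvPolynomial (Fin n) (MvPolynomial (Fin m) A) →+* MvPolynomial (Fin (n + m)) A :=
  eval₂Hom (rename (Fin.natAdd n) : MvPolynomial (Fin m) A →ₐ[A] MvPolynomial (Fin (n + m)) A)
    (fun i => X (Fin.castAdd m i))

theorem Phi_C (n m : ℕ) (r : A) : Phi n m (C r) = C (C r) := by
  simp [Phi, algebraMap_eq]

theorem Phi_X_castAdd (n m : ℕ) (i : Fin n) : Phi (A := A) n m (X (Fin.castAdd m i)) = X i := by
  simp [Phi]

theorem Phi_X_natAdd (n m : ℕ) (j : Fin m) : Phi (A := A) n m (X (Fin.natAdd n j)) = C (X j) := by
  simp [Phi]

theorem Psi_Phi (n m : ℕ) (P : MvPolynomial (Fin (n + m)) A) : Psi n m (Phi n m P) = P := by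
  have : (Psi n m).comp (Phi (A := A) n m).toRingHom = RingHom.id _ := by
    apply MvPolynomial.ringHom_ext
    · intro r
      simp [Psi, Phi_C]
    · intro k
      refine Fin.addCases (fun i => ?_) (fun j => ?_) k
      · simp [Psi, Phi_X_castAdd]
      · simp [Psi, Phi_X_natAdd]
  exact DFunLike.congr_fun this P

theorem eval_Phi {n m : ℕ} (f : Fin n → A) (g : Fin m → A) (P : MvPolynomial (Fin (n + m)) A) :
    eval₂ (eval g) f (Phi n m P) = eval (Fin.append f g) P := by
  have : (eval₂Hom (eval g) f).comp (Phi (A := A) n m).toRingHom = eval (Fin.append f g) := by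
    apply MvPolynomial.ringHom_ext
    · intro r
      simp [Phi_C]
    · intro k
      refine Fin.addCases (fun i => ?_) (fun j => ?_) k
      · simp [Phi_X_castAdd]
      · simp [Phi_X_natAdd]
  exact DFunLike.congr_fun this P

theorem Psi_mem {n m : ℕ} (K : Ideal A) {PP : MvPolynomial (Fin n) (MvPolynomial (Fin m) A)}
    (h : ∀ α, coeff α PP ∈ Ideal.map C K) : Psi n m PP ∈ Ideal.map C K := by
  have h1 : PP ∈ Ideal.map C (Ideal.map (C : A →+* MvPolynomial (Fin m) A) K) :=
    mem_map_C_iff.mpr h
  have h2 := Ideal.mem_map_of_mem (Psi n m) h1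
  rw [Ideal.map_map, Ideal.map_map] at h2
  have : ((Psi n m).comp C).comp (C : A →+* MvPolynomial (Fin m) A) =
      (C : A →+* MvPolynomial (Fin (n + m)) A) := by
    ext r
    simp [Psi]
  rwa [this] at h2

theorem degree_sub_single {σ : Type*} [DecidableEq σ] (α : σ →₀ ℕ) (i : σ)
    (hi : i ∈ α.support) : Finsupp.degree (α - Finsupp.single i 1) + 1 = Finsupp.degree α := by
  have h1 : α - Finsupp.single i 1 + Finsupp.single i 1 = α := by
    apply tsub_add_cancel_of_le
    rw [Finsupp.single_le_iff]
    exact Nat.one_le_iff_ne_zero.mpr (Finsupp.mem_support_iff.mp hi)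
  conv_rhs => rw [← h1]
  rw [map_add, Finsupp.degree_single]

/-- `Phi` of a homogeneous polynomial is bihomogeneous. -/
theorem biHom_Phi {n m d : ℕ} {P : MvPolynomial (Fin (n + m)) A} (hP : P.IsHomogeneous d) :
    BiHom d (Phi n m P) := by
  classical
  -- the submodule of polynomials with bihomogeneous image
  let W : ℕ → Submodule A (MvPolynomial (Fin (n + m)) A) := fun d =>
    { carrier := {P | BiHom d (Phi n m P)}
      add_mem' := by
        intro P Q hP hQ α β hne
        rw [map_add, coeff_add, coeff_add] at hne
        by_cases h1 : coeff β (coeff α (Phi n m P)) = 0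
        · rw [h1, zero_add] at hne
          exact hQ α β hne
        · exact hP α β h1
      zero_mem' := by
        intro α β hne
        simp at hne
      smul_mem' := by
        intro r P hP α β hne
        apply hP α β
        intro h0
        apply hne
        have hsm : r • Phi n m P = C (C r) * Phi n m P := by
          rw [Algebra.smul_def, MvPolynomial.algebraMap_apply, algebraMap_eq]
        rw [map_smul, hsm, coeff_C_mul, coeff_C_mul, h0, mul_zero] }
  have hle : ∀ d, homogeneousSubmodule (Fin (n + m)) A d ≤ W d := by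
    intro d
    induction d with
    | zero =>
      intro P hP
      have hC : P = C (coeff 0 P) :=
        (totalDegree_eq_zero_iff_eq_C (p := P)).mp
          (Nat.le_zero.mp (((mem_homogeneousSubmodule _ _).mp hP).totalDegree_le))
      intro α β hne
      rw [hC, Phi_C, coeff_C] at hne
      split_ifs at hne with h1
      · rw [coeff_C] at hne
        split_ifs at hne with h2
        · rw [← h1, ← h2]; simp
        · exact absurd rfl hne
      · simp at hne
    | succ d ih =>
      rw [← homogeneousSubmodule_one_pow (σ := Fin (n + m)) (R := A) (n := d + 1), pow_succ,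
        homogeneousSubmodule_one_pow]
      rw [Submodule.mul_le]
      intro P hP ℓ hℓ
      have hPW := ih hP
      rw [homogeneousSubmodule_one_eq_span_X] at hℓ
      induction hℓ using Submodule.span_induction with
      | mem x hx =>
        obtain ⟨k, rfl⟩ := hx
        refine Fin.addCases (fun i => ?_) (fun j => ?_) k
        · intro α β hne
          rw [map_mul, Phi_X_castAdd, coeff_mul_X'] at hne
          split_ifs at hne with hi
          · have := hPW _ β hne
            have := degree_sub_single α i hi
            omega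
          · simp at hne
        · intro α β hne
          rw [map_mul, Phi_X_natAdd, mul_comm, coeff_C_mul, coeff_X_mul'] at hne
          split_ifs at hne with hj
          · have := hPW α _ hne
            have := degree_sub_single β j hj
            omega
          · exact absurd rfl hne
      | zero => rw [mul_zero]; exact zero_mem _
      | add x y _ _ hx hy => rw [mul_add]; exact add_mem hx hy
      | smul r x _ hx => rw [mul_smul_comm]; exact Submodule.smul_mem _ r hx
  exact hle d ((mem_homogeneousSubmodule _ _).mpr hP)

/-- Reduction of quasi-regularity to polynomials vanishing at the sequence. -/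
theorem qReg_of_forall_eval_eq_zero {c : ℕ} (f : Fin c → A)
    (hf : ∀ (d : ℕ) (P : MvPolynomial (Fin c) A), P.IsHomogeneous d → eval f P = 0 →
      P ∈ Ideal.map C (Ideal.span (Set.range f))) :
    QReg f := by
  classical
  intro n P hP hev
  obtain ⟨Q, hQ, hQev⟩ := (Ideal.mem_span_pow_iff_exists_isHomogeneous f _).mp hev
  obtain ⟨R, hR, rfl⟩ := exists_decomp hQ
  set Q' : MvPolynomial (Fin c) A := ∑ i, R i * C (f i) with hQ'
  have hQ'hom : Q'.IsHomogeneous n := IsHomogeneous.sum _ _ _ (fun i _ => by
    have := (hR i).mul (isHomogeneous_C (Fin c) (f i))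
    simpa using this)
  have hQ'J : Q' ∈ Ideal.map C (Ideal.span (Set.range f)) :=
    Ideal.sum_mem _ (fun i _ => Ideal.mul_mem_left _ _
      (Ideal.mem_map_of_mem _ (Ideal.subset_span (Set.mem_range_self i))))
  have hQ'ev : eval f Q' = eval f P := by
    rw [← hQev, hQ', map_sum, map_sum]
    refine Finset.sum_congr rfl (fun i _ => ?_)
    rw [map_mul, map_mul, eval_C, eval_X]
  have h0 : eval f (P - Q') = 0 := by
    rw [map_sub]
    exact sub_eq_zero.mpr hQ'ev.symm
  have h1 := hf n _ (hP.sub hQ'hom) h0
  have : P = (P - Q') + Q' := by ring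
  rw [this]
  exact add_mem h1 hQ'J

theorem span_range_append {n m : ℕ} (f : Fin n → A) (g : Fin m → A) :
    Ideal.span (Set.range (Fin.append f g)) =
      Ideal.span (Set.range f) ⊔ Ideal.span (Set.range g) := by
  rw [← Ideal.span_union]
  congr 1
  ext x
  simp only [Set.mem_range, Set.mem_union]
  constructor
  · rintro ⟨k, rfl⟩
    refine Fin.addCases (fun i => ?_) (fun j => ?_) k
    · left; exact ⟨i, by simp⟩
    · right; exact ⟨j, by simp⟩
  · rintro (⟨i, rfl⟩ | ⟨j, rfl⟩)
    · exact ⟨Fin.castAdd m i, by simp⟩
    · exact ⟨Fin.natAdd n j, by simp⟩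

/-- **Appending to a quasi-regular sequence a sequence which is `H₁`-regular modulo it gives a
quasi-regular sequence.** -/
theorem QReg.append {n m : ℕ} {f : Fin n → A} {g : Fin m → A} (hf : QReg f)
    (hg : H1 (fun j => Ideal.Quotient.mk (Ideal.span (Set.range f)) (g j))) :
    QReg (Fin.append f g) := by
  apply qReg_of_forall_eval_eq_zero
  intro d P hP hev
  rw [span_range_append]
  have h1 := core hf hg (biHom_Phi hP) (by rw [eval_Phi]; exact hev)
  have h2 := Psi_mem _ h1
  rwa [Psi_Phi] at h2

end Groth.Agent.H2.H1Reg
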