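import Mathlib
import Groth.Agent.Lib.Helper2.QReg
import Groth.Agent.Lib.Helper1.HS9

/-! Lengths of `R/J^(s+1)` for an ideal `J` generated by a quasi-regular sequence. -/

universe u
set_option linter.style.haveILetI false

open MvPolynomial

namespace Groth.Agent.H2.HSReg

section QR

variable {R : Type u} [CommRing R] {c : ℕ} (f : Fin c → R)

/-- exponents of total degree `n` -/
abbrev Idx (c n : ℕ) : Type := ↥((Finset.univ : Finset (Fin c)).finsuppAntidiag n)

lemma degree_idx {n : ℕ} (d : Idx c n) : d.1.degree = n := by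
  have h := (Finset.mem_finsuppAntidiag.mp d.2).1
  rw [Finsupp.degree_eq_sum]
  exact h

lemma mem_idx_of_degree {n : ℕ} (d : Fin c →₀ ℕ) (h : d.degree = n) :
    d ∈ (Finset.univ : Finset (Fin c)).finsuppAntidiag n := by
  rw [Finset.mem_finsuppAntidiag]
  refine ⟨?_, Finset.subset_univ _⟩
  rw [← Finsupp.degree_eq_sum]
  exact h

lemma card_idx (n : ℕ) : Fintype.card (Idx c n) = c.multichoose n := by
  rw [Fintype.card_coe, Finset.card_finsuppAntidiag_nat_eq_multichoose, Finset.card_univ,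
    Fintype.card_fin]

/-- value of a monomial -/
def mon (d : Fin c →₀ ℕ) : R := ∏ i ∈ d.support, f i ^ d i

lemma mon_mem {n : ℕ} (d : Idx c n) : mon f d.1 ∈ Ideal.span (Set.range f) ^ n := by
  have h := Groth.Agent.H2.QReg.prod_pow_mem_pow f d.1
  rw [degree_idx d] at h
  exact h

/-- the combination map -/
noncomputable def Φ₀ (n : ℕ) : (Idx c n → R) →ₗ[R] R :=
  Fintype.linearCombination R (fun d : Idx c n => mon f d.1)

lemma Φ₀_apply (n : ℕ) (a : Idx c n → R) : Φ₀ f n a = ∑ d, a d * mon f d.1 := by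
  rw [Φ₀, Fintype.linearCombination_apply]
  rfl

/-- the polynomial with coefficients `a` -/
noncomputable def poly (n : ℕ) (a : Idx c n → R) : MvPolynomial (Fin c) R :=
  ∑ d : Idx c n, monomial d.1 (a d)

lemma eval_poly (n : ℕ) (a : Idx c n → R) : eval f (poly n a) = Φ₀ f n a := by
  rw [poly, map_sum, Φ₀_apply]
  refine Finset.sum_congr rfl fun d _ => ?_
  rw [eval_monomial]
  rfl

lemma poly_isHomogeneous (n : ℕ) (a : Idx c n → R) : (poly n a).IsHomogeneous n := by
  rw [poly]
  exact IsHomogeneous.sum _ _ _ fun d _ => isHomogeneous_monomial _ (degree_idx d)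

lemma coeff_poly (n : ℕ) (a : Idx c n → R) (d : Idx c n) : (poly n a).coeff d.1 = a d := by
  classical
  rw [poly, coeff_sum, Finset.sum_eq_single d]
  · rw [coeff_monomial, if_pos rfl]
  · intro d' _ hne
    rw [coeff_monomial, if_neg]
    intro h
    exact hne (Subtype.ext h)
  · intro h
    exact absurd (Finset.mem_univ _) h

lemma coeff_poly_of_notMem (n : ℕ) (a : Idx c n → R) (d : Fin c →₀ ℕ)
    (hd : d ∉ (Finset.univ : Finset (Fin c)).finsuppAntidiag n) : (poly n a).coeff d = 0 := by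
  classical
  rw [poly, coeff_sum]
  refine Finset.sum_eq_zero fun d' _ => ?_
  rw [coeff_monomial, if_neg]
  intro h
  exact hd (h ▸ d'.2)

lemma exists_poly_eq {n : ℕ} (p : MvPolynomial (Fin c) R) (hp : p.IsHomogeneous n) :
    ∃ a : Idx c n → R, poly n a = p := by
  refine ⟨fun d => p.coeff d.1, ?_⟩
  ext d
  by_cases hd : d ∈ (Finset.univ : Finset (Fin c)).finsuppAntidiag n
  · exact coeff_poly n _ ⟨d, hd⟩
  · rw [coeff_poly_of_notMem n _ d hd]
    symm
    apply hp.coeff_eq_zero
    intro h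
    exact hd (mem_idx_of_degree d h)

lemma range_Φ₀ (n : ℕ) :
    LinearMap.range (Φ₀ f n) = (Ideal.span (Set.range f) ^ n : Ideal R) := by
  apply le_antisymm
  · rintro _ ⟨a, rfl⟩
    rw [← eval_poly]
    exact Groth.Agent.H2.QReg.eval_mem_pow f (poly_isHomogeneous n a)
  · intro y hy
    obtain ⟨p, hp, rfl⟩ := (Ideal.mem_span_pow_iff_exists_isHomogeneous f y).mp hy
    obtain ⟨a, rfl⟩ := exists_poly_eq p hp
    exact ⟨a, (eval_poly f n a).symm⟩

lemma Φ₀_mem_pow_succ_iff (hf : CAlgX.IsQuasiRegular f) (n : ℕ) (a : Idx c n → R) :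
    Φ₀ f n a ∈ Ideal.span (Set.range f) ^ (n + 1) ↔ ∀ d, a d ∈ Ideal.span (Set.range f) := by
  constructor
  · intro h d
    rw [← eval_poly] at h
    have := hf n (poly n a) (poly_isHomogeneous n a) h d.1
    rwa [coeff_poly] at this
  · intro h
    rw [Φ₀_apply, pow_succ']
    exact Ideal.sum_mem _ fun d _ => Ideal.mul_mem_mul (h d) (mon_mem f d)

/-- **length of the graded pieces** -/
theorem length_gr (hf : CAlgX.IsQuasiRegular f) (n : ℕ) :
    Module.length R (↥(Ideal.span (Set.range f) ^ n : Ideal R) ⧸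
        (Ideal.span (Set.range f) ^ (n + 1) : Ideal R).submoduleOf
          (Ideal.span (Set.range f) ^ n : Ideal R)) =
      (c.multichoose n : ℕ∞) * Module.length R (R ⧸ Ideal.span (Set.range f)) := by
  classical
  set J : Ideal R := Ideal.span (Set.range f) with hJ
  have hle : ∀ a, Φ₀ f n a ∈ (J ^ n : Ideal R) := by
    intro a
    have : Φ₀ f n a ∈ LinearMap.range (Φ₀ f n) := ⟨a, rfl⟩
    rw [range_Φ₀] at this
    exact this
  let Φ₁ : (Idx c n → R) →ₗ[R] ↥(J ^ n : Ideal R) := LinearMap.codRestrict _ (Φ₀ f n) hle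
  have hΦ₁ : Function.Surjective Φ₁ := by
    rintro ⟨y, hy⟩
    have : y ∈ LinearMap.range (Φ₀ f n) := by rw [range_Φ₀]; exact hy
    obtain ⟨a, ha⟩ := this
    exact ⟨a, Subtype.ext ha⟩
  let g : (Idx c n → R) →ₗ[R]
      (↥(J ^ n : Ideal R) ⧸ (J ^ (n + 1) : Ideal R).submoduleOf (J ^ n : Ideal R)) :=
    (Submodule.mkQ _).comp Φ₁
  have hg : Function.Surjective g := (Submodule.mkQ_surjective _).comp hΦ₁
  have hker : LinearMap.ker g = Submodule.pi Set.univ (fun _ : Idx c n => (J : Submodule R R)) := by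
    ext a
    rw [LinearMap.mem_ker, Submodule.mem_pi]
    show Submodule.Quotient.mk (Φ₁ a) = 0 ↔ _
    rw [Submodule.Quotient.mk_eq_zero]
    show Φ₀ f n a ∈ J ^ (n + 1) ↔ _
    rw [Φ₀_mem_pow_succ_iff f hf]
    exact ⟨fun h d _ => h d, fun h d => h d (Set.mem_univ _)⟩
  have e1 := LinearMap.quotKerEquivOfSurjective g hg
  have e2 := Submodule.quotEquivOfEq _ _ hker
  have e3 := Submodule.quotientPi (fun _ : Idx c n => (J : Submodule R R))
  rw [← e1.length_eq, e2.length_eq, e3.length_eq, Module.length_pi, ENat.card_eq_coe_fintype_card,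
    card_idx]

/-- **length of `R/J^s`** -/
theorem length_quot_pow (hf : CAlgX.IsQuasiRegular f) (s : ℕ) :
    Module.length R (R ⧸ (Ideal.span (Set.range f) ^ s : Ideal R)) =
      ((∑ n ∈ Finset.range s, c.multichoose n : ℕ) : ℕ∞) *
        Module.length R (R ⧸ Ideal.span (Set.range f)) := by
  induction s with
  | zero =>
    rw [Finset.range_zero, Finset.sum_empty, Nat.cast_zero, zero_mul, Module.length_eq_zero_iff,
      pow_zero, Ideal.one_eq_top]
    exact Ideal.Quotient.subsingleton_iff.mpr rfl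
  | succ s ih =>
    have h := Groth.Agent.Lib.Helper1.HS.length_quotient_of_le (A := R) (M := R)
      (P := (Ideal.span (Set.range f) ^ (s + 1) : Ideal R))
      (Q := (Ideal.span (Set.range f) ^ s : Ideal R)) (Ideal.pow_le_pow_right (Nat.le_succ s))
    rw [h, length_gr f hf s, ih, Finset.sum_range_succ, Nat.cast_add, add_mul, add_comm]

/-- closed form -/
theorem length_quot_pow_succ (hf : CAlgX.IsQuasiRegular f) (s : ℕ) :
    Module.length R (R ⧸ (Ideal.span (Set.range f) ^ (s + 1) : Ideal R)) =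
      (((s + c).choose s : ℕ) : ℕ∞) * Module.length R (R ⧸ Ideal.span (Set.range f)) := by
  rw [length_quot_pow f hf, Nat.sum_range_multichoose, Nat.choose_symm_add]

end QR

end Groth.Agent.H2.HSReg
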