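import Mathlib
import Groth.Agent.Lib.Helper2.HSReg1
import Groth.Agent.Lib.Helper1.RegSeq
import Groth.Agent.Lib.Helper1.RegParam

/-! Regular local rings and the Hilbert–Samuel function. -/

universe u
set_option linter.style.haveILetI false

open IsLocalRing

namespace Groth.Agent.H2.HSReg

section Loc

variable (A : Type u) [CommRing A] [IsLocalRing A] [IsNoetherianRing A]

omit [IsNoetherianRing A] in
lemma length_residue : Module.length A (A ⧸ maximalIdeal A) = 1 := by
  rw [Module.length_eq_one_iff, isSimpleModule_iff_isCoatom, ← Ideal.isMaximal_def]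
  exact maximalIdeal.isMaximal A

theorem forward (h : IsRegularLocalRing A) (s : ℕ) :
    Module.length A (A ⧸ maximalIdeal A ^ (s + 1)) =
      ((s + Module.finrank (ResidueField A) (CotangentSpace A)).choose s : ℕ∞) := by
  haveI := h
  obtain ⟨e, y, he, hgen⟩ := Groth.Agent.H1.Reg.exists_extension_generators (R := A) 0
    (fun i => Fin.elim0 i) linearIndependent_empty_type
  rw [add_zero] at he
  set f : Fin e → A := fun j => (y j : A) with hf
  have hspan : Ideal.span (Set.range f) = maximalIdeal A := by
    rw [← hgen]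
    congr 1
    have : Set.range (fun i : Fin 0 => ((Fin.elim0 i : maximalIdeal A) : A)) = ∅ :=
      Set.range_eq_empty _
    rw [this, Set.empty_union]
  have hd : ringKrullDim A = ((e : ℕ) : WithBot ℕ∞) := by
    rw [← IsRegularLocalRing.spanFinrank_maximalIdeal (R := A),
      IsLocalRing.spanFinrank_maximalIdeal_eq_finrank_cotangentSpace, he]
  have hreg := Groth.Agent.H1.Reg.isRegular_ofFn e hd f hspan
  have hq := Groth.Agent.H2.QReg.isQuasiRegular_of_isWeaklyRegular e f hreg.toIsWeaklyRegular
  have h1 := length_quot_pow_succ f hq s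
  rw [hspan, length_residue, mul_one, he] at h1
  exact h1

theorem backward
    (h : ∀ s : ℕ, Module.length A (A ⧸ maximalIdeal A ^ (s + 1)) =
      ((s + Module.finrank (ResidueField A) (CotangentSpace A)).choose s : ℕ∞)) :
    IsRegularLocalRing A := by
  rw [IsRegularLocalRing.iff_finrank_cotangentSpace]
  set r := Module.finrank (ResidueField A) (CotangentSpace A) with hr
  have hHS : Groth.Agent.Lib.Helper1.HS.IsHSPoly (maximalIdeal A) A
      (Polynomial.preHilbertPoly ℚ r 1) := by
    refine ⟨1, fun n hn => ?_⟩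
    obtain ⟨s, rfl⟩ : ∃ s, n = s + 1 := ⟨n - 1, by omega⟩
    rw [← Groth.Agent.Lib.Helper1.HS.toNat_length_ring_quot_pow, h s,
      Polynomial.preHilbertPoly_eq_choose_sub_add ℚ r hn]
    simp only [ENat.toNat_natCast, Nat.add_sub_cancel]
    rw [Nat.choose_symm_add]
  have h1 := hHS.eq_hsPoly
  have h2 := Groth.Agent.Lib.Helper1.HS.natDegree_hsPoly_of_local (maximalIdeal A)
    ⟨le_rfl, 1, by rw [pow_one]⟩ A
  rw [← h1, Polynomial.natDegree_preHilbertPoly, Module.supportDim_self_eq_ringKrullDim] at h2
  exact h2

end Loc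

end Groth.Agent.H2.HSReg
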