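import Mathlib
import Groth.Agent.H4.TL6
import Groth.Agent.Lib.Helper6.LCDT

/-!
# Local cohomology with supports in a specialization-stable set versus ideal transforms (helper2)

Connecting maps `Hom(J, M) → Ext^1(A/J, M)` for an arbitrary ideal `J`, and the consequence: an
element `a` killing `H^1_T(N)` (`N` without `T`-torsion) multiplies every `φ : J → N`, `V(J) ⊆ T`,
into a homothety.
-/

set_option autoImplicit false
universe u
open CategoryTheory CategoryTheory.Limits Opposite CategoryTheory.Abelian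

namespace Groth.Agent.H2.HTBridge

open Groth.Agent.H4.TL6 Groth.Agent.H6 LocCoh

variable {A : Type u} [CommRing A]

/-- The short complex `0 → J → A → A/J → 0`. -/
noncomputable abbrev idSC (J : Ideal A) : ShortComplex (ModuleCat.{u} A) :=
  ShortComplex.mk (ModuleCat.ofHom (Submodule.subtype J))
    (ModuleCat.ofHom (Submodule.mkQ J))
    (by ext x; exact (Submodule.Quotient.mk_eq_zero _).mpr x.2)

theorem idSC_shortExact (J : Ideal A) : (idSC J).ShortExact := by
  refine ModuleCat.shortComplex_shortExact _ ?_ (Submodule.injective_subtype _)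
    (Submodule.mkQ_surjective _)
  intro r
  change Submodule.mkQ J r = 0 ↔ r ∈ Set.range (Submodule.subtype J)
  rw [Submodule.mkQ_apply, Submodule.Quotient.mk_eq_zero]
  exact ⟨fun h => ⟨⟨r, h⟩, rfl⟩, fun ⟨x, hx⟩ => hx ▸ x.2⟩

/-- The morphism of short exact sequences for `J' ≤ J`. -/
noncomputable def idSCHom {J' J : Ideal A} (h : J' ≤ J) : idSC J' ⟶ idSC J where
  τ₁ := ModuleCat.ofHom (Submodule.inclusion h)
  τ₂ := 𝟙 _
  τ₃ := projJ h
  comm₁₂ := by ext; rfl
  comm₂₃ := by ext; rfl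

variable (M : Type u) [AddCommGroup M] [Module A M]

/-- The connecting map `Hom(J, M) → Ext^1(A/J, M)`. -/
noncomputable def connJ (J : Ideal A) :
    (↥J →ₗ[A] M) →ₗ[A] Ext (QJ J) (ModuleCat.of A M) 1 where
  toFun φ := (idSC_shortExact J).extClass.comp (Ext.mk₀ (ModuleCat.ofHom φ)) (add_zero 1)
  map_add' φ ψ := by
    rw [ModuleCat.ofHom_add, Ext.mk₀_add, Ext.comp_add]
  map_smul' r φ := by
    have : ModuleCat.ofHom (r • φ) = r • ModuleCat.ofHom φ := rfl
    rw [this, Ext.mk₀_smul, Ext.comp_smul]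
    rfl

theorem connJ_apply (J : Ideal A) (φ : ↥J →ₗ[A] M) :
    connJ M J φ = (idSC_shortExact J).extClass.comp (Ext.mk₀ (ModuleCat.ofHom φ))
      (add_zero 1) := rfl

theorem connJ_restrict {J' J : Ideal A} (h : J' ≤ J) (φ : ↥J →ₗ[A] M) :
    connJ M J' (φ ∘ₗ Submodule.inclusion h) =
      (Ext.mk₀ (projJ h)).comp (connJ M J φ) (zero_add 1) := by
  rw [connJ_apply, connJ_apply]
  have h1 := ShortComplex.ShortExact.extClass_naturality (idSC_shortExact J')
    (idSC_shortExact J) (idSCHom h)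
  have h2 : ModuleCat.ofHom (φ ∘ₗ Submodule.inclusion h) =
      (idSCHom h).τ₁ ≫ ModuleCat.ofHom φ := rfl
  rw [h2, ← Ext.mk₀_comp_mk₀, ← Ext.comp_assoc_of_second_deg_zero, h1,
    Ext.comp_assoc_of_third_deg_zero]
  rfl

theorem exists_of_connJ_eq_zero (J : Ideal A) (φ : ↥J →ₗ[A] M) (h : connJ M J φ = 0) :
    ∃ x : M, ∀ c : ↥J, φ c = (c : A) • x := by
  obtain ⟨x₂, hx₂⟩ := Ext.contravariant_sequence_exact₁ (idSC_shortExact J) (ModuleCat.of A M)
    (Ext.mk₀ (ModuleCat.ofHom φ)) (n₁ := 1) rfl h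
  obtain ⟨ψ, rfl⟩ := LC.exists_mk₀ x₂
  rw [Ext.mk₀_comp_mk₀] at hx₂
  have h3 := (Ext.mk₀_bijective _ _).1 hx₂
  refine ⟨ψ.hom (1 : A), fun c => ?_⟩
  have h4 := congrArg (fun g => g.hom c) h3
  rw [← map_smul]
  refine h4.symm.trans ?_
  change ψ.hom (c : A) = _
  rw [smul_eq_mul, mul_one]

/-- no torsion supported in `T` -/
def TPure (T : Set (PrimeSpectrum A)) (N : Type u) [AddCommGroup N] [Module A N] : Prop :=
  ∀ J : Ideal A, PrimeSpectrum.zeroLocus (J : Set A) ⊆ T →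
    ∀ x : N, (∀ b ∈ J, b • x = 0) → x = 0

theorem zeroLocus_pow_subset {T : Set (PrimeSpectrum A)} {J : Ideal A}
    (hJ : PrimeSpectrum.zeroLocus (J : Set A) ⊆ T) (n : ℕ) :
    PrimeSpectrum.zeroLocus ((J ^ n : Ideal A) : Set A) ⊆ T := by
  intro p hp
  apply hJ
  rw [PrimeSpectrum.mem_zeroLocus, SetLike.coe_subset_coe] at hp ⊢
  exact Ideal.IsPrime.le_of_pow_le hp

theorem zeroLocus_mul_subset {T : Set (PrimeSpectrum A)} {J J' : Ideal A}
    (hJ : PrimeSpectrum.zeroLocus (J : Set A) ⊆ T)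
    (hJ' : PrimeSpectrum.zeroLocus (J' : Set A) ⊆ T) :
    PrimeSpectrum.zeroLocus ((J * J' : Ideal A) : Set A) ⊆ T := by
  intro p hp
  rw [PrimeSpectrum.mem_zeroLocus, SetLike.coe_subset_coe] at hp
  rcases (Ideal.IsPrime.mul_le p.2).mp hp with h | h
  · exact hJ (by rw [PrimeSpectrum.mem_zeroLocus, SetLike.coe_subset_coe]; exact h)
  · exact hJ' (by rw [PrimeSpectrum.mem_zeroLocus, SetLike.coe_subset_coe]; exact h)

theorem TPure.torsionSub_eq_bot {T : Set (PrimeSpectrum A)} {N : Type u} [AddCommGroup N]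
    [Module A N] (hp : TPure T N) {J : Ideal A}
    (hJ : PrimeSpectrum.zeroLocus (J : Set A) ⊆ T) : DRing.torsionSub J N = ⊥ := by
  rw [eq_bot_iff]
  rintro x ⟨k, hk⟩
  exact hp (J ^ k) (zeroLocus_pow_subset hJ k) x hk

/-- the key bridge -/
theorem exists_smul_eq (T : Set (PrimeSpectrum A)) (N : Type u) [AddCommGroup N] [Module A N]
    (hp : TPure T N) (a : A) (ha : ∀ x : Dual2.HT T 1 N, a • x = 0)
    (J : Ideal A) (hJ : PrimeSpectrum.zeroLocus (J : Set A) ⊆ T) (φ : ↥J →ₗ[A] N) :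
    ∃ x : N, ∀ c : ↥J, a • φ c = (c : A) • x := by
  have h0 : lcιT T 1 (ModuleCat.of A N) J hJ (connJ N J (a • φ)) = 0 := by
    rw [map_smul, map_smul]
    exact ha _
  obtain ⟨J', hJ', hle, h1⟩ := (lcιT_eq_zero_iff hJ _).mp h0
  rw [← connJ_restrict] at h1
  obtain ⟨x, hx⟩ := exists_of_connJ_eq_zero N J' _ h1
  refine ⟨x, fun c => ?_⟩
  have key : a • φ c - (c : A) • x = 0 := by
    apply hp J' hJ'
    intro b hb
    have hbc : b * (c : A) ∈ J' := Ideal.mul_mem_right _ _ hb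
    have h2 := hx ⟨b * (c : A), hbc⟩
    have h3 : Submodule.inclusion hle ⟨b * (c : A), hbc⟩ = b • c := Subtype.ext rfl
    rw [LinearMap.comp_apply, h3, map_smul, LinearMap.smul_apply] at h2
    rw [smul_sub, h2, mul_smul, sub_self]
  exact sub_eq_zero.mp key

end Groth.Agent.H2.HTBridge
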