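import Mathlib
import Groth.Agent.Lib.Helper2.HTBridgeA
import Groth.Agent.Lib.Helper6.ZClosedDepth

/-!
# The ideal transform along an ideal killing `H^1_T` is finite and `T`-closed (helper2)
-/

set_option autoImplicit false
set_option linter.style.haveILetI false
universe u
open CategoryTheory CategoryTheory.Limits Opposite

namespace Groth.Agent.H2.HTBridge

open Groth.Agent.H6 LocCoh

variable {A : Type u} [CommRing A] [IsNoetherianRing A] (T : Set (PrimeSpectrum A))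
  (N : Type u) [AddCommGroup N] [Module A N]

/-- `J₀` multiplies every ideal transform `D_J(N)`, `V(J) ⊆ T`, into the image of `N`. -/
theorem smul_mem_range (hp : TPure T N) (J₀ : Ideal A)
    (hk : ∀ a ∈ J₀, ∀ x : Dual2.HT T 1 N, a • x = 0)
    (J : Ideal A) (hJ : PrimeSpectrum.zeroLocus (J : Set A) ⊆ T) (a : A) (ha : a ∈ J₀)
    (y : DT J N) : a • y ∈ LinearMap.range (toDT J N) := by
  obtain ⟨n, φ, rfl⟩ := DT.ι_surj y
  obtain ⟨x, hx⟩ := exists_smul_eq T N hp a (hk a ha) (J ^ n) (zeroLocus_pow_subset hJ n) φ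
  refine ⟨x, ?_⟩
  rw [DT.toDT_eq' n, ← map_smul]
  congr 1
  ext c
  rw [DT.smulMap_apply, LinearMap.smul_apply]
  exact (hx c).symm

theorem toDT_injective (hp : TPure T N) (J : Ideal A)
    (hJ : PrimeSpectrum.zeroLocus (J : Set A) ⊆ T) : Function.Injective (toDT J N) := by
  rw [← LinearMap.ker_eq_bot, DT.ker_toDT, hp.torsionSub_eq_bot hJ]

variable (J₀ : Ideal A) (hJ₀ : PrimeSpectrum.zeroLocus (J₀ : Set A) ⊆ T)
  (hk : ∀ a ∈ J₀, ∀ x : Dual2.HT T 1 N, a • x = 0)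

include hJ₀ hk in
theorem eq_zero_of_smul_eq_zero (hp : TPure T N) (y : DT J₀ N) (h : ∀ a ∈ J₀, a • y = 0) :
    y = 0 := by
  have h3 : y ∈ DRing.torsionSub J₀ (DT J₀ N) :=
    ⟨1, fun a ha => h a (by rwa [pow_one] at ha)⟩
  rw [DT.torsionSub_DT] at h3
  exact (Submodule.mem_bot A).mp h3

include hJ₀ hk in
theorem finite_DT [Module.Finite A N] (hp : TPure T N) : Module.Finite A (DT J₀ N) := by
  classical
  obtain ⟨S, hS⟩ := (IsNoetherian.noetherian J₀ : J₀.FG)
  have hmem : ∀ s : A, s ∈ J₀ → ∀ y : DT J₀ N, s • y ∈ LinearMap.range (toDT J₀ N) :=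
    fun s hs y => smul_mem_range T N hp J₀ hk J₀ hJ₀ s hs y
  have hSJ : ∀ s ∈ S, s ∈ J₀ := fun s hs => hS ▸ Submodule.subset_span hs
  let Ψ : DT J₀ N →ₗ[A] ((s : S) → LinearMap.range (toDT J₀ N)) :=
    LinearMap.pi (fun s => (LinearMap.lsmul A (DT J₀ N) s.1).codRestrict
      (LinearMap.range (toDT J₀ N)) (fun y => hmem s.1 (hSJ s.1 s.2) y))
  have hinj : Function.Injective Ψ := by
    rw [← LinearMap.ker_eq_bot, eq_bot_iff]
    intro y hy
    rw [LinearMap.mem_ker] at hy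
    have h1 : ∀ s ∈ S, s • y = 0 := by
      intro s hs
      have h2 := congrArg Subtype.val (congrFun hy ⟨s, hs⟩)
      exact h2
    have h2 : ∀ a ∈ J₀, a • y = 0 := by
      intro a ha
      rw [← hS] at ha
      induction ha using Submodule.span_induction with
      | mem s hs => exact h1 s hs
      | zero => exact zero_smul _ _
      | add a b _ _ ha hb => rw [add_smul, ha, hb, add_zero]
      | smul r a _ ha => rw [smul_eq_mul, mul_smul, ha, smul_zero]
    rw [Submodule.mem_bot]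
    exact eq_zero_of_smul_eq_zero T N J₀ hJ₀ hk hp y h2
  haveI : IsNoetherian A ((s : S) → LinearMap.range (toDT J₀ N)) :=
    isNoetherian_of_isNoetherianRing_of_finite A _
  exact Module.Finite.of_injective Ψ hinj

include hJ₀ hk in
/-- `D_{J₀}(N)` has no torsion supported in `T`. -/
theorem torsionSub_DT_eq_bot (hp : TPure T N) (J : Ideal A)
    (hJ : PrimeSpectrum.zeroLocus (J : Set A) ⊆ T) : DRing.torsionSub J (DT J₀ N) = ⊥ := by
  rw [eq_bot_iff]
  rintro y ⟨k, hy⟩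
  rw [Submodule.mem_bot]
  apply eq_zero_of_smul_eq_zero T N J₀ hJ₀ hk hp y
  intro a ha
  obtain ⟨x, hx⟩ := smul_mem_range T N hp J₀ hk J₀ hJ₀ a ha y
  have hx0 : x = 0 := by
    apply hp (J ^ k) (zeroLocus_pow_subset hJ k)
    intro b hb
    have h2 : toDT J₀ N (b • x) = 0 := by
      rw [map_smul, hx, smul_comm, hy b hb, smul_zero]
    exact toDT_injective T N hp J₀ hJ₀ (h2.trans (map_zero _).symm)
  rw [← hx, hx0, map_zero]

include hJ₀ hk in
theorem toDT_DT_injective (hp : TPure T N) (J : Ideal A)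
    (hJ : PrimeSpectrum.zeroLocus (J : Set A) ⊆ T) : Function.Injective (toDT J (DT J₀ N)) := by
  rw [← LinearMap.ker_eq_bot, DT.ker_toDT, torsionSub_DT_eq_bot T N J₀ hJ₀ hk hp J hJ]

include hJ₀ hk in
/-- products of two elements of `J₀` multiply `D_J(D_{J₀}(N))` into `D_{J₀}(N)` -/
theorem mul_smul_mem_range (hp : TPure T N) (J : Ideal A)
    (hJ : PrimeSpectrum.zeroLocus (J : Set A) ⊆ T) (a b : A) (ha : a ∈ J₀) (hb : b ∈ J₀)
    (z : DT J (DT J₀ N)) : (a * b) • z ∈ LinearMap.range (toDT J (DT J₀ N)) := by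
  obtain ⟨n, φ, rfl⟩ := DT.ι_surj z
  have hinjN := toDT_injective T N hp J₀ hJ₀
  let e : N ≃ₗ[A] LinearMap.range (toDT J₀ N) := LinearEquiv.ofInjective (toDT J₀ N) hinjN
  let ψ : ↥(J ^ n) →ₗ[A] N := e.symm.toLinearMap ∘ₗ
    ((b • φ).codRestrict (LinearMap.range (toDT J₀ N)) (fun c => by
      rw [LinearMap.smul_apply]
      exact smul_mem_range T N hp J₀ hk J₀ hJ₀ b hb (φ c)))
  have hψ : ∀ c, toDT J₀ N (ψ c) = b • φ c := by
    intro c
    have h1 : e (ψ c) = ⟨b • φ c, smul_mem_range T N hp J₀ hk J₀ hJ₀ b hb (φ c)⟩ := by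
      change e (e.symm _) = _
      rw [LinearEquiv.apply_symm_apply]
      rfl
    have h2 := congrArg Subtype.val h1
    exact h2
  obtain ⟨x, hx⟩ := exists_smul_eq T N hp a (hk a ha) (J ^ n) (zeroLocus_pow_subset hJ n) ψ
  refine ⟨toDT J₀ N x, ?_⟩
  have hw : DT.ι J (DT J₀ N) n ((a * b) • φ) - toDT J (DT J₀ N) (toDT J₀ N x) ∈
      DRing.torsionSub J (DT J (DT J₀ N)) := by
    refine ⟨n, fun c hc => ?_⟩
    have h1 : c • DT.ι J (DT J₀ N) n ((a * b) • φ) =
        toDT J (DT J₀ N) (((a * b) • φ) ⟨c, hc⟩) := DT.smul_ι n _ ⟨c, hc⟩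
    have h2 : ((a * b) • φ) ⟨c, hc⟩ = toDT J₀ N (c • x) := by
      rw [LinearMap.smul_apply, mul_smul, ← hψ, ← map_smul, hx ⟨c, hc⟩]
    rw [smul_sub, h1, h2, ← map_smul, ← map_smul, sub_self]
  rw [DT.torsionSub_DT, Submodule.mem_bot, sub_eq_zero] at hw
  rw [← hw, map_smul]

include hJ₀ hk in
theorem sq_smul_mem_range (hp : TPure T N) (J : Ideal A)
    (hJ : PrimeSpectrum.zeroLocus (J : Set A) ⊆ T) (z : DT J (DT J₀ N)) (s : A)
    (hs : s ∈ J₀ ^ 2) : s • z ∈ LinearMap.range (toDT J (DT J₀ N)) := by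
  have hle : J₀ * J₀ ≤ Submodule.comap (LinearMap.toSpanSingleton A (DT J (DT J₀ N)) z)
      (LinearMap.range (toDT J (DT J₀ N))) := by
    rw [Ideal.mul_le]
    intro a ha b hb
    rw [Submodule.mem_comap, LinearMap.toSpanSingleton_apply]
    exact mul_smul_mem_range T N J₀ hJ₀ hk hp J hJ a b ha hb z
  rw [pow_two] at hs
  have := hle hs
  rwa [Submodule.mem_comap, LinearMap.toSpanSingleton_apply] at this

include hJ₀ hk in
theorem torsionSub_DT_DT_eq_bot (hp : TPure T N) (J : Ideal A)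
    (hJ : PrimeSpectrum.zeroLocus (J : Set A) ⊆ T) :
    DRing.torsionSub J₀ (DT J (DT J₀ N)) = ⊥ := by
  rw [eq_bot_iff]
  rintro u ⟨k, hu⟩
  obtain ⟨n, φ, rfl⟩ := DT.ι_surj u
  have h0 : ∀ c : ↥(J ^ n), φ c = 0 := by
    intro c
    have h1 : φ c ∈ DRing.torsionSub J₀ (DT J₀ N) := by
      refine ⟨k, fun a ha => ?_⟩
      apply toDT_DT_injective T N J₀ hJ₀ hk hp J hJ
      rw [map_smul, map_zero, ← DT.smul_ι n φ c, smul_comm, hu a ha, smul_zero]
    rw [DT.torsionSub_DT] at h1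
    exact (Submodule.mem_bot A).mp h1
  have h2 : φ = 0 := LinearMap.ext h0
  rw [h2, map_zero]
  exact Submodule.zero_mem _

include hJ₀ hk in
theorem toDT_DT_surjective (hp : TPure T N) (J : Ideal A)
    (hJ : PrimeSpectrum.zeroLocus (J : Set A) ⊆ T) :
    Function.Surjective (toDT J (DT J₀ N)) := by
  intro z
  have hinjD := toDT_DT_injective T N J₀ hJ₀ hk hp J hJ
  let eD : DT J₀ N ≃ₗ[A] LinearMap.range (toDT J (DT J₀ N)) :=
    LinearEquiv.ofInjective (toDT J (DT J₀ N)) hinjD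
  let lam : ↥(J₀ ^ 2) →ₗ[A] DT J₀ N := eD.symm.toLinearMap ∘ₗ
    ((LinearMap.toSpanSingleton A (DT J (DT J₀ N)) z ∘ₗ Submodule.subtype (J₀ ^ 2)).codRestrict
      (LinearMap.range (toDT J (DT J₀ N))) (fun s => by
        rw [LinearMap.comp_apply, LinearMap.toSpanSingleton_apply]
        exact sq_smul_mem_range T N J₀ hJ₀ hk hp J hJ z s.1 s.2))
  have hlam : ∀ s : ↥(J₀ ^ 2), toDT J (DT J₀ N) (lam s) = (s : A) • z := by
    intro s
    have h1 : eD (lam s) = ⟨(s : A) • z, sq_smul_mem_range T N J₀ hJ₀ hk hp J hJ z s.1 s.2⟩ := by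
      change eD (eD.symm _) = _
      rw [LinearEquiv.apply_symm_apply]
      rfl
    exact congrArg Subtype.val h1
  obtain ⟨m, hm⟩ := (DT.toDT_DT_bijective (I := J₀) (M := N)).2 (DT.ι J₀ (DT J₀ N) 2 lam)
  refine ⟨m, ?_⟩
  rw [DT.toDT_eq' 2, DT.ι_eq_iff] at hm
  obtain ⟨k, hk1, hk2, hm⟩ := hm
  have hw : toDT J (DT J₀ N) m - z ∈ DRing.torsionSub J₀ (DT J (DT J₀ N)) := by
    refine ⟨k, fun s hs => ?_⟩
    have h1 := LinearMap.congr_fun hm ⟨s, hs⟩
    rw [LinearMap.comp_apply, LinearMap.comp_apply, DT.smulMap_apply] at h1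
    have h2 := congrArg (toDT J (DT J₀ N)) h1
    rw [hlam, map_smul] at h2
    rw [smul_sub, sub_eq_zero]
    exact h2
  rw [torsionSub_DT_DT_eq_bot T N J₀ hJ₀ hk hp J hJ, Submodule.mem_bot, sub_eq_zero] at hw
  exact hw

include hJ₀ hk in
/-- depth at least two at all points of `T` -/
theorem two_le_depth_DT [Module.Finite A N] (hT : StableUnderSpecialization T) (hp : TPure T N)
    (p : PrimeSpectrum A) (hpT : p ∈ T) :
    (2 : ℕ∞) ≤ LocCoh.depth (Localization.AtPrime p.asIdeal)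
      (LocalizedModule p.asIdeal.primeCompl (DT J₀ N)) := by
  haveI : Module.Finite A (DT J₀ N) := finite_DT T N J₀ hJ₀ hk hp
  have hV : PrimeSpectrum.zeroLocus (p.asIdeal : Set A) ⊆ T := ZCl.zeroLocus_subset_of_mem hT hpT
  have h0 : Subsingleton (LocCoh.H p.asIdeal 0 (DT J₀ N)) :=
    (Depth.subsingleton_H_zero_iff p.asIdeal (DT J₀ N)).mpr
      (torsionSub_DT_eq_bot T N J₀ hJ₀ hk hp p.asIdeal hV)
  have h1 : Subsingleton (LocCoh.H p.asIdeal 1 (DT J₀ N)) := by
    have e := LC.cokerToDTEquiv p.asIdeal (DT J₀ N)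
    have hsurj : LinearMap.range (toDT p.asIdeal (DT J₀ N)) = ⊤ :=
      LinearMap.range_eq_top.mpr (toDT_DT_surjective T N J₀ hJ₀ hk hp p.asIdeal hV)
    have : Subsingleton (DT p.asIdeal (DT J₀ N) ⧸
        LinearMap.range (toDT p.asIdeal (DT J₀ N))) := by
      rw [hsurj]
      exact Submodule.Quotient.subsingleton_iff.mpr rfl
    exact e.symm.toEquiv.subsingleton
  have h2 : 2 ≤ LocCoh.idealDepth p.asIdeal (DT J₀ N) :=
    (Depth.two_le_idealDepth_iff p.asIdeal (DT J₀ N)).mpr ⟨h0, h1⟩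
  rw [Depth.idealDepth_eq_iInf] at h2
  exact h2.trans (iInf₂_le p le_rfl)

omit [IsNoetherianRing A] in
theorem bijective_map_of_injective {X Y : Type u} [AddCommGroup X] [Module A X] [AddCommGroup Y]
    [Module A Y] (S : Submonoid A) (f : X →ₗ[A] Y) (hinj : Function.Injective f)
    (hcok : ∀ y : Y, ∃ s ∈ S, s • y ∈ LinearMap.range f) :
    Function.Bijective (LocalizedModule.map S f) := by
  refine ⟨LocalizedModule.map_injective S f hinj, fun z => ?_⟩
  induction z using LocalizedModule.induction_on with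
  | h y t =>
    obtain ⟨s, hs, x, hx⟩ := hcok y
    refine ⟨LocalizedModule.mk x (⟨s, hs⟩ * t), ?_⟩
    rw [LocalizedModule.map_mk, hx]
    exact LocalizedModule.mk_cancel_common_left ⟨s, hs⟩ t y

include hJ₀ hk in
theorem bijective_map_toDT (hp : TPure T N) (p : PrimeSpectrum A) (hpT : p ∉ T) :
    Function.Bijective (LocalizedModule.map p.asIdeal.primeCompl (toDT J₀ N)) := by
  apply bijective_map_of_injective _ _ (toDT_injective T N hp J₀ hJ₀)
  intro y
  have hnot : ¬ J₀ ≤ p.asIdeal := fun h => hpT (hJ₀ (by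
    rw [PrimeSpectrum.mem_zeroLocus, SetLike.coe_subset_coe]; exact h))
  obtain ⟨a, ha, hap⟩ := SetLike.not_le_iff_exists.mp hnot
  exact ⟨a, hap, smul_mem_range T N hp J₀ hk J₀ hJ₀ a ha y⟩

end Groth.Agent.H2.HTBridge
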