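import Mathlib
import Groth.Agent.Lib.Helper2.HTBridgeB
import Groth.Agent.Lib.Helper5.DepthSeq.A

/-!
# Auxiliary facts for the depth-two improvement along a specialization-stable set (helper2)
-/

set_option autoImplicit false
set_option linter.style.haveILetI false
universe u

namespace Groth.Agent.H2.HTBridge

open Groth.Agent.H6 LocCoh

variable {A : Type u} [CommRing A] [IsNoetherianRing A] (T : Set (PrimeSpectrum A))
  (N : Type u) [AddCommGroup N] [Module A N]

theorem tpure_of_depth [Module.Finite A N]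
    (h : ∀ p : PrimeSpectrum A, p ∈ T → (1 : ℕ∞) ≤ LocCoh.depth (Localization.AtPrime p.asIdeal)
      (LocalizedModule p.asIdeal.primeCompl N)) : TPure T N := by
  intro J hJ x hx
  by_contra hx0
  obtain ⟨P, hP, hle⟩ := exists_le_isAssociatedPrime_of_isNoetherianRing A x hx0
  have hPprime : P.IsPrime := hP.isPrime
  have hJP : J ≤ P := by
    intro b hb
    apply hle
    rw [Submodule.mem_colon_singleton, Submodule.mem_bot]
    exact hx b hb
  have hpT : (⟨P, hPprime⟩ : PrimeSpectrum A) ∈ T := hJ (by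
    rw [PrimeSpectrum.mem_zeroLocus, SetLike.coe_subset_coe]; exact hJP)
  exact (ZCl.one_le_depth_iff N ⟨P, hPprime⟩).mp (h _ hpT) hP

omit [IsNoetherianRing A] in
theorem one_le_krullDim_Icc {p q : PrimeSpectrum A} (hpq : p < q) :
    (1 : WithBot ℕ∞) ≤ Order.krullDim (Set.Icc p q) := by
  let s : LTSeries (Set.Icc p q) :=
    (RelSeries.singleton _ (⟨p, le_rfl, hpq.le⟩ : Set.Icc p q)).snoc ⟨q, hpq.le, le_rfl⟩
      (by simpa using hpq)
  have h := Order.LTSeries.length_le_krullDim s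
  have hl : s.length = 1 := by simp [s]
  rw [hl] at h
  exact_mod_cast h

omit [IsNoetherianRing A] in
theorem two_le_krullDim_Icc {p r q : PrimeSpectrum A} (h1 : p < r) (h2 : r < q) :
    (2 : WithBot ℕ∞) ≤ Order.krullDim (Set.Icc p q) := by
  let s : LTSeries (Set.Icc p q) :=
    ((RelSeries.singleton _ (⟨p, le_rfl, (h1.trans h2).le⟩ : Set.Icc p q)).snoc
      ⟨r, h1.le, h2.le⟩ (by simpa using h1)).snoc ⟨q, (h1.trans h2).le, le_rfl⟩
      (by simpa using h2)
  have h := Order.LTSeries.length_le_krullDim s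
  have hl : s.length = 2 := by simp [s]
  rw [hl] at h
  exact_mod_cast h

theorem one_lt_two_wb : (1 : WithBot ℕ∞) < 2 := by
  have h : ((1 : ℕ∞) : WithBot ℕ∞) < ((2 : ℕ∞) : WithBot ℕ∞) :=
    WithBot.coe_lt_coe.mpr (by norm_num)
  exact_mod_cast h

omit [IsNoetherianRing A] in
/-- the numerical hypothesis of the finiteness theorem for `s = 1` -/
theorem one_lt_depth_add (d : ℕ∞) {p q : PrimeSpectrum A} (hlt : p < q)
    (hcov : p ⋖ q → (1 : ℕ∞) ≤ d) :
    (1 : WithBot ℕ∞) < ((d : ℕ∞) : WithBot ℕ∞) + Order.krullDim (Set.Icc p q) := by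
  apply lt_of_lt_of_le one_lt_two_wb
  by_cases hc : p ⋖ q
  · have h1 : (1 : WithBot ℕ∞) ≤ ((d : ℕ∞) : WithBot ℕ∞) := by exact_mod_cast hcov hc
    calc (2 : WithBot ℕ∞) = 1 + 1 := one_add_one_eq_two.symm
      _ ≤ _ := add_le_add h1 (one_le_krullDim_Icc hlt)
  · obtain ⟨r, hr1, hr2⟩ := (not_covBy_iff hlt).mp hc
    have h0 : (0 : WithBot ℕ∞) ≤ ((d : ℕ∞) : WithBot ℕ∞) := by exact_mod_cast (zero_le : (0 : ℕ∞) ≤ d)
    calc (2 : WithBot ℕ∞) = 0 + 2 := (zero_add 2).symm
      _ ≤ _ := add_le_add h0 (two_le_krullDim_Icc hr1 hr2)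

omit [IsNoetherianRing A] in
theorem map_comp_apply {X Y Z : Type u} [AddCommGroup X] [Module A X] [AddCommGroup Y] [Module A Y]
    [AddCommGroup Z] [Module A Z] (S : Submonoid A) (f : X →ₗ[A] Y) (g : Y →ₗ[A] Z) :
    ⇑(LocalizedModule.map S (g ∘ₗ f)) = ⇑(LocalizedModule.map S g) ∘ ⇑(LocalizedModule.map S f) := by
  funext z
  induction z using LocalizedModule.induction_on with
  | h x s =>
    rw [Function.comp_apply, LocalizedModule.map_mk, LocalizedModule.map_mk,
      LocalizedModule.map_mk]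
    rfl

omit [IsNoetherianRing A] in
theorem depth_eq_of_bijective {X Y : Type u} [AddCommGroup X] [Module A X] [AddCommGroup Y]
    [Module A Y] (p : PrimeSpectrum A) (f : X →ₗ[A] Y)
    (hf : Function.Bijective (LocalizedModule.map p.asIdeal.primeCompl f)) :
    LocCoh.depth (Localization.AtPrime p.asIdeal) (LocalizedModule p.asIdeal.primeCompl X) =
      LocCoh.depth (Localization.AtPrime p.asIdeal) (LocalizedModule p.asIdeal.primeCompl Y) :=
  Groth.Agent.Lib.Helper5.DepthSeq.depth_congr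
    (LinearEquiv.ofBijective (LocalizedModule.map p.asIdeal.primeCompl f) hf)

end Groth.Agent.H2.HTBridge
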