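import Mathlib
import Groth.Agent.Lib.Helper2.FCat1
import Groth.Agent.Lib.Helper3.CA.CplBij

/-! Formal catenarity ascends along flat local homomorphisms `R → S` with `𝔪_R S = 𝔪_S` and
trivial residue field extension (e.g. henselizations). -/

universe u
set_option linter.style.haveILetI false

namespace Groth.Agent.H2.HensFC

open IsLocalRing Groth.Agent.H2.FCat Groth.Agent.H2.FEquidim

section General

variable (R S : Type u) [CommRing R] [CommRing S] [IsLocalRing R] [IsLocalRing S]
  [IsNoetherianRing R] [IsNoetherianRing S] [Algebra R S] [IsLocalHom (algebraMap R S)]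
  [Module.Flat R S]

/-- the completions are isomorphic -/
theorem nonempty_ringEquiv_cpl
    (hm : (maximalIdeal R).map (algebraMap R S) = maximalIdeal S)
    (hres : ∀ s : S, ∃ r : R, s - algebraMap R S r ∈ maximalIdeal S) :
    Nonempty (AdicCompletion (maximalIdeal R) R ≃+* AdicCompletion (maximalIdeal S) S) := by
  have hb := Groth.Agent.H3.CplBij.bijective_of_compatible R S hm hres
    (Groth.Agent.H3.CplMap.cplHom R S)
    (RingHom.ext fun a => Groth.Agent.H3.CplMap.cplHom_of R S a)
  exact ⟨RingEquiv.ofBijective _ hb⟩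

omit [IsNoetherianRing R] [IsNoetherianRing S] [Module.Flat R S] in
theorem quotient_hm (hm : (maximalIdeal R).map (algebraMap R S) = maximalIdeal S)
    (p : Ideal R) [Nontrivial (R ⧸ p)] [Nontrivial (S ⧸ p.map (algebraMap R S))] :
    (maximalIdeal (R ⧸ p)).map (algebraMap (R ⧸ p) (S ⧸ p.map (algebraMap R S))) =
      maximalIdeal (S ⧸ p.map (algebraMap R S)) := by
  rw [← IsLocalRing.map_maximalIdeal_of_surjective (Ideal.Quotient.mk p)
      Ideal.Quotient.mk_surjective,
    ← IsLocalRing.map_maximalIdeal_of_surjective (Ideal.Quotient.mk (p.map (algebraMap R S)))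
      Ideal.Quotient.mk_surjective, ← hm, Ideal.map_map, Ideal.map_map]
  rfl

omit [IsNoetherianRing R] [IsNoetherianRing S] [Module.Flat R S] in
theorem quotient_hres (hres : ∀ s : S, ∃ r : R, s - algebraMap R S r ∈ maximalIdeal S)
    (p : Ideal R) [Nontrivial (R ⧸ p)] [Nontrivial (S ⧸ p.map (algebraMap R S))] :
    ∀ s : S ⧸ p.map (algebraMap R S), ∃ r : R ⧸ p,
      s - algebraMap (R ⧸ p) (S ⧸ p.map (algebraMap R S)) r ∈
        maximalIdeal (S ⧸ p.map (algebraMap R S)) := by
  intro s
  obtain ⟨s, rfl⟩ := Ideal.Quotient.mk_surjective s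
  obtain ⟨r, hr⟩ := hres s
  refine ⟨Ideal.Quotient.mk p r, ?_⟩
  rw [← IsLocalRing.map_maximalIdeal_of_surjective (Ideal.Quotient.mk (p.map (algebraMap R S)))
      Ideal.Quotient.mk_surjective]
  have : Ideal.Quotient.mk (p.map (algebraMap R S)) s -
      algebraMap (R ⧸ p) (S ⧸ p.map (algebraMap R S)) (Ideal.Quotient.mk p r) =
      Ideal.Quotient.mk (p.map (algebraMap R S)) (s - algebraMap R S r) := by
    rw [map_sub]
    rfl
  rw [this]
  exact Ideal.mem_map_of_mem _ hr

/-- for a prime `p` of `R`, `S/pS` is formally equidimensional when `R/p` is -/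
theorem isFormallyEquidim_quotient_map
    (hm : (maximalIdeal R).map (algebraMap R S) = maximalIdeal S)
    (hres : ∀ s : S, ∃ r : R, s - algebraMap R S r ∈ maximalIdeal S)
    (p : Ideal R) [hp : p.IsPrime] [Nontrivial (S ⧸ p.map (algebraMap R S))]
    (h : EGA4.IsFormallyEquidim (R ⧸ p)) :
    EGA4.IsFormallyEquidim (S ⧸ p.map (algebraMap R S)) := by
  haveI : Module.Flat (R ⧸ p) (S ⧸ p.map (algebraMap R S)) :=
    Module.Flat.of_linearEquiv
      (Algebra.TensorProduct.quotIdealMapEquivQuotTensor S p).toLinearEquiv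
  haveI : IsLocalHom (algebraMap (R ⧸ p) (S ⧸ p.map (algebraMap R S))) :=
    isLocalHom_quotient R S p
  obtain ⟨e⟩ := nonempty_ringEquiv_cpl (R ⧸ p) (S ⧸ p.map (algebraMap R S))
    (quotient_hm R S hm p) (quotient_hres R S hres p)
  exact Groth.Agent.H1.EquidimLoc.isEquidim_of_ringEquiv e h

/-- **ascent of formal catenarity** -/
theorem isFormallyCatenary_of_unramified
    (hm : (maximalIdeal R).map (algebraMap R S) = maximalIdeal S)
    (hres : ∀ s : S, ∃ r : R, s - algebraMap R S r ∈ maximalIdeal S)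
    (h : EGA4.IsFormallyCatenary R) : EGA4.IsFormallyCatenary S := by
  intro P hP
  set p : Ideal R := P.comap (algebraMap R S) with hp
  haveI : p.IsPrime := Ideal.comap_isPrime _ _
  have hle : p.map (algebraMap R S) ≤ P := Ideal.map_comap_le
  have hne : p.map (algebraMap R S) ≠ ⊤ := fun h => hP.ne_top (top_le_iff.mp (h ▸ hle))
  haveI : Nontrivial (S ⧸ p.map (algebraMap R S)) := Ideal.Quotient.nontrivial_iff.mpr hne
  have h1 := isFormallyEquidim_quotient_map R S hm hres p (h p)
  haveI hP' : (P.map (Ideal.Quotient.mk (p.map (algebraMap R S)))).IsPrime := by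
    apply Ideal.map_isPrime_of_surjective Ideal.Quotient.mk_surjective
    rw [Ideal.mk_ker]
    exact hle
  have h2 : EGA4.IsFormallyEquidim ((S ⧸ p.map (algebraMap R S)) ⧸
      P.map (Ideal.Quotient.mk (p.map (algebraMap R S)))) :=
    ((main _ h1).2 _).mp (isEquidim_of_isDomain _)
  refine isFormallyEquidim_of_ker_eq
    ((Ideal.Quotient.mk (P.map (Ideal.Quotient.mk (p.map (algebraMap R S))))).comp
      (Ideal.Quotient.mk (p.map (algebraMap R S))))
    (Ideal.Quotient.mk_surjective.comp Ideal.Quotient.mk_surjective)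
    (Ideal.Quotient.mk P) Ideal.Quotient.mk_surjective ?_ h2
  rw [Ideal.mk_ker, ← RingHom.comap_ker, Ideal.mk_ker,
    Ideal.comap_map_of_surjective _ Ideal.Quotient.mk_surjective, ← RingHom.ker_eq_comap_bot,
    Ideal.mk_ker, sup_eq_left.mpr hle]

end General

end Groth.Agent.H2.HensFC
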