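import Mathlib
import Groth.Agent.Lib.Helper2.HensFC
import Groth.Agent.Lib.Helper8.Hens.Fibre

/-! Strict formal catenarity ascends along flat local homomorphisms `R → S` with `𝔪_R S = 𝔪_S`,
trivial residue field extension and discrete fibres (e.g. henselizations). -/

universe u
set_option linter.style.haveILetI false

namespace Groth.Agent.H2.HensFC

open IsLocalRing Groth.Agent.H2.FCat Groth.Agent.H2.FEquidim

/-- strict equidimensionality passes to a quotient by the annihilator of an element -/
theorem isStrictlyEquidim_of_surjective {C D : Type u} [CommRing C] [CommRing D]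
    [IsNoetherianRing C] (f : C →+* D)
    (hf : Function.Surjective f) (y : C) (hker : ∀ c, f c = 0 ↔ y * c = 0)
    (h : EGA4.IsStrictlyEquidim C) : EGA4.IsStrictlyEquidim D := by
  haveI : IsNoetherianRing D := isNoetherianRing_of_surjective C D f hf
  intro 𝔮 h𝔮
  obtain ⟨hprime, b, hb⟩ := isAssociatedPrime_iff.mp h𝔮
  obtain ⟨a, rfl⟩ := hf b
  have hmem : ∀ r, r ∈ 𝔮 ↔ r * f a = 0 := by
    intro r
    rw [hb, Submodule.mem_colon_singleton, Submodule.mem_bot, smul_eq_mul]
  haveI : (𝔮.comap f).IsPrime := Ideal.comap_isPrime _ _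
  have hass : 𝔮.comap f ∈ associatedPrimes C C := by
    refine isAssociatedPrime_iff.mpr ⟨inferInstance, y * a, ?_⟩
    ext r
    rw [Ideal.mem_comap, hmem, ← map_mul, hker, Submodule.mem_colon_singleton, Submodule.mem_bot,
      smul_eq_mul]
    constructor <;> intro h' <;> rw [← h'] <;> ring
  have h1 := h _ hass
  have hsurj : Function.Surjective ((Ideal.Quotient.mk 𝔮).comp f) :=
    Ideal.Quotient.mk_surjective.comp hf
  have hk : RingHom.ker ((Ideal.Quotient.mk 𝔮).comp f) = 𝔮.comap f := by
    rw [← RingHom.comap_ker, Ideal.mk_ker]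
  have e : (C ⧸ 𝔮.comap f) ≃+* (D ⧸ 𝔮) :=
    (Ideal.quotEquivOfEq hk.symm).trans (RingHom.quotientKerEquivOfSurjective hsurj)
  have h2 : ringKrullDim (D ⧸ 𝔮) = ringKrullDim C := by
    rw [← ringKrullDim_eq_of_ringEquiv e, h1]
  refine le_antisymm (ringKrullDim_quotient_le _) ?_
  rw [h2]
  exact ringKrullDim_le_of_surjective f hf

theorem isStrictlyEquidim_of_ringEquiv {C D : Type u} [CommRing C] [CommRing D]
    [IsNoetherianRing C] (e : C ≃+* D)
    (h : EGA4.IsStrictlyEquidim C) : EGA4.IsStrictlyEquidim D := by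
  refine isStrictlyEquidim_of_surjective (e : C →+* D) e.surjective 1 ?_ h
  intro c
  simp

section Quot

variable {A B : Type u} [CommRing A] [CommRing B] [IsNoetherianRing A] [IsLocalRing A]
  [IsLocalRing B]

/-- if `Â` is strictly equidimensional and `B = A/Ann(x)`, then `B̂` is strictly equidimensional -/
theorem isStrictlyEquidim_completion_of_surjective (f : A →+* B) (hf : Function.Surjective f)
    (x : A) (hx : ∀ a, f a = 0 ↔ x * a = 0)
    (h : EGA4.IsStrictlyEquidim (AdicCompletion (maximalIdeal A) A)) :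
    EGA4.IsStrictlyEquidim (AdicCompletion (maximalIdeal B) B) := by
  haveI : IsNoetherianRing (AdicCompletion (maximalIdeal A) A) := Groth.Agent.S0543.result A _
  let e := Groth.Agent.H1.ComplQuot.localEquiv f hf
  have hsurj : Function.Surjective ((e : _ →+* AdicCompletion (maximalIdeal B) B).comp
      (Ideal.Quotient.mk ((RingHom.ker f).map
        (algebraMap A (AdicCompletion (maximalIdeal A) A))))) := by
    rw [RingHom.coe_comp]
    exact e.surjective.comp Ideal.Quotient.mk_surjective
  refine isStrictlyEquidim_of_surjective _ hsurj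
    (algebraMap A (AdicCompletion (maximalIdeal A) A) x) ?_ h
  intro c
  rw [RingHom.comp_apply, RingHom.coe_coe, EmbeddingLike.map_eq_zero_iff,
    Ideal.Quotient.eq_zero_iff_mem]
  constructor
  · intro hc
    refine Submodule.span_induction ?_ ?_ ?_ ?_ hc
    · rintro _ ⟨a, ha, rfl⟩
      rw [← map_mul, (hx a).mp ha, map_zero]
    · simp
    · intro u v _ _ hu hv
      rw [mul_add, hu, hv, add_zero]
    · intro u v _ hv
      rw [smul_eq_mul, mul_left_comm, hv, mul_zero]
  · intro hc
    have hs : x • c = 0 := by rw [Algebra.smul_def]; exact hc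
    obtain ⟨k, d, z, hcz, hd⟩ :=
      Groth.Agent.H8.Hens.exists_sum_smul_of_forall_smul_eq_zero
        (M := AdicCompletion (maximalIdeal A) A) 1 (fun _ => x) c (fun _ => hs)
    rw [hcz]
    refine Ideal.sum_mem _ fun l _ => ?_
    rw [Algebra.smul_def]
    refine Ideal.mul_mem_right _ _ (Ideal.mem_map_of_mem _ ?_)
    rw [RingHom.mem_ker, hx]
    exact hd 0 l

end Quot

section General

variable (R S : Type u) [CommRing R] [CommRing S] [IsLocalRing R] [IsLocalRing S]
  [IsNoetherianRing R] [IsNoetherianRing S] [Algebra R S] [IsLocalHom (algebraMap R S)]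
  [Module.Flat R S]

/-- **ascent of strict formal catenarity** -/
theorem isFormallyStrictlyCatenary_of_unramified
    (hm : (maximalIdeal R).map (algebraMap R S) = maximalIdeal S)
    (hres : ∀ s : S, ∃ r : R, s - algebraMap R S r ∈ maximalIdeal S)
    (hfd : Groth.Agent.H8.Hens.FibresDiscrete R S)
    (h : EGA4.IsFormallyStrictlyCatenary R) : EGA4.IsFormallyStrictlyCatenary S := by
  intro P hP
  set p : Ideal R := P.comap (algebraMap R S) with hp
  haveI : p.IsPrime := Ideal.comap_isPrime _ _
  have hle : p.map (algebraMap R S) ≤ P := Ideal.map_comap_le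
  have hne : p.map (algebraMap R S) ≠ ⊤ := fun h => hP.ne_top (top_le_iff.mp (h ▸ hle))
  haveI : Nontrivial (S ⧸ p.map (algebraMap R S)) := Ideal.Quotient.nontrivial_iff.mpr hne
  haveI : Module.Flat (R ⧸ p) (S ⧸ p.map (algebraMap R S)) :=
    Module.Flat.of_linearEquiv
      (Algebra.TensorProduct.quotIdealMapEquivQuotTensor S p).toLinearEquiv
  haveI : IsLocalHom (algebraMap (R ⧸ p) (S ⧸ p.map (algebraMap R S))) :=
    isLocalHom_quotient R S p
  obtain ⟨e⟩ := nonempty_ringEquiv_cpl (R ⧸ p) (S ⧸ p.map (algebraMap R S))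
    (quotient_hm R S hm p) (quotient_hres R S hres p)
  haveI : IsNoetherianRing (AdicCompletion (maximalIdeal (R ⧸ p)) (R ⧸ p)) :=
    Groth.Agent.S0543.result _ _
  have h1 : EGA4.IsStrictlyEquidim (AdicCompletion
      (maximalIdeal (S ⧸ p.map (algebraMap R S))) (S ⧸ p.map (algebraMap R S))) :=
    isStrictlyEquidim_of_ringEquiv e (h p)
  have hPmin : P ∈ (p.map (algebraMap R S)).minimalPrimes :=
    (hfd.mem_minimalPrimes_map_iff p P).mpr ⟨hP, rfl⟩
  have hPass : P ∈ associatedPrimes S (S ⧸ p.map (algebraMap R S)) := by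
    apply Module.associatedPrimes.minimalPrimes_annihilator_subset_associatedPrimes
    rw [Ideal.annihilator_quotient]
    exact hPmin
  obtain ⟨-, s', hs⟩ := isAssociatedPrime_iff.mp hPass
  obtain ⟨s, rfl⟩ := Ideal.Quotient.mk_surjective s'
  refine isStrictlyEquidim_completion_of_surjective (Ideal.Quotient.factor hle)
    (Ideal.Quotient.factor_surjective hle) (Ideal.Quotient.mk _ s) ?_ h1
  intro a
  obtain ⟨a, rfl⟩ := Ideal.Quotient.mk_surjective a
  rw [Ideal.Quotient.factor_mk, Ideal.Quotient.eq_zero_iff_mem, hs, Submodule.mem_colon_singleton,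
    Submodule.mem_bot, ← map_mul, mul_comm]
  rfl

end General

end Groth.Agent.H2.HensFC
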