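import Mathlib

/-! Degree of a polynomial from its finite differences (helper2). -/

set_option autoImplicit false
open Polynomial

namespace Groth.Agent.H2.HilbDeg

theorem fwdDiff_cast : ∀ (j : ℕ) (f : ℕ → ℤ) (g : ℚ → ℚ) (_ : ∀ m : ℕ, (f m : ℚ) = g m) (m : ℕ),
    (((fwdDiff (1 : ℕ))^[j] f m : ℤ) : ℚ) = (fwdDiff (1 : ℚ))^[j] g (m : ℚ)
  | 0, f, g, h, m => h m
  | j + 1, f, g, h, m => by
    rw [Function.iterate_succ_apply, Function.iterate_succ_apply]
    apply fwdDiff_cast j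
    intro m'
    change ((f (m' + 1) - f m' : ℤ) : ℚ) = g ((m' : ℚ) + 1) - g m'
    rw [Int.cast_sub, h, h]
    push_cast
    rfl

theorem natDegree_eq_of_fwdDiff (P : ℚ[X]) (f : ℕ → ℤ)
    (hf : ∀ m : ℕ, (f m : ℚ) = P.eval (m : ℚ)) (E : ℕ)
    (h0 : ∀ j, E < j → (fwdDiff (1 : ℕ))^[j] f 0 = 0)
    (hpos : 0 < (fwdDiff (1 : ℕ))^[E] f 0) : P.natDegree = E := by
  have key : ∀ j, (((fwdDiff (1 : ℕ))^[j] f 0 : ℤ) : ℚ) = (fwdDiff (1 : ℚ))^[j] P.eval 0 := by
    intro j
    have := fwdDiff_cast j f P.eval hf 0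
    simpa using this
  rcases lt_trichotomy P.natDegree E with hlt | heq | hgt
  · exfalso
    have h1 := Polynomial.fwdDiff_iter_eq_zero_of_degree_lt hlt
    have h2 := key E
    rw [h1, Pi.zero_apply] at h2
    have : ((fwdDiff (1 : ℕ))^[E] f 0 : ℤ) = 0 := by exact_mod_cast h2
    omega
  · exact heq
  · exfalso
    have hP : P ≠ 0 := by
      intro h
      rw [h, natDegree_zero] at hgt
      omega
    have h1 := Polynomial.fwdDiff_iter_degree_eq_factorial P
    have h2 := key P.natDegree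
    rw [h0 _ hgt, h1] at h2
    have h3 : P.leadingCoeff * (P.natDegree.factorial : ℚ) = 0 := by
      simpa using h2.symm
    rcases mul_eq_zero.mp h3 with h4 | h4
    · exact hP (leadingCoeff_eq_zero.mp h4)
    · exact (Nat.factorial_ne_zero _) (by exact_mod_cast h4)

end Groth.Agent.H2.HilbDeg
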