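import Mathlib
import Groth.Agent.Lib.Helper2.HilbDegA
import Groth.Agent.Lib.Helper5.IntN.Veronese
import Groth.Agent.Lib.Helper5.IntN.PosMain
import Groth.Agent.Lib.Helper5.VAmple.J
import Groth.Agent.Lib.Helper5.Deg.Deg3
import Groth.Agent.Lib.Helper5.HP.HP6
import Groth.Agent.Lib.Helper2.SecOrdRef
import Groth.Agent.Lib.Helper5.Curve2.C
import Groth.Agent.Lib.Lead.PN.SerreVanish
import Groth.Agent.Lib.Helper5.AG.LocalDim

/-! The degree of the Hilbert polynomial of a coherent module on `P^n_k` is the dimension of its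
support (helper2, S14408). -/

set_option autoImplicit false
set_option linter.style.haveILetI false
universe u
open CategoryTheory CategoryTheory.Limits AlgebraicGeometry TopologicalSpace Opposite

namespace Groth.Agent.H2.HilbDeg

open Groth.Agent.LD Twist TW

section general
variable {X : Scheme.{u}}

theorem support_eq_of_iso {M N : X.Modules} (e : M ≅ N) : CohB1.support M = CohB1.support N := by
  ext x
  have hb := Groth.Agent.H2.SecOrd.stalkMapₗ_bijective_of_iso e x
  change ¬ Subsingleton (M.presheaf.stalk x) ↔ ¬ Subsingleton (N.presheaf.stalk x)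
  rw [not_iff_not]
  constructor
  · intro h
    exact hb.2.subsingleton
  · intro h
    exact hb.1.subsingleton

theorem support_tensor_invertible (F : X.Modules) (hF : Coh.IsCoh F) (L L' : X.Modules)
    (hL : PicF.IsInvertible L) (hL' : PicF.IsInvertible L')
    (e : CohB1.tensorMod L L' ≅ Coh.structureModule X) :
    CohB1.support (CohB1.tensorMod F L) = CohB1.support F := by
  haveI : F.IsQuasicoherent := hF.1
  haveI : L.IsQuasicoherent := QC.qc_of_isInvertible L hL
  haveI : L'.IsQuasicoherent := QC.qc_of_isInvertible L' hL'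
  apply le_antisymm
  · exact Groth.Agent.H5.Deg.support_tensorMod_subset F hF.2 hL
  · have hFL : Coh.IsCoh (CohB1.tensorMod F L) :=
      Groth.Agent.H5.Curve2.isCoh_tensor_of_isInvertible hF hL
    let e' : CohB1.tensorMod (CohB1.tensorMod F L) L' ≅ F :=
      QC.tensorAssoc F L L' ≪≫ QC.tensorIso' (Iso.refl F) e ≪≫ SecTwist.unitorR F
    rw [← support_eq_of_iso e']
    exact Groth.Agent.H5.Deg.support_tensorMod_subset _ hFL.2 hL'

end general

section main

open Groth.Agent.H5.IntN Groth.Agent.LD.PN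

variable (k : Type u) [Field k] (n : ℕ)

theorem exists_nat_of_le {a : WithBot ℕ∞} (h0 : 0 ≤ a) (hn : a ≤ (n : WithBot ℕ∞)) :
    ∃ E : ℕ, a = (E : WithBot ℕ∞) := by
  induction a using WithBot.recBotCoe with
  | bot => exact absurd h0 (by simp)
  | coe b =>
    have hb : b ≤ (n : ℕ∞) := by exact_mod_cast hn
    obtain ⟨E, rfl⟩ := ENat.ne_top_iff_exists.mp (ne_top_of_le_ne_top (ENat.natCast_ne_top n) hb)
    exact ⟨E, rfl⟩

/-- **S14408**. -/
theorem natDegree_hilb (F : (CohB1.ProjSpace n k).Modules) (hF : Coh.IsCoh F) (hF0 : ¬ IsZero F)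
    (P : Polynomial ℚ)
    (hP : ∀ m : ℤ,
      ((Finset.range (n + 1)).sum fun j => (-1 : ℚ) ^ j *
        (Module.finrank k (Coh.HH (CohB1.ProjSpace n k)
          (CohB1.tensorMod F (Twist.twistProjSpace n k m)) j) : ℚ)) = P.eval (m : ℚ)) :
    topologicalKrullDim ↥(CohB1.support F) = (P.natDegree : WithBot ℕ∞) := by
  haveI : IsProper (CohB1.ProjSpace n k ↘ Spec (CommRingCat.of k)) :=
    Groth.Agent.H5.AG.isProper_toSpec n k
  have hdim : topologicalKrullDim (CohB1.ProjSpace n k) ≤ ((n : ℕ) : WithBot ℕ∞) :=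
    le_of_eq (dim_projSpace k n)
  haveI : F.IsQuasicoherent := hF.1
  obtain ⟨x, -, hx⟩ :=
    Groth.Agent.H5.HP.exists_closed_point_stalk k (CohB1.ProjSpace n k) F hF hF0
  haveI hne : Nonempty ↥(CohB1.support F) := ⟨⟨x, not_subsingleton_iff_nontrivial.mpr hx⟩⟩
  have hle : topologicalKrullDim ↥(CohB1.support F) ≤ ((n : ℕ) : WithBot ℕ∞) :=
    (Topology.IsEmbedding.subtypeVal.isInducing.topologicalKrullDim_le).trans hdim
  obtain ⟨E, hE⟩ := exists_nat_of_le n (Groth.Agent.H5.AG.topologicalKrullDim_nonneg _) hle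
  have hA : PicF.IsInvertible (Twist.twistProjSpace n k (-1)) := isInvertible_twist n k _
  let G : ℕ → (CohB1.ProjSpace n k).Modules :=
    fun m => CohB1.tensorMod F (Twist.twistProjSpace n k (m : ℤ))
  have hG : ∀ m, Coh.IsCoh (G m) := fun m =>
    Groth.Agent.H5.Curve2.isCoh_tensor_of_isInvertible hF (isInvertible_twist n k _)
  have hsupp : ∀ m, CohB1.support (G m) = CohB1.support F := fun m =>
    support_tensor_invertible F hF _ (Twist.twistProjSpace n k (-(m : ℤ)))
      (isInvertible_twist n k _) (isInvertible_twist n k _)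
      (PN.twistMulIso n k (m : ℤ) (-(m : ℤ)) 0 (by ring) ≪≫
        twistZeroIso (CohB1.polyGrading n k))
  haveI hqc : ∀ d : ℤ, (Twist.twistProjSpace n k d).IsQuasicoherent :=
    fun d => QC.qc_of_isInvertible _ (isInvertible_twist n k d)
  have hiso : ∀ m, Nonempty (CohB1.tensorMod (Twist.twistProjSpace n k (-1)) (G (m + 1)) ≅ G m) :=
    fun m => ⟨QC.tensorCommAll _ _ ≪≫ QC.tensorAssoc F _ _ ≪≫
      QC.tensorIso' (Iso.refl F) (PN.twistMulIso n k _ _ _ (by push_cast; ring))⟩
  have key := intNum_const_eq_fwdDiff k n (Twist.twistProjSpace n k (-1)) hA G hG hiso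
  have hf : ∀ m : ℕ, ((FGA.eulerCharLE k (CohB1.ProjSpace n k) (G m) n : ℤ) : ℚ) =
      P.eval (m : ℚ) := by
    intro m
    have := hP (m : ℤ)
    rw [Int.cast_natCast] at this
    rw [← this]
    unfold FGA.eulerCharLE
    push_cast
    rfl
  have h0 : ∀ j, E < j → (fwdDiff (1 : ℕ))^[j]
      (fun m => FGA.eulerCharLE k (CohB1.ProjSpace n k) (G m) n) 0 = 0 := by
    intro j hj
    rw [← key j 0]
    apply intNum_eq_zero k n hdim _ (fun _ => hA) _ (hG _)
    rw [hsupp, hE]
    exact_mod_cast hj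
  have hpos : 0 < (fwdDiff (1 : ℕ))^[E]
      (fun m => FGA.eulerCharLE k (CohB1.ProjSpace n k) (G m) n) 0 := by
    rw [← key E 0]
    exact intNum_pos_of_isAmple k (CohB1.ProjSpace n k) n hdim
      (fun _ => Twist.twistProjSpace n k 1) (fun _ => Twist.twistProjSpace n k (-1))
      (fun _ => Groth.Agent.H5.VAmple.isAmple_O1 n k)
      (fun _ => ⟨PN.twistMulIso n k 1 (-1) 0 (by ring) ≪≫ twistZeroIso (CohB1.polyGrading n k)⟩)
      _ (hG _) (by rw [hsupp, hE])
  rw [hE, natDegree_eq_of_fwdDiff P _ hf E h0 hpos]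

end main

end Groth.Agent.H2.HilbDeg
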