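import Mathlib
import Groth.Agent.Lib.Helper2.HilbMult3

/-! Bézout for a hypersurface section of a projective variety. (helper2, ProjDeg cluster) -/

set_option autoImplicit false
universe u

open Polynomial DirectSum

namespace Groth.Agent.H2.HilbDim
open Groth.Agent.H2.HilbHyper

section dim
variable (k : Type u) [Field k]

theorem ringKrullDim_quotient_minimalPrime_sup_span (A : Type u) [CommRing A] [Algebra k A]
    [Algebra.FiniteType k A] (I : Ideal A) [I.IsPrime] (a : A) (ha : a ∉ I) (q : Ideal A)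
    (hq : q ∈ (I ⊔ Ideal.span {a}).minimalPrimes) :
    ringKrullDim (A ⧸ q) + 1 = ringKrullDim (A ⧸ I) := by
  have hft : Algebra.FiniteType k (A ⧸ I) :=
    Algebra.FiniteType.of_surjective (Ideal.Quotient.mkₐ k I) Ideal.Quotient.mk_surjective
  have hb : Ideal.Quotient.mk I a ≠ 0 := by
    rwa [Ne, Ideal.Quotient.eq_zero_iff_mem]
  have hmap : (Ideal.span {a}).map (Ideal.Quotient.mk I) = Ideal.span {Ideal.Quotient.mk I a} := by
    rw [Ideal.map_span, Set.image_singleton]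
  have hIq : I ≤ q := le_trans le_sup_left hq.1.2
  have hq' : q.map (Ideal.Quotient.mk I) ∈ (Ideal.span {Ideal.Quotient.mk I a}).minimalPrimes := by
    rw [← hmap, Ideal.minimalPrimes_map_of_surjective Ideal.Quotient.mk_surjective, Ideal.mk_ker,
      sup_comm]
    exact ⟨q, hq, rfl⟩
  have h1 := ringKrullDim_quotient_minimalPrime_add_one k (A ⧸ I) _ hb _ hq'
  rw [← h1]
  congr 1
  have e := DoubleQuot.quotQuotEquivQuotSup I q
  rw [sup_eq_right.mpr hIq] at e
  exact (ringKrullDim_eq_of_ringEquiv e).symm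

end dim

section main
variable {k : Type u} {A : Type u} [Field k] [CommRing A] [Algebra k A]
  (𝒜 : ℕ → Submodule k A) [GradedAlgebra 𝒜]

theorem bezout_hypersurface (hfin : ∀ m, FiniteDimensional k (𝒜 m)) [Algebra.FiniteType k A]
    (hgen : ∀ m, ∀ x ∈ 𝒜 (m + 1), x ∈ Ideal.span (𝒜 1 : Set A))
    (I : Ideal A) (hI : I.IsHomogeneous 𝒜) [I.IsPrime] (f : A) (d : ℕ) (hd : 0 < d)
    (hf : f ∈ 𝒜 d) (hfI : f ∉ I) (P : ℚ[X]) (hP : IsHP 𝒜 I P) (hdim : 1 ≤ P.natDegree)
    (r : ℕ) (p : Fin r → Ideal A) [hp : ∀ i, (p i).IsPrime] (hpinj : Function.Injective p)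
    (hpmin : ∀ q : Ideal A, q ∈ (I ⊔ Ideal.span {f}).minimalPrimes ↔ ∃ i, q = p i)
    (Qp : Fin r → ℚ[X]) (hQp : ∀ i, IsHP 𝒜 (p i) (Qp i)) :
    (d : ℚ) * ((P.natDegree.factorial : ℚ) * P.leadingCoeff) =
      ∑ i : Fin r, ((Qp i).natDegree.factorial : ℚ) * (Qp i).leadingCoeff *
        (Module.length (Localization.AtPrime (p i))
          (LocalizedModule (p i).primeCompl (A ⧸ (I ⊔ Ideal.span {f})))).toNat := by
  set I' := I ⊔ Ideal.span {f} with hI'
  have hI'h : I'.IsHomogeneous 𝒜 :=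
    hI.sup ((Ideal.homogeneous_span 𝒜 {f}) (by
      rintro _ rfl
      exact ⟨d, hf⟩))
  obtain ⟨Q, hQ, hQdim⟩ := exists_isHP 𝒜 hfin hgen I' hI'h
  obtain ⟨h1, h2⟩ := hilb_hypersurface 𝒜 hfin I hI f d hd hf hfI P Q hP hQ hdim
  have h3 := degree_formula 𝒜 hfin hgen I' hI'h Q hQ r p hpinj hpmin Qp hQp
  rw [← h2, h3]
  refine Finset.sum_congr rfl fun i _ => ?_
  have hmem : p i ∈ I'.minimalPrimes := (hpmin (p i)).mpr ⟨i, rfl⟩
  have hph : (p i).IsHomogeneous 𝒜 := isHomogeneous_of_mem_minimalPrimes 𝒜 hI'h hmem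
  have hDI := dimClaim_of_isHP 𝒜 hfin hgen hI hP
  have hDp := dimClaim_of_isHP 𝒜 hfin hgen hph (hQp i)
  have hP0 : P ≠ 0 := by
    rintro rfl
    simp at hdim
  have hd1 := ringKrullDim_quotient_minimalPrime_sup_span k A I f hfI (p i) hmem
  rw [hDI.2 hP0, ← h1] at hd1
  have hd2 : ringKrullDim (A ⧸ p i) = ((Q.natDegree + 1 : ℕ) : WithBot ℕ∞) := by
    have h4 : ringKrullDim (A ⧸ p i) + 1 = ((Q.natDegree + 1 : ℕ) : WithBot ℕ∞) + 1 := by
      rw [hd1]
    obtain ⟨a, ha⟩ : ∃ a : ℕ, ringKrullDim (A ⧸ p i) = a := by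
      have : Nontrivial (A ⧸ p i) := Ideal.Quotient.nontrivial_iff.mpr (hp i).ne_top
      exact DimFG.exists_ringKrullDim_eq_nat k (A ⧸ p i)
    rw [ha] at h4 ⊢
    have h5 : ((a + 1 : ℕ) : WithBot ℕ∞) = ((Q.natDegree + 1 + 1 : ℕ) : WithBot ℕ∞) := by
      push_cast
      push_cast at h4
      exact h4
    have h6 : a + 1 = Q.natDegree + 1 + 1 := by exact_mod_cast h5
    have h7 : a = Q.natDegree + 1 := by omega
    rw [h7]
  have hQne : Qp i ≠ 0 := by
    intro h0
    have h4 := hDp.1 h0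
    rw [hd2] at h4
    have h5 : Q.natDegree + 1 ≤ 0 := by exact_mod_cast h4
    omega
  have hQdeg : (Qp i).natDegree = Q.natDegree := by
    have h4 := hDp.2 hQne
    rw [hd2] at h4
    have h5 : ((Q.natDegree + 1 : ℕ) : WithBot ℕ∞) = (((Qp i).natDegree + 1 : ℕ) : WithBot ℕ∞) := by
      push_cast
      push_cast at h4
      exact h4
    have h6 : Q.natDegree + 1 = (Qp i).natDegree + 1 := by exact_mod_cast h5
    omega
  rw [if_pos hQdeg]

end main

section mv
attribute [local instance] MvPolynomial.gradedAlgebra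
variable (k : Type u) [Field k] (σ : Type) [Finite σ]

theorem bezout_hypersurface_mv (I : Ideal (MvPolynomial σ k))
    (hI : I.IsHomogeneous (MvPolynomial.homogeneousSubmodule σ k)) [I.IsPrime]
    (f : MvPolynomial σ k) (d : ℕ) (hd : 0 < d) (hf : f.IsHomogeneous d) (hfI : f ∉ I)
    (P : ℚ[X]) (hP : IsHP (MvPolynomial.homogeneousSubmodule σ k) I P) (hdim : 1 ≤ P.natDegree)
    (r : ℕ) (p : Fin r → Ideal (MvPolynomial σ k)) [hp : ∀ i, (p i).IsPrime]
    (hpinj : Function.Injective p)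
    (hpmin : ∀ q : Ideal (MvPolynomial σ k),
      q ∈ (I ⊔ Ideal.span {f}).minimalPrimes ↔ ∃ i, q = p i)
    (Qp : Fin r → ℚ[X]) (hQp : ∀ i, IsHP (MvPolynomial.homogeneousSubmodule σ k) (p i) (Qp i)) :
    (d : ℚ) * ((P.natDegree.factorial : ℚ) * P.leadingCoeff) =
      ∑ i : Fin r, ((Qp i).natDegree.factorial : ℚ) * (Qp i).leadingCoeff *
        (Module.length (Localization.AtPrime (p i))
          (LocalizedModule (p i).primeCompl
            (MvPolynomial σ k ⧸ (I ⊔ Ideal.span {f})))).toNat :=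
  bezout_hypersurface (MvPolynomial.homogeneousSubmodule σ k) (hfin_mvPolynomial k σ)
    (hgen_mvPolynomial k σ) I hI f d hd ((MvPolynomial.mem_homogeneousSubmodule d f).mpr hf) hfI
    P hP hdim r p hpinj hpmin Qp hQp

end mv

end Groth.Agent.H2.HilbDim
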