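import Mathlib
import Groth.Prelude.Def_EGA4b
import Groth.Prelude.Def_CAlg
import Groth.Agent.Lib.Helper6.Catenary
import Groth.Agent.Lib.Helper6.RelHt

/-! Hironaka's lemma: preliminaries. -/

universe u

namespace Groth.Agent.H2.Hiro

open Groth.Agent.H6 IsLocalRing

section Basic

variable {R : Type u} [CommRing R] [IsNoetherianRing R]

/-- a Noetherian local ring whose maximal ideal is generated by a non-zero-divisor is regular -/
theorem regular_of_principal [IsLocalRing R] (π : R) (hπ : π ∈ nonZeroDivisors R)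
    (hm : maximalIdeal R = Ideal.span {π}) : IsRegularLocalRing R := by
  apply IsRegularLocalRing.of_spanFinrank_maximalIdeal_le
  have h1 : (maximalIdeal R).spanFinrank ≤ 1 := by
    rw [hm]
    calc _ ≤ ({π} : Set R).ncard :=
          Submodule.spanFinrank_span_le_ncard_of_finite (Set.finite_singleton π)
      _ = 1 := Set.ncard_singleton π
  have h2 : ringKrullDim (R ⧸ Ideal.span {π}) + 1 ≤ ringKrullDim R :=
    ringKrullDim_quotient_succ_le_of_nonZeroDivisor hπ
  have h3 : (0 : WithBot ℕ∞) ≤ ringKrullDim (R ⧸ Ideal.span {π}) := by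
    haveI : Nontrivial (R ⧸ Ideal.span {π}) := by
      rw [← hm]
      exact Ideal.Quotient.nontrivial_iff.mpr (maximalIdeal.isMaximal R).ne_top
    exact ringKrullDim_nonneg_of_nontrivial
  have h4 : (1 : WithBot ℕ∞) ≤ ringKrullDim R := by
    refine le_trans ?_ h2
    calc (1 : WithBot ℕ∞) = 0 + 1 := by simp
      _ ≤ ringKrullDim (R ⧸ Ideal.span {π}) + 1 := by gcongr
  refine le_trans ?_ h4
  exact_mod_cast h1

/-- a prime minimal over `q + (x)` covers the prime `q` -/
theorem covBy_of_mem_minimalPrimes_sup (q P : Ideal R) [hq : q.IsPrime] [hP : P.IsPrime] (x : R)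
    (hmin : P ∈ (q ⊔ Ideal.span {x}).minimalPrimes) (hne : q ≠ P) :
    (⟨q, hq⟩ : PrimeSpectrum R) ⋖ ⟨P, hP⟩ := by
  have hqP : q ≤ P := le_sup_left.trans hmin.1.2
  have hlt : q < P := lt_of_le_of_ne hqP hne
  refine ⟨hlt, ?_⟩
  intro y hqy hyP
  haveI := y.2
  have hqy' : q < y.asIdeal := hqy
  have hyP' : y.asIdeal < P := hyP
  have h1 := Ideal.map_height_le_one_of_mem_minimalPrimes hmin
  rw [← RelHt.relHt_eq_height q P hqP] at h1
  have h2 := RelHt.relHt_add_one_le q (Q := q) (P := y.asIdeal) le_rfl hqy'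
  have h3 := RelHt.relHt_add_one_le q (Q := y.asIdeal) (P := P) hqy'.le hyP'
  have h4 : (2 : ℕ∞) ≤ RelHt.relHt q P hqP := by
    calc (2 : ℕ∞) = 0 + 1 + 1 := by norm_num
      _ ≤ RelHt.relHt q q le_rfl + 1 + 1 := by gcongr; exact bot_le
      _ ≤ RelHt.relHt q y.asIdeal hqy'.le + 1 := by gcongr
      _ ≤ _ := h3
  have h5 : (2 : ℕ∞) ≤ 1 := h4.trans h1
  norm_num at h5

/-- a prime of height at most one containing the non-zero-divisor `t` is minimal over `(t)` -/
theorem mem_minimalPrimes_span_of_height_le_one (t : R) (ht : t ∈ nonZeroDivisors R)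
    (P : Ideal R) [hP : P.IsPrime] (htP : t ∈ P) (hh : P.height ≤ 1) :
    P ∈ (Ideal.span {t}).minimalPrimes := by
  have hle : Ideal.span {t} ≤ P := (Ideal.span_singleton_le_iff_mem _).mpr htP
  apply Ideal.mem_minimalPrimes_of_height_le hle
  have hnu : ¬ IsUnit t := fun hu => hP.ne_top (Ideal.eq_top_of_isUnit_mem _ htP hu)
  rw [Ideal.height_span_singleton_eq_one_of_mem_nonZeroDivisors ht hnu]
  exact hh

end Basic

end Groth.Agent.H2.Hiro
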