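import Groth.Prelude.Def_DerLim
import Mathlib.CategoryTheory.Triangulated.Pretriangulated
import Mathlib.Algebra.BigOperators.Intervals

/-!
# Homotopy equivalent arrows have isomorphic cones
-/

universe v u

open CategoryTheory CategoryTheory.Limits Pretriangulated

namespace Groth.Agent.H2.Hocolim

variable {D : Type u} [Category.{v} D] [Preadditive D] [HasZeroObject D] [HasShift D ℤ]
  [∀ n : ℤ, (shiftFunctor D n).Additive] [Pretriangulated D]

lemma isIso_of_comp_isIso {X Y : D} (a : X ⟶ Y) (b : Y ⟶ X) [IsIso (a ≫ b)] [IsIso (b ≫ a)] :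
    IsIso a := by
  refine ⟨b ≫ inv (a ≫ b), ?_, ?_⟩
  · rw [← Category.assoc, IsIso.hom_inv_id]
  · have h1 : inv (b ≫ a) ≫ b ≫ a = 𝟙 _ := IsIso.inv_hom_id _
    have h2 : a ≫ b ≫ inv (a ≫ b) = 𝟙 _ := by rw [← Category.assoc, IsIso.hom_inv_id]
    have h3 : b ≫ inv (a ≫ b) = inv (b ≫ a) ≫ b := by
      calc b ≫ inv (a ≫ b) = (inv (b ≫ a) ≫ b ≫ a) ≫ b ≫ inv (a ≫ b) := by
            rw [h1, Category.id_comp]
        _ = inv (b ≫ a) ≫ b ≫ (a ≫ b ≫ inv (a ≫ b)) := by simp only [Category.assoc]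
        _ = inv (b ≫ a) ≫ b := by rw [h2, Category.comp_id]
    rw [h3, Category.assoc, h1]

/-- A morphism of distinguished triangles whose first two components form a homotopy
equivalence of arrows has invertible third component. -/
lemma isIso_hom₃_of_homotopyEquiv {T T' : Triangle D} (hT : T ∈ distTriang D)
    (hT' : T' ∈ distTriang D) (φ : T' ⟶ T) (p' : T.obj₁ ⟶ T'.obj₁) (p : T.obj₂ ⟶ T'.obj₂)
    (hp : T.mor₁ ≫ p = p' ≫ T'.mor₁)
    (h1 : φ.hom₁ ≫ p' = 𝟙 _) (h2 : φ.hom₂ ≫ p = 𝟙 _)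
    (H : T.obj₂ ⟶ T.obj₁) (h3 : p' ≫ φ.hom₁ - 𝟙 _ = T.mor₁ ≫ H)
    (h4 : p ≫ φ.hom₂ - 𝟙 _ = H ≫ T.mor₁) : IsIso φ.hom₃ := by
  obtain ⟨e', he1, he2⟩ := complete_distinguished_triangle_morphism T T' hT hT' p' p hp
  have h3' : p' ≫ φ.hom₁ = 𝟙 _ + T.mor₁ ≫ H := by rw [← h3]; abel
  have h4' : p ≫ φ.hom₂ = 𝟙 _ + H ≫ T.mor₁ := by rw [← h4]; abel
  -- the composite on T'
  let θ' : T' ⟶ T' := Triangle.homMk _ _ (𝟙 _) (𝟙 _) (φ.hom₃ ≫ e') (by simp)
    (by
      rw [Category.id_comp, ← Category.assoc, φ.comm₂, Category.assoc, he1,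
        ← Category.assoc, h2, Category.id_comp])
    (by
      rw [CategoryTheory.Functor.map_id, Category.comp_id, Category.assoc, ← he2,
        ← Category.assoc, ← φ.comm₃, Category.assoc, ← Functor.map_comp, h1,
        CategoryTheory.Functor.map_id, Category.comp_id])
  have i1 : IsIso (φ.hom₃ ≫ e') := by
    have : IsIso θ'.hom₃ := isIso₃_of_isIso₁₂ θ' hT' hT'
      (show IsIso (𝟙 T'.obj₁) from inferInstance) (show IsIso (𝟙 T'.obj₂) from inferInstance)
    exact this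
  let θ : T ⟶ T := Triangle.homMk _ _ (𝟙 _) (𝟙 _) (e' ≫ φ.hom₃) (by simp)
    (by
      rw [Category.id_comp, ← Category.assoc, he1, Category.assoc, φ.comm₂, ← Category.assoc,
        h4', Preadditive.add_comp, Category.id_comp, Category.assoc,
        comp_distTriang_mor_zero₁₂ _ hT, comp_zero, add_zero])
    (by
      rw [CategoryTheory.Functor.map_id, Category.comp_id, Category.assoc, ← φ.comm₃,
        ← Category.assoc, ← he2, Category.assoc, ← Functor.map_comp, h3', Functor.map_add,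
        CategoryTheory.Functor.map_id, Preadditive.comp_add, Category.comp_id,
        Functor.map_comp, ← Category.assoc, comp_distTriang_mor_zero₃₁ _ hT, zero_comp,
        add_zero])
  have i2 : IsIso (e' ≫ φ.hom₃) := by
    have : IsIso θ.hom₃ := isIso₃_of_isIso₁₂ θ hT hT
      (show IsIso (𝟙 T.obj₁) from inferInstance) (show IsIso (𝟙 T.obj₂) from inferInstance)
    exact this
  exact isIso_of_comp_isIso φ.hom₃ e'

end Groth.Agent.H2.Hocolim
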