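import Groth.Agent.Lib.Helper2.Hocolim1

/-!
# Homotopy colimit of a subsequence: the combinatorial part
-/

universe v u

open CategoryTheory CategoryTheory.Limits Pretriangulated

namespace Groth.Agent.H2.Hocolim

section index

variable (n : ℕ → ℕ) (hn : StrictMono n)

include hn in
lemma exists_le (m : ℕ) : ∃ i, m ≤ n i := ⟨m, hn.id_le m⟩

open Classical in
/-- The index of the first term of the subsequence at or after `m`. -/
noncomputable def I (m : ℕ) : ℕ := Nat.find (exists_le n hn m)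

/-- The first term of the subsequence at or after `m`. -/
noncomputable def N (m : ℕ) : ℕ := n (I n hn m)

open Classical in
lemma le_N (m : ℕ) : m ≤ N n hn m := Nat.find_spec (exists_le n hn m)

open Classical in
lemma I_le {m i : ℕ} (h : m ≤ n i) : I n hn m ≤ i := Nat.find_min' (exists_le n hn m) h

open Classical in
lemma I_n (i : ℕ) : I n hn (n i) = i := by
  apply le_antisymm (I_le n hn le_rfl)
  by_contra hlt
  push_neg at hlt
  have h1 := le_N n hn (n i)
  have h2 : n (I n hn (n i)) < n i := hn hlt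
  exact absurd h1 (not_le.2 h2)

lemma N_n (i : ℕ) : N n hn (n i) = n i := by
  rw [N, I_n]

lemma I_mono {m m' : ℕ} (h : m ≤ m') : I n hn m ≤ I n hn m' :=
  I_le n hn (h.trans (le_N n hn m'))

lemma I_succ_of_lt {m : ℕ} (h : m < N n hn m) : I n hn (m + 1) = I n hn m :=
  le_antisymm (I_le n hn h) (I_mono n hn (Nat.le_succ m))

lemma N_succ_of_lt {m : ℕ} (h : m < N n hn m) : N n hn (m + 1) = N n hn m := by
  rw [N, I_succ_of_lt n hn h, N]

lemma I_n_succ (i : ℕ) : I n hn (n i + 1) = i + 1 := by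
  apply le_antisymm (I_le n hn (hn (Nat.lt_succ_self i)))
  by_contra hlt
  push_neg at hlt
  have h1 := le_N n hn (n i + 1)
  have h2 : n (I n hn (n i + 1)) ≤ n i := hn.monotone (Nat.lt_succ_iff.1 hlt)
  have : n i + 1 ≤ n i := h1.trans h2
  omega

lemma N_n_succ (i : ℕ) : N n hn (n i + 1) = n (i + 1) := by
  rw [N, I_n_succ]

lemma ne_N_of_mem {i j : ℕ} (h1 : n i < j) (h2 : j < n (i + 1)) : j ≠ N n hn j := by
  intro h
  have h3 : n i < n (I n hn j) := by rw [N] at h; omega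
  have h4 : n (I n hn j) < n (i + 1) := by rw [N] at h; omega
  have h5 := hn.lt_iff_lt.1 h3
  have h6 := hn.lt_iff_lt.1 h4
  omega

lemma eq_N_or_lt (m : ℕ) : m = N n hn m ∨ m < N n hn m := by
  have := le_N n hn m
  omega

end index

section tau

variable {D : Type u} [Category.{v} D] [Preadditive D]
variable (F : ℕ ⥤ D) [HasCoproduct (fun m : ℕ => F.obj m)]

/-- The transition maps of the system. -/
abbrev ff (m : ℕ) : F.obj m ⟶ F.obj (m + 1) := F.map (homOfLE (Nat.le_succ m))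

/-- Transition `K_m ⟶ K_j` followed by the inclusion of the summand `j` (zero if `j < m`). -/
noncomputable def τ (m j : ℕ) : F.obj m ⟶ ∐ (fun m : ℕ => F.obj m) :=
  if h : m ≤ j then F.map (homOfLE h) ≫ Sigma.ι (fun m : ℕ => F.obj m) j else 0

lemma τ_self (m : ℕ) : τ F m m = Sigma.ι (fun m : ℕ => F.obj m) m := by
  rw [τ, dif_pos le_rfl]
  have : homOfLE (le_refl m) = 𝟙 m := Subsingleton.elim _ _
  rw [this, CategoryTheory.Functor.map_id, Category.id_comp]

lemma τ_of_le {m j : ℕ} (h : m ≤ j) :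
    τ F m j = F.map (homOfLE h) ≫ Sigma.ι (fun m : ℕ => F.obj m) j := by
  rw [τ, dif_pos h]

lemma τ_succ {m j : ℕ} (h : m + 1 ≤ j) : ff F m ≫ τ F (m + 1) j = τ F m j := by
  rw [τ_of_le F h, τ_of_le F ((Nat.le_succ m).trans h), ← Category.assoc, ← F.map_comp]
  rfl

lemma τ_trans {m m' j : ℕ} (h : m ≤ m') (h' : m' ≤ j) :
    F.map (homOfLE h) ≫ τ F m' j = τ F m j := by
  rw [τ_of_le F h', τ_of_le F (h.trans h'), ← Category.assoc, ← F.map_comp]
  rfl

lemma τ_shift {m j : ℕ} (h : m ≤ j) :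
    τ F m j ≫ DerLim.shiftMap (fun m : ℕ => F.obj m) (fun m => ff F m) = τ F m (j + 1) := by
  rw [τ_of_le F h, τ_of_le F (h.trans (Nat.le_succ j)), Category.assoc, DerLim.shiftMap]
  erw [Sigma.ι_desc]
  rw [← Category.assoc, ← F.map_comp]
  rfl

lemma τ_u {m j : ℕ} (h : m ≤ j) :
    τ F m j ≫ (𝟙 _ - DerLim.shiftMap (fun m : ℕ => F.obj m) (fun m => ff F m)) =
      τ F m j - τ F m (j + 1) := by
  rw [Preadditive.comp_sub, Category.comp_id, τ_shift F h]

lemma sum_τ_u (m M : ℕ) (h : m ≤ M) :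
    (∑ j ∈ Finset.Ico m M, τ F m j) ≫
      (𝟙 _ - DerLim.shiftMap (fun m : ℕ => F.obj m) (fun m => ff F m)) = τ F m m - τ F m M := by
  rw [Preadditive.sum_comp]
  have h1 : ∀ j ∈ Finset.Ico m M,
      τ F m j ≫ (𝟙 _ - DerLim.shiftMap (fun m : ℕ => F.obj m) (fun m => ff F m)) =
        (-(τ F m (j + 1))) - (-(τ F m j)) := by
    intro j hj
    rw [τ_u F (Finset.mem_Ico.1 hj).1]
    abel
  rw [Finset.sum_congr rfl h1, Finset.sum_Ico_sub (fun j => -(τ F m j)) h]
  abel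

end tau

section tau'

variable {D : Type u} [Category.{v} D] [Preadditive D]
variable (F : ℕ ⥤ D) (n : ℕ → ℕ) (hn : StrictMono n)
  [HasCoproduct (fun i : ℕ => F.obj (n i))]

/-- The transition maps of the subsequence. -/
abbrev gg (i : ℕ) : F.obj (n i) ⟶ F.obj (n (i + 1)) :=
  F.map (homOfLE (hn.monotone (Nat.le_succ i)))

/-- Transition `K_m ⟶ K_{n i}` followed by the inclusion of the summand `i`
(zero if `n i < m`). -/
noncomputable def τ' (m i : ℕ) : F.obj m ⟶ ∐ (fun i : ℕ => F.obj (n i)) :=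
  if h : m ≤ n i then F.map (homOfLE h) ≫ Sigma.ι (fun i : ℕ => F.obj (n i)) i else 0

lemma τ'_self (i : ℕ) : τ' F n (n i) i = Sigma.ι (fun i : ℕ => F.obj (n i)) i := by
  rw [τ', dif_pos le_rfl]
  have : homOfLE (le_refl (n i)) = 𝟙 (n i) := Subsingleton.elim _ _
  rw [this, CategoryTheory.Functor.map_id, Category.id_comp]

lemma τ'_of_le {m i : ℕ} (h : m ≤ n i) :
    τ' F n m i = F.map (homOfLE h) ≫ Sigma.ι (fun i : ℕ => F.obj (n i)) i := by
  rw [τ', dif_pos h]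

lemma τ'_succ {m i : ℕ} (h : m + 1 ≤ n i) : ff F m ≫ τ' F n (m + 1) i = τ' F n m i := by
  rw [τ'_of_le F n h, τ'_of_le F n ((Nat.le_succ m).trans h), ← Category.assoc, ← F.map_comp]
  rfl

lemma τ'_trans {m m' i : ℕ} (h : m ≤ m') (h' : m' ≤ n i) :
    F.map (homOfLE h) ≫ τ' F n m' i = τ' F n m i := by
  rw [τ'_of_le F n h', τ'_of_le F n (h.trans h'), ← Category.assoc, ← F.map_comp]
  rfl

lemma τ'_shift {m i : ℕ} (h : m ≤ n i) :
    τ' F n m i ≫ DerLim.shiftMap (fun i : ℕ => F.obj (n i)) (fun i => gg F n hn i) =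
      τ' F n m (i + 1) := by
  rw [τ'_of_le F n h, τ'_of_le F n (h.trans (hn.monotone (Nat.le_succ i))), Category.assoc,
    DerLim.shiftMap]
  erw [Sigma.ι_desc]
  rw [← Category.assoc, ← F.map_comp]
  rfl

lemma τ'_u' {m i : ℕ} (h : m ≤ n i) :
    τ' F n m i ≫ (𝟙 _ - DerLim.shiftMap (fun i : ℕ => F.obj (n i)) (fun i => gg F n hn i)) =
      τ' F n m i - τ' F n m (i + 1) := by
  rw [Preadditive.comp_sub, Category.comp_id, τ'_shift F n hn h]

variable [HasCoproduct (fun m : ℕ => F.obj m)]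

/-- The inclusion of the subsequence summands. -/
noncomputable def β : (∐ (fun i : ℕ => F.obj (n i))) ⟶ ∐ (fun m : ℕ => F.obj m) :=
  Sigma.desc (fun i => Sigma.ι (fun m : ℕ => F.obj m) (n i))

lemma ι_β (i : ℕ) :
    Sigma.ι (fun i : ℕ => F.obj (n i)) i ≫ β F n = Sigma.ι (fun m : ℕ => F.obj m) (n i) := by
  rw [β]
  erw [Sigma.ι_desc]

lemma τ'_β {m i : ℕ} (h : m ≤ n i) : τ' F n m i ≫ β F n = τ F m (n i) := by
  rw [τ'_of_le F n h, τ_of_le F h, Category.assoc, ι_β]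

/-- Push each summand to the next term of the subsequence. -/
noncomputable def π : (∐ (fun m : ℕ => F.obj m)) ⟶ ∐ (fun i : ℕ => F.obj (n i)) :=
  Sigma.desc (fun m => τ' F n m (I n hn m))

lemma ι_π (m : ℕ) :
    Sigma.ι (fun m : ℕ => F.obj m) m ≫ π F n hn = τ' F n m (I n hn m) := by
  rw [π]
  erw [Sigma.ι_desc]

open Classical in
/-- Project onto the subsequence summands. -/
noncomputable def ρ : (∐ (fun m : ℕ => F.obj m)) ⟶ ∐ (fun i : ℕ => F.obj (n i)) :=
  Sigma.desc (fun m => if m = N n hn m then τ' F n m (I n hn m) else 0)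

open Classical in
lemma ι_ρ (m : ℕ) :
    Sigma.ι (fun m : ℕ => F.obj m) m ≫ ρ F n hn =
      if m = N n hn m then τ' F n m (I n hn m) else 0 := by
  rw [ρ]
  erw [Sigma.ι_desc]

lemma ι_ρ_n (i : ℕ) :
    Sigma.ι (fun m : ℕ => F.obj m) (n i) ≫ ρ F n hn = Sigma.ι (fun i : ℕ => F.obj (n i)) i := by
  rw [ι_ρ, if_pos (N_n n hn i).symm, I_n, τ'_self]

lemma ι_ρ_of_lt {m : ℕ} (h : m < N n hn m) :
    Sigma.ι (fun m : ℕ => F.obj m) m ≫ ρ F n hn = 0 := by
  rw [ι_ρ, if_neg (ne_of_lt h)]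

/-- The partial sums. -/
noncomputable def η (m : ℕ) : F.obj m ⟶ ∐ (fun m : ℕ => F.obj m) :=
  ∑ j ∈ Finset.Ico m (N n hn m), τ F m j

/-- The comparison map on the first terms. -/
noncomputable def α : (∐ (fun i : ℕ => F.obj (n i))) ⟶ ∐ (fun m : ℕ => F.obj m) :=
  Sigma.desc (fun i => ∑ j ∈ Finset.Ico (n i) (n (i + 1)), τ F (n i) j)

lemma ι_α (i : ℕ) : Sigma.ι (fun i : ℕ => F.obj (n i)) i ≫ α F n =
    ∑ j ∈ Finset.Ico (n i) (n (i + 1)), τ F (n i) j := by
  rw [α]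
  erw [Sigma.ι_desc]

/-- The homotopy. -/
noncomputable def HH : (∐ (fun m : ℕ => F.obj m)) ⟶ ∐ (fun m : ℕ => F.obj m) :=
  Sigma.desc (fun m => - η F n hn m)

lemma ι_HH (m : ℕ) : Sigma.ι (fun m : ℕ => F.obj m) m ≫ HH F n hn = - η F n hn m := by
  rw [HH]
  erw [Sigma.ι_desc]

end tau'

end Groth.Agent.H2.Hocolim
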