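import Groth.Agent.Lib.Helper2.Hocolim2

/-!
# Homotopy colimit of a subsequence: the identities
-/

universe v u

open CategoryTheory CategoryTheory.Limits Pretriangulated

namespace Groth.Agent.H2.Hocolim

variable {D : Type u} [Category.{v} D] [Preadditive D]
variable (F : ℕ ⥤ D) (n : ℕ → ℕ) (hn : StrictMono n)
  [HasCoproduct (fun i : ℕ => F.obj (n i))] [HasCoproduct (fun m : ℕ => F.obj m)]

/-- `1 - shift` on the full coproduct. -/
noncomputable abbrev uS : (∐ (fun m : ℕ => F.obj m)) ⟶ ∐ (fun m : ℕ => F.obj m) :=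
  𝟙 _ - DerLim.shiftMap (fun m : ℕ => F.obj m) (fun m => ff F m)

/-- `1 - shift` on the coproduct of the subsequence. -/
noncomputable abbrev uS' : (∐ (fun i : ℕ => F.obj (n i))) ⟶ ∐ (fun i : ℕ => F.obj (n i)) :=
  𝟙 _ - DerLim.shiftMap (fun i : ℕ => F.obj (n i)) (fun i => gg F n hn i)

lemma ι_uS (m : ℕ) : Sigma.ι (fun m : ℕ => F.obj m) m ≫ uS F =
    Sigma.ι (fun m : ℕ => F.obj m) m - ff F m ≫ Sigma.ι (fun m : ℕ => F.obj m) (m + 1) := by
  have h := τ_u F (le_refl m)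
  rw [τ_self, ← τ_succ F (le_refl (m + 1)), τ_self] at h
  exact h

lemma α_uS : α F n ≫ uS F = uS' F n hn ≫ β F n := by
  apply Sigma.hom_ext
  intro i
  have e1 : Sigma.ι (fun i : ℕ => F.obj (n i)) i ≫ α F n ≫ uS F =
      τ F (n i) (n i) - τ F (n i) (n (i + 1)) := by
    rw [← Category.assoc, ι_α]
    exact sum_τ_u F (n i) (n (i + 1)) (hn.monotone (Nat.le_succ i))
  have e2 : Sigma.ι (fun i : ℕ => F.obj (n i)) i ≫ uS' F n hn ≫ β F n =
      τ F (n i) (n i) - τ F (n i) (n (i + 1)) := by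
    rw [← τ'_self F n i, ← Category.assoc, τ'_u' F n hn (le_refl (n i)), Preadditive.sub_comp,
      τ'_β F n (le_refl (n i)), τ'_β F n (hn.monotone (Nat.le_succ i))]
  exact e1.trans e2.symm

lemma uS_π_n (i : ℕ) : Sigma.ι (fun m : ℕ => F.obj m) (n i) ≫ uS F ≫ π F n hn =
    Sigma.ι (fun m : ℕ => F.obj m) (n i) ≫ ρ F n hn ≫ uS' F n hn := by
  rw [← Category.assoc, ι_uS, Preadditive.sub_comp, ι_π, Category.assoc, ι_π, I_n, I_n_succ,
    τ'_succ F n (hn (Nat.lt_succ_self i)), ← Category.assoc, ι_ρ_n, ← τ'_self F n i,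
    τ'_u' F n hn (le_refl (n i))]

lemma uS_π : uS F ≫ π F n hn = ρ F n hn ≫ uS' F n hn := by
  apply Sigma.hom_ext
  intro m
  rcases eq_N_or_lt n hn m with h | h
  · obtain ⟨i, rfl⟩ : ∃ i, m = n i := ⟨I n hn m, h⟩
    exact uS_π_n F n hn i
  · have e1 : Sigma.ι (fun m : ℕ => F.obj m) m ≫ uS F ≫ π F n hn = 0 := by
      rw [← Category.assoc, ι_uS, Preadditive.sub_comp, ι_π, Category.assoc, ι_π,
        I_succ_of_lt n hn h, τ'_succ F n h, sub_self]
    have e2 : Sigma.ι (fun m : ℕ => F.obj m) m ≫ ρ F n hn ≫ uS' F n hn = 0 := by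
      rw [← Category.assoc, ι_ρ_of_lt F n hn h, zero_comp]
    exact e1.trans e2.symm

lemma α_ρ : α F n ≫ ρ F n hn = 𝟙 _ := by
  apply Sigma.hom_ext
  intro i
  rw [← Category.assoc, ι_α, Preadditive.sum_comp, Category.comp_id]
  rw [Finset.sum_eq_single (n i)]
  · rw [τ_self, ι_ρ_n]
  · intro j hj hne
    have hj' := Finset.mem_Ico.1 hj
    have h1 : n i < j := lt_of_le_of_ne hj'.1 (Ne.symm hne)
    have h2 := ne_N_of_mem n hn h1 hj'.2
    have h3 : j < N n hn j := lt_of_le_of_ne (le_N n hn j) h2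
    rw [τ_of_le F hj'.1, Category.assoc, ι_ρ_of_lt F n hn h3, comp_zero]
  · intro h
    exact absurd (Finset.mem_Ico.2 ⟨le_rfl, hn (Nat.lt_succ_self i)⟩) h

lemma β_π : β F n ≫ π F n hn = 𝟙 _ := by
  apply Sigma.hom_ext
  intro i
  rw [← Category.assoc, ι_β, ι_π, I_n, τ'_self, Category.comp_id]

lemma ff_η (m : ℕ) :
    ff F m ≫ η F n hn (m + 1) = ∑ j ∈ Finset.Ico (m + 1) (N n hn (m + 1)), τ F m j := by
  rw [η, Preadditive.comp_sum]
  apply Finset.sum_congr rfl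
  intro j hj
  exact τ_succ F (Finset.mem_Ico.1 hj).1

lemma ρ_α_HH : ρ F n hn ≫ α F n - 𝟙 _ = uS F ≫ HH F n hn := by
  apply Sigma.hom_ext
  intro m
  have eR : Sigma.ι (fun m : ℕ => F.obj m) m ≫ uS F ≫ HH F n hn =
      - η F n hn m + ff F m ≫ η F n hn (m + 1) := by
    rw [← Category.assoc, ι_uS, Preadditive.sub_comp, ι_HH, Category.assoc, ι_HH,
      Preadditive.comp_neg]
    abel
  rw [eR, Preadditive.comp_sub, Category.comp_id]
  rcases eq_N_or_lt n hn m with h | h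
  · obtain ⟨i, rfl⟩ : ∃ i, m = n i := ⟨I n hn m, h⟩
    have e1 : η F n hn (n i) = 0 := by
      rw [η, N_n, Finset.Ico_self, Finset.sum_empty]
    rw [← Category.assoc, ι_ρ_n, ι_α, e1, ff_η, N_n_succ,
      Finset.sum_eq_sum_Ico_succ_bot (hn (Nat.lt_succ_self i)), τ_self]
    abel
  · rw [← Category.assoc, ι_ρ_of_lt F n hn h, zero_comp, ff_η, N_succ_of_lt n hn h, η,
      Finset.sum_eq_sum_Ico_succ_bot h, τ_self]
    abel

lemma π_β_HH : π F n hn ≫ β F n - 𝟙 _ = HH F n hn ≫ uS F := by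
  apply Sigma.hom_ext
  intro m
  rw [Preadditive.comp_sub, Category.comp_id, ← Category.assoc, ι_π, τ'_β F n (le_N n hn m),
    ← Category.assoc, ι_HH, Preadditive.neg_comp, η, sum_τ_u F m _ (le_N n hn m), τ_self]
  rw [N]
  abel

end Groth.Agent.H2.Hocolim
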