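import Groth.Agent.Lib.Helper2.Hocolim3

/-!
# Homotopy colimit of a subsequence
-/

universe v u

open CategoryTheory CategoryTheory.Limits Pretriangulated

namespace Groth.Agent.H2.Hocolim

variable {D : Type u} [Category.{v} D] [Preadditive D] [HasZeroObject D] [HasShift D ℤ]
  [∀ n : ℤ, (shiftFunctor D n).Additive] [Pretriangulated D]

theorem hocolim_subsequence (F : ℕ ⥤ D) (n : ℕ → ℕ) (hn : StrictMono n)
    [HasCoproduct (fun m : ℕ => F.obj m)] [HasCoproduct (fun i : ℕ => F.obj (n i))]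
    (L : D) (ι : ∀ m : ℕ, F.obj m ⟶ L)
    (hL : DerLim.IsHocolim (fun m : ℕ => F.obj m)
      (fun m : ℕ => F.map (homOfLE (Nat.le_succ m))) L ι)
    (L' : D) (ι' : ∀ i : ℕ, F.obj (n i) ⟶ L')
    (hL' : DerLim.IsHocolim (fun i : ℕ => F.obj (n i))
      (fun i : ℕ => F.map (homOfLE (hn.monotone (Nat.le_succ i)))) L' ι') :
    ∃ e : L' ≅ L, ∀ i : ℕ, ι' i ≫ e.hom = ι (n i) := by
  obtain ⟨c, hT⟩ := hL
  obtain ⟨c', hT'⟩ := hL'
  let T : Triangle D := Triangle.mk (uS F) (Sigma.desc ι) c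
  let T' : Triangle D := Triangle.mk (uS' F n hn) (Sigma.desc ι') c'
  have hT0 : T ∈ distTriang D := hT
  have hT0' : T' ∈ distTriang D := hT'
  obtain ⟨e, he1, he2⟩ : ∃ e : L' ⟶ L, Sigma.desc ι' ≫ e = β F n ≫ Sigma.desc ι ∧
      c' ≫ (α F n)⟦(1 : ℤ)⟧' = e ≫ c :=
    complete_distinguished_triangle_morphism T' T hT0' hT0
      (α F n) (β F n) (α_uS F n hn).symm
  let φ : T' ⟶ T := Triangle.homMk _ _ (α F n) (β F n) e (α_uS F n hn).symm he1 he2
  have hiso : IsIso φ.hom₃ := isIso_hom₃_of_homotopyEquiv hT0 hT0' φ (ρ F n hn) (π F n hn)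
    (uS_π F n hn) (α_ρ F n hn) (β_π F n hn) (HH F n hn) (ρ_α_HH F n hn) (π_β_HH F n hn)
  have hiso' : IsIso e := hiso
  refine ⟨@asIso _ _ _ _ e hiso', fun i => ?_⟩
  change ι' i ≫ e = ι (n i)
  have : Sigma.ι (fun i : ℕ => F.obj (n i)) i ≫ Sigma.desc ι' ≫ e =
      Sigma.ι (fun i : ℕ => F.obj (n i)) i ≫ β F n ≫ Sigma.desc ι := by rw [he1]
  rw [← Category.assoc, ← Category.assoc, ι_β] at this
  erw [Sigma.ι_desc, Sigma.ι_desc] at this
  exact this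

end Groth.Agent.H2.Hocolim
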