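import Mathlib
import Groth.Agent.Lib.Helper2.PicCodim2
import Groth.Agent.Lib.Lead.QC.FinType

/-!
# Restriction of homomorphisms `M~ → O` to an open of an affine scheme (helper2): S17476
-/

set_option autoImplicit false
set_option linter.style.haveILetI false
universe u
open CategoryTheory Limits AlgebraicGeometry TopologicalSpace Opposite IsLocalRing

namespace Groth.Agent.H2.HomRestrTilde

open Groth.Agent.LD.QC

variable (R : Type u) [CommRing R]

/-- morphisms out of `M~` are determined by their effect on global sections -/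
theorem tilde_hom_ext (M : ModuleCat.{u} (CommRingCat.of R)) {N : (Spec (CommRingCat.of R)).Modules}
    (φ φ' : AlgebraicGeometry.tilde M ⟶ N)
    (h : ∀ s : Γ(AlgebraicGeometry.tilde M, ⊤), φ.app ⊤ s = φ'.app ⊤ s) : φ = φ' := by
  apply (tilde.adjunction.homEquiv M N).injective
  rw [Adjunction.homEquiv_unit, Adjunction.homEquiv_unit]
  congr 1
  ext s
  exact h s

end Groth.Agent.H2.HomRestrTilde

namespace Groth.Agent.H2.HomRestrTilde

open Groth.Agent.LD.QC

lemma injective_res_congr {X : Scheme.{u}} {A A' B B' : X.Opens} (hA : A = A') (hB : B = B')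
    (h : B ≤ A) (h' : B' ≤ A')
    (hi : Function.Injective (X.presheaf.map (homOfLE h).op)) :
    Function.Injective (X.presheaf.map (homOfLE h').op) := by
  subst hA hB; exact hi

variable (R : Type u) [CommRing R]

/-- first part of S17476 -/
theorem injective_restrict (M : ModuleCat.{u} (CommRingCat.of R))
    (U : (Spec (CommRingCat.of R)).Opens)
    (hinj : Function.Injective
      ((Spec (CommRingCat.of R)).presheaf.map (homOfLE (le_top : U ≤ ⊤)).op)) :
    Function.Injective (fun φ : AlgebraicGeometry.tilde M ⟶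
        Coh.structureModule (Spec (CommRingCat.of R)) =>
      (Scheme.Modules.restrictFunctor U.ι).map φ) := by
  intro φ φ' h
  apply tilde_hom_ext
  intro s
  have hU : U.ι ''ᵁ ⊤ = U := by
    rw [Scheme.Hom.image_top_eq_opensRange, Scheme.Opens.opensRange_ι]
  have hle : U.ι ''ᵁ ⊤ ≤ ⊤ := le_top
  have h1 : ∀ t : Γ(AlgebraicGeometry.tilde M, U.ι ''ᵁ ⊤),
      φ.app (U.ι ''ᵁ ⊤) t = φ'.app (U.ι ''ᵁ ⊤) t := by
    intro t
    have := congrArg (fun ψ => (Scheme.Modules.Hom.app ψ ⊤) t) h
    exact this
  have h2 := app_res φ hle s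
  have h2' := app_res φ' hle s
  have h3 : (unitMod (Spec (CommRingCat.of R))).presheaf.map (homOfLE hle).op (φ.app ⊤ s) =
      (unitMod (Spec (CommRingCat.of R))).presheaf.map (homOfLE hle).op (φ'.app ⊤ s) := by
    rw [← h2, ← h2', h1]
  have hinj' : Function.Injective
      ((Spec (CommRingCat.of R)).presheaf.map (homOfLE hle).op) :=
    injective_res_congr rfl hU.symm _ _ hinj
  exact hinj' h3

end Groth.Agent.H2.HomRestrTilde

namespace Groth.Agent.H2.HomRestrTilde

open Groth.Agent.LD.QC Groth.Agent.H2.PicCodim2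

variable (R : Type u) [CommRing R] [IsNoetherianRing R]

/-- second part of S17476 -/
theorem bijective_restrict (M : ModuleCat.{u} (CommRingCat.of R)) [Module.Finite R M]
    (U : (Spec (CommRingCat.of R)).Opens) (hd : IsDomain R) (hn : IsIntegrallyClosed R)
    (h : ∀ p : PrimeSpectrum R, p ∉ U → (2 : ℕ∞) ≤ p.asIdeal.height) :
    Function.Bijective (fun φ : AlgebraicGeometry.tilde M ⟶
        Coh.structureModule (Spec (CommRingCat.of R)) =>
      (Scheme.Modules.restrictFunctor U.ι).map φ) := by
  have hOc := isCoh_of_isInvertible (unitMod (Spec (CommRingCat.of R))) (isInvertible_unit _)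
  have hMc : Coh.IsCoh (AlgebraicGeometry.tilde M) :=
    ⟨inferInstance, (spec_isFiniteType_tilde_iff M).2 ‹_›⟩
  refine Groth.Agent.H1.Depth2Coh.s14995 (Spec (CommRingCat.of R))
    (Coh.structureModule (Spec (CommRingCat.of R))) (AlgebraicGeometry.tilde M) hOc hMc U ?_
  intro y hy
  rw [depth_stalk_of_isInvertible (unitMod (Spec (CommRingCat.of R))) (isInvertible_unit _) y]
  letI k : Algebra R ((Spec (CommRingCat.of R)).presheaf.stalk y) :=
    StructureSheaf.stalkAlgebra R y
  haveI hloc : IsLocalization.AtPrime ((Spec (CommRingCat.of R)).presheaf.stalk y) y.asIdeal :=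
    StructureSheaf.IsLocalization.to_stalk R y
  haveI : IsDomain ((Spec (CommRingCat.of R)).presheaf.stalk y) :=
    IsLocalization.isDomain_of_atPrime _ y.asIdeal
  haveI : IsIntegrallyClosed ((Spec (CommRingCat.of R)).presheaf.stalk y) :=
    isIntegrallyClosed_of_isLocalization _ y.asIdeal.primeCompl
      y.asIdeal.primeCompl_le_nonZeroDivisors
  apply two_le_depth_of_normal
  rw [IsLocalization.AtPrime.ringKrullDim_eq_height y.asIdeal
    ((Spec (CommRingCat.of R)).presheaf.stalk y)]
  exact WithBot.coe_le_coe.mpr (h y hy)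

end Groth.Agent.H2.HomRestrTilde
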