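import Mathlib
import Groth.Agent.Lib.Helper2.HomStalk
import Groth.Agent.Lib.Helper2.GenComb
import Groth.Agent.Lib.Lead.QC.Gen

/-!
# Injectivity of `𝓗om(F, G)_x → Hom(F_x, G_x)` for `F` of finite type (helper2): S16484
-/

set_option autoImplicit false
set_option linter.style.haveILetI false
universe u
open CategoryTheory Limits AlgebraicGeometry TopologicalSpace Opposite

namespace Groth.Agent.H2.HomStalk

open Groth.Agent.LD.QC

attribute [-instance] Groth.Agent.LD.QC.stalkModule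

variable {X : Scheme.{u}} (F G : X.Modules)

/-- if `F|_U` is generated by finitely many sections, then a linear map out of a stalk `F_y`,
`y ∈ U`, killing the germs of these sections vanishes -/
theorem stalkHom_eq_zero_of_gen (U : X.Opens) (σ : (F.restrict U.ι).GeneratingSections)
    [Fintype σ.I] (y : X) (hyU : y ∈ U) (φ : RefHull.StalkHom F G y)
    (h : ∀ i, φ (F.presheaf.germ (U.ι ''ᵁ (⊤ : (U : Scheme.{u}).Opens)) y ⟨⟨y, hyU⟩, trivial, rfl⟩
      (show Γ(F, U.ι ''ᵁ (⊤ : (U : Scheme.{u}).Opens)) from (σ.s i).1 (op ⊤))) = 0) : φ = 0 := by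
  ext a
  obtain ⟨V, hyV, m, rfl⟩ := TopCat.Presheaf.exists_germ_eq F.presheaf a
  let V' : (U : Scheme.{u}).Opens := U.ι ⁻¹ᵁ V
  have hV'V : U.ι ''ᵁ V' ≤ V := U.ι.image_preimage_le V
  let y' : (U : Scheme.{u}) := ⟨y, hyU⟩
  have hy'V' : y' ∈ V' := hyV
  let m₁ : Γ(F.restrict U.ι, V') := F.presheaf.map (homOfLE hV'V).op m
  obtain ⟨W', hW', hy'W', r, hr⟩ := GenComb.exists_local_comb (F.restrict U.ι) σ V' m₁ y' hy'V'
  have hyW'' : y ∈ U.ι ''ᵁ W' := ⟨y', hy'W', rfl⟩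
  have hW''V : U.ι ''ᵁ W' ≤ V := (U.ι.image_mono hW').trans hV'V
  have hW''T : U.ι ''ᵁ W' ≤ U.ι ''ᵁ (⊤ : (U : Scheme.{u}).Opens) := U.ι.image_mono le_top
  -- the equation in `Γ(F, U.ι ''ᵁ W')`
  have e1 : F.presheaf.map (homOfLE hW''V).op m =
      ∑ i, (U.ι.appIso W').inv (r i) •
        F.presheaf.map (homOfLE hW''T).op
          (show Γ(F, U.ι ''ᵁ (⊤ : (U : Scheme.{u}).Opens)) from (σ.s i).1 (op ⊤)) := by
    have e2 : F.presheaf.map (homOfLE hW''V).op m =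
        (F.restrict U.ι).presheaf.map (homOfLE hW').op m₁ := by
      change _ = F.presheaf.map _ (F.presheaf.map _ m)
      rw [← ConcreteCategory.comp_apply, ← Functor.map_comp]
      rfl
    rw [e2, hr]
    refine Finset.sum_congr rfl fun i _ => ?_
    have e3 : (show Γ(F.restrict U.ι, W') from (σ.s i).1 (op W')) =
        F.presheaf.map (homOfLE hW''T).op
          (show Γ(F, U.ι ''ᵁ (⊤ : (U : Scheme.{u}).Opens)) from (σ.s i).1 (op ⊤)) :=
      (PresheafOfModules.sections_property (σ.s i) (homOfLE (le_top : W' ≤ ⊤)).op).symm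
    rw [e3]
    rfl
  have e4 : F.presheaf.germ V y hyV m =
      F.presheaf.germ (U.ι ''ᵁ W') y hyW'' (F.presheaf.map (homOfLE hW''V).op m) :=
    (germ_res F y hW''V hyW'' m).symm
  rw [e4, e1, map_sum, map_sum, LinearMap.zero_apply]
  refine Finset.sum_eq_zero fun i _ => ?_
  rw [Mero.germ_smul, map_smul, germ_res, h i, smul_zero]

/-- **S16484: injectivity of `𝓗om(F, G)_x → Hom(F_x, G_x)`** for `F` of finite type -/
theorem evalStalk_injective (hF : F.IsFiniteType) (x : X) :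
    Function.Injective (RefHull.evalStalk F G x) := by
  rw [injective_iff_map_eq_zero]
  intro θ hθ
  obtain ⟨U', hxU', g, rfl⟩ := TopCat.Presheaf.exists_germ_eq (RefHull.homSh F G).presheaf θ
  rw [RefHull.evalStalk_germ] at hθ
  obtain ⟨U, hxU, σ, hσ⟩ := (isFiniteType_iff_forall_exists F).mp hF x
  haveI : Finite σ.I := hσ
  haveI : Fintype σ.I := Fintype.ofFinite _
  let U₁ : X.Opens := U.ι ''ᵁ (⊤ : (U : Scheme.{u}).Opens)
  have hxU₁ : x ∈ U₁ := ⟨⟨x, hxU⟩, trivial, rfl⟩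
  have hU₁U : U₁ ≤ U := by
    rintro y ⟨z, _, rfl⟩
    exact z.2
  let V₀ : X.Opens := U₁ ⊓ U'
  have hxV₀ : x ∈ V₀ := ⟨hxU₁, hxU'⟩
  have hV₀U' : V₀ ≤ U' := inf_le_right
  have hV₀U₁ : V₀ ≤ U₁ := inf_le_left
  let ms : σ.I → Γ(F, U₁) := fun i => (σ.s i).1 (op ⊤)
  choose W hxW hW using fun i : σ.I =>
    exists_nbhd_kill F G g hV₀U' x hxV₀ hθ (F.presheaf.map (homOfLE hV₀U₁).op (ms i))
  let W₀ : X.Opens := V₀ ⊓ ⨅ i : σ.I, W i
  have hxW₀ : x ∈ W₀ := by
    refine ⟨hxV₀, ?_⟩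
    rw [SetLike.mem_coe, ← SetLike.mem_coe, Opens.coe_iInf]
    exact Set.mem_iInter.mpr fun i => hxW i
  have hW₀U' : W₀ ≤ U' := inf_le_left.trans hV₀U'
  have hzero : ∀ (y : X) (hy : y ∈ W₀), g.1 ⟨y, hW₀U' hy⟩ = 0 := by
    intro y hy
    have hyV₀ : y ∈ V₀ := hy.1
    have hyU : y ∈ U := hU₁U (hV₀U₁ hyV₀)
    apply stalkHom_eq_zero_of_gen F G U σ y hyU
    intro i
    have hyW : y ∈ W i := by
      have h1 : y ∈ ((⨅ i : σ.I, W i : X.Opens) : Set X) := hy.2
      rw [Opens.coe_iInf] at h1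
      exact Set.mem_iInter.mp h1 i
    have h2 := hW i y hyW hyV₀
    rw [germ_res] at h2
    exact h2
  have hres : (RefHull.homSh F G).presheaf.map (homOfLE hW₀U').op g = 0 := by
    apply Subtype.ext
    funext y
    exact hzero y.1 y.2
  rw [← germ_res (RefHull.homSh F G) x hW₀U' hxW₀ g, hres, map_zero]

end Groth.Agent.H2.HomStalk
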