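import Mathlib

/-!
# Helper2: the short exact sequence `0 → A₃ → H → C₁ → 0` for the homology of `A₁ → B₂ → C₃`
-/

namespace Groth.Agent.H2.HomolSES

open CategoryTheory CategoryTheory.Limits

universe v u

variable {C : Type u} [Category.{v} C] [Abelian C] (S : ShortComplex C) {A₂ A₃ C₁ C₂ : C}
    (i₁ : S.X₁ ⟶ A₂) (p₁ : A₂ ⟶ A₃) (wA : i₁ ≫ p₁ = 0) (hA : (ShortComplex.mk i₁ p₁ wA).ShortExact)
    (i₂ : A₂ ⟶ S.X₂) (π₂ : S.X₂ ⟶ C₂) (wB : i₂ ≫ π₂ = 0) (hB : (ShortComplex.mk i₂ π₂ wB).ShortExact)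
    (j : C₁ ⟶ C₂) (q : C₂ ⟶ S.X₃) (wC : j ≫ q = 0) (hC : (ShortComplex.mk j q wC).ShortExact)
    (hSf : S.f = i₁ ≫ i₂) (hSg : S.g = π₂ ≫ q)
    (h₂ : i₂ ≫ S.g = 0) (h₃ : S.f ≫ π₂ = 0)
    (f : A₃ ⟶ S.homology) (g : S.homology ⟶ C₁)
    (hf : p₁ ≫ f = S.liftCycles i₂ h₂ ≫ S.homologyπ)
    (hg : g ≫ j = S.homologyι ≫ S.descOpcycles π₂ h₃)

include hA hB hC hSf hSg hf hg in
theorem main : ∃ wfg : f ≫ g = 0, (ShortComplex.mk f g wfg).ShortExact := by
  have : Mono i₂ := hB.mono_f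
  have : Epi π₂ := hB.epi_g
  have : Mono j := hC.mono_f
  have : Epi p₁ := hA.epi_g
  -- key identities
  have hπι : S.homologyπ ≫ S.homologyι ≫ S.descOpcycles π₂ h₃ = S.iCycles ≫ π₂ := by
    rw [← Category.assoc, S.homology_π_ι, Category.assoc, S.p_descOpcycles]
  have wfg : f ≫ g = 0 := by
    rw [← cancel_epi p₁, ← cancel_mono j]
    rw [Category.assoc, Category.assoc, hg, reassoc_of% hf, hπι, S.liftCycles_i_assoc, wB]
    simp
  refine ⟨wfg, ?_⟩
  have hmono : Mono f := by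
    apply Preadditive.mono_of_cancel_zero
    intro T x hx
    obtain ⟨T', π, hπ, y, hy⟩ := surjective_up_to_refinements_of_epi p₁ x
    have h1 : (y ≫ S.liftCycles i₂ h₂) ≫ S.homologyπ = 0 := by
      rw [Category.assoc, ← hf, ← reassoc_of% hy, hx, comp_zero]
    rw [ShortComplex.comp_homologyπ_eq_zero_iff_up_to_refinements] at h1
    obtain ⟨T'', π', hπ', z, hz⟩ := h1
    have h2 : z ≫ i₁ = π' ≫ y := by
      rw [← cancel_mono i₂]
      have := hz =≫ S.iCycles
      simp only [Category.assoc, S.liftCycles_i, S.toCycles_i] at this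
      rw [Category.assoc, ← hSf, Category.assoc]
      exact this.symm
    have h3 : (π' ≫ π) ≫ x = 0 := by
      rw [Category.assoc, hy, ← reassoc_of% h2, wA, comp_zero]
    have : Epi (π' ≫ π) := epi_comp _ _
    rwa [← cancel_epi (π' ≫ π), comp_zero]
  have hepi : Epi g := by
    rw [epi_iff_surjective_up_to_refinements]
    intro T x
    obtain ⟨T', π, hπ, y, hy⟩ := surjective_up_to_refinements_of_epi π₂ (x ≫ j)
    have hy0 : y ≫ S.g = 0 := by
      rw [hSg, ← reassoc_of% hy, wC, comp_zero, comp_zero]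
    refine ⟨T', π, hπ, S.liftCycles y hy0 ≫ S.homologyπ, ?_⟩
    rw [← cancel_mono j, Category.assoc, Category.assoc, Category.assoc, hg, hπι,
      S.liftCycles_i_assoc, hy]
  have hex : (ShortComplex.mk f g wfg).Exact := by
    rw [ShortComplex.exact_iff_exact_up_to_refinements]
    intro T x hx
    dsimp at x hx
    obtain ⟨T', π, hπ, y, hy⟩ := surjective_up_to_refinements_of_epi S.homologyπ x
    have h1 : (y ≫ S.iCycles) ≫ π₂ = 0 := by
      rw [Category.assoc, ← hπι, ← reassoc_of% hy, ← hg, reassoc_of% hx, zero_comp, comp_zero]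
    obtain ⟨T'', π', hπ', z, hz⟩ := hB.exact.exact_up_to_refinements (y ≫ S.iCycles) h1
    dsimp at z hz
    refine ⟨T'', π' ≫ π, epi_comp _ _, z ≫ p₁, ?_⟩
    dsimp
    rw [Category.assoc, Category.assoc, hf, hy]
    have h2 : z ≫ S.liftCycles i₂ h₂ = π' ≫ y := by
      rw [← cancel_mono S.iCycles, Category.assoc, S.liftCycles_i, Category.assoc, hz]
    rw [reassoc_of% h2]
  exact ShortComplex.ShortExact.mk' hex hmono hepi

end Groth.Agent.H2.HomolSES
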