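import Groth.Agent.Lib.Helper2.HopfConv
import Groth.Prelude.Def_LieHopf
import Mathlib.RingTheory.HopfAlgebra.Convolution
import Mathlib.Tactic.NoncommRing
import Mathlib.Tactic.Abel
import Mathlib.Tactic.Ring
set_option autoImplicit false
universe u
open TensorProduct WithConv

namespace Groth.Agent.H2

section
variable (k : Type u) [CommRing k] (A : Type u) [CommRing A] [HopfAlgebra k A]
  (R : Type u) [CommRing R] [Algebra k R]

/-- The map from the convolution monoid of points to the convolution ring of linear maps. -/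
noncomputable def lin (f : WithConv (A →ₐ[k] R)) : WithConv (A →ₗ[k] R) :=
  toConv f.ofConv.toLinearMap

variable {k A R}

lemma lin_mul (f g : WithConv (A →ₐ[k] R)) : lin k A R (f * g) = lin k A R f * lin k A R g :=
  AlgHom.toLinearMap_convMul f g

lemma lin_one : lin k A R 1 = 1 := AlgHom.toLinearMap_convOne

lemma lin_mul_lin_comp_antipode (x : A →ₐ[k] R) :
    lin k A R (toConv x) * lin k A R (toConv (x.comp (HopfAlgebra.antipodeAlgHom k A))) = 1 := by
  have h := LinearMap.algHom_comp_convMul_distrib (R := k) (C := A) x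
    (toConv LinearMap.id) (toConv (HopfAlgebra.antipode k (A := A)))
  rw [LinearMap.id_mul_antipode] at h
  apply WithConv.ofConv_injective
  have h' : (lin k A R (toConv x) * lin k A R (toConv (x.comp (HopfAlgebra.antipodeAlgHom k A)))).ofConv
      = (toConv (x.toLinearMap ∘ₗ (toConv (LinearMap.id : A →ₗ[k] A)).ofConv) *
        toConv (x.toLinearMap ∘ₗ (toConv (HopfAlgebra.antipode k (A := A))).ofConv)).ofConv := rfl
  rw [h', ← h]
  apply LinearMap.ext
  intro a
  simp [LinearMap.convOne_def]

/-- the linear map a ↦ algebraMap (D a) -/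
noncomputable def dl (D : LieHopf.Lie k A) : WithConv (A →ₗ[k] R) :=
  toConv ((Algebra.linearMap k R) ∘ₗ LieHopf.dlin D)

lemma lin_ptOfLie (D : LieHopf.Lie k A) (t : R) (ht : t * t = 0) :
    lin k A R (toConv (LieHopf.ptOfLie D R t ht)) = 1 + t • dl D := by
  apply WithConv.ofConv_injective
  apply LinearMap.ext
  intro a
  change algebraMap k R (Bialgebra.counitAlgHom k A a) + algebraMap k R (LieHopf.dlin D a) * t =
    algebraMap k R (CoalgebraStruct.counit a) + t • algebraMap k R (LieHopf.dlin D a)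
  rw [smul_eq_mul, mul_comm t]
  rfl

lemma smul_dl_mul_self (D : LieHopf.Lie k A) (t : R) (ht : t * t = 0) :
    (t • dl (R := R) D) * (t • dl D) = 0 := by
  rw [smul_mul_assoc, mul_smul_comm, smul_smul, ht, zero_smul]

lemma one_sub_mul_one_add {L : Type*} [Ring L] (u : L) : (1 - u) * (1 + u) = 1 - u * u := by
  noncomm_ring

lemma lin_inv_ptOfLie (D : LieHopf.Lie k A) (t : R) (ht : t * t = 0) :
    lin k A R (toConv ((LieHopf.ptOfLie D R t ht).comp (HopfAlgebra.antipodeAlgHom k A))) =
      1 - t • dl D := by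
  have h1 := lin_mul_lin_comp_antipode (LieHopf.ptOfLie D R t ht)
  have h2 : (1 - t • dl (R := R) D) * lin k A R (toConv (LieHopf.ptOfLie D R t ht)) = 1 := by
    rw [lin_ptOfLie, one_sub_mul_one_add, smul_dl_mul_self D t ht, sub_zero]
  exact (left_inv_eq_right_inv h2 h1).symm


lemma dl_mul_dl_apply (D E : LieHopf.Lie k A) (a : A) :
    (dl (R := R) D * dl (R := R) E).ofConv a =
      algebraMap k R (LieHopf.conv (LieHopf.dlin D) (LieHopf.dlin E) a) := by
  have h := LinearMap.algHom_comp_convMul_distrib (R := k) (C := A) (Algebra.ofId k R)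
    (toConv (LieHopf.dlin D)) (toConv (LieHopf.dlin E))
  have h' : (dl (R := R) D * dl E).ofConv =
      (toConv ((Algebra.ofId k R).toLinearMap ∘ₗ (toConv (LieHopf.dlin D)).ofConv) *
        toConv ((Algebra.ofId k R).toLinearMap ∘ₗ (toConv (LieHopf.dlin E)).ofConv)).ofConv := rfl
  have h2 := LinearMap.congr_fun (h'.trans h.symm) a
  exact h2

lemma comm_expand {L : Type*} [Ring L] (u v : L) (hu : u * u = 0) (hv : v * v = 0)
    (huvu : u * v * u = 0) (hvuv : v * u * v = 0) :
    (1 + u) * (1 + v) * (1 - u) * (1 - v) = 1 + u * v - v * u := by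
  have h : (1 + u) * (1 + v) * (1 - u) * (1 - v) = 1 + u * v - v * u +
      (- (u * u) - u * v * u - v * v - u * (v * v) + v * u * v + (u * u) * v + (u * v * u) * v) := by
    noncomm_ring
  rw [h, hu, hv, huvu, hvuv]
  simp

lemma smul_mul_smul_mul_smul (r s : R) (x y : WithConv (A →ₗ[k] R)) :
    (r • x) * (s • y) * (r • x) = (r * r * s) • (x * y * x) := by
  simp only [smul_mul_assoc, mul_smul_comm, smul_smul]
  congr 1
  ring

theorem commutator_formula (D E : LieHopf.Lie k A) (t t' : R) (ht : t * t = 0) (ht' : t' * t' = 0)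
    (a : A) :
    (toConv (LieHopf.ptOfLie D R t ht) * toConv (LieHopf.ptOfLie E R t' ht') *
      toConv ((LieHopf.ptOfLie D R t ht).comp (HopfAlgebra.antipodeAlgHom k A)) *
      toConv ((LieHopf.ptOfLie E R t' ht').comp (HopfAlgebra.antipodeAlgHom k A))).ofConv a =
    algebraMap k R (Bialgebra.counitAlgHom k A a) +
      algebraMap k R (LieHopf.bracketLin D E a) * (t * t') := by
  set u : WithConv (A →ₗ[k] R) := t • dl D with hu
  set v : WithConv (A →ₗ[k] R) := t' • dl E with hv
  have h1 : lin k A R (toConv (LieHopf.ptOfLie D R t ht) * toConv (LieHopf.ptOfLie E R t' ht') *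
      toConv ((LieHopf.ptOfLie D R t ht).comp (HopfAlgebra.antipodeAlgHom k A)) *
      toConv ((LieHopf.ptOfLie E R t' ht').comp (HopfAlgebra.antipodeAlgHom k A))) =
      1 + u * v - v * u := by
    rw [lin_mul, lin_mul, lin_mul, lin_ptOfLie, lin_ptOfLie, lin_inv_ptOfLie, lin_inv_ptOfLie]
    apply comm_expand
    · exact smul_dl_mul_self D t ht
    · exact smul_dl_mul_self E t' ht'
    · rw [smul_mul_smul_mul_smul, ht, zero_mul, zero_smul]
    · rw [smul_mul_smul_mul_smul, ht', zero_mul, zero_smul]
  have h2 := congrArg (fun f : WithConv (A →ₗ[k] R) => f.ofConv a) h1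
  have h3 : (u * v) a = (t * t') * algebraMap k R (LieHopf.conv (LieHopf.dlin D) (LieHopf.dlin E) a) := by
    rw [hu, hv, smul_mul_assoc, mul_smul_comm, smul_smul, ← dl_mul_dl_apply]
    rfl
  have h4 : (v * u) a = (t * t') * algebraMap k R (LieHopf.conv (LieHopf.dlin E) (LieHopf.dlin D) a) := by
    rw [hu, hv, smul_mul_assoc, mul_smul_comm, smul_smul, ← dl_mul_dl_apply, mul_comm t t']
    rfl
  have h5 : (1 + u * v - v * u : WithConv (A →ₗ[k] R)).ofConv a =
      algebraMap k R (CoalgebraStruct.counit a) + (u * v) a - (v * u) a := rfl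
  have h6 : LieHopf.bracketLin D E a = LieHopf.conv (LieHopf.dlin D) (LieHopf.dlin E) a -
      LieHopf.conv (LieHopf.dlin E) (LieHopf.dlin D) a := rfl
  refine (h2.trans ?_)
  rw [h5, h3, h4, h6, map_sub]
  change algebraMap k R (CoalgebraStruct.counit a) + _ - _ = algebraMap k R (CoalgebraStruct.counit a) + _
  ring

end

end Groth.Agent.H2
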