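import Groth.Prelude.Def_Dyn
import Mathlib.RingTheory.Bialgebra.Convolution
import Mathlib.Algebra.DualNumber

/-! Convolution of points of a Hopf algebra: conv3 as a product in the convolution monoid. -/

set_option autoImplicit false
universe u
open TensorProduct WithConv

namespace Groth.Agent.H2

theorem conv3_eq (k : Type u) [CommRing k] (A : Type u) [CommRing A] [HopfAlgebra k A]
    {C : Type u} [CommRing C] [Algebra k C] (f g h : A →ₐ[k] C) :
    Dyn.conv3 k A f g h = ofConv (toConv f * toConv g * toConv h) := by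
  rw [AlgHom.convMul_def, AlgHom.convMul_def]
  unfold Dyn.conv3
  rw [← AlgHom.comp_assoc (Algebra.TensorProduct.map _ h), ← Algebra.TensorProduct.map_comp]
  simp only [AlgHom.comp_assoc, AlgHom.comp_id]

theorem dual_mul_eq_zero {k : Type u} [CommRing k] (x y : DualNumber k)
    (hx : TrivSqZeroExt.fst x = 0) (hy : TrivSqZeroExt.fst y = 0) : x * y = 0 := by
  ext
  · simp [hx]
  · simp [hx, hy]

theorem snd_conv (k : Type u) [CommRing k] (A : Type u) [CommRing A] [HopfAlgebra k A]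
    (φ ψ : A →ₐ[k] DualNumber k)
    (hφ : ∀ a : A, TrivSqZeroExt.fst (φ a) = Bialgebra.counitAlgHom k A a)
    (hψ : ∀ a : A, TrivSqZeroExt.fst (ψ a) = Bialgebra.counitAlgHom k A a) (a : A) :
    TrivSqZeroExt.snd ((ofConv (toConv φ * toConv ψ)) a) =
      TrivSqZeroExt.snd (φ a) + TrivSqZeroExt.snd (ψ a) := by
  -- pass to linear maps
  have h1 : (ofConv (toConv φ * toConv ψ)) a =
      (toConv φ.toLinearMap * toConv ψ.toLinearMap) a := by
    have := AlgHom.toLinearMap_convMul (toConv φ) (toConv ψ)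
    rw [← this]
    rfl
  rw [h1]
  set Tφ : WithConv (A →ₗ[k] DualNumber k) := toConv φ.toLinearMap - 1 with hTφ
  set Tψ : WithConv (A →ₗ[k] DualNumber k) := toConv ψ.toLinearMap - 1 with hTψ
  have hfstφ : ∀ x, TrivSqZeroExt.fst (Tφ x) = 0 := by
    intro x
    simp [hTφ, hφ, TrivSqZeroExt.algebraMap_eq_inl]
  have hfstψ : ∀ x, TrivSqZeroExt.fst (Tψ x) = 0 := by
    intro x
    simp [hTψ, hψ, TrivSqZeroExt.algebraMap_eq_inl]
  have hmul0 : ∀ x, (Tφ * Tψ) x = 0 := by
    intro x
    rw [LinearMap.convMul_apply]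
    have : LinearMap.mul' k (DualNumber k) ∘ₗ TensorProduct.map Tφ.ofConv Tψ.ofConv = 0 := by
      apply TensorProduct.ext'
      intro u v
      simp only [LinearMap.coe_comp, Function.comp_apply, TensorProduct.map_tmul,
        LinearMap.mul'_apply, LinearMap.zero_apply]
      exact dual_mul_eq_zero _ _ (hfstφ u) (hfstψ v)
    exact LinearMap.congr_fun this _
  have hφ' : toConv φ.toLinearMap = 1 + Tφ := by rw [hTφ]; abel
  have hψ' : toConv ψ.toLinearMap = 1 + Tψ := by rw [hTψ]; abel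
  have hexp : toConv φ.toLinearMap * toConv ψ.toLinearMap = 1 + Tφ + Tψ + Tφ * Tψ := by
    rw [hφ', hψ', mul_add, mul_one, add_mul, one_mul]; abel
  rw [hexp]
  have e1 : (1 + Tφ + Tψ + Tφ * Tψ) a = (1 : WithConv (A →ₗ[k] DualNumber k)) a + Tφ a + Tψ a + (Tφ * Tψ) a := rfl
  rw [e1, hmul0, add_zero]
  have e2 : Tφ a = φ a - (1 : WithConv (A →ₗ[k] DualNumber k)) a := rfl
  have e3 : Tψ a = ψ a - (1 : WithConv (A →ₗ[k] DualNumber k)) a := rfl
  rw [e2, e3]
  simp [TrivSqZeroExt.algebraMap_eq_inl]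

end Groth.Agent.H2
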