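import Groth.Agent.Lib.Helper2.Brown9

/-!
# Presenting objects as homotopy colimits of towers built from a generating family
-/

universe v u

open CategoryTheory CategoryTheory.Limits Opposite Pretriangulated
open CategoryTheory.Pretriangulated.Opposite

namespace Groth.Agent.H2.Brown

variable {D : Type u} [Category.{v} D] [Preadditive D] [HasZeroObject D] [HasShift D ℤ]
  [∀ n : ℤ, (shiftFunctor D n).Additive] [Pretriangulated D] [HasCoproducts.{v} D]
  [HasColimitsOfShape (Discrete ℕ) D]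
variable (H : Dᵒᵖ ⥤ AddCommGrpCat.{v}) [H.IsHomological]
  [∀ (κ : Type v), PreservesLimitsOfShape (Discrete κ) H]
variable {ι' : Type v} (Ê : ι' → D)

/-- A tower whose first term is a coproduct of members of the family and whose transition maps
have cones which are (shifts of) coproducts of members of the family. -/
structure STower extends Tower H Ê where
  shape0 : ∃ (κ : Type v) (c : κ → ι'), Nonempty (X 0 ≅ ∐ (fun k => Ê (c k)))
  shapeS : ∀ n, ∃ (κ : Type v) (c : κ → ι') (y : (∐ fun k => Ê (c k)) ⟶ X n)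
    (z : X (n + 1) ⟶ (∐ fun k => Ê (c k))⟦(1 : ℤ)⟧), Triangle.mk y (φ n) z ∈ distTriang D

variable {H Ê}

lemma exists_start' :
    ∃ (X : D) (a : H.obj (op X)),
      (∃ (κ : Type v) (c : κ → ι'), Nonempty (X ≅ ∐ (fun k => Ê (c k)))) ∧
      ∀ (e : ι') (b : H.obj (op (Ê e))), ∃ f : Ê e ⟶ X, pull H a f = b := by
  obtain ⟨g, hg⟩ := (prod_bijective H (fun p : (Σ e : ι', H.obj (op (Ê e))) => Ê p.1)).2
    (fun p => p.2)
  have hg' : ∀ p : (Σ e : ι', H.obj (op (Ê e))),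
      pull H g (Sigma.ι (fun p : (Σ e : ι', H.obj (op (Ê e))) => Ê p.1) p) = p.2 :=
    fun p => congrFun hg p
  refine ⟨∐ (fun p : (Σ e : ι', H.obj (op (Ê e))) => Ê p.1), g,
    ⟨(Σ e : ι', H.obj (op (Ê e))), fun p => p.1, ⟨Iso.refl _⟩⟩, ?_⟩
  intro e b
  exact ⟨Sigma.ι (fun p : (Σ e : ι', H.obj (op (Ê e))) => Ê p.1) ⟨e, b⟩, hg' ⟨e, b⟩⟩

lemma exists_step' (X : D) (a : H.obj (op X)) :
    ∃ (X' : D) (φ : X ⟶ X') (a' : H.obj (op X')), pull H a' φ = a ∧
      (∀ (e : ι') (f : Ê e ⟶ X), pull H a f = 0 → f ≫ φ = 0) ∧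
      ∃ (κ : Type v) (c : κ → ι') (y : (∐ fun k => Ê (c k)) ⟶ X)
        (z : X' ⟶ (∐ fun k => Ê (c k))⟦(1 : ℤ)⟧), Triangle.mk y φ z ∈ distTriang D := by
  let J := Σ e : ι', {f : Ê e ⟶ X // pull H a f = 0}
  let κ : (∐ (fun p : J => Ê p.1)) ⟶ X := Sigma.desc (fun p => p.2.1)
  obtain ⟨X', φ, ψ, hT⟩ := distinguished_cocone_triangle κ
  have h0 : pull H a κ = 0 := by
    apply (prod_bijective H (fun p : J => Ê p.1)).1
    funext p
    dsimp only
    rw [pull_pull, Sigma.ι_desc, pull_zero_left]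
    exact p.2.2
  obtain ⟨a', ha'⟩ := exists_of_pull_eq_zero H _ hT a h0
  refine ⟨X', φ, a', ha', ?_, ⟨J, fun p => p.1, κ, ψ, hT⟩⟩
  intro e f hf
  have : f = Sigma.ι (fun p : J => Ê p.1) ⟨e, f, hf⟩ ≫ κ := by rw [Sigma.ι_desc]
  rw [this, Category.assoc]
  have hz : κ ≫ φ = 0 := comp_distTriang_mor_zero₁₂ _ hT
  rw [hz, comp_zero]

section recursion

/-- The next stage. -/
noncomputable def nextSt' (S : St H) : St H :=
  ⟨(exists_step' (Ê := Ê) S.1 S.2).choose,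
    (exists_step' (Ê := Ê) S.1 S.2).choose_spec.choose_spec.choose⟩

/-- The transition map to the next stage. -/
noncomputable def nextφ' (S : St H) : S.1 ⟶ (nextSt' (Ê := Ê) S).1 :=
  (exists_step' (Ê := Ê) S.1 S.2).choose_spec.choose

lemma nextφ'_spec (S : St H) :
    pull H (nextSt' (Ê := Ê) S).2 (nextφ' (Ê := Ê) S) = S.2 ∧
      (∀ (e : ι') (f : Ê e ⟶ S.1), pull H S.2 f = 0 → f ≫ nextφ' (Ê := Ê) S = 0) ∧
      ∃ (κ : Type v) (c : κ → ι') (y : (∐ fun k => Ê (c k)) ⟶ S.1)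
        (z : (nextSt' (Ê := Ê) S).1 ⟶ (∐ fun k => Ê (c k))⟦(1 : ℤ)⟧),
        Triangle.mk y (nextφ' (Ê := Ê) S) z ∈ distTriang D :=
  (exists_step' (Ê := Ê) S.1 S.2).choose_spec.choose_spec.choose_spec

/-- The sequence of stages. -/
noncomputable def seqSt' (S₀ : St H) : ℕ → St H
  | 0 => S₀
  | n + 1 => nextSt' (Ê := Ê) (seqSt' S₀ n)

variable (H Ê) in
theorem exists_stower : Nonempty (STower H Ê) := by
  obtain ⟨X, a, hshape, hsurj⟩ := exists_start' (H := H) (Ê := Ê)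
  let S₀ : St H := ⟨X, a⟩
  exact ⟨{ X := fun n => (seqSt' (Ê := Ê) S₀ n).1
           a := fun n => (seqSt' (Ê := Ê) S₀ n).2
           φ := fun n => nextφ' (Ê := Ê) (seqSt' (Ê := Ê) S₀ n)
           ha := fun n => (nextφ'_spec (Ê := Ê) (seqSt' (Ê := Ê) S₀ n)).1
           kill := fun n e f hf => (nextφ'_spec (Ê := Ê) (seqSt' (Ê := Ê) S₀ n)).2.1 e f hf
           surj := hsurj
           shape0 := hshape
           shapeS := fun n => (nextφ'_spec (Ê := Ê) (seqSt' (Ê := Ê) S₀ n)).2.2 }⟩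

end recursion

end Groth.Agent.H2.Brown
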