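import Mathlib
import Groth.Agent.Lib.Helper2.GVSuppA
import Groth.Agent.Lib.Lead.PN.RegSupp
import Groth.Agent.Lib.Lead.PN.RegRes
import Groth.Agent.Lib.Lead.QC.SerreSupp

/-!
# Regularity of the cokernel of a complex of regular modules on `P^n` which is exact away from a
set of dimension `≤ 1`.
-/

set_option autoImplicit false
universe u
open CategoryTheory CategoryTheory.Limits AlgebraicGeometry TopologicalSpace Opposite

namespace Groth.Agent.H2.RegCx

open Groth.Agent.LD Groth.Agent.LD.PN Twist

variable (n : ℕ) (k : Type u) [Field k]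

/-- twisting an isomorphism. -/
noncomputable def kGIso {A B : (Proj (CohB1.polyGrading n k)).Modules} (e : A ≅ B) (t : ℤ) :
    kG n k A t ≅ kG n k B t := QC.tensorIso' e (Iso.refl _)

theorem subsingleton_HH_kG_of_iso {A B : (Proj (CohB1.polyGrading n k)).Modules} (e : A ≅ B)
    (t : ℤ) (p : ℕ) (h : Subsingleton (Coh.HH (Proj (CohB1.polyGrading n k)) (kG n k A t) p)) :
    Subsingleton (Coh.HH (Proj (CohB1.polyGrading n k)) (kG n k B t) p) :=
  CL.subsingleton_of_iso (kGIso n k e t) p h

theorem isZero_kG {A : (Proj (CohB1.polyGrading n k)).Modules} (hA : IsZero A) (t : ℤ) :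
    IsZero (kG n k A t) := by
  rw [IsZero.iff_id_eq_zero]
  have h : (𝟙 A : A ⟶ A) = 0 := hA.eq_of_src _ _
  have h1 := QC.tensorMap_id_id A (twist (CohB1.polyGrading n k) t)
  rw [h, QC.tensorMap_zero_id (isInvertible_twist n k t)] at h1
  exact h1.symm

theorem subsingleton_HH_kG_of_isZero {A : (Proj (CohB1.polyGrading n k)).Modules} (hA : IsZero A)
    (t : ℤ) (p : ℕ) : Subsingleton (Coh.HH (Proj (CohB1.polyGrading n k)) (kG n k A t) p) :=
  CL.subsingleton_HH_of_isZero (isZero_kG n k hA t) p

section Maps
variable {A C : (Proj (CohB1.polyGrading n k)).Modules} (f : A ⟶ C)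

/-- vanishing for the image from vanishing for the source and the kernel. -/
theorem vanish_image (t : ℤ) (p : ℕ)
    (h1 : Subsingleton (Coh.HH (Proj (CohB1.polyGrading n k)) (kG n k A t) p))
    (h2 : Subsingleton (Coh.HH (Proj (CohB1.polyGrading n k)) (kG n k (kernel f) t) (p + 1))) :
    Subsingleton (Coh.HH (Proj (CohB1.polyGrading n k)) (kG n k (Abelian.image f) t) p) := by
  have hT := shortExact_cokernel_twist n k (kernel.ι f) t
  have h3 : Subsingleton (Coh.HH (Proj (CohB1.polyGrading n k))
      (kG n k (Abelian.coimage f) t) p) := CL.subsingleton_right hT p h1 h2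
  exact subsingleton_HH_kG_of_iso n k (Abelian.coimageIsoImage f) t p h3

theorem shortExact_image : (ShortComplex.mk (Abelian.image.ι f) (cokernel.π f)
    (kernel.condition (cokernel.π f))).ShortExact :=
  { exact := ShortComplex.exact_of_f_is_kernel _ (kernelIsKernel (cokernel.π f))
    mono_f := inferInstanceAs (Mono (kernel.ι (cokernel.π f)))
    epi_g := inferInstanceAs (Epi (cokernel.π f)) }

/-- vanishing for the target from vanishing for the image and the cokernel. -/
theorem vanish_target (t : ℤ) (p : ℕ)
    (h1 : Subsingleton (Coh.HH (Proj (CohB1.polyGrading n k)) (kG n k (Abelian.image f) t) p))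
    (h2 : Subsingleton (Coh.HH (Proj (CohB1.polyGrading n k)) (kG n k (cokernel f) t) p)) :
    Subsingleton (Coh.HH (Proj (CohB1.polyGrading n k)) (kG n k C t) p) := by
  have hT := QC.shortExact_tensorMap_of_isInvertible (shortExact_image n k f)
    (twist (CohB1.polyGrading n k) t) (isInvertible_twist n k t)
  exact CL.subsingleton_mid hT p h1 h2

/-- vanishing for the cokernel from vanishing for the target and the image. -/
theorem vanish_cokernel (t : ℤ) (p : ℕ)
    (h1 : Subsingleton (Coh.HH (Proj (CohB1.polyGrading n k)) (kG n k C t) p))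
    (h2 : Subsingleton (Coh.HH (Proj (CohB1.polyGrading n k))
      (kG n k (Abelian.image f) t) (p + 1))) :
    Subsingleton (Coh.HH (Proj (CohB1.polyGrading n k)) (kG n k (cokernel f) t) p) := by
  have hT := QC.shortExact_tensorMap_of_isInvertible (shortExact_image n k f)
    (twist (CohB1.polyGrading n k) t) (isInvertible_twist n k t)
  exact CL.subsingleton_right hT p h1 h2

end Maps

end Groth.Agent.H2.RegCx
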