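import Mathlib
import Groth.Agent.Lib.Helper2.RegCxA
import Groth.Agent.Lib.Lead.PN.SerreDualExt2
import Groth.Agent.Lib.Lead.PN.ExtTwist
import Groth.Agent.Lib.Lead.PN.GlobalFn
import Groth.Agent.Lib.Lead.QC.TwistEquiv

/-!
# Horrocks' splitting criterion on projective space: twisting functors and retracts.
-/

set_option autoImplicit false
universe u
open CategoryTheory CategoryTheory.Limits AlgebraicGeometry TopologicalSpace Opposite

namespace Groth.Agent.H2.Horr

open Groth.Agent.LD Groth.Agent.LD.PN Twist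

variable (n : ℕ) (k : Type u) [Field k]

/-- the twisting functor `F ↦ F(a)`. -/
noncomputable def T (a : ℤ) : (Proj (CohB1.polyGrading n k)).Modules ⥤
    (Proj (CohB1.polyGrading n k)).Modules := QC.twF (twist (CohB1.polyGrading n k) a)

lemma T_obj (a : ℤ) (F : (Proj (CohB1.polyGrading n k)).Modules) :
    (T n k a).obj F = kG n k F a := rfl

lemma T_map (a : ℤ) {F G : (Proj (CohB1.polyGrading n k)).Modules} (f : F ⟶ G) :
    (T n k a).map f = KoszTw.tensorMap f (𝟙 (twist (CohB1.polyGrading n k) a)) :=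
  QC.twF_map _ f

instance T_isEquivalence (a : ℤ) : (T n k a).IsEquivalence :=
  QC.twF_isEquivalence (twist (CohB1.polyGrading n k) a) (twist (CohB1.polyGrading n k) (-a))
    (twistInvIso n k a)

instance T_additive (a : ℤ) : (T n k a).Additive :=
  QC.twF_additive (twist (CohB1.polyGrading n k) a)

/-- `F(a)(b) ≅ F(c)` for `a + b = c`. -/
noncomputable def kGAssoc (F : (Proj (CohB1.polyGrading n k)).Modules) [F.IsQuasicoherent]
    (a b c : ℤ) (h : a + b = c) : kG n k (kG n k F a) b ≅ kG n k F c :=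
  assocIso2 n k F a b ≪≫ eqToIso (by rw [h]; rfl)

/-- `F(0) ≅ F`. -/
noncomputable def kGZero (F : (Proj (CohB1.polyGrading n k)).Modules) : kG n k F 0 ≅ F :=
  QC.tensorIso' (Iso.refl F) (TW.twistZeroIso (CohB1.polyGrading n k)) ≪≫ SecTwist.unitorR F

/-- `F(a)(-a) ≅ F`. -/
noncomputable def kGInv (F : (Proj (CohB1.polyGrading n k)).Modules) [F.IsQuasicoherent]
    (a : ℤ) : kG n k (kG n k F a) (-a) ≅ F :=
  kGAssoc n k F a (-a) 0 (by ring) ≪≫ kGZero n k F

theorem subsingleton_HH_kG_of_retract {A B : (Proj (CohB1.polyGrading n k)).Modules}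
    (ι : A ⟶ B) (ρ : B ⟶ A) (h : ι ≫ ρ = 𝟙 A) (t : ℤ) (i : ℕ)
    (hB : Subsingleton (Coh.HH (Proj (CohB1.polyGrading n k)) (kG n k B t) i)) :
    Subsingleton (Coh.HH (Proj (CohB1.polyGrading n k)) (kG n k A t) i) := by
  refine CL.subsingleton_HH_of_retract
    (KoszTw.tensorMap ι (𝟙 (twist (CohB1.polyGrading n k) t)))
    (KoszTw.tensorMap ρ (𝟙 (twist (CohB1.polyGrading n k) t))) ?_ i hB
  rw [← QC.tensorMap_comp_id, h, QC.tensorMap_id_id]

/-- the hypotheses of Horrocks' criterion. -/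
structure Hor (F : (Proj (CohB1.polyGrading n k)).Modules) : Prop where
  low : ∃ n₀ : ℤ, ∀ m : ℤ, m ≤ n₀ →
    Subsingleton (Coh.HH (Proj (CohB1.polyGrading n k)) (kG n k F m) 0)
  mid : ∀ (m : ℤ) (i : ℕ), 1 ≤ i → i < n →
    Subsingleton (Coh.HH (Proj (CohB1.polyGrading n k)) (kG n k F m) i)

variable {n k}

theorem Hor.of_retract {A B : (Proj (CohB1.polyGrading n k)).Modules}
    (ι : A ⟶ B) (ρ : B ⟶ A) (h : ι ≫ ρ = 𝟙 A) (hB : Hor n k B) : Hor n k A := by
  obtain ⟨n₀, h0⟩ := hB.low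
  exact ⟨⟨n₀, fun m hm => subsingleton_HH_kG_of_retract n k ι ρ h m 0 (h0 m hm)⟩,
    fun m i hi hin => subsingleton_HH_kG_of_retract n k ι ρ h m i (hB.mid m i hi hin)⟩

theorem isReg_of_retract {A B : (Proj (CohB1.polyGrading n k)).Modules}
    (ι : A ⟶ B) (ρ : B ⟶ A) (h : ι ≫ ρ = 𝟙 A) (m : ℤ) (hB : IsReg n k B m) : IsReg n k A m :=
  fun i hi => subsingleton_HH_kG_of_retract n k ι ρ h (m - i) i (hB i hi)

theorem Hor.of_iso {A B : (Proj (CohB1.polyGrading n k)).Modules} (e : A ≅ B)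
    (hB : Hor n k B) : Hor n k A :=
  Hor.of_retract e.hom e.inv e.hom_inv_id hB

end Groth.Agent.H2.Horr
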