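import Mathlib
import Groth.Agent.Lib.Helper2.HorrA
import Groth.Agent.Lib.Lead.PN.GlobGen

/-!
# Horrocks' splitting criterion: the minimal regularity.
-/

set_option autoImplicit false
universe u
open CategoryTheory CategoryTheory.Limits AlgebraicGeometry TopologicalSpace Opposite

namespace Groth.Agent.H2.Horr

open Groth.Agent.LD Groth.Agent.LD.PN Twist

variable {n : ℕ} {k : Type u} [Field k]

/-- a coherent module is `m`-regular for some `m`. -/
theorem exists_isReg (F : (Proj (CohB1.polyGrading n k)).Modules) (hF : Coh.IsCoh F) :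
    ∃ m : ℤ, IsReg n k F m := by
  haveI := hF.1
  obtain ⟨d₀, h⟩ := serre_vanishing' n k F hF
  refine ⟨d₀ + n, isReg_of_bounded n k F _ (fun i hi hin => ?_)⟩
  exact h (d₀ + n - i) (by omega) i (by omega)

/-- a module all of whose morphisms from the structure sheaf vanish, and which is globally
generated, is zero. -/
theorem isZero_of_epi_homOfFamily (G : (Proj (CohB1.polyGrading n k)).Modules)
    (hepi : Epi (QC.homOfFamily G (fun a : Γ(G, ⊤) => a)))
    (h0 : Subsingleton (Coh.HH (Proj (CohB1.polyGrading n k)) G 0)) : IsZero G := by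
  have hΓ : Subsingleton Γ(G, ⊤) := (CL.HH0Equiv G).symm.toEquiv.subsingleton
  have hz : QC.homOfFamily G (fun a : Γ(G, ⊤) => a) = 0 := by
    apply Sigma.hom_ext
    intro i
    have h1 := QC.ι_homOfFamily G (fun a : Γ(G, ⊤) => a) i
    have h2 : QC.homOfSection G i = 0 := by
      rw [← QC.homOfSection_sectionOfHom (0 : QC.unitMod _ ⟶ G)]
      congr 1
      exact hΓ.elim _ _
    rw [h2] at h1
    exact h1.trans comp_zero.symm
  rw [IsZero.iff_id_eq_zero]
  exact hepi.left_cancellation (𝟙 G) 0 (by rw [hz, zero_comp, zero_comp])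

/-- twisting reflects zero objects. -/
theorem isZero_of_isZero_kG (F : (Proj (CohB1.polyGrading n k)).Modules) (m : ℤ)
    (h : IsZero (kG n k F m)) : IsZero F := by
  rw [IsZero.iff_id_eq_zero]
  apply (T n k m).map_injective
  exact h.eq_of_src _ _

/-- an `m`-regular coherent module with `H^0(F(m)) = 0` is zero. -/
theorem isZero_of_isReg (F : (Proj (CohB1.polyGrading n k)).Modules) (hF : Coh.IsCoh F)
    (m : ℤ) (hreg : IsReg n k F m)
    (h0 : Subsingleton (Coh.HH (Proj (CohB1.polyGrading n k)) (kG n k F m) 0)) : IsZero F := by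
  haveI := hF.1
  exact isZero_of_isZero_kG F m
    (isZero_of_epi_homOfFamily _ (epi_homOfFamily_of_isReg n k F hF.2 m hreg) h0)

/-- the minimal regularity of a nonzero coherent module without sections in low degrees. -/
theorem exists_min_reg (F : (Proj (CohB1.polyGrading n k)).Modules) (hF : Coh.IsCoh F)
    (hnz : ¬ IsZero F) (hH : Hor n k F) (m₀ : ℤ) (h₀ : IsReg n k F m₀) :
    ∃ m : ℤ, m ≤ m₀ ∧ IsReg n k F m ∧ ¬ IsReg n k F (m - 1) := by
  obtain ⟨n₀, hlow⟩ := hH.low
  obtain ⟨lb, hlb, hmin⟩ := Int.exists_least_of_bdd (P := fun z => IsReg n k F z)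
    ⟨n₀ + 1, fun z hz => by
      by_contra hlt
      push_neg at hlt
      exact hnz (isZero_of_isReg F hF z hz (hlow z (by omega)))⟩ ⟨m₀, h₀⟩
  refine ⟨lb, hmin m₀ h₀, hlb, fun h => ?_⟩
  have := hmin (lb - 1) h
  omega

end Groth.Agent.H2.Horr
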