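import Mathlib
import Groth.Agent.Lib.Helper2.HorrE
import Groth.Agent.Lib.Lead.PN.RegRes
import Groth.Agent.Lib.Helper3.ZClosLib

/-!
# Minimal linear presentations of regular coherent modules on projective space.
-/

set_option autoImplicit false
universe u
open CategoryTheory CategoryTheory.Limits AlgebraicGeometry TopologicalSpace Opposite

namespace Groth.Agent.H2.Horr

open Groth.Agent.LD Groth.Agent.LD.PN Twist

section General
variable {X : Scheme.{u}}

/-- the morphism attached to linearly independent global sections is injective on global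
sections. -/
theorem injective_homOfSections_app_top (G : X.Modules) {b : ℕ} (σ : Fin b → Γ(G, ⊤))
    (hσ : ∀ c : Fin b → Γ(X, ⊤), ∑ j, c j • σ j = 0 → ∀ j, c j = 0) :
    Function.Injective ((QC.homOfSections G σ).app ⊤) := by
  intro g g' hgg'
  have key : ∀ g : Γ(FlatMod.freeMod X b, ⊤), (QC.homOfSections G σ).app ⊤ g = 0 → g = 0 := by
    intro g hg
    have h1 := QC.app_freeMod_eq_sum G (QC.homOfSections G σ) ⊤ g
    have h2 : ∀ j : Fin b, (Sigma.ι (fun _ : Fin b => QC.unitMod X) j ≫
        QC.homOfSections G σ).app ⊤ (1 : Γ(X, ⊤)) = σ j := by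
      intro j
      have h3 := QC.homOfSections_app_ι G σ ⊤ j (1 : Γ(X, ⊤))
      rw [QC.res_self, one_smul] at h3
      exact h3
    rw [hg] at h1
    have h4 : ∑ j, (show Γ(X, ⊤) from (QC.freeProj X b j).app ⊤ g) • σ j = 0 := by
      rw [h1]
      exact Finset.sum_congr rfl (fun j _ => by rw [h2 j])
    have h5 := hσ _ h4
    have h6 := QC.sum_app (fun j => QC.freeProj X b j ≫
      Sigma.ι (fun _ : Fin b => QC.unitMod X) j) ⊤ g
    rw [QC.freeProj_total] at h6
    refine h6.trans (Finset.sum_eq_zero (fun j _ => ?_))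
    change (Sigma.ι (fun _ : Fin b => QC.unitMod X) j).app ⊤ ((QC.freeProj X b j).app ⊤ g) = 0
    rw [show (QC.freeProj X b j).app ⊤ g = 0 from h5 j, map_zero]
  have h := key (g - g') (by rw [map_sub, hgg', sub_self])
  exact sub_eq_zero.1 h

end General

variable {n : ℕ} {k : Type u} [Field k]

/-- a basis of the global sections. -/
theorem exists_basis_sections (G : (Proj (CohB1.polyGrading n k)).Modules)
    (hfin : Module.Finite k (Coh.HH (Proj (CohB1.polyGrading n k)) G 0)) :
    ∃ σ : Fin (Module.finrank k (Coh.HH (Proj (CohB1.polyGrading n k)) G 0)) → Γ(G, ⊤),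
      (∀ a : Γ(G, ⊤), ∃ c : Fin _ → Γ(Proj (CohB1.polyGrading n k), ⊤), a = ∑ j, c j • σ j) ∧
      (∀ c : Fin _ → Γ(Proj (CohB1.polyGrading n k), ⊤), ∑ j, c j • σ j = 0 → ∀ j, c j = 0) := by
  let s := Module.finBasis k (Coh.HH (Proj (CohB1.polyGrading n k)) G 0)
  refine ⟨fun j => CL.HH0Equiv G (s j), fun a => ?_, fun c hc => ?_⟩
  · obtain ⟨r, hr⟩ : ∃ r : Fin _ → k, r = fun j => s.repr ((CL.HH0Equiv G).symm a) j := ⟨_, rfl⟩
    have hx : ∑ j, r j • s j = (CL.HH0Equiv G).symm a := by
      rw [hr]; exact s.sum_repr ((CL.HH0Equiv G).symm a)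
    refine ⟨fun j => (show Γ(Proj (CohB1.polyGrading n k), ⊤) from
      Coh.toGlobal (CohB1.ProjSpace.toSpec n k) (r j)), ?_⟩
    have h1 : a = CL.HH0Equiv G (∑ j, r j • s j) := by
      rw [hx, AddEquiv.apply_symm_apply]
    refine h1.trans ?_
    rw [map_sum]
    refine Finset.sum_congr rfl (fun j _ => ?_)
    exact CL.HH0Equiv_smul G (Coh.toGlobal (CohB1.ProjSpace.toSpec n k) (r j)) (s j)
  · choose r hr using fun j => (toGlobal_bijective n k).2 (c j)
    have h1 : CL.HH0Equiv G (∑ j, r j • s j) = 0 := by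
      rw [map_sum, ← hc]
      refine Finset.sum_congr rfl (fun j _ => ?_)
      rw [← hr j]
      exact CL.HH0Equiv_smul G (Coh.toGlobal (CohB1.ProjSpace.toSpec n k) (r j)) (s j)
    have h2 : ∑ j, r j • s j = 0 := (CL.HH0Equiv G).injective (h1.trans (map_zero _).symm)
    have h3 := Fintype.linearIndependent_iff.1 s.linearIndependent r h2
    intro j
    rw [← hr j, h3 j]
    exact map_zero _


/-- a constant finite coproduct of twisting sheaves is coherent. -/
theorem isCoh_sigma_twist (b : ℕ) (d : ℤ) :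
    Coh.IsCoh (∐ fun _ : Fin b => twist (CohB1.polyGrading n k) d) := by
  haveI := qc_twist n k d
  exact ⟨QC.qc_sigma_fin _ b, QC.isFiniteType_sigma_fin _
    (QC.isFiniteType_of_isInvertible _ (isInvertible_twist n k d)) b⟩

/-- a minimal linear presentation step. -/
structure Step (K : (Proj (CohB1.polyGrading n k)).Modules) (m : ℤ) where
  b : ℕ
  φ : (∐ fun _ : Fin b => twist (CohB1.polyGrading n k) (-m)) ⟶ K
  epi : Epi φ
  coh : Coh.IsCoh (kernel φ)
  reg : IsReg n k (kernel φ) (m + 1)
  h0 : Subsingleton (Coh.HH (Proj (CohB1.polyGrading n k)) (kG n k (kernel φ) m) 0)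
  hb : b = Module.finrank k (Coh.HH (Proj (CohB1.polyGrading n k)) (kG n k K m) 0)

/-- **minimal presentation**: an `m`-regular coherent module admits an epimorphism from
`O(-m)^b`, `b = h⁰(F(m))`, whose kernel is `(m+1)`-regular and has no sections after twisting
by `m`. -/
theorem nonempty_step (F : (Proj (CohB1.polyGrading n k)).Modules)
    (hF : Coh.IsCoh F) (m : ℤ) (h : IsReg n k F m) : Nonempty (Step F m) := by
  haveI : F.IsQuasicoherent := hF.1
  haveI : (kG n k F m).IsQuasicoherent := kG_qc n k F m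
  have hGcoh : Coh.IsCoh (kG n k F m) := isCoh_twist n k F hF m
  have hfin := finite_HH_coh' n k (kG n k F m) hGcoh 0
  obtain ⟨σ, hσ, hli⟩ := exists_basis_sections (kG n k F m) hfin
  have hgg := epi_homOfFamily_of_isReg n k F hF.2 m h
  have hψ := QC.epi_homOfSections_of_span (kG n k F m) hgg σ hσ
  have hsurj := QC.surjective_homOfSections_app_top (kG n k F m) σ hσ
  have hinj := injective_homOfSections_app_top (kG n k F m) σ hli
  have hG0 : IsReg n k (kG n k F m) 0 := by
    have h0 := isReg_kG n k F m m h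
    rwa [sub_self] at h0
  have hK1 := isReg_kernel_one n k (kG n k F m) hG0 _ (QC.homOfSections (kG n k F m) σ) hψ hsurj
  have hfq : (FlatMod.freeMod (Proj (CohB1.polyGrading n k))
      (Module.finrank k (Coh.HH (Proj (CohB1.polyGrading n k)) (kG n k F m) 0))).IsQuasicoherent :=
    QC.qc_sigma_fin (QC.unitMod (Proj (CohB1.polyGrading n k))) _
  haveI : (kernel (QC.homOfSections (kG n k F m) σ)).IsQuasicoherent :=
    QC.qc_kernel _ hfq inferInstance
  have hS : (ShortComplex.mk (kernel.ι (QC.homOfSections (kG n k F m) σ))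
      (QC.homOfSections (kG n k F m) σ) (kernel.condition _)).ShortExact :=
    { exact := ShortComplex.exact_of_f_is_kernel _ (kernelIsKernel _)
      mono_f := inferInstanceAs (Mono (kernel.ι (QC.homOfSections (kG n k F m) σ)))
      epi_g := hψ }
  have hM := isInvertible_twist n k (-m)
  haveI := qc_twist n k (-m)
  haveI := qc_twist n k m
  have hT := QC.shortExact_tensorMap_of_isInvertible hS (twist (CohB1.polyGrading n k) (-m)) hM
  let ε : CohB1.tensorMod (twist (CohB1.polyGrading n k) m) (twist (CohB1.polyGrading n k) (-m)) ≅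
      QC.unitMod (Proj (CohB1.polyGrading n k)) :=
    twistMulIso n k m (-m) 0 (by ring) ≪≫ TW.twistZeroIso (CohB1.polyGrading n k)
  let α : CohB1.tensorMod (kG n k F m) (twist (CohB1.polyGrading n k) (-m)) ≅ F :=
    QC.tensorAssoc F _ _ ≪≫ QC.tensorIso' (Iso.refl F) ε ≪≫ SecTwist.unitorR F
  haveI := QC.isIso_sigmaToTensor (twist (CohB1.polyGrading n k) (-m)) hM
    (Module.finrank k (Coh.HH (Proj (CohB1.polyGrading n k)) (kG n k F m) 0))
  haveI : Epi (KoszTw.tensorMap (QC.homOfSections (kG n k F m) σ)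
      (𝟙 (twist (CohB1.polyGrading n k) (-m)))) := hT.epi_g
  have e1 := kernelIsIsoComp (QC.sigmaToTensor (twist (CohB1.polyGrading n k) (-m))
      (Module.finrank k (Coh.HH (Proj (CohB1.polyGrading n k)) (kG n k F m) 0)))
    (KoszTw.tensorMap (QC.homOfSections (kG n k F m) σ)
      (𝟙 (twist (CohB1.polyGrading n k) (-m))) ≫ α.hom)
  have e2 := kernelCompMono (KoszTw.tensorMap (QC.homOfSections (kG n k F m) σ)
      (𝟙 (twist (CohB1.polyGrading n k) (-m)))) α.hom
  have e3 : kernel (KoszTw.tensorMap (QC.homOfSections (kG n k F m) σ)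
      (𝟙 (twist (CohB1.polyGrading n k) (-m)))) ≅
      kG n k (kernel (QC.homOfSections (kG n k F m) σ)) (-m) :=
    IsLimit.conePointUniqueUpToIso (kernelIsKernel _) hT.fIsKernel
  have hreg := isReg_kG n k (kernel (QC.homOfSections (kG n k F m) σ)) 1 (-m) hK1
  have e4 : (1 : ℤ) - (-m) = m + 1 := by ring
  rw [e4] at hreg
  -- the kernel of `ψ` has no global sections
  have hΓ : Subsingleton Γ(kernel (QC.homOfSections (kG n k F m) σ), ⊤) := by
    refine ⟨fun t t' => ?_⟩
    have key : ∀ t : Γ(kernel (QC.homOfSections (kG n k F m) σ), ⊤), t = 0 := by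
      intro t
      apply H3.ZClosLib.app_injective_of_mono (kernel.ι (QC.homOfSections (kG n k F m) σ)) ⊤
      rw [map_zero]
      apply hinj
      rw [map_zero]
      have h1 : (kernel.ι (QC.homOfSections (kG n k F m) σ) ≫
          QC.homOfSections (kG n k F m) σ).app ⊤ t = 0 := by
        rw [kernel.condition]
        rfl
      exact h1
    rw [key t, key t']
  have hH0 : Subsingleton (Coh.HH (Proj (CohB1.polyGrading n k))
      (kernel (QC.homOfSections (kG n k F m) σ)) 0) :=
    (CL.HH0Equiv _).toEquiv.subsingleton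
  let eK : kernel (QC.sigmaToTensor (twist (CohB1.polyGrading n k) (-m)) _ ≫
      KoszTw.tensorMap (QC.homOfSections (kG n k F m) σ) (𝟙 _) ≫ α.hom) ≅
      kG n k (kernel (QC.homOfSections (kG n k F m) σ)) (-m) := e1 ≪≫ e2 ≪≫ e3
  refine ⟨{ b := _
            φ := QC.sigmaToTensor (twist (CohB1.polyGrading n k) (-m)) _ ≫
              KoszTw.tensorMap (QC.homOfSections (kG n k F m) σ) (𝟙 _) ≫ α.hom
            epi := inferInstance
            coh := QC.isCoh_kernel _ (isCoh_sigma_twist _ _) hF
            reg := isReg_of_iso n k eK.symm (m + 1) hreg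
            h0 := ?_
            hb := rfl }⟩
  exact CL.subsingleton_of_iso (RegCx.kGIso n k eK m ≪≫
    kGAssoc n k (kernel (QC.homOfSections (kG n k F m) σ)) (-m) m 0 (by ring) ≪≫
    kGZero n k _).symm 0 hH0

end Groth.Agent.H2.Horr
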