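import Mathlib
import Groth.Agent.Lib.Helper2.HorrF

/-!
# Resolutions of coherent modules on projective space by sums of twisting sheaves.
-/

set_option autoImplicit false
universe u
open CategoryTheory CategoryTheory.Limits AlgebraicGeometry TopologicalSpace Opposite

namespace Groth.Agent.H2.Horr

open Groth.Agent.LD Groth.Agent.LD.PN Twist

section Abstract
variable {𝒞 : Type*} [Category 𝒞] [Abelian 𝒞]

lemma exact_epi_kernel {A B K : 𝒞} (f : B ⟶ K) (p : A ⟶ kernel f) (hp : Epi p) :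
    (ShortComplex.mk (p ≫ kernel.ι f) f (by rw [Category.assoc, kernel.condition, comp_zero])).Exact := by
  let S₁ : ShortComplex 𝒞 := ShortComplex.mk (p ≫ kernel.ι f) f
    (by rw [Category.assoc, kernel.condition, comp_zero])
  let S₂ : ShortComplex 𝒞 := ShortComplex.mk (kernel.ι f) f (kernel.condition f)
  have h2 : S₂.Exact := ShortComplex.exact_of_f_is_kernel _ (kernelIsKernel f)
  let φ : S₁ ⟶ S₂ := { τ₁ := p, τ₂ := 𝟙 _, τ₃ := 𝟙 _ }
  haveI : Epi φ.τ₁ := hp
  haveI : IsIso φ.τ₂ := inferInstanceAs (IsIso (𝟙 B))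
  haveI : Mono φ.τ₃ := inferInstanceAs (Mono (𝟙 K))
  exact (ShortComplex.exact_iff_of_epi_of_isIso_of_mono φ).2 h2

lemma exact_epi_kernel_mono {A B K C : 𝒞} (f : B ⟶ K) (p : A ⟶ kernel f) (hp : Epi p)
    (ι' : K ⟶ C) [Mono ι'] :
    (ShortComplex.mk (p ≫ kernel.ι f) (f ≫ ι')
      (by rw [Category.assoc, kernel.condition_assoc, zero_comp, comp_zero])).Exact := by
  let S₁ : ShortComplex 𝒞 := ShortComplex.mk (p ≫ kernel.ι f) f
    (by rw [Category.assoc, kernel.condition, comp_zero])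
  let S₂ : ShortComplex 𝒞 := ShortComplex.mk (p ≫ kernel.ι f) (f ≫ ι')
    (by rw [Category.assoc, kernel.condition_assoc, zero_comp, comp_zero])
  have h1 : S₁.Exact := exact_epi_kernel f p hp
  let φ : S₁ ⟶ S₂ := { τ₁ := 𝟙 _, τ₂ := 𝟙 _, τ₃ := ι' }
  haveI : Epi φ.τ₁ := inferInstanceAs (Epi (𝟙 A))
  haveI : IsIso φ.τ₂ := inferInstanceAs (IsIso (𝟙 B))
  haveI : Mono φ.τ₃ := inferInstanceAs (Mono ι')
  exact (ShortComplex.exact_iff_of_epi_of_isIso_of_mono φ).1 h1

lemma isZero_sigma_fin_of_eq_zero {𝒟 : Type*} [Category 𝒟] [Preadditive 𝒟] [HasFiniteCoproducts 𝒟]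
    [HasBinaryBiproducts 𝒟]
    {b : ℕ} (hb : b = 0) (f : Fin b → 𝒟) : IsZero (∐ f) := by
  subst hb
  exact H5.Gro.isZero_sigma_fin_zero f

end Abstract

variable {n : ℕ} {k : Type u} [Field k]

/-- one step of the long exact sequence for the kernel of an epimorphism, twisted. -/
theorem vanish_kernel_step {A B : (Proj (CohB1.polyGrading n k)).Modules} (φ : A ⟶ B) (hφ : Epi φ)
    (t : ℤ) (i : ℕ)
    (h3 : Subsingleton (Coh.HH (Proj (CohB1.polyGrading n k)) (kG n k B t) i))
    (h2 : Subsingleton (Coh.HH (Proj (CohB1.polyGrading n k)) (kG n k A t) (i + 1))) :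
    Subsingleton (Coh.HH (Proj (CohB1.polyGrading n k)) (kG n k (kernel φ) t) (i + 1)) := by
  have hS : (ShortComplex.mk (kernel.ι φ) φ (kernel.condition φ)).ShortExact :=
    { exact := ShortComplex.exact_of_f_is_kernel _ (kernelIsKernel φ)
      mono_f := inferInstanceAs (Mono (kernel.ι φ))
      epi_g := hφ }
  have hT := QC.shortExact_tensorMap_of_isInvertible hS (twist (CohB1.polyGrading n k) t)
    (isInvertible_twist n k t)
  exact CL.subsingleton_left hT i h3 h2

/-- the stages of the resolution: the `j`-th syzygy module. -/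
structure St (n : ℕ) (k : Type u) [Field k] (m₀ : ℤ) (j : ℕ) where
  K : (Proj (CohB1.polyGrading n k)).Modules
  coh : Coh.IsCoh K
  reg : IsReg n k K (m₀ + j)

namespace St
variable {m₀ : ℤ} {j : ℕ}

/-- the chosen minimal presentation of a stage. -/
noncomputable def step (s : St n k m₀ j) : Step s.K (m₀ + j) :=
  Classical.choice (nonempty_step s.K s.coh _ s.reg)

/-- the next stage: the kernel of the minimal presentation. -/
noncomputable def next (s : St n k m₀ j) : St n k m₀ (j + 1) where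
  K := kernel s.step.φ
  coh := s.step.coh
  reg := by
    have h := s.step.reg
    have e : m₀ + (j : ℤ) + 1 = m₀ + ((j + 1 : ℕ) : ℤ) := by push_cast; ring
    rwa [e] at h

end St

/-- the sequence of stages. -/
noncomputable def seq {m₀ : ℤ} (s0 : St n k m₀ 0) : (j : ℕ) → St n k m₀ j
  | 0 => s0
  | j + 1 => (seq s0 j).next

variable {m₀ : ℤ} (s0 : St n k m₀ 0)

/-- the terms of the resolution. -/
noncomputable def CX (j : ℕ) : (Proj (CohB1.polyGrading n k)).Modules :=
  ∐ fun _ : Fin (seq s0 j).step.b => twist (CohB1.polyGrading n k) (-(m₀ + (j : ℤ)))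

/-- the augmentation of the `j`-th term onto the `j`-th syzygy. -/
noncomputable def aug (j : ℕ) : CX s0 j ⟶ (seq s0 j).K := (seq s0 j).step.φ

instance (j : ℕ) : Epi (aug s0 j) := (seq s0 j).step.epi

/-- the inclusion of the `(j+1)`-st syzygy. -/
noncomputable def inc (j : ℕ) : (seq s0 (j + 1)).K ⟶ CX s0 j := kernel.ι (seq s0 j).step.φ

instance (j : ℕ) : Mono (inc s0 j) := inferInstanceAs (Mono (kernel.ι (seq s0 j).step.φ))

lemma inc_aug (j : ℕ) : inc s0 j ≫ aug s0 j = 0 := kernel.condition _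

/-- the differential. -/
noncomputable def dd (j : ℕ) : CX s0 (j + 1) ⟶ CX s0 j := aug s0 (j + 1) ≫ inc s0 j

lemma dd_dd (j : ℕ) : dd s0 (j + 1) ≫ dd s0 j = 0 := by
  unfold dd
  rw [Category.assoc, ← Category.assoc (inc s0 (j + 1)), inc_aug, zero_comp, comp_zero]

lemma dd_aug (j : ℕ) : dd s0 j ≫ aug s0 j = 0 := by
  unfold dd
  rw [Category.assoc, inc_aug, comp_zero]

lemma exact_dd_aug (j : ℕ) : (ShortComplex.mk (dd s0 j) (aug s0 j) (dd_aug s0 j)).Exact :=
  exact_epi_kernel (seq s0 j).step.φ (aug s0 (j + 1)) (seq s0 (j + 1)).step.epi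

lemma exact_dd_dd (j : ℕ) : (ShortComplex.mk (dd s0 (j + 1)) (dd s0 j) (dd_dd s0 j)).Exact :=
  exact_epi_kernel_mono (seq s0 (j + 1)).step.φ (aug s0 (j + 1 + 1))
    (seq s0 (j + 1 + 1)).step.epi (inc s0 j)

/-- the key vanishing: `H^i(K_{e+i+1}(m₀+e)) = 0`. -/
theorem vanish_syzygy (i : ℕ) : ∀ e : ℕ, Subsingleton (Coh.HH (Proj (CohB1.polyGrading n k))
    (kG n k (seq s0 (e + i + 1)).K (m₀ + e)) i) := by
  induction i with
  | zero => intro e; exact (seq s0 e).step.h0
  | succ i ih =>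
    intro e
    refine vanish_kernel_step (seq s0 (e + i + 1)).step.φ (seq s0 (e + i + 1)).step.epi
      (m₀ + e) i (ih e) ?_
    apply subsingleton_HH_kG_sigma
    intro _
    apply subsingleton_HH_kG_twist
    · rintro ⟨h, -⟩
      omega
    · rintro ⟨h, h'⟩
      push_cast at h'
      omega

/-- the `(n+1)`-st syzygy vanishes. -/
theorem isZero_syzygy : IsZero (seq s0 (n + 1)).K := by
  haveI := (seq s0 (n + 1)).coh.1
  refine isZero_of_isReg _ (seq s0 (n + 1)).coh (m₀ + n) (fun i hi => ?_) ?_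
  · by_cases hin : i ≤ n
    · obtain ⟨e, rfl⟩ : ∃ e, n = e + i := ⟨n - i, by omega⟩
      have h := vanish_syzygy s0 i e
      have e1 : m₀ + ((e + i : ℕ) : ℤ) - (i : ℤ) = m₀ + e := by push_cast; ring
      rw [e1]
      exact h
    · haveI := kG_qc n k (seq s0 (n + 1)).K (m₀ + (n : ℤ) - (i : ℤ))
      exact subsingleton_HH_of_lt n k _ i (by omega)
  · have h := vanish_syzygy s0 0 n
    exact h

/-- all later syzygies and terms vanish. -/
theorem isZero_later (j : ℕ) (hj : n + 1 ≤ j) : IsZero (seq s0 j).K ∧ IsZero (CX s0 j) := by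
  induction j, hj using Nat.le_induction with
  | base =>
    have h1 := isZero_syzygy s0
    refine ⟨h1, ?_⟩
    have hb : (seq s0 (n + 1)).step.b = 0 := by
      rw [(seq s0 (n + 1)).step.hb]
      haveI := CL.subsingleton_HH_of_isZero (RegCx.isZero_kG n k h1 (m₀ + ((n + 1 : ℕ) : ℤ))) 0
      exact Module.finrank_zero_of_subsingleton
    exact isZero_sigma_fin_of_eq_zero hb _
  | succ j hj ih =>
    have h1 : IsZero (seq s0 (j + 1)).K := IsZero.of_mono (inc s0 j) ih.2
    refine ⟨h1, ?_⟩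
    have hb : (seq s0 (j + 1)).step.b = 0 := by
      rw [(seq s0 (j + 1)).step.hb]
      haveI := CL.subsingleton_HH_of_isZero (RegCx.isZero_kG n k h1 (m₀ + ((j + 1 : ℕ) : ℤ))) 0
      exact Module.finrank_zero_of_subsingleton
    exact isZero_sigma_fin_of_eq_zero hb _

end Groth.Agent.H2.Horr

namespace Groth.Agent.H2.Horr

open Groth.Agent.LD Groth.Agent.LD.PN Twist

variable {n : ℕ} {k : Type u} [Field k]

/-- **resolution by sums of twisting sheaves** (Hilbert's syzygy theorem for sheaves): a coherent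
module on `P^n_k` has a resolution of length `≤ n` by finite sums of twisting sheaves. -/
theorem exists_resolution (F : (Proj (CohB1.polyGrading n k)).Modules) (hF : Coh.IsCoh F) :
    ∃ (C : ChainComplex (Proj (CohB1.polyGrading n k)).Modules ℕ) (π : C.X 0 ⟶ F)
      (w : C.d 1 0 ≫ π = 0),
      (∀ i : ℕ, n < i → IsZero (C.X i)) ∧
      (∀ i : ℕ, ∃ (m : ℕ) (d : Fin m → ℤ),
        Nonempty (C.X i ≅ ∐ fun j : Fin m => twist (CohB1.polyGrading n k) (d j))) ∧
      (∀ i : ℕ, 1 ≤ i → IsZero (C.homology i)) ∧ Epi π ∧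
      (ShortComplex.mk (C.d 1 0) π w).Exact := by
  obtain ⟨m₀, h₀⟩ := exists_isReg F hF
  let s0 : St n k m₀ 0 := ⟨F, hF, by rwa [Nat.cast_zero, add_zero]⟩
  let C : ChainComplex (Proj (CohB1.polyGrading n k)).Modules ℕ :=
    ChainComplex.of (CX s0) (dd s0) (dd_dd s0)
  have hd : ∀ j, C.d (j + 1) j = dd s0 j := fun j => ChainComplex.of_d (CX s0) (dd s0) j
  have w : C.d 1 0 ≫ aug s0 0 = 0 := by
    rw [hd 0]
    exact dd_aug s0 0
  refine ⟨C, aug s0 0, w, fun i hi => (isZero_later s0 i (by omega)).2,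
    fun i => ⟨_, fun _ => -(m₀ + (i : ℤ)), ⟨Iso.refl _⟩⟩, fun i hi => ?_,
    (seq s0 0).step.epi, ?_⟩
  · obtain ⟨j, rfl⟩ : ∃ j, i = j + 1 := ⟨i - 1, by omega⟩
    rw [← HomologicalComplex.exactAt_iff_isZero_homology,
      HomologicalComplex.exactAt_iff' C (j + 1 + 1) (j + 1) j (by simp) (by simp)]
    have h := exact_dd_dd s0 j
    refine ShortComplex.exact_of_iso ?_ h
    exact ShortComplex.isoMk (Iso.refl _) (Iso.refl _) (Iso.refl _)
      ((Category.id_comp _).trans ((hd (j + 1)).trans (Category.comp_id _).symm))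
      ((Category.id_comp _).trans ((hd j).trans (Category.comp_id _).symm))
  · have h := exact_dd_aug s0 0
    refine ShortComplex.exact_of_iso ?_ h
    exact ShortComplex.isoMk (Iso.refl _) (Iso.refl _) (Iso.refl _)
      ((Category.id_comp _).trans ((hd 0).trans (Category.comp_id _).symm))
      ((Category.id_comp _).trans (Category.comp_id _).symm)

end Groth.Agent.H2.Horr
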