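import Mathlib
import Groth.Agent.Lib.Helper2.HorrG
import Groth.Agent.Lib.Lead.EZ.SmulCenter
import Groth.Agent.Lib.Lead.MS.Flat2
import Groth.Agent.Lib.Lead.QC.ProjFormulaLF
import Groth.Agent.Lib.Lead.PN.Dual2
import Groth.Agent.Lib.Lead.QC.BiprodSec
import Groth.Agent.Lib.Helper5.Curve2.H

/-!
# Multiplication by linear forms on the cohomology of twists of a locally free module.
-/

set_option autoImplicit false
universe u
open CategoryTheory CategoryTheory.Limits AlgebraicGeometry TopologicalSpace Opposite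

namespace Groth.Agent.H2.Horr

open Groth.Agent.LD Groth.Agent.LD.PN Twist

section General
variable {X : Scheme.{u}}

lemma tensorMap_id_comp (E : X.Modules) {N N' N'' : X.Modules} (f : N ⟶ N') (g : N' ⟶ N'') :
    KoszTw.tensorMap (𝟙 E) (f ≫ g) = KoszTw.tensorMap (𝟙 E) f ≫ KoszTw.tensorMap (𝟙 E) g := by
  rw [← KoszTw.tensorBi_obj_map, ← KoszTw.tensorBi_obj_map, ← KoszTw.tensorBi_obj_map,
    Functor.map_comp]
  rfl

lemma tensorMap_id_add (E : X.Modules) {N N' : X.Modules} (f g : N ⟶ N') :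
    KoszTw.tensorMap (𝟙 E) (f + g) = KoszTw.tensorMap (𝟙 E) f + KoszTw.tensorMap (𝟙 E) g := by
  rw [← KoszTw.tensorBi_obj_map, ← KoszTw.tensorBi_obj_map, ← KoszTw.tensorBi_obj_map,
    Functor.map_add]
  rfl

lemma tensorMap_id_neg (E : X.Modules) {N N' : X.Modules} (f : N ⟶ N') :
    KoszTw.tensorMap (𝟙 E) (-f) = -KoszTw.tensorMap (𝟙 E) f := by
  rw [← KoszTw.tensorBi_obj_map, ← KoszTw.tensorBi_obj_map, Functor.map_neg]
  rfl

/-- multiplication by a global function on the second factor of a tensor product. -/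
lemma obj_map_smulModΓ (F N : X.Modules) (r : Coh.Γtop X) :
    ((ModSite.tensorBi X.sheaf).obj F).map (Formal.smulModΓ N r) =
      Formal.smulModΓ (((ModSite.tensorBi X.sheaf).obj F).obj N) r := by
  have h1 := (MS.braidIso (O := X.sheaf) F).hom.naturality (Formal.smulModΓ N r)
  rw [EZ.flip_map_smulModΓ] at h1
  have h2 := KLin.comp_smulModΓ ((MS.braidIso (O := X.sheaf) F).hom.app N) r
  have h3 : ((ModSite.tensorBi X.sheaf).obj F).map (Formal.smulModΓ N r) ≫
      (MS.braidIso (O := X.sheaf) F).hom.app N =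
      Formal.smulModΓ (((ModSite.tensorBi X.sheaf).obj F).obj N) r ≫
        (MS.braidIso (O := X.sheaf) F).hom.app N := h1.trans h2
  haveI : IsIso ((MS.braidIso (O := X.sheaf) F).hom.app N) := inferInstance
  exact (cancel_mono _).1 h3

lemma tensorMap_id_smulModΓ (E N : X.Modules) (r : Coh.Γtop X) :
    KoszTw.tensorMap (𝟙 E) (Formal.smulModΓ N r) =
      Formal.smulModΓ (CohB1.tensorMod E N) r := by
  rw [← KoszTw.tensorBi_obj_map]
  exact obj_map_smulModΓ E N r

end General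


section MulBy
variable {n : ℕ} {k : Type u} [Field k]

open TW

lemma isMulBy_add {d d' : ℤ}
    {φ φ' : twist (CohB1.polyGrading n k) d ⟶ twist (CohB1.polyGrading n k) d'}
    {f f' : MvPolynomial (Fin (n + 1)) k} (h : IsMulBy φ f) (h' : IsMulBy φ' f') :
    IsMulBy (φ + φ') (f + f') := by
  intro W t y
  have h1 : (φ + φ').app W t = φ.app W t + φ'.app W t := QC.add_app' φ φ' W t
  have h2 : secVal ((φ + φ').app W t) y = secVal (φ.app W t) y + secVal (φ'.app W t) y := by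
    rw [h1]; rfl
  rw [h2, h W t y, h' W t y, ← add_mul, Localization.add_mk_self]

lemma isMulBy_neg {d d' : ℤ}
    {φ : twist (CohB1.polyGrading n k) d ⟶ twist (CohB1.polyGrading n k) d'}
    {f : MvPolynomial (Fin (n + 1)) k} (h : IsMulBy φ f) : IsMulBy (-φ) (-f) := by
  intro W t y
  have h1 : (-φ).app W t = -(φ.app W t) := QC.neg_app' φ W t
  have h2 : secVal ((-φ).app W t) y = -secVal (φ.app W t) y := by
    rw [h1]; rfl
  rw [h2, h W t y, ← neg_mul, Localization.neg_mk]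

lemma isMulBy_comp_smul {d d' : ℤ}
    {φ : twist (CohB1.polyGrading n k) d ⟶ twist (CohB1.polyGrading n k) d'}
    {f : MvPolynomial (Fin (n + 1)) k} (h : IsMulBy φ f) (c : k) :
    IsMulBy (φ ≫ Formal.smulMod k (twist (CohB1.polyGrading n k) d') c) (MvPolynomial.C c * f) := by
  intro W t y
  have h1 : (φ ≫ Formal.smulMod k (twist (CohB1.polyGrading n k) d') c).app W t =
      (Proj (CohB1.polyGrading n k)).presheaf.map (homOfLE (le_top : W ≤ ⊤)).op
        (Coh.toGlobal (CohB1.ProjSpace.toSpec n k) c) • φ.app W t := rfl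
  have h2 := smul_sec_val (𝒜 := CohB1.polyGrading n k) (k := d') (W := W)
    ((Proj (CohB1.polyGrading n k)).presheaf.map (homOfLE (le_top : W ≤ ⊤)).op
      (Coh.toGlobal (CohB1.ProjSpace.toSpec n k) c)) (φ.app W t) y
  have h3 := toGlobal_val (n := n) c y.1
  rw [h1]
  refine h2.trans ?_
  refine (congrArg (fun z => z * secVal (φ.app W t) y) h3).trans ?_
  rw [h W t y, ← mul_assoc, Localization.mk_mul]
  congr 2
  exact one_mul _

/-- the multiplication by a nonzero polynomial is a monomorphism. -/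
theorem mono_of_isMulBy {d d' : ℤ}
    {φ : twist (CohB1.polyGrading n k) d ⟶ twist (CohB1.polyGrading n k) d'}
    {f : MvPolynomial (Fin (n + 1)) k} (h : IsMulBy φ f) (hf : f ≠ 0) : Mono φ := by
  apply H3.ZClosLib.mono_of_app_injective
  intro W
  rw [injective_iff_map_eq_zero]
  intro t ht
  have key : (show sectN (𝒜 := CohB1.polyGrading n k) d (op W) from t) = 0 := by
    apply sectN_ext
    intro y
    have h1 := h W t y
    rw [ht] at h1
    have h2 : secVal (0 : Γ(twist (CohB1.polyGrading n k) d', W)) y = 0 := rfl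
    rw [h2] at h1
    have h3 : (Localization.mk f 1 : Loc (CohB1.polyGrading n k) y.1) ≠ 0 := by
      rw [Localization.mk_one_eq_algebraMap]
      intro h0
      exact hf ((IsLocalization.to_map_eq_zero_iff (Loc (CohB1.polyGrading n k) y.1)
        (Ideal.primeCompl_le_nonZeroDivisors y.1.asHomogeneousIdeal.toIdeal)).1 h0)
    rcases mul_eq_zero.1 h1.symm with h4 | h4
    · exact absurd h4 h3
    · exact h4
  exact key

end MulBy


section Low
variable {n : ℕ} {k : Type u} [Field k]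

open TW

/-- the chosen multiplication by a linear form `O(m-1) ⟶ O(m)`. -/
noncomputable def mulHom (m : ℤ) (ℓ : MvPolynomial (Fin (n + 1)) k)
    (hℓ : ℓ ∈ CohB1.polyGrading n k 1) :
    twist (CohB1.polyGrading n k) (m - 1) ⟶ twist (CohB1.polyGrading n k) m :=
  (exists_hom_isMulBy' n k (d := m - 1) (d' := m) 1 (by push_cast; ring) ℓ hℓ).choose

lemma mulHom_spec (m : ℤ) (ℓ : MvPolynomial (Fin (n + 1)) k)
    (hℓ : ℓ ∈ CohB1.polyGrading n k 1) : IsMulBy (mulHom m ℓ hℓ) ℓ :=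
  (exists_hom_isMulBy' n k (d := m - 1) (d' := m) 1 (by push_cast; ring) ℓ hℓ).choose_spec

/-- the multiplication by a linear form `H⁰(E(m-1)) ⟶ H⁰(E(m))`. -/
noncomputable def mu (E : (Proj (CohB1.polyGrading n k)).Modules) (m : ℤ)
    (ℓ : MvPolynomial (Fin (n + 1)) k) (hℓ : ℓ ∈ CohB1.polyGrading n k 1) :
    Coh.HH (Proj (CohB1.polyGrading n k))
        (CohB1.tensorMod E (twist (CohB1.polyGrading n k) (m - 1))) 0 →ₗ[k]
      Coh.HH (Proj (CohB1.polyGrading n k))
        (CohB1.tensorMod E (twist (CohB1.polyGrading n k) m)) 0 :=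
  CL.HHmap k (KoszTw.tensorMap (𝟙 E) (mulHom m ℓ hℓ)) 0

theorem mu_injective (E : (Proj (CohB1.polyGrading n k)).Modules) (hE : FlatMod.IsFinLocFree E)
    (m : ℤ) (ℓ : MvPolynomial (Fin (n + 1)) k) (hℓ : ℓ ∈ CohB1.polyGrading n k 1) (h0 : ℓ ≠ 0) :
    Function.Injective (mu E m ℓ hℓ) := by
  haveI : Mono (mulHom m ℓ hℓ) := mono_of_isMulBy (mulHom_spec m ℓ hℓ) h0
  haveI : Mono (KoszTw.tensorMap (𝟙 E) (mulHom m ℓ hℓ)) :=
    QC.mono_tensorMap_left_of_isFinLocFree (mulHom m ℓ hℓ) E hE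
  exact H5.Curve2.injective_HHmap_zero k _

theorem mu_sub (E : (Proj (CohB1.polyGrading n k)).Modules) (m : ℤ)
    (ℓ₀ ℓ₁ : MvPolynomial (Fin (n + 1)) k) (h₀ : ℓ₀ ∈ CohB1.polyGrading n k 1)
    (h₁ : ℓ₁ ∈ CohB1.polyGrading n k 1) (c : k)
    (h₂ : ℓ₁ - MvPolynomial.C c * ℓ₀ ∈ CohB1.polyGrading n k 1)
    (x : Coh.HH (Proj (CohB1.polyGrading n k))
      (CohB1.tensorMod E (twist (CohB1.polyGrading n k) (m - 1))) 0) :
    mu E m ℓ₁ h₁ x = mu E m (ℓ₁ - MvPolynomial.C c * ℓ₀) h₂ x + c • mu E m ℓ₀ h₀ x := by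
  have e1 : mulHom m ℓ₁ h₁ = mulHom m (ℓ₁ - MvPolynomial.C c * ℓ₀) h₂ +
      mulHom m ℓ₀ h₀ ≫ Formal.smulMod k (twist (CohB1.polyGrading n k) m) c := by
    refine IsMulBy.ext (mulHom_spec m ℓ₁ h₁) ?_
    have h3 := isMulBy_add (mulHom_spec m (ℓ₁ - MvPolynomial.C c * ℓ₀) h₂)
      (isMulBy_comp_smul (mulHom_spec m ℓ₀ h₀) c)
    rwa [sub_add_cancel] at h3
  have e2 : KoszTw.tensorMap (𝟙 E) (mulHom m ℓ₁ h₁) =
      KoszTw.tensorMap (𝟙 E) (mulHom m (ℓ₁ - MvPolynomial.C c * ℓ₀) h₂) +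
      KoszTw.tensorMap (𝟙 E) (mulHom m ℓ₀ h₀) ≫
        Formal.smulMod k (CohB1.tensorMod E (twist (CohB1.polyGrading n k) m)) c := by
    rw [e1, tensorMap_id_add, tensorMap_id_comp]
    congr 2
    exact tensorMap_id_smulModΓ E _ _
  have e3 : CL.HHmap k (KoszTw.tensorMap (𝟙 E) (mulHom m ℓ₁ h₁)) 0 = _ :=
    (congrArg (fun g => CL.HHmap k g 0) e2).trans
      ((CL.HHmap_add k _ _ 0).trans (congrArg _ (CL.HHmap_comp k _ _ 0)))
  exact LinearMap.congr_fun e3 x

end Low

end Groth.Agent.H2.Horr
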