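import Mathlib
import Groth.Agent.Lib.Helper2.HorrH

/-!
# Locally free modules on projective space have no sections in low degrees.
-/

set_option autoImplicit false
universe u
open CategoryTheory CategoryTheory.Limits AlgebraicGeometry TopologicalSpace Opposite

namespace Groth.Agent.H2.Horr

open Groth.Agent.LD Groth.Agent.LD.PN Twist

section LinAlg

/-- two linear maps between finite dimensional spaces over an algebraically closed field, the
first being bijective and the source nonzero: some combination `b - c a` is not injective. -/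
theorem exists_not_injective {K V W : Type*} [Field K] [IsAlgClosed K] [AddCommGroup V]
    [Module K V] [AddCommGroup W] [Module K W] [FiniteDimensional K V] [Nontrivial V]
    (a b : V →ₗ[K] W) (ha : Function.Bijective a) :
    ∃ (c : K) (v : V), v ≠ 0 ∧ b v = c • a v := by
  let e : V ≃ₗ[K] W := LinearEquiv.ofBijective a ha
  let T : Module.End K V := e.symm.toLinearMap.comp b
  obtain ⟨c, hc⟩ := Module.End.exists_eigenvalue T
  obtain ⟨v, hv⟩ := hc.exists_hasEigenvector
  refine ⟨c, v, hv.2, ?_⟩
  have h1 : T v = c • v := hv.apply_eq_smul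
  have h2 : e (T v) = b v := by
    change e (e.symm (b v)) = b v
    exact e.apply_symm_apply _
  rw [← h2, h1, map_smul]
  rfl

end LinAlg

variable {n : ℕ} {k : Type u} [Field k]

theorem isCoh_of_isFinLocFree (E : (Proj (CohB1.polyGrading n k)).Modules)
    (hE : FlatMod.IsFinLocFree E) : Coh.IsCoh E := by
  haveI := QC.isFinitePresentation_of_isFinLocFree E hE
  exact ⟨inferInstance, inferInstance⟩

/-- **a locally free module on `P^n`, `n ≥ 1`, has no sections in low degrees.** -/
theorem exists_low_of_isFinLocFree [IsAlgClosed k] (hn : 1 ≤ n)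
    (E : (Proj (CohB1.polyGrading n k)).Modules) (hE : FlatMod.IsFinLocFree E) :
    ∃ n₀ : ℤ, ∀ m : ℤ, m ≤ n₀ →
      Subsingleton (Coh.HH (Proj (CohB1.polyGrading n k))
        (CohB1.tensorMod E (twist (CohB1.polyGrading n k) m)) 0) := by
  have hcoh := isCoh_of_isFinLocFree E hE
  have hfin : ∀ m : ℤ, Module.Finite k (Coh.HH (Proj (CohB1.polyGrading n k))
      (CohB1.tensorMod E (twist (CohB1.polyGrading n k) m)) 0) :=
    fun m => finite_HH_coh' n k _ (isCoh_twist n k E hcoh m) 0
  let d : ℤ → ℕ := fun m => Module.finrank k (Coh.HH (Proj (CohB1.polyGrading n k))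
    (CohB1.tensorMod E (twist (CohB1.polyGrading n k) m)) 0)
  let i0 : Fin (n + 1) := 0
  let i1 : Fin (n + 1) := ⟨1, by omega⟩
  have hi : i0 ≠ i1 := by
    intro h
    have := congrArg Fin.val h
    simp [i0, i1] at this
  have hx0 : (MvPolynomial.X i0 : MvPolynomial (Fin (n + 1)) k) ≠ 0 := MvPolynomial.X_ne_zero i0
  -- monotonicity
  have hmono : ∀ m : ℤ, d (m - 1) ≤ d m := by
    intro m
    haveI := hfin m
    exact LinearMap.finrank_le_finrank_of_injective
      (mu_injective E hE m _ (X_mem i0) hx0)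
  have hmono' : ∀ (m : ℤ) (j : ℕ), d (m - j) ≤ d m := by
    intro m j
    induction j with
    | zero => simp
    | succ j ih =>
      have h1 := hmono (m - j)
      have e : m - ((j + 1 : ℕ) : ℤ) = m - (j : ℤ) - 1 := by push_cast; ring
      rw [e]
      exact h1.trans ih
  -- a twist of minimal dimension
  obtain ⟨m₁, hm₁⟩ : ∃ m₁ : ℤ, ∀ m : ℤ, d m₁ ≤ d m := by
    have hne : (Set.range d).Nonempty := ⟨d 0, ⟨0, rfl⟩⟩
    obtain ⟨m₁, hm₁⟩ := Nat.sInf_mem hne
    exact ⟨m₁, fun m => hm₁ ▸ Nat.sInf_le ⟨m, rfl⟩⟩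
  refine ⟨m₁, fun m hm => ?_⟩
  by_cases hd0 : d m₁ = 0
  · obtain ⟨j, rfl⟩ : ∃ j : ℕ, m = m₁ - j := ⟨(m₁ - m).toNat, by omega⟩
    have h1 : d (m₁ - j) = 0 := Nat.le_zero.1 (hd0 ▸ hmono' m₁ j)
    haveI := hfin (m₁ - j)
    exact Module.finrank_zero_iff.1 h1
  · exfalso
    have heq : d (m₁ - 1) = d m₁ := le_antisymm (hmono m₁) (hm₁ _)
    haveI := hfin m₁
    haveI := hfin (m₁ - 1)
    have hbij : Function.Bijective (mu E m₁ _ (X_mem (R := k) i0)) := by
      have hinj := mu_injective E hE m₁ _ (X_mem i0) hx0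
      exact ⟨hinj, (LinearMap.injective_iff_surjective_of_finrank_eq_finrank heq).1 hinj⟩
    haveI : Nontrivial (Coh.HH (Proj (CohB1.polyGrading n k))
        (CohB1.tensorMod E (twist (CohB1.polyGrading n k) (m₁ - 1))) 0) := by
      apply Module.nontrivial_of_finrank_pos (R := k)
      change 0 < d (m₁ - 1)
      omega
    obtain ⟨c, v, hv, hbv⟩ := exists_not_injective (mu E m₁ _ (X_mem (R := k) i0))
      (mu E m₁ _ (X_mem (R := k) i1)) hbij
    have hmem : (MvPolynomial.X i1 - MvPolynomial.C c * MvPolynomial.X i0 :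
        MvPolynomial (Fin (n + 1)) k) ∈ CohB1.polyGrading n k 1 := by
      refine Submodule.sub_mem _ (X_mem i1) ?_
      rw [← MvPolynomial.smul_eq_C_mul]
      exact Submodule.smul_mem _ c (X_mem i0)
    have hne : (MvPolynomial.X i1 - MvPolynomial.C c * MvPolynomial.X i0 :
        MvPolynomial (Fin (n + 1)) k) ≠ 0 := by
      intro h0
      have h1 := congrArg (MvPolynomial.coeff (Finsupp.single i1 1)) h0
      have hs : (Finsupp.single i0 1 : Fin (n + 1) →₀ ℕ) ≠ Finsupp.single i1 1 := fun h2 =>
        hi (Finsupp.single_left_injective one_ne_zero h2)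
      rw [MvPolynomial.coeff_sub, MvPolynomial.coeff_C_mul, MvPolynomial.coeff_X,
        MvPolynomial.coeff_X, if_pos rfl, if_neg hs, mul_zero, sub_zero,
        MvPolynomial.coeff_zero] at h1
      exact one_ne_zero h1
    have h3 := mu_sub E m₁ _ _ (X_mem i0) (X_mem i1) c hmem v
    rw [hbv] at h3
    have h4 : mu E m₁ _ hmem v = 0 := by
      have := h3
      exact (add_eq_right.1 h3.symm)
    exact hv (mu_injective E hE m₁ _ hmem hne (h4.trans (map_zero _).symm))

end Groth.Agent.H2.Horr
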