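import Mathlib
import Groth.Agent.Lib.Helper2.HorrI
import Groth.Agent.Lib.Helper2.HypCohA
import Groth.Agent.Lib.Helper5.DegC.RankDeg
import Groth.Agent.Lib.Lead.PN.Chi

/-!
# Horrocks' criterion for finite locally free modules of given rank.
-/

set_option autoImplicit false
universe u
open CategoryTheory CategoryTheory.Limits AlgebraicGeometry TopologicalSpace Opposite

namespace Groth.Agent.H2.Horr

open Groth.Agent.LD Groth.Agent.LD.PN Twist Groth.Agent.H5.Curve4 Groth.Agent.H5.DegC

variable {n : ℕ} {k : Type u} [Field k]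

theorem isCoh_twist_single (d : ℤ) : Coh.IsCoh (twist (CohB1.polyGrading n k) d) :=
  ⟨qc_twist n k d, QC.isFiniteType_of_isInvertible _ (isInvertible_twist n k d)⟩

/-- a finite coproduct of twisting sheaves is coherent. -/
theorem isCoh_sigma_twists : ∀ (r : ℕ) (a : Fin r → ℤ),
    Coh.IsCoh (∐ fun j : Fin r => twist (CohB1.polyGrading n k) (a j))
  | 0, _ => QC.isCoh_of_iso ((H5.Gro.isZero_sigma_fin_zero _).iso
      (H5.Gro.isZero_sigma_fin_zero _)) (isCoh_sigma_twist (n := n) (k := k) 0 0)
  | r + 1, a => QC.isCoh_of_iso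
      (H5.Gro.sigmaFinSuccIso (fun j => twist (CohB1.polyGrading n k) (a j))).symm
      (isCoh_biprod n k _ _ (isCoh_twist_single (a 0)) (isCoh_sigma_twists r (fun j => a j.succ)))

/-- the short exact sequence attached to biproduct data. -/
theorem BD.shortExact {F F' L : (Proj (CohB1.polyGrading n k)).Modules} (b : BD F F' L) :
    (ShortComplex.mk b.ι b.q b.ιq).ShortExact := by
  let sp : (ShortComplex.mk b.ι b.q b.ιq).Splitting :=
    { r := b.ρ
      s := b.j
      f_r := b.ιρ
      s_g := b.jq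
      id := b.total }
  exact sp.shortExact

/-- the generic rank of a finite coproduct of twisting sheaves. -/
theorem gdim_sigma_twists [IsIntegral (Proj (CohB1.polyGrading n k))] : ∀ (r : ℕ) (a : Fin r → ℤ),
    gdim (∐ fun j : Fin r => twist (CohB1.polyGrading n k) (a j)) = r
  | 0, a => by
    have hz : IsZero (∐ fun j : Fin 0 => twist (CohB1.polyGrading n k) (a j)) :=
      H5.Gro.isZero_sigma_fin_zero _
    have b : BD (∐ fun j : Fin 0 => twist (CohB1.polyGrading n k) (a j))
        (∐ fun j : Fin 0 => twist (CohB1.polyGrading n k) (a j))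
        (∐ fun j : Fin 0 => twist (CohB1.polyGrading n k) (a j)) :=
      { ι := 0, ρ := 0, j := 0, q := 0
        ιρ := hz.eq_of_src _ _, jq := hz.eq_of_src _ _, ιq := hz.eq_of_src _ _
        jρ := hz.eq_of_src _ _, total := hz.eq_of_src _ _ }
    have h : gdim (∐ fun j : Fin 0 => twist (CohB1.polyGrading n k) (a j)) =
        gdim (∐ fun j : Fin 0 => twist (CohB1.polyGrading n k) (a j)) +
        gdim (∐ fun j : Fin 0 => twist (CohB1.polyGrading n k) (a j)) :=
      gdim_add _ b.shortExact (isCoh_sigma_twists 0 a) (isCoh_sigma_twists 0 a)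
    omega
  | r + 1, a => by
    have b : BD (∐ fun j : Fin (r + 1) => twist (CohB1.polyGrading n k) (a j))
        (∐ fun j : Fin r => twist (CohB1.polyGrading n k) (a j.succ))
        (twist (CohB1.polyGrading n k) (a 0)) :=
      BD.ofIso (H5.Gro.sigmaFinSuccIso (fun j => twist (CohB1.polyGrading n k) (a j)) ≪≫
        biprod.braiding _ _)
    have h : gdim (∐ fun j : Fin (r + 1) => twist (CohB1.polyGrading n k) (a j)) =
        gdim (∐ fun j : Fin r => twist (CohB1.polyGrading n k) (a j.succ)) +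
        gdim (twist (CohB1.polyGrading n k) (a 0)) :=
      gdim_add _ b.shortExact (isCoh_sigma_twists r _) (isCoh_twist_single (a 0))
    have ih := gdim_sigma_twists r (fun j => a j.succ)
    have h1 : gdim (twist (CohB1.polyGrading n k) (a 0)) = 1 :=
      gdim_of_rank ((QC.isInvertible_iff _).mp (isInvertible_twist n k (a 0)))
    rw [h, ih, h1]

/-- the number of summands is the rank. -/
theorem rank_eq_of_iso (r r' : ℕ) (E : (Proj (CohB1.polyGrading n k)).Modules)
    (hE : FlatMod.IsFinLocFreeOfRank r E) (a : Fin r' → ℤ)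
    (e : E ≅ ∐ fun j : Fin r' => twist (CohB1.polyGrading n k) (a j)) : r' = r := by
  haveI := HypCoh.isIntegral_proj k n
  have h1 := gdim_sigma_twists (n := n) (k := k) r' a
  have h2 := gdim_iso e
  have h3 : gdim E = r := gdim_of_rank hE
  omega

end Groth.Agent.H2.Horr

namespace Groth.Agent.H2.Horr

open Groth.Agent.LD Groth.Agent.LD.PN Twist

variable {n : ℕ} {k : Type u} [Field k]

theorem isFinLocFree_of_rank {X : Scheme.{u}} (r : ℕ) (E : X.Modules)
    (hE : FlatMod.IsFinLocFreeOfRank r E) : FlatMod.IsFinLocFree E := fun x => by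
  obtain ⟨U, hx, e⟩ := hE x
  exact ⟨U, r, hx, e⟩

/-- on `P^0` every coherent module is a finite sum of twisting sheaves. -/
theorem splits_zero (E : (Proj (CohB1.polyGrading 0 k)).Modules) (hE : Coh.IsCoh E) :
    ∃ (r : ℕ) (a : Fin r → ℤ),
      Nonempty (E ≅ ∐ fun j : Fin r => twist (CohB1.polyGrading 0 k) (a j)) := by
  haveI := hE.1
  have hreg : ∀ (G : (Proj (CohB1.polyGrading 0 k)).Modules) [G.IsQuasicoherent] (m : ℤ),
      IsReg 0 k G m := by
    intro G _ m i hi
    haveI := kG_qc 0 k G (m - i)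
    exact subsingleton_HH_of_lt 0 k _ i (by omega)
  obtain ⟨st⟩ := nonempty_step E hE 0 (hreg E 0)
  haveI := st.coh.1
  have hz : IsZero (kernel st.φ) := isZero_of_isReg _ st.coh 0 (hreg _ 0) st.h0
  haveI : Mono st.φ := Preadditive.mono_of_kernel_zero (hz.eq_of_src _ _)
  haveI : Epi st.φ := st.epi
  haveI : IsIso st.φ := isIso_of_mono_of_epi _
  exact ⟨st.b, fun _ => -0, ⟨(asIso st.φ).symm⟩⟩

/-- **Horrocks' criterion for locally free modules of rank `r`** over an algebraically closed
field. -/
theorem horrocks_locFree [IsAlgClosed k] (r : ℕ) (E : (Proj (CohB1.polyGrading n k)).Modules)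
    (hE : FlatMod.IsFinLocFreeOfRank r E) :
    (∃ a : Fin r → ℤ,
      Nonempty (E ≅ ∐ fun j : Fin r => twist (CohB1.polyGrading n k) (a j))) ↔
    ∀ (i : ℕ) (d : ℤ), 0 < i → i < n →
      Subsingleton (Coh.HH (Proj (CohB1.polyGrading n k))
        (CohB1.tensorMod E (twist (CohB1.polyGrading n k) d)) i) := by
  have hlf := isFinLocFree_of_rank r E hE
  have hcoh := isCoh_of_isFinLocFree E hlf
  constructor
  · rintro ⟨a, ⟨e⟩⟩ i d hi hin
    refine RegCx.subsingleton_HH_kG_of_iso n k e.symm d i ?_
    apply subsingleton_HH_kG_sigma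
    intro j
    apply subsingleton_HH_kG_twist
    · rintro ⟨h, -⟩
      omega
    · rintro ⟨h, -⟩
      omega
  · intro hmid
    have key : ∃ (r' : ℕ) (a : Fin r' → ℤ),
        Nonempty (E ≅ ∐ fun j : Fin r' => twist (CohB1.polyGrading n k) (a j)) := by
      rcases Nat.eq_zero_or_pos n with hn | hn
      · subst hn
        exact splits_zero E hcoh
      · obtain ⟨n₀, hlow⟩ := exists_low_of_isFinLocFree hn E hlf
        exact splits E hcoh ⟨⟨n₀, hlow⟩, fun m i hi hin => hmid i m hi hin⟩
    obtain ⟨r', a, ⟨e⟩⟩ := key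
    obtain rfl := rank_eq_of_iso r r' E hE a e
    exact ⟨a, ⟨e⟩⟩

end Groth.Agent.H2.Horr
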