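import Mathlib
import Groth.Prelude.Def_EtAcyc
import Groth.Agent.Lib.Helper2.SmEtSheafA
import Groth.Agent.Lib.Helper2.HpullA

universe u

open CategoryTheory CategoryTheory.Limits AlgebraicGeometry Opposite

namespace Groth.Agent.H2.HpullA

variable {X Y : Scheme.{u}}

set_option linter.style.haveILetI false in
set_option backward.isDefEq.respectTransparency.types false in
/-- A quotient of an `L`-torsion sheaf is `L`-torsion. -/
lemma isLTorsion_of_epi (L : Set ℕ) {G Q : EtCoh.Ab X} (p : G ⟶ Q) [Epi p]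
    (hG : EtAcyc.IsLTorsion L G) : EtAcyc.IsLTorsion L Q := by
  intro U s x
  haveI : Sheaf.IsLocallySurjective p := (Sheaf.isLocallySurjective_iff_epi' (φ := p)).mpr inferInstance
  have hmem := Presheaf.imageSieve_mem X.smallEtaleTopology p.hom s
  obtain ⟨V, g, v, ⟨t, ht⟩, hv⟩ := (Groth.Agent.H2.SmEtSheaf.mem_Jet_iff _).1 hmem x
  obtain ⟨V', g', m, ⟨v', hv'⟩, hm, h0⟩ := hG V t v
  refine ⟨V', g' ≫ g, m, ⟨v', ?_⟩, hm, ?_⟩
  · change (g'.left ≫ g.left).base v' = x
    rw [Scheme.Hom.comp_apply, hv', hv]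
  · have e1 : Q.obj.map (g' ≫ g).op s = Q.obj.map g'.op (Q.obj.map g.op s) := by
      rw [op_comp, Functor.map_comp]; rfl
    rw [e1, ← ht]
    have e2 : Q.obj.map g'.op (p.hom.app (op V) t) = p.hom.app (op V') (G.obj.map g'.op t) :=
      (NatTrans.naturality_apply p.hom g'.op t).symm
    rw [e2, ← map_nsmul, h0, map_zero]

end Groth.Agent.H2.HpullA
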