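import Mathlib
import Groth.Prelude.Def_EtAcyc
import Groth.Agent.Lib.Helper2.HpullA
import Groth.Agent.Lib.Helper2.HpullB

universe u

open CategoryTheory CategoryTheory.Limits AlgebraicGeometry Opposite

namespace Groth.Agent.H2.HpullA

theorem S8536_main {X Y : Scheme.{u}} (h : Y ⟶ X) (L : Set ℕ) (n : ℕ) (hc : EtAcyc.CompN h L n)
    [PreservesFiniteLimits (EtCoh.pull h)] {F G : EtCoh.Ab X} (u : F ⟶ G) [Mono u]
    (_hF : EtAcyc.IsLTorsion L F) (hG : EtAcyc.IsLTorsion L G)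
    (ξ : EtCoh.H Y ((EtCoh.pull h).obj F) (n + 1))
    (hξ : (EtCoh.HF Y (n + 1)).map ((EtCoh.pull h).map u) ξ ∈
      Set.range (EtCore.Hpull h G (n + 1))) :
    ξ ∈ Set.range (EtCore.Hpull h F (n + 1)) := by
  let S : ShortComplex (EtCoh.Ab X) := ShortComplex.mk u (cokernel.π u) (cokernel.condition u)
  have hS : S.ShortExact :=
    { exact := ShortComplex.exact_cokernel u, mono_f := ‹_›, epi_g := inferInstanceAs (Epi (cokernel.π u)) }
  have hQ : EtAcyc.IsLTorsion L S.X₃ := isLTorsion_of_epi L (cokernel.π u) hG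
  have hS' := hS.map_of_exact (EtCoh.pull h)
  obtain ⟨γ, hγ⟩ := hξ
  have hγ' : EtCore.Hpull h G (n + 1) γ = Sheaf.H.map ((EtCoh.pull h).map u) (n + 1) ξ := hγ
  -- Step 1
  have h1 : EtCore.Hpull h S.X₃ (n + 1) (Sheaf.H.map S.g (n + 1) γ) = 0 := by
    rw [Hpull_naturality, hγ', ← Sheaf.H.map_comp_apply, ← Functor.map_comp]
    have : u ≫ S.g = 0 := S.zero
    rw [this, Functor.map_zero, Sheaf.H.map_apply, Abelian.Ext.mk₀_zero, Abelian.Ext.comp_zero]
  have h2 : Sheaf.H.map S.g (n + 1) γ = 0 := (hc S.X₃ hQ).2 (h1.trans (map_zero _).symm)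
  obtain ⟨φ, hφ⟩ := Abelian.Ext.covariant_sequence_exact₂ _ hS γ h2
  -- Step 2
  have h3 : (ξ - EtCore.Hpull h F (n + 1) φ).comp (Abelian.Ext.mk₀ ((S.map (EtCoh.pull h)).f))
      (add_zero (n + 1)) = 0 := by
    have e1 : Sheaf.H.map ((EtCoh.pull h).map u) (n + 1) (EtCore.Hpull h F (n + 1) φ) =
        EtCore.Hpull h G (n + 1) γ := by
      rw [← Hpull_naturality, Sheaf.H.map_apply]
      exact congrArg _ hφ
    have e2 : Sheaf.H.map ((EtCoh.pull h).map u) (n + 1) (ξ - EtCore.Hpull h F (n + 1) φ) = 0 := by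
      rw [map_sub, e1, hγ', sub_self]
    exact e2
  obtain ⟨β', hβ'⟩ := Abelian.Ext.covariant_sequence_exact₁ _ hS' (ξ - EtCore.Hpull h F (n + 1) φ) h3 rfl
  obtain ⟨β, hβ⟩ := ((hc S.X₃ hQ).1 n le_rfl).2 β'
  refine ⟨φ + β.comp hS.extClass rfl, ?_⟩
  have e3 : EtCore.Hpull h F (n + 1) (β.comp hS.extClass rfl) =
      ξ - EtCore.Hpull h F (n + 1) φ := by
    have := Hpull_extClass h hS n β
    rw [hβ] at this
    exact this.trans hβ'
  rw [map_add, e3]
  abel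

end Groth.Agent.H2.HpullA
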