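import Groth.Agent.Lib.Helper2.IGlueBasic

/-!
# `R/I ≅ R̂/IR̂` for the `I`-adic completion (f.g. `I`), and torsion modules
-/

open TensorProduct
universe u
namespace Groth.Agent.H2.IGlue
variable {R : Type u} [CommRing R]

theorem mem_map_adicCompletion_iff (I : Ideal R) (hI : I.FG) (s : AdicCompletion I R) :
    s ∈ I.map (algebraMap R (AdicCompletion I R)) ↔ AdicCompletion.eval I R 1 s = 0 := by
  have h1 := AdicCompletion.pow_smul_top_eq_ker_eval (I := I) (M := R) (n := 1) hI
  have h2 : (I ^ 1 • ⊤ : Submodule R (AdicCompletion I R)) =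
      (I.map (algebraMap R (AdicCompletion I R))).restrictScalars R := by
    rw [pow_one, Ideal.smul_top_eq_map]
  rw [← LinearMap.mem_ker, ← h1, h2]
  rfl

theorem qmap_adicCompletion_bijective (I : Ideal R) (hI : I.FG) :
    Function.Bijective (qmap R (AdicCompletion I R) I) := by
  constructor
  · rw [injective_iff_map_eq_zero]
    intro x hx
    obtain ⟨r, rfl⟩ := Ideal.Quotient.mk_surjective x
    rw [Ideal.quotientMap_mk, Ideal.Quotient.eq_zero_iff_mem, mem_map_adicCompletion_iff I hI,
      AdicCompletion.algebraMap_apply, AdicCompletion.eval_of, Submodule.mkQ_apply,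
      Submodule.Quotient.mk_eq_zero] at hx
    rw [Ideal.Quotient.eq_zero_iff_mem]
    simpa using hx
  · intro y
    obtain ⟨s, rfl⟩ := Ideal.Quotient.mk_surjective y
    obtain ⟨r, hr⟩ := Submodule.mkQ_surjective _ (AdicCompletion.eval I R 1 s)
    refine ⟨Ideal.Quotient.mk I r, ?_⟩
    rw [Ideal.quotientMap_mk, Ideal.Quotient.eq, mem_map_adicCompletion_iff I hI, map_sub,
      AdicCompletion.algebraMap_apply, AdicCompletion.eval_of, Algebra.algebraMap_self,
      RingHom.id_apply, hr, sub_self]

end Groth.Agent.H2.IGlue
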