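import Mathlib

/-!
# Formal glueing along a flat map `R → S` with `R/I ≅ S/IS` (Stacks 15.89): basics

* `mk_bijective_of_torsion`: for `I`-power torsion `M`, `M → S ⊗ M` is bijective.
-/
open TensorProduct
universe u
namespace Groth.Agent.H2.IGlue
variable {R S : Type u} [CommRing R] [CommRing S] [Algebra R S] {I : Ideal R}

/-- `R/I → S/IS`. -/
abbrev qmap (R S : Type u) [CommRing R] [CommRing S] [Algebra R S] (I : Ideal R) :
    R ⧸ I →+* S ⧸ I.map (algebraMap R S) :=
  Ideal.quotientMap (I.map (algebraMap R S)) (algebraMap R S) Ideal.le_comap_map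

theorem exists_approx (hq : Function.Surjective (qmap R S I)) (s : S) :
    ∃ r : R, s - algebraMap R S r ∈ I.map (algebraMap R S) := by
  obtain ⟨q, hq'⟩ := hq (Ideal.Quotient.mk _ s)
  obtain ⟨r, rfl⟩ := Ideal.Quotient.mk_surjective q
  rw [Ideal.quotientMap_mk, Ideal.Quotient.eq] at hq'
  refine ⟨r, ?_⟩
  rw [← neg_sub]; exact neg_mem hq'

theorem mem_of_algebraMap_mem (hq : Function.Injective (qmap R S I)) (r : R)
    (h : algebraMap R S r ∈ I.map (algebraMap R S)) : r ∈ I := by
  rw [← Ideal.Quotient.eq_zero_iff_mem]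
  apply hq
  rw [map_zero, Ideal.quotientMap_mk, Ideal.Quotient.eq_zero_iff_mem]
  exact h

variable (M : Type u) [AddCommGroup M] [Module R M]

theorem tmul_eq_zero_of_mem_map (hM : ∀ a ∈ I, ∀ m : M, a • m = 0) (y : S)
    (hy : y ∈ I.map (algebraMap R S)) (m : M) : y ⊗ₜ[R] m = 0 := by
  rw [Ideal.map] at hy
  induction hy using Submodule.span_induction with
  | mem x hx =>
    obtain ⟨a, ha, rfl⟩ := hx
    rw [← mul_one (algebraMap R S a), ← Algebra.smul_def, TensorProduct.smul_tmul, hM a ha,
      tmul_zero]
  | zero => rw [zero_tmul]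
  | add x y _ _ hx hy => rw [add_tmul, hx, hy, add_zero]
  | smul c x _ hx =>
    have : (c • x) ⊗ₜ[R] m = c • (x ⊗ₜ[R] m) := rfl
    rw [this, hx, smul_zero]

/-- The `R`-linear retraction `S → R/I`. -/
noncomputable def piI (hq : Function.Bijective (qmap R S I)) : S →ₗ[R] R ⧸ I :=
  { toFun := fun s => (RingEquiv.ofBijective _ hq).symm (Ideal.Quotient.mk _ s)
    map_add' := fun a b => by simp
    map_smul' := fun a b => by
      simp only [RingHom.id_apply, Algebra.smul_def, map_mul]
      congr 1
      rw [RingEquiv.symm_apply_eq]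
      simp [Ideal.quotientMap_mk] }

theorem piI_one (hq : Function.Bijective (qmap R S I)) : piI hq 1 = 1 := by
  simp [piI]

variable {M}

theorem mk_surjective_of_killed (hq : Function.Surjective (qmap R S I))
    (hM : ∀ a ∈ I, ∀ m : M, a • m = 0) : Function.Surjective (TensorProduct.mk R S M 1) := by
  intro x
  induction x using TensorProduct.induction_on with
  | zero => exact ⟨0, by simp⟩
  | tmul s m =>
    obtain ⟨r, hr⟩ := exists_approx hq s
    refine ⟨r • m, ?_⟩
    have h0 := tmul_eq_zero_of_mem_map M hM _ hr m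
    rw [sub_tmul, sub_eq_zero] at h0
    rw [h0, TensorProduct.mk_apply, ← TensorProduct.smul_tmul, Algebra.smul_def, mul_one]
  | add x y hx hy =>
    obtain ⟨m, rfl⟩ := hx
    obtain ⟨m', rfl⟩ := hy
    exact ⟨m + m', map_add _ _ _⟩

theorem mk_injective_of_killed (hq : Function.Bijective (qmap R S I))
    (hM : ∀ a ∈ I, ∀ m : M, a • m = 0) : Function.Injective (TensorProduct.mk R S M 1) := by
  rw [injective_iff_map_eq_zero]
  intro m hm
  have h1 := congrArg (fun y => TensorProduct.quotTensorEquivQuotSMul M I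
      ((piI hq).rTensor M y)) hm
  simp only [TensorProduct.mk_apply, LinearMap.rTensor_tmul, piI_one, map_zero,
      TensorProduct.quotTensorEquivQuotSMul_mk_one_tmul] at h1
  rw [Submodule.Quotient.mk_eq_zero] at h1
  have h2 : (I • ⊤ : Submodule R M) = ⊥ := by
    rw [eq_bot_iff]
    intro x hx
    refine Submodule.smul_induction_on hx (fun a ha m _ => ?_) (fun x y hx hy => add_mem hx hy)
    rw [hM a ha m]; exact zero_mem _
  rw [h2] at h1
  exact h1

theorem mk_bijective_of_killed (hq : Function.Bijective (qmap R S I))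
    (hM : ∀ a ∈ I, ∀ m : M, a • m = 0) : Function.Bijective (TensorProduct.mk R S M 1) :=
  ⟨mk_injective_of_killed hq hM, mk_surjective_of_killed hq.2 hM⟩

/-- Short five lemma for `m ↦ 1 ⊗ m` (uses flatness of `S`). -/
theorem mk_bijective_of_submodule {M : Type u} [AddCommGroup M] [Module R M] [Module.Flat R S] (K : Submodule R M)
    (hK : Function.Bijective (TensorProduct.mk R S K 1))
    (hQ : Function.Bijective (TensorProduct.mk R S (M ⧸ K) 1)) :
    Function.Bijective (TensorProduct.mk R S M 1) := by
  have hinj : Function.Injective (K.subtype.lTensor S) :=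
    Module.Flat.lTensor_preserves_injective_linearMap _ K.subtype_injective
  have hex : Function.Exact (K.subtype.lTensor S) (K.mkQ.lTensor S) :=
    lTensor_exact S (LinearMap.exact_subtype_mkQ K) K.mkQ_surjective
  constructor
  · rw [injective_iff_map_eq_zero]
    intro m hm
    have h1 : TensorProduct.mk R S (M ⧸ K) 1 (K.mkQ m) = 0 := by
      have := congrArg (K.mkQ.lTensor S) hm
      simpa using this
    have h2 : K.mkQ m = 0 := hQ.1 (h1.trans (map_zero _).symm)
    rw [Submodule.mkQ_apply, Submodule.Quotient.mk_eq_zero] at h2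
    have h3 : K.subtype.lTensor S (TensorProduct.mk R S K 1 ⟨m, h2⟩) = 0 := by
      simpa using hm
    have h4 := hK.1 ((hinj (h3.trans (map_zero _).symm)).trans (map_zero _).symm)
    exact congrArg Subtype.val h4
  · intro x
    obtain ⟨q, hq⟩ := hQ.2 (K.mkQ.lTensor S x)
    obtain ⟨m, rfl⟩ := K.mkQ_surjective q
    have h1 : K.mkQ.lTensor S (x - TensorProduct.mk R S M 1 m) = 0 := by
      rw [map_sub, ← hq]; simp
    obtain ⟨y, hy⟩ := (hex _).1 h1
    obtain ⟨k, rfl⟩ := hK.2 y
    refine ⟨m + k, ?_⟩
    rw [map_add]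
    have : TensorProduct.mk R S M 1 (k : M) = x - TensorProduct.mk R S M 1 m := by
      rw [← hy]; simp
    rw [this]; abel

theorem mk_bijective_of_killed_pow [Module.Flat R S] (hq : Function.Bijective (qmap R S I)) (n : ℕ) :
    ∀ (M : Type u) [AddCommGroup M] [Module R M], (∀ a ∈ I ^ n, ∀ m : M, a • m = 0) →
      Function.Bijective (TensorProduct.mk R S M 1) := by
  induction n with
  | zero =>
    intro M _ _ hM
    have : ∀ m : M, m = 0 := fun m => by
      have := hM 1 (by simp) m
      rwa [one_smul] at this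
    have hs : Subsingleton M := ⟨fun a b => (this a).trans (this b).symm⟩
    have hs' : Subsingleton (S ⊗[R] M) := inferInstance
    exact ⟨fun a b _ => Subsingleton.elim _ _, fun y => ⟨0, Subsingleton.elim _ _⟩⟩
  | succ n ih =>
    intro M _ _ hM
    refine mk_bijective_of_submodule (I • ⊤ : Submodule R M) ?_ ?_
    · apply ih
      intro a ha ⟨m, hm⟩
      apply Subtype.ext
      change a • m = 0
      refine Submodule.smul_induction_on hm (fun b hb x _ => ?_) (fun x y hx hy => ?_)
      · rw [← mul_smul]
        exact hM _ (by rw [pow_succ]; exact Ideal.mul_mem_mul ha hb) x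
      · rw [smul_add, hx, hy, add_zero]
    · apply mk_bijective_of_killed hq
      intro a ha m
      obtain ⟨m, rfl⟩ := Submodule.Quotient.mk_surjective _ m
      rw [← Submodule.Quotient.mk_smul, Submodule.Quotient.mk_eq_zero]
      exact Submodule.smul_mem_smul ha trivial

/-- (T): for an `I`-power torsion module, `M → S ⊗ M` is bijective. -/
theorem mk_bijective_of_torsion [Module.Flat R S] (hq : Function.Bijective (qmap R S I))
    {M : Type u} [AddCommGroup M] [Module R M]
    (hM : ∀ m : M, ∃ n : ℕ, ∀ a ∈ I ^ n, a • m = 0) :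
    Function.Bijective (TensorProduct.mk R S M 1) := by
  let T : ℕ → Submodule R M := fun n =>
    { carrier := {m | ∀ a ∈ I ^ n, a • m = 0}
      add_mem' := fun {x y} hx hy a ha => by rw [smul_add, hx a ha, hy a ha, add_zero]
      zero_mem' := fun a _ => smul_zero a
      smul_mem' := fun c x hx a ha => by rw [smul_comm, hx a ha, smul_zero] }
  have hT : ∀ n, Function.Bijective (TensorProduct.mk R S (T n) 1) := fun n =>
    mk_bijective_of_killed_pow hq n (T n) (fun a ha ⟨m, hm⟩ => Subtype.ext (hm a ha))
  have hinj : ∀ n, Function.Injective ((T n).subtype.lTensor S) := fun n =>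
    Module.Flat.lTensor_preserves_injective_linearMap _ (T n).subtype_injective
  constructor
  · rw [injective_iff_map_eq_zero]
    intro m hm
    obtain ⟨n, hn⟩ := hM m
    have h3 : (T n).subtype.lTensor S (TensorProduct.mk R S (T n) 1 ⟨m, hn⟩) = 0 := by
      simpa using hm
    have h4 := (hT n).1 ((hinj n (h3.trans (map_zero _).symm)).trans (map_zero _).symm)
    exact congrArg Subtype.val h4
  · intro x
    induction x using TensorProduct.induction_on with
    | zero => exact ⟨0, by simp⟩
    | tmul s m =>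
      obtain ⟨n, hn⟩ := hM m
      obtain ⟨k, hk⟩ := (hT n).2 (s ⊗ₜ[R] (⟨m, hn⟩ : T n))
      refine ⟨k, ?_⟩
      have := congrArg ((T n).subtype.lTensor S) hk
      simpa using this
    | add x y hx hy =>
      obtain ⟨m, rfl⟩ := hx
      obtain ⟨m', rfl⟩ := hy
      exact ⟨m + m', map_add _ _ _⟩

end Groth.Agent.H2.IGlue
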