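import Groth.Agent.Lib.Helper2.IGlueBasic

/-!
# Formal glueing (Stacks 15.89): the fibre product `M' ×_{S ⊗ N} N`
-/

open TensorProduct
universe u
namespace Groth.Agent.H2.IGlue
theorem exists_lTensor_ker {R S : Type u} [CommRing R] [CommRing S] [Algebra R S]
    [Module.Flat R S] {A B : Type u} [AddCommGroup A] [AddCommGroup B]
    [Module R A] [Module R B] (g : A →ₗ[R] B) (z : S ⊗[R] A) (hz : g.lTensor S z = 0) :
    ∃ w : S ⊗[R] (LinearMap.ker g), (LinearMap.ker g).subtype.lTensor S w = z := by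
  have h0 := LinearMap.exact_subtype_ker_map g
  have hex := Module.Flat.lTensor_exact S h0
  exact (hex z).1 hz

variable {R S : Type u} [CommRing R] [CommRing S] [Algebra R S] {I : Ideal R}
variable {N : Type u} [AddCommGroup N] [Module R N] {M' : Type u} [AddCommGroup M'] [Module S M']
  [Module R M'] [IsScalarTower R S M'] (φ : M' →ₗ[S] S ⊗[R] N)

/-- The fibre product `M' ×_{S ⊗ N} N`. -/
def fib : Submodule R (M' × N) where
  carrier := {p | φ p.1 = (1 : S) ⊗ₜ[R] p.2}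
  add_mem' := fun {x y} hx hy => by
    simp only [Set.mem_ofPred_eq, Prod.fst_add, Prod.snd_add, map_add, tmul_add] at hx hy ⊢
    rw [hx, hy]
  zero_mem' := by simp
  smul_mem' := fun c x hx => by
    simp only [Set.mem_ofPred_eq, Prod.smul_fst, Prod.smul_snd] at hx ⊢
    rw [LinearMap.map_smul_of_tower, hx, TensorProduct.tmul_smul]

theorem mem_fib (p : M' × N) : p ∈ fib φ ↔ φ p.1 = (1 : S) ⊗ₜ[R] p.2 := Iff.rfl

/-- `ψ : fib → N`. -/
def fibSnd : fib φ →ₗ[R] N := (LinearMap.snd R M' N).comp (fib φ).subtype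

/-- `fib → M'`. -/
def fibFst : fib φ →ₗ[R] M' := (LinearMap.fst R M' N).comp (fib φ).subtype

/-- `S ⊗ fib → M'`. -/
noncomputable def fibMu : S ⊗[R] fib φ →ₗ[S] M' := (fibFst φ).liftBaseChange S

theorem fibMu_tmul (s : S) (p : fib φ) : fibMu φ (s ⊗ₜ[R] p) = s • (p : M' × N).1 := by
  rw [fibMu, LinearMap.liftBaseChange_tmul]; rfl

theorem phi_fibMu_apply (z : S ⊗[R] fib φ) : φ (fibMu φ z) = (fibSnd φ).baseChange S z := by
  induction z using TensorProduct.induction_on with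
  | zero => simp
  | tmul s p =>
    rw [fibMu_tmul, map_smul, p.2, LinearMap.baseChange_tmul, TensorProduct.smul_tmul', smul_eq_mul,
      mul_one]
    rfl
  | add x y hx hy => rw [map_add, map_add, hx, hy, map_add]

theorem phi_fibMu : φ ∘ₗ fibMu φ = (fibSnd φ).baseChange S :=
  LinearMap.ext (phi_fibMu_apply φ)


section bij
variable [Module.Flat R S] (hq : Function.Bijective (qmap R S I))
  (hker : ∀ x : M', φ x = 0 → ∃ n : ℕ, ∀ a ∈ I ^ n, algebraMap R S a • x = 0)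
  (hcoker : ∀ y : S ⊗[R] N, ∃ n : ℕ, ∀ a ∈ I ^ n, algebraMap R S a • y ∈ LinearMap.range φ)

include hq hker in
theorem fibMu_injective : Function.Injective (fibMu φ) := by
  rw [injective_iff_map_eq_zero]
  intro z hz
  have h1 : (fibSnd φ).lTensor S z = 0 := by
    have := phi_fibMu_apply φ z
    rw [hz, map_zero] at this
    exact this.symm
  obtain ⟨w, rfl⟩ := exists_lTensor_ker (fibSnd φ) z h1
  have htors : ∀ t : LinearMap.ker (fibSnd φ), ∃ n : ℕ, ∀ a ∈ I ^ n, a • t = 0 := by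
    rintro ⟨⟨⟨x, n⟩, hp⟩, ht⟩
    have hn : n = 0 := ht
    subst hn
    have hx : φ x = 0 := by
      have : φ x = (1 : S) ⊗ₜ[R] (0 : N) := hp
      rw [this, tmul_zero]
    obtain ⟨k, hk⟩ := hker x hx
    refine ⟨k, fun a ha => ?_⟩
    apply Subtype.ext
    apply Subtype.ext
    apply Prod.ext
    · change a • x = 0
      rw [← hk a ha, algebraMap_smul]
    · change a • (0 : N) = 0
      exact smul_zero a
  obtain ⟨t, rfl⟩ := (mk_bijective_of_torsion hq (M := LinearMap.ker (fibSnd φ)) htors).2 w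
  have h2 : fibMu φ ((LinearMap.ker (fibSnd φ)).subtype.lTensor S
      (TensorProduct.mk R S _ 1 t)) = ((t : fib φ) : M' × N).1 := by
    rw [TensorProduct.mk_apply, LinearMap.lTensor_tmul, fibMu_tmul, one_smul]
    rfl
  rw [h2] at hz
  have ht0 : t = 0 := by
    apply Subtype.ext
    apply Subtype.ext
    apply Prod.ext
    · exact hz
    · exact t.2
  rw [ht0, map_zero, map_zero]

include hq hcoker in
theorem fibMu_surjective : Function.Surjective (fibMu φ) := by
  set N₀ : Submodule R N := LinearMap.range (fibSnd φ) with hN₀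
  have hN₀mem : ∀ n : N, n ∈ N₀ ↔ (1 : S) ⊗ₜ[R] n ∈ LinearMap.range φ := by
    intro n
    constructor
    · rintro ⟨⟨⟨x, n'⟩, hp⟩, rfl⟩
      exact ⟨x, hp⟩
    · rintro ⟨x, hx⟩
      exact ⟨⟨(x, n), hx⟩, rfl⟩
  have htors : ∀ q : N ⧸ N₀, ∃ k : ℕ, ∀ a ∈ I ^ k, a • q = 0 := by
    intro q
    obtain ⟨n, rfl⟩ := Submodule.Quotient.mk_surjective _ q
    obtain ⟨k, hk⟩ := hcoker ((1 : S) ⊗ₜ[R] n)
    refine ⟨k, fun a ha => ?_⟩
    rw [← Submodule.Quotient.mk_smul, Submodule.Quotient.mk_eq_zero, hN₀mem]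
    have := hk a ha
    rwa [algebraMap_smul, ← TensorProduct.tmul_smul] at this
  have hb := mk_bijective_of_torsion hq htors
  let πQ : S ⊗[R] N →ₗ[S] (S ⊗[R] N) ⧸ LinearMap.range φ := (LinearMap.range φ).mkQ
  let ρ₀ : N ⧸ N₀ →ₗ[R] (S ⊗[R] N) ⧸ LinearMap.range φ :=
    N₀.liftQ ((πQ.restrictScalars R).comp (TensorProduct.mk R S N 1)) (by
      intro n hn
      rw [hN₀mem] at hn
      rw [LinearMap.mem_ker, LinearMap.comp_apply, LinearMap.restrictScalars_apply,
        TensorProduct.mk_apply]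
      exact (Submodule.Quotient.mk_eq_zero _).2 hn)
  let ρ : S ⊗[R] (N ⧸ N₀) →ₗ[S] (S ⊗[R] N) ⧸ LinearMap.range φ := ρ₀.liftBaseChange S
  have hρπ : ∀ y : S ⊗[R] N, ρ (N₀.mkQ.lTensor S y) = πQ y := by
    intro y
    induction y using TensorProduct.induction_on with
    | zero => simp
    | tmul s n =>
      rw [LinearMap.lTensor_tmul, LinearMap.liftBaseChange_tmul]
      change s • πQ ((1 : S) ⊗ₜ[R] n) = πQ (s ⊗ₜ[R] n)
      rw [← map_smul, TensorProduct.smul_tmul', smul_eq_mul, mul_one]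
    | add x y hx hy => simp only [map_add, hx, hy]
  have hρ₀inj : ∀ q, ρ₀ q = 0 → q = 0 := by
    intro q hq0
    obtain ⟨n, rfl⟩ := Submodule.Quotient.mk_surjective _ q
    have : πQ ((1 : S) ⊗ₜ[R] n) = 0 := hq0
    rw [Submodule.Quotient.mk_eq_zero, hN₀mem]
    exact (Submodule.Quotient.mk_eq_zero _).1 this
  have hρinj : ∀ y, ρ y = 0 → y = 0 := by
    intro y hy
    obtain ⟨q, rfl⟩ := hb.2 y
    have : ρ₀ q = 0 := by
      rw [TensorProduct.mk_apply, LinearMap.liftBaseChange_tmul, one_smul] at hy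
      exact hy
    rw [hρ₀inj q this, map_zero]
  intro x
  have h1 : N₀.mkQ.lTensor S (φ x) = 0 := hρinj _ (by
    rw [hρπ]
    exact (Submodule.Quotient.mk_eq_zero _).2 ⟨x, rfl⟩)
  have hex : Function.Exact (N₀.subtype.lTensor S) (N₀.mkQ.lTensor S) :=
    lTensor_exact S (LinearMap.exact_subtype_mkQ N₀) N₀.mkQ_surjective
  obtain ⟨u, hu⟩ := (hex _).1 h1
  have hsurj : Function.Surjective ((fibSnd φ).rangeRestrict.lTensor S) :=
    LinearMap.lTensor_surjective S (LinearMap.surjective_rangeRestrict _)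
  obtain ⟨z₁, rfl⟩ := hsurj u
  have h2 : φ (fibMu φ z₁) = φ x := by
    rw [phi_fibMu_apply, ← hu, ← LinearMap.comp_apply, ← LinearMap.lTensor_comp]
    rfl
  have h3 : φ (x - fibMu φ z₁) = 0 := by rw [map_sub, h2, sub_self]
  refine ⟨z₁ + (1 : S) ⊗ₜ[R] (⟨(x - fibMu φ z₁, 0), ?_⟩ : fib φ), ?_⟩
  · rw [mem_fib]
    change φ (x - fibMu φ z₁) = (1 : S) ⊗ₜ[R] (0 : N)
    rw [h3, tmul_zero]
  · rw [map_add, fibMu_tmul, one_smul]
    change fibMu φ z₁ + (x - fibMu φ z₁) = x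
    abel

end bij

end Groth.Agent.H2.IGlue
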