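import Groth.Agent.Lib.Helper2.IGlueGamma
import Groth.Agent.Lib.Helper2.IGlueFib

/-!
# Formal glueing (Stacks 15.89): lifting extensions by torsion modules
-/

open TensorProduct
universe u
namespace Groth.Agent.H2.IGlue
variable {R S : Type u} [CommRing R] [CommRing S] [Algebra R S] {I : Ideal R}

section prelim
variable {M : Type u} [AddCommGroup M] [Module R M]

theorem exists_pow_smul_tensor_eq_zero (hM : ∀ m : M, ∃ n : ℕ, ∀ a ∈ I ^ n, a • m = 0)
    (y : S ⊗[R] M) : ∃ K : ℕ, ∀ a ∈ I ^ K, a • y = 0 := by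
  induction y using TensorProduct.induction_on with
  | zero => exact ⟨0, fun a _ => smul_zero a⟩
  | tmul s m =>
    obtain ⟨n, hn⟩ := hM m
    exact ⟨n, fun a ha => by rw [TensorProduct.smul_tmul', TensorProduct.smul_tmul, hn a ha,
      tmul_zero]⟩
  | add x y hx hy =>
    obtain ⟨K, hK⟩ := hx
    obtain ⟨L, hL⟩ := hy
    refine ⟨K + L, fun a ha => ?_⟩
    rw [smul_add, hK a (Ideal.pow_le_pow_right (Nat.le_add_right K L) ha),
      hL a (Ideal.pow_le_pow_right (Nat.le_add_left L K) ha), add_zero]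

theorem eq_zero_of_torsion_of_tmul_eq_zero [Module.Flat R S]
    (hq : Function.Bijective (qmap R S I)) (n : M) (hn : ∃ k : ℕ, ∀ a ∈ I ^ k, a • n = 0)
    (h : (1 : S) ⊗ₜ[R] n = 0) : n = 0 := by
  let T : Submodule R M := Submodule.span R {n}
  have hT : ∀ t : T, ∃ k : ℕ, ∀ a ∈ I ^ k, a • t = 0 := by
    rintro ⟨t, ht⟩
    obtain ⟨c, rfl⟩ := Submodule.mem_span_singleton.1 ht
    obtain ⟨k, hk⟩ := hn
    refine ⟨k, fun a ha => Subtype.ext ?_⟩
    change a • c • n = 0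
    rw [smul_comm, hk a ha, smul_zero]
  have hb := mk_bijective_of_torsion hq hT
  have hinj : Function.Injective (T.subtype.lTensor S) :=
    Module.Flat.lTensor_preserves_injective_linearMap _ T.subtype_injective
  have h1 : T.subtype.lTensor S (TensorProduct.mk R S T 1 ⟨n, Submodule.mem_span_singleton_self n⟩)
      = 0 := by
    rw [TensorProduct.mk_apply, LinearMap.lTensor_tmul]
    exact h
  have h2 := hb.1 ((hinj (h1.trans (map_zero _).symm)).trans (map_zero _).symm)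
  exact congrArg Subtype.val h2

end prelim

section decomp
variable [Module.Flat R S] (hq : Function.Bijective (qmap R S I))
variable {N N₂ : Type u} [AddCommGroup N] [Module R N] [AddCommGroup N₂] [Module R N₂]
  (j : N →ₗ[R] N₂)

include hq in
theorem exists_decomp
    (hcoker : ∀ x : N₂, ∃ k : ℕ, ∀ a ∈ I ^ k, a • x ∈ LinearMap.range j) (z : S ⊗[R] N₂) :
    ∃ (x : N₂) (y : S ⊗[R] N), z = (1 : S) ⊗ₜ[R] x + j.lTensor S y := by
  set P : Submodule R N₂ := LinearMap.range j with hP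
  have htors : ∀ t : N₂ ⧸ P, ∃ k : ℕ, ∀ a ∈ I ^ k, a • t = 0 := by
    intro t
    obtain ⟨x, rfl⟩ := Submodule.Quotient.mk_surjective _ t
    obtain ⟨k, hk⟩ := hcoker x
    exact ⟨k, fun a ha => by
      rw [← Submodule.Quotient.mk_smul, Submodule.Quotient.mk_eq_zero]; exact hk a ha⟩
  have hb := mk_bijective_of_torsion hq htors
  obtain ⟨t, ht⟩ := hb.2 (P.mkQ.lTensor S z)
  obtain ⟨x, rfl⟩ := P.mkQ_surjective t
  have hex : Function.Exact (P.subtype.lTensor S) (P.mkQ.lTensor S) :=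
    lTensor_exact S (LinearMap.exact_subtype_mkQ P) P.mkQ_surjective
  have h1 : P.mkQ.lTensor S (z - (1 : S) ⊗ₜ[R] x) = 0 := by
    rw [map_sub, ← ht, TensorProduct.mk_apply, LinearMap.lTensor_tmul, sub_self]
  obtain ⟨u, hu⟩ := (hex _).1 h1
  have hsurj : Function.Surjective (j.rangeRestrict.lTensor S) :=
    LinearMap.lTensor_surjective S (LinearMap.surjective_rangeRestrict _)
  obtain ⟨y, rfl⟩ := hsurj u
  refine ⟨x, y, ?_⟩
  have h2 : j.lTensor S y = z - (1 : S) ⊗ₜ[R] x := by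
    rw [← hu, ← LinearMap.comp_apply, ← LinearMap.lTensor_comp]
    rfl
  rw [h2]; abel

include hq in
theorem exists_of_lTensor_eq_tmul
    (hker : ∀ n : N, j n = 0 → ∃ k : ℕ, ∀ a ∈ I ^ k, a • n = 0)
    (hcoker : ∀ x : N₂, ∃ k : ℕ, ∀ a ∈ I ^ k, a • x ∈ LinearMap.range j)
    (y : S ⊗[R] N) (x : N₂) (h : j.lTensor S y = (1 : S) ⊗ₜ[R] x) :
    ∃ n : N, y = (1 : S) ⊗ₜ[R] n ∧ j n = x := by
  set P : Submodule R N₂ := LinearMap.range j with hP
  have htors : ∀ t : N₂ ⧸ P, ∃ k : ℕ, ∀ a ∈ I ^ k, a • t = 0 := by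
    intro t
    obtain ⟨x, rfl⟩ := Submodule.Quotient.mk_surjective _ t
    obtain ⟨k, hk⟩ := hcoker x
    exact ⟨k, fun a ha => by
      rw [← Submodule.Quotient.mk_smul, Submodule.Quotient.mk_eq_zero]; exact hk a ha⟩
  have hb := mk_bijective_of_torsion hq htors
  have h1 : TensorProduct.mk R S (N₂ ⧸ P) 1 (P.mkQ x) = 0 := by
    have := congrArg (P.mkQ.lTensor S) h
    rw [LinearMap.lTensor_tmul, ← LinearMap.comp_apply, ← LinearMap.lTensor_comp] at this
    have h0 : P.mkQ ∘ₗ j = 0 := by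
      ext n
      rw [LinearMap.comp_apply, LinearMap.zero_apply, Submodule.mkQ_apply,
        Submodule.Quotient.mk_eq_zero]
      exact ⟨n, rfl⟩
    rw [h0, LinearMap.lTensor_zero, LinearMap.zero_apply] at this
    exact this.symm
  have h2 : P.mkQ x = 0 := hb.1 (h1.trans (map_zero _).symm)
  rw [Submodule.mkQ_apply, Submodule.Quotient.mk_eq_zero] at h2
  obtain ⟨n₀, rfl⟩ := h2
  have h3 : j.lTensor S (y - (1 : S) ⊗ₜ[R] n₀) = 0 := by
    rw [map_sub, h, LinearMap.lTensor_tmul, sub_self]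
  obtain ⟨w, hw⟩ := exists_lTensor_ker j _ h3
  have htors' : ∀ t : LinearMap.ker j, ∃ k : ℕ, ∀ a ∈ I ^ k, a • t = 0 := by
    rintro ⟨t, ht⟩
    obtain ⟨k, hk⟩ := hker t ht
    exact ⟨k, fun a ha => Subtype.ext (hk a ha)⟩
  obtain ⟨t₀, rfl⟩ := (mk_bijective_of_torsion hq (M := LinearMap.ker j) htors').2 w
  refine ⟨n₀ + t₀, ?_, ?_⟩
  · rw [TensorProduct.mk_apply, LinearMap.lTensor_tmul] at hw
    rw [tmul_add]
    have : ((LinearMap.ker j).subtype t₀ : N) = (t₀ : N) := rfl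
    rw [this] at hw
    rw [hw]; abel
  · rw [map_add, t₀.2, add_zero]

end decomp

section main
variable [Module.Flat R S]

/-- Stacks 15.89 (Ext lifting): an extension of `S ⊗ M` by `S ⊗ N` with `M` torsion descends. -/
theorem exists_extension_descent (hI : I.FG) (hq : Function.Bijective (qmap R S I))
    (N M : Type u) [AddCommGroup N] [Module R N] [AddCommGroup M] [Module R M]
    (hM : ∀ m : M, ∃ n : ℕ, ∀ a ∈ I ^ n, a • m = 0)
    (E' : Type u) [AddCommGroup E'] [Module S E'] [Module R E'] [IsScalarTower R S E']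
    (i' : S ⊗[R] N →ₗ[S] E') (p' : E' →ₗ[S] S ⊗[R] M)
    (hi' : Function.Injective i') (hp' : Function.Surjective p')
    (hex' : LinearMap.range i' = LinearMap.ker p') :
    ∃ (E : Type u) (_ : AddCommGroup E) (_ : Module R E) (i : N →ₗ[R] E) (p : E →ₗ[R] M)
      (g : E →ₗ[R] E'),
      Function.Injective i ∧ Function.Surjective p ∧ LinearMap.range i = LinearMap.ker p ∧
      (∀ n : N, g (i n) = i' ((1 : S) ⊗ₜ[R] n)) ∧ (∀ e : E, p' (g e) = (1 : S) ⊗ₜ[R] p e) := by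
  obtain ⟨r, f, hf⟩ := Submodule.fg_iff_exists_fin_generating_family.1 hI
  have hf' : Ideal.span (Set.range f) = I := hf
  -- `N₂ = Γ(U, N)` and `j : N → N₂`
  let j : N →ₗ[R] gam f N := gamMap f N
  have hjker : ∀ n : N, j n = 0 → ∃ k : ℕ, ∀ a ∈ I ^ k, a • n = 0 := fun n hn =>
    exists_pow_smul_eq_zero_of_gens f hf' n (gamMap_eq_zero f N n hn)
  have hjcoker : ∀ x : gam f N, ∃ k : ℕ, ∀ a ∈ I ^ k, a • x ∈ LinearMap.range j := fun x => by
    obtain ⟨K, hK⟩ := exists_pow_smul_mem_range_gamMap f N x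
    exact exists_pow_smul_mem_of_gens f hf' _ x (fun i => ⟨K, hK i⟩)
  have hY : TC f (S ⊗[R] gam f N) := tc_tensor f (tc_gam f N)
  -- torsion of `E' / (S ⊗ N)`
  have htors : ∀ e : E', ∃ K : ℕ, ∀ i, f i ^ K • e ∈ LinearMap.range i' := by
    intro e
    obtain ⟨K, hK⟩ := exists_pow_smul_tensor_eq_zero (S := S) hM (p' e)
    refine ⟨K, fun i => ?_⟩
    rw [hex', LinearMap.mem_ker, LinearMap.map_smul_of_tower]
    exact hK _ (pow_mem_pow_of_gens f hf' i K)
  obtain ⟨φ, hφ⟩ := exists_extension hY i' hi' htors (j.baseChange S)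
  have hφ1 : ∀ n : N, φ (i' ((1 : S) ⊗ₜ[R] n)) = (1 : S) ⊗ₜ[R] j n := fun n => by
    rw [hφ, LinearMap.baseChange_tmul]
  have hφ2 : ∀ y : S ⊗[R] N, φ (i' y) = j.lTensor S y := fun y => by
    rw [hφ]; rfl
  have hpi : ∀ y : S ⊗[R] N, p' (i' y) = 0 := fun y => by
    have : i' y ∈ LinearMap.ker p' := hex' ▸ ⟨y, rfl⟩
    exact this
  let eM : M ≃ₗ[R] S ⊗[R] M :=
    LinearEquiv.ofBijective (TensorProduct.mk R S M 1) (mk_bijective_of_torsion hq hM)
  have heM : ∀ m : M, eM m = (1 : S) ⊗ₜ[R] m := fun m => rfl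
  -- the maps
  let i : N →ₗ[R] fib φ :=
    (LinearMap.prod ((i'.restrictScalars R) ∘ₗ (TensorProduct.mk R S N 1)) j).codRestrict (fib φ)
      (fun n => by
        rw [mem_fib]
        exact hφ1 n)
  let p : fib φ →ₗ[R] M := eM.symm.toLinearMap ∘ₗ (p'.restrictScalars R) ∘ₗ fibFst φ
  refine ⟨fib φ, inferInstance, inferInstance, i, p, fibFst φ, ?_, ?_, ?_, ?_, ?_⟩
  · -- injective
    rw [injective_iff_map_eq_zero]
    intro n hn
    have h1 : i' ((1 : S) ⊗ₜ[R] n) = 0 := congrArg (fun z : fib φ => (z : E' × gam f N).1) hn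
    have h2 : j n = 0 := congrArg (fun z : fib φ => (z : E' × gam f N).2) hn
    have h3 : (1 : S) ⊗ₜ[R] n = 0 := hi' (h1.trans (map_zero _).symm)
    exact eq_zero_of_torsion_of_tmul_eq_zero hq n (hjker n h2) h3
  · -- surjective
    intro m
    obtain ⟨e₀, he₀⟩ := hp' ((1 : S) ⊗ₜ[R] m)
    obtain ⟨x, y, hxy⟩ := exists_decomp hq j hjcoker (φ e₀)
    have hmem : (e₀ - i' y, x) ∈ fib φ := by
      rw [mem_fib]
      change φ (e₀ - i' y) = (1 : S) ⊗ₜ[R] x
      rw [map_sub, hxy, hφ2, add_sub_cancel_right]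
    refine ⟨⟨(e₀ - i' y, x), hmem⟩, ?_⟩
    change eM.symm (p' (e₀ - i' y)) = m
    rw [map_sub, hpi, sub_zero, he₀, ← heM, LinearEquiv.symm_apply_apply]
  · -- exactness
    apply le_antisymm
    · rintro _ ⟨n, rfl⟩
      rw [LinearMap.mem_ker]
      change eM.symm (p' (i' ((1 : S) ⊗ₜ[R] n))) = 0
      rw [hpi, map_zero]
    · rintro ⟨⟨e, x⟩, hmem⟩ hk
      rw [LinearMap.mem_ker] at hk
      have h1 : p' e = 0 := by
        have : eM.symm (p' e) = 0 := hk
        exact (LinearEquiv.map_eq_zero_iff _).1 this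
      have h2 : e ∈ LinearMap.range i' := by rw [hex']; exact h1
      obtain ⟨y, rfl⟩ := h2
      have h3 : j.lTensor S y = (1 : S) ⊗ₜ[R] x := by
        rw [← hφ2]; exact hmem
      obtain ⟨n, rfl, rfl⟩ := exists_of_lTensor_eq_tmul hq j hjker hjcoker y x h3
      exact ⟨n, rfl⟩
  · intro n
    rfl
  · intro e
    change p' (fibFst φ e) = (1 : S) ⊗ₜ[R] eM.symm (p' (fibFst φ e))
    rw [← heM, LinearEquiv.apply_symm_apply]

end main

end Groth.Agent.H2.IGlue
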