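import Groth.Agent.Lib.Helper2.IGlueBasic

/-!
# Formal glueing (Stacks 15.89): `S/IS` over `R/I`
-/

open TensorProduct
universe u
namespace Groth.Agent.H2.IGlue
variable {R S : Type u} [CommRing R] [CommRing S] [Algebra R S] (I : Ideal R)

theorem flat_quotient [Module.Flat R S] : Module.Flat (R ⧸ I) (S ⧸ I.map (algebraMap R S)) :=
  Module.Flat.of_linearEquiv (Algebra.TensorProduct.quotIdealMapEquivQuotTensor S I).toLinearEquiv

/-- `N ⊗_{R/I} S/IS ≃ N ⊗_R S` for an `R/I`-module `N`. -/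
noncomputable def tensorQuotEquiv (S : Type u) [CommRing S] [Algebra R S]
    (N : Type u) [AddCommGroup N] [Module R N] [Module (R ⧸ I) N]
    [IsScalarTower R (R ⧸ I) N] :
    N ⊗[R ⧸ I] (S ⧸ I.map (algebraMap R S)) ≃ₗ[R ⧸ I] N ⊗[R] S :=
  (TensorProduct.AlgebraTensorModule.congr (LinearEquiv.refl (R ⧸ I) N)
    (Algebra.TensorProduct.quotIdealMapEquivQuotTensor S I).toLinearEquiv) ≪≫ₗ
  TensorProduct.AlgebraTensorModule.cancelBaseChange R (R ⧸ I) (R ⧸ I) N S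

/-- The `I`-torsion submodule `M[I]` is nontrivial for nontrivial `I`-power torsion `M`. -/
theorem exists_ne_zero_killed {M : Type u} [AddCommGroup M] [Module R M]
    (hM : ∀ m : M, ∃ n : ℕ, ∀ a ∈ I ^ n, a • m = 0) [Nontrivial M] :
    ∃ m : M, m ≠ 0 ∧ ∀ a ∈ I, a • m = 0 := by
  obtain ⟨m, hm⟩ := exists_ne (0 : M)
  classical
  have hex : ∃ n : ℕ, ∃ m : M, m ≠ 0 ∧ ∀ a ∈ I ^ n, a • m = 0 := by
    obtain ⟨n, hn⟩ := hM m
    exact ⟨n, m, hm, hn⟩
  obtain ⟨m₀, hm₀, hk⟩ := Nat.find_spec hex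
  have hmin := fun k (hk : k < Nat.find hex) => Nat.find_min hex hk
  rcases Nat.eq_zero_or_pos (Nat.find hex) with h0 | hpos
  · exfalso
    rw [h0] at hk
    have := hk 1 (by simp)
    rw [one_smul] at this
    exact hm₀ this
  · obtain ⟨k, hk'⟩ : ∃ k, Nat.find hex = k + 1 := ⟨Nat.find hex - 1, by omega⟩
    rw [hk'] at hk
    by_cases hall : ∀ a ∈ I ^ k, a • m₀ = 0
    · exact absurd ⟨m₀, hm₀, hall⟩ (hmin k (by omega))
    · push Not at hall
      obtain ⟨a, ha, ham⟩ := hall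
      refine ⟨a • m₀, ham, fun b hb => ?_⟩
      rw [← mul_smul]
      exact hk _ (by rw [pow_succ, mul_comm b a]; exact Ideal.mul_mem_mul ha hb)

end Groth.Agent.H2.IGlue
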