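import Groth.Agent.Lib.Helper2.IGlueBasic
import Groth.Agent.Lib.Helper2.BLGlue

/-!
# Formal glueing (Stacks 15.89): torsion closure `Γ(U, N)` inside `∏ N_{f_k}`
-/

open TensorProduct
universe u
namespace Groth.Agent.H2.IGlue
variable {R : Type u} [CommRing R] {I : Ideal R} {r : ℕ} (f : Fin r → R)

section torsion
variable {X : Type u} [AddCommGroup X] [Module R X]

/-- Torsion modulo a submodule, from generators to powers of the ideal. -/
theorem exists_pow_smul_mem_of_gens (hf : Ideal.span (Set.range f) = I) (P : Submodule R X) (x : X)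
    (h : ∀ i, ∃ K : ℕ, f i ^ K • x ∈ P) : ∃ n : ℕ, ∀ a ∈ I ^ n, a • x ∈ P := by
  let J : Ideal R :=
    { carrier := {a | a • x ∈ P}
      add_mem' := fun {a b} ha hb => by
        change (a + b) • x ∈ P
        rw [add_smul]; exact P.add_mem ha hb
      zero_mem' := by change (0 : R) • x ∈ P; rw [zero_smul]; exact P.zero_mem
      smul_mem' := fun c a ha => by
        change (c • a) • x ∈ P
        rw [smul_eq_mul, mul_smul]; exact P.smul_mem c ha }
  have hI : I ≤ J.radical := by
    rw [← hf, Ideal.span_le]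
    rintro _ ⟨i, rfl⟩
    obtain ⟨K, hK⟩ := h i
    exact ⟨K, hK⟩
  have hfg : I.FG := by
    rw [← hf]
    exact Submodule.fg_span (Set.finite_range f)
  obtain ⟨n, hn⟩ := Ideal.exists_pow_le_of_le_radical_of_fg hI hfg
  exact ⟨n, fun a ha => hn ha⟩

theorem exists_pow_smul_eq_zero_of_gens (hf : Ideal.span (Set.range f) = I) (x : X)
    (h : ∀ i, ∃ K : ℕ, f i ^ K • x = 0) : ∃ n : ℕ, ∀ a ∈ I ^ n, a • x = 0 := by
  obtain ⟨n, hn⟩ := exists_pow_smul_mem_of_gens f hf (⊥ : Submodule R X) x
    (fun i => by obtain ⟨K, hK⟩ := h i; exact ⟨K, by rw [hK]; exact Submodule.zero_mem _⟩)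
  exact ⟨n, fun a ha => by simpa using hn a ha⟩

include f in
theorem pow_mem_pow_of_gens (hf : Ideal.span (Set.range f) = I) (i : Fin r) (n : ℕ) :
    f i ^ n ∈ I ^ n :=
  Ideal.pow_mem_pow (by rw [← hf]; exact Ideal.subset_span ⟨i, rfl⟩) n

end torsion

section gamma
variable (N : Type u) [AddCommGroup N] [Module R N]

/-- Unique divisibility condition (TC). -/
def TC (Y : Type u) [AddCommGroup Y] [Module R Y] : Prop :=
  ∀ (K : ℕ) (y : Fin r → Y), (∀ i j, f i ^ K • y j = f j ^ K • y i) →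
    ∃! z : Y, ∀ i, f i ^ K • z = y i

/-- The ambient module `∏ N_{f_k}`. -/
abbrev Amb : Type u := (k : Fin r) → LocalizedModule (Submonoid.powers (f k)) N

/-- `N → ∏ N_{f_k}`. -/
noncomputable def ambMap : N →ₗ[R] Amb f N :=
  LinearMap.pi fun k => LocalizedModule.mkLinearMap (Submonoid.powers (f k)) N

theorem smul_bijective_loc (k : Fin r) (K : ℕ) :
    Function.Bijective fun x : LocalizedModule (Submonoid.powers (f k)) N => f k ^ K • x := by
  have h := IsLocalizedModule.map_units
    (LocalizedModule.mkLinearMap (Submonoid.powers (f k)) N)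
    (⟨f k ^ K, K, rfl⟩ : Submonoid.powers (f k))
  rw [Module.End.isUnit_iff] at h
  exact h

/-- The torsion closure of `N` in `∏ N_{f_k}`: this is `Γ(U, Ñ)`. -/
def gam : Submodule R (Amb f N) where
  carrier := {x | ∃ K : ℕ, ∀ i, f i ^ K • x ∈ LinearMap.range (ambMap f N)}
  add_mem' := by
    rintro x y ⟨K, hK⟩ ⟨L, hL⟩
    refine ⟨K + L, fun i => ?_⟩
    rw [smul_add]
    refine Submodule.add_mem _ ?_ ?_
    · rw [pow_add, mul_comm, mul_smul]; exact Submodule.smul_mem _ _ (hK i)
    · rw [pow_add, mul_smul]; exact Submodule.smul_mem _ _ (hL i)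
  zero_mem' := ⟨0, fun i => by rw [smul_zero]; exact Submodule.zero_mem _⟩
  smul_mem' := by
    rintro c x ⟨K, hK⟩
    exact ⟨K, fun i => by rw [smul_comm]; exact Submodule.smul_mem _ _ (hK i)⟩

theorem mem_gam (x : Amb f N) :
    x ∈ gam f N ↔ ∃ K : ℕ, ∀ i, f i ^ K • x ∈ LinearMap.range (ambMap f N) := Iff.rfl

/-- `j : N → Γ(U, N)`. -/
noncomputable def gamMap : N →ₗ[R] gam f N :=
  (ambMap f N).codRestrict (gam f N) fun n =>
    ⟨0, fun i => by rw [pow_zero, one_smul]; exact ⟨n, rfl⟩⟩

theorem gamMap_coe (n : N) : ((gamMap f N n : gam f N) : Amb f N) = ambMap f N n := rfl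

theorem gamMap_eq_zero (n : N) (h : gamMap f N n = 0) : ∀ i, ∃ K : ℕ, f i ^ K • n = 0 := by
  intro i
  have h1 : ambMap f N n = 0 := congrArg Subtype.val h
  have h2 : LocalizedModule.mkLinearMap (Submonoid.powers (f i)) N n = 0 := congrFun h1 i
  exact (Groth.Agent.H2.BL.mkLinearMap_eq_zero_iff N n).1 h2

theorem exists_pow_smul_mem_range_gamMap (x : gam f N) :
    ∃ K : ℕ, ∀ i, f i ^ K • x ∈ LinearMap.range (gamMap f N) := by
  obtain ⟨K, hK⟩ := x.2
  refine ⟨K, fun i => ?_⟩
  obtain ⟨n, hn⟩ := hK i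
  exact ⟨n, Subtype.ext hn⟩

theorem tc_gam : TC f (gam f N) := by
  intro K y hy
  -- define z componentwise
  have hbij := fun k => smul_bijective_loc f N k K
  choose z hz using fun k => (hbij k).2 ((y k : Amb f N) k)
  simp only at hz
  have hz' : ∀ i, f i ^ K • (z : Amb f N) = (y i : Amb f N) := by
    intro i
    funext k
    apply (hbij k).1
    change f k ^ K • (f i ^ K • z k) = f k ^ K • (y i : Amb f N) k
    rw [smul_comm, hz k]
    have := congrArg (fun w : gam f N => (w : Amb f N) k) (hy i k)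
    exact this
  have hzmem : (z : Amb f N) ∈ gam f N := by
    have hKi : ∀ i, ∃ Ki : ℕ, f i ^ Ki • (z : Amb f N) ∈ LinearMap.range (ambMap f N) := by
      intro i
      obtain ⟨L, hL⟩ := (y i).2
      refine ⟨L + K, ?_⟩
      rw [pow_add, mul_smul, hz' i]
      exact hL i
    choose Ki hKi using hKi
    refine ⟨Finset.univ.sup Ki, fun i => ?_⟩
    have hle : Ki i ≤ Finset.univ.sup Ki := Finset.le_sup (Finset.mem_univ i)
    obtain ⟨d, hd⟩ := Nat.exists_eq_add_of_le hle
    rw [hd, pow_add, mul_comm, mul_smul]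
    exact Submodule.smul_mem _ _ (hKi i)
  refine ⟨⟨z, hzmem⟩, fun i => Subtype.ext (hz' i), ?_⟩
  intro w hw
  apply Subtype.ext
  funext k
  apply (hbij k).1
  change f k ^ K • (w : Amb f N) k = f k ^ K • z k
  rw [hz k]
  exact congrArg (fun v : gam f N => (v : Amb f N) k) (hw k)

end gamma

section baseChange
variable {S : Type u} [CommRing S] [Algebra R S]
variable {X : Type u} [AddCommGroup X] [Module R X]

theorem piRight_apply_eq {ι : Type} [Fintype ι] [DecidableEq ι] (u : S ⊗[R] (ι → X)) (i : ι) :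
    TensorProduct.piRight R R S (fun _ : ι => X) u i =
      (LinearMap.proj (R := R) (φ := fun _ : ι => X) i).lTensor S u := by
  induction u using TensorProduct.induction_on with
  | zero => simp
  | tmul s x => simp
  | add a b ha hb => simp only [map_add, Pi.add_apply, ha, hb]

theorem lTensor_pi_ext {ι : Type} [Fintype ι] [DecidableEq ι] (u v : S ⊗[R] (ι → X))
    (h : ∀ i, (LinearMap.proj (R := R) (φ := fun _ : ι => X) i).lTensor S u =
      (LinearMap.proj (R := R) (φ := fun _ : ι => X) i).lTensor S v) : u = v := by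
  apply (TensorProduct.piRight R R S (fun _ : ι => X)).injective
  funext i
  rw [piRight_apply_eq, piRight_apply_eq, h i]

/-- `x ↦ (f_i^K x)_i`. -/
def tcAlpha (K : ℕ) : X →ₗ[R] (Fin r → X) :=
  LinearMap.pi fun i => (f i ^ K) • LinearMap.id

/-- `z ↦ (f_i^K z_j - f_j^K z_i)_{ij}`. -/
def tcD (K : ℕ) : (Fin r → X) →ₗ[R] (Fin r × Fin r → X) :=
  LinearMap.pi fun p => (f p.1 ^ K) • LinearMap.proj p.2 - (f p.2 ^ K) • LinearMap.proj p.1

theorem tc_tensor [Module.Flat R S] (h : TC f X) : TC f (S ⊗[R] X) := by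
  intro K y hy
  have hinj : Function.Injective (tcAlpha f (X := X) K) := by
    rw [injective_iff_map_eq_zero]
    intro x hx
    obtain ⟨z, -, hz⟩ := h K (fun _ => 0) (fun i j => by simp)
    have h1 : x = z := hz x (fun i => congrFun hx i)
    have h2 : (0 : X) = z := hz 0 (fun i => smul_zero _)
    rw [h1, ← h2]
  have hex : Function.Exact (tcAlpha f (X := X) K) (tcD f K) := by
    intro z
    constructor
    · intro hz
      obtain ⟨x, hx, -⟩ := h K z (fun i j => by
        have := congrFun hz (i, j)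
        simp only [tcD, LinearMap.pi_apply, LinearMap.sub_apply, LinearMap.smul_apply,
          LinearMap.proj_apply, Pi.zero_apply] at this
        exact sub_eq_zero.1 this)
      exact ⟨x, funext hx⟩
    · rintro ⟨x, rfl⟩
      funext p
      simp only [tcD, tcAlpha, LinearMap.pi_apply, LinearMap.sub_apply, LinearMap.smul_apply,
        LinearMap.proj_apply, LinearMap.id_apply, Pi.zero_apply]
      rw [smul_comm, sub_self]
  have hinj' : Function.Injective ((tcAlpha f (X := X) K).lTensor S) :=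
    Module.Flat.lTensor_preserves_injective_linearMap _ hinj
  have hex' := Module.Flat.lTensor_exact S hex
  have hproj : ∀ (i : Fin r) (z : S ⊗[R] X),
      (LinearMap.proj (R := R) (φ := fun _ : Fin r => X) i).lTensor S
        ((tcAlpha f (X := X) K).lTensor S z) = f i ^ K • z := by
    intro i z
    rw [← LinearMap.comp_apply, ← LinearMap.lTensor_comp]
    have : (LinearMap.proj (R := R) (φ := fun _ : Fin r => X) i) ∘ₗ tcAlpha f (X := X) K =
        (f i ^ K) • LinearMap.id := by
      ext x; simp [tcAlpha]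
    rw [this, LinearMap.lTensor_smul, LinearMap.lTensor_id, LinearMap.smul_apply,
      LinearMap.id_apply]
  set û := (TensorProduct.piRight R R S (fun _ : Fin r => X)).symm y with hû
  have hûi : ∀ i, (LinearMap.proj (R := R) (φ := fun _ : Fin r => X) i).lTensor S û = y i := by
    intro i
    rw [← piRight_apply_eq, hû, LinearEquiv.apply_symm_apply]
  have hd : (tcD f (X := X) K).lTensor S û = 0 := by
    apply lTensor_pi_ext
    intro p
    rw [map_zero, ← LinearMap.comp_apply, ← LinearMap.lTensor_comp]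
    have : (LinearMap.proj (R := R) (φ := fun _ : Fin r × Fin r => X) p) ∘ₗ tcD f (X := X) K =
        (f p.1 ^ K) • LinearMap.proj p.2 - (f p.2 ^ K) • LinearMap.proj p.1 := by
      ext x; simp [tcD]
    rw [this, LinearMap.lTensor_sub, LinearMap.lTensor_smul, LinearMap.lTensor_smul,
      LinearMap.sub_apply, LinearMap.smul_apply, LinearMap.smul_apply, hûi, hûi, hy, sub_self]
  obtain ⟨z, hz⟩ := (hex' û).1 hd
  refine ⟨z, fun i => ?_, ?_⟩
  · rw [← hproj, hz, hûi]
  · intro w hw
    apply hinj'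
    apply lTensor_pi_ext
    intro i
    rw [hproj, hproj, hw i, ← hûi i, ← hz, hproj]

end baseChange

section extend
variable {S : Type u} [CommRing S] [Algebra R S]
variable {A B Y : Type u} [AddCommGroup A] [AddCommGroup B] [AddCommGroup Y]
  [Module S A] [Module S B] [Module S Y] [Module R A] [Module R B] [Module R Y]
  [IsScalarTower R S A] [IsScalarTower R S B] [IsScalarTower R S Y]

/-- The relation defining the extension. -/
def ExtRel (ι : A →ₗ[S] B) (ψ : A →ₗ[S] Y) (b : B) (y : Y) : Prop :=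
  ∃ (K : ℕ) (a : Fin r → A), (∀ i, ι (a i) = f i ^ K • b) ∧ ∀ i, f i ^ K • y = ψ (a i)

variable {f}

theorem extRel_unique (hY : TC f Y) {ι : A →ₗ[S] B} (hι : Function.Injective ι) {ψ : A →ₗ[S] Y}
    {b : B} {y y' : Y} (h : ExtRel f ι ψ b y) (h' : ExtRel f ι ψ b y') : y = y' := by
  obtain ⟨K, a, ha, hy⟩ := h
  obtain ⟨K', a', ha', hy'⟩ := h'
  obtain ⟨z, -, hz⟩ := hY (K + K') (fun _ => 0) (fun i j => by simp)
  have h0 : ∀ i, f i ^ (K + K') • (y - y') = 0 := by
    intro i
    have e1 : f i ^ K' • a i = f i ^ K • a' i := by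
      apply hι
      rw [LinearMap.map_smul_of_tower, LinearMap.map_smul_of_tower, ha, ha', smul_comm]
    have e2 : f i ^ (K + K') • y = f i ^ K' • ψ (a i) := by
      rw [← hy, ← mul_smul, pow_add, mul_comm]
    have e3 : f i ^ (K + K') • y' = f i ^ K • ψ (a' i) := by
      rw [← hy', ← mul_smul, pow_add]
    rw [smul_sub, e2, e3, ← LinearMap.map_smul_of_tower, ← LinearMap.map_smul_of_tower, e1,
      sub_self]
  have h1 : y - y' = z := hz _ h0
  have h2 : (0 : Y) = z := hz 0 (fun i => smul_zero _)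
  exact sub_eq_zero.1 (h1.trans h2.symm)

theorem extRel_exists (hY : TC f Y) {ι : A →ₗ[S] B} (hι : Function.Injective ι) (ψ : A →ₗ[S] Y)
    (b : B) (hb : ∃ K : ℕ, ∀ i, f i ^ K • b ∈ LinearMap.range ι) : ∃ y, ExtRel f ι ψ b y := by
  obtain ⟨K, hK⟩ := hb
  choose a ha using hK
  obtain ⟨y, hy, -⟩ := hY K (fun i => ψ (a i)) (fun i j => by
    rw [← LinearMap.map_smul_of_tower, ← LinearMap.map_smul_of_tower]
    congr 1
    apply hι
    rw [LinearMap.map_smul_of_tower, LinearMap.map_smul_of_tower, ha, ha, smul_comm])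
  exact ⟨y, K, a, ha, hy⟩

theorem extRel_add {ι : A →ₗ[S] B} {ψ : A →ₗ[S] Y} {b b' : B} {y y' : Y}
    (h : ExtRel f ι ψ b y) (h' : ExtRel f ι ψ b' y') : ExtRel f ι ψ (b + b') (y + y') := by
  obtain ⟨K, a, ha, hy⟩ := h
  obtain ⟨K', a', ha', hy'⟩ := h'
  refine ⟨K + K', fun i => f i ^ K' • a i + f i ^ K • a' i, fun i => ?_, fun i => ?_⟩
  · rw [map_add, LinearMap.map_smul_of_tower, LinearMap.map_smul_of_tower, ha, ha', smul_add,
      pow_add, mul_smul, mul_smul, smul_comm (f i ^ K') (f i ^ K) b]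
  · rw [map_add, LinearMap.map_smul_of_tower, LinearMap.map_smul_of_tower, ← hy, ← hy', smul_add,
      pow_add, mul_smul, mul_smul, smul_comm (f i ^ K') (f i ^ K) y]

theorem extRel_smul {ι : A →ₗ[S] B} {ψ : A →ₗ[S] Y} {b : B} {y : Y} (s : S)
    (h : ExtRel f ι ψ b y) : ExtRel f ι ψ (s • b) (s • y) := by
  obtain ⟨K, a, ha, hy⟩ := h
  refine ⟨K, fun i => s • a i, fun i => ?_, fun i => ?_⟩
  · rw [map_smul, ha, smul_comm]
  · rw [map_smul, ← hy, smul_comm]

theorem extRel_map {ι : A →ₗ[S] B} {ψ : A →ₗ[S] Y} (a : A) : ExtRel f ι ψ (ι a) (ψ a) :=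
  ⟨0, fun _ => a, fun i => by rw [pow_zero, one_smul], fun i => by rw [pow_zero, one_smul]⟩

/-- Extension lemma: maps into a (TC) module extend uniquely along injections with torsion
cokernel. -/
theorem exists_extension (hY : TC f Y) (ι : A →ₗ[S] B) (hι : Function.Injective ι)
    (htors : ∀ b : B, ∃ K : ℕ, ∀ i, f i ^ K • b ∈ LinearMap.range ι) (ψ : A →ₗ[S] Y) :
    ∃ ψ' : B →ₗ[S] Y, ∀ a, ψ' (ι a) = ψ a := by
  choose g hg using fun b => extRel_exists hY hι ψ b (htors b)
  refine ⟨{ toFun := g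
            map_add' := fun b b' => extRel_unique hY hι (hg _) (extRel_add (hg b) (hg b'))
            map_smul' := fun s b => extRel_unique hY hι (hg _) (extRel_smul s (hg b)) },
    fun a => extRel_unique hY hι (hg _) (extRel_map a)⟩

end extend

end Groth.Agent.H2.IGlue
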