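import Mathlib
import Groth.Agent.Lib.Helper2.IdlL

/-! Helper2: the fibrewise Cohen–Macaulay locus of a flat finitely presented module is open. -/

set_option autoImplicit false
set_option linter.style.haveILetI false
universe u

open AlgebraicGeometry CategoryTheory

namespace Groth.Agent.H2.Idl

open Groth.Agent.LD.QC

/-- Cohen–Macaulay or zero, in terms of the codepth; transported through a Noetherian model. -/
theorem cm_or_subsingleton_iff_of_dd {R' N' R N : Type u} [CommRing R'] [IsLocalRing R']
    [AddCommGroup N'] [Module R' N'] [CommRing R] [IsLocalRing R] [IsNoetherianRing R]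
    [AddCommGroup N] [Module R N] [Module.Finite R N] (h : DD R' N' R N) :
    (Subsingleton N' ∨ LocCoh.IsCohenMacaulayModule R' N') ↔
      Module.supportDim R' N' ≤ ((LocCoh.depth R' N' : ℕ∞) : WithBot ℕ∞) + ((0 : ℕ) : WithBot ℕ∞) := by
  rw [Nat.cast_zero, add_zero]
  constructor
  · rintro (hs | hcm)
    · rw [(Module.supportDim_eq_bot_iff_subsingleton _ _).mpr hs]
      exact bot_le
    · exact le_of_eq hcm
  · intro hle
    by_cases hs : Subsingleton N'
    · exact Or.inl hs
    · right
      have hne : Module.supportDim R N ≠ ⊥ := by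
        rw [← h.2]
        exact fun hbot => hs ((Module.supportDim_eq_bot_iff_subsingleton _ _).mp hbot)
      haveI : Nontrivial N := by
        rw [← not_subsingleton_iff_nontrivial]
        exact fun hsub => hne ((Module.supportDim_eq_bot_iff_subsingleton _ _).mpr hsub)
      obtain ⟨d, hd, hda⟩ := Groth.Agent.H6.Depth.exists_depth_eq (R := R) N
      unfold LocCoh.IsCohenMacaulayModule
      apply le_antisymm hle
      rw [h.1, h.2, hd]
      exact hda

section Scheme
variable {X Y : Scheme.{u}} (f : X ⟶ Y)

/-- the fibre module at any point has a Noetherian model -/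
theorem exists_noetherian_model [LocallyOfFiniteType f] (F : X.Modules) [F.IsQuasicoherent]
    (hfin : ∀ {U : X.Opens}, IsAffineOpen U → Module.Finite Γ(X, U) Γ(F, U)) (x : X) :
    ∃ (R N : Type u) (_ : CommRing R) (_ : IsLocalRing R) (_ : IsNoetherianRing R)
      (_ : AddCommGroup N) (_ : Module R N) (_ : Module.Finite R N),
      DD ((f.fiber (f x)).presheaf.stalk (f.asFiber x))
        (((Scheme.Modules.pullback (f.fiberι (f x))).obj F).presheaf.stalk (f.asFiber x)) R N := by
  obtain ⟨U, V, hU, hV, hxU, e⟩ := exists_affine_nhds_le_preimage f x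
  letI algAB : Algebra Γ(Y, V) Γ(X, U) := (f.appLE V U e).hom.toAlgebra
  haveI hftAB : Algebra.FiniteType Γ(Y, V) Γ(X, U) := by
    have := HasRingHomProperty.appLE (P := @LocallyOfFiniteType) f inferInstance
      ⟨V, hV⟩ ⟨U, hU⟩ e
    exact RingHom.finiteType_algebraMap.mp this
  haveI := hfin hU
  obtain ⟨n, φ, hφ⟩ := Algebra.FiniteType.iff_quotient_mvPolynomial''.mp hftAB
  have d := dd_stalk_fiber_mvPolynomial f F hU hV e n φ hφ x hxU
  letI modPM : Module (MvPolynomial (Fin n) Γ(Y, V)) Γ(F, U) := Module.compHom _ φ.toRingHom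
  letI algPB : Algebra (MvPolynomial (Fin n) Γ(Y, V)) Γ(X, U) := φ.toRingHom.toAlgebra
  haveI : IsScalarTower (MvPolynomial (Fin n) Γ(Y, V)) Γ(X, U) Γ(F, U) :=
    IsScalarTower.of_algebraMap_smul fun _ _ => rfl
  haveI : Module.Finite (MvPolynomial (Fin n) Γ(Y, V)) Γ(X, U) :=
    Module.Finite.of_surjective (Algebra.linearMap _ _) hφ
  haveI : Module.Finite (MvPolynomial (Fin n) Γ(Y, V)) Γ(F, U) := Module.Finite.trans Γ(X, U) _
  obtain ⟨hN, -⟩ := fibLocRing_mvPolynomial_cm Γ(Y, V) n
    ((hU.primeIdealOf ⟨x, hxU⟩).asIdeal.comap φ.toRingHom)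
  exact ⟨_, _, inferInstance, inferInstance, hN, inferInstance, inferInstance, inferInstance, d⟩

/-- **EGA IV 12.1.1 (vi)/(vii)**: the fibrewise Cohen–Macaulay locus of a flat finitely presented
module is open. -/
theorem isOpen_fibre_cm [LocallyOfFinitePresentation f] (F : X.Modules)
    (hF : CohB1.IsFP F) (hflat : FlatMod.IsFlatOver f F) :
    IsOpen {x : X |
      Subsingleton (((Scheme.Modules.pullback (f.fiberι (f.base x))).obj F).presheaf.stalk
        (f.asFiber x)) ∨
      LocCoh.IsCohenMacaulayModule ((f.fiber (f.base x)).presheaf.stalk (f.asFiber x))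
        (((Scheme.Modules.pullback (f.fiberι (f.base x))).obj F).presheaf.stalk (f.asFiber x))} := by
  haveI := hF
  haveI hqc : F.IsQuasicoherent := inferInstance
  have h0 := isOpen_fibre_codepth_le f F hF hflat 0
  convert h0 using 1
  ext x
  obtain ⟨R, N, _, _, _, _, _, _, d⟩ := exists_noetherian_model f F
    (fun hU => by
      haveI := finitePresentation_sections_of_isFinitePresentation F hF hU
      infer_instance) x
  exact cm_or_subsingleton_iff_of_dd d

end Scheme

end Groth.Agent.H2.Idl
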