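import Mathlib
import Groth.Prelude.Def_ProCons

/-!
# Ind-constructible sets and neighbourhoods of generic points (helper2)
-/

set_option autoImplicit false
set_option linter.style.haveILetI false

namespace Groth.Agent.H2.IndConsNhd

open Topology Set
open scoped Set.Notation

variable {Y : Type*} [TopologicalSpace Y]

/-- a constructible set is, near any point `x`, either all or nothing of the closure of `x`. -/
lemma constructible_dichotomy {C : Set Y} (hC : IsConstructible C) (x : Y) :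
    ∃ O : Set Y, IsOpen O ∧ x ∈ O ∧
      ((x ∈ C → O ∩ closure {x} ⊆ C) ∧ (x ∉ C → O ∩ closure {x} ⊆ Cᶜ)) := by
  induction hC using IsConstructible.empty_union_induction with
  | open_retrocompact U hU _ =>
    by_cases hx : x ∈ U
    · exact ⟨U, hU, hx, fun _ => inter_subset_left, fun h => absurd hx h⟩
    · refine ⟨univ, isOpen_univ, mem_univ _, fun h => absurd h hx, fun _ => ?_⟩
      rintro y ⟨-, hy⟩ hyU
      apply hx
      have : (U ∩ {x}).Nonempty := mem_closure_iff.mp hy U hU hyU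
      obtain ⟨z, hzU, hz⟩ := this
      rw [mem_singleton_iff] at hz
      exact hz ▸ hzU
  | union s hs t ht ihs iht =>
    obtain ⟨O₁, hO₁, hx₁, h₁, h₁'⟩ := ihs
    obtain ⟨O₂, hO₂, hx₂, h₂, h₂'⟩ := iht
    refine ⟨O₁ ∩ O₂, hO₁.inter hO₂, ⟨hx₁, hx₂⟩, ?_, ?_⟩
    · rintro (hx | hx)
      · rintro y ⟨⟨hy, -⟩, hyc⟩
        exact Or.inl (h₁ hx ⟨hy, hyc⟩)
      · rintro y ⟨⟨-, hy⟩, hyc⟩
        exact Or.inr (h₂ hx ⟨hy, hyc⟩)
    · intro hx
      rw [mem_union, not_or] at hx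
      rintro y ⟨⟨hy₁, hy₂⟩, hyc⟩
      rw [compl_union]
      exact ⟨h₁' hx.1 ⟨hy₁, hyc⟩, h₂' hx.2 ⟨hy₂, hyc⟩⟩
  | compl s hs ih =>
    obtain ⟨O, hO, hx, h, h'⟩ := ih
    refine ⟨O, hO, hx, fun hxs => h' hxs, fun hxs => ?_⟩
    rw [compl_compl]
    exact h (not_not.mp hxs)

/-- a locally constructible set containing `x` contains a neighbourhood of `x` in its closure. -/
lemma exists_open_inter_closure_subset {C : Set Y} (hC : IsLocallyConstructible C) {x : Y}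
    (hx : x ∈ C) : ∃ O : Set Y, IsOpen O ∧ x ∈ O ∧ O ∩ closure {x} ⊆ C := by
  obtain ⟨W, hWx, hW, hcons⟩ := hC x
  have hxW : x ∈ W := mem_of_mem_nhds hWx
  obtain ⟨O₁, hO₁, hxO₁, h, -⟩ := constructible_dichotomy hcons (⟨x, hxW⟩ : W)
  refine ⟨Subtype.val '' O₁, hW.isOpenMap_subtype_val O₁ hO₁, ⟨⟨x, hxW⟩, hxO₁, rfl⟩, ?_⟩
  rintro _ ⟨⟨w, hwO, rfl⟩, hwc⟩
  have hw : w ∈ closure ({⟨x, hxW⟩} : Set W) := by
    rw [closure_subtype]
    simpa using hwc
  exact h hx ⟨hwO, hw⟩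

/-- ind-constructible sets are neighbourhoods of their points in the closures of these points. -/
theorem nhd_of_isIndConstructible {E : Set Y} (hE : ProCons.IsIndConstructible E) {x : Y}
    (hx : x ∈ E) :
    (Subtype.val ⁻¹' E : Set ↥(closure ({x} : Set Y))) ∈
      nhds (⟨x, subset_closure rfl⟩ : ↥(closure ({x} : Set Y))) := by
  obtain ⟨U, hU, hxU, S, hS, hES⟩ := hE x
  have hxE : (⟨x, hxU⟩ : U) ∈ (Subtype.val ⁻¹' E : Set U) := hx
  rw [hES] at hxE
  obtain ⟨T, hTS, hxT⟩ := hxE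
  obtain ⟨O₂, hO₂, hxO₂, hsub⟩ := exists_open_inter_closure_subset (hS T hTS) hxT
  rw [mem_nhds_iff]
  refine ⟨Subtype.val ⁻¹' (Subtype.val '' O₂), ?_,
    (hU.isOpenMap_subtype_val O₂ hO₂).preimage continuous_subtype_val, ⟨⟨x, hxU⟩, hxO₂, rfl⟩⟩
  rintro ⟨z, hz⟩ ⟨u, huO, huz⟩
  have huz' : u.1 = z := huz
  have hu : u ∈ closure ({⟨x, hxU⟩} : Set U) := by
    rw [closure_subtype]
    simpa [huz'] using hz
  have huT : u ∈ T := hsub ⟨huO, hu⟩
  have : u ∈ (Subtype.val ⁻¹' E : Set U) := by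
    rw [hES]
    exact ⟨T, hTS, huT⟩
  change z ∈ E
  rw [← huz']
  exact this

end Groth.Agent.H2.IndConsNhd
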