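import Groth.Agent.Lib.Helper2.IndConsNhd
import Groth.Agent.Lib.Helper2.ProConsLib

/-!
# Ind-constructible sets on locally Noetherian schemes (helper2)
-/

set_option autoImplicit false
set_option linter.style.haveILetI false
universe u

namespace Groth.Agent.H2.IndConsNhd

open Topology Set AlgebraicGeometry TopologicalSpace Groth.Agent.H2.ProConsLib
open scoped Set.Notation

/-- in a Noetherian space, locally closed sets are constructible. -/
lemma isConstructible_inter_of_noetherianSpace {Y : Type*} [TopologicalSpace Y]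
    [NoetherianSpace Y] {O Z : Set Y} (hO : IsOpen O) (hZ : IsClosed Z) :
    IsConstructible (O ∩ Z) := by
  have hr : ∀ W : Set Y, IsOpen W → IsConstructible W := fun W hW =>
    IsRetrocompact.isConstructible hW (fun K _ _ => NoetherianSpace.isCompact _)
  exact (hr O hO).inter (hr Zᶜ hZ.isOpen_compl).of_compl

theorem isIndConstructible_of_nhd (X : Scheme.{u}) [IsLocallyNoetherian X] (E : Set X)
    (h : ∀ x ∈ E, (Subtype.val ⁻¹' E : Set ↥(closure ({x} : Set X))) ∈
      nhds (⟨x, subset_closure rfl⟩ : ↥(closure ({x} : Set X)))) :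
    ProCons.IsIndConstructible E := by
  have key : ∀ x ∈ E, ∃ O : Set X, IsOpen O ∧ x ∈ O ∧ O ∩ closure {x} ⊆ E := by
    intro x hx
    obtain ⟨t, htE, ht, hxt⟩ := mem_nhds_iff.mp (h x hx)
    obtain ⟨O, hO, rfl⟩ := isOpen_induced_iff.mp ht
    refine ⟨O, hO, hxt, ?_⟩
    rintro y ⟨hyO, hyc⟩
    exact htE (show (⟨y, hyc⟩ : ↥(closure ({x} : Set X))) ∈ Subtype.val ⁻¹' O from hyO)
  choose! O hO hxO hOE using key
  intro x₀
  obtain ⟨V, hV, hxV, -⟩ := exists_affine_nhd x₀ isOpen_univ (mem_univ _)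
  haveI : IsNoetherianRing Γ(X, V) := IsLocallyNoetherian.component_noetherian ⟨V, hV⟩
  haveI : NoetherianSpace ↥(V : Set X) := noetherianSpace_of_isAffineOpen V hV
  refine ⟨V, V.isOpen, hxV,
    {L | ∃ x ∈ E, L = (V : Set X) ↓∩ (O x ∩ closure {x})}, ?_, ?_⟩
  · rintro _ ⟨x, hx, rfl⟩
    rw [preimage_inter]
    exact (isConstructible_inter_of_noetherianSpace
      ((hO x hx).preimage continuous_subtype_val)
      (isClosed_closure.preimage continuous_subtype_val)).isLocallyConstructible
  · ext v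
    constructor
    · intro hv
      have hvE : v.1 ∈ E := hv
      exact ⟨_, ⟨v.1, hvE, rfl⟩, hxO v.1 hvE, subset_closure rfl⟩
    · rintro ⟨_, ⟨x, hx, rfl⟩, hv⟩
      exact hOE x hx hv

end Groth.Agent.H2.IndConsNhd
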