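import Mathlib
import Groth.Agent.Lib.Helper3.CA.ABufd2

/-!
# Local intersection numbers `ℓ(A/(f,g))` (helper2)
-/

set_option autoImplicit false
set_option linter.style.haveILetI false
set_option linter.unusedSectionVars false
universe u

namespace Groth.Agent.H2.IntNum

variable {A : Type u} [CommRing A]

/-- additivity `ℓ(A/(fh,g)) = ℓ(A/(f,g)) + ℓ(A/(h,g))` when `g ∣ f a → g ∣ a`. -/
theorem length_mul_pair (f g h : A) (hreg : ∀ a : A, g ∣ f * a → g ∣ a) :
    Module.length A (A ⧸ Ideal.span ({f * h, g} : Set A)) =
      Module.length A (A ⧸ Ideal.span ({f, g} : Set A)) +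
        Module.length A (A ⧸ Ideal.span ({h, g} : Set A)) := by
  have hle1 : Ideal.span ({h, g} : Set A) ≤
      Submodule.comap (LinearMap.mul A A f) (Ideal.span ({f * h, g} : Set A)) := by
    rw [Ideal.span_le]
    intro x hx
    rcases hx with hx | hx
    · change f * x ∈ Ideal.span ({f * h, g} : Set A)
      rw [hx]
      exact Ideal.subset_span (by simp)
    · change f * x ∈ Ideal.span ({f * h, g} : Set A)
      rw [Set.mem_singleton_iff.mp hx]
      exact Ideal.mul_mem_left _ _ (Ideal.subset_span (by simp))
  have hle2 : Ideal.span ({f * h, g} : Set A) ≤ Ideal.span ({f, g} : Set A) := by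
    rw [Ideal.span_le]
    intro x hx
    rcases hx with hx | hx
    · rw [hx]
      exact Ideal.mul_mem_right _ _ (Ideal.subset_span (by simp))
    · rw [Set.mem_singleton_iff.mp hx]
      exact Ideal.subset_span (by simp)
  let φ : (A ⧸ Ideal.span ({h, g} : Set A)) →ₗ[A] (A ⧸ Ideal.span ({f * h, g} : Set A)) :=
    Submodule.mapQ _ _ (LinearMap.mul A A f) hle1
  let ψ : (A ⧸ Ideal.span ({f * h, g} : Set A)) →ₗ[A] (A ⧸ Ideal.span ({f, g} : Set A)) :=
    Submodule.factor hle2
  have hφ : Function.Injective φ := by
    rw [← LinearMap.ker_eq_bot, Submodule.eq_bot_iff]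
    intro x hx
    induction x using Submodule.Quotient.induction_on with
    | H a =>
      rw [LinearMap.mem_ker] at hx
      change (Submodule.Quotient.mk (f * a) : A ⧸ Ideal.span ({f * h, g} : Set A)) = 0 at hx
      rw [Submodule.Quotient.mk_eq_zero, Ideal.mem_span_pair] at hx
      obtain ⟨c, d, hcd⟩ := hx
      rw [Submodule.Quotient.mk_eq_zero, Ideal.mem_span_pair]
      have h1 : g ∣ f * (a - c * h) := ⟨d, by linear_combination -hcd⟩
      obtain ⟨e, he⟩ := hreg _ h1
      exact ⟨c, e, by linear_combination -he⟩
  have hψ : Function.Surjective ψ := Submodule.factor_surjective hle2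
  have hex : Function.Exact φ ψ := by
    intro y
    induction y using Submodule.Quotient.induction_on with
    | H b =>
      change (Submodule.Quotient.mk b : A ⧸ Ideal.span ({f, g} : Set A)) = 0 ↔ _
      rw [Submodule.Quotient.mk_eq_zero, Ideal.mem_span_pair]
      constructor
      · rintro ⟨c, d, hcd⟩
        refine ⟨Submodule.Quotient.mk c, ?_⟩
        change (Submodule.Quotient.mk (f * c) : A ⧸ Ideal.span ({f * h, g} : Set A)) = _
        rw [Submodule.Quotient.eq, Ideal.mem_span_pair]
        exact ⟨0, -d, by linear_combination -hcd⟩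
      · rintro ⟨x, hx⟩
        induction x using Submodule.Quotient.induction_on with
        | H a =>
          change (Submodule.Quotient.mk (f * a) : A ⧸ Ideal.span ({f * h, g} : Set A)) = _ at hx
          rw [Submodule.Quotient.eq, Ideal.mem_span_pair] at hx
          obtain ⟨c, d, hcd⟩ := hx
          exact ⟨a - c * h, -d, by linear_combination -hcd⟩
  rw [Module.length_eq_add_of_exact φ ψ hφ hψ hex, add_comm]

/-- S7917 -/
theorem length_mul_pair_of_regular [IsRegularLocalRing A] (f g h : A) (hfg : IsRelPrime f g) :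
    Module.length A (A ⧸ Ideal.span ({f * h, g} : Set A)) =
      Module.length A (A ⧸ Ideal.span ({f, g} : Set A)) +
        Module.length A (A ⧸ Ideal.span ({h, g} : Set A)) := by
  obtain ⟨hdom, hufd⟩ := Groth.Agent.H3.ABufd.main A
  haveI := hdom
  haveI := hufd
  apply length_mul_pair
  intro a ha
  exact hfg.symm.dvd_of_dvd_mul_left ha

end Groth.Agent.H2.IntNum
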