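import Mathlib
open CategoryTheory CategoryTheory.MonoidalCategory
universe v u

namespace Groth.Agent.H2.InvObj
variable {C : Type u} [Category.{v} C] [MonoidalCategory C]

/-- `tensorLeft` of isomorphic objects -/
def tensorLeftIso {A B : C} (e : A ≅ B) : tensorLeft A ≅ tensorLeft B :=
  (tensoringLeft C).mapIso e

def tensorRightIso {A B : C} (e : A ≅ B) : tensorRight A ≅ tensorRight B :=
  (tensoringRight C).mapIso e

lemma isEquivalence_tensorLeft {X X' : C} (e₁ : X ⊗ X' ≅ 𝟙_ C) (e₂ : X' ⊗ X ≅ 𝟙_ C) :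
    (tensorLeft X).IsEquivalence := by
  let η : tensorLeft X ⋙ tensorLeft X' ≅ 𝟭 C :=
    (tensorLeftTensor X' X).symm ≪≫ tensorLeftIso e₂ ≪≫ leftUnitorNatIso C
  let ε : tensorLeft X' ⋙ tensorLeft X ≅ 𝟭 C :=
    (tensorLeftTensor X X').symm ≪≫ tensorLeftIso e₁ ≪≫ leftUnitorNatIso C
  exact (CategoryTheory.Equivalence.mk (tensorLeft X) (tensorLeft X') η.symm ε).isEquivalence_functor

lemma isEquivalence_tensorRight {X X' : C} (e₁ : X ⊗ X' ≅ 𝟙_ C) (e₂ : X' ⊗ X ≅ 𝟙_ C) :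
    (tensorRight X).IsEquivalence := by
  let η : tensorRight X ⋙ tensorRight X' ≅ 𝟭 C :=
    (tensorRightTensor X X').symm ≪≫ tensorRightIso e₁ ≪≫ rightUnitorNatIso C
  let ε : tensorRight X' ⋙ tensorRight X ≅ 𝟭 C :=
    (tensorRightTensor X' X).symm ≪≫ tensorRightIso e₂ ≪≫ rightUnitorNatIso C
  exact (CategoryTheory.Equivalence.mk (tensorRight X) (tensorRight X') η.symm ε).isEquivalence_functor

theorem invertible_iff (X : C) :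
    ((tensorLeft X).IsEquivalence ↔ ∃ X' : C, Nonempty (X ⊗ X' ≅ 𝟙_ C) ∧ Nonempty (X' ⊗ X ≅ 𝟙_ C)) ∧
      ((tensorRight X).IsEquivalence ↔ ∃ X' : C, Nonempty (X ⊗ X' ≅ 𝟙_ C) ∧ Nonempty (X' ⊗ X ≅ 𝟙_ C)) := by
  refine ⟨⟨fun h => ?_, ?_⟩, ⟨fun h => ?_, ?_⟩⟩
  · let X' := (tensorLeft X).objPreimage (𝟙_ C)
    let e : X ⊗ X' ≅ 𝟙_ C := (tensorLeft X).objObjPreimageIso (𝟙_ C)
    refine ⟨X', ⟨e⟩, ⟨?_⟩⟩
    let i : (tensorLeft X).obj (X' ⊗ X) ≅ (tensorLeft X).obj (𝟙_ C) :=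
      (α_ X X' X).symm ≪≫ whiskerRightIso e X ≪≫ λ_ X ≪≫ (ρ_ X).symm
    exact (tensorLeft X).preimageIso i
  · rintro ⟨X', ⟨e₁⟩, ⟨e₂⟩⟩
    exact isEquivalence_tensorLeft e₁ e₂
  · let X' := (tensorRight X).objPreimage (𝟙_ C)
    let e : X' ⊗ X ≅ 𝟙_ C := (tensorRight X).objObjPreimageIso (𝟙_ C)
    refine ⟨X', ⟨?_⟩, ⟨e⟩⟩
    let i : (tensorRight X).obj (X ⊗ X') ≅ (tensorRight X).obj (𝟙_ C) :=
      α_ X X' X ≪≫ whiskerLeftIso X e ≪≫ ρ_ X ≪≫ (λ_ X).symm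
    exact (tensorRight X).preimageIso i
  · rintro ⟨X', ⟨e₁⟩, ⟨e₂⟩⟩
    exact isEquivalence_tensorRight e₁ e₂

end Groth.Agent.H2.InvObj
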