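import Groth.Prelude.Def_PLie
import Mathlib

/-!
# Jacobson's formula `(a + b)^p = a^p + b^p - J_p(a, b)` in associative algebras of characteristic `p`
-/

set_option autoImplicit false
universe u v

namespace Groth.Agent.H2.JacAssoc
open PLie Polynomial

section words
variable {L : Type v} [LieRing L]

/-- multilinear expansion of an iterated bracket with a sum -/
theorem iterate_lie_add (x₀ x₁ w : L) (n : ℕ) :
    (fun z => ⁅x₀ + x₁, z⁆)^[n] w =
      ∑ t : Fin n → Bool, bracketWord (pair x₀ x₁) w (List.ofFn t) := by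
  induction n with
  | zero =>
    simp
  | succ n ih =>
    rw [Function.iterate_succ_apply', ih, lie_sum]
    rw [← (Fin.consEquiv (fun _ : Fin (n + 1) => Bool)).sum_comp, Fintype.sum_prod_type]
    simp only [Fin.consEquiv_apply, List.ofFn_succ, Fin.cons_zero, Fin.cons_succ,
      bracketWord_cons, Fintype.sum_bool, pair]
    simp only [if_true, Bool.false_eq_true, if_false]
    rw [← Finset.sum_add_distrib]
    refine Finset.sum_congr rfl fun t _ => ?_
    rw [add_lie, add_comm]

end words

section countlemma

theorem count_false_ofFn {n : ℕ} (t : Fin n → Bool) :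
    (List.ofFn t).count false = Fintype.card {i // t i = false} := by
  rw [Fintype.card_subtype]
  have h1 : ((List.ofFn t : List Bool) : Multiset Bool) = Finset.univ.val.map t :=
    (Fin.univ_val_map t).symm
  have h2 : (List.ofFn t).count false = Multiset.count false ((List.ofFn t : List Bool) : Multiset Bool) :=
    (Multiset.coe_count _ _).symm
  rw [h2, h1, Multiset.count_map]
  rw [Finset.card_def, Finset.filter_val]
  congr 1
  refine Multiset.filter_congr fun i _ => ?_
  exact eq_comm

end countlemma

section adpow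
variable {B : Type v} [Ring B] (p : ℕ) [hp : Fact p.Prime] (hpB : (p : B) = 0)
include hpB

theorem nsmul_eq_zero_of_dvd {n : ℕ} (hn : p ∣ n) (x : B) : n • x = 0 := by
  obtain ⟨k, rfl⟩ := hn
  rw [nsmul_eq_mul, Nat.cast_mul, hpB, zero_mul, zero_mul]

theorem choose_pred_smul (m : ℕ) (hm : m ≤ p - 1) (x : B) :
    ((p - 1).choose m) • x = ((-1 : ℤ) ^ m) • x := by
  induction m with
  | zero => simp
  | succ m ih =>
    have hp1 : p - 1 + 1 = p := Nat.sub_add_cancel hp.out.one_le
    have h1 : p.choose (m + 1) = (p - 1).choose m + (p - 1).choose (m + 1) := by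
      conv_lhs => rw [← hp1]
      exact Nat.choose_succ_succ _ _
    have h2 : (p.choose (m + 1)) • x = 0 :=
      nsmul_eq_zero_of_dvd p hpB (hp.out.dvd_choose_self (Nat.succ_ne_zero m) (by omega)) x
    rw [h1, add_nsmul, ih (by omega)] at h2
    rw [pow_succ, mul_smul]
    have h3 : (-1 : ℤ) • x = -x := neg_one_zsmul x
    rw [h3, smul_neg, eq_neg_iff_add_eq_zero, add_comm]
    exact h2

theorem neg_one_pow_pred_smul (x : B) : ((-1 : ℤ) ^ (p - 1)) • x = x := by
  rcases hp.out.eq_two_or_odd' with h2 | hodd
  · subst h2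
    have : (2 : ℕ) • x = 0 := nsmul_eq_zero_of_dvd 2 hpB (dvd_refl 2) x
    simp only [Nat.add_one_sub_one, pow_one]
    rw [neg_one_zsmul, neg_eq_iff_add_eq_zero, ← two_nsmul, this]
  · have : Even (p - 1) := by
      obtain ⟨k, hk⟩ := hodd
      exact ⟨k, by omega⟩
    rw [this.neg_one_pow, one_zsmul]

theorem sum_pow_mul_pow_eq_iterate (c d : B) :
    ∑ j ∈ Finset.range p, c ^ j * d * c ^ (p - 1 - j) =
      (fun z => c * z - z * c)^[p - 1] d := by
  have hp1 : p - 1 + 1 = p := Nat.sub_add_cancel hp.out.one_le
  have hcomm : Commute (LinearMap.mulLeft ℤ c) (LinearMap.mulRight ℤ (-c)) :=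
    LinearMap.commute_mulLeft_right c (-c)
  have h1 : (fun z => c * z - z * c) =
      ⇑(LinearMap.mulLeft ℤ c + LinearMap.mulRight ℤ (-c)) := by
    funext z
    simp [sub_eq_add_neg]
  rw [h1, ← Module.End.pow_apply, hcomm.add_pow, LinearMap.sum_apply, hp1]
  refine Finset.sum_congr rfl fun j hj => ?_
  have hj' : j ≤ p - 1 := by
    have := Finset.mem_range.1 hj
    omega
  rw [Module.End.mul_apply, Module.End.mul_apply, LinearMap.pow_mulLeft, LinearMap.pow_mulRight,
    Module.End.natCast_apply, LinearMap.mulLeft_apply, LinearMap.mulRight_apply,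
    choose_pred_smul p hpB j hj' d, neg_pow c (p - 1 - j)]
  have h2 : ((-1 : B) ^ (p - 1 - j)) * c ^ (p - 1 - j) = ((-1 : ℤ) ^ (p - 1 - j)) • c ^ (p - 1 - j) := by
    rw [zsmul_eq_mul]
    push_cast
    rfl
  rw [h2, smul_mul_assoc, mul_smul_comm, mul_smul_comm, mul_smul_comm, smul_smul, ← pow_add,
    show j + (p - 1 - j) = p - 1 by omega, neg_one_pow_pred_smul p hpB, mul_assoc]

end adpow

section poly
variable {A : Type v} [Ring A]

theorem derivative_pow_noncomm (f : A[X]) (n : ℕ) :
    derivative (f ^ n) = ∑ j ∈ Finset.range n, f ^ j * derivative f * f ^ (n - 1 - j) := by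
  induction n with
  | zero => simp
  | succ n ih =>
    rw [pow_succ, derivative_mul, ih, Finset.sum_range_succ, Finset.sum_mul]
    congr 1
    · refine Finset.sum_congr rfl fun j hj => ?_
      have hj' := Finset.mem_range.1 hj
      rw [mul_assoc, ← pow_succ, show n - 1 - j + 1 = n + 1 - 1 - j by omega]
    · simp

attribute [local instance] LieRing.ofAssociativeRing

theorem bracketWord_poly (a b : A) (w : List Bool) :
    bracketWord (pair (C a) (X * C b)) (C b) w =
      C (bracketWord (pair a b) b w) * X ^ (w.count true) := by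
  induction w with
  | nil => simp
  | cons i w ih =>
    rw [bracketWord_cons, bracketWord_cons, ih, Ring.lie_def, Ring.lie_def]
    cases i
    · simp only [pair, Bool.false_eq_true, if_false, List.count_cons, beq_iff_eq, add_zero]
      rw [C_sub, C_mul, C_mul, sub_mul]
      congr 1
      · rw [mul_assoc]
      · rw [mul_assoc, X_pow_mul, mul_assoc]
    · simp only [pair, if_true, List.count_cons, beq_self_eq_true]
      rw [C_sub, C_mul, C_mul, sub_mul, pow_succ, X_mul]
      congr 1
      · simp only [mul_assoc]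
        rw [X_mul, mul_assoc]
      · rw [mul_assoc, ← mul_assoc (X ^ _), X_pow_mul, mul_assoc, mul_assoc]

end poly

theorem natCast_p_eq_zero (R : Type u) [CommRing R] (p : ℕ) [CharP R p] {A : Type v} [Ring A]
    [Algebra R A] : (p : A) = 0 := by
  rw [← map_natCast (algebraMap R A), CharP.cast_eq_zero R p, map_zero]

section main
variable (R : Type u) [CommRing R] (p : ℕ) [hp : Fact p.Prime] [CharP R p]
variable {A : Type v} [Ring A] [Algebra R A]

attribute [local instance] LieRing.ofAssociativeRing


/-- the inverse of `n + 1` in the prime field, mapped to `R` -/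
noncomputable def invSucc (n : ℕ) : R := ZMod.castHom (dvd_refl p) R (((n + 1 : ℕ) : ZMod p)⁻¹)

theorem invSucc_smul (n : ℕ) (hn : n < p - 1) : invSucc R p n • ((n : A) + 1) = 1 := by
  have h0 : ((n + 1 : ℕ) : ZMod p) ≠ 0 := by
    rw [Ne, ZMod.natCast_eq_zero_iff]
    exact Nat.not_dvd_of_pos_of_lt (Nat.succ_pos n) (by omega)
  have h1 : ((n : A) + 1) = algebraMap R A (ZMod.castHom (dvd_refl p) R ((n + 1 : ℕ) : ZMod p)) := by
    rw [map_natCast, map_natCast]
    push_cast
    rfl
  rw [h1, invSucc, Algebra.smul_def, ← map_mul, ← map_mul, inv_mul_cancel₀ h0, map_one, map_one]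

theorem add_pow_char_eq_jacobson (a b : A) :
    (a + b) ^ p = a ^ p + b ^ p - jacobson R p a b := by
  have hpA : (p : A) = 0 := natCast_p_eq_zero R p
  have hpAX : (p : A[X]) = 0 := by rw [← C_eq_natCast, hpA, C_0]
  have hp1 : p - 1 + 1 = p := Nat.sub_add_cancel hp.out.one_le
  set f : A[X] := C a + X * C b with hf
  have hf' : derivative f = C b := by simp [hf]
  have hdeg : f.natDegree ≤ 1 := by
    refine (natDegree_add_le _ _).trans (max_le ?_ ?_)
    · simp
    · refine natDegree_mul_le.trans ?_
      rw [natDegree_C, add_zero]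
      exact natDegree_X_le
  have hcoeff1 : f.coeff 1 = b := by simp [hf, coeff_C]
  have hPdeg : (f ^ p).natDegree ≤ p :=
    natDegree_pow_le.trans ((Nat.mul_le_mul_left p hdeg).trans (mul_one p).le)
  -- evaluation at `1`
  let ev1 : A[X] →+* A := eval₂RingHom' (RingHom.id A) 1 (fun x => Commute.one_right x)
  have hev1 : ∀ q, ev1 q = eval₂ (RingHom.id A) 1 q := fun q => rfl
  have e1 : ev1 (f ^ p) = (a + b) ^ p := by
    rw [map_pow, hf, map_add, map_mul, hev1, hev1, hev1, eval₂_C, eval₂_X, eval₂_C]
    simp
  have e2 : ev1 (f ^ p) = ∑ i ∈ Finset.range (p + 1), (f ^ p).coeff i := by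
    rw [hev1, eval₂_eq_sum_range' _ (Nat.lt_succ_of_le hPdeg)]
    simp
  -- evaluation at `0`
  let ev0 : A[X] →+* A := eval₂RingHom' (RingHom.id A) 0 (fun x => Commute.zero_right x)
  have hev0 : ∀ q, ev0 q = eval₂ (RingHom.id A) 0 q := fun q => rfl
  have c0 : (f ^ p).coeff 0 = a ^ p := by
    have h1 : ev0 (f ^ p) = a ^ p := by
      rw [map_pow, hf, map_add, map_mul, hev0, hev0, hev0, eval₂_C, eval₂_X, eval₂_C]
      simp
    rw [← h1, hev0, eval₂_at_zero]
    rfl
  have cp : (f ^ p).coeff p = b ^ p := by
    have := coeff_pow_of_natDegree_le (m := p) hdeg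
    rwa [mul_one, hcoeff1] at this
  -- the derivative
  have hder : derivative (f ^ p) = ∑ t : Fin (p - 1) → Bool,
      C (bracketWord (pair a b) b (List.ofFn t)) * X ^ ((List.ofFn t).count true) := by
    rw [derivative_pow_noncomm, hf', sum_pow_mul_pow_eq_iterate p hpAX f (C b)]
    have : (fun z : A[X] => f * z - z * f) = fun z => ⁅C a + X * C b, z⁆ := by
      funext z
      rw [Ring.lie_def]
    rw [this, iterate_lie_add]
    exact Finset.sum_congr rfl fun t _ => bracketWord_poly a b _
  have hcn : ∀ n, n < p - 1 → (f ^ p).coeff (n + 1) =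
      ∑ t : Fin (p - 1) → Bool, if (List.ofFn t).count true = n then
        invSucc R p n • bracketWord (pair a b) b (List.ofFn t) else 0 := by
    intro n hn
    have h1 : (f ^ p).coeff (n + 1) * ((n : A) + 1) =
        ∑ t : Fin (p - 1) → Bool, if (List.ofFn t).count true = n then
          bracketWord (pair a b) b (List.ofFn t) else 0 := by
      rw [← coeff_derivative, hder, finsetSum_coeff]
      refine Finset.sum_congr rfl fun t _ => ?_
      rw [C_mul_X_pow_eq_monomial, coeff_monomial]
    have h2 : (f ^ p).coeff (n + 1) =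
        invSucc R p n • ((f ^ p).coeff (n + 1) * ((n : A) + 1)) := by
      rw [← mul_smul_comm, invSucc_smul R p n hn, mul_one]
    rw [h2, h1, Finset.smul_sum]
    refine Finset.sum_congr rfl fun t _ => ?_
    rw [smul_ite, smul_zero]
  have key : ∀ t : Fin (p - 1) → Bool,
      (if (List.ofFn t).count true ∈ Finset.range (p - 1) then
        invSucc R p ((List.ofFn t).count true) • bracketWord (pair a b) b (List.ofFn t) else 0) =
      -(((ZMod.castHom (dvd_refl p) R) ((Fintype.card {i // t i = false} : ZMod p)⁻¹)) •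
        bracketWord (pair a b) b (List.ofFn t)) := by
    intro t
    have hm : Fintype.card {i // t i = false} = (List.ofFn t).count false := by
      rw [count_false_ofFn]
    have hsum : (List.ofFn t).count true + (List.ofFn t).count false = p - 1 := by
      rw [List.count_true_add_count_false, List.length_ofFn]
    rw [hm]
    by_cases hk : (List.ofFn t).count true < p - 1
    · rw [if_pos (Finset.mem_range.2 hk), invSucc]
      have h3 : (((List.ofFn t).count true + 1 : ℕ) : ZMod p) =
          -(((List.ofFn t).count false : ℕ) : ZMod p) := by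
        rw [eq_neg_iff_add_eq_zero, ← Nat.cast_add,
          show (List.ofFn t).count true + 1 + (List.ofFn t).count false = p by omega,
          ZMod.natCast_self]
      rw [h3, inv_neg, map_neg, neg_smul]
    · have h0 : (List.ofFn t).count false = 0 := by omega
      rw [if_neg (by rw [Finset.mem_range]; exact hk), h0, Nat.cast_zero, inv_zero, map_zero,
        zero_smul, neg_zero]
  have hmid : ∑ n ∈ Finset.range (p - 1), (f ^ p).coeff (n + 1) = -jacobson R p a b := by
    rw [Finset.sum_congr rfl fun n hn => hcn n (Finset.mem_range.1 hn), Finset.sum_comm]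
    unfold jacobson
    rw [← Finset.sum_neg_distrib]
    refine Finset.sum_congr rfl fun t _ => ?_
    rw [Finset.sum_ite_eq, key t]
  rw [← e1, e2, show p + 1 = p - 1 + 1 + 1 by omega, Finset.sum_range_succ, Finset.sum_range_succ',
    hmid, c0, hp1, cp]
  abel

end main

end Groth.Agent.H2.JacAssoc
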