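import Mathlib
import Groth.Prelude.Def_SGA6

set_option autoImplicit false

namespace Groth.Agent.H2.KRes

open CategoryTheory CategoryTheory.Limits

universe v u
variable {C : Type u} [Category.{v} C] [Abelian C]

/-- Pulling back a short exact sequence along a morphism `q : Y ⟶ S.X₃`. -/
theorem shortExact_of_isPullback {S : ShortComplex C} (hS : S.ShortExact) {P Y : C}
    {fst : P ⟶ S.X₂} {snd : P ⟶ Y} {q : Y ⟶ S.X₃} (sq : IsPullback fst snd S.g q) :
    (ShortComplex.mk (sq.lift S.f 0 (by simp)) snd (by simp)).ShortExact := by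
  have := hS.mono_f
  have := hS.epi_g
  have hmono : Mono (sq.lift S.f 0 (by simp)) :=
    mono_of_mono_fac (sq.lift_fst S.f 0 (by simp))
  have hepi : Epi snd := by
    exact Abelian.epi_snd_of_isLimit S.g q sq.isLimit
  refine ShortComplex.ShortExact.mk' ?_ hmono hepi
  apply ShortComplex.exact_of_f_is_kernel
  refine KernelFork.IsLimit.ofι _ _ (fun {W} k hk => hS.exact.lift (k ≫ fst) ?_) ?_ ?_
  · rw [Category.assoc, sq.w, ← Category.assoc, hk, zero_comp]
  · intro W k hk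
    apply sq.hom_ext
    · simp
    · simp [hk]
  · intro W k hk m hm
    rw [← cancel_mono S.f]
    simp only [ShortComplex.Exact.lift_f]
    rw [← hm]
    simp


/-- Lemma A: two epimorphisms onto the same object, with their kernels. -/
theorem exists_common_ext {K L K' L' A : C} {i : K ⟶ L} {p : L ⟶ A} {w : i ≫ p = 0}
    (h : (ShortComplex.mk i p w).ShortExact)
    {i' : K' ⟶ L'} {p' : L' ⟶ A} {w' : i' ≫ p' = 0}
    (h' : (ShortComplex.mk i' p' w').ShortExact) :
    ∃ (Q : C) (a : K ⟶ Q) (b : Q ⟶ L') (wab : a ≫ b = 0) (a' : K' ⟶ Q) (b' : Q ⟶ L)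
      (wab' : a' ≫ b' = 0),
      (ShortComplex.mk a b wab).ShortExact ∧ (ShortComplex.mk a' b' wab').ShortExact := by
  have sq : IsPullback (pullback.fst p p') (pullback.snd p p') p p' := IsPullback.of_hasPullback p p'
  exact ⟨pullback p p', _, _, _, _, _, _,
    shortExact_of_isPullback h (P := pullback p p') (Y := L') (q := p') sq,
    shortExact_of_isPullback h' (P := pullback p p') (Y := L) (q := p) sq.flip⟩

/-- Lemma B: a short exact sequence `S` and an epimorphism `p : L ⟶ S.X₂` with kernel `K`. -/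
theorem exists_mid_ext {S : ShortComplex C} (hS : S.ShortExact) {K L : C} {i : K ⟶ L}
    {p : L ⟶ S.X₂} {w : i ≫ p = 0} (hT : (ShortComplex.mk i p w).ShortExact) :
    ∃ (M : C) (a : K ⟶ M) (b : M ⟶ S.X₁) (wab : a ≫ b = 0) (c : M ⟶ L)
      (wc : c ≫ p ≫ S.g = 0),
      (ShortComplex.mk a b wab).ShortExact ∧ (ShortComplex.mk c (p ≫ S.g) wc).ShortExact := by
  have := hS.mono_f
  have := hS.epi_g
  have hp : Epi p := hT.epi_g
  have sq : IsPullback (pullback.fst p S.f) (pullback.snd p S.f) p S.f :=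
    IsPullback.of_hasPullback p S.f
  have wc : pullback.fst p S.f ≫ p ≫ S.g = 0 := by
    rw [← Category.assoc, pullback.condition, Category.assoc, S.zero, comp_zero]
  refine ⟨pullback p S.f, _, _, _, pullback.fst p S.f, wc,
    shortExact_of_isPullback hT (P := pullback p S.f) (Y := S.X₁) (q := S.f) sq, ?_⟩
  refine ShortComplex.ShortExact.mk' ?_ (by dsimp; infer_instance) (by dsimp; infer_instance)
  apply ShortComplex.exact_of_f_is_kernel
  refine KernelFork.IsLimit.ofι _ _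
    (fun {W} k hk => pullback.lift k (hS.exact.lift (k ≫ p) (by simpa using hk)) (by simp)) ?_ ?_
  · intro W k hk
    exact pullback.lift_fst _ _ _
  · intro W k hk m hm
    rw [← cancel_mono (pullback.fst p S.f)]
    exact hm.trans (pullback.lift_fst _ _ _).symm


variable (C) in
/-- The standing hypotheses of the resolution theorem (all except the finiteness one). -/
structure Ctx where
  P₀ : ObjectProperty C
  P₁ : ObjectProperty C
  iso₀ : P₀.IsClosedUnderIsomorphisms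
  iso₁ : P₁.IsClosedUnderIsomorphisms
  hle : ∀ A, P₀ A → P₁ A
  hext₀ : ∀ S : ShortComplex C, S.ShortExact → P₀ S.X₁ → P₀ S.X₃ → P₀ S.X₂
  hext₁ : ∀ S : ShortComplex C, S.ShortExact → P₁ S.X₁ → P₁ S.X₃ → P₁ S.X₂
  h1₀ : ∀ S : ShortComplex C, S.ShortExact → P₀ S.X₂ → P₀ S.X₃ → P₀ S.X₁
  h1₁ : ∀ S : ShortComplex C, S.ShortExact → P₁ S.X₂ → P₁ S.X₃ → P₁ S.X₁
  cover : ∀ A, P₁ A → ∃ (L : C) (p : L ⟶ A), P₀ L ∧ Epi p

namespace Ctx

variable (X : Ctx C)

/-- `D n A`: `A` has `P₀`-resolution dimension at most `n`, in the strong sense that every partial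
resolution of length `n` has its `n`-th syzygy in `P₀`. -/
def D : ℕ → C → Prop
  | 0, A => X.P₀ A
  | n + 1, A => X.P₁ A ∧ ∀ (K L : C) (i : K ⟶ L) (p : L ⟶ A) (w : i ≫ p = 0),
      (ShortComplex.mk i p w).ShortExact → X.P₀ L → D n K

theorem D_zero (A : C) : X.D 0 A ↔ X.P₀ A := Iff.rfl

theorem D_succ_iff (n : ℕ) (A : C) : X.D (n + 1) A ↔ X.P₁ A ∧
    ∀ (K L : C) (i : K ⟶ L) (p : L ⟶ A) (w : i ≫ p = 0),
      (ShortComplex.mk i p w).ShortExact → X.P₀ L → X.D n K := Iff.rfl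

theorem D_P₁ {n : ℕ} {A : C} (h : X.D n A) : X.P₁ A := by
  cases n with
  | zero => exact X.hle A h
  | succ n => exact h.1

theorem D_ker {n : ℕ} {A : C} (h : X.D (n + 1) A) {K L : C} {i : K ⟶ L} {p : L ⟶ A}
    {w : i ≫ p = 0} (hS : (ShortComplex.mk i p w).ShortExact) (hL : X.P₀ L) : X.D n K :=
  h.2 K L i p w hS hL

theorem D_succ {n : ℕ} {A : C} (h : X.D n A) : X.D (n + 1) A := by
  induction n generalizing A with
  | zero =>
    refine ⟨X.hle A h, fun K L i p w hS hL => ?_⟩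
    exact X.h1₀ _ hS hL h
  | succ n ih =>
    exact ⟨h.1, fun K L i p w hS hL => ih (X.D_ker h hS hL)⟩

theorem D_mono {n m : ℕ} (hnm : n ≤ m) {A : C} (h : X.D n A) : X.D m A := by
  induction m, hnm using Nat.le_induction with
  | base => exact h
  | succ m _ ih => exact X.D_succ ih

theorem D_of_P₀ {A : C} (h : X.P₀ A) (n : ℕ) : X.D n A :=
  X.D_mono (Nat.zero_le n) h

theorem D_iso {n : ℕ} {A A' : C} (e : A ≅ A') (h : X.D n A) : X.D n A' := by
  have := X.iso₀
  have := X.iso₁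
  cases n with
  | zero => exact X.P₀.prop_of_iso e h
  | succ n =>
    refine ⟨X.P₁.prop_of_iso e h.1, fun K L i p w hS hL => ?_⟩
    have w' : i ≫ p ≫ e.inv = 0 := by rw [← Category.assoc, w, zero_comp]
    have hS' : (ShortComplex.mk i (p ≫ e.inv) w').ShortExact :=
      ShortComplex.shortExact_of_iso
        (ShortComplex.isoMk (S₁ := ShortComplex.mk i p w) (S₂ := ShortComplex.mk i (p ≫ e.inv) w')
          (Iso.refl _) (Iso.refl _) e.symm (by simp) (by simp)) hS
    exact X.D_ker h hS' hL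

/-- `D n` is stable under extensions by objects of `P₀`. -/
theorem D_ext {n : ℕ} {K Q L : C} {a : K ⟶ Q} {b : Q ⟶ L} {w : a ≫ b = 0}
    (hS : (ShortComplex.mk a b w).ShortExact) (hK : X.D n K) (hL : X.P₀ L) : X.D n Q := by
  cases n with
  | zero => exact X.hext₀ _ hS hK hL
  | succ n =>
    refine ⟨X.hext₁ _ hS hK.1 (X.hle _ hL), fun N M j r wr hT hM => ?_⟩
    obtain ⟨M', a', b', wab', c, wc, h₁, h₂⟩ := exists_mid_ext hS hT
    have hM' : X.P₀ M' := X.h1₀ _ h₂ hM hL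
    exact X.D_ker hK h₁ hM'

/-- Every object of `P₁` is the target of a short exact sequence from an object of `P₀`. -/
theorem exists_cover {A : C} (hA : X.P₁ A) : ∃ (K L : C) (i : K ⟶ L) (p : L ⟶ A) (w : i ≫ p = 0),
    (ShortComplex.mk i p w).ShortExact ∧ X.P₀ L := by
  obtain ⟨L, p, hL, hp⟩ := X.cover A hA
  exact ⟨kernel p, L, kernel.ι p, p, kernel.condition p,
    ShortComplex.ShortExact.mk' (ShortComplex.exact_kernel p) (by dsimp; infer_instance) hp, hL⟩

end Ctx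

/-- Additivity of classes in `K0sub P`. -/
theorem clSub_add (P : ObjectProperty C) {A' A A'' : C} {f : A' ⟶ A} {g : A ⟶ A''} {w : f ≫ g = 0}
    (hS : (ShortComplex.mk f g w).ShortExact) (h' : P A') (h : P A) (h'' : P A'') :
    KZero.clSub P A = KZero.clSub P A' + KZero.clSub P A'' := by
  unfold KZero.clSub
  rw [dif_pos h', dif_pos h, dif_pos h'']
  have hmem : (FreeAbelianGroup.of ⟨A, h⟩ - FreeAbelianGroup.of ⟨A', h'⟩ - FreeAbelianGroup.of ⟨A'', h''⟩ :
      FreeAbelianGroup (Subtype P)) ∈ KZero.relSub P :=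
    AddSubgroup.subset_closure ⟨ShortComplex.mk f g w, h', h, h'', hS, rfl⟩
  have h0 := (QuotientAddGroup.eq_zero_iff _).mpr hmem
  rw [QuotientAddGroup.mk_sub, QuotientAddGroup.mk_sub, sub_sub, sub_eq_zero] at h0
  exact h0

namespace Ctx

variable (X : Ctx C)

/-- A chosen cover. -/
noncomputable def cL (A : C) (h : X.P₁ A) : C := (X.cover A h).choose

/-- A chosen cover. -/
noncomputable def cP (A : C) (h : X.P₁ A) : X.cL A h ⟶ A := (X.cover A h).choose_spec.choose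

theorem cL_P₀ (A : C) (h : X.P₁ A) : X.P₀ (X.cL A h) := (X.cover A h).choose_spec.choose_spec.1

theorem cP_epi (A : C) (h : X.P₁ A) : Epi (X.cP A h) := (X.cover A h).choose_spec.choose_spec.2

theorem cSES (A : C) (h : X.P₁ A) :
    (ShortComplex.mk (kernel.ι (X.cP A h)) (X.cP A h) (kernel.condition _)).ShortExact :=
  ShortComplex.ShortExact.mk' (ShortComplex.exact_kernel _) (by dsimp; infer_instance) (X.cP_epi A h)

open Classical in
/-- The Euler characteristic of a length-`n` resolution built from the chosen covers. -/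
noncomputable def χ : ℕ → C → KZero.K0sub X.P₀
  | 0, A => KZero.clSub X.P₀ A
  | n + 1, A => if h : X.P₁ A then KZero.clSub X.P₀ (X.cL A h) - χ n (kernel (X.cP A h)) else 0

theorem χ_zero (A : C) : X.χ 0 A = KZero.clSub X.P₀ A := rfl

theorem χ_succ (n : ℕ) (A : C) (h : X.P₁ A) :
    X.χ (n + 1) A = KZero.clSub X.P₀ (X.cL A h) - X.χ n (kernel (X.cP A h)) := by
  rw [χ]
  exact dif_pos h

/-- The inductive hypothesis. -/
def H (n : ℕ) : Prop :=
  (∀ A, X.P₀ A → X.χ n A = KZero.clSub X.P₀ A) ∧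
  (∀ {A' A A'' : C} (f : A' ⟶ A) (g : A ⟶ A'') (w : f ≫ g = 0),
    (ShortComplex.mk f g w).ShortExact → X.D n A' → X.D n A → X.D n A'' →
      X.χ n A = X.χ n A' + X.χ n A'')

theorem χ_cover_indep {n : ℕ} (hn : X.H n) {A : C} (hA : X.D (n + 1) A) {K L : C} {i : K ⟶ L}
    {p : L ⟶ A} {w : i ≫ p = 0} (hS : (ShortComplex.mk i p w).ShortExact) (hL : X.P₀ L) :
    X.χ (n + 1) A = KZero.clSub X.P₀ L - X.χ n K := by
  rw [X.χ_succ n A hA.1]
  obtain ⟨Q, a, b, wab, a', b', wab', h₁, h₂⟩ := exists_common_ext hS (X.cSES A hA.1)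
  have hcL := X.cL_P₀ A hA.1
  have hK : X.D n K := X.D_ker hA hS hL
  have hK₀ : X.D n (kernel (X.cP A hA.1)) := X.D_ker hA (X.cSES A hA.1) hcL
  have hQ : X.D n Q := X.D_ext h₁ hK hcL
  have e₁ := hn.2 a b wab h₁ hK hQ (X.D_of_P₀ hcL n)
  have e₂ := hn.2 a' b' wab' h₂ hK₀ hQ (X.D_of_P₀ hL n)
  rw [hn.1 _ hcL] at e₁
  rw [hn.1 _ hL] at e₂
  have e₃ := e₁.symm.trans e₂
  rw [sub_eq_sub_iff_add_eq_add, add_comm, e₃, add_comm]

theorem χ_sub {n : ℕ} (hn : X.H n) {K M A : C} {i : K ⟶ M} {p : M ⟶ A} {w : i ≫ p = 0}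
    (hS : (ShortComplex.mk i p w).ShortExact) (hK : X.D n K) (hM : X.D n M)
    (hA : X.D (n + 1) A) : X.χ (n + 1) A = X.χ n M - X.χ n K := by
  obtain ⟨N, L', j, q, wq, hT, hL'⟩ := X.exists_cover (X.D_P₁ hM)
  obtain ⟨M', a, b, wab, c, wc, h₁, h₂⟩ := exists_mid_ext hS hT
  have hM' : X.D n M' := X.D_ker hA h₂ hL'
  have hN : X.D n N := X.D_ker (X.D_succ hM) hT hL'
  have e₀ := X.χ_cover_indep hn hA h₂ hL'
  have e₁ := hn.2 a b wab h₁ hN hM' hK
  have e₂ := hn.2 j q wq hT hN (X.D_of_P₀ hL' n) hM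
  rw [hn.1 _ hL'] at e₂
  rw [e₀, e₁, e₂]
  abel

theorem H_zero : X.H 0 :=
  ⟨fun _ _ => rfl, fun _ _ _ hS h' h h'' => clSub_add X.P₀ hS h' h h''⟩

theorem H_succ {n : ℕ} (hn : X.H n) : X.H (n + 1) := by
  refine ⟨fun A hA => ?_, fun {A' A A''} f g w hS hA' hA hA'' => ?_⟩
  · have hA₁ := X.hle A hA
    rw [X.χ_succ n A hA₁]
    have hcL := X.cL_P₀ A hA₁
    have hker : X.P₀ (kernel (X.cP A hA₁)) := X.h1₀ _ (X.cSES A hA₁) hcL hA
    rw [hn.1 _ hker, clSub_add X.P₀ (X.cSES A hA₁) hker hcL hA]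
    abel
  · obtain ⟨K, L, i, p, wp, hT, hL⟩ := X.exists_cover hA.1
    obtain ⟨M, a, b, wab, c, wc, h₁, h₂⟩ := exists_mid_ext hS hT
    have hK : X.D n K := X.D_ker hA hT hL
    have hM : X.D n M := X.D_ker hA'' h₂ hL
    have e₀ := X.χ_cover_indep hn hA hT hL
    have e₁ := X.χ_cover_indep hn hA'' h₂ hL
    have e₂ := X.χ_sub hn h₁ hK hM hA'
    rw [e₀, e₁, e₂]
    abel

theorem H_all (n : ℕ) : X.H n := by
  induction n with
  | zero => exact X.H_zero
  | succ n ih => exact X.H_succ ih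

theorem χ_stable {n : ℕ} {A : C} (hA : X.D n A) : X.χ (n + 1) A = X.χ n A := by
  obtain ⟨K, L, i, p, wp, hT, hL⟩ := X.exists_cover (X.D_P₁ hA)
  have hn := X.H_all n
  have hK : X.D n K := X.D_ker (X.D_succ hA) hT hL
  have e₀ := X.χ_cover_indep hn (X.D_succ hA) hT hL
  have e₁ := hn.2 i p wp hT hK (X.D_of_P₀ hL n) hA
  rw [hn.1 _ hL] at e₁
  rw [e₀, e₁]
  abel

theorem χ_eq_of_le {n m : ℕ} (hnm : n ≤ m) {A : C} (hA : X.D n A) : X.χ m A = X.χ n A := by
  induction m, hnm using Nat.le_induction with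
  | base => rfl
  | succ m hm ih => rw [X.χ_stable (X.D_mono hm hA), ih]

theorem χ_eq {n m : ℕ} {A : C} (hn : X.D n A) (hm : X.D m A) : X.χ n A = X.χ m A := by
  rw [← X.χ_eq_of_le (le_max_left n m) hn, ← X.χ_eq_of_le (le_max_right n m) hm]

end Ctx

end Groth.Agent.H2.KRes
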