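import Mathlib
import Groth.Prelude.Def_KZero
import Groth.Agent.Lib.Helper2.HorrJ
import Groth.Agent.Lib.Helper2.KRes
import Groth.Agent.Lib.Lead.PN.ChiKoszul

/-!
# Additive invariants of coherent modules on projective space and the Koszul relation.
-/

set_option autoImplicit false
universe u
open CategoryTheory CategoryTheory.Limits AlgebraicGeometry TopologicalSpace Opposite ZeroObject

namespace Groth.Agent.H2.K0Pn

open Groth.Agent.LD Groth.Agent.LD.PN Twist Groth.Agent.H2.Horr

/-- the arithmetic of a telescoping sum in an abelian group. -/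
lemma telescope {G : Type*} [AddCommGroup G] (k z : ℤ → G) (h : ∀ p, k p = z p + z (p + 1))
    (a : ℤ) (N : ℕ) :
    ((Finset.range N).sum fun j : ℕ => ((-1 : ℤ) ^ j) • k (a + j)) =
      z a - ((-1 : ℤ) ^ N) • z (a + N) := by
  induction N with
  | zero => simp
  | succ N ih =>
    rw [Finset.sum_range_succ, ih, h (a + N)]
    have : a + ((N + 1 : ℕ) : ℤ) = a + N + 1 := by push_cast; ring
    rw [this, pow_succ, smul_add]
    simp only [mul_neg, mul_one, neg_smul]
    abel

variable (n : ℕ) (k : Type u) [Field k]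

/-- an additive invariant of coherent modules on `P^n_k`. -/
structure AddInv (G : Type*) [AddCommGroup G] where
  f : (Proj (CohB1.polyGrading n k)).Modules → G
  add : ∀ S : ShortComplex (Proj (CohB1.polyGrading n k)).Modules, S.ShortExact →
    Coh.IsCoh S.X₁ → Coh.IsCoh S.X₂ → Coh.IsCoh S.X₃ → f S.X₂ = f S.X₁ + f S.X₃

namespace AddInv
variable {n k} {G : Type*} [AddCommGroup G] (φ : AddInv n k G)

theorem of_isZero {Z : (Proj (CohB1.polyGrading n k)).Modules} (hZ : IsZero Z) : φ.f Z = 0 := by
  have hS : (ShortComplex.mk (0 : Z ⟶ Z) (0 : Z ⟶ Z) zero_comp).ShortExact :=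
    { exact := ShortComplex.exact_of_isZero_X₂ _ hZ
      mono_f := ⟨fun _ _ _ => hZ.eq_of_tgt _ _⟩
      epi_g := ⟨fun _ _ _ => hZ.eq_of_src _ _⟩ }
  have hc := isCoh_of_isZero n k hZ
  have h := φ.add _ hS hc hc hc
  change φ.f Z = φ.f Z + φ.f Z at h
  exact (add_eq_left.1 h.symm)

theorem iso {A B : (Proj (CohB1.polyGrading n k)).Modules} (e : A ≅ B) (hA : Coh.IsCoh A) :
    φ.f A = φ.f B := by
  have hB : Coh.IsCoh B := QC.isCoh_of_iso e hA
  have hS : (ShortComplex.mk (0 : (0 : (Proj (CohB1.polyGrading n k)).Modules) ⟶ A) e.hom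
      zero_comp).ShortExact :=
    { exact := ShortComplex.exact_of_f_is_kernel _
        (KernelFork.IsLimit.ofMonoOfIsZero _ inferInstance (isZero_zero _))
      mono_f := inferInstanceAs (Mono (0 : (0 : (Proj (CohB1.polyGrading n k)).Modules) ⟶ A))
      epi_g := inferInstanceAs (Epi e.hom) }
  have h := φ.add _ hS (isCoh_of_isZero n k (isZero_zero _)) hA hB
  change φ.f A = φ.f 0 + φ.f B at h
  rw [h, φ.of_isZero (isZero_zero _), zero_add]

theorem biprod (A C : (Proj (CohB1.polyGrading n k)).Modules) (hA : Coh.IsCoh A)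
    (hC : Coh.IsCoh C) : φ.f (A ⊞ C) = φ.f A + φ.f C :=
  φ.add _ (shortExact_biprod n k A C) hA (isCoh_biprod n k A C hA hC) hC

/-- the alternating sum of the values on the terms of an exact bounded complex of coherent
modules vanishes. -/
theorem exact_sum {ι : Type} (S : KS.KSys (Proj (CohB1.polyGrading n k)) ι) (e : ℤ)
    (hex : ∀ p, (ShortComplex.mk (S.d e p) (S.d e (p+1)) (S.dd e p)).Exact)
    (hcoh : ∀ p, Coh.IsCoh (S.K e p)) (a : ℤ) (N : ℕ) (ha : IsZero (S.K e (a - 1)))
    (hb : IsZero (S.K e (a + N))) :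
    ((Finset.range N).sum fun j : ℕ => ((-1 : ℤ) ^ j) • φ.f (S.K e (a + j))) = 0 := by
  let z : ℤ → G := fun p => φ.f (kernel (S.d e p))
  let kk : ℤ → G := fun p => φ.f (S.K e p)
  have hk : ∀ p, kk p = z p + z (p + 1) := by
    intro p
    have hS := shortExact_kernel_lift (S.d e p) (S.d e (p+1)) (S.dd e p) (hex p)
    have h := φ.add _ hS
      (isCoh_kernel n k _ (hcoh p) (hcoh (p+1))) (hcoh p)
      (isCoh_kernel n k _ (hcoh (p+1)) (hcoh (p+1+1)))
    exact h
  have hz : ∀ p, IsZero (S.K e p) → z p = 0 := fun p hp =>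
    φ.of_isZero (IsZero.of_mono (kernel.ι (S.d e p)) hp)
  have h1 : z a = 0 := by
    have h := hk (a - 1)
    rw [hz (a - 1) ha, sub_add_cancel, zero_add] at h
    rw [← h]
    exact φ.of_isZero ha
  have h2 := telescope kk z hk a N
  rw [h1, hz (a + N) hb, smul_zero, sub_zero] at h2
  exact h2

/-- the values on the terms of the Koszul system. -/
theorem koszul_terms (F : (Proj (CohB1.polyGrading n k)).Modules) (hF : Coh.IsCoh F)
    (L : List (Fin (n+1))) : ∀ (e : ℤ) (j : ℕ) (p g : ℤ), p = -(j : ℤ) →
    g = e + L.length - j →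
    φ.f (((kbase n k F).koszul L).K e p) = (Nat.choose L.length j : ℤ) • φ.f (kG n k F g) := by
  induction L with
  | nil =>
    intro e j p g hp hg
    cases j with
    | zero =>
      obtain rfl : p = 0 := by simpa using hp
      obtain rfl : g = e := by simpa using hg
      simp only [List.length_nil, Nat.choose_self, Nat.cast_one, one_smul]
      rfl
    | succ j =>
      have hz : IsZero (((kbase n k F).koszul []).K e p) :=
        (kbase n k F).K0_isZero e p (by rw [hp]; push_cast; omega)
      rw [φ.of_isZero hz]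
      simp
  | cons l L ih =>
    intro e j p g hp hg
    rw [List.length_cons] at hg
    push_cast at hg
    have hbi : φ.f (((kbase n k F).koszul (l :: L)).K e p) =
        φ.f (((kbase n k F).koszul L).K e (p+1)) +
          φ.f (((kbase n k F).koszul L).K (e+1) p) :=
      φ.biprod _ _ (koszul_coh n k F hF L e (p+1)) (koszul_coh n k F hF L (e+1) p)
    rw [hbi]
    cases j with
    | zero =>
      obtain rfl : p = 0 := by simpa using hp
      have hz : IsZero (((kbase n k F).koszul L).K e (0+1)) :=
        (kbase n k F).koszul_isZero L e (0+1) (Or.inl (by norm_num))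
      rw [φ.of_isZero hz, ih (e+1) 0 0 g (by simp) (by rw [hg]; push_cast; ring)]
      simp
    | succ j =>
      rw [ih e j (p+1) g (by rw [hp]; push_cast; ring) (by rw [hg]; push_cast; ring),
        ih (e+1) (j+1) p g hp (by rw [hg]; push_cast; ring), List.length_cons,
        Nat.choose_succ_succ]
      push_cast
      rw [add_smul]

/-- **the Koszul relation** between the values of an additive invariant on the twists of a
coherent module on `P^n`. -/
theorem koszul_relation (F : (Proj (CohB1.polyGrading n k)).Modules) (hF : Coh.IsCoh F)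
    (e : ℤ) :
    ((Finset.range (n + 2)).sum fun j : ℕ =>
      ((-1 : ℤ) ^ j) • ((Nat.choose (n + 1) j : ℤ) • φ.f (kG n k F (e + j)))) = 0 := by
  have h := φ.exact_sum ((kbase n k F).koszul (List.finRange (n+1))) e
    (fun p => kbase_exact n k F e p) (fun p => koszul_coh n k F hF _ e p)
    (-((n : ℤ) + 1)) (n + 2)
    ((kbase n k F).koszul_isZero _ e _ (Or.inr (by rw [List.length_finRange]; push_cast; omega)))
    ((kbase n k F).koszul_isZero _ e _ (Or.inl (by push_cast; omega)))
  rw [← h]
  refine Finset.sum_congr rfl (fun j hj => ?_)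
  have hj' : j ≤ n + 1 := by
    have := Finset.mem_range.mp hj
    omega
  rw [φ.koszul_terms F hF (List.finRange (n+1)) e (n + 1 - j) (-((n : ℤ) + 1) + j) (e + j)
    (by push_cast [Nat.cast_sub hj']; ring)
    (by rw [List.length_finRange]; push_cast [Nat.cast_sub hj']; ring),
    List.length_finRange, Nat.choose_symm hj']

end AddInv

end Groth.Agent.H2.K0Pn
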