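import Mathlib
import Groth.Agent.Lib.Helper2.K0PnA
import Groth.Agent.Lib.Lead.Curve.Euler

/-!
# The Grothendieck group of coherent modules on projective space.
-/

set_option autoImplicit false
universe u
open CategoryTheory CategoryTheory.Limits AlgebraicGeometry TopologicalSpace Opposite ZeroObject

namespace Groth.Agent.H2.K0Pn

open Groth.Agent.LD Groth.Agent.LD.PN Twist Groth.Agent.H2.Horr

variable (n : ℕ) (k : Type u) [Field k]

/-- the property of being coherent. -/
abbrev PC : ObjectProperty (Proj (CohB1.polyGrading n k)).Modules := fun M => Coh.IsCoh M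

/-- the class in `K₀`, as an additive invariant. -/
noncomputable def clInv : AddInv n k (KZero.K0sub (PC n k)) where
  f := KZero.clSub (PC n k)
  add S hS h₁ h₂ h₃ := KRes.clSub_add (PC n k) (f := S.f) (g := S.g) (w := S.zero) hS h₁ h₂ h₃

/-- the Euler characteristic, as an additive invariant. -/
noncomputable def chiInv : AddInv n k ℤ where
  f := chi n k
  add _ hS h₁ h₂ h₃ := chi_add n k hS h₁ h₂ h₃

variable {n k}

/-- twisting an additive invariant. -/
noncomputable def AddInv.tw {G : Type*} [AddCommGroup G] (φ : AddInv n k G) (t : ℤ) :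
    AddInv n k G where
  f F := φ.f (kG n k F t)
  add S hS h₁ h₂ h₃ :=
    φ.add _ (QC.shortExact_tensorMap_of_isInvertible hS (twist (CohB1.polyGrading n k) t)
      (isInvertible_twist n k t)) (isCoh_twist n k _ h₁ t) (isCoh_twist n k _ h₂ t)
      (isCoh_twist n k _ h₃ t)

/-- the homomorphism on `K₀` induced by an additive invariant. -/
noncomputable def AddInv.lift₀ {G : Type*} [AddCommGroup G] (φ : AddInv n k G) :
    FreeAbelianGroup (Subtype (PC n k)) →+ G :=
  FreeAbelianGroup.lift (fun M => φ.f M.1)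

lemma AddInv.relSub_le_ker {G : Type*} [AddCommGroup G] (φ : AddInv n k G) :
    KZero.relSub (PC n k) ≤ φ.lift₀.ker := by
  unfold KZero.relSub
  rw [AddSubgroup.closure_le]
  rintro x ⟨S, h₁, h₂, h₃, hS, rfl⟩
  change φ.lift₀ _ = 0
  simp only [AddInv.lift₀, map_sub, FreeAbelianGroup.lift_apply_of]
  rw [φ.add S hS h₁ h₂ h₃]
  abel

/-- the homomorphism on `K₀` induced by an additive invariant. -/
noncomputable def AddInv.lift {G : Type*} [AddCommGroup G] (φ : AddInv n k G) :
    KZero.K0sub (PC n k) →+ G :=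
  QuotientAddGroup.lift _ φ.lift₀ φ.relSub_le_ker

lemma AddInv.lift_cl {G : Type*} [AddCommGroup G] (φ : AddInv n k G)
    (F : (Proj (CohB1.polyGrading n k)).Modules) (hF : Coh.IsCoh F) :
    φ.lift (KZero.clSub (PC n k) F) = φ.f F := by
  unfold KZero.clSub
  rw [dif_pos hF]
  change φ.lift₀ _ = _
  simp only [AddInv.lift₀, FreeAbelianGroup.lift_apply_of]

/-- the class of `O(d)`. -/
noncomputable def c (n : ℕ) (k : Type u) [Field k] (d : ℤ) : KZero.K0sub (PC n k) :=
  KZero.clSub (PC n k) (twist (CohB1.polyGrading n k) d)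

/-- the Koszul relation in `K₀`. -/
theorem koszul_c (e : ℤ) :
    ((Finset.range (n + 2)).sum fun j : ℕ =>
      ((-1 : ℤ) ^ j) • ((Nat.choose (n + 1) j : ℤ) • c n k (e + j))) = 0 := by
  have h := (clInv n k).koszul_relation (twist (CohB1.polyGrading n k) 0) (isCoh_twist_single 0) e
  rw [← h]
  refine Finset.sum_congr rfl (fun j _ => ?_)
  congr 2
  exact ((clInv n k).iso (twistMulIso n k 0 (e + j) (e + j) (by ring))
    (isCoh_twist n k _ (isCoh_twist_single 0) _)).symm

end Groth.Agent.H2.K0Pn
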