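import Mathlib
import Groth.Agent.Lib.Helper2.K0PnB

/-!
# The Grothendieck group of coherent modules on projective space: generators.
-/

set_option autoImplicit false
universe u
open CategoryTheory CategoryTheory.Limits AlgebraicGeometry TopologicalSpace Opposite ZeroObject

namespace Groth.Agent.H2.K0Pn

open Groth.Agent.LD Groth.Agent.LD.PN Twist Groth.Agent.H2.Horr

lemma mem_of_relation {M : Type*} [AddCommGroup M] (H : Submodule ℤ M) (N : ℕ) (t : ℕ → M)
    (hsum : (Finset.range N).sum t = 0) (j₀ : ℕ) (hj₀ : j₀ < N)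
    (h : ∀ j, j < N → j ≠ j₀ → t j ∈ H) : t j₀ ∈ H := by
  have h1 := Finset.add_sum_erase (Finset.range N) t (Finset.mem_range.2 hj₀)
  rw [hsum] at h1
  have h2 : t j₀ = -((Finset.range N).erase j₀).sum t := eq_neg_of_add_eq_zero_left h1
  rw [h2]
  refine H.neg_mem (H.sum_mem (fun j hj => ?_))
  rw [Finset.mem_erase, Finset.mem_range] at hj
  exact h j hj.2 hj.1

variable (n : ℕ) (k : Type u) [Field k]

/-- the subgroup generated by the classes of `O, O(-1), …, O(-n)`. -/
noncomputable def HH0 : Submodule ℤ (KZero.K0sub (PC n k)) :=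
  Submodule.span ℤ (Set.range fun i : Fin (n + 1) => c n k (-((i : ℕ) : ℤ)))

variable {n k}

lemma c_mem_gen (i : ℕ) (hi : i ≤ n) : c n k (-(i : ℤ)) ∈ HH0 n k :=
  Submodule.subset_span ⟨⟨i, by omega⟩, rfl⟩

theorem c_mem_up (N : ℕ) : c n k ((N : ℤ) - n) ∈ HH0 n k := by
  induction N using Nat.strong_induction_on with
  | _ N ih =>
    by_cases hN : N ≤ n
    · have h := c_mem_gen (n := n) (k := k) (n - N) (by omega)
      have e : -(((n - N : ℕ)) : ℤ) = (N : ℤ) - n := by
        rw [Nat.cast_sub hN]; ring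
      rwa [e] at h
    · have hrel := koszul_c (n := n) (k := k) ((N : ℤ) - n - (n + 1))
      have h := mem_of_relation (HH0 n k) (n + 2) _ hrel (n + 1) (by omega) (fun j hj hne => by
        have hj' : j ≤ n := by omega
        refine Submodule.smul_mem _ _ (Submodule.smul_mem _ _ ?_)
        have h1 := ih (N - (n + 1) + j) (by omega)
        have e : (((N - (n + 1) + j : ℕ)) : ℤ) - n = (N : ℤ) - n - (n + 1) + j := by
          rw [Nat.cast_add, Nat.cast_sub (by omega)]; push_cast; ring
        rwa [e] at h1)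
      simp only [Nat.choose_self, Nat.cast_one, one_smul] at h
      have h2 := Submodule.smul_mem (HH0 n k) ((-1 : ℤ) ^ (n + 1)) h
      rw [smul_smul, ← pow_add, Even.neg_one_pow ⟨n + 1, rfl⟩, one_smul] at h2
      have e : (N : ℤ) - n - (n + 1) + ((n + 1 : ℕ) : ℤ) = (N : ℤ) - n := by push_cast; ring
      rwa [e] at h2

theorem c_mem_down (N : ℕ) : c n k (-(n : ℤ) - N) ∈ HH0 n k := by
  induction N using Nat.strong_induction_on with
  | _ N ih =>
    rcases Nat.eq_zero_or_pos N with hN | hN
    · subst hN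
      have h := c_mem_gen (n := n) (k := k) n le_rfl
      simpa using h
    · have hrel := koszul_c (n := n) (k := k) (-(n : ℤ) - N)
      have h := mem_of_relation (HH0 n k) (n + 2) _ hrel 0 (by omega) (fun j hj hne => by
        refine Submodule.smul_mem _ _ (Submodule.smul_mem _ _ ?_)
        by_cases hjN : j ≤ N
        · have h1 := ih (N - j) (by omega)
          have e : -(n : ℤ) - ((N - j : ℕ) : ℤ) = -(n : ℤ) - N + j := by
            rw [Nat.cast_sub hjN]; ring
          rwa [e] at h1
        · have h1 := c_mem_up (n := n) (k := k) (j - N)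
          have e : (((j - N : ℕ)) : ℤ) - n = -(n : ℤ) - N + j := by
            rw [Nat.cast_sub (by omega)]; ring
          rwa [e] at h1)
      simpa using h

theorem c_mem (d : ℤ) : c n k d ∈ HH0 n k := by
  by_cases hd : -(n : ℤ) ≤ d
  · have h := c_mem_up (n := n) (k := k) (d + n).toNat
    have e : (((d + n).toNat : ℕ) : ℤ) - n = d := by
      rw [Int.toNat_of_nonneg (by omega)]; ring
    rwa [e] at h
  · have h := c_mem_down (n := n) (k := k) (-(n : ℤ) - d).toNat
    have e : -(n : ℤ) - (((-(n : ℤ) - d).toNat : ℕ) : ℤ) = d := by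
      rw [Int.toNat_of_nonneg (by omega)]; ring
    rwa [e] at h

end Groth.Agent.H2.K0Pn
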