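import Mathlib
import Groth.Agent.Lib.Helper2.K0PnC

/-!
# The Grothendieck group of coherent modules on projective space: the theorem.
-/

set_option autoImplicit false
universe u
open CategoryTheory CategoryTheory.Limits AlgebraicGeometry TopologicalSpace Opposite ZeroObject

namespace Groth.Agent.H2.K0Pn

open Groth.Agent.LD Groth.Agent.LD.PN Twist Groth.Agent.H2.Horr

variable {n : ℕ} {k : Type u} [Field k]

theorem AddInv.sigma_const {G : Type*} [AddCommGroup G] (φ : AddInv n k G) (d : ℤ) :
    ∀ b : ℕ, φ.f (∐ fun _ : Fin b => twist (CohB1.polyGrading n k) d) =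
      b • φ.f (twist (CohB1.polyGrading n k) d)
  | 0 => by
    rw [φ.of_isZero (H5.Gro.isZero_sigma_fin_zero _), zero_smul]
  | b + 1 => by
    rw [φ.iso (H5.Gro.sigmaFinSuccIso (fun _ : Fin (b + 1) => twist (CohB1.polyGrading n k) d))
      (isCoh_sigma_twist (b + 1) d)]
    have h := φ.biprod (twist (CohB1.polyGrading n k) d)
      (∐ fun _ : Fin b => twist (CohB1.polyGrading n k) d) (isCoh_twist_single d)
      (isCoh_sigma_twist b d)
    refine h.trans ?_
    rw [AddInv.sigma_const φ d b, succ_nsmul, add_comm]

/-- the classes of the syzygies of a coherent module lie in the span of the twists. -/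
theorem cl_syzygy_mem {m₀ : ℤ} (s0 : St n k m₀ 0) : ∀ (i j : ℕ), j + i = n + 1 →
    KZero.clSub (PC n k) (seq s0 j).K ∈ HH0 n k := by
  intro i
  induction i with
  | zero =>
    intro j hj
    obtain rfl : j = n + 1 := by omega
    have h := (clInv n k).of_isZero (isZero_syzygy s0)
    change KZero.clSub (PC n k) _ = 0 at h
    rw [h]
    exact Submodule.zero_mem _
  | succ i ih =>
    intro j hj
    have h1 := ih (j + 1) (by omega)
    have hS : (ShortComplex.mk (kernel.ι (seq s0 j).step.φ) (seq s0 j).step.φ
        (kernel.condition _)).ShortExact :=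
      { exact := ShortComplex.exact_of_f_is_kernel _ (kernelIsKernel _)
        mono_f := inferInstanceAs (Mono (kernel.ι (seq s0 j).step.φ))
        epi_g := (seq s0 j).step.epi }
    have h2 := (clInv n k).add _ hS (seq s0 j).step.coh (isCoh_sigma_twist _ _) (seq s0 j).coh
    change KZero.clSub (PC n k) (∐ fun _ : Fin (seq s0 j).step.b =>
        twist (CohB1.polyGrading n k) (-(m₀ + (j : ℤ)))) =
      KZero.clSub (PC n k) (seq s0 (j + 1)).K + KZero.clSub (PC n k) (seq s0 j).K at h2
    have h3 := (clInv n k).sigma_const (-(m₀ + (j : ℤ))) (seq s0 j).step.b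
    change KZero.clSub (PC n k) _ = _ • c n k (-(m₀ + (j : ℤ))) at h3
    have h4 : KZero.clSub (PC n k) (seq s0 j).K =
        (seq s0 j).step.b • c n k (-(m₀ + (j : ℤ))) -
          KZero.clSub (PC n k) (seq s0 (j + 1)).K := by
      rw [← h3, h2]; abel
    rw [h4]
    exact Submodule.sub_mem _ (Submodule.smul_of_tower_mem _ _ (c_mem _)) h1

/-- the class of a coherent module lies in the span of the twists. -/
theorem cl_mem (F : (Proj (CohB1.polyGrading n k)).Modules) (hF : Coh.IsCoh F) :
    KZero.clSub (PC n k) F ∈ HH0 n k := by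
  obtain ⟨m₀, h₀⟩ := exists_isReg F hF
  let s0 : St n k m₀ 0 := ⟨F, hF, by rwa [Nat.cast_zero, add_zero]⟩
  exact cl_syzygy_mem s0 (n + 1) 0 (by omega)

theorem HH0_eq_top : HH0 n k = ⊤ := by
  rw [eq_top_iff]
  intro y _
  clear * - y
  induction y using QuotientAddGroup.induction_on with
  | H x =>
    induction x using FreeAbelianGroup.induction_on with
    | zero => exact Submodule.zero_mem _
    | of M =>
      have h := cl_mem M.1 M.2
      unfold KZero.clSub at h
      rw [dif_pos M.2] at h
      exact h
    | neg M ih => exact Submodule.neg_mem _ ih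
    | add x y hx hy => exact Submodule.add_mem _ hx hy

end Groth.Agent.H2.K0Pn
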