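import Mathlib
import Groth.Agent.Lib.Helper2.K0PnD

/-!
# The Grothendieck group of coherent modules on projective space: freeness.
-/

set_option autoImplicit false
universe u
open CategoryTheory CategoryTheory.Limits AlgebraicGeometry TopologicalSpace Opposite ZeroObject

namespace Groth.Agent.H2.K0Pn

open Groth.Agent.LD Groth.Agent.LD.PN Twist Groth.Agent.H2.Horr

variable {n : ℕ} {k : Type u} [Field k]

lemma chi_twist_gap (s : ℤ) (h1 : -(n : ℤ) ≤ s) (h2 : s < 0) :
    chi n k (twist (CohB1.polyGrading n k) s) = 0 := by
  unfold chi CL.chiLE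
  refine Finset.sum_eq_zero (fun j _ => ?_)
  haveI := subsingleton_HH_twist_all n k s j (by rintro ⟨-, h⟩; omega) (by rintro ⟨-, h⟩; omega)
  rw [Alg.len_of_subsingleton, mul_zero]

lemma chi_twist_zero : chi n k (twist (CohB1.polyGrading n k) 0) = 1 := by
  unfold chi CL.chiLE
  rw [Finset.sum_eq_single 0]
  · haveI := finite_HH_coh' n k _ (isCoh_twist_single (n := n) (k := k) 0) 0
    rw [pow_zero, one_mul, Curve.len_eq_finrank]
    have h2 : Module.finrank k (Coh.HH (Proj (CohB1.polyGrading n k))
        (twist (CohB1.polyGrading n k) ((0 : ℕ) : ℤ)) 0) = (0 + n).choose n :=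
      (LinearEquiv.finrank_eq (H0LinearEquiv n k 0)).trans (finrank_homogeneousSubmodule k n 0)
    rw [Nat.cast_zero] at h2
    rw [h2, zero_add, Nat.choose_self, Nat.cast_one]
  · intro j _ hj
    haveI := subsingleton_HH_twist_all n k 0 j (by rintro ⟨h, -⟩; exact hj h)
      (by rintro ⟨-, h⟩; omega)
    rw [Alg.len_of_subsingleton, mul_zero]
  · intro h
    exact absurd (Finset.mem_range.2 (by omega)) h

/-- the value of the twisted Euler characteristic on the class of a twisting sheaf. -/
lemma lift_tw_c (t d : ℤ) :
    ((chiInv n k).tw t).lift (c n k d) = chi n k (twist (CohB1.polyGrading n k) (d + t)) := by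
  unfold c
  rw [AddInv.lift_cl _ _ (isCoh_twist_single d)]
  exact chi_iso n k (twistMulIso n k d t (d + t) rfl)

/-- **the Grothendieck group of coherent modules on `P^n_k`** is free on the classes of
`O, O(-1), …, O(-n)`. -/
theorem bijective_twists :
    Function.Bijective (fun a : Fin (n + 1) → ℤ =>
      ∑ i : Fin (n + 1), a i • c n k (-((i : ℕ) : ℤ))) := by
  constructor
  · intro a a' haa
    have key : ∀ t : ℕ, t ≤ n → ∑ i : Fin (n + 1), (a i - a' i) *
        chi n k (twist (CohB1.polyGrading n k) (-((i : ℕ) : ℤ) + t)) = 0 := by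
      intro t _
      have h1 := congrArg ((chiInv n k).tw (t : ℤ)).lift haa
      simp only [map_sum, map_zsmul, lift_tw_c, smul_eq_mul] at h1
      rw [← sub_eq_zero, ← Finset.sum_sub_distrib] at h1
      rw [← h1]
      exact Finset.sum_congr rfl (fun i _ => by ring)
    have main : ∀ t : ℕ, ∀ ht : t ≤ n, a ⟨t, by omega⟩ = a' ⟨t, by omega⟩ := by
      intro t
      induction t using Nat.strong_induction_on with
      | _ t ih =>
        intro ht
        have h := key t ht
        rw [Finset.sum_eq_single (⟨t, by omega⟩ : Fin (n + 1))] at h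
        · have e : -(((⟨t, by omega⟩ : Fin (n + 1)) : ℕ) : ℤ) + (t : ℤ) = 0 := by simp
          rw [e, chi_twist_zero, mul_one] at h
          exact sub_eq_zero.1 h
        · intro i _ hi
          rcases lt_or_gt_of_ne (fun h' => hi (Fin.ext h') : (i : ℕ) ≠ t) with hlt | hgt
          · have := ih i hlt (by omega)
            rw [show (⟨(i : ℕ), by omega⟩ : Fin (n + 1)) = i from rfl] at this
            rw [this, sub_self, zero_mul]
          · rw [chi_twist_gap _ (by have := i.2; omega) (by omega), mul_zero]
        · intro h'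
          exact absurd (Finset.mem_univ _) h'
    funext i
    exact main i (by have := i.2; omega)
  · intro y
    have hy : y ∈ HH0 n k := by rw [HH0_eq_top]; trivial
    exact (Submodule.mem_span_range_iff_exists_fun ℤ).1 hy

end Groth.Agent.H2.K0Pn
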