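import Groth.Prelude.Def_KGr
import Groth.Agent.Lib.Helper2.LamFilt
import Mathlib

/-!
# Structure of the Rees ring and of `GrZ` of `Def_KGr`
-/

set_option autoImplicit false

namespace Groth.Agent.H2.KGrS

open LambdaRing LaurentPolynomial TensorProduct
open Groth.Agent.H2.Lam

universe v

variable {K : Type v} [CommRing K] [LambdaOps K] (P : PosStructure K)

theorem toNat_sub_le (a b : ℤ) : (-(a + b)).toNat ≤ (-a).toNat + (-b).toNat := by omega

theorem coeff_single_mem (a : ℤ) (x : K) (hx : x ∈ gammaFiltration P (-a).toNat) (b : ℤ) :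
    (AddMonoidAlgebra.single a x : LaurentPolynomial K).coeff b ∈ gammaFiltration P (-b).toNat := by
  classical
  rw [AddMonoidAlgebra.coeff_single, Finsupp.single_apply]
  split_ifs with h
  · subst h; exact hx
  · exact zero_mem _

theorem rees_le (f : LaurentPolynomial K) (hf : f ∈ KGr.rees P) :
    ∀ a : ℤ, f.coeff a ∈ gammaFiltration P (-a).toNat := by
  classical
  unfold KGr.rees at hf
  induction hf using Subring.closure_induction with
  | mem f hf =>
    rcases hf with rfl | ⟨n, x, hx, rfl⟩
    · intro a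
      refine coeff_single_mem P 1 1 ?_ a
      simp [gammaFiltration_zero]
    · intro a
      rw [← LaurentPolynomial.single_eq_C_mul_T]
      refine coeff_single_mem P _ x ?_ a
      simpa using hx
  | zero => intro a; simp
  | one =>
    intro a
    refine coeff_single_mem P 0 1 ?_ a
    simp [gammaFiltration_zero]
  | add f g _ _ hf hg => intro a; rw [AddMonoidAlgebra.coeff_add, Finsupp.add_apply]; exact add_mem (hf a) (hg a)
  | neg f _ hf => intro a; rw [AddMonoidAlgebra.coeff_neg, Finsupp.neg_apply]; exact neg_mem (hf a)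
  | mul f g _ _ hf hg =>
    intro a
    rw [AddMonoidAlgebra.coeff_mul]
    refine AddSubgroup.sum_mem _ fun i _ => AddSubgroup.sum_mem _ fun j _ => ?_
    show (if i + j = a then f.coeff i * g.coeff j else 0) ∈ _
    split_ifs with h
    · subst h
      exact gammaFiltration_anti P (toNat_sub_le i j) (mul_mem_filt P (hf i) (hg j))
    · exact zero_mem _

theorem single_mem_rees (a : ℤ) (x : K) (hx : x ∈ gammaFiltration P (-a).toNat) :
    (AddMonoidAlgebra.single a x : LaurentPolynomial K) ∈ KGr.rees P := by
  rcases le_or_gt 0 a with h | h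
  · -- a ≥ 0
    obtain ⟨n, rfl⟩ := Int.eq_ofNat_of_zero_le h
    have h1 : (AddMonoidAlgebra.single (n : ℤ) x : LaurentPolynomial K) = (C x * T (-((0 : ℕ) : ℤ))) * T 1 ^ n := by
      rw [LaurentPolynomial.single_eq_C_mul_T, T_pow]
      simp
    rw [h1]
    refine Subring.mul_mem _ ?_ (Subring.pow_mem _ ?_ n)
    · exact Subring.subset_closure (Set.mem_insert_of_mem _ ⟨0, x, by rw [gammaFiltration_zero]; trivial, rfl⟩)
    · exact Subring.subset_closure (Set.mem_insert _ _)
  · obtain ⟨n, hn⟩ : ∃ n : ℕ, a = -(n : ℤ) := ⟨(-a).toNat, by omega⟩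
    subst hn
    rw [LaurentPolynomial.single_eq_C_mul_T]
    refine Subring.subset_closure (Set.mem_insert_of_mem _ ⟨n, x, ?_, rfl⟩)
    simpa using hx

theorem mem_rees_iff (f : LaurentPolynomial K) :
    f ∈ KGr.rees P ↔ ∀ a : ℤ, f.coeff a ∈ gammaFiltration P (-a).toNat := by
  constructor
  · exact rees_le P f
  · intro h
    have : f = ∑ a ∈ f.coeff.support, AddMonoidAlgebra.single a (f.coeff a) := by
      apply AddMonoidAlgebra.coeff_injective
      rw [AddMonoidAlgebra.coeff_sum]
      simp only [AddMonoidAlgebra.coeff_single]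
      exact (Finsupp.sum_single f.coeff).symm
    rw [this]
    exact Subring.sum_mem _ fun a _ => single_mem_rees P a _ (h a)


/-- the monomial `x t^{-n}` of the Rees ring, `x ∈ F^n` -/
noncomputable def mon (n : ℕ) (x : gammaFiltration P n) : KGr.rees P :=
  ⟨AddMonoidAlgebra.single (-(n : ℤ)) (x : K), single_mem_rees P _ _ (by simpa using x.2)⟩

theorem mon_val (n : ℕ) (x : gammaFiltration P n) :
    ((mon P n x : KGr.rees P) : LaurentPolynomial K) = AddMonoidAlgebra.single (-(n : ℤ)) (x : K) := rfl

theorem mon_add (n : ℕ) (x y : gammaFiltration P n) : mon P n (x + y) = mon P n x + mon P n y := by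
  apply Subtype.ext
  rw [Subring.coe_add, mon_val, mon_val, mon_val, AddSubgroup.coe_add, AddMonoidAlgebra.single_add]

theorem mon_zero (n : ℕ) : mon P n 0 = 0 := by
  apply Subtype.ext
  rw [mon_val, Subring.coe_zero, AddSubgroup.coe_zero, AddMonoidAlgebra.single_zero]

theorem mon_mul (a b : ℕ) (x : gammaFiltration P a) (y : gammaFiltration P b) :
    mon P a x * mon P b y = mon P (a + b) ⟨(x : K) * y, mul_mem_filt P x.2 y.2⟩ := by
  apply Subtype.ext
  rw [Subring.coe_mul, mon_val, mon_val, mon_val, AddMonoidAlgebra.single_mul_single]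
  congr 1
  push_cast; ring

theorem mem_span_t_iff (g : KGr.rees P) :
    g ∈ Ideal.span {KGr.tGen P} ↔
      ∀ a : ℤ, (g : LaurentPolynomial K).coeff a ∈ gammaFiltration P (-a + 1).toNat := by
  rw [Ideal.mem_span_singleton']
  constructor
  · rintro ⟨h, rfl⟩ a
    have h1 : ((h * KGr.tGen P : KGr.rees P) : LaurentPolynomial K) = (h : LaurentPolynomial K) * T 1 := rfl
    rw [h1, show (T 1 : LaurentPolynomial K) = AddMonoidAlgebra.single 1 1 from rfl,
      AddMonoidAlgebra.coeff_mul_single_apply, mul_one]
    have := rees_le P h h.2 (a - 1)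
    rwa [show -(a - 1) = -a + 1 by ring] at this
  · intro hg
    have hh : (g : LaurentPolynomial K) * T (-1) ∈ KGr.rees P := by
      rw [mem_rees_iff]
      intro a
      rw [show (T (-1) : LaurentPolynomial K) = AddMonoidAlgebra.single (-1) 1 from rfl,
        AddMonoidAlgebra.coeff_mul_single_apply, mul_one]
      have := hg (a - -1)
      rwa [show -(a - -1) + 1 = -a by ring] at this
    refine ⟨⟨_, hh⟩, ?_⟩
    apply Subtype.ext
    show (g : LaurentPolynomial K) * T (-1) * T 1 = (g : LaurentPolynomial K)
    rw [mul_T_assoc]; simp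

/-- the class of `x ∈ F^n` in degree `n` of `GrZ` -/
noncomputable def clHom (n : ℕ) : gammaFiltration P n →+ KGr.GrZ P where
  toFun x := Ideal.Quotient.mk _ (mon P n x)
  map_zero' := by rw [mon_zero, map_zero]
  map_add' x y := by rw [mon_add, map_add]

theorem clHom_apply (n : ℕ) (x : gammaFiltration P n) :
    clHom P n x = Ideal.Quotient.mk _ (mon P n x) := rfl

theorem clHom_eq_zero_iff (n : ℕ) (x : gammaFiltration P n) :
    clHom P n x = 0 ↔ (x : K) ∈ gammaFiltration P (n + 1) := by
  classical
  rw [clHom_apply, Ideal.Quotient.eq_zero_iff_mem, mem_span_t_iff]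
  constructor
  · intro h
    have := h (-(n : ℤ))
    rw [mon_val, AddMonoidAlgebra.coeff_single, Finsupp.single_eq_same] at this
    convert this using 2
    omega
  · intro h a
    rw [mon_val, AddMonoidAlgebra.coeff_single, Finsupp.single_apply]
    split_ifs with h1
    · subst h1
      convert h using 2
      omega
    · exact zero_mem _

theorem clHom_mul (a b : ℕ) (x : gammaFiltration P a) (y : gammaFiltration P b) :
    clHom P a x * clHom P b y = clHom P (a + b) ⟨(x : K) * y, mul_mem_filt P x.2 y.2⟩ := by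
  rw [clHom_apply, clHom_apply, clHom_apply, ← map_mul, mon_mul]

theorem clHom_zero_one : clHom P 0 ⟨1, by rw [gammaFiltration_zero]; trivial⟩ = 1 := by
  rw [clHom_apply]
  have : mon P 0 ⟨1, by rw [gammaFiltration_zero]; trivial⟩ = 1 := by
    apply Subtype.ext
    rw [mon_val]; rfl
  rw [this, map_one]

/-- the coefficient of `t^{-n}` of an element of the Rees ring, as a class in `GrZ` -/
noncomputable def coefHom (n : ℕ) : KGr.rees P →+ KGr.GrZ P where
  toFun f := clHom P n ⟨(f : LaurentPolynomial K).coeff (-(n : ℤ)),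
    by simpa using rees_le P f f.2 (-(n : ℤ))⟩
  map_zero' := by
    rw [← map_zero (clHom P n)]; congr 1
  map_add' f g := by
    rw [← map_add (clHom P n)]; congr 1

theorem coefHom_apply (n : ℕ) (f : KGr.rees P) :
    coefHom P n f = clHom P n ⟨(f : LaurentPolynomial K).coeff (-(n : ℤ)),
      by simpa using rees_le P f f.2 (-(n : ℤ))⟩ := rfl

theorem coefHom_of_mem (n : ℕ) (g : KGr.rees P) (hg : g ∈ Ideal.span {KGr.tGen P}) :
    coefHom P n g = 0 := by
  rw [coefHom_apply, clHom_eq_zero_iff]
  have := (mem_span_t_iff P g).mp hg (-(n : ℤ))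
  convert this using 2
  omega

theorem coefHom_mon (n k : ℕ) (x : gammaFiltration P k) :
    coefHom P n (mon P k x) = if h : k = n then clHom P n ⟨x, h ▸ x.2⟩ else 0 := by
  classical
  rw [coefHom_apply]
  split_ifs with h
  · subst h
    congr 1
    apply Subtype.ext
    show (mon P k x : LaurentPolynomial K).coeff (-(k : ℤ)) = x
    rw [mon_val, AddMonoidAlgebra.coeff_single, Finsupp.single_eq_same]
  · rw [← map_zero (clHom P n)]
    congr 1
    apply Subtype.ext
    show (mon P k x : LaurentPolynomial K).coeff (-(n : ℤ)) = 0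
    rw [mon_val, AddMonoidAlgebra.coeff_single, Finsupp.single_apply, if_neg]
    omega

end Groth.Agent.H2.KGrS
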