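import Groth.Agent.Lib.Helper2.KGr1

/-!
# Degree projections on `GrZ` and `Gr`, and the classes `grK`
-/

set_option autoImplicit false

namespace Groth.Agent.H2.KGrS

open LambdaRing LaurentPolynomial TensorProduct
open Groth.Agent.H2.Lam

universe v

variable {K : Type v} [CommRing K] [LambdaOps K] (P : PosStructure K)

/-- degree-`n` projection on `GrZ` -/
noncomputable def piZ (n : ℕ) : KGr.GrZ P →+ KGr.GrZ P :=
  QuotientAddGroup.lift (Submodule.toAddSubgroup (Ideal.span {KGr.tGen P})) (coefHom P n)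
    (fun g hg => coefHom_of_mem P n g hg)

theorem piZ_mk (n : ℕ) (f : KGr.rees P) :
    piZ P n (Ideal.Quotient.mk _ f) = coefHom P n f := rfl

theorem piZ_clHom (n k : ℕ) (x : gammaFiltration P k) :
    piZ P n (clHom P k x) = if h : k = n then clHom P n ⟨x, h ▸ x.2⟩ else 0 := by
  rw [clHom_apply, piZ_mk, coefHom_mon]

theorem piZ_clHom_self (n : ℕ) (x : gammaFiltration P n) : piZ P n (clHom P n x) = clHom P n x := by
  rw [piZ_clHom, dif_pos rfl]

theorem piZ_clHom_ne {n k : ℕ} (h : k ≠ n) (x : gammaFiltration P k) : piZ P n (clHom P k x) = 0 := by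
  rw [piZ_clHom, dif_neg h]

theorem sum_piZ {d : ℕ} (hd : gammaFiltration P (d + 1) = ⊥) (z : KGr.GrZ P) :
    ∑ n ∈ Finset.range (d + 1), piZ P n z = z := by
  classical
  obtain ⟨f, rfl⟩ := Ideal.Quotient.mk_surjective z
  simp only [piZ_mk, coefHom_apply, clHom_apply]
  rw [← map_sum, eq_comm, Ideal.Quotient.mk_eq_mk_iff_sub_mem, mem_span_t_iff]
  intro a
  rw [AddSubgroupClass.coe_sub, AddMonoidAlgebra.coeff_sub, Finsupp.sub_apply]
  rcases le_or_gt 1 a with h | h
  · rw [show (-a + 1).toNat = 0 by omega, gammaFiltration_zero]; trivial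
  · obtain ⟨m, rfl⟩ : ∃ m : ℕ, a = -(m : ℤ) := ⟨(-a).toNat, by omega⟩
    have hsum : ((∑ n ∈ Finset.range (d + 1), mon P n ⟨(f : LaurentPolynomial K).coeff (-(n : ℤ)),
        by simpa using rees_le P f f.2 (-(n : ℤ))⟩ : KGr.rees P) : LaurentPolynomial K).coeff (-(m : ℤ))
        = if m ≤ d then (f : LaurentPolynomial K).coeff (-(m : ℤ)) else 0 := by
      rw [AddSubmonoidClass.coe_finsetSum, AddMonoidAlgebra.coeff_sum, Finsupp.finsetSum_apply]
      simp only [mon_val, AddMonoidAlgebra.coeff_single, Finsupp.single_apply]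
      split_ifs with hm
      · rw [Finset.sum_eq_single m]
        · simp
        · intro b _ hb; rw [if_neg]; omega
        · intro h; exact absurd (Finset.mem_range.mpr (by omega)) h
      · refine Finset.sum_eq_zero fun b hb => ?_
        rw [Finset.mem_range] at hb
        rw [if_neg]; omega
    rw [hsum]
    split_ifs with hm
    · rw [sub_self]; exact zero_mem _
    · have h1 := rees_le P f f.2 (-(m : ℤ))
      have h2 : (f : LaurentPolynomial K).coeff (-(m : ℤ)) ∈ gammaFiltration P (d + 1) :=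
        gammaFiltration_anti P (by omega) h1
      rw [hd, AddSubgroup.mem_bot] at h2
      rw [h2, sub_zero]; exact zero_mem _

/-- degree-`n` projection on `Gr = ℚ ⊗ GrZ` -/
noncomputable def PiQ (n : ℕ) : KGr.Gr P →ₗ[ℚ] KGr.Gr P :=
  LinearMap.baseChange ℚ (piZ P n).toIntLinearMap

theorem PiQ_tmul (n : ℕ) (q : ℚ) (z : KGr.GrZ P) : PiQ P n (q ⊗ₜ[ℤ] z) = q ⊗ₜ[ℤ] piZ P n z := by
  rw [PiQ, LinearMap.baseChange_tmul]; rfl

theorem sum_PiQ {d : ℕ} (hd : gammaFiltration P (d + 1) = ⊥) (w : KGr.Gr P) :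
    ∑ n ∈ Finset.range (d + 1), PiQ P n w = w := by
  induction w using TensorProduct.induction_on with
  | zero => simp
  | tmul q z =>
    simp only [PiQ_tmul]
    rw [← TensorProduct.tmul_sum, sum_piZ P hd]
  | add a b ha hb => simp only [map_add, Finset.sum_add_distrib, ha, hb]

/-- torsion criterion in `ℚ ⊗ G` -/
theorem exists_nsmul_eq_zero {G : Type*} [AddCommGroup G] (g : G) (h : (1 : ℚ) ⊗ₜ[ℤ] g = 0) :
    ∃ M : ℕ, 1 ≤ M ∧ M • g = 0 := by
  have hloc : IsLocalizedModule (nonZeroDivisors ℤ) (TensorProduct.mk ℤ ℚ G 1) :=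
    (isLocalizedModule_iff_isBaseChange (nonZeroDivisors ℤ) ℚ _).mpr (TensorProduct.isBaseChange ℤ G ℚ)
  obtain ⟨c, hc⟩ := (IsLocalizedModule.eq_zero_iff (nonZeroDivisors ℤ) (TensorProduct.mk ℤ ℚ G 1)).mp h
  have hc0 : (c : ℤ) ≠ 0 := nonZeroDivisors.coe_ne_zero c
  have hc' : (c : ℤ) • g = 0 := hc
  refine ⟨(c : ℤ).natAbs, by omega, ?_⟩
  rcases Int.natAbs_eq (c : ℤ) with h1 | h1
  · rw [h1, natCast_zsmul] at hc'; exact hc'
  · rw [h1, neg_smul, neg_eq_zero, natCast_zsmul] at hc'; exact hc'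

end Groth.Agent.H2.KGrS
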