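import Groth.Agent.Lib.Helper2.KGr2

/-!
# The classes `grK` of `Def_KGr` on the filtration steps
-/

set_option autoImplicit false

namespace Groth.Agent.H2.KGrS

open LambdaRing LaurentPolynomial TensorProduct
open Groth.Agent.H2.Lam

universe v

variable {K : Type v} [CommRing K] [LambdaOps K] (P : PosStructure K)

theorem mk_natCast_mul (n N : ℕ) (x : K) (hx : x ∈ gammaFiltration P n)
    (hN : C ((N : K) * x) * T (-(n : ℤ)) ∈ KGr.rees P) :
    Ideal.Quotient.mk (Ideal.span {KGr.tGen P}) ⟨C ((N : K) * x) * T (-(n : ℤ)), hN⟩ =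
      (N : ℤ) • clHom P n ⟨x, hx⟩ := by
  have e : (⟨C ((N : K) * x) * T (-(n : ℤ)), hN⟩ : KGr.rees P) = (N : ℤ) • mon P n ⟨x, hx⟩ := by
    apply Subtype.ext
    show C ((N : K) * x) * T (-(n : ℤ)) = (((N : ℤ) • mon P n ⟨x, hx⟩ : KGr.rees P) : LaurentPolynomial K)
    rw [zsmul_eq_mul, Subring.coe_mul, Subring.coe_intCast, mon_val, single_eq_C_mul_T, map_mul,
      mul_assoc]
    simp
  rw [e, map_zsmul, clHom_apply]

theorem grK_of_mem (n : ℕ) (x : K) (hx : x ∈ gammaFiltration P n) :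
    KGr.grK P (n : ℤ) x = (1 : ℚ) ⊗ₜ[ℤ] clHom P n ⟨x, hx⟩ := by
  classical
  have h : ∃ N : ℕ, 1 ≤ N ∧ C ((N : K) * x) * T (-(n : ℤ)) ∈ KGr.rees P := ⟨1, le_rfl, by
    rw [← single_eq_C_mul_T]
    exact single_mem_rees P _ _ (by simpa using hx)⟩
  unfold KGr.grK
  rw [dif_pos h]
  have hN1 : 1 ≤ h.choose := h.choose_spec.1
  rw [mk_natCast_mul P n h.choose x hx h.choose_spec.2, TensorProduct.tmul_smul,
    TensorProduct.smul_tmul']
  congr 1
  rw [zsmul_eq_mul, Int.cast_natCast]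
  have : (h.choose : ℚ) ≠ 0 := by positivity
  field_simp

/-- `grK` restricted to `F^n` as an additive map -/
noncomputable def grHom (n : ℕ) : gammaFiltration P n →+ KGr.Gr P :=
  (TensorProduct.mk ℤ ℚ (KGr.GrZ P) 1).toAddMonoidHom.comp (clHom P n)

theorem grHom_apply (n : ℕ) (x : gammaFiltration P n) : grHom P n x = (1 : ℚ) ⊗ₜ[ℤ] clHom P n x := rfl

theorem grK_eq_grHom (n : ℕ) (x : K) (hx : x ∈ gammaFiltration P n) :
    KGr.grK P (n : ℤ) x = grHom P n ⟨x, hx⟩ := grK_of_mem P n x hx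

theorem grK_add (n : ℕ) {x y : K} (hx : x ∈ gammaFiltration P n) (hy : y ∈ gammaFiltration P n) :
    KGr.grK P (n : ℤ) (x + y) = KGr.grK P (n : ℤ) x + KGr.grK P (n : ℤ) y := by
  rw [grK_eq_grHom P n _ (add_mem hx hy), grK_eq_grHom P n _ hx, grK_eq_grHom P n _ hy, ← map_add]
  rfl

theorem grK_zero (n : ℕ) : KGr.grK P (n : ℤ) 0 = 0 := by
  rw [grK_eq_grHom P n _ (zero_mem _)]
  exact map_zero (grHom P n)

theorem grK_neg (n : ℕ) {x : K} (hx : x ∈ gammaFiltration P n) :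
    KGr.grK P (n : ℤ) (-x) = -KGr.grK P (n : ℤ) x := by
  rw [grK_eq_grHom P n _ (neg_mem hx), grK_eq_grHom P n _ hx, ← map_neg]
  rfl

theorem grK_sub (n : ℕ) {x y : K} (hx : x ∈ gammaFiltration P n) (hy : y ∈ gammaFiltration P n) :
    KGr.grK P (n : ℤ) (x - y) = KGr.grK P (n : ℤ) x - KGr.grK P (n : ℤ) y := by
  rw [sub_eq_add_neg, grK_add P n hx (neg_mem hy), grK_neg P n hy, sub_eq_add_neg]

theorem grK_sum (n : ℕ) {ι : Type*} (s : Finset ι) (f : ι → K)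
    (hf : ∀ i ∈ s, f i ∈ gammaFiltration P n) :
    KGr.grK P (n : ℤ) (∑ i ∈ s, f i) = ∑ i ∈ s, KGr.grK P (n : ℤ) (f i) := by
  classical
  induction s using Finset.induction_on with
  | empty => simp [grK_zero]
  | insert a s ha ih =>
    rw [Finset.sum_insert ha, Finset.sum_insert ha,
      grK_add P n (hf a (Finset.mem_insert_self a s))
        (AddSubgroup.sum_mem _ fun i hi => hf i (Finset.mem_insert_of_mem hi)),
      ih fun i hi => hf i (Finset.mem_insert_of_mem hi)]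

theorem grK_intCast_mul (n : ℕ) (m : ℤ) {x : K} (hx : x ∈ gammaFiltration P n) :
    KGr.grK P (n : ℤ) ((m : K) * x) = (m : KGr.Gr P) * KGr.grK P (n : ℤ) x := by
  have h1 : (m : K) * x = ((m • (⟨x, hx⟩ : gammaFiltration P n) : gammaFiltration P n) : K) := by
    rw [AddSubgroupClass.coe_zsmul, zsmul_eq_mul]
  rw [h1, grK_eq_grHom P n _ (SetLike.coe_mem _), grK_eq_grHom P n _ hx, Subtype.coe_eta, map_zsmul,
    zsmul_eq_mul]

theorem grK_mul (a b : ℕ) {x y : K} (hx : x ∈ gammaFiltration P a) (hy : y ∈ gammaFiltration P b) :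
    KGr.grK P ((a + b : ℕ) : ℤ) (x * y) = KGr.grK P (a : ℤ) x * KGr.grK P (b : ℤ) y := by
  rw [grK_of_mem P (a + b) _ (mul_mem_filt P hx hy), grK_of_mem P a _ hx, grK_of_mem P b _ hy,
    Algebra.TensorProduct.tmul_mul_tmul, one_mul, clHom_mul]

theorem grK_eq_zero_of_mem_succ (n : ℕ) {x : K} (hx : x ∈ gammaFiltration P (n + 1)) :
    KGr.grK P (n : ℤ) x = 0 := by
  have hx' : x ∈ gammaFiltration P n := gammaFiltration_anti P (Nat.le_succ n) hx
  rw [grK_of_mem P n x hx', (clHom_eq_zero_iff P n ⟨x, hx'⟩).mpr hx, TensorProduct.tmul_zero]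

theorem grK_zero_one : KGr.grK P ((0 : ℕ) : ℤ) 1 = 1 := by
  rw [grK_of_mem P 0 1 (by rw [gammaFiltration_zero]; trivial), clHom_zero_one]
  rfl

theorem grK_zero_intCast (m : ℤ) : KGr.grK P ((0 : ℕ) : ℤ) (m : K) = algebraMap ℚ (KGr.Gr P) m := by
  have h := grK_intCast_mul P 0 m (x := 1) (by rw [gammaFiltration_zero]; trivial)
  rw [mul_one, grK_zero_one, mul_one] at h
  rw [h]
  simp

theorem PiQ_grK_self (n : ℕ) {x : K} (hx : x ∈ gammaFiltration P n) :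
    PiQ P n (KGr.grK P (n : ℤ) x) = KGr.grK P (n : ℤ) x := by
  rw [grK_of_mem P n x hx, PiQ_tmul, piZ_clHom_self]

theorem PiQ_grK_ne {n k : ℕ} (h : k ≠ n) {x : K} (hx : x ∈ gammaFiltration P k) :
    PiQ P n (KGr.grK P (k : ℤ) x) = 0 := by
  rw [grK_of_mem P k x hx, PiQ_tmul, piZ_clHom_ne P h, TensorProduct.tmul_zero]

theorem PiQ_algebraMap_zero (q : ℚ) : PiQ P 0 (algebraMap ℚ (KGr.Gr P) q) = algebraMap ℚ (KGr.Gr P) q := by
  rw [Algebra.TensorProduct.algebraMap_apply, PiQ_tmul, ← clHom_zero_one, piZ_clHom_self]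

theorem PiQ_algebraMap_ne {n : ℕ} (h : n ≠ 0) (q : ℚ) : PiQ P n (algebraMap ℚ (KGr.Gr P) q) = 0 := by
  rw [Algebra.TensorProduct.algebraMap_apply, PiQ_tmul]
  have : (algebraMap ℚ ℚ q) ⊗ₜ[ℤ] piZ P n (1 : KGr.GrZ P) = 0 := by
    rw [← clHom_zero_one, piZ_clHom_ne P (Ne.symm h), TensorProduct.tmul_zero]
  exact this

end Groth.Agent.H2.KGrS
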