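import Mathlib.Algebra.Homology.HomotopyCategory.KInjective
import Mathlib.Algebra.Homology.ShortComplex.ExactFunctor
import Mathlib.CategoryTheory.Adjunction.Basic

/-!
# Right adjoints of exact functors preserve K-injective complexes
-/

universe v v' u u'

open CategoryTheory CategoryTheory.Limits

namespace Groth.Agent.H2.KInjAdj

variable {A : Type u} [Category.{v} A] [Abelian A]
  {B : Type u'} [Category.{v'} B] [Abelian B] (u : A ⥤ B) (w : B ⥤ A) (adj : w ⊣ u)
  [u.Additive] [w.Additive]

include adj in
lemma aux1 {X Y : B} {X' Y' : A} (a : X ⟶ u.obj X') (b : Y ⟶ u.obj Y') (d : X ⟶ Y)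
    (d' : X' ⟶ Y') (h : a ≫ u.map d' = d ≫ b) :
    (w.map a ≫ adj.counit.app X') ≫ d' = w.map d ≫ w.map b ≫ adj.counit.app Y' := by
  have hn : w.map (u.map d') ≫ adj.counit.app Y' = adj.counit.app X' ≫ d' :=
    adj.counit.naturality d'
  rw [← w.map_comp_assoc, ← h, w.map_comp_assoc, hn, Category.assoc]

include adj in
lemma aux2 {X : B} {X' : A} (a : X ⟶ u.obj X') :
    adj.unit.app X ≫ u.map (w.map a ≫ adj.counit.app X') = a := by
  have hn : adj.unit.app X ≫ u.map (w.map a) = a ≫ adj.unit.app (u.obj X') :=
    (adj.unit.naturality a).symm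
  rw [u.map_comp, ← Category.assoc, hn, Category.assoc, adj.right_triangle_components,
    Category.comp_id]

/-- The adjoint of a morphism of complexes `K ⟶ u(I)`. -/
def adjMap {K : CochainComplex B ℤ} {I : CochainComplex A ℤ}
    (f : K ⟶ (u.mapHomologicalComplex (ComplexShape.up ℤ)).obj I) :
    (w.mapHomologicalComplex (ComplexShape.up ℤ)).obj K ⟶ I where
  f n := w.map (f.f n) ≫ adj.counit.app (I.X n)
  comm' i j _ := aux1 u w adj (f.f i) (f.f j) (K.d i j) (I.d i j) (f.comm i j)

/-- The unit, as a morphism of complexes. -/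
def unitMap (K : CochainComplex B ℤ) :
    K ⟶ (u.mapHomologicalComplex (ComplexShape.up ℤ)).obj
      ((w.mapHomologicalComplex (ComplexShape.up ℤ)).obj K) where
  f n := adj.unit.app (K.X n)
  comm' i j _ := (adj.unit.naturality (K.d i j)).symm

lemma unitMap_comp_map_adjMap {K : CochainComplex B ℤ} {I : CochainComplex A ℤ}
    (f : K ⟶ (u.mapHomologicalComplex (ComplexShape.up ℤ)).obj I) :
    unitMap u w adj K ≫ (u.mapHomologicalComplex (ComplexShape.up ℤ)).map (adjMap u w adj f) =
      f := by
  ext n
  exact aux2 u w adj (f.f n)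

lemma acyclic_map [PreservesFiniteLimits w] [PreservesFiniteColimits w]
    {K : CochainComplex B ℤ} (hK : K.Acyclic) :
    ((w.mapHomologicalComplex (ComplexShape.up ℤ)).obj K).Acyclic := by
  intro n
  exact (hK n).map w

include adj in
theorem isKInjective_map [PreservesFiniteLimits w] [PreservesFiniteColimits w]
    (I : CochainComplex A ℤ) [I.IsKInjective] :
    CochainComplex.IsKInjective ((u.mapHomologicalComplex (ComplexShape.up ℤ)).obj I) where
  nonempty_homotopy_zero {K} f hK := by
    have h := CochainComplex.IsKInjective.homotopyZero (adjMap u w adj f) (acyclic_map w hK)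
    have h' := (u.mapHomotopy h).compLeft (unitMap u w adj K)
    rw [unitMap_comp_map_adjMap, Functor.map_zero, comp_zero] at h'
    exact ⟨h'⟩

end Groth.Agent.H2.KInjAdj
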