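import Mathlib.Algebra.Homology.HomotopyCategory.KInjective
import Mathlib.Algebra.Homology.HomotopyCategory.MappingCone
import Mathlib.CategoryTheory.Limits.Shapes.Products

/-!
# Products of K-injective complexes are K-injective
-/

universe w v u

open CategoryTheory CategoryTheory.Limits CochainComplex HomComplex

namespace Groth.Agent.H2.KInjProd

variable {A : Type u} [Category.{v} A] [Abelian A]

/-- A morphism which factors through the cone of the identity is null-homotopic. -/
noncomputable def homotopyZeroOfFactorsCone {K L : CochainComplex A ℤ}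
    (g : mappingCone (𝟙 K) ⟶ L) : Homotopy (mappingCone.inr (𝟙 K) ≫ g) 0 :=
  (Cochain.equivHomotopy _ _).symm
    ⟨(mappingCone.inl (𝟙 K)).comp (Cochain.ofHom g) (add_zero _), by
      rw [δ_comp_ofHom, mappingCone.δ_inl, Category.id_comp, Cochain.ofHom_zero, add_zero,
        ← Cochain.ofHom_comp]⟩

lemma exists_factor_cone {K L : CochainComplex A ℤ} (f : K ⟶ L) (h : Homotopy f 0) :
    ∃ g : mappingCone (𝟙 K) ⟶ L, mappingCone.inr (𝟙 K) ≫ g = f :=
  ⟨mappingCone.desc (𝟙 K) (Cochain.ofHomotopy h) f (by
      rw [δ_ofHomotopy, Category.id_comp, Cochain.ofHom_zero, sub_zero]),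
    mappingCone.inr_desc _ _ _ _⟩

theorem isKInjective_pi {T : Type w} (I : T → CochainComplex A ℤ) [HasProduct I]
    (h : ∀ t, (I t).IsKInjective) : (∏ᶜ I).IsKInjective where
  nonempty_homotopy_zero {K} f hK := by
    have hfac := fun t => exists_factor_cone (f ≫ Pi.π I t)
      (IsKInjective.homotopyZero (f ≫ Pi.π I t) hK)
    choose g hg using hfac
    have hf : f = mappingCone.inr (𝟙 K) ≫ Pi.lift g := by
      apply Pi.hom_ext
      intro t
      rw [Category.assoc, Pi.lift_π, hg]
    rw [hf]
    exact ⟨homotopyZeroOfFactorsCone _⟩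

end Groth.Agent.H2.KInjProd
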