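import Mathlib.Algebra.Homology.HomotopyCategory.Triangulated
import Mathlib.Algebra.Homology.HomotopyCategory.Plus
import Mathlib.Algebra.Homology.Embedding.CochainComplex
import Mathlib.CategoryTheory.Triangulated.Subcategory

set_option autoImplicit false
universe v u
open CategoryTheory CategoryTheory.Limits CategoryTheory.Pretriangulated ZeroObject

namespace Groth.Agent.H2.KMinus

variable {V : Type u} [Category.{v} V] [Preadditive V] [HasZeroObject V] [HasBinaryBiproducts V]

/-- General: a property of homotopy-category objects defined through a property of the underlying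
complexes that contains zero, is stable under shifts and under mapping cones, is triangulated. -/
theorem isTriangulated_of_complexProp (P : CochainComplex V ℤ → Prop)
    (h0 : P 0)
    (hshift : ∀ (K : CochainComplex V ℤ) (n : ℤ), P K → P ((shiftFunctor (CochainComplex V ℤ) n).obj K))
    (hcone : ∀ {K L : CochainComplex V ℤ} (f : K ⟶ L), P K → P L → P (CochainComplex.mappingCone f)) :
    ObjectProperty.IsTriangulated (fun K : HomotopyCategory V (ComplexShape.up ℤ) => P K.as) := by
  have hstab : ObjectProperty.IsStableUnderShift
      (fun K : HomotopyCategory V (ComplexShape.up ℤ) => P K.as) ℤ :=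
    { isStableUnderShiftBy := fun n =>
      { le_shift := fun K hK => by
          obtain ⟨K : CochainComplex _ _, rfl⟩ := K.quotient_obj_surjective
          rw [ObjectProperty.prop_shift_iff, HomotopyCategory.shift_quotient_obj]
          exact hshift K n hK } }
  have hcl3 : ObjectProperty.IsTriangulatedClosed₃
      (fun K : HomotopyCategory V (ComplexShape.up ℤ) => P K.as) :=
    { ext₃' := fun T hT h₁ h₂ => by
        obtain ⟨f : T.obj₁.as ⟶ T.obj₂.as, hf⟩ := (HomotopyCategory.quotient _ _).map_surjective T.mor₁
        refine ⟨_, ?_,
          ⟨Triangle.π₃.mapIso (isoTriangleOfIso₁₂ T _ hT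
            (HomotopyCategory.mappingCone_triangleh_distinguished f)
            (Iso.refl _) (Iso.refl _) ?_)⟩⟩
        · exact hcone f h₁ h₂
        · exact (Category.comp_id _).trans (hf.symm.trans (Category.id_comp _).symm) }
  exact
    { exists_zero := ⟨(HomotopyCategory.quotient _ _).obj 0, Functor.map_isZero _ (isZero_zero _), h0⟩
      toIsStableUnderShift := hstab
      toIsTriangulatedClosed₂ := .of_isTriangulatedClosed₃ }

end Groth.Agent.H2.KMinus
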