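import Groth.Prelude.Def_KZero
import Mathlib.Algebra.Homology.ShortComplex.ModuleCat
import Mathlib.LinearAlgebra.Dimension.Localization
import Mathlib.RingTheory.PrincipalIdealDomain
import Mathlib.RingTheory.Finiteness.Quotient

/-!
# `K₀` of finitely generated modules over a principal ideal domain
-/

namespace Groth.Agent.H2.KPid

open CategoryTheory Limits

universe u
variable (A : Type u) [CommRing A]

/-- the property of being a finitely generated module -/
abbrev P : ObjectProperty (ModuleCat.{u} A) := fun M => Module.Finite A M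

variable {A}

lemma clSub_eq {M : ModuleCat.{u} A} (h : Module.Finite A M) :
    KZero.clSub (P A) M = QuotientAddGroup.mk (FreeAbelianGroup.of ⟨M, h⟩) := by
  unfold KZero.clSub
  rw [dif_pos h]

lemma cl_ses (S : ShortComplex (ModuleCat.{u} A)) (hS : S.ShortExact)
    (h₁ : Module.Finite A S.X₁) (h₂ : Module.Finite A S.X₂) (h₃ : Module.Finite A S.X₃) :
    KZero.clSub (P A) S.X₂ = KZero.clSub (P A) S.X₁ + KZero.clSub (P A) S.X₃ := by
  rw [clSub_eq h₁, clSub_eq h₂, clSub_eq h₃]
  have hrel : FreeAbelianGroup.of (⟨S.X₂, h₂⟩ : Subtype (P A)) - FreeAbelianGroup.of ⟨S.X₁, h₁⟩ -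
      FreeAbelianGroup.of ⟨S.X₃, h₃⟩ ∈ KZero.relSub (P A) :=
    AddSubgroup.subset_closure ⟨S, h₁, h₂, h₃, hS, rfl⟩
  have h1 := (QuotientAddGroup.eq_zero_iff _).2 hrel
  rw [QuotientAddGroup.mk_sub, QuotientAddGroup.mk_sub, sub_sub, sub_eq_zero] at h1
  exact h1

/-- additivity for a surjective linear map -/
lemma cl_surj {M N : Type u} [AddCommGroup M] [Module A M] [AddCommGroup N] [Module A N]
    (f : M →ₗ[A] N) (hf : Function.Surjective f) [Module.Finite A M] [Module.Finite A N]
    [Module.Finite A (LinearMap.ker f)] :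
    KZero.clSub (P A) (ModuleCat.of A M) =
      KZero.clSub (P A) (ModuleCat.of A (LinearMap.ker f)) +
        KZero.clSub (P A) (ModuleCat.of A N) :=
  cl_ses _ (LinearMap.shortExact_shortComplexKer hf) (by assumption) (by assumption)
    (by assumption)

lemma cl_subsingleton (M : Type u) [AddCommGroup M] [Module A M] [Subsingleton M] :
    KZero.clSub (P A) (ModuleCat.of A M) = 0 := by
  have hfin : Module.Finite A M := inferInstance
  let S : ShortComplex (ModuleCat.{u} A) :=
    ShortComplex.mk (0 : ModuleCat.of A M ⟶ ModuleCat.of A M)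
      (0 : ModuleCat.of A M ⟶ ModuleCat.of A M) zero_comp
  have hS : S.ShortExact := ModuleCat.shortComplex_shortExact S
    (fun x => ⟨fun _ => ⟨0, Subsingleton.elim _ _⟩, fun _ => Subsingleton.elim _ _⟩)
    (fun x y _ => Subsingleton.elim _ _) (fun x => ⟨0, Subsingleton.elim _ _⟩)
  have h := cl_ses S hS hfin hfin hfin
  exact add_eq_left.1 h.symm

lemma cl_equiv {M N : Type u} [AddCommGroup M] [Module A M] [AddCommGroup N] [Module A N]
    (e : M ≃ₗ[A] N) [Module.Finite A M] :
    KZero.clSub (P A) (ModuleCat.of A M) = KZero.clSub (P A) (ModuleCat.of A N) := by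
  have : Module.Finite A N := Module.Finite.equiv e
  have hk : Subsingleton (LinearMap.ker e.toLinearMap) := by
    rw [LinearEquiv.ker]
    infer_instance
  have h := cl_surj e.toLinearMap e.surjective
  rw [cl_subsingleton (LinearMap.ker e.toLinearMap), zero_add] at h
  exact h

variable [IsDomain A] [IsPrincipalIdealRing A]

/-- the class of an ideal is a multiple of the class of the ring -/
lemma cl_ideal (I : Ideal A) :
    ∃ k : ℤ, KZero.clSub (P A) (ModuleCat.of A I) = k • KZero.clSub (P A) (ModuleCat.of A A) := by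
  obtain ⟨b, hb⟩ := IsPrincipalIdealRing.principal I
  by_cases hb0 : b = 0
  · have : Subsingleton I := by
      rw [hb, hb0]
      have : Submodule.span A {(0 : A)} = ⊥ := by simp
      rw [this]
      infer_instance
    exact ⟨0, by rw [cl_subsingleton, zero_smul]⟩
  · have hrange : LinearMap.range (LinearMap.toSpanSingleton A A b) = I := by
      rw [LinearMap.range_toSpanSingleton, hb]
    let g : A →ₗ[A] I :=
      (LinearMap.toSpanSingleton A A b).codRestrict I (fun a => by
        rw [← hrange]
        exact LinearMap.mem_range_self _ a)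
    have hginj : Function.Injective g := by
      intro a a' h
      have h' : a • b = a' • b := congrArg Subtype.val h
      exact mul_right_cancel₀ hb0 h'
    have hgsurj : Function.Surjective g := by
      rintro ⟨y, hy⟩
      rw [← hrange] at hy
      obtain ⟨a, ha⟩ := hy
      exact ⟨a, Subtype.ext ha⟩
    refine ⟨1, ?_⟩
    rw [one_smul]
    exact (cl_equiv (LinearEquiv.ofBijective g ⟨hginj, hgsurj⟩)).symm

/-- the class of a cyclic module is a multiple of the class of the ring -/
lemma cl_cyclic {M : Type u} [AddCommGroup M] [Module A M] [Module.Finite A M] (N : Submodule A M)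
    (x : M) (hN : N = Submodule.span A {x}) :
    ∃ k : ℤ, KZero.clSub (P A) (ModuleCat.of A N) = k • KZero.clSub (P A) (ModuleCat.of A A) := by
  have hrange : LinearMap.range (LinearMap.toSpanSingleton A M x) = N := by
    rw [LinearMap.range_toSpanSingleton, hN]
  let g : A →ₗ[A] N :=
    (LinearMap.toSpanSingleton A M x).codRestrict N (fun a => by
      rw [← hrange]
      exact LinearMap.mem_range_self _ a)
  have hgsurj : Function.Surjective g := by
    rintro ⟨y, hy⟩
    rw [← hrange] at hy
    obtain ⟨a, ha⟩ := hy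
    exact ⟨a, Subtype.ext ha⟩
  have h := cl_surj g hgsurj
  obtain ⟨k, hk⟩ := cl_ideal (LinearMap.ker g)
  refine ⟨1 - k, ?_⟩
  rw [sub_smul, one_smul, ← hk, h]
  abel

theorem cl_eq_smul (n : ℕ) : ∀ (M : Type u) [AddCommGroup M] [Module A M] [Module.Finite A M]
    (s : Finset M), s.card ≤ n → Submodule.span A (s : Set M) = ⊤ →
    ∃ k : ℤ, KZero.clSub (P A) (ModuleCat.of A M) = k • KZero.clSub (P A) (ModuleCat.of A A) := by
  classical
  induction n with
  | zero =>
    intro M _ _ _ s hs hspan
    have hs' : s = ∅ := Finset.card_eq_zero.1 (Nat.le_zero.1 hs)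
    have : Subsingleton M := by
      rw [hs'] at hspan
      simp only [Finset.coe_empty, Submodule.span_empty] at hspan
      exact (Submodule.subsingleton_iff A).1 (subsingleton_of_bot_eq_top hspan)
    exact ⟨0, by rw [cl_subsingleton, zero_smul]⟩
  | succ n ih =>
    intro M _ _ _ s hs hspan
    by_cases hse : s = ∅
    · have : Subsingleton M := by
        rw [hse] at hspan
        simp only [Finset.coe_empty, Submodule.span_empty] at hspan
        exact (Submodule.subsingleton_iff A).1 (subsingleton_of_bot_eq_top hspan)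
      exact ⟨0, by rw [cl_subsingleton, zero_smul]⟩
    · obtain ⟨x, hx⟩ := Finset.nonempty_iff_ne_empty.2 hse
      let N : Submodule A M := Submodule.span A {x}
      let s' : Finset (M ⧸ N) := (s.erase x).image N.mkQ
      have hcard : s'.card ≤ n := by
        refine Finset.card_image_le.trans ?_
        rw [Finset.card_erase_of_mem hx]
        omega
      have hspan' : Submodule.span A (s' : Set (M ⧸ N)) = ⊤ := by
        rw [eq_top_iff]
        have h1 : (⊤ : Submodule A (M ⧸ N)) = Submodule.map N.mkQ (Submodule.span A (s : Set M)) := by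
          rw [hspan, Submodule.map_top, Submodule.range_mkQ]
        rw [h1, Submodule.map_span, Submodule.span_le]
        rintro _ ⟨y, hy, rfl⟩
        by_cases hyx : y = x
        · have : N.mkQ y = 0 := by
            rw [hyx]
            exact (Submodule.Quotient.mk_eq_zero N).2 (Submodule.mem_span_singleton_self x)
          rw [this]
          exact Submodule.zero_mem _
        · apply Submodule.subset_span
          simp only [s', Finset.coe_image, Set.mem_image, Finset.mem_coe]
          exact ⟨y, Finset.mem_erase.2 ⟨hyx, hy⟩, rfl⟩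
      obtain ⟨k, hk⟩ := ih (M ⧸ N) s' hcard hspan'
      have h := cl_surj N.mkQ (Submodule.mkQ_surjective N)
      obtain ⟨k', hk'⟩ := cl_cyclic N x rfl
      have e : LinearMap.ker N.mkQ ≃ₗ[A] N := LinearEquiv.ofEq _ _ (Submodule.ker_mkQ N)
      rw [cl_equiv e, hk, hk'] at h
      exact ⟨k' + k, by rw [h, add_smul]⟩

theorem cl_eq_smul' (M : ModuleCat.{u} A) (hM : Module.Finite A M) :
    ∃ k : ℤ, KZero.clSub (P A) M = k • KZero.clSub (P A) (ModuleCat.of A A) := by
  obtain ⟨s, hs⟩ := hM.fg_top
  exact cl_eq_smul s.card M s le_rfl hs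

/-- the rank function on the free abelian group -/
noncomputable def rk₀ : FreeAbelianGroup (Subtype (P A)) →+ ℤ :=
  FreeAbelianGroup.lift (fun M => (Module.finrank A M.1 : ℤ))

lemma finrank_ses (S : ShortComplex (ModuleCat.{u} A)) (hS : S.ShortExact)
    (h₂ : Module.Finite A S.X₂) :
    Module.finrank A S.X₂ = Module.finrank A S.X₁ + Module.finrank A S.X₃ := by
  have hinj : Function.Injective S.f.hom := hS.moduleCat_injective_f
  have hsurj : Function.Surjective S.g.hom := hS.moduleCat_surjective_g
  have hex : LinearMap.range S.f.hom = LinearMap.ker S.g.hom := hS.exact.moduleCat_range_eq_ker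
  have e₁ : S.X₁ ≃ₗ[A] LinearMap.ker S.g.hom :=
    (LinearEquiv.ofInjective S.f.hom hinj).trans (LinearEquiv.ofEq _ _ hex)
  have e₃ : (S.X₂ ⧸ LinearMap.ker S.g.hom) ≃ₗ[A] S.X₃ :=
    S.g.hom.quotKerEquivOfSurjective hsurj
  rw [← (LinearMap.ker S.g.hom).finrank_quotient_add_finrank, e₁.finrank_eq, e₃.finrank_eq,
    add_comm]

lemma relSub_le_ker : KZero.relSub (P A) ≤ (rk₀ (A := A)).ker := by
  unfold KZero.relSub
  rw [AddSubgroup.closure_le]
  rintro x ⟨S, h₁, h₂, h₃, hS, rfl⟩
  change rk₀ _ = 0
  simp only [rk₀, map_sub, FreeAbelianGroup.lift_apply_of]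
  rw [finrank_ses S hS h₂]
  push_cast
  ring

/-- the rank function on `K₀` -/
noncomputable def rk : KZero.K0sub (P A) →+ ℤ :=
  QuotientAddGroup.lift _ rk₀ relSub_le_ker

lemma rk_cl : rk (KZero.clSub (P A) (ModuleCat.of A A)) = 1 := by
  have h : Module.Finite A (ModuleCat.of A A) := Module.Finite.self A
  rw [clSub_eq h]
  change rk₀ _ = 1
  simp only [rk₀, FreeAbelianGroup.lift_apply_of]
  change ((Module.finrank A A : ℕ) : ℤ) = 1
  rw [Module.finrank_self]
  rfl

theorem main : Function.Bijective
    (fun k : ℤ => k • KZero.clSub (P A) (ModuleCat.of A A)) := by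
  constructor
  · intro k k' h
    have := congrArg (rk (A := A)) h
    simpa [rk_cl] using this
  · intro y
    induction y using QuotientAddGroup.induction_on with
    | H x =>
      induction x using FreeAbelianGroup.induction_on with
      | zero => exact ⟨0, by simp⟩
      | of M =>
        obtain ⟨k, hk⟩ := cl_eq_smul' M.1 M.2
        refine ⟨k, ?_⟩
        change k • _ = _
        rw [← hk, clSub_eq M.2]
      | neg M hM =>
        obtain ⟨k, hk⟩ := hM
        refine ⟨-k, ?_⟩
        change (-k) • _ = _
        rw [neg_smul, QuotientAddGroup.mk_neg]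
        exact congrArg Neg.neg hk
      | add x y hx hy =>
        obtain ⟨k, hk⟩ := hx
        obtain ⟨k', hk'⟩ := hy
        refine ⟨k + k', ?_⟩
        change (k + k') • _ = _
        rw [add_smul, QuotientAddGroup.mk_add]
        exact congrArg₂ (· + ·) hk hk'

end Groth.Agent.H2.KPid
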