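import Mathlib
import Groth.Prelude.Def_SGA6

set_option autoImplicit false

namespace Groth.Agent.H2.KRes

open CategoryTheory CategoryTheory.Limits

universe v u
variable {C : Type u} [Category.{v} C] [Abelian C]

/-- An infinite resolution presented through its syzygies: short exact sequences
`0 ⟶ K (n+1) ⟶ L n ⟶ K n ⟶ 0` with `K 0 ≅ A`. -/
structure Res (A : C) where
  K : ℕ → C
  L : ℕ → C
  ι : ∀ n, K (n + 1) ⟶ L n
  p : ∀ n, L n ⟶ K n
  w : ∀ n, ι n ≫ p n = 0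
  ses : ∀ n, (ShortComplex.mk (ι n) (p n) (w n)).ShortExact
  e : K 0 ≅ A

namespace Res

variable {A : C} (R : Res A)

instance (n : ℕ) : Mono (R.ι n) := (R.ses n).mono_f
instance (n : ℕ) : Epi (R.p n) := (R.ses n).epi_g

/-- The differential. -/
def d (n : ℕ) : R.L (n + 1) ⟶ R.L n := R.p (n + 1) ≫ R.ι n

theorem d_comp_d (n : ℕ) : R.d (n + 1) ≫ R.d n = 0 := by
  simp only [d, Category.assoc]
  rw [reassoc_of% (R.w (n + 1))]
  simp

/-- The chain complex of a resolution. -/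
noncomputable def cx : ChainComplex C ℕ := ChainComplex.of R.L R.d R.d_comp_d

theorem cx_X (n : ℕ) : R.cx.X n = R.L n := rfl

theorem cx_d (n : ℕ) : R.cx.d (n + 1) n = R.d n := ChainComplex.of_d _ _ n

theorem cx_exactAt (j : ℕ) : R.cx.ExactAt (j + 1) := by
  rw [HomologicalComplex.exactAt_iff' R.cx (j + 2) (j + 1) j (by simp) (by simp)]
  have h₁ : R.cx.d (j + 2) (j + 1) = R.p (j + 2) ≫ R.ι (j + 1) := R.cx_d (j + 1)
  have h₀ : R.cx.d (j + 1) j = R.p (j + 1) ≫ R.ι j := R.cx_d j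
  have wmid : (R.p (j + 2) ≫ R.ι (j + 1)) ≫ R.p (j + 1) = 0 := by
    rw [Category.assoc, R.w, comp_zero]
  let φ₁ : ShortComplex.mk (R.p (j + 2) ≫ R.ι (j + 1)) (R.p (j + 1)) wmid ⟶
      ShortComplex.mk (R.ι (j + 1)) (R.p (j + 1)) (R.w (j + 1)) :=
    ShortComplex.homMk (R.p (j + 2)) (𝟙 _) (𝟙 _) (Category.comp_id _).symm
      ((Category.id_comp _).trans (Category.comp_id _).symm)
  let φ₂ : ShortComplex.mk (R.p (j + 2) ≫ R.ι (j + 1)) (R.p (j + 1)) wmid ⟶
      R.cx.sc' (j + 2) (j + 1) j :=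
    ShortComplex.homMk (𝟙 _) (𝟙 _) (R.ι j)
      ((Category.id_comp _).trans (h₁.trans (Category.comp_id _).symm))
      ((Category.id_comp _).trans h₀)
  have : Epi φ₁.τ₁ := by show Epi (R.p (j + 2)); infer_instance
  have : IsIso φ₁.τ₂ := by show IsIso (𝟙 (R.L (j + 1))); infer_instance
  have : Mono φ₁.τ₃ := by show Mono (𝟙 (R.K (j + 1))); infer_instance
  have : Epi φ₂.τ₁ := by show Epi (𝟙 (R.L (j + 2))); infer_instance
  have : IsIso φ₂.τ₂ := by show IsIso (𝟙 (R.L (j + 1))); infer_instance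
  have : Mono φ₂.τ₃ := by show Mono (R.ι j); infer_instance
  rw [← ShortComplex.exact_iff_of_epi_of_isIso_of_mono φ₂,
    ShortComplex.exact_iff_of_epi_of_isIso_of_mono φ₁]
  exact (R.ses (j + 1)).exact

/-- `H₀` of the complex is `A`. -/
noncomputable def cxHomologyIso : R.cx.homology 0 ≅ A := by
  refine R.cx.isoHomologyι₀ ≪≫ ?_ ≪≫ R.e
  have h₀ : R.cx.d 1 0 = R.p 1 ≫ R.ι 0 := R.cx_d 0
  have hc := isCokernelEpiComp (R.ses 0).gIsCokernel (R.p 1) h₀
  exact IsColimit.coconePointUniqueUpToIso (R.cx.opcyclesIsCokernel 1 0 (by simp)) hc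

/-- The cycles of the complex are the syzygies. -/
noncomputable def cxCyclesIso (n : ℕ) : R.cx.cycles (n + 1) ≅ R.K (n + 2) := by
  have h₀ : R.cx.d (n + 1) n = R.p (n + 1) ≫ R.ι n := R.cx_d n
  have hk := isKernelCompMono (R.ses (n + 1)).fIsKernel (R.ι n) h₀
  exact IsLimit.conePointUniqueUpToIso (R.cx.cyclesIsKernel (n + 1) n (by simp)) hk

end Res

end Groth.Agent.H2.KRes
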