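import Groth.Agent.Lib.Helper2.KRes
import Groth.Agent.Lib.Helper2.KResCx

set_option autoImplicit false

namespace Groth.Agent.H2.KRes

open CategoryTheory CategoryTheory.Limits

universe v u
variable {C : Type u} [Category.{v} C] [Abelian C]

/-- Prepending an object to a sequence of objects. -/
def consObj (A : C) (K' : ℕ → C) : ℕ → C
  | 0 => A
  | n + 1 => K' n

namespace Res

/-- Prepend one step to a resolution of the kernel. -/
def prepend {A K₁ L₀ : C} {i : K₁ ⟶ L₀} {p : L₀ ⟶ A} {w : i ≫ p = 0}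
    (hT : (ShortComplex.mk i p w).ShortExact) (R' : Res K₁) : Res A where
  K := consObj A R'.K
  L := consObj L₀ R'.L
  ι := fun n => match n with
    | 0 => R'.e.hom ≫ i
    | n + 1 => R'.ι n
  p := fun n => match n with
    | 0 => p
    | n + 1 => R'.p n
  w := fun n => match n with
    | 0 => by
      show (R'.e.hom ≫ i) ≫ p = 0
      rw [Category.assoc, w, comp_zero]
    | n + 1 => R'.w n
  ses := fun n => match n with
    | 0 => by
      have w' : (R'.e.hom ≫ i) ≫ p = 0 := by rw [Category.assoc, w, comp_zero]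
      exact ShortComplex.shortExact_of_iso
        (ShortComplex.isoMk (S₁ := ShortComplex.mk i p w)
          (S₂ := ShortComplex.mk (R'.e.hom ≫ i) p w')
          R'.e.symm (Iso.refl _) (Iso.refl _) (by simp) (by simp)) hT
    | n + 1 => R'.ses n
  e := Iso.refl A

theorem prepend_K_succ {A K₁ L₀ : C} {i : K₁ ⟶ L₀} {p : L₀ ⟶ A} {w : i ≫ p = 0}
    (hT : (ShortComplex.mk i p w).ShortExact) (R' : Res K₁) (n : ℕ) :
    (prepend hT R').K (n + 1) = R'.K n := rfl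

theorem prepend_L_zero {A K₁ L₀ : C} {i : K₁ ⟶ L₀} {p : L₀ ⟶ A} {w : i ≫ p = 0}
    (hT : (ShortComplex.mk i p w).ShortExact) (R' : Res K₁) :
    (prepend hT R').L 0 = L₀ := rfl

theorem prepend_L_succ {A K₁ L₀ : C} {i : K₁ ⟶ L₀} {p : L₀ ⟶ A} {w : i ≫ p = 0}
    (hT : (ShortComplex.mk i p w).ShortExact) (R' : Res K₁) (n : ℕ) :
    (prepend hT R').L (n + 1) = R'.L n := rfl

end Res

open scoped ZeroObject in
/-- Covers exist, from the lifting hypothesis applied over the zero object. -/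
theorem exists_cover_of_lifting (P₀ P₁ : ObjectProperty C)
    (h1₁ : ∀ S : ShortComplex C, S.ShortExact → P₁ S.X₂ → P₁ S.X₃ → P₁ S.X₁)
    (h2 : ∀ (A B D : C) (u : A ⟶ B) (v : D ⟶ B), Epi u → P₁ A → P₁ B → P₁ D →
      ∃ (L : C) (u' : L ⟶ D) (v' : L ⟶ A), P₀ L ∧ Epi u' ∧ u' ≫ v = v' ≫ u)
    (A : C) (hA : P₁ A) : ∃ (L : C) (p : L ⟶ A), P₀ L ∧ Epi p := by
  have h0 : P₁ (0 : C) := by
    have hS : (ShortComplex.mk (0 : (0 : C) ⟶ A) (𝟙 A) (by simp)).ShortExact :=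
      ShortComplex.ShortExact.mk'
        ((ShortComplex.exact_iff_mono _ rfl).2 (by dsimp; infer_instance))
        (by dsimp; infer_instance) (by dsimp; infer_instance)
    exact h1₁ _ hS hA hA
  obtain ⟨L, u, v, hL, hu, -⟩ := h2 0 0 A (0 : (0 : C) ⟶ 0) (0 : A ⟶ 0) inferInstance h0 h0 hA
  exact ⟨L, u, hL, hu⟩

namespace Ctx

variable (X : Ctx C)

/-- The next syzygy. -/
noncomputable def nextSyz (K : {K : C // X.P₁ K}) : {K : C // X.P₁ K} :=
  ⟨kernel (X.cP K.1 K.2), X.h1₁ _ (X.cSES K.1 K.2) (X.hle _ (X.cL_P₀ K.1 K.2)) K.2⟩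

/-- The syzygies of the canonical resolution. -/
noncomputable def syz (A : C) (hA : X.P₁ A) : ℕ → {K : C // X.P₁ K}
  | 0 => ⟨A, hA⟩
  | n + 1 => X.nextSyz (syz A hA n)

/-- The canonical resolution, built from the chosen covers. -/
noncomputable def canRes (A : C) (hA : X.P₁ A) : Res A where
  K n := (X.syz A hA n).1
  L n := X.cL (X.syz A hA n).1 (X.syz A hA n).2
  ι n := kernel.ι (X.cP (X.syz A hA n).1 (X.syz A hA n).2)
  p n := X.cP (X.syz A hA n).1 (X.syz A hA n).2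
  w n := kernel.condition (X.cP (X.syz A hA n).1 (X.syz A hA n).2)
  ses n := X.cSES (X.syz A hA n).1 (X.syz A hA n).2
  e := Iso.refl A

theorem canRes_L (A : C) (hA : X.P₁ A) (n : ℕ) : X.P₀ ((X.canRes A hA).L n) :=
  X.cL_P₀ (X.syz A hA n).1 (X.syz A hA n).2

/-- Every resolution of `A` by objects of `P₀` has its `n`-th syzygy in `P₀`. -/
def Dim (n : ℕ) (A : C) : Prop :=
  X.P₁ A ∧ ∀ R : Res A, (∀ k, X.P₀ (R.L k)) → X.P₀ (R.K n)

theorem D_of_Dim {n : ℕ} {A : C} (h : X.Dim n A) : X.D n A := by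
  induction n generalizing A with
  | zero =>
    have := X.iso₀
    exact X.P₀.prop_of_iso (X.canRes A h.1).e (h.2 _ (X.canRes_L A h.1))
  | succ n ih =>
    refine ⟨h.1, fun K L i p w hS hL => ih ⟨X.h1₁ _ hS (X.hle _ hL) h.1, fun R' hR' => ?_⟩⟩
    refine h.2 (Res.prepend hS R') (fun k => ?_)
    cases k with
    | zero => exact hL
    | succ k => exact hR' k

theorem Dim_of_cycles {A : C} (hA : X.P₁ A) {d : ℕ}
    (h : ∀ L : ChainComplex C ℕ, (∀ i, X.P₀ (L.X i)) → (∀ i, 1 ≤ i → L.ExactAt i) →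
      Nonempty (L.homology 0 ≅ A) → X.P₀ (L.cycles (d + 1))) : X.Dim (d + 2) A := by
  refine ⟨hA, fun R hR => ?_⟩
  have := X.iso₀
  have h1 := h R.cx hR (fun i hi => by
    obtain ⟨j, rfl⟩ := Nat.exists_eq_add_of_le' hi
    exact R.cx_exactAt j) ⟨R.cxHomologyIso⟩
  exact X.P₀.prop_of_iso (R.cxCyclesIso d) h1

section Main

variable (hex : ∀ A, X.P₁ A → ∃ n, X.D n A)

/-- The Euler characteristic on generators. -/
noncomputable def Φgen (hex : ∀ A, X.P₁ A → ∃ n, X.D n A) (A : Subtype X.P₁) : KZero.K0sub X.P₀ :=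
  X.χ (hex A.1 A.2).choose A.1

theorem Φgen_eq {A : C} (hA : X.P₁ A) {n : ℕ} (hn : X.D n A) :
    X.Φgen hex ⟨A, hA⟩ = X.χ n A :=
  X.χ_eq (hex A hA).choose_spec hn

theorem relSub_le_ker :
    KZero.relSub X.P₁ ≤ (FreeAbelianGroup.lift (X.Φgen hex)).ker := by
  rw [KZero.relSub, AddSubgroup.closure_le]
  rintro x ⟨S, h₁, h₂, h₃, hS, rfl⟩
  obtain ⟨n₁, hn₁⟩ := hex _ h₁
  obtain ⟨n₂, hn₂⟩ := hex _ h₂
  obtain ⟨n₃, hn₃⟩ := hex _ h₃
  have hN₁ : X.D (max n₁ (max n₂ n₃)) S.X₁ := X.D_mono (le_max_left _ _) hn₁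
  have hN₂ : X.D (max n₁ (max n₂ n₃)) S.X₂ :=
    X.D_mono ((le_max_left _ _).trans (le_max_right _ _)) hn₂
  have hN₃ : X.D (max n₁ (max n₂ n₃)) S.X₃ :=
    X.D_mono ((le_max_right _ _).trans (le_max_right _ _)) hn₃
  simp only [SetLike.mem_coe, AddMonoidHom.mem_ker, map_sub, FreeAbelianGroup.lift_apply_of]
  rw [X.Φgen_eq hex h₁ hN₁, X.Φgen_eq hex h₂ hN₂, X.Φgen_eq hex h₃ hN₃,
    (X.H_all _).2 S.f S.g S.zero hS hN₁ hN₂ hN₃]
  abel

/-- The inverse homomorphism `K₀(P₁) ⟶ K₀(P₀)`. -/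
noncomputable def Φ : KZero.K0sub X.P₁ →+ KZero.K0sub X.P₀ :=
  QuotientAddGroup.lift (KZero.relSub X.P₁) (FreeAbelianGroup.lift (X.Φgen hex))
    (X.relSub_le_ker hex)

theorem Φ_mk_of {A : C} (hA : X.P₁ A) {n : ℕ} (hn : X.D n A) :
    X.Φ hex (QuotientAddGroup.mk (FreeAbelianGroup.of ⟨A, hA⟩)) = X.χ n A := by
  rw [Φ, QuotientAddGroup.lift_mk, FreeAbelianGroup.lift_apply_of, X.Φgen_eq hex hA hn]

theorem mapSub_mk_of {A : C} (hA : X.P₀ A) :
    SGA6.mapSub (𝟭 C) X.P₀ X.P₁ X.hle (QuotientAddGroup.mk (FreeAbelianGroup.of ⟨A, hA⟩)) =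
      QuotientAddGroup.mk (FreeAbelianGroup.of ⟨A, X.hle A hA⟩) := by
  rw [SGA6.mapSub, QuotientAddGroup.map_mk, FreeAbelianGroup.map_of_apply]
  rfl

theorem mapSub_clSub {A : C} (hA : X.P₀ A) :
    SGA6.mapSub (𝟭 C) X.P₀ X.P₁ X.hle (KZero.clSub X.P₀ A) = KZero.clSub X.P₁ A := by
  unfold KZero.clSub
  rw [dif_pos hA, dif_pos (X.hle A hA), X.mapSub_mk_of hA]

theorem mapSub_χ {n : ℕ} {A : C} (hA : X.D n A) :
    SGA6.mapSub (𝟭 C) X.P₀ X.P₁ X.hle (X.χ n A) = KZero.clSub X.P₁ A := by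
  induction n generalizing A with
  | zero => exact X.mapSub_clSub hA
  | succ n ih =>
    have hA₁ := hA.1
    have hcL := X.cL_P₀ A hA₁
    have hK : X.D n (kernel (X.cP A hA₁)) := X.D_ker hA (X.cSES A hA₁) hcL
    rw [X.χ_succ n A hA₁, map_sub, X.mapSub_clSub hcL, ih hK,
      clSub_add X.P₁ (X.cSES A hA₁) (X.D_P₁ hK) (X.hle _ hcL) hA₁]
    abel

theorem Φ_mapSub (x : KZero.K0sub X.P₀) :
    X.Φ hex (SGA6.mapSub (𝟭 C) X.P₀ X.P₁ X.hle x) = x := by
  induction x using QuotientAddGroup.induction_on with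
  | H z =>
    induction z using FreeAbelianGroup.induction_on with
    | zero => simp
    | of a =>
      obtain ⟨A, hA⟩ := a
      rw [X.mapSub_mk_of hA, X.Φ_mk_of hex (X.hle A hA) (n := 0) hA, X.χ_zero]
      unfold KZero.clSub
      rw [dif_pos hA]
    | neg a ih =>
      rw [QuotientAddGroup.mk_neg, map_neg, map_neg, ih]
    | add a b iha ihb =>
      rw [QuotientAddGroup.mk_add, map_add, map_add, iha, ihb]

theorem mapSub_Φ (x : KZero.K0sub X.P₁) :
    SGA6.mapSub (𝟭 C) X.P₀ X.P₁ X.hle (X.Φ hex x) = x := by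
  induction x using QuotientAddGroup.induction_on with
  | H z =>
    induction z using FreeAbelianGroup.induction_on with
    | zero => simp
    | of a =>
      obtain ⟨A, hA⟩ := a
      obtain ⟨n, hn⟩ := hex A hA
      rw [X.Φ_mk_of hex hA hn, X.mapSub_χ hn]
      unfold KZero.clSub
      rw [dif_pos hA]
    | neg a ih =>
      rw [QuotientAddGroup.mk_neg, map_neg, map_neg, ih]
    | add a b iha ihb =>
      rw [QuotientAddGroup.mk_add, map_add, map_add, iha, ihb]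

include hex in
theorem bijective_mapSub : Function.Bijective (SGA6.mapSub (𝟭 C) X.P₀ X.P₁ X.hle) :=
  ⟨Function.LeftInverse.injective (g := X.Φ hex) (X.Φ_mapSub hex),
    Function.RightInverse.surjective (g := X.Φ hex) (X.mapSub_Φ hex)⟩

end Main

end Ctx

end Groth.Agent.H2.KRes
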