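import Groth.Agent.Lib.Helper2.KThick3

/-!
# `K₀(A) ≅ K₀(D^b(A))`
-/

namespace Groth.Agent.H2.KThick

open CategoryTheory Limits DerivedCategory

universe w v u
variable (A : Type u) [Category.{v} A] [Abelian A]

/-- the trivial property -/
abbrev PT : ObjectProperty A := fun _ => True

instance : (PT A).IsClosedUnderIsomorphisms := ⟨fun _ _ => trivial⟩
instance : (PT A).ContainsZero := by
  obtain ⟨Z, hZ⟩ := HasZeroObject.zero (C := A)
  exact ⟨⟨Z, hZ, trivial⟩⟩
instance : (PT A).IsClosedUnderKernels := ⟨fun _ _ => trivial⟩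

noncomputable def toSub₀ : FreeAbelianGroup A →+ KZero.K0sub (PT A) :=
  FreeAbelianGroup.lift (fun X => KZero.clSub (PT A) X)

lemma relAb_le_ker : KZero.relAb A ≤ (toSub₀ A).ker := by
  unfold KZero.relAb
  rw [AddSubgroup.closure_le]
  rintro x ⟨S, hS, rfl⟩
  change toSub₀ A _ = 0
  simp only [toSub₀, map_sub, FreeAbelianGroup.lift_apply_of]
  rw [cl_ses (PT A) S hS trivial trivial trivial]
  abel

noncomputable def toSub : KZero.K0 A →+ KZero.K0sub (PT A) :=
  QuotientAddGroup.lift _ (toSub₀ A) (relAb_le_ker A)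

noncomputable def ofSub₀ : FreeAbelianGroup (Subtype (PT A)) →+ KZero.K0 A :=
  FreeAbelianGroup.lift (fun X => KZero.cl X.1)

lemma cl_ses' (S : ShortComplex A) (hS : S.ShortExact) :
    KZero.cl S.X₂ = KZero.cl S.X₁ + KZero.cl S.X₃ := by
  have hrel : FreeAbelianGroup.of S.X₂ - FreeAbelianGroup.of S.X₁ -
      FreeAbelianGroup.of S.X₃ ∈ KZero.relAb A :=
    AddSubgroup.subset_closure ⟨S, hS, rfl⟩
  have h1 := (QuotientAddGroup.eq_zero_iff _).2 hrel
  rw [QuotientAddGroup.mk_sub, QuotientAddGroup.mk_sub, sub_sub, sub_eq_zero] at h1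
  exact h1

lemma relSub_le_ker' : KZero.relSub (PT A) ≤ (ofSub₀ A).ker := by
  unfold KZero.relSub
  rw [AddSubgroup.closure_le]
  rintro x ⟨S, h₁, h₂, h₃, hS, rfl⟩
  change ofSub₀ A _ = 0
  simp only [ofSub₀, map_sub, FreeAbelianGroup.lift_apply_of]
  rw [cl_ses' A S hS]
  abel

noncomputable def ofSub : KZero.K0sub (PT A) →+ KZero.K0 A :=
  QuotientAddGroup.lift _ (ofSub₀ A) (relSub_le_ker' A)

lemma toSub_cl (X : A) : toSub A (KZero.cl X) = KZero.clSub (PT A) X := by
  change toSub₀ A _ = _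
  simp only [toSub₀, FreeAbelianGroup.lift_apply_of]

lemma ofSub_cl (X : A) : ofSub A (KZero.clSub (PT A) X) = KZero.cl X := by
  rw [clSub_eq (PT A) trivial]
  change ofSub₀ A _ = _
  simp only [ofSub₀, FreeAbelianGroup.lift_apply_of]

lemma ofSub_toSub (x : KZero.K0 A) : ofSub A (toSub A x) = x := by
  induction x using QuotientAddGroup.induction_on with
  | H x =>
    induction x using FreeAbelianGroup.induction_on with
    | zero => simp
    | of X =>
      change ofSub A (toSub A (KZero.cl X)) = KZero.cl X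
      rw [toSub_cl, ofSub_cl]
    | neg X hX =>
      rw [QuotientAddGroup.mk_neg, map_neg, map_neg, hX]
    | add x y hx hy =>
      rw [QuotientAddGroup.mk_add, map_add, map_add, hx, hy]

lemma toSub_ofSub (x : KZero.K0sub (PT A)) : toSub A (ofSub A x) = x := by
  induction x using QuotientAddGroup.induction_on with
  | H x =>
    induction x using FreeAbelianGroup.induction_on with
    | zero => simp
    | of X =>
      have h1 : (QuotientAddGroup.mk (FreeAbelianGroup.of X) : KZero.K0sub (PT A)) =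
        KZero.clSub (PT A) X.1 := (clSub_eq (PT A) X.2).symm
      rw [h1, ofSub_cl, toSub_cl]
    | neg X hX =>
      rw [QuotientAddGroup.mk_neg, map_neg, map_neg, hX]
    | add x y hx hy =>
      rw [QuotientAddGroup.mk_add, map_add, map_add, hx, hy]

noncomputable def subEquiv : KZero.K0 A ≃+ KZero.K0sub (PT A) :=
  { toFun := toSub A
    invFun := ofSub A
    left_inv := ofSub_toSub A
    right_inv := toSub_ofSub A
    map_add' := map_add _ }

variable [HasDerivedCategory.{w} A]

lemma Q_eq : Q (PT A) = (fun X : DerivedCategory A => ∃ a b : ℤ, X.IsGE a ∧ X.IsLE b) := by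
  funext K
  exact propext ⟨fun h => h.2, fun h => ⟨fun _ => trivial, h⟩⟩

theorem main' : ∃ φ : KZero.K0 A ≃+
      KZero.K0tr (fun X : DerivedCategory A => ∃ a b : ℤ, X.IsGE a ∧ X.IsLE b),
    ∀ X : A, φ (KZero.cl X) =
      KZero.clTr (fun X : DerivedCategory A => ∃ a b : ℤ, X.IsGE a ∧ X.IsLE b)
        ((DerivedCategory.singleFunctor A 0).obj X) := by
  rw [← Q_eq]
  obtain ⟨φ, hφ⟩ := main (PT A)
  exact ⟨(subEquiv A).trans φ, fun X => by
    change φ (toSub A (KZero.cl X)) = _
    rw [toSub_cl]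
    exact hφ X trivial⟩

end Groth.Agent.H2.KThick
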