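import Mathlib

/-! Splitting of `Ω[(A ⊗ B)/R]`: the retraction onto `(A ⊗ B) ⊗[A] Ω[A/R]`. helper2 -/

set_option autoImplicit false
universe u

open scoped TensorProduct

namespace Groth.Agent.H2.KaehlerTensor

variable (R A B : Type u) [CommRing R] [CommRing A] [CommRing B] [Algebra R A] [Algebra R B]

/-- the bilinear map `(a, b) ↦ (1 ⊗ b) ⊗ da` -/
noncomputable def bil : A →ₗ[R] B →ₗ[R] ((A ⊗[R] B) ⊗[A] Ω[A⁄R]) :=
  LinearMap.mk₂ R (fun a b => ((1 : A) ⊗ₜ[R] b) ⊗ₜ[A] KaehlerDifferential.D R A a)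
    (fun a a' b => by simp [TensorProduct.tmul_add])
    (fun c a b => by
      rw [Derivation.map_smul, TensorProduct.tmul_smul])
    (fun a b b' => by simp [TensorProduct.tmul_add, TensorProduct.add_tmul])
    (fun c a b => by
      rw [TensorProduct.tmul_smul, ← TensorProduct.smul_tmul'])

/-- the underlying linear map of the derivation -/
noncomputable def derLin : (A ⊗[R] B) →ₗ[R] ((A ⊗[R] B) ⊗[A] Ω[A⁄R]) :=
  TensorProduct.lift (bil R A B)

@[simp] lemma derLin_tmul (a : A) (b : B) :
    derLin R A B (a ⊗ₜ[R] b) = ((1 : A) ⊗ₜ[R] b) ⊗ₜ[A] KaehlerDifferential.D R A a := by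
  simp [derLin, bil]

lemma derLin_leibniz (x y : A ⊗[R] B) :
    derLin R A B (x * y) = x • derLin R A B y + y • derLin R A B x := by
  induction x using TensorProduct.induction_on with
  | zero => simp
  | add x₁ x₂ h₁ h₂ => rw [add_mul, map_add, h₁, h₂, add_smul, map_add, smul_add]; abel
  | tmul a b =>
    induction y using TensorProduct.induction_on with
    | zero => simp
    | add y₁ y₂ h₁ h₂ => rw [mul_add, map_add, h₁, h₂, add_smul, map_add, smul_add]; abel
    | tmul a' b' =>
      rw [Algebra.TensorProduct.tmul_mul_tmul, derLin_tmul, derLin_tmul, derLin_tmul,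
        Derivation.leibniz, TensorProduct.tmul_add, TensorProduct.smul_tmul',
        TensorProduct.smul_tmul', smul_eq_mul, smul_eq_mul,
        Algebra.TensorProduct.tmul_mul_tmul, Algebra.TensorProduct.tmul_mul_tmul,
        mul_one, mul_one, ← TensorProduct.smul_tmul, ← TensorProduct.smul_tmul,
        TensorProduct.smul_tmul' a, TensorProduct.smul_tmul' a', smul_eq_mul, smul_eq_mul,
        mul_one, mul_one, mul_comm b' b]

/-- the derivation `T → T ⊗[A] Ω[A/R]` -/
noncomputable def der : Derivation R (A ⊗[R] B) ((A ⊗[R] B) ⊗[A] Ω[A⁄R]) where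
  toLinearMap := derLin R A B
  map_one_eq_zero' := by
    change derLin R A B (1 : A ⊗[R] B) = 0
    rw [Algebra.TensorProduct.one_def, derLin_tmul]
    simp
  leibniz' x y := derLin_leibniz R A B x y

/-- the retraction -/
noncomputable def retr : Ω[(A ⊗[R] B)⁄R] →ₗ[A ⊗[R] B] ((A ⊗[R] B) ⊗[A] Ω[A⁄R]) :=
  (der R A B).liftKaehlerDifferential

lemma retr_D (a : A) (b : B) :
    retr R A B (KaehlerDifferential.D R (A ⊗[R] B) (a ⊗ₜ[R] b)) =
      ((1 : A) ⊗ₜ[R] b) ⊗ₜ[A] KaehlerDifferential.D R A a := by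
  rw [retr, Derivation.liftKaehlerDifferential_comp_D]
  exact derLin_tmul R A B a b

lemma retr_mapBaseChange (z : (A ⊗[R] B) ⊗[A] Ω[A⁄R]) :
    retr R A B (KaehlerDifferential.mapBaseChange R A (A ⊗[R] B) z) = z := by
  induction z using TensorProduct.induction_on with
  | zero => simp
  | add z₁ z₂ h₁ h₂ => rw [map_add, map_add, h₁, h₂]
  | tmul t ω =>
    rw [KaehlerDifferential.mapBaseChange_tmul, map_smul]
    have hspan := KaehlerDifferential.span_range_derivation R A
    have hω : ω ∈ Submodule.span A (Set.range (KaehlerDifferential.D R A)) := by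
      rw [hspan]; trivial
    induction hω using Submodule.span_induction with
    | mem x hx =>
      obtain ⟨a, rfl⟩ := hx
      rw [KaehlerDifferential.map_D, Algebra.TensorProduct.algebraMap_apply,
        Algebra.algebraMap_self, RingHom.id_apply, retr_D, TensorProduct.smul_tmul', smul_eq_mul,
        ← Algebra.TensorProduct.one_def, mul_one]
    | zero => simp
    | add x y _ _ hx hy => rw [map_add, map_add, smul_add, hx, hy, TensorProduct.tmul_add]
    | smul c x _ hx =>
      rw [map_smul, ← algebraMap_smul (A ⊗[R] B) c, map_smul, smul_comm, hx,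
        TensorProduct.tmul_smul, algebraMap_smul]

theorem split_bijective :
    Function.Bijective (fun ω : Ω[(A ⊗[R] B)⁄R] =>
      (retr R A B ω, KaehlerDifferential.map R A (A ⊗[R] B) (A ⊗[R] B) ω)) := by
  have hex := KaehlerDifferential.exact_mapBaseChange_map R A (A ⊗[R] B)
  constructor
  · intro ω₁ ω₂ h
    simp only [Prod.mk.injEq] at h
    obtain ⟨h1, h2⟩ := h
    have h3 : KaehlerDifferential.map R A (A ⊗[R] B) (A ⊗[R] B) (ω₁ - ω₂) = 0 := by
      rw [map_sub, h2, sub_self]
    obtain ⟨z, hz⟩ := (hex (ω₁ - ω₂)).mp h3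
    have h4 : retr R A B (ω₁ - ω₂) = 0 := by rw [map_sub, h1, sub_self]
    rw [← hz, retr_mapBaseChange] at h4
    rw [h4, map_zero] at hz
    exact sub_eq_zero.mp hz.symm
  · rintro ⟨z, η⟩
    obtain ⟨ω₀, hω₀⟩ := KaehlerDifferential.map_surjective R A (A ⊗[R] B) η
    refine ⟨ω₀ + KaehlerDifferential.mapBaseChange R A (A ⊗[R] B) (z - retr R A B ω₀), ?_⟩
    simp only [Prod.mk.injEq]
    constructor
    · rw [map_add, retr_mapBaseChange]; abel
    · rw [map_add, hω₀, (hex _).mpr ⟨_, rfl⟩, add_zero]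

end Groth.Agent.H2.KaehlerTensor
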