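import Groth.Agent.Lib.Helper2.Brown5
import Mathlib.CategoryTheory.Idempotents.Basic
import Mathlib.CategoryTheory.Triangulated.Opposite.Pretriangulated
import Mathlib.CategoryTheory.Limits.Opposites

/-!
# Pretriangulated categories with countable coproducts are idempotent complete
-/

universe v u

open CategoryTheory CategoryTheory.Limits Opposite Pretriangulated

namespace Groth.Agent.H2.Karoubi

open Groth.Agent.H2.Brown

section split

variable {D : Type u} [Category.{v} D] [Preadditive D] [HasColimitsOfShape (Discrete ℕ) D]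
variable {X : D} (e : X ⟶ X)

/-- The termwise action of `e` on the countable coproduct of copies of `X`. -/
noncomputable def eC : CC X ⟶ CC X := Sigma.desc (fun n => e ≫ kap X n)

lemma kap_eC (n : ℕ) : kap X n ≫ eC e = e ≫ kap X n := Sigma.ι_desc _ _

variable {e}

lemma eC_eC (he : e ≫ e = e) : eC e ≫ eC e = eC e := by
  apply CC_hom_ext
  intro n
  rw [← Category.assoc, kap_eC, Category.assoc, kap_eC, ← Category.assoc, he]

variable (e) in
lemma eC_sC : eC e ≫ sC X = sC X ≫ eC e := by
  apply CC_hom_ext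
  intro n
  rw [← Category.assoc, kap_eC, Category.assoc, kap_sC, ← Category.assoc, kap_sC, kap_eC]

lemma sC_rC : sC X ≫ rC X = rC X - 𝟙 _ := by
  have h := uC_rC X
  rw [Preadditive.sub_comp, Category.id_comp] at h
  rw [← h]
  abel

/-- `𝟙 - ê ≫ s` is a split monomorphism. -/
lemma split (he : e ≫ e = e) :
    (𝟙 _ - eC e ≫ sC X) ≫ (𝟙 _ - eC e + eC e ≫ rC X) = 𝟙 _ := by
  have h1 : eC e ≫ sC X ≫ eC e = eC e ≫ sC X := by
    rw [← eC_sC, ← Category.assoc, eC_eC he]
  have h2 : (eC e ≫ sC X) ≫ (𝟙 _ - eC e + eC e ≫ rC X) = eC e ≫ rC X - eC e := by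
    rw [Preadditive.comp_add, Preadditive.comp_sub, Category.comp_id, Category.assoc, h1,
      sub_self, zero_add, Category.assoc, ← Category.assoc (sC X), ← eC_sC, Category.assoc,
      ← Category.assoc (eC e), eC_eC he, sC_rC, Preadditive.comp_sub, Category.comp_id]
  rw [Preadditive.sub_comp, Category.id_comp, h2]
  abel

end split

variable {D : Type u} [Category.{v} D] [Preadditive D] [HasZeroObject D] [HasShift D ℤ]
  [∀ n : ℤ, (shiftFunctor D n).Additive] [Pretriangulated D]

theorem idempotents_split [HasColimitsOfShape (Discrete ℕ) D] (X : D) (e : X ⟶ X)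
    (he : e ≫ e = e) :
    ∃ (Y : D) (i : Y ⟶ X) (r : X ⟶ Y), i ≫ r = 𝟙 Y ∧ r ≫ i = e := by
  obtain ⟨Y, p, c, hT⟩ := distinguished_cocone_triangle (𝟙 _ - eC e ≫ sC X)
  haveI : Mono (𝟙 (CC X) - eC e ≫ sC X) := mono_of_mono_fac (split he)
  have hc : c = 0 := Triangle.mor₃_eq_zero_of_mono₁ _ hT (by assumption)
  haveI : Epi p := Triangle.epi₂ _ hT hc
  have hup : (𝟙 _ - eC e ≫ sC X) ≫ p = 0 := comp_distTriang_mor_zero₁₂ _ hT
  have h0 : (𝟙 _ - eC e ≫ sC X) ≫ Sigma.desc (fun _ : ℕ => e) = 0 := by
    apply CC_hom_ext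
    intro n
    rw [comp_zero, Preadditive.sub_comp, Category.id_comp, Preadditive.comp_sub,
      ← Category.assoc, ← Category.assoc, kap_eC, Category.assoc e, kap_sC, Category.assoc]
    have h1 : kap X n ≫ Sigma.desc (fun _ : ℕ => e) = e := Sigma.ι_desc _ _
    have h2 : kap X (n + 1) ≫ Sigma.desc (fun _ : ℕ => e) = e := Sigma.ι_desc _ _
    rw [h1, h2, he, sub_self]
  obtain ⟨j, hj⟩ : ∃ j : Y ⟶ X, Sigma.desc (fun _ : ℕ => e) = p ≫ j :=
    Triangle.yoneda_exact₂ _ hT _ h0
  have hi : ∀ n, kap X n ≫ p = e ≫ kap X (n + 1) ≫ p := by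
    intro n
    have h := congrArg (fun g => kap X n ≫ g) hup
    simp only [comp_zero, Preadditive.sub_comp, Category.id_comp, Preadditive.comp_sub] at h
    rw [sub_eq_zero, Category.assoc, ← Category.assoc (kap X n), kap_eC, Category.assoc,
      ← Category.assoc (kap X n), kap_sC] at h
    exact h
  have hei : ∀ n, e ≫ kap X n ≫ p = kap X n ≫ p := by
    intro n
    rw [hi n, ← Category.assoc, he]
  have hsucc : ∀ n, kap X n ≫ p = kap X (n + 1) ≫ p := by
    intro n
    rw [hi n, hei]
  have hall : ∀ n, kap X n ≫ p = kap X 0 ≫ p := by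
    intro n
    induction n with
    | zero => rfl
    | succ n ih => rw [← hsucc, ih]
  refine ⟨Y, j, kap X 0 ≫ p, ?_, ?_⟩
  · rw [← cancel_epi p, Category.comp_id, ← Category.assoc, ← hj]
    apply CC_hom_ext
    intro n
    rw [← Category.assoc]
    have h1 : kap X n ≫ Sigma.desc (fun _ : ℕ => e) = e := Sigma.ι_desc _ _
    rw [h1, hei, hall n]
  · rw [Category.assoc, ← hj]
    exact Sigma.ι_desc _ _

theorem isIdempotentComplete_of_coproducts [HasColimitsOfShape (Discrete ℕ) D] :
    IsIdempotentComplete D :=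
  ⟨fun X e he => idempotents_split X e he⟩

end Groth.Agent.H2.Karoubi

namespace Groth.Agent.H2.Karoubi

open CategoryTheory CategoryTheory.Limits Opposite Pretriangulated
open CategoryTheory.Pretriangulated.Opposite

variable {D : Type u} [Category.{v} D] [Preadditive D] [HasZeroObject D] [HasShift D ℤ]
  [∀ n : ℤ, (shiftFunctor D n).Additive] [Pretriangulated D]

theorem isIdempotentComplete_of_products [HasLimitsOfShape (Discrete ℕ) D] :
    IsIdempotentComplete D := by
  haveI : HasLimitsOfShape (Discrete ℕ)ᵒᵖ D :=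
    hasLimitsOfShape_of_equivalence (Discrete.opposite ℕ).symm
  haveI : HasColimitsOfShape (Discrete ℕ) Dᵒᵖ := hasColimitsOfShape_op_of_hasLimitsOfShape
  rw [← Idempotents.isIdempotentComplete_iff_opposite]
  exact isIdempotentComplete_of_coproducts

end Groth.Agent.H2.Karoubi
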