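import Groth.Agent.Lib.Helper2.ThetaE
import Groth.Agent.Lib.Helper2.SeeY
import Groth.Prelude.Def_AbDual
import Groth.Prelude.Def_AgPol

/-!
# `K(L)` is the kernel of `φ_L`: Mumford modules along a point (helper2)
-/

set_option autoImplicit false
set_option linter.style.haveILetI false
universe u

open CategoryTheory CategoryTheory.Limits AlgebraicGeometry Opposite TopologicalSpace
open MonoidalCategory CartesianMonoidalCategory MonObj

namespace Groth.Agent.H2.KerL

open Groth.Agent.LD.QC Groth.Agent.LD Groth.Agent.H5.PicLaw Groth.Agent.H2.TransInv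
  Groth.Agent.H2.ThetaA

section Gen
variable {W W' Y : Scheme.{u}}

/-- the Lambda relation in the Picard group. -/
theorem lambda_iff_cls (m p q : W ⟶ Y) (L : Y.Modules) (hL : PicF.IsInvertible L)
    (N : W.Modules) (hN : PicF.IsInvertible N) :
    AgPol.IsLambdaSheaf m p q L N ↔
      clsOf N * clsOf ((Scheme.Modules.pullback p).obj L) *
        clsOf ((Scheme.Modules.pullback q).obj L) = clsOf ((Scheme.Modules.pullback m).obj L) := by
  have hp := isInvertible_pullback p hL
  have hq := isInvertible_pullback q hL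
  have hm := isInvertible_pullback m hL
  change Nonempty (_ ≅ _) ↔ _
  rw [← clsOf_eq_iff (isInvertible_tensorMod (isInvertible_tensorMod hN hp) hq) hm,
    clsOf_tensor (isInvertible_tensorMod hN hp) hq, clsOf_tensor hN hp]

/-- the Lambda relation pulls back. -/
theorem lambda_pullback (h : W' ⟶ W) (m p q : W ⟶ Y) (m' p' q' : W' ⟶ Y)
    (hm : h ≫ m = m') (hp : h ≫ p = p') (hq : h ≫ q = q')
    (L : Y.Modules) (hL : PicF.IsInvertible L)
    (N : W.Modules) (hN : PicF.IsInvertible N) (hΛ : AgPol.IsLambdaSheaf m p q L N) :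
    AgPol.IsLambdaSheaf m' p' q' L ((Scheme.Modules.pullback h).obj N) := by
  rw [lambda_iff_cls m p q L hL N hN] at hΛ
  rw [lambda_iff_cls m' p' q' L hL _ (isInvertible_pullback h hN)]
  have h2 := congrArg (H5.PicLaw.pbHom h) hΛ
  rw [map_mul, map_mul, pbHom_clsOf_pullback h p _ hp L hL, pbHom_clsOf_pullback h q _ hq L hL,
    pbHom_clsOf_pullback h m _ hm L hL, pbHom_clsOf h N hN] at h2
  exact h2

end Gen

section Grp
variable {k : Type u} [Field k] (X : Over (Spec (CommRingCat.of k))) [GrpObj X]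

omit [GrpObj X] in
theorem whiskerLeft_left_eq_XTmap {T T' : Over (Spec (CommRingCat.of k))} (z : T' ⟶ T) :
    (X ◁ z).left = PicF.XTmap X.hom z := by
  apply pullback.hom_ext
  · rw [See.XTmap_fst]
    exact congrArg (fun ψ => ψ.left) (whiskerLeft_fst X z)
  · rw [See.XTmap_snd]
    exact congrArg (fun ψ => ψ.left) (whiskerLeft_snd X z)

variable (L : X.left.Modules) (hL : PicF.IsInvertible L)
  (N : (PicF.XT X.hom X).Modules) (hN : PicF.IsInvertible N)
  (hΛ : AgPol.IsLambdaSheaf (μ[X].left : PicF.XT X.hom X ⟶ X.left) (fst X X).left (snd X X).left L N)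

include hL hN hΛ in
/-- the pullback of a Mumford module along `z` is a Mumford module along `z`. -/
theorem isLambda_Nz {T : Over (Spec (CommRingCat.of k))} (z : T ⟶ X) :
    AgPol.IsLambdaSheaf ((X ◁ z) ≫ μ[X]).left (fst X T).left (snd X T ≫ z).left L
      ((Scheme.Modules.pullback (PicF.XTmap X.hom z)).obj N) := by
  refine lambda_pullback (PicF.XTmap X.hom z) _ _ _ _ _ _ ?_ ?_ ?_ L hL N hN hΛ
  · rw [← whiskerLeft_left_eq_XTmap]; rfl
  · rw [← whiskerLeft_left_eq_XTmap, ← Over.comp_left, whiskerLeft_fst]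
  · rw [← whiskerLeft_left_eq_XTmap, ← Over.comp_left, whiskerLeft_snd]

include hL hN hΛ in
/-- the Mumford bundle is trivial along `z` iff the pullback of `N` comes from the base. -/
theorem mumfordTriv_iff {T : Over (Spec (CommRingCat.of k))} (z : T ⟶ X) :
    ThetaGrp.IsMumfordTriv X L z ↔ ∃ M : T.left.Modules, PicF.IsInvertible M ∧
      Nonempty ((Scheme.Modules.pullback (PicF.XTmap X.hom z)).obj N ≅
        (Scheme.Modules.pullback (snd X T).left).obj M) := by
  have hNz := isLambda_Nz X L hL N hN hΛ z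
  have hNzi : PicF.IsInvertible ((Scheme.Modules.pullback (PicF.XTmap X.hom z)).obj N) :=
    isInvertible_pullback _ hN
  rw [lambda_iff_cls _ _ _ L hL _ hNzi] at hNz
  constructor
  · rintro ⟨M, hM, hΛM⟩
    refine ⟨M, hM, ?_⟩
    have hMp := isInvertible_pullback (snd X T).left hM
    rw [lambda_iff_cls _ _ _ L hL _ hMp] at hΛM
    rw [← clsOf_eq_iff hNzi hMp]
    rw [← hΛM] at hNz
    rw [_root_.mul_assoc, _root_.mul_assoc] at hNz
    exact mul_right_cancel hNz
  · rintro ⟨M, hM, ⟨e⟩⟩
    refine ⟨M, hM, ?_⟩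
    have hMp := isInvertible_pullback (snd X T).left hM
    rw [lambda_iff_cls _ _ _ L hL _ hMp, ← clsOf_iso e hNzi]
    exact hNz

end Grp

end Groth.Agent.H2.KerL
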