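import Groth.Agent.Lib.Helper2.KerLA
import Mathlib.AlgebraicGeometry.Geometrically.Integral

/-!
# `K(L)` is the kernel of `φ_L`: Mumford modules are algebraically trivial on fibres (helper2)
-/

set_option autoImplicit false
set_option linter.style.haveILetI false
universe u

open CategoryTheory CategoryTheory.Limits AlgebraicGeometry Opposite TopologicalSpace
open MonoidalCategory CartesianMonoidalCategory MonObj

namespace Groth.Agent.H2.KerL

open Groth.Agent.LD.QC Groth.Agent.LD Groth.Agent.H5.PicLaw Groth.Agent.H2.TransInv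
  Groth.Agent.H2.ThetaA

section Alg
variable (Ω : Type u) [Field Ω] (Y : Scheme.{u}) [Y.Over (Spec (CommRingCat.of Ω))]

theorem sliceAt_fst {T : Scheme.{u}} (q : T ⟶ Spec (CommRingCat.of Ω))
    (t : Spec (CommRingCat.of Ω) ⟶ T) (ht : t ≫ q = 𝟙 _) :
    Pic13.sliceAt Ω Y q t ht ≫ pullback.fst _ _ = 𝟙 Y := by
  unfold Pic13.sliceAt
  exact pullback.lift_fst _ _ _

theorem sliceAt_snd {T : Scheme.{u}} (q : T ⟶ Spec (CommRingCat.of Ω))
    (t : Spec (CommRingCat.of Ω) ⟶ T) (ht : t ≫ q = 𝟙 _) :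
    Pic13.sliceAt Ω Y q t ht ≫ pullback.snd _ _ = (Y ↘ Spec (CommRingCat.of Ω)) ≫ t := by
  unfold Pic13.sliceAt
  exact pullback.lift_snd _ _ _

/-- a trivial module is algebraically equivalent to zero. -/
theorem isAlgEquivZero_of_iso_unit (L : Y.Modules) (e : L ≅ Coh.structureModule Y) :
    Pic13.IsAlgEquivZero Ω Y L := by
  refine ⟨Spec (CommRingCat.of Ω), 𝟙 _, inferInstance, inferInstance, inferInstance,
    Coh.structureModule _, isInvertible_unit _, 𝟙 _, 𝟙 _, Category.id_comp _, Category.id_comp _,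
    ⟨?_⟩, ⟨?_⟩⟩
  · exact pbUnitIso _ ≪≫ e.symm
  · exact pbUnitIso _

end Alg

section Unit
variable {X S : Scheme.{u}} (f : X ⟶ S)

/-- the trivial class lies in `Pic⁰`. -/
theorem isPicZeroCl_unit (T : Over S) :
    AbDual.IsPicZeroCl f T (PicF.cl (Coh.structureModule (PicF.XT f T))) := by
  refine ⟨Coh.structureModule _, rfl, isInvertible_unit _, fun t Ω _ _ σ _ => ?_⟩
  exact @isAlgEquivZero_of_iso_unit Ω _ (pullback (PicF.XTproj f T) σ) ⟨pullback.snd _ _⟩ _
    (pbUnitIso _)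

end Unit

section Grp
variable {k : Type u} [Field k] (X : Over (Spec (CommRingCat.of k))) [GrpObj X]
variable (L : X.left.Modules) (hL : PicF.IsInvertible L)
  (N : (PicF.XT X.hom X).Modules) (hN : PicF.IsInvertible N)
  (hΛ : AgPol.IsLambdaSheaf (μ[X].left : PicF.XT X.hom X ⟶ X.left) (fst X X).left (snd X X).left L N)

include hL hN hΛ in
/-- the restriction of a Mumford module to the slice at the unit is trivial. -/
theorem unitSlice_trivial :
    Nonempty ((Scheme.Modules.pullback (lift (𝟙 X) (toUnit X ≫ η[X])).left).obj N ≅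
      Coh.structureModule X.left) := by
  let e₀ : X ⟶ X ⊗ X := lift (𝟙 X) (toUnit X ≫ η[X])
  have h1 : e₀ ≫ fst X X = 𝟙 X := lift_fst _ _
  have h2 : e₀ ≫ snd X X = toUnit X ≫ η[X] := lift_snd _ _
  have h3 : e₀ ≫ μ[X] = 𝟙 X := by
    change lift (𝟙 X) (toUnit X ≫ η[X]) ≫ μ[X] = 𝟙 X
    rw [← Hom.mul_def, ← Hom.one_def, _root_.mul_one]
  have hl₁ : e₀.left ≫ (fst X X).left = (𝟙 X : X ⟶ X).left := congrArg (fun ψ => ψ.left) h1
  have hl₂ : e₀.left ≫ (snd X X).left = (toUnit X ≫ η[X]).left := congrArg (fun ψ => ψ.left) h2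
  have hl₃ : e₀.left ≫ μ[X].left = (𝟙 X : X ⟶ X).left := congrArg (fun ψ => ψ.left) h3
  have hΛ' := lambda_pullback e₀.left _ _ _ _ _ _ hl₃ hl₁ hl₂ L hL N hN hΛ
  have hNi : PicF.IsInvertible ((Scheme.Modules.pullback e₀.left).obj N) :=
    isInvertible_pullback _ hN
  rw [lambda_iff_cls _ _ _ L hL _ hNi, clsOf_pullback_unit X L hL, _root_.mul_one,
    mul_eq_right] at hΛ'
  exact (clsOf_eq_one_iff hNi).1 hΛ'

variable [IsProper X.hom] [GeometricallyIntegral X.hom]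

set_option maxHeartbeats 1600000 in
include hL hN hΛ in
/-- the pullback of a Mumford module along a point lies in `Pic⁰`. -/
theorem isPicZeroCl_Nz {T : Over (Spec (CommRingCat.of k))} (z : T ⟶ X) :
    AbDual.IsPicZeroCl X.hom T
      (PicF.cl ((Scheme.Modules.pullback (PicF.XTmap X.hom z)).obj N)) := by
  refine ⟨_, rfl, isInvertible_pullback _ hN, fun t₁ Ω _ _ σ _ => ?_⟩
  let Y := pullback (PicF.XTproj X.hom T) σ
  let pY : Y ⟶ Spec (CommRingCat.of Ω) := pullback.snd _ _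
  obtain ⟨b, hb⟩ : ∃ b : Y ⟶ PicF.XT X.hom T, b = pullback.fst (PicF.XTproj X.hom T) σ := ⟨_, rfl⟩
  obtain ⟨a, hadef⟩ : ∃ a : Y ⟶ X.left, a = b ≫ pullback.fst X.hom T.hom := ⟨_, rfl⟩
  obtain ⟨s₀, hs₀⟩ : ∃ s₀ : Spec (CommRingCat.of Ω) ⟶ Spec (CommRingCat.of k), s₀ = σ ≫ T.hom :=
    ⟨_, rfl⟩
  have hfs : b ≫ PicF.XTproj X.hom T = pY ≫ σ := by
    rw [hb]; exact pullback.condition
  have ha : a ≫ X.hom = pY ≫ s₀ := by
    rw [hadef, hs₀, Category.assoc, pullback.condition, ← Category.assoc]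
    change (b ≫ PicF.XTproj X.hom T) ≫ T.hom = _
    rw [hfs, Category.assoc]
  letI : Y.Over (Spec (CommRingCat.of Ω)) := ⟨pY⟩
  have hYo : (Y ↘ Spec (CommRingCat.of Ω)) = pY := rfl
  have hpc : pullback.fst (Y ↘ Spec (CommRingCat.of Ω)) pY ≫ pY =
      pullback.snd (Y ↘ Spec (CommRingCat.of Ω)) pY ≫ pY := pullback.condition
  have hcond : (pullback.fst (Y ↘ Spec (CommRingCat.of Ω)) pY ≫ a) ≫ X.hom =
      (pullback.snd (Y ↘ Spec (CommRingCat.of Ω)) pY ≫ a) ≫ X.hom := by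
    rw [Category.assoc, Category.assoc, ha, ← Category.assoc, ← Category.assoc, hpc]
  obtain ⟨g, hg₁, hg₂⟩ : ∃ g : Pic13.prodK Ω Y pY ⟶ PicF.XT X.hom X,
      g ≫ pullback.fst X.hom X.hom = pullback.fst (Y ↘ Spec (CommRingCat.of Ω)) pY ≫ a ∧
      g ≫ pullback.snd X.hom X.hom = pullback.snd (Y ↘ Spec (CommRingCat.of Ω)) pY ≫ a :=
    ⟨pullback.lift (pullback.fst (Y ↘ Spec (CommRingCat.of Ω)) pY ≫ a)
        (pullback.snd (Y ↘ Spec (CommRingCat.of Ω)) pY ≫ a) hcond,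
      pullback.lift_fst _ _ _, pullback.lift_snd _ _ _⟩
  have hM : PicF.IsInvertible ((Scheme.Modules.pullback g).obj N) := isInvertible_pullback g hN
  -- the two points
  obtain ⟨u, hu, hu₁⟩ : ∃ u : Spec (CommRingCat.of Ω) ⟶ PicF.XT X.hom T,
      u ≫ PicF.XTproj X.hom T = σ ∧ u ≫ pullback.fst X.hom T.hom = σ ≫ z.left :=
    ⟨pullback.lift (σ ≫ z.left) σ (by rw [Category.assoc, Over.w z]),
      pullback.lift_snd _ _ _, pullback.lift_fst _ _ _⟩
  obtain ⟨t, ht, htb⟩ : ∃ t : Spec (CommRingCat.of Ω) ⟶ Y, t ≫ pY = 𝟙 _ ∧ t ≫ b = u := by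
    rw [hb]
    exact ⟨pullback.lift u (𝟙 _) (by rw [hu, Category.id_comp]),
      pullback.lift_snd _ _ _, pullback.lift_fst _ _ _⟩
  have hta : t ≫ a = σ ≫ z.left := by
    rw [hadef, ← Category.assoc, htb, hu₁]
  have hη : (η[X]).left ≫ X.hom = 𝟙 (Spec (CommRingCat.of k)) := Over.w η[X]
  obtain ⟨u₀, hu₀, hu₀₁⟩ : ∃ u₀ : Spec (CommRingCat.of Ω) ⟶ PicF.XT X.hom T,
      u₀ ≫ PicF.XTproj X.hom T = σ ∧ u₀ ≫ pullback.fst X.hom T.hom = s₀ ≫ (η[X]).left :=
    ⟨pullback.lift (s₀ ≫ (η[X]).left) σ (by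
        rw [Category.assoc, hη, hs₀]; exact Category.comp_id _),
      pullback.lift_snd _ _ _, pullback.lift_fst _ _ _⟩
  obtain ⟨t₀, ht₀, ht₀b⟩ : ∃ t₀ : Spec (CommRingCat.of Ω) ⟶ Y, t₀ ≫ pY = 𝟙 _ ∧ t₀ ≫ b = u₀ := by
    rw [hb]
    exact ⟨pullback.lift u₀ (𝟙 _) (by rw [hu₀, Category.id_comp]),
      pullback.lift_snd _ _ _, pullback.lift_fst _ _ _⟩
  have ht₀a : t₀ ≫ a = s₀ ≫ (η[X]).left := by
    rw [hadef, ← Category.assoc, ht₀b, hu₀₁]
  -- connectedness
  haveI : GeometricallyIrreducible X.hom := inferInstance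
  haveI : GeometricallyIrreducible pY := inferInstance
  haveI : IrreducibleSpace Y :=
    GeometricallyIrreducible.irreducibleSpace_of_subsingleton pY
  haveI : LocallyOfFiniteType pY := inferInstance
  haveI : QuasiCompact pY := inferInstance
  refine ⟨Y, pY, inferInstance, inferInstance, inferInstance, (Scheme.Modules.pullback g).obj N,
    hM, t, t₀, ht, ht₀, ?_, ?_⟩
  · -- the fibre at `t`
    have hc : Pic13.sliceAt Ω Y pY t ht ≫ g = b ≫ PicF.XTmap X.hom z := by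
      apply pullback.hom_ext
      · rw [Category.assoc, hg₁, ← Category.assoc, sliceAt_fst, Category.id_comp,
          Category.assoc, See.XTmap_fst, hadef]
      · rw [Category.assoc, hg₂, ← Category.assoc, sliceAt_snd, hYo, Category.assoc, hta,
          Category.assoc, See.XTmap_snd, ← Category.assoc]
        change pY ≫ σ ≫ z.left = (b ≫ PicF.XTproj X.hom T) ≫ z.left
        rw [hfs, Category.assoc]
    obtain ⟨e⟩ := nonempty_pullback_iso_of_eq hc N
    rw [← hb]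
    exact ⟨(Scheme.Modules.pullbackComp _ _).app N ≪≫ e ≪≫
      ((Scheme.Modules.pullbackComp _ _).app N).symm⟩
  · -- the fibre at `t₀`
    have hc : Pic13.sliceAt Ω Y pY t₀ ht₀ ≫ g = a ≫ (lift (𝟙 X) (toUnit X ≫ η[X])).left := by
      apply pullback.hom_ext
      · rw [Category.assoc, hg₁, ← Category.assoc, sliceAt_fst, Category.id_comp,
          Category.assoc]
        have : (lift (𝟙 X) (toUnit X ≫ η[X])).left ≫ pullback.fst X.hom X.hom = 𝟙 _ :=
          congrArg (fun ψ => ψ.left) (lift_fst (𝟙 X) (toUnit X ≫ η[X]))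
        rw [this, Category.comp_id]
      · rw [Category.assoc, hg₂, ← Category.assoc, sliceAt_snd, hYo, Category.assoc, ht₀a,
          Category.assoc]
        have : (lift (𝟙 X) (toUnit X ≫ η[X])).left ≫ pullback.snd X.hom X.hom =
            X.hom ≫ (η[X]).left :=
          congrArg (fun ψ => ψ.left) (lift_snd (𝟙 X) (toUnit X ≫ η[X]))
        rw [this, ← Category.assoc a, ha, Category.assoc]
    obtain ⟨e⟩ := nonempty_pullback_iso_of_eq hc N
    obtain ⟨e'⟩ := unitSlice_trivial X L hL N hN hΛ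
    exact ⟨(Scheme.Modules.pullbackComp _ _).app N ≪≫ e ≪≫
      ((Scheme.Modules.pullbackComp _ _).app N).symm ≪≫
      (Scheme.Modules.pullback a).mapIso e' ≪≫ pbUnitIso a⟩

end Grp

end Groth.Agent.H2.KerL
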