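import Mathlib
import Groth.Prelude.Def_Curves
import Groth.Agent.Lib.Helper9.Misc.AIC1

/-! # Schemes local for Zariski and finite coverings: spectra of a.i.c. local domains. -/

set_option autoImplicit false
set_option linter.unusedVariables false
set_option linter.unusedSectionVars false
set_option linter.style.haveILetI false

universe u

open CategoryTheory CategoryTheory.Limits AlgebraicGeometry TopologicalSpace

namespace Groth.Agent.H2.Rqfh

/-- an integral extension `C` of an a.i.c. domain `A` retracts onto `A` along any prime lying over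
`0`. -/
theorem exists_retraction {A C : Type u} [CommRing A] [IsDomain A] [CommRing C]
    (hA : Curves.IsAIC A) (α : A →+* C) (hα : α.IsIntegral) (q : Ideal C) [q.IsPrime]
    (hq : q.comap α = ⊥) : ∃ ψ : C →+* A, ψ.comp α = RingHom.id A := by
  let β : A →+* C ⧸ q := (Ideal.Quotient.mk q).comp α
  have hβinj : Function.Injective β := by
    rw [injective_iff_map_eq_zero]
    intro a ha
    have h1 : a ∈ q.comap α := by
      rw [Ideal.mem_comap]
      exact Ideal.Quotient.eq_zero_iff_mem.mp ha
    rw [hq] at h1
    exact h1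
  have hβsurj : Function.Surjective β := by
    intro b
    obtain ⟨c, rfl⟩ := Ideal.Quotient.mk_surjective b
    obtain ⟨p, hp, hpc⟩ := hα c
    obtain ⟨s, hs⟩ := Groth.Agent.H9.AIC.splits_of_roots (fun f hf hd => hA f hf hd) _ p hp rfl
    have h1 : Polynomial.eval₂ β (Ideal.Quotient.mk q c) p = 0 := by
      have h2 : Polynomial.eval₂ β (Ideal.Quotient.mk q c) p =
          Ideal.Quotient.mk q (Polynomial.eval₂ α c p) := by
        rw [Polynomial.hom_eval₂]
      rw [h2, hpc, map_zero]
    rw [hs, Polynomial.eval₂_multiset_prod, Multiset.map_map] at h1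
    have hx := Multiset.prod_eq_zero_iff.mp h1
    obtain ⟨r, hr, hx0⟩ := Multiset.mem_map.mp hx
    refine ⟨r, ?_⟩
    simp only [Function.comp_apply, Polynomial.eval₂_sub, Polynomial.eval₂_X,
      Polynomial.eval₂_C] at hx0
    exact (sub_eq_zero.mp hx0).symm
  let e : A ≃+* C ⧸ q := RingEquiv.ofBijective β ⟨hβinj, hβsurj⟩
  refine ⟨(e.symm : C ⧸ q →+* A).comp (Ideal.Quotient.mk q), ?_⟩
  ext a
  change e.symm (β a) = a
  exact e.symm_apply_apply a

end Groth.Agent.H2.Rqfh
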