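import Mathlib
import Groth.Prelude.Def_Curves
import Groth.Agent.Lib.Helper2.RqfhA

/-! # Schemes local for Zariski and finite coverings, II: the necessary conditions. -/

set_option autoImplicit false
set_option linter.unusedVariables false
set_option linter.unusedSectionVars false
set_option linter.style.haveILetI false

universe u

open CategoryTheory CategoryTheory.Limits AlgebraicGeometry TopologicalSpace

namespace Groth.Agent.H2.Rqfh

/-- locality of `P` for `Q`-coverings. -/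
def LocFor (P : Scheme.{u}) (Q : MorphismProperty Scheme.{u}) : Prop :=
  ∀ (X : Scheme.{u}) (R : Presieve X), R ∈ Scheme.precoverage Q X →
    ∀ g : P ⟶ X, ∃ (Y : Scheme.{u}) (w : Y ⟶ X) (h : P ⟶ Y), R w ∧ h ≫ w = g

lemma LocFor.exists_lift {P : Scheme.{u}} {Q : MorphismProperty Scheme.{u}} (hP : LocFor P Q)
    {X : Scheme.{u}} {ι : Type*} (Y : ι → Scheme.{u}) (f : ∀ i, Y i ⟶ X)
    (hsurj : ∀ x : X, ∃ i, x ∈ Set.range (f i)) (hQ : ∀ i, Q (f i)) (g : P ⟶ X) :
    ∃ (i : ι) (h : P ⟶ Y i), h ≫ f i = g := by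
  obtain ⟨Y', w, h, hw, hfac⟩ := hP X (Presieve.ofArrows Y f)
    ((Scheme.ofArrows_mem_precoverage_iff Q).mpr ⟨hsurj, hQ⟩) g
  obtain ⟨i⟩ := hw
  exact ⟨i, h, hfac⟩

theorem nonempty_of_locFor {P : Scheme.{u}} {Q : MorphismProperty Scheme.{u}}
    (hP : LocFor P Q) : Nonempty P := by
  by_contra hne
  rw [not_nonempty_iff] at hne
  obtain ⟨Y, w, h, hw, -⟩ := hP P ⊥ (Scheme.bot_mem_precoverage Q P) (𝟙 P)
  exact hw

theorem isAffine_of_locFor {P : Scheme.{u}} [QuasiSeparatedSpace P]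
    (hP : LocFor P (@IsOpenImmersion ⊓ @QuasiCompact)) : IsAffine P := by
  obtain ⟨i, h, hfac⟩ := hP.exists_lift P.affineCover.X P.affineCover.f
    (fun x => by
      obtain ⟨i, y, hy⟩ := P.affineCover.exists_eq x
      exact ⟨i, y, hy⟩)
    (fun i => ⟨inferInstance, inferInstance⟩) (𝟙 P)
  haveI : IsSplitEpi (P.affineCover.f i) := IsSplitEpi.mk' ⟨h, hfac⟩
  haveI : IsIso (P.affineCover.f i) := isIso_of_mono_of_isSplitEpi _
  exact IsAffine.of_isIso (inv (P.affineCover.f i))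

theorem exists_retraction_of_section {P : Scheme.{u}} [IsAffine P] {B : CommRingCat.{u}}
    (φ : Γ(P, ⊤) ⟶ B) (h : P ⟶ Spec B) (hfac : h ≫ Spec.map φ ≫ P.isoSpec.inv = 𝟙 P) :
    ∃ ψ : B ⟶ Γ(P, ⊤), φ ≫ ψ = 𝟙 _ := by
  refine ⟨Spec.preimage (P.isoSpec.inv ≫ h), ?_⟩
  apply Spec.map_injective
  rw [Spec.map_comp, Spec.map_preimage, Spec.map_id, Category.assoc]
  have h1 := congrArg (fun k => P.isoSpec.inv ≫ k ≫ P.isoSpec.hom) hfac
  simpa using h1

end Groth.Agent.H2.Rqfh
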