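import Mathlib
import Groth.Prelude.Def_Curves
import Groth.Agent.Lib.Helper2.RqfhB

/-! # Schemes local for Zariski and finite coverings, III: the ring of functions. -/

set_option autoImplicit false
set_option linter.unusedVariables false
set_option linter.unusedSectionVars false
set_option linter.style.haveILetI false

universe u

open CategoryTheory CategoryTheory.Limits AlgebraicGeometry TopologicalSpace

namespace Groth.Agent.H2.Rqfh

variable {P : Scheme.{u}} [IsAffine P]

lemma mem_range_of_mem {B : CommRingCat.{u}} (φ : Γ(P, ⊤) ⟶ B) (x : P)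
    (hx : P.isoSpec.hom x ∈ Set.range (PrimeSpectrum.comap φ.hom)) :
    x ∈ Set.range (Spec.map φ ≫ P.isoSpec.inv) := by
  obtain ⟨y, hy⟩ := hx
  refine ⟨y, ?_⟩
  have h1 : (Spec.map φ) y = P.isoSpec.hom x := hy
  rw [Scheme.Hom.comp_apply, h1, ← Scheme.Hom.comp_apply, Iso.hom_inv_id]
  rfl

theorem nontrivial_of_locFor {Q : MorphismProperty Scheme.{u}} (hP : LocFor P Q) :
    Nontrivial Γ(P, ⊤) := by
  haveI : Nonempty P := nonempty_of_locFor hP
  exact @Scheme.component_nontrivial P ⊤ ⟨⟨Classical.arbitrary P, trivial⟩⟩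

theorem isLocalRing_of_locFor (hP : LocFor P (@IsOpenImmersion ⊓ @QuasiCompact)) :
    IsLocalRing Γ(P, ⊤) := by
  haveI : Nontrivial Γ(P, ⊤) := nontrivial_of_locFor hP
  apply IsLocalRing.of_isUnit_or_isUnit_one_sub_self
  intro a
  let c : Bool → Γ(P, ⊤) := fun b => if b then a else 1 - a
  obtain ⟨b, h, hfac⟩ := hP.exists_lift
    (fun b => Spec (CommRingCat.of (Localization.Away (c b))))
    (fun b => Spec.map (CommRingCat.ofHom (algebraMap Γ(P, ⊤) (Localization.Away (c b)))) ≫
      P.isoSpec.inv)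
    (fun x => by
      have hr : ∀ b : Bool, c b ∉ (P.isoSpec.hom x).asIdeal →
          x ∈ Set.range (Spec.map (CommRingCat.ofHom
            (algebraMap Γ(P, ⊤) (Localization.Away (c b)))) ≫ P.isoSpec.inv) := by
        intro b hb
        apply mem_range_of_mem
        change P.isoSpec.hom x ∈ Set.range (PrimeSpectrum.comap
          (algebraMap Γ(P, ⊤) (Localization.Away (c b))))
        rw [PrimeSpectrum.localization_away_comap_range (Localization.Away (c b)) (c b)]
        exact hb
      by_cases ha : a ∈ (P.isoSpec.hom x).asIdeal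
      · refine ⟨false, hr false ?_⟩
        intro h1
        have h2 : (1 : Γ(P, ⊤)) ∈ (P.isoSpec.hom x).asIdeal := by
          have h3 : (1 : Γ(P, ⊤)) = (1 - a) + a := by ring
          rw [h3]
          exact Ideal.add_mem _ h1 ha
        exact (P.isoSpec.hom x).isPrime.ne_top ((Ideal.eq_top_iff_one _).mpr h2)
      · exact ⟨true, hr true ha⟩)
    (fun b => ⟨inferInstance, inferInstance⟩) (𝟙 P)
  obtain ⟨ψ, hψ⟩ := exists_retraction_of_section _ h hfac
  have hu : IsUnit (c b) := by
    have h1 : ∀ z, ψ.hom (algebraMap Γ(P, ⊤) (Localization.Away (c b)) z) = z := fun z => by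
      have h2 := congrArg (fun k => k.hom z) hψ
      exact h2
    have h2 : IsUnit (algebraMap Γ(P, ⊤) (Localization.Away (c b)) (c b)) :=
      IsLocalization.Away.algebraMap_isUnit (c b)
    have h3 := h2.map ψ.hom
    rwa [h1] at h3
  cases b
  · exact Or.inr hu
  · exact Or.inl hu

theorem isDomain_of_locFor (hP : LocFor P @IsFinite) : IsDomain Γ(P, ⊤) := by
  haveI : Nontrivial Γ(P, ⊤) := nontrivial_of_locFor hP
  haveI : NoZeroDivisors Γ(P, ⊤) := by
    refine ⟨fun {a b} hab => ?_⟩
    let c : Bool → Γ(P, ⊤) := fun i => if i then a else b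
    obtain ⟨i, h, hfac⟩ := hP.exists_lift
      (fun i => Spec (CommRingCat.of (Γ(P, ⊤) ⧸ Ideal.span {c i})))
      (fun i => Spec.map (CommRingCat.ofHom (Ideal.Quotient.mk (Ideal.span {c i}))) ≫
        P.isoSpec.inv)
      (fun x => by
        have hr : ∀ i : Bool, c i ∈ (P.isoSpec.hom x).asIdeal →
            x ∈ Set.range (Spec.map (CommRingCat.ofHom
              (Ideal.Quotient.mk (Ideal.span {c i}))) ≫ P.isoSpec.inv) := by
          intro i hi
          apply mem_range_of_mem
          change P.isoSpec.hom x ∈ Set.range (PrimeSpectrum.comap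
            (Ideal.Quotient.mk (Ideal.span {c i})))
          rw [range_comap_of_surjective _ _ Ideal.Quotient.mk_surjective, Ideal.mk_ker]
          exact (PrimeSpectrum.mem_zeroLocus
            (show PrimeSpectrum Γ(P, ⊤) from P.isoSpec.hom x) _).mpr
            ((Ideal.span_singleton_le_iff_mem _).mpr hi)
        have h0 : a * b ∈ (P.isoSpec.hom x).asIdeal := by
          rw [hab]
          exact Ideal.zero_mem _
        rcases (P.isoSpec.hom x).isPrime.mem_or_mem h0 with h1 | h1
        · exact ⟨true, hr true h1⟩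
        · exact ⟨false, hr false h1⟩)
      (fun i => inferInstance) (𝟙 P)
    obtain ⟨ψ, hψ⟩ := exists_retraction_of_section _ h hfac
    have h1 : ∀ z, ψ.hom (Ideal.Quotient.mk (Ideal.span {c i}) z) = z := fun z => by
      have h2 := congrArg (fun k => k.hom z) hψ
      exact h2
    have h2 : c i = 0 := by
      rw [← h1 (c i), Ideal.Quotient.eq_zero_iff_mem.mpr (Ideal.mem_span_singleton_self _),
        map_zero]
    cases i
    · exact Or.inr h2
    · exact Or.inl h2
  exact NoZeroDivisors.to_isDomain _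

theorem isAIC_of_locFor (hP : LocFor P @IsFinite) : Curves.IsAIC Γ(P, ⊤) := by
  intro f hf hd
  haveI : Module.Finite Γ(P, ⊤) (AdjoinRoot f) := hf.finite_adjoinRoot
  have hinj : Function.Injective (algebraMap Γ(P, ⊤) (AdjoinRoot f)) :=
    Groth.Agent.H9.AIC.adjoinRoot_of_injective hf hd
  haveI : FaithfulSMul Γ(P, ⊤) (AdjoinRoot f) :=
    (faithfulSMul_iff_algebraMap_injective _ _).mpr hinj
  have hfin : IsFinite (Spec.map (CommRingCat.ofHom
      (algebraMap Γ(P, ⊤) (AdjoinRoot f))) ≫ P.isoSpec.inv) := by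
    haveI : IsFinite (Spec.map (CommRingCat.ofHom (algebraMap Γ(P, ⊤) (AdjoinRoot f)))) :=
      (IsFinite.SpecMap_iff _).mpr (RingHom.finite_algebraMap.mpr inferInstance)
    infer_instance
  obtain ⟨_, h, hfac⟩ := hP.exists_lift (ι := Unit)
    (fun _ => Spec (CommRingCat.of (AdjoinRoot f)))
    (fun _ => Spec.map (CommRingCat.ofHom (algebraMap Γ(P, ⊤) (AdjoinRoot f))) ≫ P.isoSpec.inv)
    (fun x => by
      refine ⟨(), mem_range_of_mem _ x ?_⟩
      obtain ⟨y, hy⟩ := Algebra.IsIntegral.comap_surjective Γ(P, ⊤) (AdjoinRoot f)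
        (P.isoSpec.hom x)
      exact ⟨y, hy⟩)
    (fun _ => hfin) (𝟙 P)
  obtain ⟨ψ, hψ⟩ := exists_retraction_of_section _ h hfac
  have h1 : ∀ z, ψ.hom (algebraMap Γ(P, ⊤) (AdjoinRoot f) z) = z := fun z => by
    have h2 := congrArg (fun k => k.hom z) hψ
    exact h2
  refine ⟨ψ.hom (AdjoinRoot.root f), ?_⟩
  have h2 : Polynomial.eval₂ (ψ.hom.comp (algebraMap Γ(P, ⊤) (AdjoinRoot f)))
      (ψ.hom (AdjoinRoot.root f)) f =
      ψ.hom (Polynomial.eval₂ (algebraMap Γ(P, ⊤) (AdjoinRoot f)) (AdjoinRoot.root f) f) :=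
    (Polynomial.hom_eval₂ f _ ψ.hom (AdjoinRoot.root f)).symm
  rw [AdjoinRoot.algebraMap_eq, AdjoinRoot.eval₂_root, map_zero] at h2
  have h3 : ψ.hom.comp (AdjoinRoot.of f) = RingHom.id _ := by
    ext z
    rw [← AdjoinRoot.algebraMap_eq]
    exact h1 z
  rw [h3, Polynomial.eval₂_id] at h2
  exact h2

end Groth.Agent.H2.Rqfh
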