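import Mathlib
import Groth.Prelude.Def_Curves
import Groth.Agent.Lib.Helper2.RqfhC

/-! # Schemes local for Zariski and finite coverings, IV: the sufficient conditions. -/

set_option autoImplicit false
set_option linter.unusedVariables false
set_option linter.unusedSectionVars false
set_option linter.style.haveILetI false

universe u

open CategoryTheory CategoryTheory.Limits AlgebraicGeometry TopologicalSpace

namespace Groth.Agent.H2.Rqfh

variable {P : Scheme.{u}} [IsAffine P]

lemma exists_mem_range {Q : MorphismProperty Scheme.{u}} {X : Scheme.{u}} {R : Presieve X}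
    (hR : R ∈ Scheme.precoverage Q X) (x : X) :
    ∃ (Y : Scheme.{u}) (w : Y ⟶ X), R w ∧ Q w ∧ ∃ y : Y, w y = x := by
  have h1 := hR.1
  rw [Presieve.mem_comap_jointlySurjectivePrecoverage_iff] at h1
  obtain ⟨Y, w, hw, y, hy⟩ := h1 x
  exact ⟨Y, w, hw, hR.2 hw, y, hy⟩

theorem locFor_zariski_of_isLocalRing [IsLocalRing Γ(P, ⊤)] :
    LocFor P (@IsOpenImmersion ⊓ @QuasiCompact) := by
  intro X R hR g
  obtain ⟨Y, w, hw, hQ, y, hy⟩ := exists_mem_range hR
    (g (P.isoSpec.inv (IsLocalRing.closedPoint Γ(P, ⊤))))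
  haveI : IsOpenImmersion w := hQ.1
  have hrange : Set.range g ⊆ Set.range w := by
    rintro _ ⟨x, rfl⟩
    have h1 : (show PrimeSpectrum Γ(P, ⊤) from P.isoSpec.hom x) ⤳
        IsLocalRing.closedPoint Γ(P, ⊤) := IsLocalRing.specializes_closedPoint _
    have h2 : P.isoSpec.inv (P.isoSpec.hom x) ⤳
        P.isoSpec.inv (IsLocalRing.closedPoint Γ(P, ⊤)) := h1.map P.isoSpec.inv.continuous
    have h3 : P.isoSpec.inv (P.isoSpec.hom x) = x := by
      rw [← Scheme.Hom.comp_apply, Iso.hom_inv_id]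
      rfl
    rw [h3] at h2
    have h4 := h2.map g.continuous
    exact h4.mem_open w.isOpenEmbedding.isOpen_range ⟨y, hy⟩
  exact ⟨Y, w, IsOpenImmersion.lift w g hrange, hw, IsOpenImmersion.lift_fac w g hrange⟩

set_option maxHeartbeats 1600000 in
theorem locFor_finite_of_isAIC [IsDomain Γ(P, ⊤)] (hA : Curves.IsAIC Γ(P, ⊤)) :
    LocFor P @IsFinite := by
  intro X R hR g
  obtain ⟨η, hη⟩ : ∃ η : P, P.isoSpec.hom η =
      (⟨⊥, Ideal.isPrime_bot⟩ : PrimeSpectrum Γ(P, ⊤)) := by
    refine ⟨P.isoSpec.inv (⟨⊥, Ideal.isPrime_bot⟩ : PrimeSpectrum Γ(P, ⊤)), ?_⟩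
    rw [← Scheme.Hom.comp_apply, Iso.inv_hom_id]
    rfl
  obtain ⟨Y, w, hw, hQ, y, hy⟩ := exists_mem_range hR (g η)
  haveI : IsFinite w := hQ
  haveI : IsAffine (pullback w g) := isAffine_of_isAffineHom (pullback.snd w g)
  obtain ⟨z, hz1, hz2⟩ := Scheme.Pullback.exists_preimage_pullback (f := w) (g := g) y η hy
  have hαfin : ((pullback.snd w g).appTop).hom.Finite :=
    ((HasAffineProperty.iff_of_isAffine (P := @IsFinite)).mp
      (inferInstance : IsFinite (pullback.snd w g))).2
  have hq : ((pullback w g).isoSpec.hom z).asIdeal.comap ((pullback.snd w g).appTop).hom = ⊥ := by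
    have h1 : (Spec.map (pullback.snd w g).appTop) ((pullback w g).isoSpec.hom z) =
        P.isoSpec.hom (pullback.snd w g z) := by
      rw [← Scheme.Hom.comp_apply, ← Scheme.Hom.comp_apply, Scheme.isoSpec_hom_naturality]
    rw [hz2, hη] at h1
    exact congrArg PrimeSpectrum.asIdeal h1
  obtain ⟨ψ, hψ⟩ := exists_retraction hA _ hαfin.to_isIntegral
    ((pullback w g).isoSpec.hom z).asIdeal hq
  have hσ : (P.isoSpec.hom ≫ Spec.map (CommRingCat.ofHom ψ) ≫ (pullback w g).isoSpec.inv) ≫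
      pullback.snd w g = 𝟙 P := by
    simp only [Category.assoc]
    rw [← Scheme.isoSpec_inv_naturality, ← Spec.map_comp_assoc]
    have h1 : (pullback.snd w g).appTop ≫ CommRingCat.ofHom ψ = 𝟙 _ := by
      ext a
      exact congrArg (fun k => k a) hψ
    rw [h1, Spec.map_id, Category.id_comp, Iso.hom_inv_id]
  refine ⟨Y, w, (P.isoSpec.hom ≫ Spec.map (CommRingCat.ofHom ψ) ≫
    (pullback w g).isoSpec.inv) ≫ pullback.fst w g, hw, ?_⟩
  rw [Category.assoc, pullback.condition, ← Category.assoc, hσ, Category.id_comp]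

end Groth.Agent.H2.Rqfh
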