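import Groth.Agent.Lib.Helper2.KerLB
import Groth.Agent.Lib.Helper2.SeeZa
import Groth.Agent.Lib.Helper2.RqfhD
import Groth.Prelude.Def_AlgGrp

/-!
# `K(L)` is the kernel of `φ_L` (helper2)
-/

set_option autoImplicit false
set_option linter.style.haveILetI false
universe u

open CategoryTheory CategoryTheory.Limits AlgebraicGeometry Opposite TopologicalSpace
open MonoidalCategory CartesianMonoidalCategory MonObj

namespace Groth.Agent.H2.KerL

open Groth.Agent.LD.QC Groth.Agent.LD Groth.Agent.H5.PicLaw Groth.Agent.H2.TransInv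
  Groth.Agent.H2.ThetaA

section Main
variable {k : Type u} [Field k] (X Xt : Over (Spec (CommRingCat.of k)))
  [GrpObj X] [IsProper X.hom] [GeometricallyIntegral X.hom] [GrpObj Xt]
  (φ : ∀ T : Over (Spec (CommRingCat.of k)), PicF.Cl (PicF.XT X.hom T) → (T ⟶ Xt))
  (hφ : AbDual.IsDualAV Scheme.fppfPrecoverage X Xt φ)

include hφ in
omit [GrpObj X] [IsProper X.hom] [GeometricallyIntegral X.hom] in
/-- `φ` sends the trivial class to the unit. -/
theorem phi_unit (T : Over (Spec (CommRingCat.of k))) :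
    φ T (PicF.cl (Coh.structureModule (PicF.XT X.hom T))) = 1 := by
  have h := hφ.mul T (Coh.structureModule _) (Coh.structureModule _)
    (isPicZeroCl_unit X.hom T) (isPicZeroCl_unit X.hom T)
  have hcl : PicF.cl (CohB1.tensorMod (Coh.structureModule (PicF.XT X.hom T))
      (Coh.structureModule (PicF.XT X.hom T))) = PicF.cl (Coh.structureModule _) :=
    Quot.sound ⟨unitorL' _⟩
  rw [hcl] at h
  exact mul_eq_left.1 h.symm

variable (L : X.left.Modules) (hL : PicF.IsInvertible L)
  (N : (PicF.XT X.hom X).Modules) (hN : PicF.IsInvertible N)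
  (hΛ : AgPol.IsLambdaSheaf (μ[X].left : PicF.XT X.hom X ⟶ X.left) (fst X X).left (snd X X).left L N)

omit [GrpObj X] [IsProper X.hom] [GeometricallyIntegral X.hom] in
theorem XTmap_id (T : Over (Spec (CommRingCat.of k))) : PicF.XTmap X.hom (𝟙 T) = 𝟙 _ := by
  apply pullback.hom_ext
  · rw [See.XTmap_fst, Category.id_comp]
  · rw [See.XTmap_snd, Category.id_comp]
    exact (Category.comp_id _).symm

include hL hN hΛ in
/-- the class of a Mumford module lies in `Pic⁰`. -/
theorem isPicZeroCl_N : AbDual.IsPicZeroCl X.hom X (PicF.cl N) := by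
  have h := isPicZeroCl_Nz X L hL N hN hΛ (𝟙 X)
  have hcl : PicF.cl ((Scheme.Modules.pullback (PicF.XTmap X.hom (𝟙 X))).obj N) = PicF.cl N := by
    obtain ⟨e⟩ := nonempty_pullback_iso_of_eq (XTmap_id X X) N
    exact Quot.sound ⟨e ≪≫ (Scheme.Modules.pullbackId _).app N⟩
  rwa [hcl] at h

include hφ hL hN hΛ in
/-- naturality of `φ` on the Mumford class. -/
theorem phi_Nz {T : Over (Spec (CommRingCat.of k))} (z : T ⟶ X) :
    φ T (PicF.cl ((Scheme.Modules.pullback (PicF.XTmap X.hom z)).obj N)) = z ≫ φ X (PicF.cl N) :=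
  hφ.relPic.natural X T z (PicF.cl N) (isPicZeroCl_N X L hL N hN hΛ)

set_option maxHeartbeats 1600000 in
include hφ hL hN hΛ in
/-- if the pullback of `N` along `z` comes from the base then `φ` of its class is the unit. -/
theorem phi_eq_one_of_iso {T : Over (Spec (CommRingCat.of k))} (z : T ⟶ X)
    (M : T.left.Modules) (hM : PicF.IsInvertible M)
    (e : (Scheme.Modules.pullback (PicF.XTmap X.hom z)).obj N ≅
      (Scheme.Modules.pullback (snd X T).left).obj M) :
    φ T (PicF.cl ((Scheme.Modules.pullback (PicF.XTmap X.hom z)).obj N)) = 1 := by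
  apply Over.OverMorphism.ext
  apply Scheme.hom_ext_of_forall
  intro y
  obtain ⟨U, hyU, ⟨ψ⟩⟩ := hM y
  refine ⟨U, hyU, ?_⟩
  let T' : Over (Spec (CommRingCat.of k)) := AbDual.ovr T U.ι
  let j : T' ⟶ T := AbDual.ovrHom T U.ι
  have hnat := hφ.relPic.natural T T' j _ (isPicZeroCl_Nz X L hL N hN hΛ z)
  have hsnd : PicF.XTmap X.hom j ≫ (snd X T).left = PicF.XTproj X.hom T' ≫ U.ι :=
    See.XTmap_snd X.hom j
  obtain ⟨e₁⟩ := nonempty_pullback_iso_of_eq hsnd M
  have iso : (Scheme.Modules.pullback (PicF.XTmap X.hom j)).obj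
      ((Scheme.Modules.pullback (PicF.XTmap X.hom z)).obj N) ≅ Coh.structureModule _ :=
    (Scheme.Modules.pullback (PicF.XTmap X.hom j)).mapIso e ≪≫
      (Scheme.Modules.pullbackComp _ _).app M ≪≫ e₁ ≪≫
      ((Scheme.Modules.pullbackComp _ _).app M).symm ≪≫
      (Scheme.Modules.pullback (PicF.XTproj X.hom T')).mapIso
        (((Scheme.Modules.restrictFunctorIsoPullback U.ι).app M).symm ≪≫ ψ) ≪≫
      pbUnitIso _
  have hcl : PicF.pullCl (PicF.XTmap X.hom j)
      (PicF.cl ((Scheme.Modules.pullback (PicF.XTmap X.hom z)).obj N)) =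
      PicF.cl (Coh.structureModule _) := Quot.sound ⟨iso⟩
  rw [hcl, phi_unit X Xt φ hφ T'] at hnat
  have h2 : j ≫ (1 : T ⟶ Xt) = 1 := MonObj.comp_one j
  have h3 : j ≫ φ T (PicF.cl ((Scheme.Modules.pullback (PicF.XTmap X.hom z)).obj N)) =
      j ≫ (1 : T ⟶ Xt) := by rw [← hnat, h2]
  exact congrArg (fun ψ => ψ.left) h3

set_option maxHeartbeats 1600000 in
include hφ hL hN hΛ in
/-- if `φ` of the class of the pullback of `N` along `z` is the unit then it comes from the
base. -/
theorem exists_iso_of_phi_eq_one {T : Over (Spec (CommRingCat.of k))} (z : T ⟶ X)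
    (h : φ T (PicF.cl ((Scheme.Modules.pullback (PicF.XTmap X.hom z)).obj N)) = 1) :
    ∃ M : T.left.Modules, PicF.IsInvertible M ∧
      Nonempty ((Scheme.Modules.pullback (PicF.XTmap X.hom z)).obj N ≅
        (Scheme.Modules.pullback (snd X T).left).obj M) := by
  have hNz : PicF.IsInvertible ((Scheme.Modules.pullback (PicF.XTmap X.hom z)).obj N) :=
    isInvertible_pullback _ hN
  obtain ⟨R, hR, hloc⟩ := hφ.relPic.locallyInjective T _ _
    (isPicZeroCl_Nz X L hL N hN hΛ z) (isPicZeroCl_unit X.hom T)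
    (h.trans (phi_unit X Xt φ hφ T).symm)
  have hf : ∀ (T : Over (Spec (CommRingCat.of k))) (U : T.left.Opens),
      Function.Bijective ((PicF.XTproj X.hom T).app U) :=
    fun T U => ThetaE.bijective_snd_app X T U
  have key : ∀ y : T.left, ∃ (V' : T.left.Opens) (_ : y ∈ V')
      (σ : Γ((Scheme.Modules.pullback (PicF.XTmap X.hom z)).obj N, (PicF.XTproj X.hom T) ⁻¹ᵁ V')),
      IsBasisOver ((Scheme.Modules.pullback (PicF.XTmap X.hom z)).obj N)
        ((PicF.XTproj X.hom T) ⁻¹ᵁ V') σ := by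
    intro y
    obtain ⟨Y', w, hw, hQ, v, hv⟩ := Rqfh.exists_mem_range
      (Q := (@Flat ⊓ @LocallyOfFinitePresentation : MorphismProperty Scheme.{u})) hR y
    haveI : Flat w := hQ.1
    haveI : LocallyOfFinitePresentation w := hQ.2
    have hcl := hloc w hw
    obtain ⟨φ₁⟩ := (FF.cl_eq_iff _ _).1 hcl
    have φ' : (Scheme.Modules.pullback
        (PicF.XTmap X.hom (Over.homMk w : Over.mk (w ≫ T.hom) ⟶ T))).obj
          ((Scheme.Modules.pullback (PicF.XTmap X.hom z)).obj N) ≅
        (Scheme.Modules.pullback (PicF.XTproj X.hom (Over.mk (w ≫ T.hom)))).obj (unitMod Y') :=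
      φ₁ ≪≫ pbUnitIso _ ≪≫ (pbUnitIso _).symm
    obtain ⟨V', hV', σ, hσ⟩ :=
      See.exists_basis_of_flat_open_nbhd X.hom hf T _ hNz w (unitMod Y') (isInvertible_unit _) φ' v
    rw [hv] at hV'
    exact ⟨V', hV', σ, hσ⟩
  obtain ⟨hMi, hc⟩ := See.isInvertible_pushforward_and_isIso_counit_of_local_basis
    (PicF.XTproj X.hom T) (hf T) _ key
  haveI := hc
  exact ⟨_, hMi, ⟨(asIso ((Scheme.Modules.pullbackPushforwardAdjunction
    (PicF.XTproj X.hom T)).counit.app _)).symm⟩⟩

end Main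

end Groth.Agent.H2.KerL
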