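import Groth.Agent.Lib.Helper2.KerLC

/-!
# `K(L)` is the kernel of `φ_L`: the cartesian square (helper2)
-/

set_option autoImplicit false
set_option linter.style.haveILetI false
universe u

open CategoryTheory CategoryTheory.Limits AlgebraicGeometry Opposite TopologicalSpace
open MonoidalCategory CartesianMonoidalCategory MonObj

namespace Groth.Agent.H2.KerL

open Groth.Agent.LD.QC Groth.Agent.LD Groth.Agent.H5.PicLaw Groth.Agent.H2.TransInv
  Groth.Agent.H2.ThetaA

section Main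
variable {k : Type u} [Field k] (X Xt : Over (Spec (CommRingCat.of k)))
  [GrpObj X] [IsProper X.hom] [GeometricallyIntegral X.hom] [GrpObj Xt]
  (φ : ∀ T : Over (Spec (CommRingCat.of k)), PicF.Cl (PicF.XT X.hom T) → (T ⟶ Xt))
  (hφ : AbDual.IsDualAV Scheme.fppfPrecoverage X Xt φ)
  (L : X.left.Modules) (hL : PicF.IsInvertible L) (lam : X ⟶ Xt)
  (hlam : AgPol.IsLambda X Xt φ L lam)
  {K : Over (Spec (CommRingCat.of k))} (i : K ⟶ X) (hK : ThetaGrp.IsKL X L i)

include hφ hL hlam hK in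
/-- the points of `K(L)` are the points killed by `φ_L`. -/
theorem factors_iff_comp_eq_one (T : Over (Spec (CommRingCat.of k))) (z : T ⟶ X) :
    z ≫ lam = 1 ↔ ∃ y : T ⟶ K, y ≫ i = z := by
  obtain ⟨N, hN, hΛ, rfl⟩ := hlam
  rw [← phi_Nz X Xt φ hφ L hL N hN hΛ z, ← hK.univ T z, mumfordTriv_iff X L hL N hN hΛ z]
  constructor
  · exact exists_iso_of_phi_eq_one X Xt φ hφ L hL N hN hΛ z
  · rintro ⟨M, hM, ⟨e⟩⟩
    exact phi_eq_one_of_iso X Xt φ hφ L hL N hN hΛ z M hM e

include hφ hL hlam hK in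
/-- **S19775** -/
theorem s19775 : AlgGrp.IsKernel i lam := by
  have core := factors_iff_comp_eq_one X Xt φ hφ L hL lam hlam i hK
  haveI : IsClosedImmersion i.left := hK.closed
  haveI : Mono i.left := inferInstance
  haveI : Mono i := Over.mono_of_mono_left i
  have hone : ∀ T : Over (Spec (CommRingCat.of k)), (1 : T ⟶ Xt) = toUnit T ≫ η[Xt] :=
    fun T => Hom.one_def
  have w : i ≫ lam = toUnit K ≫ η[Xt] := by
    rw [← hone]
    exact (core K i).2 ⟨𝟙 K, Category.id_comp i⟩
  have hs : ∀ s : PullbackCone lam η[Xt], ∃ y : s.pt ⟶ K, y ≫ i = s.fst := by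
    intro s
    refine (core s.pt s.fst).1 ?_
    rw [s.condition, hone, toUnit_unique s.snd (toUnit s.pt)]
  refine ⟨⟨w⟩, ⟨PullbackCone.IsLimit.mk w (fun s => (hs s).choose)
    (fun s => (hs s).choose_spec) (fun s => toUnit_unique _ _) ?_⟩⟩
  intro s m hm _
  exact (cancel_mono i).1 (hm.trans (hs s).choose_spec.symm)

end Main

end Groth.Agent.H2.KerL
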