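import Mathlib
import Groth.Prelude.Def_ega3
import Groth.Agent.Lib.Helper2.Kos7

/-!
# The long exact sequence of Koszul cohomology for `0 → M → M → M/yM → 0` with `y ∈ (xs)`
-/

open CategoryTheory CategoryTheory.Limits CochainComplex HomologicalComplex
  CochainComplex.HomComplex

universe u

namespace Groth.Agent.H2.Kos

variable {A : Type u} [CommRing A]

open CohIII

section LES

variable (M : ModuleCat.{u} A) (xs : List A) (y : A) (hy : y ∈ Ideal.span {x | x ∈ xs})
  (hreg : IsSMulRegular M y)

include hy in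
lemma homologyMap_smul_eq_zero (i : ℤ) :
    HomologicalComplex.homologyMap (y • 𝟙 (koszulCx M xs)) i = 0 := by
  obtain ⟨ho⟩ := nonempty_homotopy_of_mem_ideal M xs y hy
  rw [ho.homologyMap_eq i, HomologicalComplex.homologyMap_zero]

include hy in
lemma homologyMap_kSC_f_eq_zero (i : ℤ) :
    HomologicalComplex.homologyMap (kSC (M.smulShortComplex y) xs).f i = 0 := by
  have : (kSC (M.smulShortComplex y) xs).f = y • 𝟙 (koszulCx M xs) := kmap_smul_id M y xs
  rw [this]
  exact homologyMap_smul_eq_zero M xs y hy i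

include hy hreg in
/-- If `H^i(M/yM) = 0` then `H^{i+1}(M) = 0`. -/
theorem isZero_succ_of_quot (i : ℤ)
    (h : IsZero ((koszulCx (ModuleCat.of A (QuotSMulTop y M)) xs).homology i)) :
    IsZero ((koszulCx M xs).homology (i + 1)) := by
  have hS := kSC_shortExact _ hreg.smulShortComplex_shortExact xs
  have hex := hS.homology_exact₁ i (i + 1) rfl
  exact hex.isZero_X₂ (h.eq_of_src _ _) (homologyMap_kSC_f_eq_zero M xs y hy (i + 1))

include hy hreg in
/-- If `H^i(M/yM) = 0` then `H^i(M) = 0`. -/
theorem isZero_of_quot (i : ℤ)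
    (h : IsZero ((koszulCx (ModuleCat.of A (QuotSMulTop y M)) xs).homology i)) :
    IsZero ((koszulCx M xs).homology i) := by
  have hS := kSC_shortExact _ hreg.smulShortComplex_shortExact xs
  have hex := hS.homology_exact₂ i
  exact hex.isZero_X₂ (homologyMap_kSC_f_eq_zero M xs y hy i) (h.eq_of_tgt _ _)

include hy hreg in
/-- If `H^i(M) = 0` and `H^i(M/yM) ≠ 0` then `H^{i+1}(M) ≠ 0`. -/
theorem not_isZero_succ (i : ℤ) (h0 : IsZero ((koszulCx M xs).homology i))
    (h1 : ¬ IsZero ((koszulCx (ModuleCat.of A (QuotSMulTop y M)) xs).homology i)) :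
    ¬ IsZero ((koszulCx M xs).homology (i + 1)) := by
  intro h2
  have hS := kSC_shortExact _ hreg.smulShortComplex_shortExact xs
  have hex := hS.homology_exact₃ i (i + 1) rfl
  exact h1 (hex.isZero_X₂ (h0.eq_of_src _ _) (h2.eq_of_tgt _ _))

end LES

lemma isZero_homology_of_lt (M : ModuleCat.{u} A) (xs : List A) (i : ℤ)
    (hi : i < -(xs.length : ℤ)) : IsZero ((koszulCx M xs).homology i) :=
  (HomologicalComplex.ExactAt.of_isZero (isZero_X_of_lt M xs i hi)).isZero_homology

end Groth.Agent.H2.Kos
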