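import Mathlib
import Groth.Prelude.Def_ega3
import Groth.Agent.Lib.Helper2.Kos8

/-!
# The bottom Koszul cohomology: elements killed by all `x ∈ xs`
-/

open CategoryTheory CategoryTheory.Limits CochainComplex HomologicalComplex
  CochainComplex.HomComplex

universe u

namespace Groth.Agent.H2.Kos

variable {A : Type u} [CommRing A]

open CohIII

/-- A nonzero cycle in a degree with nothing below it gives nonzero homology. -/
theorem not_isZero_homology_of_cycle (K : CochainComplex (ModuleCat.{u} A) ℤ) (k : ℤ)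
    (h0 : IsZero (K.X (k - 1))) (c : K.X k) (hc : c ≠ 0) (hd : (K.d k (k + 1)).hom c = 0) :
    ¬ IsZero (K.homology k) := by
  intro hz
  let S := K.sc' (k - 1) k (k + 1)
  let e1 : K.homology k ≅ S.homology := K.homologyIsoSc' (k - 1) k (k + 1) (by simp) (by simp)
  let e2 := S.moduleCatHomologyIso
  have hz' : IsZero S.moduleCatLeftHomologyData.H := hz.of_iso (e1 ≪≫ e2).symm
  have hsub := ModuleCat.subsingleton_of_isZero hz'
  let cc : LinearMap.ker S.g.hom := ⟨c, hd⟩
  have h1 : (LinearMap.range S.moduleCatToCycles).mkQ cc = 0 := @Subsingleton.elim _ hsub _ _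
  rw [Submodule.mkQ_apply, Submodule.Quotient.mk_eq_zero] at h1
  obtain ⟨z, hz1⟩ := h1
  have hz0 : z = 0 := isZero_elim h0 z
  apply hc
  have := congrArg Subtype.val hz1
  rw [hz0, map_zero] at this
  exact this.symm

section cone

variable {M : Type u} [AddCommGroup M] [Module A M]

theorem bottom_cone (K' : CochainComplex (ModuleCat.{u} A) ℤ) (f : A) (k : ℤ)
    (ι' : M →ₗ[A] K'.X (k + 1)) (hι' : Function.Injective ι') :
    ∃ ι : M →ₗ[A] (mappingCone (f • 𝟙 K')).X k, Function.Injective ι ∧
      ∀ m : M, f • m = 0 → (∀ k'', (K'.d (k + 1) k'').hom (ι' m) = 0) →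
        ∀ k', ((mappingCone (f • 𝟙 K')).d k k').hom (ι m) = 0 := by
  let φ : K' ⟶ K' := f • 𝟙 K'
  refine ⟨((mappingCone.inl φ).v (k + 1) k (by omega)).hom ∘ₗ ι', ?_, ?_⟩
  · intro a b hab
    apply hι'
    have h1 : ∀ y : K'.X (k + 1), ((mappingCone.fst φ).1.v k (k + 1) rfl).hom
        (((mappingCone.inl φ).v (k + 1) k (by omega)).hom y) = y := fun y =>
      congrArg (fun g => g.hom y) (mappingCone.inl_v_fst_v φ (k + 1) k rfl)
    have := congrArg ((mappingCone.fst φ).1.v k (k + 1) rfl).hom hab
    simpa only [LinearMap.coe_comp, Function.comp_apply, h1] using this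
  · intro m hfm hd k'
    by_cases hk : k + 1 = k'
    · subst hk
      simp only [LinearMap.coe_comp, Function.comp_apply]
      rw [d_inl_apply φ (k + 1) k (k + 1 + 1) (by omega) (by omega), hd, map_zero, sub_zero]
      have : (φ.f (k + 1)).hom (ι' m) = f • ι' m := by simp [φ]
      rw [this, ← LinearMap.map_smul, hfm, map_zero, map_zero]
    · have : (mappingCone φ).d k k' = 0 := (mappingCone φ).shape _ _ hk
      rw [this]
      rfl

end cone

theorem exists_bottom (M : Type u) [AddCommGroup M] [Module A M] (xs : List A) (k : ℤ)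
    (hk : k = -(xs.length : ℤ)) :
    ∃ ι : M →ₗ[A] (koszulCx (ModuleCat.of A M) xs).X k, Function.Injective ι ∧
      ∀ m : M, (∀ x ∈ xs, x • m = 0) →
        ∀ k', ((koszulCx (ModuleCat.of A M) xs).d k k').hom (ι m) = 0 := by
  induction xs generalizing k with
  | nil =>
    simp only [List.length_nil, Nat.cast_zero, neg_zero] at hk
    subst hk
    let e : (koszulCx (ModuleCat.of A M) []).X 0 ≃ₗ[A] M :=
      (HomologicalComplex.singleObjXSelf (ComplexShape.up ℤ) 0 (ModuleCat.of A M)).toLinearEquiv
    refine ⟨e.symm.toLinearMap, e.symm.injective, ?_⟩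
    intro m _ k'
    by_cases hk' : k' = 0
    · subst hk'
      have : (koszulCx (ModuleCat.of A M) []).d 0 0 = 0 :=
        (koszulCx (ModuleCat.of A M) []).shape _ _ (by simp)
      rw [this]
      rfl
    · have : (koszulCx (ModuleCat.of A M) []).d 0 k' = 0 :=
        (HomologicalComplex.isZero_single_obj_X (ComplexShape.up ℤ) 0 (ModuleCat.of A M) k'
          hk').eq_of_tgt _ _
      rw [this]
      rfl
  | cons f fs ih =>
    simp only [List.length_cons, Nat.cast_add, Nat.cast_one] at hk
    obtain ⟨ι', hι', hd'⟩ := ih (k + 1) (by omega)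
    obtain ⟨ι, hι, hd⟩ := bottom_cone (koszulCx (ModuleCat.of A M) fs) f k ι' hι'
    refine ⟨ι, hι, ?_⟩
    intro m hm k'
    exact hd m (hm f (List.mem_cons_self ..))
      (hd' m fun x hx => hm x (List.mem_cons_of_mem _ hx)) k'

theorem not_isZero_bottom (M : Type u) [AddCommGroup M] [Module A M] (xs : List A) (m : M)
    (hm0 : m ≠ 0) (hm : ∀ x ∈ xs, x • m = 0) :
    ¬ IsZero ((koszulCx (ModuleCat.of A M) xs).homology (-(xs.length : ℤ))) := by
  obtain ⟨ι, hι, hd⟩ := exists_bottom M xs _ rfl
  apply not_isZero_homology_of_cycle _ _ (isZero_X_of_lt _ xs _ (by omega)) (ι m)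
  · intro h
    exact hm0 (hι (h.trans (map_zero ι).symm))
  · exact hd m hm _

/-- Lemma B: over a Noetherian ring, if no element of `(xs)` is regular on the finite module `M`
then the bottom Koszul cohomology is nonzero. -/
theorem not_isZero_bottom_of_forall_not_regular [IsNoetherianRing A] (M : Type u) [AddCommGroup M]
    [Module A M] [Module.Finite A M] (xs : List A)
    (h : ∀ z ∈ Ideal.span {x | x ∈ xs}, ¬ IsSMulRegular M z) :
    ¬ IsZero ((koszulCx (ModuleCat.of A M) xs).homology (-(xs.length : ℤ))) := by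
  classical
  have hfin : (associatedPrimes A M).Finite := associatedPrimes.finite A M
  have hsub : ((Ideal.span {x | x ∈ xs} : Ideal A) : Set A) ⊆
      ⋃ p ∈ (↑hfin.toFinset : Set (Ideal A)), ((id p : Ideal A) : Set A) := by
    intro z hz
    have h1 : z ∈ {r : A | IsSMulRegular M r}ᶜ := h z hz
    rw [← biUnion_associatedPrimes_eq_compl_regular A M] at h1
    simpa using h1
  have hp : ∀ i ∈ hfin.toFinset, i ≠ (⊥ : Ideal A) → i ≠ (⊥ : Ideal A) →
      Ideal.IsPrime (id i : Ideal A) := by
    intro p hp _ _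
    rw [Set.Finite.mem_toFinset] at hp
    exact hp.1
  obtain ⟨p, hp', hle⟩ := (Ideal.subset_union_prime (s := hfin.toFinset) (f := id) ⊥ ⊥ hp).mp hsub
  rw [Set.Finite.mem_toFinset] at hp'
  obtain ⟨hpp, m, hpm⟩ := (isAssociatedPrime_iff).mp hp'
  have hm0 : m ≠ 0 := by
    rintro rfl
    apply hpp.ne_top
    rw [hpm]
    ext r
    simp [Submodule.mem_colon_singleton]
  apply not_isZero_bottom M xs m hm0
  intro x hx
  have : x ∈ (id p : Ideal A) := hle (Ideal.subset_span hx)
  change x ∈ p at this
  rw [hpm, Submodule.mem_colon_singleton] at this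
  simpa using this

end Groth.Agent.H2.Kos
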