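import Mathlib
import Groth.Prelude.Def_CAlg
import Groth.Prelude.Def_ega3
import Groth.Agent.Lib.Helper2.Kos9

/-!
# Depth sensitivity of the Koszul complex
-/

open CategoryTheory CategoryTheory.Limits CochainComplex HomologicalComplex
  CochainComplex.HomComplex

universe u

namespace Groth.Agent.H2.Kos

variable {A : Type u} [CommRing A]

open CohIII RingTheory.Sequence

lemma isZero_homology_cast (K : CochainComplex (ModuleCat.{u} A) ℤ) {i j : ℤ} (h : i = j)
    (hz : IsZero (K.homology i)) : IsZero (K.homology j) := by
  subst h
  exact hz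

/-- Vanishing below the length of a regular sequence contained in `(xs)`. -/
theorem isZero_of_lt_length (xs : List A) (ys : List A) (M : Type u) [AddCommGroup M] [Module A M]
    (hreg : IsWeaklyRegular M ys) (hys : ∀ y ∈ ys, y ∈ Ideal.span {x | x ∈ xs}) (p : ℕ)
    (hp : p < ys.length) :
    IsZero ((koszulCx (ModuleCat.of A M) xs).homology ((p : ℤ) - (xs.length : ℤ))) := by
  induction ys generalizing M p with
  | nil => simp at hp
  | cons y ys ih =>
    rw [isWeaklyRegular_cons_iff] at hreg
    have hy : y ∈ Ideal.span {x | x ∈ xs} := hys y (List.mem_cons_self ..)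
    rcases Nat.eq_zero_or_pos p with h0 | hpos
    · subst h0
      have h1 := isZero_succ_of_quot (ModuleCat.of A M) xs y hy hreg.1 (-(xs.length : ℤ) - 1)
        (isZero_homology_of_lt _ xs _ (by omega))
      exact isZero_homology_cast _ (by push_cast; ring) h1
    · obtain ⟨p', rfl⟩ : ∃ p', p = p' + 1 := ⟨p - 1, by omega⟩
      have h2 := ih (QuotSMulTop y M) hreg.2 (fun z hz => hys z (List.mem_cons_of_mem _ hz)) p'
        (by simp only [List.length_cons] at hp; omega)
      have h1 := isZero_succ_of_quot (ModuleCat.of A M) xs y hy hreg.1 _ h2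
      exact isZero_homology_cast _ (by push_cast; ring) h1

/-- Non-vanishing at the length of a maximal regular sequence contained in `(xs)`. -/
theorem not_isZero_at_length [IsNoetherianRing A] (xs : List A) (ys : List A) (M : Type u)
    [AddCommGroup M] [Module A M] [Module.Finite A M]
    (hreg : IsWeaklyRegular M ys) (hys : ∀ y ∈ ys, y ∈ Ideal.span {x | x ∈ xs})
    (hmax : ∀ z ∈ Ideal.span {x | x ∈ xs}, ¬ IsWeaklyRegular M (ys ++ [z])) :
    ¬ IsZero ((koszulCx (ModuleCat.of A M) xs).homology ((ys.length : ℤ) - (xs.length : ℤ))) := by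
  induction ys generalizing M with
  | nil =>
    have h1 := not_isZero_bottom_of_forall_not_regular M xs (fun z hz hr =>
      hmax z hz (by simpa [isWeaklyRegular_singleton_iff] using hr))
    intro h
    exact h1 (isZero_homology_cast _ (by simp) h)
  | cons y ys ih =>
    have hreg' := hreg
    rw [isWeaklyRegular_cons_iff] at hreg
    have hy : y ∈ Ideal.span {x | x ∈ xs} := hys y (List.mem_cons_self ..)
    haveI : Module.Finite A (QuotSMulTop y M) := Module.Finite.quotient A _
    have h2 := ih (QuotSMulTop y M) hreg.2 (fun z hz => hys z (List.mem_cons_of_mem _ hz))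
      (fun z hz hr => hmax z hz (by
        rw [List.cons_append, isWeaklyRegular_cons_iff]
        exact ⟨hreg.1, hr⟩))
    have h0 := isZero_of_lt_length xs (y :: ys) M hreg' hys ys.length (by simp)
    have h1 := not_isZero_succ (ModuleCat.of A M) xs y hy hreg.1 _ h0 h2
    intro h
    exact h1 (isZero_homology_cast _ (by simp only [List.length_cons]; push_cast; ring) h)

/-- The top Koszul cohomology of a finite nonzero module over a local ring is nonzero. -/
theorem not_isZero_top [IsLocalRing A] (xs : List A)
    (hxs : ∀ x ∈ xs, x ∈ IsLocalRing.maximalIdeal A) (M : Type u) [AddCommGroup M] [Module A M]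
    [Module.Finite A M] [Nontrivial M] :
    ¬ IsZero ((koszulCx (ModuleCat.of A M) xs).homology 0) := by
  intro h
  obtain ⟨e⟩ := nonempty_homology0_equiv_quot M xs
  have hsub : Subsingleton ((koszulCx (ModuleCat.of A M) xs).homology 0) :=
    ModuleCat.subsingleton_of_isZero h
  have hsub' : Subsingleton (M ⧸ (Ideal.ofList xs • (⊤ : Submodule A M))) :=
    e.symm.injective.subsingleton
  rw [Submodule.Quotient.subsingleton_iff] at hsub'
  have hle : Ideal.ofList xs ≤ (Module.annihilator A M).jacobson := by
    refine le_trans ?_ (IsLocalRing.maximalIdeal_le_jacobson _)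
    exact Ideal.span_le.mpr fun x hx => hxs x hx
  exact Submodule.top_ne_ideal_smul_of_le_jacobson_annihilator hle hsub'.symm

end Groth.Agent.H2.Kos
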