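import Mathlib
import Groth.Prelude.Def_Koszul
import Groth.Agent.Lib.Helper2.Kos2

/-!
# Scaling the differential of a complex; Koszul complex of `x • l`
-/

open CategoryTheory CategoryTheory.Limits CochainComplex HomologicalComplex
  CochainComplex.HomComplex

universe u

namespace Groth.Agent.H2.Kos

section general

variable {R : Type*} [CommRing R] {C : Type*} [Category C] [Preadditive C] [Linear R C]

/-- the complex with the same terms and differential `x • d` -/
abbrev scale (x : R) (K : CochainComplex C ℤ) : CochainComplex C ℤ where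
  X := K.X
  d i j := x • K.d i j
  shape i j h := by rw [K.shape i j h, smul_zero]
  d_comp_d' i j k _ _ := by
    rw [Linear.smul_comp, Linear.comp_smul, K.d_comp_d, smul_zero, smul_zero]

@[simp] lemma scale_X (x : R) (K : CochainComplex C ℤ) (n : ℤ) : (scale x K).X n = K.X n := rfl

@[simp] lemma scale_d (x : R) (K : CochainComplex C ℤ) (i j : ℤ) :
    (scale x K).d i j = x • K.d i j := rfl

/-- functoriality of `scale` -/
def scaleMap (x : R) {K L : CochainComplex C ℤ} (f : K ⟶ L) : scale x K ⟶ scale x L where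
  f n := f.f n
  comm' i j _ := by
    change f.f i ≫ (x • L.d i j) = (x • K.d i j) ≫ f.f j
    rw [Linear.comp_smul, Linear.smul_comp, f.comm]

@[simp] lemma scaleMap_f (x : R) {K L : CochainComplex C ℤ} (f : K ⟶ L) (n : ℤ) :
    (scaleMap x f).f n = f.f n := rfl

lemma scaleMap_id (x : R) (K : CochainComplex C ℤ) : scaleMap x (𝟙 K) = 𝟙 (scale x K) := by
  ext n; rfl

lemma scaleMap_comp (x : R) {K L M : CochainComplex C ℤ} (f : K ⟶ L) (g : L ⟶ M) :
    scaleMap x (f ≫ g) = scaleMap x f ≫ scaleMap x g := by
  ext n; rfl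

/-- `scale` of an iso -/
def scaleIso (x : R) {K L : CochainComplex C ℤ} (e : K ≅ L) : scale x K ≅ scale x L where
  hom := scaleMap x e.hom
  inv := scaleMap x e.inv
  hom_inv_id := by rw [← scaleMap_comp, e.hom_inv_id, scaleMap_id]
  inv_hom_id := by rw [← scaleMap_comp, e.inv_hom_id, scaleMap_id]

variable [HasBinaryBiproducts C]

section cone

variable (x f : R) (K : CochainComplex C ℤ)

/-- forward components -/
noncomputable def coneScaleHom (n : ℤ) :
    (mappingCone ((x * f) • 𝟙 (scale x K))).X n ⟶ (mappingCone (f • 𝟙 K)).X n :=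
  (mappingCone.fst ((x * f) • 𝟙 (scale x K))).1.v n (n + 1) rfl ≫
      (mappingCone.inl (f • 𝟙 K)).v (n + 1) n (by omega) +
    (mappingCone.snd ((x * f) • 𝟙 (scale x K))).v n n (add_zero n) ≫
      (mappingCone.inr (f • 𝟙 K)).f n

/-- backward components -/
noncomputable def coneScaleInv (n : ℤ) :
    (mappingCone (f • 𝟙 K)).X n ⟶ (mappingCone ((x * f) • 𝟙 (scale x K))).X n :=
  (mappingCone.fst (f • 𝟙 K)).1.v n (n + 1) rfl ≫
      (mappingCone.inl ((x * f) • 𝟙 (scale x K))).v (n + 1) n (by omega) +
    (mappingCone.snd (f • 𝟙 K)).v n n (add_zero n) ≫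
      (mappingCone.inr ((x * f) • 𝟙 (scale x K))).f n

lemma coneScale_hom_inv (n : ℤ) : coneScaleHom x f K n ≫ coneScaleInv x f K n = 𝟙 _ := by
  simp only [coneScaleHom, coneScaleInv, Preadditive.add_comp, Preadditive.comp_add, Category.assoc,
    mappingCone.inl_v_fst_v_assoc, mappingCone.inl_v_snd_v_assoc, mappingCone.inr_f_fst_v_assoc,
    mappingCone.inr_f_snd_v_assoc, zero_comp, comp_zero, add_zero, zero_add]
  exact (mappingCone.id_X ((x * f) • 𝟙 (scale x K)) n (n + 1) rfl)

lemma coneScale_inv_hom (n : ℤ) : coneScaleInv x f K n ≫ coneScaleHom x f K n = 𝟙 _ := by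
  simp only [coneScaleHom, coneScaleInv, Preadditive.add_comp, Preadditive.comp_add, Category.assoc,
    mappingCone.inl_v_fst_v_assoc, mappingCone.inl_v_snd_v_assoc, mappingCone.inr_f_fst_v_assoc,
    mappingCone.inr_f_snd_v_assoc, zero_comp, comp_zero, add_zero, zero_add]
  exact (mappingCone.id_X (f • 𝟙 K) n (n + 1) rfl)

lemma inl_coneScaleHom (n : ℤ) :
    (mappingCone.inl ((x * f) • 𝟙 (scale x K))).v (n + 1) n (by omega) ≫ coneScaleHom x f K n =
      (mappingCone.inl (f • 𝟙 K)).v (n + 1) n (by omega) := by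
  simp [coneScaleHom]

lemma inr_coneScaleHom (n : ℤ) :
    (mappingCone.inr ((x * f) • 𝟙 (scale x K))).f n ≫ coneScaleHom x f K n =
      (mappingCone.inr (f • 𝟙 K)).f n := by
  simp [coneScaleHom]

/-- the cone of `x f` on `scale x K` is `scale x` of the cone of `f` on `K` -/
noncomputable def coneScaleIso :
    mappingCone ((x * f) • 𝟙 (scale x K)) ≅ scale x (mappingCone (f • 𝟙 K)) :=
  HomologicalComplex.Hom.isoOfComponents
    (fun n => ⟨coneScaleHom x f K n, coneScaleInv x f K n, coneScale_hom_inv x f K n,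
      coneScale_inv_hom x f K n⟩)
    (by
      intro i j hij
      have hij' : i + 1 = j := hij
      subst hij'
      change coneScaleHom x f K i ≫ (x • (mappingCone (f • 𝟙 K)).d i (i + 1)) =
        (mappingCone ((x * f) • 𝟙 (scale x K))).d i (i + 1) ≫ coneScaleHom x f K (i + 1)
      rw [mappingCone.ext_from_iff _ (i + 1) i rfl]
      constructor
      · rw [← Category.assoc, inl_coneScaleHom, Linear.comp_smul,
          mappingCone.inl_v_d _ (i + 1) i (i + 1 + 1) (by omega) (by omega),
          mappingCone.inl_v_d_assoc _ (i + 1) i (i + 1 + 1) (by omega) (by omega)]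
        simp only [Preadditive.sub_comp, Category.assoc, inl_coneScaleHom, inr_coneScaleHom]
        simp only [HomologicalComplex.smul_f_apply, HomologicalComplex.id_f, scale_d,
          Linear.smul_comp, Category.id_comp, smul_sub, mul_smul]
      · rw [← Category.assoc, inr_coneScaleHom, Linear.comp_smul, mappingCone.inr_f_d,
          mappingCone.inr_f_d_assoc, inr_coneScaleHom]
        simp only [scale_d, Linear.smul_comp])

end cone

end general

section koszul

variable (A : Type u) [CommRing A]

/-- iso of cones from isos of the complexes -/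
noncomputable def coneIsoOfIso {K L : CochainComplex (ModuleCat.{u} A) ℤ} (r : A) (e : K ≅ L) :
    mappingCone (r • 𝟙 K) ≅ mappingCone (r • 𝟙 L) where
  hom := mappingCone.map (r • 𝟙 K) (r • 𝟙 L) e.hom e.hom (by simp)
  inv := mappingCone.map (r • 𝟙 L) (r • 𝟙 K) e.inv e.inv (by simp)
  hom_inv_id := by
    rw [← mappingCone.map_comp]
    simp only [e.hom_inv_id]
    exact mappingCone.map_id _
  inv_hom_id := by
    rw [← mappingCone.map_comp]
    simp only [e.inv_hom_id]
    exact mappingCone.map_id _

/-- the base case -/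
noncomputable def scaleSingleIso (x : A) (M : ModuleCat.{u} A) :
    (CochainComplex.singleFunctor (ModuleCat.{u} A) 0).obj M ≅
      scale x ((CochainComplex.singleFunctor (ModuleCat.{u} A) 0).obj M) :=
  HomologicalComplex.Hom.isoOfComponents (fun n => Iso.refl _) (by
    intro i j _
    change 𝟙 _ ≫ (x • ((CochainComplex.singleFunctor (ModuleCat.{u} A) 0).obj M).d i j) =
      ((CochainComplex.singleFunctor (ModuleCat.{u} A) 0).obj M).d i j ≫ 𝟙 _
    have : ((CochainComplex.singleFunctor (ModuleCat.{u} A) 0).obj M).d i j = 0 := rfl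
    rw [this, smul_zero, comp_zero, zero_comp])

/-- Koszul complex of `x • l` -/
noncomputable def koszulScaleIso (x : A) : ∀ l : List A,
    Koszul.koszul A (l.map (fun f => x * f)) ≅ scale x (Koszul.koszul A l)
  | [] => scaleSingleIso A x (ModuleCat.of A A)
  | f :: l =>
    (coneIsoOfIso A (x * f) (koszulScaleIso x l)) ≪≫ coneScaleIso x f (Koszul.koszul A l)

end koszul

end Groth.Agent.H2.Kos
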