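import Mathlib
import Groth.Prelude.Def_Koszul
import Groth.Agent.Lib.Helper2.Kos11

/-!
# Homology of the scaled complex; Koszul complex of `x • l` (S15815, S15816)
-/

open CategoryTheory CategoryTheory.Limits CochainComplex HomologicalComplex
  CochainComplex.HomComplex

open Pointwise

universe u

namespace Groth.Agent.H2.Kos

section linalg

variable {A : Type u} [CommRing A] {M₁ M₂ M₃ : Type u} [AddCommGroup M₁] [AddCommGroup M₂]
  [AddCommGroup M₃] [Module A M₁] [Module A M₂] [Module A M₃]

lemma ker_smul_eq (x : A) (g : M₂ →ₗ[A] M₃) (hreg : IsSMulRegular M₃ x) :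
    LinearMap.ker (x • g) = LinearMap.ker g := by
  ext y
  simp only [LinearMap.mem_ker, LinearMap.smul_apply]
  constructor
  · intro h
    apply hreg
    change x • g y = x • 0
    rw [h, smul_zero]
  · intro h
    rw [h, smul_zero]

/-- the linear-algebra comparison -/
noncomputable def quotEquiv (x : A) (f : M₁ →ₗ[A] M₂) (g : M₂ →ₗ[A] M₃)
    (hreg : IsSMulRegular M₃ x) (hfg : ∀ z, (x • g) ((x • f) z) = 0) :
    (LinearMap.ker (x • g) ⧸ LinearMap.range ((x • f).codRestrict (LinearMap.ker (x • g)) hfg)) ≃ₗ[A]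
      (LinearMap.ker g ⧸ Submodule.comap (LinearMap.ker g).subtype
        (Ideal.span {x} • LinearMap.range f)) :=
  Submodule.Quotient.equiv _ _ (LinearEquiv.ofEq _ _ (ker_smul_eq x g hreg)) (by
    ext ⟨y, hy⟩
    simp only [Submodule.mem_map, LinearMap.mem_range, Submodule.mem_comap, Submodule.subtype_apply,
      Submodule.ideal_span_singleton_smul]
    rw [Submodule.mem_smul_pointwise_iff_exists]
    constructor
    · rintro ⟨⟨y', hy'⟩, ⟨z, hz⟩, hyy'⟩
      have h1 : y' = y := by
        have := congrArg Subtype.val hyy'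
        simpa using this
      have h2 : x • f z = y' := by
        have := congrArg Subtype.val hz
        simpa using this
      exact ⟨f z, ⟨z, rfl⟩, by rw [h2, h1]⟩
    · rintro ⟨w, ⟨z, rfl⟩, hw⟩
      have hy' : y ∈ LinearMap.ker (x • g) := by rw [ker_smul_eq x g hreg]; exact hy
      refine ⟨⟨y, hy'⟩, ⟨z, ?_⟩, ?_⟩
      · apply Subtype.ext
        simpa using hw
      · apply Subtype.ext
        rfl)

end linalg

section homology

variable {A : Type u} [CommRing A]

theorem nonempty_homology_scale_iso (K : CochainComplex (ModuleCat.{u} A) ℤ) (x : A) (q : ℤ)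
    (hreg : IsSMulRegular (K.X (q + 1)) x) :
    Nonempty ((scale x K).homology q ≅
      ModuleCat.of A (↥(LinearMap.ker (K.d q (q + 1)).hom) ⧸
        Submodule.comap (LinearMap.ker (K.d q (q + 1)).hom).subtype
          (Ideal.span {x} • LinearMap.range (K.d (q - 1) q).hom))) := by
  let S := (scale x K).sc' (q - 1) q (q + 1)
  have e1 : (scale x K).homology q ≅ S.homology :=
    (scale x K).homologyIsoSc' (q - 1) q (q + 1) (by simp) (by simp)
  have e2 : S.homology ≅ S.moduleCatLeftHomologyData.H := S.moduleCatLeftHomologyData.homologyIso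
  have hf : S.f.hom = x • (K.d (q - 1) q).hom := rfl
  have hg : S.g.hom = x • (K.d q (q + 1)).hom := rfl
  have hfg : ∀ z, (x • (K.d q (q + 1)).hom) ((x • (K.d (q - 1) q).hom) z) = 0 := by
    intro z
    have := S.moduleCat_zero_apply z
    exact this
  have e3 := quotEquiv x (K.d (q - 1) q).hom (K.d q (q + 1)).hom hreg hfg
  exact ⟨e1 ≪≫ e2 ≪≫ e3.toModuleIso⟩

end homology

section regular

variable (A : Type u) [CommRing A]

lemma isSMulRegular_cone {F G : CochainComplex (ModuleCat.{u} A) ℤ} (φ : F ⟶ G) (x : A)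
    (hF : ∀ n, IsSMulRegular (F.X n) x) (hG : ∀ n, IsSMulRegular (G.X n) x) (n : ℤ) :
    IsSMulRegular ((mappingCone φ).X n) x := by
  intro a b hab
  have hab' : x • a = x • b := hab
  rw [decomp φ n a, decomp φ n b]
  have h1 : ((mappingCone.fst φ).1.v n (n + 1) rfl).hom a =
      ((mappingCone.fst φ).1.v n (n + 1) rfl).hom b := by
    apply hF (n + 1)
    change x • _ = x • _
    rw [← map_smul, ← map_smul, hab']
  have h2 : ((mappingCone.snd φ).v n n (add_zero n)).hom a =
      ((mappingCone.snd φ).v n n (add_zero n)).hom b := by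
    apply hG n
    change x • _ = x • _
    rw [← map_smul, ← map_smul, hab']
  rw [h1, h2]

lemma isSMulRegular_single (x : A) (hx : x ∈ nonZeroDivisors A) (n : ℤ) :
    IsSMulRegular (((HomologicalComplex.single (ModuleCat.{u} A) (ComplexShape.up ℤ) 0).obj
      (ModuleCat.of A A)).X n) x := by
  by_cases hn : n = 0
  · subst hn
    intro a b hab
    have hab' : x • a = x • b := hab
    let e := (HomologicalComplex.singleObjXSelf (ComplexShape.up ℤ) (0 : ℤ) (ModuleCat.of A A))
    have h1 : e.hom.hom a = e.hom.hom b := by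
      have h2 : x • e.hom.hom a = x • e.hom.hom b := by rw [← map_smul, ← map_smul, hab']
      have h3 : x * e.hom.hom a = x * e.hom.hom b := h2
      have h4 : x * (e.hom.hom a - e.hom.hom b) = 0 := by rw [mul_sub, h3, sub_self]
      have h5 := (mem_nonZeroDivisors_iff.1 hx).1 _ h4
      exact sub_eq_zero.1 h5
    have h6 := congrArg e.inv.hom h1
    change (e.hom ≫ e.inv).hom a = (e.hom ≫ e.inv).hom b at h6
    rw [e.hom_inv_id] at h6
    exact h6
  · have hz : IsZero (((HomologicalComplex.single (ModuleCat.{u} A) (ComplexShape.up ℤ) 0).obj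
        (ModuleCat.of A A)).X n) :=
      HomologicalComplex.isZero_single_obj_X (ComplexShape.up ℤ) 0 (ModuleCat.of A A) n hn
    intro a b _
    have := ModuleCat.subsingleton_of_isZero hz
    exact Subsingleton.elim _ _

lemma isSMulRegular_koszul (x : A) (hx : x ∈ nonZeroDivisors A) :
    ∀ (l : List A) (n : ℤ), IsSMulRegular ((Koszul.koszul A l).X n) x
  | [], n => isSMulRegular_single A x hx n
  | f :: l, n => by
    exact isSMulRegular_cone A _ x (isSMulRegular_koszul x hx l) (isSMulRegular_koszul x hx l) n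

end regular

end Groth.Agent.H2.Kos
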