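import Mathlib
import Groth.Prelude.Def_ega3
import Groth.Agent.Lib.Helper2.Kos9

/-!
# Multiplication by `a` on the cohomology of `K` when the cone of `a` is acyclic in a degree
-/

open CategoryTheory CategoryTheory.Limits CochainComplex HomologicalComplex
  CochainComplex.HomComplex

universe u

namespace Groth.Agent.H2.KosInj

open Groth.Agent.H2.Kos

variable {A : Type u} [CommRing A]

/-- chain level description of the vanishing of a cohomology module. -/
theorem isZero_homology_iff (K : CochainComplex (ModuleCat.{u} A) ℤ) (j i k : ℤ)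
    (hj : j + 1 = i) (hk : i + 1 = k) :
    IsZero (K.homology i) ↔
      ∀ z : K.X i, (K.d i k).hom z = 0 → ∃ u : K.X j, (K.d j i).hom u = z := by
  rw [← HomologicalComplex.exactAt_iff_isZero_homology,
    HomologicalComplex.exactAt_iff' K j i k (by simp; omega) (by simp; omega),
    ShortComplex.moduleCat_exact_iff]
  rfl

/-- **chain level**: if the cone of `a` on `K` is exact in degree `j = i - 1`, a cocycle `z` of
degree `i` with `a • z` a coboundary is a coboundary. -/
theorem cone_cycle_lift (K : CochainComplex (ModuleCat.{u} A) ℤ) (a : A) (j i k : ℤ)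
    (hj : j + 1 = i) (hk : i + 1 = k)
    (hC : IsZero ((mappingCone (a • 𝟙 K)).homology j))
    (z : K.X i) (hz : (K.d i k).hom z = 0) (w : K.X j)
    (hw : (K.d j i).hom w = a • z) :
    ∃ u : K.X j, (K.d j i).hom u = z := by
  set φ : K ⟶ K := a • 𝟙 K with hφ
  rw [isZero_homology_iff _ (j - 1) j i (by omega) hj] at hC
  have hφz : ∀ (n : ℤ) (y : K.X n), (φ.f n).hom y = a • y := by
    intro n y
    simp [φ]
  -- the cocycle of the cone
  let c : (mappingCone φ).X j :=
    ((mappingCone.inl φ).v i j (by omega)).hom z - ((mappingCone.inr φ).f j).hom w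
  have hc : ((mappingCone φ).d j i).hom c = 0 := by
    change ((mappingCone φ).d j i).hom
      (((mappingCone.inl φ).v i j (by omega)).hom z - ((mappingCone.inr φ).f j).hom w) = 0
    rw [map_sub, d_inl_apply φ i j k (by omega) (by omega), d_inr_apply, hz,
      map_zero, sub_zero, hφz, hw, sub_self]
  obtain ⟨e, he⟩ := hC c hc
  -- project to the first component
  have hfst : ((mappingCone.fst φ).1.v j i hj).hom c = z := by
    change ((mappingCone.fst φ).1.v j i hj).hom
      (((mappingCone.inl φ).v i j (by omega)).hom z - ((mappingCone.inr φ).f j).hom w) = z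
    rw [map_sub]
    have h1 : ((mappingCone.fst φ).1.v j i hj).hom
        (((mappingCone.inl φ).v i j (by omega)).hom z) = z :=
      congrArg (fun g => g.hom z) (mappingCone.inl_v_fst_v φ i j hj)
    have h2 : ((mappingCone.fst φ).1.v j i hj).hom (((mappingCone.inr φ).f j).hom w) = 0 :=
      congrArg (fun g => g.hom w) (mappingCone.inr_f_fst_v φ j i hj)
    rw [h1, h2, sub_zero]
  have hd : ((mappingCone.fst φ).1.v j i hj).hom (((mappingCone φ).d (j - 1) j).hom e) =
      -(K.d j i).hom (((mappingCone.fst φ).1.v (j - 1) j (by omega)).hom e) :=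
    congrArg (fun g => g.hom e) (mappingCone.d_fst_v φ (j - 1) j i (by omega) hj)
  refine ⟨-((mappingCone.fst φ).1.v (j - 1) j (by omega)).hom e, ?_⟩
  rw [map_neg, ← hd, he, hfst]

end Groth.Agent.H2.KosInj
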