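import Mathlib
import Groth.Prelude.Def_ega3
import Groth.Prelude.Def_LCI2
import Groth.Agent.Lib.Helper2.KosInjA

/-!
# From `(a :: l)` Koszul-regular and `a`-power torsion cohomology to `l` Koszul-regular
-/

open CategoryTheory CategoryTheory.Limits CochainComplex HomologicalComplex
  CochainComplex.HomComplex

universe u

namespace Groth.Agent.H2.KosInj

open Groth.Agent.H2.Kos

variable {A : Type u} [CommRing A]

/-- **cohomology level**: if the cone of `a` on `K` is exact in degree `i - 1`, then `a` is
injective on `H^i(K)`. -/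
theorem homology_smul_injective (K : CochainComplex (ModuleCat.{u} A) ℤ) (a : A) (i : ℤ)
    (hC : IsZero ((mappingCone (a • 𝟙 K)).homology (i - 1)))
    (x : K.homology i) (hx : a • x = 0) : x = 0 := by
  let S := K.sc' (i - 1) i (i + 1)
  let e1 : K.homology i ≅ S.homology := K.homologyIsoSc' (i - 1) i (i + 1) (by simp) (by simp)
  let e2 := S.moduleCatHomologyIso
  let e : K.homology i ≃ₗ[A] (LinearMap.ker S.g.hom ⧸ LinearMap.range S.moduleCatToCycles) :=
    (e1 ≪≫ e2).toLinearEquiv
  obtain ⟨⟨z, hz⟩, hzx⟩ := Submodule.Quotient.mk_surjective _ (e x)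
  have h1 : e (a • x) = 0 := by rw [hx, map_zero]
  rw [_root_.map_smul, ← hzx, ← Submodule.Quotient.mk_smul, Submodule.Quotient.mk_eq_zero] at h1
  obtain ⟨w, hw⟩ := h1
  have hw' : (K.d (i - 1) i).hom w = a • z := congrArg Subtype.val hw
  have hz' : (K.d i (i + 1)).hom z = 0 := hz
  obtain ⟨u, hu⟩ := cone_cycle_lift K a (i - 1) i (i + 1) (by omega) rfl hC z hz' w hw'
  have h2 : e x = 0 := by
    rw [← hzx, Submodule.Quotient.mk_eq_zero]
    exact ⟨u, Subtype.ext hu⟩
  exact e.map_eq_zero_iff.mp h2

lemma isZero_koszul_X_of_pos (l : List A) (n : ℤ) (hn : 0 < n) :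
    IsZero ((Koszul.koszul A l).X n) := by
  induction l generalizing n with
  | nil =>
    exact HomologicalComplex.isZero_single_obj_X (ComplexShape.up ℤ) 0 (ModuleCat.of A A) n
      (by omega)
  | cons f fs ih =>
    change IsZero ((mappingCone (f • 𝟙 (Koszul.koszul A fs))).X n)
    rw [mappingCone.isZero_X_iff]
    exact ⟨ih (n + 1) (by omega), ih n hn⟩

/-- **key criterion.** If `a :: l` is Koszul-regular and the Koszul cohomology of `l` is
`a`-power torsion in nonzero degrees, then `l` is Koszul-regular. -/
theorem isKoszulRegularSeq_of_cons (a : A) (l : List A)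
    (hcons : LCI.IsKoszulRegularSeq A (a :: l))
    (htors : ∀ i : ℤ, i ≠ 0 → ∀ x : (Koszul.koszul A l).homology i, ∃ k : ℕ, a ^ k • x = 0) :
    LCI.IsKoszulRegularSeq A l := by
  intro i hi
  by_cases hpos : 0 < i
  · exact (HomologicalComplex.ExactAt.of_isZero (isZero_koszul_X_of_pos l i hpos)).isZero_homology
  · have hC : IsZero ((mappingCone (a • 𝟙 (Koszul.koszul A l))).homology (i - 1)) :=
      hcons (i - 1) (by omega)
    have hinj : ∀ x : (Koszul.koszul A l).homology i, a • x = 0 → x = 0 :=
      homology_smul_injective _ a i hC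
    have hall : ∀ x : (Koszul.koszul A l).homology i, x = 0 := by
      intro x
      obtain ⟨k, hk⟩ := htors i hi x
      induction k with
      | zero => simpa using hk
      | succ k ih =>
        apply ih
        apply hinj
        rw [smul_smul, ← pow_succ']
        exact hk
    have : Subsingleton ((Koszul.koszul A l).homology i) :=
      ⟨fun x y => by rw [hall x, hall y]⟩
    exact ModuleCat.isZero_of_subsingleton _

end Groth.Agent.H2.KosInj
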