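import Groth.Agent.Lib.Helper2.KosInjB
import Groth.Agent.Lib.Helper2.BlGrA
import Groth.Agent.Lib.Helper2.BlBcC
import Groth.Agent.Lib.Helper8.RGCI.KosLoc
import Groth.Agent.Lib.Helper8.Kos.Pres

/-!
# The chart equations of the blow-up of a Koszul-regular sequence form a Koszul-regular sequence
-/

universe u

open CategoryTheory CategoryTheory.Limits MvPolynomial

attribute [local instance] HasDerivedCategory.standard

namespace Groth.Agent.H2.KosInj

section tors

variable {A B : Type u} [CommRing A] [CommRing B] [Algebra A B]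

/-- if the image of `l` in the localization `A_a` is Koszul-regular, the Koszul cohomology of `l`
is `a`-power torsion in nonzero degrees. -/
theorem exists_pow_smul_eq_zero (a : A) [IsLocalization.Away a B] (l : List A)
    (hl : LCI.IsKoszulRegularSeq B (l.map (algebraMap A B))) (i : ℤ) (hi : i ≠ 0)
    (x : (Koszul.koszul A l).homology i) : ∃ k : ℕ, a ^ k • x = 0 := by
  have hflat : Module.Flat A B := IsLocalization.flat B (Submonoid.powers a)
  have hz := Groth.Agent.H8.RGCI.isZero_extendScalars_homology (B := B) l hl i hi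
  have hsub : Subsingleton (TensorProduct A B ((Koszul.koszul A l).homology i)) := by
    have := ModuleCat.subsingleton_of_isZero hz
    exact (Groth.Agent.H8.ExtBridge.extEquiv (A := A) (B := B)
      ((Koszul.koszul A l).homology i)).symm.injective.subsingleton
  have h0 : TensorProduct.mk A B ((Koszul.koszul A l).homology i) 1 x = 0 :=
    Subsingleton.elim _ _
  obtain ⟨⟨_, k, rfl⟩, hc⟩ := (IsLocalizedModule.eq_zero_iff (Submonoid.powers a)
    (TensorProduct.mk A B ((Koszul.koszul A l).homology i) 1)).mp h0
  exact ⟨k, hc⟩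

end tors

section equiv

variable {A B : Type u} [CommRing A] [CommRing B]

/-- transport of Koszul-regular sequences along ring isomorphisms. -/
theorem isKoszulRegularSeq_map_ringEquiv (e : A ≃+* B) (l : List A)
    (hl : LCI.IsKoszulRegularSeq A l) : LCI.IsKoszulRegularSeq B (l.map e) := by
  let _ : Algebra A B := (e : A →+* B).toAlgebra
  have hflat : Module.Flat A B := RingHom.Flat.of_bijective (f := (e : A →+* B)) e.bijective
  exact Groth.Agent.H4.KosBC.isKoszulRegularSeq_map l hl

end equiv

section chart

open Groth.Agent.H2.BlGr Groth.Agent.H2.BlBc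

variable {R : Type u} [CommRing R] {m : ℕ} (f : Fin (m + 1) → R)

attribute [local instance] MvPolynomial.algebraMvPolynomial

/-- `f j` followed by the equations of the `j`-th chart is Koszul-regular. -/
theorem isKoszulRegularSeq_cons_gEq (hf : LCI.IsKoszulRegularSeq R (List.ofFn f))
    (j : Fin (m + 1)) :
    LCI.IsKoszulRegularSeq (MvPolynomial (Fin m) R) (C (f j) :: List.ofFn (gEq f j)) := by
  have h1 : LCI.IsKoszulRegularSeq (MvPolynomial (Fin m) R)
      ((List.ofFn f).map (algebraMap R (MvPolynomial (Fin m) R))) :=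
    Groth.Agent.H4.KosBC.isKoszulRegularSeq_map (List.ofFn f) hf
  have hI : Ideal.ofList ((List.ofFn f).map (algebraMap R (MvPolynomial (Fin m) R))) =
      Ideal.ofList (C (f j) :: List.ofFn (gEq f j)) := by
    apply le_antisymm
    · rw [Ideal.ofList, Ideal.span_le]
      intro y hy
      obtain ⟨r, hr, rfl⟩ := List.mem_map.mp hy
      rw [List.mem_ofFn] at hr
      obtain ⟨i, rfl⟩ := hr
      change C (f i) ∈ _
      by_cases hij : i = j
      · rw [hij]
        exact Ideal.subset_span (List.mem_cons_self ..)
      · obtain ⟨i', rfl⟩ := Fin.exists_succAbove_eq hij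
        have e : C (f (j.succAbove i')) = gEq f j i' - C (f j) * X i' := by
          unfold gEq
          ring
        rw [e]
        refine sub_mem (Ideal.subset_span (List.mem_cons_of_mem _ ?_))
          (Ideal.mul_mem_right _ _ (Ideal.subset_span (List.mem_cons_self ..)))
        rw [List.mem_ofFn]
        exact ⟨i', rfl⟩
    · rw [Ideal.ofList, Ideal.span_le]
      intro y hy
      have hC : ∀ i, (C (f i) : MvPolynomial (Fin m) R) ∈
          Ideal.ofList ((List.ofFn f).map (algebraMap R (MvPolynomial (Fin m) R))) := by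
        intro i
        apply Ideal.subset_span
        exact List.mem_map.mpr ⟨f i, by rw [List.mem_ofFn]; exact ⟨i, rfl⟩, rfl⟩
      rcases List.mem_cons.mp hy with rfl | hy
      · exact hC j
      · rw [List.mem_ofFn] at hy
        obtain ⟨i', rfl⟩ := hy
        unfold gEq
        exact add_mem (hC _) (Ideal.mul_mem_right _ _ (hC j))
  exact Groth.Agent.H8.KosIndep.isKoszulRegularSeq_of_ofList_eq _ _ (by simp) hI h1

/-- the image of the chart equations in `R_{f j}[T]` is Koszul-regular. -/
theorem isKoszulRegularSeq_gEq_away (j : Fin (m + 1)) :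
    LCI.IsKoszulRegularSeq (MvPolynomial (Fin m) (Localization.Away (f j)))
      ((List.ofFn (gEq f j)).map
        (algebraMap (MvPolynomial (Fin m) R) (MvPolynomial (Fin m) (Localization.Away (f j))))) := by
  set Ra := Localization.Away (f j) with hRa
  set φ : R →+* Ra := algebraMap R Ra with hφ
  set v : Ra := IsLocalization.Away.invSelf (f j) with hv
  have huv : φ (f j) * v = 1 := IsLocalization.Away.mul_invSelf (f j)
  let c : Fin m → Ra := fun i => φ (f (j.succAbove i)) * v
  -- the shifted variables
  have hL₁ : LCI.IsKoszulRegularSeq (MvPolynomial (Fin m) Ra)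
      (List.ofFn (fun i : Fin m => (X i + C (c i) : MvPolynomial (Fin m) Ra))) := by
    have h0 := isKoszulRegularSeq_map_ringEquiv
      (Groth.Agent.H8.KosIndep.shiftEquiv c).toRingEquiv _
      (Groth.Agent.H8.KosIndep.isKoszulRegularSeq_vars Ra m)
    rw [List.map_ofFn] at h0
    have : ((Groth.Agent.H8.KosIndep.shiftEquiv c).toRingEquiv :
        MvPolynomial (Fin m) Ra → MvPolynomial (Fin m) Ra) ∘
        (fun i : Fin m => (X i : MvPolynomial (Fin m) Ra)) =
        fun i : Fin m => (X i + C (c i) : MvPolynomial (Fin m) Ra) := by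
      funext i
      simp [Groth.Agent.H8.KosIndep.shiftEquiv]
    rw [this] at h0
    exact h0
  have himg : (List.ofFn (gEq f j)).map
      (algebraMap (MvPolynomial (Fin m) R) (MvPolynomial (Fin m) Ra)) =
      List.ofFn (fun i : Fin m => (C (φ (f j)) * (X i + C (c i)) : MvPolynomial (Fin m) Ra)) := by
    rw [List.map_ofFn]
    congr 1
    funext i
    simp only [Function.comp_apply, gEq, MvPolynomial.algebraMap_def, map_add, map_mul,
      MvPolynomial.map_C, MvPolynomial.map_X]
    have : (C (φ (f j)) * C (c i) : MvPolynomial (Fin m) Ra) = C (φ (f (j.succAbove i))) := by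
      rw [← C_mul]
      congr 1
      change φ (f j) * (φ (f (j.succAbove i)) * v) = _
      rw [mul_left_comm, huv, mul_one]
    rw [mul_add, this, add_comm]
  rw [himg]
  refine Groth.Agent.H8.KosIndep.isKoszulRegularSeq_of_ofList_eq _ _ (by simp) ?_ hL₁
  rw [ofList_ofFn, ofList_ofFn]
  apply le_antisymm
  · rw [Ideal.span_le]
    rintro _ ⟨i, rfl⟩
    have : (X i + C (c i) : MvPolynomial (Fin m) Ra) =
        C v * (C (φ (f j)) * (X i + C (c i))) := by
      rw [← mul_assoc, ← C_mul, mul_comm v, huv, C_1, one_mul]
    change (X i + C (c i) : MvPolynomial (Fin m) Ra) ∈ _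
    rw [this]
    exact Ideal.mul_mem_left _ _ (Ideal.subset_span ⟨i, rfl⟩)
  · rw [Ideal.span_le]
    rintro _ ⟨i, rfl⟩
    exact Ideal.mul_mem_left _ _ (Ideal.subset_span ⟨i, rfl⟩)

/-- **key lemma**: the equations of the `j`-th chart of the blow-up in a Koszul-regular sequence
form a Koszul-regular sequence of the polynomial ring. -/
theorem isKoszulRegularSeq_gEq (hf : LCI.IsKoszulRegularSeq R (List.ofFn f)) (j : Fin (m + 1)) :
    LCI.IsKoszulRegularSeq (MvPolynomial (Fin m) R) (List.ofFn (gEq f j)) := by
  refine isKoszulRegularSeq_of_cons (C (f j)) _ (isKoszulRegularSeq_cons_gEq f hf j) ?_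
  intro i hi x
  have hloc : IsLocalization.Away (C (f j) : MvPolynomial (Fin m) R)
      (MvPolynomial (Fin m) (Localization.Away (f j))) := by
    have h := MvPolynomial.isLocalization (σ := Fin m) (Submonoid.powers (f j))
      (Localization.Away (f j))
    rwa [Submonoid.map_powers] at h
  exact exists_pow_smul_eq_zero (B := MvPolynomial (Fin m) (Localization.Away (f j)))
    (C (f j)) _ (isKoszulRegularSeq_gEq_away f j) i hi x

end chart

end Groth.Agent.H2.KosInj
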