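import Mathlib
import Groth.Prelude.Def_DRing2
import Groth.Prelude.Def_Koszul
import Groth.Agent.H4.TC3
import Groth.Agent.Lib.Helper2.Kos5

/-!
# Splitting of Koszul cohomology when adjoining elements of the ideal
-/

open CategoryTheory CategoryTheory.Limits CochainComplex HomologicalComplex Pretriangulated
  MonoidalCategory

universe u

namespace Groth.Agent.H2.KosSplit

variable {A : Type u} [CommRing A]

/-- The cone of a null-homotopic map splits in homology. -/
theorem nonempty_homology_cone_iso {F G : CochainComplex (ModuleCat.{u} A) ℤ} (φ : F ⟶ G)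
    (h : Homotopy φ 0) (m : ℤ) :
    Nonempty ((mappingCone φ).homology m ≅ G.homology m ⊞ F.homology (m + 1)) := by
  have hT := HomotopyCategory.mappingCone_triangleh_distinguished φ
  have hT' := rot_of_distTriang _ hT
  have hz : (mappingCone.triangleh φ).rotate.mor₃ = 0 := by
    have h1 : (HomotopyCategory.quotient _ _).map φ = 0 := by
      rw [HomotopyCategory.eq_of_homotopy _ _ h, Functor.map_zero]
    change -((mappingCone.triangleh φ).mor₁)⟦(1 : ℤ)⟧' = 0
    have h2 : (mappingCone.triangleh φ).mor₁ = 0 := h1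
    rw [h2, Functor.map_zero, neg_zero]
  obtain ⟨e, -, -⟩ := exists_iso_binaryBiproduct_of_distTriang _ hT' hz
  let Hm := HomotopyCategory.homologyFunctor (ModuleCat.{u} A) (ComplexShape.up ℤ) m
  let Hm1 := HomotopyCategory.homologyFunctor (ModuleCat.{u} A) (ComplexShape.up ℤ) (m + 1)
  let Q := HomotopyCategory.quotient (ModuleCat.{u} A) (ComplexShape.up ℤ)
  have e1 : Hm.obj (Q.obj (mappingCone φ)) ≅ Hm.obj (Q.obj G ⊞ (Q.obj F)⟦(1 : ℤ)⟧) := Hm.mapIso e
  have : PreservesBinaryBiproducts Hm :=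
    preservesBinaryBiproducts_of_preservesBiproducts Hm
  have e2 : Hm.obj (Q.obj G ⊞ (Q.obj F)⟦(1 : ℤ)⟧) ≅ Hm.obj (Q.obj G) ⊞ Hm.obj ((Q.obj F)⟦(1 : ℤ)⟧) :=
    Hm.mapBiprod _ _
  have e3 : Hm.obj ((Q.obj F)⟦(1 : ℤ)⟧) ≅ Hm1.obj (Q.obj F) :=
    ((HomotopyCategory.homologyFunctor (ModuleCat.{u} A) (ComplexShape.up ℤ) 0).shiftIso 1 m (m + 1)
      (by omega)).app (Q.obj F)
  have e4 : ∀ (K : CochainComplex (ModuleCat.{u} A) ℤ) (i : ℤ),
      (HomotopyCategory.homologyFunctor (ModuleCat.{u} A) (ComplexShape.up ℤ) i).obj (Q.obj K) ≅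
        K.homology i := fun K i =>
    (HomotopyCategory.homologyFunctorFactors (ModuleCat.{u} A) (ComplexShape.up ℤ) i).app K
  exact ⟨(e4 _ m).symm ≪≫ e1 ≪≫ e2 ≪≫ biprod.mapIso (e4 G m) (e3 ≪≫ e4 F (m + 1))⟩

open Groth.Agent.H4.TC3 in
lemma smul_id_whiskerLeft (a : A) (L K : Cx A) : L ◁ (a • 𝟙 K) = a • 𝟙 (L ⊗ K) := by
  refine HomologicalComplex.hom_ext _ _ (fun n => ?_)
  refine mapBifunctor.hom_ext (fun p q hpq => ?_)
  change ιMapBifunctor _ _ _ _ p q n hpq ≫ (mapBifunctorMap (𝟙 L) (a • 𝟙 K) _ _).f n = _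
  rw [ι_mapBifunctorMap]
  simp only [Linear.smul_comp, Linear.comp_smul, id_f, curriedTensor_obj_obj, curriedTensor_map_app,
    curriedTensor_obj_map, MonoidalLinear.whiskerLeft_smul, smul_f_apply]
  simp
  exact (congrArg (a • ·) (Category.comp_id _)).symm

open Groth.Agent.H4.TC3 in
/-- Moving an element from the middle of the list to the front. -/
noncomputable def swapIso (xs : List A) (y : A) (ys : List A) :
    Koszul.koszul A (xs ++ y :: ys) ≅ mappingCone (y • 𝟙 (Koszul.koszul A (xs ++ ys))) :=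
  (koszulTensorIso xs (y :: ys)).symm ≪≫
    coneTensorLeft (Koszul.koszul A xs) (y • 𝟙 (Koszul.koszul A ys)) ≪≫
    Groth.Agent.H4.KE3.coneIso _ _ (koszulTensorIso xs ys) (koszulTensorIso xs ys) (by
      rw [smul_id_whiskerLeft]
      simp)

open DRing CohIII in
lemma nonempty_homotopy_tensorCx (M : ModuleCat.{u} A) (l : List A) (a : A)
    (ha : a ∈ Ideal.span {x | x ∈ l}) :
    Nonempty (Homotopy (a • 𝟙 (tensorCx (Koszul.koszul A l) M)) 0) := by
  obtain ⟨h⟩ := Groth.Agent.H2.Kos.nonempty_homotopy_of_mem_ideal M l a ha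
  let e := Groth.Agent.H4.KE3.bridge M l
  refine ⟨(Homotopy.ofEq ?_).trans (((h.compLeft e.hom).compRight e.inv).trans (Homotopy.ofEq ?_))⟩
  · simp
  · simp

open DRing in
/-- One step: adjoining `y ∈ (xs)` splits the cohomology. -/
theorem nonempty_step (M : ModuleCat.{u} A) (xs : List A) (y : A) (ys : List A)
    (hy : y ∈ Ideal.span {a | a ∈ xs}) (m : ℤ) :
    Nonempty ((tensorCx (Koszul.koszul A (xs ++ y :: ys)) M).homology m ≅
      (tensorCx (Koszul.koszul A (xs ++ ys)) M).homology m ⊞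
        (tensorCx (Koszul.koszul A (xs ++ ys)) M).homology (m + 1)) := by
  have hy' : y ∈ Ideal.span {a | a ∈ xs ++ ys} :=
    Ideal.span_mono (fun a ha => List.mem_append_left _ ha) hy
  obtain ⟨h⟩ := nonempty_homotopy_tensorCx M (xs ++ ys) y hy'
  obtain ⟨e⟩ := nonempty_homology_cone_iso _ h m
  let e1 : tensorCx (Koszul.koszul A (xs ++ y :: ys)) M ≅
      tensorCx (mappingCone (y • 𝟙 (Koszul.koszul A (xs ++ ys)))) M :=
    ((tensorRight M).mapHomologicalComplex (ComplexShape.up ℤ)).mapIso (swapIso xs y ys)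
  let e2 := Groth.Agent.H4.KE3.tensorCxConeIso (Koszul.koszul A (xs ++ ys)) M y
  exact ⟨(HomologicalComplex.homologyFunctor _ _ m).mapIso (e1 ≪≫ e2) ≪≫ e⟩

end Groth.Agent.H2.KosSplit
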