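import Mathlib

universe u

namespace Groth.Agent.H2.KosSplit

variable {A : Type u} [CommRing A] (H : ℤ → Type u) [∀ i, AddCommGroup (H i)] [∀ i, Module A (H i)]

/-- Transport along an equality of indices. -/
def castL {i i' : ℤ} (h : i = i') : H i ≃ₗ[A] H i' := by
  subst h
  exact LinearEquiv.refl A (H i)

omit [∀ i, AddCommGroup (H i)] [∀ i, Module A (H i)] in
@[simp] lemma castL_castL [∀ i, AddCommGroup (H i)] [∀ i, Module A (H i)] {i i' : ℤ} (h : i = i') (h' : i' = i) (x : H i) :
    castL (A := A) H h' (castL (A := A) H h x) = x := by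
  subst h
  rfl

/-- `Π_j (H (m+j))^{C(r,j)}` over all natural `j`. -/
abbrev Q (r : ℕ) (m : ℤ) : Type u := (j : ℕ) → Fin (r.choose j) → H (m + (j : ℤ))

/-- `C(r, j-1)`, zero for `j = 0`. -/
def prev (r : ℕ) : ℕ → ℕ
  | 0 => 0
  | k + 1 => r.choose k

lemma choose_succ_eq (r j : ℕ) : (r + 1).choose j = r.choose j + prev r j := by
  cases j with
  | zero => simp [prev]
  | succ k => simp only [prev]; rw [Nat.choose_succ_succ', add_comm]

/-- `Q 0 m ≃ H m`. -/
noncomputable def q0 (m : ℤ) : Q H 0 m ≃ₗ[A] H m where
  toFun f := castL (A := A) H (by simp) (f 0 ⟨0, by simp⟩)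
  invFun x := fun j => match j with
    | 0 => fun _ => castL (A := A) H (by simp) x
    | k + 1 => fun i => absurd i.2 (by simp)
  map_add' f g := by simp
  map_smul' c f := by simp
  left_inv f := by
    funext j i
    match j with
    | 0 =>
      have : i = ⟨0, by simp⟩ := by
        apply Fin.ext
        have := i.2
        simp at this
        simpa using this
      subst this
      simp
    | k + 1 => exact absurd i.2 (by simp)
  right_inv x := by simp

/-- The shifted factor. -/
noncomputable def qShift (r : ℕ) (m : ℤ) :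
    ((j : ℕ) → Fin (prev r j) → H (m + (j : ℤ))) ≃ₗ[A] Q H r (m + 1) where
  toFun g := fun k i => castL (A := A) H (by push_cast; ring) (g (k + 1) i)
  invFun g' := fun j => match j with
    | 0 => fun i => absurd i.2 (by simp [prev])
    | k + 1 => fun i => (castL (A := A) H (by push_cast; ring)).symm (g' k i)
  map_add' f g := by
    funext k i
    exact map_add _ _ _
  map_smul' c f := by
    funext k i
    exact map_smul _ _ _
  left_inv g := by
    funext j i
    match j with
    | 0 => exact absurd i.2 (by simp [prev])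
    | k + 1 => simp
  right_inv g' := by
    funext k i
    simp

/-- Splitting a product of products. -/
def piProdL {ι : Type} (X Y : ι → Type u) [∀ i, AddCommGroup (X i)] [∀ i, Module A (X i)]
    [∀ i, AddCommGroup (Y i)] [∀ i, Module A (Y i)] :
    ((i : ι) → X i × Y i) ≃ₗ[A] ((i : ι) → X i) × ((i : ι) → Y i) where
  toFun f := (fun i => (f i).1, fun i => (f i).2)
  invFun p := fun i => (p.1 i, p.2 i)
  map_add' f g := rfl
  map_smul' c f := rfl
  left_inv f := rfl
  right_inv p := rfl

/-- Pascal's rule for the modules `Q`. -/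
noncomputable def qSucc (r : ℕ) (m : ℤ) : Q H (r + 1) m ≃ₗ[A] Q H r m × Q H r (m + 1) :=
  (LinearEquiv.piCongrRight (fun j =>
    (LinearEquiv.funCongrLeft A (H (m + (j : ℤ)))
      ((finCongr (choose_succ_eq r j)).trans finSumFinEquiv.symm).symm) ≪≫ₗ
      LinearEquiv.sumArrowLequivProdArrow (Fin (r.choose j)) (Fin (prev r j)) A _)) ≪≫ₗ
  piProdL (A := A) (fun j => Fin (r.choose j) → H (m + (j : ℤ)))
    (fun j => Fin (prev r j) → H (m + (j : ℤ))) ≪≫ₗ
  LinearEquiv.prodCongr (LinearEquiv.refl A _) (qShift H r m)

lemma fin_choose_elim {r j : ℕ} (h : r < j) (i : Fin (r.choose j)) : False := by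
  have h0 := Nat.choose_eq_zero_of_lt h
  have := i.2
  omega

/-- Restricting to `j ≤ r`. -/
noncomputable def qFin (r : ℕ) (m : ℤ) :
    Q H r m ≃ₗ[A] ((j : Fin (r + 1)) → Fin (r.choose j) → H (m + ((j : ℕ) : ℤ))) where
  toFun f := fun j => f j
  invFun g := fun j => if h : j < r + 1 then g ⟨j, h⟩ else
    fun i => (fin_choose_elim (by omega) i).elim
  map_add' f g := rfl
  map_smul' c f := rfl
  left_inv f := by
    funext j
    by_cases h : j < r + 1
    · simp [h]
    · funext i
      exact (fin_choose_elim (by omega) i).elim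
  right_inv g := by
    funext j
    have hj : (j : ℕ) < r + 1 := j.2
    simp [hj]

end Groth.Agent.H2.KosSplit
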