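import Mathlib
import Groth.Agent.Lib.Helper2.KosSplit1
import Groth.Agent.Lib.Helper2.KosSplit2

/-!
# Koszul cohomology of `(xs, ys)` with `ys ⊆ (xs)`
-/

open CategoryTheory CategoryTheory.Limits CochainComplex HomologicalComplex

universe u

namespace Groth.Agent.H2.KosSplit

variable {A : Type u} [CommRing A]

open DRing in
theorem nonempty_iso_Q (M : ModuleCat.{u} A) (xs ys : List A)
    (hy : ∀ y ∈ ys, y ∈ Ideal.span {a | a ∈ xs}) (m : ℤ) :
    Nonempty ((tensorCx (Koszul.koszul A (xs ++ ys)) M).homology m ≅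
      ModuleCat.of A (Q (fun i => (tensorCx (Koszul.koszul A xs) M).homology i) ys.length m)) := by
  induction ys generalizing m with
  | nil =>
    rw [List.append_nil]
    exact ⟨((q0 (A := A) (fun i => (tensorCx (Koszul.koszul A xs) M).homology i) m).symm).toModuleIso⟩
  | cons y ys ih =>
    have hy' : ∀ z ∈ ys, z ∈ Ideal.span {a | a ∈ xs} := fun z hz => hy z (List.mem_cons_of_mem _ hz)
    obtain ⟨e⟩ := nonempty_step M xs y ys (hy y (List.mem_cons_self ..)) m
    obtain ⟨e1⟩ := ih hy' m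
    obtain ⟨e2⟩ := ih hy' (m + 1)
    exact ⟨e ≪≫ biprod.mapIso e1 e2 ≪≫ ModuleCat.biprodIsoProd _ _ ≪≫
      ((qSucc (A := A) (fun i => (tensorCx (Koszul.koszul A xs) M).homology i)
        ys.length m).symm).toModuleIso⟩

open DRing in
theorem nonempty_iso_fin (M : ModuleCat.{u} A) (xs ys : List A)
    (hy : ∀ y ∈ ys, y ∈ Ideal.span {a | a ∈ xs}) (m : ℤ) :
    Nonempty ((tensorCx (Koszul.koszul A (xs ++ ys)) M).homology m ≅
      ModuleCat.of A ((j : Fin (ys.length + 1)) → Fin (ys.length.choose j) →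
        (tensorCx (Koszul.koszul A xs) M).homology (m + j))) := by
  obtain ⟨e⟩ := nonempty_iso_Q M xs ys hy m
  exact ⟨e ≪≫ (qFin (A := A) (fun i => (tensorCx (Koszul.koszul A xs) M).homology i)
    ys.length m).toModuleIso⟩

end Groth.Agent.H2.KosSplit
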