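import Mathlib

set_option autoImplicit false
universe u

namespace Groth.Agent.H2.Kummer

open IntermediateField Polynomial

lemma prod_roots_form {K L : Type u} [Field K] [Field L] [Algebra K L] (a : L) (s : Multiset L)
    (h : ∀ ρ ∈ s, ∃ ζ : K, ρ = algebraMap K L ζ * a) :
    ∃ ζ : K, s.prod = algebraMap K L ζ * a ^ (Multiset.card s) := by
  induction s using Multiset.induction_on with
  | empty => exact ⟨1, by simp⟩
  | cons x s ih =>
    obtain ⟨ζ₁, h₁⟩ := h x (Multiset.mem_cons_self x s)
    obtain ⟨ζ₂, h₂⟩ := ih (fun ρ hρ => h ρ (Multiset.mem_cons_of_mem hρ))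
    refine ⟨ζ₁ * ζ₂, ?_⟩
    rw [Multiset.prod_cons, Multiset.card_cons, h₁, h₂, map_mul]
    ring

theorem kummer_intermediate {K L : Type u} [Field K] [Field L] [Algebra K L]
    [FiniteDimensional K L] (a : L) (ha : K⟮a⟯ = ⊤)
    (hpow : a ^ Module.finrank K L ∈ Set.range (algebraMap K L))
    (hroots : (X ^ Module.finrank K L - 1 : K[X]).Splits) (L' : IntermediateField K L) :
    ∃ d : ℕ, d ∣ Module.finrank K L ∧ L' = K⟮a ^ d⟯ := by
  classical
  have he0 : 0 < Module.finrank K L := Module.finrank_pos
  generalize he : Module.finrank K L = e at *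
  by_cases ha0 : a = 0
  · refine ⟨1, one_dvd _, ?_⟩
    have hbt : (⊥ : IntermediateField K L) = ⊤ := by
      rw [← ha, ha0]; exact (IntermediateField.adjoin_zero).symm
    rw [ha0, pow_one, IntermediateField.adjoin_zero]
    exact eq_bot_iff.mpr (hbt ▸ le_top)
  have hint : IsIntegral L' a := .of_finite L' a
  obtain ⟨c, hc⟩ := hpow
  set g := (minpoly L' a).map (algebraMap L' L) with hg
  have hgmonic : g.Monic := (minpoly.monic hint).map _
  set P : L[X] := X ^ e - C (a ^ e) with hP
  have hPmonic : P.Monic := monic_X_pow_sub_C _ he0.ne'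
  have hP0 : P ≠ 0 := hPmonic.ne_zero
  have hPsplit : P.Splits := by
    have h1 : ((X ^ e - 1 : K[X]).map (algebraMap K L)).Splits := hroots.map _
    have h2 := h1.scaleRoots a
    have h3 : ((X ^ e - 1 : K[X]).map (algebraMap K L)).scaleRoots a = P := by
      have hmap : (X ^ e - 1 : K[X]).map (algebraMap K L) = X ^ e - C 1 := by simp
      rw [hmap]
      ext i
      rw [coeff_scaleRoots, natDegree_X_pow_sub_C, hP]
      simp only [coeff_sub, coeff_X_pow, coeff_C]
      by_cases hi : i = e
      · subst hi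
        simp [he0.ne']
      · by_cases hi0 : i = 0
        · subst hi0
          simp [he0.ne, he0.ne']
        · simp [hi, hi0]
    rwa [h3] at h2
  have hgP : g ∣ P := by
    let Q : L'[X] := X ^ e - C (algebraMap K L' c)
    have hQ : Q.map (algebraMap L' L) = P := by
      simp only [Q, hP, Polynomial.map_sub, Polynomial.map_pow, map_X, map_C, ← hc]
      rfl
    rw [← hQ]
    apply Polynomial.map_dvd
    apply minpoly.dvd
    have : (Polynomial.aeval a) Q = eval a (Q.map (algebraMap L' L)) := by
      rw [eval_map_algebraMap]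
    rw [this, hQ, hP]
    simp
  have hgsplit : g.Splits := hPsplit.of_dvd hP0 hgP
  have hroot : ∀ ρ ∈ g.roots, ∃ ζ : K, ρ = algebraMap K L ζ * a := by
    intro ρ hρ
    have h1 : P.IsRoot ρ := by
      have := (mem_roots hgmonic.ne_zero).mp hρ
      obtain ⟨q, hq⟩ := hgP
      rw [IsRoot.def, hq, eval_mul, this.eq_zero, zero_mul]
    have h2 : ρ ^ e = a ^ e := by
      have : eval ρ P = 0 := h1
      simpa [hP, sub_eq_zero] using this
    have h3 : ((X ^ e - 1 : K[X]).map (algebraMap K L)).IsRoot (ρ / a) := by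
      simp [div_pow, h2, div_self (pow_ne_zero _ ha0)]
    obtain ⟨ζ, hζ⟩ := hroots.mem_range_of_isRoot (X_pow_sub_C_ne_zero he0 1) h3
    refine ⟨ζ, ?_⟩
    rw [hζ]
    field_simp
  obtain ⟨ζ, hζ⟩ := prod_roots_form a g.roots hroot
  have hcard : Multiset.card g.roots = g.natDegree := hgsplit.natDegree_eq_card_roots.symm
  rw [hcard] at hζ
  set m := g.natDegree with hm
  have hζ0 : ζ ≠ 0 := by
    rintro rfl
    rw [map_zero, zero_mul, Multiset.prod_eq_zero_iff] at hζ
    obtain ⟨ζ', h'⟩ := hroot 0 hζ
    have h1 : P.IsRoot 0 := by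
      have := (mem_roots hgmonic.ne_zero).mp hζ
      obtain ⟨q, hq⟩ := hgP
      rw [IsRoot.def, hq, eval_mul, this.eq_zero, zero_mul]
    have : eval 0 P = 0 := h1
    simp [hP, he0.ne'] at this
    exact ha0 this
  have ham : a ^ m ∈ L' := by
    have hc0 : g.coeff 0 = (-1) ^ m * g.roots.prod :=
      hgsplit.coeff_zero_eq_prod_roots_of_monic hgmonic
    have hcoeffmem : g.coeff 0 ∈ L' := by rw [hg, coeff_map]; exact Subtype.mem _
    have hz : algebraMap K L ζ ≠ 0 := by simpa using hζ0
    have : a ^ m = algebraMap K L ζ⁻¹ * ((-1) ^ m * g.coeff 0) := by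
      rw [hc0, hζ, map_inv₀, ← mul_assoc ((-1) ^ m), ← mul_pow]
      simp
      field_simp
    rw [this]
    exact L'.mul_mem (L'.algebraMap_mem _) (L'.mul_mem (pow_mem (neg_mem (one_mem _)) _) hcoeffmem)
  have hFL' : K⟮a ^ m⟯ ≤ L' := by rw [adjoin_simple_le_iff]; exact ham
  have finrank_eq : ∀ E : IntermediateField K L, Module.finrank E L = natDegree (minpoly E a) := by
    intro E
    have := adjoin.finrank (IsIntegral.of_finite E a)
    rw [adjoin_eq_top_of_adjoin_eq_top K ha] at this
    simp_all
  refine ⟨m, ?_, ?_⟩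
  · have h1 : Module.finrank L' L = m := by
      rw [finrank_eq L', hm, hg, natDegree_map]
    rw [← h1, ← he, ← Module.finrank_mul_finrank K L' L]
    exact dvd_mul_left _ _
  · apply le_antisymm _ hFL'
    set F := K⟮a ^ m⟯ with hF
    have hamF : a ^ m ∈ F := mem_adjoin_simple_self K (a ^ m)
    set h := (minpoly F a).map (algebraMap F L) with hh
    have hintF : IsIntegral F a := .of_finite F a
    have hhmonic : h.Monic := (minpoly.monic hintF).map _
    -- degree of h at most m
    have hdeg : h.natDegree ≤ m := by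
      rw [hh, natDegree_map]
      let Q : F[X] := X ^ m - C (⟨a ^ m, hamF⟩ : F)
      have hm0 : m ≠ 0 := by
        intro h0
        have := minpoly.natDegree_pos hint
        rw [hm, hg, natDegree_map] at h0
        omega
      have hQ : (minpoly F a) ∣ Q := by
        apply minpoly.dvd
        simp only [Q, map_sub, map_pow, aeval_X, aeval_C]
        exact sub_self _
      have := natDegree_le_of_dvd hQ (monic_X_pow_sub_C _ hm0).ne_zero
      rwa [natDegree_X_pow_sub_C] at this
    -- g divides h
    have hgh : g ∣ h := by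
      let h' : L'[X] := (minpoly F a).map (IntermediateField.inclusion hFL').toRingHom
      have hh' : h'.map (algebraMap L' L) = h := by
        rw [hh, Polynomial.map_map]
        rfl
      rw [← hh', hg]
      apply Polynomial.map_dvd
      apply minpoly.dvd
      have : (Polynomial.aeval a) h' = eval a (h'.map (algebraMap L' L)) := by
        rw [eval_map_algebraMap]
      rw [this, hh', hh, eval_map_algebraMap, minpoly.aeval]
    have hgeq : h = g := eq_of_monic_of_dvd_of_natDegree_le hgmonic hhmonic hgh hdeg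
    have key := adjoin_minpoly_coeff_of_exists_primitive_element K ha L'
    rw [← key, ← hg, ← hgeq, adjoin_le_iff]
    intro x hx
    rw [Finset.mem_coe, mem_coeffs_iff] at hx
    obtain ⟨n, -, rfl⟩ := hx
    rw [hh, coeff_map]
    exact Subtype.mem _

end Groth.Agent.H2.Kummer
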