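import Mathlib

/-! Lubin–Tate lemma, part 1: coefficient lemmas for the two substitution actions.
(helper2, S15049–S15060) -/

namespace Groth.Agent.H2.LT

open MvPowerSeries

variable {R : Type*} [CommRing R] {σ : Type*} [Finite σ]

/-- the series `π T + c T^q`. -/
noncomputable def fser (π c : R) (q : ℕ) : PowerSeries R :=
  π • PowerSeries.X + c • PowerSeries.X ^ q

/-- `f(X_i)` -/
noncomputable def fX (π c : R) (q : ℕ) (i : σ) : MvPowerSeries σ R :=
  π • X i + c • X i ^ q

/-- left action `Φ ↦ g(Φ)` -/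
noncomputable def lact (g : PowerSeries R) (Φ : MvPowerSeries σ R) : MvPowerSeries σ R :=
  PowerSeries.subst Φ g

/-- right action `Φ ↦ Φ(f(X_i))` -/
noncomputable def ract (f : PowerSeries R) (Φ : MvPowerSeries σ R) : MvPowerSeries σ R :=
  MvPowerSeries.subst (fun i : σ => PowerSeries.subst (X i : MvPowerSeries σ R) f) Φ

omit [Finite σ] in
lemma hasSubst_of_cc {Φ : MvPowerSeries σ R} (h : constantCoeff Φ = 0) : PowerSeries.HasSubst Φ :=
  PowerSeries.HasSubst.of_constantCoeff_zero h

omit [Finite σ] in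
lemma lact_fser (π c : R) (q : ℕ) {Φ : MvPowerSeries σ R} (h : constantCoeff Φ = 0) :
    lact (fser π c q) Φ = π • Φ + c • Φ ^ q := by
  have hs := hasSubst_of_cc h
  unfold lact fser
  rw [PowerSeries.subst_add hs, PowerSeries.subst_smul hs, PowerSeries.subst_smul hs,
    PowerSeries.subst_pow hs, PowerSeries.subst_X hs]

omit [Finite σ] in
lemma subst_X_fser (π c : R) (q : ℕ) (i : σ) :
    PowerSeries.subst (X i : MvPowerSeries σ R) (fser π c q) = fX π c q i := by
  have h : constantCoeff (X i : MvPowerSeries σ R) = 0 := constantCoeff_X i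
  have := lact_fser π c q h
  exact this

omit [Finite σ] in
lemma constantCoeff_fX (π c : R) {q : ℕ} (hq : 1 ≤ q) (i : σ) :
    constantCoeff (fX π c q i : MvPowerSeries σ R) = 0 := by
  unfold fX
  have : q ≠ 0 := by omega
  simp [this]

lemma hasSubst_fX (π c : R) {q : ℕ} (hq : 1 ≤ q) :
    HasSubst (fX π c q : σ → MvPowerSeries σ R) :=
  hasSubst_of_constantCoeff_zero (constantCoeff_fX π c hq)

lemma ract_fser (π c : R) (q : ℕ) (Φ : MvPowerSeries σ R) :
    ract (fser π c q) Φ = MvPowerSeries.subst (fX π c q) Φ := by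
  unfold ract
  congr 1
  funext i
  exact subst_X_fser π c q i

lemma ract_sub (π c : R) {q : ℕ} (hq : 1 ≤ q) (Φ Ψ : MvPowerSeries σ R) :
    ract (fser π c q) (Φ - Ψ) = ract (fser π c q) Φ - ract (fser π c q) Ψ := by
  rw [ract_fser, ract_fser, ract_fser, subst_sub (hasSubst_fX π c hq)]

lemma ract_add (π c : R) {q : ℕ} (hq : 1 ≤ q) (Φ Ψ : MvPowerSeries σ R) :
    ract (fser π c q) (Φ + Ψ) = ract (fser π c q) Φ + ract (fser π c q) Ψ := by
  rw [ract_fser, ract_fser, ract_fser, subst_add (hasSubst_fX π c hq)]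



/-- the unit-like factor `π + c X_i^{q-1}` of `f(X_i) = X_i * u_i`. -/
noncomputable def uX (π c : R) (q : ℕ) (i : σ) : MvPowerSeries σ R :=
  C π + c • X i ^ (q - 1)

omit [Finite σ] in
lemma fX_eq (π c : R) {q : ℕ} (hq : 1 ≤ q) (i : σ) :
    (fX π c q i : MvPowerSeries σ R) = X i * uX π c q i := by
  unfold fX uX
  rw [mul_add, mul_smul_comm, ← pow_succ', show q - 1 + 1 = q by omega, smul_eq_C_mul, mul_comm]

omit [Finite σ] in
lemma constantCoeff_uX (π c : R) {q : ℕ} (hq : 2 ≤ q) (i : σ) :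
    constantCoeff (uX π c q i : MvPowerSeries σ R) = π := by
  unfold uX
  have : q - 1 ≠ 0 := by omega
  simp [this]

omit [Finite σ] in
lemma prod_fX (π c : R) {q : ℕ} (hq : 1 ≤ q) (d : σ →₀ ℕ) :
    (d.prod fun s n => (fX π c q s : MvPowerSeries σ R) ^ n) =
      monomial d (1 : R) * d.prod fun s n => (uX π c q s : MvPowerSeries σ R) ^ n := by
  have : (monomial d (1 : R) : MvPowerSeries σ R) = d.prod fun s n => (X s : MvPowerSeries σ R) ^ n := by
    simp only [X_pow_eq]
    rw [Finsupp.prod, prod_monomial]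
    simp only [Finset.prod_const_one]
    congr 2
    exact (Finsupp.sum_single d).symm
  rw [this, ← Finsupp.prod_mul]
  apply Finsupp.prod_congr
  intro s _
  rw [fX_eq π c hq, mul_pow]

omit [Finite σ] in
lemma constantCoeff_prod_uX (π c : R) {q : ℕ} (hq : 2 ≤ q) (d : σ →₀ ℕ) :
    constantCoeff (d.prod fun s n => (uX π c q s : MvPowerSeries σ R) ^ n) = π ^ d.degree := by
  rw [Finsupp.prod, map_prod]
  simp only [map_pow, constantCoeff_uX π c hq]
  rw [Finset.prod_pow_eq_pow_sum, Finsupp.degree_apply]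

lemma coeff_ract (π c : R) {q : ℕ} (hq : 2 ≤ q) (D : MvPowerSeries σ R) (e : σ →₀ ℕ)
    (hD : ∀ d : σ →₀ ℕ, d.degree < e.degree → coeff d D = 0) :
    coeff e (ract (fser π c q) D) = π ^ e.degree * coeff e D := by
  classical
  have hq1 : 1 ≤ q := by omega
  rw [ract_fser, coeff_subst (hasSubst_fX π c hq1), finsum_eq_single _ e]
  · rw [prod_fX π c hq1, coeff_monomial_mul, if_pos le_rfl, tsub_self, one_mul,
      coeff_zero_eq_constantCoeff_apply, constantCoeff_prod_uX π c hq, smul_eq_mul, mul_comm]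
  · intro d hde
    by_cases hlt : d.degree < e.degree
    · rw [hD d hlt, zero_smul]
    · rw [prod_fX π c hq1, coeff_monomial_mul, if_neg, smul_zero]
      intro hle
      apply hde
      have h1 : d.degree ≤ e.degree := Finsupp.degree_mono hle
      have h2 : e = d + (e - d) := (add_tsub_cancel_of_le hle).symm
      have h3 : e.degree = d.degree + (e - d).degree := by
        conv_lhs => rw [h2]
        rw [map_add]
      have h4 : (e - d).degree = 0 := by omega
      rw [Finsupp.degree_eq_zero_iff] at h4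
      rw [h2, h4, add_zero]



omit [Finite σ] in
lemma coeff_pow_add_sub (Φ D : MvPowerSeries σ R) {q : ℕ} (hq : 2 ≤ q) (n : ℕ)
    (hΦ : constantCoeff Φ = 0) (hD0 : constantCoeff D = 0)
    (hD : ∀ d : σ →₀ ℕ, d.degree < n → coeff d D = 0) (e : σ →₀ ℕ) (he : e.degree ≤ n) :
    coeff e ((Φ + D) ^ q) = coeff e (Φ ^ q) := by
  have h1 := geom_sum₂_mul (Φ + D) Φ q
  rw [add_sub_cancel_left] at h1
  have h2 : coeff e ((Φ + D) ^ q - Φ ^ q) = 0 := by
    rw [← h1]
    apply coeff_of_lt_order
    refine lt_of_lt_of_le ?_ (le_order_mul)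
    have hS : (1 : ℕ∞) ≤ (∑ i ∈ Finset.range q, (Φ + D) ^ i * Φ ^ (q - 1 - i)).order := by
      rw [one_le_order_iff_constCoeff_eq_zero, map_sum]
      apply Finset.sum_eq_zero
      intro i hi
      rw [Finset.mem_range] at hi
      rw [map_mul, map_pow, map_pow, map_add, hΦ, hD0, add_zero]
      by_cases hi0 : i = 0
      · rw [hi0, pow_zero, one_mul, zero_pow]
        omega
      · rw [zero_pow hi0, zero_mul]
    have hDn : (n : ℕ∞) ≤ D.order := nat_le_order hD
    calc (e.degree : ℕ∞) ≤ n := by exact_mod_cast he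
      _ < 1 + n := by
          rw [add_comm]
          exact_mod_cast Nat.lt_succ_self n
      _ ≤ _ := add_le_add hS hDn
  rw [map_sub, sub_eq_zero] at h2
  exact h2

omit [Finite σ] in
lemma coeff_lact_add (π c : R) {q : ℕ} (hq : 2 ≤ q) (Φ D : MvPowerSeries σ R) (n : ℕ) (hn : 1 ≤ n)
    (hΦ : constantCoeff Φ = 0)
    (hD : ∀ d : σ →₀ ℕ, d.degree < n → coeff d D = 0) (e : σ →₀ ℕ) (he : e.degree ≤ n) :
    coeff e (lact (fser π c q) (Φ + D)) = coeff e (lact (fser π c q) Φ) + π * coeff e D := by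
  have hD0 : constantCoeff D = 0 := by
    rw [← coeff_zero_eq_constantCoeff_apply]
    apply hD
    rw [map_zero]; omega
  have hΦD : constantCoeff (Φ + D) = 0 := by rw [map_add, hΦ, hD0, add_zero]
  rw [lact_fser π c q hΦD, lact_fser π c q hΦ]
  simp only [map_add, coeff_smul]
  rw [coeff_pow_add_sub Φ D hq n hΦ hD0 hD e he]
  ring

end Groth.Agent.H2.LT
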