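import Groth.Agent.Lib.Helper2.LT1

/-! Lubin–Tate lemma, part 2: uniqueness. (helper2) -/

namespace Groth.Agent.H2.LT
open MvPowerSeries
variable {R : Type*} [CommRing R] {σ : Type*} [Finite σ]

/-- uniqueness in the Lubin–Tate lemma. -/
theorem unique (π c c' : R) {q q' : ℕ} (hq : 2 ≤ q) (hq' : 2 ≤ q')
    (hreg : ∀ n : ℕ, 1 ≤ n → ∀ x : R, (π - π ^ (n + 1)) * x = 0 → x = 0)
    (Φ Ψ : MvPowerSeries σ R) (hΦ0 : constantCoeff Φ = 0) (hΨ0 : constantCoeff Ψ = 0)
    (hlin : ∀ i : σ, coeff (Finsupp.single i 1) Φ = coeff (Finsupp.single i 1) Ψ)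
    (hΦ : lact (fser π c' q') Φ = ract (fser π c q) Φ)
    (hΨ : lact (fser π c' q') Ψ = ract (fser π c q) Ψ) : Φ = Ψ := by
  have key : ∀ n : ℕ, ∀ e : σ →₀ ℕ, e.degree = n → coeff e Φ = coeff e Ψ := by
    intro n
    induction n using Nat.strong_induction_on with
    | _ n ih =>
      intro e he
      rcases Nat.lt_or_ge n 2 with hn | hn
      · interval_cases n
        · rw [Finsupp.degree_eq_zero_iff] at he
          rw [he, coeff_zero_eq_constantCoeff_apply, coeff_zero_eq_constantCoeff_apply, hΦ0, hΨ0]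
        · have : e ∈ Set.range (fun a : σ ↦ Finsupp.single a 1) := by
            rw [Finsupp.range_single_one]; exact he
          obtain ⟨i, rfl⟩ := this
          exact hlin i
      · set D := Ψ - Φ with hD
        have hDlow : ∀ d : σ →₀ ℕ, d.degree < n → coeff d D = 0 := by
          intro d hd
          rw [hD, map_sub, ih d.degree hd d rfl, sub_self]
        have hΨeq : Ψ = Φ + D := by rw [hD]; ring
        have h1 := coeff_lact_add π c' hq' Φ D n (by omega) hΦ0 hDlow e he.le
        rw [← hΨeq, hΨ, hΦ] at h1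
        have h2 : ract (fser π c q) Ψ = ract (fser π c q) Φ + ract (fser π c q) D := by
          rw [← ract_add π c (by omega), ← hΨeq]
        rw [h2, map_add, add_right_inj, coeff_ract π c hq D e (by rw [he]; exact hDlow)] at h1
        have h3 : (π - π ^ (n - 1 + 1)) * coeff e D = 0 := by
          rw [show n - 1 + 1 = n by omega, sub_mul, ← he, h1, sub_self]
        have h4 := hreg (n - 1) (by omega) _ h3
        rw [hD, map_sub, sub_eq_zero] at h4
        exact h4.symm
  ext e
  exact key e.degree e rfl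

end Groth.Agent.H2.LT
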