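import Groth.Agent.Lib.Helper2.LT2

/-! Lubin–Tate lemma, part 3: existence by successive approximation. (helper2) -/

namespace Groth.Agent.H2.LT
open MvPowerSeries
variable {R : Type*} [CommRing R] {σ : Type*} [Finite σ]

section Exist
variable (π c c' : R) (q q' : ℕ)

/-- the error term `g(Φ) - Φ(f(X))`. -/
noncomputable def err (Φ : MvPowerSeries σ R) : MvPowerSeries σ R :=
  lact (fser π c' q') Φ - ract (fser π c q) Φ

open Classical in
/-- a chosen quotient of the error by `π`. -/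
noncomputable def quo (Φ : MvPowerSeries σ R) : MvPowerSeries σ R :=
  if h : ∃ Ψ : MvPowerSeries σ R, err π c c' q q' Φ = π • Ψ then h.choose else 0

omit [Finite σ] in
lemma quo_spec (Φ : MvPowerSeries σ R) (h : ∃ Ψ : MvPowerSeries σ R, err π c c' q q' Φ = π • Ψ) :
    err π c c' q q' Φ = π • quo π c c' q q' Φ := by
  unfold quo
  rw [dif_pos h]
  exact h.choose_spec

/-- the correction in degree `n + 2`. -/
noncomputable def corr (n : ℕ) (Φ : MvPowerSeries σ R) : MvPowerSeries σ R :=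
  -(Ring.inverse (1 - π ^ (n + 1)) • homogeneousComponent (n + 2) (quo π c c' q q' Φ))

/-- one approximation step. -/
noncomputable def step (n : ℕ) (Φ : MvPowerSeries σ R) : MvPowerSeries σ R :=
  Φ + corr π c c' q q' n Φ

omit [Finite σ] in
lemma coeff_corr (n : ℕ) (Φ : MvPowerSeries σ R) (d : σ →₀ ℕ) :
    coeff d (corr π c c' q q' n Φ) =
      if d.degree = n + 2 then -(Ring.inverse (1 - π ^ (n + 1)) * coeff d (quo π c c' q q' Φ))
      else 0 := by
  unfold corr
  rw [map_neg, coeff_smul, coeff_homogeneousComponent]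
  split_ifs <;> simp

variable {π c c' q q'}

lemma coeff_err_add (hq : 2 ≤ q) (hq' : 2 ≤ q') (Φ D : MvPowerSeries σ R) (n : ℕ) (hn : 1 ≤ n)
    (hΦ : constantCoeff Φ = 0)
    (hD : ∀ d : σ →₀ ℕ, d.degree < n → coeff d D = 0) (e : σ →₀ ℕ) (he : e.degree ≤ n) :
    coeff e (err π c c' q q' (Φ + D)) =
      coeff e (err π c c' q q' Φ) + (π - π ^ e.degree) * coeff e D := by
  unfold err
  rw [map_sub, map_sub, coeff_lact_add π c' hq' Φ D n hn hΦ hD e he, ract_add π c (by omega),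
    map_add, coeff_ract π c hq D e (fun d hd => hD d (by omega))]
  ring

lemma step_spec (hq : 2 ≤ q) (hq' : 2 ≤ q') (n : ℕ) (Φ : MvPowerSeries σ R)
    (hΦ : constantCoeff Φ = 0) (hunit : IsUnit (1 - π ^ (n + 1)))
    (hcong : ∃ Ψ : MvPowerSeries σ R, err π c c' q q' Φ = π • Ψ)
    (herr : ∀ d : σ →₀ ℕ, d.degree < n + 2 → coeff d (err π c c' q q' Φ) = 0) :
    ∀ d : σ →₀ ℕ, d.degree < n + 3 → coeff d (err π c c' q q' (step π c c' q q' n Φ)) = 0 := by
  intro e he
  unfold step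
  have hD : ∀ d : σ →₀ ℕ, d.degree < n + 2 → coeff d (corr π c c' q q' n Φ) = 0 := by
    intro d hd
    rw [coeff_corr, if_neg (by omega)]
  rw [coeff_err_add hq hq' Φ _ (n + 2) (by omega) hΦ hD e (by omega)]
  rcases Nat.lt_or_ge e.degree (n + 2) with h | h
  · rw [herr e h, hD e h, mul_zero, add_zero]
  · have he2 : e.degree = n + 2 := by omega
    rw [coeff_corr, if_pos he2, quo_spec π c c' q q' Φ hcong, coeff_smul, he2]
    have hu := Ring.mul_inverse_cancel _ hunit
    set u := Ring.inverse (1 - π ^ (n + 1))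
    set x := coeff e (quo π c c' q q' Φ)
    have : π * x + (π - π ^ (n + 2)) * -(u * x) = π * x * (1 - (1 - π ^ (n + 1)) * u) := by ring
    rw [this, hu, sub_self, mul_zero]

omit [Finite σ] in
lemma coeff_step_of_ne (n : ℕ) (Φ : MvPowerSeries σ R) (d : σ →₀ ℕ) (hd : d.degree ≠ n + 2) :
    coeff d (step π c c' q q' n Φ) = coeff d Φ := by
  unfold step
  rw [map_add, coeff_corr, if_neg hd, add_zero]

variable (π c c' q q')

/-- the approximating sequence. -/
noncomputable def seq (Φ₀ : MvPowerSeries σ R) : ℕ → MvPowerSeries σ R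
  | 0 => Φ₀
  | n + 1 => step π c c' q q' n (seq Φ₀ n)

variable {π c c' q q'}

omit [Finite σ] in
lemma coeff_seq_stab (Φ₀ : MvPowerSeries σ R) (n k : ℕ) (d : σ →₀ ℕ) (hd : d.degree < n + 2) :
    coeff d (seq π c c' q q' Φ₀ (n + k)) = coeff d (seq π c c' q q' Φ₀ n) := by
  induction k with
  | zero => rfl
  | succ k ih =>
    rw [← add_assoc]
    change coeff d (step π c c' q q' (n + k) (seq π c c' q q' Φ₀ (n + k))) = _
    rw [coeff_step_of_ne _ _ _ (by omega), ih]

omit [Finite σ] in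
lemma coeff_seq_low (Φ₀ : MvPowerSeries σ R) (n : ℕ) (d : σ →₀ ℕ) (hd : d.degree < 2) :
    coeff d (seq π c c' q q' Φ₀ n) = coeff d Φ₀ := by
  have := coeff_seq_stab (π := π) (c := c) (c' := c') (q := q) (q' := q') Φ₀ 0 n d (by omega)
  rw [zero_add] at this
  exact this

omit [Finite σ] in
lemma constantCoeff_seq (Φ₀ : MvPowerSeries σ R) (h0 : constantCoeff Φ₀ = 0) (n : ℕ) :
    constantCoeff (seq π c c' q q' Φ₀ n) = 0 := by
  rw [← coeff_zero_eq_constantCoeff_apply, coeff_seq_low Φ₀ n 0 (by simp),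
    coeff_zero_eq_constantCoeff_apply, h0]

lemma err_base (hq : 2 ≤ q) (hq' : 2 ≤ q') (Φ₀ : MvPowerSeries σ R) (h0 : constantCoeff Φ₀ = 0) :
    ∀ d : σ →₀ ℕ, d.degree < 2 → coeff d (err π c c' q q' Φ₀) = 0 := by
  intro e he
  have hD : ∀ d : σ →₀ ℕ, d.degree < 1 → coeff d Φ₀ = 0 := by
    intro d hd
    have : d = 0 := by
      rw [← Finsupp.degree_eq_zero_iff]; omega
    rw [this, coeff_zero_eq_constantCoeff_apply, h0]
  have h1 := coeff_err_add (π := π) (c := c) (c' := c') hq hq' (0 : MvPowerSeries σ R) Φ₀ 1 le_rfl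
    (map_zero _) hD e (by omega)
  rw [zero_add] at h1
  rw [h1]
  have herr0 : err π c c' q q' (0 : MvPowerSeries σ R) = 0 := by
    unfold err
    rw [lact_fser π c' q' (map_zero _), ract_fser]
    have : q' ≠ 0 := by omega
    have h2 : MvPowerSeries.subst (fX π c q) (0 : MvPowerSeries σ R) = 0 := by
      rw [← coe_substAlgHom (hasSubst_fX π c (by omega))]
      exact map_zero _
    rw [h2]
    simp [this]
  rw [herr0, map_zero, zero_add]
  rcases Nat.lt_or_ge e.degree 1 with h | h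
  · rw [hD e h, mul_zero]
  · have : e.degree = 1 := by omega
    rw [this, pow_one, sub_self, zero_mul]

lemma err_seq (hq : 2 ≤ q) (hq' : 2 ≤ q')
    (hunit : ∀ n : ℕ, 1 ≤ n → IsUnit (1 - π ^ n))
    (hcong : ∀ Φ : MvPowerSeries σ R, constantCoeff Φ = 0 →
      ∃ Ψ : MvPowerSeries σ R, err π c c' q q' Φ = π • Ψ)
    (Φ₀ : MvPowerSeries σ R) (h0 : constantCoeff Φ₀ = 0) (n : ℕ) :
    ∀ d : σ →₀ ℕ, d.degree < n + 2 → coeff d (err π c c' q q' (seq π c c' q q' Φ₀ n)) = 0 := by
  induction n with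
  | zero => exact err_base hq hq' Φ₀ h0
  | succ n ih =>
    exact step_spec hq hq' n _ (constantCoeff_seq Φ₀ h0 n) (hunit _ (by omega))
      (hcong _ (constantCoeff_seq Φ₀ h0 n)) ih

variable (π c c' q q')

/-- the limit of the approximating sequence. -/
noncomputable def lim (Φ₀ : MvPowerSeries σ R) : MvPowerSeries σ R :=
  fun d => coeff d (seq π c c' q q' Φ₀ d.degree)

variable {π c c' q q'}

omit [Finite σ] in
lemma coeff_lim (Φ₀ : MvPowerSeries σ R) (n : ℕ) (d : σ →₀ ℕ) (hd : d.degree < n + 2) :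
    coeff d (lim π c c' q q' Φ₀) = coeff d (seq π c c' q q' Φ₀ n) := by
  have h0 : coeff d (lim π c c' q q' Φ₀) = coeff d (seq π c c' q q' Φ₀ d.degree) := rfl
  rw [h0]
  rcases Nat.lt_or_ge n d.degree with h | h
  · have : d.degree = n + 1 := by omega
    rw [this]
    exact coeff_seq_stab Φ₀ n 1 d hd
  · obtain ⟨k, hk⟩ := Nat.exists_eq_add_of_le h
    rw [hk]
    exact (coeff_seq_stab Φ₀ d.degree k d (by omega)).symm

/-- existence in the Lubin–Tate lemma. -/
theorem exists_sol (hq : 2 ≤ q) (hq' : 2 ≤ q')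
    (hunit : ∀ n : ℕ, 1 ≤ n → IsUnit (1 - π ^ n))
    (hcong : ∀ Φ : MvPowerSeries σ R, constantCoeff Φ = 0 →
      ∃ Ψ : MvPowerSeries σ R, err π c c' q q' Φ = π • Ψ)
    (Φ₀ : MvPowerSeries σ R) (h0 : constantCoeff Φ₀ = 0) :
    ∃ Φ : MvPowerSeries σ R, constantCoeff Φ = 0 ∧
      (∀ i : σ, coeff (Finsupp.single i 1) Φ = coeff (Finsupp.single i 1) Φ₀) ∧
      lact (fser π c' q') Φ = ract (fser π c q) Φ := by
  refine ⟨lim π c c' q q' Φ₀, ?_, ?_, ?_⟩
  · rw [← coeff_zero_eq_constantCoeff_apply, coeff_lim Φ₀ 0 0 (by simp)]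
    exact h0
  · intro i
    rw [coeff_lim Φ₀ 0 _ (by simp)]
    rfl
  · rw [← sub_eq_zero]
    change err π c c' q q' (lim π c c' q q' Φ₀) = 0
    ext e
    rw [map_zero]
    set n := e.degree with hn
    set D := lim π c c' q q' Φ₀ - seq π c c' q q' Φ₀ n with hD
    have hDlow : ∀ d : σ →₀ ℕ, d.degree < n + 2 → coeff d D = 0 := by
      intro d hd
      rw [hD, map_sub, coeff_lim Φ₀ n d hd, sub_self]
    have : lim π c c' q q' Φ₀ = seq π c c' q q' Φ₀ n + D := by rw [hD]; ring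
    rw [this, coeff_err_add hq hq' _ D (n + 2) (by omega) (constantCoeff_seq Φ₀ h0 n) hDlow e
      (by omega), hDlow e (by omega), mul_zero, add_zero]
    exact err_seq hq hq' hunit hcong Φ₀ h0 n e (by omega)

end Exist

end Groth.Agent.H2.LT
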