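import Groth.Agent.Lib.Helper2.LT3

/-! Lubin–Tate lemma, part 4: the case of a DVR with finite residue field. (helper2) -/

namespace Groth.Agent.H2.LT
open MvPowerSeries

section Frob
variable {k : Type*} [Field k] [Finite k] {σ : Type*}

lemma expand_card (G : MvPowerSeries σ k) (hq : Nat.card k ≠ 0) :
    expand (Nat.card k) hq G = G ^ Nat.card k := by
  classical
  letI : Fintype k := Fintype.ofFinite k
  set p := ringChar k with hp
  haveI : CharP k p := ringChar.charP k
  haveI : Fact p.Prime := ⟨CharP.char_is_prime k p⟩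
  obtain ⟨n, hpp, hn⟩ := FiniteField.card k p
  have hcard : Nat.card k = p ^ (n : ℕ) := by rw [Nat.card_eq_fintype_card, hn]
  have hp0 : p ≠ 0 := hpp.ne_zero
  have h1 := map_iterateFrobenius_expand p hp0 G n
  have h2 : iterateFrobenius k p n = RingHom.id k := by
    ext x
    rw [iterateFrobenius_def, ← hn, FiniteField.pow_card, RingHom.id_apply]
  rw [h2, map_id, RingHom.id_apply] at h1
  have key : ∀ (m : ℕ) (hm : m ≠ 0), m = p ^ (n : ℕ) → expand m hm G = G ^ m := by
    intro m hm hmn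
    subst hmn
    exact h1
  exact key _ hq hcard

end Frob

section DVR
variable {O : Type*} [CommRing O] [IsDomain O] [IsDiscreteValuationRing O]
  [Finite (IsLocalRing.ResidueField O)] {π : O} (hπ : Irreducible π) {σ : Type*} [Finite σ]

lemma two_le_card : 2 ≤ Nat.card (IsLocalRing.ResidueField O) := Finite.one_lt_card

include hπ in
omit [Finite (IsLocalRing.ResidueField O)] [Finite σ] in
lemma exists_smul_of_map_eq_zero (G : MvPowerSeries σ O)
    (h : map (IsLocalRing.residue O) G = 0) : ∃ Ψ : MvPowerSeries σ O, G = π • Ψ := by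
  have : ∀ d, ∃ c, coeff d G = π * c := by
    intro d
    have := congrArg (coeff d) h
    rw [coeff_map, map_zero, IsLocalRing.residue_eq_zero_iff, hπ.maximalIdeal_eq,
      Ideal.mem_span_singleton'] at this
    obtain ⟨c, hc⟩ := this
    exact ⟨c, by rw [← hc, mul_comm]⟩
  choose c hc using this
  refine ⟨fun d => c d, ?_⟩
  ext d
  rw [coeff_smul, hc d]
  rfl

include hπ in
lemma hcong_dvr (Φ : MvPowerSeries σ O) (hΦ : constantCoeff Φ = 0) :
    ∃ Ψ : MvPowerSeries σ O,
      err π 1 1 (Nat.card (IsLocalRing.ResidueField O)) (Nat.card (IsLocalRing.ResidueField O)) Φ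
        = π • Ψ := by
  apply exists_smul_of_map_eq_zero hπ
  have hq := two_le_card (O := O)
  have hq0 : Nat.card (IsLocalRing.ResidueField O) ≠ 0 := by omega
  have hres : IsLocalRing.residue O π = 0 := by
    rw [IsLocalRing.residue_eq_zero_iff, hπ.maximalIdeal_eq]
    exact Ideal.mem_span_singleton_self π
  unfold err
  rw [lact_fser π 1 _ hΦ, ract_fser, map_sub, map_add, map_subst (hasSubst_fX π 1 (by omega))]
  have h1 : map (IsLocalRing.residue O) (π • Φ) = 0 := by
    rw [smul_eq_C_mul, map_mul, map_C, hres, map_zero, zero_mul]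
  have h2 : (fun i : σ => map (IsLocalRing.residue O)
      (fX π 1 (Nat.card (IsLocalRing.ResidueField O)) i)) =
      fun i : σ => (X i : MvPowerSeries σ (IsLocalRing.ResidueField O)) ^
        Nat.card (IsLocalRing.ResidueField O) := by
    funext i
    unfold fX
    rw [one_smul, map_add, smul_eq_C_mul, map_mul, map_C, hres, map_zero, zero_mul, zero_add,
      map_pow, map_X]
  rw [h1, h2, one_smul, zero_add, map_pow, sub_eq_zero]
  have h3 := expand_card (map (IsLocalRing.residue O) Φ) hq0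
  rw [← h3]
  unfold expand
  rw [coe_substAlgHom]


omit [Finite (IsLocalRing.ResidueField O)] in
include hπ in
lemma hunit_dvr (n : ℕ) (hn : 1 ≤ n) : IsUnit (1 - π ^ n) := by
  apply IsLocalRing.isUnit_one_sub_self_of_mem_nonunits
  rw [mem_nonunits_iff, isUnit_pow_iff (by omega)]
  exact hπ.not_isUnit

omit [Finite (IsLocalRing.ResidueField O)] in
include hπ in
lemma hreg_dvr (n : ℕ) (hn : 1 ≤ n) (x : O) (h : (π - π ^ (n + 1)) * x = 0) : x = 0 := by
  have h1 : π - π ^ (n + 1) = π * (1 - π ^ n) := by ring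
  rw [h1] at h
  have h2 : π * (1 - π ^ n) ≠ 0 := mul_ne_zero hπ.ne_zero (hunit_dvr hπ n hn).ne_zero
  exact (mul_eq_zero.mp h).resolve_left h2

end DVR

section Abstract
variable {R : Type*} [CommRing R] {σ : Type*} [Finite σ]

omit [Finite σ] in
lemma exists_lin (a : σ → R) : ∃ Φ₀ : MvPowerSeries σ R, constantCoeff Φ₀ = 0 ∧
    ∀ i : σ, coeff (Finsupp.single i 1) Φ₀ = a i := by
  classical
  refine ⟨fun d => if h : ∃ i, d = Finsupp.single i 1 then a h.choose else 0, ?_, ?_⟩
  · rw [← coeff_zero_eq_constantCoeff_apply]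
    change (if h : ∃ i, (0 : σ →₀ ℕ) = Finsupp.single i 1 then a h.choose else 0) = 0
    rw [dif_neg]
    rintro ⟨i, hi⟩
    have := congrArg (fun f => f i) hi
    simp at this
  · intro i
    change (if h : ∃ j, Finsupp.single i 1 = Finsupp.single j 1 then a h.choose else 0) = a i
    have h : ∃ j, (Finsupp.single i 1 : σ →₀ ℕ) = Finsupp.single j 1 := ⟨i, rfl⟩
    rw [dif_pos h]
    have := h.choose_spec
    have h2 := Finsupp.single_left_injective (one_ne_zero : (1 : ℕ) ≠ 0) this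
    rw [← h2]

/-- the abstract Lubin–Tate lemma. -/
theorem existsUnique_sol {π c c' : R} {q q' : ℕ} (hq : 2 ≤ q) (hq' : 2 ≤ q')
    (hreg : ∀ n : ℕ, 1 ≤ n → ∀ x : R, (π - π ^ (n + 1)) * x = 0 → x = 0)
    (hunit : ∀ n : ℕ, 1 ≤ n → IsUnit (1 - π ^ n))
    (hcong : ∀ Φ : MvPowerSeries σ R, constantCoeff Φ = 0 →
      ∃ Ψ : MvPowerSeries σ R, err π c c' q q' Φ = π • Ψ)
    (a : σ → R) :
    ∃! Φ : MvPowerSeries σ R, constantCoeff Φ = 0 ∧
      (∀ i : σ, coeff (Finsupp.single i 1) Φ = a i) ∧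
      lact (fser π c' q') Φ = ract (fser π c q) Φ := by
  obtain ⟨Φ₀, h0, h1⟩ := exists_lin a
  obtain ⟨Φ, hΦ0, hΦ1, hΦ⟩ := exists_sol hq hq' hunit hcong Φ₀ h0
  refine ⟨Φ, ⟨hΦ0, fun i => (hΦ1 i).trans (h1 i), hΦ⟩, ?_⟩
  rintro Ψ ⟨hΨ0, hΨ1, hΨ⟩
  exact unique π c c' hq hq' hreg Ψ Φ hΨ0 hΦ0
    (fun i => (hΨ1 i).trans ((hΦ1 i).trans (h1 i)).symm) hΨ hΦ

end Abstract

section DVR2
variable {O : Type*} [CommRing O] [IsDomain O] [IsDiscreteValuationRing O]
  [Finite (IsLocalRing.ResidueField O)] {π : O} (hπ : Irreducible π) {σ : Type*} [Finite σ]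

include hπ in
/-- the Lubin–Tate lemma for `f = π T + T^q` over a DVR with residue field of `q` elements. -/
theorem existsUnique_dvr (a : σ → O) :
    ∃! Φ : MvPowerSeries σ O, constantCoeff Φ = 0 ∧
      (∀ i : σ, coeff (Finsupp.single i 1) Φ = a i) ∧
      lact (fser π 1 (Nat.card (IsLocalRing.ResidueField O))) Φ =
        ract (fser π 1 (Nat.card (IsLocalRing.ResidueField O))) Φ :=
  existsUnique_sol two_le_card two_le_card (hreg_dvr hπ) (hunit_dvr hπ) (hcong_dvr hπ) a

include hπ in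
theorem unique_dvr (Φ Ψ : MvPowerSeries σ O) (hΦ0 : constantCoeff Φ = 0)
    (hΨ0 : constantCoeff Ψ = 0)
    (hlin : ∀ i : σ, coeff (Finsupp.single i 1) Φ = coeff (Finsupp.single i 1) Ψ)
    (hΦ : lact (fser π 1 (Nat.card (IsLocalRing.ResidueField O))) Φ =
        ract (fser π 1 (Nat.card (IsLocalRing.ResidueField O))) Φ)
    (hΨ : lact (fser π 1 (Nat.card (IsLocalRing.ResidueField O))) Ψ =
        ract (fser π 1 (Nat.card (IsLocalRing.ResidueField O))) Ψ) : Φ = Ψ :=
  unique π 1 1 two_le_card two_le_card (hreg_dvr hπ) Φ Ψ hΦ0 hΨ0 hlin hΦ hΨ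

end DVR2

end Groth.Agent.H2.LT
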