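import Groth.Agent.Lib.Helper2.LT4

/-! Lubin–Tate lemma, part 5: compositions of commuting series. (helper2) -/

namespace Groth.Agent.H2.LT
open MvPowerSeries

section Comp
variable {R : Type*} [CommRing R] {σ τ : Type*} [Finite σ] [Finite τ]

omit [Finite σ] in
lemma constantCoeff_subst_X (f : PowerSeries R) (hf0 : PowerSeries.constantCoeff f = 0) (i : σ) :
    constantCoeff (PowerSeries.subst (X i : MvPowerSeries σ R) f) = 0 :=
  PowerSeries.constantCoeff_subst_eq_zero (constantCoeff_X i) f hf0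

lemma hasSubst_subst_X (f : PowerSeries R) (hf0 : PowerSeries.constantCoeff f = 0) :
    HasSubst (fun i : σ => PowerSeries.subst (X i : MvPowerSeries σ R) f) :=
  hasSubst_of_constantCoeff_zero (constantCoeff_subst_X f hf0)

lemma lact_subst (g : PowerSeries R) (Φ : MvPowerSeries σ R) (hΦ0 : constantCoeff Φ = 0)
    (Ψ : σ → MvPowerSeries τ R) (hΨ0 : ∀ i, constantCoeff (Ψ i) = 0) :
    lact g (subst Ψ Φ) = subst Ψ (lact g Φ) := by
  have hsΨ : HasSubst Ψ := hasSubst_of_constantCoeff_zero hΨ0
  have hsΦ : PowerSeries.HasSubst Φ := hasSubst_of_cc hΦ0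
  unfold lact
  rw [PowerSeries.subst_def, PowerSeries.subst_def, subst_comp_subst_apply hsΦ.const hsΨ]

/-- composition lemma: if `Φ` intertwines `f` and `g`, and the `Ψ i` intertwine `h` and `f`, then
`Φ(Ψ)` intertwines `h` and `g`. -/
theorem comp_comm (f g h : PowerSeries R) (hf0 : PowerSeries.constantCoeff f = 0)
    (hh0 : PowerSeries.constantCoeff h = 0)
    (Φ : MvPowerSeries σ R) (hΦ0 : constantCoeff Φ = 0)
    (Ψ : σ → MvPowerSeries τ R) (hΨ0 : ∀ i, constantCoeff (Ψ i) = 0)
    (hΦ : lact g Φ = ract f Φ) (hΨ : ∀ i, lact f (Ψ i) = ract h (Ψ i)) :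
    lact g (subst Ψ Φ) = ract h (subst Ψ Φ) := by
  have hsΨ : HasSubst Ψ := hasSubst_of_constantCoeff_zero hΨ0
  have hfX := hasSubst_subst_X (σ := σ) f hf0
  have hhX := hasSubst_subst_X (σ := τ) h hh0
  rw [lact_subst g Φ hΦ0 Ψ hΨ0, hΦ]
  unfold ract
  rw [subst_comp_subst_apply hfX hsΨ, subst_comp_subst_apply hsΨ hhX]
  congr 1
  funext i
  have h1 : subst Ψ (PowerSeries.subst (X i : MvPowerSeries σ R) f) =
      PowerSeries.subst (Ψ i) f := by
    have hsX : PowerSeries.HasSubst (X i : MvPowerSeries σ R) := hasSubst_of_cc (constantCoeff_X i)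
    rw [PowerSeries.subst_def, PowerSeries.subst_def, subst_comp_subst_apply hsX.const hsΨ]
    congr 1
    funext _
    exact subst_X hsΨ i
  rw [h1]
  exact hΨ i

omit [Finite σ] in
lemma lact_X_eq_ract (f : PowerSeries R) (hf0 : PowerSeries.constantCoeff f = 0) [Finite σ]
    (i : σ) : lact f (X i : MvPowerSeries σ R) = ract f (X i) := by
  unfold lact ract
  rw [subst_X (hasSubst_subst_X f hf0)]

end Comp

section Lin
variable {R : Type*} [CommRing R] {σ τ : Type*} [Fintype σ]

lemma order_sub_lin (Φ : MvPowerSeries σ R) (hΦ0 : constantCoeff Φ = 0) :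
    (2 : ℕ∞) ≤ (Φ - ∑ i, coeff (Finsupp.single i 1) Φ • (X i : MvPowerSeries σ R)).order := by
  classical
  have : ((2 : ℕ) : ℕ∞) ≤
      (Φ - ∑ i, coeff (Finsupp.single i 1) Φ • (X i : MvPowerSeries σ R)).order := by
    apply nat_le_order
    intro d hd
    rw [map_sub, map_sum]
    simp only [coeff_smul, coeff_X]
    rcases Nat.lt_or_ge d.degree 1 with h | h
    · have hd0 : d = 0 := by
        rw [← Finsupp.degree_eq_zero_iff]; omega
      subst hd0
      rw [coeff_zero_eq_constantCoeff_apply, hΦ0, zero_sub, neg_eq_zero]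
      apply Finset.sum_eq_zero
      intro i _
      rw [if_neg, mul_zero]
      intro h0
      have := congrArg (fun f => f i) h0
      simp at this
    · have hd1 : d.degree = 1 := by omega
      have : d ∈ Set.range (fun a : σ ↦ Finsupp.single a 1) := by
        rw [Finsupp.range_single_one]; exact hd1
      obtain ⟨i₀, rfl⟩ := this
      rw [Finset.sum_eq_single i₀]
      · simp
      · intro i _ hi
        rw [if_neg, mul_zero]
        intro h0
        exact hi (Finsupp.single_left_injective one_ne_zero h0).symm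
      · intro h; exact absurd (Finset.mem_univ _) h
  exact_mod_cast this

theorem coeff_single_subst (Φ : MvPowerSeries σ R) (hΦ0 : constantCoeff Φ = 0)
    (Ψ : σ → MvPowerSeries τ R) (hΨ0 : ∀ i, constantCoeff (Ψ i) = 0) (j : τ) :
    coeff (Finsupp.single j 1) (subst Ψ Φ) =
      ∑ i, coeff (Finsupp.single i 1) Φ * coeff (Finsupp.single j 1) (Ψ i) := by
  have hsΨ : HasSubst Ψ := hasSubst_of_constantCoeff_zero hΨ0
  set L := ∑ i, coeff (Finsupp.single i 1) Φ • (X i : MvPowerSeries σ R) with hL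
  have h1 : subst Ψ Φ = subst Ψ L + subst Ψ (Φ - L) := by
    rw [← subst_add hsΨ]
    congr 1
    ring
  have h2 : subst Ψ L = ∑ i, coeff (Finsupp.single i 1) Φ • Ψ i := by
    rw [hL, ← coe_substAlgHom hsΨ, map_sum]
    apply Finset.sum_congr rfl
    intro i _
    rw [map_smul, substAlgHom_X]
  have h3 : coeff (Finsupp.single j 1) (subst Ψ (Φ - L)) = 0 := by
    apply coeff_of_lt_order
    refine lt_of_lt_of_le ?_ (le_order_subst hsΨ _)
    have ho : (2 : ℕ∞) ≤ (Φ - L).order := order_sub_lin Φ hΦ0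
    have hi : (1 : ℕ∞) ≤ ⨅ i, (Ψ i).order := by
      apply le_iInf
      intro i
      rw [one_le_order_iff_constCoeff_eq_zero]
      exact hΨ0 i
    calc ((Finsupp.single j 1 : τ →₀ ℕ).degree : ℕ∞) = 1 := by simp
      _ < 2 := by norm_num
      _ = 1 * 2 := by norm_num
      _ ≤ _ := mul_le_mul' hi ho
  rw [h1, map_add, h3, add_zero, h2, map_sum]
  simp only [coeff_smul]

end Lin

section Bridge
variable {R : Type*} [CommRing R]

lemma lact_unit (f : PowerSeries R) (Φ : PowerSeries R) :
    lact f (Φ : MvPowerSeries Unit R) = PowerSeries.subst Φ f := rfl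

lemma ract_unit (f : PowerSeries R) (Φ : PowerSeries R) :
    ract f (Φ : MvPowerSeries Unit R) = PowerSeries.subst f Φ := by
  unfold ract
  rw [PowerSeries.subst_def]
  congr 1
  funext i
  exact PowerSeries.X_subst f

end Bridge

end Groth.Agent.H2.LT
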