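import Groth.Agent.Lib.Helper2.LT5

/-! Lubin–Tate lemma, part 6: the intertwining predicate. (helper2) -/

namespace Groth.Agent.H2.LT
open MvPowerSeries

variable {R : Type*} [CommRing R] {σ τ : Type*}

/-- `Φ` intertwines `f` (inside) and `g` (outside): `g(Φ(X)) = Φ(f(X))`, and `Φ(0) = 0`. -/
def Inter (f g : PowerSeries R) (Φ : MvPowerSeries σ R) : Prop :=
  constantCoeff Φ = 0 ∧ lact g Φ = ract f Φ

lemma Inter.comp [Finite σ] [Finite τ] {f g h : PowerSeries R}
    (hf0 : PowerSeries.constantCoeff f = 0)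
    (hh0 : PowerSeries.constantCoeff h = 0) {Φ : MvPowerSeries σ R}
    {Ψ : σ → MvPowerSeries τ R} (hΦ : Inter f g Φ) (hΨ : ∀ i, Inter h f (Ψ i)) :
    Inter h g (subst Ψ Φ) :=
  ⟨constantCoeff_subst_eq_zero (hasSubst_of_constantCoeff_zero fun i => (hΨ i).1)
      (fun i => (hΨ i).1) hΦ.1,
    comp_comm f g h hf0 hh0 Φ hΦ.1 Ψ (fun i => (hΨ i).1) hΦ.2 (fun i => (hΨ i).2)⟩

lemma Inter.X [Finite σ] {f : PowerSeries R} (hf0 : PowerSeries.constantCoeff f = 0) (i : σ) :
    Inter f f (X i : MvPowerSeries σ R) :=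
  ⟨constantCoeff_X i, lact_X_eq_ract f hf0 i⟩

lemma Inter.psubst [Finite τ] {f g h : PowerSeries R}
    (hf0 : PowerSeries.constantCoeff f = 0)
    (hh0 : PowerSeries.constantCoeff h = 0) {φ : PowerSeries R} {a : MvPowerSeries τ R}
    (hφ : Inter f g (φ : MvPowerSeries Unit R)) (ha : Inter h f a) :
    Inter h g (PowerSeries.subst a φ) := by
  rw [PowerSeries.subst_def]
  exact Inter.comp hf0 hh0 hφ (fun _ => ha)

lemma inter_unit_iff (f g φ : PowerSeries R) :
    Inter f g (φ : MvPowerSeries Unit R) ↔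
      PowerSeries.constantCoeff φ = 0 ∧ PowerSeries.subst φ g = PowerSeries.subst f φ := by
  unfold Inter
  rw [ract_unit, lact_unit]
  rfl

lemma coeff_single_psubst (φ : PowerSeries R) (hφ0 : PowerSeries.constantCoeff φ = 0)
    (a : MvPowerSeries τ R) (ha0 : constantCoeff a = 0) (j : τ) :
    coeff (Finsupp.single j 1) (PowerSeries.subst a φ) =
      PowerSeries.coeff 1 φ * coeff (Finsupp.single j 1) a := by
  rw [PowerSeries.subst_def, coeff_single_subst (σ := Unit) φ hφ0 (fun _ => a) (fun _ => ha0) j]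
  simp

lemma coeff_one_psubst (φ a : PowerSeries R) (hφ0 : PowerSeries.constantCoeff φ = 0)
    (ha0 : PowerSeries.constantCoeff a = 0) :
    PowerSeries.coeff 1 (PowerSeries.subst a φ) = PowerSeries.coeff 1 φ * PowerSeries.coeff 1 a :=
  coeff_single_psubst φ hφ0 a ha0 ()

end Groth.Agent.H2.LT
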