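import Groth.Agent.Lib.Helper2.LT6

/-! Lubin–Tate lemma, part 7: base change and the linear outer series (logarithm). (helper2) -/

namespace Groth.Agent.H2.LT
open MvPowerSeries

section Map
variable {R S : Type*} [CommRing R] [CommRing S] (φ : R →+* S) {σ : Type*} [Finite σ]

lemma map_fser (π c : R) (q : ℕ) :
    PowerSeries.map φ (fser π c q) = fser (φ π) (φ c) q := by
  unfold fser
  rw [map_add, PowerSeries.smul_eq_C_mul, PowerSeries.smul_eq_C_mul, map_mul, map_mul,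
    PowerSeries.map_C, PowerSeries.map_C, map_pow, PowerSeries.map_X,
    ← PowerSeries.smul_eq_C_mul, ← PowerSeries.smul_eq_C_mul]

lemma map_lact (g : PowerSeries R) (Φ : MvPowerSeries σ R) (hΦ0 : constantCoeff Φ = 0) :
    map φ (lact g Φ) = lact (PowerSeries.map φ g) (map φ Φ) := by
  unfold lact
  exact PowerSeries.map_subst (hasSubst_of_cc hΦ0) g

lemma map_ract (f : PowerSeries R) (hf0 : PowerSeries.constantCoeff f = 0)
    (Φ : MvPowerSeries σ R) :
    map φ (ract f Φ) = ract (PowerSeries.map φ f) (map φ Φ) := by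
  unfold ract
  rw [map_subst (hasSubst_subst_X f hf0)]
  congr 1
  funext i
  have := PowerSeries.map_subst (h := φ) (hasSubst_of_cc (constantCoeff_X (R := R) i)) f
  rw [this, map_X]

lemma Inter.map {f g : PowerSeries R} (hf0 : PowerSeries.constantCoeff f = 0)
    {Φ : MvPowerSeries σ R} (h : Inter f g Φ) :
    Inter (PowerSeries.map φ f) (PowerSeries.map φ g) (MvPowerSeries.map φ Φ) := by
  refine ⟨?_, ?_⟩
  · rw [← coeff_zero_eq_constantCoeff_apply, coeff_map, coeff_zero_eq_constantCoeff_apply, h.1,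
      map_zero]
  · rw [← map_lact φ g Φ h.1, ← map_ract φ f hf0 Φ, h.2]

end Map

section Lin
variable {R : Type*} [CommRing R] {σ : Type*} [Finite σ]

omit [Finite σ] in
lemma lact_lin (π : R) {q : ℕ} (Φ : MvPowerSeries σ R) (hΦ0 : constantCoeff Φ = 0) :
    lact (fser π 0 q) Φ = π • Φ := by
  rw [lact_fser π 0 q hΦ0, zero_smul, add_zero]

lemma Inter.add_lin {f : PowerSeries R} (hf0 : PowerSeries.constantCoeff f = 0) {π : R} {q : ℕ}
    {A B : MvPowerSeries σ R}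
    (hA : Inter f (fser π 0 q) A) (hB : Inter f (fser π 0 q) B) :
    Inter f (fser π 0 q) (A + B) := by
  have h0 : constantCoeff (A + B) = 0 := by rw [map_add, hA.1, hB.1, add_zero]
  refine ⟨h0, ?_⟩
  have hA2 := hA.2
  have hB2 := hB.2
  rw [lact_lin π A hA.1] at hA2
  rw [lact_lin π B hB.1] at hB2
  rw [lact_lin π _ h0, smul_add, hA2, hB2]
  unfold ract
  rw [subst_add (hasSubst_subst_X f hf0)]

lemma Inter.smul_lin {f : PowerSeries R} (hf0 : PowerSeries.constantCoeff f = 0) {π : R} {q : ℕ}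
    {A : MvPowerSeries σ R} (α : R)
    (hA : Inter f (fser π 0 q) A) :
    Inter f (fser π 0 q) (α • A) := by
  have h0 : constantCoeff (α • A) = 0 := by
    rw [smul_eq_C_mul, map_mul, hA.1, mul_zero]
  refine ⟨h0, ?_⟩
  have hA2 := hA.2
  rw [lact_lin π A hA.1] at hA2
  rw [lact_lin π _ h0, smul_comm, hA2]
  unfold ract
  rw [subst_smul (hasSubst_subst_X f hf0)]

end Lin

section Field
variable {K : Type*} [Field K] {σ : Type*} [Finite σ]

lemma hreg_field {π : K} (h : ∀ n : ℕ, 1 ≤ n → π - π ^ (n + 1) ≠ 0) :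
    ∀ n : ℕ, 1 ≤ n → ∀ x : K, (π - π ^ (n + 1)) * x = 0 → x = 0 :=
  fun n hn x hx => (mul_eq_zero.mp hx).resolve_left (h n hn)

lemma hunit_field {π : K} (h : ∀ n : ℕ, 1 ≤ n → π - π ^ (n + 1) ≠ 0) :
    ∀ n : ℕ, 1 ≤ n → IsUnit (1 - π ^ n) := by
  intro n hn
  rw [isUnit_iff_ne_zero]
  intro h0
  apply h n hn
  have : π - π ^ (n + 1) = π * (1 - π ^ n) := by ring
  rw [this, h0, mul_zero]

omit [Finite σ] in
lemma hcong_field {π : K} (hπ : π ≠ 0) (c c' : K) (q q' : ℕ) (Φ : MvPowerSeries σ K) :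
    ∃ Ψ : MvPowerSeries σ K, err π c c' q q' Φ = π • Ψ :=
  ⟨π⁻¹ • err π c c' q q' Φ, by rw [smul_smul, mul_inv_cancel₀ hπ, one_smul]⟩

/-- the Lubin–Tate lemma over a field (logarithm-type statements). -/
theorem existsUnique_field {π : K} (hπ : π ≠ 0) (h : ∀ n : ℕ, 1 ≤ n → π - π ^ (n + 1) ≠ 0)
    (c c' : K) {q q' : ℕ} (hq : 2 ≤ q) (hq' : 2 ≤ q') (a : σ → K) :
    ∃! Φ : MvPowerSeries σ K, constantCoeff Φ = 0 ∧
      (∀ i : σ, coeff (Finsupp.single i 1) Φ = a i) ∧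
      lact (fser π c' q') Φ = ract (fser π c q) Φ :=
  existsUnique_sol hq hq' (hreg_field h) (hunit_field h)
    (fun Φ _ => hcong_field hπ c c' q q' Φ) a

theorem unique_field {π : K} (h : ∀ n : ℕ, 1 ≤ n → π - π ^ (n + 1) ≠ 0)
    (c c' : K) {q q' : ℕ} (hq : 2 ≤ q) (hq' : 2 ≤ q') (Φ Ψ : MvPowerSeries σ K)
    (hΦ : Inter (fser π c q) (fser π c' q') Φ) (hΨ : Inter (fser π c q) (fser π c' q') Ψ)
    (hlin : ∀ i : σ, coeff (Finsupp.single i 1) Φ = coeff (Finsupp.single i 1) Ψ) : Φ = Ψ :=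
  unique π c c' hq hq' (hreg_field h) Φ Ψ hΦ.1 hΨ.1 hlin hΦ.2 hΨ.2

end Field

end Groth.Agent.H2.LT
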