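import Groth.Agent.Lib.Helper2.LamBasic

set_option autoImplicit false

namespace Groth.Agent.H2.Lam

open PowerSeries Finset LambdaRing

universe u
variable {K : Type u} [CommRing K] [LambdaOps K]

/-- `λ_{-t}(x)`. -/
noncomputable def lamNeg (x : K) : K⟦X⟧ := rescale (-1 : K) (lamSeries x)

theorem coeff_lamNeg (i : ℕ) (x : K) : coeff i (lamNeg x) = (-1) ^ i * LambdaOps.lam i x := by
  rw [lamNeg, coeff_rescale, coeff_lamSeries]

theorem lamNeg_add (x y : K) : lamNeg (x + y) = lamNeg x * lamNeg y := by
  rw [lamNeg, lamSeries_add, map_mul]; rfl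

theorem lamNeg_zero : lamNeg (0 : K) = 1 := by
  rw [lamNeg, lamSeries_zero, map_one]

theorem constantCoeff_lamNeg (x : K) : constantCoeff (lamNeg x) = ((1 : Kˣ) : K) := by
  rw [← coeff_zero_eq_constantCoeff_apply, coeff_lamNeg, LambdaOps.lam_zero]; simp

/-- `σ_t(x) = λ_{-t}(x)⁻¹`. -/
noncomputable def sigmaS (x : K) : K⟦X⟧ := (lamNeg x).invOfUnit 1

theorem lamNeg_mul_sigmaS (x : K) : lamNeg x * sigmaS x = 1 :=
  mul_invOfUnit _ _ (constantCoeff_lamNeg x)

theorem sigmaS_mul_lamNeg (x : K) : sigmaS x * lamNeg x = 1 := by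
  rw [mul_comm, lamNeg_mul_sigmaS]

theorem sigmaS_eq_of_mul_eq_one {x : K} {b : K⟦X⟧} (h : lamNeg x * b = 1) : sigmaS x = b := by
  calc sigmaS x = sigmaS x * (lamNeg x * b) := by rw [h, mul_one]
    _ = (sigmaS x * lamNeg x) * b := by rw [mul_assoc]
    _ = b := by rw [sigmaS_mul_lamNeg, one_mul]

theorem sigmaS_add (x y : K) : sigmaS (x + y) = sigmaS x * sigmaS y := by
  apply sigmaS_eq_of_mul_eq_one
  rw [lamNeg_add]
  calc lamNeg x * lamNeg y * (sigmaS x * sigmaS y)
      = (lamNeg x * sigmaS x) * (lamNeg y * sigmaS y) := by ring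
    _ = 1 := by rw [lamNeg_mul_sigmaS, lamNeg_mul_sigmaS, one_mul]

theorem sigmaS_zero : sigmaS (0 : K) = 1 := by
  apply sigmaS_eq_of_mul_eq_one
  rw [lamNeg_zero, one_mul]

theorem sigmaS_neg (x : K) : sigmaS (-x) = lamNeg x := by
  apply sigmaS_eq_of_mul_eq_one
  rw [← lamNeg_add, neg_add_cancel, lamNeg_zero]

variable (P : PosStructure K)

theorem adamsSeries_eq (x : K) :
    adamsSeries P x = C (P.aug x : K) - X * derivative K (lamNeg x) * sigmaS x := rfl

theorem adamsSeries_add (x y : K) :
    adamsSeries P (x + y) = adamsSeries P x + adamsSeries P y := by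
  rw [adamsSeries_eq, adamsSeries_eq, adamsSeries_eq, lamNeg_add, sigmaS_add,
    Derivation.leibniz, map_add, Int.cast_add, map_add]
  simp only [smul_eq_mul]
  have h1 := lamNeg_mul_sigmaS x
  have h2 := lamNeg_mul_sigmaS y
  have e : X * (lamNeg x * derivative K (lamNeg y) + lamNeg y * derivative K (lamNeg x)) *
      (sigmaS x * sigmaS y) =
      X * derivative K (lamNeg y) * sigmaS y * (lamNeg x * sigmaS x) +
        X * derivative K (lamNeg x) * sigmaS x * (lamNeg y * sigmaS y) := by ring
  rw [e, h1, h2]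
  ring

theorem adams_add (j : ℕ) (x y : K) : adams P j (x + y) = adams P j x + adams P j y := by
  rw [adams, adamsSeries_add, map_add]; rfl

/-- The Adams operation as an additive map. -/
noncomputable def adamsAddHom (j : ℕ) : K →+ K where
  toFun := adams P j
  map_zero' := by
    have h := adams_add P j 0 0
    rw [add_zero] at h
    exact left_eq_add.mp h
  map_add' := adams_add P j

theorem adamsAddHom_apply (j : ℕ) (x : K) : adamsAddHom P j x = adams P j x := rfl

theorem adams_zero' (j : ℕ) : adams P j (0 : K) = 0 := (adamsAddHom P j).map_zero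

theorem adams_neg (j : ℕ) (x : K) : adams P j (-x) = -adams P j x := (adamsAddHom P j).map_neg x

theorem adams_sub (j : ℕ) (x y : K) : adams P j (x - y) = adams P j x - adams P j y :=
  (adamsAddHom P j).map_sub x y

theorem adams_multiset_sum (j : ℕ) (s : Multiset K) :
    adams P j s.sum = (s.map (adams P j)).sum :=
  map_multiset_sum (adamsAddHom P j) s

theorem adams_index_zero (x : K) : adams P 0 x = (P.aug x : K) := by
  rw [adams, adamsSeries_eq, map_sub, mul_assoc, coeff_zero_X_mul, sub_zero, coeff_zero_C]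

/-- The Adams series of a line element. -/
theorem adamsSeries_of_line {u : K} (hu : P.IsLine u) :
    adamsSeries P u = PowerSeries.mk fun k => u ^ k := by
  have hl : lamNeg u = 1 - C u * X := by
    rw [lamNeg, lamSeries_of_line P hu, map_add, map_one, map_mul, rescale_X]
    have : (rescale (-1 : K)) (C u) = C u := by
      ext n
      rw [coeff_rescale, coeff_C]
      split_ifs with h
      · subst h; simp
      · simp
    rw [this, map_neg, map_one]
    ring
  have hgeo : (1 - C u * X) * (PowerSeries.mk fun k => u ^ k) = 1 := by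
    ext n
    rw [sub_mul, one_mul, map_sub, mul_assoc, coeff_C_mul]
    rcases n with _ | n
    · simp
    · rw [coeff_succ_X_mul, coeff_mk, coeff_mk, coeff_one, if_neg (Nat.succ_ne_zero n), pow_succ]
      ring
  have hs : sigmaS u = PowerSeries.mk fun k => u ^ k :=
    sigmaS_eq_of_mul_eq_one (by rw [hl]; exact hgeo)
  have hd : derivative K (1 - C u * X) = - C u := by
    rw [map_sub, Derivation.leibniz, derivative_X, derivative_C, Derivation.map_one_eq_zero]
    simp
  rw [adamsSeries_eq, hs, hl, hu.2, hd]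
  ext n
  rcases n with _ | n
  · simp
  · rw [map_sub, Int.cast_one, map_one, coeff_one, if_neg (Nat.succ_ne_zero n), mul_neg, neg_mul,
      map_neg, sub_neg_eq_add, zero_add,
      mul_assoc, coeff_succ_X_mul, coeff_C_mul, coeff_mk, coeff_mk, pow_succ]
    ring

theorem adams_of_line {u : K} (hu : P.IsLine u) (j : ℕ) : adams P j u = u ^ j := by
  rw [adams, adamsSeries_of_line P hu, coeff_mk]

end Groth.Agent.H2.Lam
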