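import Groth.Agent.Lib.Helper2.LamAdamsFilt

set_option autoImplicit false

namespace Groth.Agent.H2.Lam

open LambdaRing Finset

universe u

variable {K : Type u} [CommRing K] [LambdaOps K] {P : PosStructure K}

theorem adams_natCast_mul (P : PosStructure K) (j : ℕ) (N : ℕ) (x : K) :
    adams P j ((N : K) * x) = (N : K) * adams P j x := by
  rw [← nsmul_eq_mul, ← nsmul_eq_mul, ← adamsAddHom_apply, map_nsmul, adamsAddHom_apply]

theorem exists_mul_mem_of_adams (hK : HasSplitting K P) (j : ℕ) (hj : 2 ≤ j) (n : ℕ) (x : K)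
    (hx : ∃ N : ℕ, 1 ≤ N ∧ (N : K) * (adams P j x - (j : K) ^ n * x) ∈ gammaFiltration P (n + 1)) :
    ∃ N : ℕ, 1 ≤ N ∧ (N : K) * x ∈ gammaFiltration P n := by
  obtain ⟨N, hN, hNx⟩ := hx
  have key : ∀ i, i ≤ n → ∃ M : ℕ, 1 ≤ M ∧ (M : K) * x ∈ gammaFiltration P i := by
    intro i
    induction i with
    | zero => exact fun _ => ⟨1, le_rfl, by rw [gammaFiltration_zero]; trivial⟩
    | succ i ih =>
      intro hi
      obtain ⟨M, hM, hMx⟩ := ih (by omega)
      have hlt : j ^ i < j ^ n := Nat.pow_lt_pow_right (by omega) (by omega)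
      refine ⟨N * M * (j ^ n - j ^ i), ?_, ?_⟩
      · have : 1 ≤ j ^ n - j ^ i := by omega
        exact Nat.one_le_iff_ne_zero.mpr (by positivity)
      · have h1 := adams_sub_mem hK j i hMx
        rw [adams_natCast_mul] at h1
        have h1' := mul_mem_left P (i + 1) (N : K) h1
        have h2 := gammaFiltration_anti P (show i + 1 ≤ n + 1 by omega) hNx
        have h2' := mul_mem_left P (i + 1) (M : K) h2
        have := sub_mem h1' h2'
        have e : (N : K) * ((M : K) * adams P j x - (j : K) ^ i * ((M : K) * x)) -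
            (M : K) * ((N : K) * (adams P j x - (j : K) ^ n * x)) =
            ((N * M * (j ^ n - j ^ i) : ℕ) : K) * x := by
          rw [Nat.cast_mul, Nat.cast_mul, Nat.cast_sub hlt.le]
          push_cast
          ring
        rwa [e] at this
  exact key n le_rfl

end Groth.Agent.H2.Lam
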