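import Groth.Agent.Lib.Helper2.LamGamma2

set_option autoImplicit false

namespace Groth.Agent.H2.Lam

open PowerSeries Finset LambdaRing

universe u
variable {K : Type u} [CommRing K]

/-- truncated alternating sum of coefficients -/
noncomputable def altSum (d : ℕ) (f : K⟦X⟧) : K := ∑ i ∈ range d, (-1 : K) ^ i * coeff i f

theorem altSum_add (d : ℕ) (f g : K⟦X⟧) : altSum d (f + g) = altSum d f + altSum d g := by
  simp [altSum, mul_add, Finset.sum_add_distrib]

theorem altSum_C_mul (d : ℕ) (a : K) (f : K⟦X⟧) : altSum d (C a * f) = a * altSum d f := by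
  simp only [altSum, coeff_C_mul, Finset.mul_sum]
  apply Finset.sum_congr rfl
  intro i _
  ring

theorem altSum_mul_one_add_X (d : ℕ) (g : K⟦X⟧) :
    altSum (d + 1) (g * (1 + X)) = (-1 : K) ^ d * coeff d g := by
  induction d with
  | zero => simp [altSum, mul_add]
  | succ d ih =>
    rw [altSum, Finset.sum_range_succ, ← altSum, ih, mul_add, mul_one, map_add, coeff_succ_mul_X,
      pow_succ]
    ring

variable [LambdaOps K]

theorem dvd_altSum_of_rel (h1 : lamSeries (1 : K) = 1 + X) (d : ℕ) (hd : 2 ≤ d) (F L N' : K)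
    (hL : lamSeries L = 1 + C L * X)
    (hN' : ∀ i : ℕ, d - 1 ≤ i → LambdaOps.lam i N' = 0) (hrel : F + L = N' + 2) :
    (1 - L) ∣ altSum d (lamSeries F) := by
  obtain ⟨d', rfl⟩ : ∃ d', d = d' + 1 := ⟨d - 1, by omega⟩
  have hF : F = N' + 2 + -L := by rw [← hrel]; ring
  have hσ : (1 + C L * X) * lamSeries (-L) = 1 := by rw [← hL, lamSeries_mul_neg]
  have h2 : lamSeries (2 : K) = (1 + X) ^ 2 := by
    have := lamSeries_natCast (K := K) 2
    rw [h1] at this
    exact_mod_cast this
  have key : (1 + X : K⟦X⟧) * lamSeries (-L) = 1 + C (1 - L) * (X * lamSeries (-L)) := by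
    calc (1 + X : K⟦X⟧) * lamSeries (-L)
        = ((1 + C L * X) + C (1 - L) * X) * lamSeries (-L) := by
          rw [map_sub, map_one]; ring
      _ = 1 + C (1 - L) * (X * lamSeries (-L)) := by rw [add_mul, hσ]; ring
  have hFs : lamSeries F = lamSeries N' * (1 + X) +
      C (1 - L) * (lamSeries N' * (1 + X) * (X * lamSeries (-L))) := by
    rw [hF, lamSeries_add, lamSeries_add, h2]
    calc lamSeries N' * (1 + X) ^ 2 * lamSeries (-L)
        = lamSeries N' * (1 + X) * ((1 + X) * lamSeries (-L)) := by ring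
      _ = _ := by rw [key]; ring
  rw [hFs, altSum_add, altSum_C_mul, altSum_mul_one_add_X, coeff_lamSeries,
    hN' d' (by omega), mul_zero, zero_add]
  exact dvd_mul_right _ _

end Groth.Agent.H2.Lam
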