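import Groth.Agent.Lib.Helper2.LamGammaPoly
import Groth.Agent.Lib.Helper2.LamFilt
import Groth.Prelude.Def_KRR
import Mathlib.RingTheory.Polynomial.Nilpotent

set_option autoImplicit false

namespace Groth.Agent.H2.Lam

open Finset LambdaRing PowerSeries

universe v
variable {K : Type v} [CommRing K] [LambdaOps K] (P : PosStructure K)

theorem isUnit_of_isLine {u : K} (hu : P.IsLine u) : IsUnit u := by
  have h := P.isUnit_lam u hu.1
  rw [hu.2] at h
  simpa [LambdaOps.lam_one] using h

theorem isNilpotent_of_pos_sub {x e e' : K} {m m' : ℕ} (hx : P.aug x = 0)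
    (he : e ∈ P.pos) (he' : e' ∈ P.pos) (h1 : x = e - m) (h2 : -x = e' - m') : IsNilpotent x := by
  have hm : P.aug e = m := by
    have := congrArg P.aug h1
    rw [hx, map_sub, map_natCast] at this
    linarith
  have hm' : P.aug e' = m' := by
    have := congrArg P.aug h2
    rw [map_neg, hx, map_sub, map_natCast] at this
    linarith
  have hv : ∀ i, m < i → LambdaOps.lam i e = 0 := fun i hi =>
    P.lam_eq_zero e he i (by rw [hm]; exact_mod_cast hi)
  have hv' : ∀ i, m' < i → LambdaOps.lam i e' = 0 := fun i hi =>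
    P.lam_eq_zero e' he' i (by rw [hm']; exact_mod_cast hi)
  have c1 := gammaPoly_coe (lamSeries_one P) hv
  have c2 := gammaPoly_coe (lamSeries_one P) hv'
  rw [← h1] at c1
  rw [← h2] at c2
  have hprod : gammaPoly e m * gammaPoly e' m' = 1 := by
    apply Polynomial.coe_injective
    rw [Polynomial.coe_mul, c1, c2, ← gammaSeries_add, add_neg_cancel, gammaSeries_zero,
      Polynomial.coe_one]
  have hunit : IsUnit (gammaPoly e m) := IsUnit.of_mul_eq_one _ hprod
  have := Polynomial.coeff_isUnit_isNilpotent_of_isUnit hunit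
  have h3 := this.2 1 one_ne_zero
  rw [coeff_gammaPoly (lamSeries_one P) hv, ← h1, gamma_one] at h3
  exact h3

theorem isNilpotent_line_sub_one (u : K) (hu : KRR.IsAmpleElt P u) (w : K) (hw : P.IsLine w) :
    IsNilpotent (w - 1) := by
  obtain ⟨n₀, h₀⟩ := hu.2 (w - 1)
  obtain ⟨n₁, h₁⟩ := hu.2 (-(w - 1))
  obtain ⟨e, m, he, hem⟩ := h₀ (max n₀ n₁) (le_max_left _ _)
  obtain ⟨e', m', he', hem'⟩ := h₁ (max n₀ n₁) (le_max_right _ _)
  set n := max n₀ n₁
  have hx : P.aug (u ^ n * (w - 1)) = 0 := by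
    rw [map_mul, map_sub, hw.2, map_one, sub_self, mul_zero]
  have hnil := isNilpotent_of_pos_sub P hx he he' hem (by rw [← hem']; ring)
  have hunit : IsUnit (u ^ n) := (isUnit_of_isLine P hu.1).pow n
  obtain ⟨k, hk⟩ := hnil
  refine ⟨k, ?_⟩
  rw [mul_pow] at hk
  exact (hunit.pow k).mul_right_eq_zero.mp hk

end Groth.Agent.H2.Lam
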