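import Mathlib
import Groth.Prelude.Def_LambdaRing

set_option autoImplicit false

namespace Groth.Agent.H2.Lam

open PowerSeries Finset LambdaRing

universe u
variable {K : Type u} [CommRing K] [LambdaOps K]

theorem coeff_lamSeries (i : ℕ) (x : K) : coeff i (lamSeries x) = LambdaOps.lam i x := by
  simp [lamSeries]

theorem lamSeries_add (x y : K) : lamSeries (x + y) = lamSeries x * lamSeries y := by
  ext k
  rw [coeff_lamSeries, coeff_mul, LambdaOps.lam_add,
    Finset.Nat.sum_antidiagonal_eq_sum_range_succ (fun i j => coeff i (lamSeries x) * coeff j (lamSeries y))]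
  simp [coeff_lamSeries]

theorem constantCoeff_lamSeries (x : K) : constantCoeff (lamSeries x) = 1 := by
  rw [← coeff_zero_eq_constantCoeff_apply, coeff_lamSeries, LambdaOps.lam_zero]

theorem isUnit_lamSeries (x : K) : IsUnit (lamSeries x) := by
  rw [isUnit_iff_constantCoeff, constantCoeff_lamSeries]
  exact isUnit_one

theorem lamSeries_zero : lamSeries (0 : K) = 1 := by
  have h := lamSeries_add (0 : K) 0
  rw [add_zero] at h
  have hu := isUnit_lamSeries (0 : K)
  exact (hu.mul_left_cancel (a := lamSeries 0) (b := 1) (by rw [mul_one]; exact h)).symm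

theorem lamSeries_neg_mul (x : K) : lamSeries (-x) * lamSeries x = 1 := by
  rw [← lamSeries_add, neg_add_cancel, lamSeries_zero]

theorem lamSeries_mul_neg (x : K) : lamSeries x * lamSeries (-x) = 1 := by
  rw [mul_comm, lamSeries_neg_mul]

theorem lamSeries_sub (x y : K) : lamSeries (x - y) * lamSeries y = lamSeries x := by
  rw [← lamSeries_add, sub_add_cancel]

theorem lam_zero_of_pos {k : ℕ} (hk : 0 < k) : LambdaOps.lam k (0 : K) = 0 := by
  rw [← coeff_lamSeries, lamSeries_zero, coeff_one, if_neg hk.ne']

theorem lamSeries_multiset_sum (s : Multiset K) : lamSeries s.sum = (s.map lamSeries).prod := by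
  induction s using Multiset.induction_on with
  | empty => simp [lamSeries_zero]
  | cons a s ih => simp [lamSeries_add, ih]

theorem lamSeries_finset_sum {ι : Type*} (s : Finset ι) (f : ι → K) :
    lamSeries (∑ i ∈ s, f i) = ∏ i ∈ s, lamSeries (f i) := by
  classical
  induction s using Finset.induction_on with
  | empty => simp [lamSeries_zero]
  | insert a s ha ih => rw [Finset.sum_insert ha, Finset.prod_insert ha, lamSeries_add, ih]

theorem lamSeries_nsmul (n : ℕ) (x : K) : lamSeries (n • x) = lamSeries x ^ n := by
  induction n with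
  | zero => simp [lamSeries_zero]
  | succ n ih => rw [succ_nsmul, lamSeries_add, ih, pow_succ]

theorem lamSeries_natCast (n : ℕ) : lamSeries (n : K) = lamSeries (1 : K) ^ n := by
  rw [← lamSeries_nsmul, nsmul_eq_mul, mul_one]

/-- The λ-series of a line element. -/
theorem lamSeries_of_line (P : PosStructure K) {u : K} (hu : P.IsLine u) :
    lamSeries u = 1 + C u * X := by
  ext k
  rw [coeff_lamSeries]
  rcases k with _ | _ | k
  · simp [LambdaOps.lam_zero]
  · simp [LambdaOps.lam_one]
  · rw [P.lam_eq_zero u hu.1 (k + 2) (by rw [hu.2]; omega)]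
    simp [coeff_one, coeff_C_mul, coeff_X]

theorem isLine_one (P : PosStructure K) : P.IsLine (1 : K) := by
  refine ⟨?_, map_one _⟩
  have := P.natCast_mem 1 Nat.one_pos
  simpa using this

theorem lamSeries_one (P : PosStructure K) : lamSeries (1 : K) = 1 + X := by
  rw [lamSeries_of_line P (isLine_one P), map_one, one_mul]

theorem isLine_mul (P : PosStructure K) {u v : K} (hu : P.IsLine u) (hv : P.IsLine v) :
    P.IsLine (u * v) :=
  ⟨P.mul_mem u v hu.1 hv.1, by rw [map_mul, hu.2, hv.2, mul_one]⟩

theorem isLine_pow (P : PosStructure K) {u : K} (hu : P.IsLine u) (n : ℕ) : P.IsLine (u ^ n) := by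
  induction n with
  | zero => simpa using isLine_one P
  | succ n ih => rw [pow_succ]; exact isLine_mul P ih hu

/-- λ-homomorphisms commute with λ-series. -/
theorem map_lamSeries {K' : Type u} [CommRing K'] [LambdaOps K'] {f : K →+* K'}
    (hf : IsLambdaHom f) (x : K) : PowerSeries.map f (lamSeries x) = lamSeries (f x) := by
  ext k
  rw [coeff_map, coeff_lamSeries, coeff_lamSeries, hf]

end Groth.Agent.H2.Lam
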