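import Groth.Agent.Lib.Helper2.LamKe
import Groth.Agent.Lib.Helper2.LamGamma2

set_option autoImplicit false

namespace Groth.Agent.H2.Lam

open Finset LambdaRing PowerSeries

universe v

theorem geom_inv {A : Type*} [CommRing A] (l : A) :
    (1 + C l * X) * (PowerSeries.mk fun k => (-1 : A) ^ k * l ^ k) = 1 := by
  ext n
  rw [add_mul, one_mul, map_add, mul_assoc, coeff_C_mul, coeff_mk, coeff_one]
  rcases n with _ | n
  · simp
  · rw [coeff_succ_X_mul, coeff_mk]
    simp only [Nat.succ_ne_zero, if_false]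
    ring

theorem lamSeries_sub_vanish {A : Type*} [CommRing A] [LambdaOps A] (x l : A)
    (hl : ∀ j : ℕ, 2 ≤ j → LambdaOps.lam j l = 0) :
    lamSeries (x - l) = lamSeries x * (PowerSeries.mk fun k => (-1 : A) ^ k * l ^ k) := by
  have h1 := lamSeries_sub x l
  rw [lamSeries_of_vanish hl] at h1
  calc lamSeries (x - l) = lamSeries (x - l) * ((1 + C l * X) * (PowerSeries.mk fun k => (-1 : A) ^ k * l ^ k)) := by
        rw [geom_inv, mul_one]
    _ = _ := by rw [← mul_assoc, h1]

theorem lamSeries_mul_rescale_sigmaS {K : Type*} [CommRing K] [LambdaOps K] (e : K) :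
    lamSeries e * rescale (-1 : K) (sigmaS e) = 1 := by
  have h := congrArg (rescale (-1 : K)) (lamNeg_mul_sigmaS e)
  rw [map_mul, map_one, lamNeg, rescale_rescale] at h
  simpa using h

end Groth.Agent.H2.Lam

namespace Groth.Agent.H2.Lam
open Finset LambdaRing PowerSeries
universe v

theorem functional_lam_sub_root (K : Type v) [CommRing K] [LambdaRing.LambdaOps K] (P : LambdaRing.PosStructure K) (e : K) (he : e ∈ P.pos) (r : ℕ) (hr : P.aug e = r + 1)
    (inst : LambdaRing.LambdaOps (AdjoinRoot (KRR.extPoly P e)))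
    (hext : ∀ (i : ℕ) (x : K), @LambdaRing.LambdaOps.lam _ _ inst i (AdjoinRoot.of (KRR.extPoly P e) x) =
      AdjoinRoot.of (KRR.extPoly P e) (LambdaRing.LambdaOps.lam i x))
    (hroot : ∀ i : ℕ, 2 ≤ i → @LambdaRing.LambdaOps.lam _ _ inst i (AdjoinRoot.root (KRR.extPoly P e)) = 0)
    (f : AdjoinRoot (KRR.extPoly P e) →ₗ[K] K)
    (hf : ∀ i : ℕ, i ≤ r → f (AdjoinRoot.root (KRR.extPoly P e) ^ i) = KRR.sigma i e) (i : ℕ) :
    f (@LambdaRing.LambdaOps.lam _ _ inst i (AdjoinRoot.of (KRR.extPoly P e) e - AdjoinRoot.root (KRR.extPoly P e))) =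
      if i = 0 then 1 else 0 := by
  letI := inst
  have hall := (ext_functional e he r hr f hf).1
  rw [← coeff_lamSeries, lamSeries_sub_vanish _ _ hroot, coeff_mul]
  have hlam : ∀ a : ℕ, coeff a (lamSeries (AdjoinRoot.of (KRR.extPoly P e) e)) =
      AdjoinRoot.of (KRR.extPoly P e) (LambdaOps.lam a e) := by
    intro a; rw [coeff_lamSeries, hext]
  rw [map_sum]
  have h2 := congrArg (coeff i) (lamSeries_mul_rescale_sigmaS e)
  rw [coeff_mul, coeff_one] at h2
  rw [← h2]
  apply Finset.sum_congr rfl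
  rintro ⟨a, b⟩ _
  rw [hlam, coeff_mk, coeff_rescale, coeff_lamSeries]
  have : AdjoinRoot.of (KRR.extPoly P e) (LambdaOps.lam a e) * ((-1) ^ b * AdjoinRoot.root (KRR.extPoly P e) ^ b)
      = (LambdaOps.lam a e * (-1) ^ b) • AdjoinRoot.root (KRR.extPoly P e) ^ b := by
    rw [Algebra.smul_def, AdjoinRoot.algebraMap_eq, map_mul, map_pow, map_neg, map_one]; ring
  rw [this, map_smul, hall, sigma_eq, smul_eq_mul]; ring

end Groth.Agent.H2.Lam
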