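import Groth.Agent.Lib.Helper2.LamInv
import Groth.Agent.Lib.Helper2.LamKe2
import Groth.Agent.Lib.Helper2.LamAmple

set_option autoImplicit false

namespace Groth.Agent.H2.Lam

open Finset LambdaRing PowerSeries

universe u

section Id

variable {L : Type u} [CommRing L] [LambdaOps L] (P : PosStructure L)

/-- products of at least `d` factors `w - 1`, `w` line elements -/
def lineProdGen (d : ℕ) : Set L :=
  {y | ∃ s : Multiset L, (∀ w ∈ s, P.IsLine w) ∧ d ≤ Multiset.card s ∧
    y = (s.map fun w => w - 1).prod}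

/-- the additive subgroup generated by products of at least `d` factors `w - 1` -/
def Id (d : ℕ) : AddSubgroup L := AddSubgroup.closure (lineProdGen P d)

theorem Id_anti {d d' : ℕ} (h : d ≤ d') : Id P d' ≤ Id P d := by
  apply AddSubgroup.closure_mono
  rintro y ⟨s, hs, hd, rfl⟩
  exact ⟨s, hs, h.trans hd, rfl⟩

theorem one_mem_Id_zero : (1 : L) ∈ Id P 0 :=
  AddSubgroup.subset_closure ⟨0, by simp, by simp, by simp⟩

theorem sub_one_mem_Id_one {w : L} (hw : P.IsLine w) : w - 1 ∈ Id P 1 :=
  AddSubgroup.subset_closure ⟨{w}, by simpa using hw, by simp, by simp⟩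

theorem mul_mem_Id {d e : ℕ} {y z : L} (hy : y ∈ Id P d) (hz : z ∈ Id P e) :
    y * z ∈ Id P (d + e) := by
  induction hy using AddSubgroup.closure_induction with
  | mem y hy =>
    obtain ⟨s, hs, hd, rfl⟩ := hy
    induction hz using AddSubgroup.closure_induction with
    | mem z hz =>
      obtain ⟨t, ht, he, rfl⟩ := hz
      refine AddSubgroup.subset_closure ⟨s + t, ?_, ?_, ?_⟩
      · intro w hw
        rcases Multiset.mem_add.mp hw with h | h
        · exact hs w h
        · exact ht w h
      · rw [Multiset.card_add]; omega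
      · rw [Multiset.map_add, Multiset.prod_add]
    | zero => rw [mul_zero]; exact zero_mem _
    | add a b _ _ ha hb => rw [mul_add]; exact add_mem ha hb
    | neg a _ ha => rw [mul_neg]; exact neg_mem ha
  | zero => rw [zero_mul]; exact zero_mem _
  | add a b _ _ ha hb => rw [add_mul]; exact add_mem ha hb
  | neg a _ ha => rw [neg_mul]; exact neg_mem ha

theorem pow_mem_Id {y : L} (hy : y ∈ Id P 1) (k : ℕ) : y ^ k ∈ Id P k := by
  induction k with
  | zero => rw [pow_zero]; exact one_mem_Id_zero P
  | succ k ih => rw [pow_succ]; exact mul_mem_Id P ih hy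

/-- the additive subgroup generated by line elements (a subring) -/
def Rl : AddSubgroup L := AddSubgroup.closure {w | P.IsLine w}

theorem line_mul_mem_Rl {w : L} (hw : P.IsLine w) {y : L} (hy : y ∈ Rl P) : w * y ∈ Rl P := by
  induction hy using AddSubgroup.closure_induction with
  | mem y hy => exact AddSubgroup.subset_closure (isLine_mul P hw hy)
  | zero => rw [mul_zero]; exact zero_mem _
  | add a b _ _ ha hb => rw [mul_add]; exact add_mem ha hb
  | neg a _ ha => rw [mul_neg]; exact neg_mem ha

theorem Id_le_Rl (d : ℕ) : Id P d ≤ Rl P := by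
  rw [Id, AddSubgroup.closure_le]
  rintro y ⟨s, hs, -, rfl⟩
  induction s using Multiset.induction_on with
  | empty =>
    have : (1 : L) ∈ Rl P := AddSubgroup.subset_closure (isLine_one P)
    simpa using this
  | cons a s ih =>
    rw [Multiset.map_cons, Multiset.prod_cons, sub_mul, one_mul]
    have h1 := ih (fun w hw => hs w (Multiset.mem_cons_of_mem hw))
    exact sub_mem (line_mul_mem_Rl P (hs a (Multiset.mem_cons_self a s)) h1) h1

/-- differences `ΣA - ΣB` of sums of line elements with `|A| = |B|` and `ΠA = ΠB` -/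
def Dl : AddSubgroup L where
  carrier := {z | ∃ A B : Multiset L, (∀ a ∈ A, P.IsLine a) ∧ (∀ b ∈ B, P.IsLine b) ∧
    Multiset.card A = Multiset.card B ∧ A.prod = B.prod ∧ z = A.sum - B.sum}
  zero_mem' := ⟨0, 0, by simp, by simp, rfl, rfl, by simp⟩
  add_mem' := by
    rintro x y ⟨A, B, hA, hB, hc, hp, rfl⟩ ⟨A', B', hA', hB', hc', hp', rfl⟩
    refine ⟨A + A', B + B', ?_, ?_, ?_, ?_, ?_⟩
    · intro w hw
      rcases Multiset.mem_add.mp hw with h | h
      · exact hA w h
      · exact hA' w h
    · intro w hw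
      rcases Multiset.mem_add.mp hw with h | h
      · exact hB w h
      · exact hB' w h
    · rw [Multiset.card_add, Multiset.card_add, hc, hc']
    · rw [Multiset.prod_add, Multiset.prod_add, hp, hp']
    · rw [Multiset.sum_add, Multiset.sum_add]; ring
  neg_mem' := by
    rintro x ⟨A, B, hA, hB, hc, hp, rfl⟩
    exact ⟨B, A, hB, hA, hc.symm, hp.symm, by ring⟩

theorem mul_mul_mem_Dl {a b : L} (ha : P.IsLine a) (hb : P.IsLine b) {y : L} (hy : y ∈ Rl P) :
    (a - 1) * (b - 1) * y ∈ Dl P := by
  induction hy using AddSubgroup.closure_induction with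
  | mem c hc =>
    refine ⟨{a * b * c, c}, {a * c, b * c}, ?_, ?_, ?_, ?_, ?_⟩
    · intro w hw
      simp only [Multiset.insert_eq_cons, Multiset.mem_cons, Multiset.mem_singleton] at hw
      rcases hw with rfl | rfl
      · exact isLine_mul P (isLine_mul P ha hb) hc
      · exact hc
    · intro w hw
      simp only [Multiset.insert_eq_cons, Multiset.mem_cons, Multiset.mem_singleton] at hw
      rcases hw with rfl | rfl
      · exact isLine_mul P ha hc
      · exact isLine_mul P hb hc
    · simp
    · simp only [Multiset.insert_eq_cons, Multiset.prod_cons, Multiset.prod_singleton]; ring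
    · simp only [Multiset.insert_eq_cons, Multiset.sum_cons, Multiset.sum_singleton]; ring
  | zero => rw [mul_zero]; exact zero_mem _
  | add x y _ _ hx hy => rw [mul_add]; exact add_mem hx hy
  | neg x _ hx => rw [mul_neg]; exact neg_mem hx

theorem Id_two_le_Dl : Id P 2 ≤ Dl P := by
  rw [Id, AddSubgroup.closure_le]
  rintro y ⟨s, hs, hd, rfl⟩
  obtain ⟨a, ha0⟩ := Multiset.card_pos_iff_exists_mem.mp (by omega : 0 < Multiset.card s)
  obtain ⟨s', rfl⟩ := Multiset.exists_cons_of_mem ha0
  rw [Multiset.card_cons] at hd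
  obtain ⟨b, hb0⟩ := Multiset.card_pos_iff_exists_mem.mp (by omega : 0 < Multiset.card s')
  obtain ⟨t, rfl⟩ := Multiset.exists_cons_of_mem hb0
  rw [Multiset.map_cons, Multiset.map_cons, Multiset.prod_cons, Multiset.prod_cons, ← mul_assoc]
  have ha : P.IsLine a := hs a (Multiset.mem_cons_self _ _)
  have hb : P.IsLine b := hs b (Multiset.mem_cons_of_mem (Multiset.mem_cons_self _ _))
  have ht : ∀ w ∈ t, P.IsLine w := fun w hw =>
    hs w (Multiset.mem_cons_of_mem (Multiset.mem_cons_of_mem hw))
  refine mul_mul_mem_Dl P ha hb (Id_le_Rl P 0 ?_)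
  exact AddSubgroup.subset_closure ⟨t, ht, Nat.zero_le _, rfl⟩

theorem isUnit_prod_lines {s : Multiset L} (hs : ∀ w ∈ s, P.IsLine w) : IsUnit s.prod := by
  induction s using Multiset.induction_on with
  | empty => simp
  | cons a s ih =>
    rw [Multiset.prod_cons]
    exact (isUnit_of_isLine P (hs a (Multiset.mem_cons_self a s))).mul
      (ih fun w hw => hs w (Multiset.mem_cons_of_mem hw))

theorem line_eq_of_sub_mem_Dl {u v : L} (hu : P.IsLine u) (hv : P.IsLine v)
    (h : u - v ∈ Dl P) : u = v := by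
  obtain ⟨A, B, hA, hB, hc, hp, hz⟩ := h
  have h1 : (u ::ₘ B).sum = (v ::ₘ A).sum := by
    rw [Multiset.sum_cons, Multiset.sum_cons]; linear_combination hz
  have hB' : ∀ w ∈ u ::ₘ B, P.IsLine w := by
    intro w hw
    rcases Multiset.mem_cons.mp hw with rfl | h
    · exact hu
    · exact hB w h
  have hA' : ∀ w ∈ v ::ₘ A, P.IsLine w := by
    intro w hw
    rcases Multiset.mem_cons.mp hw with rfl | h
    · exact hv
    · exact hA w h
  have h2 := lam_top_sum_lines P hB'
  have h3 := lam_top_sum_lines P hA'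
  rw [Multiset.card_cons, Multiset.prod_cons] at h2 h3
  rw [h1, ← hc, h3, hp] at h2
  exact ((isUnit_prod_lines P hB).mul_left_inj).mp h2.symm

end Id


section Ext

variable {L : Type u} [CommRing L] [LambdaOps L] {P : PosStructure L}
variable {L' : Type u} [CommRing L'] [LambdaOps L'] {P' : PosStructure L'}

theorem map_mem_Id {f : L →+* L'} (hf : IsExtension P P' f) {d : ℕ} {y : L} (hy : y ∈ Id P d) :
    f y ∈ Id P' d := by
  induction hy using AddSubgroup.closure_induction with
  | mem y hy =>
    obtain ⟨s, hs, hd, rfl⟩ := hy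
    refine AddSubgroup.subset_closure ⟨s.map f, ?_, ?_, ?_⟩
    · intro w hw
      obtain ⟨v, hv, rfl⟩ := Multiset.mem_map.mp hw
      exact isExtension_isLine hf (hs v hv)
    · rw [Multiset.card_map]; exact hd
    · rw [map_multiset_prod, Multiset.map_map, Multiset.map_map]
      congr 1
      apply Multiset.map_congr rfl
      intro w _
      simp
  | zero => rw [map_zero]; exact zero_mem _
  | add a b _ _ ha hb => rw [map_add]; exact add_mem ha hb
  | neg a _ ha => rw [map_neg]; exact neg_mem ha

end Ext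

section Series

variable {L : Type u} [CommRing L] [LambdaOps L] (P : PosStructure L)

/-- the `k`-th coefficient lies in `Id k` -/
def SerI (F : L⟦X⟧) : Prop := ∀ k, coeff k F ∈ Id P k

theorem SerI_one : SerI P (1 : L⟦X⟧) := by
  intro k
  rw [coeff_one]
  split_ifs with h
  · rw [h]; exact one_mem_Id_zero P
  · exact zero_mem _

theorem SerI_mul {F G : L⟦X⟧} (hF : SerI P F) (hG : SerI P G) : SerI P (F * G) := by
  intro k
  rw [coeff_mul]
  refine sum_mem ?_
  rintro ⟨i, j⟩ hij
  have := Finset.HasAntidiagonal.mem_antidiagonal.mp hij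
  simp only at this
  rw [← this]
  exact mul_mem_Id P (hF i) (hG j)

theorem SerI_multiset_prod (s : Multiset L⟦X⟧) (h : ∀ F ∈ s, SerI P F) : SerI P s.prod := by
  induction s using Multiset.induction_on with
  | empty => simpa using SerI_one P
  | cons a s ih =>
    rw [Multiset.prod_cons]
    exact SerI_mul P (h a (Multiset.mem_cons_self a s))
      (ih fun F hF => h F (Multiset.mem_cons_of_mem hF))

theorem SerI_lin {w : L} (hw : P.IsLine w) : SerI P (1 + C (w - 1) * X : L⟦X⟧) := by
  intro k
  rcases k with _ | _ | k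
  · simpa using one_mem_Id_zero P
  · simpa using sub_one_mem_Id_one P hw
  · have : coeff (k + 2) (1 + C (w - 1) * X : L⟦X⟧) = 0 := by
      simp [coeff_one]
    rw [this]; exact zero_mem _

theorem SerI_geom {w : L} (hw : P.IsLine w) :
    SerI P (PowerSeries.mk fun k => (-1 : L) ^ k * (w - 1) ^ k) := by
  intro k
  rw [coeff_mk]
  have h := pow_mem_Id P (sub_one_mem_Id_one P hw) k
  rcases neg_one_pow_eq_or L k with h1 | h1
  · rw [h1, one_mul]; exact h
  · rw [h1, neg_one_mul]; exact neg_mem h

theorem gammaSeries_neg_sub_one {w : L} (hw : P.IsLine w) :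
    gammaSeries (-(w - 1)) = PowerSeries.mk fun k => (-1 : L) ^ k * (w - 1) ^ k := by
  have h1 : gammaSeries (-(w - 1)) * gammaSeries (w - 1) = 1 := by
    rw [← gammaSeries_add, neg_add_cancel, gammaSeries_zero]
  rw [gammaSeries_sub_one (lamSeries_one P) (lamSeries_of_line P hw)] at h1
  calc gammaSeries (-(w - 1)) = gammaSeries (-(w - 1)) * ((1 + C (w - 1) * X) *
        (PowerSeries.mk fun k => (-1 : L) ^ k * (w - 1) ^ k)) := by rw [geom_inv, mul_one]
    _ = _ := by rw [← mul_assoc, h1, one_mul]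

theorem SerI_gammaSeries_sub {A B : Multiset L} (hA : ∀ a ∈ A, P.IsLine a)
    (hB : ∀ b ∈ B, P.IsLine b) (hc : Multiset.card A = Multiset.card B) :
    SerI P (gammaSeries (A.sum - B.sum)) := by
  have e : A.sum - B.sum = (A.map fun a => a - 1).sum + (B.map fun b => -(b - 1)).sum := by
    rw [Multiset.sum_map_sub, Multiset.sum_map_neg, Multiset.sum_map_sub]
    simp only [Multiset.map_id', Multiset.map_const', Multiset.sum_replicate, nsmul_eq_mul, mul_one]
    rw [hc]; ring
  rw [e, gammaSeries_add, gammaSeries_multiset_sum, gammaSeries_multiset_sum]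
  refine SerI_mul P (SerI_multiset_prod P _ ?_) (SerI_multiset_prod P _ ?_)
  · intro F hF
    rw [Multiset.map_map] at hF
    obtain ⟨a, ha, rfl⟩ := Multiset.mem_map.mp hF
    simp only [Function.comp_apply]
    rw [gammaSeries_sub_one (lamSeries_one P) (lamSeries_of_line P (hA a ha))]
    exact SerI_lin P (hA a ha)
  · intro F hF
    rw [Multiset.map_map] at hF
    obtain ⟨b, hb, rfl⟩ := Multiset.mem_map.mp hF
    simp only [Function.comp_apply]
    rw [gammaSeries_neg_sub_one P (hB b hb)]
    exact SerI_geom P (hB b hb)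

end Series


section Tower

variable {K : Type u} [CommRing K] [LambdaOps K] {P : PosStructure K}

theorem exists_ext_gamma_mem_Id (hK : HasSplitting K P) {x : K} (hx : P.aug x = 0) (n : ℕ) :
    ∃ (L : PosLambdaRing.{u}) (g : K →+* L.carrier), IsExtension P L.posStr g ∧
      HasSplitting L.carrier L.posStr ∧ g (gamma n x) ∈ Id L.posStr n := by
  obtain ⟨e, e', he, he', rfl⟩ := P.exists_sub x
  obtain ⟨L, g, hg, hL, ⟨A, hA, hsumA⟩, ⟨B, hB, hsumB⟩⟩ := exists_split₂ hK he he'
  refine ⟨L, g, hg, hL, ?_⟩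
  have hc : Multiset.card A = Multiset.card B := by
    have h1 := aug_sum_lines L.posStr hA
    have h2 := aug_sum_lines L.posStr hB
    rw [hsumA, hg.aug_comp] at h1
    rw [hsumB, hg.aug_comp] at h2
    rw [map_sub] at hx
    have : (Multiset.card A : ℤ) = Multiset.card B := by rw [← h1, ← h2]; linarith
    exact_mod_cast this
  rw [map_gamma hg.isLambdaHom, map_sub, ← hsumA, ← hsumB, ← coeff_gammaSeries]
  exact SerI_gammaSeries_sub L.posStr hA hB hc n

/-- after any extension, a further extension carries `z` into `Id n` -/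
def TowerMem (P : PosStructure K) (n : ℕ) (z : K) : Prop :=
  ∀ (L : PosLambdaRing.{u}) (g : K →+* L.carrier), IsExtension P L.posStr g →
    HasSplitting L.carrier L.posStr →
    ∃ (L' : PosLambdaRing.{u}) (g' : L.carrier →+* L'.carrier),
      IsExtension L.posStr L'.posStr g' ∧ HasSplitting L'.carrier L'.posStr ∧
      g' (g z) ∈ Id L'.posStr n

theorem towerMem_zero (n : ℕ) : TowerMem P n 0 := by
  intro L g hg hL
  exact ⟨L, RingHom.id _, isExtension_id _, hL, by simp [zero_mem]⟩

theorem towerMem_neg {n : ℕ} {z : K} (h : TowerMem P n z) : TowerMem P n (-z) := by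
  intro L g hg hL
  obtain ⟨L', g', hg', hL', hm⟩ := h L g hg hL
  exact ⟨L', g', hg', hL', by rw [map_neg, map_neg]; exact neg_mem hm⟩

theorem towerMem_add {n : ℕ} {y z : K} (hy : TowerMem P n y) (hz : TowerMem P n z) :
    TowerMem P n (y + z) := by
  intro L g hg hL
  obtain ⟨L₁, g₁, hg₁, hL₁, hm₁⟩ := hy L g hg hL
  obtain ⟨L₂, g₂, hg₂, hL₂, hm₂⟩ := hz L₁ (g₁.comp g) (isExtension_comp hg hg₁) hL₁
  refine ⟨L₂, g₂.comp g₁, isExtension_comp hg₁ hg₂, hL₂, ?_⟩
  rw [map_add, map_add]
  exact add_mem (map_mem_Id hg₂ hm₁) hm₂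

theorem towerMem_mul {d e : ℕ} {y z : K} (hy : TowerMem P d y) (hz : TowerMem P e z) :
    TowerMem P (d + e) (y * z) := by
  intro L g hg hL
  obtain ⟨L₁, g₁, hg₁, hL₁, hm₁⟩ := hy L g hg hL
  obtain ⟨L₂, g₂, hg₂, hL₂, hm₂⟩ := hz L₁ (g₁.comp g) (isExtension_comp hg hg₁) hL₁
  refine ⟨L₂, g₂.comp g₁, isExtension_comp hg₁ hg₂, hL₂, ?_⟩
  rw [map_mul, map_mul]
  exact mul_mem_Id _ (map_mem_Id hg₂ hm₁) hm₂

theorem towerMem_one : TowerMem P 0 1 := by
  intro L g hg hL
  exact ⟨L, RingHom.id _, isExtension_id _, hL, by simpa using one_mem_Id_zero L.posStr⟩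

theorem towerMem_anti {d e : ℕ} (h : d ≤ e) {z : K} (hz : TowerMem P e z) : TowerMem P d z := by
  intro L g hg hL
  obtain ⟨L', g', hg', hL', hm⟩ := hz L g hg hL
  exact ⟨L', g', hg', hL', Id_anti _ h hm⟩

theorem towerMem_gamma {x : K} (hx : P.aug x = 0) (n : ℕ) : TowerMem P n (gamma n x) := by
  intro L g hg hL
  have hx' : L.posStr.aug (g x) = 0 := by rw [hg.aug_comp, hx]
  obtain ⟨L', g', hg', hL', hm⟩ := exists_ext_gamma_mem_Id hL hx' n
  exact ⟨L', g', hg', hL', by rw [map_gamma hg.isLambdaHom]; exact hm⟩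

theorem towerMem_list (l : List (ℕ × K)) (hl : ∀ p ∈ l, P.aug p.2 = 0) :
    TowerMem P (l.map Prod.fst).sum (l.map fun p => gamma p.1 p.2).prod := by
  induction l with
  | nil => simpa using towerMem_one
  | cons p l ih =>
    rw [List.map_cons, List.map_cons, List.sum_cons, List.prod_cons]
    exact towerMem_mul (towerMem_gamma (hl p (List.mem_cons_self)) p.1)
      (ih fun q hq => hl q (List.mem_cons_of_mem p hq))

theorem towerMem_of_mem_filt {n : ℕ} (hn : n ≠ 0) {z : K} (hz : z ∈ gammaFiltration P n) :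
    TowerMem P n z := by
  rw [gammaFiltration, if_neg hn] at hz
  induction hz using AddSubgroup.closure_induction with
  | mem y hy =>
    obtain ⟨l, hl, hsum, rfl⟩ := hy
    exact towerMem_anti hsum (towerMem_list l hl)
  | zero => exact towerMem_zero n
  | add a b _ _ ha hb => exact towerMem_add ha hb
  | neg a _ ha => exact towerMem_neg ha

/-- injectivity of `L → Gr^1 K` -/
theorem line_eq_of_sub_mem_filt_two (hK : HasSplitting K P) {u v : K} (hu : P.IsLine u)
    (hv : P.IsLine v) (h : u - v ∈ gammaFiltration P 2) : u = v := by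
  obtain ⟨L', g', hg', -, hm⟩ := towerMem_of_mem_filt (by norm_num) h ⟨K, P⟩ (RingHom.id K)
    (isExtension_id P) hK
  have hm' := Id_two_le_Dl L'.posStr hm
  rw [RingHom.id_apply, map_sub] at hm'
  exact hg'.injective (line_eq_of_sub_mem_Dl L'.posStr (isExtension_isLine hg' hu)
    (isExtension_isLine hg' hv) hm')

end Tower

end Groth.Agent.H2.Lam
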