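import Mathlib
import Groth.Agent.Lib.Helper2.LamBasic

set_option autoImplicit false

namespace Groth.Agent.H2.Lam

open PowerSeries Finset LambdaRing

universe u
variable (K : Type u) [CommRing K]

/-- The power series `t/(1-t)`. -/
noncomputable def Y : K⟦X⟧ := X * (invOneSubPow K 1).val

theorem constantCoeff_Y : constantCoeff (Y K) = 0 := by
  simp [Y]

theorem hasSubst_Y : HasSubst (Y K) := HasSubst.of_constantCoeff_zero' (constantCoeff_Y K)

theorem invOneSubPow_one_pow (j : ℕ) : (invOneSubPow K 1) ^ j = invOneSubPow K j := by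
  induction j with
  | zero => simp [invOneSubPow_zero]
  | succ j ih => rw [pow_succ, ih, ← invOneSubPow_add]

theorem Y_pow (j : ℕ) : Y K ^ j = X ^ j * (invOneSubPow K j).val := by
  rw [Y, mul_pow, ← Units.val_pow_eq_pow_val, invOneSubPow_one_pow]

theorem coeff_Y_pow_zero (k : ℕ) : coeff k (Y K ^ 0) = if k = 0 then 1 else 0 := by
  rw [pow_zero, coeff_one]

theorem coeff_Y_pow_succ (k d : ℕ) :
    coeff k (Y K ^ (d + 1)) = if d + 1 ≤ k then ((k - 1).choose d : K) else 0 := by
  rw [Y_pow, coeff_X_pow_mul', invOneSubPow_val_succ_eq_mk_add_choose]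
  split_ifs with h
  · rw [coeff_mk]
    congr 2
    omega
  · rfl

theorem coeff_Y_pow_of_lt {k j : ℕ} (h : k < j) : coeff k (Y K ^ j) = 0 := by
  cases j with
  | zero => omega
  | succ d => rw [coeff_Y_pow_succ, if_neg (by omega)]

variable {K}

theorem coeff_subst_Y (f : K⟦X⟧) (k : ℕ) :
    coeff k (f.subst (Y K)) = ∑ j ∈ range (k + 1), coeff j f * coeff k (Y K ^ j) := by
  rw [coeff_subst' (hasSubst_Y K)]
  rw [finsum_eq_sum_of_support_subset (s := range (k + 1))]
  · simp [smul_eq_mul]
  · intro j hj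
    rw [Function.mem_support] at hj
    simp only [coe_range, Set.mem_Iio]
    by_contra hlt
    apply hj
    rw [coeff_Y_pow_of_lt K (by omega), smul_zero]

variable [LambdaOps K]

/-- The γ-series `γ_t(x) = λ_{t/(1-t)}(x)`. -/
noncomputable def gammaSeries (x : K) : K⟦X⟧ := (lamSeries x).subst (Y K)

theorem coeff_gammaSeries (k : ℕ) (x : K) : coeff k (gammaSeries x) = gamma k x := by
  rw [gammaSeries, coeff_subst_Y, gamma]
  rcases k with _ | k
  · simp [lamSeries, LambdaOps.lam_zero]
  · rw [if_neg (Nat.succ_ne_zero k)]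
    apply Finset.sum_congr rfl
    intro j hj
    rw [mem_range] at hj
    rcases j with _ | j
    · simp [coeff_one]
    · rw [coeff_Y_pow_succ, if_pos (by omega), if_neg (Nat.succ_ne_zero j)]
      simp [lamSeries, mul_comm]

theorem gammaSeries_add (x y : K) : gammaSeries (x + y) = gammaSeries x * gammaSeries y := by
  rw [gammaSeries, gammaSeries, gammaSeries, ← subst_mul (hasSubst_Y K)]
  congr 1
  ext k
  simp only [lamSeries, coeff_mk, coeff_mul, LambdaOps.lam_add]
  rw [Finset.Nat.sum_antidiagonal_eq_sum_range_succ (fun i j => LambdaOps.lam i x * LambdaOps.lam j y)]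

theorem gamma_add (k : ℕ) (x y : K) :
    gamma k (x + y) = ∑ i ∈ range (k + 1), gamma i x * gamma (k - i) y := by
  rw [← coeff_gammaSeries, gammaSeries_add, coeff_mul,
    Finset.Nat.sum_antidiagonal_eq_sum_range_succ
      (fun i j => coeff i (gammaSeries x) * coeff j (gammaSeries y))]
  simp [coeff_gammaSeries]

end Groth.Agent.H2.Lam
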