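import Groth.Agent.Lib.Helper2.LamFilt

set_option autoImplicit false

namespace Groth.Agent.H2.Lam

open PowerSeries Finset LambdaRing

universe u
variable {K : Type u} [CommRing K] [LambdaOps K]

omit [LambdaOps K] in
/-- `(1 + X)^m` as a power series has binomial coefficients. -/
theorem coeff_one_add_X_pow (m k : ℕ) : coeff k ((1 + X : K⟦X⟧) ^ m) = (m.choose k : K) := by
  have : ((1 + X : K⟦X⟧) ^ m) = (((1 + Polynomial.X : Polynomial K) ^ m : Polynomial K) : K⟦X⟧) := by
    rw [Polynomial.coe_pow, Polynomial.coe_add, Polynomial.coe_one, Polynomial.coe_X]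
  rw [this, Polynomial.coeff_coe, Polynomial.coeff_one_add_X_pow]

/-- `λ_t(1) = 1 + t` from the vanishing of the higher `λ^k(1)`. -/
theorem lamSeries_one_of (h1 : ∀ k : ℕ, 2 ≤ k → LambdaOps.lam k (1 : K) = 0) :
    lamSeries (1 : K) = 1 + X := by
  ext k
  rw [coeff_lamSeries]
  rcases k with _ | _ | k
  · simp [LambdaOps.lam_zero]
  · simp [LambdaOps.lam_one]
  · rw [h1 (k + 2) (by omega)]
    simp [coeff_one, coeff_X]

theorem lamSeries_add_natCast (h1 : lamSeries (1 : K) = 1 + X) (x : K) (m : ℕ) :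
    lamSeries (x + (m : K)) = lamSeries x * (1 + X) ^ m := by
  rw [lamSeries_add, lamSeries_natCast, h1]

theorem lam_add_natCast (h1 : lamSeries (1 : K) = 1 + X) (x : K) (m n : ℕ) :
    LambdaOps.lam n (x + (m : K)) = ∑ i ∈ range (n + 1), LambdaOps.lam i x * (m.choose (n - i) : K) := by
  rw [← coeff_lamSeries, lamSeries_add_natCast h1, coeff_mul,
    Finset.Nat.sum_antidiagonal_eq_sum_range_succ
      (fun i j => coeff i (lamSeries x) * coeff j ((1 + X : K⟦X⟧) ^ m))]
  simp [coeff_lamSeries, coeff_one_add_X_pow]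

theorem gamma_eq_lam (h1 : lamSeries (1 : K) = 1 + X) (n : ℕ) (x : K) :
    gamma n x = LambdaOps.lam n (x + (n : K) - 1) := by
  rcases n with _ | n
  · simp [gamma_zero, LambdaOps.lam_zero]
  · have e : x + ((n + 1 : ℕ) : K) - 1 = x + (n : K) := by push_cast; ring
    rw [e, lam_add_natCast h1, gamma, if_neg (Nat.succ_ne_zero n)]
    apply Finset.sum_congr rfl
    intro j hj
    rw [mem_range] at hj
    rcases j with _ | j
    · simp
    · rw [if_neg (Nat.succ_ne_zero j), mul_comm]
      congr 2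
      simp only [Nat.add_sub_cancel]
      rw [show n + 1 - (j + 1) = n - j by omega, Nat.choose_symm (by omega)]

omit [LambdaOps K] in
/-- The geometric series `1/(1+X)`. -/
theorem one_add_X_mul_alt : (1 + X : K⟦X⟧) * (PowerSeries.mk fun k => (-1 : K) ^ k) = 1 := by
  ext n
  rw [add_mul, one_mul, map_add]
  rcases n with _ | n
  · simp
  · rw [coeff_succ_X_mul, coeff_mk, coeff_mk, coeff_one, if_neg (Nat.succ_ne_zero n), pow_succ]
    ring

theorem lam_sub_one_eq (h1 : lamSeries (1 : K) = 1 + X) (n : ℕ) (y : K) :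
    LambdaOps.lam n (y - 1) = (-1 : K) ^ n * ∑ i ∈ range (n + 1), (-1 : K) ^ i * LambdaOps.lam i y := by
  have h : lamSeries (y - 1) = lamSeries y * (PowerSeries.mk fun k => (-1 : K) ^ k) := by
    have h2 := lamSeries_sub y 1
    rw [h1] at h2
    calc lamSeries (y - 1) = lamSeries (y - 1) * ((1 + X) * (PowerSeries.mk fun k => (-1 : K) ^ k)) := by
          rw [one_add_X_mul_alt, mul_one]
      _ = lamSeries y * (PowerSeries.mk fun k => (-1 : K) ^ k) := by rw [← mul_assoc, h2]
  rw [← coeff_lamSeries, h, coeff_mul,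
    Finset.Nat.sum_antidiagonal_eq_sum_range_succ
      (fun i j => coeff i (lamSeries y) * coeff j (PowerSeries.mk fun k => (-1 : K) ^ k)),
    Finset.mul_sum]
  apply Finset.sum_congr rfl
  intro i hi
  rw [mem_range] at hi
  rw [coeff_lamSeries, coeff_mk]
  have : (-1 : K) ^ (n - i) = (-1) ^ n * (-1) ^ i := by
    have hn : n = (n - i) + i := by omega
    conv_rhs => rw [hn, pow_add, mul_assoc, ← pow_add, ← two_mul, pow_mul]
    simp
  rw [this]; ring

end Groth.Agent.H2.Lam
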