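import Groth.Agent.Lib.Helper2.LamKe2
import Groth.Agent.Lib.Helper2.LamPre

set_option autoImplicit false

namespace Groth.Agent.H2.Lam

open Finset LambdaRing PowerSeries

universe v

theorem coeff_one_sub_X_pow (m k : ℕ) :
    coeff k ((1 - X : ℤ⟦X⟧) ^ m) = (-1) ^ k * (m.choose k : ℤ) := by
  have : (1 - X : ℤ⟦X⟧) ^ m = rescale (-1 : ℤ) ((1 + X) ^ m) := by
    rw [map_pow, map_add, map_one, rescale_X]; simp [sub_eq_add_neg]
  rw [this, coeff_rescale, coeff_one_add_X_pow]

theorem choose_alt_sum (r : ℕ) :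
    ∑ k ∈ range (r + 1), (-1 : ℤ) ^ (r - k) * (r.choose k : ℤ) * ((r + k).choose k : ℤ) = 1 := by
  have h := congrArg (coeff r)
    (one_sub_pow_mul_invOneSubPow_val_add_eq_invOneSubPow_val ℤ 1 r)
  rw [mul_comm, coeff_mul,
    Finset.Nat.sum_antidiagonal_eq_sum_range_succ
      (fun i j => coeff i (invOneSubPow ℤ (1 + r)).val * coeff j ((1 - X : ℤ⟦X⟧) ^ r))] at h
  have h1 : coeff r (invOneSubPow ℤ 1).val = 1 := by
    rw [show (1 : ℕ) = 0 + 1 from rfl, invOneSubPow_val_succ_eq_mk_add_choose, coeff_mk]; simp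
  rw [h1] at h
  refine Eq.trans ?_ h
  apply Finset.sum_congr rfl
  intro k hk
  have hk' : k ≤ r := by have := Finset.mem_range.1 hk; omega
  rw [coeff_one_sub_X_pow, add_comm 1 r, invOneSubPow_val_succ_eq_mk_add_choose, coeff_mk,
    Nat.choose_symm hk', Nat.choose_symm_add]
  ring


theorem aug_functional_sub_one_pow (K : Type v) [CommRing K] [LambdaRing.LambdaOps K]
    (P : LambdaRing.PosStructure K) (hK : LambdaRing.HasSplitting K P) (e : K) (he : e ∈ P.pos)
    (r : ℕ) (hr : P.aug e = r + 1)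
    (f : AdjoinRoot (KRR.extPoly P e) →ₗ[K] K)
    (hf : ∀ i : ℕ, i ≤ r → f (AdjoinRoot.root (KRR.extPoly P e) ^ i) = KRR.sigma i e) :
    P.aug (f ((AdjoinRoot.root (KRR.extPoly P e) - 1) ^ r)) = 1 := by
  have hall := (ext_functional e he r hr f hf).1
  rw [sub_eq_add_neg, add_pow, map_sum, map_sum]
  refine Eq.trans ?_ (choose_alt_sum r)
  apply Finset.sum_congr rfl
  intro k _
  have : AdjoinRoot.root (KRR.extPoly P e) ^ k * (-1) ^ (r - k) * ((r.choose k : ℕ) : AdjoinRoot (KRR.extPoly P e))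
      = ((-1 : K) ^ (r - k) * (r.choose k : K)) • AdjoinRoot.root (KRR.extPoly P e) ^ k := by
    rw [Algebra.smul_def, AdjoinRoot.algebraMap_eq, map_mul, map_pow, map_neg, map_one, map_natCast]
    ring
  rw [this, map_smul, hall, sigma_eq, smul_eq_mul, map_mul, map_mul, map_pow, map_neg, map_one,
    map_natCast, aug_sigma_of_pos hK he r hr]

end Groth.Agent.H2.Lam
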