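import Groth.Agent.Lib.Helper2.LamKe3

set_option autoImplicit false

namespace Groth.Agent.H2.Lam

open Finset LambdaRing

universe v

section
variable {K : Type v} [CommRing K] [LambdaOps K] (P : PosStructure K)

theorem extPoly_eq_succ (e : K) (r : ℕ) (hr : (P.aug e).toNat = r + 1) :
    KRR.extPoly P e = ∑ i ∈ range (r + 2),
      Polynomial.C (aCoef e i) * Polynomial.X ^ (r + 1 - i) := by
  rw [extPoly_eq, hr]

theorem extPoly_eq_X_pow_add (e : K) (r : ℕ) (hr : (P.aug e).toNat = r + 1) :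
    KRR.extPoly P e = Polynomial.X ^ (r + 1) + ∑ i ∈ range (r + 1),
      Polynomial.C (aCoef e (i + 1)) * Polynomial.X ^ (r - i) := by
  rw [extPoly_eq_succ P e r hr, Finset.sum_range_succ', aCoef_zero, map_one, one_mul, Nat.sub_zero,
    add_comm]
  congr 1
  apply Finset.sum_congr rfl
  intro i _
  rw [show r + 1 - (i + 1) = r - i by omega]

theorem degree_extPoly_rest_lt (e : K) (r : ℕ) :
    (∑ i ∈ range (r + 1),
      Polynomial.C (aCoef e (i + 1)) * Polynomial.X ^ (r - i) : Polynomial K).degree <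
      ((r + 1 : ℕ) : WithBot ℕ) := by
  refine lt_of_le_of_lt (Polynomial.degree_sum_le _ _) ?_
  rw [Finset.sup_lt_iff (by exact_mod_cast WithBot.bot_lt_coe (r + 1))]
  intro i hi
  rw [mem_range] at hi
  refine lt_of_le_of_lt (Polynomial.degree_C_mul_X_pow_le _ _) ?_
  exact_mod_cast (by omega : r - i < r + 1)

theorem extPoly_monic (e : K) (r : ℕ) (hr : (P.aug e).toNat = r + 1) :
    (KRR.extPoly P e).Monic := by
  rw [extPoly_eq_X_pow_add P e r hr]
  exact Polynomial.monic_X_pow_add (degree_extPoly_rest_lt e r)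

include P in
theorem nontrivial_of_pos : Nontrivial K := P.aug.domain_nontrivial

theorem natDegree_extPoly (e : K) (r : ℕ) (hr : (P.aug e).toNat = r + 1) :
    (KRR.extPoly P e).natDegree = r + 1 := by
  haveI := nontrivial_of_pos P
  rw [extPoly_eq_X_pow_add P e r hr]
  apply Polynomial.natDegree_eq_of_degree_eq_some
  rw [Polynomial.degree_add_eq_left_of_degree_lt, Polynomial.degree_X_pow]
  rw [Polynomial.degree_X_pow]
  exact degree_extPoly_rest_lt e r

end


section QuotPoly
open Polynomial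




section
variable {K : Type v} [CommRing K] (a : ℕ → K) (r : ℕ)

/-- `Σ_{i ≤ r} a_i (1 + X + ⋯ + X^{r-i})` -/
noncomputable def quotPoly : K[X] :=
  ∑ i ∈ range (r + 1), C (a i) * ∑ b ∈ range (r - i + 1), X ^ b

theorem quotPoly_mul :
    quotPoly a r * (1 - X) =
      C (∑ i ∈ range (r + 2), a i) - ∑ i ∈ range (r + 2), C (a i) * X ^ (r + 1 - i) := by
  rw [quotPoly, Finset.sum_mul, Finset.sum_range_succ _ (r + 1), Finset.sum_range_succ _ (r + 1),
    map_add, Nat.sub_self, pow_zero, mul_one, add_sub_add_right_eq_sub, map_sum,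
    ← Finset.sum_sub_distrib]
  apply Finset.sum_congr rfl
  intro i hi
  rw [mem_range] at hi
  rw [mul_assoc, geom_sum_mul_neg, mul_sub, mul_one, show r - i + 1 = r + 1 - i by omega]

theorem eq_C_mul_quotPoly {p : K[X]}
    (hp : p = ∑ i ∈ range (r + 2), C (a i) * X ^ (r + 1 - i)) (hmonic : p.Monic)
    (hdeg : p.natDegree = r + 1)
    (Z : K[X]) (hZ : Z.natDegree ≤ r) (hdvd : p ∣ Z * (1 - X)) :
    ∃ κ : K, Z = C κ * quotPoly a r := by
  obtain ⟨Q, hQ⟩ := hdvd
  have hQ0 : Q.natDegree = 0 := by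
    by_cases hq : Q = 0
    · rw [hq]; simp
    · have h1 := hmonic.natDegree_mul' hq
      rw [← hQ, hdeg] at h1
      have h2 : (Z * (1 - X)).natDegree ≤ r + 1 := by
        refine (natDegree_mul_le).trans ?_
        have : (1 - X : K[X]).natDegree ≤ 1 := by
          refine (natDegree_sub_le _ _).trans ?_
          simp [natDegree_X_le]
        omega
      omega
  obtain ⟨κ, rfl⟩ : ∃ κ, Q = C κ := ⟨Q.coeff 0, eq_C_of_natDegree_eq_zero hQ0⟩
  have hA := quotPoly_mul a r
  rw [← hp] at hA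
  -- evaluate at 1
  have h1 : κ * (∑ i ∈ range (r + 2), a i) = 0 := by
    have e1 := congrArg (eval 1) hQ
    have e2 := congrArg (eval 1) hA
    simp only [eval_mul, eval_sub, eval_one, eval_X, sub_self, mul_zero, eval_C] at e1 e2
    have : eval 1 p = ∑ i ∈ range (r + 2), a i := by linear_combination e2
    rw [this] at e1
    rw [mul_comm]; exact e1.symm
  refine ⟨-κ, ?_⟩
  have h2 : (Z + C κ * quotPoly a r) * (X - C 1) = 0 := by
    have : p = C (∑ i ∈ range (r + 2), a i) - quotPoly a r * (1 - X) := by rw [hA]; ring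
    have h3 : Z * (1 - X) = C κ * (C (∑ i ∈ range (r + 2), a i) - quotPoly a r * (1 - X)) := by
      rw [← this, hQ, mul_comm]
    have h4 : C κ * C (∑ i ∈ range (r + 2), a i) = 0 := by rw [← C_mul, h1, C_0]
    rw [C_1]
    linear_combination -h3 - h4
  rw [(monic_X_sub_C (1 : K)).mul_left_eq_zero_iff] at h2
  rw [C_neg, neg_mul]
  exact eq_neg_of_add_eq_zero_left h2

end


end QuotPoly

section PS
open PowerSeries




theorem coeff_mul_mk_one {A : Type*} [CommRing A] (F : A⟦X⟧) (n : ℕ) :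
    coeff n (F * PowerSeries.mk fun _ => (1 : A)) = ∑ i ∈ range (n + 1), coeff i F := by
  rw [coeff_mul, Finset.Nat.sum_antidiagonal_eq_sum_range_succ
    (fun i j => coeff i F * coeff j (PowerSeries.mk fun _ => (1 : A)))]
  apply Finset.sum_congr rfl
  intro i _
  rw [coeff_mk, mul_one]

theorem lamNeg_sub_vanish {A : Type*} [CommRing A] [LambdaOps A] (x l : A)
    (hl : ∀ j : ℕ, 2 ≤ j → LambdaOps.lam j l = 0) :
    lamNeg (x - l) = lamNeg x * (PowerSeries.mk fun k => l ^ k) := by
  rw [lamNeg, lamSeries_sub_vanish x l hl, map_mul, ← lamNeg]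
  congr 1
  ext k
  rw [coeff_rescale, coeff_mk, coeff_mk, ← mul_assoc, ← mul_pow]
  simp

theorem alt_sum_sub_vanish {A : Type*} [CommRing A] [LambdaOps A] (x l : A)
    (hl : ∀ j : ℕ, 2 ≤ j → LambdaOps.lam j l = 0) (n : ℕ) :
    ∑ i ∈ range (n + 1), (-1 : A) ^ i * LambdaOps.lam i (x - l) =
      ∑ i ∈ range (n + 1), ((-1 : A) ^ i * LambdaOps.lam i x) * ∑ b ∈ range (n - i + 1), l ^ b := by
  have h1 : ∑ i ∈ range (n + 1), (-1 : A) ^ i * LambdaOps.lam i (x - l) =
      coeff n (lamNeg (x - l) * PowerSeries.mk fun _ => (1 : A)) := by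
    rw [coeff_mul_mk_one]
    apply Finset.sum_congr rfl
    intro i _
    rw [coeff_lamNeg]
  rw [h1, lamNeg_sub_vanish x l hl, mul_assoc, coeff_mul,
    Finset.Nat.sum_antidiagonal_eq_sum_range_succ
    (fun i j => coeff i (lamNeg x) * coeff j ((PowerSeries.mk fun k => l ^ k) *
      PowerSeries.mk fun _ => (1 : A)))]
  apply Finset.sum_congr rfl
  intro i _
  rw [coeff_lamNeg, coeff_mul_mk_one]
  congr 1
  apply Finset.sum_congr rfl
  intro b _
  rw [coeff_mk]


end PS

end Groth.Agent.H2.Lam
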