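import Groth.Agent.Lib.Helper2.LamKe4

set_option autoImplicit false

namespace Groth.Agent.H2.Lam

open Finset LambdaRing

universe v

theorem functional_annihilator (K : Type v) [CommRing K] [LambdaRing.LambdaOps K] (P : LambdaRing.PosStructure K) (c : K) (hc : c ∈ P.pos) (r : ℕ) (hr : P.aug c = r + 1)
    (inst : LambdaRing.LambdaOps (AdjoinRoot (KRR.extPoly P c))) (Pc : @LambdaRing.PosStructure _ _ inst)
    (hext : @LambdaRing.IsExtension K _ _ _ _ inst P Pc (AdjoinRoot.of (KRR.extPoly P c)))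
    (hroot : ∀ i : ℕ, 2 ≤ i → @LambdaRing.LambdaOps.lam _ _ inst i (AdjoinRoot.root (KRR.extPoly P c)) = 0)
    (hline : @LambdaRing.PosStructure.IsLine _ _ inst Pc (AdjoinRoot.root (KRR.extPoly P c)))
    (f : AdjoinRoot (KRR.extPoly P c) →ₗ[K] K)
    (hf : ∀ i : ℕ, i ≤ r → f (AdjoinRoot.root (KRR.extPoly P c) ^ i) = KRR.sigma i c)
    (z : AdjoinRoot (KRR.extPoly P c)) (hz : z * (1 - AdjoinRoot.root (KRR.extPoly P c)) = 0) :
    z = AdjoinRoot.of (KRR.extPoly P c) (f z) *
      @KRR.lamAlt _ _ inst Pc (AdjoinRoot.of (KRR.extPoly P c) c - AdjoinRoot.root (KRR.extPoly P c)) := by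
  letI := inst
  have hm : (P.aug c).toNat = r + 1 := by rw [hr]; simp
  have haugq : (Pc.aug (AdjoinRoot.of (KRR.extPoly P c) c - AdjoinRoot.root (KRR.extPoly P c))).toNat
      = r := by
    rw [map_sub, hext.aug_comp, hline.2, hr]; simp
  have hmonic := extPoly_monic P c r hm
  have hdeg := natDegree_extPoly P c r hm
  -- lamAlt q as image of quotPoly
  have hG : KRR.lamAlt Pc (AdjoinRoot.of (KRR.extPoly P c) c - AdjoinRoot.root (KRR.extPoly P c)) =
      AdjoinRoot.mk (KRR.extPoly P c) (quotPoly (aCoef c) r) := by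
    rw [KRR.lamAlt, haugq, alt_sum_sub_vanish _ _ hroot, quotPoly, map_sum]
    apply Finset.sum_congr rfl
    intro i _
    rw [map_mul, map_sum, AdjoinRoot.mk_C, ← hext.isLambdaHom, aCoef, map_mul, map_pow, map_neg,
      map_one]
    simp only [map_pow, AdjoinRoot.mk_X]
  -- f (lamAlt q) = 1
  have hfG : f (KRR.lamAlt Pc
      (AdjoinRoot.of (KRR.extPoly P c) c - AdjoinRoot.root (KRR.extPoly P c))) = 1 := by
    have hfl : ∀ i, f ((-1) ^ i * LambdaOps.lam i
        (AdjoinRoot.of (KRR.extPoly P c) c - AdjoinRoot.root (KRR.extPoly P c))) =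
        (-1) ^ i * (if i = 0 then 1 else 0) := by
      intro i
      have h1 := functional_lam_sub_root K P c hc r hr inst
        (fun i x => (hext.isLambdaHom i x).symm) hroot f hf i
      have h2 : ((-1) ^ i * LambdaOps.lam i
          (AdjoinRoot.of (KRR.extPoly P c) c - AdjoinRoot.root (KRR.extPoly P c))) =
          ((-1 : K) ^ i) • LambdaOps.lam i
          (AdjoinRoot.of (KRR.extPoly P c) c - AdjoinRoot.root (KRR.extPoly P c)) := by
        rw [Algebra.smul_def, AdjoinRoot.algebraMap_eq, map_pow, map_neg, map_one]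
      rw [h2, map_smul, h1, smul_eq_mul]
    rw [KRR.lamAlt, haugq, map_sum, Finset.sum_congr rfl (fun i _ => hfl i)]
    simp
  -- represent z by a polynomial of small degree
  obtain ⟨Z0, rfl⟩ := AdjoinRoot.mk_surjective z
  have hne1 : KRR.extPoly P c ≠ 1 := by
    intro h
    rw [h] at hdeg
    simp at hdeg
  have hZdeg : (Z0 %ₘ KRR.extPoly P c).natDegree ≤ r := by
    have := Polynomial.natDegree_modByMonic_lt Z0 hmonic hne1
    omega
  have hZ : AdjoinRoot.mk (KRR.extPoly P c) Z0 = AdjoinRoot.mk (KRR.extPoly P c) (Z0 %ₘ KRR.extPoly P c) := by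
    conv_lhs => rw [← Polynomial.modByMonic_add_div Z0 (KRR.extPoly P c)]
    rw [map_add, map_mul, AdjoinRoot.mk_self, zero_mul, add_zero]
  rw [hZ] at hz ⊢
  have hdvd : KRR.extPoly P c ∣ (Z0 %ₘ KRR.extPoly P c) * (1 - Polynomial.X) := by
    rw [← AdjoinRoot.mk_eq_zero, map_mul, map_sub, map_one, AdjoinRoot.mk_X]
    exact hz
  obtain ⟨κ, hκ⟩ := eq_C_mul_quotPoly (aCoef c) r (extPoly_eq_succ P c r hm) hmonic hdeg _ hZdeg hdvd
  rw [hκ, map_mul, AdjoinRoot.mk_C, ← hG]
  have : f (AdjoinRoot.of (KRR.extPoly P c) κ * KRR.lamAlt Pc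
      (AdjoinRoot.of (KRR.extPoly P c) c - AdjoinRoot.root (KRR.extPoly P c))) = κ := by
    have h2 : AdjoinRoot.of (KRR.extPoly P c) κ * KRR.lamAlt Pc
        (AdjoinRoot.of (KRR.extPoly P c) c - AdjoinRoot.root (KRR.extPoly P c)) =
        κ • KRR.lamAlt Pc
        (AdjoinRoot.of (KRR.extPoly P c) c - AdjoinRoot.root (KRR.extPoly P c)) := by
      rw [Algebra.smul_def, AdjoinRoot.algebraMap_eq]
    rw [h2, map_smul, hfG, smul_eq_mul, mul_one]
  rw [this]

end Groth.Agent.H2.Lam
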