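import Mathlib

/-! # The truncated logarithm: `log((1+X)^j) ≡ j log(1+X)` modulo `X^(d+1)` over `ℚ`. -/

set_option autoImplicit false

open Polynomial Finset

namespace Groth.Agent.H2.TruncLog

/-- the truncated logarithm `∑_{n ≤ d} (-1)^n Y^(n+1)/(n+1)`. -/
noncomputable def T (d : ℕ) : ℚ[X] :=
  ∑ n ∈ range (d + 1), C ((-1 : ℚ) ^ n / ((n : ℚ) + 1)) * X ^ (n + 1)

lemma derivative_T (d : ℕ) : derivative (T d) = ∑ n ∈ range (d + 1), (-X) ^ n := by
  rw [T, derivative_sum]
  refine Finset.sum_congr rfl fun n _ => ?_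
  rw [derivative_C_mul, derivative_X_pow, Nat.add_sub_cancel, ← mul_assoc, ← C_mul]
  have h : ((-1 : ℚ) ^ n / ((n : ℚ) + 1)) * (((n + 1 : ℕ) : ℚ)) = (-1) ^ n := by
    have : ((n : ℚ) + 1) ≠ 0 := by positivity
    push_cast
    field_simp
  rw [h, neg_pow (X : ℚ[X]) n, map_pow, map_neg, map_one]

lemma one_add_mul_derivative_T (d : ℕ) (Y : ℚ[X]) :
    (1 + Y) * (derivative (T d)).comp Y = 1 - (-Y) ^ (d + 1) := by
  rw [derivative_T]
  have h : (∑ n ∈ range (d + 1), (-X : ℚ[X]) ^ n).comp Y = ∑ n ∈ range (d + 1), (-Y) ^ n := by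
    rw [Polynomial.sum_comp]
    refine Finset.sum_congr rfl fun n _ => ?_
    rw [pow_comp, neg_comp, X_comp]
  rw [h]
  have := mul_neg_geom_sum (-Y) (d + 1)
  rw [sub_neg_eq_add] at this
  exact this

lemma T_coeff_zero (d : ℕ) : (T d).coeff 0 = 0 := by
  rw [T, finsetSum_coeff]
  refine Finset.sum_eq_zero fun n _ => ?_
  rw [coeff_C_mul, coeff_X_pow, if_neg (by omega), mul_zero]

/-- the polynomial `(1+X)^j - 1`. -/
noncomputable def Q (j : ℕ) : ℚ[X] := (1 + X) ^ j - 1

lemma X_dvd_Q (j : ℕ) : X ∣ Q j := by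
  rw [X_dvd_iff, Q, coeff_sub, coeff_one_zero, coeff_zero_eq_eval_zero, eval_pow, eval_add,
    eval_one, eval_X, add_zero, one_pow, sub_self]

lemma one_add_Q (j : ℕ) : 1 + Q j = (1 + X) ^ j := by
  rw [Q]; ring

lemma derivative_Q (j : ℕ) : (1 + X) * derivative (Q j) = C (j : ℚ) * (1 + X) ^ j := by
  rw [Q, derivative_sub, derivative_one, sub_zero, derivative_pow, derivative_add, derivative_one,
    derivative_X, zero_add, mul_one]
  rcases j with _ | j
  · simp
  · rw [Nat.add_sub_cancel, map_natCast]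
    ring

/-- the difference `T((1+X)^j - 1) - j T(X)`. -/
noncomputable def D (d j : ℕ) : ℚ[X] := (T d).comp (Q j) - C (j : ℚ) * T d

lemma X_pow_dvd_derivative_D (d j : ℕ) : X ^ (d + 1) ∣ derivative (D d j) := by
  have h1 : (1 + X) * derivative (D d j) =
      C (j : ℚ) * ((-X) ^ (d + 1) - (-(Q j)) ^ (d + 1)) := by
    rw [D, derivative_sub, derivative_C_mul, derivative_comp, mul_sub]
    have e1 : (1 + X) * (derivative (Q j) * (derivative (T d)).comp (Q j)) =
        C (j : ℚ) * (1 - (-(Q j)) ^ (d + 1)) := by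
      rw [← mul_assoc, derivative_Q, mul_assoc, ← one_add_Q, one_add_mul_derivative_T]
    have e2 : (1 + X) * (C (j : ℚ) * derivative (T d)) = C (j : ℚ) * (1 - (-X) ^ (d + 1)) := by
      have := one_add_mul_derivative_T d X
      rw [comp_X] at this
      rw [mul_left_comm, this]
    rw [e1, e2]
    ring
  have h2 : X ^ (d + 1) ∣ (1 + X) * derivative (D d j) := by
    rw [h1]
    apply Dvd.dvd.mul_left
    apply dvd_sub
    · rw [neg_pow]; exact Dvd.intro_left _ rfl
    · rw [neg_pow]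
      exact Dvd.dvd.mul_left (pow_dvd_pow_of_dvd (X_dvd_Q j) _) _
  have hcop : IsCoprime (X ^ (d + 1) : ℚ[X]) (1 + X) := by
    apply IsCoprime.pow_left
    exact ⟨-1, 1, by ring⟩
  exact hcop.dvd_of_dvd_mul_left h2

lemma D_coeff_zero (d j : ℕ) : (D d j).coeff 0 = 0 := by
  rw [coeff_zero_eq_eval_zero, D, eval_sub, eval_comp, eval_mul, eval_C]
  have hQ : (Q j).eval 0 = 0 := by
    rw [← coeff_zero_eq_eval_zero]
    exact X_dvd_iff.mp (X_dvd_Q j)
  have hT : (T d).eval 0 = 0 := by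
    rw [← coeff_zero_eq_eval_zero]
    exact T_coeff_zero d
  rw [hQ, hT, mul_zero, sub_zero]

/-- **the truncated logarithm is additive on powers**, modulo `X^(d+1)` (even `X^(d+2)`). -/
theorem X_pow_dvd_D (d j : ℕ) : X ^ (d + 1) ∣ D d j := by
  rw [X_pow_dvd_iff]
  intro n hn
  rcases n with _ | n
  · exact D_coeff_zero d j
  · have h := (X_pow_dvd_iff.mp (X_pow_dvd_derivative_D d j)) n (by omega)
    rw [coeff_derivative] at h
    have hne : ((n : ℚ) + 1) ≠ 0 := by positivity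
    exact (mul_eq_zero.mp h).resolve_right hne

end Groth.Agent.H2.TruncLog
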