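import Groth.Agent.Lib.Helper2.LamSplit2
import Groth.Agent.Lib.Helper2.LamFilt
import Groth.Agent.Lib.Helper2.TruncLog

/-! # The logarithm of a line element is an eigenvector of the Adams operations. -/

set_option autoImplicit false

namespace Groth.Agent.H2.Lam

open Finset LambdaRing TensorProduct Groth.Agent.H2.TruncLog

universe u

variable {K : Type u} [CommRing K] [LambdaOps K] {P : PosStructure K}

/-- the truncated logarithm in `ℚ ⊗ K`. -/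
noncomputable def tlog (d : ℕ) (y : K) : ℚ ⊗[ℤ] K :=
  ∑ n ∈ range (d + 1), ((-1 : ℚ) ^ n / ((n : ℚ) + 1)) ⊗ₜ[ℤ] (y ^ (n + 1))

lemma tmul_eq_smul (c : ℚ) (y : K) : c ⊗ₜ[ℤ] y = c • ((1 : ℚ) ⊗ₜ[ℤ] y) := by
  rw [TensorProduct.smul_tmul', smul_eq_mul, mul_one]

lemma aeval_T (d : ℕ) (y : K) :
    Polynomial.aeval ((1 : ℚ) ⊗ₜ[ℤ] y) (T d) = tlog d y := by
  rw [T, tlog, map_sum]
  refine Finset.sum_congr rfl fun n _ => ?_
  rw [map_mul, Polynomial.aeval_C, map_pow, Polynomial.aeval_X, Algebra.TensorProduct.tmul_pow,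
    one_pow, ← Algebra.smul_def, ← tmul_eq_smul]

lemma aeval_Q (j : ℕ) (x : K) :
    Polynomial.aeval ((1 : ℚ) ⊗ₜ[ℤ] x) (Q j) = (1 : ℚ) ⊗ₜ[ℤ] ((1 + x) ^ j - 1) := by
  rw [Q, map_sub, map_pow, map_add, map_one, Polynomial.aeval_X, TensorProduct.tmul_sub,
    ← Algebra.TensorProduct.one_def, Algebra.TensorProduct.one_def, ← TensorProduct.tmul_add,
    Algebra.TensorProduct.tmul_pow, one_pow]

/-- `log((1+x)^j) = j log(1+x)` when `x^(d+1) = 0`. -/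
theorem tlog_pow (d j : ℕ) (x : K) (hx : x ^ (d + 1) = 0) :
    tlog d ((1 + x) ^ j - 1) = (j : ℚ) • tlog d x := by
  obtain ⟨R, hR⟩ := X_pow_dvd_D d j
  have h := congrArg (Polynomial.aeval ((1 : ℚ) ⊗ₜ[ℤ] x)) hR
  rw [map_mul, map_pow, Polynomial.aeval_X, Algebra.TensorProduct.tmul_pow, hx,
    TensorProduct.tmul_zero, zero_mul, D, map_sub, Polynomial.aeval_comp, aeval_Q, aeval_T,
    map_mul, Polynomial.aeval_C, aeval_T, ← Algebra.smul_def, sub_eq_zero] at h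
  exact h

variable (P) in
lemma sub_one_pow_mem {u : K} (hu : P.IsLine u) (n : ℕ) : (u - 1) ^ n ∈ gammaFiltration P n := by
  have h0 : P.aug (u - 1) = 0 := by rw [map_sub, map_one, hu.2, sub_self]
  have h1 := pow_mem_filt P (mem_one_of_aug_eq_zero P h0) n
  rwa [Nat.mul_one] at h1

theorem log_eigen (hK : HasSplitting K P) (d : ℕ) (hd : gammaFiltration P (d + 1) = ⊥)
    (j : ℕ) (Ψ : ℚ ⊗[ℤ] K →ₗ[ℚ] ℚ ⊗[ℤ] K)
    (hΨ : ∀ x : K, Ψ (1 ⊗ₜ[ℤ] x) = 1 ⊗ₜ[ℤ] adams P j x) {u : K} (hu : P.IsLine u) :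
    Ψ (tlog d (u - 1)) = (j : ℚ) • tlog d (u - 1) := by
  have hx : (u - 1) ^ (d + 1) = 0 := by
    have := sub_one_pow_mem P hu (d + 1)
    rw [hd] at this
    exact (AddSubgroup.mem_bot).mp this
  have h1 : Ψ (tlog d (u - 1)) = tlog d ((1 + (u - 1)) ^ j - 1) := by
    rw [tlog, tlog, map_sum]
    refine Finset.sum_congr rfl fun n _ => ?_
    rw [tmul_eq_smul, map_smul, hΨ, ← tmul_eq_smul]
    congr 1
    rw [← adamsRingHom_apply hK, map_pow, map_sub, map_one, adamsRingHom_apply,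
      adams_of_line P hu]
    congr 2
    ring
  rw [h1, tlog_pow d j (u - 1) hx]

theorem log_sub_mem (d : ℕ) {u : K} (hu : P.IsLine u) :
    tlog d (u - 1) - (1 : ℚ) ⊗ₜ[ℤ] (u - 1) ∈
      Submodule.span ℚ ((fun x : K => (1 : ℚ) ⊗ₜ[ℤ] x) '' (gammaFiltration P 2 : Set K)) := by
  rw [tlog, Finset.sum_range_succ']
  have h0 : ((-1 : ℚ) ^ 0 / (((0 : ℕ) : ℚ) + 1)) ⊗ₜ[ℤ] ((u - 1) ^ (0 + 1)) =
      (1 : ℚ) ⊗ₜ[ℤ] (u - 1) := by
    norm_num
  rw [h0, add_sub_cancel_right]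
  refine Submodule.sum_mem _ fun n _ => ?_
  rw [tmul_eq_smul]
  refine Submodule.smul_mem _ _ (Submodule.subset_span ⟨_, ?_, rfl⟩)
  exact gammaFiltration_anti P (by omega : 2 ≤ n + 1 + 1) (sub_one_pow_mem P hu (n + 1 + 1))

end Groth.Agent.H2.Lam
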