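import Groth.Agent.Lib.Helper2.LamSplit2

set_option autoImplicit false

namespace Groth.Agent.H2.Lam

open PowerSeries Finset LambdaRing

universe u

section
variable {K : Type u} [CommRing K] [LambdaOps K] (P : PosStructure K)

/-- `λ_{-1}(x) = (-1)^m γ^m(x - m)` when `λ^i(x) = 0` for `i > m`. -/
theorem gamma_top_eq (h1 : lamSeries (1 : K) = 1 + X) {x : K} {m : ℕ}
    (hx : ∀ i, m < i → LambdaOps.lam i x = 0) :
    gamma m (x - (m : K)) = (-1 : K) ^ m * ∑ i ∈ range (m + 1), (-1 : K) ^ i * LambdaOps.lam i x := by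
  have h := congrArg (Polynomial.eval 0) (gamma_poly_identity h1 hx)
  simp only [Polynomial.eval_finsetSum, Polynomial.eval_mul, Polynomial.eval_C, Polynomial.eval_pow,
    Polynomial.eval_X, Polynomial.eval_sub, Polynomial.eval_one, zero_sub] at h
  rw [Finset.sum_eq_single m] at h
  · rw [Nat.sub_self, pow_zero, mul_one] at h
    rw [h, Finset.mul_sum]
    apply Finset.sum_congr rfl
    intro i hi
    rw [mem_range] at hi
    have : (-1 : K) ^ (m - i) = (-1) ^ m * (-1) ^ i := by
      have hn : m = (m - i) + i := by omega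
      conv_rhs => rw [hn, pow_add, mul_assoc, ← pow_add, ← two_mul, pow_mul]
      simp
    rw [this]; ring
  · intro b hb hne
    rw [mem_range] at hb
    rw [zero_pow (by omega), mul_zero]
  · intro h'
    simp at h'

theorem lamAlt_mem {q : K} (hq : q ∈ P.pos) :
    (∑ i ∈ range ((P.aug q).toNat + 1), (-1 : K) ^ i * LambdaOps.lam i q) ∈
      gammaFiltration P (P.aug q).toNat := by
  have hpos := P.aug_pos q hq
  have hx : ∀ i, (P.aug q).toNat < i → LambdaOps.lam i q = 0 := by
    intro i hi
    exact P.lam_eq_zero q hq i (by omega)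
  have h := gamma_top_eq (lamSeries_one P) hx
  have haug : P.aug (q - ((P.aug q).toNat : K)) = 0 := by
    rw [map_sub, map_natCast]
    omega
  have hmem := gamma_mem P haug (P.aug q).toNat
  rw [h] at hmem
  have := mul_mem_left P _ ((-1 : K) ^ (P.aug q).toNat) hmem
  rwa [← mul_assoc, ← pow_add, ← two_mul, pow_mul, neg_one_sq, one_pow, one_mul] at this

end

section Push

variable {KY KX : Type u} [CommRing KY] [LambdaOps KY] [CommRing KX] [LambdaOps KX]
  (PY : PosStructure KY) (PX : PosStructure KX)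

theorem filt_le_map (g : KY →+* KX) (hg : IsLambdaHom g) (hgaug : ∀ y : KY, PX.aug (g y) = PY.aug y)
    (hgsurj : Function.Surjective g) (m : ℕ) {x : KX} (hx : x ∈ gammaFiltration PX m) :
    ∃ z ∈ gammaFiltration PY m, g z = x := by
  rcases Nat.eq_zero_or_pos m with rfl | hm
  · obtain ⟨z, rfl⟩ := hgsurj x
    exact ⟨z, by rw [gammaFiltration_zero]; trivial, rfl⟩
  rw [gammaFiltration_of_pos PX hm.ne'] at hx
  induction hx using AddSubgroup.closure_induction with
  | mem y hy =>
    obtain ⟨l, h1, h2, rfl⟩ := hy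
    -- lift the list
    have : ∃ l' : List (ℕ × KY), (∀ p ∈ l', PY.aug p.2 = 0) ∧ l'.map Prod.fst = l.map Prod.fst ∧
        g ((l'.map fun p => gamma p.1 p.2).prod) = (l.map fun p => gamma p.1 p.2).prod := by
      clear h2
      induction l with
      | nil => exact ⟨[], by simp, rfl, by simp⟩
      | cons a l ih =>
        obtain ⟨l', h1', h2', h3'⟩ := ih (fun p hp => h1 p (List.mem_cons_of_mem _ hp))
        obtain ⟨y, hy⟩ := hgsurj a.2
        refine ⟨(a.1, y) :: l', ?_, ?_, ?_⟩
        · intro p hp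
          rcases List.mem_cons.mp hp with rfl | hp
          · show PY.aug y = 0
            rw [← hgaug, hy]
            exact h1 a (List.mem_cons_self ..)
          · exact h1' p hp
        · simp [h2']
        · simp only [List.map_cons, List.prod_cons, map_mul, h3', map_gamma hg, hy]
    obtain ⟨l', h1', h2', h3'⟩ := this
    refine ⟨_, subset_gammaFiltration PY m ⟨l', h1', by rw [h2']; exact h2, rfl⟩, h3'⟩
  | zero => exact ⟨0, zero_mem _, map_zero g⟩
  | add x y _ _ hx hy =>
    obtain ⟨zx, hzx, rfl⟩ := hx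
    obtain ⟨zy, hzy, rfl⟩ := hy
    exact ⟨zx + zy, add_mem hzx hzy, map_add g zx zy⟩
  | neg x _ hx =>
    obtain ⟨zx, hzx, rfl⟩ := hx
    exact ⟨-zx, neg_mem hzx, map_neg g zx⟩

theorem push_mem
    (g : KY →+* KX) (hg : IsLambdaHom g) (hgaug : ∀ y : KY, PX.aug (g y) = PY.aug y)
    (hgsurj : Function.Surjective g)
    (p : KX →+ KY) (hproj : ∀ (y : KY) (x : KX), p (g y * x) = y * p x)
    (q : KY) (hq : q ∈ PY.pos)
    (hp1 : p 1 = ∑ i ∈ range ((PY.aug q).toNat + 1), (-1 : KY) ^ i * LambdaOps.lam i q)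
    (m : ℕ) (x : KX) (hx : x ∈ gammaFiltration PX m) :
    p x ∈ gammaFiltration PY (m + (PY.aug q).toNat) := by
  obtain ⟨z, hz, rfl⟩ := filt_le_map PY PX g hg hgaug hgsurj m hx
  have : p (g z) = z * p 1 := by
    have := hproj z 1
    rwa [mul_one] at this
  rw [this, hp1]
  exact mul_mem_filt PY hz (lamAlt_mem PY hq)

end Push

end Groth.Agent.H2.Lam
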