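import Mathlib

set_option autoImplicit false

namespace Groth.Agent.H2.Lam

open Finset

universe u v

section Abstract

variable {K : Type u} [CommRing K] {A : Type v} [CommRing A] [Algebra K A]
  (ℓ : A) (m : ℕ) (hm : 1 ≤ m) (a σ : ℕ → K) (ha0 : a 0 = 1) (ham : ∀ i, m < i → a i = 0)
  (hrel : ∑ i ∈ range (m + 1), a i • ℓ ^ (m - i) = 0)
  (hconv : ∀ k, ∑ i ∈ range (k + 1), a i * σ (k - i) = if k = 0 then 1 else 0)
  (f : A →ₗ[K] K) (hf : ∀ i, i < m → f (ℓ ^ i) = σ i)

include hm ha0 ham hrel hconv hf

theorem f_pow_eq (k : ℕ) : f (ℓ ^ k) = σ k := by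
  induction k using Nat.strong_induction_on with
  | _ k ih =>
    by_cases hk : k < m
    · exact hf k hk
    · obtain ⟨n, rfl⟩ : ∃ n, k = n + m := ⟨k - m, by omega⟩
      have h1 : ∑ i ∈ range (m + 1), a i • ℓ ^ (n + m - i) = 0 := by
        have := congrArg (fun x => ℓ ^ n * x) hrel
        simp only [mul_zero, Finset.mul_sum] at this
        rw [← this]
        apply Finset.sum_congr rfl
        intro i hi
        rw [mem_range] at hi
        rw [mul_smul_comm, ← pow_add, show n + (m - i) = n + m - i by omega]
      have h2 := congrArg f h1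
      rw [map_sum, map_zero, Finset.sum_range_succ'] at h2
      simp only [map_smul, smul_eq_mul, ha0, one_mul, Nat.sub_zero] at h2
      have h3 : ∑ i ∈ range (m + 1), a i * σ (n + m - i) = 0 := by
        have hc := hconv (n + m)
        rw [if_neg (by omega)] at hc
        rw [← hc]
        apply Finset.sum_subset
        · intro i hi
          rw [mem_range] at hi ⊢
          omega
        · intro i _ hi
          rw [mem_range] at hi
          rw [ham i (by omega), zero_mul]
      rw [Finset.sum_range_succ'] at h3
      simp only [ha0, one_mul, Nat.sub_zero] at h3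
      have h4 : ∑ i ∈ range m, a (i + 1) * f (ℓ ^ (n + m - (i + 1))) =
          ∑ i ∈ range m, a (i + 1) * σ (n + m - (i + 1)) := by
        apply Finset.sum_congr rfl
        intro i hi
        rw [mem_range] at hi
        rw [ih (n + m - (i + 1)) (by omega)]
      rw [h4] at h2
      have := h2.trans h3.symm
      exact add_left_cancel this

theorem f_inv_pow_eq_zero (linv : A) (hlinv : linv * ℓ = 1) (hunit : IsUnit (a m)) (n : ℕ)
    (hn1 : 1 ≤ n) (hnm : n < m) : f (linv ^ n) = 0 := by
  induction n using Nat.strong_induction_on with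
  | _ n ih =>
    have hfp := f_pow_eq ℓ m hm a σ ha0 ham hrel hconv f hf
    have hcancel : ∀ p q : ℕ, q ≤ p → ℓ ^ p * linv ^ q = ℓ ^ (p - q) := by
      intro p q hqp
      obtain ⟨s, rfl⟩ : ∃ s, p = s + q := ⟨p - q, by omega⟩
      rw [pow_add, mul_assoc, ← mul_pow, mul_comm ℓ, hlinv, one_pow, mul_one]
      congr 1; omega
    have hcancel' : ∀ p q : ℕ, p ≤ q → ℓ ^ p * linv ^ q = linv ^ (q - p) := by
      intro p q hpq
      obtain ⟨s, rfl⟩ : ∃ s, q = s + p := ⟨q - p, by omega⟩
      rw [pow_add, mul_comm (linv ^ s), ← mul_assoc, ← mul_pow, mul_comm ℓ, hlinv, one_pow, one_mul]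
      congr 1; omega
    -- multiply the relation by linv^n
    have h1 : ∑ i ∈ range (m + 1), a i • (ℓ ^ (m - i) * linv ^ n) = 0 := by
      have := congrArg (fun x => x * linv ^ n) hrel
      simp only [zero_mul, Finset.sum_mul] at this
      rw [← this]
      apply Finset.sum_congr rfl
      intro i _
      rw [smul_mul_assoc]
    have h2 := congrArg f h1
    rw [map_sum, map_zero] at h2
    simp only [map_smul, smul_eq_mul] at h2
    -- split the sum: i ≤ m - n, m - n < i < m, i = m
    have h3 : ∀ i ∈ range (m + 1), a i * f (ℓ ^ (m - i) * linv ^ n) =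
        (if i ≤ m - n then a i * σ (m - n - i) else 0) +
        (if i = m then a m * f (linv ^ n) else 0) := by
      intro i hi
      rw [mem_range] at hi
      by_cases h : i ≤ m - n
      · rw [if_pos h, if_neg (by omega), add_zero, hcancel (m - i) n (by omega), hfp]
        congr 2; omega
      · rw [if_neg h, zero_add]
        by_cases h' : i = m
        · rw [if_pos h', h', Nat.sub_self, pow_zero, one_mul]
        · rw [if_neg h', hcancel' (m - i) n (by omega), ih (n - (m - i)) (by omega) (by omega)
            (by omega), mul_zero]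
    rw [Finset.sum_congr rfl h3, Finset.sum_add_distrib, Finset.sum_ite_eq' (range (m + 1)) m,
      if_pos (mem_range.mpr (Nat.lt_succ_self m))] at h2
    have h4 : ∑ i ∈ range (m + 1), (if i ≤ m - n then a i * σ (m - n - i) else 0) = 0 := by
      have hc := hconv (m - n)
      rw [if_neg (by omega)] at hc
      refine Eq.trans ?_ hc
      rw [← Finset.sum_filter]
      apply Finset.sum_congr
      · ext i
        simp only [mem_filter, mem_range]
        omega
      · intro _ _; rfl
    rw [h4, zero_add] at h2
    exact (hunit.mul_right_eq_zero).mp h2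

end Abstract

end Groth.Agent.H2.Lam
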