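import Groth.Agent.Lib.Helper2.LamAdams
import Groth.Agent.Lib.Helper2.LamGammaPoly

set_option autoImplicit false

namespace Groth.Agent.H2.Lam

open PowerSeries Finset LambdaRing

universe u

section Ext

variable {K K' K'' : Type u} [CommRing K] [LambdaOps K] [CommRing K'] [LambdaOps K']
  [CommRing K''] [LambdaOps K'']
  {P : PosStructure K} {P' : PosStructure K'} {P'' : PosStructure K''}

theorem isExtension_id (P : PosStructure K) : IsExtension P P (RingHom.id K) :=
  ⟨fun _ _ => rfl, fun _ _ h => h, fun _ => rfl, fun _ h => h⟩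

theorem isExtension_comp {f : K →+* K'} {g : K' →+* K''} (hf : IsExtension P P' f)
    (hg : IsExtension P' P'' g) : IsExtension P P'' (g.comp f) :=
  ⟨fun i x => by
      rw [RingHom.comp_apply, hf.isLambdaHom, hg.isLambdaHom, RingHom.comp_apply],
    hg.injective.comp hf.injective,
    fun x => by rw [RingHom.comp_apply, hg.aug_comp, hf.aug_comp],
    fun e he => hg.pos_subset _ (hf.pos_subset e he)⟩

theorem isExtension_isLine {f : K →+* K'} (hf : IsExtension P P' f) {u : K} (hu : P.IsLine u) :
    P'.IsLine (f u) :=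
  ⟨hf.pos_subset u hu.1, by rw [hf.aug_comp, hu.2]⟩

omit [LambdaOps K] [LambdaOps K'] in
theorem map_derivative (f : K →+* K') (g : K⟦X⟧) :
    PowerSeries.map f (derivative K g) = derivative K' (PowerSeries.map f g) := by
  ext n
  rw [coeff_map, coeff_derivative, coeff_derivative, coeff_map, map_mul]
  simp

theorem map_lamNeg {f : K →+* K'} (hf : IsLambdaHom f) (x : K) :
    PowerSeries.map f (lamNeg x) = lamNeg (f x) := by
  ext n
  rw [coeff_map, coeff_lamNeg, coeff_lamNeg, map_mul, hf]
  simp

theorem map_sigmaS {f : K →+* K'} (hf : IsLambdaHom f) (x : K) :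
    PowerSeries.map f (sigmaS x) = sigmaS (f x) := by
  symm
  apply sigmaS_eq_of_mul_eq_one
  rw [← map_lamNeg hf, ← map_mul, lamNeg_mul_sigmaS, map_one]

theorem isExtension_map_adamsSeries {f : K →+* K'} (hf : IsExtension P P' f) (x : K) :
    PowerSeries.map f (adamsSeries P x) = adamsSeries P' (f x) := by
  rw [adamsSeries_eq, adamsSeries_eq, map_sub, map_mul, map_mul, map_derivative,
    map_lamNeg hf.isLambdaHom, map_sigmaS hf.isLambdaHom, map_C, map_X, hf.aug_comp]
  simp

theorem isExtension_map_adams {f : K →+* K'} (hf : IsExtension P P' f) (j : ℕ) (x : K) :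
    f (adams P j x) = adams P' j (f x) := by
  rw [adams, adams, ← isExtension_map_adamsSeries hf, coeff_map]

theorem map_gamma {f : K →+* K'} (hf : IsLambdaHom f) (k : ℕ) (x : K) :
    f (gamma k x) = gamma k (f x) := by
  unfold gamma
  split_ifs with h
  · exact map_one f
  · rw [map_sum]
    apply Finset.sum_congr rfl
    intro j _
    rw [map_mul, map_natCast]
    split_ifs with hj
    · rw [map_zero]
    · rw [hf]

end Ext

section Lines

variable {K : Type u} [CommRing K] [LambdaOps K] (P : PosStructure K)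

theorem lamSeries_sum_lines {s : Multiset K} (hs : ∀ u ∈ s, P.IsLine u) :
    lamSeries s.sum = (s.map fun u => (1 + C u * X : K⟦X⟧)).prod := by
  rw [lamSeries_multiset_sum]
  congr 1
  exact Multiset.map_congr rfl (fun u hu => lamSeries_of_line P (hs u hu))

theorem aug_sum_lines {s : Multiset K} (hs : ∀ u ∈ s, P.IsLine u) :
    P.aug s.sum = (Multiset.card s : ℤ) := by
  rw [map_multiset_sum]
  rw [Multiset.map_congr rfl (fun u hu => (hs u hu).2)]
  simp

theorem adams_sum_lines {s : Multiset K} (hs : ∀ u ∈ s, P.IsLine u) (j : ℕ) :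
    adams P j s.sum = (s.map fun u => u ^ j).sum := by
  rw [adams_multiset_sum]
  congr 1
  exact Multiset.map_congr rfl (fun u hu => adams_of_line P (hs u hu) j)

theorem adams_line_mul_sum {u : K} (hu : P.IsLine u) {s : Multiset K}
    (hs : ∀ v ∈ s, P.IsLine v) (j : ℕ) : adams P j (u * s.sum) = u ^ j * adams P j s.sum := by
  induction s using Multiset.induction_on with
  | empty => simp [adams_zero']
  | cons v s ih =>
    have hv : P.IsLine v := hs v (Multiset.mem_cons_self v s)
    have hs' : ∀ w ∈ s, P.IsLine w := fun w hw => hs w (Multiset.mem_cons_of_mem hw)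
    rw [Multiset.sum_cons, mul_add, adams_add, adams_add, ih hs',
      adams_of_line P (isLine_mul P hu hv), adams_of_line P hv, mul_pow, mul_add]

theorem adams_sum_mul_sum {s t : Multiset K} (hs : ∀ u ∈ s, P.IsLine u)
    (ht : ∀ v ∈ t, P.IsLine v) (j : ℕ) :
    adams P j (s.sum * t.sum) = adams P j s.sum * adams P j t.sum := by
  induction s using Multiset.induction_on with
  | empty => simp [adams_zero']
  | cons a s ih =>
    have ha : P.IsLine a := hs a (Multiset.mem_cons_self a s)
    have hs' : ∀ u ∈ s, P.IsLine u := fun u hu => hs u (Multiset.mem_cons_of_mem hu)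
    rw [Multiset.sum_cons, add_mul, adams_add, adams_add, adams_line_mul_sum P ha ht, ih hs',
      adams_of_line P ha, add_mul]

theorem adams_adams_sum_lines {s : Multiset K} (hs : ∀ u ∈ s, P.IsLine u) (i j : ℕ) :
    adams P i (adams P j s.sum) = adams P (i * j) s.sum := by
  rw [adams_sum_lines P hs, adams_sum_lines P hs, adams_multiset_sum, Multiset.map_map]
  congr 1
  apply Multiset.map_congr rfl
  intro v hv
  simp only [Function.comp_apply]
  rw [adams_of_line P (isLine_pow P (hs v hv) j), ← pow_mul, mul_comm]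

end Lines

section Split

variable {K : Type u} [CommRing K] [LambdaOps K] {P : PosStructure K}

/-- One step of the splitting principle. -/
theorem exists_split (hK : HasSplitting K P) {e : K} (he : e ∈ P.pos) :
    ∃ (L : PosLambdaRing.{u}) (f : K →+* L.carrier), IsExtension P L.posStr f ∧
      HasSplitting L.carrier L.posStr ∧
      ∃ s : Multiset L.carrier, (∀ u ∈ s, L.posStr.IsLine u) ∧ s.sum = f e := by
  obtain ⟨C, hKC, hC⟩ := hK
  obtain ⟨L', hL', f, hf, s, hs, hsum⟩ := hC ⟨K, P⟩ hKC e he
  exact ⟨L', f, hf, ⟨C, hL', hC⟩, s, hs, hsum⟩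

/-- Splitting two positive elements simultaneously. -/
theorem exists_split₂ (hK : HasSplitting K P) {e e' : K} (he : e ∈ P.pos) (he' : e' ∈ P.pos) :
    ∃ (L : PosLambdaRing.{u}) (f : K →+* L.carrier), IsExtension P L.posStr f ∧
      HasSplitting L.carrier L.posStr ∧
      (∃ s : Multiset L.carrier, (∀ u ∈ s, L.posStr.IsLine u) ∧ s.sum = f e) ∧
      ∃ s : Multiset L.carrier, (∀ u ∈ s, L.posStr.IsLine u) ∧ s.sum = f e' := by
  obtain ⟨L₁, f₁, hf₁, hL₁, s₁, hs₁, hsum₁⟩ := exists_split hK he
  obtain ⟨L₂, f₂, hf₂, hL₂, s₂, hs₂, hsum₂⟩ := exists_split hL₁ (hf₁.pos_subset e' he')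
  refine ⟨L₂, f₂.comp f₁, isExtension_comp hf₁ hf₂, hL₂, ⟨s₁.map f₂, ?_, ?_⟩, ⟨s₂, hs₂, hsum₂⟩⟩
  · intro u hu
    obtain ⟨v, hv, rfl⟩ := Multiset.mem_map.mp hu
    exact isExtension_isLine hf₂ (hs₁ v hv)
  · rw [← map_multiset_sum, hsum₁]; rfl

/-- Every element is a difference of positive elements. -/
theorem exists_pos_sub (P : PosStructure K) (x : K) : ∃ e f, e ∈ P.pos ∧ f ∈ P.pos ∧ x = e - f :=
  P.exists_sub x

end Split

end Groth.Agent.H2.Lam
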