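import Mathlib

set_option autoImplicit false

namespace Groth.Agent.H2.Lam

open MvPolynomial

/-- all monomials have degree at least `N` -/
def MinDeg {σ : Type*} (N : ℕ) (p : MvPolynomial σ ℤ) : Prop :=
  ∀ t, coeff t p ≠ 0 → N ≤ t.degree

namespace MinDeg

variable {σ : Type*} {N M : ℕ} {p q : MvPolynomial σ ℤ}

theorem zero (N : ℕ) : MinDeg N (0 : MvPolynomial σ ℤ) := fun t h => absurd (coeff_zero t) h

theorem mono (h : MinDeg N p) (hMN : M ≤ N) : MinDeg M p := fun t ht => hMN.trans (h t ht)

theorem add (hp : MinDeg N p) (hq : MinDeg N q) : MinDeg N (p + q) := by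
  intro t ht
  rw [coeff_add] at ht
  by_cases h : coeff t p = 0
  · rw [h, zero_add] at ht; exact hq t ht
  · exact hp t h

theorem neg (hp : MinDeg N p) : MinDeg N (-p) := by
  intro t ht
  rw [coeff_neg, neg_ne_zero] at ht
  exact hp t ht

theorem sub (hp : MinDeg N p) (hq : MinDeg N q) : MinDeg N (p - q) := by
  rw [sub_eq_add_neg]; exact hp.add hq.neg

theorem mul (hp : MinDeg N p) (hq : MinDeg M q) : MinDeg (N + M) (p * q) := by
  classical
  intro t ht
  rw [coeff_mul] at ht
  obtain ⟨x, hx, hne⟩ := Finset.exists_ne_zero_of_sum_ne_zero ht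
  have hx := Finset.HasAntidiagonal.mem_antidiagonal.mp hx
  have h1 : coeff x.1 p ≠ 0 := left_ne_zero_of_mul hne
  have h2 : coeff x.2 q ≠ 0 := right_ne_zero_of_mul hne
  rw [← hx, map_add]
  exact add_le_add (hp _ h1) (hq _ h2)

theorem mul_left (hq : MinDeg M q) (p : MvPolynomial σ ℤ) : MinDeg M (p * q) := by
  have : MinDeg 0 p := fun t _ => Nat.zero_le _
  simpa using this.mul hq

theorem sum {ι : Type*} (s : Finset ι) (f : ι → MvPolynomial σ ℤ) (h : ∀ i ∈ s, MinDeg N (f i)) :
    MinDeg N (∑ i ∈ s, f i) := by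
  classical
  induction s using Finset.induction_on with
  | empty => simpa using zero N
  | insert a s ha ih =>
    rw [Finset.sum_insert ha]
    exact (h a (Finset.mem_insert_self a s)).add (ih fun i hi => h i (Finset.mem_insert_of_mem hi))

theorem X (i : σ) : MinDeg 1 (X i : MvPolynomial σ ℤ) := by
  classical
  intro t ht
  rw [coeff_X] at ht
  split_ifs at ht with h
  · rw [← h]; simp
  · exact absurd rfl ht

theorem prod_X (s : Finset σ) : MinDeg s.card (∏ i ∈ s, (MvPolynomial.X i : MvPolynomial σ ℤ)) := by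
  classical
  induction s using Finset.induction_on with
  | empty => exact fun t _ => Nat.zero_le _
  | insert a s ha ih =>
    rw [Finset.prod_insert ha, Finset.card_insert_of_notMem ha, add_comm]
    exact (X a).mul ih

theorem of_constantCoeff (h : constantCoeff p = 0) : MinDeg 1 p := by
  intro t ht
  by_contra hlt
  have : t.degree = 0 := by omega
  rw [Finsupp.degree_eq_zero_iff] at this
  subst this
  exact ht h

end MinDeg

variable (m : ℕ)

/-- the weights `1, 2, …, m` -/
def wt : Fin m → ℕ := fun i => (i : ℕ) + 1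

/-- evaluation at the elementary symmetric polynomials -/
noncomputable def E : MvPolynomial (Fin m) ℤ →ₐ[ℤ] MvPolynomial (Fin m) ℤ :=
  aeval (fun i : Fin m => esymm (Fin m) ℤ ((i : ℕ) + 1))

theorem E_injective : Function.Injective (E m) := by
  intro p q h
  apply esymmAlgHom_fin_injective ℤ (le_refl m)
  apply Subtype.ext
  rw [esymmAlgHom_apply, esymmAlgHom_apply]
  exact h

theorem isHomogeneous_esymm (n : ℕ) : (esymm (Fin m) ℤ n).IsHomogeneous n := by
  rw [esymm]
  apply IsHomogeneous.sum
  intro s hs
  rw [Finset.mem_powersetCard] at hs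
  have := IsHomogeneous.prod s (fun i => (X i : MvPolynomial (Fin m) ℤ)) (fun _ => 1)
    (fun i _ => isHomogeneous_X ℤ i)
  simpa [hs.2] using this

theorem E_monomial_isHomogeneous (t : Fin m →₀ ℕ) (c : ℤ) :
    (E m (monomial t c)).IsHomogeneous (Finsupp.weight (wt m) t) := by
  rw [E, aeval_monomial, Finsupp.weight_apply, Finsupp.prod, Finsupp.sum]
  have h1 : (algebraMap ℤ (MvPolynomial (Fin m) ℤ) c).IsHomogeneous 0 := isHomogeneous_C _ c
  have h2 := IsHomogeneous.prod t.support
    (fun i => esymm (Fin m) ℤ ((i : ℕ) + 1) ^ t i) (fun i => ((i : ℕ) + 1) * t i)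
    (fun i _ => (isHomogeneous_esymm m _).pow _)
  have := h1.mul h2
  rw [zero_add] at this
  have e : ∑ i ∈ t.support, t i • wt m i = ∑ i ∈ t.support, ((i : ℕ) + 1) * t i :=
    Finset.sum_congr rfl (fun i _ => by simp [wt, mul_comm])
  rw [e]
  exact this

theorem homogeneousComponent_E (d : ℕ) (q : MvPolynomial (Fin m) ℤ) :
    homogeneousComponent d (E m q) = E m (weightedHomogeneousComponent (wt m) d q) := by
  classical
  induction q using MvPolynomial.induction_on' with
  | monomial t c =>
    rw [homogeneousComponent_of_mem (E_monomial_isHomogeneous m t c),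
      weightedHomogeneousComponent_of_mem
        (isWeightedHomogeneous_monomial (wt m) t c rfl)]
    split_ifs with h
    · rfl
    · rw [map_zero]
  | add p q hp hq => rw [map_add, map_add, hp, hq, map_add, map_add]

theorem weight_ge_of_minDeg {N : ℕ} {q : MvPolynomial (Fin m) ℤ} (h : MinDeg N (E m q)) :
    ∀ t, coeff t q ≠ 0 → N ≤ Finsupp.weight (wt m) t := by
  classical
  intro t ht
  by_contra hlt
  push Not at hlt
  have h0 : homogeneousComponent (Finsupp.weight (wt m) t) (E m q) = 0 := by
    ext s
    rw [coeff_homogeneousComponent, coeff_zero]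
    split_ifs with hs
    · by_contra hne
      have := h s hne
      omega
    · rfl
  rw [homogeneousComponent_E, ← map_zero (E m)] at h0
  have h1 := E_injective m h0
  have h2 := congrArg (coeff t) h1
  rw [coeff_weightedHomogeneousComponent, if_pos rfl, coeff_zero] at h2
  exact ht h2

end Groth.Agent.H2.Lam
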