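import Groth.Agent.Lib.Helper2.LamSym

set_option autoImplicit false

namespace Groth.Agent.H2.Lam

open MvPolynomial

variable (m j r : ℕ)

/-- `G_k = Σ_{i<j} (1 + X_k)^i`, so that `X_k G_k = (1 + X_k)^j - 1`. -/
noncomputable def Gk (k : Fin m) : MvPolynomial (Fin m) ℤ :=
  ∑ i ∈ Finset.range j, (1 + X k) ^ i

theorem X_mul_Gk (k : Fin m) : X k * Gk m j k = (1 + X k) ^ j - 1 := by
  have := geom_sum_mul (1 + X k : MvPolynomial (Fin m) ℤ) j
  rw [add_sub_cancel_left] at this
  rw [Gk, mul_comm, this]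

theorem constantCoeff_Gk (k : Fin m) : constantCoeff (Gk m j k) = (j : ℤ) := by
  simp [Gk]

/-- The symmetric polynomial `e_r((1+X_k)^j - 1) - j^r e_r(X_k)`. -/
noncomputable def psiPoly : MvPolynomial (Fin m) ℤ :=
  aeval (fun k => X k * Gk m j k) (esymm (Fin m) ℤ r) - C ((j : ℤ) ^ r) * esymm (Fin m) ℤ r

theorem psiPoly_isSymmetric : (psiPoly m j r).IsSymmetric := by
  refine IsSymmetric.sub ?_ ((IsSymmetric.C _).mul (esymm_isSymmetric _ _ _))
  intro e
  have h1 : rename e (aeval (fun k => X k * Gk m j k) (esymm (Fin m) ℤ r)) =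
      aeval (fun k => rename e (X k * Gk m j k)) (esymm (Fin m) ℤ r) := by
    rw [← comp_aeval]; rfl
  have h2 : (fun k => rename e (X k * Gk m j k)) = (fun k => X k * Gk m j k) ∘ e := by
    funext k
    simp [Gk, map_sum]
  rw [h1, h2, ← aeval_rename, esymm_isSymmetric]

theorem psiPoly_eq_sum :
    psiPoly m j r = ∑ S ∈ Finset.powersetCard r Finset.univ,
      (∏ k ∈ S, X k) * (∏ k ∈ S, Gk m j k - C ((j : ℤ) ^ r)) := by
  rw [psiPoly, esymm, map_sum, Finset.mul_sum, ← Finset.sum_sub_distrib]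
  apply Finset.sum_congr rfl
  intro S _
  rw [map_prod]
  simp only [aeval_X, Finset.prod_mul_distrib]
  ring

theorem psiPoly_minDeg : MinDeg (r + 1) (psiPoly m j r) := by
  rw [psiPoly_eq_sum]
  apply MinDeg.sum
  intro S hS
  rw [Finset.mem_powersetCard] at hS
  have h1 := MinDeg.prod_X (σ := Fin m) S
  rw [hS.2] at h1
  refine h1.mul (MinDeg.of_constantCoeff ?_)
  rw [map_sub, map_prod, constantCoeff_C]
  simp [constantCoeff_Gk, hS.2]

/-- The universal polynomial expressing `psiPoly` through elementary symmetric polynomials. -/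
noncomputable def psiQ : MvPolynomial (Fin m) ℤ :=
  (esymmAlgEquiv (Fin m) ℤ (Fintype.card_fin m)).symm ⟨psiPoly m j r, psiPoly_isSymmetric m j r⟩

theorem E_psiQ : E m (psiQ m j r) = psiPoly m j r := by
  have h : (esymmAlgEquiv (Fin m) ℤ (Fintype.card_fin m)) (psiQ m j r) =
      ⟨psiPoly m j r, psiPoly_isSymmetric m j r⟩ := by
    rw [psiQ, AlgEquiv.apply_symm_apply]
  have h2 := congrArg Subtype.val h
  rw [esymmAlgEquiv_apply, esymmAlgHom_apply] at h2
  exact h2

theorem psiQ_weight (t : Fin m →₀ ℕ) (ht : coeff t (psiQ m j r) ≠ 0) :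
    r + 1 ≤ Finsupp.weight (wt m) t := by
  refine weight_ge_of_minDeg m ?_ t ht
  rw [E_psiQ]
  exact psiPoly_minDeg m j r

end Groth.Agent.H2.Lam
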