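import Mathlib

/-!
# Lazard's theorem

A module is flat iff it is a colimit of finite free modules over a directed preorder.
-/

set_option autoImplicit false
universe u
open CategoryTheory CategoryTheory.Limits

namespace Groth.Agent.H2.Lazard

variable (R : Type u) [CommRing R] (M : Type u) [AddCommGroup M] [Module R M]

/-- objects: maps from finite free modules to `M`. -/
structure Obj where
  n : ℕ
  x : (Fin n →₀ R) →ₗ[R] M

variable {R M}

/-- morphisms of the index category. -/
@[ext] structure Hom (X Y : Obj R M) where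
  a : (Fin X.n →₀ R) →ₗ[R] (Fin Y.n →₀ R)
  w : Y.x ∘ₗ a = X.x

noncomputable instance : Category.{u} (Obj R M) where
  Hom X Y := Hom X Y
  id X := ⟨LinearMap.id, LinearMap.comp_id _⟩
  comp f g := ⟨g.a ∘ₗ f.a, by rw [← LinearMap.comp_assoc, g.w, f.w]⟩
  id_comp f := Hom.ext (LinearMap.comp_id _)
  comp_id f := Hom.ext (LinearMap.id_comp _)
  assoc f g h := Hom.ext rfl

/-- the diagram of finite free modules. -/
noncomputable def F₀ : Obj R M ⥤ ModuleCat.{u} R where
  obj X := ModuleCat.of R (Fin X.n →₀ R)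
  map f := ModuleCat.ofHom f.a
  map_id X := rfl
  map_comp f g := rfl

/-- the tautological cocone. -/
noncomputable def coc : Cocone (F₀ (R := R) (M := M)) where
  pt := ModuleCat.of R M
  ι :=
    { app := fun X => ModuleCat.ofHom X.x
      naturality := fun X Y f =>
        (ModuleCat.hom_ext (f := F₀.map f ≫ ModuleCat.ofHom Y.x) (g := ModuleCat.ofHom X.x)
          f.w).trans (Category.comp_id _).symm }

/-- sum of two objects. -/
noncomputable def sumObj (X Y : Obj R M) : Obj R M :=
  ⟨X.n + Y.n, Finsupp.linearCombination R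
    (Fin.append (fun i => X.x (Finsupp.single i 1)) (fun j => Y.x (Finsupp.single j 1)))⟩

noncomputable def inl (X Y : Obj R M) : X ⟶ sumObj X Y :=
  ⟨Finsupp.lmapDomain R R (Fin.castAdd Y.n), by
    refine Finsupp.lhom_ext fun i b => ?_
    simp only [LinearMap.comp_apply, Finsupp.lmapDomain_apply, Finsupp.mapDomain_single, sumObj,
      Finsupp.linearCombination_single, Fin.append_left]
    rw [← Finsupp.smul_single_one i b, map_smul]⟩

noncomputable def inr (X Y : Obj R M) : Y ⟶ sumObj X Y :=
  ⟨Finsupp.lmapDomain R R (Fin.natAdd X.n), by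
    refine Finsupp.lhom_ext fun i b => ?_
    simp only [LinearMap.comp_apply, Finsupp.lmapDomain_apply, Finsupp.mapDomain_single, sumObj,
      Finsupp.linearCombination_single, Fin.append_right]
    rw [← Finsupp.smul_single_one i b, map_smul]⟩

section Flat

variable [Module.Flat R M]

lemma exists_coeq {X Y : Obj R M} (f g : X ⟶ Y) :
    ∃ (Z : Obj R M) (h : Y ⟶ Z), f ≫ h = g ≫ h := by
  have h0 : Y.x ∘ₗ (f.a - g.a) = 0 := by rw [LinearMap.comp_sub, f.w, g.w, sub_self]
  obtain ⟨k, c, y, hy, hc⟩ := Module.Flat.exists_factorization_of_comp_eq_zero_of_free h0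
  refine ⟨⟨k, y⟩, ⟨c, hy.symm⟩, ?_⟩
  apply Hom.ext
  show c ∘ₗ f.a = c ∘ₗ g.a
  rw [← sub_eq_zero, ← LinearMap.comp_sub]
  exact hc

instance : IsFiltered (Obj R M) where
  cocone_objs X Y := ⟨sumObj X Y, inl X Y, inr X Y, trivial⟩
  cocone_maps _ _ f g := exists_coeq f g
  nonempty := ⟨⟨0, 0⟩⟩

/-- the tautological cocone is a colimit (for flat `M`). -/
noncomputable def isColimitCoc : IsColimit (coc (R := R) (M := M)) := by
  apply isColimitOfReflects (forget (ModuleCat.{u} R))
  apply Types.FilteredColimit.isColimitOf'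
  · intro (m : M)
    refine ⟨⟨1, Finsupp.linearCombination R (fun _ => m)⟩,
      (Finsupp.single 0 1 : Fin 1 →₀ R), ?_⟩
    show m = Finsupp.linearCombination R (fun _ => m) (Finsupp.single 0 1)
    rw [Finsupp.linearCombination_single, one_smul]
  · intro X (v : Fin X.n →₀ R) (w : Fin X.n →₀ R) h
    have h1 : X.x v = X.x w := h
    have h' : X.x (v - w) = 0 := by
      rw [map_sub, sub_eq_zero]
      exact h1
    obtain ⟨k, c, y, hy, hc⟩ := Module.Flat.exists_factorization_of_apply_eq_zero_of_free h'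
    refine ⟨⟨k, y⟩, ⟨c, hy.symm⟩, ?_⟩
    show c v = c w
    rw [← sub_eq_zero, ← map_sub]
    exact hc

theorem exists_directed_of_flat :
    ∃ (J : Type u) (_ : Preorder J) (_ : IsDirected J (fun a b => a ≤ b)) (_ : Nonempty J)
      (F : J ⥤ ModuleCat.{u} R), (∀ j, Module.Finite R (F.obj j) ∧ Module.Free R (F.obj j)) ∧
      Nonempty (Limits.colimit F ≅ ModuleCat.of R M) := by
  obtain ⟨α, _, hd, hne, G, hG⟩ := IsFiltered.exists_directed (Obj R M)
  let F₁ : Obj R M ⥤ ModuleCat.{u} R := F₀
  refine ⟨α, inferInstance, hd, hne, G ⋙ F₁, fun j => ⟨?_, ?_⟩, ⟨?_⟩⟩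
  · show Module.Finite R (Fin (G.obj j).n →₀ R)
    infer_instance
  · show Module.Free R (Fin (G.obj j).n →₀ R)
    infer_instance
  · exact Functor.Final.colimitIso G F₁ ≪≫
      IsColimit.coconePointUniqueUpToIso (colimit.isColimit F₁) isColimitCoc

end Flat

theorem flat_of_directed {J : Type u} [Preorder J] [IsDirected J (fun a b => a ≤ b)] [Nonempty J]
    (F : J ⥤ ModuleCat.{u} R) (hF : ∀ j, Module.Finite R (F.obj j) ∧ Module.Free R (F.obj j)) :
    Module.Flat R (colimit F : ModuleCat.{u} R) := by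
  haveI : IsFiltered J := inferInstance
  let c := colimit.cocone F
  have hc : IsColimit c := colimit.isColimit F
  apply Module.Flat.of_forall_exists_factorization
  intro l f x hx
  have hrep : ∀ i : Fin l, ∃ (j : J) (y : F.obj j),
      (c.ι.app j).hom y = x (Finsupp.single i 1) := fun i =>
    Concrete.isColimit_exists_rep F hc (x (Finsupp.single i 1))
  choose jf yf hyf using hrep
  obtain ⟨j, hj⟩ := Finite.exists_le jf
  let z : Fin l → F.obj j := fun i => (F.map (homOfLE (hj i))).hom (yf i)
  have hz : ∀ i, (c.ι.app j).hom (z i) = x (Finsupp.single i 1) := by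
    intro i
    rw [← hyf i]
    exact congrArg (fun t => t.hom (yf i)) (c.w (homOfLE (hj i)))
  let xj : (Fin l →₀ R) →ₗ[R] F.obj j := Finsupp.linearCombination R z
  have hxj : (c.ι.app j).hom ∘ₗ xj = x := by
    refine Finsupp.lhom_ext fun i b => ?_
    rw [LinearMap.comp_apply, Finsupp.linearCombination_single, map_smul, hz i, ← map_smul,
      Finsupp.smul_single_one]
  have h0 : (c.ι.app j).hom (xj f) = (c.ι.app j).hom 0 := by
    rw [map_zero, ← LinearMap.comp_apply, hxj, hx]
  obtain ⟨k, g₁, g₂, hk⟩ := Concrete.isColimit_exists_of_rep_eq F hc (xj f) 0 h0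
  have hk' : (F.map g₁).hom (xj f) = 0 := by
    rw [← map_zero (F.map g₂).hom]
    exact hk
  haveI := (hF k).1
  haveI := (hF k).2
  let b := (Module.Free.chooseBasis R (F.obj k)).reindex (Fintype.equivFin _)
  refine ⟨_, b.repr.toLinearMap ∘ₗ (F.map g₁).hom ∘ₗ xj,
    (c.ι.app k).hom ∘ₗ b.repr.symm.toLinearMap, ?_, ?_⟩
  · rw [← hxj]
    apply LinearMap.ext
    intro v
    simp only [LinearMap.comp_apply, LinearEquiv.coe_coe, LinearEquiv.symm_apply_apply]
    exact (congrArg (fun t => t.hom (xj v)) (c.w g₁)).symm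
  · simp only [LinearMap.comp_apply, LinearEquiv.coe_coe]
    rw [hk', map_zero]

theorem main (R : Type u) [CommRing R] (M : Type u) [AddCommGroup M] [Module R M] :
    Module.Flat R M ↔
      ∃ (J : Type u) (_ : Preorder J) (_ : IsDirected J (fun a b => a ≤ b)) (_ : Nonempty J)
        (F : J ⥤ ModuleCat.{u} R), (∀ j, Module.Finite R (F.obj j) ∧ Module.Free R (F.obj j)) ∧
        Nonempty (Limits.colimit F ≅ ModuleCat.of R M) := by
  constructor
  · intro h
    exact exists_directed_of_flat
  · rintro ⟨J, _, hd, hne, F, hF, ⟨e⟩⟩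
    haveI := flat_of_directed F hF
    exact Module.Flat.of_linearEquiv e.toLinearEquiv.symm

end Groth.Agent.H2.Lazard
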