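import Groth.Agent.Lib.Lead.CohLES.ExtCmp
import Groth.Agent.Lib.Lead.SC.Cyc
import Mathlib.Algebra.Homology.DerivedCategory.Ext.ExactSequences
import Mathlib.CategoryTheory.Preadditive.Injective.Resolution
import Mathlib.CategoryTheory.Abelian.Injective.Resolution

/-! # The natural edge map `Ext^n(A, R G) → Ext^n(A', G)` of an adjunction `L ⊣ R` with `L` exact,
and its bijectivity when `R` keeps an injective resolution of `G` exact (degenerate Leray). -/

universe w w' v v' u u'

namespace Groth.Agent.H2.Leray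

open CategoryTheory Limits Abelian Groth.Agent.LD

variable {C : Type u} [Category.{v} C] [Abelian C]
variable {D : Type u'} [Category.{v'} D] [Abelian D]
variable {L : C ⥤ D} {R : D ⥤ C} (adj : L ⊣ R)
variable [L.Additive] [R.Additive] [PreservesFiniteLimits L] [PreservesFiniteColimits L]
variable [HasExt.{w} C] [HasExt.{w'} D]
variable {A : C} {A' : D} (η : A' ⟶ L.obj A)

/-- the edge map `Ext^n(A, R G) → Ext^n(L A, L R G) → Ext^n(A', G)`. -/
noncomputable def edge (G : D) (n : ℕ) : Ext.{w} A (R.obj G) n →+ Ext.{w'} A' G n :=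
  ((Ext.mk₀ (adj.counit.app G)).postcomp A' (add_zero n)).comp (CL.extCmp L η (R.obj G) n)

lemma edge_apply (G : D) (n : ℕ) (x : Ext.{w} A (R.obj G) n) :
    edge adj η G n x =
      (CL.extCmp L η (R.obj G) n x).comp (Ext.mk₀ (adj.counit.app G)) (add_zero n) := rfl

/-- naturality of the edge map. -/
lemma edge_comp_mk₀ {G G' : D} (φ : G ⟶ G') (n : ℕ) (x : Ext.{w} A (R.obj G) n) :
    edge adj η G' n (x.comp (Ext.mk₀ (R.map φ)) (add_zero n)) =
      (edge adj η G n x).comp (Ext.mk₀ φ) (add_zero n) := by
  have h := adj.counit_naturality φ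
  rw [edge_apply, edge_apply, CL.extCmp_comp_mk₀, Ext.comp_assoc_of_third_deg_zero,
    Ext.comp_assoc_of_third_deg_zero, Ext.mk₀_comp_mk₀, Ext.mk₀_comp_mk₀]
  congr 2

/-- the counit as a morphism of short complexes. -/
noncomputable def counitHom (S : ShortComplex D) : (S.map R).map L ⟶ S where
  τ₁ := adj.counit.app S.X₁
  τ₂ := adj.counit.app S.X₂
  τ₃ := adj.counit.app S.X₃
  comm₁₂ := (adj.counit_naturality S.f).symm
  comm₂₃ := (adj.counit_naturality S.g).symm

/-- compatibility of the edge map with connecting homomorphisms. -/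
lemma edge_comp_extClass {S : ShortComplex D} (hS : S.ShortExact) (hRS : (S.map R).ShortExact)
    (n m : ℕ) (h : n + 1 = m) (x : Ext.{w} A (R.obj S.X₃) n) :
    edge adj η S.X₁ m (x.comp hRS.extClass h) =
      (edge adj η S.X₃ n x).comp hS.extClass h := by
  rw [edge_apply, edge_apply]
  have h1 := CL.extCmp_comp_extClass L η hRS n m h x
  have h2 := ShortComplex.ShortExact.extClass_naturality (hRS.map_of_exact L) hS (counitHom adj S)
  change (hRS.map_of_exact L).extClass.comp (Ext.mk₀ (adj.counit.app S.X₁)) (add_zero 1) =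
    (Ext.mk₀ (adj.counit.app S.X₃)).comp hS.extClass (zero_add 1) at h2
  refine (congrArg (fun z => z.comp (Ext.mk₀ (adj.counit.app S.X₁)) (add_zero m)) h1).trans ?_
  refine (Ext.comp_assoc_of_third_deg_zero _ _ _ _).trans ?_
  refine (congrArg (fun z => (CL.extCmp L η (R.obj S.X₃) n x).comp z h) h2).trans ?_
  exact (Ext.comp_assoc_of_second_deg_zero _ _ _ _).symm

lemma edge_mk₀ (G : D) (φ : A ⟶ R.obj G) :
    edge adj η G 0 (Ext.mk₀ φ) = Ext.mk₀ (η ≫ (adj.homEquiv A G).symm φ) := by
  rw [edge_apply, CL.extCmp_mk₀, Ext.mk₀_comp_mk₀, Category.assoc, Adjunction.homEquiv_counit]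

/-- in degree `0` the edge map is the adjunction bijection (when `η` is an isomorphism). -/
lemma edge_zero_bijective [IsIso η] (G : D) : Function.Bijective (edge adj η G 0) := by
  have h1 : ⇑(edge adj η G 0) =
      (Ext.mk₀ : (A' ⟶ G) → Ext.{w'} A' G 0) ∘ (fun ψ : L.obj A ⟶ G => η ≫ ψ) ∘
        (adj.homEquiv A G).symm ∘ (Ext.homEquiv₀ : Ext.{w} A (R.obj G) 0 ≃ (A ⟶ R.obj G)) := by
    funext x
    conv_lhs => rw [← Ext.mk₀_homEquiv₀_apply x]
    rw [edge_mk₀]
    rfl
  rw [h1]
  refine (Ext.mk₀_bijective A' G).comp (Function.Bijective.comp ?_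
    ((adj.homEquiv A G).symm.bijective.comp (Ext.homEquiv₀).bijective))
  constructor
  · intro a b hab
    exact (cancel_epi η).mp hab
  · intro ψ
    exact ⟨inv η ≫ ψ, by simp⟩

/-- **degenerate Leray**: if `R` keeps the injective resolution `I` of `F` exact in positive
degrees, the edge maps of all the cocycle objects of `I` are bijective. -/
theorem edge_bijective_Zc [IsIso η] {F : D} (I : InjectiveResolution F)
    (hex : ∀ k : ℕ, ((R.mapHomologicalComplex _).obj I.cocomplex).ExactAt (k + 1)) :
    ∀ (n k : ℕ), Function.Bijective (edge adj η (SC.Zc I.cocomplex k) n) := by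
  haveI : PreservesLimits R := adj.rightAdjoint_preservesLimits
  haveI : L.PreservesMonomorphisms := preservesMonomorphisms_of_preservesLimitsOfShape _
  intro n
  induction n with
  | zero => exact fun k => edge_zero_bijective adj η _
  | succ n hn =>
    intro k
    let S := SC.Sc I.cocomplex k
    have hS : S.ShortExact := SC.Sc_shortExact I.cocomplex k (I.cocomplex_exactAt_succ k)
    have hRS : (S.map R).ShortExact := by
      haveI := hS.mono_f
      haveI : Mono ((S.map R).f) := by
        change Mono (R.map S.f)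
        infer_instance
      haveI : Epi ((S.map R).g) := SC.epi_map_πc_of_exactAt R I.cocomplex k (hex k)
      exact ShortComplex.ShortExact.mk
        (hS.exact.map_of_mono_of_preservesKernel _ hS.mono_f inferInstance)
    haveI : Injective S.X₂ := I.injective k
    haveI : Injective (R.obj S.X₂) := adj.map_injective S.X₂ inferInstance
    haveI h22 : Subsingleton (Ext.{w} A (R.obj S.X₂) (n + 1)) :=
      subsingleton_of_forall_eq 0 fun x => Ext.eq_zero_of_injective x
    haveI : Subsingleton (Ext.{w} A ((S.map R).X₂) (n + 1)) := h22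
    haveI : Subsingleton (Ext.{w'} A' S.X₂ (n + 1)) :=
      subsingleton_of_forall_eq 0 fun x => Ext.eq_zero_of_injective x
    have hI : Function.Bijective (edge adj η S.X₂ n) := by
      rcases n with _ | n
      · exact edge_zero_bijective adj η _
      · haveI : Subsingleton (Ext.{w} A (R.obj S.X₂) (n + 1)) :=
          subsingleton_of_forall_eq 0 fun x => Ext.eq_zero_of_injective x
        haveI : Subsingleton (Ext.{w'} A' S.X₂ (n + 1)) :=
          subsingleton_of_forall_eq 0 fun x => Ext.eq_zero_of_injective x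
        exact ⟨fun a b _ => Subsingleton.elim a b, fun y => ⟨0, Subsingleton.elim _ _⟩⟩
    exact AddMonoidHom.bijective_of_surjective_of_bijective_of_right_exact _ _ _ _
      (edge adj η S.X₂ n) (edge adj η S.X₃ n) (edge adj η S.X₁ (n + 1))
      (by
        ext x
        exact (edge_comp_mk₀ adj η S.g n x).symm)
      (by
        ext x
        exact (edge_comp_extClass adj η hS hRS n (n + 1) rfl x).symm)
      ((ShortComplex.ab_exact_iff_function_exact _).mp
        (Ext.covariant_sequence_exact₃' A hRS n (n + 1) rfl))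
      ((ShortComplex.ab_exact_iff_function_exact _).mp
        (Ext.covariant_sequence_exact₃' A' hS n (n + 1) rfl))
      hI.surjective (hn (k + 1))
      (fun x₁ => Ext.covariant_sequence_exact₁ _ hRS x₁ (Subsingleton.elim _ _) rfl)
      (fun y₁ => Ext.covariant_sequence_exact₁ _ hS y₁ (Subsingleton.elim _ _) rfl)

/-- **degenerate Leray, natural form**: if `R` keeps an injective resolution of `F` exact in
positive degrees, the edge maps of `F` are bijective. -/
theorem edge_bijective [IsIso η] {F : D} (I : InjectiveResolution F)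
    (hex : ∀ k : ℕ, ((R.mapHomologicalComplex _).obj I.cocomplex).ExactAt (k + 1)) (n : ℕ) :
    Function.Bijective (edge adj η F n) := by
  have e : F ≅ SC.Zc I.cocomplex 0 :=
    IsLimit.conePointUniqueUpToIso I.isLimitKernelFork (limit.isLimit _)
  have hb := edge_bijective_Zc adj η I hex n 0
  -- transport along `e`
  have key : ∀ x : Ext.{w} A (R.obj F) n,
      edge adj η F n x =
        (edge adj η (SC.Zc I.cocomplex 0) n
          (x.comp (Ext.mk₀ (R.map e.hom)) (add_zero n))).comp (Ext.mk₀ e.inv) (add_zero n) := by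
    intro x
    rw [edge_comp_mk₀, Ext.comp_assoc_of_third_deg_zero, Ext.mk₀_comp_mk₀, e.hom_inv_id,
      Ext.comp_mk₀_id]
  constructor
  · intro x y hxy
    rw [key x, key y] at hxy
    have h1 := congrArg (fun z => z.comp (Ext.mk₀ e.hom) (add_zero n)) hxy
    simp only [Ext.comp_assoc_of_third_deg_zero, Ext.mk₀_comp_mk₀, e.inv_hom_id,
      Ext.comp_mk₀_id] at h1
    have h2 := hb.injective h1
    have h3 := congrArg (fun z => z.comp (Ext.mk₀ (R.map e.inv)) (add_zero n)) h2
    simp only [Ext.comp_assoc_of_third_deg_zero, Ext.mk₀_comp_mk₀, ← R.map_comp, e.hom_inv_id,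
      R.map_id, Ext.comp_mk₀_id] at h3
    exact h3
  · intro y
    obtain ⟨x, hx⟩ := hb.surjective (y.comp (Ext.mk₀ e.hom) (add_zero n))
    refine ⟨x.comp (Ext.mk₀ (R.map e.inv)) (add_zero n), ?_⟩
    rw [edge_comp_mk₀, hx, Ext.comp_assoc_of_third_deg_zero, Ext.mk₀_comp_mk₀, e.hom_inv_id,
      Ext.comp_mk₀_id]

end Groth.Agent.H2.Leray
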