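import Mathlib

/-!
# Kernel of the extension of a ring map to a polynomial ring by a fraction

`ψ : S → K` a ring map to a field, `u, q ∈ S` with `ψ u ≠ 0`.  The kernel of
`S[X] → K`, `X ↦ ψ q / ψ u`, is generated by `ker ψ`, `u X - q` and `v X - w`, when
`u w ≡ v q` and `q` is a non-zero-divisor modulo `ker ψ + (u, v)`.
-/

set_option autoImplicit false

namespace Groth.Agent.H2.Lie3

open Polynomial

variable {S K : Type*} [CommRing S] [Field K]

/-- the extension `S[X] → K`, `X ↦ ψ q / ψ u` -/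
noncomputable def ext (ψ : S →+* K) (u q : S) : S[X] →+* K := eval₂RingHom ψ (ψ q / ψ u)

theorem ext_C (ψ : S →+* K) (u q a : S) : ext ψ u q (C a) = ψ a := by
  simp [ext]

theorem ext_X (ψ : S →+* K) (u q : S) : ext ψ u q X = ψ q / ψ u := by
  simp [ext]

theorem ext_gen (ψ : S →+* K) (u q : S) (hu : ψ u ≠ 0) : ext ψ u q (C u * X - C q) = 0 := by
  rw [map_sub, map_mul, ext_C, ext_C, ext_X, mul_div_cancel₀ _ hu, sub_self]

theorem ext_gen' (ψ : S →+* K) (u q v w : S) (hu : ψ u ≠ 0) (hb : ψ (u * w) = ψ (v * q)) :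
    ext ψ u q (C v * X - C w) = 0 := by
  rw [map_sub, map_mul, ext_C, ext_C, ext_X]
  rw [map_mul, map_mul] at hb
  field_simp
  rw [mul_zero, sub_eq_zero, ← hb]

theorem ext_eq_sum (ψ : S →+* K) (u q : S) (F : S[X]) (n : ℕ) (hn : F.natDegree < n) :
    ext ψ u q F = ∑ k ∈ Finset.range n, ψ (F.coeff k) * (ψ q / ψ u) ^ k := by
  show eval₂ ψ (ψ q / ψ u) F = _
  exact eval₂_eq_sum_range' ψ hn _

/-- homogenization -/
theorem psi_homog (ψ : S →+* K) (u q : S) (hu : ψ u ≠ 0) (F : S[X]) (n : ℕ) (hn : F.natDegree ≤ n) :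
    ψ (∑ k ∈ Finset.range (n + 1), F.coeff k * q ^ k * u ^ (n - k)) = ψ u ^ n * ext ψ u q F := by
  rw [ext_eq_sum ψ u q F (n + 1) (Nat.lt_succ_of_le hn), map_sum, Finset.mul_sum]
  apply Finset.sum_congr rfl
  intro k hk
  have hk' : k ≤ n := Nat.lt_succ_iff.mp (Finset.mem_range.mp hk)
  rw [map_mul, map_mul, map_pow, map_pow, div_pow]
  have : ψ u ^ n = ψ u ^ (n - k) * ψ u ^ k := by rw [← pow_add, Nat.sub_add_cancel hk']
  rw [this]
  field_simp

theorem ker_ext_ge (ψ : S →+* K) (u q v w : S) (hu : ψ u ≠ 0) (hb : ψ (u * w) = ψ (v * q)) :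
    (RingHom.ker ψ).map (C : S →+* S[X]) ⊔ Ideal.span {C u * X - C q, C v * X - C w} ≤
      RingHom.ker (ext ψ u q) := by
  refine sup_le ?_ ?_
  · rw [Ideal.map_le_iff_le_comap]
    intro a ha
    rw [Ideal.mem_comap, RingHom.mem_ker, ext_C]
    exact ha
  · rw [Ideal.span_le]
    intro z hz
    rcases hz with rfl | rfl
    · exact ext_gen ψ u q hu
    · exact ext_gen' ψ u q v w hu hb

theorem mem_of_mul_pow {I : Ideal S} {q : S} (hc : ∀ a, a * q ∈ I → a ∈ I) (a : S) (k : ℕ)
    (h : a * q ^ k ∈ I) : a ∈ I := by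
  induction k with
  | zero => simpa using h
  | succ k ih =>
    apply ih
    apply hc
    rw [mul_assoc, ← pow_succ]
    exact h

/-- **Lemma K**. -/
theorem ker_ext (ψ : S →+* K) (u q v w : S) (hu : ψ u ≠ 0) (hb : ψ (u * w) = ψ (v * q))
    (hc : ∀ a, a * q ∈ RingHom.ker ψ ⊔ Ideal.span {u, v} → a ∈ RingHom.ker ψ ⊔ Ideal.span {u, v}) :
    RingHom.ker (ext ψ u q) =
      (RingHom.ker ψ).map (C : S →+* S[X]) ⊔ Ideal.span {C u * X - C q, C v * X - C w} := by
  apply le_antisymm _ (ker_ext_ge ψ u q v w hu hb)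
  set 𝔎 : Ideal S[X] :=
    (RingHom.ker ψ).map (C : S →+* S[X]) ⊔ Ideal.span {C u * X - C q, C v * X - C w} with h𝔎
  have hge := ker_ext_ge ψ u q v w hu hb
  have hg1 : C u * X - C q ∈ 𝔎 :=
    Ideal.mem_sup_right (Ideal.subset_span (Set.mem_insert _ _))
  have hg2 : C v * X - C w ∈ 𝔎 :=
    Ideal.mem_sup_right (Ideal.subset_span (Set.mem_insert_of_mem _ rfl))
  have hC : ∀ z ∈ RingHom.ker ψ, C z ∈ 𝔎 := fun z hz =>
    Ideal.mem_sup_left (Ideal.mem_map_of_mem _ hz)
  suffices H : ∀ n : ℕ, ∀ F : S[X], F.natDegree ≤ n → F ∈ RingHom.ker (ext ψ u q) → F ∈ 𝔎 from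
    fun F hF => H _ F le_rfl hF
  intro n
  induction n with
  | zero =>
    intro F hF hk
    rw [eq_C_of_natDegree_le_zero hF] at hk ⊢
    rw [RingHom.mem_ker, ext_C] at hk
    exact hC _ hk
  | succ n ih =>
    intro F hF hk
    rw [RingHom.mem_ker] at hk
    set a := F.coeff (n + 1) with ha
    -- the leading coefficient lies in `ker ψ + (u, v)`
    have hH := psi_homog ψ u q hu F (n + 1) hF
    rw [hk, mul_zero, Finset.sum_range_succ, Nat.sub_self, pow_zero, mul_one] at hH
    have hsum : ∑ k ∈ Finset.range (n + 1), F.coeff k * q ^ k * u ^ (n + 1 - k) =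
        u * ∑ k ∈ Finset.range (n + 1), F.coeff k * q ^ k * u ^ (n - k) := by
      rw [Finset.mul_sum]
      apply Finset.sum_congr rfl
      intro k hk'
      have hk'' : k ≤ n := Nat.lt_succ_iff.mp (Finset.mem_range.mp hk')
      have : n + 1 - k = (n - k) + 1 := by omega
      rw [this, pow_succ]
      ring
    rw [hsum] at hH
    have ha𝔟 : a ∈ RingHom.ker ψ ⊔ Ideal.span {u, v} := by
      apply mem_of_mul_pow hc a (n + 1)
      have e : a * q ^ (n + 1) =
          (u * ∑ k ∈ Finset.range (n + 1), F.coeff k * q ^ k * u ^ (n - k) + a * q ^ (n + 1)) -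
            u * ∑ k ∈ Finset.range (n + 1), F.coeff k * q ^ k * u ^ (n - k) := by ring
      rw [e]
      apply Ideal.sub_mem
      · exact Ideal.mem_sup_left (RingHom.mem_ker.mpr hH)
      · exact Ideal.mem_sup_right (Ideal.mul_mem_right _ _
          (Ideal.subset_span (Set.mem_insert _ _)))
    obtain ⟨z, hz, y, hy, hzy⟩ := Submodule.mem_sup.mp ha𝔟
    obtain ⟨r, s, hrs⟩ := Ideal.mem_span_pair.mp hy
    -- subtract
    set F' : S[X] := F - (C z * X ^ (n + 1) + C r * X ^ n * (C u * X - C q) +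
      C s * X ^ n * (C v * X - C w)) with hF'
    have hsub : C z * X ^ (n + 1) + C r * X ^ n * (C u * X - C q) +
        C s * X ^ n * (C v * X - C w) ∈ 𝔎 :=
      𝔎.add_mem (𝔎.add_mem (𝔎.mul_mem_right _ (hC z hz)) (𝔎.mul_mem_left _ hg1))
        (𝔎.mul_mem_left _ hg2)
    have hF'k : F' ∈ RingHom.ker (ext ψ u q) :=
      Ideal.sub_mem _ (RingHom.mem_ker.mpr hk) (hge hsub)
    have hF'deg : F'.natDegree ≤ n := by
      rw [natDegree_le_iff_coeff_eq_zero]
      intro N hN
      rcases Nat.lt_or_ge (n + 1) N with h1 | h1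
      · -- all terms have degree ≤ n + 1
        have c1 : F.coeff N = 0 := coeff_eq_zero_of_natDegree_lt (lt_of_le_of_lt hF h1)
        have e : F' = F - (C (z + r * u + s * v) * X ^ (n + 1) - C (r * q + s * w) * X ^ n) := by
          rw [hF']
          simp only [map_add, map_mul]
          ring
        rw [e]
        simp only [coeff_sub, coeff_C_mul, coeff_X_pow, c1]
        rw [if_neg (by omega), if_neg (by omega)]
        simp
      · have hN' : N = n + 1 := by omega
        have e : F' = F - (C (z + r * u + s * v) * X ^ (n + 1) - C (r * q + s * w) * X ^ n) := by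
          rw [hF']
          simp only [map_add, map_mul]
          ring
        rw [e, hN']
        simp only [coeff_sub, coeff_C_mul, coeff_X_pow]
        rw [if_pos trivial, if_neg (by omega)]
        rw [← ha, ← hzy, ← hrs]
        ring
    have := ih F' hF'deg hF'k
    have e : F = F' + (C z * X ^ (n + 1) + C r * X ^ n * (C u * X - C q) +
        C s * X ^ n * (C v * X - C w)) := by rw [hF']; ring
    rw [e]
    exact 𝔎.add_mem this hsub

/-- the case `v = w = 0` -/
theorem ker_ext₀ (ψ : S →+* K) (u q : S) (hu : ψ u ≠ 0)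
    (hc : ∀ a, a * q ∈ RingHom.ker ψ ⊔ Ideal.span {u} → a ∈ RingHom.ker ψ ⊔ Ideal.span {u}) :
    RingHom.ker (ext ψ u q) =
      (RingHom.ker ψ).map (C : S →+* S[X]) ⊔ Ideal.span {C u * X - C q} := by
  have h0 : (Ideal.span {u, 0} : Ideal S) = Ideal.span {u} := by
    rw [Set.pair_comm, Ideal.span_insert_zero]
  have h := ker_ext ψ u q 0 0 hu (by simp) (by rw [h0]; exact hc)
  rw [h]
  congr 1
  have : (C (0 : S) * X - C 0 : S[X]) = 0 := by simp
  rw [this, Set.pair_comm, Ideal.span_insert_zero]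

end Groth.Agent.H2.Lie3
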