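import Mathlib
import Groth.Agent.Lib.Helper2.Lie3K

/-!
# The base polynomial ring `P6 = A[x1,x2,x3,f,h,i]` and the maps killing variables
-/

set_option autoImplicit false

namespace Groth.Agent.H2.Lie3

open Polynomial

universe u

section General

variable {σ : Type*} (A : Type u) [CommRing A]

/-- kill the variables in `s` -/
noncomputable def killM (s : Set σ) [DecidablePred (· ∈ s)] :
    MvPolynomial σ A →ₐ[A] MvPolynomial σ A :=
  MvPolynomial.aeval (fun j => if j ∈ s then 0 else MvPolynomial.X j)

variable {A}

theorem killM_X_mem (s : Set σ) [DecidablePred (· ∈ s)] {j : σ} (hj : j ∈ s) :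
    killM A s (MvPolynomial.X j) = 0 := by
  unfold killM
  rw [MvPolynomial.aeval_X, if_pos hj]

theorem killM_X_not_mem (s : Set σ) [DecidablePred (· ∈ s)] {j : σ} (hj : j ∉ s) :
    killM A s (MvPolynomial.X j) = MvPolynomial.X j := by
  unfold killM
  rw [MvPolynomial.aeval_X, if_neg hj]

theorem sub_killM_mem (s : Set σ) [DecidablePred (· ∈ s)] (F : MvPolynomial σ A) :
    F - killM A s F ∈ Ideal.span ((MvPolynomial.X : σ → MvPolynomial σ A) '' s) := by
  induction F using MvPolynomial.induction_on with
  | C a =>
    have : killM A s (MvPolynomial.C a) = MvPolynomial.C a := by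
      unfold killM
      rw [MvPolynomial.aeval_C]
      rfl
    rw [this, sub_self]
    exact Ideal.zero_mem _
  | add p q hp hq =>
    have : (p + q) - killM A s (p + q) = (p - killM A s p) + (q - killM A s q) := by
      rw [map_add]
      abel
    rw [this]
    exact Ideal.add_mem _ hp hq
  | mul_X p j hp =>
    by_cases hj : j ∈ s
    · rw [map_mul, killM_X_mem s hj, mul_zero, sub_zero]
      apply Ideal.mul_mem_left
      exact Ideal.subset_span ⟨j, hj, rfl⟩
    · rw [map_mul, killM_X_not_mem s hj, ← sub_mul]
      exact Ideal.mul_mem_right _ _ hp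

theorem ker_killM (s : Set σ) [DecidablePred (· ∈ s)] :
    RingHom.ker (killM A s).toRingHom =
      Ideal.span ((MvPolynomial.X : σ → MvPolynomial σ A) '' s) := by
  apply le_antisymm
  · intro F hF
    have := sub_killM_mem s F
    have hF' : killM A s F = 0 := hF
    rw [hF', sub_zero] at this
    exact this
  · rw [Ideal.span_le]
    rintro _ ⟨j, hj, rfl⟩
    exact killM_X_mem s hj

/-- general principle: `q` is a non-zero-divisor modulo the kernel of a map to a domain not killing
`q` -/
theorem hc_of_ker {S K' : Type*} [CommRing S] [CommRing K'] [IsDomain K'] (ψ' : S →+* K')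
    (I : Ideal S) (hker : RingHom.ker ψ' = I) (q : S) (hq : ψ' q ≠ 0) (a : S) (h : a * q ∈ I) :
    a ∈ I := by
  rw [← hker, RingHom.mem_ker, map_mul] at h
  rw [← hker, RingHom.mem_ker]
  exact (mul_eq_zero.mp h).resolve_right hq

end General

variable (A : Type u) [CommRing A]

/-- the base ring `A[x1,x2,x3,f,h,i]` (a `def`, to keep instance search shallow) -/
def P6 : Type u := MvPolynomial (Fin 6) A

noncomputable instance : CommRing (P6 A) := inferInstanceAs (CommRing (MvPolynomial (Fin 6) A))
noncomputable instance : Algebra A (P6 A) := inferInstanceAs (Algebra A (MvPolynomial (Fin 6) A))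
instance [IsDomain A] : IsDomain (P6 A) := inferInstanceAs (IsDomain (MvPolynomial (Fin 6) A))
instance [Nontrivial A] : Nontrivial (P6 A) := inferInstanceAs (Nontrivial (MvPolynomial (Fin 6) A))

variable {A}

/-- the variables -/
noncomputable def xv (j : Fin 6) : P6 A := (MvPolynomial.X j : MvPolynomial (Fin 6) A)

variable (A)

/-- kill the variables in `s` -/
noncomputable def kill (s : Set (Fin 6)) [DecidablePred (· ∈ s)] : P6 A →+* P6 A :=
  (killM A s).toRingHom

variable {A}

theorem kill_xv_mem (s : Set (Fin 6)) [DecidablePred (· ∈ s)] {j : Fin 6} (hj : j ∈ s) :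
    kill A s (xv j) = 0 := killM_X_mem s hj

theorem kill_xv_not_mem (s : Set (Fin 6)) [DecidablePred (· ∈ s)] {j : Fin 6} (hj : j ∉ s) :
    kill A s (xv j) = xv j := killM_X_not_mem s hj

theorem ker_kill (s : Set (Fin 6)) [DecidablePred (· ∈ s)] :
    RingHom.ker (kill A s) = Ideal.span (xv (A := A) '' s) := ker_killM s

/-- evaluation at a point, to see that explicit polynomials are non-zero -/
noncomputable def evalAt (v : Fin 6 → A) : P6 A →+* A := MvPolynomial.eval v

theorem evalAt_xv (v : Fin 6 → A) (j : Fin 6) : evalAt v (xv j) = v j := MvPolynomial.eval_X _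

theorem ne_zero_of_evalAt [Nontrivial A] (v : Fin 6 → A) (p : P6 A) (h : evalAt v p = 1) :
    p ≠ 0 := by
  rintro rfl
  rw [map_zero] at h
  exact zero_ne_one h

end Groth.Agent.H2.Lie3
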