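import Mathlib
import Groth.Agent.Lib.Helper2.Lie3P

/-!
# The chain of kernels: `ker (P6[g][e][c] → Frac P6) = (Q1, Q2, Q3, Δ)`
-/

set_option autoImplicit false

namespace Groth.Agent.H2.Lie3

open Polynomial

universe u

variable (A : Type u) [CommRing A]

abbrev R1 : Type u := Polynomial (P6 A)
abbrev R2 : Type u := Polynomial (R1 A)
abbrev R3 : Type u := Polynomial (R2 A)

variable {A}

noncomputable def x1 : P6 A := xv 0
noncomputable def x2 : P6 A := xv 1
noncomputable def x3 : P6 A := xv 2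
noncomputable def vf : P6 A := xv 3
noncomputable def vh : P6 A := xv 4
noncomputable def vi : P6 A := xv 5

noncomputable def q1 : P6 A := vh * x1 + vi * x3
noncomputable def q2 : P6 A := -(vh * x2) + (x2 - vf) * x3
noncomputable def q3 : P6 A := vf * x1 + vi * x2

/-- the sets of killed variables -/
def s0 : Set (Fin 6) := {j | j = 0}
def s1 : Set (Fin 6) := {j | j = 1}
def s2 : Set (Fin 6) := {j | j = 2}
def s01 : Set (Fin 6) := {j | j = 0 ∨ j = 1}
def s12 : Set (Fin 6) := {j | j = 1 ∨ j = 2}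
def s02 : Set (Fin 6) := {j | j = 0 ∨ j = 2}

instance : DecidablePred (· ∈ s0) := fun j => inferInstanceAs (Decidable (j = 0))
instance : DecidablePred (· ∈ s1) := fun j => inferInstanceAs (Decidable (j = 1))
instance : DecidablePred (· ∈ s2) := fun j => inferInstanceAs (Decidable (j = 2))
instance : DecidablePred (· ∈ s01) := fun j => inferInstanceAs (Decidable (j = 0 ∨ j = 1))
instance : DecidablePred (· ∈ s12) := fun j => inferInstanceAs (Decidable (j = 1 ∨ j = 2))
instance : DecidablePred (· ∈ s02) := fun j => inferInstanceAs (Decidable (j = 0 ∨ j = 2))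

theorem kill_xv (s : Set (Fin 6)) [DecidablePred (· ∈ s)] (j : Fin 6) :
    kill A s (xv j) = if j ∈ s then 0 else xv j := by
  split_ifs with h
  · exact kill_xv_mem s h
  · exact kill_xv_not_mem s h

theorem image_s0 : xv (A := A) '' s0 = {x1} := by
  ext z; simp [s0, x1]
theorem image_s1 : xv (A := A) '' s1 = {x2} := by
  ext z; simp [s1, x2]
theorem image_s2 : xv (A := A) '' s2 = {x3} := by
  ext z; simp [s2, x3]
theorem image_s01 : xv (A := A) '' s01 = {x1, x2} := by
  ext z
  simp only [s01, x1, x2, Set.mem_image, Set.mem_ofPred_eq, Set.mem_insert_iff,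
    Set.mem_singleton_iff]
  constructor
  · rintro ⟨j, rfl | rfl, rfl⟩
    · exact Or.inl rfl
    · exact Or.inr rfl
  · rintro (rfl | rfl)
    · exact ⟨0, Or.inl rfl, rfl⟩
    · exact ⟨1, Or.inr rfl, rfl⟩
theorem image_s12 : xv (A := A) '' s12 = {x2, x3} := by
  ext z
  simp only [s12, x2, x3, Set.mem_image, Set.mem_ofPred_eq, Set.mem_insert_iff,
    Set.mem_singleton_iff]
  constructor
  · rintro ⟨j, rfl | rfl, rfl⟩
    · exact Or.inl rfl
    · exact Or.inr rfl
  · rintro (rfl | rfl)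
    · exact ⟨1, Or.inl rfl, rfl⟩
    · exact ⟨2, Or.inr rfl, rfl⟩
theorem image_s02 : xv (A := A) '' s02 = {x1, x3} := by
  ext z
  simp only [s02, x1, x3, Set.mem_image, Set.mem_ofPred_eq, Set.mem_insert_iff,
    Set.mem_singleton_iff]
  constructor
  · rintro ⟨j, rfl | rfl, rfl⟩
    · exact Or.inl rfl
    · exact Or.inr rfl
  · rintro (rfl | rfl)
    · exact ⟨0, Or.inl rfl, rfl⟩
    · exact ⟨2, Or.inr rfl, rfl⟩

section KillComputations

theorem kill_s1_q1 : kill A s1 q1 = q1 := by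
  simp [q1, vh, vi, x1, x3, kill_xv, s1]
theorem kill_s01_q1 : kill A s01 q1 = vi * x3 := by
  simp [q1, vh, vi, x1, x3, kill_xv, s01]
theorem kill_s0_q2 : kill A s0 q2 = q2 := by
  simp [q2, vh, vf, x2, x3, kill_xv, s0]
theorem kill_s12_q1 : kill A s12 q1 = vh * x1 := by
  simp [q1, vh, vi, x1, x3, kill_xv, s12]
theorem kill_s2_q1 : kill A s2 q1 = vh * x1 := by
  simp [q1, vh, vi, x1, x3, kill_xv, s2]
theorem kill_s2_q2 : kill A s2 q2 = -(vh * x2) := by
  simp [q2, vh, vf, x2, x3, kill_xv, s2]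
theorem kill_s2_q3 : kill A s2 q3 = q3 := by
  simp [q3, vf, vi, x1, x2, kill_xv, s2]
theorem kill_s02_q2 : kill A s02 q2 = -(vh * x2) := by
  simp [q2, vh, vf, x2, x3, kill_xv, s02]
theorem kill_s2_x1 : kill A s2 x1 = x1 := by simp [x1, kill_xv, s2]
theorem kill_s2_x2 : kill A s2 x2 = x2 := by simp [x2, kill_xv, s2]
theorem kill_s2_vh : kill A s2 vh = vh := by simp [vh, kill_xv, s2]
theorem kill_s0_x2 : kill A s0 x2 = x2 := by simp [x2, kill_xv, s0]

end KillComputations


section Chain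

variable (A) [IsDomain A]

/-- the fraction field of the base ring -/
abbrev KK : Type u := FractionRing (P6 A)

noncomputable def iota : P6 A →+* KK A := algebraMap (P6 A) (KK A)

variable {A}

theorem iota_injective : Function.Injective (iota A) := IsFractionRing.injective (P6 A) (KK A)

theorem ker_iota : RingHom.ker (iota A) = ⊥ := (RingHom.injective_iff_ker_eq_bot _).mp iota_injective

theorem iota_ne_zero {p : P6 A} (hp : p ≠ 0) : iota A p ≠ 0 := fun h =>
  hp (iota_injective (by rw [h, map_zero]))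

theorem ker_iota_comp (φ : P6 A →+* P6 A) : RingHom.ker ((iota A).comp φ) = RingHom.ker φ := by
  ext z
  rw [RingHom.mem_ker, RingHom.mem_ker, RingHom.comp_apply]
  constructor
  · intro h
    exact iota_injective (by rw [h, map_zero])
  · intro h
    rw [h, map_zero]

/-! ### non-vanishing of explicit polynomials -/

theorem x1_ne_zero : (x1 : P6 A) ≠ 0 :=
  ne_zero_of_evalAt (fun _ => 1) _ (by simp [x1, evalAt_xv])
theorem x2_ne_zero : (x2 : P6 A) ≠ 0 :=
  ne_zero_of_evalAt (fun _ => 1) _ (by simp [x2, evalAt_xv])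
theorem x3_ne_zero : (x3 : P6 A) ≠ 0 :=
  ne_zero_of_evalAt (fun _ => 1) _ (by simp [x3, evalAt_xv])
theorem q1_ne_zero : (q1 : P6 A) ≠ 0 :=
  ne_zero_of_evalAt (fun j => if j = 5 then 0 else 1) _ (by simp [q1, vh, vi, x1, x3, evalAt_xv])
theorem vi_x3_ne_zero : (vi * x3 : P6 A) ≠ 0 :=
  ne_zero_of_evalAt (fun _ => 1) _ (by simp [vi, x3, evalAt_xv])
theorem vh_x1_ne_zero : (vh * x1 : P6 A) ≠ 0 :=
  ne_zero_of_evalAt (fun _ => 1) _ (by simp [vh, x1, evalAt_xv])
theorem q2_ne_zero : (q2 : P6 A) ≠ 0 :=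
  ne_zero_of_evalAt (fun j => if j = 3 then 1 else if j = 2 then -1 else 0) _
    (by simp [q2, vh, vf, x2, x3, evalAt_xv])
theorem vh_x2_ne_zero : (-(vh * x2) : P6 A) ≠ 0 :=
  ne_zero_of_evalAt (fun j => if j = 4 then -1 else 1) _ (by simp [vh, x2, evalAt_xv])
theorem q3_ne_zero : (q3 : P6 A) ≠ 0 :=
  ne_zero_of_evalAt (fun j => if j = 5 then 0 else 1) _ (by simp [q3, vf, vi, x1, x2, evalAt_xv])

/-! ### level 1 -/

/-- `g ↦ q1 / x2` -/
noncomputable def psi1 : R1 A →+* KK A := ext (iota A) x2 q1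

/-- `x2 g - q1` -/
noncomputable def G1 : R1 A := C x2 * X - C q1

theorem ker_psi1 : RingHom.ker (psi1 (A := A)) = Ideal.span {G1} := by
  have hc : ∀ a : P6 A, a * q1 ∈ RingHom.ker (iota A) ⊔ Ideal.span {x2} →
      a ∈ RingHom.ker (iota A) ⊔ Ideal.span {x2} := by
    rw [ker_iota, bot_sup_eq]
    apply hc_of_ker ((iota A).comp (kill A s1))
    · rw [ker_iota_comp, ker_kill, image_s1]
    · rw [RingHom.comp_apply, kill_s1_q1]
      exact iota_ne_zero q1_ne_zero
  have h := ker_ext₀ (iota A) x2 q1 (iota_ne_zero x2_ne_zero) hc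
  unfold psi1 G1
  rw [h, ker_iota, Ideal.map_bot, bot_sup_eq]

/-- `x1 ↦ 0`, `g ↦ i x3 / x2` -/
noncomputable def psi1' : R1 A →+* KK A := ext ((iota A).comp (kill A s0)) x2 q1

theorem ker_psi1' : RingHom.ker (psi1' (A := A)) = Ideal.span {C x1, G1} := by
  have hker : RingHom.ker ((iota A).comp (kill A s0)) = Ideal.span {x1} := by
    rw [ker_iota_comp, ker_kill, image_s0]
  have hc : ∀ a : P6 A, a * q1 ∈ RingHom.ker ((iota A).comp (kill A s0)) ⊔ Ideal.span {x2} →
      a ∈ RingHom.ker ((iota A).comp (kill A s0)) ⊔ Ideal.span {x2} := by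
    rw [hker, ← Ideal.span_insert]
    apply hc_of_ker ((iota A).comp (kill A s01))
    · rw [ker_iota_comp, ker_kill, image_s01]
    · rw [RingHom.comp_apply, kill_s01_q1]
      exact iota_ne_zero vi_x3_ne_zero
  have hu : ((iota A).comp (kill A s0)) x2 ≠ 0 := by
    rw [RingHom.comp_apply, kill_s0_x2]
    exact iota_ne_zero x2_ne_zero
  have h := ker_ext₀ ((iota A).comp (kill A s0)) x2 q1 hu hc
  unfold psi1' G1
  rw [h, hker, Ideal.map_span, Set.image_singleton, ← Ideal.span_insert]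


theorem psi1_C (a : P6 A) : psi1 (C a) = iota A a := ext_C _ _ _ _
theorem psi1_X : psi1 (A := A) X = iota A q1 / iota A x2 := ext_X _ _ _
theorem psi1'_C (a : P6 A) : psi1' (C a) = iota A (kill A s0 a) := ext_C _ _ _ _

/-! ### level 2 -/

/-- `e ↦ q2 / x1` -/
noncomputable def psi2 : R2 A →+* KK A := ext psi1 (C x1) (C q2)

/-- `x1 e - q2` -/
noncomputable def G2 : R2 A := C (C x1) * X - C (C q2)

theorem ker_psi2 : RingHom.ker (psi2 (A := A)) = Ideal.span {C G1, G2} := by
  have hc : ∀ a : R1 A, a * C q2 ∈ RingHom.ker (psi1 (A := A)) ⊔ Ideal.span {C x1} →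
      a ∈ RingHom.ker (psi1 (A := A)) ⊔ Ideal.span {C x1} := by
    rw [ker_psi1, sup_comm, ← Ideal.span_insert]
    apply hc_of_ker (psi1' (A := A))
    · exact ker_psi1'
    · rw [psi1'_C, kill_s0_q2]
      exact iota_ne_zero q2_ne_zero
  have hu : psi1 (C (x1 : P6 A)) ≠ 0 := by
    rw [psi1_C]
    exact iota_ne_zero x1_ne_zero
  have h := ker_ext₀ psi1 (C (x1 : P6 A)) (C q2) hu hc
  unfold psi2 G2
  rw [h, ker_psi1, Ideal.map_span, Set.image_singleton, ← Ideal.span_insert]

theorem psi2_C (a : R1 A) : psi2 (C a) = psi1 a := ext_C _ _ _ _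
theorem psi2_X : psi2 (A := A) X = iota A q2 / iota A x1 := by
  unfold psi2
  rw [ext_X, psi1_C, psi1_C]

/-! ### the `2 × 2` problem: `x3 ↦ 0` -/

/-- `x3 ↦ 0`, `g ↦ h x1 / x2` -/
noncomputable def psi1b : R1 A →+* KK A := ext ((iota A).comp (kill A s2)) x2 q1

theorem psi1b_C (a : P6 A) : psi1b (C a) = iota A (kill A s2 a) := ext_C _ _ _ _
theorem psi1b_X : psi1b (A := A) X = iota A (vh * x1) / iota A x2 := by
  unfold psi1b
  rw [ext_X, RingHom.comp_apply, RingHom.comp_apply, kill_s2_q1, kill_s2_x2]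

theorem ker_psi1b : RingHom.ker (psi1b (A := A)) = Ideal.span {C x3, G1} := by
  have hker : RingHom.ker ((iota A).comp (kill A s2)) = Ideal.span {x3} := by
    rw [ker_iota_comp, ker_kill, image_s2]
  have hc : ∀ a : P6 A, a * q1 ∈ RingHom.ker ((iota A).comp (kill A s2)) ⊔ Ideal.span {x2} →
      a ∈ RingHom.ker ((iota A).comp (kill A s2)) ⊔ Ideal.span {x2} := by
    rw [hker, sup_comm, ← Ideal.span_insert]
    apply hc_of_ker ((iota A).comp (kill A s12))
    · rw [ker_iota_comp, ker_kill, image_s12]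
    · rw [RingHom.comp_apply, kill_s12_q1]
      exact iota_ne_zero vh_x1_ne_zero
  have hu : ((iota A).comp (kill A s2)) x2 ≠ 0 := by
    rw [RingHom.comp_apply, kill_s2_x2]
    exact iota_ne_zero x2_ne_zero
  have h := ker_ext₀ ((iota A).comp (kill A s2)) x2 q1 hu hc
  unfold psi1b G1
  rw [h, hker, Ideal.map_span, Set.image_singleton, ← Ideal.span_insert]

/-- `x1, x3 ↦ 0`, `g ↦ 0` -/
noncomputable def psi1c : R1 A →+* KK A := ext ((iota A).comp (kill A s02)) 1 0

theorem psi1c_C (a : P6 A) : psi1c (C a) = iota A (kill A s02 a) := ext_C _ _ _ _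

theorem ker_psi1c : RingHom.ker (psi1c (A := A)) = Ideal.span {C x1, C x3, X} := by
  have hker : RingHom.ker ((iota A).comp (kill A s02)) = Ideal.span {x1, x3} := by
    rw [ker_iota_comp, ker_kill, image_s02]
  have hc : ∀ a : P6 A, a * 0 ∈ RingHom.ker ((iota A).comp (kill A s02)) ⊔ Ideal.span {1} →
      a ∈ RingHom.ker ((iota A).comp (kill A s02)) ⊔ Ideal.span {1} := by
    intro a _
    rw [Ideal.span_singleton_one, sup_top_eq]
    trivial
  have hu : ((iota A).comp (kill A s02)) 1 ≠ 0 := by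
    rw [map_one]
    exact one_ne_zero
  have h := ker_ext₀ ((iota A).comp (kill A s02)) 1 0 hu hc
  unfold psi1c
  rw [h, hker, Ideal.map_span, Set.image_pair]
  have e : (C (1 : P6 A) * X - C 0 : R1 A) = X := by simp
  rw [e, ← Ideal.span_union, Set.insert_union, Set.singleton_union]

/-- `x3 ↦ 0`, `g ↦ h x1 / x2`, `e ↦ - h x2 / x1` -/
noncomputable def psi2b : R2 A →+* KK A := ext psi1b (C x1) (C q2)

/-- `g e + h²` -/
noncomputable def G5 : R2 A := C X * X - C (-(C (vh ^ 2)))

theorem psi2b_C (a : R1 A) : psi2b (C a) = psi1b a := ext_C _ _ _ _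

theorem psi2b_hb : psi1b (C (x1 : P6 A) * (-(C (vh ^ 2)))) = psi1b (X * C q2) := by
  have hx1 : iota A x1 ≠ 0 := iota_ne_zero x1_ne_zero
  have hx2 : iota A x2 ≠ 0 := iota_ne_zero x2_ne_zero
  rw [map_mul, map_mul, map_neg, psi1b_C, psi1b_C, psi1b_C, psi1b_X, kill_s2_x1, kill_s2_q2,
    map_pow, kill_s2_vh, map_neg, map_mul, map_mul, map_pow]
  field_simp

theorem G1_mem : (G1 : R1 A) ∈ Ideal.span {C x1, C x3, X} := by
  have e : (G1 : R1 A) = C x2 * X - (C vh * C x1 + C vi * C x3) := by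
    unfold G1 q1
    rw [map_add, map_mul, map_mul]
  rw [e]
  apply Ideal.sub_mem
  · exact Ideal.mul_mem_left _ _ (Ideal.subset_span (Or.inr (Or.inr rfl)))
  · apply Ideal.add_mem
    · exact Ideal.mul_mem_left _ _ (Ideal.subset_span (Or.inl rfl))
    · exact Ideal.mul_mem_left _ _ (Ideal.subset_span (Or.inr (Or.inl rfl)))

theorem psi2b_hI : RingHom.ker (psi1b (A := A)) ⊔ Ideal.span {C x1, X} =
    Ideal.span {C x1, C x3, X} := by
  rw [ker_psi1b]
  apply le_antisymm
  · refine sup_le ?_ ?_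
    · rw [Ideal.span_le]
      intro z hz
      rcases hz with rfl | rfl
      · exact Ideal.subset_span (Or.inr (Or.inl rfl))
      · exact G1_mem
    · rw [Ideal.span_le]
      intro z hz
      rcases hz with rfl | rfl
      · exact Ideal.subset_span (Or.inl rfl)
      · exact Ideal.subset_span (Or.inr (Or.inr rfl))
  · rw [Ideal.span_le]
    intro z hz
    rcases hz with rfl | rfl | rfl
    · exact Ideal.mem_sup_right (Ideal.subset_span (Or.inl rfl))
    · exact Ideal.mem_sup_left (Ideal.subset_span (Or.inl rfl))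
    · exact Ideal.mem_sup_right (Ideal.subset_span (Or.inr rfl))

theorem ker_psi2b : RingHom.ker (psi2b (A := A)) = Ideal.span {C (C x3), C G1, G2, G5} := by
  have hc : ∀ a : R1 A, a * C q2 ∈ RingHom.ker (psi1b (A := A)) ⊔ Ideal.span {C x1, X} →
      a ∈ RingHom.ker (psi1b (A := A)) ⊔ Ideal.span {C x1, X} := by
    rw [psi2b_hI]
    apply hc_of_ker (psi1c (A := A))
    · exact ker_psi1c
    · rw [psi1c_C, kill_s02_q2]
      exact iota_ne_zero vh_x2_ne_zero
  have hu : psi1b (C (x1 : P6 A)) ≠ 0 := by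
    rw [psi1b_C, kill_s2_x1]
    exact iota_ne_zero x1_ne_zero
  have h := ker_ext psi1b (C (x1 : P6 A)) (C q2) X (-(C (vh ^ 2))) hu psi2b_hb hc
  unfold psi2b
  rw [h, ker_psi1b, Ideal.map_span, Set.image_pair, ← Ideal.span_union, Set.insert_union,
    Set.singleton_union]
  rfl

/-! ### level 3 -/

/-- `c ↦ q3 / x3` -/
noncomputable def psi3 : R3 A →+* KK A := ext psi2 (C (C x3)) (C (C q3))

/-- `-(h² + g e)`, the coefficient of `c` in `Δ` -/
noncomputable def v3 : R2 A := -(C (C (vh ^ 2)) + C X * X)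

/-- minus the part of `Δ` not involving `c` -/
noncomputable def w3 : R2 A :=
  -(C X * C (C (vf * (x2 - vf))) + X * C (C (vi ^ 2)) + C (C (vh * vi * (x2 - vf))) -
    C (C (vi * vh * vf)))

/-- `x3 c - q3` -/
noncomputable def G3 : R3 A := C (C (C x3)) * X - C (C (C q3))

/-- `Δ` -/
noncomputable def G4 : R3 A := C v3 * X - C w3

theorem psi3_hb : psi2 (C (C (x3 : P6 A)) * w3) = psi2 (v3 * C (C q3)) := by
  have hx1 : iota A x1 ≠ 0 := iota_ne_zero x1_ne_zero
  have hx2 : iota A x2 ≠ 0 := iota_ne_zero x2_ne_zero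
  unfold w3 v3
  simp only [map_mul, map_neg, map_add, map_sub, psi2_C, psi2_X, psi1_C, psi1_X]
  unfold q1 q2 q3
  simp only [map_mul, map_neg, map_add, map_sub, map_pow]
  field_simp
  ring

theorem psi3_hI : RingHom.ker (psi2 (A := A)) ⊔ Ideal.span {C (C x3), v3} =
    Ideal.span {C (C x3), C G1, G2, G5} := by
  have e : (v3 : R2 A) = -G5 := by
    unfold v3 G5
    rw [map_neg]
    ring
  rw [ker_psi2]
  apply le_antisymm
  · refine sup_le ?_ ?_
    · rw [Ideal.span_le]
      intro z hz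
      rcases hz with rfl | rfl
      · exact Ideal.subset_span (Or.inr (Or.inl rfl))
      · exact Ideal.subset_span (Or.inr (Or.inr (Or.inl rfl)))
    · rw [Ideal.span_le]
      intro z hz
      rcases hz with rfl | rfl
      · exact Ideal.subset_span (Or.inl rfl)
      · rw [e]
        exact neg_mem (Ideal.subset_span (Or.inr (Or.inr (Or.inr rfl))))
  · rw [Ideal.span_le]
    intro z hz
    rcases hz with rfl | rfl | rfl | rfl
    · exact Ideal.mem_sup_right (Ideal.subset_span (Or.inl rfl))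
    · exact Ideal.mem_sup_left (Ideal.subset_span (Or.inl rfl))
    · exact Ideal.mem_sup_left (Ideal.subset_span (Or.inr rfl))
    · have e' : (G5 : R2 A) = -v3 := by rw [e, neg_neg]
      rw [e']
      exact neg_mem (Ideal.mem_sup_right (Ideal.subset_span (Or.inr rfl)))

theorem ker_psi3 : RingHom.ker (psi3 (A := A)) = Ideal.span {C (C G1), C G2, G3, G4} := by
  have hc : ∀ a : R2 A, a * C (C q3) ∈ RingHom.ker (psi2 (A := A)) ⊔ Ideal.span {C (C x3), v3} →
      a ∈ RingHom.ker (psi2 (A := A)) ⊔ Ideal.span {C (C x3), v3} := by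
    rw [psi3_hI]
    apply hc_of_ker (psi2b (A := A))
    · exact ker_psi2b
    · rw [psi2b_C, psi1b_C, kill_s2_q3]
      exact iota_ne_zero q3_ne_zero
  have hu : psi2 (C (C (x3 : P6 A))) ≠ 0 := by
    rw [psi2_C, psi1_C]
    exact iota_ne_zero x3_ne_zero
  have h := ker_ext psi2 (C (C (x3 : P6 A))) (C (C q3)) v3 w3 hu psi3_hb hc
  unfold psi3
  rw [h, ker_psi2, Ideal.map_span, Set.image_pair, ← Ideal.span_union, Set.insert_union,
    Set.singleton_union]
  rfl

theorem psi3_C (a : R2 A) : psi3 (C a) = psi2 a := ext_C _ _ _ _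
theorem psi3_X : psi3 (A := A) X = iota A q3 / iota A x3 := by
  unfold psi3
  rw [ext_X, psi2_C, psi2_C, psi1_C, psi1_C]

end Chain

end Groth.Agent.H2.Lie3
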