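import Mathlib
import Groth.Prelude.Def_W4c1bouilletffgsL3
import Groth.Agent.Lib.Helper2.Lie3C

/-!
# The coordinate change `Θ : A[a,…,i] ≃ A[x1,x2,x3,f,h,i][g][e][c]`
-/

set_option autoImplicit false

namespace Groth.Agent.H2.Lie3

open Polynomial

universe u

variable (A : Type u) [CommRing A]

/-- embedding of `P6` in `R3` -/
noncomputable def inc : P6 A →+* R3 A := (C.comp C).comp C

variable {A}

theorem inc_apply (p : P6 A) : inc A p = C (C (C p)) := rfl

/-- `g` in `R3` -/
noncomputable def g3 : R3 A := C (C X)
/-- `e` in `R3` -/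
noncomputable def e3 : R3 A := C X
/-- `c` in `R3` -/
noncomputable def c3 : R3 A := X

variable (A)

/-- the values of `Θ` on the variables -/
noncomputable def ThetaVal : Fin 9 → R3 A :=
  ![inc A (x1 + vi), inc A (x2 - vf), c3, inc A (x3 - vh), e3, inc A vf, g3, inc A vh, inc A vi]

/-- the coordinate change `D A → P6[g][e][c]` -/
noncomputable def Theta : Lie3Mod.D A →ₐ[A] R3 A := MvPolynomial.aeval (ThetaVal A)

/-- the values of the inverse on the variables of `P6` -/
noncomputable def theta0Val : Fin 6 → Lie3Mod.D A :=
  ![MvPolynomial.X 0 - MvPolynomial.X 8, MvPolynomial.X 1 + MvPolynomial.X 5,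
    MvPolynomial.X 3 + MvPolynomial.X 7, MvPolynomial.X 5, MvPolynomial.X 7, MvPolynomial.X 8]

/-- the inverse on `P6` -/
noncomputable def theta0 : P6 A →+* Lie3Mod.D A :=
  (MvPolynomial.aeval (R := A) (S₁ := Lie3Mod.D A) (σ := Fin 6) (theta0Val A)).toRingHom

/-- the inverse -/
noncomputable def theta3 : R3 A →+* Lie3Mod.D A :=
  eval₂RingHom (eval₂RingHom (eval₂RingHom (theta0 A) (MvPolynomial.X 6)) (MvPolynomial.X 4))
    (MvPolynomial.X 2)

variable {A}

theorem theta0_xv (j : Fin 6) : theta0 A (xv j) = theta0Val A j :=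
  MvPolynomial.aeval_X _ _

theorem theta0_C (a : A) : theta0 A (MvPolynomial.C a : MvPolynomial (Fin 6) A) = MvPolynomial.C a := by
  show MvPolynomial.aeval _ (MvPolynomial.C a) = _
  rw [MvPolynomial.aeval_C]
  rfl

theorem theta3_inc (p : P6 A) : theta3 A (inc A p) = theta0 A p := by
  simp [theta3, inc_apply]

theorem theta3_g3 : theta3 A g3 = MvPolynomial.X 6 := by simp [theta3, g3]
theorem theta3_e3 : theta3 A e3 = MvPolynomial.X 4 := by simp [theta3, e3]
theorem theta3_c3 : theta3 A c3 = MvPolynomial.X 2 := by simp [theta3, c3]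

theorem Theta_X (j : Fin 9) : Theta A (MvPolynomial.X j) = ThetaVal A j := MvPolynomial.aeval_X _ _

theorem Theta_C (a : A) : Theta A (MvPolynomial.C a) =
    inc A (MvPolynomial.C a : MvPolynomial (Fin 6) A) := by
  unfold Theta
  rw [MvPolynomial.aeval_C]
  rfl

theorem theta3_Theta (F : Lie3Mod.D A) : theta3 A (Theta A F) = F := by
  have : (theta3 A).comp (Theta A).toRingHom = RingHom.id _ := by
    apply MvPolynomial.ringHom_ext
    · intro a
      show theta3 A (Theta A (MvPolynomial.C a)) = MvPolynomial.C a
      rw [Theta_C, theta3_inc, theta0_C]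
    · intro j
      show theta3 A (Theta A (MvPolynomial.X j)) = MvPolynomial.X j
      rw [Theta_X]
      fin_cases j <;>
        simp [ThetaVal, theta3_inc, theta3_g3, theta3_e3, theta3_c3, x1, x2, x3, vf, vh, vi,
          theta0_xv, theta0Val]
  exact RingHom.congr_fun this F

theorem Theta_theta0 (p : P6 A) : Theta A (theta0 A p) = inc A p := by
  have : (Theta A).toRingHom.comp (theta0 A) = inc A := by
    apply MvPolynomial.ringHom_ext
    · intro a
      show Theta A (theta0 A (MvPolynomial.C a : MvPolynomial (Fin 6) A)) = _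
      rw [theta0_C, Theta_C]
      rfl
    · intro j
      show Theta A (theta0 A (xv j)) = inc A (xv j)
      rw [theta0_xv]
      fin_cases j <;>
        simp [theta0Val, Theta_X, ThetaVal, x1, x2, x3, vf, vh, vi] <;> ring
  exact RingHom.congr_fun this p

theorem Theta_theta3 (F : R3 A) : Theta A (theta3 A F) = F := by
  have : (Theta A).toRingHom.comp (theta3 A) = RingHom.id _ := by
    apply Polynomial.ringHom_ext'
    · apply Polynomial.ringHom_ext'
      · apply Polynomial.ringHom_ext'
        · apply RingHom.ext
          intro p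
          show Theta A (theta3 A (C (C (C p)))) = C (C (C p))
          rw [← inc_apply, theta3_inc, Theta_theta0]
        · show Theta A (theta3 A (C (C X))) = C (C X)
          have := theta3_g3 (A := A)
          unfold g3 at this
          rw [this, Theta_X]
          rfl
      · show Theta A (theta3 A (C X)) = C X
        have := theta3_e3 (A := A)
        unfold e3 at this
        rw [this, Theta_X]
        rfl
    · show Theta A (theta3 A X) = X
      have := theta3_c3 (A := A)
      unfold c3 at this
      rw [this, Theta_X]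
      rfl
  exact RingHom.congr_fun this F

variable (A)

/-- `Θ` as a ring isomorphism -/
noncomputable def ThetaEquiv : Lie3Mod.D A ≃+* R3 A :=
  RingEquiv.ofRingHom (Theta A).toRingHom (theta3 A)
    (RingHom.ext Theta_theta3) (RingHom.ext theta3_Theta)

variable {A}

theorem ThetaEquiv_apply (F : Lie3Mod.D A) : ThetaEquiv A F = Theta A F := rfl

end Groth.Agent.H2.Lie3
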