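import Mathlib
import Groth.Agent.Lib.Helper2.Lie3T

/-!
# Images of the generators under `Θ`; the ideal `L` as a kernel; linkage identities
-/

set_option autoImplicit false

namespace Groth.Agent.H2.Lie3

open Polynomial

universe u

variable {A : Type u} [CommRing A]

theorem Theta_va : Theta A (Lie3Mod.va) = inc A (x1 + vi) := by
  rw [Lie3Mod.va, Theta_X]; simp [ThetaVal]
theorem Theta_vb : Theta A (Lie3Mod.vb) = inc A (x2 - vf) := by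
  rw [Lie3Mod.vb, Theta_X]; simp [ThetaVal]
theorem Theta_vc : Theta A (Lie3Mod.vc) = c3 := by
  rw [Lie3Mod.vc, Theta_X]; simp [ThetaVal]
theorem Theta_vd : Theta A (Lie3Mod.vd) = inc A (x3 - vh) := by
  rw [Lie3Mod.vd, Theta_X]; simp [ThetaVal]
theorem Theta_ve : Theta A (Lie3Mod.ve) = e3 := by
  rw [Lie3Mod.ve, Theta_X]; simp [ThetaVal]
theorem Theta_vf : Theta A (Lie3Mod.vf) = inc A vf := by
  rw [Lie3Mod.vf, Theta_X]; simp [ThetaVal]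
theorem Theta_vg : Theta A (Lie3Mod.vg) = g3 := by
  rw [Lie3Mod.vg, Theta_X]; simp [ThetaVal]
theorem Theta_vh : Theta A (Lie3Mod.vh) = inc A vh := by
  rw [Lie3Mod.vh, Theta_X]; simp [ThetaVal]
theorem Theta_vi : Theta A (Lie3Mod.vi) = inc A vi := by
  rw [Lie3Mod.vi, Theta_X]; simp [ThetaVal]

theorem Theta_Q1 : Theta A (Lie3Mod.Q1 A) = -(C (C G1)) := by
  unfold Lie3Mod.Q1 G1 q1
  simp only [map_sub, map_add, map_mul, Theta_va, Theta_vb, Theta_vd, Theta_vf, Theta_vg, Theta_vh,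
    Theta_vi, inc_apply, g3]
  ring

theorem Theta_Q2 : Theta A (Lie3Mod.Q2 A) = -(C G2) := by
  unfold Lie3Mod.Q2 G2 q2
  simp only [map_sub, map_add, map_mul, map_neg, Theta_va, Theta_vb, Theta_vd, Theta_ve, Theta_vf,
    Theta_vh, Theta_vi, inc_apply, e3]
  ring

theorem Theta_Q3 : Theta A (Lie3Mod.Q3 A) = G3 := by
  unfold Lie3Mod.Q3 G3 q3
  simp only [map_sub, map_add, map_mul, Theta_va, Theta_vb, Theta_vc, Theta_vd, Theta_vf,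
    Theta_vh, Theta_vi, inc_apply, c3]
  ring

theorem Theta_detM : Theta A (Lie3Mod.detM A) = G4 := by
  unfold Lie3Mod.detM G4 v3 w3
  simp only [map_sub, map_add, map_mul, map_neg, map_pow, Theta_vb, Theta_vc, Theta_ve, Theta_vf,
    Theta_vg, Theta_vh, Theta_vi, inc_apply, c3, e3, g3]
  ring

theorem Theta_L1 : Theta A (Lie3Mod.L1 A) = inc A x1 := by
  unfold Lie3Mod.L1
  simp only [map_sub, map_add, Theta_va, Theta_vi]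
  ring

theorem Theta_L2 : Theta A (Lie3Mod.L2 A) = inc A x2 := by
  unfold Lie3Mod.L2
  simp only [map_sub, map_add, Theta_vb, Theta_vf]
  ring

theorem Theta_L3 : Theta A (Lie3Mod.L3 A) = inc A x3 := by
  unfold Lie3Mod.L3
  simp only [map_sub, map_add, Theta_vd, Theta_vh]
  ring

/-! ### linkage identities -/

theorem L1_mul_detM : Lie3Mod.L1 A * Lie3Mod.detM A =
    (Lie3Mod.vb * Lie3Mod.vi - Lie3Mod.vc * Lie3Mod.vh) * Lie3Mod.Q1 A +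
      (Lie3Mod.vc * Lie3Mod.vg - Lie3Mod.vi ^ 2) * Lie3Mod.Q2 A +
      (-(Lie3Mod.vb * Lie3Mod.vg) + Lie3Mod.vh * Lie3Mod.vi) * Lie3Mod.Q3 A := by
  unfold Lie3Mod.L1 Lie3Mod.detM Lie3Mod.Q1 Lie3Mod.Q2 Lie3Mod.Q3
  ring

theorem L2_mul_detM : Lie3Mod.L2 A * Lie3Mod.detM A =
    (-(Lie3Mod.vb * Lie3Mod.vf) + Lie3Mod.vc * Lie3Mod.ve) * Lie3Mod.Q1 A +
      (Lie3Mod.vc * Lie3Mod.vh + Lie3Mod.vf * Lie3Mod.vi) * Lie3Mod.Q2 A +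
      (-(Lie3Mod.vb * Lie3Mod.vh) - Lie3Mod.ve * Lie3Mod.vi) * Lie3Mod.Q3 A := by
  unfold Lie3Mod.L2 Lie3Mod.detM Lie3Mod.Q1 Lie3Mod.Q2 Lie3Mod.Q3
  ring

theorem L3_mul_detM : Lie3Mod.L3 A * Lie3Mod.detM A =
    (Lie3Mod.ve * Lie3Mod.vi - Lie3Mod.vf * Lie3Mod.vh) * Lie3Mod.Q1 A +
      (Lie3Mod.vf * Lie3Mod.vg + Lie3Mod.vh * Lie3Mod.vi) * Lie3Mod.Q2 A +
      (-(Lie3Mod.ve * Lie3Mod.vg) - Lie3Mod.vh ^ 2) * Lie3Mod.Q3 A := by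
  unfold Lie3Mod.L3 Lie3Mod.detM Lie3Mod.Q1 Lie3Mod.Q2 Lie3Mod.Q3
  ring

theorem Q1_eq : Lie3Mod.Q1 A =
    Lie3Mod.vh * Lie3Mod.L1 A - Lie3Mod.vg * Lie3Mod.L2 A + Lie3Mod.vi * Lie3Mod.L3 A := by
  unfold Lie3Mod.L1 Lie3Mod.L2 Lie3Mod.L3 Lie3Mod.Q1
  ring

theorem Q2_eq : Lie3Mod.Q2 A =
    -(Lie3Mod.ve * Lie3Mod.L1 A) - Lie3Mod.vh * Lie3Mod.L2 A + Lie3Mod.vb * Lie3Mod.L3 A := by
  unfold Lie3Mod.L1 Lie3Mod.L2 Lie3Mod.L3 Lie3Mod.Q2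
  ring

theorem Q3_eq : Lie3Mod.Q3 A =
    -(Lie3Mod.vf * Lie3Mod.L1 A) - Lie3Mod.vi * Lie3Mod.L2 A + Lie3Mod.vc * Lie3Mod.L3 A := by
  unfold Lie3Mod.L1 Lie3Mod.L2 Lie3Mod.L3 Lie3Mod.Q3
  ring

end Groth.Agent.H2.Lie3
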