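import Mathlib
import Groth.Agent.Lib.Helper2.Lie3G

/-!
# The ideals `I`, `J`, `L` of the moduli of three-dimensional Lie algebras
-/

set_option autoImplicit false

namespace Groth.Agent.H2.Lie3

open Polynomial

universe u

section General

variable {A : Type u} [CommRing A]

theorem Q1_mem_idI : Lie3Mod.Q1 A ∈ Lie3Mod.idI A := Ideal.subset_span (Or.inl rfl)
theorem Q2_mem_idI : Lie3Mod.Q2 A ∈ Lie3Mod.idI A := Ideal.subset_span (Or.inr (Or.inl rfl))
theorem Q3_mem_idI : Lie3Mod.Q3 A ∈ Lie3Mod.idI A := Ideal.subset_span (Or.inr (Or.inr rfl))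
theorem L1_mem_idL : Lie3Mod.L1 A ∈ Lie3Mod.idL A := Ideal.subset_span (Or.inl rfl)
theorem L2_mem_idL : Lie3Mod.L2 A ∈ Lie3Mod.idL A := Ideal.subset_span (Or.inr (Or.inl rfl))
theorem L3_mem_idL : Lie3Mod.L3 A ∈ Lie3Mod.idL A := Ideal.subset_span (Or.inr (Or.inr rfl))
theorem detM_mem_idJ : Lie3Mod.detM A ∈ Lie3Mod.idJ A :=
  Ideal.subset_span (Or.inr (Or.inr (Or.inr rfl)))

theorem idI_le_idJ : Lie3Mod.idI A ≤ Lie3Mod.idJ A := by
  unfold Lie3Mod.idI Lie3Mod.idJ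
  apply Ideal.span_mono
  intro z hz
  rcases hz with rfl | rfl | rfl
  · exact Or.inl rfl
  · exact Or.inr (Or.inl rfl)
  · exact Or.inr (Or.inr (Or.inl rfl))

theorem idI_le_idL : Lie3Mod.idI A ≤ Lie3Mod.idL A := by
  unfold Lie3Mod.idI
  rw [Ideal.span_le]
  intro z hz
  rcases hz with rfl | rfl | rfl
  · rw [Q1_eq]
    exact Ideal.add_mem _ (Ideal.sub_mem _ (Ideal.mul_mem_left _ _ L1_mem_idL)
      (Ideal.mul_mem_left _ _ L2_mem_idL)) (Ideal.mul_mem_left _ _ L3_mem_idL)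
  · rw [Q2_eq]
    exact Ideal.add_mem _ (Ideal.sub_mem _ (neg_mem (Ideal.mul_mem_left _ _ L1_mem_idL))
      (Ideal.mul_mem_left _ _ L2_mem_idL)) (Ideal.mul_mem_left _ _ L3_mem_idL)
  · rw [Q3_eq]
    exact Ideal.add_mem _ (Ideal.sub_mem _ (neg_mem (Ideal.mul_mem_left _ _ L1_mem_idL))
      (Ideal.mul_mem_left _ _ L2_mem_idL)) (Ideal.mul_mem_left _ _ L3_mem_idL)

theorem L1_mul_detM_mem : Lie3Mod.L1 A * Lie3Mod.detM A ∈ Lie3Mod.idI A := by
  rw [L1_mul_detM]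
  exact Ideal.add_mem _ (Ideal.add_mem _ (Ideal.mul_mem_left _ _ Q1_mem_idI)
    (Ideal.mul_mem_left _ _ Q2_mem_idI)) (Ideal.mul_mem_left _ _ Q3_mem_idI)

theorem L2_mul_detM_mem : Lie3Mod.L2 A * Lie3Mod.detM A ∈ Lie3Mod.idI A := by
  rw [L2_mul_detM]
  exact Ideal.add_mem _ (Ideal.add_mem _ (Ideal.mul_mem_left _ _ Q1_mem_idI)
    (Ideal.mul_mem_left _ _ Q2_mem_idI)) (Ideal.mul_mem_left _ _ Q3_mem_idI)

theorem L3_mul_detM_mem : Lie3Mod.L3 A * Lie3Mod.detM A ∈ Lie3Mod.idI A := by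
  rw [L3_mul_detM]
  exact Ideal.add_mem _ (Ideal.add_mem _ (Ideal.mul_mem_left _ _ Q1_mem_idI)
    (Ideal.mul_mem_left _ _ Q2_mem_idI)) (Ideal.mul_mem_left _ _ Q3_mem_idI)

theorem mul_detM_mem_of_mem_idL {l : Lie3Mod.D A} (hl : l ∈ Lie3Mod.idL A) :
    l * Lie3Mod.detM A ∈ Lie3Mod.idI A := by
  unfold Lie3Mod.idL at hl
  rw [Ideal.mem_span_insert] at hl
  obtain ⟨a1, z, hz, rfl⟩ := hl
  rw [Ideal.mem_span_insert] at hz
  obtain ⟨a2, z', hz', rfl⟩ := hz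
  rw [Ideal.mem_span_singleton'] at hz'
  obtain ⟨a3, rfl⟩ := hz'
  have e : (a1 * Lie3Mod.L1 A + (a2 * Lie3Mod.L2 A + a3 * Lie3Mod.L3 A)) * Lie3Mod.detM A =
      a1 * (Lie3Mod.L1 A * Lie3Mod.detM A) + (a2 * (Lie3Mod.L2 A * Lie3Mod.detM A) +
        a3 * (Lie3Mod.L3 A * Lie3Mod.detM A)) := by ring
  rw [e]
  exact Ideal.add_mem _ (Ideal.mul_mem_left _ _ L1_mul_detM_mem)
    (Ideal.add_mem _ (Ideal.mul_mem_left _ _ L2_mul_detM_mem)
      (Ideal.mul_mem_left _ _ L3_mul_detM_mem))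

theorem mem_idJ_iff {F : Lie3Mod.D A} :
    F ∈ Lie3Mod.idJ A ↔ ∃ i₀ ∈ Lie3Mod.idI A, ∃ r, F = i₀ + r * Lie3Mod.detM A := by
  constructor
  · intro hF
    unfold Lie3Mod.idJ at hF
    rw [Ideal.mem_span_insert] at hF
    obtain ⟨a1, z, hz, rfl⟩ := hF
    rw [Ideal.mem_span_insert] at hz
    obtain ⟨a2, z', hz', rfl⟩ := hz
    rw [Ideal.mem_span_insert] at hz'
    obtain ⟨a3, z'', hz'', rfl⟩ := hz'
    rw [Ideal.mem_span_singleton'] at hz''
    obtain ⟨r, rfl⟩ := hz''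
    refine ⟨a1 * Lie3Mod.Q1 A + (a2 * Lie3Mod.Q2 A + a3 * Lie3Mod.Q3 A), ?_, r, by ring⟩
    exact Ideal.add_mem _ (Ideal.mul_mem_left _ _ Q1_mem_idI)
      (Ideal.add_mem _ (Ideal.mul_mem_left _ _ Q2_mem_idI) (Ideal.mul_mem_left _ _ Q3_mem_idI))
  · rintro ⟨i₀, hi₀, r, rfl⟩
    exact Ideal.add_mem _ (idI_le_idJ hi₀) (Ideal.mul_mem_left _ _ detM_mem_idJ)

/-- `L · J ⊆ I` -/
theorem mul_mem_idI {l F : Lie3Mod.D A} (hl : l ∈ Lie3Mod.idL A) (hF : F ∈ Lie3Mod.idJ A) :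
    l * F ∈ Lie3Mod.idI A := by
  obtain ⟨i₀, hi₀, r, rfl⟩ := mem_idJ_iff.mp hF
  have e : l * (i₀ + r * Lie3Mod.detM A) = l * i₀ + r * (l * Lie3Mod.detM A) := by ring
  rw [e]
  exact Ideal.add_mem _ (Ideal.mul_mem_left _ _ hi₀)
    (Ideal.mul_mem_left _ _ (mul_detM_mem_of_mem_idL hl))

/-! ### `L` as a kernel -/

/-- all three `x`'s -/
def s012 : Set (Fin 6) := {j | j = 0 ∨ j = 1 ∨ j = 2}

instance : DecidablePred (· ∈ s012) := fun j => inferInstanceAs (Decidable (j = 0 ∨ j = 1 ∨ j = 2))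

theorem image_s012 : xv (A := A) '' s012 = {x1, x2, x3} := by
  ext z
  simp only [s012, x1, x2, x3, Set.mem_image, Set.mem_ofPred_eq, Set.mem_insert_iff,
    Set.mem_singleton_iff]
  constructor
  · rintro ⟨j, rfl | rfl | rfl, rfl⟩
    · exact Or.inl rfl
    · exact Or.inr (Or.inl rfl)
    · exact Or.inr (Or.inr rfl)
  · rintro (rfl | rfl | rfl)
    · exact ⟨0, Or.inl rfl, rfl⟩
    · exact ⟨1, Or.inr (Or.inl rfl), rfl⟩
    · exact ⟨2, Or.inr (Or.inr rfl), rfl⟩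

variable (A)

/-- kill `x1, x2, x3` in the coefficients -/
noncomputable def killR3 : R3 A →+* R3 A := mapRingHom (mapRingHom (mapRingHom (kill A s012)))

/-- the map `D A → R3 A` with kernel `L` -/
noncomputable def EL : Lie3Mod.D A →+* R3 A := (killR3 A).comp (Theta A).toRingHom

variable {A}

theorem ker_killR3 : RingHom.ker (killR3 A) = Ideal.span {inc A x1, inc A x2, inc A x3} := by
  unfold killR3
  rw [ker_mapRingHom, ker_mapRingHom, ker_mapRingHom, ker_kill, image_s012, Ideal.map_span,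
    Ideal.map_span, Ideal.map_span]
  congr 1
  simp only [Set.image_insert_eq, Set.image_singleton, inc_apply]

theorem map_Theta_idL :
    (Lie3Mod.idL A).map (ThetaEquiv A : Lie3Mod.D A →+* R3 A) =
      Ideal.span {inc A x1, inc A x2, inc A x3} := by
  unfold Lie3Mod.idL
  rw [Ideal.map_span]
  congr 1
  simp only [Set.image_insert_eq, Set.image_singleton, RingEquiv.coe_toRingHom, ThetaEquiv_apply,
    Theta_L1, Theta_L2, Theta_L3]

theorem ker_EL : RingHom.ker (EL A) = Lie3Mod.idL A := by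
  have h1 : RingHom.ker (EL A) =
      (RingHom.ker (killR3 A)).comap (ThetaEquiv A : Lie3Mod.D A →+* R3 A) := by
    ext F
    rfl
  rw [h1, ker_killR3, ← map_Theta_idL]
  exact Ideal.comap_map_of_bijective _ (ThetaEquiv A).bijective

theorem kill_s012_vh : kill A s012 vh = vh := by simp [vh, kill_xv, s012]

theorem v3_mem_nonZeroDivisors [Nontrivial A] : (v3 : R2 A) ∈ nonZeroDivisors (R2 A) := by
  have e : (v3 : R2 A) = C (-X) * X + C (-(C (vh ^ 2))) := by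
    unfold v3
    rw [map_neg, map_neg]
    ring
  have hX : (-X : R1 A) ≠ 0 := neg_ne_zero.mpr X_ne_zero
  apply mem_nonZeroDivisors_of_leadingCoeff
  rw [e, leadingCoeff_linear hX]
  have : (-X : R1 A) = (-1) * X := by ring
  rw [this]
  exact mul_mem (IsUnit.mem_nonZeroDivisors (isUnit_one.neg)) monic_X.mem_nonZeroDivisors

theorem v3_ne_zero [Nontrivial A] : (v3 : R2 A) ≠ 0 :=
  nonZeroDivisors.ne_zero v3_mem_nonZeroDivisors

theorem killR3_G4 : ∃ w' : R2 A, killR3 A G4 = C v3 * X + C w' := by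
  refine ⟨-(mapRingHom (mapRingHom (kill A s012)) w3), ?_⟩
  unfold killR3 G4
  have hv : mapRingHom (mapRingHom (kill A s012)) (v3 : R2 A) = v3 := by
    unfold v3
    simp only [map_neg, map_add, map_mul, coe_mapRingHom, map_C, map_X, map_pow, kill_s012_vh]
  rw [coe_mapRingHom, Polynomial.map_sub, Polynomial.map_mul, Polynomial.map_C, Polynomial.map_C,
    Polynomial.map_X, hv, map_neg, sub_eq_add_neg]

theorem eq_zero_of_mul_linear {R : Type*} [CommRing R] {a b : R} (ha : a ∈ nonZeroDivisors R)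
    (ha0 : a ≠ 0) {z : R[X]} (h : z * (C a * X + C b) = 0) : z = 0 := by
  have := mem_nonZeroDivisors_of_leadingCoeff (p := C a * X + C b)
    (by rw [leadingCoeff_linear ha0]; exact ha)
  exact (mem_nonZeroDivisors_iff_right.mp this) z h

theorem EL_eq_zero_of_mul [Nontrivial A] {F : Lie3Mod.D A}
    (h2 : EL A F * EL A (Lie3Mod.detM A) = 0) : EL A F = 0 := by
  obtain ⟨w', hw'⟩ := killR3_G4 (A := A)
  have : EL A (Lie3Mod.detM A) = C v3 * X + C w' := by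
    show killR3 A (Theta A (Lie3Mod.detM A)) = _
    rw [Theta_detM, hw']
  rw [this] at h2
  exact eq_zero_of_mul_linear v3_mem_nonZeroDivisors v3_ne_zero h2

theorem mem_ker_EL_iff {F : Lie3Mod.D A} : EL A F = 0 ↔ F ∈ Lie3Mod.idL A := by
  rw [← ker_EL]
  rfl

/-- `Δ` is a non-zero-divisor modulo `L` -/
theorem mem_idL_of_mul_detM {F : Lie3Mod.D A} (h : F * Lie3Mod.detM A ∈ Lie3Mod.idL A) :
    F ∈ Lie3Mod.idL A := by
  rcases subsingleton_or_nontrivial A with hA | hA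
  · have : Subsingleton (Lie3Mod.D A) := Module.subsingleton A _
    rw [Subsingleton.elim F 0]
    exact Ideal.zero_mem _
  · rw [← mem_ker_EL_iff] at h ⊢
    rw [RingHom.map_mul] at h
    exact EL_eq_zero_of_mul h

/-- `I = J ∩ L`, over any commutative ring -/
theorem idI_eq_inf : Lie3Mod.idI A = Lie3Mod.idJ A ⊓ Lie3Mod.idL A := by
  apply le_antisymm
  · exact le_inf idI_le_idJ idI_le_idL
  · rintro F ⟨hJ, hL⟩
    obtain ⟨i₀, hi₀, r, rfl⟩ := mem_idJ_iff.mp hJ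
    have h1 : r * Lie3Mod.detM A ∈ Lie3Mod.idL A := by
      have : r * Lie3Mod.detM A = (i₀ + r * Lie3Mod.detM A) - i₀ := by ring
      rw [this]
      exact Ideal.sub_mem _ hL (idI_le_idL hi₀)
    have h2 : r ∈ Lie3Mod.idL A := mem_idL_of_mul_detM h1
    exact Ideal.add_mem _ hi₀ (mul_detM_mem_of_mem_idL h2)

/-- `I : J = L`, over any commutative ring -/
theorem colon_idI_idJ :
    (Lie3Mod.idI A).colon (Lie3Mod.idJ A : Set (Lie3Mod.D A)) = Lie3Mod.idL A := by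
  ext F
  rw [Submodule.mem_colon]
  constructor
  · intro h
    have h1 := h (Lie3Mod.detM A) detM_mem_idJ
    rw [smul_eq_mul] at h1
    exact mem_idL_of_mul_detM (idI_le_idL h1)
  · intro hF p hp
    rw [smul_eq_mul]
    exact mul_mem_idI hF hp

end General

end Groth.Agent.H2.Lie3
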