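import Mathlib
import Groth.Agent.Lib.Helper2.Lie3M

/-!
# `J` is prime; minimal primes of `I`; flatness over `ℤ`
-/

set_option autoImplicit false

namespace Groth.Agent.H2.Lie3

open Polynomial

universe u

theorem span_neg_neg {R : Type*} [CommRing R] (a b c d : R) :
    Ideal.span {-a, -b, c, d} = Ideal.span {a, b, c, d} := by
  apply le_antisymm
  · rw [Ideal.span_le]
    intro z hz
    rcases hz with rfl | rfl | rfl | rfl
    · exact neg_mem (Ideal.subset_span (Or.inl rfl))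
    · exact neg_mem (Ideal.subset_span (Or.inr (Or.inl rfl)))
    · exact Ideal.subset_span (Or.inr (Or.inr (Or.inl rfl)))
    · exact Ideal.subset_span (Or.inr (Or.inr (Or.inr rfl)))
  · have ha := neg_mem (Ideal.subset_span (α := R) (s := {-a, -b, c, d}) (Or.inl rfl))
    have hb := neg_mem (Ideal.subset_span (α := R) (s := {-a, -b, c, d}) (Or.inr (Or.inl rfl)))
    rw [neg_neg] at ha hb
    rw [Ideal.span_le]
    intro z hz
    rcases hz with rfl | rfl | rfl | rfl
    · exact ha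
    · exact hb
    · exact Ideal.subset_span (Or.inr (Or.inr (Or.inl rfl)))
    · exact Ideal.subset_span (Or.inr (Or.inr (Or.inr rfl)))

section Domain

variable (A : Type u) [CommRing A] [IsDomain A]

/-- the parametrization `D A → Frac (A[x1,x2,x3,f,h,i])` of the component `V(J)` -/
noncomputable def Phi : Lie3Mod.D A →+* KK A := (psi3 (A := A)).comp (Theta A).toRingHom

variable {A}

theorem map_Theta_idJ :
    (Lie3Mod.idJ A).map (ThetaEquiv A : Lie3Mod.D A →+* R3 A) =
      Ideal.span {C (C G1), C G2, G3, G4} := by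
  unfold Lie3Mod.idJ
  rw [Ideal.map_span]
  simp only [Set.image_insert_eq, Set.image_singleton, RingEquiv.coe_toRingHom, ThetaEquiv_apply,
    Theta_Q1, Theta_Q2, Theta_Q3, Theta_detM]
  exact span_neg_neg (R := R3 A) _ _ _ _

/-- **`J` is the kernel of the parametrization.** -/
theorem ker_Phi : RingHom.ker (Phi A) = Lie3Mod.idJ A := by
  have h1 : RingHom.ker (Phi A) =
      (RingHom.ker (psi3 (A := A))).comap (ThetaEquiv A : Lie3Mod.D A →+* R3 A) := by
    ext F
    rfl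
  rw [h1, ker_psi3, ← map_Theta_idJ]
  exact Ideal.comap_map_of_bijective _ (ThetaEquiv A).bijective

theorem idJ_isPrime : (Lie3Mod.idJ A).IsPrime := by
  rw [← ker_Phi]
  exact RingHom.ker_isPrime _

theorem idL_isPrime : (Lie3Mod.idL A).IsPrime := by
  rw [← ker_EL]
  exact RingHom.ker_isPrime _

theorem Phi_L1 : Phi A (Lie3Mod.L1 A) = iota A x1 := by
  show psi3 (Theta A (Lie3Mod.L1 A)) = _
  rw [Theta_L1, inc_apply, psi3_C, psi2_C, psi1_C]

theorem L1_not_mem_idJ : Lie3Mod.L1 A ∉ Lie3Mod.idJ A := by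
  rw [← ker_Phi, RingHom.mem_ker, Phi_L1]
  exact iota_ne_zero x1_ne_zero

theorem detM_not_mem_idL : Lie3Mod.detM A ∉ Lie3Mod.idL A := by
  intro h
  have h1 : (1 : Lie3Mod.D A) * Lie3Mod.detM A ∈ Lie3Mod.idL A := by rw [one_mul]; exact h
  have h2 := mem_idL_of_mul_detM h1
  exact idL_isPrime.ne_top ((Ideal.eq_top_iff_one _).mpr h2)

/-- `L` is a minimal prime of `I` -/
theorem idL_mem_minimalPrimes : Lie3Mod.idL A ∈ (Lie3Mod.idI A).minimalPrimes := by
  refine ⟨⟨idL_isPrime, idI_le_idL⟩, ?_⟩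
  rintro 𝔭 ⟨h𝔭, hI⟩ hle
  intro l hl
  have h1 : l * Lie3Mod.detM A ∈ 𝔭 := hI (mul_detM_mem_of_mem_idL hl)
  rcases h𝔭.mem_or_mem h1 with h | h
  · exact h
  · exact absurd (hle h) detM_not_mem_idL

/-- `J` is a minimal prime of `I` -/
theorem idJ_mem_minimalPrimes : Lie3Mod.idJ A ∈ (Lie3Mod.idI A).minimalPrimes := by
  refine ⟨⟨idJ_isPrime, idI_le_idJ⟩, ?_⟩
  rintro 𝔭 ⟨h𝔭, hI⟩ hle
  intro F hF
  have h1 : Lie3Mod.L1 A * F ∈ 𝔭 := hI (mul_mem_idI L1_mem_idL hF)
  rcases h𝔭.mem_or_mem h1 with h | h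
  · exact absurd (hle h) L1_not_mem_idJ
  · exact h

end Domain

end Groth.Agent.H2.Lie3
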