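import Mathlib
import Groth.Agent.Lib.Helper2.Lie3N
import Groth.Agent.Lib.Helper7.Reg1

/-!
# The colon ideal `(I : L) = J` over a regular base ring

Membership in an ideal of `A[x₁,…]` is local on `Spec A`; over a regular local ring (a domain)
`J` is the kernel of the parametrization `Phi`.
-/

set_option autoImplicit false

namespace Groth.Agent.H2.Lie3

open MvPolynomial

universe u

attribute [local instance] MvPolynomial.algebraMvPolynomial in
/-- Membership in an ideal of a polynomial ring is local on the base ring. -/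
theorem mem_of_forall_maximal_base {σ : Type*} {R : Type u} [CommRing R]
    (J : Ideal (MvPolynomial σ R)) (F : MvPolynomial σ R)
    (h : ∀ (m : Ideal R) [m.IsMaximal],
      MvPolynomial.map (algebraMap R (Localization.AtPrime m)) F ∈
        J.map (MvPolynomial.map (algebraMap R (Localization.AtPrime m)))) : F ∈ J := by
  classical
  let a : Ideal R := (J.colon {F}).comap (C : R →+* MvPolynomial σ R)
  have hmem : ∀ s : R, s ∈ a ↔ C s * F ∈ J := by
    intro s
    simp only [a, Ideal.mem_comap, Submodule.mem_colon_singleton, smul_eq_mul]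
  by_contra hF
  have ha : a ≠ ⊤ := by
    intro htop
    have h1 : (1 : R) ∈ a := htop ▸ Submodule.mem_top
    rw [hmem, C_1, one_mul] at h1
    exact hF h1
  obtain ⟨m, hm, ham⟩ := Ideal.exists_le_maximal a ha
  have := hm
  have h1 := h m
  rw [← MvPolynomial.algebraMap_def,
    IsLocalization.mem_map_algebraMap_iff (m.primeCompl.map (C : R →+* MvPolynomial σ R))] at h1
  obtain ⟨⟨⟨j, hj⟩, ⟨s, hs⟩⟩, hx⟩ := h1
  simp only at hx
  rw [← map_mul, IsLocalization.eq_iff_exists (m.primeCompl.map (C : R →+* MvPolynomial σ R))] at hx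
  obtain ⟨⟨c, hc⟩, hx⟩ := hx
  simp only at hx
  obtain ⟨s', hs', rfl⟩ := hs
  obtain ⟨c', hc', rfl⟩ := hc
  have h2 : c' * s' ∈ a := by
    rw [hmem]
    have : C (c' * s') * F = C c' * (F * C s') := by rw [C_mul]; ring
    rw [this]
    show (C : R →+* MvPolynomial σ R) c' * (F * (C : R →+* MvPolynomial σ R) s') ∈ J
    rw [hx]
    exact J.mul_mem_left _ hj
  exact (m.primeCompl.mul_mem hc' hs') (ham h2)

section naturality

variable {A B : Type*} [CommRing A] [CommRing B] (φ : A →+* B)

theorem map_Q1 : MvPolynomial.map φ (Lie3Mod.Q1 A) = Lie3Mod.Q1 B := by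
  simp [Lie3Mod.Q1]
theorem map_Q2 : MvPolynomial.map φ (Lie3Mod.Q2 A) = Lie3Mod.Q2 B := by
  simp [Lie3Mod.Q2]
theorem map_Q3 : MvPolynomial.map φ (Lie3Mod.Q3 A) = Lie3Mod.Q3 B := by
  simp [Lie3Mod.Q3]
theorem map_L1 : MvPolynomial.map φ (Lie3Mod.L1 A) = Lie3Mod.L1 B := by
  simp [Lie3Mod.L1]
theorem map_detM : MvPolynomial.map φ (Lie3Mod.detM A) = Lie3Mod.detM B := by
  simp [Lie3Mod.detM]

theorem map_idI : (Lie3Mod.idI A).map (MvPolynomial.map φ) = Lie3Mod.idI B := by
  unfold Lie3Mod.idI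
  rw [Ideal.map_span]
  simp only [Set.image_insert_eq, Set.image_singleton, map_Q1, map_Q2, map_Q3]

theorem map_idJ : (Lie3Mod.idJ A).map (MvPolynomial.map φ) = Lie3Mod.idJ B := by
  unfold Lie3Mod.idJ
  rw [Ideal.map_span]
  simp only [Set.image_insert_eq, Set.image_singleton, map_Q1, map_Q2, map_Q3, map_detM]

end naturality

/-- domain case: `F·L1 ∈ I ⇒ F ∈ J`. -/
theorem mem_idJ_of_mul_L1 {A : Type u} [CommRing A] [IsDomain A] {F : Lie3Mod.D A}
    (h : F * Lie3Mod.L1 A ∈ Lie3Mod.idI A) : F ∈ Lie3Mod.idJ A := by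
  have h1 : F * Lie3Mod.L1 A ∈ RingHom.ker (Phi A) := by
    rw [ker_Phi]; exact idI_le_idJ h
  rw [RingHom.mem_ker, map_mul, Phi_L1] at h1
  rw [← ker_Phi, RingHom.mem_ker]
  rcases mul_eq_zero.mp h1 with h2 | h2
  · exact h2
  · exact absurd h2 (iota_ne_zero x1_ne_zero)

/-- **`(I : L) = J` over a regular ring.** -/
theorem colon_idI_idL (A : Type u) [CommRing A] [IsRegularRing A] :
    (Lie3Mod.idI A).colon (Lie3Mod.idL A : Set (Lie3Mod.D A)) = Lie3Mod.idJ A := by
  apply le_antisymm
  · intro F hF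
    rw [Submodule.mem_colon] at hF
    have hF1 : F * Lie3Mod.L1 A ∈ Lie3Mod.idI A := by
      have := hF (Lie3Mod.L1 A) L1_mem_idL
      rwa [smul_eq_mul] at this
    apply mem_of_forall_maximal_base
    intro m hm
    have : IsDomain (Localization.AtPrime m) := Groth.Agent.H7.Reg.isDomain _
    rw [map_idJ]
    apply mem_idJ_of_mul_L1
    rw [← map_L1 (algebraMap A (Localization.AtPrime m)), ← map_mul,
      ← map_idI (algebraMap A (Localization.AtPrime m))]
    exact Ideal.mem_map_of_mem _ hF1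
  · intro F hF
    rw [Submodule.mem_colon]
    intro l hl
    rw [smul_eq_mul, mul_comm]
    exact mul_mem_idI hl hF

end Groth.Agent.H2.Lie3
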