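import Mathlib
import Groth.Prelude.Def_W4c1bouilletffgsL3
import Groth.Agent.Lib.Helper2.RegQuot
import Groth.Agent.Lib.Helper1.CiFields

/-!
# A smooth rational point on the second component of the moduli of based 3-dim Lie algebras
-/

set_option autoImplicit false

namespace Groth.Agent.H2.Lie3S

open MvPolynomial

universe u

section general

variable {σ : Type*} {R : Type*} [CommRing R]

theorem sub_C_eval_mem (p : σ → R) (F : MvPolynomial σ R) :
    F - C (eval p F) ∈ Ideal.span (Set.range fun i => (X i - C (p i) : MvPolynomial σ R)) := by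
  induction F using MvPolynomial.induction_on with
  | C a => simp
  | add f g hf hg =>
    have : f + g - C (eval p (f + g)) = (f - C (eval p f)) + (g - C (eval p g)) := by
      rw [map_add, C_add]; ring
    rw [this]; exact add_mem hf hg
  | mul_X f i hf =>
    have : f * X i - C (eval p (f * X i)) =
        (f - C (eval p f)) * X i + C (eval p f) * (X i - C (p i)) := by
      rw [map_mul, eval_X, C_mul]; ring
    rw [this]
    exact add_mem (Ideal.mul_mem_right _ _ hf)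
      (Ideal.mul_mem_left _ _ (Ideal.subset_span ⟨i, rfl⟩))

theorem ker_eval_eq_span (p : σ → R) :
    RingHom.ker (eval p) = Ideal.span (Set.range fun i => (X i - C (p i) : MvPolynomial σ R)) := by
  apply le_antisymm
  · intro F hF
    have h := sub_C_eval_mem p F
    rw [RingHom.mem_ker] at hF
    rwa [hF, C_0, sub_zero] at h
  · rw [Ideal.span_le]
    rintro _ ⟨i, rfl⟩
    simp [RingHom.mem_ker]

end general

variable (k : Type u) [Field k] (t : k)

/-- the point `(a,b,c,d,e,f,g,h,i) = (0,1,0,0,0,t,0,0,0)` -/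
def pt : Fin 9 → k := ![0, 1, 0, 0, 0, t, 0, 0, 0]

/-- the maximal ideal of the point -/
noncomputable def mI : Ideal (Lie3Mod.D k) :=
  Ideal.span ({X 0, X 1 - 1, X 2, X 3, X 4, X 5 - C t, X 6, X 7, X 8} : Set (Lie3Mod.D k))

theorem mI_eq_ker : mI k t = RingHom.ker (eval (pt k t)) := by
  rw [ker_eval_eq_span]
  unfold mI
  apply le_antisymm
  · rw [Ideal.span_le]
    intro x hx
    simp only [Set.mem_insert_iff, Set.mem_singleton_iff] at hx
    apply Ideal.subset_span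
    rcases hx with rfl | rfl | rfl | rfl | rfl | rfl | rfl | rfl | rfl
    · exact ⟨0, by simp [pt]⟩
    · exact ⟨1, by simp [pt]⟩
    · exact ⟨2, by simp [pt]⟩
    · exact ⟨3, by simp [pt]⟩
    · exact ⟨4, by simp [pt]⟩
    · exact ⟨5, by simp [pt]⟩
    · exact ⟨6, by simp [pt]⟩
    · exact ⟨7, by simp [pt]⟩
    · exact ⟨8, by simp [pt]⟩
  · rw [Ideal.span_le]
    rintro _ ⟨i, rfl⟩
    apply Ideal.subset_span
    fin_cases i <;> simp [pt]


theorem mI_isMaximal : (mI k t).IsMaximal := by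
  rw [mI_eq_ker]
  exact RingHom.ker_isMaximal_of_surjective _ (fun a => ⟨C a, by simp⟩)

theorem height_mI : (mI k t).height = ((6 + 3 : ℕ) : ℕ∞) := by
  have h := Groth.Agent.H1.CiFields.height_of_isMaximal k (Fin 9) (mI k t) (mI_isMaximal k t)
  rw [h]
  simp

theorem X0_mem : (X 0 : Lie3Mod.D k) ∈ mI k t := Ideal.subset_span (by simp)
theorem X1_mem : (X 1 - 1 : Lie3Mod.D k) ∈ mI k t := Ideal.subset_span (by simp)
theorem X2_mem : (X 2 : Lie3Mod.D k) ∈ mI k t := Ideal.subset_span (by simp)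
theorem X3_mem : (X 3 : Lie3Mod.D k) ∈ mI k t := Ideal.subset_span (by simp)
theorem X4_mem : (X 4 : Lie3Mod.D k) ∈ mI k t := Ideal.subset_span (by simp)
theorem X5_mem : (X 5 - C t : Lie3Mod.D k) ∈ mI k t := Ideal.subset_span (by simp)
theorem X6_mem : (X 6 : Lie3Mod.D k) ∈ mI k t := Ideal.subset_span (by simp)
theorem X7_mem : (X 7 : Lie3Mod.D k) ∈ mI k t := Ideal.subset_span (by simp)
theorem X8_mem : (X 8 : Lie3Mod.D k) ∈ mI k t := Ideal.subset_span (by simp)

theorem key {c x y : Lie3Mod.D k} (hx : x ∈ mI k t) (hy : y ∈ mI k t) :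
    c * (x * y) ∈ mI k t * mI k t :=
  Ideal.mul_mem_left _ c (Ideal.mul_mem_mul hx hy)

/-- the unit `u = L2 + adj₂₁` at the point -/
noncomputable def uu : Lie3Mod.D k := X 1 + X 5 + X 4 * X 2 - X 1 * X 5

theorem uu_not_mem : uu k ∉ mI k t := by
  rw [mI_eq_ker, RingHom.mem_ker]
  simp [uu, pt]

theorem uu_mul_Q1 : uu k * Lie3Mod.Q1 k =
    (X 1 + X 5) * (Lie3Mod.Q1 k + Lie3Mod.detM k) +
      (-(X 2 * X 7 + X 5 * X 8)) * Lie3Mod.Q2 k + (X 1 * X 7 + X 4 * X 8) * Lie3Mod.Q3 k := by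
  unfold uu Lie3Mod.detM Lie3Mod.Q1 Lie3Mod.Q2 Lie3Mod.Q3
  ring

theorem X3_eq : (X 3 : Lie3Mod.D k) = Lie3Mod.Q2 k + C t * X 7 +
    ((-1) * (X 8 * X 4) + (-1) * ((X 1 - 1) * X 3) + 1 * ((X 5 - C t) * X 7) + 1 * (X 0 * X 4)) := by
  unfold Lie3Mod.Q2
  ring

theorem X8_eq : (X 8 : Lie3Mod.D k) = -Lie3Mod.Q3 k + (-C t) * X 0 +
    (1 * (X 7 * X 2) + 1 * (X 3 * X 2) + (-1) * (X 0 * (X 5 - C t)) + (-1) * ((X 1 - 1) * X 8)) := by
  unfold Lie3Mod.Q3
  ring

theorem X6_eq : (X 6 : Lie3Mod.D k) = -(Lie3Mod.Q1 k + Lie3Mod.detM k) +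
    (1 * (X 0 * X 7) + 1 * (X 3 * X 8) + (-1) * ((X 5 - C t) * X 6) + (-1) * ((X 1 - 1) * X 6) +
      1 * (X 6 * (X 5 - C t)) + C t * (X 6 * (X 1 - 1)) + (X 5 - C t) * (X 6 * (X 1 - 1)) +
      (-X 7) * (X 2 * X 7) + X 8 * (X 4 * X 8) + (-X 2) * (X 6 * X 4) + 1 * (X 7 * X 8) +
      (X 1 - 1) * (X 7 * X 8) + (-C t) * (X 8 * X 7) + (-(X 5 - C t)) * (X 8 * X 7)) := by
  unfold Lie3Mod.Q1 Lie3Mod.detM
  ring


theorem idJ_le_mI : Lie3Mod.idJ k ≤ mI k t := by
  rw [mI_eq_ker]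
  unfold Lie3Mod.idJ
  rw [Ideal.span_le]
  intro x hx
  simp only [Set.mem_insert_iff, Set.mem_singleton_iff] at hx
  rw [SetLike.mem_coe, RingHom.mem_ker]
  rcases hx with rfl | rfl | rfl | rfl
  · simp [Lie3Mod.Q1, pt]
  · simp [Lie3Mod.Q2, pt]
  · simp [Lie3Mod.Q3, pt]
  · simp [Lie3Mod.detM, pt]

open Classical in
theorem smooth_point (P : Ideal (Lie3Mod.D k ⧸ Lie3Mod.idJ k)) [P.IsPrime]
    (hP : P = Ideal.map (Ideal.Quotient.mk (Lie3Mod.idJ k)) (mI k t)) :
    IsRegularLocalRing (Localization.AtPrime P) ∧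
      ringKrullDim (Localization.AtPrime P) = ((6 : ℕ) : WithBot ℕ∞) := by
  have hmax := mI_isMaximal k t
  have hQ1 : Lie3Mod.Q1 k ∈ Lie3Mod.idJ k := Ideal.subset_span (by simp)
  have hQ2 : Lie3Mod.Q2 k ∈ Lie3Mod.idJ k := Ideal.subset_span (by simp)
  have hQ3 : Lie3Mod.Q3 k ∈ Lie3Mod.idJ k := Ideal.subset_span (by simp)
  have hdet : Lie3Mod.detM k ∈ Lie3Mod.idJ k := Ideal.subset_span (by simp)
  refine RegQuot.regular_localization_quotient (mI k t) (Lie3Mod.idJ k) (idJ_le_mI k t) 6 3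
    (height_mI k t) {Lie3Mod.Q1 k + Lie3Mod.detM k, Lie3Mod.Q2 k, Lie3Mod.Q3 k}
    Finset.card_le_three ?_ (uu k) (uu_not_mem k t) ?_
    {X 0, X 1 - 1, X 2, X 4, X 5 - C t, X 7} Finset.card_le_six ?_ ?_ P hP
  · intro x hx
    simp only [Finset.coe_insert, Finset.coe_singleton, Set.mem_insert_iff,
      Set.mem_singleton_iff] at hx
    apply idJ_le_mI k t
    rcases hx with rfl | rfl | rfl
    · exact add_mem hQ1 hdet
    · exact hQ2
    · exact hQ3
  · have hg1 : Lie3Mod.Q1 k + Lie3Mod.detM k ∈ Ideal.span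
        (↑({Lie3Mod.Q1 k + Lie3Mod.detM k, Lie3Mod.Q2 k, Lie3Mod.Q3 k} : Finset (Lie3Mod.D k)) :
          Set (Lie3Mod.D k)) := Ideal.subset_span (by simp)
    have hg2 : Lie3Mod.Q2 k ∈ Ideal.span
        (↑({Lie3Mod.Q1 k + Lie3Mod.detM k, Lie3Mod.Q2 k, Lie3Mod.Q3 k} : Finset (Lie3Mod.D k)) :
          Set (Lie3Mod.D k)) := Ideal.subset_span (by simp)
    have hg3 : Lie3Mod.Q3 k ∈ Ideal.span
        (↑({Lie3Mod.Q1 k + Lie3Mod.detM k, Lie3Mod.Q2 k, Lie3Mod.Q3 k} : Finset (Lie3Mod.D k)) :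
          Set (Lie3Mod.D k)) := Ideal.subset_span (by simp)
    have h1 : uu k * Lie3Mod.Q1 k ∈ Ideal.span
        (↑({Lie3Mod.Q1 k + Lie3Mod.detM k, Lie3Mod.Q2 k, Lie3Mod.Q3 k} : Finset (Lie3Mod.D k)) :
          Set (Lie3Mod.D k)) := by
      rw [uu_mul_Q1]
      exact add_mem (add_mem (Ideal.mul_mem_left _ _ hg1) (Ideal.mul_mem_left _ _ hg2))
        (Ideal.mul_mem_left _ _ hg3)
    intro x hx
    unfold Lie3Mod.idJ at hx
    induction hx using Submodule.span_induction with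
    | mem y hy =>
      simp only [Set.mem_insert_iff, Set.mem_singleton_iff] at hy
      rcases hy with rfl | rfl | rfl | rfl
      · exact h1
      · exact Ideal.mul_mem_left _ _ hg2
      · exact Ideal.mul_mem_left _ _ hg3
      · have : uu k * Lie3Mod.detM k =
            uu k * (Lie3Mod.Q1 k + Lie3Mod.detM k) - uu k * Lie3Mod.Q1 k := by ring
        rw [this]
        exact sub_mem (Ideal.mul_mem_left _ _ hg1) h1
    | zero => rw [mul_zero]; exact zero_mem _
    | add y z _ _ hy hz => rw [mul_add]; exact add_mem hy hz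
    | smul a y _ hy =>
      rw [smul_eq_mul, mul_left_comm]
      exact Ideal.mul_mem_left _ _ hy
  · intro x hx
    simp only [Finset.coe_insert, Finset.coe_singleton, Set.mem_insert_iff,
      Set.mem_singleton_iff] at hx
    rcases hx with rfl | rfl | rfl | rfl | rfl | rfl
    · exact X0_mem k t
    · exact X1_mem k t
    · exact X2_mem k t
    · exact X4_mem k t
    · exact X5_mem k t
    · exact X7_mem k t
  · have h0 := X0_mem k t
    have h1 := X1_mem k t
    have h2 := X2_mem k t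
    have h3 := X3_mem k t
    have h4 := X4_mem k t
    have h5 := X5_mem k t
    have h6 := X6_mem k t
    have h7 := X7_mem k t
    have h8 := X8_mem k t
    have hT : ∀ x ∈ ({X 0, X 1 - 1, X 2, X 4, X 5 - C t, X 7} : Finset (Lie3Mod.D k)),
        x ∈ Ideal.span (↑({X 0, X 1 - 1, X 2, X 4, X 5 - C t, X 7} : Finset (Lie3Mod.D k)) :
          Set (Lie3Mod.D k)) ⊔ Lie3Mod.idJ k ⊔ mI k t * mI k t := fun x hx =>
      Ideal.mem_sup_left (Ideal.mem_sup_left (Ideal.subset_span hx))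
    have hJ' : ∀ x ∈ Lie3Mod.idJ k,
        x ∈ Ideal.span (↑({X 0, X 1 - 1, X 2, X 4, X 5 - C t, X 7} : Finset (Lie3Mod.D k)) :
          Set (Lie3Mod.D k)) ⊔ Lie3Mod.idJ k ⊔ mI k t * mI k t := fun x hx =>
      Ideal.mem_sup_left (Ideal.mem_sup_right hx)
    have hM : ∀ x ∈ mI k t * mI k t,
        x ∈ Ideal.span (↑({X 0, X 1 - 1, X 2, X 4, X 5 - C t, X 7} : Finset (Lie3Mod.D k)) :
          Set (Lie3Mod.D k)) ⊔ Lie3Mod.idJ k ⊔ mI k t * mI k t := fun x hx =>
      Ideal.mem_sup_right hx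
    unfold mI
    rw [Ideal.span_le]
    intro x hx
    simp only [Set.mem_insert_iff, Set.mem_singleton_iff] at hx
    rw [SetLike.mem_coe]
    change x ∈ Ideal.span (↑({X 0, X 1 - 1, X 2, X 4, X 5 - C t, X 7} : Finset (Lie3Mod.D k)) :
          Set (Lie3Mod.D k)) ⊔ Lie3Mod.idJ k ⊔ mI k t * mI k t
    rcases hx with rfl | rfl | rfl | rfl | rfl | rfl | rfl | rfl | rfl
    · exact hT _ (by simp)
    · exact hT _ (by simp)
    · exact hT _ (by simp)
    · rw [X3_eq k t]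
      refine add_mem (add_mem (hJ' _ hQ2) (Ideal.mul_mem_left _ _ (hT _ (by simp)))) (hM _ ?_)
      exact add_mem (add_mem (add_mem (key k t h8 h4) (key k t h1 h3)) (key k t h5 h7))
        (key k t h0 h4)
    · exact hT _ (by simp)
    · exact hT _ (by simp)
    · rw [X6_eq k t]
      refine add_mem (hJ' _ (neg_mem (add_mem hQ1 hdet))) (hM _ ?_)
      exact add_mem (add_mem (add_mem (add_mem (add_mem (add_mem (add_mem (add_mem (add_mem
        (add_mem (add_mem (add_mem (add_mem (key k t h0 h7) (key k t h3 h8)) (key k t h5 h6))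
        (key k t h1 h6)) (key k t h6 h5)) (key k t h6 h1)) (key k t h6 h1)) (key k t h2 h7))
        (key k t h4 h8)) (key k t h6 h4)) (key k t h7 h8)) (key k t h7 h8)) (key k t h8 h7))
        (key k t h8 h7)
    · exact hT _ (by simp)
    · rw [X8_eq k t]
      refine add_mem (add_mem (hJ' _ (neg_mem hQ3)) (Ideal.mul_mem_left _ _ (hT _ (by simp))))
        (hM _ ?_)
      exact add_mem (add_mem (add_mem (key k t h7 h2) (key k t h3 h2)) (key k t h0 h5))
        (key k t h1 h8)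

end Groth.Agent.H2.Lie3S
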