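import Mathlib
import Groth.Agent.Lib.Helper2.Lie3N

/-!
# Flatness over `ℤ` of the components of the moduli of based three-dimensional Lie algebras
-/

set_option autoImplicit false

namespace Groth.Agent.H2.Lie3

open Polynomial

/-- A ring that embeds, modulo `I`, into a characteristic-zero domain has `ℤ`-torsion-free
quotient by `I`. -/
theorem isTorsionFree_int_quotient_of_ker {R K : Type*} [CommRing R] [CommRing K] [IsDomain K]
    [CharZero K] (φ : R →+* K) (I : Ideal R) (h : RingHom.ker φ = I) :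
    Module.IsTorsionFree ℤ (R ⧸ I) := by
  have hI : ∀ a ∈ I, φ a = 0 := fun a ha => by rw [← h] at ha; exact ha
  have hinj : Function.Injective (Ideal.Quotient.lift I φ hI) :=
    RingHom.lift_injective_of_ker_le_ideal I hI (le_of_eq h)
  exact hinj.moduleIsTorsionFree _ (fun r m => map_zsmul _ r m)

/-- torsion-freeness of the quotient by an intersection. -/
theorem isTorsionFree_int_quotient_inf {R : Type*} [CommRing R] (J L : Ideal R)
    [Module.IsTorsionFree ℤ (R ⧸ J)] [Module.IsTorsionFree ℤ (R ⧸ L)] :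
    Module.IsTorsionFree ℤ (R ⧸ (J ⊓ L)) := by
  let φ : R →+* (R ⧸ J) × (R ⧸ L) := (Ideal.Quotient.mk J).prod (Ideal.Quotient.mk L)
  have hker : RingHom.ker φ = J ⊓ L := by
    ext a
    simp only [RingHom.mem_ker, Ideal.mem_inf, φ, RingHom.prod_apply, Prod.mk_eq_zero,
      Ideal.Quotient.eq_zero_iff_mem]
  have hI : ∀ a ∈ J ⊓ L, φ a = 0 := fun a ha => by rw [← hker] at ha; exact ha
  have hinj : Function.Injective (Ideal.Quotient.lift (J ⊓ L) φ hI) :=
    RingHom.lift_injective_of_ker_le_ideal (J ⊓ L) hI (le_of_eq hker)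
  exact hinj.moduleIsTorsionFree _ (fun r m => map_zsmul _ r m)

instance : CharZero (P6 ℤ) := inferInstanceAs (CharZero (MvPolynomial (Fin 6) ℤ))

instance isTorsionFree_idJ : Module.IsTorsionFree ℤ (Lie3Mod.D ℤ ⧸ Lie3Mod.idJ ℤ) :=
  isTorsionFree_int_quotient_of_ker (Phi ℤ) _ ker_Phi

instance isTorsionFree_idL : Module.IsTorsionFree ℤ (Lie3Mod.D ℤ ⧸ Lie3Mod.idL ℤ) :=
  isTorsionFree_int_quotient_of_ker (K := R3 ℤ) (EL ℤ) _ ker_EL

theorem flat_idJ : Module.Flat ℤ (Lie3Mod.D ℤ ⧸ Lie3Mod.idJ ℤ) := inferInstance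

theorem isTorsionFree_idI : Module.IsTorsionFree ℤ (Lie3Mod.D ℤ ⧸ Lie3Mod.idI ℤ) := by
  rw [idI_eq_inf]
  exact isTorsionFree_int_quotient_inf _ _

theorem flat_idI : Module.Flat ℤ (Lie3Mod.D ℤ ⧸ Lie3Mod.idI ℤ) := by
  have := isTorsionFree_idI
  infer_instance

theorem idI_isRadical : (Lie3Mod.idI ℤ).IsRadical := by
  rw [idI_eq_inf]
  exact Ideal.IsRadical.inf idJ_isPrime.isRadical idL_isPrime.isRadical

end Groth.Agent.H2.Lie3
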