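import Groth.Agent.Lib.Helper2.ARSys0
import Mathlib.Algebra.Category.ModuleCat.Limits
import Mathlib.CategoryTheory.Limits.ConcreteCategory.Basic
import Mathlib.RingTheory.Finiteness.Ideal

/-!
# Elements of the limit of a sequence of modules (helper2)
-/

set_option autoImplicit false
set_option linter.style.haveILetI false
universe u
open CategoryTheory Limits Opposite

namespace Groth.Agent.H2.LimAdic

open Groth.Agent.H2.AR ARSys

variable {A : Type u} [CommRing A] (Y : ℕᵒᵖ ⥤ ModuleCat.{u} A)

/-- the projections of the limit, as linear maps. -/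
noncomputable def πl (n : ℕ) : (limit Y : ModuleCat.{u} A) →ₗ[A] Y.obj (op n) :=
  (limit.π Y (op n)).hom

/-- the transition maps, as linear maps. -/
def trl {n k : ℕ} (h : n ≤ k) : Y.obj (op k) →ₗ[A] Y.obj (op n) := (tr Y h).hom

lemma trl_πl {n k : ℕ} (h : n ≤ k) (x : (limit Y : ModuleCat.{u} A)) :
    trl Y h (πl Y k x) = πl Y n x := by
  have := limit.w Y (homOfLE h).op
  exact congrArg (fun f => f.hom x) this

lemma trl_trl {n k l : ℕ} (h : n ≤ k) (h' : k ≤ l) (z : Y.obj (op l)) :
    trl Y h (trl Y h' z) = trl Y (h.trans h') z := by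
  have := tr_comp Y h h'
  exact congrArg (fun f => f.hom z) this

lemma trl_self (n : ℕ) (z : Y.obj (op n)) : trl Y (le_refl n) z = z := by
  have := tr_self Y n
  exact congrArg (fun f => f.hom z) this

lemma lim_ext (x x' : (limit Y : ModuleCat.{u} A)) (h : ∀ n, πl Y n x = πl Y n x') : x = x' := by
  apply Concrete.limit_ext
  intro j
  obtain ⟨n⟩ := j
  exact h n

lemma trl_of_succ (z : ∀ n, Y.obj (op n))
    (hz : ∀ n, trl Y (Nat.le_succ n) (z (n + 1)) = z n) {n k : ℕ} (h : n ≤ k) :
    trl Y h (z k) = z n := by
  induction k, h using Nat.le_induction with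
  | base => exact trl_self Y n _
  | succ k hk ih =>
    rw [← trl_trl Y hk (Nat.le_succ k), hz k, ih]

lemma lim_exists (z : ∀ n, Y.obj (op n))
    (hz : ∀ n, trl Y (Nat.le_succ n) (z (n + 1)) = z n) :
    ∃ x : (limit Y : ModuleCat.{u} A), ∀ n, πl Y n x = z n := by
  let c : Cone Y :=
    { pt := ModuleCat.of A A
      π :=
        { app := fun n => ModuleCat.ofHom (LinearMap.toSpanSingleton A _ (z n.unop))
          naturality := by
            intro i j f
            obtain ⟨k⟩ := i
            obtain ⟨n⟩ := j
            have h : n ≤ k := leOfHom f.unop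
            have hf : f = (homOfLE h).op := Subsingleton.elim _ _
            subst hf
            ext
            change (1 : A) • z n = trl Y h ((1 : A) • z k)
            rw [one_smul, one_smul, trl_of_succ Y z hz h] } }
  refine ⟨(limit.lift Y c).hom (1 : A), fun n => ?_⟩
  have h1 : limit.lift Y c ≫ limit.π Y (op n) = c.π.app (op n) := limit.lift_π c (op n)
  have h2 := congrArg (fun f => f.hom (1 : A)) h1
  change πl Y n ((limit.lift Y c).hom (1 : A)) = (1 : A) • z n at h2
  rw [h2, one_smul]

end Groth.Agent.H2.LimAdic
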