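import Groth.Agent.Lib.Helper2.LimSec1
import Groth.Agent.Lib.Helper2.LimAdic3
import Groth.Agent.Lib.Lead.FF.IdealMul
import Groth.Agent.Lib.Lead.QC.EpiLocal
import Groth.Prelude.Def_Formal2
import Mathlib.Algebra.Category.ModuleCat.Sheaf.Limits

/-!
# The limit of a quasi-coherent adic system (helper2)
-/

set_option autoImplicit false
set_option linter.style.haveILetI false
universe u
open CategoryTheory CategoryTheory.Limits AlgebraicGeometry Opposite TopologicalSpace TensorProduct

namespace Groth.Agent.H2.LimSec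

open Groth.Agent.LD.QC Groth.Agent.H2.Mum Groth.Agent.H2.FormalQ Groth.Agent.H2.FormalTF
  Groth.Agent.H2.FormalEq Groth.Agent.H2.LimAdic Groth.Agent.LD.FF

variable (A : Type u) [CommRing A] {X : Scheme.{u}} [X.Over (Spec (CommRingCat.of A))]

/-- sections over `U`, as a functor to `A`-modules. -/
noncomputable def secF (U : X.Opens) : X.Modules ⥤ ModuleCat.{u} A :=
  SheafOfModules.evaluation X.ringCatSheaf (op U) ⋙
    ModuleCat.restrictScalars (R := A) (S := X.ringCatSheaf.obj.obj (op U)) (ρ A U)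

lemma secF_map_apply (U : X.Opens) {N N' : X.Modules} (φ : N ⟶ N') (s : (secF A U).obj N) :
    ((secF A U).map φ).hom s = φ.app U (show Γ(N, U) from s) := rfl

lemma secF_smul (U : X.Opens) (N : X.Modules) (a : A) (s : (secF A U).obj N) :
    a • s = (show (secF A U).obj N from (a • (show SecA A N U from s) : SecA A N U)) := rfl

noncomputable instance (U : X.Opens) (G : ℕᵒᵖ ⥤ X.Modules) : PreservesLimit G (secF A U) := by
  unfold secF
  haveI h1 : PreservesLimitsOfShape ℕᵒᵖ (SheafOfModules.evaluation X.ringCatSheaf (op U)) :=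
    SheafOfModules.evaluationPreservesLimitsOfShape.{u} (R := X.ringCatSheaf) ℕᵒᵖ (op U)
  haveI h2 : PreservesLimit G (SheafOfModules.evaluation X.ringCatSheaf (op U)) :=
    h1.preservesLimit
  haveI h3 : PreservesLimit (G ⋙ SheafOfModules.evaluation X.ringCatSheaf (op U))
    (ModuleCat.restrictScalars (R := A) (S := X.ringCatSheaf.obj.obj (op U)) (ρ A U)) :=
      ModuleCat.preservesLimit_restrictScalars _ _
  exact comp_preservesLimit _ _

lemma secF_map_smulMod (U : X.Opens) (N : X.Modules) (b : A) (s : (secF A U).obj N) :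
    ((secF A U).map (Formal.smulMod A N b)).hom s = b • s := rfl

variable {A}

theorem adicSys_sec {I : Ideal A} {G : ℕᵒᵖ ⥤ X.Modules} (hG : Formal2.IsQCohFormal I G)
    (U : X.affineOpens) : AdicSys (G ⋙ secF A U.1) I where
  surj n := by
    haveI : (G.obj (op (n + 1))).IsQuasicoherent := hG.1 (n + 1)
    have hQ : IsQ (I ^ (n + 1)) (G.map (homOfLE (Nat.le_succ n)).op) := hG.2.2 n
    exact isQ_app_surjective hQ U
  ker n := by
    haveI : (G.obj (op (n + 1))).IsQuasicoherent := hG.1 (n + 1)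
    have hQ : IsQ (I ^ (n + 1)) (G.map (homOfLE (Nat.le_succ n)).op) := hG.2.2 n
    ext x
    rw [LinearMap.mem_ker]
    exact isQ_app_eq_zero_iff hQ U x
  kill n := by
    rw [eq_bot_iff, Submodule.smul_le]
    intro b hb s _
    have h1 := secF_map_smulMod A U.1 (G.obj (op n)) b s
    rw [hG.2.1 n b hb] at h1
    rw [← h1]
    change (0 : (secF A U.1).obj (G.obj (op n))) ∈ _
    exact Submodule.zero_mem _

/-- the comparison `Γ(U, lim G) ≅ lim Γ(U, G_n)`. -/
noncomputable def eU (G : ℕᵒᵖ ⥤ X.Modules) (U : X.Opens) :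
    (secF A U).obj (limit G) ≅ limit (G ⋙ secF A U) :=
  preservesLimitIso (secF A U) G

lemma eU_hom_π (G : ℕᵒᵖ ⥤ X.Modules) (U : X.Opens) (n : ℕ) (x : (secF A U).obj (limit G)) :
    πl (G ⋙ secF A U) n ((eU G U).hom.hom x) = (limit.π G (op n)).app U (show Γ(limit G, U) from x) := by
  have h := preservesLimitIso_hom_π (secF A U) G (op n)
  exact congrArg (fun f => f.hom x) h

lemma eU_inv_hom (G : ℕᵒᵖ ⥤ X.Modules) (U : X.Opens) (y : (limit (G ⋙ secF A U) : ModuleCat.{u} A)) :
    (eU G U).hom.hom ((eU G U).inv.hom y) = y :=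
  congrArg (fun f => f.hom y) (eU G U).inv_hom_id

lemma eU_hom_inv (G : ℕᵒᵖ ⥤ X.Modules) (U : X.Opens) (x : (secF A U).obj (limit G)) :
    (eU G U).inv.hom ((eU G U).hom.hom x) = x :=
  congrArg (fun f => f.hom x) (eU G U).hom_inv_id

end Groth.Agent.H2.LimSec
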