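import Groth.Agent.Lib.Lead.Taut

set_option autoImplicit false
universe u v
open LinTop Topology UniformSpace Filter Polynomial

namespace Groth.Agent.H2.LinHensel

open Groth.Agent.LD.TT

section
variable {A : Type u} [CommRing A] [UniformSpace A] [IsUniformAddGroup A] [IsTopologicalRing A]
  [IsLinearTopology A A] [T2Space A] [CompleteSpace A]

/-- multiples of powers of a topologically nilpotent element tend to zero. -/
theorem tendsto_of_mem_span_pow {e : A} (he : IsTopologicallyNilpotent e) (g : ℕ → A)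
    (hg : ∀ n, g n ∈ Ideal.span {e} ^ (n + 1)) : Tendsto g atTop (𝓝 0) := by
  rw [tendsto_def]
  intro U hU
  obtain ⟨U', hU'1, hU'2⟩ := exists_open_ideal_subset hU
  have h1 : ∀ᶠ n in atTop, e ^ n ∈ (U' : Set A) := he (open_ideal_mem_nhds hU'1)
  rw [Filter.eventually_atTop] at h1
  obtain ⟨N, hN⟩ := h1
  rw [Filter.mem_atTop_sets]
  refine ⟨N, fun n hn => hU'2 ?_⟩
  have h2 : Ideal.span {e} ^ (n + 1) ≤ U' := by
    rw [Ideal.span_singleton_pow, Ideal.span_le, Set.singleton_subset_iff]
    exact hN (n + 1) (by omega)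
  exact h2 (hg n)

theorem isUnit_one_sub_of_topNilpotent {t : A} (ht : IsTopologicallyNilpotent t) :
    IsUnit (1 - t) := by
  haveI : NonarchimedeanAddGroup A := nonarchimedeanAddGroup_of_linear
  let s : ℕ → A := fun n => ∑ i ∈ Finset.range n, t ^ i
  have hs : ∀ n, s (n + 1) - s n = t ^ n := fun n => by
    simp only [s, Finset.sum_range_succ]; ring
  have hcau : CauchySeq s := by
    apply NonarchimedeanAddGroup.cauchySeq_of_tendsto_sub_nhds_zero
    simp only [hs]
    exact ht
  obtain ⟨S, hS⟩ := cauchySeq_tendsto_of_complete hcau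
  have h1 : Tendsto (fun n => (1 - t) * s n) atTop (𝓝 ((1 - t) * S)) := hS.const_mul _
  have h2 : Tendsto (fun n => (1 - t) * s n) atTop (𝓝 1) := by
    have e : (fun n => (1 - t) * s n) = fun n => 1 - t ^ n := by
      funext n
      exact mul_neg_geom_sum t n
    rw [e]
    have : Tendsto (fun n => (1 : A) - t ^ n) atTop (𝓝 (1 - 0)) := tendsto_const_nhds.sub ht
    rwa [sub_zero] at this
  exact IsUnit.of_mul_eq_one _ (tendsto_nhds_unique h1 h2)

end

theorem S10148
    (A : Type u) [CommRing A] [UniformSpace A] [IsUniformAddGroup A] [IsTopologicalRing A]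
    (hA : LinTop.IsWeaklyAdmissible A) (I : Ideal A) (hI : LinTop.IsWeakIdealOfDefinition A I) :
    HenselianRing A I := by
  obtain ⟨⟨hlin, -⟩, hT2, hcomp⟩ := hA
  obtain ⟨hIopen, hInil⟩ := hI
  haveI := hlin
  haveI := hT2
  haveI := hcomp
  haveI : NonarchimedeanAddGroup A := nonarchimedeanAddGroup_of_linear
  have hjac : I ≤ Ideal.jacobson ⊥ := by
    intro x hx
    rw [Ideal.mem_jacobson_bot]
    intro y
    have h1 : IsTopologicallyNilpotent (-(x * y)) :=
      hInil _ (I.neg_mem (I.mul_mem_right y hx))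
    have h2 := isUnit_one_sub_of_topNilpotent h1
    have e : 1 - -(x * y) = x * y + 1 := by ring
    rwa [e] at h2
  refine ⟨hjac, ?_⟩
  intro f _ a₀ h₁ h₂
  set f' := derivative f with hf'
  set e₀ := f.eval a₀ with he₀
  have he₀nil : IsTopologicallyNilpotent e₀ := hInil _ h₁
  set J : Ideal A := Ideal.span {e₀} with hJ
  have hJI : J ≤ I := by rw [hJ, Ideal.span_le, Set.singleton_subset_iff]; exact h₁
  have hJpowI : ∀ n : ℕ, J ^ (n + 1) ≤ I := fun n =>
    (Ideal.pow_le_self (Nat.succ_ne_zero n)).trans hJI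
  -- units
  have hunit : ∀ b : A, b - a₀ ∈ I → IsUnit (f'.eval b) := by
    intro b hb
    have := isLocalHom_of_le_jacobson_bot I hjac
    apply IsUnit.of_map (Ideal.Quotient.mk I)
    convert! h₂ using 1
    have h3 : b ≡ a₀ [SMOD I] := by rw [SModEq.sub_mem]; exact hb
    exact SModEq.def.mp (h3.eval f')
  -- Newton step
  have hstep : ∀ (b : A) (n : ℕ), b - a₀ ∈ I → f.eval b ∈ J ^ (n + 1) →
      f.eval (b - f.eval b * Ring.inverse (f'.eval b)) ∈ J ^ (n + 2) ∧
        (b - f.eval b * Ring.inverse (f'.eval b)) - b ∈ J ^ (n + 1) := by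
    intro b n hb hfb
    set y := -(f.eval b * Ring.inverse (f'.eval b)) with hy
    have hyJ : y ∈ J ^ (n + 1) := (J ^ (n + 1)).neg_mem (Ideal.mul_mem_right _ _ hfb)
    have e1 : b - f.eval b * Ring.inverse (f'.eval b) = b + y := by rw [hy]; ring
    rw [e1]
    constructor
    · obtain ⟨c, hc⟩ := exists_mul_sq_add_linear_part_eq_eval_add f b y
      rw [← hc]
      have h4 : f'.eval b * y + f.eval b = 0 := by
        rw [hy, mul_neg, mul_left_comm, Ring.mul_inverse_cancel _ (hunit b hb), mul_one,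
          neg_add_cancel]
      rw [add_assoc, h4, add_zero]
      refine Ideal.mul_mem_left _ _ ?_
      have h5 : y ^ 2 ∈ (J ^ (n + 1)) ^ 2 := Ideal.pow_mem_pow hyJ 2
      rw [← pow_mul] at h5
      exact Ideal.pow_le_pow_right (by omega) h5
    · have : b + y - b = y := by ring
      rw [this]; exact hyJ
  -- the sequence
  let c : ℕ → A := fun n => Nat.rec a₀ (fun _ b => b - f.eval b * Ring.inverse (f'.eval b)) n
  have hc0 : c 0 = a₀ := rfl
  have hcs : ∀ n, c (n + 1) = c n - f.eval (c n) * Ring.inverse (f'.eval (c n)) := fun n => rfl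
  have hinv : ∀ n, c n - a₀ ∈ I ∧ f.eval (c n) ∈ J ^ (n + 1) := by
    intro n
    induction n with
    | zero =>
      rw [hc0, sub_self, zero_add, pow_one]
      exact ⟨I.zero_mem, Ideal.subset_span rfl⟩
    | succ n ih =>
      obtain ⟨h6, h7⟩ := hstep (c n) n ih.1 ih.2
      rw [← hcs] at h6 h7
      refine ⟨?_, h6⟩
      have e2 : c (n + 1) - a₀ = (c (n + 1) - c n) + (c n - a₀) := by ring
      rw [e2]
      exact I.add_mem (hJpowI n h7) ih.1
  have hdiff : ∀ n, c (n + 1) - c n ∈ J ^ (n + 1) := by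
    intro n
    have := (hstep (c n) n (hinv n).1 (hinv n).2).2
    rwa [← hcs] at this
  have hcau : CauchySeq c := by
    apply NonarchimedeanAddGroup.cauchySeq_of_tendsto_sub_nhds_zero
    exact tendsto_of_mem_span_pow he₀nil _ hdiff
  obtain ⟨a, ha⟩ := cauchySeq_tendsto_of_complete hcau
  refine ⟨a, ?_, ?_⟩
  · change f.eval a = 0
    have h8 : Tendsto (fun n => f.eval (c n)) atTop (𝓝 (f.eval a)) :=
      (f.continuous.tendsto a).comp ha
    have h9 : Tendsto (fun n => f.eval (c n)) atTop (𝓝 0) :=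
      tendsto_of_mem_span_pow he₀nil _ (fun n => (hinv n).2)
    exact tendsto_nhds_unique h8 h9
  · have hclosed : IsClosed (I : Set A) := ideal_isClosed_of_isOpen hIopen
    have h10 : Tendsto (fun n => c n - a₀) atTop (𝓝 (a - a₀)) := ha.sub tendsto_const_nhds
    exact hclosed.mem_of_tendsto h10 (Filter.Eventually.of_forall fun n => (hinv n).1)

end Groth.Agent.H2.LinHensel
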