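import Mathlib
import Groth.Agent.Lib.Helper6.Liai2
import Groth.Agent.Lib.Helper6.InjHullLocal

/-! Length duality in a zero-dimensional Gorenstein local ring: `ℓ(G/ann 𝔞) + ℓ(G/𝔞) = ℓ(G)`.
(helper2, Liaison S18873) -/

set_option autoImplicit false
universe u
open CategoryTheory CategoryTheory.Abelian InjHull

namespace Groth.Agent.H2.LinkDeg

section artin
variable {G : Type u} [CommRing G]

/-- evaluation at `1` of homomorphisms `G/𝔞 → G` -/
noncomputable def ev (𝔞 : Ideal G) : ((G ⧸ 𝔞) →ₗ[G] G) →ₗ[G] G :=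
  LinearMap.applyₗ (Ideal.Quotient.mk 𝔞 1)

theorem ev_apply (𝔞 : Ideal G) (φ : (G ⧸ 𝔞) →ₗ[G] G) : ev 𝔞 φ = φ (Ideal.Quotient.mk 𝔞 1) := rfl

theorem apply_mk (𝔞 : Ideal G) (φ : (G ⧸ 𝔞) →ₗ[G] G) (r : G) :
    φ (Ideal.Quotient.mk 𝔞 r) = r * φ (Ideal.Quotient.mk 𝔞 1) := by
  have : Ideal.Quotient.mk 𝔞 r = r • Ideal.Quotient.mk 𝔞 1 := by
    change _ = Ideal.Quotient.mk 𝔞 (r * 1)
    rw [mul_one]
  rw [this, map_smul, smul_eq_mul]

theorem ev_injective (𝔞 : Ideal G) : Function.Injective (ev 𝔞) := by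
  intro φ ψ h
  rw [ev_apply, ev_apply] at h
  refine LinearMap.ext fun x => ?_
  obtain ⟨r, rfl⟩ := Ideal.Quotient.mk_surjective x
  rw [apply_mk 𝔞 φ r, apply_mk 𝔞 ψ r, h]

theorem range_ev (𝔞 : Ideal G) :
    LinearMap.range (ev 𝔞) = (Submodule.annihilator (𝔞 : Submodule G G) : Submodule G G) := by
  ext y
  constructor
  · rintro ⟨φ, rfl⟩
    rw [Submodule.mem_annihilator]
    intro a ha
    rw [ev_apply, smul_eq_mul, mul_comm, ← apply_mk,
      Ideal.Quotient.eq_zero_iff_mem.mpr ha, map_zero]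
  · intro hy
    rw [Submodule.mem_annihilator] at hy
    have hker : 𝔞 ≤ LinearMap.ker (LinearMap.toSpanSingleton G G y) := by
      intro a ha
      rw [LinearMap.mem_ker, LinearMap.toSpanSingleton_apply, smul_eq_mul, mul_comm]
      exact hy a ha
    refine ⟨Submodule.liftQ 𝔞 (LinearMap.toSpanSingleton G G y) hker, ?_⟩
    rw [ev_apply]
    change Submodule.liftQ 𝔞 (LinearMap.toSpanSingleton G G y) hker
      (Submodule.Quotient.mk (1 : G)) = y
    rw [Submodule.liftQ_apply, LinearMap.toSpanSingleton_apply, one_smul]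

theorem length_hom_quot (𝔞 : Ideal G) :
    Module.length G ((G ⧸ 𝔞) →ₗ[G] G) =
      Module.length G ↥(Submodule.annihilator (𝔞 : Submodule G G)) := by
  rw [(LinearEquiv.ofInjective (ev 𝔞) (ev_injective 𝔞)).length_eq, range_ev]

/-- **length duality** in a zero-dimensional Gorenstein local ring -/
theorem length_quot_annihilator_add [LocCoh.IsGorensteinLocalRing G]
    (hd : ringKrullDim G = (0 : ℕ)) (𝔞 : Ideal G) :
    Module.length G (G ⧸ Submodule.annihilator (𝔞 : Submodule G G)) + Module.length G (G ⧸ 𝔞) =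
      Module.length G G := by
  obtain ⟨N, hN⟩ := LocCoh.IsGorensteinLocalRing.exists_hasInjectiveDimensionLT (A := G)
  have h1 := Groth.Agent.H6.Bass.hasInjectiveDimensionLT_of_gorenstein N hN 0 hd
  rw [zero_add] at h1
  haveI : Injective (ModuleCat.of G G) := injective_iff_hasInjectiveDimensionLT_one.mpr h1
  haveI : Module.Injective G G := Module.injective_module_of_injective_object G (ModuleCat.of G G)
  obtain ⟨p, hp, f, hf⟩ := Groth.Agent.H6.IH.exists_hull_quot_of_indecomposable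
    (Groth.Agent.H6.GorLC.indecomposable_self (R := G))
  haveI hK : Ring.KrullDimLE 0 G := Ring.krullDimLE_iff.mpr (le_of_eq hd)
  have hpm : p = IsLocalRing.maximalIdeal G :=
    IsLocalRing.eq_maximalIdeal (Ideal.isMaximal_of_isPrime p)
  subst hpm
  haveI : IsArtinianRing G := IsNoetherianRing.isArtinianRing_of_krullDimLE_zero
  have hfl : IsFiniteLength G (G ⧸ 𝔞) := by
    rw [isFiniteLength_iff_isNoetherian_isArtinian]
    exact ⟨inferInstance, inferInstance⟩
  have h2 := Groth.Agent.H6.IH.length_hom_eq hf (G ⧸ 𝔞) hfl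
  rw [length_hom_quot] at h2
  rw [← h2, add_comm]
  exact (Module.length_eq_add_of_exact (Submodule.subtype _) (Submodule.mkQ _)
    (Submodule.injective_subtype _) (Submodule.mkQ_surjective _)
    (LinearMap.exact_subtype_mkQ _)).symm

end artin

end Groth.Agent.H2.LinkDeg
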