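import Mathlib
import Groth.Agent.Lib.Helper2.HilbMult1

/-! `lam p I` as the length of the Artinian local ring `A_p / I A_p`.  (helper2, Liaison S18873) -/

set_option autoImplicit false
universe u v

namespace Groth.Agent.H2.LinkDeg
open Groth.Agent.H2.HilbDim

section lam
variable {A : Type v} [CommRing A]

theorem lam_eq_length_quot (p : PrimeSpectrum A) (I : Ideal A) :
    lam p I = Module.length (Localization.AtPrime p.asIdeal)
      (Localization.AtPrime p.asIdeal ⧸ I.map (algebraMap A (Localization.AtPrime p.asIdeal))) := by
  unfold lam
  have e1 := (IsLocalizedModule.linearEquiv p.asIdeal.primeCompl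
    (LocalizedModule.mkLinearMap p.asIdeal.primeCompl (A ⧸ I))
    (I.toLocalizedQuotient' (Localization.AtPrime p.asIdeal) p.asIdeal.primeCompl
      (Algebra.linearMap A (Localization.AtPrime p.asIdeal)))).restrictScalars
      (Localization.AtPrime p.asIdeal)
  have h2 : Submodule.localized' (Localization.AtPrime p.asIdeal) p.asIdeal.primeCompl
      (Algebra.linearMap A (Localization.AtPrime p.asIdeal)) I =
      I.map (algebraMap A (Localization.AtPrime p.asIdeal)) := by
    rw [Submodule.localized'_eq_span]
    rfl
  rw [e1.length_eq, (Submodule.quotEquivOfEq _ _ h2).length_eq]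

/-- the length of `(A/I)_p` is the length of the ring `A_p / I A_p` -/
theorem lam_eq_length_ring (p : PrimeSpectrum A) (I : Ideal A) :
    lam p I = Module.length
      (Localization.AtPrime p.asIdeal ⧸ I.map (algebraMap A (Localization.AtPrime p.asIdeal)))
      (Localization.AtPrime p.asIdeal ⧸ I.map (algebraMap A (Localization.AtPrime p.asIdeal))) := by
  rw [lam_eq_length_quot]
  exact Module.length_eq_of_surjective Ideal.Quotient.mk_surjective

end lam

section ringEquiv
variable {R₁ R₂ : Type*} [CommRing R₁] [CommRing R₂]

/-- the length of a ring over itself is invariant under ring isomorphisms -/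
theorem length_self_eq_of_ringEquiv (e : R₁ ≃+* R₂) :
    Module.length R₁ R₁ = Module.length R₂ R₂ := by
  apply WithBot.coe_injective
  rw [Module.coe_length, Module.coe_length]
  exact Order.krullDim_eq_of_orderIso (RingEquiv.idealComapOrderIso e).symm

end ringEquiv

end Groth.Agent.H2.LinkDeg
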