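import Mathlib
import Groth.Agent.Lib.Helper2.LinkDeg2

/-! `lam` is compatible with passing to a quotient ring.  (helper2, Liaison S18873) -/

set_option autoImplicit false
universe u v

namespace Groth.Agent.H2.LinkDeg
open Groth.Agent.H2.HilbDim

section quot
variable {A : Type v} [CommRing A] (𝔠 : Ideal A)

/-- the image of a prime containing `𝔠` in `A/𝔠` -/
def barPrime (p : PrimeSpectrum A) (h : 𝔠 ≤ p.asIdeal) : PrimeSpectrum (A ⧸ 𝔠) :=
  ⟨p.asIdeal.map (Ideal.Quotient.mk 𝔠),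
    Ideal.map_isPrime_of_surjective Ideal.Quotient.mk_surjective (by rwa [Ideal.mk_ker])⟩

theorem mk_mem_barPrime_iff (p : PrimeSpectrum A) (h : 𝔠 ≤ p.asIdeal) (a : A) :
    Ideal.Quotient.mk 𝔠 a ∈ (barPrime 𝔠 p h).asIdeal ↔ a ∈ p.asIdeal := by
  change Ideal.Quotient.mk 𝔠 a ∈ p.asIdeal.map (Ideal.Quotient.mk 𝔠) ↔ _
  rw [Ideal.mem_map_iff_of_surjective _ Ideal.Quotient.mk_surjective]
  constructor
  · rintro ⟨b, hb, hab⟩
    have : a - b ∈ 𝔠 := by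
      rw [← Ideal.Quotient.eq_zero_iff_mem, map_sub, hab, sub_self]
    have h2 := Ideal.add_mem _ (h this) hb
    rwa [sub_add_cancel] at h2
  · intro ha
    exact ⟨a, ha, rfl⟩

theorem lam_bar (p : PrimeSpectrum A) (h : 𝔠 ≤ p.asIdeal) (I : Ideal A) (hI : 𝔠 ≤ I) :
    lam p I = lam (barPrime 𝔠 p h) (I.map (Ideal.Quotient.mk 𝔠)) := by
  rw [lam_eq_length_ring, lam_eq_length_ring]
  symm
  apply length_self_eq_of_ringEquiv
  refine IsLocalization.ringEquivOfRingEquiv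
    (M := Algebra.algebraMapSubmonoid ((A ⧸ 𝔠) ⧸ I.map (Ideal.Quotient.mk 𝔠))
      (barPrime 𝔠 p h).asIdeal.primeCompl)
    (T := Algebra.algebraMapSubmonoid (A ⧸ I) p.asIdeal.primeCompl) _ _
    (DoubleQuot.quotQuotEquivQuotOfLE hI) ?_
  ext y
  constructor
  · rintro ⟨x, ⟨b, hb, rfl⟩, rfl⟩
    obtain ⟨a, rfl⟩ := Ideal.Quotient.mk_surjective b
    refine ⟨a, ?_, ?_⟩
    · intro ha
      exact hb ((mk_mem_barPrime_iff 𝔠 p h a).mpr ha)
    · exact (DoubleQuot.quotQuotEquivQuotOfLE_quotQuotMk a hI).symm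
  · rintro ⟨a, ha, rfl⟩
    refine ⟨DoubleQuot.quotQuotMk 𝔠 I a, ⟨Ideal.Quotient.mk 𝔠 a, ?_, rfl⟩, ?_⟩
    · intro hb
      exact ha ((mk_mem_barPrime_iff 𝔠 p h a).mp hb)
    · exact DoubleQuot.quotQuotEquivQuotOfLE_quotQuotMk a hI

end quot

end Groth.Agent.H2.LinkDeg
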