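import Mathlib
import Groth.Agent.Lib.Helper2.LinkDeg1
import Groth.Agent.Lib.Helper2.LinkDeg3

/-! The local length identity of liaison: `λ_p(𝔠 : I) + λ_p(I) = λ_p(𝔠)` at a minimal prime `p` of
`𝔠` where `A/𝔠` is Gorenstein.  (helper2, Liaison S18873) -/

set_option autoImplicit false
universe u v

namespace Groth.Agent.H2.LinkDeg
open Groth.Agent.H2.HilbDim

section ann
variable {B : Type u} [CommRing B] [IsNoetherianRing B]

/-- annihilators of ideals commute with localization (Noetherian case) -/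
theorem map_annihilator (M : Submonoid B) (G : Type*) [CommRing G] [Algebra B G]
    [IsLocalization M G] (𝔞 : Ideal B) :
    (Submodule.annihilator (𝔞 : Submodule B B)).map (algebraMap B G) =
      Submodule.annihilator ((𝔞.map (algebraMap B G) : Ideal G) : Submodule G G) := by
  classical
  apply le_antisymm
  · rw [Ideal.map_le_iff_le_comap]
    intro y hy
    rw [Ideal.mem_comap]
    unfold Ideal.map
    rw [Submodule.mem_annihilator_span]
    rintro ⟨_, a, ha, rfl⟩
    have h0 := (Submodule.mem_annihilator.mp hy) a ha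
    rw [smul_eq_mul] at h0
    rw [smul_eq_mul, ← map_mul, h0, map_zero]
  · intro z hz
    rw [Submodule.mem_annihilator] at hz
    obtain ⟨y, s, rfl⟩ := IsLocalization.exists_mk'_eq M z
    have h1 : ∀ a ∈ 𝔞, ∃ t : M, (t : B) * (y * a) = 0 := by
      intro a ha
      apply (IsLocalization.map_eq_zero_iff M G _).mp
      have := hz (algebraMap B G a) (Ideal.mem_map_of_mem _ ha)
      rw [smul_eq_mul] at this
      have h2 : algebraMap B G (y * a) =
          algebraMap B G s * (IsLocalization.mk' G y s * algebraMap B G a) := by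
        rw [← mul_assoc, mul_comm (algebraMap B G s), IsLocalization.mk'_spec, map_mul]
      rw [h2, this, mul_zero]
    obtain ⟨S, hS⟩ := (isNoetherianRing_iff_ideal_fg B).mp inferInstance 𝔞
    have h2 : ∀ T : Finset B, (∀ a ∈ T, a ∈ 𝔞) →
        ∃ t : M, ∀ a ∈ T, (t : B) * (y * a) = 0 := by
      intro T
      induction T using Finset.induction_on with
      | empty => intro _; exact ⟨1, by simp⟩
      | insert b T hb ih =>
        intro hT
        obtain ⟨t1, ht1⟩ := ih (fun a ha => hT a (Finset.mem_insert_of_mem ha))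
        obtain ⟨t2, ht2⟩ := h1 b (hT b (Finset.mem_insert_self b T))
        refine ⟨t1 * t2, fun a ha => ?_⟩
        rcases Finset.mem_insert.mp ha with rfl | ha
        · rw [Submonoid.coe_mul, mul_assoc, ht2, mul_zero]
        · rw [Submonoid.coe_mul, mul_comm (t1 : B), mul_assoc, ht1 a ha, mul_zero]
    obtain ⟨t, ht⟩ := h2 S (fun a ha => by rw [← hS]; exact Ideal.subset_span ha)
    have h3 : (t : B) * y ∈ Submodule.annihilator (𝔞 : Submodule B B) := by
      rw [Submodule.mem_annihilator]
      intro a ha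
      rw [← hS] at ha
      refine Submodule.span_induction (p := fun a _ => ((t : B) * y) • a = 0) ?_ ?_ ?_ ?_ ha
      · intro a ha
        rw [smul_eq_mul, mul_assoc]
        exact ht a ha
      · simp
      · intro a b _ _ ha hb
        rw [smul_add, ha, hb, add_zero]
      · intro a b _ hb
        rw [smul_comm, hb, smul_zero]
    rw [IsLocalization.mk'_mem_map_algebraMap_iff M]
    exact ⟨t, t.2, h3⟩

/-- the length identity at a minimal prime with Gorenstein localization -/
theorem lam_ann_add (q : PrimeSpectrum B) (hq : q.asIdeal ∈ minimalPrimes B)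
    [LocCoh.IsGorensteinLocalRing (Localization.AtPrime q.asIdeal)] (𝔞 : Ideal B) :
    lam q (Submodule.annihilator (𝔞 : Submodule B B)) + lam q 𝔞 = lam q ⊥ := by
  have hd : ringKrullDim (Localization.AtPrime q.asIdeal) = (0 : ℕ) := by
    rw [IsLocalization.AtPrime.ringKrullDim_eq_height q.asIdeal (Localization.AtPrime q.asIdeal),
      Ideal.height_eq_zero_iff.mpr hq]
    rfl
  rw [lam_eq_length_quot, lam_eq_length_quot, lam_eq_length_quot,
    map_annihilator q.asIdeal.primeCompl (Localization.AtPrime q.asIdeal) 𝔞,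
    length_quot_annihilator_add hd, Ideal.map_bot]
  exact (Submodule.quotEquivOfEqBot _ rfl).length_eq.symm

end ann

section colon
variable {A : Type u} [CommRing A] [IsNoetherianRing A]

theorem map_colon_eq_annihilator (𝔠 I : Ideal A) :
    (𝔠.colon (I : Set A)).map (Ideal.Quotient.mk 𝔠) =
      Submodule.annihilator
        ((I.map (Ideal.Quotient.mk 𝔠) : Ideal (A ⧸ 𝔠)) : Submodule (A ⧸ 𝔠) (A ⧸ 𝔠)) := by
  apply le_antisymm
  · rw [Ideal.map_le_iff_le_comap]
    intro x hx
    rw [Ideal.mem_comap, Submodule.mem_annihilator]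
    intro b hb
    rw [Ideal.mem_map_iff_of_surjective _ Ideal.Quotient.mk_surjective] at hb
    obtain ⟨a, ha, rfl⟩ := hb
    rw [smul_eq_mul, ← map_mul, Ideal.Quotient.eq_zero_iff_mem]
    have := (Submodule.mem_colon.mp hx) a ha
    rwa [smul_eq_mul] at this
  · intro b hb
    obtain ⟨x, rfl⟩ := Ideal.Quotient.mk_surjective b
    apply Ideal.mem_map_of_mem
    rw [Submodule.mem_colon]
    intro a ha
    rw [smul_eq_mul, ← Ideal.Quotient.eq_zero_iff_mem, map_mul]
    have := (Submodule.mem_annihilator.mp hb) (Ideal.Quotient.mk 𝔠 a) (Ideal.mem_map_of_mem _ ha)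
    rwa [smul_eq_mul] at this

theorem le_colon_self (𝔠 I : Ideal A) : 𝔠 ≤ 𝔠.colon (I : Set A) := by
  intro x hx
  rw [Submodule.mem_colon]
  intro a _
  rw [smul_eq_mul]
  exact Ideal.mul_mem_right _ _ hx

theorem barPrime_mem_minimalPrimes (𝔠 : Ideal A) (p : PrimeSpectrum A)
    (hp : p.asIdeal ∈ 𝔠.minimalPrimes) :
    (barPrime 𝔠 p hp.1.2).asIdeal ∈ minimalPrimes (A ⧸ 𝔠) := by
  rw [Ideal.minimalPrimes_eq_comap] at hp
  obtain ⟨P', hP', hP'p⟩ := hp
  change p.asIdeal.map (Ideal.Quotient.mk 𝔠) ∈ minimalPrimes (A ⧸ 𝔠)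
  rw [← hP'p, Ideal.map_comap_of_surjective _ Ideal.Quotient.mk_surjective]
  exact hP'

/-- **the local length identity of liaison** -/
theorem lam_colon_add (𝔠 I : Ideal A) (h𝔠I : 𝔠 ≤ I) (p : PrimeSpectrum A)
    (hp : p.asIdeal ∈ 𝔠.minimalPrimes)
    [LocCoh.IsGorensteinLocalRing (Localization.AtPrime (barPrime 𝔠 p hp.1.2).asIdeal)] :
    lam p (𝔠.colon (I : Set A)) + lam p I = lam p 𝔠 := by
  rw [lam_bar 𝔠 p hp.1.2 _ (le_colon_self 𝔠 I), lam_bar 𝔠 p hp.1.2 I h𝔠I,
    lam_bar 𝔠 p hp.1.2 𝔠 le_rfl, map_colon_eq_annihilator, Ideal.map_quotient_self]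
  exact lam_ann_add _ (barPrime_mem_minimalPrimes 𝔠 p hp) _

end colon

end Groth.Agent.H2.LinkDeg
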