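import Mathlib
import Groth.Prelude.Def_GrSyz
import Groth.Prelude.Def_GrLC
import Groth.Agent.Lib.Helper2.GrSyzBasic
import Groth.Agent.Lib.Helper2.GrSyzBetti1
import Groth.Agent.Lib.Helper2.StdGrDim

/-! The coordinate ring of a finite set of points of the projective plane, as a graded module:
its Hilbert function is bounded by the number of points, it vanishes in negative degrees, and a
single homogeneous generator has degree zero. -/

universe u

namespace Groth.Agent.H2.PtsRes

open MvPolynomial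

section Hom

variable {R : Type u} [CommRing R] {σ' : Type u} [SetLike σ' R] [AddSubgroupClass σ' R]
variable (𝒜 : ℤ → σ') [GradedRing 𝒜]
variable {M : Type u} [AddCommGroup M] [Module R M] {τ : Type u} [SetLike τ M]
  [AddSubgroupClass τ M] (ℳ : ℤ → τ) [DirectSum.Decomposition ℳ]

lemma decompose_map {f : R →ₗ[R] M} (hf : GrLC.IsGrHom 𝒜 ℳ f) (x : R) (j : ℤ) :
    (DirectSum.decompose ℳ (f x) j : M) = f (DirectSum.decompose 𝒜 x j) := by
  classical
  conv_lhs => rw [← DirectSum.sum_support_decompose 𝒜 x]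
  rw [map_sum, DirectSum.decompose_sum, DFinsupp.finsetSum_apply, AddSubmonoidClass.coe_finsetSum]
  by_cases hj : j ∈ (DirectSum.decompose 𝒜 x).support
  · rw [Finset.sum_eq_single_of_mem j hj]
    · exact DirectSum.decompose_of_mem_same ℳ (hf j _ (SetLike.coe_mem _))
    · intro i _ hi
      exact DirectSum.decompose_of_mem_ne ℳ (hf i _ (SetLike.coe_mem _)) hi
  · have h0 : (DirectSum.decompose 𝒜 x j : R) = 0 := by
      rw [DFinsupp.notMem_support_iff] at hj
      rw [hj]
      rfl
    rw [h0, map_zero]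
    apply Finset.sum_eq_zero
    intro i hi
    refine DirectSum.decompose_of_mem_ne ℳ (hf i _ (SetLike.coe_mem _)) ?_
    rintro rfl
    exact hj hi

end Hom

section Std

variable {k : Type u} [Field k] {σ : Type*}

lemma isHomogeneous_of_mem_stdGr {n : ℕ} {p : MvPolynomial σ k}
    (hp : p ∈ GrSyz.stdGr k σ (n : ℤ)) : p.IsHomogeneous n := by
  intro d hd
  have h := hp hd
  rw [Finsupp.weight_apply, Finsupp.sum] at h ⊢
  simp only [smul_eq_mul, mul_one, Pi.one_apply, nsmul_eq_mul] at h ⊢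
  exact_mod_cast h

lemma eq_zero_of_mem_stdGr_neg {d : ℤ} (hd : d < 0) {p : MvPolynomial σ k}
    (hp : p ∈ GrSyz.stdGr k σ d) : p = 0 := by
  by_contra h
  have := GrSyzBasic.deg_nonneg_of_mem_stdGr hp h
  omega

end Std

section Points

variable {k : Type u} [Field k] (Z : Finset (Fin 3 → k)) (I : Ideal (MvPolynomial (Fin 3) k))
  (hI : ∀ f : MvPolynomial (Fin 3) k, f ∈ I ↔
    ∀ p ∈ Z, ∀ j : ℕ, eval p (homogeneousComponent j f) = 0)

include hI

lemma mem_I_of_eval {d : ℤ} {g : MvPolynomial (Fin 3) k} (hg : g ∈ GrSyz.stdGr k (Fin 3) d)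
    (h : ∀ p ∈ Z, eval p g = 0) : g ∈ I := by
  by_cases h0 : g = 0
  · rw [h0]
    exact I.zero_mem
  · have hd := GrSyzBasic.deg_nonneg_of_mem_stdGr hg h0
    obtain ⟨n, rfl⟩ := Int.eq_ofNat_of_zero_le hd
    have hh := isHomogeneous_of_mem_stdGr hg
    rw [hI]
    intro p hp j
    rw [homogeneousComponent_of_mem ((mem_homogeneousSubmodule n g).2 hh)]
    split_ifs
    · exact h p hp
    · simp

lemma one_notMem (hZne : Z.Nonempty) : (1 : MvPolynomial (Fin 3) k) ∉ I := by
  rw [hI]
  intro h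
  obtain ⟨p, hp⟩ := hZne
  have := h p hp 0
  rw [homogeneousComponent_zero] at this
  simp at this

variable {M : Type u} [AddCommGroup M] [Module k M] [Module (MvPolynomial (Fin 3) k) M]
  [IsScalarTower k (MvPolynomial (Fin 3) k) M]
  (ℳ : ℤ → Submodule k M) [DirectSum.Decomposition ℳ]
  [SetLike.GradedSMul (GrSyz.stdGr k (Fin 3)) ℳ]
  (π : MvPolynomial (Fin 3) k →ₗ[MvPolynomial (Fin 3) k] M) (hπ : Function.Surjective π)
  (hπg : GrLC.IsGrHom (GrSyz.stdGr k (Fin 3)) ℳ π) (hker : LinearMap.ker π = I)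

include hπ hπg

omit hI in
lemma exists_preimage {d : ℤ} {m : M} (hm : m ∈ ℳ d) :
    ∃ g ∈ GrSyz.stdGr k (Fin 3) d, π g = m := by
  obtain ⟨g, rfl⟩ := hπ m
  refine ⟨DirectSum.decompose (GrSyz.stdGr k (Fin 3)) g d, SetLike.coe_mem _, ?_⟩
  rw [← decompose_map (GrSyz.stdGr k (Fin 3)) ℳ hπg g d]
  exact DirectSum.decompose_of_mem_same ℳ hm

omit hI in
lemma gr_neg {d : ℤ} (hd : d < 0) {m : M} (hm : m ∈ ℳ d) : m = 0 := by
  obtain ⟨g, hg, rfl⟩ := exists_preimage ℳ π hπ hπg hm
  rw [eq_zero_of_mem_stdGr_neg hd hg, map_zero]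

include hker

lemma pi_one_ne_zero (hZne : Z.Nonempty) : π 1 ≠ 0 := by
  intro h
  apply one_notMem Z I hI hZne
  rw [← hker]
  exact h

lemma finrank_le_card (d : ℤ) : Module.finrank k (ℳ d) ≤ Z.card := by
  classical
  haveI : FiniteDimensional k (GrSyz.stdGr k (Fin 3) d) :=
    StdGrDim.finiteDimensional_stdGr k 2 d
  let f : GrSyz.stdGr k (Fin 3) d →ₗ[k] ℳ d :=
    LinearMap.codRestrict (ℳ d) ((π.restrictScalars k).domRestrict (GrSyz.stdGr k (Fin 3) d))
      (fun x => hπg d x.1 x.2)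
  let ev : GrSyz.stdGr k (Fin 3) d →ₗ[k] (Z → k) :=
    LinearMap.pi (fun p => ((aeval (R := k) p.1).toLinearMap).domRestrict
      (GrSyz.stdGr k (Fin 3) d))
  have hf : ∀ x, ((f x : ℳ d) : M) = π x.1 := fun x => rfl
  have hev : ∀ x (p : Z), ev x p = eval p.1 x.1 := fun x p => by
    show aeval p.1 x.1 = _
    exact congrFun (aeval_eq_eval (p.1)) x.1
  have hsurj : Function.Surjective f := by
    intro m
    obtain ⟨g, hg, hgm⟩ := exists_preimage ℳ π hπ hπg m.2
    exact ⟨⟨g, hg⟩, Subtype.ext hgm⟩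
  have hle : LinearMap.ker ev ≤ LinearMap.ker f := by
    intro x hx
    rw [LinearMap.mem_ker] at hx ⊢
    apply Subtype.ext
    rw [hf]
    have hxI : x.1 ∈ I := mem_I_of_eval Z I hI x.2 (fun p hp => by
      have := congrFun hx ⟨p, hp⟩
      rw [hev] at this
      exact this)
    rw [← hker] at hxI
    exact hxI
  have h1 := LinearMap.finrank_range_add_finrank_ker f
  have h2 := LinearMap.finrank_range_add_finrank_ker ev
  rw [LinearMap.range_eq_top.2 hsurj, finrank_top] at h1
  have h3 : Module.finrank k (LinearMap.ker ev) ≤ Module.finrank k (LinearMap.ker f) :=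
    Submodule.finrank_mono hle
  have h4 : Module.finrank k (LinearMap.range ev) ≤ Module.finrank k (Z → k) :=
    Submodule.finrank_le _
  rw [Module.finrank_fintype_fun_eq_card, Fintype.card_coe] at h4
  omega

/-- With a single homogeneous generator, the generator has degree zero. -/
lemma deg0_eq_zero (hZne : Z.Nonempty) (F : GrSyz.FreeRes (GrSyz.stdGr k (Fin 3)) ℳ)
    (h0 : F.rk 0 = 1) (c : Fin (F.rk 0)) : F.deg 0 c = 0 := by
  have hsub : ∀ b : Fin (F.rk 0), b = c := by
    intro b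
    apply Fin.ext
    have h1 := b.2
    have h2 := c.2
    omega
  have hne := pi_one_ne_zero Z I hI ℳ π hπ hπg hker hZne
  obtain ⟨v, hv⟩ := F.aug_surjective (π 1)
  rw [Fintype.linearCombination_apply] at hv
  apply le_antisymm
  · by_contra hlt
    rw [not_le] at hlt
    apply hne
    have h1 : π 1 ∈ ℳ 0 := hπg 0 1 (SetLike.GradedOne.one_mem)
    have h2 := GrSyzBetti.decompose_sum_smul (GrSyz.stdGr k (Fin 3)) ℳ (F.deg 0) F.aug F.aug_mem v 0
    rw [hv, DirectSum.decompose_of_mem_same ℳ h1] at h2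
    rw [h2]
    apply Finset.sum_eq_zero
    intro b _
    have hb : (0 : ℤ) - F.deg 0 b < 0 := by
      rw [hsub b]
      omega
    have : GradedRing.proj (GrSyz.stdGr k (Fin 3)) (0 - F.deg 0 b) (v b) = 0 :=
      eq_zero_of_mem_stdGr_neg hb (by
        rw [GradedRing.proj_apply]
        exact SetLike.coe_mem _)
    rw [this, zero_smul]
  · by_contra hlt
    rw [not_le] at hlt
    apply hne
    rw [← hv]
    apply Finset.sum_eq_zero
    intro b _
    have hb : F.aug b = 0 := by
      have := F.aug_mem b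
      rw [hsub b] at this ⊢
      exact gr_neg ℳ π hπ hπg hlt this
    rw [hb, smul_zero]

end Points

end Groth.Agent.H2.PtsRes
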