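import Mathlib
import Groth.Prelude.Def_GrSyz
import Groth.Agent.Lib.Helper2.LinkDeg4
import Groth.Agent.Lib.Helper2.HilbMult2
import Groth.Agent.Lib.Helper2.HilbMult3
import Groth.Agent.Lib.Helper2.HilbDim5
import Groth.Agent.Lib.Helper2.GrCI1
import Groth.Agent.Lib.Helper2.CInt2
import Groth.Agent.Lib.Helper2.PtsRes3

/-! Degrees of linked ideals: `deg (𝔠 : I) = deg 𝔠 - deg I` for a Gorenstein ideal `𝔠 ⊆ I` of the
same height in a polynomial ring.  (helper2, Liaison S18873) -/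

set_option autoImplicit false
universe u v

namespace Groth.Agent.H2.LinkDeg
open Groth.Agent.H2.HilbDim Groth.Agent.H2.HilbHyper

attribute [local instance] MvPolynomial.gradedAlgebra

section std
variable (K : Type u) [Field K] (σ : Type)

theorem stdGr_natCast (j : ℕ) :
    GrSyz.stdGr K σ (j : ℤ) = MvPolynomial.homogeneousSubmodule σ K j := by
  ext p
  constructor
  · intro hp
    exact (MvPolynomial.mem_homogeneousSubmodule j p).mpr
      (Groth.Agent.H2.PtsRes.isHomogeneous_of_mem_stdGr hp)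
  · intro hp
    rw [MvPolynomial.mem_homogeneousSubmodule] at hp
    intro d hd
    have h := hp hd
    rw [Finsupp.weight_apply, Finsupp.sum] at h ⊢
    simp only [smul_eq_mul, mul_one, Pi.one_apply, nsmul_eq_mul] at h ⊢
    exact_mod_cast h

theorem decompose_stdGr (r : MvPolynomial σ K) (i : ℕ) :
    (DirectSum.decompose (GrSyz.stdGr K σ) r (i : ℤ) : MvPolynomial σ K) =
      (DirectSum.decompose (MvPolynomial.homogeneousSubmodule σ K) r i : MvPolynomial σ K) := by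
  classical
  conv_lhs => rw [← DirectSum.sum_support_decompose (MvPolynomial.homogeneousSubmodule σ K) r]
  rw [DirectSum.decompose_sum, DFinsupp.finsetSum_apply, AddSubmonoidClass.coe_finsetSum]
  have hmem : ∀ i' : ℕ,
      ((DirectSum.decompose (MvPolynomial.homogeneousSubmodule σ K) r i' :
        MvPolynomial.homogeneousSubmodule σ K i') : MvPolynomial σ K) ∈
        GrSyz.stdGr K σ (i' : ℤ) := by
    intro i'
    rw [stdGr_natCast]
    exact SetLike.coe_mem _
  by_cases hi : i ∈ (DirectSum.decompose (MvPolynomial.homogeneousSubmodule σ K) r).support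
  · rw [Finset.sum_eq_single_of_mem i hi]
    · exact DirectSum.decompose_of_mem_same _ (hmem i)
    · intro i' _ hne
      exact DirectSum.decompose_of_mem_ne _ (hmem i') (by exact_mod_cast hne)
  · have h0 : ((DirectSum.decompose (MvPolynomial.homogeneousSubmodule σ K) r i :
        MvPolynomial.homogeneousSubmodule σ K i) : MvPolynomial σ K) = 0 := by
      rw [DFinsupp.notMem_support_iff] at hi
      rw [hi]
      rfl
    rw [h0]
    apply Finset.sum_eq_zero
    intro i' hi'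
    refine DirectSum.decompose_of_mem_ne _ (hmem i') ?_
    intro h
    have h' : i' = i := by exact_mod_cast h
    subst h'
    exact hi hi'

variable {K σ}

theorem isHomogeneous_of_stdGr {I : Ideal (MvPolynomial σ K)}
    (hI : I.IsHomogeneous (GrSyz.stdGr K σ)) :
    I.IsHomogeneous (MvPolynomial.homogeneousSubmodule σ K) := by
  intro i r hr
  rw [← decompose_stdGr]
  exact hI (i : ℤ) hr

theorem isHP_of_stdGr [Finite σ] (I : Ideal (MvPolynomial σ K)) (P : Polynomial ℚ)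
    (h : ∃ j₀ : ℕ, ∀ j : ℕ, j₀ ≤ j →
      (Module.finrank K ↥(Submodule.map (Ideal.Quotient.mkₐ K I).toLinearMap
        (GrSyz.stdGr K σ (j : ℤ))) : ℚ) = P.eval (j : ℚ)) :
    IsHP (MvPolynomial.homogeneousSubmodule σ K) I P := by
  obtain ⟨j₀, h⟩ := h
  refine ⟨j₀, fun j hj => ?_⟩
  rw [← h j hj, stdGr_natCast, ← Groth.Agent.H2.GrCI.hN_cast _ (hfin_mvPolynomial K σ)]
  rfl

end std

section colon
variable {k : Type u} {A : Type v} [Field k] [CommRing A] [Algebra k A]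
  (𝒜 : ℕ → Submodule k A) [GradedAlgebra 𝒜]

theorem colon_isHomogeneous {𝔠 I : Ideal A} (h𝔠 : 𝔠.IsHomogeneous 𝒜) (hI : I.IsHomogeneous 𝒜) :
    (𝔠.colon (I : Set A)).IsHomogeneous 𝒜 := by
  classical
  intro i r hr
  rw [Submodule.mem_colon] at hr ⊢
  intro s hs
  rw [smul_eq_mul]
  rw [← DirectSum.sum_support_decompose 𝒜 s, Finset.mul_sum]
  refine Ideal.sum_mem _ fun j _ => ?_
  have hsj : (DirectSum.decompose 𝒜 s j : A) ∈ I := hI j hs
  have hcol : r ∈ col 𝔠 (DirectSum.decompose 𝒜 s j : A) := by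
    rw [mem_col]
    have := hr _ hsj
    rw [smul_eq_mul] at this
    rwa [mul_comm]
  have h2 := (col_isHomogeneous 𝒜 h𝔠 (SetLike.coe_mem (DirectSum.decompose 𝒜 s j))) i hcol
  rw [mem_col] at h2
  rwa [mul_comm]

end colon

section main
variable (K : Type u) [Field K] (n c : ℕ)

local notation "R" => MvPolynomial (Fin (n + 1)) K
local notation "𝒜" => MvPolynomial.homogeneousSubmodule (Fin (n + 1)) K

theorem coeff_colon (hcn : c ≤ n) (𝔠 I : Ideal R)
    (h𝔠 : 𝔠.IsHomogeneous 𝒜) (hI : I.IsHomogeneous 𝒜)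
    [LocCoh.IsGorensteinRing (R ⧸ 𝔠)] (h𝔠c : 𝔠.height = c) (h𝔠I : 𝔠 ≤ I)
    (p𝔠 pI pJ : Polynomial ℚ)
    (hp𝔠 : IsHP 𝒜 𝔠 p𝔠) (hpI : IsHP 𝒜 I pI) (hpJ : IsHP 𝒜 (𝔠.colon (I : Set R)) pJ) :
    pJ.coeff (n - c) = p𝔠.coeff (n - c) - pI.coeff (n - c) := by
  classical
  set t := n - c with ht
  have hfin := hfin_mvPolynomial K (Fin (n + 1))
  have hgen := hgen_mvPolynomial K (Fin (n + 1))
  haveI : IsNoetherianRing R := inferInstance
  let S₀ : Set (Ideal R) :=
    {q | q ∈ 𝔠.minimalPrimes ∧ ringKrullDim (R ⧸ q) = (t : WithBot ℕ∞) + 1}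
  have hS₀fin : S₀.Finite :=
    (Ideal.finite_minimalPrimes_of_isNoetherianRing R 𝔠).subset (fun q hq => hq.1)
  haveI : Fintype S₀ := hS₀fin.fintype
  let p : S₀ → PrimeSpectrum R := fun i => ⟨i.1, i.2.1.1.1⟩
  have hinj : Set.InjOn p ((Finset.univ : Finset S₀) : Set S₀) := by
    intro i _ j _ hij
    apply Subtype.ext
    exact congrArg PrimeSpectrum.asIdeal hij
  have hdim : ∀ i ∈ (Finset.univ : Finset S₀),
      ringKrullDim (R ⧸ (p i).asIdeal) = (t : WithBot ℕ∞) + 1 := fun i _ => i.2.2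
  have hphom : ∀ i : S₀, (p i).asIdeal.IsHomogeneous 𝒜 :=
    fun i => isHomogeneous_of_mem_minimalPrimes 𝒜 h𝔠 i.2.1
  choose Q hQ hQd using fun i : S₀ => exists_isHP_mv K (Fin (n + 1)) (p i).asIdeal (hphom i)
  have hheight : ∀ I' : Ideal R, 𝔠 ≤ I' → ringKrullDim (R ⧸ I') ≤ (t : WithBot ℕ∞) + 1 := by
    intro I' h
    have h1 := Groth.Agent.H2.CInt.ringKrullDim_quotient_add_le K n c I' (by omega)
      (by rw [← h𝔠c]; exact Ideal.height_mono h)
    have h2 := Groth.Agent.H2.CInt.withBot_le_sub h1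
    have h3 : n + 1 - c = t + 1 := by omega
    rw [h3] at h2
    exact_mod_cast h2
  have hS : ∀ q : Ideal R, q.IsPrime → q.IsHomogeneous 𝒜 → 𝔠 ≤ q →
      ringKrullDim (R ⧸ q) = (t : WithBot ℕ∞) + 1 →
        ∃ i ∈ (Finset.univ : Finset S₀), (p i).asIdeal = q := by
    intro q hq _ hcq hdq
    obtain ⟨q', hq'min, hq'q⟩ := Ideal.exists_minimalPrimes_le hcq
    haveI hq'prime : q'.IsPrime := hq'min.1.1
    have hq'eq : q' = q := by
      by_contra hne
      have hlt : q' < q := lt_of_le_of_ne hq'q hne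
      have h1 := ringKrullDim_quotient_succ_le_of_lt hlt
      have h2 := hheight q' hq'min.1.2
      rw [hdq] at h1
      have h3 := h1.trans h2
      have h4 : ((t + 1 + 1 : ℕ) : WithBot ℕ∞) ≤ ((t + 1 : ℕ) : WithBot ℕ∞) := by
        exact_mod_cast h3
      have h5 : t + 1 + 1 ≤ t + 1 := by exact_mod_cast h4
      omega
    subst hq'eq
    exact ⟨⟨q', hq'min, hdq⟩, Finset.mem_univ _, rfl⟩
  have hJhom := colon_isHomogeneous 𝒜 h𝔠 hI
  have hcJ := le_colon_self 𝔠 I
  obtain ⟨h1𝔠, h2𝔠⟩ := mult_formula 𝒜 hfin hgen t Finset.univ p hinj hdim Q (fun i _ => hQ i)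
    𝔠 hS 𝔠 le_rfl h𝔠 (hheight 𝔠 le_rfl) p𝔠 hp𝔠
  obtain ⟨h1I, h2I⟩ := mult_formula 𝒜 hfin hgen t Finset.univ p hinj hdim Q (fun i _ => hQ i)
    𝔠 hS I h𝔠I hI (hheight I h𝔠I) pI hpI
  obtain ⟨h1J, h2J⟩ := mult_formula 𝒜 hfin hgen t Finset.univ p hinj hdim Q (fun i _ => hQ i)
    𝔠 hS _ hcJ hJhom (hheight _ hcJ) pJ hpJ
  rw [h2𝔠, h2I, h2J, ← Finset.sum_sub_distrib]
  refine Finset.sum_congr rfl fun i _ => ?_
  have hpmin : (p i).asIdeal ∈ 𝔠.minimalPrimes := i.2.1
  haveI : LocCoh.IsGorensteinLocalRing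
      (Localization.AtPrime (barPrime 𝔠 (p i) hpmin.1.2).asIdeal) :=
    LocCoh.IsGorensteinRing.isGorensteinLocalRing_localization _
  have hadd := lam_colon_add 𝔠 I h𝔠I (p i) hpmin
  have h6 : (lam (p i) 𝔠).toNat =
      (lam (p i) (𝔠.colon (I : Set R))).toNat + (lam (p i) I).toNat := by
    rw [← hadd, ENat.toNat_add (h1J i (Finset.mem_univ _)) (h1I i (Finset.mem_univ _))]
  rw [h6]
  push_cast
  ring

end main

end Groth.Agent.H2.LinkDeg
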