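import Groth.Agent.Lib.Helper2.AffRepR
import Groth.Agent.Lib.Helper2.GrassRepA
import Groth.Agent.Lib.Helper5.AG.ProjProper

/-! # Linked Grassmannians: representability and properness. -/

universe u
open CategoryTheory TensorProduct Module Module.Grassmannian AlgebraicGeometry

namespace Groth.Agent.H2.GrassAlg
open Groth.Agent.H2.AffRep

variable {R : Type u} [CommRing R] {M : Type u} [AddCommGroup M] [Module R M] (k m : ℕ)

/-- the base change of `h` carries the `a`-th submodule into the `b`-th. -/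
def MapsInto (h : M →ₗ[R] M) (a b : Fin m) (A : CommAlgCat.{u} R)
    (V : (tupleF (functor (R := R) (M := M) k) m).obj A) : Prop :=
  Submodule.map (h.baseChange A) (V a).toSubmodule ≤ (V b).toSubmodule

theorem isClosedPred_mapsInto (h : M →ₗ[R] M) (a b : Fin m) :
    IsClosedPred (tupleF (functor (R := R) (M := M) k) m) (MapsInto k m h a b) := by
  intro A V
  refine ⟨Ideal.span {t | ∃ (l : (A ⊗[R] M ⧸ (V b).toSubmodule) →ₗ[A] A) (y : A ⊗[R] M),
    y ∈ (V a).toSubmodule ∧ t = l ((V b).toSubmodule.mkQ (h.baseChange A y))}, ?_⟩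
  intro B φ
  change Submodule.map (h.baseChange B) (map φ.hom (V a)).toSubmodule ≤
    (map φ.hom (V b)).toSubmodule ↔ _
  constructor
  · intro hle
    rw [Ideal.span_le]
    rintro _ ⟨l, y, hy, rfl⟩
    rw [SetLike.mem_coe, RingHom.mem_ker]
    have h1 : h.baseChange B (bc φ.hom y) ∈ (map φ.hom (V b)).toSubmodule :=
      hle ⟨_, bc_mem_map φ.hom (V a) y hy, rfl⟩
    rw [baseChange_bc, bc_mem_map_iff] at h1
    exact h1 l
  · intro hI
    rw [Submodule.map_le_iff_le_comap, map_toSubmodule_eq_span φ.hom (V a), Submodule.span_le]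
    rintro _ ⟨y, hy, rfl⟩
    rw [SetLike.mem_coe, Submodule.mem_comap, baseChange_bc, bc_mem_map_iff]
    intro l
    exact hI (Ideal.subset_span ⟨l, y, hy, rfl⟩)

end Groth.Agent.H2.GrassAlg
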