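import Groth.Agent.Lib.Helper2.LinkGrassA
import Groth.Prelude.Def_W4c1limliniiiiLG

/-! # Linked Grassmannians: representability and properness (assembly). -/

universe u
open CategoryTheory TensorProduct Module Module.Grassmannian AlgebraicGeometry

namespace Groth.Agent.H2.AffRep

variable {R : Type u} [CommRing R] {F : CommAlgCat.{u, u} R ⥤ Type u}

attribute [local ext high] ConcreteCategory.hom_ext

/-- the inclusion of a subfunctor. -/
def subFι (P : ∀ A : CommAlgCat.{u} R, F.obj A → Prop)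
    (hP : ∀ {A B : CommAlgCat.{u} R} (φ : A ⟶ B) (ξ : F.obj A), P A ξ → P B (F.map φ ξ)) :
    subF F P hP ⟶ F where
  app A := ↾(fun ξ : {ξ : F.obj A // P A ξ} => ξ.1)
  naturality A B φ := by
    ext ξ
    rfl

lemma subFι_app (P : ∀ A : CommAlgCat.{u} R, F.obj A → Prop)
    (hP : ∀ {A B : CommAlgCat.{u} R} (φ : A ⟶ B) (ξ : F.obj A), P A ξ → P B (F.map φ ξ))
    (A : CommAlgCat.{u} R) (ξ : (subF F P hP).obj A) :
    (subFι P hP).app A ξ = Subtype.val (p := P A) ξ := rfl

/-- a closed subfunctor of a functor represented by a proper scheme is represented by a proper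
scheme. -/
theorem exists_rep_subF_of_closed {X : Over (Spec (CommRingCat.of R))} (ρ : Rep F X)
    (hX : IsProper X.hom) {P : ∀ A : CommAlgCat.{u} R, F.obj A → Prop} (hP : IsClosedPred F P) :
    ∃ (Z : Over (Spec (CommRingCat.of R)))
      (ρZ : Rep (subF F P (fun φ ξ h => pred_map hP φ ξ h)) Z), IsProper Z.hom := by
  obtain ⟨Z, ι, ρZ, hι, -⟩ := exists_rep_of_closed ρ hP
    (subFι P (fun φ ξ h => pred_map hP φ ξ h))
    (fun A ξ ξ' h => Subtype.ext h)
    (fun A ξ => ⟨fun h => ⟨⟨ξ, h⟩, rfl⟩, by rintro ⟨ξ', rfl⟩; exact ξ'.2⟩)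
  refine ⟨Z, ρZ, ?_⟩
  rw [← Over.w ι]
  infer_instance

end Groth.Agent.H2.AffRep

namespace Groth.Agent.H2.GrassRep
open Groth.Agent.H2.AffRep Groth.Agent.H2.GrassAlg

/-- **linked Grassmannians are representable by proper schemes.** -/
theorem exists_rep_linked (R : Type u) [CommRing R]
    (d r n : ℕ) (f g : Fin n → ((Fin d → R) →ₗ[R] (Fin d → R))) :
    ∃ (X : Over (Spec (CommRingCat.of R)))
      (e : ∀ A : CommAlgCat.{u} R,
        (SpecO A ⟶ X) ≃ W4c1limliniiii.LGPoints R d r n f g A),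
      (∀ (A B : CommAlgCat.{u} R) (φ : A ⟶ B) (x : SpecO A ⟶ X) (x' : SpecO B ⟶ X),
        x'.left = Spec.map (CommRingCat.ofHom φ.hom.toRingHom) ≫ x.left →
          ∀ i, (e B x').1 i = Module.Grassmannian.map φ.hom ((e A x).1 i)) ∧
      IsProper X.hom := by
  obtain ⟨X, ⟨ρ⟩⟩ := exists_rep_free R d (d - r)
  have hX : IsProper X.hom := by
    obtain ⟨c, hc, hw⟩ := Pluecker.exists_closedImmersion_projSpaceOver R d (d - r)
      (Nat.sub_le d r) X ρ
    rw [← hw]
    have := Groth.Agent.H5.AG.isProper_toBase (d.choose (d - r) - 1) (Spec (CommRingCat.of R))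
    infer_instance
  obtain ⟨Xm, ⟨ρm⟩, hXm⟩ := exists_rep_tuple ρ hX (n + 1)
  let P : ∀ A : CommAlgCat.{u} R,
      (tupleF (functor (R := R) (M := Fin d → R) (d - r)) (n + 1)).obj A → Prop :=
    fun A V => ∀ i : Fin n, MapsInto (d - r) (n + 1) (f i) i.castSucc i.succ A V ∧
      MapsInto (d - r) (n + 1) (g i) i.succ i.castSucc A V
  have hP : IsClosedPred (tupleF (functor (R := R) (M := Fin d → R) (d - r)) (n + 1)) P :=
    isClosedPred_forall (fun i => isClosedPred_and
      (isClosedPred_mapsInto (d - r) (n + 1) (f i) i.castSucc i.succ)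
      (isClosedPred_mapsInto (d - r) (n + 1) (g i) i.succ i.castSucc))
  obtain ⟨Z, ρZ, hZ⟩ := exists_rep_subF_of_closed ρm hXm hP
  refine ⟨Z, fun A => ρZ.e A, ?_, hZ⟩
  intro A B φ x x' h i
  have h1 := ρZ.he A B φ x x' h
  exact congrFun (congrArg Subtype.val h1) i

end Groth.Agent.H2.GrassRep
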