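import Mathlib
import Groth.Agent.Lib.Helper2.LocConstAbB

set_option autoImplicit false
set_option linter.style.haveILetI false
set_option linter.unusedSectionVars false
universe u
open CategoryTheory CategoryTheory.Limits Opposite TopologicalSpace AlgebraicGeometry

namespace Groth.Agent.H2.LocConstAb

variable {X : Scheme.{u}}

theorem S0105_main [ConnectedSpace X] (F : EtCoh.Ab X) (h : EtCoh.IsFiniteLocallyConstant F) :
    ∃ (M : Type) (_ : AddCommGroup M) (_ : Finite M) (ι : Type u) (U : ι → X.Etale),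
      EtCoh.Covers U ∧
      ∀ i, Nonempty (EtCoh.restr F (U i) ≅
        (constantSheaf (X.smallEtaleTopology.over (U i)) AddCommGrpCat.{u + 1}).obj
          (AddCommGrpCat.of (ULift.{u + 1} M))) := by
  classical
  obtain ⟨ι, U, hcov, hM⟩ := h
  choose M iM1 iM2 hiso using hM
  have key : ∀ (i j : ι) (a : ↥(U i).left) (b : ↥(U j).left),
      (U i).hom a = (U j).hom b → Nonempty (M i ≃+ M j) := by
    intro i j a b hab
    obtain ⟨αi⟩ := hiso i
    obtain ⟨αj⟩ := hiso j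
    obtain ⟨e⟩ := nonempty_addEquiv_of_common_point F (U i) (U j)
      (AddCommGrpCat.of (ULift.{u + 1} (M i))) (AddCommGrpCat.of (ULift.{u + 1} (M j)))
      αi αj a b hab
    exact ⟨AddEquiv.ulift.symm.trans (e.trans AddEquiv.ulift)⟩
  obtain ⟨x₀⟩ : Nonempty ↥X := inferInstance
  obtain ⟨i₀, y₀, hy₀⟩ := hcov x₀
  let S : Set ↥X := ⋃ i : {i : ι // Nonempty (M i ≃+ M i₀)}, Set.range (U i.1).hom
  let T : Set ↥X := ⋃ i : {i : ι // ¬ Nonempty (M i ≃+ M i₀)}, Set.range (U i.1).hom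
  have hopen : ∀ i : ι, IsOpen (Set.range (U i).hom) := fun i => by
    haveI : Etale (U i).hom := (U i).prop
    exact (U i).hom.isOpenMap.isOpen_range
  have hS : IsOpen S := isOpen_iUnion (fun i => hopen i.1)
  have hT : IsOpen T := isOpen_iUnion (fun i => hopen i.1)
  have hST : (Set.univ : Set ↥X) ⊆ S ∪ T := by
    intro x _
    obtain ⟨i, y, hy⟩ := hcov x
    by_cases hi : Nonempty (M i ≃+ M i₀)
    · exact Or.inl (Set.mem_iUnion.2 ⟨⟨i, hi⟩, y, hy⟩)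
    · exact Or.inr (Set.mem_iUnion.2 ⟨⟨i, hi⟩, y, hy⟩)
  have hdisj : ∀ x, x ∈ S → x ∈ T → False := by
    intro x hxS hxT
    obtain ⟨⟨i, ⟨ei⟩⟩, a, ha⟩ := Set.mem_iUnion.1 hxS
    obtain ⟨⟨j, hj⟩, b, hb⟩ := Set.mem_iUnion.1 hxT
    obtain ⟨e⟩ := key j i b a (hb.trans ha.symm)
    exact hj ⟨e.trans ei⟩
  have hTempty : T = ∅ := by
    by_contra hne
    obtain ⟨t, ht⟩ := Set.nonempty_iff_ne_empty.2 hne
    have hx₀ : x₀ ∈ S := Set.mem_iUnion.2 ⟨⟨i₀, ⟨AddEquiv.refl _⟩⟩, y₀, hy₀⟩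
    obtain ⟨z, -, hzS, hzT⟩ := isPreconnected_univ S T hS hT hST ⟨x₀, trivial, hx₀⟩
      ⟨t, trivial, ht⟩
    exact hdisj z hzS hzT
  refine ⟨M i₀, iM1 i₀, iM2 i₀, {i : ι // Nonempty (M i ≃+ M i₀)}, fun i => U i.1, ?_, ?_⟩
  · intro x
    obtain ⟨i, y, hy⟩ := hcov x
    by_cases hi : Nonempty (M i ≃+ M i₀)
    · exact ⟨⟨i, hi⟩, y, hy⟩
    · exfalso
      have : x ∈ T := Set.mem_iUnion.2 ⟨⟨i, hi⟩, y, hy⟩
      rw [hTempty] at this
      exact this
  · rintro ⟨i, ⟨e⟩⟩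
    obtain ⟨α⟩ := hiso i
    let e' : AddCommGrpCat.of (ULift.{u + 1} (M i)) ≅ AddCommGrpCat.of (ULift.{u + 1} (M i₀)) :=
      (AddEquiv.ulift.trans (e.trans AddEquiv.ulift.symm)).toAddCommGrpIso
    exact ⟨α ≪≫ (constantSheaf (X.smallEtaleTopology.over (U i)) AddCommGrpCat.{u + 1}).mapIso e'⟩

end Groth.Agent.H2.LocConstAb
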