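import Mathlib

/-!
# Localization at a left multiplicative system preserves finite colimits
-/

namespace Groth.Agent.H2.LocFinColim

open CategoryTheory Limits

universe v u v' u'

variable {C : Type u} [Category.{v} C] {D : Type u'} [Category.{v'} D] (W : MorphismProperty C)
  (L : C ⥤ D) [L.IsLocalization W] [W.HasLeftCalculusOfFractions]

include W in
/-- common denominators (copy of S6433) -/
theorem common_denom {ι : Type} [Finite ι] (X : ι → C) (Y : C) (g : ∀ i, L.obj (X i) ⟶ L.obj Y) :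
    ∃ (Y' : C) (s : Y ⟶ Y') (_ : W s) (f : ∀ i, X i ⟶ Y'), ∀ i, g i ≫ L.map s = L.map (f i) := by
  suffices h : ∃ (Y' : C) (s : Y ⟶ Y') (_ : W s), ∀ i, ∃ f : X i ⟶ Y', g i ≫ L.map s = L.map f by
    obtain ⟨Y', s, hs, h⟩ := h
    choose f hf using h
    exact ⟨Y', s, hs, f, hf⟩
  revert X g
  refine Finite.induction_empty_option (P := fun (ι : Type) => ∀ (X : ι → C) (g : ∀ i, L.obj (X i) ⟶ L.obj Y),
    ∃ (Y' : C) (s : Y ⟶ Y') (_ : W s), ∀ i, ∃ f : X i ⟶ Y', g i ≫ L.map s = L.map f) ?_ ?_ ?_ ι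
  · intro α β e h X g
    obtain ⟨Y', s, hs, hf⟩ := h (fun a => X (e a)) (fun a => g (e a))
    refine ⟨Y', s, hs, fun b => ?_⟩
    obtain ⟨a, rfl⟩ := e.surjective b
    exact hf a
  · intro X g
    exact ⟨Y, 𝟙 Y, W.id_mem Y, fun i => isEmptyElim i⟩
  · intro α _ ih X g
    obtain ⟨Y₁, s₁, hs₁, hf₁⟩ := ih (fun a => X (some a)) (fun a => g (some a))
    obtain ⟨φ, hφ⟩ := Localization.exists_leftFraction L W (g none)
    obtain ⟨ψ, hψ⟩ := (MorphismProperty.RightFraction.mk s₁ hs₁ φ.s).exists_leftFraction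
    dsimp at hψ
    refine ⟨ψ.Y', φ.s ≫ ψ.s, W.comp_mem _ _ φ.hs ψ.hs, ?_⟩
    rintro (_ | a)
    · refine ⟨φ.f ≫ ψ.s, ?_⟩
      rw [L.map_comp, L.map_comp, hφ, ← Category.assoc, φ.map_comp_map_s]
    · obtain ⟨f₁, hf₁⟩ := hf₁ a
      refine ⟨f₁ ≫ ψ.f, ?_⟩
      rw [hψ, L.map_comp, ← Category.assoc, hf₁, L.map_comp]

include W L in
/-- finitely many parallel pairs identified by `L` are equalized by a single morphism of `W`. -/
theorem common_equalizer {ι : Type} [Finite ι] (X : ι → C) (Y : C) (a b : ∀ i, X i ⟶ Y)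
    (h : ∀ i, L.map (a i) = L.map (b i)) :
    ∃ (Y' : C) (t : Y ⟶ Y') (_ : W t), ∀ i, a i ≫ t = b i ≫ t := by
  revert X a b h
  refine Finite.induction_empty_option (P := fun (ι : Type) => ∀ (X : ι → C) (a b : ∀ i, X i ⟶ Y)
    (_ : ∀ i, L.map (a i) = L.map (b i)), ∃ (Y' : C) (t : Y ⟶ Y') (_ : W t), ∀ i, a i ≫ t = b i ≫ t)
    ?_ ?_ ?_ ι
  · intro α β e h X a b hab
    obtain ⟨Y', t, ht, hf⟩ := h (fun i => X (e i)) (fun i => a (e i)) (fun i => b (e i))
      (fun i => hab (e i))
    refine ⟨Y', t, ht, fun j => ?_⟩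
    obtain ⟨i, rfl⟩ := e.surjective j
    exact hf i
  · intro X a b _
    exact ⟨Y, 𝟙 Y, W.id_mem Y, fun i => isEmptyElim i⟩
  · intro α _ ih X a b hab
    obtain ⟨Y₁, t₁, ht₁, h₁⟩ := ih (fun i => X (some i)) (fun i => a (some i)) (fun i => b (some i))
      (fun i => hab (some i))
    have h2 : L.map (a none ≫ t₁) = L.map (b none ≫ t₁) := by
      rw [L.map_comp, L.map_comp, hab none]
    obtain ⟨Y₂, t₂, ht₂, h₂⟩ := (MorphismProperty.map_eq_iff_postcomp L W _ _).1 h2
    refine ⟨Y₂, t₁ ≫ t₂, W.comp_mem _ _ ht₁ ht₂, ?_⟩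
    rintro (_ | i)
    · simpa using h₂
    · rw [← Category.assoc, h₁ i, Category.assoc]

include W in
theorem existsUnique_desc {J : Type} [SmallCategory J] [FinCategory J] {K : J ⥤ C} {c : Cocone K}
    (hc : IsColimit c) (Y : C) (g : ∀ j, L.obj (K.obj j) ⟶ L.obj Y)
    (hg : ∀ (j j' : J) (u : j ⟶ j'), L.map (K.map u) ≫ g j' = g j) :
    ∃! d : L.obj c.pt ⟶ L.obj Y, ∀ j, L.map (c.ι.app j) ≫ d = g j := by
  obtain ⟨Y', s, hs, f, hf⟩ := common_denom W L (fun j => K.obj j) Y g
  haveI : IsIso (L.map s) := Localization.inverts L W s hs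
  -- equalize the compatibilities
  have hcompat : ∀ (p : Σ (j : J) (j' : J), (j ⟶ j')),
      L.map (K.map p.2.2 ≫ f p.2.1) = L.map (f p.1) := by
    rintro ⟨j, j', u⟩
    rw [L.map_comp, ← hf j', ← hf j, ← Category.assoc, hg j j' u]
  obtain ⟨Y'', t, ht, heq⟩ := common_equalizer W L
    (fun p : Σ (j : J) (j' : J), (j ⟶ j') => K.obj p.1) Y'
    (fun p => K.map p.2.2 ≫ f p.2.1) (fun p => f p.1) hcompat
  haveI : IsIso (L.map t) := Localization.inverts L W t ht
  let c' : Cocone K :=
    { pt := Y''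
      ι := { app := fun j => f j ≫ t
             naturality := by
               intro j j' u
               have := heq ⟨j, j', u⟩
               dsimp at this ⊢
               rw [Category.comp_id, ← Category.assoc, ← this, Category.assoc] } }
  refine ⟨L.map (hc.desc c') ≫ inv (L.map t) ≫ inv (L.map s), ?_, ?_⟩
  · intro j
    rw [← Category.assoc, ← L.map_comp, hc.fac c' j]
    dsimp [c']
    rw [L.map_comp, ← hf j]
    simp
  · intro d' hd'
    -- uniqueness
    obtain ⟨Z, s', hs', ff, hff⟩ := common_denom W L (fun _ : Bool => c.pt) Y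
      (fun b => if b then d' else L.map (hc.desc c') ≫ inv (L.map t) ≫ inv (L.map s))
    haveI : IsIso (L.map s') := Localization.inverts L W s' hs'
    have h1 := hff true
    have h2 := hff false
    simp only [if_true, Bool.false_eq_true, if_false] at h1 h2
    have h3 : ∀ j, L.map (c.ι.app j ≫ ff true) = L.map (c.ι.app j ≫ ff false) := by
      intro j
      rw [L.map_comp, L.map_comp, ← h1, ← h2, ← Category.assoc, hd' j, ← Category.assoc]
      congr 1
      rw [← Category.assoc, ← L.map_comp, hc.fac c' j]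
      dsimp [c']
      rw [L.map_comp, ← hf j]
      simp
    obtain ⟨Z', t', ht', heq'⟩ := common_equalizer W L (fun j : J => K.obj j) Z
      (fun j => c.ι.app j ≫ ff true) (fun j => c.ι.app j ≫ ff false) h3
    haveI : IsIso (L.map t') := Localization.inverts L W t' ht'
    have h4 : ff true ≫ t' = ff false ≫ t' := by
      apply hc.hom_ext
      intro j
      have := heq' j
      simpa using this
    have h5 : L.map (ff true) = L.map (ff false) := by
      rw [← cancel_mono (L.map t'), ← L.map_comp, ← L.map_comp, h4]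
    rw [← cancel_mono (L.map s'), h1, h2, h5]

include W in
theorem main : PreservesFiniteColimits L := by
  constructor
  intro J _ _
  constructor
  intro K
  constructor
  intro c hc
  constructor
  refine IsColimit.ofExistsUnique ?_
  intro s
  -- s : Cocone (K ⋙ L)
  haveI : L.EssSurj := Localization.essSurj L W
  let Y := L.objPreimage s.pt
  let e : L.obj Y ≅ s.pt := L.objObjPreimageIso s.pt
  obtain ⟨d, hd, hu⟩ := existsUnique_desc W L hc Y (fun j => s.ι.app j ≫ e.inv)
    (by
      intro j j' u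
      have := s.w u
      dsimp at this
      rw [← Category.assoc, this])
  refine ⟨d ≫ e.hom, ?_, ?_⟩
  · intro j
    dsimp
    rw [← Category.assoc, hd j]
    simp
  · intro d' hd'
    have := hu (d' ≫ e.inv) (by
      intro j
      rw [← Category.assoc]
      have := hd' j
      dsimp at this
      rw [this])
    rw [← this]
    simp

end Groth.Agent.H2.LocFinColim
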