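import Mathlib

set_option autoImplicit false
open CategoryTheory

namespace Groth.Agent.H2.LocSub

universe v u v' u'

variable {D : Type u} [Category.{v} D] (P : ObjectProperty D) (S : MorphismProperty D)
  [S.HasRightCalculusOfFractions]

lemma hasRightCalculusOfFractions_inverseImage
    (hP : ∀ X : D, ∃ (X' : D) (s : X' ⟶ X), P X' ∧ S s) :
    (S.inverseImage P.ι).HasRightCalculusOfFractions where
  toIsMultiplicative := inferInstance
  exists_rightFraction X Y φ := by
    obtain ⟨ψ, hψ⟩ := (MorphismProperty.LeftFraction.mk (W := S) φ.f.hom φ.s.hom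
      φ.hs).exists_rightFraction
    obtain ⟨Z, t, hZ, ht⟩ := hP ψ.X'
    refine ⟨{ X' := ⟨Z, hZ⟩, s := P.homMk (t ≫ ψ.s), hs := S.comp_mem _ _ ht ψ.hs,
              f := P.homMk (t ≫ ψ.f) }, ?_⟩
    apply P.hom_ext
    dsimp at hψ ⊢
    simp [hψ]
  ext X Y Y' f₁ f₂ s hs h := by
    obtain ⟨Z, t, ht, fac⟩ := MorphismProperty.HasRightCalculusOfFractions.ext
      f₁.hom f₂.hom s.hom hs (by
        have := congrArg (fun f => f.hom) h
        simpa using this)
    obtain ⟨Z', u, hZ', hu⟩ := hP Z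
    refine ⟨⟨Z', hZ'⟩, P.homMk (u ≫ t), S.comp_mem _ _ hu ht, ?_⟩
    apply P.hom_ext
    simp [fac]

/-- image in `D` of a right fraction of the full subcategory -/
def imgFrac {X₁ X₂ : P.FullSubcategory} (φ : (S.inverseImage P.ι).RightFraction X₁ X₂) :
    S.RightFraction X₁.obj X₂.obj where
  X' := φ.X'.obj
  s := φ.s.hom
  hs := φ.hs
  f := φ.f.hom

theorem isLocalization_of_resolutions {E : Type u'} [Category.{v'} E] (Q : D ⥤ E)
    [Q.IsLocalization S]
    (hP : ∀ X : D, ∃ (X' : D) (s : X' ⟶ X), P X' ∧ S s) :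
    (P.ι ⋙ Q).IsLocalization (S.inverseImage P.ι) := by
  have := hasRightCalculusOfFractions_inverseImage P S hP
  let Φ : LocalizerMorphism (S.inverseImage P.ι) S := { functor := P.ι, map := fun _ _ _ h => h }
  let L₁ := (S.inverseImage P.ι).Q
  let G := Φ.localizedFunctor L₁ Q
  let : CatCommSq Φ.functor L₁ Q G := Φ.catCommSq L₁ Q
  let e : P.ι ⋙ Q ≅ L₁ ⋙ G := CatCommSq.iso Φ.functor L₁ Q G
  have key : ∀ {X₁ X₂ : P.FullSubcategory} (φ : (S.inverseImage P.ι).RightFraction X₁ X₂),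
      G.map (φ.map L₁ (Localization.inverts L₁ _)) =
        e.inv.app X₁ ≫ (imgFrac P S φ).map Q (Localization.inverts Q S) ≫ e.hom.app X₂ := by
    intro X₁ X₂ φ
    have h1 := φ.map_s_comp_map L₁ (Localization.inverts L₁ _)
    have h2 := (imgFrac P S φ).map_s_comp_map Q (Localization.inverts Q S)
    have : IsIso (Q.map (imgFrac P S φ).s) := Localization.inverts Q S _ (imgFrac P S φ).hs
    have n1 := e.hom.naturality φ.s
    have n2 := e.hom.naturality φ.f
    dsimp at n1 n2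
    rw [← cancel_epi (e.hom.app X₁), ← cancel_epi (Q.map (imgFrac P S φ).s)]
    simp only [Iso.hom_inv_id_app_assoc]
    rw [reassoc_of% h2]
    change Q.map φ.s.hom ≫ _ = Q.map φ.f.hom ≫ _
    rw [n2, reassoc_of% n1, ← G.map_comp, h1]
  have : L₁.EssSurj := Localization.essSurj L₁ (S.inverseImage P.ι)
  have hfull : G.Full := by
    refine G.full_of_comp_essSurj L₁ (fun X₁ X₂ φ ↦ ?_)
    obtain ⟨ψ, hψ⟩ := Localization.exists_rightFraction Q S (e.hom.app X₁ ≫ φ ≫ e.inv.app X₂)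
    obtain ⟨Z, t, hZ, ht⟩ := hP ψ.X'
    let g : (S.inverseImage P.ι).RightFraction X₁ X₂ :=
      { X' := ⟨Z, hZ⟩, s := P.homMk (t ≫ ψ.s), hs := S.comp_mem _ _ ht ψ.hs,
        f := P.homMk (t ≫ ψ.f) }
    refine ⟨g.map L₁ (Localization.inverts _ _), ?_⟩
    rw [key]
    have hg : (imgFrac P S g).map Q (Localization.inverts Q S) =
        ψ.map Q (Localization.inverts Q S) := by
      have : IsIso (Q.map (imgFrac P S g).s) := Localization.inverts Q S _ (imgFrac P S g).hs
      rw [← cancel_epi (Q.map (imgFrac P S g).s), MorphismProperty.RightFraction.map_s_comp_map]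
      change Q.map (t ≫ ψ.f) = Q.map (t ≫ ψ.s) ≫ _
      rw [Q.map_comp, Q.map_comp, Category.assoc, MorphismProperty.RightFraction.map_s_comp_map]
    rw [hg, ← hψ]
    simp
  have hfaith : G.Faithful := by
    refine G.faithful_of_comp_essSurj L₁ (fun X₁ X₂ f g hfg ↦ ?_)
    obtain ⟨φ, rfl⟩ := Localization.exists_rightFraction L₁ (S.inverseImage P.ι) f
    obtain ⟨ψ, rfl⟩ := Localization.exists_rightFraction L₁ (S.inverseImage P.ι) g
    rw [key, key] at hfg
    have hfg' : (imgFrac P S φ).map Q (Localization.inverts Q S) =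
        (imgFrac P S ψ).map Q (Localization.inverts Q S) := by
      have := congrArg (fun x => e.hom.app X₁ ≫ x ≫ e.inv.app X₂) hfg
      simpa using this
    rw [MorphismProperty.RightFraction.map_eq_iff] at hfg' ⊢
    obtain ⟨Z, t₁, t₂, hst, hft, ht⟩ := hfg'
    obtain ⟨Z', u, hZ', hu⟩ := hP Z
    refine ⟨⟨Z', hZ'⟩, P.homMk (u ≫ t₁), P.homMk (u ≫ t₂), ?_, ?_, ?_⟩
    · apply P.hom_ext
      simpa [imgFrac] using u ≫= hst
    · apply P.hom_ext
      simpa [imgFrac] using u ≫= hft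
    · change S ((u ≫ t₁) ≫ φ.s.hom)
      rw [Category.assoc]
      exact S.comp_mem _ _ hu ht
  have : Φ.IsLocalizedFullyFaithful :=
    LocalizerMorphism.IsLocalizedFullyFaithful.mk' Φ L₁ Q G (Functor.FullyFaithful.ofFullyFaithful G)
  have : (P.ι ⋙ Q).EssSurj := ⟨fun Y => by
    have := Localization.essSurj Q S
    obtain ⟨X', s, hX', hs⟩ := hP (Q.objPreimage Y)
    have : IsIso (Q.map s) := Localization.inverts Q S _ hs
    exact ⟨⟨X', hX'⟩, ⟨asIso (Q.map s) ≪≫ Q.objObjPreimageIso Y⟩⟩⟩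
  exact Φ.isLocalization_of_isLocalizedFullyFaithful (L₂ := Q) (L₁ := P.ι ⋙ Q) (F := 𝟭 E)
    (Functor.rightUnitor _).symm

end Groth.Agent.H2.LocSub
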