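import Mathlib

/-!
# Surjectivity of localized maps, fibrewise criterion (finite target)

For `φ : M →ₗ[R] N` with `N` finite and `C = N ⧸ range φ`:
* `surjective_map_iff_notMem_support`
* `surjective_lTensor_iff_subsingleton`
* `surjective_map_iff_surjective_lTensor`
* `isOpen_setOf_surjective_map`
* `surjective_map_powers`
-/

namespace Groth.Agent.H2.LocSurj

open scoped TensorProduct

universe u

variable {R : Type u} [CommRing R] {M N : Type u} [AddCommGroup M] [Module R M]
  [AddCommGroup N] [Module R N] (φ : M →ₗ[R] N)

theorem surjective_map_iff_notMem_support (p : PrimeSpectrum R) :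
    Function.Surjective (LocalizedModule.map p.asIdeal.primeCompl φ) ↔
      p ∉ Module.support R (N ⧸ LinearMap.range φ) := by
  rw [LinearMap.localizedMap_surjective_iff_subsingleton_localized_coker, Module.notMem_support_iff]

/-- Right exactness: `Q ⊗ φ` is surjective iff `Q ⊗ coker φ = 0`. -/
theorem surjective_lTensor_iff_subsingleton (Q : Type u) [AddCommGroup Q] [Module R Q] :
    Function.Surjective (φ.lTensor Q) ↔ Subsingleton (Q ⊗[R] (N ⧸ LinearMap.range φ)) := by
  have hex : Function.Exact φ (LinearMap.range φ).mkQ := by
    rw [LinearMap.exact_iff, Submodule.ker_mkQ]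
  have hs : Function.Surjective (LinearMap.range φ).mkQ := Submodule.mkQ_surjective _
  have hex' := lTensor_exact Q hex hs
  have hs' : Function.Surjective ((LinearMap.range φ).mkQ.lTensor Q) :=
    LinearMap.lTensor_surjective Q hs
  constructor
  · intro h
    refine ⟨fun a b => ?_⟩
    have h0 : ∀ c : Q ⊗[R] (N ⧸ LinearMap.range φ), c = 0 := by
      intro c
      obtain ⟨z, rfl⟩ := hs' c
      obtain ⟨w, rfl⟩ := h z
      exact (hex' _).2 ⟨w, rfl⟩
    rw [h0 a, h0 b]
  · intro h z
    have : (LinearMap.range φ).mkQ.lTensor Q z = 0 := Subsingleton.elim _ _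
    exact (hex' z).1 this

variable [Module.Finite R N]

theorem surjective_map_iff_surjective_lTensor (p : PrimeSpectrum R) :
    Function.Surjective (LocalizedModule.map p.asIdeal.primeCompl φ) ↔
      Function.Surjective (φ.lTensor p.asIdeal.ResidueField) := by
  rw [surjective_map_iff_notMem_support, surjective_lTensor_iff_subsingleton,
    Module.mem_support_iff_nontrivial_residueField_tensorProduct, not_nontrivial_iff_subsingleton]

theorem setOf_surjective_map_eq :
    {p : PrimeSpectrum R | Function.Surjective (LocalizedModule.map p.asIdeal.primeCompl φ)} =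
      (Module.support R (N ⧸ LinearMap.range φ))ᶜ := by
  ext p
  exact surjective_map_iff_notMem_support φ p

theorem isOpen_setOf_surjective_map :
    IsOpen {p : PrimeSpectrum R |
      Function.Surjective (LocalizedModule.map p.asIdeal.primeCompl φ)} := by
  rw [setOf_surjective_map_eq]
  exact Module.isClosed_support.isOpen_compl

theorem isOpen_setOf_surjective_lTensor :
    IsOpen {p : PrimeSpectrum R | Function.Surjective (φ.lTensor p.asIdeal.ResidueField)} := by
  have : {p : PrimeSpectrum R | Function.Surjective (φ.lTensor p.asIdeal.ResidueField)} =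
      {p : PrimeSpectrum R |
        Function.Surjective (LocalizedModule.map p.asIdeal.primeCompl φ)} := by
    ext p
    exact (surjective_map_iff_surjective_lTensor φ p).symm
  rw [this]
  exact isOpen_setOf_surjective_map φ

theorem surjective_map_powers (f : R)
    (h : (↑(PrimeSpectrum.basicOpen f) : Set (PrimeSpectrum R)) ⊆
      {p : PrimeSpectrum R | Function.Surjective (LocalizedModule.map p.asIdeal.primeCompl φ)}) :
    Function.Surjective (LocalizedModule.map (Submonoid.powers f) φ) := by
  rw [LinearMap.localizedMap_surjective_iff_subsingleton_localized_coker]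
  change Subsingleton (LocalizedModule.Away f (N ⧸ LinearMap.range φ))
  rw [LocalizedModule.subsingleton_iff_support_subset]
  intro p hp
  by_contra hfp
  have hpf : p ∈ (↑(PrimeSpectrum.basicOpen f) : Set (PrimeSpectrum R)) := by
    rw [PrimeSpectrum.mem_zeroLocus, Set.singleton_subset_iff] at hfp
    exact hfp
  exact (surjective_map_iff_notMem_support φ p).1 (h hpf) hp

theorem surjective_map_powers' (f : R)
    (h : (↑(PrimeSpectrum.basicOpen f) : Set (PrimeSpectrum R)) ⊆
      {p : PrimeSpectrum R | Function.Surjective (φ.lTensor p.asIdeal.ResidueField)}) :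
    Function.Surjective (LocalizedModule.map (Submonoid.powers f) φ) :=
  surjective_map_powers φ f fun p hp => (surjective_map_iff_surjective_lTensor φ p).2 (h hp)

end Groth.Agent.H2.LocSurj

namespace Groth.Agent.H2.LocSurj

universe u

variable {R : Type u} [CommRing R] {P₁ P₂ : Type u} [AddCommGroup P₁] [Module R P₁]
  [AddCommGroup P₂] [Module R P₂]

/-- Kernel of a split surjection from a finite projective module is finite projective. -/
theorem ker_finite_projective_of_surjective {A : Type*} [CommRing A] {Q₁ Q₂ : Type*}
    [AddCommGroup Q₁] [Module A Q₁] [AddCommGroup Q₂] [Module A Q₂]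
    [Module.Finite A Q₁] [Module.Projective A Q₁] [Module.Projective A Q₂]
    (ψ : Q₁ →ₗ[A] Q₂) (hψ : Function.Surjective ψ) :
    Module.Finite A (LinearMap.ker ψ) ∧ Module.Projective A (LinearMap.ker ψ) := by
  obtain ⟨σ, hσ⟩ := Module.projective_lifting_property ψ LinearMap.id hψ
  have hσ' : ∀ y, ψ (σ y) = y := fun y => LinearMap.congr_fun hσ y
  let r : Q₁ →ₗ[A] LinearMap.ker ψ :=
    (LinearMap.id - σ ∘ₗ ψ).codRestrict (LinearMap.ker ψ) (fun x => by
      rw [LinearMap.mem_ker, LinearMap.sub_apply, LinearMap.id_apply, LinearMap.comp_apply,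
        map_sub, hσ', sub_self])
  have hr : r ∘ₗ (LinearMap.ker ψ).subtype = LinearMap.id := by
    ext x
    change (x : Q₁) - σ (ψ x) = x
    rw [LinearMap.mem_ker.1 x.2, map_zero, sub_zero]
  have hrs : Function.Surjective r := fun y => ⟨y, LinearMap.congr_fun hr y⟩
  exact ⟨Module.Finite.of_surjective r hrs, Module.Projective.of_split _ r hr⟩

theorem ker_localized_eq (S : Submonoid R) (φ : P₁ →ₗ[R] P₂) :
    (LinearMap.ker φ).localized S = LinearMap.ker (LocalizedModule.map S φ) :=
  LinearMap.localized'_ker_eq_ker_localizedMap (Localization S) S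
    (LocalizedModule.mkLinearMap S P₁) (LocalizedModule.mkLinearMap S P₂) φ

theorem localized_ker_finite_projective [Module.Finite R P₁] [Module.Projective R P₁]
    [Module.Projective R P₂] (S : Submonoid R) (φ : P₁ →ₗ[R] P₂)
    (hsurj : Function.Surjective (LocalizedModule.map S φ)) :
    Module.Finite (Localization S) (LocalizedModule S (LinearMap.ker φ)) ∧
      Module.Projective (Localization S) (LocalizedModule S (LinearMap.ker φ)) := by
  obtain ⟨h1, h2⟩ := ker_finite_projective_of_surjective (LocalizedModule.map S φ) hsurj
  let e : LinearMap.ker (LocalizedModule.map S φ) ≃ₗ[Localization S]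
      LocalizedModule S (LinearMap.ker φ) :=
    (LinearEquiv.ofEq _ _ (ker_localized_eq S φ).symm).trans
      (Submodule.localizedEquiv S (LinearMap.ker φ))
  exact ⟨Module.Finite.equiv e, Module.Projective.of_equiv e⟩

end Groth.Agent.H2.LocSurj
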