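import Mathlib

/-! # Transfer of localizations along a ring isomorphism. -/

namespace Groth.Agent.H2.LocTransfer

/-- a localization of rings, viewed over an isomorphic base ring. -/
theorem isLocalization_of_ringEquiv {R A B : Type*} [CommRing R] [CommRing A] [CommRing B]
    [Algebra A B] [Algebra R B] (e : R ≃+* A) (S' : Submonoid A) (S : Submonoid R)
    (hS : ∀ s, s ∈ S ↔ e s ∈ S') (halg : ∀ r, algebraMap R B r = algebraMap A B (e r))
    [IsLocalization S' B] : IsLocalization S B := by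
  rw [isLocalization_iff]
  refine ⟨?_, ?_, ?_⟩
  · rintro ⟨y, hy⟩
    rw [halg]
    exact IsLocalization.map_units B (⟨e y, (hS y).mp hy⟩ : S')
  · intro z
    obtain ⟨⟨a, ⟨s', hs'⟩⟩, h⟩ := IsLocalization.surj S' z
    refine ⟨⟨e.symm a, ⟨e.symm s', (hS _).mpr (by rwa [e.apply_symm_apply])⟩⟩, ?_⟩
    change z * algebraMap R B (e.symm s') = algebraMap R B (e.symm a)
    rw [halg, halg, e.apply_symm_apply, e.apply_symm_apply]
    exact h
  · intro x y hxy
    rw [halg, halg] at hxy
    obtain ⟨⟨c, hc⟩, h⟩ := IsLocalization.exists_of_eq (M := S') hxy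
    refine ⟨⟨e.symm c, (hS _).mpr (by rwa [e.apply_symm_apply])⟩, ?_⟩
    apply e.injective
    change e (e.symm c * x) = e (e.symm c * y)
    rw [map_mul, map_mul, e.apply_symm_apply]
    exact h

/-- a localization of modules, viewed over an isomorphic base ring. -/
theorem isLocalizedModule_of_ringEquiv {R A : Type*} [CommRing R] [CommRing A] (e : R ≃+* A)
    (S' : Submonoid A) (S : Submonoid R) (hS : ∀ s, s ∈ S ↔ e s ∈ S')
    {N N' : Type*} [AddCommGroup N] [AddCommGroup N'] [Module A N] [Module A N'] [Module R N]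
    [Module R N'] (hN : ∀ (r : R) (n : N), r • n = e r • n)
    (hN' : ∀ (r : R) (n : N'), r • n = e r • n) (f : N →ₗ[A] N') [IsLocalizedModule S' f]
    (g : N →ₗ[R] N') (hg : ∀ n, g n = f n) : IsLocalizedModule S g := by
  refine ⟨?_, ?_, ?_⟩
  · rintro ⟨s, hs⟩
    have h := IsLocalizedModule.map_units f (⟨e s, (hS s).mp hs⟩ : S')
    rw [Module.End.isUnit_iff] at h ⊢
    have e1 : ⇑((algebraMap R (Module.End R N')) s) = ⇑((algebraMap A (Module.End A N')) (e s)) := by
      funext n
      exact hN' s n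
    rw [show ((algebraMap R (Module.End R N')) (⟨s, hs⟩ : S) : N' → N') =
      ⇑((algebraMap R (Module.End R N')) s) from rfl, e1]
    exact h
  · intro y
    obtain ⟨⟨n, ⟨s', hs'⟩⟩, h⟩ := IsLocalizedModule.surj S' f y
    refine ⟨⟨n, ⟨e.symm s', (hS _).mpr (by rwa [e.apply_symm_apply])⟩⟩, ?_⟩
    change e.symm s' • y = g n
    rw [hN', e.apply_symm_apply, hg]
    exact h
  · intro x₁ x₂ h
    rw [hg, hg] at h
    obtain ⟨⟨c, hc⟩, h'⟩ := IsLocalizedModule.exists_of_eq (S := S') h
    refine ⟨⟨e.symm c, (hS _).mpr (by rwa [e.apply_symm_apply])⟩, ?_⟩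
    change e.symm c • x₁ = e.symm c • x₂
    rw [hN, hN, e.apply_symm_apply]
    exact h'

end Groth.Agent.H2.LocTransfer
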