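import Mathlib.CategoryTheory.Localization.Triangulated
import Mathlib.CategoryTheory.Localization.CalculusOfFractions
import Mathlib.CategoryTheory.Localization.CalculusOfFractions.Preadditive
import Mathlib.CategoryTheory.Triangulated.Subcategory

set_option autoImplicit false
universe v u v' u'
open CategoryTheory CategoryTheory.Limits CategoryTheory.Pretriangulated

namespace Groth.Agent.H2.LocZero

variable {D : Type u} [Category.{v} D] [Preadditive D]
  (W : MorphismProperty D) {E : Type u'} [Category.{v'} E] (Q : D ⥤ E) [Q.IsLocalization W]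

theorem isZero_of_zero_mem [W.HasLeftCalculusOfFractions] {Z Z' : D} (h : W (0 : Z ⟶ Z')) :
    IsZero (Q.obj Z) := by
  letI := Localization.preadditive Q W
  haveI := Localization.functor_additive Q W
  haveI : IsIso (Q.map (0 : Z ⟶ Z')) := Localization.inverts Q W _ h
  rw [IsZero.iff_id_eq_zero]
  calc 𝟙 (Q.obj Z) = Q.map (0 : Z ⟶ Z') ≫ inv (Q.map (0 : Z ⟶ Z')) := (IsIso.hom_inv_id _).symm
    _ = 0 := by
      have : Q.map (0 : Z ⟶ Z') = 0 := Functor.map_zero _ _ _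
      generalize inv (Q.map (0 : Z ⟶ Z')) = j
      rw [this, zero_comp]

theorem isZero_of_zero_mem' [W.HasLeftCalculusOfFractions] {Z Z' : D} (h : W (0 : Z' ⟶ Z)) :
    IsZero (Q.obj Z) := by
  letI := Localization.preadditive Q W
  haveI := Localization.functor_additive Q W
  haveI : IsIso (Q.map (0 : Z' ⟶ Z)) := Localization.inverts Q W _ h
  rw [IsZero.iff_id_eq_zero]
  calc 𝟙 (Q.obj Z) = inv (Q.map (0 : Z' ⟶ Z)) ≫ Q.map (0 : Z' ⟶ Z) := (IsIso.inv_hom_id _).symm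
    _ = 0 := by
      have : Q.map (0 : Z' ⟶ Z) = 0 := Functor.map_zero _ _ _
      generalize inv (Q.map (0 : Z' ⟶ Z)) = j
      rw [this, comp_zero]

theorem isZero_iff_zero_mem [W.HasLeftCalculusOfFractions] (Z : D) :
    IsZero (Q.obj Z) ↔ ∃ Z' : D, W (0 : Z ⟶ Z') := by
  constructor
  · intro hZ
    have h1 : Q.map (𝟙 Z) = Q.map (0 : Z ⟶ Z) := hZ.eq_of_src _ _
    obtain ⟨Z', s, hs, hs2⟩ := (MorphismProperty.map_eq_iff_postcomp Q W _ _).1 h1
    rw [Category.id_comp, zero_comp] at hs2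
    exact ⟨Z', hs2 ▸ hs⟩
  · rintro ⟨Z', h⟩
    exact isZero_of_zero_mem W Q h

theorem isZero_iff_zero_mem' [W.HasLeftCalculusOfFractions] [W.HasRightCalculusOfFractions] (Z : D) :
    IsZero (Q.obj Z) ↔ ∃ Z' : D, W (0 : Z' ⟶ Z) := by
  constructor
  · intro hZ
    have h1 : Q.map (𝟙 Z) = Q.map (0 : Z ⟶ Z) := hZ.eq_of_src _ _
    obtain ⟨Z', s, hs, hs2⟩ := (MorphismProperty.map_eq_iff_precomp Q W _ _).1 h1
    rw [Category.comp_id, comp_zero] at hs2
    exact ⟨Z', hs2 ▸ hs⟩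
  · rintro ⟨Z', h⟩
    exact isZero_of_zero_mem' W Q h

theorem isZero_of_retract {X Y : E} (r : Retract X Y) (hY : IsZero Y) : IsZero X := by
  refine ⟨fun Z => ⟨⟨⟨r.i ≫ hY.to_ Z⟩, fun f => ?_⟩⟩, fun Z => ⟨⟨⟨hY.from_ Z ≫ r.r⟩, fun f => ?_⟩⟩⟩
  · calc f = (r.i ≫ r.r) ≫ f := by rw [r.retract, Category.id_comp]
      _ = r.i ≫ (r.r ≫ f) := Category.assoc _ _ _
      _ = r.i ≫ hY.to_ Z := by rw [hY.eq_of_src (r.r ≫ f) (hY.to_ Z)]
  · calc f = f ≫ (r.i ≫ r.r) := by rw [r.retract, Category.comp_id]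
      _ = (f ≫ r.i) ≫ r.r := (Category.assoc _ _ _).symm
      _ = hY.from_ Z ≫ r.r := by rw [hY.eq_of_tgt (f ≫ r.i) (hY.from_ Z)]

section Tri

variable {D : Type u} [Category.{v} D] [Preadditive D] [HasZeroObject D] [HasShift D ℤ]
    [∀ n : ℤ, (shiftFunctor D n).Additive] [Pretriangulated D]

set_option backward.isDefEq.respectTransparency false in
set_option backward.defeqAttrib.useBackward true in
theorem invRotate_zero {X Y Z : D} (f : X ⟶ Y) (g : Y ⟶ Z)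
    (hT : Triangle.mk f g (0 : Z ⟶ (shiftFunctor D (1 : ℤ)).obj X) ∈ distTriang D) :
    Triangle.mk (0 : (shiftFunctor D (-1 : ℤ)).obj Z ⟶ X) f
      (g ≫ (shiftEquiv D (1 : ℤ)).counitIso.inv.app Z) ∈ distTriang D := by
  have h := inv_rot_of_distTriang _ hT
  refine isomorphic_distinguished _ h _ (Triangle.isoMk _ _ (Iso.refl _) (Iso.refl _) (Iso.refl _) ?_ ?_ ?_)
  · simp
  · simp
  · simp

theorem exists_triangle_biprod (Z Z' : D) :
    ∃ (g : Z' ⟶ Z ⊞ Z') (h : Z ⊞ Z' ⟶ (shiftFunctor D (1 : ℤ)).obj ((shiftFunctor D (-1 : ℤ)).obj Z)),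
      Triangle.mk (0 : (shiftFunctor D (-1 : ℤ)).obj Z ⟶ Z') g h ∈ distTriang D := by
  have hT₀ : Triangle.mk (biprod.inr : Z' ⟶ Z ⊞ Z') (biprod.fst : Z ⊞ Z' ⟶ Z)
      (0 : Z ⟶ (shiftFunctor D (1 : ℤ)).obj Z') ∈ distTriang D := by
    refine isomorphic_distinguished _ (binaryBiproductTriangle_distinguished Z' Z) _ ?_
    refine Triangle.isoMk _ _ (Iso.refl _) (biprod.braiding Z Z') (Iso.refl _) ?_ ?_ ?_
    · show biprod.inr ≫ (biprod.braiding Z Z').hom = 𝟙 _ ≫ biprod.inl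
      rw [Category.id_comp, biprod.braiding_hom]
      apply biprod.hom_ext <;> simp
    · show biprod.fst ≫ 𝟙 _ = (biprod.braiding Z Z').hom ≫ biprod.snd
      rw [Category.comp_id, biprod.braiding_hom, biprod.lift_snd]
    · show (0 : Z ⟶ _) ≫ _ = 𝟙 _ ≫ 0
      rw [zero_comp, comp_zero]
  exact ⟨_, _, invRotate_zero _ _ hT₀⟩


end Tri

end Groth.Agent.H2.LocZero
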