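import Mathlib

/-!
# Logarithmic connections on the trivial bundle over the affine line: pole order arguments
(S15502, S15503)
-/

open Polynomial

namespace Groth.Agent.H2.LogConn

section inverse

lemma ring_aux {E : Type*} [Ring E] (A U B Q : E) (hA : ∀ x, A * x = x * A) (hAU : A * U = 1)
    (h4 : B * Q = -U) (hcomm : B * Q = Q * B) : B * (-A * Q) = 1 ∧ (-A * Q) * B = 1 := by
  constructor
  · calc B * (-A * Q) = - (B * A * Q) := by rw [neg_mul, mul_neg, mul_assoc]
      _ = - (A * (B * Q)) := by rw [← hA, mul_assoc]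
      _ = 1 := by rw [h4, mul_neg, neg_neg, hAU]
  · calc -A * Q * B = - (A * (B * Q)) := by rw [neg_mul, neg_mul, mul_assoc, hcomm]
      _ = 1 := by rw [h4, mul_neg, neg_neg, hAU]

variable {R : Type*} [CommRing R] [Algebra ℂ R] {d : ℕ}

/-- If the characteristic polynomial of `T` has complex coefficients and `n` is not a root,
then `T - n` is invertible. -/
lemma exists_inverse (T : (Fin d → R) →ₗ[R] (Fin d → R)) (χ : ℂ[X])
    (hχ : T.charpoly = χ.map (algebraMap ℂ R)) (n : ℤ) (hn : χ.eval (n : ℂ) ≠ 0) :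
    ∃ S : Module.End R (Fin d → R), (T - algebraMap R _ (n : R)) * S = 1 ∧
      S * (T - algebraMap R _ (n : R)) = 1 := by
  set a : ℂ := (n : ℂ) with ha
  set q := χ /ₘ (X - C a) with hq
  have h1 : C (χ.eval a) + (X - C a) * q = χ := by
    rw [← modByMonic_X_sub_C_eq_C_eval]
    exact modByMonic_add_div χ (X - C a)
  have h2 : T.charpoly = C (algebraMap ℂ R (χ.eval a)) + (X - C ((n : R))) * q.map (algebraMap ℂ R) := by
    rw [hχ, ← h1]
    simp [ha]
  have h3 := LinearMap.aeval_self_charpoly T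
  rw [h2] at h3
  simp only [map_add, map_mul, map_sub, aeval_C, aeval_X] at h3
  set Q := aeval T (q.map (algebraMap ℂ R)) with hQ
  have hu : IsUnit (algebraMap ℂ R (χ.eval a)) := (IsUnit.mk0 _ hn).map _
  obtain ⟨u, hu'⟩ := hu
  have hcomm : (T - algebraMap R (Module.End R (Fin d → R)) (n : R)) * Q =
      Q * (T - algebraMap R (Module.End R (Fin d → R)) (n : R)) := by
    have e1 : (T - algebraMap R (Module.End R (Fin d → R)) (n : R)) = aeval T (X - C (n : R)) := by
      simp
    rw [e1, hQ, ← map_mul, ← map_mul, mul_comm]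
  have h4 : (T - algebraMap R (Module.End R (Fin d → R)) (n : R)) * Q =
      - algebraMap R (Module.End R (Fin d → R)) (u : R) := by
    rw [hu']
    exact eq_neg_of_add_eq_zero_right h3
  set B : Module.End R (Fin d → R) := T - algebraMap R (Module.End R (Fin d → R)) (n : R) with hB
  have hAU : algebraMap R (Module.End R (Fin d → R)) ((u⁻¹ : Rˣ) : R) *
      algebraMap R (Module.End R (Fin d → R)) (u : R) = 1 := by
    rw [← map_mul]
    simp
  exact ⟨_, ring_aux (algebraMap R (Module.End R (Fin d → R)) ((u⁻¹ : Rˣ) : R))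
    (algebraMap R (Module.End R (Fin d → R)) (u : R)) B Q (fun x => Algebra.commutes _ x) hAU h4 hcomm⟩

end inverse

section poly

variable {R : Type*} [CommRing R] {d r : ℕ}

/-- the polynomial `Θ = ∏ (X - θ i)` -/
noncomputable abbrev Th (θ : Fin r → R) : R[X] := ∏ i, (X - C (θ i))

/-- `∏_{k ≠ i} (θ i - θ k)` -/
noncomputable abbrev Pr (θ : Fin r → R) (i : Fin r) : R := ∏ k ∈ Finset.univ.erase i, (θ i - θ k)

lemma eval_Th (θ : Fin r → R) (i : Fin r) : (Th θ).eval (θ i) = 0 := by
  rw [Th, eval_prod]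
  exact Finset.prod_eq_zero (Finset.mem_univ i) (by simp)

lemma eval_derivative_Th (θ : Fin r → R) (i : Fin r) :
    (derivative (Th θ)).eval (θ i) = Pr θ i := by
  have h : Th θ = (X - C (θ i)) * ∏ k ∈ Finset.univ.erase i, (X - C (θ k)) :=
    (Finset.mul_prod_erase Finset.univ (fun k => X - C (θ k)) (Finset.mem_univ i)).symm
  rw [h, derivative_mul]
  simp [eval_prod, Pr]

lemma isUnit_Pr (θ : Fin r → R) (hθ : ∀ i k, i ≠ k → IsUnit (θ i - θ k)) (i : Fin r) :
    IsUnit (Pr θ i) := by
  rw [Pr, IsUnit.prod_iff]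
  intro k hk
  exact hθ i k (Finset.ne_of_mem_erase hk).symm

lemma Th_dvd (θ : Fin r → R) (hθ : ∀ i k, i ≠ k → IsUnit (θ i - θ k)) (g : R[X])
    (hg : ∀ i, g.eval (θ i) = 0) : Th θ ∣ g := by
  apply Finset.prod_dvd_of_coprime
  · intro i _ k _ hik
    exact isCoprime_X_sub_C_of_isUnit_sub (hθ i k hik)
  · intro i _
    rw [dvd_iff_isRoot]
    exact hg i

lemma interp (θ : Fin r → R) (hθ : ∀ i k, i ≠ k → IsUnit (θ i - θ k)) (c : Fin r → Fin d → R) :
    ∃ h : Fin d → R[X], ∀ i j, (h j).eval (θ i) = c i j := by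
  choose u hu using fun i => (isUnit_Pr θ hθ i)
  refine ⟨fun j => ∑ i, C (c i j * ((u i)⁻¹ : Rˣ)) * ∏ k ∈ Finset.univ.erase i, (X - C (θ k)), ?_⟩
  intro i j
  rw [eval_finset_sum, Finset.sum_eq_single i]
  · rw [eval_mul, eval_C, eval_prod]
    simp only [eval_sub, eval_X, eval_C]
    have : ∏ k ∈ Finset.univ.erase i, (θ i - θ k) = (u i : R) := (hu i).symm
    rw [this, mul_assoc, Units.inv_mul, mul_one]
  · intro i' _ hi'
    rw [eval_mul, eval_prod]
    rw [Finset.prod_eq_zero (i := i) (Finset.mem_erase.2 ⟨hi'.symm, Finset.mem_univ _⟩) (by simp),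
      mul_zero]
  · intro h
    exact absurd (Finset.mem_univ i) h

/-- evaluation at `θ i` of `D₀ v`. -/
lemma eval_D₀ (θ : Fin r → R) (D₀ : (Fin d → R[X]) →+ (Fin d → R[X]))
    (hD₀ : ∀ (p : R[X]) (v : Fin d → R[X]),
      D₀ (p • v) = (Th θ * derivative p) • v + p • D₀ v)
    (Res : Fin r → ((Fin d → R) →ₗ[R] (Fin d → R)))
    (hRes : ∀ (i : Fin r) (m : Fin d → R) (j : Fin d),
      (D₀ (fun j => C (m j)) j).eval (θ i) = Pr θ i * Res i m j)
    (v : Fin d → R[X]) (i : Fin r) (j : Fin d) :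
    (D₀ v j).eval (θ i) = Pr θ i * Res i (fun j => (v j).eval (θ i)) j := by
  set m : Fin d → R := fun j => (v j).eval (θ i) with hm
  set u : Fin d → R[X] := fun j => v j /ₘ (X - C (θ i)) with hu
  have hv : v = (fun j => C (m j)) + (X - C (θ i)) • u := by
    funext j
    simp only [Pi.add_apply, Pi.smul_apply, smul_eq_mul, hm, hu]
    rw [← modByMonic_X_sub_C_eq_C_eval]
    exact (modByMonic_add_div (v j) (X - C (θ i))).symm
  rw [hv, map_add, hD₀]
  simp only [Pi.add_apply, Pi.smul_apply, smul_eq_mul, eval_add, eval_mul, eval_sub, eval_X,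
    eval_C, sub_self, zero_mul, add_zero, eval_Th, hRes]

end poly

section loc

variable {R : Type*} [CommRing R] [IsDomain R] {d r : ℕ} (θ : Fin r → R) (Θ : R[X])
  (hΘ : Θ = Th θ)


include hΘ in
lemma Th_ne_zero : Θ ≠ 0 := by
  rw [hΘ]
  exact (monic_prod_of_monic _ _ (fun i _ => monic_X_sub_C (θ i))).ne_zero

include hΘ in
lemma alg_injective : Function.Injective (algebraMap R[X] (Localization.Away Θ)) :=
  IsLocalization.injective (Localization.Away Θ) (powers_le_nonZeroDivisors_of_noZeroDivisors (Th_ne_zero θ Θ hΘ))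

lemma isUnit_alg_Th : IsUnit (algebraMap R[X] (Localization.Away Θ) Θ) :=
  IsLocalization.Away.algebraMap_isUnit Θ

omit [IsDomain R] in
lemma Th_mul_derivative_pow (n : ℕ) :
    Θ * derivative (Θ ^ n) = (C (n : R) * derivative Θ) * Θ ^ n := by
  rw [derivative_pow]
  cases n with
  | zero => simp
  | succ n =>
    simp only [Nat.add_sub_cancel, pow_succ]
    ring

variable (D₀ : (Fin d → R[X]) →+ (Fin d → R[X]))
  (D : (Fin d → (Localization.Away Θ)) →+ (Fin d → (Localization.Away Θ)))
  (hD : ∀ (p : R[X]) (w : Fin d → (Localization.Away Θ)), D (p • w) = (Θ * derivative p) • w + p • D w)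
  (hDD₀ : ∀ v : Fin d → R[X],
      D (fun j => algebraMap R[X] (Localization.Away Θ) (v j)) = fun j => algebraMap R[X] (Localization.Away Θ) (D₀ v j))

include hD hDD₀ in
omit [IsDomain R] in
/-- the basic formula (★) -/
lemma star (n : ℕ) (w : Fin d → (Localization.Away Θ)) (g : Fin d → R[X])
    (hw : ∀ j, algebraMap R[X] (Localization.Away Θ) (Θ ^ n) * w j = algebraMap R[X] (Localization.Away Θ) (g j)) (j : Fin d) :
    algebraMap R[X] (Localization.Away Θ) (D₀ g j) =
      algebraMap R[X] (Localization.Away Θ) ((C (n : R) * derivative Θ) * g j) +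
        algebraMap R[X] (Localization.Away Θ) (Θ ^ n) * D w j := by
  have h1 : (Θ ^ n) • w = fun j => algebraMap R[X] (Localization.Away Θ) (g j) := by
    funext j
    rw [Pi.smul_apply, Algebra.smul_def, hw]
  have h2 := hD (Θ ^ n) w
  rw [h1, hDD₀, Th_mul_derivative_pow] at h2
  have h3 := congrFun h2 j
  rw [Pi.add_apply, Pi.smul_apply, Pi.smul_apply, Algebra.smul_def, Algebra.smul_def] at h3
  rw [h3, map_mul, mul_assoc, hw, ← map_mul]

include hΘ hD hDD₀ in
theorem regular_of_D_regular (hθ : ∀ i k, i ≠ k → IsUnit (θ i - θ k))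
    (hD₀ : ∀ (p : R[X]) (v : Fin d → R[X]), D₀ (p • v) = (Θ * derivative p) • v + p • D₀ v)
    (Res : Fin r → ((Fin d → R) →ₗ[R] (Fin d → R)))
    (hRes : ∀ (i : Fin r) (m : Fin d → R) (j : Fin d),
      (D₀ (fun j => C (m j)) j).eval (θ i) = Pr θ i * Res i m j)
    (hinj : ∀ (i : Fin r) (n : ℕ), n ≠ 0 → ∀ m : Fin d → R, Res i m = (n : R) • m → m = 0)
    (f : Fin d → Localization.Away Θ)
    (hf : ∃ v : Fin d → R[X], D f = fun j => algebraMap R[X] (Localization.Away Θ) (v j)) :
    ∃ v : Fin d → R[X], f = fun j => algebraMap R[X] (Localization.Away Θ) (v j) := by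
  obtain ⟨v, hv⟩ := hf
  have hD₀' : ∀ (p : R[X]) (v : Fin d → R[X]),
      D₀ (p • v) = (Th θ * derivative p) • v + p • D₀ v := by
    rw [← hΘ]; exact hD₀
  have hex : ∃ n : ℕ, ∃ g : Fin d → R[X], ∀ j,
      algebraMap R[X] (Localization.Away Θ) (Θ ^ n) * f j =
        algebraMap R[X] (Localization.Away Θ) (g j) := by
    obtain ⟨⟨b, n, hn⟩, hb⟩ :=
      IsLocalization.exist_integer_multiples_of_finite (Submonoid.powers Θ) f
    choose g hg using hb
    refine ⟨n, g, fun j => ?_⟩
    have := hg j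
    simp only [Algebra.smul_def] at this
    rw [this]
    have hn' : Θ ^ n = b := hn
    rw [hn']
  classical
  obtain ⟨g, hg⟩ := Nat.find_spec hex
  by_cases hn : Nat.find hex = 0
  · rw [hn] at hg
    refine ⟨g, funext fun j => ?_⟩
    simpa using hg j
  · exfalso
    set n := Nat.find hex with hn_def
    have hst := fun j => star Θ D₀ D hD hDD₀ n f g hg j
    have h1 : ∀ j, D₀ g j = C (n : R) * derivative Θ * g j + Θ ^ n * v j := by
      intro j
      apply alg_injective θ Θ hΘ
      rw [hst j, hv, map_add, map_mul _ (Θ ^ n)]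
    have h2 : ∀ i j, Pr θ i * Res i (fun j => (g j).eval (θ i)) j =
        (n : R) * Pr θ i * (g j).eval (θ i) := by
      intro i j
      rw [← eval_D₀ θ D₀ hD₀' Res hRes g i j, h1 j]
      simp only [eval_add, eval_mul, eval_C, eval_pow, hΘ, eval_Th, eval_derivative_Th,
        zero_pow hn, zero_mul, add_zero]
    have h3 : ∀ i j, (g j).eval (θ i) = 0 := by
      intro i j
      have := hinj i n hn (fun j => (g j).eval (θ i)) (funext fun j => ?_)
      · exact congrFun this j
      · obtain ⟨u, hu⟩ := isUnit_Pr θ hθ i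
        have h := h2 i j
        rw [← hu] at h
        rw [Pi.smul_apply, smul_eq_mul]
        apply u.isUnit.mul_left_cancel
        rw [h]
        ring
    have h4 : ∀ j, Θ ∣ g j := fun j => by
      rw [hΘ]; exact Th_dvd θ hθ (g j) (fun i => h3 i j)
    choose g' hg' using h4
    have hlt : n - 1 < n := Nat.sub_lt (Nat.pos_of_ne_zero hn) one_pos
    apply Nat.find_min hex hlt
    refine ⟨g', fun j => ?_⟩
    apply (isUnit_alg_Th Θ).mul_left_cancel
    rw [← mul_assoc, ← map_mul, ← pow_succ', Nat.sub_add_cancel (Nat.pos_of_ne_zero hn), hg j,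
      hg' j, map_mul]

include hΘ hD hDD₀ in
theorem exists_D_add_regular (hθ : ∀ i k, i ≠ k → IsUnit (θ i - θ k))
    (hD₀ : ∀ (p : R[X]) (v : Fin d → R[X]), D₀ (p • v) = (Θ * derivative p) • v + p • D₀ v)
    (Res : Fin r → ((Fin d → R) →ₗ[R] (Fin d → R)))
    (hRes : ∀ (i : Fin r) (m : Fin d → R) (j : Fin d),
      (D₀ (fun j => C (m j)) j).eval (θ i) = Pr θ i * Res i m j)
    (hsurj : ∀ (i : Fin r) (n : ℕ), n ≠ 0 → ∀ m : Fin d → R,
      ∃ m' : Fin d → R, Res i m' - (n : R) • m' = m)
    (w : Fin d → Localization.Away Θ) :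
    ∃ (w' : Fin d → Localization.Away Θ) (v : Fin d → R[X]),
      w = D w' + fun j => algebraMap R[X] (Localization.Away Θ) (v j) := by
  have hD₀' : ∀ (p : R[X]) (v : Fin d → R[X]),
      D₀ (p • v) = (Th θ * derivative p) • v + p • D₀ v := by
    rw [← hΘ]; exact hD₀
  have key : ∀ (n : ℕ) (w : Fin d → Localization.Away Θ) (g : Fin d → R[X]),
      (∀ j, algebraMap R[X] (Localization.Away Θ) (Θ ^ n) * w j =
        algebraMap R[X] (Localization.Away Θ) (g j)) →
      ∃ (w' : Fin d → Localization.Away Θ) (v : Fin d → R[X]),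
        w = D w' + fun j => algebraMap R[X] (Localization.Away Θ) (v j) := by
    intro n
    induction n with
    | zero =>
      intro w g hg
      refine ⟨0, g, ?_⟩
      rw [map_zero, zero_add]
      funext j
      simpa using hg j
    | succ n ih =>
      intro w g hg
      choose u hu using fun i => isUnit_Pr θ hθ i
      choose c hc using fun i => hsurj i (n + 1) (Nat.succ_ne_zero n)
        (fun j => ((u i)⁻¹ : Rˣ) * (g j).eval (θ i))
      obtain ⟨h, hh⟩ := interp θ hθ c
      set w₁ : Fin d → Localization.Away Θ := fun j =>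
        IsLocalization.mk' (Localization.Away Θ) (h j)
          (⟨Θ ^ (n + 1), n + 1, rfl⟩ : Submonoid.powers Θ) with hw₁
      have hw₁' : ∀ j, algebraMap R[X] (Localization.Away Θ) (Θ ^ (n + 1)) * w₁ j =
          algebraMap R[X] (Localization.Away Θ) (h j) := by
        intro j
        exact IsLocalization.mk'_spec' (Localization.Away Θ) (h j)
          (⟨Θ ^ (n + 1), n + 1, rfl⟩ : Submonoid.powers Θ)
      have hst := fun j => star Θ D₀ D hD hDD₀ (n + 1) w₁ h hw₁' j
      set g₂ : Fin d → R[X] := fun j =>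
        g j - D₀ h j + C (((n + 1 : ℕ) : R)) * derivative Θ * h j with hg₂
      have h1 : ∀ j, algebraMap R[X] (Localization.Away Θ) (Θ ^ (n + 1)) * (w - D w₁) j =
          algebraMap R[X] (Localization.Away Θ) (g₂ j) := by
        intro j
        rw [Pi.sub_apply, mul_sub, hg j, hg₂]
        simp only [map_add, map_sub]
        rw [hst j]
        ring
      have h2 : ∀ i j, (g₂ j).eval (θ i) = 0 := by
        intro i j
        have hci : (fun j => (h j).eval (θ i)) = c i := funext fun j => hh i j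
        have e1 := eval_D₀ θ D₀ hD₀' Res hRes h i j
        rw [hci] at e1
        have e2 := congrFun (hc i) j
        simp only [Pi.sub_apply, Pi.smul_apply, smul_eq_mul] at e2
        simp only [hg₂, eval_add, eval_sub, eval_mul, eval_C, e1, hΘ, eval_derivative_Th, hh]
        have e3 : (g j).eval (θ i) = Pr θ i * (((u i)⁻¹ : Rˣ) * (g j).eval (θ i)) := by
          rw [← hu i, ← mul_assoc, Units.mul_inv, one_mul]
        rw [e3, ← e2]
        ring
      have h3 : ∀ j, Θ ∣ g₂ j := fun j => by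
        rw [hΘ]; exact Th_dvd θ hθ (g₂ j) (fun i => h2 i j)
      choose g₃ hg₃ using h3
      have h4 : ∀ j, algebraMap R[X] (Localization.Away Θ) (Θ ^ n) * (w - D w₁) j =
          algebraMap R[X] (Localization.Away Θ) (g₃ j) := by
        intro j
        apply (isUnit_alg_Th Θ).mul_left_cancel
        rw [← mul_assoc, ← map_mul, ← pow_succ', h1 j, hg₃ j, map_mul]
      obtain ⟨w'', v, hv⟩ := ih (w - D w₁) g₃ h4
      refine ⟨w₁ + w'', v, ?_⟩
      rw [map_add, add_assoc, ← hv]
      abel
  obtain ⟨⟨b, n, hn⟩, hb⟩ :=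
    IsLocalization.exist_integer_multiples_of_finite (Submonoid.powers Θ) w
  choose g hg using hb
  refine key n w g (fun j => ?_)
  have := hg j
  simp only [Algebra.smul_def] at this
  rw [this]
  have hn' : Θ ^ n = b := hn
  rw [hn']

end loc

end Groth.Agent.H2.LogConn
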