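import Groth.Agent.S2385
import Groth.Agent.S2390
import Groth.Agent.Lib.Lead.PN.OverChart
import Groth.Agent.Lib.Lead.PN.GlobGen
import Groth.Agent.Lib.Lead.PN.AmpleSerreRel2
import Groth.Agent.Lib.Lead.QC.CounitEpi2
import Groth.Agent.Lib.Lead.QC.LocFree
import Groth.Agent.Lib.Lead.SC.RPushCover
import Groth.Agent.Lib.Helper5.AG.ProjProper
import Groth.Agent.H4.PSch4
import Groth.Agent.Lib.Helper2.FlB

/-!
# Fibrewise `m`-regularity on `P^n_S` (helper2)

`Q` coherent on `P^n_S`, flat over the Noetherian scheme `S`, with `m`-regular fibres.  Then for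
`d ≥ m`: `π_* Q(d)` is finite locally free, `R^i π_* Q(d) = 0` for `i ≥ 1`, and
`π^* π_* Q(d) ⟶ Q(d)` is an epimorphism.

Strategy: the fibrewise vanishing gives `R^i π_* Q(m - i) = 0` (S2385), hence
`H^i(π⁻¹V, Q(m-i)) = 0` for affine `V`; through the chart `P^n_{Γ(V)} ≅ π⁻¹V` this says that
`Q|_{π⁻¹V}` is `m`-regular on `P^n_A`, `A = Γ(S, V)`; Castelnuovo–Mumford over the ring `A` (lead's
`PN.Koszul`, `PN.GlobGen`) gives the vanishing and global generation in all degrees `d ≥ m`, and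
S2390 gives the local freeness.
-/

set_option autoImplicit false
set_option linter.style.haveILetI false
universe u

open CategoryTheory CategoryTheory.Limits AlgebraicGeometry Opposite TopologicalSpace

namespace Groth.Agent.H2.MReg

open Groth.Agent.LD Groth.Agent.LD.QC Groth.Agent.LD.PN Twist

section general

/-- an epimorphism from a free module onto the restriction to a chart gives one onto the
restriction to any open contained in the range of the chart (arbitrary index types). -/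
theorem exists_epi_free_restrict_of_range_le {X Q : Scheme.{u}} (G : X.Modules) (j : Q ⟶ X)
    [IsOpenImmersion j] (W : X.Opens) (hW : (W : Set X) ⊆ Set.range j) (K : Type u)
    (p : (SheafOfModules.free K : Q.Modules) ⟶ G.restrict j) (hp : Epi p) :
    ∃ (K' : Type u) (p' : (SheafOfModules.free K' : (W : Scheme.{u}).Modules) ⟶ G.restrict W.ι),
      Epi p' := by
  have hW' : Set.range W.ι ⊆ Set.range j := by
    rintro _ ⟨y, rfl⟩
    exact hW y.2
  let k : (W : Scheme.{u}) ⟶ Q := IsOpenImmersion.lift j W.ι hW'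
  let FQ : Q.Modules := SheafOfModules.free (R := Q.ringCatSheaf) K
  let FW : (W : Scheme.{u}).Modules :=
    SheafOfModules.free (R := (W : Scheme.{u}).ringCatSheaf) K
  let p0 : FQ ⟶ G.restrict j := p
  have hp0 : Epi p0 := hp
  let e1 : (Scheme.Modules.restrictFunctor k).obj FQ ≅ FW :=
    (Scheme.Modules.restrictFunctorIsoPullback k).app _ ≪≫ pullbackFreeIso k K
  have h1 : Epi ((Scheme.Modules.restrictFunctor k).map p0) := by
    haveI := hp0
    infer_instance
  have h2 : Epi ((Scheme.Modules.restrictFunctor k).map p0 ≫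
      (restrictLiftIso G j W.ι hW').hom) :=
    epi_comp' h1 (IsIso.epi_of_iso (restrictLiftIso G j W.ι hW').hom)
  let p' : FW ⟶ G.restrict W.ι := e1.inv ≫ (Scheme.Modules.restrictFunctor k).map p0 ≫
    (restrictLiftIso G j W.ι hW').hom
  have hp' : Epi p' := epi_comp' (IsIso.epi_of_iso e1.inv) h2
  exact ⟨K, p', hp'⟩

/-- a higher direct image along a proper morphism to a locally Noetherian scheme vanishes as
soon as the cohomology of all fibres vanishes in that degree (flat coherent modules). -/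
theorem isZero_Rpush_of_fibres {X Y : Scheme.{u}} (f : X ⟶ Y) [IsProper f]
    [IsLocallyNoetherian Y] [HasInjectiveResolutions X.Modules] (F : X.Modules)
    (hF : Coh.IsCoh F) (hfl : FlatMod.IsFlatOver f F) (i : ℕ)
    (h : ∀ y : Y, Subsingleton (CohIII.fiberH f F y i)) :
    IsZero ((Coh.Rpush f i).obj F) := by
  apply Groth.Agent.H4.PSch4.isZero_of_local
  intro s
  obtain ⟨U, hsU, hz⟩ := Groth.Agent.S2385.result f F hF hfl s i (h s)
  refine ⟨U.toScheme, U.ι, inferInstance, ?_, hz⟩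
  rw [Scheme.Opens.range_ι]
  exact hsU

end general

section main

variable (S : Scheme.{u}) (n : ℕ) (Q : (CohB1.ProjSpaceOver n S).Modules)

/-- `Q(j) = Q ⊗ O(j)`. -/
noncomputable abbrev tw (j : ℤ) : (CohB1.ProjSpaceOver n S).Modules :=
  CohB1.tensorMod Q (Twist.twistOver n S j)

theorem isCoh_tw (hQ : Coh.IsCoh Q) (j : ℤ) : Coh.IsCoh (tw S n Q j) := by
  haveI : Q.IsQuasicoherent := hQ.1
  have hinv := Groth.Agent.H2.FlB.isInvertible_twistOver n S j
  haveI : (Twist.twistOver n S j).IsQuasicoherent := qc_of_isInvertible _ hinv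
  exact ⟨tensorMod_isQuasicoherent _ _, isFiniteType_tensorMod_of_isInvertible Q hQ.2 _ hinv⟩

theorem isFlatOver_tw (hQ : Coh.IsCoh Q)
    (hflat : FlatMod.IsFlatOver (CohB1.ProjSpaceOver.toBase n S) Q) (j : ℤ) :
    FlatMod.IsFlatOver (CohB1.ProjSpaceOver.toBase n S) (tw S n Q j) := by
  haveI : Q.IsQuasicoherent := hQ.1
  exact Groth.Agent.H2.FlB.isFlatOver_tensor_invertible _ Q _
    (Groth.Agent.H2.FlB.isInvertible_twistOver n S j) hflat

variable {S} {V : S.Opens} (hV : IsAffineOpen V)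

/-- the restriction of `Q` to the chart over the affine open `V`, as a module on `Proj`. -/
noncomputable def QV : (Proj (CohB1.polyGrading n Γ(S, V))).Modules :=
  (show (CohB1.ProjSpace n Γ(S, V)).Modules from Q.restrict (OC.chart n hV.fromSpec))

theorem qc_QV (hQ : Coh.IsCoh Q) : (QV n Q hV).IsQuasicoherent := by
  haveI : Q.IsQuasicoherent := hQ.1
  exact qc_restrict (OC.chart n hV.fromSpec) Q

theorem ft_QV (hQ : Coh.IsCoh Q) : (QV n Q hV).IsFiniteType := by
  haveI : Q.IsQuasicoherent := hQ.1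
  exact isFiniteType_restrict (OC.chart n hV.fromSpec) Q hQ.2

/-- `Q(j)` restricted to the chart is `(Q|_chart)(j)`. -/
theorem nonempty_restrict_tw_iso (j : ℤ) :
    Nonempty ((tw S n Q j).restrict (OC.chart n hV.fromSpec) ≅ kG n Γ(S, V) (QV n Q hV) j) := by
  have e2 : (Twist.twistOver n S j).restrict (OC.chart n hV.fromSpec) ≅
      Twist.twist (CohB1.polyGrading n Γ(S, V)) j :=
    (Scheme.Modules.restrictFunctorIsoPullback (OC.chart n hV.fromSpec)).app _ ≪≫
      OC.chartTwistIso n hV.fromSpec j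
  have e : (tw S n Q j).restrict (OC.chart n hV.fromSpec) ≅
      CohB1.tensorMod (Q.restrict (OC.chart n hV.fromSpec))
        (Twist.twist (CohB1.polyGrading n Γ(S, V)) j) :=
    (restrictTensorIso (OC.chart n hV.fromSpec) Q (Twist.twistOver n S j)).symm ≪≫
      tensorIso' (Iso.refl _) e2
  exact ⟨e⟩

/-- cohomology over the preimage of `V` is cohomology of the chart. -/
theorem nonempty_HH_equiv (G : (CohB1.ProjSpaceOver n S).Modules) (p : ℕ) :
    Nonempty (Coh.HH ((CohB1.ProjSpaceOver.toBase n S) ⁻¹ᵁ V).toScheme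
        (G.restrict ((CohB1.ProjSpaceOver.toBase n S) ⁻¹ᵁ V).ι) p ≃+
      Coh.HH (CohB1.ProjSpace n Γ(S, V)) (G.restrict (OC.chart n hV.fromSpec)) p) := by
  obtain ⟨e⟩ := SC.HH_restrict_equiv (OC.chart n hV.fromSpec) G p
  rw [OC.opensRange_chart, hV.opensRange_fromSpec] at e
  obtain ⟨e'⟩ := SC.HH_restrict_equiv ((CohB1.ProjSpaceOver.toBase n S) ⁻¹ᵁ V).ι G p
  rw [Scheme.Opens.opensRange_ι] at e'
  exact ⟨e'.trans e.symm⟩

theorem subsingleton_chart_of_preimage (j : ℤ) (p : ℕ)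
    (h : Subsingleton (Coh.HH ((CohB1.ProjSpaceOver.toBase n S) ⁻¹ᵁ V).toScheme
        ((tw S n Q j).restrict ((CohB1.ProjSpaceOver.toBase n S) ⁻¹ᵁ V).ι) p)) :
    Subsingleton (Coh.HH (Proj (CohB1.polyGrading n Γ(S, V))) (kG n Γ(S, V) (QV n Q hV) j) p) := by
  obtain ⟨e⟩ := nonempty_HH_equiv n hV (tw S n Q j) p
  obtain ⟨e2⟩ := nonempty_restrict_tw_iso n Q hV j
  haveI := h
  have h1 : Subsingleton (Coh.HH (CohB1.ProjSpace n Γ(S, V))
      ((tw S n Q j).restrict (OC.chart n hV.fromSpec)) p) := e.symm.toEquiv.subsingleton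
  exact subsingleton_HH_of_iso e2 p h1

theorem subsingleton_preimage_of_chart (j : ℤ) (p : ℕ)
    (h : Subsingleton (Coh.HH (Proj (CohB1.polyGrading n Γ(S, V)))
      (kG n Γ(S, V) (QV n Q hV) j) p)) :
    Subsingleton (Coh.HH ((CohB1.ProjSpaceOver.toBase n S) ⁻¹ᵁ V).toScheme
        ((tw S n Q j).restrict ((CohB1.ProjSpaceOver.toBase n S) ⁻¹ᵁ V).ι) p) := by
  obtain ⟨e⟩ := nonempty_HH_equiv n hV (tw S n Q j) p
  obtain ⟨e2⟩ := nonempty_restrict_tw_iso n Q hV j
  haveI h1 : Subsingleton (Coh.HH (CohB1.ProjSpace n Γ(S, V))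
      ((tw S n Q j).restrict (OC.chart n hV.fromSpec)) p) :=
    subsingleton_HH_of_iso e2.symm p h
  exact e.toEquiv.subsingleton

end main

section reg

variable (S : Scheme.{u}) [IsNoetherian S] (n : ℕ) (Q : (CohB1.ProjSpaceOver n S).Modules)
  (hQ : Coh.IsCoh Q) (hflat : FlatMod.IsFlatOver (CohB1.ProjSpaceOver.toBase n S) Q) (m : ℤ)
  (hreg : ∀ (s : S) (i : ℕ), 1 ≤ i →
    Subsingleton (CohIII.fiberH (CohB1.ProjSpaceOver.toBase n S) (tw S n Q (m - i)) s i))

include hQ hflat hreg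

/-- the restriction of `Q` to every chart is `m`-regular. -/
theorem isReg_QV {V : S.Opens} (hV : IsAffineOpen V) : IsReg n Γ(S, V) (QV n Q hV) m := by
  haveI := QCQS.hasInjRes (CohB1.ProjSpaceOver n S)
  haveI := Groth.Agent.H5.AG.isProper_toBase n S
  intro i hi
  have hF := isCoh_tw S n Q hQ (m - i)
  haveI : (tw S n Q (m - i)).IsQuasicoherent := hF.1
  have hz := isZero_Rpush_of_fibres (CohB1.ProjSpaceOver.toBase n S) (tw S n Q (m - i)) hF
    (isFlatOver_tw S n Q hQ hflat (m - i)) i (fun s => hreg s i hi)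
  have h1 := AmS.subsingleton_HH_preimage_of_isZero_Rpush (CohB1.ProjSpaceOver.toBase n S)
    (tw S n Q (m - i)) i hz V hV
  exact subsingleton_chart_of_preimage n Q hV (m - i) i h1

/-- vanishing of the cohomology of `Q(d)`, `d ≥ m`, over the preimages of affine opens. -/
theorem subsingleton_preimage_tw (d : ℤ) (hd : m ≤ d) (i : ℕ) (hi : 1 ≤ i) {V : S.Opens}
    (hV : IsAffineOpen V) :
    Subsingleton (Coh.HH ((CohB1.ProjSpaceOver.toBase n S) ⁻¹ᵁ V).toScheme
        ((tw S n Q d).restrict ((CohB1.ProjSpaceOver.toBase n S) ⁻¹ᵁ V).ι) i) := by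
  haveI := qc_QV n Q hV hQ
  have h0 := isReg_QV S n Q hQ hflat m hreg hV
  have h1 := isReg_of_le n Γ(S, V) (QV n Q hV) m (d + i) (by omega) h0
  have h2 := h1 i hi
  have h3 : d + (i : ℤ) - (i : ℤ) = d := by omega
  rw [h3] at h2
  exact subsingleton_preimage_of_chart n Q hV d i h2

theorem exists_affine_preimage_tw (d : ℤ) (hd : m ≤ d) (i : ℕ) (hi : 1 ≤ i) (x : S) :
    ∃ W : S.Opens, IsAffineOpen W ∧ x ∈ W ∧
      Subsingleton (Coh.HH ((CohB1.ProjSpaceOver.toBase n S) ⁻¹ᵁ W).toScheme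
        ((tw S n Q d).restrict ((CohB1.ProjSpaceOver.toBase n S) ⁻¹ᵁ W).ι) i) := by
  obtain ⟨_, ⟨W, hW, rfl⟩, hxW, -⟩ := (Scheme.isBasis_affineOpens S).exists_subset_of_mem_open
    (Set.mem_univ x) isOpen_univ
  exact ⟨W, hW, hxW, subsingleton_preimage_tw S n Q hQ hflat m hreg d hd i hi hW⟩

/-- **(2)**: `R^i π_* Q(d) = 0` for `i ≥ 1`, `d ≥ m` (abelian sheaves). -/
theorem isZero_RpushAb_tw (d : ℤ) (hd : m ≤ d) (i : ℕ) (hi : 1 ≤ i) :
    IsZero ((Coh.RpushAb (CohB1.ProjSpaceOver.toBase n S) i).obj (Coh.toAb (tw S n Q d))) := by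
  haveI := Groth.Agent.H5.AG.isProper_toBase n S
  haveI : (tw S n Q d).IsQuasicoherent := (isCoh_tw S n Q hQ d).1
  exact SC.isZero_RpushAb_of_affine_cover _ _ i
    (exists_affine_preimage_tw S n Q hQ hflat m hreg d hd i hi)

/-- `R^i π_* Q(d) = 0` for `i ≥ 1`, `d ≥ m` (modules). -/
theorem isZero_Rpush_tw [HasInjectiveResolutions (CohB1.ProjSpaceOver n S).Modules]
    (d : ℤ) (hd : m ≤ d) (i : ℕ) (hi : 1 ≤ i) :
    IsZero ((Coh.Rpush (CohB1.ProjSpaceOver.toBase n S) i).obj (tw S n Q d)) := by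
  haveI := Groth.Agent.H5.AG.isProper_toBase n S
  haveI : (tw S n Q d).IsQuasicoherent := (isCoh_tw S n Q hQ d).1
  exact SC.isZero_Rpush_of_affine_cover _ _ i
    (exists_affine_preimage_tw S n Q hQ hflat m hreg d hd i hi)

/-- **(1)**: `π_* Q(d)` is finite locally free for `d ≥ m`. -/
theorem isFinLocFree_push_tw (d : ℤ) (hd : m ≤ d) :
    FlatMod.IsFinLocFree ((Coh.push (CohB1.ProjSpaceOver.toBase n S)).obj (tw S n Q d)) := by
  haveI := QCQS.hasInjRes (CohB1.ProjSpaceOver n S)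
  haveI := Groth.Agent.H5.AG.isProper_toBase n S
  have hR : ∀ i : ℕ, 0 < i →
      IsZero ((Coh.Rpush (CohB1.ProjSpaceOver.toBase n S) i).obj (tw S n Q d)) :=
    fun i hi => isZero_Rpush_tw S n Q hQ hflat m hreg d hd i hi
  obtain ⟨-, h2⟩ := Groth.Agent.S2390.result (CohB1.ProjSpaceOver.toBase n S) (tw S n Q d)
    (isCoh_tw S n Q hQ d) (isFlatOver_tw S n Q hQ hflat d) hR
  intro y
  obtain ⟨U, hyU, he⟩ := h2 y
  exact ⟨U, _, hyU, he⟩

/-- **(3)**: `π^* π_* Q(d) ⟶ Q(d)` is an epimorphism for `d ≥ m`. -/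
theorem epi_counit_tw (d : ℤ) (hd : m ≤ d) :
    Epi ((Scheme.Modules.pullbackPushforwardAdjunction
      (CohB1.ProjSpaceOver.toBase n S)).counit.app (tw S n Q d)) := by
  apply epi_counit_of_local_epi_free
  intro x
  obtain ⟨W, hW, hxW⟩ : ∃ W : S.Opens, IsAffineOpen W ∧
      (CohB1.ProjSpaceOver.toBase n S) x ∈ W := by
    obtain ⟨_, ⟨W, hW, rfl⟩, hxW, -⟩ := (Scheme.isBasis_affineOpens S).exists_subset_of_mem_open
      (Set.mem_univ ((CohB1.ProjSpaceOver.toBase n S) x)) isOpen_univ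
    exact ⟨W, hW, hxW⟩
  refine ⟨W, hxW, ?_⟩
  haveI := qc_QV n Q hW hQ
  have h0 := isReg_QV S n Q hQ hflat m hreg hW
  have h1 := isReg_of_le n Γ(S, W) (QV n Q hW) m d hd h0
  have hepi := epi_homOfFamily_of_isReg n Γ(S, W) (QV n Q hW) (ft_QV n Q hW hQ) d h1
  obtain ⟨e2⟩ := nonempty_restrict_tw_iso n Q hW d
  have he2 : Epi e2.inv := ⟨fun g g' w => (Iso.cancel_iso_inv_left e2 g g').1 w⟩
  have hepi2 : Epi (homOfFamily (kG n Γ(S, W) (QV n Q hW) d)
      (fun a : Γ(kG n Γ(S, W) (QV n Q hW) d, ⊤) => a) ≫ e2.inv) :=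
    epi_comp' hepi he2
  have key : ∃ (K : Type u) (p : (SheafOfModules.free K : (CohB1.ProjSpace n Γ(S, W)).Modules) ⟶
      (tw S n Q d).restrict (OC.chart n hW.fromSpec)), Epi p := ⟨_, _, hepi2⟩
  obtain ⟨K, p, hp⟩ := key
  refine exists_epi_free_restrict_of_range_le (tw S n Q d) (OC.chart n hW.fromSpec)
    ((CohB1.ProjSpaceOver.toBase n S) ⁻¹ᵁ W) ?_ K p hp
  intro y hy
  rw [OC.range_chart, hW.range_fromSpec]
  exact hy

end reg

end Groth.Agent.H2.MReg
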