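import Mathlib
import Groth.Prelude.Def_W4c3perfectstacksMV

/-!
# Mayer–Vietoris squares of triangulated categories: basics (helper2)
-/

universe v u

set_option linter.unusedSectionVars false

open CategoryTheory CategoryTheory.Limits CategoryTheory.Pretriangulated

namespace Groth.Agent.H2.MV

open W4c3perfectstacks

section general

variable {D : Type u} [Category.{v} D] [Preadditive D] [HasZeroObject D] [HasShift D ℤ]
  [∀ n : ℤ, (shiftFunctor D n).Additive] [Pretriangulated D]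

/-- maps into `Y⟦1⟧` vanish if maps from the desuspension into `Y` vanish -/
lemma hom_shift_eq_zero {A Y : D} (n : ℤ) (h : ∀ ψ : A⟦-n⟧ ⟶ Y, ψ = 0) (φ : A ⟶ Y⟦n⟧) : φ = 0 := by
  have h1 := h (φ⟦-n⟧' ≫ (shiftFunctorCompIsoId D n (-n) (add_neg_cancel n)).hom.app Y)
  have h2 : φ⟦-n⟧' = 0 := by
    have := congrArg (fun z => z ≫ (shiftFunctorCompIsoId D n (-n) (add_neg_cancel n)).inv.app Y) h1
    simpa using this
  apply (shiftFunctor D (-n)).map_injective
  rw [h2, Functor.map_zero]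

lemma isZero_shift {A : D} (h : IsZero A) (n : ℤ) : IsZero (A⟦n⟧) :=
  (shiftFunctor D n).map_isZero h

end general

variable {S S' R R' : Type u} [Category.{v} S] [Category.{v} S'] [Category.{v} R] [Category.{v} R']
  [Preadditive S] [Preadditive S'] [Preadditive R] [Preadditive R']
  [HasZeroObject S] [HasZeroObject S'] [HasZeroObject R] [HasZeroObject R']
  [HasShift S ℤ] [HasShift S' ℤ] [HasShift R ℤ] [HasShift R' ℤ]
  [∀ n : ℤ, (shiftFunctor S n).Additive] [∀ n : ℤ, (shiftFunctor S' n).Additive]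
  [∀ n : ℤ, (shiftFunctor R n).Additive] [∀ n : ℤ, (shiftFunctor R' n).Additive]
  [Pretriangulated S] [Pretriangulated S'] [Pretriangulated R] [Pretriangulated R']
  (q : MVSq S S' R R')
  [q.jst.CommShift ℤ] [q.fst.CommShift ℤ] [q.jpst.CommShift ℤ] [q.gst.CommShift ℤ]
  [q.jst.IsTriangulated] [q.fst.IsTriangulated] [q.jpst.IsTriangulated] [q.gst.IsTriangulated]

instance : q.jls.Additive := q.adjJ.right_adjoint_additive
instance : q.fls.Additive := q.adjF.right_adjoint_additive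
instance : q.jpls.Additive := q.adjJp.right_adjoint_additive
instance : q.gls.Additive := q.adjG.right_adjoint_additive

/-- `Hom(A, j_* P) = 0` if `j^* A = 0`. -/
lemma hom_jls_eq_zero {A : S} (hA : IsZero (q.jst.obj A)) {P : R} (φ : A ⟶ q.jls.obj P) : φ = 0 := by
  apply (q.adjJ.homEquiv A P).symm.injective
  exact hA.eq_of_src _ _

lemma hom_jpls_eq_zero {A : S'} (hA : IsZero (q.jpst.obj A)) {P : R'} (φ : A ⟶ q.jpls.obj P) :
    φ = 0 := by
  apply (q.adjJp.homEquiv A P).symm.injective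
  exact hA.eq_of_src _ _

lemma isZero_jst_shift {A : S} (hA : IsZero (q.jst.obj A)) (n : ℤ) : IsZero (q.jst.obj (A⟦n⟧)) :=
  (isZero_shift hA n).of_iso ((q.jst.commShiftIso n).app A)

lemma isZero_jpst_shift {A : S'} (hA : IsZero (q.jpst.obj A)) (n : ℤ) :
    IsZero (q.jpst.obj (A⟦n⟧)) :=
  (isZero_shift hA n).of_iso ((q.jpst.commShiftIso n).app A)

lemma isZero_jpst_fst {A : S} (hA : IsZero (q.jst.obj A)) : IsZero (q.jpst.obj (q.fst.obj A)) :=
  (q.gst.map_isZero hA).of_iso (q.e.symm.app A)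

variable {q} (hq : q.IsMV)

include hq

lemma isZero_jst_fls {M : S'} (hM : IsZero (q.jpst.obj M)) : IsZero (q.jst.obj (q.fls.obj M)) := by
  have := hq.isIso_bcApp M
  exact (q.gls.map_isZero hM).of_iso (asIso (q.bcApp M))

/-- `Hom(K, f^* j_* P) = 0` if `j'^* K = 0` -/
lemma hom_fst_jls_eq_zero {K : S'} (hK : IsZero (q.jpst.obj K)) {P : R}
    (φ : K ⟶ q.fst.obj (q.jls.obj P)) : φ = 0 := by
  have := hq.isIso_bc2App P
  rw [← cancel_mono (q.bc2App P), zero_comp]
  exact hom_jpls_eq_zero q hK _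

/-- `Hom(L, f_* f^* j_* P) = 0` if `j^* L = 0` -/
lemma hom_fls_fst_jls_eq_zero {L : S} (hL : IsZero (q.jst.obj L)) {P : R}
    (φ : L ⟶ q.fls.obj (q.fst.obj (q.jls.obj P))) : φ = 0 := by
  apply (q.adjF.homEquiv _ _).symm.injective
  rw [hom_fst_jls_eq_zero hq (isZero_jpst_fst q hL) ((q.adjF.homEquiv _ _).symm φ)]
  exact (hom_fst_jls_eq_zero hq (isZero_jpst_fst q hL) _).symm

lemma isIso_jst_map_unit (N : S) : IsIso (q.jst.map (q.adjJ.unit.app N)) := by
  have := hq.isIso_counitJ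
  have h := q.adjJ.left_triangle_components N
  have h1 : IsIso (q.adjJ.counit.app (q.jst.obj N)) := inferInstance
  have h2 : IsIso (q.jst.map (q.adjJ.unit.app N) ≫ q.adjJ.counit.app (q.jst.obj N)) := by
    rw [h]; exact IsIso.id _
  exact IsIso.of_isIso_comp_right _ (q.adjJ.counit.app (q.jst.obj N))

/-- the "sections with support" triangle -/
lemma exists_cocone_unit (N : S) : ∃ (C : S) (c : C ⟶ N) (h : q.jls.obj (q.jst.obj N) ⟶ C⟦(1 : ℤ)⟧),
    Triangle.mk c (q.adjJ.unit.app N) h ∈ distTriang S ∧ IsZero (q.jst.obj C) := by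
  obtain ⟨C, c, h, hT⟩ := distinguished_cocone_triangle₁ (q.adjJ.unit.app N)
  refine ⟨C, c, h, hT, ?_⟩
  have hT' := q.jst.map_distinguished _ hT
  have := isIso_jst_map_unit hq N
  exact (Triangle.isZero₁_iff_isIso₂ _ hT').2 (by
    show IsIso (q.jst.map (q.adjJ.unit.app N))
    exact this)

end Groth.Agent.H2.MV
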