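import Mathlib
import Groth.Agent.Lib.Helper2.MVSq1

/-!
# Mayer–Vietoris squares of triangulated categories: `f^*` on maps out of `f_* M` (helper2)
-/

universe v u

set_option linter.unusedSectionVars false

open CategoryTheory CategoryTheory.Limits CategoryTheory.Pretriangulated

namespace Groth.Agent.H2.MV

open W4c3perfectstacks

variable {S S' R R' : Type u} [Category.{v} S] [Category.{v} S'] [Category.{v} R] [Category.{v} R']
  [Preadditive S] [Preadditive S'] [Preadditive R] [Preadditive R']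
  [HasZeroObject S] [HasZeroObject S'] [HasZeroObject R] [HasZeroObject R']
  [HasShift S ℤ] [HasShift S' ℤ] [HasShift R ℤ] [HasShift R' ℤ]
  [∀ n : ℤ, (shiftFunctor S n).Additive] [∀ n : ℤ, (shiftFunctor S' n).Additive]
  [∀ n : ℤ, (shiftFunctor R n).Additive] [∀ n : ℤ, (shiftFunctor R' n).Additive]
  [Pretriangulated S] [Pretriangulated S'] [Pretriangulated R] [Pretriangulated R']
  {q : MVSq S S' R R'}
  [q.jst.CommShift ℤ] [q.fst.CommShift ℤ] [q.jpst.CommShift ℤ] [q.gst.CommShift ℤ]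
  [q.jst.IsTriangulated] [q.fst.IsTriangulated] [q.jpst.IsTriangulated] [q.gst.IsTriangulated]
  (hq : q.IsMV)

include hq

/-- For `L` killed by `j^*`, `f^*` is injective on `Hom(L, N)`. -/
lemma fst_map_eq_zero {L N : S} (hL : IsZero (q.jst.obj L)) (g : L ⟶ N) (hg : q.fst.map g = 0) :
    g = 0 := by
  obtain ⟨C, c, h, hT, hC⟩ := exists_cocone_unit hq N
  have hT' := q.fst.map_distinguished _ hT
  obtain ⟨g', hg'⟩ : ∃ g' : L ⟶ C, g = g' ≫ c :=
    Triangle.coyoneda_exact₂ _ hT g (hom_jls_eq_zero q hL _)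
  have hx : q.fst.map g' = 0 := by
    have h0 : (q.fst.map g')⟦(1 : ℤ)⟧' ≫ (q.fst.map c)⟦(1 : ℤ)⟧' = 0 := by
      rw [← Functor.map_comp, ← Functor.map_comp, ← hg', hg, Functor.map_zero]
    obtain ⟨y, hy⟩ : ∃ y : (q.fst.obj L)⟦(1 : ℤ)⟧ ⟶ q.fst.obj (q.jls.obj (q.jst.obj N)),
        (q.fst.map g')⟦(1 : ℤ)⟧' = y ≫ (q.fst.mapTriangle.obj (Triangle.mk c (q.adjJ.unit.app N) h)).mor₃ :=
      Triangle.coyoneda_exact₁ _ hT' _ h0
    rw [hom_fst_jls_eq_zero hq (isZero_jpst_shift q (isZero_jpst_fst q hL) 1) y, zero_comp] at hy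
    apply (shiftFunctor S' (1 : ℤ)).map_injective
    exact hy.trans (Functor.map_zero _ _ _).symm
  have hηC := hq.isIso_unitF C hC
  have h1 : g' ≫ q.adjF.unit.app C = 0 := by
    have := q.adjF.unit.naturality g'
    dsimp at this
    rw [this, hx, Functor.map_zero, comp_zero]
  have h2 : g' = 0 := by
    rw [← cancel_mono (q.adjF.unit.app C), h1, zero_comp]
  rw [hg', h2, zero_comp]

/-- For `L` killed by `j^*`, `f^*` is surjective on `Hom(L, N)`. -/
lemma exists_fst_map_eq {L N : S} (hL : IsZero (q.jst.obj L)) (h₀ : q.fst.obj L ⟶ q.fst.obj N) :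
    ∃ g : L ⟶ N, q.fst.map g = h₀ := by
  obtain ⟨C, c, h, hT, hC⟩ := exists_cocone_unit hq N
  have hT' := q.fst.map_distinguished _ hT
  obtain ⟨h', hh'⟩ : ∃ h' : q.fst.obj L ⟶ q.fst.obj C, h₀ = h' ≫ q.fst.map c :=
    Triangle.coyoneda_exact₂ _ hT' h₀ (hom_fst_jls_eq_zero hq (isZero_jpst_fst q hL) _)
  have hηC := hq.isIso_unitF C hC
  refine ⟨q.adjF.unit.app L ≫ q.fls.map h' ≫ inv (q.adjF.unit.app C) ≫ c, ?_⟩
  have h1 : q.fst.map (inv (q.adjF.unit.app C)) = q.adjF.counit.app (q.fst.obj C) := by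
    rw [Functor.map_inv]
    exact IsIso.inv_eq_of_hom_inv_id (q.adjF.left_triangle_components C)
  rw [Functor.map_comp, Functor.map_comp, Functor.map_comp, h1, hh']
  have h2 := q.adjF.counit.naturality h'
  dsimp at h2
  rw [reassoc_of% h2, ← Category.assoc, q.adjF.left_triangle_components L, Category.id_comp]

theorem fst_map_bijective (M : S') (hM : IsZero (q.jpst.obj M)) (N : S) :
    Function.Bijective (fun g : q.fls.obj M ⟶ N => q.fst.map g) := by
  have hL := isZero_jst_fls hq hM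
  constructor
  · intro g₁ g₂ h
    have h0 : q.fst.map (g₁ - g₂) = 0 := by
      rw [Functor.map_sub, sub_eq_zero]
      exact h
    exact sub_eq_zero.1 (fst_map_eq_zero hq hL _ h0)
  · intro h₀
    exact exists_fst_map_eq hq hL h₀

end Groth.Agent.H2.MV
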