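import Mathlib
import Groth.Agent.Lib.Helper2.MVSq2

/-!
# Mayer–Vietoris squares of triangulated categories: naturality and uniqueness of the
connecting map (helper2)
-/

universe v u

set_option linter.unusedSectionVars false

open CategoryTheory CategoryTheory.Limits CategoryTheory.Pretriangulated

namespace Groth.Agent.H2.MV

open W4c3perfectstacks

variable {S S' R R' : Type u} [Category.{v} S] [Category.{v} S'] [Category.{v} R] [Category.{v} R']
  [Preadditive S] [Preadditive S'] [Preadditive R] [Preadditive R']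
  [HasZeroObject S] [HasZeroObject S'] [HasZeroObject R] [HasZeroObject R']
  [HasShift S ℤ] [HasShift S' ℤ] [HasShift R ℤ] [HasShift R' ℤ]
  [∀ n : ℤ, (shiftFunctor S n).Additive] [∀ n : ℤ, (shiftFunctor S' n).Additive]
  [∀ n : ℤ, (shiftFunctor R n).Additive] [∀ n : ℤ, (shiftFunctor R' n).Additive]
  [Pretriangulated S] [Pretriangulated S'] [Pretriangulated R] [Pretriangulated R']
  (q : MVSq S S' R R')
  [q.jst.CommShift ℤ] [q.fst.CommShift ℤ] [q.jpst.CommShift ℤ] [q.gst.CommShift ℤ]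
  [q.jst.IsTriangulated] [q.fst.IsTriangulated] [q.jpst.IsTriangulated] [q.gst.IsTriangulated]

/-- first map of the MV triangle -/
noncomputable abbrev mvA (N : S) : N ⟶ q.jls.obj (q.jst.obj N) ⊞ q.fls.obj (q.fst.obj N) :=
  biprod.lift (q.adjJ.unit.app N) (q.adjF.unit.app N)

/-- second map of the MV triangle -/
noncomputable abbrev mvB (N : S) : q.jls.obj (q.jst.obj N) ⊞ q.fls.obj (q.fst.obj N) ⟶
    q.fls.obj (q.fst.obj (q.jls.obj (q.jst.obj N))) :=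
  biprod.desc (q.adjF.unit.app (q.jls.obj (q.jst.obj N)))
    (-(q.fls.map (q.fst.map (q.adjJ.unit.app N))))

lemma mvA_mvB (N : S) : mvA q N ≫ mvB q N = 0 := by
  have := q.adjF.unit.naturality (q.adjJ.unit.app N)
  dsimp at this
  rw [biprod.lift_desc, Preadditive.comp_neg, ← sub_eq_add_neg, sub_eq_zero, this]

/-- `f^*` kills the connecting map of an MV triangle -/
lemma fst_map_d_eq_zero {N : S} {Z : S} {b : q.jls.obj (q.jst.obj N) ⊞ q.fls.obj (q.fst.obj N) ⟶ Z}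
    {d : Z ⟶ N⟦(1 : ℤ)⟧} (hT : Triangle.mk (mvA q N) b d ∈ distTriang S) : q.fst.map d = 0 := by
  have hT' := q.fst.map_distinguished _ hT
  have h0 : (q.fst.map d ≫ (q.fst.commShiftIso (1 : ℤ)).hom.app N) ≫
      (q.fst.map (mvA q N))⟦(1 : ℤ)⟧' = 0 := comp_distTriang_mor_zero₃₁ _ hT'
  have hr : q.fst.map (mvA q N) ≫ q.fst.map biprod.snd ≫ q.adjF.counit.app (q.fst.obj N) = 𝟙 _ := by
    rw [← Functor.map_comp_assoc, biprod.lift_snd]
    exact q.adjF.left_triangle_components N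
  have h1 : q.fst.map d ≫ (q.fst.commShiftIso (1 : ℤ)).hom.app N = 0 := by
    have := congrArg (fun z => z ≫ (q.fst.map biprod.snd ≫
      q.adjF.counit.app (q.fst.obj N))⟦(1 : ℤ)⟧') h0
    simp only [Category.assoc, ← Functor.map_comp, zero_comp] at this
    rw [hr, CategoryTheory.Functor.map_id] at this
    simpa using this
  rw [← cancel_mono ((q.fst.commShiftIso (1 : ℤ)).hom.app N), h1, zero_comp]

lemma comp_eq_zero_of_fst_map_eq_zero {Z Y : S} (d : Z ⟶ Y) (hd : q.fst.map d = 0) {M : S'}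
    (w : Y ⟶ q.fls.obj M) : d ≫ w = 0 := by
  have h1 : w = q.adjF.unit.app Y ≫ q.fls.map ((q.adjF.homEquiv Y M).symm w) := by
    have := q.adjF.homEquiv_unit (f := (q.adjF.homEquiv Y M).symm w)
    rw [Equiv.apply_symm_apply] at this
    exact this
  have h2 := q.adjF.unit.naturality d
  try dsimp at h2
  rw [h1, reassoc_of% h2, hd, Functor.map_zero, zero_comp, comp_zero]

theorem mv_naturality {N₁ N₂ : S} (φ : N₁ ⟶ N₂)
    (d₁ : q.fls.obj (q.fst.obj (q.jls.obj (q.jst.obj N₁))) ⟶ N₁⟦(1 : ℤ)⟧)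
    (d₂ : q.fls.obj (q.fst.obj (q.jls.obj (q.jst.obj N₂))) ⟶ N₂⟦(1 : ℤ)⟧)
    (h₁ : Triangle.mk (mvA q N₁) (mvB q N₁) d₁ ∈ distTriang S)
    (h₂ : Triangle.mk (mvA q N₂) (mvB q N₂) d₂ ∈ distTriang S) :
    d₁ ≫ (shiftFunctor S (1 : ℤ)).map φ = q.fls.map (q.fst.map (q.jls.map (q.jst.map φ))) ≫ d₂ := by
  let ΦB : q.jls.obj (q.jst.obj N₁) ⊞ q.fls.obj (q.fst.obj N₁) ⟶
      q.jls.obj (q.jst.obj N₂) ⊞ q.fls.obj (q.fst.obj N₂) :=
    biprod.map (q.jls.map (q.jst.map φ)) (q.fls.map (q.fst.map φ))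
  have hJ := q.adjJ.unit.naturality φ
  have hF := q.adjF.unit.naturality φ
  try dsimp at hJ hF
  have comm : mvA q N₁ ≫ ΦB = φ ≫ mvA q N₂ := by
    apply biprod.hom_ext
    · simp only [ΦB, Category.assoc, biprod.map_fst, biprod.lift_fst_assoc, biprod.lift_fst, hJ]
    · simp only [ΦB, Category.assoc, biprod.map_snd, biprod.lift_snd_assoc, biprod.lift_snd, hF]
  obtain ⟨θ, hθ₁, hθ₂⟩ : ∃ θ : q.fls.obj (q.fst.obj (q.jls.obj (q.jst.obj N₁))) ⟶
      q.fls.obj (q.fst.obj (q.jls.obj (q.jst.obj N₂))),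
      mvB q N₁ ≫ θ = ΦB ≫ mvB q N₂ ∧ d₁ ≫ (shiftFunctor S (1 : ℤ)).map φ = θ ≫ d₂ :=
    complete_distinguished_triangle_morphism _ _ h₁ h₂ φ ΦB comm
  let θ₀ := q.fls.map (q.fst.map (q.jls.map (q.jst.map φ)))
  have hθ₀ : mvB q N₁ ≫ θ₀ = ΦB ≫ mvB q N₂ := by
    have hF' := q.adjF.unit.naturality (q.jls.map (q.jst.map φ))
    try dsimp at hF'
    apply biprod.hom_ext'
    · simp only [ΦB, θ₀, biprod.inl_desc_assoc, biprod.inl_map_assoc, biprod.inl_desc, hF']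
    · simp only [ΦB, θ₀, biprod.inr_desc_assoc, biprod.inr_map_assoc, biprod.inr_desc,
        Preadditive.neg_comp, Preadditive.comp_neg, ← Functor.map_comp, hJ]
  have h0 : mvB q N₁ ≫ (θ - θ₀) = 0 := by
    rw [Preadditive.comp_sub, hθ₁, hθ₀, sub_self]
  obtain ⟨w, hw⟩ : ∃ w : N₁⟦(1 : ℤ)⟧ ⟶ q.fls.obj (q.fst.obj (q.jls.obj (q.jst.obj N₂))),
      θ - θ₀ = d₁ ≫ w := Triangle.yoneda_exact₃ _ h₁ (θ - θ₀) h0
  rw [comp_eq_zero_of_fst_map_eq_zero q d₁ (fst_map_d_eq_zero q h₁) w, sub_eq_zero] at hw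
  rw [hθ₂, hw]

theorem mv_unique {N : S}
    (d₁ d₂ : q.fls.obj (q.fst.obj (q.jls.obj (q.jst.obj N))) ⟶ N⟦(1 : ℤ)⟧)
    (h₁ : Triangle.mk (mvA q N) (mvB q N) d₁ ∈ distTriang S)
    (h₂ : Triangle.mk (mvA q N) (mvB q N) d₂ ∈ distTriang S) : d₁ = d₂ := by
  have := mv_naturality q (𝟙 N) d₁ d₂ h₁ h₂
  simpa using this

end Groth.Agent.H2.MV
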