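import Mathlib
import Groth.Agent.Lib.Helper2.MVSq3

/-!
# Mayer–Vietoris squares of triangulated categories: existence of the MV triangle (helper2)
-/

universe v u

set_option linter.unusedSectionVars false

open CategoryTheory CategoryTheory.Limits CategoryTheory.Pretriangulated

namespace Groth.Agent.H2.MV

open W4c3perfectstacks

section general

variable {D : Type u} [Category.{v} D] [Preadditive D] [HasZeroObject D] [HasShift D ℤ]
  [∀ n : ℤ, (shiftFunctor D n).Additive] [Pretriangulated D]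

lemma isIso_of_split {A B W Z : D} {a : A ⟶ B} {b' : B ⟶ W} {d' : W ⟶ A⟦(1 : ℤ)⟧}
    (hT : Triangle.mk a b' d' ∈ distTriang D) (r : B ⟶ A) (hr : a ≫ r = 𝟙 A) (t : W ⟶ Z)
    (s : Z ⟶ B) (hs : s ≫ b' ≫ t = 𝟙 Z) (hrs : r ≫ a + (b' ≫ t) ≫ s = 𝟙 B) : IsIso t := by
  have h0 : d' ≫ a⟦(1 : ℤ)⟧' = 0 := comp_distTriang_mor_zero₃₁ _ hT
  have hd : d' = 0 := by
    have := congrArg (fun z => z ≫ r⟦(1 : ℤ)⟧') h0
    simp only [Category.assoc, ← Functor.map_comp, hr, zero_comp] at this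
    rw [CategoryTheory.Functor.map_id] at this
    simpa using this
  have hepi : Epi b' := (Triangle.mor₃_eq_zero_iff_epi₂ _ hT).1 hd
  have hab : a ≫ b' = 0 := comp_distTriang_mor_zero₁₂ _ hT
  refine ⟨s ≫ b', ?_, by rw [Category.assoc]; exact hs⟩
  rw [← cancel_epi b', ← Category.assoc, ← Category.assoc, Category.comp_id]
  have h1 : (b' ≫ t) ≫ s = 𝟙 B - r ≫ a := by rw [← hrs]; abel
  rw [h1, Preadditive.sub_comp, Category.id_comp, Category.assoc, hab, comp_zero, sub_zero]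

/-- desuspension of an injectivity statement -/
lemma eq_zero_of_comp_shift {A Y Y' : D} (f : Y ⟶ Y')
    (h : ∀ ψ : A⟦(-1 : ℤ)⟧ ⟶ Y, ψ ≫ f = 0 → ψ = 0) (φ : A ⟶ Y⟦(1 : ℤ)⟧)
    (hφ : φ ≫ f⟦(1 : ℤ)⟧' = 0) : φ = 0 := by
  have e := shiftFunctorCompIsoId D (1 : ℤ) (-1) (add_neg_cancel 1)
  have h1 := h (φ⟦(-1 : ℤ)⟧' ≫ e.hom.app Y) (by
    have hn := e.hom.naturality f
    dsimp at hn
    rw [Category.assoc, ← hn, ← Category.assoc, ← Functor.map_comp, hφ, Functor.map_zero,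
      zero_comp])
  have h2 : φ⟦(-1 : ℤ)⟧' = 0 := by
    have := congrArg (fun z => z ≫ e.inv.app Y) h1
    simpa using this
  apply (shiftFunctor D (-1 : ℤ)).map_injective
  exact h2.trans (Functor.map_zero _ _ _).symm

end general

section additive

variable {C D : Type*} [Category C] [Category D] [Preadditive C] [Preadditive D]
  (G : C ⥤ D) [G.Additive] {N J F Z : C} [HasBinaryBiproduct J F]

lemma split_data (u : N ⟶ J) (v : N ⟶ F) (p : J ⟶ Z) (q₀ : F ⟶ Z) (hsq : u ≫ p = v ≫ q₀)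
    [IsIso (G.map u)] [IsIso (G.map q₀)] :
    G.map (biprod.lift u v) ≫ (G.map biprod.fst ≫ inv (G.map u)) = 𝟙 _ ∧
    (-(inv (G.map q₀) ≫ G.map biprod.inr)) ≫ G.map (biprod.desc p (-q₀)) = 𝟙 _ ∧
    (G.map biprod.fst ≫ inv (G.map u)) ≫ G.map (biprod.lift u v) +
      G.map (biprod.desc p (-q₀)) ≫ (-(inv (G.map q₀) ≫ G.map biprod.inr)) = 𝟙 _ := by
  have hsq' : inv (G.map u) ≫ G.map v = G.map p ≫ inv (G.map q₀) := by
    rw [IsIso.inv_comp_eq, ← Category.assoc, IsIso.eq_comp_inv, ← Functor.map_comp,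
      ← Functor.map_comp, hsq]
  refine ⟨?_, ?_, ?_⟩
  · rw [← Functor.map_comp_assoc, biprod.lift_fst, IsIso.hom_inv_id]
  · rw [Preadditive.neg_comp, Category.assoc, ← Functor.map_comp, biprod.inr_desc,
      Functor.map_neg, Preadditive.comp_neg, neg_neg, IsIso.inv_hom_id]
  · have ha : G.map (biprod.lift u v) = G.map u ≫ G.map biprod.inl + G.map v ≫ G.map biprod.inr := by
      rw [← Functor.map_comp, ← Functor.map_comp, ← Functor.map_add, biprod.lift_eq]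
    have hb : G.map (biprod.desc p (-q₀)) =
        G.map biprod.fst ≫ G.map p - G.map biprod.snd ≫ G.map q₀ := by
      rw [← Functor.map_comp, ← Functor.map_comp, ← Functor.map_sub, biprod.desc_eq,
        Preadditive.comp_neg, sub_eq_add_neg]
    have h1 : (𝟙 (G.obj (J ⊞ F))) =
        G.map biprod.fst ≫ G.map biprod.inl + G.map biprod.snd ≫ G.map biprod.inr := by
      rw [← Functor.map_comp, ← Functor.map_comp, ← Functor.map_add, biprod.total,
        CategoryTheory.Functor.map_id]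
    rw [ha, hb, h1]
    simp only [Preadditive.comp_add, Preadditive.add_comp, Preadditive.sub_comp,
      Preadditive.comp_neg, Preadditive.neg_comp, Preadditive.comp_sub, Category.assoc,
      IsIso.inv_hom_id_assoc, IsIso.hom_inv_id_assoc]
    rw [reassoc_of% hsq']
    abel

lemma split_data' (u : N ⟶ J) (v : N ⟶ F) (p : J ⟶ Z) (q₀ : F ⟶ Z) (hsq : u ≫ p = v ≫ q₀)
    (hu : IsIso (G.map u)) (hq₀ : IsIso (G.map q₀)) :
    ∃ (r : G.obj (J ⊞ F) ⟶ G.obj N) (s : G.obj Z ⟶ G.obj (J ⊞ F)),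
      G.map (biprod.lift u v) ≫ r = 𝟙 _ ∧ s ≫ G.map (biprod.desc p (-q₀)) = 𝟙 _ ∧
      r ≫ G.map (biprod.lift u v) + G.map (biprod.desc p (-q₀)) ≫ s = 𝟙 _ :=
  ⟨_, _, split_data G u v p q₀ hsq⟩

end additive

variable {S S' R R' : Type u} [Category.{v} S] [Category.{v} S'] [Category.{v} R] [Category.{v} R']
  [Preadditive S] [Preadditive S'] [Preadditive R] [Preadditive R']
  [HasZeroObject S] [HasZeroObject S'] [HasZeroObject R] [HasZeroObject R']
  [HasShift S ℤ] [HasShift S' ℤ] [HasShift R ℤ] [HasShift R' ℤ]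
  [∀ n : ℤ, (shiftFunctor S n).Additive] [∀ n : ℤ, (shiftFunctor S' n).Additive]
  [∀ n : ℤ, (shiftFunctor R n).Additive] [∀ n : ℤ, (shiftFunctor R' n).Additive]
  [Pretriangulated S] [Pretriangulated S'] [Pretriangulated R] [Pretriangulated R']
  {q : MVSq S S' R R'}
  [q.jst.CommShift ℤ] [q.fst.CommShift ℤ] [q.jpst.CommShift ℤ] [q.gst.CommShift ℤ]
  [q.jst.IsTriangulated] [q.fst.IsTriangulated] [q.jpst.IsTriangulated] [q.gst.IsTriangulated]
  (hq : q.IsMV)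

omit [q.jst.CommShift ℤ] [q.fst.CommShift ℤ] [q.jpst.CommShift ℤ] [q.gst.CommShift ℤ]
  [q.jst.IsTriangulated] [q.fst.IsTriangulated] [q.jpst.IsTriangulated] [q.gst.IsTriangulated] in
lemma bcApp_naturality {M₁ M₂ : S'} (m : M₁ ⟶ M₂) :
    q.jst.map (q.fls.map m) ≫ q.bcApp M₂ = q.bcApp M₁ ≫ q.gls.map (q.jpst.map m) := by
  unfold MVSq.bcApp
  have h1 : q.jst.map (q.fls.map m) ≫ q.adjG.unit.app (q.jst.obj (q.fls.obj M₂)) =
      q.adjG.unit.app (q.jst.obj (q.fls.obj M₁)) ≫ q.gls.map (q.gst.map (q.jst.map (q.fls.map m))) :=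
    q.adjG.unit.naturality (q.jst.map (q.fls.map m))
  have h2 : q.gst.map (q.jst.map (q.fls.map m)) ≫ q.e.hom.app (q.fls.obj M₂) =
      q.e.hom.app (q.fls.obj M₁) ≫ q.jpst.map (q.fst.map (q.fls.map m)) :=
    q.e.hom.naturality (q.fls.map m)
  have h3 : q.fst.map (q.fls.map m) ≫ q.adjF.counit.app M₂ = q.adjF.counit.app M₁ ≫ m :=
    q.adjF.counit.naturality m
  rw [reassoc_of% h1]
  simp only [Category.assoc, ← Functor.map_comp]
  rw [reassoc_of% h2, ← Functor.map_comp, h3]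

include hq

lemma isIso_jst_fls_fst_unit (N : S) :
    IsIso (q.jst.map (q.fls.map (q.fst.map (q.adjJ.unit.app N)))) := by
  have hu : IsIso (q.jst.map (q.adjJ.unit.app N)) := isIso_jst_map_unit hq N
  have h1 : IsIso (q.jpst.map (q.fst.map (q.adjJ.unit.app N))) := by
    have hn : q.gst.map (q.jst.map (q.adjJ.unit.app N)) ≫ q.e.hom.app (q.jls.obj (q.jst.obj N)) =
        q.e.hom.app N ≫ q.jpst.map (q.fst.map (q.adjJ.unit.app N)) :=
      q.e.hom.naturality (q.adjJ.unit.app N)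
    have h2 : IsIso (q.e.hom.app N ≫ q.jpst.map (q.fst.map (q.adjJ.unit.app N))) := by
      rw [← hn]; infer_instance
    exact IsIso.of_isIso_comp_left (q.e.hom.app N) _
  have h3 : q.jst.map (q.fls.map (q.fst.map (q.adjJ.unit.app N))) ≫
      q.bcApp (q.fst.obj (q.jls.obj (q.jst.obj N))) =
      q.bcApp (q.fst.obj N) ≫ q.gls.map (q.jpst.map (q.fst.map (q.adjJ.unit.app N))) :=
    bcApp_naturality (q := q) (q.fst.map (q.adjJ.unit.app N))
  have := hq.isIso_bcApp (q.fst.obj N)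
  have := hq.isIso_bcApp (q.fst.obj (q.jls.obj (q.jst.obj N)))
  have h4 : IsIso (q.jst.map (q.fls.map (q.fst.map (q.adjJ.unit.app N))) ≫
      q.bcApp (q.fst.obj (q.jls.obj (q.jst.obj N)))) := by
    rw [h3]; infer_instance
  exact IsIso.of_isIso_comp_right _ (q.bcApp (q.fst.obj (q.jls.obj (q.jst.obj N))))

lemma comp_unitF_eq_zero {L N : S} (hL : IsZero (q.jst.obj L)) (g : L ⟶ N)
    (hg : g ≫ q.adjF.unit.app N = 0) : g = 0 := by
  apply fst_map_eq_zero hq hL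
  have h1 : q.fst.map g = q.fst.map (g ≫ q.adjF.unit.app N) ≫ q.adjF.counit.app (q.fst.obj N) := by
    rw [Functor.map_comp, Category.assoc, q.adjF.left_triangle_components, Category.comp_id]
  rw [h1, hg, Functor.map_zero, zero_comp]

lemma exists_comp_unitF_eq {L N : S} (hL : IsZero (q.jst.obj L))
    (ω : L ⟶ q.fls.obj (q.fst.obj N)) : ∃ ν : L ⟶ N, ν ≫ q.adjF.unit.app N = ω := by
  obtain ⟨ν, hν⟩ := exists_fst_map_eq hq hL ((q.adjF.homEquiv L (q.fst.obj N)).symm ω)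
  refine ⟨ν, ?_⟩
  have h1 := q.adjF.unit.naturality ν
  have h2 := q.adjF.homEquiv_unit (f := (q.adjF.homEquiv L (q.fst.obj N)).symm ω)
  rw [Equiv.apply_symm_apply] at h2
  rw [h2, ← hν]
  exact h1

/-- maps from objects killed by `j^*` to the cone of `mvA` vanish -/
lemma hom_cone_eq_zero {N W : S} {b' : q.jls.obj (q.jst.obj N) ⊞ q.fls.obj (q.fst.obj N) ⟶ W}
    {d' : W ⟶ N⟦(1 : ℤ)⟧} (hT : Triangle.mk (mvA q N) b' d' ∈ distTriang S)
    {L : S} (hL : IsZero (q.jst.obj L)) (ψ : L ⟶ W) : ψ = 0 := by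
  have h1 : ψ ≫ d' = 0 := by
    apply eq_zero_of_comp_shift (mvA q N) _ (ψ ≫ d')
    · rw [Category.assoc]
      have : d' ≫ (mvA q N)⟦(1 : ℤ)⟧' = 0 := comp_distTriang_mor_zero₃₁ _ hT
      rw [this, comp_zero]
    · intro ψ' hψ'
      apply comp_unitF_eq_zero hq (isZero_jst_shift q hL (-1)) ψ'
      have := congrArg (fun z => z ≫ biprod.snd) hψ'
      simpa using this
  obtain ⟨ω, hω⟩ : ∃ ω : L ⟶ q.jls.obj (q.jst.obj N) ⊞ q.fls.obj (q.fst.obj N), ψ = ω ≫ b' :=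
    Triangle.coyoneda_exact₃ _ hT ψ h1
  obtain ⟨ν, hν⟩ := exists_comp_unitF_eq hq hL (ω ≫ biprod.snd)
  have h2 : ω = ν ≫ mvA q N := by
    apply biprod.hom_ext
    · rw [hom_jls_eq_zero q hL (ω ≫ biprod.fst), hom_jls_eq_zero q hL ((ν ≫ mvA q N) ≫ biprod.fst)]
    · rw [Category.assoc, biprod.lift_snd, hν]
  have hab : mvA q N ≫ b' = 0 := comp_distTriang_mor_zero₁₂ _ hT
  rw [hω, h2, Category.assoc, hab, comp_zero]

theorem exists_mv_triangle (N : S) :
    ∃ d : q.fls.obj (q.fst.obj (q.jls.obj (q.jst.obj N))) ⟶ N⟦(1 : ℤ)⟧,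
      Triangle.mk (mvA q N) (mvB q N) d ∈ distTriang S := by
  obtain ⟨W, b', d', hT⟩ := distinguished_cocone_triangle (mvA q N)
  obtain ⟨t, ht⟩ : ∃ t : W ⟶ q.fls.obj (q.fst.obj (q.jls.obj (q.jst.obj N))), mvB q N = b' ≫ t :=
    Triangle.yoneda_exact₂ _ hT (mvB q N) (mvA_mvB q N)
  -- `j^* t` is an isomorphism
  have hjt : IsIso (q.jst.map t) := by
    have hT' := q.jst.map_distinguished _ hT
    have hu : IsIso (q.jst.map (q.adjJ.unit.app N)) := isIso_jst_map_unit hq N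
    have hq₀ : IsIso (q.jst.map (q.fls.map (q.fst.map (q.adjJ.unit.app N)))) :=
      isIso_jst_fls_fst_unit hq N
    have hsq : q.adjJ.unit.app N ≫ q.adjF.unit.app (q.jls.obj (q.jst.obj N)) =
        q.adjF.unit.app N ≫ q.fls.map (q.fst.map (q.adjJ.unit.app N)) :=
      q.adjF.unit.naturality (q.adjJ.unit.app N)
    obtain ⟨r, s, h1, h2, h3⟩ := split_data' q.jst (N := N) (J := q.jls.obj (q.jst.obj N))
      (F := q.fls.obj (q.fst.obj N)) (Z := q.fls.obj (q.fst.obj (q.jls.obj (q.jst.obj N))))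
      (q.adjJ.unit.app N) (q.adjF.unit.app N)
      (q.adjF.unit.app (q.jls.obj (q.jst.obj N))) (q.fls.map (q.fst.map (q.adjJ.unit.app N))) hsq
      hu hq₀
    have h2' : s ≫ q.jst.map b' ≫ q.jst.map t = 𝟙 _ := by
      rw [← Functor.map_comp, ← ht]
      exact h2
    have h3' : r ≫ q.jst.map (mvA q N) + (q.jst.map b' ≫ q.jst.map t) ≫ s = 𝟙 _ := by
      rw [← Functor.map_comp, ← ht]
      exact h3
    exact isIso_of_split hT' r h1 (q.jst.map t) s h2' h3'
  -- the cone of `t` vanishes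
  obtain ⟨X, c, e, hTt⟩ := distinguished_cocone_triangle t
  have hX : IsZero (q.jst.obj X) := by
    have hTt' := q.jst.map_distinguished _ hTt
    exact (Triangle.isZero₃_iff_isIso₁ _ hTt').2 hjt
  have he : e = 0 := by
    apply hom_shift_eq_zero 1
    intro ψ
    exact hom_cone_eq_zero hq hT (isZero_jst_shift q hX (-1)) ψ
  obtain ⟨s, hs⟩ : ∃ s : X ⟶ q.fls.obj (q.fst.obj (q.jls.obj (q.jst.obj N))), 𝟙 X = s ≫ c :=
    Triangle.coyoneda_exact₃ _ hTt (𝟙 X) (show 𝟙 X ≫ e = 0 by rw [Category.id_comp]; exact he)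
  have hX0 : IsZero X := by
    rw [IsZero.iff_id_eq_zero, hs, hom_fls_fst_jls_eq_zero hq hX s, zero_comp]
  have ht_iso : IsIso t := (Triangle.isZero₃_iff_isIso₁ _ hTt).1 hX0
  refine ⟨inv t ≫ d', ?_⟩
  refine isomorphic_distinguished _ hT _ ?_
  refine Triangle.isoMk _ _ (Iso.refl _) (Iso.refl _) (asIso t).symm ?_ ?_ ?_
  · change mvA q N ≫ 𝟙 _ = 𝟙 _ ≫ mvA q N
    rw [Category.id_comp, Category.comp_id]
  · change mvB q N ≫ inv t = 𝟙 _ ≫ b'
    rw [Category.id_comp, ht, Category.assoc, IsIso.hom_inv_id, Category.comp_id]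
  · change (inv t ≫ d') ≫ (𝟙 N)⟦(1 : ℤ)⟧' = inv t ≫ d'
    rw [CategoryTheory.Functor.map_id, Category.comp_id]

end Groth.Agent.H2.MV
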