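import Mathlib
import Groth.Agent.Lib.Helper2.MVSq4

/-!
# Mayer–Vietoris squares of triangulated categories: glueing (helper2)
-/

universe v u

set_option linter.unusedSectionVars false

open CategoryTheory CategoryTheory.Limits CategoryTheory.Pretriangulated

namespace Groth.Agent.H2.MV

open W4c3perfectstacks

section general

variable {D : Type u} [Category.{v} D] [Preadditive D] [HasZeroObject D] [HasShift D ℤ]
  [∀ n : ℤ, (shiftFunctor D n).Additive] [Pretriangulated D]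

/-- If in a distinguished triangle `X ⟶ B ⟶ Z` the object `B` is a biproduct of `J` and `F` and the
restriction of `B ⟶ Z` to `F` is an isomorphism, then `X ⟶ B ⟶ J` is an isomorphism. -/
lemma isIso_comp_fst_of_split {X B Z J F : D} {a : X ⟶ B} {β : B ⟶ Z} {d : Z ⟶ X⟦(1 : ℤ)⟧}
    (hT : Triangle.mk a β d ∈ distTriang D)
    (fstB : B ⟶ J) (sndB : B ⟶ F) (inlB : J ⟶ B) (inrB : F ⟶ B)
    (h1 : inlB ≫ fstB = 𝟙 J) (h4 : inrB ≫ fstB = 0)
    (h5 : fstB ≫ inlB + sndB ≫ inrB = 𝟙 B) (hiso : IsIso (inrB ≫ β)) : IsIso (a ≫ fstB) := by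
  have hab : a ≫ β = 0 := comp_distTriang_mor_zero₁₂ _ hT
  have hβd : β ≫ d = 0 := comp_distTriang_mor_zero₂₃ _ hT
  -- `d = 0`
  have hd : d = 0 := by
    have : (inv (inrB ≫ β) ≫ inrB) ≫ β ≫ d = d := by
      rw [Category.assoc, ← Category.assoc inrB, IsIso.inv_hom_id_assoc]
    rw [← this, hβd, comp_zero]
  have hmono : Mono a := (Triangle.mor₃_eq_zero_iff_mono₁ _ hT).1 hd
  let κ : J ⟶ B := inlB - (inlB ≫ β) ≫ inv (inrB ≫ β) ≫ inrB
  have hκβ : κ ≫ β = 0 := by
    simp only [κ, Preadditive.sub_comp, Category.assoc, IsIso.inv_hom_id, Category.comp_id,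
      sub_self]
  have hκfst : κ ≫ fstB = 𝟙 J := by
    simp only [κ, Preadditive.sub_comp, Category.assoc, h1, h4, comp_zero, sub_zero]
  obtain ⟨k, hk⟩ : ∃ k : J ⟶ X, κ = k ≫ a := Triangle.coyoneda_exact₂ _ hT κ hκβ
  refine ⟨k, ?_, by rw [← Category.assoc, ← hk, hκfst]⟩
  rw [← cancel_mono a, Category.assoc, Category.assoc, ← hk, Category.id_comp]
  have h6 : a ≫ fstB ≫ (inlB ≫ β) = -(a ≫ sndB ≫ (inrB ≫ β)) := by
    rw [eq_neg_iff_add_eq_zero, ← Preadditive.comp_add, ← Category.assoc fstB,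
      ← Category.assoc sndB, ← Preadditive.add_comp, h5, Category.id_comp, hab]
  simp only [κ, Preadditive.comp_sub, Category.assoc]
  have h7 : inrB ≫ β ≫ inv (inrB ≫ β) ≫ inrB = inrB := by
    rw [← Category.assoc inrB β, IsIso.hom_inv_id_assoc]
  have h6' : a ≫ fstB ≫ inlB ≫ β ≫ inv (inrB ≫ β) ≫ inrB = -(a ≫ sndB ≫ inrB) := by
    have := congrArg (fun z => z ≫ inv (inrB ≫ β) ≫ inrB) h6
    simp only [Category.assoc, Preadditive.neg_comp, h7] at this
    exact this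
  rw [h6', sub_neg_eq_add, ← Preadditive.comp_add, h5, Category.comp_id]

lemma hom_unshift_eq_zero {A Y : D} (h : ∀ ψ : A⟦(1 : ℤ)⟧ ⟶ Y, ψ = 0) (φ : A ⟶ Y⟦(-1 : ℤ)⟧) :
    φ = 0 := by
  have e := shiftFunctorCompIsoId D (-1 : ℤ) 1 (neg_add_cancel 1)
  have h1 := h (φ⟦(1 : ℤ)⟧' ≫ e.hom.app Y)
  have h2 : φ⟦(1 : ℤ)⟧' = 0 := by
    have := congrArg (fun z => z ≫ e.inv.app Y) h1
    simpa using this
  apply (shiftFunctor D (1 : ℤ)).map_injective
  exact h2.trans (Functor.map_zero _ _ _).symm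

end general

variable {S S' R R' : Type u} [Category.{v} S] [Category.{v} S'] [Category.{v} R] [Category.{v} R']
  [Preadditive S] [Preadditive S'] [Preadditive R] [Preadditive R']
  [HasZeroObject S] [HasZeroObject S'] [HasZeroObject R] [HasZeroObject R']
  [HasShift S ℤ] [HasShift S' ℤ] [HasShift R ℤ] [HasShift R' ℤ]
  [∀ n : ℤ, (shiftFunctor S n).Additive] [∀ n : ℤ, (shiftFunctor S' n).Additive]
  [∀ n : ℤ, (shiftFunctor R n).Additive] [∀ n : ℤ, (shiftFunctor R' n).Additive]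
  [Pretriangulated S] [Pretriangulated S'] [Pretriangulated R] [Pretriangulated R']
  {q : MVSq S S' R R'}
  [q.jst.CommShift ℤ] [q.fst.CommShift ℤ] [q.jpst.CommShift ℤ] [q.gst.CommShift ℤ]
  [q.jst.IsTriangulated] [q.fst.IsTriangulated] [q.jpst.IsTriangulated] [q.gst.IsTriangulated]
  (hq : q.IsMV)

include hq

lemma hom_fls_jpls_eq_zero {L : S} (hL : IsZero (q.jst.obj L)) {Q : R'}
    (φ : L ⟶ q.fls.obj (q.jpls.obj Q)) : φ = 0 := by
  apply (q.adjF.homEquiv _ _).symm.injective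
  rw [hom_jpls_eq_zero q (isZero_jpst_fst q hL) ((q.adjF.homEquiv _ _).symm φ)]
  exact (hom_jpls_eq_zero q (isZero_jpst_fst q hL) _).symm

lemma isIso_jst_fls_map {M₁ M₂ : S'} (m : M₁ ⟶ M₂) (hm : IsIso (q.jpst.map m)) :
    IsIso (q.jst.map (q.fls.map m)) := by
  have h3 := bcApp_naturality (q := q) m
  have := hq.isIso_bcApp M₁
  have := hq.isIso_bcApp M₂
  have h4 : IsIso (q.jst.map (q.fls.map m) ≫ q.bcApp M₂) := by
    rw [h3]; infer_instance
  exact IsIso.of_isIso_comp_right _ (q.bcApp M₂)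

lemma isIso_jpst_map_unit (M : S') : IsIso (q.jpst.map (q.adjJp.unit.app M)) := by
  have := hq.isIso_counitJp
  have h := q.adjJp.left_triangle_components M
  have h1 : IsIso (q.adjJp.counit.app (q.jpst.obj M)) := inferInstance
  have h2 : IsIso (q.jpst.map (q.adjJp.unit.app M) ≫ q.adjJp.counit.app (q.jpst.obj M)) := by
    rw [h]; exact IsIso.id _
  exact IsIso.of_isIso_comp_right _ (q.adjJp.counit.app (q.jpst.obj M))

section glue

variable (NU : R) (N' : S') (δ : q.jpst.obj N' ≅ q.gst.obj NU) (N : S)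
  (a : N ⟶ q.jls.obj NU ⊞ q.fls.obj N')
  (d : q.fls.obj (q.jpls.obj (q.gst.obj NU)) ⟶ N⟦(1 : ℤ)⟧)
  (hT : Triangle.mk a
      (biprod.desc (q.adjF.unit.app (q.jls.obj NU) ≫ q.fls.map (q.bc2App NU))
        (-(q.fls.map (q.adjJp.unit.app N' ≫ q.jpls.map δ.hom)))) d ∈ distTriang S)

include hT

theorem glue_isIso₁ : IsIso ((q.adjJ.homEquiv N NU).symm (a ≫ biprod.fst)) := by
  have hT' : Triangle.mk (q.jst.map a)
      (q.jst.map (biprod.desc (q.adjF.unit.app (q.jls.obj NU) ≫ q.fls.map (q.bc2App NU))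
        (-(q.fls.map (q.adjJp.unit.app N' ≫ q.jpls.map δ.hom)))))
      (q.jst.map d ≫ (q.jst.commShiftIso (1 : ℤ)).hom.app N) ∈ distTriang R :=
    q.jst.map_distinguished _ hT
  have hm : IsIso (q.jpst.map (q.adjJp.unit.app N' ≫ q.jpls.map δ.hom)) := by
    have := isIso_jpst_map_unit hq N'
    rw [Functor.map_comp]
    infer_instance
  have h0 := isIso_jst_fls_map hq _ hm
  have hiso : IsIso (q.jst.map (biprod.inr : q.fls.obj N' ⟶ q.jls.obj NU ⊞ q.fls.obj N') ≫
      q.jst.map (biprod.desc (q.adjF.unit.app (q.jls.obj NU) ≫ q.fls.map (q.bc2App NU))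
        (-(q.fls.map (q.adjJp.unit.app N' ≫ q.jpls.map δ.hom))))) := by
    rw [← Functor.map_comp, biprod.inr_desc, Functor.map_neg]
    exact ⟨-inv (q.jst.map (q.fls.map (q.adjJp.unit.app N' ≫ q.jpls.map δ.hom))), by simp, by simp⟩
  have e1 : q.jst.map (biprod.inl : q.jls.obj NU ⟶ q.jls.obj NU ⊞ q.fls.obj N') ≫
      q.jst.map biprod.fst = 𝟙 _ := by
    rw [← Functor.map_comp, biprod.inl_fst, CategoryTheory.Functor.map_id]
  have e4 : q.jst.map (biprod.inr : q.fls.obj N' ⟶ q.jls.obj NU ⊞ q.fls.obj N') ≫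
      q.jst.map biprod.fst = 0 := by
    rw [← Functor.map_comp, biprod.inr_fst, Functor.map_zero]
  have e5 : q.jst.map (biprod.fst : q.jls.obj NU ⊞ q.fls.obj N' ⟶ _) ≫ q.jst.map biprod.inl +
      q.jst.map (biprod.snd : q.jls.obj NU ⊞ q.fls.obj N' ⟶ _) ≫ q.jst.map biprod.inr = 𝟙 _ := by
    rw [← Functor.map_comp, ← Functor.map_comp, ← Functor.map_add, biprod.total,
      CategoryTheory.Functor.map_id]
  have key : IsIso (q.jst.map a ≫ q.jst.map (biprod.fst : q.jls.obj NU ⊞ q.fls.obj N' ⟶ _)) :=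
    isIso_comp_fst_of_split hT' (q.jst.map biprod.fst) (q.jst.map biprod.snd)
      (q.jst.map biprod.inl) (q.jst.map biprod.inr) e1 e4 e5 hiso
  have := hq.isIso_counitJ
  rw [Adjunction.homEquiv_counit, Functor.map_comp]
  infer_instance

omit hT in
lemma homEquiv_symm_zero (X : S) (Y : S') : (q.adjF.homEquiv X Y).symm 0 = 0 := by
  rw [Adjunction.homEquiv_counit, Functor.map_zero, zero_comp]

/-- injectivity of `- ≫ α₂` on maps from objects killed by `j'^*` -/
lemma glue_inj {K : S'} (hK : IsZero (q.jpst.obj K)) (k : K ⟶ q.fst.obj N)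
    (hk : k ≫ (q.adjF.homEquiv N N').symm (a ≫ biprod.snd) = 0) : k = 0 := by
  have hL := isZero_jst_fls hq hK
  have hε := hq.isIso_counitF K hK
  obtain ⟨g, hg⟩ := exists_fst_map_eq hq hL (q.adjF.counit.app K ≫ k)
  have h2 : g ≫ a ≫ biprod.snd = 0 := by
    apply (q.adjF.homEquiv _ _).symm.injective
    rw [Adjunction.homEquiv_naturality_left_symm, hg, Category.assoc, hk, comp_zero,
      homEquiv_symm_zero hq]
  have h1 : g ≫ a ≫ biprod.fst = 0 := hom_jls_eq_zero q hL _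
  have h3 : g ≫ a = 0 := by
    apply biprod.hom_ext
    · rw [Category.assoc, h1, zero_comp]
    · rw [Category.assoc, h2, zero_comp]
  have hT' := inv_rot_of_distTriang _ hT
  obtain ⟨z, hz⟩ : ∃ z : q.fls.obj K ⟶ (q.fls.obj (q.jpls.obj (q.gst.obj NU)))⟦(-1 : ℤ)⟧,
      g = z ≫ (Triangle.mk a
      (biprod.desc (q.adjF.unit.app (q.jls.obj NU) ≫ q.fls.map (q.bc2App NU))
        (-(q.fls.map (q.adjJp.unit.app N' ≫ q.jpls.map δ.hom)))) d).invRotate.mor₁ :=
    Triangle.coyoneda_exact₂ _ hT' g h3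
  have hz0 : z = 0 := hom_unshift_eq_zero
    (fun ψ => hom_fls_jpls_eq_zero hq (isZero_jst_shift q hL 1) ψ) z
  have hg0 : g = 0 := by rw [hz, hz0, zero_comp]; rfl
  rw [hg0, Functor.map_zero] at hg
  rw [← cancel_epi (q.adjF.counit.app K), ← hg, comp_zero]

/-- surjectivity of `- ≫ α₂` on maps from objects killed by `j'^*` -/
lemma glue_surj {K : S'} (hK : IsZero (q.jpst.obj K)) (k₁ : K ⟶ N') :
    ∃ k : K ⟶ q.fst.obj N, k ≫ (q.adjF.homEquiv N N').symm (a ≫ biprod.snd) = k₁ := by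
  have hL := isZero_jst_fls hq hK
  have hε := hq.isIso_counitF K hK
  let ω : q.fls.obj K ⟶ q.fls.obj N' := q.adjF.homEquiv _ _ (q.adjF.counit.app K ≫ k₁)
  obtain ⟨g, hg⟩ : ∃ g : q.fls.obj K ⟶ N, biprod.lift 0 ω = g ≫ a :=
    Triangle.coyoneda_exact₂ _ hT (biprod.lift 0 ω) (hom_fls_jpls_eq_zero hq hL _)
  have h2 : g ≫ a ≫ biprod.snd = ω := by
    rw [← Category.assoc, ← hg, biprod.lift_snd]
  refine ⟨inv (q.adjF.counit.app K) ≫ q.fst.map g, ?_⟩
  rw [Category.assoc, ← Adjunction.homEquiv_naturality_left_symm, h2, Equiv.symm_apply_apply,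
    IsIso.inv_hom_id_assoc]

/-- the compatibility `α₂ ≫ m = f^*A₁ ≫ bc2` -/
lemma glue_compat :
    (q.adjF.homEquiv N N').symm (a ≫ biprod.snd) ≫ (q.adjJp.unit.app N' ≫ q.jpls.map δ.hom) =
      q.fst.map (a ≫ biprod.fst) ≫ q.bc2App NU := by
  have hab : a ≫ biprod.desc (q.adjF.unit.app (q.jls.obj NU) ≫ q.fls.map (q.bc2App NU))
        (-(q.fls.map (q.adjJp.unit.app N' ≫ q.jpls.map δ.hom))) = 0 :=
    comp_distTriang_mor_zero₁₂ _ hT
  have h1 : (a ≫ biprod.fst) ≫ q.adjF.unit.app (q.jls.obj NU) ≫ q.fls.map (q.bc2App NU) =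
      (a ≫ biprod.snd) ≫ q.fls.map (q.adjJp.unit.app N' ≫ q.jpls.map δ.hom) := by
    have h2 : a = (a ≫ biprod.fst) ≫ biprod.inl + (a ≫ biprod.snd) ≫ biprod.inr := by
      apply biprod.hom_ext <;> simp
    rw [h2] at hab
    simp only [Preadditive.add_comp, Category.assoc, biprod.inl_desc, biprod.inr_desc,
      Preadditive.comp_neg] at hab
    rw [← sub_eq_add_neg, sub_eq_zero] at hab
    simpa only [Category.assoc] using hab
  have h3 := congrArg (q.adjF.homEquiv N _).symm h1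
  rw [Adjunction.homEquiv_naturality_right_symm] at h3
  rw [← h3, ← Category.assoc, Adjunction.homEquiv_naturality_right_symm]
  congr 1
  rw [Adjunction.homEquiv_counit, Functor.map_comp, Category.assoc,
    q.adjF.left_triangle_components, Category.comp_id]

theorem glue_isIso₂ : IsIso ((q.adjF.homEquiv N N').symm (a ≫ biprod.snd)) := by
  -- `j'^* α₂` is an isomorphism
  have hm : IsIso (q.jpst.map (q.adjJp.unit.app N' ≫ q.jpls.map δ.hom)) := by
    have := isIso_jpst_map_unit hq N'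
    rw [Functor.map_comp]
    infer_instance
  have h1 : IsIso ((q.adjJ.homEquiv N NU).symm (a ≫ biprod.fst)) :=
    glue_isIso₁ hq NU N' δ N a d hT
  have hjA : IsIso (q.jst.map (a ≫ biprod.fst)) := by
    have := hq.isIso_counitJ
    rw [Adjunction.homEquiv_counit] at h1
    exact IsIso.of_isIso_comp_right _ (q.adjJ.counit.app NU)
  have hjfA : IsIso (q.jpst.map (q.fst.map (a ≫ biprod.fst))) := by
    have hn : q.gst.map (q.jst.map (a ≫ biprod.fst)) ≫ q.e.hom.app (q.jls.obj NU) =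
        q.e.hom.app N ≫ q.jpst.map (q.fst.map (a ≫ biprod.fst)) :=
      q.e.hom.naturality (a ≫ biprod.fst)
    have h2 : IsIso (q.e.hom.app N ≫ q.jpst.map (q.fst.map (a ≫ biprod.fst))) := by
      rw [← hn]; infer_instance
    exact IsIso.of_isIso_comp_left (q.e.hom.app N) _
  have hjα : IsIso (q.jpst.map ((q.adjF.homEquiv N N').symm (a ≫ biprod.snd))) := by
    have hc := congrArg q.jpst.map (glue_compat hq NU N' δ N a d hT)
    rw [Functor.map_comp, Functor.map_comp (f := q.fst.map (a ≫ biprod.fst))] at hc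
    have := hq.isIso_bc2App NU
    have h3 : IsIso (q.jpst.map ((q.adjF.homEquiv N N').symm (a ≫ biprod.snd)) ≫
        q.jpst.map (q.adjJp.unit.app N' ≫ q.jpls.map δ.hom)) := by
      rw [hc]; infer_instance
    exact IsIso.of_isIso_comp_right _ (q.jpst.map (q.adjJp.unit.app N' ≫ q.jpls.map δ.hom))
  -- the cone vanishes
  obtain ⟨Y, c, e, hTα⟩ := distinguished_cocone_triangle
    ((q.adjF.homEquiv N N').symm (a ≫ biprod.snd))
  have hY : IsZero (q.jpst.obj Y) := by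
    have hTα' := q.jpst.map_distinguished _ hTα
    exact (Triangle.isZero₃_iff_isIso₁ _ hTα').2 hjα
  have he : e = 0 := by
    apply eq_zero_of_comp_shift ((q.adjF.homEquiv N N').symm (a ≫ biprod.snd)) _ e
      (comp_distTriang_mor_zero₃₁ _ hTα)
    intro ψ hψ
    exact glue_inj hq NU N' δ N a d hT (isZero_jpst_shift q hY (-1)) ψ hψ
  obtain ⟨s, hs⟩ : ∃ s : Y ⟶ N', 𝟙 Y = s ≫ c :=
    Triangle.coyoneda_exact₃ _ hTα (𝟙 Y) (show 𝟙 Y ≫ e = 0 by rw [Category.id_comp]; exact he)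
  obtain ⟨k, hk⟩ := glue_surj hq NU N' δ N a d hT hY s
  have hαc : (q.adjF.homEquiv N N').symm (a ≫ biprod.snd) ≫ c = 0 :=
    comp_distTriang_mor_zero₁₂ _ hTα
  have hY0 : IsZero Y := by
    rw [IsZero.iff_id_eq_zero, hs, ← hk, Category.assoc, hαc, comp_zero]
  exact (Triangle.isZero₃_iff_isIso₁ _ hTα).1 hY0

end glue





end Groth.Agent.H2.MV
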