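import Mathlib
import Groth.Agent.Lib.Helper2.MVSq5
import Groth.Agent.Lib.Helper2.Cpt1

/-!
# Mayer–Vietoris squares of triangulated categories: compactness (helper2)
-/

universe v u

set_option linter.unusedSectionVars false

open CategoryTheory CategoryTheory.Limits CategoryTheory.Pretriangulated

namespace Groth.Agent.H2.MV

open W4c3perfectstacks Groth.Agent.H2.Cpt

section shift

variable {T : Type u} [Category.{v} T] [Preadditive T] [HasShift T ℤ]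
  [∀ n : ℤ, (shiftFunctor T n).Additive] [HasCoproducts.{v} T]

theorem isCompact_shift {K : T} (h : CohDer.IsCompactObject K) (n : ℤ) :
    CohDer.IsCompactObject (K⟦n⟧) := by
  apply isCompact_of_compactFor_id
  have h1 : CompactFor K (shiftFunctor T (-n)) :=
    compactFor_of_preserves (compactFor_id_of_isCompact h) _
  exact (compactFor_adj_iff (shiftEquiv T n).toAdjunction K (𝟭 T)).2 h1

omit [HasShift T ℤ] [∀ n : ℤ, (shiftFunctor T n).Additive] in
theorem isCompact_of_iso {K K' : T} (e : K ≅ K') (h : CohDer.IsCompactObject K) :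
    CohDer.IsCompactObject K' :=
  isCompact_of_compactFor_id (compactFor_of_iso e _ (compactFor_id_of_isCompact h))

end shift

variable {S S' R R' : Type u} [Category.{v} S] [Category.{v} S'] [Category.{v} R] [Category.{v} R']
  [Preadditive S] [Preadditive S'] [Preadditive R] [Preadditive R']
  [HasZeroObject S] [HasZeroObject S'] [HasZeroObject R] [HasZeroObject R']
  [HasShift S ℤ] [HasShift S' ℤ] [HasShift R ℤ] [HasShift R' ℤ]
  [∀ n : ℤ, (shiftFunctor S n).Additive] [∀ n : ℤ, (shiftFunctor S' n).Additive]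
  [∀ n : ℤ, (shiftFunctor R n).Additive] [∀ n : ℤ, (shiftFunctor R' n).Additive]
  [Pretriangulated S] [Pretriangulated S'] [Pretriangulated R] [Pretriangulated R']
  {q : MVSq S S' R R'}
  [q.jst.CommShift ℤ] [q.fst.CommShift ℤ] [q.jpst.CommShift ℤ] [q.gst.CommShift ℤ]
  [q.jst.IsTriangulated] [q.fst.IsTriangulated] [q.jpst.IsTriangulated] [q.gst.IsTriangulated]
  (hq : q.IsMV)

omit [q.jst.CommShift ℤ] [q.fst.CommShift ℤ] [q.jpst.CommShift ℤ] [q.gst.CommShift ℤ]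
  [q.jst.IsTriangulated] [q.fst.IsTriangulated] [q.jpst.IsTriangulated] [q.gst.IsTriangulated] in
lemma bc2App_naturality {P₁ P₂ : R} (m : P₁ ⟶ P₂) :
    q.fst.map (q.jls.map m) ≫ q.bc2App P₂ = q.bc2App P₁ ≫ q.jpls.map (q.gst.map m) := by
  unfold MVSq.bc2App
  have h1 : q.fst.map (q.jls.map m) ≫ q.adjJp.unit.app (q.fst.obj (q.jls.obj P₂)) =
      q.adjJp.unit.app (q.fst.obj (q.jls.obj P₁)) ≫
        q.jpls.map (q.jpst.map (q.fst.map (q.jls.map m))) :=
    q.adjJp.unit.naturality (q.fst.map (q.jls.map m))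
  have h2 : q.jpst.map (q.fst.map (q.jls.map m)) ≫ q.e.inv.app (q.jls.obj P₂) =
      q.e.inv.app (q.jls.obj P₁) ≫ q.gst.map (q.jst.map (q.jls.map m)) :=
    q.e.inv.naturality (q.jls.map m)
  have h3 : q.jst.map (q.jls.map m) ≫ q.adjJ.counit.app P₂ = q.adjJ.counit.app P₁ ≫ m :=
    q.adjJ.counit.naturality m
  rw [reassoc_of% h1]
  simp only [Category.assoc, ← Functor.map_comp]
  rw [reassoc_of% h2, ← Functor.map_comp, h3]

include hq

/-- the exchange isomorphism `f^* j_* ≅ j'_* g^*` as a natural isomorphism -/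
noncomputable def bc2Iso : q.jls ⋙ q.fst ≅ q.gst ⋙ q.jpls :=
  NatIso.ofComponents (fun P => by
    haveI := hq.isIso_bc2App P
    exact asIso (q.bc2App P)) (fun m => bc2App_naturality m)

variable [HasCoproducts.{v} S] [HasCoproducts.{v} S'] [HasCoproducts.{v} R] [HasCoproducts.{v} R']

omit hq in
lemma compactFor₁ (N : S) (hU : CohDer.IsCompactObject (q.jst.obj N)) :
    CompactFor N (q.jst ⋙ q.jls) := by
  haveI : PreservesColimitsOfSize.{v, v} q.jst := q.adjJ.leftAdjoint_preservesColimits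
  exact (compactFor_adj_iff q.adjJ N q.jst).1
    (compactFor_of_preserves (compactFor_id_of_isCompact hU) q.jst)

omit hq in
lemma compactFor₂ (N : S) (hX' : CohDer.IsCompactObject (q.fst.obj N)) :
    CompactFor N (q.fst ⋙ q.fls) := by
  haveI : PreservesColimitsOfSize.{v, v} q.fst := q.adjF.leftAdjoint_preservesColimits
  exact (compactFor_adj_iff q.adjF N q.fst).1
    (compactFor_of_preserves (compactFor_id_of_isCompact hX') q.fst)

lemma compactFor₃ (N : S) (hU' : CohDer.IsCompactObject (q.gst.obj (q.jst.obj N))) :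
    CompactFor N (q.jst ⋙ q.jls ⋙ q.fst ⋙ q.fls) := by
  haveI : PreservesColimitsOfSize.{v, v} q.jst := q.adjJ.leftAdjoint_preservesColimits
  haveI : PreservesColimitsOfSize.{v, v} q.gst := q.adjG.leftAdjoint_preservesColimits
  have a1 : CompactFor (q.gst.obj (q.jst.obj N)) (q.jst ⋙ q.gst) :=
    compactFor_of_preserves (compactFor_id_of_isCompact hU') _
  have a2 : CompactFor (q.jpst.obj (q.fst.obj N)) (q.jst ⋙ q.gst) :=
    compactFor_of_iso (q.e.app N) _ a1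
  have a3 : CompactFor (q.fst.obj N) ((q.jst ⋙ q.gst) ⋙ q.jpls) :=
    (compactFor_adj_iff q.adjJp _ _).1 a2
  have a4 : CompactFor (q.fst.obj N) (q.jst ⋙ q.jls ⋙ q.fst) :=
    compactFor_of_natIso (Functor.isoWhiskerLeft q.jst (bc2Iso hq).symm) a3
  exact (compactFor_adj_iff q.adjF _ _).1 a4

variable [IsTriangulated S] [IsTriangulated S'] [IsTriangulated R] [IsTriangulated R']

theorem compact_chase (N : S) (h₁ : CompactFor N (q.jst ⋙ q.jls)) (h₂ : CompactFor N (q.fst ⋙ q.fls))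
    (h₃ : CompactFor (N⟦(1 : ℤ)⟧) (q.jst ⋙ q.jls ⋙ q.fst ⋙ q.fls)) : CompactFor N (𝟭 S) := by
  intro ι _ X φ
  change N ⟶ ∐ X at φ
  obtain ⟨s₁, hs₁⟩ := h₁ ι X (φ ≫ q.adjJ.unit.app (∐ X))
  obtain ⟨s₂, hs₂⟩ := h₂ ι X (φ ≫ q.adjF.unit.app (∐ X))
  have hs₁' := comp_pS_mono X (q.jst ⋙ q.jls) _ (Finset.subset_union_left (s₂ := s₂)) hs₁
  have hs₂' := comp_pS_mono X (q.fst ⋙ q.fls) _ (Finset.subset_union_right (s₁ := s₁)) hs₂
  have e₁ : (φ ≫ pS X (s₁ ∪ s₂)) ≫ q.adjJ.unit.app (∐ X) = φ ≫ q.adjJ.unit.app (∐ X) := by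
    have := q.adjJ.unit.naturality (pS X (s₁ ∪ s₂))
    dsimp at this
    rw [Category.assoc, this, ← Category.assoc]
    exact hs₁'
  have e₂ : (φ ≫ pS X (s₁ ∪ s₂)) ≫ q.adjF.unit.app (∐ X) = φ ≫ q.adjF.unit.app (∐ X) := by
    have := q.adjF.unit.naturality (pS X (s₁ ∪ s₂))
    dsimp at this
    rw [Category.assoc, this, ← Category.assoc]
    exact hs₂'
  have hφ' : (φ - φ ≫ pS X (s₁ ∪ s₂)) ≫ mvA q (∐ X) = 0 := by
    apply biprod.hom_ext
    · rw [Category.assoc, biprod.lift_fst, Preadditive.sub_comp, e₁, sub_self, zero_comp]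
    · rw [Category.assoc, biprod.lift_snd, Preadditive.sub_comp, e₂, sub_self, zero_comp]
  obtain ⟨d, hd⟩ := exists_mv_triangle hq (∐ X)
  obtain ⟨ψ, hψ⟩ : ∃ ψ : N⟦(1 : ℤ)⟧ ⟶ q.fls.obj (q.fst.obj (q.jls.obj (q.jst.obj (∐ X)))),
      (φ - φ ≫ pS X (s₁ ∪ s₂))⟦(1 : ℤ)⟧' = ψ ≫ d :=
    Triangle.coyoneda_exact₁ _ hd ((φ - φ ≫ pS X (s₁ ∪ s₂))⟦(1 : ℤ)⟧')
    (by
      change (φ - φ ≫ pS X (s₁ ∪ s₂))⟦(1 : ℤ)⟧' ≫ (mvA q (∐ X))⟦(1 : ℤ)⟧' = 0
      rw [← Functor.map_comp, hφ', Functor.map_zero])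
  obtain ⟨s₃, hs₃⟩ := h₃ ι X ψ
  have nat := mv_naturality q (pS X s₃) d d hd hd
  have h5 : (φ - φ ≫ pS X (s₁ ∪ s₂)) ≫ pS X s₃ = φ - φ ≫ pS X (s₁ ∪ s₂) := by
    apply (shiftFunctor S (1 : ℤ)).map_injective
    rw [Functor.map_comp, hψ, Category.assoc, nat, ← Category.assoc]
    exact congrArg (fun z => z ≫ d) hs₃
  refine ⟨(s₁ ∪ s₂) ∪ s₃, ?_⟩
  change φ ≫ pS X ((s₁ ∪ s₂) ∪ s₃) = φ
  have h6 : (φ ≫ pS X (s₁ ∪ s₂)) ≫ pS X ((s₁ ∪ s₂) ∪ s₃) = φ ≫ pS X (s₁ ∪ s₂) := by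
    rw [Category.assoc, pS_comp_pS X Finset.subset_union_left]
  have h7 : (φ - φ ≫ pS X (s₁ ∪ s₂)) ≫ pS X ((s₁ ∪ s₂) ∪ s₃) = φ - φ ≫ pS X (s₁ ∪ s₂) :=
    comp_pS_mono X (𝟭 S) _ Finset.subset_union_right h5
  have h8 : φ = φ ≫ pS X (s₁ ∪ s₂) + (φ - φ ≫ pS X (s₁ ∪ s₂)) := by abel
  conv_lhs => rw [h8]
  rw [Preadditive.add_comp, h6, h7]
  abel

theorem isCompact_of_restrictions (N : S) (hU : CohDer.IsCompactObject (q.jst.obj N))
    (hX' : CohDer.IsCompactObject (q.fst.obj N))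
    (hU' : CohDer.IsCompactObject (q.gst.obj (q.jst.obj N))) : CohDer.IsCompactObject N := by
  apply isCompact_of_compactFor_id
  refine compact_chase hq N (compactFor₁ N hU) (compactFor₂ N hX') (compactFor₃ hq _ ?_)
  refine isCompact_of_iso ?_ (isCompact_shift hU' 1)
  exact ((q.gst.commShiftIso (1 : ℤ)).app _).symm ≪≫
    q.gst.mapIso ((q.jst.commShiftIso (1 : ℤ)).app N).symm

end Groth.Agent.H2.MV
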