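import Mathlib

/-!
# Long exact sequence attached to a Mayer–Vietoris triangle (helper2)
-/

universe w v u

open CategoryTheory CategoryTheory.Limits CategoryTheory.Pretriangulated

namespace Groth.Agent.H2.MVTri

lemma exact_mk₂ {A B C : Type w} [AddCommGroup A] [AddCommGroup B] [AddCommGroup C]
    (φ : A →+ B) (ψ : B →+ C) (h0 : ∀ a, ψ (φ a) = 0) (hex : ∀ b, ψ b = 0 → ∃ a, φ a = b) :
    (ComposableArrows.mk₂ (AddCommGrpCat.ofHom φ) (AddCommGrpCat.ofHom ψ)).Exact := by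
  have w : AddCommGrpCat.ofHom φ ≫ AddCommGrpCat.ofHom ψ = 0 := by
    ext a
    exact h0 a
  have hS : (ShortComplex.mk _ _ w).Exact := by
    rw [ShortComplex.ab_exact_iff]
    intro b hb
    exact hex b hb
  exact hS.exact_toComposableArrows

lemma leftComp_apply {C : Type u} [Category.{v} C] [Preadditive C] {P Q : C} (R : C) (f : P ⟶ Q)
    (g : Q ⟶ R) : Preadditive.leftComp R f g = f ≫ g := rfl

variable {D : Type u} [Category.{v} D] [Preadditive D] [HasZeroObject D] [HasShift D ℤ]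
  [∀ n : ℤ, (shiftFunctor D n).Additive] [Pretriangulated D]

variable {Z₁ Z₂ Z₃ Z₄ : D} {a₁₂ : Z₁ ⟶ Z₂} {a₁₃ : Z₁ ⟶ Z₃} {a₂₄ : Z₂ ⟶ Z₄} {a₃₄ : Z₃ ⟶ Z₄}
  {δ : Z₄ ⟶ Z₁⟦(1 : ℤ)⟧}
  (hT : Triangle.mk (biprod.lift a₁₂ (-a₁₃)) (biprod.desc a₂₄ a₃₄) δ ∈ distTriang D)

/-- the connecting map -/
noncomputable def conn (δ : Z₄ ⟶ Z₁⟦(1 : ℤ)⟧) (X : D) (n : ℤ) :
    (Z₁ ⟶ X⟦n⟧) →+ (Z₄ ⟶ X⟦n + 1⟧) where
  toFun x := δ ≫ x⟦(1 : ℤ)⟧' ≫ (shiftFunctorAdd' D n 1 (n + 1) rfl).inv.app X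
  map_zero' := by simp
  map_add' x y := by simp

lemma conn_apply (X : D) (n : ℤ) (x : Z₁ ⟶ X⟦n⟧) :
    conn δ X n x = δ ≫ x⟦(1 : ℤ)⟧' ≫ (shiftFunctorAdd' D n 1 (n + 1) rfl).inv.app X := rfl

include hT

lemma sq_comm : a₁₂ ≫ a₂₄ = a₁₃ ≫ a₃₄ := by
  have h : biprod.lift a₁₂ (-a₁₃) ≫ biprod.desc a₂₄ a₃₄ = 0 := comp_distTriang_mor_zero₁₂ _ hT
  rw [biprod.lift_desc, Preadditive.neg_comp, ← sub_eq_add_neg, sub_eq_zero] at h
  exact h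

lemma exact1 (X : D) (u : Z₂ ⟶ X) (v : Z₃ ⟶ X) (h : a₁₂ ≫ u - a₁₃ ≫ v = 0) :
    ∃ y : Z₄ ⟶ X, a₂₄ ≫ y = u ∧ a₃₄ ≫ y = v := by
  have h0 : biprod.lift a₁₂ (-a₁₃) ≫ biprod.desc u v = 0 := by
    rw [biprod.lift_desc, Preadditive.neg_comp, ← sub_eq_add_neg]
    exact h
  obtain ⟨y, hy⟩ : ∃ y : Z₄ ⟶ X, biprod.desc u v = biprod.desc a₂₄ a₃₄ ≫ y :=
    Triangle.yoneda_exact₂ _ hT (biprod.desc u v) h0
  refine ⟨y, ?_, ?_⟩
  · have := congrArg (fun z => biprod.inl ≫ z) hy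
    simpa using this.symm
  · have := congrArg (fun z => biprod.inr ≫ z) hy
    simpa using this.symm

lemma exact2 (X : D) (x : Z₁ ⟶ X) (h : δ ≫ x⟦(1 : ℤ)⟧' = 0) :
    ∃ (u : Z₂ ⟶ X) (v : Z₃ ⟶ X), a₁₂ ≫ u - a₁₃ ≫ v = x := by
  obtain ⟨w, hw⟩ : ∃ w : (Z₂ ⊞ Z₃)⟦(1 : ℤ)⟧ ⟶ X⟦(1 : ℤ)⟧,
      x⟦(1 : ℤ)⟧' = (-(biprod.lift a₁₂ (-a₁₃))⟦(1 : ℤ)⟧') ≫ w :=
    Triangle.yoneda_exact₃ _ (rot_of_distTriang _ hT) (x⟦(1 : ℤ)⟧') h
  obtain ⟨w', rfl⟩ := (shiftFunctor D (1 : ℤ)).map_surjective w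
  rw [Preadditive.neg_comp, ← Functor.map_comp, ← Functor.map_neg] at hw
  have hx := (shiftFunctor D (1 : ℤ)).map_injective hw
  refine ⟨-(biprod.inl ≫ w'), -(biprod.inr ≫ w'), ?_⟩
  rw [hx]
  have h1 : biprod.lift a₁₂ (-a₁₃) = a₁₂ ≫ biprod.inl - a₁₃ ≫ biprod.inr := by
    ext <;> simp
  rw [h1]
  simp only [Preadditive.comp_neg, Preadditive.sub_comp, Category.assoc]
  abel

lemma exact3 (X : D) (y : Z₄ ⟶ X) (h2 : a₂₄ ≫ y = 0) (h3 : a₃₄ ≫ y = 0) :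
    ∃ z : Z₁⟦(1 : ℤ)⟧ ⟶ X, δ ≫ z = y := by
  have h0 : biprod.desc a₂₄ a₃₄ ≫ y = 0 := by
    ext
    · simpa using h2
    · simpa using h3
  obtain ⟨z, hz⟩ : ∃ z : Z₁⟦(1 : ℤ)⟧ ⟶ X, y = δ ≫ z := Triangle.yoneda_exact₃ _ hT y h0
  exact ⟨z, hz.symm⟩

lemma δ_comp₂ : a₂₄ ≫ δ = 0 := by
  have h : biprod.desc a₂₄ a₃₄ ≫ δ = 0 := comp_distTriang_mor_zero₂₃ _ hT
  have := congrArg (fun z => biprod.inl ≫ z) h
  simpa using this

lemma δ_comp₃ : a₃₄ ≫ δ = 0 := by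
  have h : biprod.desc a₂₄ a₃₄ ≫ δ = 0 := comp_distTriang_mor_zero₂₃ _ hT
  have := congrArg (fun z => biprod.inr ≫ z) h
  simpa using this

lemma δ_comp₁₂ : δ ≫ a₁₂⟦(1 : ℤ)⟧' = 0 := by
  have h : δ ≫ (biprod.lift a₁₂ (-a₁₃))⟦(1 : ℤ)⟧' = 0 := comp_distTriang_mor_zero₃₁ _ hT
  have := congrArg (fun z => z ≫ (biprod.fst : Z₂ ⊞ Z₃ ⟶ Z₂)⟦(1 : ℤ)⟧') h
  simpa [← Functor.map_comp] using this

lemma δ_comp₁₃ : δ ≫ a₁₃⟦(1 : ℤ)⟧' = 0 := by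
  have h : δ ≫ (biprod.lift a₁₂ (-a₁₃))⟦(1 : ℤ)⟧' = 0 := comp_distTriang_mor_zero₃₁ _ hT
  have := congrArg (fun z => z ≫ (biprod.snd : Z₂ ⊞ Z₃ ⟶ Z₃)⟦(1 : ℤ)⟧') h
  simpa [← Functor.map_comp] using this

theorem mv_exact (X : D) (n : ℤ) :
    (ComposableArrows.mk₂
      (AddCommGrpCat.ofHom ((Preadditive.leftComp (X⟦n⟧) a₂₄).prod (Preadditive.leftComp (X⟦n⟧) a₃₄)))
      (AddCommGrpCat.ofHom ((Preadditive.leftComp (X⟦n⟧) a₁₂).coprod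
        (-(Preadditive.leftComp (X⟦n⟧) a₁₃))))).Exact ∧
    (ComposableArrows.mk₂
      (AddCommGrpCat.ofHom ((Preadditive.leftComp (X⟦n⟧) a₁₂).coprod
        (-(Preadditive.leftComp (X⟦n⟧) a₁₃))))
      (AddCommGrpCat.ofHom (conn δ X n))).Exact ∧
    (ComposableArrows.mk₂ (AddCommGrpCat.ofHom (conn δ X n))
      (AddCommGrpCat.ofHom ((Preadditive.leftComp (X⟦n + 1⟧) a₂₄).prod
        (Preadditive.leftComp (X⟦n + 1⟧) a₃₄)))).Exact := by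
  refine ⟨?_, ?_, ?_⟩
  · apply exact_mk₂
    · intro y
      simp only [AddMonoidHom.prod_apply, AddMonoidHom.coprod_apply, leftComp_apply,
        AddMonoidHom.neg_apply]
      rw [← Category.assoc, ← Category.assoc, sq_comm hT, add_neg_cancel]
    · rintro ⟨u, v⟩ h
      simp only [AddMonoidHom.coprod_apply, leftComp_apply,
        AddMonoidHom.neg_apply, ← sub_eq_add_neg] at h
      obtain ⟨y, h1, h2⟩ := exact1 hT _ u v h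
      refine ⟨y, ?_⟩
      simp only [AddMonoidHom.prod_apply, leftComp_apply, h1, h2]
  · apply exact_mk₂
    · rintro ⟨u, v⟩
      simp only [AddMonoidHom.coprod_apply, leftComp_apply,
        AddMonoidHom.neg_apply, conn_apply]
      rw [← Category.assoc]
      have : δ ≫ (a₁₂ ≫ u + -(a₁₃ ≫ v))⟦(1 : ℤ)⟧' = 0 := by
        rw [Functor.map_add, Functor.map_neg, Functor.map_comp, Functor.map_comp,
          Preadditive.comp_add, Preadditive.comp_neg, ← Category.assoc, ← Category.assoc,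
          δ_comp₁₂ hT, δ_comp₁₃ hT, zero_comp, zero_comp, neg_zero, add_zero]
      rw [this, zero_comp]
    · intro x h
      rw [conn_apply, ← Category.assoc] at h
      have h' : δ ≫ x⟦(1 : ℤ)⟧' = 0 := by
        have := congrArg (fun z => z ≫ (shiftFunctorAdd' D n 1 (n + 1) rfl).hom.app X) h
        simpa using this
      obtain ⟨u, v, huv⟩ := exact2 hT _ x h'
      refine ⟨⟨u, v⟩, ?_⟩
      simp only [AddMonoidHom.coprod_apply, leftComp_apply,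
        AddMonoidHom.neg_apply, ← sub_eq_add_neg]
      exact huv
  · apply exact_mk₂
    · intro x
      simp only [AddMonoidHom.prod_apply, leftComp_apply, conn_apply]
      rw [← Category.assoc a₂₄, ← Category.assoc a₃₄, δ_comp₂ hT, δ_comp₃ hT, zero_comp, zero_comp]
      rfl
    · intro y h
      simp only [AddMonoidHom.prod_apply, leftComp_apply, Prod.mk_eq_zero] at h
      obtain ⟨z, hz⟩ := exact3 hT _ y h.1 h.2
      obtain ⟨x, hx⟩ := (shiftFunctor D (1 : ℤ)).map_surjective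
        (z ≫ (shiftFunctorAdd' D n 1 (n + 1) rfl).hom.app X)
      refine ⟨x, ?_⟩
      rw [conn_apply, hx, Category.assoc, Iso.hom_inv_id_app, Category.comp_id, hz]

end Groth.Agent.H2.MVTri
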