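import Mathlib
import Groth.Prelude.Def_CohCx
import Groth.Agent.Lib.Helper2.MVTri1

/-!
# Mayer–Vietoris for hypercohomology on a site (helper2)
-/

universe u

open CategoryTheory CategoryTheory.Limits CategoryTheory.Pretriangulated

namespace Groth.Agent.H2.MVTri

variable {C : Type u} [SmallCategory C] {J : GrothendieckTopology C}
  [HasWeakSheafify J (Type u)] [HasDerivedCategory.{u} (Sheaf J AddCommGrpCat.{u})]

/-- single functor in degree zero -/
noncomputable abbrev Qs : Sheaf J AddCommGrpCat.{u} ⥤ DerivedCategory (Sheaf J AddCommGrpCat.{u}) :=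
  DerivedCategory.singleFunctor (Sheaf J AddCommGrpCat.{u}) 0

/-- the object `ℤ[U]` of the derived category -/
noncomputable abbrev ZD (U : C) : DerivedCategory (Sheaf J AddCommGrpCat.{u}) :=
  (Qs (J := J)).obj (CohCx.freeSheaf J U)

/-- functoriality of `ZD` -/
noncomputable abbrev aD {U V : C} (f : V ⟶ U) : ZD (J := J) V ⟶ ZD (J := J) U :=
  (Qs (J := J)).map (CohCx.freeSheafMap J f)

theorem exists_δ (S : J.MayerVietorisSquare) :
    ∃ δ : ZD (J := J) S.X₄ ⟶ (ZD (J := J) S.X₁)⟦(1 : ℤ)⟧,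
      Triangle.mk (biprod.lift (aD (J := J) S.f₁₂) (-(aD (J := J) S.f₁₃)))
        (biprod.desc (aD (J := J) S.f₂₄) (aD (J := J) S.f₃₄)) δ ∈
        distTriang (DerivedCategory (Sheaf J AddCommGrpCat.{u})) := by
  have hS := S.shortComplex_shortExact
  refine ⟨hS.singleδ, ?_⟩
  refine isomorphic_distinguished _ hS.singleTriangle_distinguished _ ?_
  have hadd : (Qs (J := J)).Additive := inferInstance
  have hpb : PreservesBinaryBiproducts (Qs (J := J)) := preservesBinaryBiproducts_of_preservesBiproducts _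
  refine (Triangle.isoMk hS.singleTriangle
    (Triangle.mk (biprod.lift (aD (J := J) S.f₁₂) (-(aD (J := J) S.f₁₃)))
        (biprod.desc (aD (J := J) S.f₂₄) (aD (J := J) S.f₃₄)) hS.singleδ)
    (Iso.refl _) ((Qs (J := J)).mapBiprod
    (CohCx.freeSheaf J S.X₂) (CohCx.freeSheaf J S.X₃)) (Iso.refl _) ?_ ?_ ?_).symm
  · change (Qs (J := J)).map (biprod.lift (CohCx.freeSheafMap J S.f₁₂)
        (-(CohCx.freeSheafMap J S.f₁₃))) ≫ ((Qs (J := J)).mapBiprod
      (CohCx.freeSheaf J S.X₂) (CohCx.freeSheaf J S.X₃)).hom =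
        𝟙 _ ≫ biprod.lift (aD (J := J) S.f₁₂) (-(aD (J := J) S.f₁₃))
    rw [Category.id_comp, Functor.mapBiprod_hom]
    apply biprod.hom_ext
    · rw [Category.assoc, biprod.lift_fst, biprod.lift_fst, ← Functor.map_comp, biprod.lift_fst]
    · rw [Category.assoc, biprod.lift_snd, biprod.lift_snd, ← Functor.map_comp, biprod.lift_snd,
        Functor.map_neg]
  · change (Qs (J := J)).map (biprod.desc (CohCx.freeSheafMap J S.f₂₄)
        (CohCx.freeSheafMap J S.f₃₄)) ≫ 𝟙 _ = ((Qs (J := J)).mapBiprod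
      (CohCx.freeSheaf J S.X₂) (CohCx.freeSheaf J S.X₃)).hom ≫
        biprod.desc (aD (J := J) S.f₂₄) (aD (J := J) S.f₃₄)
    rw [Category.comp_id, Functor.mapBiprod_hom, biprod.lift_desc, ← Functor.map_comp,
      ← Functor.map_comp, ← Functor.map_add]
    congr 1
    apply biprod.hom_ext'
    · rw [Preadditive.comp_add, biprod.inl_fst_assoc, biprod.inl_snd_assoc, zero_comp, add_zero,
        biprod.inl_desc]
    · rw [Preadditive.comp_add, biprod.inr_fst_assoc, biprod.inr_snd_assoc, zero_comp, zero_add,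
        biprod.inr_desc]
  · change hS.singleδ ≫ (𝟙 _)⟦(1 : ℤ)⟧' = 𝟙 _ ≫ hS.singleδ
    simp

end Groth.Agent.H2.MVTri
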