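import Mathlib

/-!
# The point of a polytope closest to the origin, over an arbitrary ordered field (helper2)

For a symmetric positive definite bilinear form `B` on a finite-dimensional vector space over a
linearly ordered field and a non-empty finite family of points `p`, the convex hull of the `p i`
contains a point `y₀` with `B y₀ y₀ ≤ B y y` for all `y` in the hull (`exists_min`).  No topology:
the proof is by induction on the number of points (reduction to faces), as in Wolfe's algorithm.
-/

set_option autoImplicit false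
set_option linter.unusedSectionVars false
namespace Groth.Agent.H2.MinNorm
open Module

universe u
variable {R : Type*} [Field R] [LinearOrder R] [IsStrictOrderedRing R]
  {V : Type*} [AddCommGroup V] [Module R V]

/-- the convex combinations of a finite family of points -/
def K {ι : Type*} [Fintype ι] (p : ι → V) : Set V :=
  {y | ∃ c : ι → R, (∀ i, 0 ≤ c i) ∧ ∑ i, c i = 1 ∧ y = ∑ i, c i • p i}

lemma convexHull_range_eq {ι : Type*} [Fintype ι] (p : ι → V) :
    convexHull R (Set.range p) = K (R := R) p := by
  classical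
  apply Set.Subset.antisymm
  · apply convexHull_min
    · rintro _ ⟨i, rfl⟩
      refine ⟨Pi.single i 1, fun j => ?_, ?_, ?_⟩
      · by_cases h : j = i
        · subst h; simp
        · simp [h]
      · simp
      · simp [Pi.single_apply]
    · rintro x ⟨c, hc0, hc1, rfl⟩ y ⟨c', hc0', hc1', rfl⟩ a b ha hb hab
      refine ⟨fun i => a * c i + b * c' i, fun i => ?_, ?_, ?_⟩
      · exact add_nonneg (mul_nonneg ha (hc0 i)) (mul_nonneg hb (hc0' i))
      · rw [Finset.sum_add_distrib, ← Finset.mul_sum, ← Finset.mul_sum, hc1, hc1', mul_one, mul_one,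
          hab]
      · rw [Finset.smul_sum, Finset.smul_sum, ← Finset.sum_add_distrib]
        refine Finset.sum_congr rfl fun i _ => ?_
        rw [add_smul, mul_smul, mul_smul]
  · rintro _ ⟨c, hc0, hc1, rfl⟩
    exact (convex_convexHull R _).sum_mem (fun i _ => hc0 i) hc1
      (fun i _ => subset_convexHull R _ ⟨i, rfl⟩)

variable (B : LinearMap.BilinForm R V)

/-- orthogonal projection to a subspace for a positive definite symmetric form -/
lemma exists_proj [FiniteDimensional R V] (hBs : ∀ x y, B x y = B y x)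
    (hBp : ∀ y, y ≠ 0 → 0 < B y y) (D : Submodule R V) (u : V) :
    ∃ v ∈ D, ∀ w ∈ D, B (u - v) w = 0 := by
  have hrefl : B.IsRefl := fun x y h => by rw [hBs]; exact h
  have hnd : (B.restrict D).Nondegenerate := by
    have hl : (B.restrict D).SeparatingLeft := by
      intro x hx
      by_contra hne
      have h1 := hx x
      have hne' : (x : V) ≠ 0 := fun h => hne (Subtype.ext h)
      have h2 := hBp (x : V) hne'
      simp only [LinearMap.BilinForm.restrict_apply, LinearMap.domRestrict_apply] at h1
      rw [h1] at h2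
      exact lt_irrefl _ h2
    refine ⟨hl, ?_⟩
    intro y hy
    apply hl
    intro x
    have := hy x
    simp only [LinearMap.BilinForm.restrict_apply, LinearMap.domRestrict_apply] at this ⊢
    rw [hBs]; exact this
  have hc := LinearMap.BilinForm.isCompl_orthogonal_of_restrict_nondegenerate hrefl hnd
  have hu : u ∈ D ⊔ B.orthogonal D := by rw [hc.sup_eq_top]; exact Submodule.mem_top
  obtain ⟨v, hv, z, hz, rfl⟩ := Submodule.mem_sup.mp hu
  refine ⟨v, hv, fun w hw => ?_⟩
  have : v + z - v = z := by abel
  rw [this, hBs]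
  exact hz w hw

/-- the point of the affine span of a finite family closest to the origin -/
lemma exists_affine_min [FiniteDimensional R V] (hBs : ∀ x y, B x y = B y x)
    (hBp : ∀ y, y ≠ 0 → 0 < B y y) {ι : Type*} [Fintype ι] [Nonempty ι] (p : ι → V) :
    ∃ (x : V) (e : ι → R), ∑ i, e i = 1 ∧ x = ∑ i, e i • p i ∧
      ∀ c : ι → R, ∑ i, c i = 1 → B x (∑ i, c i • p i - x) = 0 := by
  classical
  let i₀ : ι := Classical.arbitrary ι
  let D : Submodule R V := Submodule.span R (Set.range fun i => p i - p i₀)
  obtain ⟨v, hvD, hv⟩ := exists_proj B hBs hBp D (p i₀)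
  obtain ⟨r, hr⟩ := (Submodule.mem_span_range_iff_exists_fun R).mp hvD
  have hv' : v = ∑ i, r i • p i - (∑ i, r i) • p i₀ := by
    rw [← hr, Finset.sum_smul, ← Finset.sum_sub_distrib]
    refine Finset.sum_congr rfl fun i _ => ?_
    rw [smul_sub]
  refine ⟨p i₀ - v, fun i => (Pi.single i₀ (1 + ∑ j, r j) : ι → R) i - r i, ?_, ?_, fun c hc => ?_⟩
  · rw [Finset.sum_sub_distrib, Finset.sum_pi_single']
    simp
  · simp only [sub_smul]
    rw [Finset.sum_sub_distrib]
    have : ∑ i, ((Pi.single i₀ (1 + ∑ j, r j) : ι → R) i) • p i = (1 + ∑ j, r j) • p i₀ := by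
      rw [Finset.sum_eq_single i₀]
      · simp
      · intro j _ hj; simp [hj]
      · intro h; exact absurd (Finset.mem_univ _) h
    rw [this, hv', add_smul, one_smul]
    abel
  · apply hv
    have : ∑ i, c i • p i - (p i₀ - v) = ∑ i, c i • (p i - p i₀) + v := by
      simp only [smul_sub]
      rw [Finset.sum_sub_distrib, ← Finset.sum_smul, hc, one_smul]
      abel
    rw [this]
    refine D.add_mem (D.sum_mem fun i _ => D.smul_mem _ (Submodule.subset_span ⟨i, rfl⟩)) hvD

/-- restricting a family to the complement of a point shrinks the set of convex combinations -/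
lemma K_subtype_subset {ι : Type*} [Fintype ι] [DecidableEq ι] (p : ι → V) (i : ι) :
    K (R := R) (fun j : {j // j ≠ i} => p j) ⊆ K (R := R) p := by
  rintro y ⟨c, hc0, hc1, rfl⟩
  refine ⟨fun j => if h : j ≠ i then c ⟨j, h⟩ else 0, fun j => ?_, ?_, ?_⟩
  · dsimp only
    split_ifs with h
    · exact hc0 _
    · exact le_rfl
  · rw [Fintype.sum_eq_add_sum_subtype_ne _ i]
    simp only [ne_eq, not_true_eq_false, dite_false, zero_add]
    rw [← hc1]
    refine Finset.sum_congr rfl fun j _ => ?_
    rw [dif_pos j.2]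
  · rw [Fintype.sum_eq_add_sum_subtype_ne (fun j => (if h : j ≠ i then c ⟨j, h⟩ else 0) • p j) i]
    simp only [ne_eq, not_true_eq_false, dite_false, zero_smul, zero_add]
    refine Finset.sum_congr rfl fun j _ => ?_
    rw [dif_pos j.2]

/-- a convex combination with a vanishing coefficient is a convex combination of the others -/
lemma mem_K_subtype {ι : Type*} [Fintype ι] [DecidableEq ι] (p : ι → V) (i : ι) (g : ι → R)
    (hg0 : ∀ j, 0 ≤ g j) (hg1 : ∑ j, g j = 1) (hgi : g i = 0) :
    ∑ j, g j • p j ∈ K (R := R) (fun j : {j // j ≠ i} => p j) := by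
  refine ⟨fun j => g j, fun j => hg0 j, ?_, ?_⟩
  · rw [Fintype.sum_eq_add_sum_subtype_ne _ i, hgi, zero_add] at hg1
    exact hg1
  · rw [Fintype.sum_eq_add_sum_subtype_ne _ i, hgi, zero_smul, zero_add]

/-- moving from a convex combination `y` towards the affine minimiser `x` until a coefficient
vanishes: the norm does not increase and the point lies on a proper face -/
lemma exists_face_point (hBs : ∀ x y, B x y = B y x) (hBnn : ∀ y, 0 ≤ B y y)
    {ι : Type*} [Fintype ι] [DecidableEq ι] (p : ι → V) (e c : ι → R)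
    (he1 : ∑ i, e i = 1) (hc0 : ∀ i, 0 ≤ c i) (hc1 : ∑ i, c i = 1)
    (hortho : B (∑ i, e i • p i) (∑ i, c i • p i - ∑ i, e i • p i) = 0)
    (hneg : ∃ i, e i < 0) :
    ∃ (i₁ : ι) (z : V), z ∈ K (R := R) (fun j : {j // j ≠ i₁} => p j) ∧
      B z z ≤ B (∑ i, c i • p i) (∑ i, c i • p i) := by
  obtain ⟨i_neg, hi_neg⟩ := hneg
  let S : Finset ι := Finset.univ.filter fun i => e i < 0
  have hS : S.Nonempty := ⟨i_neg, by simp [S, hi_neg]⟩
  let ratio : ι → R := fun i => c i / (c i - e i)
  obtain ⟨i₁, hi₁S, hi₁min⟩ := Finset.exists_min_image S ratio hS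
  have hi₁neg : e i₁ < 0 := by simpa [S] using hi₁S
  have hden : ∀ i, e i < 0 → 0 < c i - e i := fun i hi => by linarith [hc0 i]
  set t : R := ratio i₁ with ht
  have ht0 : 0 ≤ t := div_nonneg (hc0 i₁) (hden i₁ hi₁neg).le
  have ht1 : t < 1 := by
    rw [ht, div_lt_one (hden i₁ hi₁neg)]
    linarith
  let g : ι → R := fun i => (1 - t) * c i + t * e i
  have hg0 : ∀ i, 0 ≤ g i := by
    intro i
    by_cases hi : e i < 0
    · have h1 : t ≤ ratio i := hi₁min i (by simp [S, hi])
      have h2 : t * (c i - e i) ≤ c i := by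
        have := (le_div_iff₀ (hden i hi)).mp h1
        exact this
      change 0 ≤ (1 - t) * c i + t * e i
      linarith
    · push Not at hi
      exact add_nonneg (mul_nonneg (by linarith) (hc0 i)) (mul_nonneg ht0 hi)
  have hg1 : ∑ i, g i = 1 := by
    change ∑ i, ((1 - t) * c i + t * e i) = 1
    rw [Finset.sum_add_distrib, ← Finset.mul_sum, ← Finset.mul_sum, hc1, he1]
    ring
  have hgi : g i₁ = 0 := by
    change (1 - t) * c i₁ + t * e i₁ = 0
    have h1 : t * (c i₁ - e i₁) = c i₁ := div_mul_cancel₀ _ (hden i₁ hi₁neg).ne'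
    linarith
  set x := ∑ i, e i • p i with hx
  set y := ∑ i, c i • p i with hy
  have hz : ∑ i, g i • p i = (1 - t) • y + t • x := by
    rw [hx, hy, Finset.smul_sum, Finset.smul_sum, ← Finset.sum_add_distrib]
    refine Finset.sum_congr rfl fun i _ => ?_
    change ((1 - t) * c i + t * e i) • p i = _
    rw [add_smul, mul_smul, mul_smul]
  refine ⟨i₁, ∑ i, g i • p i, mem_K_subtype p i₁ g hg0 hg1 hgi, ?_⟩
  rw [hz]
  set q := y - x with hq
  have hxq : B x q = 0 := hortho
  have hy' : y = x + q := by rw [hq]; abel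
  have hexp : (1 - t) • y + t • x = x + (1 - t) • q := by
    rw [hy', smul_add, sub_smul, sub_smul, one_smul, one_smul]
    abel
  have hqx : B q x = 0 := by rw [hBs]; exact hxq
  rw [hexp, hy']
  simp only [map_add, map_smul, LinearMap.add_apply, LinearMap.smul_apply, smul_eq_mul, hxq, hqx]
  have hqq := hBnn q
  have : (1 - t) * ((1 - t) * B q q) ≤ B q q := by
    have h1 : (1 - t) * (1 - t) ≤ 1 := by nlinarith
    nlinarith
  linarith

/-- **The point of a polytope closest to the origin** exists over any ordered field. -/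
theorem exists_min [FiniteDimensional R V] (hBs : ∀ x y, B x y = B y x)
    (hBp : ∀ y, y ≠ 0 → 0 < B y y) :
    ∀ (n : ℕ) {ι : Type u} [Fintype ι] [Nonempty ι] (p : ι → V), Fintype.card ι = n →
      ∃ y₀ ∈ K (R := R) p, ∀ y ∈ K (R := R) p, B y₀ y₀ ≤ B y y := by
  classical
  have hBnn : ∀ y, 0 ≤ B y y := by
    intro y
    by_cases h : y = 0
    · rw [h, map_zero]
    · exact (hBp y h).le
  intro n
  induction n using Nat.strong_induction_on with
  | _ n ih =>
    intro ι _ _ p hcard
    obtain ⟨x, e, he1, hx, hortho⟩ := exists_affine_min B hBs hBp p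
    have hAmin : ∀ c : ι → R, ∑ i, c i = 1 → B x x ≤ B (∑ i, c i • p i) (∑ i, c i • p i) := by
      intro c hc
      have h0 := hortho c hc
      set q := ∑ i, c i • p i - x with hq
      have : ∑ i, c i • p i = x + q := by rw [hq]; abel
      rw [this]
      simp only [map_add, LinearMap.add_apply]
      have hqx : B q x = 0 := by rw [hBs]; exact h0
      rw [h0, hqx]
      linarith [hBnn q]
    by_cases hpos : ∀ i, 0 ≤ e i
    · refine ⟨x, ⟨e, hpos, he1, hx⟩, ?_⟩
      rintro y ⟨c, -, hc1, rfl⟩
      exact hAmin c hc1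
    · push Not at hpos
      obtain ⟨i_neg, hi_neg⟩ := hpos
      obtain ⟨i_pos, hi_pos⟩ : ∃ i, 0 < e i := by
        by_contra hcon
        push Not at hcon
        have : ∑ i, e i ≤ 0 := Finset.sum_nonpos fun i _ => hcon i
        rw [he1] at this
        linarith
      have hne : ∀ i : ι, Nonempty {j // j ≠ i} := by
        intro i
        by_cases h : i = i_neg
        · refine ⟨⟨i_pos, ?_⟩⟩
          rintro rfl
          rw [h] at hi_pos
          linarith
        · exact ⟨⟨i_neg, fun h' => h h'.symm⟩⟩
      have hIH : ∀ i : ι, ∃ y₀ ∈ K (R := R) (fun j : {j // j ≠ i} => p j),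
          ∀ y ∈ K (R := R) (fun j : {j // j ≠ i} => p j), B y₀ y₀ ≤ B y y := by
        intro i
        have := hne i
        have hlt : Fintype.card {j // j ≠ i} < n := by
          rw [← hcard]
          exact Fintype.card_subtype_lt (x := i) (by simp)
        exact ih _ hlt (fun j : {j // j ≠ i} => p j) rfl
      choose Y hYmem hYmin using hIH
      obtain ⟨i₀, hi₀⟩ := Finite.exists_min fun i => B (Y i) (Y i)
      refine ⟨Y i₀, K_subtype_subset p i₀ (hYmem i₀), ?_⟩
      rintro y ⟨c, hc0, hc1, rfl⟩
      have ho := hortho c hc1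
      rw [hx] at ho
      obtain ⟨i₁, z, hz, hzle⟩ := exists_face_point B hBs hBnn p e c he1 hc0 hc1 ho ⟨i_neg, hi_neg⟩
      exact (hi₀ i₁).trans ((hYmin i₁ z hz).trans hzle)

/-- the convex hull of a non-empty finite family of points has a point closest to the origin -/
theorem exists_min_convexHull [FiniteDimensional R V] (hBs : ∀ x y, B x y = B y x)
    (hBp : ∀ y, y ≠ 0 → 0 < B y y) {ι : Type u} [Finite ι] [Nonempty ι] (p : ι → V) :
    ∃ y₀ ∈ convexHull R (Set.range p), ∀ y ∈ convexHull R (Set.range p), B y₀ y₀ ≤ B y y := by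
  have : Fintype ι := Fintype.ofFinite ι
  rw [convexHull_range_eq]
  exact exists_min B hBs hBp _ p rfl

end Groth.Agent.H2.MinNorm
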