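import Mathlib
import Groth.Prelude.Def_EtAcyc

universe u

open CategoryTheory CategoryTheory.Limits AlgebraicGeometry Opposite TopologicalSpace

namespace Groth.Agent.H2.MinusOne

/-- Ring-level statement: if `p` is not in the image of `Spec A → Spec B`, some `f ∉ p` lies in every prime
of the image which contains `p`. -/
lemma ring_aux {B A : Type*} [CommRing B] [CommRing A] (φ : B →+* A) (p : PrimeSpectrum B)
    (hp : p ∉ Set.range (PrimeSpectrum.comap φ)) :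
    ∃ f : B, f ∉ p.asIdeal ∧ ∀ q : PrimeSpectrum A, p.asIdeal ≤ q.asIdeal.comap φ → f ∈ q.asIdeal.comap φ := by
  rw [PrimeSpectrum.mem_range_comap_iff] at hp
  have hle : p.asIdeal ≤ (p.asIdeal.map φ).comap φ := Ideal.le_comap_map
  have hne : ¬ ((p.asIdeal.map φ).comap φ ≤ p.asIdeal) := fun h => hp (le_antisymm h hle)
  obtain ⟨f, hf, hfp⟩ := SetLike.not_le_iff_exists.mp hne
  refine ⟨f, hfp, fun q hq => ?_⟩
  have h1 : p.asIdeal.map φ ≤ q.asIdeal := Ideal.map_le_iff_le_comap.mpr hq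
  exact h1 hf

/-- Affine piece. -/
lemma affine_aux {X Y : Scheme.{u}} (g : X ⟶ Y) (y : Y) (hy : y ∉ Set.range g.base)
    (U₀ : Y.Opens) (hU₀ : IsAffineOpen U₀) (hyU : y ∈ U₀)
    (W : X.Opens) (hW : IsAffineOpen W) (hWU : W ≤ g ⁻¹ᵁ U₀) :
    ∃ f : Γ(Y, U₀), y ∈ Y.basicOpen f ∧ ∀ x : X, x ∈ W → y ⤳ g.base x → g.base x ∉ Y.basicOpen f := by
  set p := hU₀.primeIdealOf ⟨y, hyU⟩ with hp
  have hsurj : ∀ q : PrimeSpectrum Γ(X, W), ∃ (x : X) (hx : x ∈ W), hW.primeIdealOf ⟨x, hx⟩ = q := by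
    intro q
    have hx : hW.fromSpec q ∈ W := by
      have := hW.range_fromSpec
      have h2 : hW.fromSpec q ∈ Set.range hW.fromSpec := ⟨q, rfl⟩
      rw [this] at h2
      exact h2
    refine ⟨hW.fromSpec q, hx, ?_⟩
    have hinj : Function.Injective hW.fromSpec := hW.fromSpec.isOpenEmbedding.injective
    apply hinj
    rw [hW.fromSpec_primeIdealOf]
  have hnot : p ∉ Set.range (PrimeSpectrum.comap (g.appLE U₀ W hWU).hom) := by
    rintro ⟨q, hq⟩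
    obtain ⟨x, hx, rfl⟩ := hsurj q
    have h1 := IsAffineOpen.comap_primeIdealOf_appLE (f := g) U₀ hU₀ W hW hWU hx
    have h2 : hU₀.primeIdealOf ⟨g.base x, hWU hx⟩ = hU₀.primeIdealOf ⟨y, hyU⟩ := h1.symm.trans hq
    have h3 := congrArg (fun z => hU₀.fromSpec z) h2
    simp only [hU₀.fromSpec_primeIdealOf] at h3
    exact hy ⟨x, h3⟩
  obtain ⟨f, hfp, hf⟩ := ring_aux _ p hnot
  have hmem : ∀ (z : Y) (hz : z ∈ U₀), z ∈ Y.basicOpen f ↔ f ∉ (hU₀.primeIdealOf ⟨z, hz⟩).asIdeal := by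
    intro z hz
    have h1 : hU₀.fromSpec (hU₀.primeIdealOf ⟨z, hz⟩) = z := hU₀.fromSpec_primeIdealOf ⟨z, hz⟩
    have h2 : (hU₀.primeIdealOf ⟨z, hz⟩) ∈ hU₀.fromSpec ⁻¹ᵁ Y.basicOpen f ↔ z ∈ Y.basicOpen f := by
      change hU₀.fromSpec (hU₀.primeIdealOf ⟨z, hz⟩) ∈ Y.basicOpen f ↔ _
      rw [h1]
    rw [← h2, hU₀.fromSpec_preimage_basicOpen]
    exact PrimeSpectrum.mem_basicOpen _ _
  refine ⟨f, (hmem y hyU).mpr hfp, fun x hx hspec => ?_⟩
  rw [hmem (g.base x) (hWU hx)]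
  intro hcon
  apply hcon
  have h1 := IsAffineOpen.comap_primeIdealOf_appLE (f := g) U₀ hU₀ W hW hWU hx
  have hle : p.asIdeal ≤ (hU₀.primeIdealOf ⟨g.base x, hWU hx⟩).asIdeal := by
    have hsp : p ⤳ hU₀.primeIdealOf ⟨g.base x, hWU hx⟩ := by
      have hind := hU₀.fromSpec.isOpenEmbedding.isInducing
      refine hind.specializes_iff.mp ?_
      have e1 : hU₀.fromSpec p = y := hU₀.fromSpec_primeIdealOf ⟨y, hyU⟩
      have e2 : hU₀.fromSpec (hU₀.primeIdealOf ⟨g.base x, hWU hx⟩) = g.base x :=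
        hU₀.fromSpec_primeIdealOf ⟨g.base x, hWU hx⟩
      rw [e1, e2]
      exact hspec
    exact (PrimeSpectrum.le_iff_specializes _ _).mpr hsp
  rw [← h1] at hle ⊢
  exact hf _ hle

/-- If `y` is not in the image of a quasi-compact morphism, then some open neighbourhood `U` of `y` has
`closure {y} ∩ U` disjoint from the image. -/
theorem exists_open {X Y : Scheme.{u}} (g : X ⟶ Y) [QuasiCompact g] (y : Y) (hy : y ∉ Set.range g.base) :
    ∃ U : Y.Opens, y ∈ U ∧ ∀ x : X, g.base x ∈ U → ¬ (y ⤳ g.base x) := by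
  obtain ⟨U₀, hU₀', hyU, -⟩ := exists_isAffineOpen_mem_and_subset (U := ⊤) (x := y) (by simp)
  have hc : IsCompact (g ⁻¹ᵁ U₀ : Set X) := QuasiCompact.isCompact_preimage _ U₀.isOpen hU₀'.isCompact
  obtain ⟨s, hs, hsU⟩ := (isCompact_iff_finite_and_eq_biUnion_affineOpens (U := g ⁻¹ᵁ U₀)).mp hc
  have hle : ∀ W ∈ s, (W : X.Opens) ≤ g ⁻¹ᵁ U₀ := by
    intro W hW
    rw [hsU]
    exact le_iSup₂ (f := fun (i : X.affineOpens) (_ : i ∈ s) => (i : X.Opens)) W hW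
  choose! f hf1 hf2 using fun (W : X.affineOpens) (hW : W ∈ s) =>
    affine_aux g y hy U₀ hU₀' hyU W.1 W.2 (hle W hW)
  let T : Set Y := (U₀ : Set Y) ∩ ⋂ W ∈ s, (Y.basicOpen (f W) : Set Y)
  have hT : IsOpen T := U₀.isOpen.inter (hs.isOpen_biInter fun W _ => (Y.basicOpen (f W)).isOpen)
  refine ⟨⟨T, hT⟩, ⟨hyU, ?_⟩, ?_⟩
  · simp only [Set.mem_iInter]
    exact fun W hW => hf1 W hW
  · intro x hx hspec
    have hxU : x ∈ g ⁻¹ᵁ U₀ := hx.1
    rw [hsU] at hxU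
    simp only [Opens.mem_iSup] at hxU
    obtain ⟨W, hW, hxW⟩ := hxU
    have h2 := hx.2
    simp only [Set.mem_iInter] at h2
    exact hf2 W hW x hxW hspec (h2 W hW)

end Groth.Agent.H2.MinusOne
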