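import Mathlib
import Groth.Prelude.Def_EtAcyc
import Groth.Agent.Lib.Helper7.ST5
import Groth.Agent.Lib.Helper2.FinStalkD

universe u

open CategoryTheory CategoryTheory.Limits AlgebraicGeometry Opposite TopologicalSpace

namespace Groth.Agent.H2.MinusOne

variable {S : Scheme.{u}} {Ω : Type u} [Field Ω] [IsSepClosed Ω] (ξ : Spec (CommRingCat.of Ω) ⟶ S)

/-- The skyscraper sheaf of sets with value `Bool` at a geometric point. -/
noncomputable def sky : EtDesc.Sh S :=
  (Scheme.pointSmallEtale ξ).skyscraperSheaf (ULift.{u + 1} Bool)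

lemma sky_obj (V : S.Etale) : (sky ξ).obj.obj (op V) =
    (∏ᶜ fun (_ : (Scheme.pointSmallEtale ξ).fiber.obj V) => (ULift.{u + 1} Bool)) := rfl

/-- Sections of the skyscraper sheaf over an object with no lift of the geometric point. -/
lemma sky_subsingleton (V : S.Etale) (hV : IsEmpty ((Scheme.pointSmallEtale ξ).fiber.obj V)) :
    Subsingleton ((sky ξ).obj.obj (op V)) := by
  constructor
  intro a b
  change (∏ᶜ fun (_ : (Scheme.pointSmallEtale ξ).fiber.obj V) => (ULift.{u + 1} Bool)) at a b
  apply (Types.productIso.{u, u + 1} _).toEquiv.injective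
  funext j
  exact (hV.false j).elim

/-- Two distinct sections of the skyscraper sheaf over an object with a lift. -/
lemma sky_exists_ne (V : S.Etale) (x : (Scheme.pointSmallEtale ξ).fiber.obj V) :
    ∃ a b : (sky ξ).obj.obj (op V), a ≠ b := by
  let F : (Scheme.pointSmallEtale ξ).fiber.obj V → Type (u + 1) := fun _ => ULift.{u + 1} Bool
  let e := (Types.productIso.{u, u + 1} F).toEquiv
  refine ⟨e.symm (fun _ => ⟨true⟩), e.symm (fun _ => ⟨false⟩), fun h => ?_⟩
  have h2 := e.symm.injective h
  have h3 := congrFun h2 x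
  simp at h3

/-- The complement of the closure of a point. -/
def cW (y' : S) : S.Opens := ⟨(closure {y'})ᶜ, isClosed_closure.isOpen_compl⟩

lemma mem_cW (y' z : S) : z ∈ cW y' ↔ ¬ (y' ⤳ z) := by
  rw [specializes_iff_mem_closure]
  rfl

open Groth.Agent.H2.FinStalk in
/-- The complement of the closure of a point, as an object of the small étale site. -/
noncomputable def complObj (y' : S) : S.Etale :=
  openObj (EtCoh.top S) (cW y')

open Groth.Agent.H2.FinStalk in
noncomputable def complIncl (y' : S) : complObj y' ⟶ EtCoh.top S :=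
  openIncl (EtCoh.top S) _

open Groth.Agent.H2.FinStalk in
lemma isEmpty_fiber_complObj (y' : S) (hξ : ξ.base default = y') :
    IsEmpty ((Scheme.pointSmallEtale ξ).fiber.obj (complObj y')) := by
  constructor
  intro l
  obtain ⟨ll, hll⟩ : ∃ ll : Spec (.of Ω) ⟶ ((cW y') : Scheme.{u}),
    ll = l.left := ⟨_, rfl⟩
  have hw : ll ≫ ((cW y').ι ≫ 𝟙 S) = ξ := hll ▸ Over.w l
  have h1 : ξ.base default ∈ (cW y') := by
    rw [← hw]
    simp only [Category.comp_id, Scheme.Hom.comp_apply]
    exact (ll.base default).2
  rw [hξ, mem_cW] at h1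
  exact h1 specializes_rfl

set_option linter.style.haveILetI false in
set_option backward.isDefEq.respectTransparency.types false in
open Groth.Agent.H2.FinStalk in
lemma isIso_bc_complIncl {X' : Scheme.{u}} (g' : X' ⟶ S) (y' : S)
    (hy : ∀ x' : X', ¬ (y' ⤳ g'.base x')) : IsIso ((EtCoh.bc g').map (complIncl y')) := by
  have hsnd : IsIso (pullback.snd (complObj y').hom g') := by
    haveI : IsOpenImmersion (complObj y').hom := by
      change IsOpenImmersion ((cW y').ι ≫ 𝟙 S)
      infer_instance
    haveI : Epi (pullback.snd (complObj y').hom g').base := by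
      rw [TopCat.epi_iff_surjective]
      intro x'
      have h1 : x' ∈ Set.range (pullback.snd (complObj y').hom g') := by
        rw [Scheme.Pullback.range_snd]
        change g'.base x' ∈ Set.range ((cW y').ι ≫ 𝟙 S)
        rw [Category.comp_id, Scheme.Opens.range_ι]
        exact (mem_cW y' _).mpr (hy x')
      exact h1
    exact IsOpenImmersion.isIso _
  have hw : ((EtCoh.bc g').map (complIncl y')).left ≫ pullback.snd (EtCoh.top S).hom g' =
      pullback.snd (complObj y').hom g' := Over.w ((EtCoh.bc g').map (complIncl y')).hom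
  have i1 : IsIso (pullback.snd (EtCoh.top S).hom g') := by
    have h0 : IsIso (pullback.snd (𝟙 S) g') := inferInstance
    exact h0
  have i2 : IsIso (((EtCoh.bc g').map (complIncl y')).left ≫ pullback.snd (EtCoh.top S).hom g') := by
    rw [hw]; exact hsnd
  have hleft : IsIso ((EtCoh.bc g').map (complIncl y')).left :=
    @IsIso.of_isIso_comp_right _ _ _ _ _ _ (pullback.snd (EtCoh.top S).hom g') i1 i2
  have h2 : IsIso ((Scheme.Etale.forget X' ⋙ Over.forget X').map ((EtCoh.bc g').map (complIncl y'))) := hleft
  exact isIso_of_reflects_iso _ (Scheme.Etale.forget X' ⋙ Over.forget X')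

end Groth.Agent.H2.MinusOne
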