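import Mathlib
import Groth.Prelude.Def_EtAcyc
import Groth.Agent.Lib.Helper7.ST5
import Groth.Agent.Lib.Helper7.ST6
import Groth.Agent.Lib.Helper2.FinStalkD
import Groth.Agent.Lib.Helper2.MinusOneA
import Groth.Agent.Lib.Helper2.MinusOneC

universe u

open CategoryTheory CategoryTheory.Limits AlgebraicGeometry Opposite TopologicalSpace

namespace Groth.Agent.H2.MinusOne

variable {S : Scheme.{u}}

set_option linter.style.haveILetI false in
/-- Monomorphisms of sheaves of sets are injective on sections. -/
lemma injective_of_mono {F G : EtDesc.Sh S} (η : F ⟶ G) [Mono η] (T : S.Etale) :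
    Function.Injective (η.hom.app (op T)) := by
  haveI : Mono η.hom := (Sheaf.Hom.mono_iff_presheaf_mono _ _ η).mp inferInstance
  haveI : Mono (η.hom.app (op T)) := (NatTrans.mono_iff_mono_app η.hom).mp inferInstance (op T)
  exact (mono_iff_injective _).mp inferInstance

set_option linter.style.haveILetI false in
set_option backward.isDefEq.respectTransparency.types false in
theorem not_mono_unit {X' : Scheme.{u}} (g' : X' ⟶ S) (y' : S) (hy : ∀ x' : X', ¬ (y' ⤳ g'.base x')) :
    ¬ Mono ((EtDesc.adjSh g').unit.app (sky (Groth.Agent.H7.ST.geomξ S y'))) := by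
  intro hmono
  obtain ⟨ξ, hξdef⟩ : ∃ ξ, ξ = Groth.Agent.H7.ST.geomξ S y' := ⟨_, rfl⟩
  rw [← hξdef] at hmono
  have hξ : ξ.base default = y' := hξdef ▸ Groth.Agent.H7.ST.geomξ_default S y'
  obtain ⟨x₀, -⟩ : ∃ x₀ : (Scheme.pointSmallEtale ξ).fiber.obj (EtCoh.top S), x₀.left = ξ :=
    ⟨Over.homMk ξ (Category.comp_id _), rfl⟩
  obtain ⟨a, b, hab⟩ := sky_exists_ne ξ (EtCoh.top S) x₀
  apply hab
  apply injective_of_mono ((EtDesc.adjSh g').unit.app (sky ξ)) (EtCoh.top S)
  have hnat := ((EtDesc.adjSh g').unit.app (sky ξ)).hom.naturality (complIncl y').op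
  haveI := isIso_bc_complIncl g' y' hy
  have hinj2 : Function.Injective
      (((EtDesc.pullSh g').obj (sky ξ)).obj.map ((EtCoh.bc g').map (complIncl y')).op) := by
    haveI : IsIso (((EtDesc.pullSh g').obj (sky ξ)).obj.map ((EtCoh.bc g').map (complIncl y')).op) :=
      inferInstance
    exact ((isIso_iff_bijective _).mp inferInstance).1
  apply hinj2
  have h1 := ConcreteCategory.congr_hom hnat a
  have h2 := ConcreteCategory.congr_hom hnat b
  haveI := sky_subsingleton ξ (complObj y') (isEmpty_fiber_complObj ξ y' hξ)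
  have h3 : (sky ξ).obj.map (complIncl y').op a = (sky ξ).obj.map (complIncl y').op b :=
    Subsingleton.elim _ _
  simp only [ConcreteCategory.comp_apply] at h1 h2
  have h4 := congrArg
    (fun t => (((EtDesc.adjSh g').unit.app (sky ξ)).hom.app (op (complObj y'))) t) h3
  exact h1.symm.trans (h4.trans h2)

end Groth.Agent.H2.MinusOne
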