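import Mathlib
import Groth.Prelude.Def_EtAcyc
import Groth.Agent.Lib.Helper7.ST5
import Groth.Agent.Lib.Helper7.ST6
import Groth.Agent.Lib.Helper2.FinStalkD
import Groth.Agent.Lib.Helper2.MinusOneA
import Groth.Agent.Lib.Helper2.MinusOneC
import Groth.Agent.Lib.Helper2.MinusOneD

universe u

open CategoryTheory CategoryTheory.Limits AlgebraicGeometry Opposite TopologicalSpace

namespace Groth.Agent.H2.MinusOne

set_option linter.style.haveILetI false in
set_option backward.isDefEq.respectTransparency.types false in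
open Groth.Agent.H2.FinStalk in
theorem S3473_main {X Y : Scheme.{u}} (g : X ⟶ Y) :
    (Function.Surjective g.base → EtAcyc.IsMinusOneAcyclic g) ∧
      (∀ [QuasiCompact g] [QuasiSeparated g], EtAcyc.IsMinusOneAcyclic g → Function.Surjective g.base) := by
  constructor
  · intro hsurj V F
    haveI : Surjective g := ⟨hsurj⟩
    haveI : Surjective (EtAcyc.prj g V) := inferInstanceAs (Surjective (pullback.fst V.hom g))
    haveI : (EtDesc.pullSh (EtAcyc.prj g V)).Faithful := (Groth.Agent.H7.ST.S3047_main (EtAcyc.prj g V)).1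
    exact Adjunction.unit_mono_of_L_faithful _ F
  · intro _ _ hacyc y
    by_contra hy
    obtain ⟨U, hyU, hU⟩ := exists_open g y hy
    obtain ⟨V, hV⟩ : ∃ V : Y.Etale, V = openObj (EtCoh.top Y) U := ⟨_, rfl⟩
    obtain ⟨y', hy'⟩ : ∃ y' : V.left, V.hom.base y' = y := by
      subst hV
      exact ⟨(⟨y, hyU⟩ : U), rfl⟩
    refine not_mono_unit (EtAcyc.prj g V) y' ?_ (hacyc V _)
    intro x' hsp
    have h1 : V.hom.base y' ⤳ V.hom.base ((EtAcyc.prj g V).base x') := hsp.map V.hom.continuous
    have h2 : V.hom.base ((EtAcyc.prj g V).base x') = g.base ((pullback.snd V.hom g).base x') := by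
      rw [← Scheme.Hom.comp_apply, ← Scheme.Hom.comp_apply]
      exact congrArg (fun m : pullback V.hom g ⟶ Y => m.base x') (pullback.condition (f := V.hom) (g := g))
    rw [hy', h2] at h1
    refine hU _ ?_ h1
    rw [← h2]
    subst hV
    exact (((EtAcyc.prj g (openObj (EtCoh.top Y) U)).base x' : U)).2

end Groth.Agent.H2.MinusOne
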