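import Groth.Agent.Lib.Helper2.ModGlue
import Groth.Agent.Lib.Lead.QC.AmpleBase

/-! # Gluing an isomorphism of invertible modules from matching local bases. -/

universe u
open CategoryTheory Limits AlgebraicGeometry TopologicalSpace Opposite

namespace Groth.Agent.H2.ModGlue

open Groth.Agent.LD Groth.Agent.LD.QC

variable {X : Scheme.{u}}

/-- the coordinate isomorphism attached to a basis. -/
noncomputable def basisEquiv {L : X.Modules} {U : X.Opens} {e : Γ(L, U)}
    (he : IsBasisOver L U e) : Γ(X, U) ≃ₗ[Γ(X, U)] Γ(L, U) :=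
  LinearEquiv.ofBijective (LinearMap.toSpanSingleton Γ(X, U) Γ(L, U) e) (by
    have h := he U le_rfl
    simp only [res_self] at h
    exact h)

lemma basisEquiv_apply {L : X.Modules} {U : X.Opens} {e : Γ(L, U)}
    (he : IsBasisOver L U e) (a : Γ(X, U)) : basisEquiv he a = a • e := rfl

/-- the local comparison map attached to bases of `N` and `L` over `U`. -/
noncomputable def basisMap {N L : X.Modules} {U : X.Opens} {t : Γ(N, U)} {w : Γ(L, U)}
    (ht : IsBasisOver N U t) (hw : IsBasisOver L U w) : Γ(N, U) →ₗ[Γ(X, U)] Γ(L, U) :=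
  ((basisEquiv ht).symm.trans (basisEquiv hw)).toLinearMap

lemma basisMap_smul {N L : X.Modules} {U : X.Opens} {t : Γ(N, U)} {w : Γ(L, U)}
    (ht : IsBasisOver N U t) (hw : IsBasisOver L U w) (a : Γ(X, U)) :
    basisMap ht hw (a • t) = a • w := by
  change basisEquiv hw ((basisEquiv ht).symm (a • t)) = _
  rw [← basisEquiv_apply ht, LinearEquiv.symm_apply_apply, basisEquiv_apply]

lemma basisMap_bijective {N L : X.Modules} {U : X.Opens} {t : Γ(N, U)} {w : Γ(L, U)}
    (ht : IsBasisOver N U t) (hw : IsBasisOver L U w) : Function.Bijective (basisMap ht hw) :=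
  ((basisEquiv ht).symm.trans (basisEquiv hw)).bijective

section glue

variable {J : Type u} (U : J → X.Opens) (hU : ⨆ j, U j = ⊤) (N L : X.Modules)
  (t : J → Γ(N, ⊤)) (w : J → Γ(L, ⊤))
  (ht : ∀ j, IsBasisOver N (U j) (N.presheaf.map (homOfLE (le_top : U j ≤ ⊤)).op (t j)))
  (hw : ∀ j, IsBasisOver L (U j) (L.presheaf.map (homOfLE (le_top : U j ≤ ⊤)).op (w j)))
  (c : ∀ j : J, J → Γ(X, U j))
  (hct : ∀ j j', N.presheaf.map (homOfLE (le_top : U j ≤ ⊤)).op (t j') =
    c j j' • N.presheaf.map (homOfLE (le_top : U j ≤ ⊤)).op (t j))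
  (hcw : ∀ j j', L.presheaf.map (homOfLE (le_top : U j ≤ ⊤)).op (w j') =
    c j j' • L.presheaf.map (homOfLE (le_top : U j ≤ ⊤)).op (w j))

include ht in
lemma isBasisOver_sub (j : J) {V : X.Opens} (hV : V ≤ U j) :
    IsBasisOver N V (N.presheaf.map (homOfLE (le_top : V ≤ ⊤)).op (t j)) := by
  have h := (ht j).mono hV
  rwa [res_res] at h

include hct in
lemma trans_sub (j j' : J) {V : X.Opens} (hV : V ≤ U j) :
    N.presheaf.map (homOfLE (le_top : V ≤ ⊤)).op (t j') =
      X.presheaf.map (homOfLE hV).op (c j j') • N.presheaf.map (homOfLE (le_top : V ≤ ⊤)).op (t j) := by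
  have h := congrArg (N.presheaf.map (homOfLE hV).op) (hct j j')
  rwa [smul_res, res_res, res_res] at h

/-- the index type of the basis of opens contained in some `U j`. -/
abbrev Idx : Type u := Σ j : J, {V : X.Opens // V ≤ U j}

/-- the basis of opens contained in some `U j`. -/
abbrev Bas : Idx U → X.Opens := fun i => i.2.1

include hU in
lemma isBasis_Bas : Opens.IsBasis (Set.range (Bas U)) := by
  rw [Opens.isBasis_iff_nbhd]
  intro W x hx
  have hx' : x ∈ ⨆ j, U j := hU ▸ (show x ∈ (⊤ : X.Opens) from trivial)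
  obtain ⟨j, hj⟩ := Opens.mem_iSup.mp hx'
  exact ⟨W ⊓ U j, ⟨⟨j, W ⊓ U j, inf_le_right⟩, rfl⟩, ⟨hx, hj⟩, inf_le_left⟩

/-- the local maps. -/
noncomputable def locMap (i : Idx U) : Γ(N, Bas U i) →ₗ[Γ(X, Bas U i)] Γ(L, Bas U i) :=
  basisMap (isBasisOver_sub U N t ht i.1 i.2.2) (isBasisOver_sub U L w hw i.1 i.2.2)

include hct hcw in
lemma locMap_nat (i i' : Idx U) (h : Bas U i' ≤ Bas U i) (s : Γ(N, Bas U i)) :
    L.presheaf.map (homOfLE h).op (locMap U N L t w ht hw i s) =
      locMap U N L t w ht hw i' (N.presheaf.map (homOfLE h).op s) := by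
  obtain ⟨j, V, hV⟩ := i
  obtain ⟨j', V', hV'⟩ := i'
  obtain ⟨a, rfl⟩ := (isBasisOver_sub U N t ht j hV).exists_coord s
  change V' ≤ V at h
  rw [locMap, basisMap_smul, smul_res, smul_res, res_res, res_res,
    trans_sub U N t c hct j' j hV', trans_sub U L w c hcw j' j hV', smul_smul, smul_smul,
    locMap]
  exact (basisMap_smul _ _ _).symm

/-- the glued morphism. -/
noncomputable def glueHom : N ⟶ L :=
  homOfBasis (Bas U) (isBasis_Bas U hU) N L (locMap U N L t w ht hw)
    (locMap_nat U N L t w ht hw c hct hcw)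

lemma glueHom_app (i : Idx U) (s : Γ(N, Bas U i)) :
    (glueHom U hU N L t w ht hw c hct hcw).app (Bas U i) s = locMap U N L t w ht hw i s :=
  homOfBasis_app (Bas U) (isBasis_Bas U hU) N L _ _ i s

instance : IsIso (glueHom U hU N L t w ht hw c hct hcw) := by
  apply isIso_of_bijective_basis (Bas U) (isBasis_Bas U hU)
  intro i
  have h : ⇑((glueHom U hU N L t w ht hw c hct hcw).app (Bas U i)) =
      ⇑(locMap U N L t w ht hw i) := funext (glueHom_app U hU N L t w ht hw c hct hcw i)
  rw [h]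
  exact basisMap_bijective _ _

lemma glueHom_app_top (j : J) :
    (glueHom U hU N L t w ht hw c hct hcw).app ⊤ (t j) = w j := by
  apply section_ext_of_cover L U (fun _ => le_top) hU.ge
  intro j'
  rw [← app_res]
  have h := glueHom_app U hU N L t w ht hw c hct hcw ⟨j', U j', le_rfl⟩
    (N.presheaf.map (homOfLE (le_top : U j' ≤ ⊤)).op (t j))
  refine h.trans ?_
  rw [hcw j' j, locMap]
  have h2 := hct j' j
  change basisMap _ _ (N.presheaf.map (homOfLE (le_top : U j' ≤ ⊤)).op (t j)) = _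
  rw [h2]
  exact basisMap_smul _ _ _

include hU ht hw hct hcw in
/-- **gluing an isomorphism from matching local bases.** -/
theorem exists_iso_of_bases : ∃ τ : N ≅ L, ∀ j, τ.hom.app ⊤ (t j) = w j :=
  ⟨asIso (glueHom U hU N L t w ht hw c hct hcw), glueHom_app_top U hU N L t w ht hw c hct hcw⟩

end glue

end Groth.Agent.H2.ModGlue
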