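import Mathlib

/-!
# A valuative test ring (for S19334, S19335)
-/

namespace Groth.Agent.H2.ValTest

universe u

theorem exists_valuation_test (B : Type u) [CommRing B] (s : B) (hs : s ∈ nonZeroDivisors B)
    (𝔠 : Ideal B) (h𝔠 : 𝔠 ≠ ⊤) :
    ∃ (R : Type u) (_ : CommRing R) (_ : IsDomain R) (_ : ValuationRing R) (φ : B →+* R),
      φ s ≠ 0 ∧ (∀ P : Ideal R, P.IsPrime → P ≠ ⊥ → φ s ∈ P) ∧ ∀ b ∈ 𝔠, ¬ IsUnit (φ b) := by
  classical
  obtain ⟨m, hm, h𝔠m⟩ := Ideal.exists_le_maximal 𝔠 h𝔠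
  haveI : m.IsPrime := hm.isPrime
  obtain ⟨q, hq, hqm⟩ := Ideal.exists_minimalPrimes_le (bot_le : (⊥ : Ideal B) ≤ m)
  haveI hqp : q.IsPrime := hq.1.1
  have hsq : s ∉ q := by
    intro h
    exact Set.disjoint_left.1 (Ideal.disjoint_nonZeroDivisors_of_mem_minimalPrimes hq) h hs
  let K := FractionRing (B ⧸ q)
  let f₀ : B →+* K := (algebraMap (B ⧸ q) K).comp (Ideal.Quotient.mk q)
  have hker : ∀ x, f₀ x = 0 ↔ x ∈ q := by
    intro x
    change algebraMap (B ⧸ q) K (Ideal.Quotient.mk q x) = 0 ↔ _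
    rw [map_eq_zero_iff _ (IsFractionRing.injective (B ⧸ q) K), Ideal.Quotient.eq_zero_iff_mem]
  let A : Subring K := f₀.range
  let I₀ : Ideal A := Ideal.map f₀.rangeRestrict m
  have hI₀ : I₀ ≠ ⊤ := by
    intro h
    have h1 : (1 : A) ∈ I₀ := by rw [h]; trivial
    obtain ⟨x, hx, hx1⟩ := (Ideal.mem_map_iff_of_surjective _ f₀.rangeRestrict_surjective).1 h1
    have h2 : f₀ x = 1 := congrArg Subtype.val hx1
    have h3 : x - 1 ∈ q := by rw [← hker, map_sub, h2, map_one, sub_self]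
    have h4 : (1 : B) ∈ m := by
      have := m.sub_mem hx (hqm h3)
      simpa using this
    exact hm.ne_top ((Ideal.eq_top_iff_one m).2 h4)
  obtain ⟨V, hAV, hV⟩ := Ideal.image_subset_nonunits_valuationSubring I₀ hI₀
  have hmemV : ∀ b : B, f₀ b ∈ V := fun b => hAV ⟨b, rfl⟩
  let φ₀ : B →+* V :=
    { toFun := fun b => ⟨f₀ b, hmemV b⟩
      map_one' := Subtype.ext (map_one f₀)
      map_mul' := fun x y => Subtype.ext (map_mul f₀ x y)
      map_zero' := Subtype.ext (map_zero f₀)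
      map_add' := fun x y => Subtype.ext (map_add f₀ x y) }
  have hφ₀s : φ₀ s ≠ 0 := by
    intro h
    have : f₀ s = 0 := congrArg Subtype.val h
    exact hsq ((hker s).1 this)
  have hφ₀m : ∀ b ∈ m, φ₀ b ∈ IsLocalRing.maximalIdeal V := by
    intro b hb
    rw [← ValuationSubring.coe_mem_nonunits_iff]
    apply hV
    exact ⟨f₀.rangeRestrict b, Ideal.mem_map_of_mem _ hb, rfl⟩
  -- Zorn: an ideal maximal among those disjoint from the powers of `φ₀ s`
  let S : Submonoid V := Submonoid.powers (φ₀ s)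
  have hbot : Disjoint (((⊥ : Ideal V) : Ideal V) : Set V) S := by
    rw [Set.disjoint_left]
    rintro x hx ⟨n, rfl⟩
    exact pow_ne_zero n hφ₀s ((Ideal.mem_bot).1 hx)
  obtain ⟨p, -, hp⟩ := zorn_le_nonempty₀ {p : Ideal V | Disjoint (p : Set V) S}
    (fun c hc hc' x hx ↦ by
      cases isEmpty_or_nonempty c
      · exact ⟨⊥, hbot, fun J hJ ↦ isEmptyElim (⟨J, hJ⟩ : c)⟩
      refine ⟨sSup c, Set.disjoint_left.mpr fun x hx ↦ ?_, fun _ ↦ le_sSup⟩
      have ⟨p, hp⟩ := (Submodule.mem_iSup_of_directed _ hc'.directed).mp (sSup_eq_iSup' c ▸ hx)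
      exact Set.disjoint_left.mp (hc p.2) hp) ⊥ hbot
  haveI hpp : p.IsPrime :=
    Ideal.isPrime_of_maximally_disjoint _ _ hp.1 (fun _ ↦ hp.not_prop_of_gt)
  refine ⟨V ⧸ p, inferInstance, inferInstance,
    Function.Surjective.valuationRing (Ideal.Quotient.mk p) Ideal.Quotient.mk_surjective,
    (Ideal.Quotient.mk p).comp φ₀, ?_, ?_, ?_⟩
  · intro h
    rw [RingHom.comp_apply, Ideal.Quotient.eq_zero_iff_mem] at h
    exact Set.disjoint_left.1 hp.1 h ⟨1, pow_one _⟩
  · intro P hP hPbot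
    let P' : Ideal V := P.comap (Ideal.Quotient.mk p)
    have hpP' : p ≤ P' := by
      intro x hx
      change Ideal.Quotient.mk p x ∈ P
      rw [Ideal.Quotient.eq_zero_iff_mem.2 hx]
      exact P.zero_mem
    have hne : p ≠ P' := by
      intro heq
      apply hPbot
      rw [eq_bot_iff]
      intro x hx
      obtain ⟨x', rfl⟩ := Ideal.Quotient.mk_surjective x
      have : x' ∈ P' := hx
      rw [← heq] at this
      rw [Ideal.mem_bot, Ideal.Quotient.eq_zero_iff_mem]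
      exact this
    have hlt : p < P' := lt_of_le_of_ne hpP' hne
    have hnd : ¬ Disjoint (P' : Set V) S := hp.not_prop_of_gt hlt
    rw [Set.not_disjoint_iff] at hnd
    obtain ⟨x, hxP, ⟨n, rfl⟩⟩ := hnd
    haveI : P'.IsPrime := Ideal.comap_isPrime _ P
    exact Ideal.IsPrime.mem_of_pow_mem inferInstance n hxP
  · intro b hb hunit
    have hbm := hφ₀m b (h𝔠m hb)
    obtain ⟨d, hd⟩ := hunit.exists_right_inv
    obtain ⟨d', rfl⟩ := Ideal.Quotient.mk_surjective d
    rw [RingHom.comp_apply, ← map_mul, ← map_one (Ideal.Quotient.mk p),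
      Ideal.Quotient.eq] at hd
    have hple : p ≤ IsLocalRing.maximalIdeal V := IsLocalRing.le_maximalIdeal hpp.ne_top
    have h1 : (1 : V) ∈ IsLocalRing.maximalIdeal V := by
      have h2 := (IsLocalRing.maximalIdeal V).sub_mem
        ((IsLocalRing.maximalIdeal V).mul_mem_right d' hbm) (hple hd)
      simpa using h2
    exact (Ideal.ne_top_iff_one _).1 (IsLocalRing.maximalIdeal.isMaximal V).ne_top h1

end Groth.Agent.H2.ValTest
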