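import Mathlib
import Groth.Prelude.Def_W4c6modpairsegaMP
import Groth.Agent.Lib.Helper2.IdealComap
import Groth.Agent.Lib.Helper2.ValTest

/-!
# Valuative tests for modulus pairs (S19334, S19335)
-/

namespace Groth.Agent.H2.ModPairVal

open AlgebraicGeometry CategoryTheory
open Groth.Agent.H2.FSchAff

universe u

variable {X : Scheme.{u}}

theorem comap_spec (K : X.IdealSheafData) (W : X.affineOpens) {R : Type u} [CommRing R]
    (φ : Γ(X, W.1) →+* R) :
    K.comap (Spec.map (CommRingCat.ofHom φ) ≫ W.2.fromSpec) = specIdeal R ((K.ideal W).map φ) := by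
  rw [Scheme.IdealSheafData.comap_comp, comap_fromSpec]
  exact specIdeal_comap φ (K.ideal W)

theorem specIdeal_eq_top_iff {R : Type u} [CommRing R] (a : Ideal R) :
    specIdeal R a = ⊤ ↔ a = ⊤ := by
  rw [← specIdeal_top]
  exact specIdeal_injective.eq_iff

theorem effCartier_specIdeal {R : Type u} [CommRing R] [IsDomain R] (r : R) (hr : r ≠ 0) :
    BlowUp.IsEffCartierIdeal (specIdeal R (Ideal.span {r})) := by
  intro x
  refine ⟨⟨⊤, isAffineOpen_top _⟩, trivial, (gammaEquiv R).symm r, ?_, ?_⟩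
  · rw [mem_nonZeroDivisors_iff_right]
    intro y hy
    have h1 : gammaEquiv R (y * (gammaEquiv R).symm r) = 0 := by rw [hy, map_zero]
    rw [map_mul, RingEquiv.apply_symm_apply] at h1
    rcases mul_eq_zero.1 h1 with h2 | h2
    · exact (gammaEquiv R).injective (by rw [h2, map_zero])
    · exact absurd h2 hr
  · rw [specIdeal_ideal_top]
    ext y
    rw [Ideal.mem_comap, Ideal.mem_span_singleton, Ideal.mem_span_singleton]
    constructor
    · rintro ⟨c, hc⟩
      refine ⟨(gammaEquiv R).symm c, ?_⟩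
      apply (gammaEquiv R).injective
      rw [map_mul, RingEquiv.apply_symm_apply, RingEquiv.apply_symm_apply, hc]
    · rintro ⟨c, rfl⟩
      refine ⟨gammaEquiv R c, ?_⟩
      rw [map_mul, RingEquiv.apply_symm_apply]

theorem mem_interior_specIdeal {R : Type u} [CommRing R] (a : Ideal R)
    (x : Spec (CommRingCat.of R)) :
    x ∈ (ModPair.interior (specIdeal R a) : Set (Spec (CommRingCat.of R))) ↔
      ¬ a ≤ x.asIdeal := by
  change x ∈ ((specIdeal R a).support.compl : Set _) ↔ _
  rw [TopologicalSpace.Closeds.coe_compl, Set.mem_compl_iff, SetLike.mem_coe,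
    Scheme.IdealSheafData.mem_support_iff_of_mem (U := ⟨⊤, isAffineOpen_top _⟩) trivial,
    not_iff_not, specIdeal_ideal_top]
  have key : ∀ y : R, gammaEquiv R ((Scheme.ΓSpecIso (CommRingCat.of R)).inv y) = y := by
    intro y
    change (Scheme.ΓSpecIso (CommRingCat.of R)).hom ((Scheme.ΓSpecIso (CommRingCat.of R)).inv y) = y
    rw [← CommRingCat.comp_apply, Iso.inv_hom_id]
    rfl
  rw [Spec_zeroLocus]
  change (x : PrimeSpectrum R) ∈ PrimeSpectrum.zeroLocus _ ↔ _
  refine (PrimeSpectrum.mem_zeroLocus (x : PrimeSpectrum R) _).trans ?_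
  constructor
  · intro h y hy
    apply h
    change (Scheme.ΓSpecIso (CommRingCat.of R)).inv y ∈ Ideal.comap (gammaEquiv R) a
    rw [Ideal.mem_comap, key]
    exact hy
  · intro h y hy
    have hy' : (Scheme.ΓSpecIso (CommRingCat.of R)).inv y ∈ Ideal.comap (gammaEquiv R) a := hy
    rw [Ideal.mem_comap, key] at hy'
    exact h hy'


theorem main19334 (I : X.IdealSheafData) (hI : BlowUp.IsEffCartierIdeal I)
    (h : ∀ (R : Type u) [CommRing R] [IsDomain R] [ValuationRing R]
      (p : Spec (CommRingCat.of R) ⟶ X), BlowUp.IsEffCartierIdeal (I.comap p) → I.comap p = ⊤) :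
    I = ⊤ := by
  choose U hxU t ht hIt using hI
  apply Scheme.IdealSheafData.ext_of_iSup_eq_top U
  · rw [eq_top_iff]
    intro x _
    exact TopologicalSpace.Opens.mem_iSup.2 ⟨x, hxU x⟩
  intro x
  rw [Scheme.IdealSheafData.ideal_top]
  by_contra hne
  have hne' : (I.ideal (U x)) ≠ ⊤ := hne
  obtain ⟨R, _, _, _, φ, hφs, -, hφ⟩ :=
    ValTest.exists_valuation_test Γ(X, (U x).1) (t x) (ht x) (I.ideal (U x)) hne'
  have h1 := comap_spec I (U x) φ
  have h2 : BlowUp.IsEffCartierIdeal (I.comap (Spec.map (CommRingCat.ofHom φ) ≫ (U x).2.fromSpec)) := by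
    rw [h1, hIt x, Ideal.map_span, Set.image_singleton]
    exact effCartier_specIdeal _ hφs
  have h3 := h R _ h2
  rw [h1, specIdeal_eq_top_iff, hIt x, Ideal.map_span, Set.image_singleton,
    Ideal.span_singleton_eq_top] at h3
  exact hφ (t x) (by rw [hIt x]; exact Ideal.mem_span_singleton_self _) h3

theorem main19335 (I J : X.IdealSheafData)
    (hI : BlowUp.IsEffCartierIdeal I) (hJI : J ≤ I)
    (h : ∀ (R : Type u) [CommRing R] [IsDomain R] [ValuationRing R]
      (p : Spec (CommRingCat.of R) ⟶ X), BlowUp.IsEffCartierIdeal (I.comap p) →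
        (∀ x : Spec (CommRingCat.of R),
          x ∈ (ModPair.interior (I.comap p) : Set (Spec (CommRingCat.of R))) ↔ x.asIdeal = ⊥) →
        I.comap p = J.comap p) :
    I = J := by
  refine le_antisymm ?_ hJI
  choose U hxU t ht hIt using hI
  apply Scheme.IdealSheafData.le_of_iSup_eq_top U
  · rw [eq_top_iff]
    intro x _
    exact TopologicalSpace.Opens.mem_iSup.2 ⟨x, hxU x⟩
  intro x
  rw [hIt x, Ideal.span_singleton_le_iff_mem]
  by_contra hne
  set 𝔠 : Ideal Γ(X, (U x).1) := (J.ideal (U x)).colon {t x} with h𝔠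
  have h𝔠ne : 𝔠 ≠ ⊤ := by
    intro htop
    have h1 : (1 : Γ(X, (U x).1)) ∈ 𝔠 := by rw [htop]; trivial
    rw [h𝔠, Submodule.mem_colon_singleton, smul_eq_mul, one_mul] at h1
    exact hne h1
  obtain ⟨R, _, _, _, φ, hφs, hval, hφ⟩ :=
    ValTest.exists_valuation_test Γ(X, (U x).1) (t x) (ht x) 𝔠 h𝔠ne
  have h1 := comap_spec I (U x) φ
  have h1J := comap_spec J (U x) φ
  have hmap : (I.ideal (U x)).map φ = Ideal.span {φ (t x)} := by
    rw [hIt x, Ideal.map_span, Set.image_singleton]
  have h2 : BlowUp.IsEffCartierIdeal (I.comap (Spec.map (CommRingCat.ofHom φ) ≫ (U x).2.fromSpec)) := by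
    rw [h1, hmap]
    exact effCartier_specIdeal _ hφs
  have h3 := h R _ h2 (by
    intro y
    rw [h1, mem_interior_specIdeal, hmap, Ideal.span_singleton_le_iff_mem]
    constructor
    · intro hy
      by_contra hbot
      exact hy (hval y.asIdeal y.isPrime hbot)
    · intro hy hmem
      rw [hy, Ideal.mem_bot] at hmem
      exact hφs hmem)
  rw [h1, h1J] at h3
  have h4 := specIdeal_injective h3
  rw [hmap] at h4
  -- φ t ∈ (J.ideal U).map φ
  have h5 : φ (t x) ∈ (J.ideal (U x)).map φ := by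
    rw [← h4]; exact Ideal.mem_span_singleton_self _
  -- every element of (J.ideal U).map φ is φ t * nonunit
  have h6 : ∀ z ∈ (J.ideal (U x)).map φ, ∃ μ : R, ¬ IsUnit μ ∧ z = φ (t x) * μ := by
    intro z hz
    refine Submodule.span_induction (p := fun z _ => ∃ μ : R, ¬ IsUnit μ ∧ z = φ (t x) * μ)
      ?_ ?_ ?_ ?_ hz
    · rintro _ ⟨j, hj, rfl⟩
      have hjI : j ∈ I.ideal (U x) := hJI (U x) hj
      rw [hIt x, Ideal.mem_span_singleton] at hjI
      obtain ⟨c, rfl⟩ := hjI
      refine ⟨φ c, hφ c ?_, by rw [map_mul]⟩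
      rw [h𝔠, Submodule.mem_colon_singleton, smul_eq_mul, mul_comm]
      exact hj
    · exact ⟨0, not_isUnit_zero, by rw [mul_zero]⟩
    · rintro a b _ _ ⟨μ, hμ, rfl⟩ ⟨ν, hν, rfl⟩
      refine ⟨μ + ν, ?_, by rw [mul_add]⟩
      have := IsLocalRing.nonunits_add (R := R) hμ hν
      exact this
    · rintro r a _ ⟨μ, hμ, rfl⟩
      refine ⟨r * μ, ?_, by rw [smul_eq_mul]; ring⟩
      intro hu
      exact hμ (isUnit_of_mul_isUnit_right hu)
  obtain ⟨μ, hμ, hμe⟩ := h6 _ h5
  have h7 : φ (t x) * (1 - μ) = 0 := by rw [mul_sub, mul_one, ← hμe, sub_self]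
  rcases mul_eq_zero.1 h7 with h8 | h8
  · exact hφs h8
  · have : IsUnit (1 - μ) := by
      have := IsLocalRing.isUnit_one_sub_self_of_mem_nonunits μ hμ
      exact this
    rw [h8] at this
    exact not_isUnit_zero this

end Groth.Agent.H2.ModPairVal
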