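import Mathlib
import Groth.Agent.Lib.Helper7.PS1
import Groth.Prelude.Def_QuadSing

/-!
# Formal Morse lemma, part 1: quadratic forms, polarization, division by the gradient
-/

set_option autoImplicit false
set_option linter.unusedSectionVars false
set_option linter.style.haveILetI false

namespace Groth.Agent.H2.Morse

open MvPowerSeries

section Polar

variable {S : Type*} [CommRing S] {n : ℕ}

/-- value of the quadratic form with (upper triangular) table `a`. -/
def qv (a : Fin n → Fin n → S) (u : Fin n → S) : S :=
  ∑ i : Fin n, ∑ j : Fin n, if i ≤ j then a i j * u i * u j else 0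

/-- Gram matrix of the polar form. -/
def pm (a : Fin n → Fin n → S) (i j : Fin n) : S :=
  if i = j then 2 * a i i else if i < j then a i j else a j i

theorem pm_eq (a : Fin n → Fin n → S) (i j : Fin n) :
    pm a i j = (if j ≤ i then a j i else 0) + (if i ≤ j then a i j else 0) := by
  unfold pm
  rcases lt_trichotomy i j with h | h | h
  · rw [if_neg (ne_of_lt h), if_pos h, if_neg (not_le.mpr h), if_pos (le_of_lt h), zero_add]
  · subst h
    simp only [if_true, le_refl]
    ring
  · rw [if_neg (ne_of_gt h), if_neg (not_lt.mpr (le_of_lt h)), if_pos (le_of_lt h),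
      if_neg (not_le.mpr h), add_zero]

/-- polarization identity. -/
theorem qv_add (a : Fin n → Fin n → S) (u c : Fin n → S) :
    qv a (u + c) = qv a u + ∑ i, (∑ j, pm a i j * u j) * c i + qv a c := by
  unfold qv
  have h1 : ∀ i j : Fin n, (if i ≤ j then a i j * (u + c) i * (u + c) j else 0) =
      (if i ≤ j then a i j * u i * u j else 0) +
        ((if i ≤ j then a i j * u i * c j else 0) + (if i ≤ j then a i j * u j * c i else 0)) +
        (if i ≤ j then a i j * c i * c j else 0) := by
    intro i j
    split_ifs
    · simp only [Pi.add_apply]; ring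
    · simp
  simp_rw [h1, Finset.sum_add_distrib]
  have h2 : ∑ i : Fin n, ∑ j : Fin n, (if i ≤ j then a i j * u i * c j else 0) =
      ∑ i : Fin n, ∑ j : Fin n, (if j ≤ i then a j i * u j * c i else 0) := Finset.sum_comm
  rw [h2, ← Finset.sum_add_distrib]
  congr 2
  apply Finset.sum_congr rfl
  intro i _
  rw [← Finset.sum_add_distrib, Finset.sum_mul]
  apply Finset.sum_congr rfl
  intro j _
  rw [pm_eq]
  split_ifs <;> ring

end Polar

section Division

variable {R : Type*} [CommRing R] {n : ℕ}

theorem le_order_C_mul (a : R) (g : MvPowerSeries (Fin n) R) : g.order ≤ (C a * g).order := by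
  refine le_trans ?_ le_order_mul
  exact le_add_self

/-- the linear forms attached to a matrix. -/
noncomputable def linForm (B : Matrix (Fin n) (Fin n) R) (i : Fin n) : MvPowerSeries (Fin n) R :=
  ∑ j, C (B i j) * X j

/-- division by the linear forms of an invertible matrix. -/
theorem exists_division (B : Matrix (Fin n) (Fin n) R) (hB : IsUnit B.det) (d : ℕ)
    (r : MvPowerSeries (Fin n) R) (hr : ((d + 1 : ℕ) : ℕ∞) ≤ r.order) :
    ∃ c : Fin n → MvPowerSeries (Fin n) R, ∑ i, linForm B i * c i = r ∧
      ∀ i, (d : ℕ∞) ≤ (c i).order := by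
  classical
  obtain ⟨g, hg, hgo⟩ := Groth.Agent.H7.PS.exists_decomp d r hr
  set M := B⁻¹ with hM
  have hMB : M * B = 1 := Matrix.nonsing_inv_mul B hB
  refine ⟨fun i => ∑ j, C (M j i) * g j, ?_, ?_⟩
  · rw [hg]
    unfold linForm
    simp_rw [Finset.sum_mul, Finset.mul_sum]
    -- ∑ i, ∑ l, ∑ j, C (B i l) * X l * (C (M j i) * g j)
    rw [Finset.sum_comm]
    have h1 : ∀ l : Fin n, ∑ i : Fin n, ∑ j : Fin n, C (B i l) * X l * (C (M j i) * g j) =
        X l * g l := by
      intro l
      rw [Finset.sum_comm]
      have h2 : ∀ j : Fin n, ∑ i : Fin n, C (B i l) * X l * (C (M j i) * g j) =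
          C ((1 : Matrix (Fin n) (Fin n) R) j l) * (X l * g j) := by
        intro j
        rw [← hMB, Matrix.mul_apply, map_sum, Finset.sum_mul]
        apply Finset.sum_congr rfl
        intro i _
        rw [map_mul]
        ring
      simp_rw [h2]
      rw [Finset.sum_eq_single l]
      · rw [Matrix.one_apply_eq, map_one, one_mul]
      · intro j _ hj
        rw [Matrix.one_apply_ne hj, map_zero, zero_mul]
      · intro h
        exact absurd (Finset.mem_univ _) h
    exact Finset.sum_congr rfl fun l _ => h1 l
  · intro i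
    exact Groth.Agent.H7.PS.le_order_sum _ _ _ fun j _ => le_trans (hgo j) (le_order_C_mul _ _)

end Division

section Limit

variable {R : Type*} [CommRing R] {n : ℕ}

/-- a Cauchy sequence of power series converges. -/
theorem exists_limit (u : ℕ → MvPowerSeries (Fin n) R)
    (hu : ∀ k : ℕ, (k : ℕ∞) ≤ (u (k + 1) - u k).order) :
    ∃ v : MvPowerSeries (Fin n) R, ∀ k : ℕ, (k : ℕ∞) ≤ (v - u k).order := by
  have hjk : ∀ k j : ℕ, k ≤ j → (k : ℕ∞) ≤ (u j - u k).order := by
    intro k j hkj
    induction j, hkj using Nat.le_induction with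
    | base => simp
    | succ j hkj ih =>
      have : u (j + 1) - u k = (u (j + 1) - u j) + (u j - u k) := by ring
      rw [this]
      refine Groth.Agent.H7.PS.le_order_add _ _ _ ?_ ih
      exact le_trans (by exact_mod_cast hkj) (hu j)
  refine ⟨fun e => coeff e (u (Finsupp.degree e + 1)), fun k => ?_⟩
  refine nat_le_order fun e he => ?_
  rw [map_sub]
  have h1 : coeff e (fun e => coeff e (u (Finsupp.degree e + 1)) : MvPowerSeries (Fin n) R) =
      coeff e (u (Finsupp.degree e + 1)) := rfl
  rw [h1, ← map_sub]
  have h2 : u (Finsupp.degree e + 1) - u k = -(u k - u (Finsupp.degree e + 1)) := by ring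
  rw [h2, map_neg, neg_eq_zero]
  apply coeff_of_lt_order
  refine lt_of_lt_of_le ?_ (hjk (Finsupp.degree e + 1) k (by omega))
  exact_mod_cast Nat.lt_succ_self _

end Limit

end Groth.Agent.H2.Morse
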