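import Mathlib
import Groth.Agent.Lib.Helper2.Morse1

/-!
# Formal Morse lemma, part 2: solving `∑ ℓ_i ε_i + Q(ε) = G`
-/

set_option autoImplicit false
set_option linter.unusedSectionVars false
set_option linter.style.haveILetI false

namespace Groth.Agent.H2.Morse

open MvPowerSeries

section Solve

variable {R : Type*} [CommRing R] {n : ℕ}

theorem le_order_mul_right (a g : MvPowerSeries (Fin n) R) : g.order ≤ (a * g).order := by
  refine le_trans ?_ le_order_mul
  exact le_add_self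

theorem le_order_mul_of_le (a g : MvPowerSeries (Fin n) R) (d e : ℕ)
    (ha : (d : ℕ∞) ≤ a.order) (hg : (e : ℕ∞) ≤ g.order) :
    ((d + e : ℕ) : ℕ∞) ≤ (a * g).order := by
  refine le_trans ?_ le_order_mul
  push_cast
  exact add_le_add ha hg

theorem le_order_qv (a : Fin n → Fin n → MvPowerSeries (Fin n) R)
    (c : Fin n → MvPowerSeries (Fin n) R) (d : ℕ) (hc : ∀ i, (d : ℕ∞) ≤ (c i).order) :
    ((d + d : ℕ) : ℕ∞) ≤ (qv a c).order := by
  unfold qv
  refine Groth.Agent.H7.PS.le_order_sum _ _ _ fun i _ => ?_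
  refine Groth.Agent.H7.PS.le_order_sum _ _ _ fun j _ => ?_
  split_ifs
  · refine le_order_mul_of_le _ _ d d ?_ (hc j)
    exact le_trans (hc i) (le_order_mul_right _ _)
  · simp

variable (q : Fin n → Fin n → R)

/-- the table with power series coefficients. -/
noncomputable def tab : Fin n → Fin n → MvPowerSeries (Fin n) R := fun i j => C (q i j)

theorem pm_tab (i j : Fin n) : pm (tab q) i j = C (VanCyc.polarMatrix q i j) := by
  unfold pm tab VanCyc.polarMatrix
  split_ifs
  · rw [map_mul, map_ofNat]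
  · rfl
  · rfl

theorem sum_pm_tab (i : Fin n) :
    ∑ j, pm (tab q) i j * X j = linForm (VanCyc.polarMatrix q) i := by
  unfold linForm
  exact Finset.sum_congr rfl fun j _ => by rw [pm_tab]

/-- the defect of an approximate solution. -/
noncomputable def defect (G : MvPowerSeries (Fin n) R) (ε : Fin n → MvPowerSeries (Fin n) R) :
    MvPowerSeries (Fin n) R :=
  G - (∑ i, linForm (VanCyc.polarMatrix q) i * ε i + qv (tab q) ε)

theorem defect_add (G : MvPowerSeries (Fin n) R) (ε c : Fin n → MvPowerSeries (Fin n) R) :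
    defect q G (ε + c) = defect q G ε - ∑ i, linForm (VanCyc.polarMatrix q) i * c i -
      ∑ i, (∑ j, pm (tab q) i j * ε j) * c i - qv (tab q) c := by
  unfold defect
  rw [qv_add]
  simp only [Pi.add_apply, mul_add, Finset.sum_add_distrib]
  ring

theorem le_order_cross (ε c : Fin n → MvPowerSeries (Fin n) R) (d e : ℕ)
    (hε : ∀ i, (d : ℕ∞) ≤ (ε i).order) (hc : ∀ i, (e : ℕ∞) ≤ (c i).order) :
    ((d + e : ℕ) : ℕ∞) ≤ (∑ i, (∑ j, pm (tab q) i j * ε j) * c i).order := by
  refine Groth.Agent.H7.PS.le_order_sum _ _ _ fun i _ => ?_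
  refine le_order_mul_of_le _ _ d e ?_ (hc i)
  refine Groth.Agent.H7.PS.le_order_sum _ _ _ fun j _ => ?_
  exact le_trans (hε j) (le_order_mul_right _ _)

theorem exists_step (hq : IsUnit (VanCyc.polarMatrix q).det) (m k : ℕ) (hm : 2 ≤ m)
    (G : MvPowerSeries (Fin n) R) (ε : Fin n → MvPowerSeries (Fin n) R)
    (hε : ∀ i, (m : ℕ∞) ≤ (ε i).order)
    (hE : ((m + 1 + k : ℕ) : ℕ∞) ≤ (defect q G ε).order) :
    ∃ c : Fin n → MvPowerSeries (Fin n) R, (∀ i, ((m + k : ℕ) : ℕ∞) ≤ (c i).order) ∧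
      ((m + 1 + (k + 1) : ℕ) : ℕ∞) ≤ (defect q G (ε + c)).order := by
  have hE' : ((m + k + 1 : ℕ) : ℕ∞) ≤ (defect q G ε).order := by
    refine le_trans ?_ hE
    exact_mod_cast (by omega : m + k + 1 ≤ m + 1 + k)
  obtain ⟨c, hc, hco⟩ := exists_division (VanCyc.polarMatrix q) hq (m + k) _ hE'
  refine ⟨c, hco, ?_⟩
  rw [defect_add, hc, sub_self, zero_sub]
  refine Groth.Agent.H7.PS.le_order_sub _ _ _ ?_ ?_
  · rw [order_neg]
    refine le_trans ?_ (le_order_cross q ε c m (m + k) hε hco)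
    exact_mod_cast (by omega : m + 1 + (k + 1) ≤ m + (m + k))
  · refine le_trans ?_ (le_order_qv (tab q) c (m + k) hco)
    exact_mod_cast (by omega : m + 1 + (k + 1) ≤ (m + k) + (m + k))

open Classical in
/-- the approximating sequence. -/
noncomputable def seq (hq : IsUnit (VanCyc.polarMatrix q).det) (m : ℕ) (hm : 2 ≤ m)
    (G : MvPowerSeries (Fin n) R) : ℕ → (Fin n → MvPowerSeries (Fin n) R)
  | 0 => 0
  | k + 1 =>
    if h : (∀ i, (m : ℕ∞) ≤ (seq hq m hm G k i).order) ∧
        ((m + 1 + k : ℕ) : ℕ∞) ≤ (defect q G (seq hq m hm G k)).order then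
      seq hq m hm G k + Classical.choose (exists_step q hq m k hm G (seq hq m hm G k) h.1 h.2)
    else seq hq m hm G k

theorem qv_zero (a : Fin n → Fin n → MvPowerSeries (Fin n) R) : qv a 0 = 0 := by
  unfold qv
  simp

theorem defect_zero (G : MvPowerSeries (Fin n) R) : defect q G 0 = G := by
  unfold defect
  rw [qv_zero]
  simp

theorem seq_inv (hq : IsUnit (VanCyc.polarMatrix q).det) (m : ℕ) (hm : 2 ≤ m)
    (G : MvPowerSeries (Fin n) R) (hG : ((m + 1 : ℕ) : ℕ∞) ≤ G.order) (k : ℕ) :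
    (∀ i, (m : ℕ∞) ≤ (seq q hq m hm G k i).order) ∧
      ((m + 1 + k : ℕ) : ℕ∞) ≤ (defect q G (seq q hq m hm G k)).order := by
  induction k with
  | zero =>
    refine ⟨fun i => ?_, ?_⟩
    · change (m : ℕ∞) ≤ (0 : MvPowerSeries (Fin n) R).order
      rw [order_zero]; exact le_top
    · change ((m + 1 + 0 : ℕ) : ℕ∞) ≤ (defect q G 0).order
      rw [defect_zero]; exact hG
  | succ k ih =>
    have hs : seq q hq m hm G (k + 1) = seq q hq m hm G k +
        Classical.choose (exists_step q hq m k hm G (seq q hq m hm G k) ih.1 ih.2) := by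
      rw [seq, dif_pos ih]
    obtain ⟨h1, h2⟩ := Classical.choose_spec
      (exists_step q hq m k hm G (seq q hq m hm G k) ih.1 ih.2)
    rw [hs]
    refine ⟨fun i => ?_, h2⟩
    refine Groth.Agent.H7.PS.le_order_add _ _ _ (ih.1 i) ?_
    refine le_trans ?_ (h1 i)
    exact_mod_cast (by omega : m ≤ m + k)

theorem seq_succ_sub (hq : IsUnit (VanCyc.polarMatrix q).det) (m : ℕ) (hm : 2 ≤ m)
    (G : MvPowerSeries (Fin n) R) (hG : ((m + 1 : ℕ) : ℕ∞) ≤ G.order) (k : ℕ) (i : Fin n) :
    (k : ℕ∞) ≤ (seq q hq m hm G (k + 1) i - seq q hq m hm G k i).order := by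
  have ih := seq_inv q hq m hm G hG k
  have hs : seq q hq m hm G (k + 1) = seq q hq m hm G k +
      Classical.choose (exists_step q hq m k hm G (seq q hq m hm G k) ih.1 ih.2) := by
    rw [seq, dif_pos ih]
  obtain ⟨h1, -⟩ := Classical.choose_spec
    (exists_step q hq m k hm G (seq q hq m hm G k) ih.1 ih.2)
  rw [hs, Pi.add_apply, add_sub_cancel_left]
  refine le_trans ?_ (h1 i)
  exact_mod_cast (by omega : k ≤ m + k)

/-- **Solving the Morse equation.** -/
theorem exists_solution (hq : IsUnit (VanCyc.polarMatrix q).det) (m : ℕ) (hm : 2 ≤ m)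
    (G : MvPowerSeries (Fin n) R) (hG : ((m + 1 : ℕ) : ℕ∞) ≤ G.order) :
    ∃ ε : Fin n → MvPowerSeries (Fin n) R, (∀ i, (m : ℕ∞) ≤ (ε i).order) ∧
      ∑ i, linForm (VanCyc.polarMatrix q) i * ε i + qv (tab q) ε = G := by
  have hlim : ∀ i : Fin n, ∃ v : MvPowerSeries (Fin n) R,
      ∀ k : ℕ, (k : ℕ∞) ≤ (v - seq q hq m hm G k i).order := fun i =>
    exists_limit (fun k => seq q hq m hm G k i) (fun k => seq_succ_sub q hq m hm G hG k i)
  choose ε hε using hlim
  refine ⟨ε, fun i => ?_, ?_⟩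
  · have h1 : ε i = (ε i - seq q hq m hm G m i) + seq q hq m hm G m i := by ring
    rw [h1]
    exact Groth.Agent.H7.PS.le_order_add _ _ _ (hε i m) ((seq_inv q hq m hm G hG m).1 i)
  · have hd : defect q G ε = 0 := by
      rw [← order_eq_top_iff, ENat.eq_top_iff_forall_ge]
      intro k
      have h1 : ε = seq q hq m hm G k + (ε - seq q hq m hm G k) := by ring
      rw [h1, defect_add]
      have hδ : ∀ i, (k : ℕ∞) ≤ ((ε - seq q hq m hm G k) i).order := fun i => hε i k
      have hinv := seq_inv q hq m hm G hG k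
      refine Groth.Agent.H7.PS.le_order_sub _ _ _ (Groth.Agent.H7.PS.le_order_sub _ _ _
        (Groth.Agent.H7.PS.le_order_sub _ _ _ ?_ ?_) ?_) ?_
      · refine le_trans ?_ hinv.2
        exact_mod_cast (by omega : k ≤ m + 1 + k)
      · exact Groth.Agent.H7.PS.le_order_sum _ _ _ fun i _ =>
          le_trans (hδ i) (le_order_mul_right _ _)
      · refine le_trans ?_ (le_order_cross q _ _ m k hinv.1 hδ)
        exact_mod_cast (by omega : k ≤ m + k)
      · refine le_trans ?_ (le_order_qv (tab q) _ k hδ)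
        exact_mod_cast (by omega : k ≤ k + k)
    unfold defect at hd
    exact (sub_eq_zero.mp hd).symm

end Solve

end Groth.Agent.H2.Morse
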