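import Mathlib
import Groth.Agent.Lib.Helper2.Morse2

/-!
# Formal Morse lemma, part 3: substitution form
-/

set_option autoImplicit false
set_option linter.unusedSectionVars false
set_option linter.style.haveILetI false

namespace Groth.Agent.H2.Morse

open MvPowerSeries

section Subst

variable {R : Type*} [CommRing R] {n : ℕ} (q : Fin n → Fin n → R)

theorem aeval_quadPoly (u : Fin n → MvPowerSeries (Fin n) R) :
    MvPolynomial.aeval u (VanCyc.quadPoly q) = qv (tab q) u := by
  unfold VanCyc.quadPoly qv tab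
  rw [map_sum]
  apply Finset.sum_congr rfl
  intro i _
  rw [map_sum]
  apply Finset.sum_congr rfl
  intro j _
  split_ifs
  · rw [map_mul, map_mul, MvPolynomial.aeval_C, MvPolynomial.aeval_X, MvPolynomial.aeval_X]
    rfl
  · rw [map_zero]

theorem aeval_X_eq_coe (p : MvPolynomial (Fin n) R) :
    MvPolynomial.aeval (X : Fin n → MvPowerSeries (Fin n) R) p = (p : MvPowerSeries (Fin n) R) := by
  rw [← subst_coe, subst_self]
  rfl

theorem aeval_X_add (ε : Fin n → MvPowerSeries (Fin n) R) :
    MvPolynomial.aeval (fun i => X i + ε i) (VanCyc.quadPoly q) =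
      (VanCyc.quadPoly q : MvPowerSeries (Fin n) R) +
        (∑ i, linForm (VanCyc.polarMatrix q) i * ε i + qv (tab q) ε) := by
  have h1 : (fun i => X i + ε i) = (X : Fin n → MvPowerSeries (Fin n) R) + ε := rfl
  rw [aeval_quadPoly, h1, qv_add, ← aeval_quadPoly q X, aeval_X_eq_coe]
  simp_rw [sum_pm_tab]
  ring

/-- **Formal Morse lemma**, existence of the coordinate change (direction `Q(x + ε) + a = F`). -/
theorem exists_aeval_eq (hq : VanCyc.QuadNondeg q) (m : ℕ) (hm : 2 ≤ m) (a : R)
    (F : MvPowerSeries (Fin n) R)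
    (hF : ∀ e : Fin n →₀ ℕ, e.degree ≤ m → coeff e F =
      coeff e ((VanCyc.quadPoly q + MvPolynomial.C a : MvPolynomial (Fin n) R) :
        MvPowerSeries (Fin n) R)) :
    ∃ ε : Fin n → MvPowerSeries (Fin n) R, (∀ i, (m : ℕ∞) ≤ (ε i).order) ∧
      MvPolynomial.aeval (fun i => X i + ε i) (VanCyc.quadPoly q + MvPolynomial.C a) = F := by
  obtain ⟨G, hG⟩ : ∃ G, G = F - ((VanCyc.quadPoly q + MvPolynomial.C a : MvPolynomial (Fin n) R) :
      MvPowerSeries (Fin n) R) := ⟨_, rfl⟩
  have hGo : ((m + 1 : ℕ) : ℕ∞) ≤ G.order := by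
    refine nat_le_order fun e he => ?_
    rw [hG, map_sub, hF e (by omega), sub_self]
  obtain ⟨ε, hε, hsol⟩ := exists_solution q hq m hm G hGo
  refine ⟨ε, hε, ?_⟩
  rw [map_add, aeval_X_add, hsol, MvPolynomial.aeval_C, hG, MvPolynomial.coe_add,
    MvPolynomial.coe_C]
  rw [MvPowerSeries.algebraMap_apply, Algebra.algebraMap_self, RingHom.id_apply]
  ring

end Subst

section AlgHom

variable {R : Type*} [CommRing R] {n : ℕ}

theorem le_order_sub_truncTotal (d : ℕ) (f : MvPowerSeries (Fin n) R) :
    (d : ℕ∞) ≤ (f - (truncTotal d f : MvPowerSeries (Fin n) R)).order := by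
  refine nat_le_order fun e he => ?_
  rw [map_sub, MvPolynomial.coeff_coe, coeff_truncTotal _ he, sub_self]

/-- an algebra endomorphism of a power series ring preserving the augmentation ideal is a
substitution. -/
theorem algHom_eq_subst (φ : MvPowerSeries (Fin n) R →ₐ[R] MvPowerSeries (Fin n) R)
    (h0 : ∀ i, constantCoeff (φ (X i)) = 0) (f : MvPowerSeries (Fin n) R) :
    φ f = subst (fun i => φ (X i)) f := by
  have ha : HasSubst (fun i => φ (X i)) := hasSubst_of_constantCoeff_zero h0
  rw [← substAlgHom_apply ha]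
  set σ : MvPowerSeries (Fin n) R →ₐ[R] MvPowerSeries (Fin n) R := substAlgHom ha with hσ
  have hσ0 : ∀ i, constantCoeff (σ (X i)) = 0 := fun i => by
    rw [hσ, substAlgHom_X]; exact h0 i
  have hpoly : ∀ p : MvPolynomial (Fin n) R, φ (p : MvPowerSeries (Fin n) R) =
      σ (p : MvPowerSeries (Fin n) R) := by
    intro p
    have h1 : φ.comp (MvPolynomial.coeToMvPowerSeries.algHom (σ := Fin n) (R := R) R) =
        σ.comp (MvPolynomial.coeToMvPowerSeries.algHom (σ := Fin n) (R := R) R) := by
      apply MvPolynomial.algHom_ext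
      intro i
      simp only [AlgHom.comp_apply, MvPolynomial.coeToMvPowerSeries.algHom_apply,
        MvPolynomial.coe_X, Algebra.algebraMap_self, MvPowerSeries.map_id, RingHom.id_apply]
      rw [hσ, substAlgHom_X]
    have h2 := DFunLike.congr_fun h1 p
    simpa [MvPolynomial.coeToMvPowerSeries.algHom_apply] using h2
  rw [← sub_eq_zero, ← order_eq_top_iff, ENat.eq_top_iff_forall_ge]
  intro d
  have h1 : f = (truncTotal d f : MvPowerSeries (Fin n) R) +
      (f - (truncTotal d f : MvPowerSeries (Fin n) R)) := by ring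
  have h2 : φ f - σ f = φ (f - (truncTotal d f : MvPowerSeries (Fin n) R)) -
      σ (f - (truncTotal d f : MvPowerSeries (Fin n) R)) := by
    conv_lhs => rw [h1, map_add, map_add, hpoly]
    ring
  rw [h2]
  exact Groth.Agent.H7.PS.le_order_sub _ _ _
    (Groth.Agent.H7.PS.le_order_map φ h0 d _ (le_order_sub_truncTotal d f))
    (Groth.Agent.H7.PS.le_order_map σ hσ0 d _ (le_order_sub_truncTotal d f))

/-- an algebra endomorphism preserving the augmentation ideal preserves constant coefficients. -/
theorem constantCoeff_algHom (φ : MvPowerSeries (Fin n) R →ₐ[R] MvPowerSeries (Fin n) R)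
    (h0 : ∀ i, constantCoeff (φ (X i)) = 0) (f : MvPowerSeries (Fin n) R) :
    constantCoeff (φ f) = constantCoeff f := by
  have h1 : f = C (constantCoeff f) + (f - C (constantCoeff f)) := by ring
  have h2 : ((1 : ℕ) : ℕ∞) ≤ (f - C (constantCoeff f)).order := by
    have : constantCoeff (f - C (constantCoeff f)) = 0 := by
      rw [map_sub, constantCoeff_C, sub_self]
    exact_mod_cast one_le_order_iff_constCoeff_eq_zero.mpr this
  have h3 := Groth.Agent.H7.PS.le_order_map φ h0 1 _ h2
  have h4 : constantCoeff (φ (f - C (constantCoeff f))) = 0 :=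
    one_le_order_iff_constCoeff_eq_zero.mp (by exact_mod_cast h3)
  have h5 : φ (C (constantCoeff f)) = C (constantCoeff f) := by
    have := φ.commutes (constantCoeff f)
    rwa [MvPowerSeries.algebraMap_apply, Algebra.algebraMap_self, RingHom.id_apply] at this
  conv_lhs => rw [h1, map_add, map_add, h4, h5, constantCoeff_C, add_zero]

end AlgHom

end Groth.Agent.H2.Morse
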