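import Mathlib
import Groth.Agent.Lib.Helper2.Morse3

/-!
# Formal Morse lemma, part 4: the inverse coordinate change and the quotient isomorphism
-/

set_option autoImplicit false
set_option linter.unusedSectionVars false
set_option linter.style.haveILetI false

namespace Groth.Agent.H2.Morse

open MvPowerSeries

variable {R : Type*} [CommRing R] {n : ℕ} (q : Fin n → Fin n → R)

/-- **Formal Morse lemma** in the form of S16230. -/
theorem morse_subst (hq : VanCyc.QuadNondeg q) (m : ℕ) (hm : 2 ≤ m) (a : R)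
    (F : MvPowerSeries (Fin n) R)
    (hF : ∀ e : Fin n →₀ ℕ, e.degree ≤ m → coeff e F =
      coeff e ((VanCyc.quadPoly q + MvPolynomial.C a : MvPolynomial (Fin n) R) :
        MvPowerSeries (Fin n) R)) :
    ∃ h : Fin n → MvPowerSeries (Fin n) R,
      (∀ (i : Fin n) (e : Fin n →₀ ℕ), e.degree < m → coeff e (h i) = 0) ∧
      HasSubst (fun i => X i + h i) ∧
      subst (fun i => X i + h i) F =
        ((VanCyc.quadPoly q + MvPolynomial.C a : MvPolynomial (Fin n) R) :
          MvPowerSeries (Fin n) R) ∧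
      Nonempty ((MvPowerSeries (Fin n) R ⧸ Ideal.span {F}) ≃ₐ[R]
        (MvPowerSeries (Fin n) R ⧸ Ideal.span
          {((VanCyc.quadPoly q + MvPolynomial.C a : MvPolynomial (Fin n) R) :
            MvPowerSeries (Fin n) R)})) := by
  obtain ⟨ε, hε, hεF⟩ := exists_aeval_eq q hq m hm a F hF
  have hε0 : ∀ i, constantCoeff (X i + ε i : MvPowerSeries (Fin n) R) = 0 := by
    intro i
    rw [map_add, constantCoeff_X, zero_add, ← one_le_order_iff_constCoeff_eq_zero]
    refine le_trans ?_ (hε i)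
    exact_mod_cast (by omega : 1 ≤ m)
  have ha : HasSubst (fun i => X i + ε i) := hasSubst_of_constantCoeff_zero hε0
  set ψ : MvPowerSeries (Fin n) R →ₐ[R] MvPowerSeries (Fin n) R := substAlgHom ha with hψ
  have hψX : ∀ i, ψ (X i) = X i + ε i := fun i => substAlgHom_X ha i
  have hψ0 : ∀ i, constantCoeff (ψ (X i)) = 0 := fun i => by rw [hψX]; exact hε0 i
  have hJ : ∀ i, (2 : ℕ∞) ≤ (ψ (X i) - X i).order := by
    intro i
    rw [hψX, add_sub_cancel_left]
    refine le_trans ?_ (hε i)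
    exact_mod_cast hm
  have hbij := Groth.Agent.H7.PS.bijective_of_jacobian_one ψ hJ
  have hψF : ψ ((VanCyc.quadPoly q + MvPolynomial.C a : MvPolynomial (Fin n) R) :
      MvPowerSeries (Fin n) R) = F := by
    rw [hψ, substAlgHom_coe]
    exact hεF
  set Ψ : MvPowerSeries (Fin n) R ≃ₐ[R] MvPowerSeries (Fin n) R := AlgEquiv.ofBijective ψ hbij
    with hΨ
  have hΨψ : ∀ f, Ψ f = ψ f := fun f => rfl
  set φ : MvPowerSeries (Fin n) R →ₐ[R] MvPowerSeries (Fin n) R := Ψ.symm.toAlgHom with hφ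
  have hψφ : ∀ f, ψ (φ f) = f := fun f => Ψ.apply_symm_apply f
  have hφψ : ∀ f, φ (ψ f) = f := fun f => Ψ.symm_apply_apply f
  have hφ0 : ∀ i, constantCoeff (φ (X i)) = 0 := by
    intro i
    rw [← constantCoeff_algHom ψ hψ0, hψφ, constantCoeff_X]
  have hφF : φ F = ((VanCyc.quadPoly q + MvPolynomial.C a : MvPolynomial (Fin n) R) :
      MvPowerSeries (Fin n) R) := by
    rw [← hψF, hφψ]
  have hh : ∀ i, φ (X i) - X i = φ (-ε i) := by
    intro i
    apply hbij.1
    rw [map_sub, hψφ, hψφ, hψX]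
    ring
  have hfun : (fun i => X i + (φ (X i) - X i)) = fun i => φ (X i) := by
    funext i; ring
  refine ⟨fun i => φ (X i) - X i, ?_, ?_, ?_, ?_⟩
  · intro i e he
    apply coeff_of_lt_order
    change ((Finsupp.degree e : ℕ) : ℕ∞) < (φ (X i) - X i).order
    rw [hh]
    have he' : ((Finsupp.degree e : ℕ) : ℕ∞) < (m : ℕ∞) := by exact_mod_cast he
    refine lt_of_lt_of_le he' ?_
    refine Groth.Agent.H7.PS.le_order_map φ hφ0 m _ ?_
    rw [order_neg]
    exact hε i
  · rw [hfun]
    exact hasSubst_of_constantCoeff_zero hφ0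
  · rw [hfun, ← algHom_eq_subst φ hφ0, hφF]
  · refine ⟨Ideal.quotientEquivAlg _ _ Ψ.symm ?_⟩
    rw [Ideal.map_span, Set.image_singleton]
    congr 2
    exact hφF.symm

end Groth.Agent.H2.Morse
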