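import Mathlib
import Groth.Agent.Lib.Helper2.Morse4

/-!
# Formal Morse lemma, part 5: coefficients of quadratic forms, and the form with derivatives
-/

set_option autoImplicit false
set_option linter.unusedSectionVars false
set_option linter.style.haveILetI false

namespace Groth.Agent.H2.Morse

open MvPowerSeries Finsupp

section QuadCoeff

variable {R : Type*} [CommRing R] {n : ℕ} (a : Fin n → Fin n → R)

theorem isHomogeneous_quadPoly : (VanCyc.quadPoly a).IsHomogeneous 2 := by
  unfold VanCyc.quadPoly
  refine MvPolynomial.IsHomogeneous.sum _ _ _ fun i _ => ?_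
  refine MvPolynomial.IsHomogeneous.sum _ _ _ fun j _ => ?_
  split_ifs
  · exact ((MvPolynomial.isHomogeneous_C _ (a i j)).mul (MvPolynomial.isHomogeneous_X _ i)).mul
      (MvPolynomial.isHomogeneous_X _ j)
  · exact MvPolynomial.isHomogeneous_zero _ _ _

theorem term_eq_monomial (i j : Fin n) :
    (MvPolynomial.C (a i j) * MvPolynomial.X i * MvPolynomial.X j : MvPolynomial (Fin n) R) =
      MvPolynomial.monomial (single i 1 + single j 1) (a i j) := by
  rw [MvPolynomial.C_mul_X_eq_monomial, MvPolynomial.X, MvPolynomial.monomial_mul, mul_one]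

theorem single_add_single_inj {i j i0 j0 : Fin n} (hij : i ≤ j) (h0 : i0 ≤ j0)
    (h : (single i 1 + single j 1 : Fin n →₀ ℕ) = single i0 1 + single j0 1) :
    i = i0 ∧ j = j0 := by
  have hv : ∀ l : Fin n, (if i = l then 1 else 0) + (if j = l then 1 else 0) =
      (if i0 = l then 1 else 0) + (if j0 = l then 1 else 0) := by
    intro l
    have := DFunLike.congr_fun h l
    simpa [Finsupp.single_apply] using this
  have hi : i0 = i ∨ j0 = i := by
    by_contra hc
    rw [not_or] at hc
    have := hv i
    rw [if_pos rfl, if_neg hc.1, if_neg hc.2] at this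
    omega
  have hj : i0 = j ∨ j0 = j := by
    by_contra hc
    rw [not_or] at hc
    have := hv j
    rw [if_pos rfl, if_neg hc.1, if_neg hc.2] at this
    omega
  have hi0 : i = i0 ∨ j = i0 := by
    by_contra hc
    rw [not_or] at hc
    have := hv i0
    rw [if_pos rfl, if_neg hc.1, if_neg hc.2] at this
    omega
  have hj0 : i = j0 ∨ j = j0 := by
    by_contra hc
    rw [not_or] at hc
    have := hv j0
    rw [if_pos rfl, if_neg hc.1, if_neg hc.2] at this
    omega
  rcases hi with hi | hi
  · rcases hj with hj | hj
    · -- i = j = i0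
      have hij' : i = j := hi.symm.trans hj
      rcases hj0 with h1 | h1
      · exact ⟨hi.symm, hij' ▸ h1⟩
      · exact ⟨hi.symm, h1⟩
    · exact ⟨hi.symm, hj.symm⟩
  · rcases hj with hj | hj
    · -- i = j0, j = i0
      have h1 : j ≤ i := by rw [← hi, ← hj]; exact h0
      have hij' : i = j := le_antisymm hij h1
      exact ⟨by rw [hij', hj], by rw [← hij', hi]⟩
    · -- i = j = j0
      have hij' : i = j := hi.symm.trans hj
      rcases hi0 with h1 | h1
      · exact ⟨h1, hj.symm⟩
      · exact ⟨hij'.trans h1, hj.symm⟩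

theorem coeff_quadPoly_pair (i0 j0 : Fin n) (h0 : i0 ≤ j0) :
    MvPolynomial.coeff (single i0 1 + single j0 1) (VanCyc.quadPoly a) = a i0 j0 := by
  classical
  unfold VanCyc.quadPoly
  rw [MvPolynomial.coeff_sum, Finset.sum_eq_single i0]
  · rw [MvPolynomial.coeff_sum, Finset.sum_eq_single j0]
    · rw [if_pos h0, term_eq_monomial, MvPolynomial.coeff_monomial, if_pos rfl]
    · intro j _ hj
      split_ifs with hij
      · rw [term_eq_monomial, MvPolynomial.coeff_monomial, if_neg]
        intro h
        exact hj (single_add_single_inj hij h0 h).2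
      · exact MvPolynomial.coeff_zero _
    · intro h; exact absurd (Finset.mem_univ _) h
  · intro i _ hi
    rw [MvPolynomial.coeff_sum]
    apply Finset.sum_eq_zero
    intro j _
    split_ifs with hij
    · rw [term_eq_monomial, MvPolynomial.coeff_monomial, if_neg]
      intro h
      exact hi (single_add_single_inj hij h0 h).1
    · exact MvPolynomial.coeff_zero _
  · intro h; exact absurd (Finset.mem_univ _) h

theorem exists_pair_of_degree_two (e : Fin n →₀ ℕ) (he : degree e = 2) :
    ∃ i0 j0 : Fin n, i0 ≤ j0 ∧ e = single i0 1 + single j0 1 := by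
  have hne : e ≠ 0 := by
    rintro rfl
    simp at he
  obtain ⟨l, hl⟩ := Finsupp.support_nonempty_iff.mpr hne
  have hl' : e l ≠ 0 := Finsupp.mem_support_iff.mp hl
  have hle : single l 1 ≤ e := by
    rw [Finsupp.single_le_iff]
    omega
  have h1 : e = single l 1 + (e - single l 1) := (add_tsub_cancel_of_le hle).symm
  have h2 : degree (e - single l 1) = 1 := by
    have := congrArg degree h1
    rw [map_add, degree_single, he] at this
    omega
  obtain ⟨l', hl'⟩ := Groth.Agent.H7.PS.exists_single_of_degree_eq_one _ h2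
  rw [hl'] at h1
  rcases le_total l l' with h | h
  · exact ⟨l, l', h, h1⟩
  · exact ⟨l', l, h, by rw [h1, add_comm]⟩

end QuadCoeff

section Deriv

variable {k : Type*} [Field k] {n : ℕ}

theorem coeff_single_mul (j : Fin n) (a b : MvPowerSeries (Fin n) k) (hb : constantCoeff b = 0) :
    coeff (single j 1) (a * b) = constantCoeff a * coeff (single j 1) b := by
  classical
  rw [MvPowerSeries.coeff_mul, Finsupp.antidiagonal_single, Finset.sum_map]
  rw [Finset.Nat.antidiagonal_succ, Finset.sum_cons, Finset.Nat.antidiagonal_zero,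
    Finset.sum_map, Finset.sum_singleton]
  simp [hb]

theorem polarMatrix_quadPart (f : MvPowerSeries (Fin n) k) (i j : Fin n) :
    VanCyc.polarMatrix (VanCyc.quadPart f) i j = coeff (single j 1) (pderiv k i f) := by
  classical
  rw [coeff_pderiv]
  unfold VanCyc.polarMatrix VanCyc.quadPart
  rcases lt_trichotomy i j with h | h | h
  · rw [if_neg (ne_of_lt h), if_pos h, if_neg (ne_of_lt h), if_pos h, Finsupp.single_apply,
      if_neg (ne_of_gt h), add_comm (single j 1) (single i 1)]
    simp
  · subst h
    rw [if_pos rfl, if_pos rfl, Finsupp.single_apply, if_pos rfl, ← Finsupp.single_add]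
    push_cast
    ring
  · rw [if_neg (ne_of_gt h), if_neg (not_lt.mpr (le_of_lt h)), if_neg (ne_of_lt h), if_pos h,
      Finsupp.single_apply, if_neg (ne_of_lt h)]
    simp

/-- **Formal Morse lemma** over a field, in the form of S3206. -/
theorem morse_field (f : MvPowerSeries (Fin n) k) (hf0 : constantCoeff f = 0)
    (hJ : Ideal.span (Set.range fun i : Fin n => pderiv k i f) =
      IsLocalRing.maximalIdeal (MvPowerSeries (Fin n) k)) :
    ∃ (ε : Fin n → MvPowerSeries (Fin n) k)
      (_ : ∀ i (m : Fin n →₀ ℕ), m.degree < 2 → coeff m (ε i) = 0)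
      (q : MvPolynomial (Fin n) k) (_ : q.IsHomogeneous 2)
      (_ : HasSubst (fun i : Fin n => X i + ε i)),
      f = subst (fun i : Fin n => X i + ε i) (q : MvPowerSeries (Fin n) k) := by
  classical
  have hmem : ∀ g : MvPowerSeries (Fin n) k,
      g ∈ IsLocalRing.maximalIdeal (MvPowerSeries (Fin n) k) ↔ constantCoeff g = 0 := by
    intro g
    rw [IsLocalRing.mem_maximalIdeal, mem_nonunits_iff, MvPowerSeries.isUnit_iff_constantCoeff,
      isUnit_iff_ne_zero, not_not]
  have hd0 : ∀ i, constantCoeff (pderiv k i f) = 0 := by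
    intro i
    rw [← hmem, ← hJ]
    exact Ideal.subset_span ⟨i, rfl⟩
  have hlin : ∀ l, coeff (single l 1) f = 0 := by
    intro l
    have h := hd0 l
    rw [← coeff_zero_eq_constantCoeff_apply, coeff_pderiv, zero_add] at h
    simpa using h
  set qt := VanCyc.quadPart f with hqt
  -- nondegeneracy
  have hq : VanCyc.QuadNondeg qt := by
    have hX : ∀ l : Fin n, ∃ c : Fin n → MvPowerSeries (Fin n) k,
        ∑ i, c i * pderiv k i f = (X l : MvPowerSeries (Fin n) k) := by
      intro l
      have : (X l : MvPowerSeries (Fin n) k) ∈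
          Ideal.span (Set.range fun i : Fin n => pderiv k i f) := by
        rw [hJ, hmem, MvPowerSeries.constantCoeff_X]
      exact (Ideal.mem_span_range_iff_exists_fun).mp this
    choose c hc using hX
    unfold VanCyc.QuadNondeg
    apply Matrix.isUnit_det_of_left_inverse
      (B := Matrix.of fun l i : Fin n => constantCoeff (c l i))
    ext l j
    rw [Matrix.mul_apply]
    simp only [Matrix.of_apply]
    have h1 : ∀ i, constantCoeff (c l i) * VanCyc.polarMatrix qt i j =
        coeff (single j 1) (c l i * pderiv k i f) := by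
      intro i
      rw [hqt, polarMatrix_quadPart, coeff_single_mul j _ _ (hd0 i)]
    rw [Finset.sum_congr rfl (fun i _ => h1 i), ← map_sum, hc l, MvPowerSeries.coeff_X,
      Matrix.one_apply]
    by_cases hlj : l = j
    · subst hlj; simp
    · rw [if_neg hlj, if_neg]
      intro h
      apply hlj
      have := congrArg (fun f => f l) h
      simp only [Finsupp.single_apply] at this
      by_contra hne
      rw [if_neg (Ne.symm hne)] at this
      simp at this
  -- agreement of low-order coefficients
  have hhom := isHomogeneous_quadPoly qt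
  have hF : ∀ e : Fin n →₀ ℕ, e.degree ≤ 2 → coeff e f =
      coeff e ((VanCyc.quadPoly qt + MvPolynomial.C 0 : MvPolynomial (Fin n) k) :
        MvPowerSeries (Fin n) k) := by
    intro e he
    rw [map_zero, add_zero, MvPolynomial.coeff_coe]
    have hcases : degree e = 0 ∨ degree e = 1 ∨ degree e = 2 := by omega
    rcases hcases with h | h | h
    · rw [hhom.coeff_eq_zero (by omega)]
      rw [degree_eq_zero_iff] at h
      subst h
      exact hf0
    · rw [hhom.coeff_eq_zero (by omega)]
      obtain ⟨l, rfl⟩ := Groth.Agent.H7.PS.exists_single_of_degree_eq_one e h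
      exact hlin l
    · obtain ⟨i0, j0, h0, rfl⟩ := exists_pair_of_degree_two e h
      rw [coeff_quadPoly_pair qt i0 j0 h0, hqt]
      unfold VanCyc.quadPart
      by_cases hij : i0 = j0
      · subst hij
        rw [if_pos rfl, ← Finsupp.single_add]
      · rw [if_neg hij, if_pos (lt_of_le_of_ne h0 hij)]
  obtain ⟨ε, hε, hεF⟩ := exists_aeval_eq qt hq 2 le_rfl 0 f hF
  have hε0 : ∀ i, constantCoeff (X i + ε i : MvPowerSeries (Fin n) k) = 0 := by
    intro i
    rw [map_add, constantCoeff_X, zero_add, ← one_le_order_iff_constCoeff_eq_zero]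
    refine le_trans ?_ (hε i)
    exact_mod_cast (by omega : 1 ≤ 2)
  refine ⟨ε, ?_, VanCyc.quadPoly qt, hhom, hasSubst_of_constantCoeff_zero hε0, ?_⟩
  · intro i m hm
    apply coeff_of_lt_order
    refine lt_of_lt_of_le ?_ (hε i)
    exact_mod_cast hm
  · rw [subst_coe, ← hεF, map_zero, add_zero]

end Deriv

end Groth.Agent.H2.Morse
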