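import Mathlib
import Groth.Agent.S1833
import Groth.Agent.Lib.Helper1.LatDist
import Groth.Agent.Lib.Helper1.HerbSmul

/-!
# Multiplicity of an element on torsion-free modules over a one-dimensional local domain (helper2)

`ℓ(N/xN) = ord_{O/(0)}(x) · rank N` for a finite torsion-free module `N` over a one-dimensional
Noetherian local domain `O`, via helper1's dévissage formula (S1833).
-/

set_option autoImplicit false
set_option linter.style.haveILetI false
set_option linter.unusedSectionVars false
universe u

namespace Groth.Agent.H2.Mult1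
open scoped Pointwise

section Gen
variable {O : Type u} [CommRing O] [IsDomain O]

/-- the length of the generic localization is the rank. -/
theorem length_localized_bot (N : Type u) [AddCommGroup N] [Module O N] [Module.Finite O N] :
    Module.length (Localization.AtPrime (⊥ : Ideal O))
      (LocalizedModule (⊥ : Ideal O).primeCompl N) = (Module.finrank O N : ℕ∞) := by
  have hS : (⊥ : Ideal O).primeCompl = nonZeroDivisors O := Ideal.primeCompl_bot
  haveI : IsFractionRing O (Localization.AtPrime (⊥ : Ideal O)) := by
    change IsLocalization (nonZeroDivisors O) _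
    rw [← hS]
    infer_instance
  letI : Field (Localization.AtPrime (⊥ : Ideal O)) := IsFractionRing.toField O
  rw [Module.length_eq_finrank]
  congr 1
  rw [IsLocalization.finrank_eq (Localization.AtPrime (⊥ : Ideal O)) (⊥ : Ideal O).primeCompl
    (le_of_eq hS)]
  exact IsLocalizedModule.finrank_eq (⊥ : Ideal O).primeCompl
    (LocalizedModule.mkLinearMap (⊥ : Ideal O).primeCompl N) (le_of_eq hS)

end Gen

section Formula
variable {O : Type u} [CommRing O] [IsDomain O] [IsNoetherianRing O] [IsLocalRing O]

theorem maximalIdeal_ne_bot (hA : ringKrullDim O = 1) : IsLocalRing.maximalIdeal O ≠ ⊥ := by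
  intro h
  have hf : IsField O := IsLocalRing.isField_iff_maximalIdeal_eq.mpr h
  have h0 := ringKrullDim_eq_zero_of_isField hf
  rw [hA] at h0
  exact absurd h0 (by norm_num)

theorem supportDim_quot_smul_le (hA : ringKrullDim O = 1) (x : O) (hx : x ≠ 0)
    (N : Type u) [AddCommGroup N] [Module O N] [Module.Finite O N] :
    Module.supportDim O (N ⧸ x • (⊤ : Submodule O N)) ≤ 0 := by
  rw [← Groth.Agent.H1.HerbSmul.isFiniteLength_iff_supportDim_le_zero, ← Module.length_ne_top_iff]
  refine (Groth.Agent.H1.LatDist.length_lt_top_of_smul_eq_zero hA _ x hx ?_).ne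
  intro q
  induction q using Submodule.Quotient.induction_on with
  | H n =>
    rw [← Submodule.Quotient.mk_smul, Submodule.Quotient.mk_eq_zero]
    exact Submodule.smul_mem_pointwise_smul n x ⊤ Submodule.mem_top

/-- `ℓ(N/xN) = ord(x) · rank N` for finite torsion-free `N` over a one-dimensional local domain. -/
theorem length_quot_smul (hA : ringKrullDim O = 1) (x : O) (hx : x ≠ 0)
    (N : Type u) [AddCommGroup N] [Module O N] [Module.Finite O N] [NoZeroSMulDivisors O N] :
    Module.length O (N ⧸ x • (⊤ : Submodule O N)) =
      Ring.ord (O ⧸ (⊥ : Ideal O)) (Ideal.Quotient.mk ⊥ x) * (Module.finrank O N : ℕ∞) := by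
  classical
  have h1 : Module.supportDim O N ≤ 1 := hA ▸ Module.supportDim_le_ringKrullDim O N
  have h0 := supportDim_quot_smul_le hA x hx N
  have key := Groth.Agent.S1833.result O N x h1 h0
  rw [key]
  have hker : LinearMap.ker (LinearMap.lsmul O N x) = ⊥ := by
    rw [Submodule.eq_bot_iff]
    intro n hn
    rw [LinearMap.mem_ker, LinearMap.lsmul_apply] at hn
    exact (smul_eq_zero.mp hn).resolve_left hx
  have hl0 : Module.length O (LinearMap.ker (LinearMap.lsmul O N x)) = 0 := by
    rw [hker]; exact Module.length_eq_zero
  rw [hl0, zero_add]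
  let p0 : PrimeSpectrum O := ⟨⊥, Ideal.isPrime_bot⟩
  rw [finsum_eq_single _ p0]
  · rw [finsum_eq_if]
    have hL := length_localized_bot (O := O) N
    split_ifs with hc
    · change Ring.ord (O ⧸ (⊥ : Ideal O)) (Ideal.Quotient.mk ⊥ x) *
        Module.length (Localization.AtPrime (⊥ : Ideal O))
          (LocalizedModule (⊥ : Ideal O).primeCompl N) = _
      rw [hL]
    · have hns : p0 ∉ Module.support O N := by
        intro hs
        exact hc ⟨hs, fun h => maximalIdeal_ne_bot hA h.symm⟩
      rw [Module.notMem_support_iff] at hns
      have : Module.length (Localization.AtPrime (⊥ : Ideal O))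
          (LocalizedModule (⊥ : Ideal O).primeCompl N) = 0 := by
        haveI : Subsingleton (LocalizedModule (⊥ : Ideal O).primeCompl N) := hns
        exact Module.length_eq_zero
      rw [← hL, this, mul_zero]
  · intro p hp
    rw [finsum_eq_if, if_neg]
    rintro ⟨-, hpm⟩
    apply hpm
    have hpb : p.asIdeal ≠ ⊥ := fun h => hp (PrimeSpectrum.ext h)
    have := Groth.Agent.H1.LatDist.eq_closedPoint_of_ne_bot hA p hpb
    rw [this]; rfl

end Formula

end Groth.Agent.H2.Mult1
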