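import Mathlib
import Groth.Agent.Lib.Helper2.Mult1
import Groth.Agent.Lib.Helper6.LocalAvoid
import Groth.Agent.Lib.Helper9.FinLocal

/-!
# Generators of torsion-free modules over one-dimensional local domains (helper2)
-/

set_option autoImplicit false
set_option linter.style.haveILetI false
set_option linter.unusedSectionVars false
universe u

namespace Groth.Agent.H2.Mult2
open scoped Pointwise
open Groth.Agent.H2.Mult1

section Span
variable (R : Type u) [CommRing R] [IsLocalRing R] (M : Type u) [AddCommGroup M] [Module R M]
  [Module.Finite R M]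

/-- the minimal number of generators is the length of `M/𝔪M`. -/
theorem spanFinrank_top_eq_length :
    ((⊤ : Submodule R M).spanFinrank : ℕ∞) =
      Module.length R (M ⧸ (IsLocalRing.maximalIdeal R • ⊤ : Submodule R M)) := by
  letI : Field (R ⧸ IsLocalRing.maximalIdeal R) := Ideal.Quotient.field _
  rw [IsLocalRing.spanFinrank_eq_finrank_quotient (⊤ : Submodule R M) Module.Finite.fg_top]
  have e : ((⊤ : Submodule R M) ⧸ (IsLocalRing.maximalIdeal R • ⊤ : Submodule R (⊤ : Submodule R M)))
      ≃ₗ[R] (M ⧸ (IsLocalRing.maximalIdeal R • ⊤ : Submodule R M)) :=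
    Submodule.Quotient.equiv _ _ (Submodule.topEquiv (R := R) (M := M)) (by
      rw [Submodule.map_smul'']
      congr 1
      exact Submodule.map_top _ |>.trans (LinearMap.range_eq_top.mpr
        (Submodule.topEquiv (R := R) (M := M)).surjective))
  rw [← e.length_eq, Module.length_eq_of_surjective (S := R) (R := R ⧸ IsLocalRing.maximalIdeal R)
    Ideal.Quotient.mk_surjective, Module.length_eq_finrank]

omit [Module.Finite R M] in
theorem length_quot_maximalIdeal_le (x : R) (hx : x ∈ IsLocalRing.maximalIdeal R) :
    Module.length R (M ⧸ (IsLocalRing.maximalIdeal R • ⊤ : Submodule R M)) ≤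
      Module.length R (M ⧸ x • (⊤ : Submodule R M)) := by
  have hle : x • (⊤ : Submodule R M) ≤ IsLocalRing.maximalIdeal R • (⊤ : Submodule R M) := by
    intro z hz
    obtain ⟨z', -, rfl⟩ := (Submodule.mem_smul_pointwise_iff_exists _ _ _).mp hz
    exact Submodule.smul_mem_smul hx Submodule.mem_top
  exact Module.length_le_of_surjective (Submodule.factor hle) (Submodule.factor_surjective hle)

end Span

section Rank
variable (O : Type u) [CommRing O] [IsDomain O] (K : Type u) [Field K] [Algebra O K]
  [IsFractionRing O K]

theorem finrank_integralClosure : Module.finrank O ↥(integralClosure O K) = 1 := by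
  haveI : IsFractionRing ↥(integralClosure O K) K :=
    integralClosure.isFractionRing_of_finite_extension K K
  rw [IsFractionRing.finrank_left_eq O (S := ↥(integralClosure O K)) K,
    ← IsLocalization.finrank_eq K (nonZeroDivisors O) le_rfl]
  exact Module.finrank_self K

theorem finrank_eq_of_tensor (M : Type u) [AddCommGroup M] [Module O M] :
    Module.finrank K (TensorProduct O K M) = Module.finrank O M :=
  (TensorProduct.isBaseChange O M K).finrank_eq

end Rank

section Red
variable (O : Type u) [CommRing O] [IsDomain O] [IsNoetherianRing O] [IsLocalRing O]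
  (K : Type u) [Field K] [Algebra O K] [IsFractionRing O K]

theorem dimensionLEOne (hA : ringKrullDim O = 1) : Ring.DimensionLEOne O where
  maximalOfPrime := fun {p} hp hpp => by
    have := Groth.Agent.H1.LatDist.eq_closedPoint_of_ne_bot hA ⟨p, hpp⟩ hp
    have h2 : p = IsLocalRing.maximalIdeal O := congrArg PrimeSpectrum.asIdeal this
    rw [h2]; infer_instance

theorem isDedekindDomain_integralClosure (hA : ringKrullDim O = 1)
    (hfin : Module.Finite O ↥(integralClosure O K)) :
    IsDedekindDomain ↥(integralClosure O K) := by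
  haveI := dimensionLEOne O hA
  haveI : IsIntegrallyClosed ↥(integralClosure O K) :=
    integralClosure.isIntegrallyClosedOfFiniteExtension K
  haveI : IsNoetherianRing ↥(integralClosure O K) := IsNoetherianRing.of_finite O _
  exact { }

theorem isPrincipalIdealRing_integralClosure (hA : ringKrullDim O = 1)
    (hfin : Module.Finite O ↥(integralClosure O K)) :
    IsPrincipalIdealRing ↥(integralClosure O K) := by
  haveI := isDedekindDomain_integralClosure O K hA hfin
  haveI : Finite (MaximalSpectrum ↥(integralClosure O K)) :=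
    Groth.Agent.H9.FinLocal.finite_maximalSpectrum O _
  apply IsPrincipalIdealRing.of_finite_maximals
  rw [← MaximalSpectrum.range_asIdeal]
  exact Set.finite_range MaximalSpectrum.asIdeal

/-- with infinite residue field, `𝔪 O~` is generated by an element of `𝔪`. -/
theorem exists_principal_reduction (hA : ringKrullDim O = 1)
    [Infinite (IsLocalRing.ResidueField O)]
    (hfin : Module.Finite O ↥(integralClosure O K)) :
    ∃ x ∈ IsLocalRing.maximalIdeal O, x ≠ 0 ∧
      x • (⊤ : Submodule O ↥(integralClosure O K)) =
        (IsLocalRing.maximalIdeal O) • (⊤ : Submodule O ↥(integralClosure O K)) := by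
  classical
  set C := ↥(integralClosure O K) with hC
  haveI := isPrincipalIdealRing_integralClosure O K hA hfin
  haveI : Finite (MaximalSpectrum C) := Groth.Agent.H9.FinLocal.finite_maximalSpectrum O _
  set m := IsLocalRing.maximalIdeal O with hm
  set mC : Ideal C := Ideal.map (algebraMap O C) m with hmC
  have hinj : Function.Injective (algebraMap O C) := by
    have h1 : Function.Injective (algebraMap O K) := IsFractionRing.injective O K
    intro a b hab
    apply h1
    have := congrArg (algebraMap C K) hab
    rwa [← IsScalarTower.algebraMap_apply, ← IsScalarTower.algebraMap_apply] at this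
  obtain ⟨y, hy⟩ : ∃ y : C, mC = Ideal.span {y} :=
    ⟨_, (Submodule.IsPrincipal.span_singleton_generator mC).symm⟩
  have hy0 : y ≠ 0 := by
    rintro rfl
    obtain ⟨a, ham, ha0⟩ := Submodule.exists_mem_ne_zero_of_ne_bot (maximalIdeal_ne_bot hA)
    have h1 : algebraMap O C a ∈ mC := Ideal.mem_map_of_mem _ ham
    rw [hy, Ideal.span_singleton_eq_bot.mpr rfl, Ideal.mem_bot] at h1
    exact ha0 (hinj (by rw [h1, map_zero]))
  -- the linear map `m → C`
  let φ : ↥m →ₗ[O] C := (Algebra.linearMap O C) ∘ₗ m.subtype
  let W : MaximalSpectrum C → Submodule O ↥m := fun P =>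
    Submodule.comap φ ((P.asIdeal * mC).restrictScalars O)
  have hW : ∀ P, W P ≠ ⊤ := by
    intro P htop
    have hle : mC ≤ P.asIdeal * mC := by
      rw [hmC, Ideal.map_le_iff_le_comap]
      intro a ha
      have : (⟨a, ha⟩ : ↥m) ∈ W P := by rw [htop]; exact Submodule.mem_top
      exact this
    have hyy : y ∈ P.asIdeal * mC := hle (by rw [hy]; exact Ideal.mem_span_singleton_self y)
    rw [hy, Ideal.mem_mul_span_singleton] at hyy
    obtain ⟨z, hz, hzy⟩ := hyy
    have hz1 : z = 1 := by
      have : (z - 1) * y = 0 := by rw [sub_mul, hzy, one_mul, sub_self]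
      rcases mul_eq_zero.mp this with h | h
      · exact sub_eq_zero.mp h
      · exact absurd h hy0
    rw [hz1] at hz
    exact P.isMaximal.ne_top ((Ideal.eq_top_iff_one _).mpr hz)
  obtain ⟨v, hv⟩ := Groth.Agent.H6.exists_forall_notMem_of_local W hW
  refine ⟨v.1, v.2, ?_, ?_⟩
  · intro h0
    have : v = 0 := Subtype.ext h0
    have hP : Nonempty (MaximalSpectrum C) := by
      obtain ⟨M, hM⟩ := Ideal.exists_maximal C
      exact ⟨⟨M, hM⟩⟩
    obtain ⟨P⟩ := hP
    exact hv P (by rw [this]; exact (W P).zero_mem)
  · -- `x C = m C`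
    have hxm : algebraMap O C v.1 ∈ mC := Ideal.mem_map_of_mem _ v.2
    rw [hy, Ideal.mem_span_singleton'] at hxm
    obtain ⟨c, hc⟩ := hxm
    have hcu : IsUnit c := by
      by_contra hnu
      obtain ⟨M, hM, hcM⟩ := exists_max_ideal_of_mem_nonunits (mem_nonunits_iff.mpr hnu)
      apply hv ⟨M, hM⟩
      change algebraMap O C v.1 ∈ M * mC
      rw [← hc, hy, Ideal.mem_mul_span_singleton]
      exact ⟨c, hcM, rfl⟩
    have hspan : Ideal.span {algebraMap O C v.1} = mC := by
      rw [hy, ← hc]
      exact Ideal.span_singleton_mul_left_unit hcu y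
    rw [Ideal.smul_top_eq_map, ← hmC, ← hspan]
    ext b
    rw [Submodule.mem_smul_pointwise_iff_exists, Submodule.restrictScalars_mem,
      Ideal.mem_span_singleton']
    constructor
    · rintro ⟨b', -, rfl⟩
      exact ⟨b', by rw [Algebra.smul_def, mul_comm]⟩
    · rintro ⟨b', rfl⟩
      exact ⟨b', Submodule.mem_top, by rw [Algebra.smul_def, mul_comm]⟩

end Red

end Groth.Agent.H2.Mult2
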