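import Mathlib
import Groth.Agent.Lib.Helper2.Mult4

/-!
# The length of `M/tM` and the minimal primes of the support (helper2)
-/

set_option autoImplicit false
set_option linter.style.haveILetI false
set_option linter.unusedSectionVars false
universe u

namespace Groth.Agent.H2.Mult6
open scoped Pointwise
open Groth.Agent.H2.Mult3 Groth.Agent.H2.Mult4

section Arith

theorem sum_eq_iff {ι : Type*} [Fintype ι] (a c : ι → ℕ∞) (k : ℕ∞) (hc1 : ∀ p, 1 ≤ c p)
    (hfin : k + ∑ p, c p * a p < ⊤) :
    (∑ p, a p = k + ∑ p, c p * a p) ↔ (k = 0 ∧ ∀ p, a p = c p * a p) := by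
  classical
  have hle : ∀ p, a p ≤ c p * a p := fun p => le_mul_of_one_le_left' (hc1 p)
  rw [ENat.add_lt_top] at hfin
  obtain ⟨hkfin, hsfin⟩ := hfin
  constructor
  · intro h
    have hsum_le : ∑ p, a p ≤ ∑ p, c p * a p := Finset.sum_le_sum (fun p _ => hle p)
    have hk0 : k = 0 := by
      have h3 : k + ∑ p, c p * a p ≤ 0 + ∑ p, c p * a p := by
        rw [zero_add, ← h]; exact hsum_le
      have := (ENat.add_le_add_iff_right hsfin.ne).mp h3
      exact le_antisymm this zero_le
    refine ⟨hk0, ?_⟩
    rw [hk0, zero_add] at h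
    by_contra hne
    push_neg at hne
    obtain ⟨p0, hp0⟩ := hne
    have hlt0 : a p0 < c p0 * a p0 := lt_of_le_of_ne (hle p0) hp0
    have e1 := Finset.add_sum_erase Finset.univ a (Finset.mem_univ p0)
    have e2 := Finset.add_sum_erase Finset.univ (fun p => c p * a p) (Finset.mem_univ p0)
    have hrfin : ∑ p ∈ Finset.univ.erase p0, a p < ⊤ :=
      lt_of_le_of_lt (Finset.sum_le_sum_of_subset (Finset.erase_subset _ _))
        (lt_of_le_of_lt hsum_le hsfin)
    have : ∑ p, a p < ∑ p, c p * a p := by
      rw [← e1, ← e2]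
      calc a p0 + ∑ p ∈ Finset.univ.erase p0, a p
          < c p0 * a p0 + ∑ p ∈ Finset.univ.erase p0, a p :=
            (ENat.add_lt_add_iff_right hrfin.ne).mpr hlt0
        _ ≤ c p0 * a p0 + ∑ p ∈ Finset.univ.erase p0, c p * a p := by
            gcongr with p _
            exact hle p
    exact absurd h this.ne
  · rintro ⟨hk0, hall⟩
    rw [hk0, zero_add]
    exact Finset.sum_congr rfl (fun p _ => hall p)

theorem term_eq_iff (a c : ℕ∞) (hc1 : 1 ≤ c) (hfin : c * a < ⊤) (ha : a ≠ 0) :
    a = c * a ↔ c = 1 := by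
  have hle : a ≤ c * a := le_mul_of_one_le_left' hc1
  have hA : a < ⊤ := lt_of_le_of_lt hle hfin
  constructor
  · intro h
    by_contra hne
    have h2 : 2 ≤ c := by
      rcases lt_or_eq_of_le hc1 with h' | h'
      · exact Order.add_one_le_of_lt h'
      · exact absurd h'.symm hne
    have : a + a ≤ a := by
      calc a + a = 2 * a := (two_mul _).symm
        _ ≤ c * a := mul_le_mul_left h2 _
        _ = a := h.symm
    lift a to ℕ using hA.ne with n hn
    have hn0 : n ≠ 0 := by exact_mod_cast ha
    have : n + n ≤ n := by exact_mod_cast this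
    omega
  · intro h
    rw [h, one_mul]

end Arith

variable {B : Type u} [CommRing B] [IsNoetherianRing B] [IsLocalRing B]
  (M : Type u) [AddCommGroup M] [Module B M] [Module.Finite B M]

/-- the map from the minimal primes of the annihilator to the prime spectrum. -/
def emb' : (Module.annihilator B M).minimalPrimes → PrimeSpectrum B := fun p => ⟨p.1, p.2.1.1⟩

theorem emb'_injective : Function.Injective (emb' (B := B) M) := by
  intro p q h
  exact Subtype.ext (congrArg PrimeSpectrum.asIdeal h)

theorem emb'_mem_support (p : (Module.annihilator B M).minimalPrimes) :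
    emb' M p ∈ Module.support B M := by
  rw [Module.mem_support_iff_of_finite]
  exact p.2.1.2

theorem ne_maximalIdeal_of_mem (hdim : 0 < Module.supportDim B M) (p : Ideal B)
    (hp : p ∈ (Module.annihilator B M).minimalPrimes) : p ≠ IsLocalRing.maximalIdeal B := by
  rintro rfl
  have hsub : Subsingleton (Module.support B M) := by
    constructor
    have key : ∀ q : Module.support B M, q.1 = IsLocalRing.closedPoint B := by
      intro q
      apply PrimeSpectrum.ext
      have hle : q.1.asIdeal ≤ IsLocalRing.maximalIdeal B :=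
        IsLocalRing.le_maximalIdeal q.1.isPrime.ne_top
      exact le_antisymm hle (hp.2 ⟨q.1.isPrime, Module.mem_support_iff_of_finite.mp q.2⟩ hle)
    intro a b
    exact Subtype.ext ((key a).trans (key b).symm)
  have : Module.supportDim B M ≤ 0 := by
    unfold Module.supportDim
    exact Order.krullDim_nonpos_of_subsingleton
  exact absurd hdim (not_lt.mpr this)

theorem mem_minimalPrimes_of_ne (h1 : Module.supportDim B M ≤ 1) (q : PrimeSpectrum B)
    (hqs : q ∈ Module.support B M)
    (hq : q.asIdeal ≠ IsLocalRing.maximalIdeal B) :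
    q.asIdeal ∈ (Module.annihilator B M).minimalPrimes := by
  refine ⟨⟨q.isPrime, Module.mem_support_iff_of_finite.mp hqs⟩, ?_⟩
  rintro r ⟨hr, hrann⟩ hrq
  by_contra hnle
  have hrs : (⟨r, hr⟩ : PrimeSpectrum B) ∈ Module.support B M :=
    Module.mem_support_iff_of_finite.mpr hrann
  have hlt : (⟨r, hr⟩ : PrimeSpectrum B) < q := lt_of_le_of_ne hrq (fun h => hnle (by rw [← h]))
  have hqm : q < IsLocalRing.closedPoint B :=
    lt_of_le_of_ne (IsLocalRing.le_maximalIdeal q.isPrime.ne_top)
      (fun h => hq (congrArg PrimeSpectrum.asIdeal h))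
  have hms : IsLocalRing.closedPoint B ∈ Module.support B M := by
    haveI : Nontrivial M := by
      rw [← Module.nonempty_support_iff (R := B)]
      exact ⟨q, hqs⟩
    exact IsLocalRing.closedPoint_mem_support B M
  let c : LTSeries (Module.support B M) :=
    ((RelSeries.singleton _ (⟨_, hms⟩ : Module.support B M)).cons
      (⟨q, hqs⟩ : Module.support B M) (by exact hqm)).cons (⟨⟨r, hr⟩, hrs⟩ : Module.support B M)
      (by exact hlt)
  have hlen : c.length = 2 := by simp [c]
  have := Order.LTSeries.length_le_krullDim c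
  rw [hlen] at this
  have h2 : ((2 : ℕ) : WithBot ℕ∞) ≤ 1 := this.trans h1
  exact absurd h2 (by decide)

variable (t : B)

theorem supportDim_quot_le (hfin : Module.length B (M ⧸ (Ideal.span {t} • (⊤ : Submodule B M))) ≠ ⊤) :
    Module.supportDim B (M ⧸ t • (⊤ : Submodule B M)) ≤ 0 := by
  rw [Submodule.ideal_span_singleton_smul, Module.length_ne_top_iff,
    Groth.Agent.H1.HerbSmul.isFiniteLength_iff_supportDim_le_zero] at hfin
  exact hfin

theorem supportDim_le_one (ht : t ∈ IsLocalRing.maximalIdeal B)
    (hfin : Module.length B (M ⧸ (Ideal.span {t} • (⊤ : Submodule B M))) ≠ ⊤) :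
    Module.supportDim B M ≤ 1 := by
  have h0 := supportDim_quot_le M t hfin
  have h := Module.supportDim_le_supportDim_quotSMulTop_succ (M := M) ht
  calc Module.supportDim B M ≤ Module.supportDim B (QuotSMulTop t M) + 1 := h
    _ ≤ 0 + 1 := by gcongr
    _ = 1 := by simp

/-- the multiplicity formula in terms of the minimal primes of the support. -/
theorem length_quot_eq (ht : t ∈ IsLocalRing.maximalIdeal B)
    (hdim : 0 < Module.supportDim B M)
    (hfin : Module.length B (M ⧸ (Ideal.span {t} • (⊤ : Submodule B M))) ≠ ⊤) :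
    Module.length B (M ⧸ (Ideal.span {t} • (⊤ : Submodule B M))) =
      Module.length B (LinearMap.ker (LinearMap.lsmul B M t)) +
      ∑ᶠ p : (Module.annihilator B M).minimalPrimes,
        haveI : p.1.IsPrime := p.2.1.1
        Ring.ord (B ⧸ p.1) (Ideal.Quotient.mk p.1 t) *
          Module.length (Localization.AtPrime p.1) (LocalizedModule p.1.primeCompl M) := by
  classical
  have h1 := supportDim_le_one M t ht hfin
  have h0 := supportDim_quot_le M t hfin
  have key := Groth.Agent.S1833.result B M t h1 h0
  rw [Submodule.ideal_span_singleton_smul, key]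
  congr 1
  rw [← finsum_mem_univ]
  rw [finsum_mem_inter_support_eq' _ Set.univ (Set.range (emb' M))]
  · rw [finsum_mem_range (emb'_injective M)]
    apply finsum_congr
    intro p
    haveI : p.1.IsPrime := p.2.1.1
    rw [finsum_eq_if, if_pos ⟨emb'_mem_support M p, ne_maximalIdeal_of_mem M hdim p.1 p.2⟩]
    rfl
  · intro q hq
    simp only [Set.mem_univ, true_iff]
    rw [Function.mem_support, finsum_eq_if] at hq
    split_ifs at hq with hc
    · exact ⟨⟨q.asIdeal, mem_minimalPrimes_of_ne M h1 q hc.1 hc.2⟩, rfl⟩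
    · exact absurd rfl hq

/-- **S12132** -/
theorem main (ht : t ∈ IsLocalRing.maximalIdeal B)
    (hdim : 0 < Module.supportDim B M)
    (hfin : Module.length B (M ⧸ (Ideal.span {t} • (⊤ : Submodule B M))) ≠ ⊤) :
    (∑ᶠ p : (Module.annihilator B M).minimalPrimes,
        haveI : p.1.IsPrime := p.2.1.1
        Module.length (Localization.AtPrime p.1) (LocalizedModule p.1.primeCompl M)) ≤
      Module.length B (M ⧸ (Ideal.span {t} • (⊤ : Submodule B M))) ∧
    ((∑ᶠ p : (Module.annihilator B M).minimalPrimes,
        haveI : p.1.IsPrime := p.2.1.1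
        Module.length (Localization.AtPrime p.1) (LocalizedModule p.1.primeCompl M)) =
      Module.length B (M ⧸ (Ideal.span {t} • (⊤ : Submodule B M))) ↔
    IsSMulRegular M t ∧
      ∀ p : (Module.annihilator B M).minimalPrimes,
        Ideal.map (Ideal.Quotient.mk p.1) (IsLocalRing.maximalIdeal B) =
          Ideal.span {Ideal.Quotient.mk p.1 t}) := by
  classical
  have hlt : Module.length B (M ⧸ (Ideal.span {t} • (⊤ : Submodule B M))) < ⊤ :=
    lt_top_iff_ne_top.mpr hfin
  rw [length_quot_eq M t ht hdim hfin] at hlt ⊢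
  haveI : Finite (Module.annihilator B M).minimalPrimes :=
    (Ideal.finite_minimalPrimes_of_isNoetherianRing B _).to_subtype
  letI := Fintype.ofFinite (Module.annihilator B M).minimalPrimes
  rw [finsum_eq_sum_of_fintype, finsum_eq_sum_of_fintype] at *
  set k := Module.length B (LinearMap.ker (LinearMap.lsmul B M t)) with hk
  let a : (Module.annihilator B M).minimalPrimes → ℕ∞ := fun p =>
    haveI : p.1.IsPrime := p.2.1.1
    Module.length (Localization.AtPrime p.1) (LocalizedModule p.1.primeCompl M)
  let c : (Module.annihilator B M).minimalPrimes → ℕ∞ := fun p =>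
    haveI : p.1.IsPrime := p.2.1.1
    Ring.ord (B ⧸ p.1) (Ideal.Quotient.mk p.1 t)
  change k + ∑ p, c p * a p < ⊤ at hlt
  change ∑ p, a p ≤ k + ∑ p, c p * a p ∧ (∑ p, a p = k + ∑ p, c p * a p ↔ _)
  have hc1 : ∀ p, 1 ≤ c p := fun p => by
    haveI : p.1.IsPrime := p.2.1.1
    exact one_le_ord t ht p.1
  have hle : ∀ p, a p ≤ c p * a p := fun p => le_mul_of_one_le_left' (hc1 p)
  refine ⟨le_trans (Finset.sum_le_sum (fun p _ => hle p)) le_add_self, ?_⟩
  rw [sum_eq_iff a c k hc1 hlt, length_ker_eq_zero_iff t M]
  refine and_congr Iff.rfl (forall_congr' ?_)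
  intro p
  haveI : p.1.IsPrime := p.2.1.1
  have hsfin : ∑ p, c p * a p < ⊤ := (ENat.add_lt_top.mp hlt).2
  have hcafin : c p * a p < ⊤ :=
    lt_of_le_of_lt (Finset.single_le_sum (f := fun p => c p * a p) (fun _ _ => zero_le)
      (Finset.mem_univ p)) hsfin
  have ha0 : a p ≠ 0 := by
    change Module.length (Localization.AtPrime p.1) (LocalizedModule p.1.primeCompl M) ≠ 0
    rw [Ne, Module.length_eq_zero_iff, not_subsingleton_iff_nontrivial]
    have := emb'_mem_support M p
    rw [Module.mem_support_iff] at this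
    exact this
  rw [term_eq_iff (a p) (c p) (hc1 p) hcafin ha0]
  exact ord_eq_one_iff t ht p.1

end Groth.Agent.H2.Mult6
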