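import Mathlib
import Groth.Agent.Lib.Helper3.PCoh.Inf2

/-! # Finite free resolutions of complexes with finitely generated cohomology (Noetherian ring)

`exists_finite_free_quasiIso`: over a Noetherian ring `A`, a cochain complex `C` of `A`-modules with
finitely generated cohomology, vanishing in degrees `≥ m`, receives a quasi-isomorphism from a
complex of finite free modules which is zero in degrees `≥ m`. Built on helper3's `PCohLib`. -/

set_option autoImplicit false
set_option linter.style.haveILetI false
universe u

open CategoryTheory CategoryTheory.Limits HomologicalComplex CochainComplex ZeroObject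

namespace Groth.Agent.H2.Mum

variable (A : Type u) [CommRing A]

/-- finite free modules. -/
def PFF : ObjectProperty (ModuleCat.{u} A) := fun M => Module.Finite A M ∧ Module.Free A M

instance : (PFF A).IsClosedUnderIsomorphisms where
  of_iso {X Y} e h := by
    obtain ⟨h1, h2⟩ := h
    exact ⟨Module.Finite.equiv e.toLinearEquiv, Module.Free.of_equiv e.toLinearEquiv⟩

instance : (PFF A).ContainsZero where
  exists_zero := ⟨ModuleCat.of A PUnit.{u + 1}, ModuleCat.isZero_of_subsingleton _,
    ⟨inferInstanceAs (Module.Finite A PUnit.{u + 1}),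
      inferInstanceAs (Module.Free A PUnit.{u + 1})⟩⟩

theorem PFF_sum (X Y : ModuleCat.{u} A) (hX : PFF A X) (hY : PFF A Y) : PFF A (X ⨯ Y) := by
  obtain ⟨h1, h2⟩ := hX
  obtain ⟨h3, h4⟩ := hY
  have e : ModuleCat.of A (X × Y) ≅ X ⨯ Y :=
    (ModuleCat.biprodIsoProd X Y).symm ≪≫ biprod.isoProd X Y
  refine (PFF A).prop_of_iso e ?_
  exact ⟨inferInstanceAs (Module.Finite A (X × Y)), inferInstanceAs (Module.Free A (X × Y))⟩

theorem PFF_quasiLiftable : PCoh.IsQuasiLiftable (PFF A) := by
  intro E F u hu hF
  obtain ⟨h1, h2⟩ := hF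
  haveI : Module.Projective A F := Module.Projective.of_free
  haveI : Projective F := ModuleCat.projective_of_categoryTheory_projective F
  refine ⟨F, Projective.factorThru (𝟙 F) u, ⟨h1, h2⟩, ?_⟩
  rw [Projective.factorThru_comp]
  infer_instance

variable {A}

theorem isOfFiniteType_of_finite (M : ModuleCat.{u} A) [Module.Finite A M] :
    PCoh.IsOfFiniteType (PFF A) M := by
  obtain ⟨n, f, hf⟩ := Module.Finite.exists_fin' A M
  refine ⟨ModuleCat.of A (Fin n → A), ModuleCat.ofHom f,
    ⟨inferInstanceAs (Module.Finite A (Fin n → A)), inferInstanceAs (Module.Free A (Fin n → A))⟩, ?_⟩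
  rw [ModuleCat.epi_iff_surjective]
  exact hf

variable [IsNoetherianRing A]

theorem PFF_quasiStable : PCoh.IsQuasiStableUnderKernels (PFF A) := by
  intro K hex _ hP
  have h0 := hex 0
  rw [K.exactAt_iff' 0 0 1 (by simp) (by simp)] at h0
  have hf : (K.sc' 0 0 1).f = 0 := K.shape _ _ (by simp)
  have hmono : Mono (K.d 0 1) := (ShortComplex.exact_iff_mono _ hf).1 h0
  rw [ModuleCat.mono_iff_injective] at hmono
  obtain ⟨h1, h2⟩ := hP 1 le_rfl
  haveI : Module.Finite A (K.X 0) := Module.Finite.of_injective (K.d 0 1).hom hmono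
  exact isOfFiniteType_of_finite _

/-- the cohomology of a complex with finitely generated terms is finitely generated. -/
theorem finite_homology_of_finite_X (G : CochainComplex (ModuleCat.{u} A) ℤ) (i : ℤ)
    [Module.Finite A (G.X i)] : Module.Finite A (G.homology i) := by
  have h1 : Function.Injective (G.iCycles i).hom :=
    (ModuleCat.mono_iff_injective _).1 inferInstance
  have h2 : Function.Surjective (G.homologyπ i).hom :=
    (ModuleCat.epi_iff_surjective _).1 inferInstance
  haveI : Module.Finite A (G.cycles i) := Module.Finite.of_injective (G.iCycles i).hom h1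
  exact Module.Finite.of_surjective (G.homologyπ i).hom h2

/-- finiteness of the cohomology of the cone. -/
theorem finite_homology_mappingCone {G C : CochainComplex (ModuleCat.{u} A) ℤ} (v : G ⟶ C)
    (m : ℤ) [Module.Finite A (C.homology m)] [Module.Finite A (G.X (m + 1))] :
    Module.Finite A ((mappingCone v).homology m) := by
  letI := HasDerivedCategory.standard (ModuleCat.{u} A)
  have hT : DerivedCategory.Q.mapTriangle.obj (mappingCone.triangle v) ∈
      Pretriangulated.distinguishedTriangles := by
    rw [DerivedCategory.mem_distTriang_iff]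
    exact ⟨_, _, v, ⟨Iso.refl _⟩⟩
  have e3 := CochainComplex.homologyMap_exact₃_of_distTriang _ hT m (m + 1) rfl
  rw [ShortComplex.ShortExact.moduleCat_exact_iff_function_exact] at e3
  haveI := finite_homology_of_finite_X G (m + 1)
  have n1 : IsNoetherian A (C.homology m) := isNoetherian_of_isNoetherianRing_of_finite A _
  have n2 : IsNoetherian A (G.homology (m + 1)) := isNoetherian_of_isNoetherianRing_of_finite A _
  have hN : IsNoetherian A ((mappingCone v).homology m) := by
    haveI := n1
    haveI := n2
    let f' : C.homology m ⟶ (mappingCone v).homology m := homologyMap (mappingCone.inr v) m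
    let g' : (mappingCone v).homology m ⟶ G.homology (m + 1) :=
      homologyδOfTriangle (mappingCone.triangle v) m (m + 1) rfl
    have e3' : Function.Exact f'.hom g'.hom := e3
    exact isNoetherian_of_range_eq_ker f'.hom g'.hom (LinearMap.exact_iff.1 e3').symm
  exact Module.IsNoetherian.finite A _

/-- descending induction building strictly perfect approximations. -/
theorem approx_aux (C : CochainComplex (ModuleCat.{u} A) ℤ)
    (hfin : ∀ i, Module.Finite A (C.homology i)) (b : ℤ)
    (hCz : ∀ i, b < i → IsZero (C.homology i)) :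
    ∀ (k : ℕ) (m : ℤ), m = b + 1 - k →
      ∃ (G : CochainComplex (ModuleCat.{u} A) ℤ) (v : G ⟶ C), (∀ i, PFF A (G.X i)) ∧
        (∀ i, b < i → IsZero (G.X i)) ∧
        (∀ i, i < m → IsZero (G.X i)) ∧ (∀ i, m < i → IsIso (homologyMap v i)) ∧
        Epi (homologyMap v m) := by
  intro k
  induction k with
  | zero =>
    intro m hm
    have hz : ∀ i, IsZero ((0 : CochainComplex (ModuleCat.{u} A) ℤ).X i) := fun i =>
      Functor.map_isZero (HomologicalComplex.eval _ (ComplexShape.up ℤ) i) (isZero_zero _)
    refine ⟨0, 0, fun i => (PFF A).prop_of_isZero (hz i), fun i _ => hz i, fun i _ => hz i, ?_, ?_⟩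
    · intro i hi
      have h1 : IsZero ((0 : CochainComplex (ModuleCat.{u} A) ℤ).homology i) :=
        Groth.Agent.H3.PCohLib.isZero_homology_of_isZero_X _ i (hz i)
      have h2 := hCz i (by simp at hm; omega)
      exact ⟨0, h1.eq_of_src _ _, h2.eq_of_src _ _⟩
    · exact IsZero.epi (hCz m (by simp at hm; omega)) _
  | succ k ih =>
    intro m hm
    obtain ⟨G, v, hGP, hGb, hGm, hiso, hepi⟩ := ih (m + 1) (by push_cast at hm; omega)
    haveI := hfin m
    haveI := (hGP (m + 1)).1
    haveI := finite_homology_mappingCone v m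
    have hcone : PCoh.IsOfFiniteType (PFF A) ((mappingCone v).homology m) :=
      isOfFiniteType_of_finite _
    obtain ⟨G', w, v', hwv, hwmono, hwiso, hcok, hiso', hepi'⟩ :=
      Groth.Agent.H3.PCohLib.modification (PFF A) (PFF_quasiLiftable A) m G C v hiso hepi hcone
    have hmb : m ≤ b := by push_cast at hm; omega
    refine ⟨G', v', ?_, ?_, ?_, hiso', hepi'⟩
    · intro i
      by_cases hi : i = m
      · subst hi
        have h0 : w.f i = 0 := (hGm i (by omega)).eq_of_src _ _
        have := cokernel.π_of_zero h0
        exact (PFF A).prop_of_iso (asIso (cokernel.π (w.f i))).symm hcok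
      · have := hwiso i hi
        exact (PFF A).prop_of_iso (asIso (w.f i)) (hGP i)
    · intro i hi
      have := hwiso i (by omega)
      exact IsZero.of_iso (hGb i hi) (asIso (w.f i)).symm
    · intro i hi
      have := hwiso i (by omega)
      exact IsZero.of_iso (hGm i (by omega)) (asIso (w.f i)).symm

/-- **finite free resolution** of a complex with finitely generated cohomology. -/
theorem exists_finite_free_quasiIso (C : CochainComplex (ModuleCat.{u} A) ℤ)
    (hfin : ∀ i, Module.Finite A (C.homology i)) (m : ℤ)
    (hm : ∀ i, m ≤ i → IsZero (C.homology i)) :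
    ∃ (L : CochainComplex (ModuleCat.{u} A) ℤ) (v : L ⟶ C),
      (∀ i, Module.Finite A (L.X i) ∧ Module.Free A (L.X i)) ∧
      (∀ i, m ≤ i → IsZero (L.X i)) ∧ QuasiIso v := by
  letI := HasDerivedCategory.standard (ModuleCat.{u} A)
  have hX : PCoh.IsPC (PFF A) (DerivedCategory.Q.obj C) := by
    have key : ∀ n : ℤ, n ≤ m →
        Groth.Agent.H3.PCohLib.IsNPC (PFF A) n (DerivedCategory.Q.obj C) := by
      intro n hn
      obtain ⟨G, v, hGP, hGb, -, hiso, hepi⟩ :=
        approx_aux C hfin (m - 1) (fun i hi => hm i (by omega)) (m - n).toNat n (by omega)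
      exact Groth.Agent.H3.PCohLib.isNPC_of_nQuasiIso (PFF A) n
        ⟨⟨m - 1, hGb⟩, fun i _ => hGP i⟩ v hiso hepi
    intro n
    by_cases hn : n ≤ m
    · exact key n hn
    · exact (key m le_rfl).mono (by omega)
  obtain ⟨E', v, hE', hz, hv⟩ := Groth.Agent.H3.PCohLib.exists_strictPCAll_quasiIso (PFF A)
    (PFF_sum A) PFF_quasiStable (PFF_quasiLiftable A) C hX m hm
  exact ⟨E', v, hE'.2, hz, hv⟩

end Groth.Agent.H2.Mum
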