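import Groth.Agent.Lib.Lead.QC.PullbackUnit
import Groth.Agent.Lib.Lead.QC.TensorQC
import Groth.Agent.Lib.Lead.QC.TensorTilde
import Groth.Agent.Lib.Lead.QC.TensorFormulas
import Groth.Agent.Lib.Lead.QC.FlatSpec
import Groth.Prelude.Def_ega3
import Groth.Prelude.Def_KoszTw

/-! # Sections of `f^*(M~) ⊗ F` over opens, as `A`-modules

For `X` over `Spec A`, an `O_X`-module `F` and an `A`-module `M`: the canonical `A`-linear map
`σ V : Γ(F, V) ⊗_A M → Γ(f^*(M~) ⊗ F, V)`, its compatibility with restriction and with maps in `M`,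
and its bijectivity over affine opens (for quasi-coherent `F`). -/

set_option autoImplicit false
set_option linter.style.haveILetI false
universe u

open CategoryTheory CategoryTheory.Limits AlgebraicGeometry Opposite TopologicalSpace TensorProduct

namespace Groth.Agent.H2.Mum

open Groth.Agent.LD.QC

variable (A : Type u) [CommRing A] {X : Scheme.{u}} [X.Over (Spec (CommRingCat.of A))]

/-- the structure ring map `A → Γ(X, V)`. -/
noncomputable def ρ (V : X.Opens) : A →+* Γ(X, V) :=
  ((X ↘ Spec (CommRingCat.of A)).appLE ⊤ V le_top).hom.comp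
    (Scheme.ΓSpecIso (CommRingCat.of A)).inv.hom

lemma ρ_res {V W : X.Opens} (h : W ≤ V) (a : A) :
    X.presheaf.map (homOfLE h).op (ρ A V a) = ρ A W a := by
  have := Scheme.Hom.appLE_map (X ↘ Spec (CommRingCat.of A)) (U := ⊤) (V := V) le_top
    (homOfLE h).op
  exact congr($this ((Scheme.ΓSpecIso (CommRingCat.of A)).inv.hom a))

/-- sections of an `O_X`-module over an open, as an `A`-module (type synonym). -/
@[nolint unusedArguments]
def SecA (A : Type u) {X : Scheme.{u}} (N : X.Modules) (V : X.Opens) : Type u :=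
  let _ := A
  Γ(N, V)

noncomputable instance (N : X.Modules) (V : X.Opens) : AddCommGroup (SecA A N V) :=
  inferInstanceAs (AddCommGroup Γ(N, V))

noncomputable instance (N : X.Modules) (V : X.Opens) : Module A (SecA A N V) :=
  Module.compHom Γ(N, V) (ρ A V)

lemma SecA.smul_def (N : X.Modules) (V : X.Opens) (a : A) (s : SecA A N V) :
    a • s = (show Γ(N, V) from (ρ A V a) • (show Γ(N, V) from s)) := rfl

/-- restriction of sections, `A`-linear. -/
noncomputable def resA (N : X.Modules) {V W : X.Opens} (h : W ≤ V) :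
    SecA A N V →ₗ[A] SecA A N W where
  toFun s := N.presheaf.map (homOfLE h).op (show Γ(N, V) from s)
  map_add' s t := map_add (N.presheaf.map (homOfLE h).op).hom _ _
  map_smul' a s := by
    change N.presheaf.map (homOfLE h).op ((ρ A V a) • (show Γ(N, V) from s)) =
      (ρ A W a) • N.presheaf.map (homOfLE h).op (show Γ(N, V) from s)
    rw [smul_res, ρ_res]

lemma resA_apply (N : X.Modules) {V W : X.Opens} (h : W ≤ V) (s : SecA A N V) :
    resA A N h s = N.presheaf.map (homOfLE h).op (show Γ(N, V) from s) := rfl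

/-- morphisms of modules act `A`-linearly on sections. -/
noncomputable def appA {N N' : X.Modules} (φ : N ⟶ N') (V : X.Opens) :
    SecA A N V →ₗ[A] SecA A N' V where
  toFun s := φ.app V (show Γ(N, V) from s)
  map_add' s t := map_add (φ.app V).hom _ _
  map_smul' a s := Scheme.Modules.Hom.app_smul φ (ρ A V a) (show Γ(N, V) from s)

lemma appA_apply {N N' : X.Modules} (φ : N ⟶ N') (V : X.Opens) (s : SecA A N V) :
    appA A φ V s = φ.app V (show Γ(N, V) from s) := rfl

lemma appA_resA {N N' : X.Modules} (φ : N ⟶ N') {V W : X.Opens} (h : W ≤ V) (s : SecA A N V) :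
    appA A φ W (resA A N h s) = resA A N' h (appA A φ V s) :=
  app_res φ h s

section sigma

variable (M : ModuleCat.{u} A)

/-- the pulled back module `f^*(M~)`. -/
noncomputable abbrev pbT : X.Modules :=
  (Scheme.Modules.pullback (X ↘ Spec (CommRingCat.of A))).obj (tilde (R := CommRingCat.of A) M)

lemma le_pre (V : X.Opens) :
    V ≤ (X ↘ Spec (CommRingCat.of A)) ⁻¹ᵁ (⊤ : (Spec (CommRingCat.of A)).Opens) :=
  fun _ _ => trivial

/-- `M ≃+ Γ(M~, ⊤)`. -/
noncomputable def topEquiv : M ≃+ Γ(tilde (R := CommRingCat.of A) M, ⊤) :=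
  (tilde.isoTop (R := CommRingCat.of A) M).toLinearEquiv.toAddEquiv

lemma topEquiv_smul (a : A) (m : M) :
    topEquiv A M (a • m) =
      ((Scheme.ΓSpecIso (CommRingCat.of A)).inv.hom a) • topEquiv A M m :=
  (tilde.isoTop (R := CommRingCat.of A) M).toLinearEquiv.map_smul a m

/-- the canonical map `M → Γ(f^*(M~), V)`. -/
noncomputable def μ (V : X.Opens) : M →ₗ[A] SecA A (pbT (X := X) A M) V where
  toFun m := pbSec (X ↘ Spec (CommRingCat.of A)) (tilde (R := CommRingCat.of A) M)
    (le_pre A V) (topEquiv A M m)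
  map_add' m m' := by
    rw [map_add, pbSec_add]
    rfl
  map_smul' a m := by
    rw [topEquiv_smul, pbSec_smul]
    rfl

lemma μ_res {V W : X.Opens} (h : W ≤ V) (m : M) :
    resA A (pbT A M) h (μ A M V m) = μ A M W m := by
  have := pbSec_res (X ↘ Spec (CommRingCat.of A)) (tilde (R := CommRingCat.of A) M)
    (le_pre A V) (le_pre A W) h (le_refl ⊤) (topEquiv A M m)
  rw [res_self] at this
  exact this.symm

/-- `g ⊗ s` as a section of the tensor product. -/
noncomputable def tm (G F : X.Modules) (V : X.Opens) (g : Γ(G, V)) (s : Γ(F, V)) :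
    Γ(CohB1.tensorMod G F, V) := tensorSec G F V (g ⊗ₜ[Γ(X, V)] s)

lemma tm_add_left (G F : X.Modules) (V : X.Opens) (g g' : Γ(G, V)) (s : Γ(F, V)) :
    tm G F V (g + g') s = tm G F V g s + tm G F V g' s := by
  unfold tm
  rw [add_tmul, map_add]

lemma tm_add_right (G F : X.Modules) (V : X.Opens) (g : Γ(G, V)) (s s' : Γ(F, V)) :
    tm G F V g (s + s') = tm G F V g s + tm G F V g s' := by
  unfold tm
  rw [tmul_add, map_add]

lemma tm_smul_left (G F : X.Modules) (V : X.Opens) (r : Γ(X, V)) (g : Γ(G, V)) (s : Γ(F, V)) :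
    tm G F V (r • g) s = r • tm G F V g s := by
  unfold tm
  rw [← smul_tmul', map_smul]

lemma tm_smul_right (G F : X.Modules) (V : X.Opens) (r : Γ(X, V)) (g : Γ(G, V)) (s : Γ(F, V)) :
    tm G F V g (r • s) = r • tm G F V g s := by
  unfold tm
  rw [tmul_smul, map_smul]

lemma tm_res (G F : X.Modules) {V W : X.Opens} (h : W ≤ V) (g : Γ(G, V)) (s : Γ(F, V)) :
    (CohB1.tensorMod G F).presheaf.map (homOfLE h).op (tm G F V g s) =
      tm G F W (G.presheaf.map (homOfLE h).op g) (F.presheaf.map (homOfLE h).op s) := by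
  unfold tm
  rw [tensorSec_res, tensorRes_tmul]

/-- the canonical `A`-linear map `Γ(F, V) ⊗_A M → Γ(f^*(M~) ⊗ F, V)`. -/
noncomputable def σ (F : X.Modules) (V : X.Opens) :
    SecA A F V ⊗[A] M →ₗ[A] SecA A (CohB1.tensorMod (pbT A M) F) V :=
  TensorProduct.lift (LinearMap.mk₂ A
    (fun (s : SecA A F V) (m : M) =>
      (show SecA A (CohB1.tensorMod (pbT A M) F) V from
        tm (pbT A M) F V (show Γ(pbT A M, V) from μ A M V m) (show Γ(F, V) from s)))
    (fun s s' m => tm_add_right _ _ _ _ _ _)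
    (fun a s m => tm_smul_right _ _ _ _ _ _)
    (fun s m m' => by
      change tm _ _ _ (show Γ(pbT A M, V) from μ A M V (m + m')) _ = _
      rw [map_add]
      exact tm_add_left _ _ _ _ _ _)
    (fun a s m => by
      change tm _ _ _ (show Γ(pbT A M, V) from μ A M V (a • m)) _ = _
      rw [map_smul]
      exact tm_smul_left _ _ _ _ _ _))

lemma σ_tmul (F : X.Modules) (V : X.Opens) (s : SecA A F V) (m : M) :
    σ A M F V (s ⊗ₜ m) =
      tm (pbT A M) F V (show Γ(pbT A M, V) from μ A M V m) (show Γ(F, V) from s) := rfl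

/-- compatibility of `σ` with restriction. -/
lemma σ_res (F : X.Modules) {V W : X.Opens} (h : W ≤ V) (z : SecA A F V ⊗[A] M) :
    resA A (CohB1.tensorMod (pbT A M) F) h (σ A M F V z) =
      σ A M F W (LinearMap.rTensor M (resA A F h) z) := by
  induction z using TensorProduct.induction_on with
  | zero => simp
  | tmul s m =>
    rw [LinearMap.rTensor_tmul, σ_tmul, σ_tmul, resA_apply]
    refine (tm_res _ _ h _ _).trans ?_
    congr 1
    exact μ_res A M h m
  | add a b ha hb => rw [map_add, map_add, map_add, map_add, ha, hb]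

end sigma

end Groth.Agent.H2.Mum

namespace Groth.Agent.H2.Mum

section alg

variable {B R S N₀ P : Type*} [CommRing B] [CommRing R] [Algebra B R] [AddCommGroup S]
  [Module B S] [Module R S] [IsScalarTower B R S] [AddCommGroup N₀] [Module B N₀]
  [AddCommGroup P] [Module B P] [Module R P] [IsScalarTower B R P]

/-- for a base change `h : N₀ → P` along `B → R`: `S ⊗_B N₀ ≃ P ⊗_R S`. -/
noncomputable def swapEquiv (h : N₀ →ₗ[B] P) (hbc : IsBaseChange R h) :
    S ⊗[B] N₀ ≃+ P ⊗[R] S :=
  ((TensorProduct.AlgebraTensorModule.cancelBaseChange B R R S N₀).symm ≪≫ₗ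
    TensorProduct.congr (LinearEquiv.refl R S) hbc.equiv ≪≫ₗ
      TensorProduct.comm R S P).toAddEquiv

lemma swapEquiv_tmul (h : N₀ →ₗ[B] P) (hbc : IsBaseChange R h) (s : S) (n : N₀) :
    swapEquiv (S := S) h hbc (s ⊗ₜ n) = h n ⊗ₜ s := by
  change TensorProduct.comm R S P (TensorProduct.congr (LinearEquiv.refl R S) hbc.equiv
    ((TensorProduct.AlgebraTensorModule.cancelBaseChange B R R S N₀).symm (s ⊗ₜ n))) = _
  rw [TensorProduct.AlgebraTensorModule.cancelBaseChange_symm_tmul, TensorProduct.congr_tmul,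
    IsBaseChange.equiv_tmul, one_smul, TensorProduct.comm_tmul]
  rfl

end alg

section bij

open Groth.Agent.LD.QC

variable (A : Type u) [CommRing A] {X : Scheme.{u}} [X.Over (Spec (CommRingCat.of A))]
  (M : ModuleCat.{u} A)

/-- over an affine open, `σ` is bijective (for quasi-coherent `F`). -/
theorem σ_bijective (F : X.Modules) [F.IsQuasicoherent] {V : X.Opens} (hV : IsAffineOpen V) :
    Function.Bijective (σ A M F V) := by
  let e := le_pre (X := X) A V
  letI : Algebra Γ(Spec (CommRingCat.of A), ⊤) Γ(X, V) :=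
    ((X ↘ Spec (CommRingCat.of A)).appLE ⊤ V e).hom.toAlgebra
  letI : Module Γ(Spec (CommRingCat.of A), ⊤) Γ(pbT (X := X) A M, V) :=
    pbModule (X ↘ Spec (CommRingCat.of A)) (tilde (R := CommRingCat.of A) M) e
  haveI := pbModule_isScalarTower (X ↘ Spec (CommRingCat.of A)) (tilde (R := CommRingCat.of A) M) e
  letI : Module Γ(Spec (CommRingCat.of A), ⊤) Γ(F, V) :=
    sectionsModuleOver (X ↘ Spec (CommRingCat.of A)) F e
  haveI : IsScalarTower Γ(Spec (CommRingCat.of A), ⊤) Γ(X, V) Γ(F, V) := ⟨fun a b m => by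
    change ((X ↘ Spec (CommRingCat.of A)).appLE ⊤ V e a * b) • m =
      (X ↘ Spec (CommRingCat.of A)).appLE ⊤ V e a • (b • m)
    rw [mul_smul]⟩
  have hbc := isBaseChange_pbSec (X ↘ Spec (CommRingCat.of A)) hV
    (isAffineOpen_top (Spec (CommRingCat.of A))) e (tilde (R := CommRingCat.of A) M)
  haveI : (pbT (X := X) A M).IsQuasicoherent :=
    qc_pullback (X ↘ Spec (CommRingCat.of A)) (tilde (R := CommRingCat.of A) M)
  have hφ : Function.Surjective (Scheme.ΓSpecIso (CommRingCat.of A)).inv.hom :=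
    ((ConcreteCategory.isIso_iff_bijective (Scheme.ΓSpecIso (CommRingCat.of A)).inv).mp
      inferInstance).2
  let eS : SecA A F V ≃+ Γ(F, V) := AddEquiv.refl _
  obtain ⟨e₁, he₁, -⟩ := exists_tensor_equiv_of_surjective
    (Scheme.ΓSpecIso (CommRingCat.of A)).inv.hom hφ eS (fun a s => rfl)
    (topEquiv A M) (topEquiv_smul A M)
  let Φ : SecA A F V ⊗[A] M ≃+ Γ(CohB1.tensorMod (pbT A M) F, V) :=
    e₁.trans ((swapEquiv (S := Γ(F, V)) (pbSecₗ (X ↘ Spec (CommRingCat.of A))
      (tilde (R := CommRingCat.of A) M) e) hbc).trans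
        (tensorSecEquiv (pbT A M) F hV).toAddEquiv)
  have key : ∀ z, σ A M F V z = Φ z := by
    intro z
    induction z using TensorProduct.induction_on with
    | zero =>
      rw [map_zero, map_zero]
      rfl
    | tmul s m =>
      change _ = (tensorSecEquiv (pbT A M) F hV) (swapEquiv _ hbc (e₁ (s ⊗ₜ m)))
      rw [he₁, swapEquiv_tmul]
      rfl
    | add a b ha hb =>
      rw [map_add, map_add, ha, hb]
      rfl
  have : (σ A M F V : _ → _) = Φ := funext key
  rw [this]
  exact Φ.bijective

end bij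

end Groth.Agent.H2.Mum
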