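import Groth.Agent.Lib.Helper2.MumC

/-! # Naturality of `σ` in the module `M`, and the functor `tensorAFunctor` on objects/morphisms -/

set_option autoImplicit false
set_option linter.style.haveILetI false
universe u

open CategoryTheory CategoryTheory.Limits AlgebraicGeometry Opposite TopologicalSpace TensorProduct

namespace Groth.Agent.H2.Mum

open Groth.Agent.LD.QC

variable (A : Type u) [CommRing A] {X : Scheme.{u}} [X.Over (Spec (CommRingCat.of A))]
  {M M' : ModuleCat.{u} A}

/-- the map `f^*(M~) ⟶ f^*(M'~)` induced by `h : M ⟶ M'`. -/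
noncomputable abbrev pbTmap (h : M ⟶ M') : pbT (X := X) A M ⟶ pbT A M' :=
  (Scheme.Modules.pullback (X ↘ Spec (CommRingCat.of A))).map
    (tilde.map (R := CommRingCat.of A) h)

lemma topEquiv_map (h : M ⟶ M') (m : M) :
    (tilde.map (R := CommRingCat.of A) h).app ⊤ (topEquiv A M m) = topEquiv A M' (h m) := by
  have := tilde.toOpen_map_app (R := CommRingCat.of A) h ⊤
  exact congr($this m)

lemma μ_map (h : M ⟶ M') (V : X.Opens) (m : M) :
    appA A (pbTmap (X := X) A h) V (μ A M V m) = μ A M' V (h m) := by
  change ((Scheme.Modules.pullback (X ↘ Spec (CommRingCat.of A))).map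
    (tilde.map (R := CommRingCat.of A) h)).app V (pbSec _ _ (le_pre A V) (topEquiv A M m)) =
      pbSec _ _ (le_pre A V) (topEquiv A M' (h m))
  rw [pbSec_naturality, topEquiv_map]

/-- naturality of `σ` in `M`. -/
lemma σ_map (F : X.Modules) (V : X.Opens) (h : M ⟶ M') (z : SecA A F V ⊗[A] M) :
    appA A (KoszTw.tensorMap (pbTmap (X := X) A h) (𝟙 F)) V (σ A M F V z) =
      σ A M' F V (LinearMap.lTensor (SecA A F V) h.hom z) := by
  induction z using TensorProduct.induction_on with
  | zero => simp
  | tmul s m =>
    rw [LinearMap.lTensor_tmul, σ_tmul, σ_tmul, appA_apply]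
    have := KoszTw.tensorMap_tmul (pbTmap (X := X) A h) (𝟙 F) V
      (show Γ(pbT A M, V) from μ A M V m) (show Γ(F, V) from s)
    refine this.trans ?_
    change tm _ _ _ _ _ = _
    congr 1
    exact μ_map A h V m
  | add a b ha hb => rw [map_add, map_add, map_add, map_add, ha, hb]

end Groth.Agent.H2.Mum
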