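import Groth.Agent.Lib.Helper2.MumR

/-! # The Mumford complex together with its comparison data, II (also a quasi-isomorphism) -/

set_option autoImplicit false
set_option linter.style.haveILetI false
universe u

open CategoryTheory CategoryTheory.Limits AlgebraicGeometry Opposite TopologicalSpace TensorProduct

namespace Groth.Agent.H2.Mum

open Groth.Agent.LD Groth.Agent.LD.QC

/-- **Existence of the Mumford complex**, with all the comparison data: a finite affine cover with
affine intersections, and a universally quasi-isomorphic map from a bounded above complex of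
finite free modules to the (extended) Čech complex. -/
theorem exists_resolution' (A : Type u) [CommRing A] [IsNoetherianRing A] (X : Scheme.{u})
    [X.Over (Spec (CommRingCat.of A))] [IsProper (X ↘ Spec (CommRingCat.of A))]
    (F : X.Modules) (hF : Coh.IsCoh F)
    (hfl : FlatMod.IsFlatOver (X ↘ Spec (CommRingCat.of A)) F) :
    ∃ (ι : Type u) (_ : Finite ι) (U : ι → X.Opens)
      (_ : ∀ (n : ℕ) (a : Fin (n + 1) → ι), IsAffineOpen (⨅ k, U (a k))) (_ : iSup U = ⊤)
      (L : CochainComplex (ModuleCat.{u} A) ℤ) (v : L ⟶ CZ A U F),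
      (∀ i, Module.Finite A (L.X i) ∧ Module.Free A (L.X i)) ∧
      (∃ b : ℤ, ∀ i, b < i → IsZero (L.X i)) ∧ QuasiIso v ∧
      ∀ M : ModuleCat.{u} A, QuasiIso
        (((MonoidalCategory.tensorRight M).mapHomologicalComplex (ComplexShape.up ℤ)).map v) := by
  haveI : F.IsQuasicoherent := hF.1
  haveI : CompactSpace X :=
    QuasiCompact.compactSpace_of_compactSpace (X ↘ Spec (CommRingCat.of A))
  haveI : QuasiSeparatedSpace X :=
    quasiSeparatedSpace_of_quasiSeparated (X ↘ Spec (CommRingCat.of A))
  obtain ⟨ι, hfin, U, hUaff, hU⟩ := exists_finite_affine_cover X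
  haveI := hfin
  have haff : ∀ (n : ℕ) (a : Fin (n + 1) → ι), IsAffineOpen (⨅ k, U (a k)) :=
    fun n a => isAffineOpen_iInf_of_isSeparated A U hUaff n a
  obtain ⟨d, hd⟩ := SC.exists_cohDim_of_qcqs X
  have hfinH : ∀ i : ℤ, Module.Finite A ((CZ A U F).homology i) := by
    intro i
    by_cases hi : i < 0
    · have hz : IsZero ((CZ A U F).homology i) :=
        (HomologicalComplex.exactAt_iff_isZero_homology _ _).1 (CZ_exactAt_neg A U F i hi)
      haveI : Subsingleton ((CZ A U F).homology i : ModuleCat.{u} A) :=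
        ModuleCat.subsingleton_of_isZero hz
      infer_instance
    · obtain ⟨j, rfl⟩ : ∃ j : ℕ, i = (j : ℤ) := ⟨i.toNat, by omega⟩
      haveI := Groth.Agent.S0002.result A X F hF j
      exact Module.Finite.equiv (hCZ A U F haff hU j).symm
  have hvan : ∀ i : ℤ, (d : ℤ) ≤ i → IsZero ((CZ A U F).homology i) := by
    intro i hi
    obtain ⟨j, rfl⟩ : ∃ j : ℕ, i = (j : ℤ) := ⟨i.toNat, by omega⟩
    haveI := hd F inferInstance j (by omega)
    haveI : Subsingleton ((CZ A U F).homology (j : ℤ) : ModuleCat.{u} A) :=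
      (hCZ A U F haff hU j).toEquiv.subsingleton
    exact ModuleCat.isZero_of_subsingleton _
  obtain ⟨L, v, hL, hLb, hv⟩ := exists_finite_free_quasiIso (CZ A U F) hfinH (d : ℤ) hvan
  haveI := hv
  have hLflat : ∀ i, Module.Flat A (L.X i) := fun i => by
    haveI := (hL i).1
    haveI := (hL i).2
    infer_instance
  have hq : ∀ M : ModuleCat.{u} A, QuasiIso
      (((MonoidalCategory.tensorRight M).mapHomologicalComplex (ComplexShape.up ℤ)).map v) :=
    fun M => quasiIso_tensor_of_univ L (CZ A U F) hLflat
      (flat_CZ A U F hfl (hW_of_haff U haff)) ⟨(d : ℤ) - 1, fun i hi => hLb i (by omega)⟩ v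
      ((d : ℤ) - 1)
      (fun M n hn => exactAt_tensor_of_vanish A U F haff hU d hd M n (by omega)) M
  exact ⟨ι, hfin, U, haff, hU, L, v, hL, ⟨(d : ℤ) - 1, fun i hi => hLb i (by omega)⟩, hv, hq⟩

end Groth.Agent.H2.Mum
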