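import Groth.Agent.Lib.Helper2.RpB5
import Groth.Agent.Lib.Helper2.MumT

/-!
# The Mumford complex: homology and vanishing in negative degrees (helper2)
-/

set_option autoImplicit false
set_option linter.style.haveILetI false
universe u

open CategoryTheory CategoryTheory.Limits AlgebraicGeometry Opposite TopologicalSpace

namespace Groth.Agent.H2.Mum

open Groth.Agent.LD Groth.Agent.LD.QC

variable (A : Type u) [CommRing A] {X : Scheme.{u}} [X.Over (Spec (CommRingCat.of A))]
  (F : X.Modules) {ι : Type u} (U : ι → X.Opens)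
  (L : CochainComplex (ModuleCat.{u} A) ℤ) (v : L ⟶ CZ A U F)

/-- the extended Čech complex tensored with a module is exact in negative degrees. -/
lemma exactAt_tensorObj_CZ_neg (M : ModuleCat.{u} A) (p : ℤ) (hp : p < 0) :
    (CohIII.tensorObj (CZ A U F) M).ExactAt p := by
  have hz : IsZero ((CZ A U F).X p) :=
    (CA A U F).isZero_extend_X eN p (fun j hj => by
      have : ((j : ℕ) : ℤ) = p := hj
      omega)
  have hz' : IsZero ((CohIII.tensorObj (CZ A U F) M).X p) :=
    (MonoidalCategory.tensorRight M).map_isZero hz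
  exact ShortComplex.exact_of_isZero_X₂ _ hz'

variable (hq : ∀ M : ModuleCat.{u} A, QuasiIso
    (((MonoidalCategory.tensorRight M).mapHomologicalComplex (ComplexShape.up ℤ)).map v))

include hq in
/-- `T^p(M) = 0` for `p < 0`. -/
lemma isZero_TFun_neg (M : ModuleCat.{u} A) (p : ℤ) (hp : p < 0) :
    IsZero ((CohIII.TFun L p).obj M) := by
  have hqa : QuasiIsoAt
      (((MonoidalCategory.tensorRight M).mapHomologicalComplex (ComplexShape.up ℤ)).map v) p :=
    (hq M).quasiIsoAt p
  haveI : IsIso (HomologicalComplex.homologyMap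
      (((MonoidalCategory.tensorRight M).mapHomologicalComplex (ComplexShape.up ℤ)).map v) p) :=
    (quasiIsoAt_iff_isIso_homologyMap _ p).1 hqa
  have e := asIso (HomologicalComplex.homologyMap
    (((MonoidalCategory.tensorRight M).mapHomologicalComplex (ComplexShape.up ℤ)).map v) p)
  refine IsZero.of_iso ?_ e
  exact (HomologicalComplex.exactAt_iff_isZero_homology _ _).1
    (exactAt_tensorObj_CZ_neg A F U M p hp)

include hq in
/-- `T_i(M) = 0` for `i > 0`, for the chain complex `flip L`. -/
lemma isZero_TFun_flip_pos (M : ModuleCat.{u} A) (i : ℤ) (hi : 0 < i) :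
    IsZero ((CohIII.TFun (flip L) i).obj M) := by
  have h := isZero_TFun_neg A F U L v hq M (-i) (by omega)
  have e := (flipTFunIso L (-i)).app M
  rw [neg_neg] at e
  exact IsZero.of_iso h e

/-- `H_{-p}(flip L) ≅ H^p(L)`. -/
noncomputable def flipHomologyIso (p : ℤ) : (flip L).homology (-p) ≅ L.homology p :=
  L.extendHomologyIso eNeg (j := p) (j' := -p) rfl

variable [Finite ι] [F.IsQuasicoherent]
  (haff : ∀ (n : ℕ) (a : Fin (n + 1) → ι), IsAffineOpen (⨅ k, U (a k))) (hU : iSup U = ⊤)

/-- `H_{-p}(flip L) ≃ₗ[A] H^p(X, F)`. -/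
noncomputable def flipHomologyEquiv [QuasiIso v] (p : ℕ) :
    ((flip L).homology (-(p : ℤ)) : ModuleCat.{u} A) ≃ₗ[A] Coh.HH X F p :=
  haveI : IsIso (HomologicalComplex.homologyMap v (p : ℤ)) :=
    (quasiIsoAt_iff_isIso_homologyMap v (p : ℤ)).1 (QuasiIso.quasiIsoAt (p : ℤ))
  ((flipHomologyIso A L (p : ℤ)) ≪≫
    asIso (HomologicalComplex.homologyMap v (p : ℤ))).toLinearEquiv.trans
    (hCZ A U F haff hU p)

end Groth.Agent.H2.Mum
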