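import Groth.Agent.Lib.Helper2.MumS
import Groth.Agent.Lib.Helper2.RpB6
import Groth.Agent.Lib.Helper8.TFunRank
import Groth.Agent.Lib.Helper8.TFunDedekind
import Groth.Agent.S0002

/-! # Jump of fibre cohomology over a DVR and freeness of cohomology (helper2) -/

set_option autoImplicit false
set_option linter.style.haveILetI false
universe u

open CategoryTheory CategoryTheory.Limits AlgebraicGeometry Opposite TopologicalSpace

namespace Groth.Agent.H2.Mum

open Groth.Agent.LD Groth.Agent.LD.QC Groth.Agent.H8.TFun

/-- Over a discrete valuation ring: `h^p` of the closed fibre equals `h^p` of the generic fibre iff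
`H^p(X, F)` and `H^{p+1}(X, F)` are free. -/
theorem fiberRank_eq_generic_iff_free (R : Type u) [CommRing R] [IsDomain R]
    [IsDiscreteValuationRing R] (X : Scheme.{u}) [X.Over (Spec (CommRingCat.of R))]
    [IsProper (X ↘ Spec (CommRingCat.of R))]
    (F : X.Modules) (hF : Coh.IsCoh F) (hfl : FlatMod.IsFlatOver (X ↘ Spec (CommRingCat.of R)) F)
    (p : ℕ) (s : ↥(Spec (CommRingCat.of R))) (hs : s ≠ genericPoint ↥(Spec (CommRingCat.of R))) :
    CohIII.fiberRank (X ↘ Spec (CommRingCat.of R)) F p s =
        CohIII.fiberRank (X ↘ Spec (CommRingCat.of R)) F p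
          (genericPoint ↥(Spec (CommRingCat.of R))) ↔
      Module.Free R (Coh.HH X F p) ∧ Module.Free R (Coh.HH X F (p + 1)) := by
  obtain ⟨ι, hfin, U, haff, hU, L, v, hL, hb, hv, hq⟩ := exists_resolution' R X F hF hfl
  haveI := hfin
  haveI := hv
  haveI : F.IsQuasicoherent := hF.1
  have hP : ∀ i, Module.Finite R ((flip L).X i) ∧ Module.Projective R ((flip L).X i) := fun i => by
    obtain ⟨h1, h2⟩ := flip_finite_free L hL i
    exact ⟨h1, inferInstance⟩
  have hPfl : ∀ i, Module.Flat R ((flip L).X i) := fun i => (flip_finite_flat L hL i).2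
  rw [fiberRank_eq_dRank R F U haff hU L v hq p s,
    fiberRank_eq_dRank R F U haff hU L v hq p (genericPoint ↥(Spec (CommRingCat.of R)))]
  -- the two points
  have hgen : genericPoint ↥(Spec (CommRingCat.of R)) = (⊥ : PrimeSpectrum R) :=
    genericPoint_eq_bot_of_affine (CommRingCat.of R)
  have hs' : s = IsLocalRing.closedPoint R := by
    have hne : s.asIdeal ≠ ⊥ := by
      intro h
      apply hs
      rw [hgen]
      exact PrimeSpectrum.ext h
    have hmax : s.asIdeal.IsMaximal := s.isPrime.isMaximal hne
    exact PrimeSpectrum.ext (IsLocalRing.eq_maximalIdeal hmax)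
  -- exactness criterion
  have key := exact_iff_dRank_minimalPrimes (flip L) hP (-(p : ℤ))
  have hmin : (∀ q : PrimeSpectrum R, q.asIdeal ∈ minimalPrimes R →
      CohIII.dRank (flip L) (-(p : ℤ)) q =
        CohIII.dRank (flip L) (-(p : ℤ)) (IsLocalRing.closedPoint R)) ↔
      CohIII.dRank (flip L) (-(p : ℤ)) s =
        CohIII.dRank (flip L) (-(p : ℤ)) (genericPoint ↥(Spec (CommRingCat.of R))) := by
    rw [hgen, hs']
    constructor
    · intro h
      exact (h ⊥ (by rw [IsDomain.minimalPrimes_eq_singleton_bot]; rfl)).symm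
    · intro h q hq'
      rw [IsDomain.minimalPrimes_eq_singleton_bot] at hq'
      have : q = ⊥ := PrimeSpectrum.ext hq'
      rw [this]
      exact h.symm
  rw [← hmin, ← key, preservesMono_iff_flat_homology (flip L) hPfl (-(p : ℤ)),
    preservesEpi_iff_flat_homology (flip L) hPfl (-(p : ℤ)) (-((p + 1 : ℕ) : ℤ))
      (by push_cast; ring)]
  have hff : ∀ m : ℕ, Module.Flat R ((flip L).homology (-(m : ℤ))) ↔
      Module.Free R (Coh.HH X F m) := by
    intro m
    have e := flipHomologyEquiv R F U L v haff hU m
    haveI g : Module.Finite R (Coh.HH X F m) := Groth.Agent.S0002.result R X F hF m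
    constructor
    · intro h
      haveI : Module.Flat R (Coh.HH X F m) := Module.Flat.of_linearEquiv e.symm
      exact Module.free_of_flat_of_isLocalRing
    · intro h
      exact Module.Flat.of_linearEquiv e
  rw [hff p, hff (p + 1)]

end Groth.Agent.H2.Mum
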