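import Groth.Agent.Lib.Helper2.MumD
import Groth.Agent.Lib.Lead.Cech.SchemeNat

/-! # The Čech complex of an `O_X`-module as a complex of `A`-modules -/

set_option autoImplicit false
set_option linter.style.haveILetI false
universe u

open CategoryTheory CategoryTheory.Limits AlgebraicGeometry Opposite TopologicalSpace TensorProduct

namespace Groth.Agent.H2.Mum

open Groth.Agent.LD Groth.Agent.LD.QC

variable (A : Type u) [CommRing A] {X : Scheme.{u}} [X.Over (Spec (CommRingCat.of A))]
  {ι : Type u} (U : ι → X.Opens)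

/-- the intersection `U_{a_0} ∩ ⋯ ∩ U_{a_n}` (as a categorical product in `X.Opens`). -/
noncomputable abbrev Wc {n : ℕ} (a : Fin (n + 1) → ι) : X.Opens := ∏ᶜ (U ∘ a)

lemma face_le {n : ℕ} (a : Fin (n + 2) → ι) (i : Fin (n + 2)) :
    Wc U a ≤ Wc U (a ∘ i.succAbove) := leOfHom (CH.face U a i)

/-- Čech cochains, as an `A`-module. -/
abbrev CochA (N : X.Modules) (n : ℕ) : Type u := ∀ a : Fin (n + 1) → ι, SecA A N (Wc U a)

/-- the Čech differential, `A`-linear. -/
noncomputable def dA (N : X.Modules) (n : ℕ) : CochA A U N n →ₗ[A] CochA A U N (n + 1) :=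
  LinearMap.pi fun a => ∑ i : Fin (n + 2), ((-1 : ℤ) ^ (i : ℕ)) •
    ((resA A N (face_le U a i)) ∘ₗ
      (LinearMap.proj (R := A) (φ := fun b : Fin (n + 1) → ι => SecA A N (Wc U b))
        (a ∘ i.succAbove)))

lemma dA_apply (N : X.Modules) (n : ℕ) (x : CochA A U N n) (a : Fin (n + 2) → ι) :
    dA A U N n x a = ∑ i : Fin (n + 2), ((-1 : ℤ) ^ (i : ℕ)) •
      resA A N (face_le U a i) (x (a ∘ i.succAbove)) := by
  unfold dA
  rw [LinearMap.pi_apply, LinearMap.sum_apply]
  rfl

/-- lead's concrete cochains agree with ours. -/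
noncomputable def cochE (N : X.Modules) (n : ℕ) :
    (CH.K U N.presheaf).X n ≃+ CochA A U N n :=
  CH.coch U N.presheaf n

lemma dA_cochE (N : X.Modules) (n : ℕ) (x : (CH.K U N.presheaf).X n) :
    dA A U N n (cochE A U N n x) = cochE A U N (n + 1) ((CH.K U N.presheaf).d n (n + 1) x) := by
  funext a
  rw [dA_apply]
  exact (CH.coch_d U N.presheaf n x a).symm

lemma dA_comp_dA (N : X.Modules) (n : ℕ) : dA A U N (n + 1) ∘ₗ dA A U N n = 0 := by
  ext x : 1
  obtain ⟨y, rfl⟩ := (cochE A U N n).surjective x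
  rw [LinearMap.comp_apply, dA_cochE, dA_cochE, LinearMap.zero_apply]
  have : (CH.K U N.presheaf).d (n + 1) (n + 1 + 1) ((CH.K U N.presheaf).d n (n + 1) y) = 0 := by
    have h := (CH.K U N.presheaf).d_comp_d n (n + 1) (n + 1 + 1)
    exact congr($h y)
  rw [this, map_zero]

/-- the Čech complex as a cochain complex of `A`-modules. -/
noncomputable abbrev CA (N : X.Modules) : CochainComplex (ModuleCat.{u} A) ℕ :=
  CochainComplex.of (fun n => ModuleCat.of A (CochA A U N n))
    (fun n => ModuleCat.ofHom (dA A U N n))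
    (fun n => by
      rw [← ModuleCat.ofHom_comp, dA_comp_dA]
      rfl)

lemma CA_d (N : X.Modules) (n : ℕ) :
    (CA A U N).d n (n + 1) = ModuleCat.ofHom (dA A U N n) :=
  CochainComplex.of_d (fun n => ModuleCat.of A (CochA A U N n))
    (fun n => ModuleCat.ofHom (dA A U N n)) n

/-- the map on cochains induced by a morphism of modules. -/
noncomputable def cochMap {N N' : X.Modules} (φ : N ⟶ N') (n : ℕ) :
    CochA A U N n →ₗ[A] CochA A U N' n :=
  LinearMap.pi fun a => (appA A φ (Wc U a)) ∘ₗ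
    (LinearMap.proj (R := A) (φ := fun b : Fin (n + 1) → ι => SecA A N (Wc U b)) a)

lemma cochMap_apply {N N' : X.Modules} (φ : N ⟶ N') (n : ℕ) (x : CochA A U N n)
    (a : Fin (n + 1) → ι) : cochMap A U φ n x a = appA A φ (Wc U a) (x a) := rfl

lemma cochMap_dA {N N' : X.Modules} (φ : N ⟶ N') (n : ℕ) :
    cochMap A U φ (n + 1) ∘ₗ dA A U N n = dA A U N' n ∘ₗ cochMap A U φ n := by
  ext x : 1
  funext a
  rw [LinearMap.comp_apply, LinearMap.comp_apply, cochMap_apply, dA_apply, dA_apply, map_sum]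
  refine Finset.sum_congr rfl fun i _ => ?_
  rw [map_zsmul, cochMap_apply, appA_resA]

/-- functoriality of the Čech complex. -/
noncomputable def CAmap {N N' : X.Modules} (φ : N ⟶ N') : CA A U N ⟶ CA A U N' :=
  CochainComplex.ofHom (fun n => ModuleCat.ofHom (cochMap A U φ n))
    (fun n => by
      rw [CA_d, CA_d, ← ModuleCat.ofHom_comp, ← ModuleCat.ofHom_comp, cochMap_dA])

lemma CAmap_f {N N' : X.Modules} (φ : N ⟶ N') (n : ℕ) :
    (CAmap A U φ).f n = ModuleCat.ofHom (cochMap A U φ n) := rfl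

end Groth.Agent.H2.Mum
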