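import Groth.Agent.Lib.Helper2.MumE

/-! # Comparison of the `A`-module Čech complex with Mathlib's Čech complex; cohomology -/

set_option autoImplicit false
set_option linter.style.haveILetI false
universe u

open CategoryTheory CategoryTheory.Limits AlgebraicGeometry Opposite TopologicalSpace TensorProduct

namespace Groth.Agent.H2.Mum

open Groth.Agent.LD Groth.Agent.LD.QC

variable (A : Type u) [CommRing A] {X : Scheme.{u}} [X.Over (Spec (CommRingCat.of A))]
  {ι : Type u} (U : ι → X.Opens)

/-- the forgetful functor to abelian groups. -/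
noncomputable abbrev Fg : ModuleCat.{u} A ⥤ AddCommGrpCat.{u} :=
  forget₂ (ModuleCat.{u} A) AddCommGrpCat.{u}

/-- the underlying complex of abelian groups of `CA` is Mathlib's Čech complex. -/
noncomputable def cmpIso (N : X.Modules) :
    ((Fg A).mapHomologicalComplex (ComplexShape.up ℕ)).obj (CA A U N) ≅ CH.K U N.presheaf :=
  HomologicalComplex.Hom.isoOfComponents
    (fun n => (AddEquiv.toAddCommGrpIso (cochE A U N n)).symm) (by
      rintro i j (rfl : i + 1 = j)
      ext y
      change (CH.K U N.presheaf).d i (i + 1) ((cochE A U N i).symm y) =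
        (cochE A U N (i + 1)).symm (((CA A U N).d i (i + 1)).hom y)
      rw [CA_d, AddEquiv.eq_symm_apply, ← dA_cochE, AddEquiv.apply_symm_apply]
      rfl)

lemma cmpIso_hom_f (N : X.Modules) (n : ℕ) (y : CochA A U N n) :
    (cmpIso A U N).hom.f n y = (cochE A U N n).symm y := rfl

lemma cmpIso_inv_f (N : X.Modules) (n : ℕ) (x : (CH.K U N.presheaf).X n) :
    (cmpIso A U N).inv.f n x = cochE A U N n x := rfl

/-- naturality of `cmpIso`. -/
lemma cmpIso_naturality {N N' : X.Modules} (φ : N ⟶ N') :
    ((Fg A).mapHomologicalComplex (ComplexShape.up ℕ)).map (CAmap A U φ) ≫ (cmpIso A U N').hom =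
      (cmpIso A U N).hom ≫ (cechComplexFunctor U).map
        ((SheafOfModules.toSheaf X.ringCatSheaf).map φ).hom := by
  ext n y
  change (cochE A U N' n).symm (cochMap A U φ n y) =
    ((cechComplexFunctor U).map ((SheafOfModules.toSheaf X.ringCatSheaf).map φ).hom).f n
      ((cochE A U N n).symm y)
  rw [AddEquiv.symm_apply_eq]
  funext a
  refine Eq.trans ?_ (CH.coch_map U ((SheafOfModules.toSheaf X.ringCatSheaf).map φ).hom n
    ((cochE A U N n).symm y) a).symm
  have h2 : CH.coch U N.presheaf n ((cochE A U N n).symm y) = y :=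
    (cochE A U N n).apply_symm_apply y
  exact (congrArg (fun t : CochA A U N n => φ.app (Wc U a) (t a)) h2).symm

section homology

/-- the forgetful functor to abelian groups commutes with homology. -/
noncomputable def forgetHomologyIso (K : CochainComplex (ModuleCat.{u} A) ℕ) (p : ℕ) :
    (((Fg A).mapHomologicalComplex (ComplexShape.up ℕ)).obj K).homology p ≅
      (Fg A).obj (K.homology p) :=
  (K.sc p).mapHomologyIso (Fg A)

lemma forgetHomologyIso_naturality {K K' : CochainComplex (ModuleCat.{u} A) ℕ} (f : K ⟶ K')
    (p : ℕ) :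
    HomologicalComplex.homologyMap
      (((Fg A).mapHomologicalComplex (ComplexShape.up ℕ)).map f) p ≫
        (forgetHomologyIso A K' p).hom =
      (forgetHomologyIso A K p).hom ≫ (Fg A).map (HomologicalComplex.homologyMap f p) :=
  ShortComplex.mapHomologyIso_hom_naturality
    ((HomologicalComplex.shortComplexFunctor _ _ p).map f) (Fg A)

variable (haff : ∀ (n : ℕ) (a : Fin (n + 1) → ι), IsAffineOpen (⨅ k, U (a k)))
  (hU : iSup U = ⊤)

/-- an isomorphism of complexes induces an isomorphism on homology. -/
@[simps]
noncomputable def homologyIsoOfIso {C : Type*} [Category C] [Abelian C] {κ : Type*}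
    {c : ComplexShape κ} {K K' : HomologicalComplex C c} (e : K ≅ K') (p : κ) :
    K.homology p ≅ K'.homology p where
  hom := HomologicalComplex.homologyMap e.hom p
  inv := HomologicalComplex.homologyMap e.inv p
  hom_inv_id := by
    rw [← HomologicalComplex.homologyMap_comp, e.hom_inv_id, HomologicalComplex.homologyMap_id]
  inv_hom_id := by
    rw [← HomologicalComplex.homologyMap_comp, e.inv_hom_id, HomologicalComplex.homologyMap_id]

/-- the comparison isomorphism on cohomology, in `Ab`. -/
noncomputable def hIso (N : X.Modules) (p : ℕ) :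
    (Fg A).obj ((CA A U N).homology p) ≅ (CH.K U N.presheaf).homology p :=
  (forgetHomologyIso A (CA A U N) p).symm ≪≫ homologyIsoOfIso (cmpIso A U N) p

lemma hIso_naturality {N N' : X.Modules} (φ : N ⟶ N') (p : ℕ) :
    (Fg A).map (HomologicalComplex.homologyMap (CAmap A U φ) p) ≫ (hIso A U N' p).hom =
      (hIso A U N p).hom ≫ HomologicalComplex.homologyMap ((cechComplexFunctor U).map
        ((SheafOfModules.toSheaf X.ringCatSheaf).map φ).hom) p := by
  have h1 := forgetHomologyIso_naturality A (CAmap A U φ) p
  have h2 : (Fg A).map (HomologicalComplex.homologyMap (CAmap A U φ) p) ≫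
      (forgetHomologyIso A (CA A U N') p).inv = (forgetHomologyIso A (CA A U N) p).inv ≫
        HomologicalComplex.homologyMap
          (((Fg A).mapHomologicalComplex (ComplexShape.up ℕ)).map (CAmap A U φ)) p := by
    rw [Iso.comp_inv_eq, Category.assoc, Iso.eq_inv_comp, h1]
  have h3 : HomologicalComplex.homologyMap
      (((Fg A).mapHomologicalComplex (ComplexShape.up ℕ)).map (CAmap A U φ)) p ≫
        HomologicalComplex.homologyMap (cmpIso A U N').hom p =
      HomologicalComplex.homologyMap (cmpIso A U N).hom p ≫
        HomologicalComplex.homologyMap ((cechComplexFunctor U).map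
          ((SheafOfModules.toSheaf X.ringCatSheaf).map φ).hom) p := by
    rw [← HomologicalComplex.homologyMap_comp, cmpIso_naturality]
    exact HomologicalComplex.homologyMap_comp _ _ _
  change (Fg A).map _ ≫ ((forgetHomologyIso A (CA A U N') p).inv ≫
    HomologicalComplex.homologyMap (cmpIso A U N').hom p) =
      ((forgetHomologyIso A (CA A U N) p).inv ≫
        HomologicalComplex.homologyMap (cmpIso A U N).hom p) ≫ _
  rw [← Category.assoc, h2, Category.assoc, h3, Category.assoc]
  rfl

/-- **Čech cohomology of the `A`-module Čech complex computes `H^p(X, N)`**. -/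
noncomputable def hEquiv0 (N : X.Modules) [N.IsQuasicoherent] (p : ℕ) :
    ((CA A U N).homology p : ModuleCat.{u} A) ≃+ Coh.HH X N p :=
  (hIso A U N p).addCommGroupIsoToAddEquiv.trans (CH.cechHHEquiv U haff hU N p)

theorem hEquiv0_naturality {N N' : X.Modules} [N.IsQuasicoherent] [N'.IsQuasicoherent]
    (φ : N ⟶ N') (p : ℕ) (x : ((CA A U N).homology p : ModuleCat.{u} A)) :
    hEquiv0 A U haff hU N' p ((HomologicalComplex.homologyMap (CAmap A U φ) p).hom x) =
      Sheaf.H.map ((SheafOfModules.toSheaf X.ringCatSheaf).map φ) p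
        (hEquiv0 A U haff hU N p x) := by
  have h := hIso_naturality A U φ p
  have h' := congr($h x)
  change CH.cechHHEquiv U haff hU N' p ((hIso A U N' p).hom
    ((HomologicalComplex.homologyMap (CAmap A U φ) p).hom x)) = _
  refine (congrArg (CH.cechHHEquiv U haff hU N' p) h').trans ?_
  exact CH.cechHHEquiv_naturality U haff hU N N' p
    ((SheafOfModules.toSheaf X.ringCatSheaf).map φ) ((hIso A U N p).hom x)

end homology

end Groth.Agent.H2.Mum
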