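import Groth.Agent.Lib.Helper2.MumG

/-! # The Čech complex of `f^*(M~) ⊗ F` is the Čech complex of `F` tensored with `M` -/

set_option autoImplicit false
set_option linter.style.haveILetI false
universe u

open CategoryTheory CategoryTheory.Limits AlgebraicGeometry Opposite TopologicalSpace TensorProduct

namespace Groth.Agent.H2.Mum

open Groth.Agent.LD Groth.Agent.LD.QC

variable (A : Type u) [CommRing A] {X : Scheme.{u}} [X.Over (Spec (CommRingCat.of A))]
  {ι : Type u} (U : ι → X.Opens) (F : X.Modules)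

/-- `f^*(M~) ⊗ F`. -/
noncomputable abbrev TF (M : ModuleCat.{u} A) : X.Modules :=
  CohB1.tensorMod (pbT (X := X) A M) F

/-- the map induced on `f^*(M~) ⊗ F` by a map of modules. -/
noncomputable abbrev TFmap {M M' : ModuleCat.{u} A} (h : M ⟶ M') : TF A F M ⟶ TF A F M' :=
  KoszTw.tensorMap (pbTmap (X := X) A h) (𝟙 F)

section
variable (M : ModuleCat.{u} A)

/-- the comparison on cochains. -/
noncomputable def τlin (n : ℕ) : CochA A U F n ⊗[A] M →ₗ[A] CochA A U (TF A F M) n :=
  LinearMap.pi fun a => (σ A M F (Wc U a)) ∘ₗ LinearMap.rTensor M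
    (LinearMap.proj (R := A) (φ := fun b : Fin (n + 1) → ι => SecA A F (Wc U b)) a)

lemma τlin_tmul (n : ℕ) (x : CochA A U F n) (m : M) (a : Fin (n + 1) → ι) :
    τlin A U F M n (x ⊗ₜ m) a = σ A M F (Wc U a) (x a ⊗ₜ m) := rfl

lemma τlin_dA (n : ℕ) :
    dA A U (TF A F M) n ∘ₗ τlin A U F M n =
      τlin A U F M (n + 1) ∘ₗ LinearMap.rTensor M (dA A U F n) := by
  apply TensorProduct.ext'
  intro x m
  funext a
  rw [LinearMap.comp_apply, LinearMap.comp_apply, LinearMap.rTensor_tmul, τlin_tmul, dA_apply,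
    dA_apply, TensorProduct.sum_tmul, map_sum]
  refine Finset.sum_congr rfl fun i _ => ?_
  rw [τlin_tmul, σ_res, LinearMap.rTensor_tmul, ← TensorProduct.smul_tmul', map_zsmul]

/-- the comparison morphism of complexes. -/
noncomputable def τ : CohIII.tensorObj (CA A U F) M ⟶ CA A U (TF A F M) where
  f n := ModuleCat.ofHom (τlin A U F M n)
  comm' i j h := by
    obtain rfl : i + 1 = j := h
    rw [CA_d]
    change _ = ModuleCat.ofHom (LinearMap.rTensor M ((CA A U F).d i (i + 1)).hom) ≫ _
    have hd : ((CA A U F).d i (i + 1)).hom = dA A U F i := by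
      rw [CA_d]
      rfl
    rw [hd]
    exact (ModuleCat.ofHom_comp _ _).symm.trans
      ((congrArg ModuleCat.ofHom (τlin_dA A U F M i)).trans (ModuleCat.ofHom_comp _ _))

lemma τ_f (n : ℕ) : (τ A U F M).f n = ModuleCat.ofHom (τlin A U F M n) := rfl

lemma τlin_bijective [Finite ι] (n : ℕ)
    (hσ : ∀ a : Fin (n + 1) → ι, Function.Bijective (σ A M F (Wc U a))) :
    Function.Bijective (τlin A U F M n) := by
  classical
  haveI : Fintype (Fin (n + 1) → ι) := Fintype.ofFinite _
  let e := TensorProduct.piLeft A M (fun a : Fin (n + 1) → ι => SecA A F (Wc U a))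
  have key : ∀ z, τlin A U F M n z = fun a => σ A M F (Wc U a) (e z a) := by
    intro z
    induction z using TensorProduct.induction_on with
    | zero =>
      funext a
      simp
    | tmul x m =>
      funext a
      rw [τlin_tmul]
      congr 1
    | add z w hz hw =>
      funext a
      rw [map_add, hz, hw, map_add]
      simp
  have h2 : (τlin A U F M n : _ → _) =
      (Pi.map fun a => σ A M F (Wc U a)) ∘ e := funext key
  rw [h2]
  exact (Function.Bijective.piMap hσ).comp e.bijective

end

/-- naturality of the comparison in `M`. -/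
lemma τ_naturality {M M' : ModuleCat.{u} A} (h : M ⟶ M') :
    CohIII.tensorMap (CA A U F) h ≫ τ A U F M' =
      τ A U F M ≫ CAmap A U (TFmap A F h) := by
  ext n : 1
  change ModuleCat.ofHom (LinearMap.lTensor (CochA A U F n) h.hom) ≫
    ModuleCat.ofHom (τlin A U F M' n) =
      ModuleCat.ofHom (τlin A U F M n) ≫ ModuleCat.ofHom (cochMap A U (TFmap A F h) n)
  rw [← ModuleCat.ofHom_comp, ← ModuleCat.ofHom_comp]
  congr 1
  apply TensorProduct.ext'
  intro x m
  funext a
  rw [LinearMap.comp_apply, LinearMap.comp_apply, LinearMap.lTensor_tmul, τlin_tmul,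
    cochMap_apply, τlin_tmul, σ_map, LinearMap.lTensor_tmul]

end Groth.Agent.H2.Mum
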