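import Groth.Agent.Lib.Helper2.MumH
import Groth.Agent.Lib.Lead.SC.CohDim

/-! # Geometric inputs: finite affine covers, flatness of cochains, vanishing -/

set_option autoImplicit false
set_option linter.style.haveILetI false
universe u

open CategoryTheory CategoryTheory.Limits AlgebraicGeometry Opposite TopologicalSpace TensorProduct

namespace Groth.Agent.H2.Mum

open Groth.Agent.LD Groth.Agent.LD.QC

variable (A : Type u) [CommRing A] {X : Scheme.{u}} [X.Over (Spec (CommRingCat.of A))]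

/-- a finite affine open cover indexed by a type in `Type u`. -/
theorem exists_finite_affine_cover (X : Scheme.{u}) [CompactSpace X] :
    ∃ (ι : Type u) (_ : Finite ι) (U : ι → X.Opens), (∀ i, IsAffineOpen (U i)) ∧ iSup U = ⊤ := by
  have hcov : (Set.univ : Set X) ⊆ ⋃ i : X.affineOpens, ((i : X.Opens) : Set X) := by
    intro x _
    obtain ⟨W, hW, hxW, -⟩ := exists_isAffineOpen_mem_and_subset (x := x) (U := ⊤) trivial
    exact Set.mem_iUnion.2 ⟨⟨W, hW⟩, hxW⟩
  obtain ⟨t, ht⟩ := isCompact_univ.elim_finite_subcover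
    (fun i : X.affineOpens => ((i : X.Opens) : Set X)) (fun i => i.1.2) hcov
  refine ⟨{i : X.affineOpens // i ∈ t}, inferInstance, fun i => i.1.1, fun i => i.1.2, ?_⟩
  rw [eq_top_iff]
  intro x _
  obtain ⟨i, hi⟩ := Set.mem_iUnion.1 (ht (Set.mem_univ x))
  obtain ⟨hit, hxi⟩ := Set.mem_iUnion.1 hi
  exact Opens.mem_iSup.2 ⟨⟨i, hit⟩, hxi⟩

/-- finite intersections of affine opens are affine, on a scheme separated over `Spec A`. -/
theorem isAffineOpen_iInf_of_isSeparated [IsSeparated (X ↘ Spec (CommRingCat.of A))]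
    {ι : Type u} (U : ι → X.Opens) (hU : ∀ i, IsAffineOpen (U i)) (n : ℕ)
    (a : Fin (n + 1) → ι) : IsAffineOpen (⨅ k, U (a k)) := by
  have hinf : ∀ V₁ V₂ : X.Opens, IsAffineOpen V₁ → IsAffineOpen V₂ → IsAffineOpen (V₁ ⊓ V₂) := by
    intro V₁ V₂ h₁ h₂
    have := (isAffineHom_diagonal_iff (f := X ↘ Spec (CommRingCat.of A))).mp inferInstance ⊤
      (isAffineOpen_top _) V₁ (fun _ _ => trivial) V₂ (fun _ _ => trivial) h₁ h₂
    exact this
  exact InfClosed.iInf_mem_of_nonempty (s := Set.ofPred IsAffineOpen)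
    (fun _ h _ h' => hinf _ _ h h') (fun k => hU (a k))

/-- sections of an `A`-flat quasi-coherent module over an affine open are `A`-flat. -/
theorem flat_secA (F : X.Modules) [F.IsQuasicoherent]
    (hfl : FlatMod.IsFlatOver (X ↘ Spec (CommRingCat.of A)) F) {V : X.Opens}
    (hV : IsAffineOpen V) : Module.Flat A (SecA A F V) := by
  have h1 := flat_sections_of_isFlatOverAt (X ↘ Spec (CommRingCat.of A)) F hV
    (isAffineOpen_top (Spec (CommRingCat.of A))) (le_pre A V) (fun x _ => hfl x)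
  letI := sectionsModuleOver (X ↘ Spec (CommRingCat.of A)) F (le_pre A V)
  let ψ : SecA A F V ≃+ Γ(F, V) := AddEquiv.refl _
  exact (flat_iff_of_ringEquiv_semilinear (M := SecA A F V) (M' := Γ(F, V))
    (Scheme.ΓSpecIso (CommRingCat.of A)).symm.commRingCatIsoToRingEquiv ψ
    (fun a m => rfl)).2 h1

/-- the cochain modules of an `A`-flat module are `A`-flat. -/
theorem flat_cochA (F : X.Modules) [F.IsQuasicoherent]
    (hfl : FlatMod.IsFlatOver (X ↘ Spec (CommRingCat.of A)) F) {ι : Type u} [Finite ι]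
    (U : ι → X.Opens) (n : ℕ) (haff : ∀ a : Fin (n + 1) → ι, IsAffineOpen (Wc U a)) :
    Module.Flat A (CochA A U F n) := by
  classical
  haveI : Fintype (Fin (n + 1) → ι) := Fintype.ofFinite _
  haveI : ∀ a : Fin (n + 1) → ι, Module.Flat A (SecA A F (Wc U a)) :=
    fun a => flat_secA A F hfl (haff a)
  exact Module.Flat.of_linearEquiv
    (DirectSum.linearEquivFunOnFintype A (Fin (n + 1) → ι)
      (fun a => SecA A F (Wc U a))).symm

lemma Wc_eq_iInf {ι : Type u} (U : ι → X.Opens) {n : ℕ} (a : Fin (n + 1) → ι) :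
    Wc U a = ⨅ k, U (a k) := CH.prod_eq_iInf (X := X.toTopCat) U a

end Groth.Agent.H2.Mum
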