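import Groth.Agent.Lib.Helper2.MumJ

/-! # The natural isomorphism `H^p(L ⊗ M) ≅ H^p(X, f^*(M~) ⊗ F)` attached to a universally
quasi-isomorphic resolution `L ⟶ CZ`. -/

set_option autoImplicit false
set_option linter.style.haveILetI false
universe u

open CategoryTheory CategoryTheory.Limits AlgebraicGeometry Opposite TopologicalSpace TensorProduct

namespace Groth.Agent.H2.Mum

open Groth.Agent.LD Groth.Agent.LD.QC

variable (A : Type u) [CommRing A] {X : Scheme.{u}} [X.Over (Spec (CommRingCat.of A))]
  {ι : Type u} (U : ι → X.Opens) (F : X.Modules)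

section terms
variable [Finite ι] [F.IsQuasicoherent]

/-- the terms of the extended Čech complex are flat. -/
theorem flat_CZ (hfl : FlatMod.IsFlatOver (X ↘ Spec (CommRingCat.of A)) F)
    (hW : ∀ (n : ℕ) (a : Fin (n + 1) → ι), IsAffineOpen (Wc U a)) (i : ℤ) :
    Module.Flat A ((CZ A U F).X i) := by
  by_cases hi : ∃ j : ℕ, eN.f j = i
  · obtain ⟨j, hj⟩ := hi
    haveI : Module.Flat A ((CA A U F).X j) := flat_cochA A F hfl U j (hW j)
    exact Module.Flat.of_linearEquiv
      ((CA A U F).extendXIso eN hj).toLinearEquiv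
  · have hz : IsZero ((CZ A U F).X i) :=
      (CA A U F).isZero_extend_X eN i (fun j hj => hi ⟨j, hj⟩)
    haveI : Subsingleton ((CZ A U F).X i) := ModuleCat.subsingleton_of_isZero hz
    infer_instance

end terms

section main

variable [Finite ι] [F.IsQuasicoherent]
  (haff : ∀ (n : ℕ) (a : Fin (n + 1) → ι), IsAffineOpen (⨅ k, U (a k))) (hU : iSup U = ⊤)
  (L : CochainComplex (ModuleCat.{u} A) ℤ) (v : L ⟶ CZ A U F)

/-- the comparison morphism `L ⊗ M ⟶ (Čech complex of f^*(M~) ⊗ F)`. -/
noncomputable def Ψ (M : ModuleCat.{u} A) :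
    CohIII.tensorObj L M ⟶ (CA A U (TF A F M)).extend eN :=
  ((MonoidalCategory.tensorRight M).mapHomologicalComplex (ComplexShape.up ℤ)).map v ≫
    (extendMapHCIso eN (MonoidalCategory.tensorRight M) (CA A U F)).hom ≫
      HomologicalComplex.extendMap (τ A U F M) eN

lemma Ψ_naturality {M M' : ModuleCat.{u} A} (h : M ⟶ M') :
    CohIII.tensorMap L h ≫ Ψ A U F L v M' =
      Ψ A U F L v M ≫ HomologicalComplex.extendMap (CAmap A U (TFmap A F h)) eN := by
  have h1 : CohIII.tensorMap L h ≫
      ((MonoidalCategory.tensorRight M').mapHomologicalComplex (ComplexShape.up ℤ)).map v =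
      ((MonoidalCategory.tensorRight M).mapHomologicalComplex (ComplexShape.up ℤ)).map v ≫
        CohIII.tensorMap (CZ A U F) h :=
    ((NatTrans.mapHomologicalComplex
      ((MonoidalCategory.tensoringRight (ModuleCat.{u} A)).map h)
        (ComplexShape.up ℤ)).naturality v).symm
  have h2 : CohIII.tensorMap (CZ A U F) h ≫
      (extendMapHCIso eN (MonoidalCategory.tensorRight M') (CA A U F)).hom =
      (extendMapHCIso eN (MonoidalCategory.tensorRight M) (CA A U F)).hom ≫
        HomologicalComplex.extendMap (CohIII.tensorMap (CA A U F) h) eN :=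
    extendMapHCIso_naturality eN
      ((MonoidalCategory.tensoringRight (ModuleCat.{u} A)).map h) (CA A U F)
  have h3 : HomologicalComplex.extendMap (CohIII.tensorMap (CA A U F) h) eN ≫
      HomologicalComplex.extendMap (τ A U F M') eN =
      HomologicalComplex.extendMap (τ A U F M) eN ≫
        HomologicalComplex.extendMap (CAmap A U (TFmap A F h)) eN := by
    rw [← HomologicalComplex.extendMap_comp, ← HomologicalComplex.extendMap_comp, τ_naturality]
  unfold Ψ
  rw [← Category.assoc, h1, Category.assoc, ← Category.assoc (CohIII.tensorMap (CZ A U F) h),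
    h2, Category.assoc, h3, Category.assoc, Category.assoc]

variable (hq : ∀ M : ModuleCat.{u} A, QuasiIso
  (((MonoidalCategory.tensorRight M).mapHomologicalComplex (ComplexShape.up ℤ)).map v))

include haff hq in
lemma Ψ_quasiIso (M : ModuleCat.{u} A) : QuasiIso (Ψ A U F L v M) := by
  haveI := hq M
  haveI := τ_isIso A U F (hW_of_haff U haff) M
  unfold Ψ
  infer_instance

/-- the isomorphism `H^p(L ⊗ M) ≅ H^p(Čech complex of f^*(M~) ⊗ F)` in `ModuleCat A`. -/
noncomputable def ΨIso (M : ModuleCat.{u} A) (p : ℕ) :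
    (CohIII.tensorObj L M).homology (p : ℤ) ≅ (CA A U (TF A F M)).homology p :=
  haveI := Ψ_quasiIso A U F haff L v hq M
  asIso (HomologicalComplex.homologyMap (Ψ A U F L v M) (p : ℤ)) ≪≫
    (CA A U (TF A F M)).extendHomologyIso eN (j := p) (j' := (p : ℤ)) rfl

lemma ΨIso_naturality {M M' : ModuleCat.{u} A} (h : M ⟶ M') (p : ℕ) :
    HomologicalComplex.homologyMap (CohIII.tensorMap L h) (p : ℤ) ≫
      (ΨIso A U F haff L v hq M' p).hom =
    (ΨIso A U F haff L v hq M p).hom ≫
      HomologicalComplex.homologyMap (CAmap A U (TFmap A F h)) p := by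
  have h1 : HomologicalComplex.homologyMap (CohIII.tensorMap L h) (p : ℤ) ≫
      HomologicalComplex.homologyMap (Ψ A U F L v M') (p : ℤ) =
      HomologicalComplex.homologyMap (Ψ A U F L v M) (p : ℤ) ≫
        HomologicalComplex.homologyMap
          (HomologicalComplex.extendMap (CAmap A U (TFmap A F h)) eN) (p : ℤ) := by
    rw [← HomologicalComplex.homologyMap_comp, Ψ_naturality]
    exact HomologicalComplex.homologyMap_comp _ _ _
  have h2 := HomologicalComplex.extendHomologyIso_hom_naturality
    (CAmap A U (TFmap A F h)) eN (j := p) (j' := (p : ℤ)) rfl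
  change _ ≫ (HomologicalComplex.homologyMap (Ψ A U F L v M') (p : ℤ) ≫
    ((CA A U (TF A F M')).extendHomologyIso eN (j := p) (j' := (p : ℤ)) rfl).hom) =
    (HomologicalComplex.homologyMap (Ψ A U F L v M) (p : ℤ) ≫
      ((CA A U (TF A F M)).extendHomologyIso eN (j := p) (j' := (p : ℤ)) rfl).hom) ≫ _
  rw [← Category.assoc, h1, Category.assoc, h2, Category.assoc]

/-- **the comparison equivalence** `H^p(L ⊗ M) ≃+ H^p(X, f^*(M~) ⊗ F)`. -/
noncomputable def EM (M : ModuleCat.{u} A) (p : ℕ) :
    ((CohIII.tensorObj L M).homology (p : ℤ) : ModuleCat.{u} A) ≃+ Coh.HH X (TF A F M) p :=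
  (ΨIso A U F haff L v hq M p).toLinearEquiv.toAddEquiv.trans
    (hEquiv0 A U haff hU (TF A F M) p)

theorem EM_naturality {M M' : ModuleCat.{u} A} (h : M ⟶ M') (p : ℕ)
    (x : ((CohIII.tensorObj L M).homology (p : ℤ) : ModuleCat.{u} A)) :
    EM A U F haff hU L v hq M' p
        ((HomologicalComplex.homologyMap (CohIII.tensorMap L h) (p : ℤ)).hom x) =
      Sheaf.H.map ((SheafOfModules.toSheaf X.ringCatSheaf).map (TFmap A F h)) p
        (EM A U F haff hU L v hq M p x) := by
  have h1 := ΨIso_naturality A U F haff L v hq h p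
  have h2 := congr($h1 x)
  change hEquiv0 A U haff hU (TF A F M') p ((ΨIso A U F haff L v hq M' p).hom
    ((HomologicalComplex.homologyMap (CohIII.tensorMap L h) (p : ℤ)).hom x)) = _
  refine (congrArg (hEquiv0 A U haff hU (TF A F M') p) h2).trans ?_
  exact hEquiv0_naturality A U haff hU (TFmap A F h) p ((ΨIso A U F haff L v hq M p).hom x)

/-- **the natural isomorphism** `T^p_L ≅ H^p(X, f^*(-~) ⊗ F)`. -/
noncomputable def natIso (p : ℕ) :
    CohIII.TFun L (p : ℤ) ⋙ forget₂ (ModuleCat.{u} A) AddCommGrpCat.{u} ≅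
      CohIII.tensorAFunctor A F ⋙ CohIII.HAb X p :=
  NatIso.ofComponents (fun M => (EM A U F haff hU L v hq M p).toAddCommGrpIso) (by
    intro M M' h
    ext x
    refine (EM_naturality A U F haff hU L v hq h p x).trans ?_
    have : (CohIII.tensorAFunctor A F).map h = TFmap A F h := KoszTw.tensorRightMod_map _ _
    change _ = Sheaf.H.map ((SheafOfModules.toSheaf X.ringCatSheaf).map
      ((CohIII.tensorAFunctor A F).map h)) p (EM A U F haff hU L v hq M p x)
    rw [this]
    rfl)

end main

end Groth.Agent.H2.Mum
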