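import Groth.Agent.Lib.Helper2.MumK
import Groth.Agent.Lib.Helper2.MumB
import Groth.Agent.Lib.Helper2.MumG
import Groth.Agent.S0002

/-! # The Mumford complex: existence (EGA III 7.7.5 / 6.10.5, Mumford §5) -/

set_option autoImplicit false
set_option linter.style.haveILetI false
universe u

open CategoryTheory CategoryTheory.Limits AlgebraicGeometry Opposite TopologicalSpace TensorProduct

namespace Groth.Agent.H2.Mum

open Groth.Agent.LD Groth.Agent.LD.QC

section prep

variable (A : Type u) [CommRing A] {X : Scheme.{u}} [X.Over (Spec (CommRingCat.of A))]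
  {ι : Type u} (U : ι → X.Opens) (F : X.Modules)
variable [Finite ι] [F.IsQuasicoherent]
  (haff : ∀ (n : ℕ) (a : Fin (n + 1) → ι), IsAffineOpen (⨅ k, U (a k))) (hU : iSup U = ⊤)

/-- homology of the extended Čech complex in nonnegative degrees. -/
noncomputable def hCZ (j : ℕ) :
    ((CZ A U F).homology (j : ℤ) : ModuleCat.{u} A) ≃ₗ[A] Coh.HH X F j :=
  ((CA A U F).extendHomologyIso eN (j := j) (j' := (j : ℤ)) rfl).toLinearEquiv.trans
    (hEquivLin A U haff hU F j)

lemma CZ_exactAt_neg (i : ℤ) (hi : i < 0) : (CZ A U F).ExactAt i :=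
  HomologicalComplex.extend_exactAt _ eN i (fun j hj => by
    have : ((j : ℕ) : ℤ) = i := hj
    omega)

end prep

/-- **Existence of the Mumford complex**, with natural isomorphisms. -/
theorem exists_complex (A : Type u) [CommRing A] [IsNoetherianRing A] (X : Scheme.{u})
    [X.Over (Spec (CommRingCat.of A))] [IsProper (X ↘ Spec (CommRingCat.of A))]
    (F : X.Modules) (hF : Coh.IsCoh F)
    (hfl : FlatMod.IsFlatOver (X ↘ Spec (CommRingCat.of A)) F) :
    ∃ L : CochainComplex (ModuleCat.{u} A) ℤ,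
      (∀ i, Module.Finite A (L.X i) ∧ Module.Free A (L.X i)) ∧
      (∃ b : ℤ, ∀ i, b < i → IsZero (L.X i)) ∧
      ∀ p : ℕ, Nonempty (CohIII.TFun L (p : ℤ) ⋙ forget₂ (ModuleCat.{u} A) AddCommGrpCat.{u} ≅
        CohIII.tensorAFunctor A F ⋙ CohIII.HAb X p) := by
  haveI : F.IsQuasicoherent := hF.1
  haveI : CompactSpace X :=
    QuasiCompact.compactSpace_of_compactSpace (X ↘ Spec (CommRingCat.of A))
  haveI : QuasiSeparatedSpace X :=
    quasiSeparatedSpace_of_quasiSeparated (X ↘ Spec (CommRingCat.of A))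
  obtain ⟨ι, hfin, U, hUaff, hU⟩ := exists_finite_affine_cover X
  haveI := hfin
  have haff : ∀ (n : ℕ) (a : Fin (n + 1) → ι), IsAffineOpen (⨅ k, U (a k)) :=
    fun n a => isAffineOpen_iInf_of_isSeparated A U hUaff n a
  obtain ⟨d, hd⟩ := SC.exists_cohDim_of_qcqs X
  -- finiteness and vanishing of the homology of `CZ`
  have hfinH : ∀ i : ℤ, Module.Finite A ((CZ A U F).homology i) := by
    intro i
    by_cases hi : i < 0
    · have hz : IsZero ((CZ A U F).homology i) :=
        (HomologicalComplex.exactAt_iff_isZero_homology _ _).1 (CZ_exactAt_neg A U F i hi)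
      haveI : Subsingleton ((CZ A U F).homology i : ModuleCat.{u} A) :=
        ModuleCat.subsingleton_of_isZero hz
      infer_instance
    · obtain ⟨j, rfl⟩ : ∃ j : ℕ, i = (j : ℤ) := ⟨i.toNat, by omega⟩
      haveI := Groth.Agent.S0002.result A X F hF j
      exact Module.Finite.equiv (hCZ A U F haff hU j).symm
  have hvan : ∀ i : ℤ, (d : ℤ) ≤ i → IsZero ((CZ A U F).homology i) := by
    intro i hi
    obtain ⟨j, rfl⟩ : ∃ j : ℕ, i = (j : ℤ) := ⟨i.toNat, by omega⟩
    haveI := hd F inferInstance j (by omega)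
    haveI : Subsingleton ((CZ A U F).homology (j : ℤ) : ModuleCat.{u} A) :=
      (hCZ A U F haff hU j).toEquiv.subsingleton
    exact ModuleCat.isZero_of_subsingleton _
  obtain ⟨L, v, hL, hLb, hv⟩ := exists_finite_free_quasiIso (CZ A U F) hfinH (d : ℤ) hvan
  haveI := hv
  have hLflat : ∀ i, Module.Flat A (L.X i) := fun i => by
    haveI := (hL i).1
    haveI := (hL i).2
    infer_instance
  have hq : ∀ M : ModuleCat.{u} A, QuasiIso
      (((MonoidalCategory.tensorRight M).mapHomologicalComplex (ComplexShape.up ℤ)).map v) :=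
    fun M => quasiIso_tensor_of_univ L (CZ A U F) hLflat
      (flat_CZ A U F hfl (hW_of_haff U haff)) ⟨(d : ℤ) - 1, fun i hi => hLb i (by omega)⟩ v
      ((d : ℤ) - 1)
      (fun M n hn => exactAt_tensor_of_vanish A U F haff hU d hd M n (by omega)) M
  exact ⟨L, hL, ⟨(d : ℤ) - 1, fun i hi => hLb i (by omega)⟩,
    fun p => ⟨natIso A U F haff hU L v hq p⟩⟩

end Groth.Agent.H2.Mum
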