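import Groth.Agent.Lib.Helper2.ExtendFunctor
import Groth.Prelude.Def_ega3

/-! # Re-indexing: `T`-functors of an extended complex; cochain ↔ chain flip -/

set_option autoImplicit false
set_option linter.style.haveILetI false
universe u

open CategoryTheory CategoryTheory.Limits

namespace Groth.Agent.H2.Mum

section general

variable {A : Type u} [CommRing A] {ι ι' : Type} {c : ComplexShape ι} {c' : ComplexShape ι'}
  (e : c.Embedding c') [e.IsRelIff] (L : HomologicalComplex (ModuleCat.{u} A) c)
  {j : ι} {j' : ι'} (hj : e.f j = j')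

/-- objectwise: `T_{j'}(L.extend e)(M) ≅ T_j(L)(M)`. -/
noncomputable def TExtendIso (M : ModuleCat.{u} A) :
    CohIII.T (L.extend e) j' M ≅ CohIII.T L j M :=
  HomologicalComplex.homologyMapIso
    (extendMapHCIso e (MonoidalCategory.tensorRight M) L) j' ≪≫
    (CohIII.tensorObj L M).extendHomologyIso e hj

lemma TExtendIso_naturality {M M' : ModuleCat.{u} A} (h : M ⟶ M') :
    (CohIII.TFun (L.extend e) j').map h ≫ (TExtendIso e L hj M').hom =
      (TExtendIso e L hj M).hom ≫ (CohIII.TFun L j).map h := by
  have h1 : CohIII.tensorMap (L.extend e) h ≫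
      (extendMapHCIso e (MonoidalCategory.tensorRight M') L).hom =
      (extendMapHCIso e (MonoidalCategory.tensorRight M) L).hom ≫
        HomologicalComplex.extendMap (CohIII.tensorMap L h) e :=
    extendMapHCIso_naturality e
      ((MonoidalCategory.tensoringRight (ModuleCat.{u} A)).map h) L
  have h2 := HomologicalComplex.extendHomologyIso_hom_naturality
    (CohIII.tensorMap L h) e hj
  change HomologicalComplex.homologyMap (CohIII.tensorMap (L.extend e) h) j' ≫
    (HomologicalComplex.homologyMap
      (extendMapHCIso e (MonoidalCategory.tensorRight M') L).hom j' ≫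
      ((CohIII.tensorObj L M').extendHomologyIso e hj).hom) =
    (HomologicalComplex.homologyMap
      (extendMapHCIso e (MonoidalCategory.tensorRight M) L).hom j' ≫
      ((CohIII.tensorObj L M).extendHomologyIso e hj).hom) ≫
      HomologicalComplex.homologyMap (CohIII.tensorMap L h) j
  rw [← Category.assoc, ← HomologicalComplex.homologyMap_comp, h1,
    HomologicalComplex.homologyMap_comp, Category.assoc, h2, Category.assoc]

/-- `T_{j'}(L.extend e) ≅ T_j(L)` as functors. -/
noncomputable def TFunExtendIso : CohIII.TFun (L.extend e) j' ≅ CohIII.TFun L j :=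
  NatIso.ofComponents (fun M => TExtendIso e L hj M)
    (fun h => TExtendIso_naturality e L hj h)

end general

section flip

/-- the re-indexing `n ↦ -n` from cochain to chain complexes. -/
def eNeg : (ComplexShape.up ℤ).Embedding (ComplexShape.down ℤ) :=
  ComplexShape.Embedding.mk' _ _ (fun n => -n) (fun _ _ h => by simpa using h)
    (by intro i j; simp only [ComplexShape.down_Rel, ComplexShape.up_Rel]; omega)

instance : eNeg.IsRelIff := by dsimp [eNeg]; infer_instance

variable {A : Type u} [CommRing A] (L : CochainComplex (ModuleCat.{u} A) ℤ)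

/-- the chain complex `P_i = L^{-i}`. -/
noncomputable abbrev flip : ChainComplex (ModuleCat.{u} A) ℤ := L.extend eNeg

/-- the terms of the flipped complex. -/
noncomputable def flipXIso (i : ℤ) : (flip L).X i ≅ L.X (-i) :=
  L.extendXIso eNeg (i := -i) (i' := i) (by simp [eNeg])

/-- `T_{-p}(flip L) ≅ T^p(L)`. -/
noncomputable def flipTFunIso (p : ℤ) : CohIII.TFun (flip L) (-p) ≅ CohIII.TFun L p :=
  TFunExtendIso eNeg L (j := p) (j' := -p) rfl

lemma flip_finite_free (h : ∀ i, Module.Finite A (L.X i) ∧ Module.Free A (L.X i)) (i : ℤ) :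
    Module.Finite A ((flip L).X i) ∧ Module.Free A ((flip L).X i) := by
  haveI := (h (-i)).1
  haveI := (h (-i)).2
  exact ⟨Module.Finite.equiv (flipXIso L i).toLinearEquiv.symm,
    Module.Free.of_equiv (flipXIso L i).toLinearEquiv.symm⟩

lemma flip_finite_flat (h : ∀ i, Module.Finite A (L.X i) ∧ Module.Free A (L.X i)) (i : ℤ) :
    Module.Finite A ((flip L).X i) ∧ Module.Flat A ((flip L).X i) := by
  obtain ⟨h1, h2⟩ := flip_finite_free L h i
  exact ⟨h1, inferInstance⟩

end flip

end Groth.Agent.H2.Mum
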