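import Groth.Agent.Lib.Helper2.MumP
import Groth.Agent.Lib.Helper8.TFunRestrict

/-! # Base change of the resolution: `H^p(L ⊗_A B) ≅ H^p(X', g^*F)` -/

set_option autoImplicit false
set_option linter.style.haveILetI false
universe u

open CategoryTheory CategoryTheory.Limits AlgebraicGeometry Opposite TopologicalSpace TensorProduct

namespace Groth.Agent.H2.Mum

open Groth.Agent.LD Groth.Agent.LD.QC

section algebra

variable {A B : Type u} [CommRing A] [CommRing B] [Algebra A B] {ι : Type} {c : ComplexShape ι}

/-- `- ⊗_A B ≅ restrict ∘ extend` as functors. -/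
noncomputable def tauNatIso :
    MonoidalCategory.tensorRight (ModuleCat.of A B) ≅
      ModuleCat.extendScalars.{u, u, u} (algebraMap A B) ⋙
        ModuleCat.restrictScalars.{u, u, u} (algebraMap A B) :=
  NatIso.ofComponents (fun M => (Groth.Agent.H8.TFun.tauEquiv (B := B) M).toModuleIso)
    (fun {M N} f => by
      refine ModuleCat.hom_ext (LinearMap.ext fun z => ?_)
      exact Groth.Agent.H8.TFun.tauEquiv_naturality (B := B) f z)

/-- universal quasi-isomorphisms stay quasi-isomorphisms after extension of scalars. -/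
lemma quasiIso_bcCx_of_tensor {K K' : HomologicalComplex (ModuleCat.{u} A) c} (f : K ⟶ K')
    (h : QuasiIso (((MonoidalCategory.tensorRight (ModuleCat.of A B)).mapHomologicalComplex c).map
      f)) :
    QuasiIso (((ModuleCat.extendScalars.{u, u, u} (algebraMap A B)).mapHomologicalComplex c).map
      f) := by
  rw [← HomologicalComplex.quasiIso_map_iff_of_preservesHomology _
    (ModuleCat.restrictScalars.{u, u, u} (algebraMap A B))]
  let η := NatIso.mapHomologicalComplex (tauNatIso (A := A) (B := B)) c
  have e : Arrow.mk (((MonoidalCategory.tensorRight (ModuleCat.of A B)).mapHomologicalComplex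
      c).map f) ≅ Arrow.mk (((ModuleCat.restrictScalars.{u, u, u}
        (algebraMap A B)).mapHomologicalComplex c).map
      (((ModuleCat.extendScalars.{u, u, u} (algebraMap A B)).mapHomologicalComplex c).map f)) :=
    Arrow.isoMk (η.app K) (η.app K') (by
      have := η.hom.naturality f
      exact this.symm)
  exact (_root_.quasiIso_iff_of_arrow_mk_iso _ _ e).1 h

end algebra

section main

variable (A B : Type u) [CommRing A] [CommRing B] [Algebra A B]
  {X X' : Scheme.{u}} [X.Over (Spec (CommRingCat.of A))] [X'.Over (Spec (CommRingCat.of B))]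
  (g : X' ⟶ X) (F : X.Modules) {ι : Type u} (U : ι → X.Opens) [Finite ι] [F.IsQuasicoherent]
  (sq : IsPullback g (X' ↘ Spec (CommRingCat.of B)) (X ↘ Spec (CommRingCat.of A))
    (Spec.map (CommRingCat.ofHom (algebraMap A B))))
  (haff : ∀ (n : ℕ) (a : Fin (n + 1) → ι), IsAffineOpen (⨅ k, U (a k))) (hU : iSup U = ⊤)

instance pbF_qc : (pbF g F).IsQuasicoherent := qc_pullback g F

/-- cohomology of `g^* F` on `X'` from the base-changed Čech complex. -/
noncomputable def bcCechH (p : ℕ) :
    ((CohIII.bcCx (algebraMap A B) (CA A U F)).homology p : ModuleCat.{u} B) ≃ₗ[B]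
      Coh.HH X' (pbF g F) p :=
  (HomologicalComplex.homologyMapIso (bcIso A B g F U sq haff) p).toLinearEquiv.trans
    (hEquivLin B (Upre g U) (haff_pre A B g U sq haff) (hU_pre g U hU) (pbF g F) p)

variable (L : CochainComplex (ModuleCat.{u} A) ℤ) (v : L ⟶ CZ A U F)
  (hq : ∀ M : ModuleCat.{u} A, QuasiIso
    (((MonoidalCategory.tensorRight M).mapHomologicalComplex (ComplexShape.up ℤ)).map v))

/-- **base change**: `H^p(L ⊗_A B) ≅ H^p(X', g^* F)`, `B`-linearly. -/
noncomputable def bcH (p : ℕ) :
    ((CohIII.bcCx (algebraMap A B) L).homology (p : ℤ) : ModuleCat.{u} B) ≃ₗ[B]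
      Coh.HH X' (pbF g F) p :=
  haveI := quasiIso_bcCx_of_tensor (B := B) v (hq (ModuleCat.of A B))
  ((asIso (HomologicalComplex.homologyMap
    (((ModuleCat.extendScalars.{u, u, u} (algebraMap A B)).mapHomologicalComplex
      (ComplexShape.up ℤ)).map v) (p : ℤ))) ≪≫
    HomologicalComplex.homologyMapIso
      (extendMapHCIso eN (ModuleCat.extendScalars.{u, u, u} (algebraMap A B)) (CA A U F)) (p : ℤ) ≪≫
    (CohIII.bcCx (algebraMap A B) (CA A U F)).extendHomologyIso eN
      (j := p) (j' := (p : ℤ)) rfl).toLinearEquiv.trans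
    (bcCechH A B g F U sq haff hU p)

end main

end Groth.Agent.H2.Mum
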