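import Groth.Agent.Lib.Helper2.MumT
import Groth.Agent.Lib.Lead.Cech.TopH0

/-! # Global sections as `A`-modules and Čech `H⁰` (helper2)

`CohIII.globalSectionsA A` agrees `A`-linearly and naturally with degree-zero Čech cohomology of the
`A`-linear Čech complex `CA`. -/

set_option autoImplicit false
set_option linter.style.haveILetI false
universe u

open CategoryTheory CategoryTheory.Limits AlgebraicGeometry Opposite TopologicalSpace TensorProduct

namespace Groth.Agent.H2.Mum

open Groth.Agent.LD Groth.Agent.LD.QC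

variable (A : Type u) [CommRing A] {X : Scheme.{u}} [X.Over (Spec (CommRingCat.of A))]

/-- the preimage of the top open of `Spec A`. -/
noncomputable abbrev Tp : X.Opens :=
  (X ↘ Spec (CommRingCat.of A)) ⁻¹ᵁ (⊤ : (Spec (CommRingCat.of A)).Opens)

lemma appLE_self (r : Γ(Spec (CommRingCat.of A), ⊤)) :
    ((X ↘ Spec (CommRingCat.of A)).appLE ⊤ (Tp A) le_top).hom r =
      ((X ↘ Spec (CommRingCat.of A)).app ⊤).hom r := by
  have h := Scheme.Hom.appLE_eq_app (X ↘ Spec (CommRingCat.of A)) (U := ⊤)
  exact congr($h r)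

lemma gsA_smul (N : X.Modules) (a : A) (s : (CohIII.globalSectionsA A).obj N) :
    a • s = (show SecA A N (Tp A) from a • (show SecA A N (Tp A) from s)) := by
  change (show Γ((Scheme.Modules.pushforward (X ↘ Spec (CommRingCat.of A))).obj N, ⊤) from
    (show Γ(Spec (CommRingCat.of A), ⊤) from ((Spec (CommRingCat.of A)).ringCatSheaf.obj.map
      ((initialOpOfTerminal isTerminalTop).to (op ⊤))
        ((Scheme.ΓSpecIso (CommRingCat.of A)).inv.hom a))) •
      (show Γ((Scheme.Modules.pushforward (X ↘ Spec (CommRingCat.of A))).obj N, ⊤) from s)) = _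
  have h1 : (initialOpOfTerminal isTerminalTop).to
      (op (⊤ : (Spec (CommRingCat.of A)).Opens)) = 𝟙 _ := Subsingleton.elim _ _
  rw [h1, CategoryTheory.Functor.map_id]
  change (show Γ(N, Tp (X := X) A) from (((X ↘ Spec (CommRingCat.of A)).app ⊤).hom
      ((Scheme.ΓSpecIso (CommRingCat.of A)).inv.hom a)) • (show Γ(N, Tp (X := X) A) from s)) =
    (show Γ(N, Tp (X := X) A) from (ρ A (Tp (X := X) A) a) • (show Γ(N, Tp (X := X) A) from s))
  rw [← appLE_self A]
  rfl

/-- `Γ(X, N)` as an `A`-module is `SecA A N (Tp A)`. -/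
noncomputable def gsLin (N : X.Modules) :
    (CohIII.globalSectionsA A).obj N ≃ₗ[A] SecA A N (Tp A) where
  toFun s := s
  invFun s := s
  map_add' _ _ := rfl
  map_smul' a s := gsA_smul A N a s
  left_inv _ := rfl
  right_inv _ := rfl

lemma gsLin_map {N N' : X.Modules} (φ : N ⟶ N') (s : (CohIII.globalSectionsA A).obj N) :
    gsLin A N' (((CohIII.globalSectionsA A).map φ).hom s) = appA A φ (Tp A) (gsLin A N s) := rfl

variable {ι : Type u} (U : ι → X.Opens)

/-- the augmentation `Γ(X, N) → C⁰(U, N)`, `A`-linear. -/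
noncomputable def εlin (N : X.Modules) : (CohIII.globalSectionsA A).obj N →ₗ[A] CochA A U N 0 :=
  (LinearMap.pi fun a : Fin 1 → ι => resA A N (le_pre A (Wc U a))) ∘ₗ (gsLin A N).toLinearMap

lemma εlin_apply (N : X.Modules) (s : (CohIII.globalSectionsA A).obj N) (a : Fin 1 → ι) :
    εlin A U N s a = N.presheaf.map (homOfLE (le_pre A (Wc U a))).op
      (show Γ(N, Tp (X := X) A) from s) := rfl

lemma dA_εlin (N : X.Modules) : dA A U N 0 ∘ₗ εlin A U N = 0 := by
  ext s : 1
  funext a
  rw [LinearMap.comp_apply, dA_apply, Fin.sum_univ_two, LinearMap.zero_apply]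
  simp only [Fin.val_zero, pow_zero, one_smul, Fin.val_one, pow_one, neg_smul]
  rw [resA_apply, resA_apply, εlin_apply, εlin_apply, res_res, res_res]
  exact add_neg_cancel _

lemma εlin_map {N N' : X.Modules} (φ : N ⟶ N') (s : (CohIII.globalSectionsA A).obj N) :
    εlin A U N' (((CohIII.globalSectionsA A).map φ).hom s) = cochMap A U φ 0 (εlin A U N s) := by
  funext a
  rw [cochMap_apply]
  exact (appA_resA A φ (le_pre A (Wc U a)) (gsLin A N s)).symm

variable (hU : iSup U = ⊤)

include hU in
lemma Tp_le_iSup : Tp (X := X) A ≤ iSup U := by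
  rw [hU]
  exact le_top

include hU in
/-- gluing: a degree-zero cocycle comes from a unique global section. -/
theorem exists_εlin_eq (N : X.Modules) (y : CochA A U N 0) (hy : dA A U N 0 y = 0) :
    ∃ s, εlin A U N s = y := by
  let F := (SheafOfModules.toSheaf X.ringCatSheaf).obj N
  let x : (CH.K U N.presheaf).X 0 := (cochE A U N 0).symm y
  have hx : (CH.K U N.presheaf).d 0 1 x = 0 := by
    apply (cochE A U N 1).injective
    rw [← dA_cochE, map_zero]
    change dA A U N 0 (cochE A U N 0 ((cochE A U N 0).symm y)) = 0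
    rw [AddEquiv.apply_symm_apply, hy]
  obtain ⟨s, hs, -⟩ := CH.existsUnique_of_cocycle U F x hx
  have hs' : y = CH.augC U N.presheaf s := by
    have : CH.coch U N.presheaf 0 x = y := (cochE A U N 0).apply_symm_apply y
    rw [← this]
    exact hs
  refine ⟨N.presheaf.map (homOfLE (Tp_le_iSup A U hU)).op s, ?_⟩
  funext a
  rw [εlin_apply, hs']
  exact res_res N _ _ s

include hU in
theorem εlin_injective (N : X.Modules) : Function.Injective (εlin A U N) := by
  intro s t hst
  let F := (SheafOfModules.toSheaf X.ringCatSheaf).obj N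
  have hle : iSup U ≤ Tp (X := X) A := le_pre A _
  let s' : Γ(N, iSup U) := N.presheaf.map (homOfLE hle).op (show Γ(N, Tp (X := X) A) from s)
  let t' : Γ(N, iSup U) := N.presheaf.map (homOfLE hle).op (show Γ(N, Tp (X := X) A) from t)
  have hs1 : CH.augC U N.presheaf s' = εlin A U N s := by
    funext a
    rw [εlin_apply]
    exact res_res N _ _ _
  have ht1 : CH.augC U N.presheaf t' = εlin A U N t := by
    funext a
    rw [εlin_apply]
    exact res_res N _ _ _
  have hx : (CH.K U N.presheaf).d 0 1 (CH.augHom U N.presheaf s') = 0 := CH.d_augHom U N.presheaf s'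
  obtain ⟨r, _, hr⟩ := CH.existsUnique_of_cocycle U F (CH.augHom U N.presheaf s') hx
  have e1 : s' = r := hr s' (CH.coch_augHom U N.presheaf s')
  have e2 : t' = r := hr t' ((CH.coch_augHom U N.presheaf s').trans (hs1.trans (hst.trans ht1.symm)))
  have e3 : s' = t' := e1.trans e2.symm
  exact res_injective_of_le_of_le N hle (Tp_le_iSup A U hU) e3

/-- the augmentation as a morphism in `ModuleCat A`. -/
noncomputable def εhom (N : X.Modules) : (CohIII.globalSectionsA A).obj N ⟶ (CA A U N).X 0 :=
  (ModuleCat.ofHom (εlin A U N) :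
    ModuleCat.of A ((CohIII.globalSectionsA A).obj N) ⟶ ModuleCat.of A (CochA A U N 0))

lemma εhom_apply (N : X.Modules) (s : (CohIII.globalSectionsA A).obj N) :
    (εhom A U N).hom s = εlin A U N s := rfl

lemma εhom_d (N : X.Modules) : εhom A U N ≫ (CA A U N).d 0 1 = 0 := by
  rw [CA_d]
  ext s : 2
  exact congr($(dA_εlin A U N) s)

/-- the map `Γ(X, N) ⟶ Z⁰(CA)`. -/
noncomputable def ηc (N : X.Modules) : (CohIII.globalSectionsA A).obj N ⟶ (CA A U N).cycles 0 :=
  (CA A U N).liftCycles (εhom A U N) 1 (by simp) (εhom_d A U N)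

lemma ηc_i (N : X.Modules) :
    ηc A U N ≫ (CA A U N).iCycles 0 = εhom A U N :=
  (CA A U N).liftCycles_i (εhom A U N) 1 (by simp) (εhom_d A U N)

lemma ηc_naturality {N N' : X.Modules} (φ : N ⟶ N') :
    (CohIII.globalSectionsA A).map φ ≫ ηc A U N' =
      ηc A U N ≫ HomologicalComplex.cyclesMap (CAmap A U φ) 0 := by
  rw [← cancel_mono ((CA A U N').iCycles 0), Category.assoc, Category.assoc, ηc_i,
    HomologicalComplex.cyclesMap_i, ← Category.assoc, ηc_i, CAmap_f]
  ext s : 2
  exact εlin_map A U φ s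

include hU in
lemma ηc_isIso (N : X.Modules) : IsIso (ηc A U N) := by
  rw [ConcreteCategory.isIso_iff_bijective]
  have hi : Function.Injective ((CA A U N).iCycles 0).hom :=
    (ModuleCat.mono_iff_injective _).1 inferInstance
  have key : ∀ s, ((CA A U N).iCycles 0).hom ((ηc A U N).hom s) = εlin A U N s := fun s =>
    congr($(ηc_i A U N) s)
  constructor
  · intro s t hst
    apply εlin_injective A U hU N
    rw [← key, ← key]
    exact congrArg _ hst
  · intro z
    have hz : dA A U N 0 (((CA A U N).iCycles 0).hom z) = 0 := by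
      have h := (CA A U N).iCycles_d 0 1
      rw [CA_d] at h
      exact congr($h z)
    obtain ⟨s, hs⟩ := exists_εlin_eq A U hU N _ hz
    refine ⟨s, hi ?_⟩
    rw [← hs]
    exact key s

/-- `Γ(X, N) ≅ Ȟ⁰(U, N)` in `ModuleCat A`. -/
noncomputable def gsH0 (N : X.Modules) :
    (CohIII.globalSectionsA A).obj N ≅ (CA A U N).homology 0 :=
  haveI := ηc_isIso A U hU N
  asIso (ηc A U N) ≪≫ (CA A U N).isoHomologyπ₀

lemma gsH0_naturality {N N' : X.Modules} (φ : N ⟶ N') :
    (CohIII.globalSectionsA A).map φ ≫ (gsH0 A U hU N').hom =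
      (gsH0 A U hU N).hom ≫ HomologicalComplex.homologyMap (CAmap A U φ) 0 := by
  unfold gsH0
  simp only [Iso.trans_hom, asIso_hom, ← Category.assoc, ηc_naturality]
  simp only [Category.assoc]
  congr 1
  exact (HomologicalComplex.homologyπ_naturality (CAmap A U φ) 0).symm

end Groth.Agent.H2.Mum
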