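import Groth.Agent.Lib.Helper2.MumU
import Groth.Agent.Lib.Helper2.RpB6
import Groth.Agent.Lib.Helper2.Corep
import Groth.Agent.Lib.Helper8.TFunFlat

/-! # `M ↦ Γ(X, f^*(M~) ⊗ F)` is corepresentable (helper2) -/

set_option autoImplicit false
set_option linter.style.haveILetI false
universe u

open CategoryTheory CategoryTheory.Limits AlgebraicGeometry Opposite TopologicalSpace TensorProduct

namespace Groth.Agent.H2.Mum

open Groth.Agent.LD Groth.Agent.LD.QC

section natiso

variable (A : Type u) [CommRing A] {X : Scheme.{u}} [X.Over (Spec (CommRingCat.of A))]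
  {ι : Type u} (U : ι → X.Opens) (F : X.Modules)
variable [Finite ι] [F.IsQuasicoherent]
  (haff : ∀ (n : ℕ) (a : Fin (n + 1) → ι), IsAffineOpen (⨅ k, U (a k))) (hU : iSup U = ⊤)
  (L : CochainComplex (ModuleCat.{u} A) ℤ) (v : L ⟶ CZ A U F)
  (hq : ∀ M : ModuleCat.{u} A, QuasiIso
    (((MonoidalCategory.tensorRight M).mapHomologicalComplex (ComplexShape.up ℤ)).map v))

/-- **the natural `A`-linear isomorphism** `T^0_L ≅ Γ(X, f^*(-~) ⊗ F)`. -/
noncomputable def gsNatIso :
    CohIII.TFun L ((0 : ℕ) : ℤ) ≅ CohIII.tensorAFunctor A F ⋙ CohIII.globalSectionsA A :=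
  NatIso.ofComponents
    (fun M => ΨIso A U F haff L v hq M 0 ≪≫ (gsH0 A U hU (TF A F M)).symm) (by
    intro M M' h
    have e : (CohIII.tensorAFunctor A F).map h = TFmap A F h := KoszTw.tensorRightMod_map _ _
    have h1 := ΨIso_naturality A U F haff L v hq h 0
    have h2 := gsH0_naturality A U hU (TFmap A F h)
    have h3 : (gsH0 A U hU (TF A F M)).inv ≫ (CohIII.globalSectionsA A).map (TFmap A F h) =
        HomologicalComplex.homologyMap (CAmap A U (TFmap A F h)) 0 ≫
          (gsH0 A U hU (TF A F M')).inv := by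
      rw [Iso.inv_comp_eq, ← Category.assoc, Iso.eq_comp_inv]
      exact h2
    have key : HomologicalComplex.homologyMap (CohIII.tensorMap L h) ((0 : ℕ) : ℤ) ≫
        (ΨIso A U F haff L v hq M' 0).hom ≫ (gsH0 A U hU (TF A F M')).inv =
        ((ΨIso A U F haff L v hq M 0).hom ≫ (gsH0 A U hU (TF A F M)).inv) ≫
          (CohIII.globalSectionsA A).map (TFmap A F h) := by
      rw [Category.assoc, h3, ← Category.assoc, ← Category.assoc, h1]
    change HomologicalComplex.homologyMap (CohIII.tensorMap L h) ((0 : ℕ) : ℤ) ≫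
      (ΨIso A U F haff L v hq M' 0).hom ≫ (gsH0 A U hU (TF A F M')).inv =
      ((ΨIso A U F haff L v hq M 0).hom ≫ (gsH0 A U hU (TF A F M)).inv) ≫
        (CohIII.globalSectionsA A).map ((CohIII.tensorAFunctor A F).map h)
    rw [e]
    exact key)

end natiso

/-- **corepresentability of `M ↦ Γ(X, f^*(M~) ⊗ F)`**. -/
theorem exists_corep_globalSections (A : Type u) [CommRing A] [IsNoetherianRing A] (X : Scheme.{u})
    [X.Over (Spec (CommRingCat.of A))] [IsProper (X ↘ Spec (CommRingCat.of A))]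
    (F : X.Modules) (hF : Coh.IsCoh F)
    (hfl : FlatMod.IsFlatOver (X ↘ Spec (CommRingCat.of A)) F) :
    ∃ Q : ModuleCat.{u} A, Module.Finite A Q ∧
      Nonempty (CohIII.tensorAFunctor A F ⋙ CohIII.globalSectionsA A ≅
        (linearCoyoneda A (ModuleCat.{u} A)).obj (op Q)) := by
  obtain ⟨ι, hfin, U, haff, hU, L, v, hL, hb, hv, hq⟩ := exists_resolution' A X F hF hfl
  haveI := hfin
  haveI : F.IsQuasicoherent := hF.1
  have hP := flip_finite_flat L hL
  have hfl' := fun i => (hP i).2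
  have hepi : (CohIII.TFun (flip L) (-((0 : ℕ) : ℤ) + 1)).PreservesEpimorphisms := by
    refine ⟨fun {M M'} f _ => ⟨fun g h _ => ?_⟩⟩
    exact (isZero_TFun_flip_pos A F U L v hq M' (-((0 : ℕ) : ℤ) + 1) (by simp)).eq_of_src g h
  have hW := (Groth.Agent.H8.TFun.preservesEpi_iff_flat (flip L) hfl' (-((0 : ℕ) : ℤ) + 1)
    (-((0 : ℕ) : ℤ)) rfl).1 hepi
  obtain ⟨Q, hQ, ⟨eQ⟩⟩ := Groth.Agent.H2.Corep.exists_corep_of_flat_coker (flip L) hP
    (-((0 : ℕ) : ℤ)) hW
  exact ⟨Q, hQ, ⟨(gsNatIso A U F haff hU L v hq).symm ≪≫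
    (flipTFunIso L ((0 : ℕ) : ℤ)).symm ≪≫ eQ⟩⟩

end Groth.Agent.H2.Mum
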