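import Mathlib

/-! # Kernels of natural transformations between corepresentable functors on modules (helper2) -/

set_option autoImplicit false
set_option linter.style.haveILetI false
universe u

open CategoryTheory CategoryTheory.Limits Opposite

namespace Groth.Agent.H2.CorepKer

variable {A : Type u} [CommRing A]

/-- a natural transformation between corepresentable functors is precomposition. -/
lemma app_eq_comp {Q Q' : ModuleCat.{u} A}
    (η : (linearCoyoneda A (ModuleCat.{u} A)).obj (op Q) ⟶
      (linearCoyoneda A (ModuleCat.{u} A)).obj (op Q'))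
    (M : ModuleCat.{u} A) (φ : Q ⟶ M) :
    (η.app M).hom φ = (show Q' ⟶ Q from (η.app Q).hom (𝟙 Q)) ≫ φ := by
  have h := η.naturality φ
  have h2 := congr($h (𝟙 Q))
  change (η.app M).hom (𝟙 Q ≫ φ) = (show Q' ⟶ Q from (η.app Q).hom (𝟙 Q)) ≫ φ at h2
  rw [Category.id_comp] at h2
  exact h2

/-- the kernel of a natural transformation between corepresentable functors (with finitely
generated corepresenting object on the source) is corepresentable by a finitely generated module. -/
theorem exists_kernel_corep {T T' : ModuleCat.{u} A ⥤ ModuleCat.{u} A} {Q Q' : ModuleCat.{u} A}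
    (e : T ≅ (linearCoyoneda A (ModuleCat.{u} A)).obj (op Q))
    (e' : T' ≅ (linearCoyoneda A (ModuleCat.{u} A)).obj (op Q')) [Module.Finite A Q]
    (η : T ⟶ T') :
    ∃ (R : ModuleCat.{u} A) (ι : (linearCoyoneda A (ModuleCat.{u} A)).obj (op R) ⟶ T),
      Module.Finite A R ∧ (∀ M : ModuleCat.{u} A, Function.Injective (ι.app M).hom) ∧
        ∀ (M : ModuleCat.{u} A) (x : T.obj M),
          (η.app M).hom x = 0 ↔ ∃ y, (ι.app M).hom y = x := by
  let η' : (linearCoyoneda A (ModuleCat.{u} A)).obj (op Q) ⟶
      (linearCoyoneda A (ModuleCat.{u} A)).obj (op Q') := e.inv ≫ η ≫ e'.hom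
  let u : Q' ⟶ Q := (η'.app Q).hom (𝟙 Q)
  have hu : ∀ (M : ModuleCat.{u} A) (φ : Q ⟶ M), (η'.app M).hom φ = u ≫ φ :=
    fun M φ => app_eq_comp η' M φ
  let R : ModuleCat.{u} A := ModuleCat.of A (Q ⧸ LinearMap.range u.hom)
  let π : Q ⟶ R := ModuleCat.ofHom (LinearMap.range u.hom).mkQ
  haveI : Epi π := (ModuleCat.epi_iff_surjective _).2 (Submodule.mkQ_surjective _)
  have huπ : u ≫ π = 0 := by
    ext z
    change (LinearMap.range u.hom).mkQ (u.hom z) = 0
    rw [Submodule.mkQ_apply, Submodule.Quotient.mk_eq_zero]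
    exact ⟨z, rfl⟩
  have hinj : ∀ (M : ModuleCat.{u} A), Function.Injective (e.inv.app M).hom := fun M =>
    ((ConcreteCategory.isIso_iff_bijective (e.inv.app M)).1 inferInstance).1
  have hinj' : ∀ (M : ModuleCat.{u} A), Function.Injective (e'.hom.app M).hom := fun M =>
    ((ConcreteCategory.isIso_iff_bijective (e'.hom.app M)).1 inferInstance).1
  refine ⟨R, (linearCoyoneda A (ModuleCat.{u} A)).map π.op ≫ e.inv,
    inferInstanceAs (Module.Finite A (Q ⧸ LinearMap.range u.hom)), ?_, ?_⟩
  · intro M y y' hy
    have h1 : (e.inv.app M).hom (show Q ⟶ M from π ≫ y) =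
        (e.inv.app M).hom (show Q ⟶ M from π ≫ y') := hy
    have h2 := hinj M h1
    exact (cancel_epi π).1 h2
  · intro M x
    have hx : (e.inv.app M).hom ((e.hom.app M).hom x) = x := by
      have := congr($(e.hom_inv_id_app M) x)
      exact this
    have h0 : (η'.app M).hom ((e.hom.app M).hom x) = (e'.hom.app M).hom ((η.app M).hom x) := by
      change (e'.hom.app M).hom ((η.app M).hom ((e.inv.app M).hom ((e.hom.app M).hom x))) = _
      rw [hx]
    constructor
    · intro h
      have h1 : u ≫ (show Q ⟶ M from (e.hom.app M).hom x) = 0 := by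
        rw [← hu, h0, h, map_zero]
        rfl
      have hle : LinearMap.range u.hom ≤
          LinearMap.ker (show Q ⟶ M from (e.hom.app M).hom x).hom := by
        rintro _ ⟨z, rfl⟩
        exact congr($h1 z)
      refine ⟨ModuleCat.ofHom ((LinearMap.range u.hom).liftQ _ hle), ?_⟩
      change (e.inv.app M).hom (show Q ⟶ M from
        π ≫ ModuleCat.ofHom ((LinearMap.range u.hom).liftQ _ hle)) = x
      have h2 : π ≫ ModuleCat.ofHom ((LinearMap.range u.hom).liftQ _ hle) =
          (show Q ⟶ M from (e.hom.app M).hom x) := by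
        ext z
        rfl
      rw [h2]
      exact hx
    · rintro ⟨y, rfl⟩
      apply hinj' M
      rw [map_zero, ← h0]
      change (η'.app M).hom ((e.hom.app M).hom ((e.inv.app M).hom (show Q ⟶ M from π ≫ y))) = 0
      have h3 : (e.hom.app M).hom ((e.inv.app M).hom (show Q ⟶ M from π ≫ y)) =
          (show Q ⟶ M from π ≫ y) := congr($(e.inv_hom_id_app M) (show Q ⟶ M from π ≫ y))
      rw [h3, hu, ← Category.assoc, huπ, zero_comp]
      rfl

end Groth.Agent.H2.CorepKer
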