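import Groth.Agent.Lib.Helper2.NCovC

/-!
# Multiplication by `n` on an abelian variety as a Galois cover: main results (helper2)
-/

set_option autoImplicit false
set_option linter.style.haveILetI false
set_option linter.unusedSectionVars false
universe u

open CategoryTheory CategoryTheory.Limits AlgebraicGeometry
open MonoidalCategory CartesianMonoidalCategory MonObj

namespace Groth.Agent.H2.NCov

noncomputable section

variable {k : Type u} [Field k] [IsAlgClosed k] (A : Over (Spec (CommRingCat.of k))) [GrpObj A]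
  [IsCommMonObj A] (n : ℤ) [hF : IsFinite ((𝟙 A) ^ n).left] [hE : Etale ((𝟙 A) ^ n).left]

/-- a point of the kernel of `[n]` with values in a field comes from a rational point. -/
theorem exists_point {Ω : Type u} [Field Ω]
    (c : Spec (CommRingCat.of Ω) ⟶ Spec (CommRingCat.of k))
    (d : Over.mk c ⟶ A) (hd : d ^ n = 1) :
    ∃ a : 𝟙_ (Over (Spec (CommRingCat.of k))) ⟶ A, a ^ n = 1 ∧ d = toUnit (Over.mk c) ≫ a := by
  obtain ⟨e₀, he₀⟩ : ∃ e₀ : Spec (CommRingCat.of k) ⟶ A.left, e₀ = η[A].left := ⟨_, rfl⟩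
  have hdφ : d ≫ (𝟙 A) ^ n = toUnit _ ≫ η[A] := by
    rw [GrpObj.comp_zpow, Category.comp_id, hd, Hom.one_def]
  have hcond : d.left ≫ ((𝟙 A) ^ n).left = c ≫ e₀ := by
    have h := congrArg (fun ψ => ψ.left) hdφ
    simp only [Over.comp_left] at h
    rw [h, he₀]
    rfl
  obtain ⟨ℓ, hℓ⟩ : ∃ ℓ : Spec (CommRingCat.of Ω) ⟶ pullback ((𝟙 A) ^ n).left e₀,
      ℓ = pullback.lift d.left c hcond := ⟨_, rfl⟩
  have h1 : ℓ ≫ pullback.fst _ e₀ = d.left := by rw [hℓ]; exact pullback.lift_fst _ _ _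
  have h2 : ℓ ≫ pullback.snd _ e₀ = c := by rw [hℓ]; exact pullback.lift_snd _ _ _
  obtain ⟨σ, hσ1, hσ2⟩ := exists_section_factor (pullback.snd ((𝟙 A) ^ n).left e₀) ℓ
  have hA : e₀ ≫ A.hom = 𝟙 _ := by rw [he₀]; exact Over.w η[A]
  have hφA : ((𝟙 A) ^ n).left ≫ A.hom = A.hom := Over.w _
  have hw : (σ ≫ pullback.fst ((𝟙 A) ^ n).left e₀) ≫ A.hom = 𝟙 _ := by
    calc (σ ≫ pullback.fst ((𝟙 A) ^ n).left e₀) ≫ A.hom
        = σ ≫ pullback.fst ((𝟙 A) ^ n).left e₀ ≫ ((𝟙 A) ^ n).left ≫ A.hom := by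
          rw [hφA, Category.assoc]
      _ = σ ≫ pullback.snd ((𝟙 A) ^ n).left e₀ ≫ e₀ ≫ A.hom := by
          rw [pullback.condition_assoc]
      _ = 𝟙 _ := by rw [hA, Category.comp_id, hσ1]
  obtain ⟨a, ha⟩ : ∃ a : 𝟙_ (Over (Spec (CommRingCat.of k))) ⟶ A,
      a.left = σ ≫ pullback.fst ((𝟙 A) ^ n).left e₀ := ⟨Over.homMk _ hw, rfl⟩
  have haφ : a ≫ (𝟙 A) ^ n = η[A] := by
    ext1
    rw [Over.comp_left, ha, Category.assoc, pullback.condition, ← Category.assoc, hσ1, he₀]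
    exact Category.id_comp _
  refine ⟨a, ?_, ?_⟩
  · have h := haφ
    rw [GrpObj.comp_zpow, Category.comp_id] at h
    rw [h, eta_eq_one]
  · ext1
    rw [Over.comp_left, ha]
    calc d.left = ℓ ≫ pullback.fst _ e₀ := h1.symm
      _ = ((ℓ ≫ pullback.snd _ e₀) ≫ σ) ≫ pullback.fst _ e₀ := by rw [← hσ2]
      _ = c ≫ σ ≫ pullback.fst _ e₀ := by rw [h2, Category.assoc]

theorem connected [GeometricallyIntegral A.hom] : ConnectedSpace A.left := by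
  haveI : Subsingleton (Spec (CommRingCat.of k)) :=
    inferInstanceAs (Subsingleton (PrimeSpectrum k))
  haveI : Nonempty (Spec (CommRingCat.of k)) := inferInstanceAs (Nonempty (PrimeSpectrum k))
  haveI : IrreducibleSpace A.left :=
    GeometricallyIrreducible.irreducibleSpace_of_subsingleton A.hom
  infer_instance

theorem isGalois [GeometricallyIntegral A.hom] : PiSp.IsGaloisCover (cov A n) := by
  refine ⟨connected A, ?_⟩
  intro Ω _ _ ξ s t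
  obtain ⟨c, hc⟩ : ∃ c : Spec (CommRingCat.of Ω) ⟶ Spec (CommRingCat.of k), c = ξ ≫ A.hom :=
    ⟨_, rfl⟩
  have hφA : ((𝟙 A) ^ n).left ≫ A.hom = A.hom := Over.w _
  obtain ⟨s0, hs2, hs0e⟩ : ∃ s0 : Spec (CommRingCat.of Ω) ⟶ A.left,
      s0 ≫ ((𝟙 A) ^ n).left = ξ ∧ s0 = s.1 := ⟨s.1, s.2, rfl⟩
  obtain ⟨t0, ht2, ht0e⟩ : ∃ t0 : Spec (CommRingCat.of Ω) ⟶ A.left,
      t0 ≫ ((𝟙 A) ^ n).left = ξ ∧ t0 = t.1 := ⟨t.1, t.2, rfl⟩
  have hs : s0 ≫ A.hom = c := by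
    rw [hc, ← hs2, Category.assoc, hφA]
  have ht : t0 ≫ A.hom = c := by
    rw [hc, ← ht2, Category.assoc, hφA]
  obtain ⟨s', hs'⟩ : ∃ s' : Over.mk c ⟶ A, s'.left = s0 := ⟨Over.homMk s0 hs, rfl⟩
  obtain ⟨t', ht'⟩ : ∃ t' : Over.mk c ⟶ A, t'.left = t0 := ⟨Over.homMk t0 ht, rfl⟩
  have hst : s' ≫ (𝟙 A) ^ n = t' ≫ (𝟙 A) ^ n := by
    ext1
    rw [Over.comp_left, Over.comp_left, hs', ht', hs2, ht2]
  have hd : (s'⁻¹ * t') ^ n = 1 := by
    have e1 : s' ^ n = s' ≫ (𝟙 A) ^ n := by rw [GrpObj.comp_zpow, Category.comp_id]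
    have e2 : t' ^ n = t' ≫ (𝟙 A) ^ n := by rw [GrpObj.comp_zpow, Category.comp_id]
    rw [mul_zpow, inv_zpow, e1, e2, hst, inv_mul_cancel]
  obtain ⟨a, ha, had⟩ := exists_point A n c (s'⁻¹ * t') hd
  refine ⟨autOf A n a ha, ?_⟩
  apply Subtype.ext
  show s.1 ≫ (autOf A n a ha).hom.left = t.1
  rw [autOf_hom_left]
  have h := comp_tr A s' a
  rw [← had, mul_inv_cancel_left] at h
  have h' := congrArg (fun ψ => ψ.left) h
  simp only [Over.comp_left] at h'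
  rw [hs', ht', hs0e, ht0e] at h'
  exact h'

theorem aut_eq [GeometricallyIntegral A.hom] (θ : Aut (cov A n)) :
    ∃! a : 𝟙_ (Over (Spec (CommRingCat.of k))) ⟶ A,
      a ^ n = 1 ∧ θ.hom.left = ((𝟙 A) * (toUnit A ≫ a)).left := by
  have hφA : ((𝟙 A) ^ n).left ≫ A.hom = A.hom := Over.w _
  obtain ⟨ψ, hψe⟩ : ∃ ψ : A.left ⟶ A.left, ψ = θ.hom.left := ⟨_, rfl⟩
  have hθ : ψ ≫ ((𝟙 A) ^ n).left = ((𝟙 A) ^ n).left := by
    rw [hψe]
    exact MorphismProperty.Over.w θ.hom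
  have hΨw : ψ ≫ A.hom = A.hom := by
    calc ψ ≫ A.hom = ψ ≫ ((𝟙 A) ^ n).left ≫ A.hom := by rw [hφA]
      _ = A.hom := by rw [← Category.assoc, hθ, hφA]
  obtain ⟨Ψ, hΨ⟩ : ∃ Ψ : A ⟶ A, Ψ.left = ψ := ⟨Over.homMk ψ hΨw, rfl⟩
  have hΨφ : Ψ ≫ (𝟙 A) ^ n = (𝟙 A) ^ n := by
    ext1
    rw [Over.comp_left, hΨ]
    exact hθ
  obtain ⟨a, haΨ⟩ : ∃ a : 𝟙_ (Over (Spec (CommRingCat.of k))) ⟶ A, a = η[A] ≫ Ψ := ⟨_, rfl⟩
  have ha : a ^ n = 1 := by
    have h : a ≫ (𝟙 A) ^ n = η[A] ≫ (𝟙 A) ^ n := by rw [haΨ, Category.assoc, hΨφ]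
    rw [GrpObj.comp_zpow, Category.comp_id, GrpObj.comp_zpow, Category.comp_id, eta_eq_one,
      one_zpow] at h
    exact h
  haveI := connected A
  have hrig : Ψ = tr A a := by
    have hf : Ψ.left ≫ ((𝟙 A) ^ n).left = ((𝟙 A) ^ n).left := by rw [hΨ]; exact hθ
    have hg : (tr A a).left ≫ ((𝟙 A) ^ n).left = ((𝟙 A) ^ n).left := by
      have h := congrArg (fun ψ => ψ.left) (tr_comp_zpow A n a ha)
      rw [Over.comp_left] at h
      exact h
    let Y' : Over A.left := Over.mk ((𝟙 A) ^ n).left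
    let U' : Over A.left := Over.mk (η[A].left ≫ ((𝟙 A) ^ n).left)
    let f' : Y' ⟶ Y' := Over.homMk Ψ.left hf
    let g' : Y' ⟶ Y' := Over.homMk (tr A a).left hg
    let i' : U' ⟶ Y' := Over.homMk η[A].left rfl
    haveI : Nonempty U'.left := inferInstanceAs (Nonempty (PrimeSpectrum k))
    haveI : FormallyUnramified Y'.hom := inferInstanceAs (FormallyUnramified ((𝟙 A) ^ n).left)
    haveI : LocallyOfFiniteType Y'.hom := inferInstanceAs (LocallyOfFiniteType ((𝟙 A) ^ n).left)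
    haveI : IsSeparated Y'.hom := inferInstanceAs (IsSeparated ((𝟙 A) ^ n).left)
    haveI : ConnectedSpace Y'.left := connected A
    have h : i' ≫ f' = i' ≫ g' := by
      ext1
      rw [Over.comp_left, Over.comp_left]
      show η[A].left ≫ Ψ.left = η[A].left ≫ (tr A a).left
      rw [← Over.comp_left, ← Over.comp_left, eta_comp_tr, haΨ]
    have h2 := eq_of_comp_eq_of_unramified f' g' i' h
    ext1
    exact congrArg (fun ψ => ψ.left) h2
  refine ⟨a, ⟨ha, ?_⟩, ?_⟩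
  · show θ.hom.left = (tr A a).left
    rw [← hrig, hΨ, hψe]
  · rintro b ⟨-, hθb⟩
    have h1 : tr A b = Ψ := by
      ext1
      rw [hΨ, hψe]
      exact hθb.symm
    rw [← eta_comp_tr A b, h1, haΨ]

theorem exists_aut (a : 𝟙_ (Over (Spec (CommRingCat.of k))) ⟶ A) (ha : a ^ n = 1) :
    ∃ θ : Aut (cov A n), θ.hom.left = ((𝟙 A) * (toUnit A ≫ a)).left :=
  ⟨autOf A n a ha, rfl⟩

end

end Groth.Agent.H2.NCov
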