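import Mathlib
import Groth.Agent.Lib.Helper2.NFGen5

/-! Helper2: semicontinuity of the depth along `V(p)`. -/

set_option autoImplicit false
set_option linter.style.haveILetI false

universe u

namespace Groth.Agent.H2.NFGen

open Groth.Agent.H6

section Semi

variable {A : Type u} [CommRing A] [IsNoetherianRing A]

/-- `depth A_q/pA_q ≥ 1` for primes `p < q` -/
theorem one_le_sq (p q : Ideal A) [hp : p.IsPrime] [hq : q.IsPrime] (hpq : p < q) :
    1 ≤ sq p q := by
  set P := p.map (algebraMap A (Localization.AtPrime q)) with hPdef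
  have hdisj : Disjoint (q.primeCompl : Set A) p := by
    rw [Set.disjoint_left]
    intro x hx hxp
    exact hx (hpq.le hxp)
  haveI hP : P.IsPrime :=
    IsLocalization.isPrime_of_isPrime_disjoint q.primeCompl (Localization.AtPrime q) p hp hdisj
  have hcomap : P.comap (algebraMap A (Localization.AtPrime q)) = p :=
    IsLocalization.comap_map_of_isPrime_disjoint q.primeCompl (Localization.AtPrime q) hp hdisj
  -- an element of the maximal ideal outside `P`
  obtain ⟨a, haq, hap⟩ := SetLike.exists_of_lt hpq
  set x := algebraMap A (Localization.AtPrime q) a with hx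
  have hxm : x ∈ IsLocalRing.maximalIdeal (Localization.AtPrime q) :=
    (IsLocalization.AtPrime.to_map_mem_maximal_iff (Localization.AtPrime q) q a).mpr haq
  have hxP : x ∉ P := by
    intro h
    apply hap
    rw [← hcomap]
    exact h
  have hreg : IsSMulRegular (Localization.AtPrime q ⧸ P) x := by
    intro b₁ b₂ hb
    have hb' : Ideal.Quotient.mk P x * b₁ = Ideal.Quotient.mk P x * b₂ := by
      have h1 : ∀ b : Localization.AtPrime q ⧸ P, x • b = Ideal.Quotient.mk P x * b := fun b => by
        obtain ⟨b, rfl⟩ := Ideal.Quotient.mk_surjective b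
        rfl
      rw [← h1, ← h1]
      exact hb
    have hne : Ideal.Quotient.mk P x ≠ 0 := fun h => hxP (Ideal.Quotient.eq_zero_iff_mem.mp h)
    exact mul_left_cancel₀ hne hb'
  have h := Depth.idealDepth_quotSMulTop_add_one (IsLocalRing.maximalIdeal (Localization.AtPrime q))
    (Localization.AtPrime q ⧸ P) x hxm hreg
  unfold sq LocCoh.depth
  rw [← h]
  exact le_add_self

/-- **semicontinuity of depth** along `V(p)` -/
theorem depth_semicontinuous (M : Type u) [AddCommGroup M] [Module A M] [Module.Finite A M]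
    (p : Ideal A) [hp : p.IsPrime] (e : ℕ) (he : dpt M p = e) :
    ∃ f : A, f ∉ p ∧ (∀ (q : Ideal A) [q.IsPrime], p ≤ q → f ∉ q → (e : ℕ∞) ≤ dpt M q) ∧
      {q : PrimeSpectrum A | p ≤ q.asIdeal ∧ f ∉ q.asIdeal ∧ dpt M q.asIdeal = e}.Finite := by
  have hnt : Nontrivial (LocalizedModule p.primeCompl M) := by
    by_contra hcon
    rw [not_nontrivial_iff_subsingleton] at hcon
    have htop : dpt M p = ⊤ := by
      unfold dpt LocCoh.depth LocCoh.idealDepth
      rw [if_pos (Subsingleton.elim _ _)]
    rw [htop] at he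
    exact ENat.top_ne_natCast e he
  have hann : Module.annihilator A M ≤ p := by
    have : (⟨p, hp⟩ : PrimeSpectrum A) ∈ Module.support A M := Module.mem_support_iff.mpr hnt
    exact Module.mem_support_iff_of_finite.mp this
  obtain ⟨f, hf, H⟩ := depth_formula p M hann
  refine ⟨f, hf, fun q _ hpq hfq => ?_, ?_⟩
  · rw [H q hpq hfq, he]
    exact le_self_add
  · refine Set.Finite.subset (Set.finite_singleton (⟨p, hp⟩ : PrimeSpectrum A)) ?_
    rintro q ⟨hpq, hfq, hq⟩
    rw [Set.mem_singleton_iff]
    by_contra hne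
    have hlt : p < q.asIdeal := lt_of_le_of_ne hpq (fun h => hne (PrimeSpectrum.ext h.symm))
    have h1 := one_le_sq p q.asIdeal hlt
    rw [H q.asIdeal hpq hfq, he] at hq
    have h2 : (e : ℕ∞) + 1 ≤ e := by
      calc (e : ℕ∞) + 1 ≤ e + sq p q.asIdeal := add_le_add le_rfl h1
        _ = e := hq
    have h3 : (e + 1 : ℕ) ≤ e := by exact_mod_cast h2
    omega

end Semi

end Groth.Agent.H2.NFGen
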