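import Mathlib
import Groth.Agent.Lib.Helper2.NFGen6
import Groth.Agent.Lib.Helper6.SkLoc

/-! Helper2: normal flatness along a nilpotent ideal: `(S_n)` and codepth of `M` versus `A/I`
(EGA IV 6.10.5 (ii)). -/

set_option autoImplicit false
set_option linter.style.haveILetI false

universe u

namespace Groth.Agent.H2.NFGen

open Groth.Agent.H6

section LocNF

variable {A : Type u} [CommRing A] (I : Ideal A) (M : Type u) [AddCommGroup M] [Module A M]

/-- normal flatness localizes -/
theorem isNormallyFlat_localization (hM : EGA4.IsNormallyFlat I M) (q : Ideal A) [q.IsPrime] :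
    EGA4.IsNormallyFlat (I.map (algebraMap A (Localization.AtPrime q)))
      (LocalizedModule q.primeCompl M) := by
  intro n
  let ℓ := LocalizedModule.mkLinearMap q.primeCompl M
  let g := Groth.Agent.H1.NormFlat.restrictPow q.primeCompl (Localization.AtPrime q) ℓ I n
  let θ := Groth.Agent.H1.NormFlat.quotMap q.primeCompl (Localization.AtPrime q) g I
  haveI := hM n
  haveI : Module.Flat (A ⧸ I) (LocalizedModule (Algebra.algebraMapSubmonoid (A ⧸ I) q.primeCompl)
      (↥(I ^ n • (⊤ : Submodule A M)) ⧸ I • (⊤ : Submodule A ↥(I ^ n • (⊤ : Submodule A M))))) :=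
    Module.Flat.trans (A ⧸ I) (Localization (Algebra.algebraMapSubmonoid (A ⧸ I) q.primeCompl)) _
  exact Groth.Agent.H1.NormFlat.flat_quotient_of_isLocalizedModule q.primeCompl
    (Localization.AtPrime q) I θ

end LocNF

section Nil

variable {A : Type u} [CommRing A] [IsNoetherianRing A] (I : Ideal A) (hI : IsNilpotent I)
  (M : Type u) [AddCommGroup M] [Module A M] [Module.Finite A M]
  (hsupp : Module.support A M = Set.univ) (hM : EGA4.IsNormallyFlat I M)

include hI hsupp hM in
/-- `M` and `A/I` have the same local dimensions and depths -/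
theorem dim_depth_eq_of_nilpotent (q : Ideal A) [hq : q.IsPrime] :
    Module.supportDim (Localization.AtPrime q) (LocalizedModule q.primeCompl M) =
      Module.supportDim (Localization.AtPrime q) (LocalizedModule q.primeCompl (A ⧸ I)) ∧
    LocCoh.depth (Localization.AtPrime q) (LocalizedModule q.primeCompl M) =
      LocCoh.depth (Localization.AtPrime q) (LocalizedModule q.primeCompl (A ⧸ I)) := by
  obtain ⟨k, hk⟩ := hI
  have hIq : I ≤ q := by
    intro x hx
    have : x ^ k ∈ I ^ k := Ideal.pow_mem_pow hx k
    rw [hk] at this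
    have hx0 : x ^ k = 0 := this
    exact hq.mem_of_pow_mem k (hx0 ▸ q.zero_mem)
  haveI : Nontrivial (LocalizedModule q.primeCompl M) := by
    have : (⟨q, hq⟩ : PrimeSpectrum A) ∈ Module.support A M := by rw [hsupp]; exact Set.mem_univ _
    exact Module.mem_support_iff.mp this
  have hle : I.map (algebraMap A (Localization.AtPrime q)) ≤
      IsLocalRing.maximalIdeal (Localization.AtPrime q) := by
    rw [Ideal.map_le_iff_le_comap]
    have h3 : Ideal.comap (algebraMap A (Localization.AtPrime q))
        (IsLocalRing.maximalIdeal (Localization.AtPrime q)) = q :=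
      IsLocalization.AtPrime.comap_maximalIdeal (Localization.AtPrime q) q
    rw [h3]
    exact hIq
  have hk' : (I.map (algebraMap A (Localization.AtPrime q))) ^ k •
      (⊤ : Submodule (Localization.AtPrime q) (LocalizedModule q.primeCompl M)) = ⊥ := by
    rw [← Ideal.map_pow, hk, Ideal.zero_eq_bot, Ideal.map_bot, Submodule.bot_smul]
  have hnf := isNormallyFlat_localization I M hM q
  obtain ⟨e1, e2⟩ := depth_and_dim_quotLoc I q
  refine ⟨?_, ?_⟩
  · rw [Groth.Agent.H2.NFlat.dim_eq' hle k hk' hnf, e2, Module.supportDim_quotient_eq_ringKrullDim]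
  · rw [Groth.Agent.H2.NFlat.depth_eq' hle k hk' hnf, e1]

include hI hsupp hM in
/-- **EGA IV 6.10.5 (ii)** -/
theorem sk_codepth_iff_of_nilpotent (n : ℕ) (p : Ideal A) [p.IsPrime] :
    (EGA4.HasSkAt n A M p ↔ EGA4.HasSkAt n A (A ⧸ I) p) ∧
      (Module.supportDim (Localization.AtPrime p) (LocalizedModule p.primeCompl M) ≤
          ((LocCoh.depth (Localization.AtPrime p) (LocalizedModule p.primeCompl M) : ℕ∞) :
            WithBot ℕ∞) + n ↔
        Module.supportDim (Localization.AtPrime p) (LocalizedModule p.primeCompl (A ⧸ I)) ≤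
          ((LocCoh.depth (Localization.AtPrime p) (LocalizedModule p.primeCompl (A ⧸ I)) : ℕ∞) :
            WithBot ℕ∞) + n) := by
  constructor
  · rw [SkLoc.hasSkAt_iff, SkLoc.hasSkAt_iff]
    refine forall_congr' fun q => forall_congr' fun hq => forall_congr' fun _ => ?_
    unfold SkLoc.SkIneq
    obtain ⟨h1, h2⟩ := dim_depth_eq_of_nilpotent I hI M hsupp hM q
    rw [h1, h2]
  · obtain ⟨h1, h2⟩ := dim_depth_eq_of_nilpotent I hI M hsupp hM p
    rw [h1, h2]

end Nil

end Groth.Agent.H2.NFGen
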