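import Groth.Prelude.Def_W4c1frobunstivaNR
import Mathlib

/-!
# Modules free up to nilpotent relations (helper2)
-/

set_option autoImplicit false

open W4c1frobunstiva TensorProduct

namespace Groth.Agent.H2.NRFree

universe u v

variable {R : Type u} [CommRing R] {M : Type v} [AddCommGroup M] [Module R M]

/-- a square matrix congruent to `1` modulo nilpotents is invertible -/
lemma isUnit_of_sub_one_nilpotent {r : ℕ} (T : Matrix (Fin r) (Fin r) R)
    (h : ∀ i j, IsNilpotent ((T - 1) i j)) : IsUnit T := by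
  rw [Matrix.isUnit_iff_isUnit_det]
  have hmap : (Ideal.Quotient.mk (nilradical R)).mapMatrix T = 1 := by
    ext i j
    have := h i j
    rw [← mem_nilradical, ← Ideal.Quotient.eq_zero_iff_mem, Matrix.sub_apply, map_sub,
      sub_eq_zero] at this
    rw [RingHom.mapMatrix_apply, Matrix.map_apply, this, Matrix.one_apply, Matrix.one_apply]
    split_ifs <;> simp
  have hdet : IsNilpotent (T.det - 1) := by
    rw [← mem_nilradical, ← Ideal.Quotient.eq_zero_iff_mem, map_sub, map_one, RingHom.map_det, hmap,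
      Matrix.det_one, sub_self]
  have := hdet.isUnit_add_one
  simpa using this

lemma exists_coeff {r : ℕ} {m : Fin r → M} (hm : Submodule.span R (Set.range m) = ⊤) (x : M) :
    ∃ c : Fin r → R, x = ∑ i, c i • m i := by
  have : x ∈ Submodule.span R (Set.range m) := by rw [hm]; trivial
  obtain ⟨c, hc⟩ := (Submodule.mem_span_range_iff_exists_fun R).mp this
  exact ⟨c, hc.symm⟩

/-- change of generating family from an NR-basis is invertible -/
lemma exists_unit_matrix {r : ℕ} {e m : Fin r → M} (he : IsNRBasis R M e)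
    (hm : Submodule.span R (Set.range m) = ⊤) :
    ∃ B : Matrix (Fin r) (Fin r) R, IsUnit B ∧ ∀ j, m j = ∑ i, B j i • e i := by
  choose B hB using fun j => exists_coeff he.1 (m j)
  choose A hA using fun i => exists_coeff hm (e i)
  refine ⟨Matrix.of B, ?_, hB⟩
  have hAB : IsUnit (Matrix.of A * Matrix.of B) := by
    apply isUnit_of_sub_one_nilpotent
    intro i k
    refine he.2 (fun k => (Matrix.of A * Matrix.of B - 1) i k) ?_ k
    simp only [Matrix.sub_apply, sub_smul, Finset.sum_sub_distrib, Matrix.mul_apply, Matrix.of_apply,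
      Matrix.one_apply, ite_smul, one_smul, zero_smul, Finset.sum_ite_eq, Finset.mem_univ, if_true,
      Finset.sum_smul]
    rw [sub_eq_zero, Finset.sum_comm]
    conv_rhs => rw [hA i]
    refine Finset.sum_congr rfl fun j _ => ?_
    rw [hB j, Finset.smul_sum]
    exact Finset.sum_congr rfl fun k _ => by rw [mul_smul]
  rw [Matrix.isUnit_iff_isUnit_det] at hAB ⊢
  rw [Matrix.det_mul] at hAB
  exact isUnit_of_mul_isUnit_right hAB

/-- a family obtained from an NR-basis by an invertible matrix is an NR-basis -/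
lemma isNRBasis_of_unit_matrix {r : ℕ} {e m : Fin r → M} (he : IsNRBasis R M e)
    (hm : Submodule.span R (Set.range m) = ⊤) (B : Matrix (Fin r) (Fin r) R) (hBu : IsUnit B)
    (hB : ∀ j, m j = ∑ i, B j i • e i) : IsNRBasis R M m := by
  refine ⟨hm, fun a ha i => ?_⟩
  have h1 : ∑ i, (Matrix.vecMul a B) i • e i = 0 := by
    rw [← ha]
    simp only [Matrix.vecMul, dotProduct, Finset.sum_smul]
    rw [Finset.sum_comm]
    refine Finset.sum_congr rfl fun j _ => ?_
    rw [hB j, Finset.smul_sum]
    exact Finset.sum_congr rfl fun k _ => by rw [mul_smul]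
  have h2 := he.2 _ h1
  obtain ⟨Binv, hBinv⟩ : ∃ C : Matrix (Fin r) (Fin r) R, B * C = 1 := by
    obtain ⟨u, rfl⟩ := hBu
    exact ⟨(u⁻¹ : (Matrix (Fin r) (Fin r) R)ˣ), by simp⟩
  have h3 : a = Matrix.vecMul (Matrix.vecMul a B) Binv := by
    rw [Matrix.vecMul_vecMul, hBinv, Matrix.vecMul_one]
  rw [h3]
  simp only [Matrix.vecMul, dotProduct]
  rw [← mem_nilradical]
  refine Ideal.sum_mem _ fun k _ => Ideal.mul_mem_right _ _ ?_
  rw [mem_nilradical]
  exact h2 k

/-- in an NR-free module of rank `r` every generating family of `r` elements is an NR-basis -/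
lemma isNRBasis_of_span {r : ℕ} (hM : IsNRFree R M r) {m : Fin r → M}
    (hm : Submodule.span R (Set.range m) = ⊤) : IsNRBasis R M m := by
  obtain ⟨e, he⟩ := hM
  obtain ⟨B, hBu, hB⟩ := exists_unit_matrix he hm
  exact isNRBasis_of_unit_matrix he hm B hBu hB

/-- S14043 -/
theorem exists_unit_change {r : ℕ} (hM : IsNRFree R M r) (m m' : Fin r → M)
    (hm : Submodule.span R (Set.range m) = ⊤) (hm' : Submodule.span R (Set.range m') = ⊤) :
    ∃ T : Matrix (Fin r) (Fin r) R, IsUnit T ∧ ∀ j, m' j = ∑ i, T j i • m i :=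
  exists_unit_matrix (isNRBasis_of_span hM hm) hm'


section Tensor

variable (R M)

/-- `1 ⊗ x = 0` in `(R/I) ⊗ M` iff `x ∈ I M` -/
lemma one_tmul_eq_zero_iff (I : Ideal R) (x : M) :
    ((1 : R ⧸ I) ⊗ₜ[R] x = 0) ↔ x ∈ I • (⊤ : Submodule R M) := by
  rw [← (TensorProduct.quotTensorEquivQuotSMul M I).map_eq_zero_iff,
    TensorProduct.quotTensorEquivQuotSMul_mk_one_tmul, Submodule.Quotient.mk_eq_zero]

lemma one_tmul_surjective (I : Ideal R) (z : (R ⧸ I) ⊗[R] M) : ∃ x : M, (1 : R ⧸ I) ⊗ₜ[R] x = z := by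
  obtain ⟨x, hx⟩ := Submodule.Quotient.mk_surjective _ (TensorProduct.quotTensorEquivQuotSMul M I z)
  refine ⟨x, ?_⟩
  apply (TensorProduct.quotTensorEquivQuotSMul M I).injective
  rw [TensorProduct.quotTensorEquivQuotSMul_mk_one_tmul, hx]

variable {R M}

lemma mk_smul_one_tmul (I : Ideal R) (a : R) (x : M) :
    (Ideal.Quotient.mk I a) • ((1 : R ⧸ I) ⊗ₜ[R] x) = (1 : R ⧸ I) ⊗ₜ[R] (a • x) := by
  rw [TensorProduct.smul_tmul', smul_eq_mul, mul_one, ← TensorProduct.smul_tmul]
  congr 1
  rw [Algebra.smul_def, mul_one, Ideal.Quotient.algebraMap_eq]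

lemma sum_mk_smul_one_tmul (I : Ideal R) {r : ℕ} (a : Fin r → R) (e : Fin r → M) :
    ∑ i, (Ideal.Quotient.mk I (a i)) • ((1 : R ⧸ I) ⊗ₜ[R] e i) = (1 : R ⧸ I) ⊗ₜ[R] (∑ i, a i • e i) := by
  rw [TensorProduct.tmul_sum]
  exact Finset.sum_congr rfl fun i _ => mk_smul_one_tmul I (a i) (e i)

/-- elements of `I M` are `I`-combinations of a generating family -/
lemma exists_coeff_mem {r : ℕ} {e : Fin r → M} (he : Submodule.span R (Set.range e) = ⊤) (I : Ideal R)
    {x : M} (hx : x ∈ I • (⊤ : Submodule R M)) : ∃ c : Fin r → R, (∀ i, c i ∈ I) ∧ x = ∑ i, c i • e i := by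
  rw [← he, Submodule.mem_ideal_smul_span_iff_exists_sum] at hx
  obtain ⟨a, ha, rfl⟩ := hx
  refine ⟨a, ha, ?_⟩
  rw [Finsupp.sum_fintype]
  intro i
  simp

/-- nilpotent Nakayama -/
lemma eq_top_of_sup_smul_eq_top (I : Ideal R) (hI : IsNilpotent I) (N : Submodule R M)
    (h : N ⊔ I • (⊤ : Submodule R M) = ⊤) : N = ⊤ := by
  obtain ⟨k, hk⟩ := hI
  have key : ∀ k : ℕ, N ⊔ (I ^ k) • (⊤ : Submodule R M) = ⊤ := by
    intro k
    induction k with
    | zero => simp
    | succ k ih =>
      rw [eq_top_iff]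
      calc (⊤ : Submodule R M) = N ⊔ I • (⊤ : Submodule R M) := h.symm
        _ = N ⊔ I • (N ⊔ (I ^ k) • (⊤ : Submodule R M)) := by rw [ih]
        _ = N ⊔ (I • N ⊔ I • (I ^ k) • (⊤ : Submodule R M)) := by rw [Submodule.smul_sup]
        _ ≤ N ⊔ (I ^ (k + 1)) • (⊤ : Submodule R M) := by
          refine sup_le le_sup_left (sup_le (le_trans Submodule.smul_le_right le_sup_left) ?_)
          rw [← Submodule.mul_smul, ← pow_succ']
          exact le_sup_right
  have := key k
  rwa [hk, Ideal.zero_eq_bot, Submodule.bot_smul, sup_bot_eq] at this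

/-- S14032 -/
theorem isNRFree_iff [IsNoetherianRing R] (r : ℕ) :
    IsNRFree R M r ↔
      Nonempty (Module.Basis (Fin r) (R ⧸ nilradical R) ((R ⧸ nilradical R) ⊗[R] M)) := by
  constructor
  · rintro ⟨e, he⟩
    refine ⟨Module.Basis.mk (v := fun i => (1 : R ⧸ nilradical R) ⊗ₜ[R] e i) ?_ ?_⟩
    · rw [Fintype.linearIndependent_iff]
      intro g hg i
      choose a ha using fun i => Ideal.Quotient.mk_surjective (g i)
      simp only [← ha] at hg ⊢
      rw [sum_mk_smul_one_tmul, one_tmul_eq_zero_iff] at hg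
      obtain ⟨c, hc, hx⟩ := exists_coeff_mem he.1 _ hg
      have h0 : ∑ i, (a i - c i) • e i = 0 := by
        simp only [sub_smul, Finset.sum_sub_distrib, hx, sub_self]
      have := he.2 _ h0 i
      rw [Ideal.Quotient.eq_zero_iff_mem]
      have h2 : a i - c i ∈ nilradical R := mem_nilradical.mpr this
      have := Ideal.add_mem _ h2 (hc i)
      simpa using this
    · intro z _
      obtain ⟨x, rfl⟩ := one_tmul_surjective R M (nilradical R) z
      obtain ⟨c, rfl⟩ := exists_coeff he.1 x
      rw [← sum_mk_smul_one_tmul]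
      exact Submodule.sum_mem _ fun i _ => Submodule.smul_mem _ _ (Submodule.subset_span ⟨i, rfl⟩)
  · rintro ⟨b⟩
    choose e he using fun i => one_tmul_surjective R M (nilradical R) (b i)
    refine ⟨e, ?_, ?_⟩
    · apply eq_top_of_sup_smul_eq_top (nilradical R) (IsNoetherianRing.isNilpotent_nilradical R)
      rw [eq_top_iff]
      intro x _
      -- expand `1 ⊗ x` in the basis
      have hx := b.sum_repr ((1 : R ⧸ nilradical R) ⊗ₜ[R] x)
      choose c hc using fun i => Ideal.Quotient.mk_surjective (b.repr ((1 : R ⧸ nilradical R) ⊗ₜ[R] x) i)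
      simp only [← hc, ← he] at hx
      rw [sum_mk_smul_one_tmul] at hx
      have h0 : (1 : R ⧸ nilradical R) ⊗ₜ[R] (x - ∑ i, c i • e i) = 0 := by
        rw [TensorProduct.tmul_sub, hx, sub_self]
      rw [one_tmul_eq_zero_iff] at h0
      have : x = ∑ i, c i • e i + (x - ∑ i, c i • e i) := by abel
      rw [this]
      refine Submodule.add_mem_sup ?_ h0
      exact Submodule.sum_mem _ fun i _ => Submodule.smul_mem _ _ (Submodule.subset_span ⟨i, rfl⟩)
    · intro a ha i
      have h1 : ∑ i, (Ideal.Quotient.mk (nilradical R) (a i)) • b i = 0 := by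
        simp only [← he]
        rw [sum_mk_smul_one_tmul, ha, TensorProduct.tmul_zero]
      have := Fintype.linearIndependent_iff.mp b.linearIndependent _ h1 i
      rw [Ideal.Quotient.eq_zero_iff_mem, mem_nilradical] at this
      exact this

end Tensor

section Ker

universe w

/-- general form of S14034 -/
theorem ker_isNRFree_gen {R : Type w} [CommRing R] [IsLocalRing R] (r s l : ℕ)
    (v : Fin l → (Fin s → R))
    (hgy : ∀ y : Fin l → R, Fintype.linearCombination R v y = 0 → ∀ i, IsNilpotent (y i))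
    (φ : (Fin r → R) →ₗ[R] ((Fin s → R) ⧸ Submodule.span R (Set.range v)))
    (hφ : Function.Surjective φ) :
    IsNRFree R (LinearMap.ker φ) (r + l - s) ∧
      (l = 0 → Nonempty (Module.Basis (Fin (r - s)) R (LinearMap.ker φ))) := by
  classical
  let S := Submodule.span R (Set.range v)
  obtain ⟨ψ, hψ⟩ := Module.projective_lifting_property S.mkQ φ (Submodule.mkQ_surjective S)
  have hψ' : ∀ x, φ x = S.mkQ (ψ x) := fun x => (LinearMap.congr_fun hψ x).symm
  let g : (Fin l → R) →ₗ[R] (Fin s → R) := Fintype.linearCombination R v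
  have hg : LinearMap.range g = S := Fintype.range_linearCombination R v
  let Ψ : (Fin r → R) × (Fin l → R) →ₗ[R] (Fin s → R) := ψ.coprod (-g)
  have hΨapp : ∀ x y, Ψ (x, y) = ψ x - g y := fun x y => by
    simp only [Ψ, LinearMap.coprod_apply, LinearMap.neg_apply, sub_eq_add_neg]
  have hΨ : Function.Surjective Ψ := by
    intro z
    obtain ⟨x, hx⟩ := hφ (S.mkQ z)
    have hmem : z - ψ x ∈ S := by
      rw [← Submodule.Quotient.mk_eq_zero, Submodule.Quotient.mk_sub, sub_eq_zero]
      have := hψ' x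
      rw [hx] at this
      exact this
    rw [← hg] at hmem
    obtain ⟨y, hy⟩ := hmem
    refine ⟨(x, -y), ?_⟩
    rw [hΨapp, map_neg, hy]
    abel
  obtain ⟨σ, hσ⟩ := Module.projective_lifting_property Ψ LinearMap.id hΨ
  have hσ' : ∀ z, Ψ (σ z) = z := fun z => LinearMap.congr_fun hσ z
  let K := LinearMap.ker Ψ
  let ρ' : (Fin r → R) × (Fin l → R) →ₗ[R] (Fin r → R) × (Fin l → R) := LinearMap.id - σ ∘ₗ Ψ
  have hρ'app : ∀ w, ρ' w = w - σ (Ψ w) := fun w => rfl
  have hρ' : ∀ w, ρ' w ∈ K := fun w => by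
    rw [LinearMap.mem_ker, hρ'app, map_sub, hσ', sub_self]
  let ρ : (Fin r → R) × (Fin l → R) →ₗ[R] K := ρ'.codRestrict K hρ'
  have hρK : ∀ w : K, ρ w.1 = w := fun w => by
    apply Subtype.ext
    change ρ' w.1 = w.1
    rw [hρ'app, LinearMap.mem_ker.mp w.2, map_zero, sub_zero]
  have : Module.Finite R K := Module.Finite.of_surjective ρ (fun w => ⟨w.1, hρK w⟩)
  have : Module.Projective R K := Module.Projective.of_split K.subtype ρ (LinearMap.ext hρK)
  have : Module.Free R K := Module.free_of_flat_of_isLocalRing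
  let e : (K × (Fin s → R)) ≃ₗ[R] (Fin r → R) × (Fin l → R) :=
    LinearEquiv.ofLinearMap (K.subtype.coprod σ) (ρ.prod Ψ)
      (by
        apply LinearMap.ext
        intro w
        simp only [LinearMap.comp_apply, LinearMap.prod_apply, LinearMap.coprod_apply,
          LinearMap.id_apply, Submodule.subtype_apply]
        change ρ' w + σ (Ψ w) = w
        rw [hρ'app]; abel)
      (by
        apply LinearMap.ext
        rintro ⟨k, z⟩
        simp only [LinearMap.comp_apply, LinearMap.prod_apply, LinearMap.coprod_apply,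
          LinearMap.id_apply, Submodule.subtype_apply]
        apply Prod.ext
        · apply Subtype.ext
          change ρ' (k.1 + σ z) = k.1
          rw [hρ'app, map_add, hσ', LinearMap.mem_ker.mp k.2, zero_add]; abel
        · change Ψ (k.1 + σ z) = z
          rw [map_add, hσ', LinearMap.mem_ker.mp k.2, zero_add])
  have hrank : Module.finrank R K + s = r + l := by
    have := LinearEquiv.finrank_eq e
    rw [Module.finrank_prod, Module.finrank_prod, Module.finrank_fin_fun, Module.finrank_fin_fun,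
      Module.finrank_fin_fun] at this
    exact this
  have hfr : Module.finrank R K = r + l - s := by omega
  let b : Module.Basis (Fin (r + l - s)) R K := Module.finBasisOfFinrankEq R K hfr
  -- projection to `ker φ`
  have hpr : ∀ w : K, (w.1.1 : Fin r → R) ∈ LinearMap.ker φ := by
    intro w
    have h0 := LinearMap.mem_ker.mp w.2
    rw [show w.1 = (w.1.1, w.1.2) from rfl, hΨapp, sub_eq_zero] at h0
    rw [LinearMap.mem_ker, hψ', h0]
    change Submodule.Quotient.mk _ = 0
    rw [Submodule.Quotient.mk_eq_zero, ← hg]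
    exact ⟨_, rfl⟩
  let pr : K →ₗ[R] LinearMap.ker φ :=
    ((LinearMap.fst R (Fin r → R) (Fin l → R)).comp K.subtype).codRestrict _ hpr
  have hprsurj : Function.Surjective pr := by
    rintro ⟨x, hx⟩
    rw [LinearMap.mem_ker, hψ'] at hx
    change Submodule.Quotient.mk _ = 0 at hx
    rw [Submodule.Quotient.mk_eq_zero, ← hg] at hx
    obtain ⟨y, hy⟩ := hx
    refine ⟨⟨(x, y), ?_⟩, rfl⟩
    rw [LinearMap.mem_ker, hΨapp, hy, sub_self]
  have hpr0 : ∀ w : K, pr w = 0 → ∀ j, IsNilpotent (b.repr w j) := by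
    intro w hw j
    have hw1 : w.1.1 = 0 := congr_arg Subtype.val hw
    have hΨw := LinearMap.mem_ker.mp w.2
    rw [show w.1 = (w.1.1, w.1.2) from rfl, hΨapp, hw1, map_zero, zero_sub, neg_eq_zero] at hΨw
    have hy := hgy _ hΨw
    -- express the coefficient linearly in `y`
    let lam : (Fin l → R) →ₗ[R] R :=
      (Finsupp.lapply j).comp (b.repr.toLinearMap.comp (ρ.comp (LinearMap.inr R (Fin r → R) (Fin l → R))))
    have hlam : b.repr w j = lam w.1.2 := by
      change b.repr w j = b.repr (ρ (0, w.1.2)) j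
      rw [← hw1, show ((w.1.1, w.1.2) : (Fin r → R) × (Fin l → R)) = w.1 from rfl, hρK]
    rw [hlam, LinearMap.pi_apply_eq_sum_univ lam w.1.2, ← mem_nilradical]
    refine Ideal.sum_mem _ fun i _ => ?_
    rw [smul_eq_mul]
    exact Ideal.mul_mem_right _ _ (mem_nilradical.mpr (hy i))
  refine ⟨⟨fun j => pr (b j), ?_, ?_⟩, ?_⟩
  · have : Set.range (fun j => pr (b j)) = pr '' Set.range b := by
      rw [← Set.range_comp]; rfl
    rw [this, ← Submodule.map_span, b.span_eq, Submodule.map_top, LinearMap.range_eq_top.mpr hprsurj]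
  · intro a ha j
    have hw : pr (∑ j, a j • b j) = 0 := by
      rw [map_sum]
      simpa only [map_smul] using ha
    have := hpr0 _ hw j
    rwa [b.repr_sum_self] at this
  · intro hl0
    have hinj : Function.Injective pr := by
      rw [injective_iff_map_eq_zero]
      intro w hw
      have hw1 : w.1.1 = 0 := congr_arg Subtype.val hw
      have hw2 : w.1.2 = 0 := by
        funext i
        exact absurd i.2 (by omega)
      apply Subtype.ext
      exact Prod.ext hw1 hw2
    let e' : K ≃ₗ[R] LinearMap.ker φ := LinearEquiv.ofBijective pr ⟨hinj, hprsurj⟩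
    exact ⟨(b.map e').reindex (finCongr (by subst hl0; omega))⟩

/-- S14034 -/
theorem ker_isNRFree {R : Type w} [CommRing R] [IsLocalRing R] (f : R)
    (hann : ∀ a : R, a * f = 0 → IsNilpotent a) (r s l : ℕ) (hls : l ≤ s)
    (φ : (Fin r → R) →ₗ[R]
      ((Fin s → R) ⧸ Submodule.span R (Set.range fun i : Fin l => (Pi.single (Fin.castLE hls i) f : Fin s → R))))
    (hφ : Function.Surjective φ) :
    IsNRFree R (LinearMap.ker φ) (r + l - s) ∧
      (l = 0 → Nonempty (Module.Basis (Fin (r - s)) R (LinearMap.ker φ))) := by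
  classical
  refine ker_isNRFree_gen r s l _ ?_ φ hφ
  intro y hy i
  apply hann
  have := congr_fun hy (Fin.castLE hls i)
  simp only [Fintype.linearCombination_apply, Finset.sum_apply, Pi.smul_apply, smul_eq_mul,
    Pi.zero_apply, Pi.single_apply] at this
  rw [Finset.sum_eq_single i] at this
  · simpa using this
  · intro k _ hk
    rw [if_neg, mul_zero]
    intro h
    exact hk (Fin.castLE_injective hls h).symm
  · intro h
    exact absurd (Finset.mem_univ i) h

end Ker

end Groth.Agent.H2.NRFree
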