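import Mathlib

/-!
# Generators after localizing at `s + i` (Nakayama-type statement)

If `x₁,…,x_r ∈ M` (finite) generate `S⁻¹(M/IM)`, there are `s ∈ S`, `i ∈ I` such that they generate
`M_{s+i}`.
-/

namespace Groth.Agent.H2.NakLocGen

open Polynomial

universe u

variable {R : Type u} [CommRing R] {M : Type u} [AddCommGroup M] [Module R M]

/-- If `g • M ≤ N` then `N` localized at `powers g` is everything. -/
theorem localized'_eq_top_of_smul_le (N : Submodule R M) (g : R) (hg : ∀ m : M, g • m ∈ N) :
    N.localized' (Localization.Away g) (Submonoid.powers g)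
      (LocalizedModule.mkLinearMap (Submonoid.powers g) M) = ⊤ := by
  rw [eq_top_iff]
  intro y _
  obtain ⟨⟨m, t⟩, rfl⟩ := IsLocalizedModule.mk'_surjective (Submonoid.powers g)
    (LocalizedModule.mkLinearMap (Submonoid.powers g) M) y
  rw [Submodule.mem_localized']
  refine ⟨g • m, hg m, ⟨g, Submonoid.mem_powers g⟩ * t, ?_⟩
  exact IsLocalizedModule.mk'_cancel_left (f := LocalizedModule.mkLinearMap (Submonoid.powers g) M)
    m ⟨g, Submonoid.mem_powers g⟩ t

/-- Uniform denominators for a finite module. -/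
theorem exists_uniform_smul_mem [Module.Finite R M] (S : Submonoid R) (L : Submodule R M)
    (h : ∀ m : M, ∃ s ∈ S, s • m ∈ L) : ∃ s ∈ S, ∀ m : M, s • m ∈ L := by
  classical
  obtain ⟨G, hG⟩ := (Module.Finite.fg_top : (⊤ : Submodule R M).FG)
  choose sf hsf hsf' using h
  refine ⟨∏ g ∈ G, sf g, Submonoid.prod_mem S fun g _ => hsf g, fun m => ?_⟩
  have hm : m ∈ Submodule.span R (G : Set M) := by rw [hG]; exact Submodule.mem_top
  induction hm using Submodule.span_induction with
  | mem g hg =>
    obtain ⟨c, hc⟩ := Finset.dvd_prod_of_mem sf hg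
    rw [hc, mul_comm, mul_smul]
    exact L.smul_mem c (hsf' g)
  | zero => rw [smul_zero]; exact L.zero_mem
  | add a b _ _ ha hb => rw [smul_add]; exact L.add_mem ha hb
  | smul c a _ ha => rw [smul_comm]; exact L.smul_mem c ha

/-- Cayley–Hamilton/Nakayama: if `s • C ≤ I • C` for a finite module `C`, some `s ^ d + i` with
`i ∈ I` kills `C`. -/
theorem exists_pow_add_mem_smul_eq_zero {C : Type u} [AddCommGroup C] [Module R C] [Module.Finite R C]
    (I : Ideal R) (s : R) (h : ∀ c : C, s • c ∈ I • (⊤ : Submodule R C)) :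
    ∃ (d : ℕ) (i : R), i ∈ I ∧ ∀ c : C, (s ^ d + i) • c = 0 := by
  have hr : LinearMap.range (algebraMap R (Module.End R C) s) ≤ I • ⊤ := by
    rintro _ ⟨c, rfl⟩
    exact h c
  obtain ⟨p, hpm, -, hpc, hp0⟩ :=
    LinearMap.exists_monic_and_natDegree_eq_and_coeff_mem_pow_and_aeval_eq_zero R
      (algebraMap R (Module.End R C) s) I hr
  rw [Polynomial.aeval_algebraMap_apply] at hp0
  refine ⟨p.natDegree, Polynomial.aeval s p - s ^ p.natDegree, ?_, fun c => ?_⟩
  · rw [Polynomial.aeval_eq_sum_range, Finset.sum_range_succ, hpm.coeff_natDegree, one_smul,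
      add_sub_cancel_right]
    refine Ideal.sum_mem _ fun k hk => ?_
    rw [smul_eq_mul]
    apply Ideal.mul_mem_right
    have hk' : p.natDegree - k ≠ 0 := by
      have := Finset.mem_range.1 hk
      omega
    exact Ideal.pow_le_self hk' (hpc k)
  · rw [add_sub_cancel]
    have := LinearMap.congr_fun hp0 c
    simpa using this

end Groth.Agent.H2.NakLocGen
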