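import Mathlib

/-!
# Lattice points between the ordinary and the isoclinic Newton polygons (S15498)
-/

namespace Groth.Agent.H2.NewtonCount

open Finset

/-- interior points strictly below the diagonal of the `m × n` rectangle -/
def below (m n : ℕ) : Finset (ℕ × ℕ) :=
  (Ico 1 m ×ˢ Ico 1 n).filter (fun p => p.2 * m < p.1 * n)

/-- interior points strictly above the diagonal -/
def above (m n : ℕ) : Finset (ℕ × ℕ) :=
  (Ico 1 m ×ˢ Ico 1 n).filter (fun p => p.1 * n < p.2 * m)

lemma no_diag (m n : ℕ) (hmn : Nat.Coprime m n) (j s : ℕ) (hj1 : 1 ≤ j) (hjm : j < m)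
    (h : s * m = j * n) : False := by
  have h1 : m ∣ j * n := ⟨s, by rw [← h]; ring⟩
  have h2 : m ∣ j := hmn.dvd_of_dvd_mul_right h1
  have := Nat.le_of_dvd (by omega) h2
  omega

lemma card_below_eq_above (m n : ℕ) : (below m n).card = (above m n).card := by
  apply Finset.card_nbij' (fun p => (m - p.1, n - p.2)) (fun p => (m - p.1, n - p.2))
  · intro p hp
    simp only [below, coe_filter, mem_product, mem_Ico, Set.mem_ofPred_eq] at hp
    simp only [above, coe_filter, mem_product, mem_Ico, Set.mem_ofPred_eq]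
    obtain ⟨⟨⟨h1, h2⟩, h3, h4⟩, h5⟩ := hp
    refine ⟨⟨⟨by omega, by omega⟩, by omega, by omega⟩, ?_⟩
    obtain ⟨a, rfl⟩ := Nat.exists_eq_add_of_lt h2
    obtain ⟨b, rfl⟩ := Nat.exists_eq_add_of_lt h4
    have e1 : p.1 + a + 1 - p.1 = a + 1 := by omega
    have e2 : p.2 + b + 1 - p.2 = b + 1 := by omega
    rw [e1, e2]
    nlinarith
  · intro p hp
    simp only [above, coe_filter, mem_product, mem_Ico, Set.mem_ofPred_eq] at hp
    simp only [below, coe_filter, mem_product, mem_Ico, Set.mem_ofPred_eq]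
    obtain ⟨⟨⟨h1, h2⟩, h3, h4⟩, h5⟩ := hp
    refine ⟨⟨⟨by omega, by omega⟩, by omega, by omega⟩, ?_⟩
    obtain ⟨a, rfl⟩ := Nat.exists_eq_add_of_lt h2
    obtain ⟨b, rfl⟩ := Nat.exists_eq_add_of_lt h4
    have e1 : p.1 + a + 1 - p.1 = a + 1 := by omega
    have e2 : p.2 + b + 1 - p.2 = b + 1 := by omega
    rw [e1, e2]
    nlinarith
  · intro p hp
    simp only [below, coe_filter, mem_product, mem_Ico, Set.mem_ofPred_eq] at hp
    obtain ⟨⟨⟨h1, h2⟩, h3, h4⟩, h5⟩ := hp
    ext <;> simp <;> omega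
  · intro p hp
    simp only [above, coe_filter, mem_product, mem_Ico, Set.mem_ofPred_eq] at hp
    obtain ⟨⟨⟨h1, h2⟩, h3, h4⟩, h5⟩ := hp
    ext <;> simp <;> omega

lemma two_mul_card_below (m n : ℕ) (hmn : Nat.Coprime m n) :
    2 * (below m n).card = (m - 1) * (n - 1) := by
  have hdisj : Disjoint (below m n) (above m n) := by
    rw [Finset.disjoint_left]
    intro p hp hp'
    simp only [below, above, mem_filter] at hp hp'
    omega
  have hunion : below m n ∪ above m n = Ico 1 m ×ˢ Ico 1 n := by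
    ext p
    simp only [below, above, mem_union, mem_filter, mem_product, mem_Ico]
    constructor
    · rintro (h | h) <;> exact h.1
    · intro h
      rcases lt_trichotomy (p.2 * m) (p.1 * n) with h1 | h1 | h1
      · exact Or.inl ⟨h, h1⟩
      · exact (no_diag m n hmn p.1 p.2 h.1.1 h.1.2 h1).elim
      · exact Or.inr ⟨h, h1⟩
  have := Finset.card_union_of_disjoint hdisj
  rw [hunion, card_product, Nat.card_Ico, Nat.card_Ico, ← card_below_eq_above] at this
  omega

theorem main (m n : ℕ) (hm : 0 < m) (hn : 0 < n) (hmn : Nat.Coprime m n) :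
    ((Finset.range (m + n + 1) ×ˢ Finset.range (m + 1)).filter
      (fun ij : ℕ × ℕ => ij.1 ≤ ij.2 + n ∧ ij.2 * (m + n) < ij.1 * m)).card
      = (m - 1) * (n - 1) / 2 + (m + n - 1) := by
  set S := (Finset.range (m + n + 1) ×ˢ Finset.range (m + 1)).filter
      (fun ij : ℕ × ℕ => ij.1 ≤ ij.2 + n ∧ ij.2 * (m + n) < ij.1 * m) with hS
  set Box := range m ×ˢ range n with hBox
  -- (1)
  have h1 : S.card = (Box.filter (fun p : ℕ × ℕ => p.1 * n < (p.2 + 1) * m)).card := by
    apply Finset.card_nbij' (fun p => (p.2, p.1 - p.2 - 1)) (fun p => (p.1 + p.2 + 1, p.1))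
    · intro p hp
      simp only [hS, hBox, coe_filter, mem_product, mem_range, Set.mem_ofPred_eq] at hp ⊢
      obtain ⟨⟨h1, h2⟩, h3, h4⟩ := hp
      have h5 : p.2 < p.1 := by nlinarith
      have h6 : p.2 < m := by nlinarith
      refine ⟨⟨h6, by omega⟩, ?_⟩
      obtain ⟨t, ht⟩ := Nat.exists_eq_add_of_lt h5
      have e : p.1 - p.2 - 1 = t := by omega
      rw [e]
      have h4' : p.2 * (m + n) < (p.2 + t + 1) * m := by rw [← ht]; exact h4
      nlinarith
    · intro p hp
      simp only [hS, hBox, coe_filter, mem_product, mem_range, Set.mem_ofPred_eq] at hp ⊢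
      obtain ⟨⟨h1, h2⟩, h3⟩ := hp
      refine ⟨⟨by omega, by omega⟩, by omega, ?_⟩
      nlinarith
    · intro p hp
      simp only [hS, coe_filter, mem_product, mem_range, Set.mem_ofPred_eq] at hp
      obtain ⟨⟨h1, h2⟩, h3, h4⟩ := hp
      have h5 : p.2 < p.1 := by nlinarith
      ext <;> simp <;> omega
    · intro p hp
      ext <;> simp <;> omega
  -- (2)
  have h2 : (Box.filter (fun p : ℕ × ℕ => p.1 * n < (p.2 + 1) * m)).card +
      (Box.filter (fun p : ℕ × ℕ => ¬ p.1 * n < (p.2 + 1) * m)).card = m * n := by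
    rw [Finset.card_filter_add_card_filter_not, hBox, card_product, card_range, card_range]
  -- (3)
  have h3 : (Box.filter (fun p : ℕ × ℕ => ¬ p.1 * n < (p.2 + 1) * m)).card = (below m n).card := by
    apply Finset.card_nbij' (fun p => (p.1, p.2 + 1)) (fun p => (p.1, p.2 - 1))
    · intro p hp
      simp only [hBox, below, coe_filter, mem_product, mem_range, mem_Ico, Set.mem_ofPred_eq,
        not_lt] at hp ⊢
      obtain ⟨⟨h1, h2⟩, h3⟩ := hp
      have h4 : 1 ≤ p.1 := by
        by_contra h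
        have : p.1 = 0 := by omega
        rw [this] at h3
        nlinarith
      have h5 : (p.2 + 1) * m < p.1 * n := by
        rcases lt_or_eq_of_le h3 with h | h
        · exact h
        · exact (no_diag m n hmn p.1 (p.2 + 1) h4 h1 h).elim
      refine ⟨⟨⟨h4, h1⟩, by omega, ?_⟩, h5⟩
      by_contra h
      have : n ≤ p.2 + 1 := by omega
      nlinarith
    · intro p hp
      simp only [hBox, below, coe_filter, mem_product, mem_range, mem_Ico, Set.mem_ofPred_eq,
        not_lt] at hp ⊢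
      obtain ⟨⟨⟨h1, h2⟩, h3, h4⟩, h5⟩ := hp
      refine ⟨⟨h2, by omega⟩, ?_⟩
      have : p.2 - 1 + 1 = p.2 := by omega
      rw [this]
      exact h5.le
    · intro p hp
      ext <;> simp
    · intro p hp
      simp only [below, coe_filter, mem_product, mem_Ico, Set.mem_ofPred_eq] at hp
      obtain ⟨⟨⟨h1, h2⟩, h3, h4⟩, h5⟩ := hp
      ext <;> simp <;> omega
  have h4 := two_mul_card_below m n hmn
  obtain ⟨m', rfl⟩ : ∃ m', m = m' + 1 := ⟨m - 1, by omega⟩
  obtain ⟨n', rfl⟩ : ∃ n', n = n' + 1 := ⟨n - 1, by omega⟩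
  simp only [Nat.add_sub_cancel] at h4 ⊢
  rw [← h4]
  have h5 : (m' + 1) * (n' + 1) = m' * n' + m' + n' + 1 := by ring
  rw [h5] at h2
  omega

end Groth.Agent.H2.NewtonCount
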