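import Mathlib

set_option autoImplicit false
open TensorProduct

namespace Groth.Agent.H2.NilBasis

variable {R : Type*} [CommRing R] (I : Ideal R) {M : Type*} [AddCommGroup M] [Module R M]

lemma eq_top_of_sup_smul_eq_top (hI : IsNilpotent I) (N : Submodule R M)
    (h : N ⊔ I • (⊤ : Submodule R M) = ⊤) : N = ⊤ := by
  obtain ⟨n, hn⟩ := hI
  have key : ∀ k : ℕ, (⊤ : Submodule R M) ≤ N ⊔ I ^ k • (⊤ : Submodule R M) := by
    intro k
    induction k with
    | zero => simp
    | succ k ih =>
      have e : N ⊔ I ^ k • (⊤ : Submodule R M) = N ⊔ I ^ k • (N ⊔ I • (⊤ : Submodule R M)) := by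
        rw [h]
      refine ih.trans ?_
      rw [e, Submodule.smul_sup, ← sup_assoc, ← Submodule.smul_assoc, smul_eq_mul, ← pow_succ]
      refine sup_le (sup_le le_sup_left ?_) le_sup_right
      exact le_sup_of_le_left Submodule.smul_le_right
  have := key n
  rw [hn] at this
  simpa using this

lemma eq_bot_of_le_smul (hI : IsNilpotent I) (K : Submodule R M) (h : K ≤ I • K) : K = ⊥ := by
  obtain ⟨n, hn⟩ := hI
  have key : ∀ k : ℕ, K ≤ I ^ k • K := by
    intro k
    induction k with
    | zero => simp
    | succ k ih =>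
      calc K ≤ I ^ k • K := ih
        _ ≤ I ^ k • (I • K) := Submodule.smul_mono le_rfl h
        _ = I ^ (k + 1) • K := by rw [← Submodule.smul_assoc, smul_eq_mul, ← pow_succ]
  have := key n
  rw [hn] at this
  simpa using this

/-- multiplication map `I ⊗ N → N` -/
noncomputable def mu (N : Type*) [AddCommGroup N] [Module R N] : I ⊗[R] N →ₗ[R] N :=
  (TensorProduct.lid R N).toLinearMap ∘ₗ (I.subtype.rTensor N)

@[simp] lemma mu_tmul (N : Type*) [AddCommGroup N] [Module R N] (i : I) (n : N) :
    mu I N (i ⊗ₜ n) = (i : R) • n := by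
  simp [mu]

lemma mu_naturality {N N' : Type*} [AddCommGroup N] [Module R N] [AddCommGroup N'] [Module R N']
    (f : N →ₗ[R] N') (t : I ⊗[R] N) : mu I N' (f.lTensor I t) = f (mu I N t) := by
  induction t with
  | zero => simp
  | tmul i n => simp
  | add a b ha hb => simp [ha, hb]

lemma exists_mu_eq {N : Type*} [AddCommGroup N] [Module R N] (p : N)
    (hp : p ∈ I • (⊤ : Submodule R N)) : ∃ t : I ⊗[R] N, mu I N t = p := by
  refine Submodule.smul_induction_on hp (fun r hr n _ => ⟨(⟨r, hr⟩ : I) ⊗ₜ n, by simp⟩) ?_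
  rintro a b ⟨ta, rfl⟩ ⟨tb, rfl⟩
  exact ⟨ta + tb, by simp⟩

lemma ker_inf_smul_le {F : Type*} [AddCommGroup F] [Module R F] (π : F →ₗ[R] M)
    (hsurj : Function.Surjective π)
    (htor : Function.Injective ((Submodule.subtype I).rTensor M)) (k : F) (hk0 : π k = 0)
    (h3 : k ∈ I • (⊤ : Submodule R F)) : k ∈ I • LinearMap.ker π := by
  obtain ⟨t, ht⟩ := exists_mu_eq I k h3
  have ht0 : π.lTensor I t = 0 := by
    apply htor
    apply (TensorProduct.lid R M).injective
    have := mu_naturality I π t
    rw [ht, hk0] at this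
    simpa [mu] using this
  have h1 : Function.Exact (LinearMap.ker π).subtype π := LinearMap.exact_subtype_ker_map π
  have hex : Function.Exact (LinearMap.lTensor I (LinearMap.ker π).subtype) (π.lTensor I) :=
    lTensor_exact I h1 hsurj
  obtain ⟨s, hs⟩ := (hex t).mp ht0
  rw [← ht, ← hs, mu_naturality]
  clear hs
  induction s with
  | zero => simp
  | tmul i k' =>
    rw [mu_tmul, map_smul]
    exact Submodule.smul_mem_smul i.2 k'.2
  | add a b ha hb =>
    rw [map_add, map_add]
    exact add_mem ha hb

theorem basis_of_nilpotent (hI : IsNilpotent I)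
    (htor : Function.Injective ((Submodule.subtype I).rTensor M)) {A : Type*} (x : A → M)
    (hli : LinearIndependent (R ⧸ I) (fun a => (1 : R ⧸ I) ⊗ₜ[R] x a))
    (hsp : Submodule.span (R ⧸ I) (Set.range fun a => (1 : R ⧸ I) ⊗ₜ[R] x a) = ⊤) :
    LinearIndependent R x ∧ Submodule.span R (Set.range x) = ⊤ := by
  have hspan : Submodule.span R (Set.range x) = ⊤ := by
    apply eq_top_of_sup_smul_eq_top I hI
    let q : M →ₗ[R] (R ⧸ I) ⊗[R] M := TensorProduct.mk R (R ⧸ I) M 1
    have hq : LinearMap.ker q = I • (⊤ : Submodule R M) := by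
      have h1 := TensorProduct.quotTensorEquivQuotSMul_comp_mk (M := M) I
      have h2 : LinearMap.ker ((quotTensorEquivQuotSMul M I).toLinearMap ∘ₗ q) = LinearMap.ker q :=
        LinearEquiv.ker_comp _ _
      rw [← h2, h1, Submodule.ker_mkQ]
    have hmap : Submodule.map q (Submodule.span R (Set.range x)) = ⊤ := by
      rw [Submodule.map_span, ← Set.range_comp]
      have := Submodule.restrictScalars_span R (R ⧸ I) Ideal.Quotient.mk_surjective
        (Set.range fun a => (1 : R ⧸ I) ⊗ₜ[R] x a)
      rw [hsp] at this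
      exact this.symm
    rw [← hq, ← Submodule.comap_map_eq, hmap, Submodule.comap_top]
  refine ⟨?_, hspan⟩
  rw [linearIndependent_iff_ker]
  set π := Finsupp.linearCombination R x with hπ
  have hsurj : Function.Surjective π := by
    rw [← LinearMap.range_eq_top, Finsupp.range_linearCombination]; exact hspan
  apply eq_bot_of_le_smul I hI
  intro k hk
  have hk0 : π k = 0 := hk
  have h3 : k ∈ I • (⊤ : Submodule R (A →₀ R)) := by
    have hmem : ∀ a, k a ∈ I := by
      intro a
      have h0 := linearIndependent_iff.mp hli (k.mapRange (Ideal.Quotient.mk I) (map_zero _)) ?_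
      · have := DFunLike.congr_fun h0 a
        simpa [Ideal.Quotient.eq_zero_iff_mem] using this
      · rw [Finsupp.linearCombination_apply, Finsupp.sum_mapRange_index (by simp)]
        have : (1 : R ⧸ I) ⊗ₜ[R] π k = 0 := by rw [hk0]; simp
        rw [← this, hπ, Finsupp.linearCombination_apply, Finsupp.sum, Finsupp.sum, tmul_sum]
        refine Finset.sum_congr rfl (fun a _ => ?_)
        rw [TensorProduct.smul_tmul', TensorProduct.tmul_smul, TensorProduct.smul_tmul',
          smul_eq_mul, mul_one, Algebra.smul_def, mul_one]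
        rfl
    rw [← Finsupp.sum_single k]
    refine Submodule.sum_mem _ (fun a _ => ?_)
    have : Finsupp.single a (k a) = k a • Finsupp.single a (1 : R) := by simp
    rw [this]
    exact Submodule.smul_mem_smul (hmem a) trivial
  exact ker_inf_smul_le I π hsurj htor k hk0 h3

end Groth.Agent.H2.NilBasis
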