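import Mathlib

/-!
# Nil ideals in finite-dimensional algebras; detecting zero on fibres of projective modules (S15150)
-/

open TensorProduct

namespace Groth.Agent.H2.NilBound

/-- a nil ideal in a `d`-dimensional algebra has `d`-th power zero -/
theorem pow_finrank_eq_bot {K C : Type*} [Field K] [CommRing C] [Algebra K C] [Module.Finite K C]
    (J : Ideal C) (hJ : ∀ x ∈ J, IsNilpotent x) : J ^ (Module.finrank K C) = ⊥ := by
  have hjac : J ≤ Ideal.jacobson ⊥ := by
    intro x hx
    have h1 : x ∈ (⊥ : Ideal C).radical := by
      obtain ⟨n, hn⟩ := hJ x hx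
      exact ⟨n, by rw [hn]; exact Submodule.zero_mem _⟩
    exact Ideal.radical_le_jacobson h1
  have hnoeth : IsNoetherianRing C := isNoetherian_of_tower K (inferInstance : IsNoetherian K C)
  have key : ∀ i : ℕ, J ^ i = ⊥ ∨
      Module.finrank K ((J ^ i).restrictScalars K) + i ≤ Module.finrank K C := by
    intro i
    induction i with
    | zero =>
      right
      simp only [pow_zero, Ideal.one_eq_top, add_zero]
      exact Submodule.finrank_le _
    | succ i ih =>
      rcases ih with h | h
      · left; rw [pow_succ, h, Ideal.bot_mul]
      · by_cases heq : J ^ (i + 1) = J ^ i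
        · left
          have : J ^ i = ⊥ := Submodule.eq_bot_of_le_smul_of_le_jacobson_bot J (J ^ i)
            (IsNoetherian.noetherian _) (by rw [smul_eq_mul, ← pow_succ', heq]) hjac
          rw [heq, this]
        · right
          have hlt : J ^ (i + 1) < J ^ i :=
            lt_of_le_of_ne (Ideal.pow_le_pow_right (Nat.le_succ i)) heq
          have hlt' : (J ^ (i + 1)).restrictScalars K < (J ^ i).restrictScalars K := by
            constructor
            · intro x hx; exact hlt.le hx
            · intro hle; exact hlt.not_ge (fun x hx => hle hx)
          have := Submodule.finrank_lt_finrank_of_lt hlt'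
          omega
  rcases key (Module.finrank K C) with h | h
  · exact h
  · have h0 : Module.finrank K ((J ^ Module.finrank K C).restrictScalars K) = 0 := by omega
    have h1 : (J ^ Module.finrank K C).restrictScalars K = ⊥ := Submodule.finrank_eq_zero.1 h0
    rw [eq_bot_iff]
    intro x hx
    have : x ∈ (J ^ Module.finrank K C).restrictScalars K := hx
    rw [h1] at this
    exact this

/-- an element of a finite projective module over a reduced ring that dies in all fibres is zero -/
theorem eq_zero_of_fibres {A B : Type*} [CommRing A] [IsReduced A] [AddCommGroup B] [Module A B]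
    [Module.Finite A B] [Module.Projective A B] (z : B)
    (hz : ∀ (p : Ideal A) [p.IsPrime], (1 : p.ResidueField) ⊗ₜ[A] z = 0) : z = 0 := by
  obtain ⟨n, f, hf⟩ := Module.Finite.exists_fin' A B
  obtain ⟨g, hg⟩ := Module.projective_lifting_property f LinearMap.id hf
  have hfun : ∀ ℓ : B →ₗ[A] A, ℓ z = 0 := by
    intro ℓ
    have hnil : ℓ z ∈ nilradical A := by
      rw [nilradical_eq_sInf, Ideal.mem_sInf]
      intro p hp
      haveI : p.IsPrime := hp
      have h1 := congrArg (LinearMap.lTensor p.ResidueField ℓ) (hz p)
      rw [LinearMap.lTensor_tmul, map_zero] at h1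
      have h2 := congrArg (TensorProduct.rid A p.ResidueField) h1
      rw [TensorProduct.rid_tmul, map_zero, ← Algebra.algebraMap_eq_smul_one] at h2
      exact Ideal.algebraMap_residueField_eq_zero.1 h2
    exact (mem_nilradical.1 hnil).eq_zero
  have hgz : g z = 0 := by
    funext j
    exact hfun ((LinearMap.proj j).comp g)
  have : z = f (g z) := by
    have := congrArg (fun φ => φ z) hg
    simpa using this.symm
  rw [this, hgz, map_zero]

end Groth.Agent.H2.NilBound
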