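import Mathlib
import Groth.Prelude.Def_W4c2arithlefschetzNode
import Groth.Agent.Lib.Helper5.FSm.PSReg
import Groth.Agent.Lib.Helper7.Reg1

/-!
# The formal double point `N = B[[x,y]]/(xy - π)` over a DVR: regular local of dimension 2
-/

set_option autoImplicit false
set_option linter.unusedSectionVars false
set_option linter.style.haveILetI false

namespace Groth.Agent.H2.Node

open MvPowerSeries IsLocalRing

universe u

section DVR

variable {B : Type u} [CommRing B] [IsDomain B] [IsDiscreteValuationRing B]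

/-- the relation `xy - π`. -/
noncomputable abbrev fN (π : B) : MvPowerSeries (Fin 2) B := X 0 * X 1 - C π

theorem mem_maximalIdeal_P_iff (F : MvPowerSeries (Fin 2) B) :
    F ∈ maximalIdeal (MvPowerSeries (Fin 2) B) ↔ constantCoeff F ∈ maximalIdeal B := by
  rw [mem_maximalIdeal, mem_maximalIdeal, mem_nonunits_iff, mem_nonunits_iff,
    MvPowerSeries.isUnit_iff_constantCoeff]

theorem ringKrullDim_B : ringKrullDim B = ((1 : ℕ) : WithBot ℕ∞) := by
  rw [IsPrincipalIdealRing.ringKrullDim_eq_one B (IsDiscreteValuationRing.not_isField B)]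
  rfl

theorem regular_P : IsRegularLocalRing (MvPowerSeries (Fin 2) B) ∧
    ringKrullDim (MvPowerSeries (Fin 2) B) = ((2 + 1 : ℕ) : WithBot ℕ∞) := by
  obtain ⟨h1, h2⟩ := Groth.Agent.H5.FSm.isRegularLocalRing_mvPowerSeries B 2
  refine ⟨h1, ?_⟩
  rw [h2, ringKrullDim_B]
  rfl

variable (π : B) (hπ : Irreducible π)
include hπ

theorem fN_mem : fN π ∈ maximalIdeal (MvPowerSeries (Fin 2) B) := by
  rw [mem_maximalIdeal_P_iff]
  have : constantCoeff (fN π) = -π := by
    simp [fN]
  rw [this]
  exact neg_mem ((IsDiscreteValuationRing.irreducible_iff_uniformizer π).mp hπ ▸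
    Ideal.subset_span (Set.mem_singleton π))

theorem fN_not_mem_sq : fN π ∉ maximalIdeal (MvPowerSeries (Fin 2) B) ^ 2 := by
  intro h
  have hm : maximalIdeal B = Ideal.span {π} :=
    (IsDiscreteValuationRing.irreducible_iff_uniformizer π).mp hπ
  have h1 : (maximalIdeal (MvPowerSeries (Fin 2) B)).map
      (constantCoeff : MvPowerSeries (Fin 2) B →+* B) ≤ maximalIdeal B := by
    rw [Ideal.map_le_iff_le_comap]
    intro F hF
    exact (mem_maximalIdeal_P_iff F).mp hF
  have h2 : constantCoeff (fN π) ∈ (maximalIdeal B) ^ 2 := by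
    have := Ideal.mem_map_of_mem (constantCoeff : MvPowerSeries (Fin 2) B →+* B) h
    rw [Ideal.map_pow] at this
    exact Ideal.pow_right_mono h1 2 this
  have h3 : constantCoeff (fN π) = -π := by simp [fN]
  rw [h3, hm, Ideal.span_singleton_pow, Ideal.mem_span_singleton] at h2
  have h4 : π ^ 2 ∣ π := (dvd_neg.mp h2)
  obtain ⟨c, hc⟩ := h4
  have h5 : π * 1 = π * (π * c) := by rw [mul_one]; rw [pow_two, mul_assoc] at hc; exact hc
  have h6 := mul_left_cancel₀ hπ.ne_zero h5
  exact hπ.not_isUnit (IsUnit.of_mul_eq_one c h6.symm)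

end DVR

section RLR2

variable {R : Type u} [CommRing R] [IsRegularLocalRing R]

/-- In a two-dimensional regular local ring, a member of a two-element generating set of the maximal
ideal is not in the square of the maximal ideal. -/
theorem not_mem_sq_of_span_pair (hd : ringKrullDim R = ((2 : ℕ) : WithBot ℕ∞)) (h c : R)
    (hs : maximalIdeal R = Ideal.span {h, c}) : h ∉ maximalIdeal R ^ 2 := by
  intro hh
  have hle : maximalIdeal R ≤ Ideal.span {c} := by
    apply Submodule.le_of_le_smul_of_le_jacobson_bot (I := maximalIdeal R)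
      (IsNoetherian.noetherian _) (maximalIdeal_le_jacobson _)
    conv_lhs => rw [hs]
    rw [Ideal.span_le]
    intro x hx
    rcases hx with rfl | hx
    · rw [smul_eq_mul, ← pow_two]
      exact Ideal.mem_sup_right hh
    · rw [Set.mem_singleton_iff] at hx
      subst hx
      exact Ideal.mem_sup_left (Ideal.subset_span (Set.mem_singleton _))
  have hc : c ∈ maximalIdeal R := by rw [hs]; exact Ideal.subset_span (by simp)
  have heq : maximalIdeal R = Ideal.span {c} :=
    le_antisymm hle ((Ideal.span_singleton_le_iff_mem _).mpr hc)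
  have h2 : (maximalIdeal R).spanFinrank = 2 := Groth.Agent.H7.Reg.spanFinrank_eq_of_dim 2 hd
  have h1 : (maximalIdeal R).spanFinrank ≤ 1 := by
    rw [heq]
    calc _ ≤ ({c} : Set R).ncard :=
          Submodule.spanFinrank_span_le_ncard_of_finite (Set.finite_singleton c)
      _ = 1 := Set.ncard_singleton c
  omega

/-- an element of `𝔪 \ 𝔪²` of a regular local ring is prime. -/
theorem prime_of_not_mem_sq (d : ℕ) (hd : ringKrullDim R = ((d + 1 : ℕ) : WithBot ℕ∞)) (x : R)
    (hx : x ∈ maximalIdeal R) (hx2 : x ∉ maximalIdeal R ^ 2) : Prime x := by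
  obtain ⟨hreg, -⟩ := Groth.Agent.H7.Reg.quotient_regular x hx hx2 d hd
  have hdom : IsDomain (R ⧸ Ideal.span ({x} : Set R)) := Groth.Agent.H7.Reg.isDomain _
  have hprime : (Ideal.span ({x} : Set R)).IsPrime := (Ideal.Quotient.isDomain_iff_prime _).mp hdom
  have hx0 : x ≠ 0 := fun h0 => hx2 (h0 ▸ zero_mem _)
  exact (Ideal.span_singleton_prime hx0).mp hprime

end RLR2

section Node

variable {B : Type u} [CommRing B] [IsDomain B] [IsDiscreteValuationRing B] (π : B)
  [hπ : Fact (Irreducible π)]

open ArLef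

theorem regular_N : IsRegularLocalRing (NodeAlg B π) ∧
    ringKrullDim (NodeAlg B π) = ((2 : ℕ) : WithBot ℕ∞) := by
  haveI := (regular_P (B := B)).1
  exact Groth.Agent.H7.Reg.quotient_regular (fN π) (fN_mem π hπ.out) (fN_not_mem_sq π hπ.out) 2
    regular_P.2

instance : IsRegularLocalRing (NodeAlg B π) := (regular_N π).1

instance : IsDomain (NodeAlg B π) := Groth.Agent.H7.Reg.isDomain _

theorem ringKrullDim_N : ringKrullDim (NodeAlg B π) = ((2 : ℕ) : WithBot ℕ∞) := (regular_N π).2

theorem t_mul_e : NodeAlg.t π * NodeAlg.e π = algebraMap B (NodeAlg B π) π := by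
  have h : Ideal.Quotient.mk (Ideal.span {fN π}) (fN π) = 0 :=
    Ideal.Quotient.eq_zero_iff_mem.mpr (Ideal.subset_span (Set.mem_singleton _))
  have h2 : Ideal.Quotient.mk (Ideal.span {fN π}) (X 0 * X 1) =
      Ideal.Quotient.mk (Ideal.span {fN π}) (C π) := by
    rw [← sub_eq_zero, ← map_sub]
    exact h
  rw [map_mul] at h2
  exact h2

theorem maximalIdeal_P : maximalIdeal (MvPowerSeries (Fin 2) B) =
    Ideal.span {C π, X 0, X 1} := by
  have hm : maximalIdeal B = Ideal.span {π} :=
    (IsDiscreteValuationRing.irreducible_iff_uniformizer π).mp hπ.out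
  rw [Groth.Agent.H5.Cohen2.maximalIdeal_mvPowerSeries, hm, Ideal.map_span, Set.image_singleton,
    Groth.Agent.H5.CA.ker_constantCoeff_eq_span, ← Ideal.span_union, Set.singleton_union]
  congr 1
  ext x
  simp only [Set.mem_insert_iff, Set.mem_range, Set.mem_singleton_iff, Fin.exists_fin_two]
  tauto

theorem maximalIdeal_N : maximalIdeal (NodeAlg B π) = Ideal.span {NodeAlg.t π, NodeAlg.e π} := by
  have hsurj : Function.Surjective (Ideal.Quotient.mk (Ideal.span {fN π})) :=
    Ideal.Quotient.mk_surjective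
  have h1 : maximalIdeal (NodeAlg B π) =
      (maximalIdeal (MvPowerSeries (Fin 2) B)).map (Ideal.Quotient.mk (Ideal.span {fN π})) := by
    have h2 : Ideal.comap (Ideal.Quotient.mk (Ideal.span {fN π})) (maximalIdeal (NodeAlg B π)) =
        maximalIdeal (MvPowerSeries (Fin 2) B) :=
      eq_maximalIdeal (Ideal.comap_isMaximal_of_surjective _ hsurj)
    rw [← h2, Ideal.map_comap_of_surjective _ hsurj]
  rw [h1, maximalIdeal_P π, Ideal.map_span]
  simp only [Set.image_insert_eq, Set.image_singleton]
  apply le_antisymm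
  · rw [Ideal.span_le]
    intro x hx
    rcases hx with rfl | rfl | hx
    · have : Ideal.Quotient.mk (Ideal.span {fN π}) (C π) = NodeAlg.t π * NodeAlg.e π :=
        (t_mul_e π).symm
      rw [this]
      exact Ideal.mul_mem_right _ _ (Ideal.subset_span (by simp))
    · exact Ideal.subset_span (by simp)
    · rw [Set.mem_singleton_iff] at hx
      subst hx
      exact Ideal.subset_span (by simp)
  · apply Ideal.span_mono
    intro x hx
    rcases hx with rfl | hx
    · simp
    · rw [Set.mem_singleton_iff] at hx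
      subst hx
      simp

theorem t_mem : NodeAlg.t π ∈ maximalIdeal (NodeAlg B π) := by
  rw [maximalIdeal_N]; exact Ideal.subset_span (by simp)

theorem e_mem : NodeAlg.e π ∈ maximalIdeal (NodeAlg B π) := by
  rw [maximalIdeal_N]; exact Ideal.subset_span (by simp)

theorem t_not_mem_sq : NodeAlg.t π ∉ maximalIdeal (NodeAlg B π) ^ 2 :=
  not_mem_sq_of_span_pair (ringKrullDim_N π) _ _ (maximalIdeal_N π)

theorem e_not_mem_sq : NodeAlg.e π ∉ maximalIdeal (NodeAlg B π) ^ 2 :=
  not_mem_sq_of_span_pair (ringKrullDim_N π) _ _ (by rw [maximalIdeal_N, Set.pair_comm])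

theorem prime_t : Prime (NodeAlg.t π) :=
  prime_of_not_mem_sq 1 (ringKrullDim_N π) _ (t_mem π) (t_not_mem_sq π)

theorem prime_e : Prime (NodeAlg.e π) :=
  prime_of_not_mem_sq 1 (ringKrullDim_N π) _ (e_mem π) (e_not_mem_sq π)

end Node

end Groth.Agent.H2.Node
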