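import Mathlib
import Groth.Agent.Lib.Helper2.Node1

/-!
# Automorphisms of the formal double point: stabilize or switch the branches
-/

set_option autoImplicit false
set_option linter.unusedSectionVars false

namespace Groth.Agent.H2.Node

open MvPowerSeries IsLocalRing ArLef

universe u

variable {B : Type u} [CommRing B] [IsDomain B] [IsDiscreteValuationRing B] (π : B)
  [hπ : Fact (Irreducible π)]

/-- if a prime `p` divides a prime `q`, then `q = unit * p`. -/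
theorem exists_unit_mul_of_prime_dvd_prime {R : Type*} [CommRing R] [IsDomain R] {p q : R}
    (hp : Prime p) (hq : Prime q) (h : p ∣ q) : ∃ α : Rˣ, q = (α : R) * p := by
  obtain ⟨c, hc⟩ := h
  have hirr := hq.irreducible
  rcases hirr.isUnit_or_isUnit hc with h1 | h1
  · exact absurd h1 hp.not_isUnit
  · exact ⟨h1.unit, by rw [hc, mul_comm]; rfl⟩

theorem stabilizes_or_switches (σ : NodeAlg B π ≃+* NodeAlg B π)
    (hσ : Associated (σ (algebraMap B (NodeAlg B π) π)) (algebraMap B (NodeAlg B π) π)) :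
    (∃ α β : (NodeAlg B π)ˣ, σ (NodeAlg.t π) = (α : NodeAlg B π) * NodeAlg.t π ∧
        σ (NodeAlg.e π) = (β : NodeAlg B π) * NodeAlg.e π) ∨
      (∃ α β : (NodeAlg B π)ˣ, σ (NodeAlg.t π) = (α : NodeAlg B π) * NodeAlg.e π ∧
        σ (NodeAlg.e π) = (β : NodeAlg B π) * NodeAlg.t π) := by
  obtain ⟨u, hu⟩ := hσ
  have hpt := prime_t π
  have hpe := prime_e π
  have hσt : Prime (σ (NodeAlg.t π)) := (MulEquiv.prime_iff σ.toMulEquiv).mpr hpt
  have hσe : Prime (σ (NodeAlg.e π)) := (MulEquiv.prime_iff σ.toMulEquiv).mpr hpe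
  have key : σ (NodeAlg.t π) * σ (NodeAlg.e π) * (u : NodeAlg B π) = NodeAlg.t π * NodeAlg.e π := by
    rw [← map_mul, t_mul_e, hu]
  have ht0 : NodeAlg.t π ≠ 0 := hpt.ne_zero
  have hdvd : NodeAlg.t π ∣ σ (NodeAlg.t π) * σ (NodeAlg.e π) := by
    have h1 : NodeAlg.t π ∣ σ (NodeAlg.t π) * σ (NodeAlg.e π) * (u : NodeAlg B π) :=
      ⟨NodeAlg.e π, key⟩
    rcases hpt.dvd_or_dvd h1 with h2 | h2
    · exact h2
    · exact absurd (isUnit_of_dvd_unit h2 u.isUnit) hpt.not_isUnit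
  rcases hpt.dvd_or_dvd hdvd with h1 | h1
  · left
    obtain ⟨α, hα⟩ := exists_unit_mul_of_prime_dvd_prime hpt hσt h1
    refine ⟨α, α⁻¹ * u⁻¹, hα, ?_⟩
    rw [hα] at key
    have h3 : NodeAlg.t π * ((α : NodeAlg B π) * σ (NodeAlg.e π) * (u : NodeAlg B π)) =
        NodeAlg.t π * NodeAlg.e π := by rw [← key]; ring
    have h4 := mul_left_cancel₀ ht0 h3
    have h5 : ((α⁻¹ : (NodeAlg B π)ˣ) : NodeAlg B π) * (α : NodeAlg B π) = 1 := by
      rw [← Units.val_mul, inv_mul_cancel, Units.val_one]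
    have h6 : ((u⁻¹ : (NodeAlg B π)ˣ) : NodeAlg B π) * (u : NodeAlg B π) = 1 := by
      rw [← Units.val_mul, inv_mul_cancel, Units.val_one]
    calc σ (NodeAlg.e π) = (((α⁻¹ : (NodeAlg B π)ˣ) : NodeAlg B π) * (α : NodeAlg B π)) *
          (((u⁻¹ : (NodeAlg B π)ˣ) : NodeAlg B π) * (u : NodeAlg B π)) * σ (NodeAlg.e π) := by
            rw [h5, h6, one_mul, one_mul]
      _ = ((α⁻¹ : (NodeAlg B π)ˣ) : NodeAlg B π) * ((u⁻¹ : (NodeAlg B π)ˣ) : NodeAlg B π) *
          ((α : NodeAlg B π) * σ (NodeAlg.e π) * (u : NodeAlg B π)) := by ring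
      _ = _ := by rw [h4, Units.val_mul]
  · right
    obtain ⟨β, hβ⟩ := exists_unit_mul_of_prime_dvd_prime hpt hσe h1
    refine ⟨β⁻¹ * u⁻¹, β, ?_, hβ⟩
    rw [hβ] at key
    have h3 : NodeAlg.t π * (σ (NodeAlg.t π) * (β : NodeAlg B π) * (u : NodeAlg B π)) =
        NodeAlg.t π * NodeAlg.e π := by rw [← key]; ring
    have h4 := mul_left_cancel₀ ht0 h3
    have h5 : ((β⁻¹ : (NodeAlg B π)ˣ) : NodeAlg B π) * (β : NodeAlg B π) = 1 := by
      rw [← Units.val_mul, inv_mul_cancel, Units.val_one]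
    have h6 : ((u⁻¹ : (NodeAlg B π)ˣ) : NodeAlg B π) * (u : NodeAlg B π) = 1 := by
      rw [← Units.val_mul, inv_mul_cancel, Units.val_one]
    calc σ (NodeAlg.t π) = (((β⁻¹ : (NodeAlg B π)ˣ) : NodeAlg B π) * (β : NodeAlg B π)) *
          (((u⁻¹ : (NodeAlg B π)ˣ) : NodeAlg B π) * (u : NodeAlg B π)) * σ (NodeAlg.t π) := by
            rw [h5, h6, one_mul, one_mul]
      _ = ((β⁻¹ : (NodeAlg B π)ˣ) : NodeAlg B π) * ((u⁻¹ : (NodeAlg B π)ˣ) : NodeAlg B π) *
          (σ (NodeAlg.t π) * (β : NodeAlg B π) * (u : NodeAlg B π)) := by ring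
      _ = _ := by rw [h4, Units.val_mul]

theorem algebraMap_pi_ne_zero : algebraMap B (NodeAlg B π) π ≠ 0 := by
  rw [← t_mul_e]
  exact mul_ne_zero (prime_t π).ne_zero (prime_e π).ne_zero

theorem algebraMap_pi_mem : algebraMap B (NodeAlg B π) π ∈ maximalIdeal (NodeAlg B π) := by
  rw [← t_mul_e]
  exact Ideal.mul_mem_right _ _ (t_mem π)

theorem not_fixIdeal_le_span_pow (j : ℕ) (hj : 1 ≤ j) (γ : B) (hγ : IsUnit γ)
    (σ : NodeAlg B π ≃+* NodeAlg B π)
    (hσ : σ (algebraMap B (NodeAlg B π) π) = algebraMap B (NodeAlg B π) (π + γ * π ^ j)) :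
    ¬ fixIdeal σ ≤ Ideal.span ({algebraMap B (NodeAlg B π) (π ^ j)} : Set (NodeAlg B π)) := by
  intro hle
  have h1 : σ (NodeAlg.t π) - NodeAlg.t π ∈ fixIdeal σ := Ideal.subset_span ⟨_, rfl⟩
  have h2 : σ (NodeAlg.e π) - NodeAlg.e π ∈ fixIdeal σ := Ideal.subset_span ⟨_, rfl⟩
  obtain ⟨a, ha⟩ := Ideal.mem_span_singleton'.mp (hle h1)
  obtain ⟨b, hb⟩ := Ideal.mem_span_singleton'.mp (hle h2)
  set p := algebraMap B (NodeAlg B π) π with hp
  have hpj : algebraMap B (NodeAlg B π) (π ^ j) = p ^ j := map_pow _ _ _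
  rw [hpj] at ha hb
  have hσt : σ (NodeAlg.t π) = NodeAlg.t π + a * p ^ j := by rw [ha]; ring
  have hσe : σ (NodeAlg.e π) = NodeAlg.e π + b * p ^ j := by rw [hb]; ring
  have key : σ (NodeAlg.t π) * σ (NodeAlg.e π) = p + algebraMap B (NodeAlg B π) γ * p ^ j := by
    rw [← map_mul, t_mul_e, hσ, map_add, map_mul, map_pow]
  rw [hσt, hσe] at key
  have hte : NodeAlg.t π * NodeAlg.e π = p := t_mul_e π
  have h3 : p ^ j * (a * NodeAlg.e π + b * NodeAlg.t π + a * b * p ^ j) =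
      p ^ j * algebraMap B (NodeAlg B π) γ := by
    have : (NodeAlg.t π + a * p ^ j) * (NodeAlg.e π + b * p ^ j) =
        NodeAlg.t π * NodeAlg.e π +
          p ^ j * (a * NodeAlg.e π + b * NodeAlg.t π + a * b * p ^ j) := by ring
    rw [this, hte] at key
    have h4 := add_left_cancel key
    rw [h4]; ring
  have hp0 : p ^ j ≠ 0 := pow_ne_zero _ (algebraMap_pi_ne_zero π)
  have h5 := mul_left_cancel₀ hp0 h3
  have hmem : a * NodeAlg.e π + b * NodeAlg.t π + a * b * p ^ j ∈ maximalIdeal (NodeAlg B π) := by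
    refine add_mem (add_mem (Ideal.mul_mem_left _ _ (e_mem π)) (Ideal.mul_mem_left _ _ (t_mem π)))
      (Ideal.mul_mem_left _ _ ?_)
    exact Ideal.pow_mem_of_mem _ (algebraMap_pi_mem π) j (by omega)
  rw [h5] at hmem
  exact (mem_maximalIdeal _).mp hmem (hγ.map _)

end Groth.Agent.H2.Node
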