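import Mathlib
import Groth.Prelude.Def_W4c2arithlefschetzNode
import Groth.Agent.Lib.Helper5.FSm.PSReg

/-!
# Fixed-point ideals of automorphisms of quotients of power series rings

Automorphisms of a Noetherian local ring are continuous; hence the fixed-point ideal of an
automorphism of a quotient of `B[[x₁,…,xₙ]]` is generated by `σ xᵢ - xᵢ` and `σ b - b`, `b ∈ B`.
-/

set_option autoImplicit false
set_option linter.unusedSectionVars false
set_option linter.style.haveILetI false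

namespace Groth.Agent.H2.Node

open MvPowerSeries IsLocalRing

universe u

/-- automorphisms of local rings preserve powers of the maximal ideal. -/
theorem map_mem_maximalIdeal_pow {A : Type*} [CommRing A] [IsLocalRing A] (σ : A ≃+* A) (m : ℕ)
    {x : A} (hx : x ∈ maximalIdeal A ^ m) : σ x ∈ maximalIdeal A ^ m := by
  have h1 : (maximalIdeal A).map (σ : A →+* A) ≤ maximalIdeal A := by
    rw [Ideal.map_le_iff_le_comap]
    intro y hy
    rw [Ideal.mem_comap, mem_maximalIdeal, mem_nonunits_iff] at *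
    intro hu
    exact hy ((isUnit_map_iff σ y).mp hu)
  have h2 : (maximalIdeal A ^ m).map (σ : A →+* A) ≤ maximalIdeal A ^ m := by
    rw [Ideal.map_pow]
    exact Ideal.pow_right_mono h1 m
  exact h2 (Ideal.mem_map_of_mem _ hx)

/-- density + Krull intersection. -/
theorem sub_mem_of_dense {A : Type*} [CommRing A] [IsLocalRing A] [IsNoetherianRing A]
    (σ : A ≃+* A) (I₀ : Ideal A) (D : Set A)
    (hD : ∀ r : A, ∀ m : ℕ, ∃ d ∈ D, r - d ∈ maximalIdeal A ^ m)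
    (hσD : ∀ d ∈ D, σ d - d ∈ I₀) (r : A) : σ r - r ∈ I₀ := by
  by_cases htop : I₀ = ⊤
  · rw [htop]; trivial
  haveI : Nontrivial (A ⧸ I₀) := Ideal.Quotient.nontrivial_iff.mpr htop
  haveI : IsLocalRing (A ⧸ I₀) :=
    IsLocalRing.of_surjective' (Ideal.Quotient.mk I₀) Ideal.Quotient.mk_surjective
  have hloc : (maximalIdeal A).map (Ideal.Quotient.mk I₀) ≤ maximalIdeal (A ⧸ I₀) := by
    rw [Ideal.map_le_iff_le_comap]
    intro y hy
    rw [Ideal.mem_comap, mem_maximalIdeal, mem_nonunits_iff]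
    intro hu
    have : IsLocalHom (Ideal.Quotient.mk I₀) :=
      IsLocalHom.of_surjective _ Ideal.Quotient.mk_surjective
    exact (mem_maximalIdeal y).mp hy ((isUnit_map_iff (Ideal.Quotient.mk I₀) y).mp hu)
  have key : ∀ m, Ideal.Quotient.mk I₀ (σ r - r) ∈ maximalIdeal (A ⧸ I₀) ^ m := by
    intro m
    obtain ⟨d, hd, hrd⟩ := hD r m
    have h1 : σ r - r = (σ d - d) + (σ (r - d) - (r - d)) := by rw [map_sub]; ring
    rw [h1, map_add, Ideal.Quotient.eq_zero_iff_mem.mpr (hσD d hd), zero_add]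
    have h3 := sub_mem (map_mem_maximalIdeal_pow σ m hrd) hrd
    have h4 : (maximalIdeal A ^ m).map (Ideal.Quotient.mk I₀) ≤ maximalIdeal (A ⧸ I₀) ^ m := by
      rw [Ideal.map_pow]
      exact Ideal.pow_right_mono hloc m
    exact h4 (Ideal.mem_map_of_mem _ h3)
  have h0 : Ideal.Quotient.mk I₀ (σ r - r) ∈ (⨅ m, maximalIdeal (A ⧸ I₀) ^ m : Ideal _) := by
    rw [Ideal.mem_iInf]; exact key
  rw [Ideal.iInf_pow_eq_bot_of_isLocalRing _ (maximalIdeal.isMaximal _).ne_top] at h0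
  exact Ideal.Quotient.eq_zero_iff_mem.mp h0

theorem map_maximalIdeal_le_of_surjective {A A' : Type*} [CommRing A] [CommRing A']
    [IsLocalRing A] [IsLocalRing A'] (f : A →+* A') (hf : Function.Surjective f) :
    (maximalIdeal A).map f ≤ maximalIdeal A' := by
  rw [Ideal.map_le_iff_le_comap]
  intro y hy
  rw [Ideal.mem_comap, mem_maximalIdeal, mem_nonunits_iff]
  intro hu
  have : IsLocalHom f := IsLocalHom.of_surjective _ hf
  exact (mem_maximalIdeal y).mp hy ((isUnit_map_iff f y).mp hu)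

section Quot

variable {B : Type u} [CommRing B] [IsLocalRing B] [IsNoetherianRing B] {n : ℕ}
  (𝔠 : Ideal (MvPowerSeries (Fin n) B)) [IsLocalRing (MvPowerSeries (Fin n) B ⧸ 𝔠)]

/-- the natural generators of the fixed-point ideal. -/
def gens (σ : (MvPowerSeries (Fin n) B ⧸ 𝔠) ≃+* (MvPowerSeries (Fin n) B ⧸ 𝔠)) :
    Set (MvPowerSeries (Fin n) B ⧸ 𝔠) :=
  Set.range (fun i : Fin n => σ (Ideal.Quotient.mk 𝔠 (X i)) - Ideal.Quotient.mk 𝔠 (X i)) ∪
    Set.range (fun b : B => σ (Ideal.Quotient.mk 𝔠 (C b)) - Ideal.Quotient.mk 𝔠 (C b))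

theorem X_mem_maximalIdeal (i : Fin n) :
    (X i : MvPowerSeries (Fin n) B) ∈ maximalIdeal (MvPowerSeries (Fin n) B) := by
  rw [mem_maximalIdeal, mem_nonunits_iff, MvPowerSeries.isUnit_iff_constantCoeff]
  simp

theorem mk_mem_pow_of_mem_span_X_pow (m : ℕ) {G : MvPowerSeries (Fin n) B}
    (hG : G ∈ Ideal.span (Set.range (X : Fin n → MvPowerSeries (Fin n) B)) ^ m) :
    Ideal.Quotient.mk 𝔠 G ∈ maximalIdeal (MvPowerSeries (Fin n) B ⧸ 𝔠) ^ m := by
  have h1 : Ideal.span (Set.range (X : Fin n → MvPowerSeries (Fin n) B)) ≤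
      maximalIdeal (MvPowerSeries (Fin n) B) := by
    rw [Ideal.span_le]
    rintro _ ⟨i, rfl⟩
    exact X_mem_maximalIdeal i
  have h2 := Ideal.pow_right_mono h1 m hG
  have h3 : (maximalIdeal (MvPowerSeries (Fin n) B) ^ m).map (Ideal.Quotient.mk 𝔠) ≤
      maximalIdeal (MvPowerSeries (Fin n) B ⧸ 𝔠) ^ m := by
    rw [Ideal.map_pow]
    exact Ideal.pow_right_mono
      (map_maximalIdeal_le_of_surjective _ Ideal.Quotient.mk_surjective) m
  exact h3 (Ideal.mem_map_of_mem _ h2)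

theorem poly_sub_mem_span_gens
    (σ : (MvPowerSeries (Fin n) B ⧸ 𝔠) ≃+* (MvPowerSeries (Fin n) B ⧸ 𝔠))
    (p : MvPolynomial (Fin n) B) :
    σ (Ideal.Quotient.mk 𝔠 (p : MvPowerSeries (Fin n) B)) -
      Ideal.Quotient.mk 𝔠 (p : MvPowerSeries (Fin n) B) ∈ Ideal.span (gens 𝔠 σ) := by
  induction p using MvPolynomial.induction_on with
  | C b =>
    rw [MvPolynomial.coe_C]
    exact Ideal.subset_span (Or.inr ⟨b, rfl⟩)
  | add p q hp hq =>
    rw [MvPolynomial.coe_add, map_add, map_add]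
    have : σ (Ideal.Quotient.mk 𝔠 (p : MvPowerSeries (Fin n) B)) +
        σ (Ideal.Quotient.mk 𝔠 (q : MvPowerSeries (Fin n) B)) -
        (Ideal.Quotient.mk 𝔠 (p : MvPowerSeries (Fin n) B) +
          Ideal.Quotient.mk 𝔠 (q : MvPowerSeries (Fin n) B)) =
        (σ (Ideal.Quotient.mk 𝔠 (p : MvPowerSeries (Fin n) B)) -
          Ideal.Quotient.mk 𝔠 (p : MvPowerSeries (Fin n) B)) +
        (σ (Ideal.Quotient.mk 𝔠 (q : MvPowerSeries (Fin n) B)) -
          Ideal.Quotient.mk 𝔠 (q : MvPowerSeries (Fin n) B)) := by ring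
    rw [this]
    exact add_mem hp hq
  | mul_X p i hp =>
    rw [MvPolynomial.coe_mul, MvPolynomial.coe_X, map_mul, map_mul]
    have : σ (Ideal.Quotient.mk 𝔠 (p : MvPowerSeries (Fin n) B)) *
        σ (Ideal.Quotient.mk 𝔠 (X i)) -
        Ideal.Quotient.mk 𝔠 (p : MvPowerSeries (Fin n) B) * Ideal.Quotient.mk 𝔠 (X i) =
        σ (Ideal.Quotient.mk 𝔠 (p : MvPowerSeries (Fin n) B)) *
          (σ (Ideal.Quotient.mk 𝔠 (X i)) - Ideal.Quotient.mk 𝔠 (X i)) +
        (σ (Ideal.Quotient.mk 𝔠 (p : MvPowerSeries (Fin n) B)) -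
          Ideal.Quotient.mk 𝔠 (p : MvPowerSeries (Fin n) B)) * Ideal.Quotient.mk 𝔠 (X i) := by
      ring
    rw [this]
    exact add_mem (Ideal.mul_mem_left _ _ (Ideal.subset_span (Or.inl ⟨i, rfl⟩)))
      (Ideal.mul_mem_right _ _ hp)

theorem sub_mem_span_gens (σ : (MvPowerSeries (Fin n) B ⧸ 𝔠) ≃+* (MvPowerSeries (Fin n) B ⧸ 𝔠))
    (r : MvPowerSeries (Fin n) B ⧸ 𝔠) : σ r - r ∈ Ideal.span (gens 𝔠 σ) := by
  classical
  apply sub_mem_of_dense σ (Ideal.span (gens 𝔠 σ))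
    (Set.range fun p : MvPolynomial (Fin n) B =>
      Ideal.Quotient.mk 𝔠 (p : MvPowerSeries (Fin n) B))
  · intro r m
    obtain ⟨F, rfl⟩ := Ideal.Quotient.mk_surjective r
    refine ⟨_, ⟨truncTotal m F, rfl⟩, ?_⟩
    rw [← map_sub]
    exact mk_mem_pow_of_mem_span_X_pow 𝔠 m (Groth.Agent.H5.CA.sub_truncTotal_mem_pow m F)
  · rintro _ ⟨p, rfl⟩
    exact poly_sub_mem_span_gens 𝔠 σ p

theorem fixIdeal_eq_span_gens
    (σ : (MvPowerSeries (Fin n) B ⧸ 𝔠) ≃+* (MvPowerSeries (Fin n) B ⧸ 𝔠)) :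
    ArLef.fixIdeal σ = Ideal.span (gens 𝔠 σ) := by
  apply le_antisymm
  · unfold ArLef.fixIdeal
    rw [Ideal.span_le]
    rintro _ ⟨r, rfl⟩
    exact sub_mem_span_gens 𝔠 σ r
  · rw [Ideal.span_le]
    rintro _ (⟨i, rfl⟩ | ⟨b, rfl⟩)
    · exact Ideal.subset_span ⟨_, rfl⟩
    · exact Ideal.subset_span ⟨_, rfl⟩

end Quot

end Groth.Agent.H2.Node
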