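import Mathlib

/-!
# Length of quotients by two-generated ideals: additivity
-/

set_option autoImplicit false

namespace Groth.Agent.H2.Len

variable {R : Type*} [CommRing R]

/-- `ℓ(R/J) = ℓ(R/(J : x)) + ℓ(R/(J + (x)))`. -/
theorem length_quot_eq_add (J : Ideal R) (x : R) :
    Module.length R (R ⧸ J) =
      Module.length R (R ⧸ J.colon ({x} : Set R)) +
        Module.length R (R ⧸ (J ⊔ Ideal.span ({x} : Set R))) := by
  have h1 : J.colon ({x} : Set R) ≤ Submodule.comap (LinearMap.mulLeft R x) J := by
    intro r hr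
    rw [Submodule.mem_colon_singleton] at hr
    rw [Submodule.mem_comap, LinearMap.mulLeft_apply, mul_comm]
    exact hr
  let f : (R ⧸ J.colon ({x} : Set R)) →ₗ[R] (R ⧸ J) :=
    Submodule.mapQ (J.colon ({x} : Set R)) J (LinearMap.mulLeft R x) h1
  have h2 : J ≤ Submodule.comap (LinearMap.id : R →ₗ[R] R) (J ⊔ Ideal.span ({x} : Set R)) := by
    intro r hr
    exact Ideal.mem_sup_left hr
  let g : (R ⧸ J) →ₗ[R] (R ⧸ (J ⊔ Ideal.span ({x} : Set R))) :=
    Submodule.mapQ J (J ⊔ Ideal.span ({x} : Set R)) LinearMap.id h2
  have hf : Function.Injective f := by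
    rw [← LinearMap.ker_eq_bot, LinearMap.ker_eq_bot']
    intro m hm
    obtain ⟨r, rfl⟩ := Submodule.mkQ_surjective _ m
    change f (Submodule.Quotient.mk r) = 0 at hm
    rw [Submodule.mapQ_apply, Submodule.Quotient.mk_eq_zero, LinearMap.mulLeft_apply] at hm
    change Submodule.Quotient.mk r = 0
    rw [Submodule.Quotient.mk_eq_zero, Submodule.mem_colon_singleton, smul_eq_mul, mul_comm]
    exact hm
  have hg : Function.Surjective g := by
    intro m
    obtain ⟨r, rfl⟩ := Submodule.mkQ_surjective _ m
    exact ⟨Submodule.Quotient.mk r, rfl⟩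
  have H : Function.Exact f g := by
    intro m
    constructor
    · intro hm
      obtain ⟨r, rfl⟩ := Submodule.mkQ_surjective _ m
      change g (Submodule.Quotient.mk r) = 0 at hm
      rw [Submodule.mapQ_apply, Submodule.Quotient.mk_eq_zero, LinearMap.id_apply] at hm
      obtain ⟨a, ha, b, hb, hab⟩ := Submodule.mem_sup.mp hm
      obtain ⟨c, rfl⟩ := Ideal.mem_span_singleton'.mp hb
      refine ⟨Submodule.Quotient.mk c, ?_⟩
      change f (Submodule.Quotient.mk c) = Submodule.Quotient.mk r
      rw [Submodule.mapQ_apply, LinearMap.mulLeft_apply, eq_comm, Submodule.Quotient.eq]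
      rw [← hab]
      have : a + c * x - x * c = a := by ring
      rw [this]
      exact ha
    · rintro ⟨m', rfl⟩
      obtain ⟨c, rfl⟩ := Submodule.mkQ_surjective _ m'
      change g (f (Submodule.Quotient.mk c)) = 0
      rw [Submodule.mapQ_apply, Submodule.mapQ_apply, Submodule.Quotient.mk_eq_zero,
        LinearMap.id_apply, LinearMap.mulLeft_apply]
      exact Ideal.mem_sup_right (Ideal.mul_mem_right _ _ (Ideal.subset_span rfl))
  exact Module.length_eq_add_of_exact f g hf hg H

/-- `x` is a non-zero-divisor modulo `(y)`. -/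
def NZDMod (x y : R) : Prop := ∀ r : R, x * r ∈ Ideal.span ({y} : Set R) → r ∈ Ideal.span ({y} : Set R)

theorem colon_pair (x y z : R) (h : NZDMod x y) :
    (Ideal.span ({y, x * z} : Set R)).colon ({x} : Set R) = Ideal.span ({y, z} : Set R) := by
  apply le_antisymm
  · intro r hr
    rw [Submodule.mem_colon_singleton, smul_eq_mul, Ideal.mem_span_pair] at hr
    obtain ⟨A, C, hAC⟩ := hr
    have h1 : x * (r - C * z) ∈ Ideal.span ({y} : Set R) := by
      have : x * (r - C * z) = A * y := by
        have : r * x = A * y + C * (x * z) := hAC.symm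
        linear_combination this
      rw [this]
      exact Ideal.mul_mem_left _ _ (Ideal.subset_span rfl)
    obtain ⟨D, hD⟩ := Ideal.mem_span_singleton'.mp (h _ h1)
    rw [Ideal.mem_span_pair]
    exact ⟨D, C, by rw [hD]; ring⟩
  · rw [Ideal.span_le]
    intro r hr
    rcases hr with rfl | hr
    · rw [SetLike.mem_coe, Submodule.mem_colon_singleton, smul_eq_mul]
      exact Ideal.mul_mem_right _ _ (Ideal.subset_span (by simp))
    · rw [Set.mem_singleton_iff] at hr
      subst hr
      rw [SetLike.mem_coe, Submodule.mem_colon_singleton, smul_eq_mul, mul_comm]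
      exact Ideal.subset_span (by simp)

/-- `ℓ(R/(y, xz)) = ℓ(R/(y, z)) + ℓ(R/(y, x))` if `x` is a non-zero-divisor modulo `y`. -/
theorem length_quot_pair_mul (x y z : R) (h : NZDMod x y) :
    Module.length R (R ⧸ Ideal.span ({y, x * z} : Set R)) =
      Module.length R (R ⧸ Ideal.span ({y, z} : Set R)) +
        Module.length R (R ⧸ Ideal.span ({y, x} : Set R)) := by
  have hI : Ideal.span ({y, x * z} : Set R) ⊔ Ideal.span ({x} : Set R) =
      Ideal.span ({y, x} : Set R) := by
    apply le_antisymm
    · rw [sup_le_iff, Ideal.span_le, Ideal.span_le]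
      constructor
      · intro r hr
        rcases hr with rfl | hr
        · exact Ideal.subset_span (by simp)
        · rw [Set.mem_singleton_iff] at hr
          subst hr
          exact Ideal.mul_mem_right _ _ (Ideal.subset_span (by simp))
      · intro r hr
        rw [Set.mem_singleton_iff] at hr
        subst hr
        exact Ideal.subset_span (by simp)
    · rw [Ideal.span_le]
      intro r hr
      rcases hr with rfl | hr
      · exact Ideal.mem_sup_left (Ideal.subset_span (by simp))
      · rw [Set.mem_singleton_iff] at hr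
        subst hr
        exact Ideal.mem_sup_right (Ideal.subset_span rfl)
  rw [length_quot_eq_add (Ideal.span ({y, x * z} : Set R)) x, colon_pair x y z h, hI]

/-- a prime not dividing `y` is a non-zero-divisor modulo `y` (in a domain). -/
theorem nzdMod_of_prime [IsDomain R] {p y : R} (hp : Prime p) (h : ¬ p ∣ y) : NZDMod p y := by
  intro r hr
  obtain ⟨c, hc⟩ := Ideal.mem_span_singleton'.mp hr
  have h1 : p ∣ c * y := ⟨r, hc⟩
  rcases hp.dvd_or_dvd h1 with h2 | h2
  · obtain ⟨c', rfl⟩ := h2
    have h3 : p * (c' * y) = p * r := by rw [← hc]; ring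
    have h4 := mul_left_cancel₀ hp.ne_zero h3
    rw [← h4]
    exact Ideal.mul_mem_left _ _ (Ideal.subset_span rfl)
  · exact absurd h2 h

/-- if `p` is prime and does not divide `y`, then `y` is a non-zero-divisor modulo `p`. -/
theorem nzdMod_prime_right {p y : R} (hp : Prime p) (h : ¬ p ∣ y) : NZDMod y p := by
  intro r hr
  rw [Ideal.mem_span_singleton] at hr ⊢
  rcases hp.dvd_or_dvd hr with h2 | h2
  · exact absurd h2 h
  · exact h2

end Groth.Agent.H2.Len
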