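import Mathlib
import Groth.Agent.Lib.Helper2.Node2
import Groth.Agent.Lib.Helper2.Node3
import Groth.Agent.Lib.Helper2.Node4

/-!
# Fixed-point ideals on the formal double point over a DVR
-/

set_option autoImplicit false
set_option linter.unusedSectionVars false
set_option linter.style.haveILetI false

namespace Groth.Agent.H2.Node

open MvPowerSeries IsLocalRing ArLef

universe u

variable {B : Type u} [CommRing B] [IsDomain B] [IsDiscreteValuationRing B] (π : B)
  [hπ : Fact (Irreducible π)]

theorem algebraMap_eq_mk_C (b : B) :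
    algebraMap B (NodeAlg B π) b = Ideal.Quotient.mk (Ideal.span {fN π}) (C b) := rfl

/-- the fixed-point ideal of a `B`-algebra automorphism. -/
theorem fixIdeal_algEquiv (σ : NodeAlg B π ≃ₐ[B] NodeAlg B π) :
    fixIdeal σ = Ideal.span {σ (NodeAlg.t π) - NodeAlg.t π, σ (NodeAlg.e π) - NodeAlg.e π} := by
  have h := fixIdeal_eq_span_gens (Ideal.span {fN π}) σ.toRingEquiv
  have h' : fixIdeal (σ : NodeAlg B π → NodeAlg B π) = fixIdeal (σ.toRingEquiv) := rfl
  rw [h', h]
  apply le_antisymm
  · rw [Ideal.span_le]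
    rintro _ (⟨i, rfl⟩ | ⟨b, rfl⟩)
    · fin_cases i
      · exact Ideal.subset_span (Or.inl rfl)
      · exact Ideal.subset_span (Or.inr rfl)
    · have : σ.toRingEquiv (Ideal.Quotient.mk (Ideal.span {fN π}) (C b)) =
          Ideal.Quotient.mk (Ideal.span {fN π}) (C b) := by
        rw [← algebraMap_eq_mk_C]
        exact σ.commutes b
      simp only
      rw [this, sub_self]
      exact zero_mem _
  · apply Ideal.span_mono
    rintro _ (rfl | rfl)
    · exact Or.inl ⟨0, rfl⟩
    · exact Or.inl ⟨1, rfl⟩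

/-- the fixed-point ideal of a ring automorphism lying over an automorphism of `B` moving `π`
to order `j`. -/
theorem fixIdeal_ringEquiv (j : ℕ) (γ : B) (hγ : IsUnit γ)
    (σ : NodeAlg B π ≃+* NodeAlg B π)
    (hσB : ∀ b : B, σ (algebraMap B (NodeAlg B π) b) - algebraMap B (NodeAlg B π) b ∈
      Ideal.span ({algebraMap B (NodeAlg B π) (π ^ j)} : Set (NodeAlg B π)))
    (hσπ : σ (algebraMap B (NodeAlg B π) π) = algebraMap B (NodeAlg B π) (π + γ * π ^ j)) :
    fixIdeal σ = Ideal.span {σ (NodeAlg.t π) - NodeAlg.t π, σ (NodeAlg.e π) - NodeAlg.e π,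
      algebraMap B (NodeAlg B π) (π ^ j)} := by
  rw [fixIdeal_eq_span_gens (Ideal.span {fN π}) σ]
  apply le_antisymm
  · rw [Ideal.span_le]
    rintro _ (⟨i, rfl⟩ | ⟨b, rfl⟩)
    · fin_cases i
      · exact Ideal.subset_span (Or.inl rfl)
      · exact Ideal.subset_span (Or.inr (Or.inl rfl))
    · have h1 := hσB b
      rw [Ideal.mem_span_singleton'] at h1
      obtain ⟨c, hc⟩ := h1
      simp only
      rw [← algebraMap_eq_mk_C, SetLike.mem_coe, ← hc]
      exact Ideal.mul_mem_left _ _ (Ideal.subset_span (by simp))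
  · rw [Ideal.span_le]
    rintro _ (rfl | rfl | h)
    · exact Ideal.subset_span (Or.inl ⟨0, rfl⟩)
    · exact Ideal.subset_span (Or.inl ⟨1, rfl⟩)
    · rw [Set.mem_singleton_iff] at h
      subst h
      have h1 : σ (Ideal.Quotient.mk (Ideal.span {fN π}) (C π)) -
          Ideal.Quotient.mk (Ideal.span {fN π}) (C π) ∈ Ideal.span (gens (Ideal.span {fN π}) σ) :=
        Ideal.subset_span (Or.inr ⟨π, rfl⟩)
      rw [← algebraMap_eq_mk_C, hσπ, map_add, add_sub_cancel_left, map_mul] at h1
      have hu : IsUnit (algebraMap B (NodeAlg B π) γ) := hγ.map _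
      exact (Ideal.unit_mul_mem_iff_mem _ hu).mp h1

end Groth.Agent.H2.Node
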