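import Mathlib
import Groth.Agent.Lib.Helper2.Node5

/-!
# `B`-algebra automorphisms of the formal double point: fixed-point ideals
-/

set_option autoImplicit false
set_option linter.unusedSectionVars false
set_option linter.style.haveILetI false

namespace Groth.Agent.H2.Node

open MvPowerSeries IsLocalRing ArLef

universe u

variable {B : Type u} [CommRing B] [IsDomain B] [IsDiscreteValuationRing B] (π : B)
  [hπ : Fact (Irreducible π)]

/-- `Associated (σ x) y` gives `σ x = unit * y`. -/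
theorem exists_unit_of_associated {R : Type*} [CommRing R] {x y : R} (h : Associated x y) :
    ∃ α : Rˣ, x = (α : R) * y := by
  obtain ⟨u, hu⟩ := h
  refine ⟨u⁻¹, ?_⟩
  rw [← hu]
  have : ((u⁻¹ : Rˣ) : R) * (x * (u : R)) = x * ((u : R) * ((u⁻¹ : Rˣ) : R)) := by ring
  rw [this, ← Units.val_mul, mul_inv_cancel, Units.val_one, mul_one]

/-- stabilizing case: `fixIdeal σ = (g) (t, e)`. -/
theorem fixIdeal_of_stabilizes (σ : NodeAlg B π ≃ₐ[B] NodeAlg B π) (hσ : σ ≠ AlgEquiv.refl)
    (ht : Associated (σ (NodeAlg.t π)) (NodeAlg.t π))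
    (he : Associated (σ (NodeAlg.e π)) (NodeAlg.e π)) :
    ∃ g : NodeAlg B π, g ≠ 0 ∧
      fixIdeal σ = Ideal.span {g} * Ideal.span ({NodeAlg.t π, NodeAlg.e π} : Set (NodeAlg B π)) := by
  obtain ⟨α, hα⟩ := exists_unit_of_associated ht
  obtain ⟨β, hβ⟩ := exists_unit_of_associated he
  have hte : NodeAlg.t π * NodeAlg.e π = algebraMap B (NodeAlg B π) π := t_mul_e π
  have hαβ : (α : NodeAlg B π) * (β : NodeAlg B π) = 1 := by
    have h1 : σ (NodeAlg.t π * NodeAlg.e π) = NodeAlg.t π * NodeAlg.e π := by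
      rw [hte]; exact σ.commutes π
    rw [map_mul, hα, hβ] at h1
    have h2 : (NodeAlg.t π * NodeAlg.e π) * ((α : NodeAlg B π) * (β : NodeAlg B π)) =
        (NodeAlg.t π * NodeAlg.e π) * 1 :=
      calc (NodeAlg.t π * NodeAlg.e π) * ((α : NodeAlg B π) * (β : NodeAlg B π))
          = (α : NodeAlg B π) * NodeAlg.t π * ((β : NodeAlg B π) * NodeAlg.e π) := by ring
        _ = NodeAlg.t π * NodeAlg.e π := h1
        _ = _ := (mul_one _).symm
    have h0 : NodeAlg.t π * NodeAlg.e π ≠ 0 := by rw [hte]; exact algebraMap_pi_ne_zero π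
    exact mul_left_cancel₀ h0 h2
  have hfix := fixIdeal_algEquiv π σ
  rw [hα, hβ] at hfix
  set g : NodeAlg B π := (α : NodeAlg B π) - 1 with hg
  have hβ1 : (β : NodeAlg B π) - 1 = -(β : NodeAlg B π) * g := by
    rw [hg]
    have : -(β : NodeAlg B π) * ((α : NodeAlg B π) - 1) =
        (β : NodeAlg B π) - (α : NodeAlg B π) * (β : NodeAlg B π) := by ring
    rw [this, hαβ]
  have h1 : (α : NodeAlg B π) * NodeAlg.t π - NodeAlg.t π = g * NodeAlg.t π := by rw [hg]; ring
  have h2 : (β : NodeAlg B π) * NodeAlg.e π - NodeAlg.e π =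
      g * (-(β : NodeAlg B π) * NodeAlg.e π) := by
    have : (β : NodeAlg B π) * NodeAlg.e π - NodeAlg.e π = ((β : NodeAlg B π) - 1) * NodeAlg.e π := by
      ring
    rw [this, hβ1]; ring
  rw [h1, h2] at hfix
  have hspan : fixIdeal σ =
      Ideal.span {g} * Ideal.span ({NodeAlg.t π, NodeAlg.e π} : Set (NodeAlg B π)) := by
    rw [hfix, Ideal.span_mul_span', Set.singleton_mul, Set.image_pair]
    apply le_antisymm
    · rw [Ideal.span_le]
      rintro _ (rfl | rfl)
      · exact Ideal.subset_span (Or.inl rfl)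
      · have : g * (-(β : NodeAlg B π) * NodeAlg.e π) = -(β : NodeAlg B π) * (g * NodeAlg.e π) := by
          ring
        rw [SetLike.mem_coe, this]
        exact Ideal.mul_mem_left _ _ (Ideal.subset_span (Or.inr rfl))
    · rw [Ideal.span_le]
      rintro _ (rfl | rfl)
      · exact Ideal.subset_span (Or.inl rfl)
      · have : g * NodeAlg.e π =
            -(α : NodeAlg B π) * (g * (-(β : NodeAlg B π) * NodeAlg.e π)) := by
          have : -(α : NodeAlg B π) * (g * (-(β : NodeAlg B π) * NodeAlg.e π)) =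
              ((α : NodeAlg B π) * (β : NodeAlg B π)) * (g * NodeAlg.e π) := by ring
          rw [this, hαβ, one_mul]
        rw [SetLike.mem_coe, this]
        exact Ideal.mul_mem_left _ _ (Ideal.subset_span (Or.inr rfl))
  refine ⟨g, ?_, hspan⟩
  intro hg0
  apply hσ
  have hbot : fixIdeal σ = ⊥ := by
    rw [hspan, hg0, Ideal.span_singleton_zero, Ideal.bot_mul]
  ext r
  have h3 : σ r - r ∈ fixIdeal σ := Ideal.subset_span ⟨r, rfl⟩
  rw [hbot, Ideal.mem_bot, sub_eq_zero] at h3
  exact h3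

/-- in a two-dimensional regular local ring with `𝔪 = (h, c)`, `h` does not divide `c`. -/
theorem not_dvd_of_span_pair {R : Type u} [CommRing R] [IsRegularLocalRing R]
    (hd : ringKrullDim R = ((2 : ℕ) : WithBot ℕ∞)) (h c : R)
    (hs : maximalIdeal R = Ideal.span {h, c}) : ¬ h ∣ c := by
  intro hdvd
  have heq : maximalIdeal R = Ideal.span {h} := by
    rw [hs]
    apply le_antisymm
    · rw [Ideal.span_le]
      rintro _ (rfl | hx)
      · exact Ideal.subset_span rfl
      · rw [Set.mem_singleton_iff] at hx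
        subst hx
        exact Ideal.mem_span_singleton.mpr hdvd
    · exact Ideal.span_mono (by simp)
  have h2 : (maximalIdeal R).spanFinrank = 2 := Groth.Agent.H7.Reg.spanFinrank_eq_of_dim 2 hd
  have h1 : (maximalIdeal R).spanFinrank ≤ 1 := by
    rw [heq]
    calc _ ≤ ({h} : Set R).ncard :=
          Submodule.spanFinrank_span_le_ncard_of_finite (Set.finite_singleton h)
      _ = 1 := Set.ncard_singleton h
  omega

section hElt

variable (α : (NodeAlg B π)ˣ)

/-- `𝔪 = (αe - t, e)`. -/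
theorem maximalIdeal_eq_span_h :
    maximalIdeal (NodeAlg B π) =
      Ideal.span {(α : NodeAlg B π) * NodeAlg.e π - NodeAlg.t π, NodeAlg.e π} := by
  rw [maximalIdeal_N]
  apply le_antisymm
  · rw [Ideal.span_le]
    rintro _ (rfl | hx)
    · have : NodeAlg.t π = (α : NodeAlg B π) * NodeAlg.e π -
          ((α : NodeAlg B π) * NodeAlg.e π - NodeAlg.t π) := by ring
      rw [SetLike.mem_coe, this]
      exact sub_mem (Ideal.mul_mem_left _ _ (Ideal.subset_span (by simp)))
        (Ideal.subset_span (by simp))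
    · rw [Set.mem_singleton_iff] at hx
      subst hx
      exact Ideal.subset_span (by simp)
  · rw [Ideal.span_le]
    rintro _ (rfl | hx)
    · exact sub_mem (Ideal.mul_mem_left _ _ (Ideal.subset_span (by simp)))
        (Ideal.subset_span (by simp))
    · rw [Set.mem_singleton_iff] at hx
      subst hx
      exact Ideal.subset_span (by simp)

theorem h_mem : (α : NodeAlg B π) * NodeAlg.e π - NodeAlg.t π ∈ maximalIdeal (NodeAlg B π) := by
  rw [maximalIdeal_eq_span_h π α]; exact Ideal.subset_span (by simp)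

theorem h_not_mem_sq :
    (α : NodeAlg B π) * NodeAlg.e π - NodeAlg.t π ∉ maximalIdeal (NodeAlg B π) ^ 2 :=
  not_mem_sq_of_span_pair (ringKrullDim_N π) _ _ (maximalIdeal_eq_span_h π α)

theorem prime_h : Prime ((α : NodeAlg B π) * NodeAlg.e π - NodeAlg.t π) :=
  prime_of_not_mem_sq 1 (ringKrullDim_N π) _ (h_mem π α) (h_not_mem_sq π α)

theorem h_not_dvd_e : ¬ ((α : NodeAlg B π) * NodeAlg.e π - NodeAlg.t π) ∣ NodeAlg.e π :=
  not_dvd_of_span_pair (ringKrullDim_N π) _ _ (maximalIdeal_eq_span_h π α)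

theorem h_not_dvd_t : ¬ ((α : NodeAlg B π) * NodeAlg.e π - NodeAlg.t π) ∣ NodeAlg.t π := by
  intro hdvd
  apply h_not_dvd_e π α
  have h1 : ((α : NodeAlg B π) * NodeAlg.e π - NodeAlg.t π) ∣ (α : NodeAlg B π) * NodeAlg.e π := by
    have := dvd_add (dvd_refl ((α : NodeAlg B π) * NodeAlg.e π - NodeAlg.t π)) hdvd
    rwa [sub_add_cancel] at this
  exact (α.isUnit.dvd_mul_left).mp h1

end hElt

/-- switching case: `fixIdeal σ = (h)`, `h` of order one, `π` regular modulo `h`. -/
theorem fixIdeal_of_switches (σ : NodeAlg B π ≃ₐ[B] NodeAlg B π)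
    (ht : Associated (σ (NodeAlg.t π)) (NodeAlg.e π))
    (he : Associated (σ (NodeAlg.e π)) (NodeAlg.t π)) :
    ∃ h : NodeAlg B π, fixIdeal σ = Ideal.span {h} ∧
      h ∉ (Ideal.span ({NodeAlg.t π, NodeAlg.e π} : Set (NodeAlg B π))) ^ 2 ∧
      IsSMulRegular (NodeAlg B π ⧸ Ideal.span ({h} : Set (NodeAlg B π))) π := by
  obtain ⟨α, hα⟩ := exists_unit_of_associated ht
  obtain ⟨β, hβ⟩ := exists_unit_of_associated he
  have hte : NodeAlg.t π * NodeAlg.e π = algebraMap B (NodeAlg B π) π := t_mul_e π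
  have hαβ : (α : NodeAlg B π) * (β : NodeAlg B π) = 1 := by
    have h1 : σ (NodeAlg.t π * NodeAlg.e π) = NodeAlg.t π * NodeAlg.e π := by
      rw [hte]; exact σ.commutes π
    rw [map_mul, hα, hβ] at h1
    have h2 : (NodeAlg.t π * NodeAlg.e π) * ((α : NodeAlg B π) * (β : NodeAlg B π)) =
        (NodeAlg.t π * NodeAlg.e π) * 1 :=
      calc (NodeAlg.t π * NodeAlg.e π) * ((α : NodeAlg B π) * (β : NodeAlg B π))
          = (α : NodeAlg B π) * NodeAlg.e π * ((β : NodeAlg B π) * NodeAlg.t π) := by ring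
        _ = NodeAlg.t π * NodeAlg.e π := h1
        _ = _ := (mul_one _).symm
    have h0 : NodeAlg.t π * NodeAlg.e π ≠ 0 := by rw [hte]; exact algebraMap_pi_ne_zero π
    exact mul_left_cancel₀ h0 h2
  obtain ⟨h, hh⟩ : ∃ h : NodeAlg B π, h = (α : NodeAlg B π) * NodeAlg.e π - NodeAlg.t π :=
    ⟨_, rfl⟩
  have hfix := fixIdeal_algEquiv π σ
  rw [hα, hβ, ← hh] at hfix
  have h2 : (β : NodeAlg B π) * NodeAlg.t π - NodeAlg.e π = -(β : NodeAlg B π) * h := by
    rw [hh]
    have : -(β : NodeAlg B π) * ((α : NodeAlg B π) * NodeAlg.e π - NodeAlg.t π) =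
        (β : NodeAlg B π) * NodeAlg.t π -
          ((α : NodeAlg B π) * (β : NodeAlg B π)) * NodeAlg.e π := by ring
    rw [this, hαβ, one_mul]
  refine ⟨h, ?_, ?_, ?_⟩
  · rw [hfix, h2]
    apply le_antisymm
    · rw [Ideal.span_le]
      rintro _ (rfl | hx)
      · exact Ideal.subset_span rfl
      · rw [Set.mem_singleton_iff] at hx
        subst hx
        exact Ideal.mul_mem_left _ _ (Ideal.subset_span rfl)
    · exact Ideal.span_mono (by simp)
  · rw [← maximalIdeal_N, hh]
    exact h_not_mem_sq π α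
  · rw [isSMulRegular_iff_right_eq_zero_of_smul]
    intro x hx
    obtain ⟨r, rfl⟩ := Ideal.Quotient.mk_surjective x
    have hx1 : Ideal.Quotient.mk (Ideal.span ({h} : Set (NodeAlg B π)))
        (NodeAlg.t π * NodeAlg.e π * r) = 0 := by
      rw [hte, ← Algebra.smul_def]
      exact hx
    rw [Ideal.Quotient.eq_zero_iff_mem, Ideal.mem_span_singleton] at hx1
    rw [Ideal.Quotient.eq_zero_iff_mem, Ideal.mem_span_singleton]
    rw [hh] at hx1 ⊢
    have hp := prime_h π α
    rcases hp.dvd_or_dvd hx1 with h3 | h3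
    · rcases hp.dvd_or_dvd h3 with h4 | h4
      · exact absurd h4 (h_not_dvd_t π α)
      · exact absurd h4 (h_not_dvd_e π α)
    · exact h3

end Groth.Agent.H2.Node
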