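import Mathlib
import Groth.Agent.Lib.Helper2.Node6

/-!
# Switching automorphisms over a wild automorphism of the base: length `2j - 1`
-/

set_option autoImplicit false
set_option linter.unusedSectionVars false
set_option linter.style.haveILetI false

namespace Groth.Agent.H2.Node

open MvPowerSeries IsLocalRing ArLef

universe u

variable {B : Type u} [CommRing B] [IsDomain B] [IsDiscreteValuationRing B] (π : B)
  [hπ : Fact (Irreducible π)]

theorem length_quot_maximalIdeal {R : Type*} [CommRing R] [IsLocalRing R] :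
    Module.length R (R ⧸ maximalIdeal R) = 1 := by
  haveI : IsSimpleModule R (R ⧸ maximalIdeal R) :=
    isSimpleModule_iff_isCoatom.mpr (Ideal.isMaximal_def.mp (maximalIdeal.isMaximal R))
  exact Module.length_eq_one _ _

theorem length_quot_top {R : Type*} [CommRing R] (I : Ideal R) (h : I = ⊤) :
    Module.length R (R ⧸ I) = 0 := by
  rw [Module.length_eq_zero_iff]
  exact Ideal.Quotient.subsingleton_iff.mpr h

/-- `ℓ(N/(h, e^m)) = m` for `h = αe - t`. -/
theorem length_h_e_pow (α : (NodeAlg B π)ˣ) (m : ℕ) :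
    Module.length (NodeAlg B π) (NodeAlg B π ⧸
      Ideal.span {(α : NodeAlg B π) * NodeAlg.e π - NodeAlg.t π, NodeAlg.e π ^ m}) = m := by
  induction m with
  | zero =>
    rw [pow_zero, Nat.cast_zero]
    apply length_quot_top
    rw [Ideal.eq_top_iff_one]
    exact Ideal.subset_span (by simp)
  | succ m ih =>
    rw [pow_succ', Len.length_quot_pair_mul _ _ _
      (Len.nzdMod_prime_right (prime_h π α) (h_not_dvd_e π α)), ih, ← maximalIdeal_eq_span_h,
      length_quot_maximalIdeal]
    push_cast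
    rfl

theorem length_of_switches (j : ℕ) (hj : 1 ≤ j) (γ : B) (hγ : IsUnit γ)
    (σ : NodeAlg B π ≃+* NodeAlg B π)
    (hσB : ∀ b : B, σ (algebraMap B (NodeAlg B π) b) - algebraMap B (NodeAlg B π) b ∈
      Ideal.span ({algebraMap B (NodeAlg B π) (π ^ j)} : Set (NodeAlg B π)))
    (hσπ : σ (algebraMap B (NodeAlg B π) π) = algebraMap B (NodeAlg B π) (π + γ * π ^ j))
    (ht : Associated (σ (NodeAlg.t π)) (NodeAlg.e π))
    (he : Associated (σ (NodeAlg.e π)) (NodeAlg.t π)) :
    (∀ g : NodeAlg B π, fixIdeal σ ≤ Ideal.span ({g} : Set (NodeAlg B π)) → IsUnit g) ∧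
      Module.length (NodeAlg B π) (NodeAlg B π ⧸ fixIdeal σ) = ((2 * j - 1 : ℕ) : ℕ∞) := by
  obtain ⟨α, hα⟩ := exists_unit_of_associated ht
  obtain ⟨β, hβ⟩ := exists_unit_of_associated he
  obtain ⟨k, rfl⟩ : ∃ k, j = k + 1 := ⟨j - 1, by omega⟩
  have hte : NodeAlg.t π * NodeAlg.e π = algebraMap B (NodeAlg B π) π := t_mul_e π
  obtain ⟨p, hp⟩ : ∃ p, p = algebraMap B (NodeAlg B π) π := ⟨_, rfl⟩
  obtain ⟨c, hc⟩ : ∃ c, c = algebraMap B (NodeAlg B π) γ := ⟨_, rfl⟩
  have hcu : IsUnit c := hc ▸ hγ.map _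
  have hp0 : p ≠ 0 := hp ▸ algebraMap_pi_ne_zero π
  rw [← hp] at hte
  -- αβ = 1 + c p^k
  have hαβ : (α : NodeAlg B π) * (β : NodeAlg B π) = 1 + c * p ^ k := by
    have h1 : σ (NodeAlg.t π * NodeAlg.e π) = p + c * p ^ (k + 1) := by
      rw [hte, hp, hσπ, map_add, map_mul, map_pow, hc]
    rw [map_mul, hα, hβ] at h1
    have h2 : p * ((α : NodeAlg B π) * (β : NodeAlg B π)) = p * (1 + c * p ^ k) :=
      calc p * ((α : NodeAlg B π) * (β : NodeAlg B π))
          = (α : NodeAlg B π) * NodeAlg.e π * ((β : NodeAlg B π) * NodeAlg.t π) := by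
            rw [← hte]; ring
        _ = p + c * p ^ (k + 1) := h1
        _ = _ := by ring
    exact mul_left_cancel₀ hp0 h2
  obtain ⟨h, hh⟩ : ∃ h : NodeAlg B π, h = (α : NodeAlg B π) * NodeAlg.e π - NodeAlg.t π :=
    ⟨_, rfl⟩
  have hfix := fixIdeal_ringEquiv π (k + 1) γ hγ σ hσB hσπ
  rw [hα, hβ, ← hh, map_pow, ← hp] at hfix
  obtain ⟨w, hw⟩ : ∃ w, w = p ^ k * NodeAlg.e π := ⟨_, rfl⟩
  have h2 : (β : NodeAlg B π) * NodeAlg.t π - NodeAlg.e π = c * w - (β : NodeAlg B π) * h := by
    rw [hh, hw]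
    have : c * (p ^ k * NodeAlg.e π) -
        (β : NodeAlg B π) * ((α : NodeAlg B π) * NodeAlg.e π - NodeAlg.t π) =
        (β : NodeAlg B π) * NodeAlg.t π +
          (c * p ^ k - (α : NodeAlg B π) * (β : NodeAlg B π)) * NodeAlg.e π := by ring
    rw [this, hαβ]; ring
  have hpw : p ^ (k + 1) = w * NodeAlg.t π := by rw [hw, pow_succ, ← hte]; ring
  obtain ⟨E, hE⟩ : ∃ E, E = NodeAlg.e π ^ (2 * k + 1) := ⟨_, rfl⟩
  -- w ≡ α^k E mod h
  have hwE : w - (α : NodeAlg B π) ^ k * E ∈ Ideal.span ({h} : Set (NodeAlg B π)) := by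
    have h3 : w - (α : NodeAlg B π) ^ k * E =
        (p ^ k - ((α : NodeAlg B π) * NodeAlg.e π ^ 2) ^ k) * NodeAlg.e π := by
      rw [hw, hE]; ring
    rw [h3]
    apply Ideal.mul_mem_right
    rw [Ideal.mem_span_singleton]
    refine dvd_trans ?_ (sub_dvd_pow_sub_pow p ((α : NodeAlg B π) * NodeAlg.e π ^ 2) k)
    refine ⟨-NodeAlg.e π, ?_⟩
    rw [← hte, hh]; ring
  have hI : fixIdeal σ = Ideal.span {h, E} := by
    rw [hfix]
    apply le_antisymm
    · rw [Ideal.span_le]
      have hwI : w ∈ Ideal.span ({h, E} : Set (NodeAlg B π)) := by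
        have : w = (w - (α : NodeAlg B π) ^ k * E) + (α : NodeAlg B π) ^ k * E := by ring
        rw [this]
        exact add_mem (Ideal.span_mono (by simp) hwE)
          (Ideal.mul_mem_left _ _ (Ideal.subset_span (by simp)))
      rintro _ (rfl | rfl | hx)
      · exact Ideal.subset_span (by simp)
      · rw [h2]
        exact sub_mem (Ideal.mul_mem_left _ _ hwI)
          (Ideal.mul_mem_left _ _ (Ideal.subset_span (by simp)))
      · rw [Set.mem_singleton_iff] at hx
        rw [hx, hpw]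
        exact Ideal.mul_mem_right _ _ hwI
    · rw [Ideal.span_le]
      have hhI : h ∈ Ideal.span
          ({h, (β : NodeAlg B π) * NodeAlg.t π - NodeAlg.e π, p ^ (k + 1)} :
            Set (NodeAlg B π)) := Ideal.subset_span (by simp)
      have hwI : w ∈ Ideal.span
          ({h, (β : NodeAlg B π) * NodeAlg.t π - NodeAlg.e π, p ^ (k + 1)} :
            Set (NodeAlg B π)) := by
        have h4 : c * w = ((β : NodeAlg B π) * NodeAlg.t π - NodeAlg.e π) +
            (β : NodeAlg B π) * h := by rw [h2]; ring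
        have h5 : c * w ∈ Ideal.span
            ({h, (β : NodeAlg B π) * NodeAlg.t π - NodeAlg.e π, p ^ (k + 1)} :
              Set (NodeAlg B π)) := by
          rw [h4]
          exact add_mem (Ideal.subset_span (by simp)) (Ideal.mul_mem_left _ _ hhI)
        exact (Ideal.unit_mul_mem_iff_mem _ hcu).mp h5
      rintro _ (rfl | hx)
      · exact hhI
      · rw [Set.mem_singleton_iff] at hx
        rw [hx]
        have h6 : (α : NodeAlg B π) ^ k * E = w - (w - (α : NodeAlg B π) ^ k * E) := by ring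
        have h7 : (α : NodeAlg B π) ^ k * E ∈ Ideal.span
            ({h, (β : NodeAlg B π) * NodeAlg.t π - NodeAlg.e π, p ^ (k + 1)} :
              Set (NodeAlg B π)) := by
          rw [h6]
          exact sub_mem hwI (Ideal.span_mono (by simp) hwE)
        exact (Ideal.unit_mul_mem_iff_mem _ (α.isUnit.pow k)).mp h7
  constructor
  · intro g hg
    rw [hI, Ideal.span_le] at hg
    have hgh : g ∣ h := Ideal.mem_span_singleton.mp (hg (by simp))
    have hgE : g ∣ E := Ideal.mem_span_singleton.mp (hg (by simp))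
    have hph : Prime h := hh ▸ prime_h π α
    obtain ⟨d, hd⟩ := hgh
    rcases hph.irreducible.isUnit_or_isUnit hd with h8 | h8
    · exact h8
    · exfalso
      have h9 : h ∣ g := ⟨(h8.unit⁻¹ : (NodeAlg B π)ˣ), by
        rw [hd, mul_assoc, IsUnit.mul_val_inv, mul_one]⟩
      have h10 : h ∣ E := dvd_trans h9 hgE
      rw [hE] at h10
      have h11 := hph.dvd_of_dvd_pow h10
      rw [hh] at h11
      exact h_not_dvd_e π α h11
  · rw [hI, hh, hE, length_h_e_pow]
    congr 1

end Groth.Agent.H2.Node
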