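import Mathlib
import Groth.Agent.Lib.Helper2.Node7

/-!
# Stabilizing automorphisms over a wild automorphism of the base: the length formula
-/

set_option autoImplicit false
set_option linter.unusedSectionVars false
set_option linter.style.haveILetI false

namespace Groth.Agent.H2.Len

variable {R : Type*} [CommRing R]

theorem length_pair_pow_mul (x y z : R) (h : NZDMod x y) (m : ℕ) :
    Module.length R (R ⧸ Ideal.span ({y, x ^ m * z} : Set R)) =
      Module.length R (R ⧸ Ideal.span ({y, z} : Set R)) +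
        (m : ℕ∞) * Module.length R (R ⧸ Ideal.span ({y, x} : Set R)) := by
  induction m with
  | zero => rw [pow_zero, one_mul, Nat.cast_zero, zero_mul, add_zero]
  | succ m ih =>
    have : x ^ (m + 1) * z = x * (x ^ m * z) := by ring
    rw [this, length_quot_pair_mul x y _ h, ih]
    push_cast
    ring

theorem span_pair_one (y : R) : Ideal.span ({y, 1} : Set R) = ⊤ := by
  rw [Ideal.eq_top_iff_one]
  exact Ideal.subset_span (by simp)

theorem length_quot_top' (I : Ideal R) (h : I = ⊤) : Module.length R (R ⧸ I) = 0 := by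
  rw [Module.length_eq_zero_iff]
  exact Ideal.Quotient.subsingleton_iff.mpr h

end Groth.Agent.H2.Len

namespace Groth.Agent.H2.Node

open MvPowerSeries IsLocalRing ArLef

universe u

variable {B : Type u} [CommRing B] [IsDomain B] [IsDiscreteValuationRing B] (π : B)
  [hπ : Fact (Irreducible π)]

theorem t_not_dvd_e : ¬ NodeAlg.t π ∣ NodeAlg.e π :=
  not_dvd_of_span_pair (ringKrullDim_N π) _ _ (maximalIdeal_N π)

theorem e_not_dvd_t : ¬ NodeAlg.e π ∣ NodeAlg.t π :=
  not_dvd_of_span_pair (ringKrullDim_N π) _ _ (by rw [maximalIdeal_N, Set.pair_comm])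

theorem span_pair_unit_mul {R : Type*} [CommRing R] (y z : R) {u : R} (hu : IsUnit u) :
    Ideal.span ({y, u * z} : Set R) = Ideal.span ({y, z} : Set R) := by
  apply le_antisymm
  · rw [Ideal.span_le]
    rintro x (hx | hx)
    · rw [hx]; exact Ideal.subset_span (by simp)
    · rw [Set.mem_singleton_iff] at hx
      rw [hx]
      exact Ideal.mul_mem_left _ _ (Ideal.subset_span (by simp))
  · rw [Ideal.span_le]
    rintro x (hx | hx)
    · rw [hx]; exact Ideal.subset_span (by simp)
    · rw [Set.mem_singleton_iff] at hx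
      rw [hx]
      have h1 : u * z ∈ Ideal.span ({y, u * z} : Set R) := Ideal.subset_span (by simp)
      exact (Ideal.unit_mul_mem_iff_mem _ hu).mp h1

/-- `(y, z) = (y, z')` if `z - z' ∈ (y)`. -/
theorem span_pair_congr {R : Type*} [CommRing R] (y z z' : R)
    (h : z - z' ∈ Ideal.span ({y} : Set R)) :
    Ideal.span ({y, z} : Set R) = Ideal.span ({y, z'} : Set R) := by
  have key : ∀ z z' : R, z - z' ∈ Ideal.span ({y} : Set R) →
      Ideal.span ({y, z} : Set R) ≤ Ideal.span ({y, z'} : Set R) := by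
    intro z z' h
    rw [Ideal.span_le]
    rintro x (hx | hx)
    · rw [hx]; exact Ideal.subset_span (by simp)
    · rw [Set.mem_singleton_iff] at hx
      rw [hx]
      have : z = (z - z') + z' := by ring
      rw [SetLike.mem_coe, this]
      exact add_mem (Ideal.span_mono (by simp) h) (Ideal.subset_span (by simp))
  apply le_antisymm (key z z' h)
  apply key z' z
  have : z' - z = -(z - z') := by ring
  rw [this]
  exact neg_mem h

theorem length_of_stabilizes (j : ℕ) (hj : 1 ≤ j) (γ : B) (hγ : IsUnit γ)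
    (σ : NodeAlg B π ≃+* NodeAlg B π)
    (hσB : ∀ b : B, σ (algebraMap B (NodeAlg B π) b) - algebraMap B (NodeAlg B π) b ∈
      Ideal.span ({algebraMap B (NodeAlg B π) (π ^ j)} : Set (NodeAlg B π)))
    (hσπ : σ (algebraMap B (NodeAlg B π) π) = algebraMap B (NodeAlg B π) (π + γ * π ^ j))
    (α β : (NodeAlg B π)ˣ) (ht : σ (NodeAlg.t π) = (α : NodeAlg B π) * NodeAlg.t π)
    (he : σ (NodeAlg.e π) = (β : NodeAlg B π) * NodeAlg.e π)
    (htb : ¬ (NodeAlg.t π ∣ (β : NodeAlg B π) - 1))
    (hea : ¬ (NodeAlg.e π ∣ (α : NodeAlg B π) - 1)) :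
    Module.length (NodeAlg B π) (NodeAlg B π ⧸ fixIdeal σ) =
      (j : ℕ∞) * (Module.length (NodeAlg B π) (NodeAlg B π ⧸
          Ideal.span ({NodeAlg.t π, (β : NodeAlg B π) - 1} : Set (NodeAlg B π))) +
        Module.length (NodeAlg B π) (NodeAlg B π ⧸
          Ideal.span ({NodeAlg.e π, (α : NodeAlg B π) - 1} : Set (NodeAlg B π)))) + 1 := by
  obtain ⟨k, rfl⟩ : ∃ k, j = k + 1 := ⟨j - 1, by omega⟩
  have hte : NodeAlg.t π * NodeAlg.e π = algebraMap B (NodeAlg B π) π := t_mul_e π
  obtain ⟨p, hp⟩ : ∃ p, p = algebraMap B (NodeAlg B π) π := ⟨_, rfl⟩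
  obtain ⟨c, hc⟩ : ∃ c, c = algebraMap B (NodeAlg B π) γ := ⟨_, rfl⟩
  have hcu : IsUnit c := hc ▸ hγ.map _
  have hp0 : p ≠ 0 := hp ▸ algebraMap_pi_ne_zero π
  rw [← hp] at hte
  have hpt := prime_t π
  have hpe := prime_e π
  have hαβ : (α : NodeAlg B π) * (β : NodeAlg B π) = 1 + c * p ^ k := by
    have h1 : σ (NodeAlg.t π * NodeAlg.e π) = p + c * p ^ (k + 1) := by
      rw [hte, hp, hσπ, map_add, map_mul, map_pow, hc]
    rw [map_mul, ht, he] at h1
    have h2 : p * ((α : NodeAlg B π) * (β : NodeAlg B π)) = p * (1 + c * p ^ k) :=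
      calc p * ((α : NodeAlg B π) * (β : NodeAlg B π))
          = (α : NodeAlg B π) * NodeAlg.t π * ((β : NodeAlg B π) * NodeAlg.e π) := by
            rw [← hte]; ring
        _ = p + c * p ^ (k + 1) := h1
        _ = _ := by ring
    exact mul_left_cancel₀ hp0 h2
  obtain ⟨a, ha⟩ : ∃ a, a = (α : NodeAlg B π) - 1 := ⟨_, rfl⟩
  obtain ⟨b, hb⟩ : ∃ b, b = (β : NodeAlg B π) - 1 := ⟨_, rfl⟩
  rw [← ha, ← hb]
  obtain ⟨d, hd⟩ : ∃ d, d = c * p ^ k - a := ⟨_, rfl⟩
  have hdb : d = (α : NodeAlg B π) * b := by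
    rw [hd, ha, hb]
    have : (α : NodeAlg B π) * ((β : NodeAlg B π) - 1) =
        (α : NodeAlg B π) * (β : NodeAlg B π) - (α : NodeAlg B π) := by ring
    rw [this, hαβ]; ring
  rw [← ha] at hea
  rw [← hb] at htb
  have htd : ¬ NodeAlg.t π ∣ d := by
    rw [hdb]
    intro h
    exact htb ((α.isUnit.dvd_mul_left).mp h)
  have hfix := fixIdeal_ringEquiv π (k + 1) γ hγ σ hσB hσπ
  rw [ht, he, map_pow, ← hp] at hfix
  have h1 : (α : NodeAlg B π) * NodeAlg.t π - NodeAlg.t π = NodeAlg.t π * a := by rw [ha]; ring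
  have h2 : (β : NodeAlg B π) * NodeAlg.e π - NodeAlg.e π = b * NodeAlg.e π := by rw [hb]; ring
  rw [h1, h2] at hfix
  have hαinv : ((α⁻¹ : (NodeAlg B π)ˣ) : NodeAlg B π) * (α : NodeAlg B π) = 1 := by
    rw [← Units.val_mul, inv_mul_cancel, Units.val_one]
  have hI : fixIdeal σ = Ideal.span {d * NodeAlg.e π, NodeAlg.t π * a} := by
    rw [hfix]
    apply le_antisymm
    · rw [Ideal.span_le]
      rintro x (hx | hx | hx)
      · rw [hx]; exact Ideal.subset_span (by simp)
      · rw [hx]
        have : b * NodeAlg.e π = ((α⁻¹ : (NodeAlg B π)ˣ) : NodeAlg B π) * (d * NodeAlg.e π) := by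
          rw [hdb, ← mul_assoc, ← mul_assoc, hαinv, one_mul]
        rw [SetLike.mem_coe, this]
        exact Ideal.mul_mem_left _ _ (Ideal.subset_span (by simp))
      · rw [Set.mem_singleton_iff] at hx
        rw [hx]
        have h3 : c * p ^ (k + 1) = NodeAlg.t π * (d * NodeAlg.e π) +
            NodeAlg.e π * (NodeAlg.t π * a) := by
          rw [hd, pow_succ, ← hte]; ring
        have h4 : c * p ^ (k + 1) ∈
            Ideal.span ({d * NodeAlg.e π, NodeAlg.t π * a} : Set (NodeAlg B π)) := by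
          rw [h3]
          exact add_mem (Ideal.mul_mem_left _ _ (Ideal.subset_span (by simp)))
            (Ideal.mul_mem_left _ _ (Ideal.subset_span (by simp)))
        exact (Ideal.unit_mul_mem_iff_mem _ hcu).mp h4
    · rw [Ideal.span_le]
      rintro x (hx | hx)
      · rw [hx]
        have : d * NodeAlg.e π = (α : NodeAlg B π) * (b * NodeAlg.e π) := by rw [hdb]; ring
        rw [SetLike.mem_coe, this]
        exact Ideal.mul_mem_left _ _ (Ideal.subset_span (by simp))
      · rw [Set.mem_singleton_iff] at hx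
        rw [hx]; exact Ideal.subset_span (by simp)
  -- Step 1
  have ht_de : ¬ NodeAlg.t π ∣ d * NodeAlg.e π := by
    intro h
    rcases hpt.dvd_or_dvd h with h | h
    · exact htd h
    · exact t_not_dvd_e π h
  have S1 := Len.length_quot_pair_mul (NodeAlg.t π) (d * NodeAlg.e π) a
    (Len.nzdMod_of_prime hpt ht_de)
  -- Step 2
  have S2 := Len.length_quot_pair_mul (NodeAlg.e π) (NodeAlg.t π) d
    (Len.nzdMod_prime_right hpt (t_not_dvd_e π))
  -- Step 3
  have S3 := Len.length_quot_pair_mul (NodeAlg.e π) a d (Len.nzdMod_of_prime hpe hea)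
  have E1 : Ideal.span ({d * NodeAlg.e π, NodeAlg.t π} : Set (NodeAlg B π)) =
      Ideal.span {NodeAlg.t π, NodeAlg.e π * d} := by
    rw [Set.pair_comm, mul_comm d (NodeAlg.e π)]
  have E2 : Ideal.span ({d * NodeAlg.e π, a} : Set (NodeAlg B π)) =
      Ideal.span {a, NodeAlg.e π * d} := by
    rw [Set.pair_comm, mul_comm d (NodeAlg.e π)]
  have E3 : Ideal.span ({NodeAlg.t π, d} : Set (NodeAlg B π)) = Ideal.span {NodeAlg.t π, b} := by
    rw [hdb]; exact span_pair_unit_mul _ _ α.isUnit
  have E4 : Ideal.span ({a, NodeAlg.e π} : Set (NodeAlg B π)) = Ideal.span {NodeAlg.e π, a} := by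
    rw [Set.pair_comm]
  have E5 : Ideal.span ({a, d} : Set (NodeAlg B π)) = Ideal.span {a, p ^ k} := by
    have h5 : Ideal.span ({a, d} : Set (NodeAlg B π)) = Ideal.span {a, c * p ^ k} := by
      apply span_pair_congr
      rw [hd]
      have : c * p ^ k - a - c * p ^ k = -a := by ring
      rw [this]
      exact neg_mem (Ideal.subset_span rfl)
    rw [h5]
    exact span_pair_unit_mul _ _ hcu
  -- Step 4
  have S4 : Module.length (NodeAlg B π) (NodeAlg B π ⧸ Ideal.span ({a, p ^ k} : Set (NodeAlg B π))) =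
      (k : ℕ∞) * (Module.length (NodeAlg B π) (NodeAlg B π ⧸ Ideal.span ({NodeAlg.t π, b} :
        Set (NodeAlg B π))) + Module.length (NodeAlg B π) (NodeAlg B π ⧸
          Ideal.span ({NodeAlg.e π, a} : Set (NodeAlg B π)))) := by
    rcases Nat.eq_zero_or_pos k with hk | hk
    · rw [hk, pow_zero, Nat.cast_zero, zero_mul]
      exact Len.length_quot_top' _ (Len.span_pair_one a)
    · have hta : ¬ NodeAlg.t π ∣ a := by
        intro h
        apply htd
        rw [hd]
        refine dvd_sub (Dvd.dvd.mul_left ?_ c) h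
        rw [← hte]
        exact dvd_pow (Dvd.intro _ rfl) (by omega)
      have h6 : p ^ k = NodeAlg.t π ^ k * (NodeAlg.e π ^ k * 1) := by rw [← hte]; ring
      rw [h6, Len.length_pair_pow_mul _ _ _ (Len.nzdMod_of_prime hpt hta),
        Len.length_pair_pow_mul _ _ _ (Len.nzdMod_of_prime hpe hea),
        Len.length_quot_top' _ (Len.span_pair_one a), E4]
      have E6 : Ideal.span ({a, NodeAlg.t π} : Set (NodeAlg B π)) = Ideal.span {NodeAlg.t π, b} := by
        have hneg : IsUnit (-1 : NodeAlg B π) := IsUnit.of_mul_eq_one (-1) (by ring)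
        rw [Set.pair_comm, ← E3, ← span_pair_unit_mul (NodeAlg.t π) a hneg]
        apply span_pair_congr
        rw [hd]
        have : -1 * a - (c * p ^ k - a) = -(c * p ^ k) := by ring
        rw [this]
        refine neg_mem (Ideal.mul_mem_left _ _ ?_)
        rw [Ideal.mem_span_singleton, ← hte]
        exact dvd_pow (Dvd.intro _ rfl) (by omega)
      rw [E6]
      ring
  rw [hI, S1, E1, S2, E2, S3, E3, E4, E5, S4, ← maximalIdeal_N, length_quot_maximalIdeal]
  push_cast
  ring

end Groth.Agent.H2.Node
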