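import Mathlib
import Groth.Agent.Lib.Helper2.Node8

/-!
# The general length computation on the formal double point, and residual fixed-point schemes
-/

set_option autoImplicit false
set_option linter.unusedSectionVars false
set_option linter.style.haveILetI false

namespace Groth.Agent.H2.Len

variable {R : Type*} [CommRing R] [IsDomain R]

/-- `(m J : m) = J` in a domain. -/
theorem colon_span_singleton_mul (m : R) (hm : m ≠ 0) (J : Ideal R) :
    (Ideal.span {m} * J).colon ({m} : Set R) = J := by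
  apply le_antisymm
  · intro r hr
    rw [Submodule.mem_colon_singleton, smul_eq_mul, Ideal.mem_span_singleton_mul] at hr
    obtain ⟨z, hz, hzr⟩ := hr
    have : r = z := mul_left_cancel₀ hm (by rw [hzr]; ring)
    rw [this]; exact hz
  · intro r hr
    rw [Submodule.mem_colon_singleton, smul_eq_mul]
    exact Ideal.mul_mem_mul_rev (Ideal.subset_span (Set.mem_singleton m)) hr

theorem span_triple_mul (m x y z : R) :
    Ideal.span ({m * x, m * y, m * z} : Set R) = Ideal.span {m} * Ideal.span {x, y, z} := by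
  rw [Ideal.span_mul_span', Set.singleton_mul, Set.image_insert_eq, Set.image_pair]

end Groth.Agent.H2.Len

namespace Groth.Agent.H2.Node

open MvPowerSeries IsLocalRing ArLef

universe u

variable {B : Type u} [CommRing B] [IsDomain B] [IsDiscreteValuationRing B] (π : B)
  [hπ : Fact (Irreducible π)]

/-- **General length formula**: `ℓ(N/(de, ta))` when `a + d = c t^{k₁} e^{k₂}`, `d = αb`. -/
theorem length_pair_general (a b c d : NodeAlg B π) (α : (NodeAlg B π)ˣ) (k₁ k₂ : ℕ)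
    (hcu : IsUnit c) (hdb : d = (α : NodeAlg B π) * b)
    (hd : a + d = c * (NodeAlg.t π ^ k₁ * NodeAlg.e π ^ k₂))
    (htb : ¬ NodeAlg.t π ∣ b) (hea : ¬ NodeAlg.e π ∣ a) :
    Module.length (NodeAlg B π) (NodeAlg B π ⧸
        Ideal.span ({d * NodeAlg.e π, NodeAlg.t π * a} : Set (NodeAlg B π))) =
      1 + ((k₁ + 1 : ℕ) : ℕ∞) * Module.length (NodeAlg B π) (NodeAlg B π ⧸
          Ideal.span ({NodeAlg.t π, b} : Set (NodeAlg B π))) +
        ((k₂ + 1 : ℕ) : ℕ∞) * Module.length (NodeAlg B π) (NodeAlg B π ⧸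
          Ideal.span ({NodeAlg.e π, a} : Set (NodeAlg B π))) := by
  have hpt := prime_t π
  have hpe := prime_e π
  obtain ⟨q, hq⟩ : ∃ q, q = NodeAlg.t π ^ k₁ * NodeAlg.e π ^ k₂ := ⟨_, rfl⟩
  rw [← hq] at hd
  have hd' : d = c * q - a := by rw [← hd]; ring
  have htd : ¬ NodeAlg.t π ∣ d := by
    rw [hdb]
    intro h
    exact htb ((α.isUnit.dvd_mul_left).mp h)
  have ht_de : ¬ NodeAlg.t π ∣ d * NodeAlg.e π := by
    intro h
    rcases hpt.dvd_or_dvd h with h | h
    · exact htd h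
    · exact t_not_dvd_e π h
  have S1 := Len.length_quot_pair_mul (NodeAlg.t π) (d * NodeAlg.e π) a
    (Len.nzdMod_of_prime hpt ht_de)
  have S2 := Len.length_quot_pair_mul (NodeAlg.e π) (NodeAlg.t π) d
    (Len.nzdMod_prime_right hpt (t_not_dvd_e π))
  have S3 := Len.length_quot_pair_mul (NodeAlg.e π) a d (Len.nzdMod_of_prime hpe hea)
  have E1 : Ideal.span ({d * NodeAlg.e π, NodeAlg.t π} : Set (NodeAlg B π)) =
      Ideal.span {NodeAlg.t π, NodeAlg.e π * d} := by
    rw [Set.pair_comm, mul_comm d (NodeAlg.e π)]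
  have E2 : Ideal.span ({d * NodeAlg.e π, a} : Set (NodeAlg B π)) =
      Ideal.span {a, NodeAlg.e π * d} := by
    rw [Set.pair_comm, mul_comm d (NodeAlg.e π)]
  have E3 : Ideal.span ({NodeAlg.t π, d} : Set (NodeAlg B π)) = Ideal.span {NodeAlg.t π, b} := by
    rw [hdb]; exact span_pair_unit_mul _ _ α.isUnit
  have E4 : Ideal.span ({a, NodeAlg.e π} : Set (NodeAlg B π)) = Ideal.span {NodeAlg.e π, a} := by
    rw [Set.pair_comm]
  have E5 : Ideal.span ({a, d} : Set (NodeAlg B π)) = Ideal.span {a, q} := by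
    have h5 : Ideal.span ({a, d} : Set (NodeAlg B π)) = Ideal.span {a, c * q} := by
      apply span_pair_congr
      rw [hd']
      have : c * q - a - c * q = -a := by ring
      rw [this]
      exact neg_mem (Ideal.subset_span rfl)
    rw [h5]
    exact span_pair_unit_mul _ _ hcu
  have S5 : Module.length (NodeAlg B π) (NodeAlg B π ⧸
        Ideal.span ({a, NodeAlg.e π ^ k₂ * 1} : Set (NodeAlg B π))) =
      (k₂ : ℕ∞) * Module.length (NodeAlg B π) (NodeAlg B π ⧸
        Ideal.span ({NodeAlg.e π, a} : Set (NodeAlg B π))) := by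
    rw [Len.length_pair_pow_mul _ _ _ (Len.nzdMod_of_prime hpe hea),
      Len.length_quot_top' _ (Len.span_pair_one a), E4, zero_add]
  have S4 : Module.length (NodeAlg B π) (NodeAlg B π ⧸ Ideal.span ({a, q} : Set (NodeAlg B π))) =
      (k₁ : ℕ∞) * Module.length (NodeAlg B π) (NodeAlg B π ⧸ Ideal.span ({NodeAlg.t π, b} :
        Set (NodeAlg B π))) + (k₂ : ℕ∞) * Module.length (NodeAlg B π) (NodeAlg B π ⧸
          Ideal.span ({NodeAlg.e π, a} : Set (NodeAlg B π))) := by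
    have h6 : q = NodeAlg.t π ^ k₁ * (NodeAlg.e π ^ k₂ * 1) := by rw [hq]; ring
    rcases Nat.eq_zero_or_pos k₁ with hk | hk
    · rw [h6, hk, pow_zero, one_mul, S5, Nat.cast_zero, zero_mul, zero_add]
    · have htq : NodeAlg.t π ∣ q := by
        rw [hq]
        exact Dvd.dvd.mul_right (dvd_pow_self _ (by omega)) _
      have hta : ¬ NodeAlg.t π ∣ a := by
        intro h
        apply htd
        rw [hd']
        exact dvd_sub (Dvd.dvd.mul_left htq c) h
      have E6 : Ideal.span ({a, NodeAlg.t π} : Set (NodeAlg B π)) = Ideal.span {NodeAlg.t π, b} := by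
        have hneg : IsUnit (-1 : NodeAlg B π) := IsUnit.of_mul_eq_one (-1) (by ring)
        rw [Set.pair_comm, ← E3, ← span_pair_unit_mul (NodeAlg.t π) a hneg]
        apply span_pair_congr
        rw [hd']
        have : -1 * a - (c * q - a) = -(c * q) := by ring
        rw [this]
        refine neg_mem (Ideal.mul_mem_left _ _ ?_)
        rw [Ideal.mem_span_singleton]
        exact htq
      rw [h6, Len.length_pair_pow_mul _ _ _ (Len.nzdMod_of_prime hpt hta), S5, E6]
      ring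
  rw [S1, E1, S2, E2, S3, E3, E4, E5, S4, ← maximalIdeal_N, length_quot_maximalIdeal]
  push_cast
  ring

theorem alpha_mul_beta (k : ℕ) (γ : B) (σ : NodeAlg B π ≃+* NodeAlg B π)
    (hσπ : σ (algebraMap B (NodeAlg B π) π) = algebraMap B (NodeAlg B π) (π + γ * π ^ (k + 1)))
    (α β : NodeAlg B π) (ht : σ (NodeAlg.t π) = α * NodeAlg.t π)
    (he : σ (NodeAlg.e π) = β * NodeAlg.e π) :
    α * β = 1 + algebraMap B (NodeAlg B π) γ * (algebraMap B (NodeAlg B π) π) ^ k := by
  have hte : NodeAlg.t π * NodeAlg.e π = algebraMap B (NodeAlg B π) π := t_mul_e π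
  have hp0 := algebraMap_pi_ne_zero π
  have h1 : σ (NodeAlg.t π * NodeAlg.e π) = algebraMap B (NodeAlg B π) π +
      algebraMap B (NodeAlg B π) γ * (algebraMap B (NodeAlg B π) π) ^ (k + 1) := by
    rw [hte, hσπ, map_add, map_mul, map_pow]
  rw [map_mul, ht, he] at h1
  have h2 : algebraMap B (NodeAlg B π) π * (α * β) = algebraMap B (NodeAlg B π) π *
      (1 + algebraMap B (NodeAlg B π) γ * (algebraMap B (NodeAlg B π) π) ^ k) :=
    calc algebraMap B (NodeAlg B π) π * (α * β)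
        = α * NodeAlg.t π * (β * NodeAlg.e π) := by rw [← hte]; ring
      _ = _ := h1
      _ = _ := by ring
  exact mul_left_cancel₀ hp0 h2

theorem length_colon_of_stabilizes (j i₁ i₂ : ℕ) (h12 : i₁ ≤ i₂) (h2j : i₂ < j) (γ : B)
    (hγ : IsUnit γ) (σ : NodeAlg B π ≃+* NodeAlg B π)
    (hσB : ∀ c : B, σ (algebraMap B (NodeAlg B π) c) - algebraMap B (NodeAlg B π) c ∈
      Ideal.span ({algebraMap B (NodeAlg B π) (π ^ j)} : Set (NodeAlg B π)))
    (hσπ : σ (algebraMap B (NodeAlg B π) π) = algebraMap B (NodeAlg B π) (π + γ * π ^ j))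
    (α β : (NodeAlg B π)ˣ) (ht : σ (NodeAlg.t π) = (α : NodeAlg B π) * NodeAlg.t π)
    (he : σ (NodeAlg.e π) = (β : NodeAlg B π) * NodeAlg.e π)
    (a b : NodeAlg B π)
    (ha : (α : NodeAlg B π) - 1 = NodeAlg.t π ^ i₁ * NodeAlg.e π ^ i₂ * a)
    (hb : (β : NodeAlg B π) - 1 = NodeAlg.t π ^ i₁ * NodeAlg.e π ^ i₂ * b)
    (hea : ¬ (NodeAlg.e π ∣ a)) (htb : ¬ (NodeAlg.t π ∣ b)) :
    Module.length (NodeAlg B π) (NodeAlg B π ⧸ (fixIdeal σ).colon
        ({NodeAlg.t π ^ i₁ * NodeAlg.e π ^ i₂} : Set (NodeAlg B π))) =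
      1 + ((j - i₁ : ℕ) : ℕ∞) * Module.length (NodeAlg B π) (NodeAlg B π ⧸
          Ideal.span ({NodeAlg.t π, b} : Set (NodeAlg B π))) +
        ((j - i₂ : ℕ) : ℕ∞) * Module.length (NodeAlg B π) (NodeAlg B π ⧸
          Ideal.span ({NodeAlg.e π, a} : Set (NodeAlg B π))) := by
  obtain ⟨k, rfl⟩ : ∃ k, j = k + 1 := ⟨j - 1, by omega⟩
  have hte : NodeAlg.t π * NodeAlg.e π = algebraMap B (NodeAlg B π) π := t_mul_e π
  have hαβ := alpha_mul_beta π k γ σ hσπ α β ht he
  obtain ⟨c, hc⟩ : ∃ c, c = algebraMap B (NodeAlg B π) γ := ⟨_, rfl⟩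
  have hcu : IsUnit c := hc ▸ hγ.map _
  rw [← hc, ← hte] at hαβ
  obtain ⟨m, hm⟩ : ∃ m, m = NodeAlg.t π ^ i₁ * NodeAlg.e π ^ i₂ := ⟨_, rfl⟩
  rw [← hm] at ha hb ⊢
  have hm0 : m ≠ 0 := by
    rw [hm]
    exact mul_ne_zero (pow_ne_zero _ (prime_t π).ne_zero) (pow_ne_zero _ (prime_e π).ne_zero)
  have hα : (α : NodeAlg B π) = 1 + m * a := by rw [← ha]; ring
  have hβ : (β : NodeAlg B π) = 1 + m * b := by rw [← hb]; ring
  obtain ⟨d, hdb⟩ : ∃ d, d = (α : NodeAlg B π) * b := ⟨_, rfl⟩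
  have hk1 : k - i₁ + i₁ = k := by omega
  have hk2 : k - i₂ + i₂ = k := by omega
  have hd : a + d = c * (NodeAlg.t π ^ (k - i₁) * NodeAlg.e π ^ (k - i₂)) := by
    apply mul_left_cancel₀ hm0
    have h1 : m * (a + d) = (α : NodeAlg B π) * (β : NodeAlg B π) - 1 := by
      rw [hdb, hβ]
      have : m * (a + (α : NodeAlg B π) * b) = m * a + (α : NodeAlg B π) * (m * b) := by ring
      rw [this]
      conv_rhs => rw [hα]
      rw [hα]; ring
    rw [h1, hαβ, hm]
    have : (NodeAlg.t π * NodeAlg.e π) ^ k =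
        NodeAlg.t π ^ (k - i₁ + i₁) * NodeAlg.e π ^ (k - i₂ + i₂) := by
      rw [hk1, hk2, mul_pow]
    rw [this, pow_add, pow_add]; ring
  obtain ⟨r, hr⟩ : ∃ r, r = NodeAlg.t π ^ (k + 1 - i₁) * NodeAlg.e π ^ (k + 1 - i₂) := ⟨_, rfl⟩
  have hfix := fixIdeal_ringEquiv π (k + 1) γ hγ σ hσB hσπ
  have hg1 : σ (NodeAlg.t π) - NodeAlg.t π = m * (NodeAlg.t π * a) := by rw [ht, hα]; ring
  have hg2 : σ (NodeAlg.e π) - NodeAlg.e π = m * (b * NodeAlg.e π) := by rw [he, hβ]; ring
  have hg3 : algebraMap B (NodeAlg B π) (π ^ (k + 1)) = m * r := by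
    have ht_pow : NodeAlg.t π ^ (k + 1) = NodeAlg.t π ^ i₁ * NodeAlg.t π ^ (k + 1 - i₁) := by
      rw [← pow_add]; congr 1; omega
    have he_pow : NodeAlg.e π ^ (k + 1) = NodeAlg.e π ^ i₂ * NodeAlg.e π ^ (k + 1 - i₂) := by
      rw [← pow_add]; congr 1; omega
    rw [map_pow, ← hte, mul_pow, ht_pow, he_pow, hm, hr]; ring
  rw [hg1, hg2, hg3, Len.span_triple_mul] at hfix
  rw [hfix, Len.colon_span_singleton_mul m hm0]
  have hαinv : ((α⁻¹ : (NodeAlg B π)ˣ) : NodeAlg B π) * (α : NodeAlg B π) = 1 := by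
    rw [← Units.val_mul, inv_mul_cancel, Units.val_one]
  have hr' : c * r = NodeAlg.t π * (d * NodeAlg.e π) + NodeAlg.e π * (NodeAlg.t π * a) := by
    have : NodeAlg.t π * (d * NodeAlg.e π) + NodeAlg.e π * (NodeAlg.t π * a) =
        (a + d) * (NodeAlg.t π * NodeAlg.e π) := by ring
    rw [this, hd, hr]
    have e1 : k + 1 - i₁ = (k - i₁) + 1 := by omega
    have e2 : k + 1 - i₂ = (k - i₂) + 1 := by omega
    rw [e1, e2, pow_succ, pow_succ]; ring
  have hJ : Ideal.span ({NodeAlg.t π * a, b * NodeAlg.e π, r} : Set (NodeAlg B π)) =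
      Ideal.span {d * NodeAlg.e π, NodeAlg.t π * a} := by
    apply le_antisymm
    · rw [Ideal.span_le]
      rintro x (hx | hx | hx)
      · rw [hx]; exact Ideal.subset_span (by simp)
      · rw [hx]
        have : b * NodeAlg.e π = ((α⁻¹ : (NodeAlg B π)ˣ) : NodeAlg B π) * (d * NodeAlg.e π) := by
          rw [hdb, ← mul_assoc, ← mul_assoc, hαinv, one_mul]
        rw [SetLike.mem_coe, this]
        exact Ideal.mul_mem_left _ _ (Ideal.subset_span (by simp))
      · rw [Set.mem_singleton_iff] at hx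
        rw [hx]
        have h4 : c * r ∈
            Ideal.span ({d * NodeAlg.e π, NodeAlg.t π * a} : Set (NodeAlg B π)) := by
          rw [hr']
          exact add_mem (Ideal.mul_mem_left _ _ (Ideal.subset_span (by simp)))
            (Ideal.mul_mem_left _ _ (Ideal.subset_span (by simp)))
        exact (Ideal.unit_mul_mem_iff_mem _ hcu).mp h4
    · rw [Ideal.span_le]
      rintro x (hx | hx)
      · rw [hx]
        have : d * NodeAlg.e π = (α : NodeAlg B π) * (b * NodeAlg.e π) := by rw [hdb]; ring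
        rw [SetLike.mem_coe, this]
        exact Ideal.mul_mem_left _ _ (Ideal.subset_span (by simp))
      · rw [Set.mem_singleton_iff] at hx
        rw [hx]; exact Ideal.subset_span (by simp)
  rw [hJ, length_pair_general π a b c d α (k - i₁) (k - i₂) hcu hdb hd htb hea]
  have e1 : k + 1 - i₁ = (k - i₁) + 1 := by omega
  have e2 : k + 1 - i₂ = (k - i₂) + 1 := by omega
  rw [e1, e2]

theorem length_colon_of_stabilizes_max (j i₁ : ℕ) (h1 : i₁ < j) (γ : B)
    (hγ : IsUnit γ) (σ : NodeAlg B π ≃+* NodeAlg B π)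
    (hσB : ∀ c : B, σ (algebraMap B (NodeAlg B π) c) - algebraMap B (NodeAlg B π) c ∈
      Ideal.span ({algebraMap B (NodeAlg B π) (π ^ j)} : Set (NodeAlg B π)))
    (hσπ : σ (algebraMap B (NodeAlg B π) π) = algebraMap B (NodeAlg B π) (π + γ * π ^ j))
    (α β : (NodeAlg B π)ˣ) (ht : σ (NodeAlg.t π) = (α : NodeAlg B π) * NodeAlg.t π)
    (he : σ (NodeAlg.e π) = (β : NodeAlg B π) * NodeAlg.e π)
    (a b : NodeAlg B π)
    (ha : (α : NodeAlg B π) - 1 = NodeAlg.t π ^ i₁ * NodeAlg.e π ^ j * a)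
    (hb : (β : NodeAlg B π) - 1 = NodeAlg.t π ^ i₁ * NodeAlg.e π ^ (j - 1) * b)
    (htb : ¬ (NodeAlg.t π ∣ b)) :
    Module.length (NodeAlg B π) (NodeAlg B π ⧸ (fixIdeal σ).colon
        ({NodeAlg.t π ^ i₁ * NodeAlg.e π ^ j} : Set (NodeAlg B π))) + ((j - 1 - i₁ : ℕ) : ℕ∞) =
      ((j - i₁ : ℕ) : ℕ∞) * Module.length (NodeAlg B π) (NodeAlg B π ⧸
          Ideal.span ({NodeAlg.t π, b} : Set (NodeAlg B π))) := by
  obtain ⟨k, rfl⟩ : ∃ k, j = k + 1 := ⟨j - 1, by omega⟩
  have hpt := prime_t π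
  have hpe := prime_e π
  have hte : NodeAlg.t π * NodeAlg.e π = algebraMap B (NodeAlg B π) π := t_mul_e π
  have hαβ := alpha_mul_beta π k γ σ hσπ α β ht he
  obtain ⟨c, hc⟩ : ∃ c, c = algebraMap B (NodeAlg B π) γ := ⟨_, rfl⟩
  have hcu : IsUnit c := hc ▸ hγ.map _
  rw [← hc, ← hte] at hαβ
  rw [Nat.add_sub_cancel] at hb
  obtain ⟨m', hm'⟩ : ∃ m', m' = NodeAlg.t π ^ i₁ * NodeAlg.e π ^ k := ⟨_, rfl⟩
  obtain ⟨m, hm⟩ : ∃ m, m = NodeAlg.t π ^ i₁ * NodeAlg.e π ^ (k + 1) := ⟨_, rfl⟩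
  rw [← hm] at ha ⊢
  rw [← hm'] at hb
  have hmm' : m = m' * NodeAlg.e π := by rw [hm, hm', pow_succ]; ring
  have hm'0 : m' ≠ 0 := by
    rw [hm']
    exact mul_ne_zero (pow_ne_zero _ hpt.ne_zero) (pow_ne_zero _ hpe.ne_zero)
  have hm0 : m ≠ 0 := by rw [hmm']; exact mul_ne_zero hm'0 hpe.ne_zero
  have hα : (α : NodeAlg B π) = 1 + m * a := by rw [← ha]; ring
  have hβ : (β : NodeAlg B π) = 1 + m' * b := by rw [← hb]; ring
  obtain ⟨d, hdb⟩ : ∃ d, d = (α : NodeAlg B π) * b := ⟨_, rfl⟩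
  obtain ⟨n, hn⟩ : ∃ n, n = k - i₁ := ⟨_, rfl⟩
  have hni : n + i₁ = k := by omega
  have hd : NodeAlg.e π * a + d = c * NodeAlg.t π ^ n := by
    apply mul_left_cancel₀ hm'0
    have h1 : m' * (NodeAlg.e π * a + d) = (α : NodeAlg B π) * (β : NodeAlg B π) - 1 := by
      rw [hdb, hβ]
      have : m' * (NodeAlg.e π * a + (α : NodeAlg B π) * b) =
          m' * NodeAlg.e π * a + (α : NodeAlg B π) * (m' * b) := by ring
      rw [this, ← hmm']
      conv_rhs => rw [hα]
      rw [hα]; ring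
    rw [h1, hαβ, hm', mul_pow]
    have : NodeAlg.t π ^ k = NodeAlg.t π ^ n * NodeAlg.t π ^ i₁ := by rw [← pow_add, hni]
    rw [this]; ring
  have hd' : d = c * NodeAlg.t π ^ n - NodeAlg.e π * a := by rw [← hd]; ring
  obtain ⟨r, hr⟩ : ∃ r, r = NodeAlg.t π ^ (n + 1) := ⟨_, rfl⟩
  have hfix := fixIdeal_ringEquiv π (k + 1) γ hγ σ hσB hσπ
  have hg1 : σ (NodeAlg.t π) - NodeAlg.t π = m * (NodeAlg.t π * a) := by rw [ht, hα]; ring
  have hg2 : σ (NodeAlg.e π) - NodeAlg.e π = m * b := by rw [he, hβ, hmm']; ring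
  have hg3 : algebraMap B (NodeAlg B π) (π ^ (k + 1)) = m * r := by
    have ht_pow : NodeAlg.t π ^ (k + 1) = NodeAlg.t π ^ i₁ * NodeAlg.t π ^ (n + 1) := by
      rw [← pow_add]; congr 1; omega
    rw [map_pow, ← hte, mul_pow, ht_pow, hm, hr]; ring
  rw [hg1, hg2, hg3, Len.span_triple_mul] at hfix
  rw [hfix, Len.colon_span_singleton_mul m hm0]
  have hαinv : ((α⁻¹ : (NodeAlg B π)ˣ) : NodeAlg B π) * (α : NodeAlg B π) = 1 := by
    rw [← Units.val_mul, inv_mul_cancel, Units.val_one]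
  have hr' : c * r = NodeAlg.t π * d + NodeAlg.e π * (NodeAlg.t π * a) := by
    rw [hd', hr, pow_succ]; ring
  have hJ : Ideal.span ({NodeAlg.t π * a, b, r} : Set (NodeAlg B π)) =
      Ideal.span {d, NodeAlg.t π * a} := by
    apply le_antisymm
    · rw [Ideal.span_le]
      rintro x (hx | hx | hx)
      · rw [hx]; exact Ideal.subset_span (by simp)
      · rw [hx]
        have : b = ((α⁻¹ : (NodeAlg B π)ˣ) : NodeAlg B π) * d := by
          rw [hdb, ← mul_assoc, hαinv, one_mul]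
        rw [SetLike.mem_coe, this]
        exact Ideal.mul_mem_left _ _ (Ideal.subset_span (by simp))
      · rw [Set.mem_singleton_iff] at hx
        rw [hx]
        have h4 : c * r ∈ Ideal.span ({d, NodeAlg.t π * a} : Set (NodeAlg B π)) := by
          rw [hr']
          exact add_mem (Ideal.mul_mem_left _ _ (Ideal.subset_span (by simp)))
            (Ideal.mul_mem_left _ _ (Ideal.subset_span (by simp)))
        exact (Ideal.unit_mul_mem_iff_mem _ hcu).mp h4
    · rw [Ideal.span_le]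
      rintro x (hx | hx)
      · rw [hx, hdb]
        exact Ideal.mul_mem_left _ _ (Ideal.subset_span (by simp))
      · rw [Set.mem_singleton_iff] at hx
        rw [hx]; exact Ideal.subset_span (by simp)
  have htd : ¬ NodeAlg.t π ∣ d := by
    rw [hdb]
    intro h
    exact htb ((α.isUnit.dvd_mul_left).mp h)
  have S1 := Len.length_quot_pair_mul (NodeAlg.t π) d a (Len.nzdMod_of_prime hpt htd)
  have E1 : Ideal.span ({d, NodeAlg.t π} : Set (NodeAlg B π)) = Ideal.span {NodeAlg.t π, b} := by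
    rw [Set.pair_comm, hdb]; exact span_pair_unit_mul _ _ α.isUnit
  have E2 : Ideal.span ({d, a} : Set (NodeAlg B π)) = Ideal.span {a, NodeAlg.t π ^ n * 1} := by
    rw [Set.pair_comm, mul_one, ← span_pair_unit_mul a (NodeAlg.t π ^ n) hcu]
    apply span_pair_congr
    rw [hd']
    have : c * NodeAlg.t π ^ n - NodeAlg.e π * a - c * NodeAlg.t π ^ n = -(NodeAlg.e π * a) := by
      ring
    rw [this]
    exact neg_mem (Ideal.mul_mem_left _ _ (Ideal.subset_span rfl))
  have hk : k + 1 - 1 - i₁ = n := by omega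
  have hk' : k + 1 - i₁ = n + 1 := by omega
  rw [hJ, S1, E1, E2, hk, hk']
  rcases Nat.eq_zero_or_pos n with hn0 | hn0
  · rw [hn0, pow_zero, one_mul, Len.length_quot_top' _ (Len.span_pair_one a)]
    simp
  · have hta : ¬ NodeAlg.t π ∣ a := by
      intro h
      apply htd
      rw [hd']
      exact dvd_sub (Dvd.dvd.mul_left (dvd_pow_self _ (by omega)) c) (Dvd.dvd.mul_left h _)
    have E3 : Ideal.span ({NodeAlg.t π, b} : Set (NodeAlg B π)) =
        Ideal.span {NodeAlg.t π, NodeAlg.e π * a} := by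
      have hneg : IsUnit (-1 : NodeAlg B π) := IsUnit.of_mul_eq_one (-1) (by ring)
      rw [← E1, Set.pair_comm, ← span_pair_unit_mul (NodeAlg.t π) (NodeAlg.e π * a) hneg]
      apply span_pair_congr
      rw [hd']
      have : c * NodeAlg.t π ^ n - NodeAlg.e π * a - -1 * (NodeAlg.e π * a) =
          c * NodeAlg.t π ^ n := by ring
      rw [this]
      refine Ideal.mul_mem_left _ _ ?_
      rw [Ideal.mem_span_singleton]
      exact dvd_pow_self _ (by omega)
    have S2 := Len.length_quot_pair_mul (NodeAlg.e π) (NodeAlg.t π) a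
      (Len.nzdMod_prime_right hpt (t_not_dvd_e π))
    rw [Len.length_pair_pow_mul _ _ _ (Len.nzdMod_of_prime hpt hta),
      Len.length_quot_top' _ (Len.span_pair_one a), E3, S2, ← maximalIdeal_N,
      length_quot_maximalIdeal, Set.pair_comm a (NodeAlg.t π)]
    push_cast
    ring

end Groth.Agent.H2.Node
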