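import Mathlib

/-!
# Naive de Rham complex of the node `k[X,Y]/(XY)` (S19634, S19635)
-/

namespace Groth.Agent.H2.NodeDR

open MvPolynomial

universe u

variable (k : Type u) [Field k]

abbrev P := MvPolynomial (Fin 2) k
noncomputable abbrev I : Ideal (P k) := Ideal.span {(X 0 * X 1 : P k)}
abbrev A := P k ⧸ I k
noncomputable def x : A k := Ideal.Quotient.mk _ (X 0)
noncomputable def y : A k := Ideal.Quotient.mk _ (X 1)
noncomputable def N : Submodule (A k) (A k × A k) := Submodule.span (A k) {(y k, x k)}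
abbrev M := (A k × A k) ⧸ N k

lemma xy : x k * y k = 0 := by
  rw [x, y, ← map_mul]
  exact Ideal.Quotient.eq_zero_iff_mem.2 (Ideal.mem_span_singleton_self _)

noncomputable def Q : (A k × A k) →ₗ[A k] M k := (N k).mkQ

noncomputable def m₀ : M k := Q k (1, 0)
noncomputable def m₁ : M k := Q k (0, 1)

lemma rel : x k • m₁ k + y k • m₀ k = 0 := by
  rw [m₀, m₁, ← map_smul, ← map_smul, ← map_add]
  have : x k • ((0 : A k), (1 : A k)) + y k • ((1 : A k), (0 : A k)) = (y k, x k) := by
    ext <;> simp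
  rw [this]
  exact (Submodule.Quotient.mk_eq_zero _).2 (Submodule.subset_span rfl)

noncomputable def gen : Fin 2 → TrivSqZeroExt (A k) (M k) :=
  ![TrivSqZeroExt.inl (x k) + TrivSqZeroExt.inr (m₀ k),
    TrivSqZeroExt.inl (y k) + TrivSqZeroExt.inr (m₁ k)]

noncomputable def ψ₀ : P k →ₐ[k] TrivSqZeroExt (A k) (M k) := aeval (gen k)

lemma ψ₀_rel : ψ₀ k (X 0 * X 1) = 0 := by
  rw [map_mul, ψ₀, aeval_X, aeval_X]
  simp only [gen, Matrix.cons_val_zero, Matrix.cons_val_one, Matrix.cons_val_fin_one]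
  ext
  · simp [xy]
  · simp only [TrivSqZeroExt.snd_mul, TrivSqZeroExt.fst_add, TrivSqZeroExt.fst_inl,
      TrivSqZeroExt.fst_inr, add_zero, TrivSqZeroExt.snd_add, TrivSqZeroExt.snd_inl,
      TrivSqZeroExt.snd_inr, zero_add, MulOpposite.smul_eq_mul_unop, TrivSqZeroExt.snd_zero,
      op_smul_eq_smul]
    exact rel k

noncomputable def ψ : A k →ₐ[k] TrivSqZeroExt (A k) (M k) :=
  Ideal.Quotient.liftₐ _ (ψ₀ k) (by
    intro p hp
    rw [Ideal.mem_span_singleton] at hp
    obtain ⟨c, rfl⟩ := hp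
    rw [map_mul, ψ₀_rel]
    exact zero_mul (ψ₀ k c))

lemma ψ_mk (p : P k) : ψ k (Ideal.Quotient.mk _ p) = ψ₀ k p := rfl

lemma fst_ψ (a : A k) : (ψ k a).fst = a := by
  have h : (TrivSqZeroExt.fstHom k (A k) (M k)).comp (ψ k) = AlgHom.id k (A k) := by
    apply Ideal.Quotient.algHom_ext
    apply MvPolynomial.algHom_ext
    intro i
    simp only [AlgHom.comp_apply, Ideal.Quotient.mkₐ_eq_mk, AlgHom.id_apply]
    rw [ψ_mk, ψ₀, aeval_X]
    fin_cases i
    · simp [gen, x]
    · simp [gen, y]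
  exact AlgHom.congr_fun h a

lemma snd_ψ_mul (a b : A k) : (ψ k (a * b)).snd = a • (ψ k b).snd + b • (ψ k a).snd := by
  have h : ψ k (a * b) = ψ k a * ψ k b := (ψ k).toRingHom.map_mul a b
  rw [h, TrivSqZeroExt.snd_mul, fst_ψ, fst_ψ, op_smul_eq_smul]

lemma snd_ψ_one : (ψ k 1).snd = 0 := by
  have h := snd_ψ_mul k 1 1
  rw [one_mul, one_smul] at h
  exact left_eq_add.1 h |>.symm ▸ rfl

/-- the derivation -/
noncomputable def D : Derivation k (A k) (M k) where
  toLinearMap := (TrivSqZeroExt.sndHom (A k) (M k)).restrictScalars k ∘ₗ (ψ k).toLinearMap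
  map_one_eq_zero' := snd_ψ_one k
  leibniz' a b := snd_ψ_mul k a b

lemma D_apply (a : A k) : D k a = (ψ k a).snd := rfl

lemma D_mk_X (i : Fin 2) : D k (Ideal.Quotient.mk _ (X i)) = ![m₀ k, m₁ k] i := by
  rw [D_apply, ψ_mk, ψ₀, aeval_X]
  fin_cases i
  · simp [gen]
  · simp [gen]

lemma D_mk (p : P k) :
    D k (Ideal.Quotient.mk _ p) =
      Q k (Ideal.Quotient.mk _ (pderiv 0 p), Ideal.Quotient.mk _ (pderiv 1 p)) := by
  induction p using MvPolynomial.induction_on with
  | C a =>
    have : (Ideal.Quotient.mk (I k)) (C a) = algebraMap k (A k) a := rfl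
    rw [this, Derivation.map_algebraMap, pderiv_C, pderiv_C, map_zero]
    exact (map_zero (Q k)).symm
  | add p q hp hq =>
    rw [map_add, map_add, hp, hq, map_add, map_add, map_add, map_add, ← map_add]
    rfl
  | mul_X p i hp =>
    rw [map_mul, Derivation.leibniz, hp, D_mk_X, Derivation.leibniz, Derivation.leibniz,
      pderiv_X, pderiv_X]
    fin_cases i
    · simp only [Fin.zero_eta, Matrix.cons_val_zero, m₀, ← map_smul, ← map_add]
      congr 1
    · simp only [Fin.mk_one, Matrix.cons_val_one, Matrix.cons_val_fin_one, m₁, ← map_smul,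
        ← map_add]
      congr 1

/-- the induced linear map on Kähler differentials -/
noncomputable def ℓ : Ω[A k⁄k] →ₗ[A k] M k := (D k).liftKaehlerDifferential

lemma ℓ_D (a : A k) : ℓ k (KaehlerDifferential.D k (A k) a) = D k a :=
  Derivation.liftKaehlerDifferential_comp_D (D k) a

/-- unpacking `Q (a, b) = 0` -/
lemma Q_eq_zero (a b : A k) (h : Q k (a, b) = 0) : ∃ r : A k, a = r * y k ∧ b = r * x k := by
  have h1 : (a, b) ∈ N k := (Submodule.Quotient.mk_eq_zero _).1 h
  rw [N, Submodule.mem_span_singleton] at h1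
  obtain ⟨r, hr⟩ := h1
  refine ⟨r, ?_, ?_⟩
  · have := congrArg Prod.fst hr; simpa using this.symm
  · have := congrArg Prod.snd hr; simpa using this.symm

/-- lifting an equation in `A` to `P` -/
lemma lift_eq (p q : P k) (h : Ideal.Quotient.mk (I k) p = Ideal.Quotient.mk (I k) q) :
    ∃ c : P k, p = q + X 0 * X 1 * c := by
  rw [Ideal.Quotient.eq, Ideal.mem_span_singleton] at h
  obtain ⟨c, hc⟩ := h
  exact ⟨c, by linear_combination hc⟩

lemma coeff_X0X1_mul (c : P k) (m : Fin 2 →₀ ℕ) (hm : m 0 = 0 ∨ m 1 = 0) :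
    coeff m (X 0 * X 1 * c) = 0 := by
  classical
  rcases hm with hm | hm
  · rw [mul_assoc, coeff_X_mul', if_neg]
    rw [Finsupp.mem_support_iff, hm]; simp
  · rw [mul_comm (X 0) (X 1), mul_assoc, coeff_X_mul', if_neg]
    rw [Finsupp.mem_support_iff, hm]; simp

theorem not_surjective :
    ¬ Function.Surjective (KaehlerDifferential.D k (A k)) := by
  classical
  intro hsurj
  obtain ⟨Pbar, hP⟩ := hsurj (x k • KaehlerDifferential.D k (A k) (y k))
  obtain ⟨p, rfl⟩ := Ideal.Quotient.mk_surjective Pbar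
  have h1 := congrArg (ℓ k) hP
  rw [ℓ_D, map_smul, ℓ_D, D_mk, y, D_mk_X] at h1
  simp only [Matrix.cons_val_one, Matrix.cons_val_fin_one, m₁, ← map_smul] at h1
  rw [← sub_eq_zero, ← map_sub] at h1
  have h2 : ((Ideal.Quotient.mk (I k)) ((pderiv 0) p), (Ideal.Quotient.mk (I k)) ((pderiv 1) p)) -
      x k • ((0 : A k), (1 : A k)) =
      ((Ideal.Quotient.mk (I k)) ((pderiv 0) p), (Ideal.Quotient.mk (I k)) ((pderiv 1) p) - x k) := by
    ext <;> simp
  rw [h2] at h1
  obtain ⟨r, hr0, hr1⟩ := Q_eq_zero k _ _ h1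
  obtain ⟨r, rfl⟩ := Ideal.Quotient.mk_surjective r
  rw [y, ← map_mul] at hr0
  rw [x, ← map_sub, ← map_mul] at hr1
  obtain ⟨c0, hc0⟩ := lift_eq k _ _ hr0
  obtain ⟨c1, hc1⟩ := lift_eq k _ _ hr1
  -- coefficients
  have e0 := congrArg (coeff (Finsupp.single (1 : Fin 2) 1)) hc0
  have e1 := congrArg (coeff (Finsupp.single (0 : Fin 2) 1)) hc1
  rw [coeff_add, coeff_X0X1_mul k c0 _ (Or.inl (by simp)), add_zero, coeff_pderiv,
    coeff_mul_X', if_pos (by simp)] at e0
  rw [coeff_add, coeff_X0X1_mul k c1 _ (Or.inr (by simp)), add_zero, coeff_sub, coeff_pderiv,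
    coeff_mul_X', if_pos (by simp)] at e1
  simp only [Finsupp.single_eq_same, Finsupp.single_eq_of_ne, ne_eq, one_ne_zero, not_false_eq_true,
    zero_ne_one, Nat.cast_zero, zero_add, mul_one, tsub_self, coeff_X, if_true] at e0 e1
  have hcomm : (Finsupp.single (1 : Fin 2) 1 + Finsupp.single (0 : Fin 2) 1 : Fin 2 →₀ ℕ) =
      Finsupp.single 0 1 + Finsupp.single 1 1 := add_comm _ _
  rw [hcomm] at e0
  rw [e0] at e1
  simp at e1

lemma finsupp_fin2 (m : Fin 2 →₀ ℕ) : m = Finsupp.single 0 (m 0) + Finsupp.single 1 (m 1) := by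
  ext i
  fin_cases i <;> simp

theorem ker_d [CharZero k] (Pbar : A k) :
    KaehlerDifferential.D k (A k) Pbar = 0 ↔ Pbar ∈ Set.range (algebraMap k (A k)) := by
  classical
  constructor
  · intro h
    obtain ⟨p, rfl⟩ := Ideal.Quotient.mk_surjective Pbar
    have h1 := congrArg (ℓ k) h
    rw [ℓ_D, map_zero, D_mk] at h1
    obtain ⟨r, hr0, hr1⟩ := Q_eq_zero k _ _ h1
    obtain ⟨r, rfl⟩ := Ideal.Quotient.mk_surjective r
    rw [y, ← map_mul] at hr0
    rw [x, ← map_mul] at hr1
    obtain ⟨c0, hc0⟩ := lift_eq k _ _ hr0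
    obtain ⟨c1, hc1⟩ := lift_eq k _ _ hr1
    -- pure powers of X0 have zero coefficient
    have hA : ∀ a : ℕ, coeff (Finsupp.single (0 : Fin 2) (a + 1)) p = 0 := by
      intro a
      have e0 := congrArg (coeff (Finsupp.single (0 : Fin 2) a)) hc0
      rw [coeff_add, coeff_X0X1_mul k c0 _ (Or.inr (by simp)), add_zero, coeff_pderiv,
        coeff_mul_X', if_neg (by simp), ← Finsupp.single_add] at e0
      simp only [Finsupp.single_eq_same] at e0
      have h2 : ((a : k) + 1) ≠ 0 := by exact_mod_cast Nat.succ_ne_zero a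
      exact (mul_eq_zero.1 e0).resolve_right h2
    have hB : ∀ b : ℕ, coeff (Finsupp.single (1 : Fin 2) (b + 1)) p = 0 := by
      intro b
      have e1 := congrArg (coeff (Finsupp.single (1 : Fin 2) b)) hc1
      rw [coeff_add, coeff_X0X1_mul k c1 _ (Or.inl (by simp)), add_zero, coeff_pderiv,
        coeff_mul_X', if_neg (by simp), ← Finsupp.single_add] at e1
      simp only [Finsupp.single_eq_same] at e1
      have h2 : ((b : k) + 1) ≠ 0 := by exact_mod_cast Nat.succ_ne_zero b
      exact (mul_eq_zero.1 e1).resolve_right h2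
    refine ⟨coeff 0 p, ?_⟩
    change Ideal.Quotient.mk (I k) (C (coeff 0 p)) = Ideal.Quotient.mk (I k) p
    rw [Ideal.Quotient.eq]
    -- every monomial of p - C c₀ lies in I
    have hmem : ∀ m : Fin 2 →₀ ℕ, monomial m (coeff m (C (coeff 0 p) - p)) ∈ I k := by
      intro m
      by_cases h0 : m 0 = 0
      · by_cases h1 : m 1 = 0
        · have : m = 0 := by rw [finsupp_fin2 m, h0, h1]; simp
          rw [this, coeff_sub, coeff_C, if_pos rfl, sub_self, map_zero]
          exact Ideal.zero_mem _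
        · obtain ⟨b, hb⟩ := Nat.exists_eq_succ_of_ne_zero h1
          have : m = Finsupp.single 1 (b + 1) := by rw [finsupp_fin2 m, h0, hb]; simp
          rw [this, coeff_sub, coeff_C, if_neg, hB, sub_zero, map_zero]
          · exact Ideal.zero_mem _
          · intro h'
            have := congrArg (fun f : Fin 2 →₀ ℕ => f 1) h'
            simp at this
      · by_cases h1 : m 1 = 0
        · obtain ⟨a, ha⟩ := Nat.exists_eq_succ_of_ne_zero h0
          have : m = Finsupp.single 0 (a + 1) := by rw [finsupp_fin2 m, h1, ha]; simp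
          rw [this, coeff_sub, coeff_C, if_neg, hA, sub_zero, map_zero]
          · exact Ideal.zero_mem _
          · intro h'
            have := congrArg (fun f : Fin 2 →₀ ℕ => f 0) h'
            simp at this
        · -- divisible by X0 X1
          obtain ⟨a, ha⟩ := Nat.exists_eq_succ_of_ne_zero h0
          obtain ⟨b, hb⟩ := Nat.exists_eq_succ_of_ne_zero h1
          have hm : m = (Finsupp.single 0 a + Finsupp.single 1 b) +
              (Finsupp.single 0 1 + Finsupp.single 1 1) := by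
            rw [finsupp_fin2 m, ha, hb]
            ext i
            fin_cases i <;> simp
          rw [Ideal.mem_span_singleton]
          generalize coeff m (C (coeff 0 p) - p) = cc
          refine ⟨monomial (Finsupp.single 0 a + Finsupp.single 1 b) cc, ?_⟩
          rw [hm, X, X, monomial_mul, monomial_mul, one_mul, one_mul, add_comm]
    rw [MvPolynomial.as_sum (C (coeff 0 p) - p)]
    exact Ideal.sum_mem _ fun m _ => hmem m
  · rintro ⟨c, rfl⟩
    exact Derivation.map_algebraMap _ c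

end Groth.Agent.H2.NodeDR
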