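import Mathlib
import Groth.Agent.Lib.Helper5.CA.PSCont

/-!
# The thickness ideal of a formal node `A[[x,y]]/(xy - α)` is an invariant
-/

set_option autoImplicit false
set_option linter.unusedSectionVars false
set_option linter.style.haveILetI false

namespace Groth.Agent.H2.NodeInv

open MvPowerSeries IsLocalRing

universe u

section K

variable {C : Type u} [CommRing C] [IsLocalRing C] [IsNoetherianRing C]

/-- Key lemma: if `P * Q` is a constant in `C[[T]]`, `P` has constant coefficient in the maximal
ideal and unit linear coefficient, then `Q = 0`. -/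
theorem eq_zero_of_mul_eq_C (P Q : PowerSeries C) (γ : C) (h : P * Q = PowerSeries.C γ)
    (h0 : PowerSeries.coeff 0 P ∈ maximalIdeal C) (h1 : IsUnit (PowerSeries.coeff 1 P)) :
    Q = 0 := by
  have key : ∀ s : ℕ, ∀ n : ℕ, PowerSeries.coeff n Q ∈ maximalIdeal C ^ s := by
    intro s
    induction s with
    | zero => intro n; simp
    | succ s ihs =>
      intro n
      induction n using Nat.strong_induction_on with
      | _ n ihn =>
        have hc : PowerSeries.coeff (n + 1) (P * Q) = 0 := by
          rw [h, PowerSeries.coeff_C]; simp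
        rw [PowerSeries.coeff_mul] at hc
        have hmem : ((1 : ℕ), n) ∈ Finset.HasAntidiagonal.antidiagonal (n + 1) := by
          rw [Finset.HasAntidiagonal.mem_antidiagonal]; ring
        rw [← Finset.add_sum_erase _ _ hmem] at hc
        have hrest : ∑ x ∈ (Finset.HasAntidiagonal.antidiagonal (n + 1)).erase (1, n),
            PowerSeries.coeff x.1 P * PowerSeries.coeff x.2 Q ∈ maximalIdeal C ^ (s + 1) := by
          apply Ideal.sum_mem
          rintro ⟨i, j⟩ hij
          rw [Finset.mem_erase, Finset.HasAntidiagonal.mem_antidiagonal] at hij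
          obtain ⟨hne, hij⟩ := hij
          simp only at hij ⊢
          rcases Nat.lt_or_ge i 1 with hi | hi
          · have hi0 : i = 0 := by omega
            subst hi0
            rw [pow_succ']
            exact Ideal.mul_mem_mul h0 (ihs j)
          · have hi2 : 2 ≤ i := by
              rcases Nat.lt_or_ge i 2 with h2 | h2
              · exfalso
                have hi1 : i = 1 := by omega
                subst hi1
                apply hne
                have : j = n := by omega
                rw [this]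
              · exact h2
            have hj : j < n := by omega
            exact Ideal.mul_mem_left _ _ (ihn j hj)
        have h2 : PowerSeries.coeff 1 P * PowerSeries.coeff n Q ∈ maximalIdeal C ^ (s + 1) := by
          have : PowerSeries.coeff 1 P * PowerSeries.coeff n Q =
              -(∑ x ∈ (Finset.HasAntidiagonal.antidiagonal (n + 1)).erase (1, n),
                PowerSeries.coeff x.1 P * PowerSeries.coeff x.2 Q) := by
            linear_combination hc
          rw [this]
          exact neg_mem hrest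
        exact (Ideal.unit_mul_mem_iff_mem _ h1).mp h2
  ext n
  rw [map_zero]
  have hbot : (⨅ s : ℕ, maximalIdeal C ^ s) = ⊥ :=
    Ideal.iInf_pow_eq_bot_of_isLocalRing _ (maximalIdeal.isMaximal C).ne_top
  have : PowerSeries.coeff n Q ∈ (⨅ s : ℕ, maximalIdeal C ^ s) := by
    rw [Ideal.mem_iInf]
    exact fun s => key s n
  rw [hbot] at this
  exact this

end K

section Main

variable {A : Type u} [CommRing A]

/-- the formal node of thickness `α`. -/
abbrev Nd (α : A) : Type u :=
  MvPowerSeries (Fin 2) A ⧸ Ideal.span {(X 0 * X 1 - C α : MvPowerSeries (Fin 2) A)}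

variable (J : Ideal A)

theorem hasSubst_proj : HasSubst ![(PowerSeries.X : PowerSeries (A ⧸ J)), 0] :=
  hasSubst_of_constantCoeff_zero (by
    intro s
    fin_cases s
    · exact PowerSeries.constantCoeff_X
    · simp)

/-- the projection `A[[x,y]] → (A/J)[[T]]`, `x ↦ T`, `y ↦ 0`. -/
noncomputable def proj₀ : MvPowerSeries (Fin 2) A →ₐ[A] PowerSeries (A ⧸ J) :=
  substAlgHom (hasSubst_proj J)

theorem proj₀_X0 : proj₀ J (X 0) = PowerSeries.X := by
  unfold proj₀
  rw [substAlgHom_X]
  rfl

theorem proj₀_X1 : proj₀ J (X 1) = 0 := by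
  unfold proj₀
  rw [substAlgHom_X]
  rfl

theorem proj₀_C (c : A) : proj₀ J (C c) = PowerSeries.C (Ideal.Quotient.mk J c) := by
  have h := (proj₀ J).commutes c
  rw [MvPowerSeries.algebraMap_apply, Algebra.algebraMap_self, RingHom.id_apply] at h
  rw [h, PowerSeries.algebraMap_apply]
  rfl

variable {J} {β : A} (hβ : β ∈ J)

include hβ in
theorem proj₀_vanish : ∀ a ∈ Ideal.span {(X 0 * X 1 - C β : MvPowerSeries (Fin 2) A)},
    proj₀ J a = 0 := by
  intro a ha
  obtain ⟨c, rfl⟩ := Ideal.mem_span_singleton'.mp ha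
  rw [map_mul, map_sub, map_mul, proj₀_X1, proj₀_C, Ideal.Quotient.eq_zero_iff_mem.mpr hβ]
  simp

/-- the induced projection from the node. -/
noncomputable def projN : Nd β →ₐ[A] PowerSeries (A ⧸ J) :=
  Ideal.Quotient.liftₐ _ (proj₀ J) (proj₀_vanish hβ)

theorem projN_mk (f : MvPowerSeries (Fin 2) A) :
    projN hβ (Ideal.Quotient.mk _ f) = proj₀ J f := rfl

end Main

section Local

variable {A : Type u} [CommRing A] [IsLocalRing A] [IsNoetherianRing A]

theorem range_X_fin_two :
    Set.range (X : Fin 2 → MvPowerSeries (Fin 2) A) = {X 0, X 1} := by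
  ext x
  simp only [Set.mem_range, Set.mem_insert_iff, Set.mem_singleton_iff, Fin.exists_fin_two]
  tauto

/-- decomposition of a power series in two variables. -/
theorem exists_decomp (W : MvPowerSeries (Fin 2) A) :
    ∃ W1 W2 : MvPowerSeries (Fin 2) A, W = C (constantCoeff W) + W1 * X 0 + W2 * X 1 := by
  have h : W - C (constantCoeff W) ∈
      RingHom.ker (constantCoeff : MvPowerSeries (Fin 2) A →+* A) := by
    rw [RingHom.mem_ker, map_sub, constantCoeff_C, sub_self]
  rw [Groth.Agent.H5.CA.ker_constantCoeff_eq_span, range_X_fin_two, Ideal.mem_span_pair] at h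
  obtain ⟨W1, W2, h⟩ := h
  exact ⟨W1, W2, by linear_combination -h⟩

variable (J : Ideal A) (hJ : J ≠ ⊤)

include hJ in
/-- any `A`-algebra map `A[[x,y]] → (A/J)[[T]]` sends the variables to series with constant
coefficient in the maximal ideal. -/
theorem constantCoeff_mem (g : MvPowerSeries (Fin 2) A →ₐ[A] PowerSeries (A ⧸ J)) (i : Fin 2) :
    haveI : Nontrivial (A ⧸ J) := Ideal.Quotient.nontrivial_iff.mpr hJ
    haveI : IsLocalRing (A ⧸ J) := IsLocalRing.of_surjective' (Ideal.Quotient.mk J)
      Ideal.Quotient.mk_surjective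
    PowerSeries.constantCoeff (g (X i)) ∈ maximalIdeal (A ⧸ J) := by
  haveI : Nontrivial (A ⧸ J) := Ideal.Quotient.nontrivial_iff.mpr hJ
  haveI : IsLocalRing (A ⧸ J) := IsLocalRing.of_surjective' (Ideal.Quotient.mk J)
    Ideal.Quotient.mk_surjective
  let ψ : MvPowerSeries (Fin 2) A →+* (A ⧸ J) :=
    (PowerSeries.constantCoeff).comp g.toRingHom
  have hψ : Function.Surjective ψ := by
    intro c
    obtain ⟨a, rfl⟩ := Ideal.Quotient.mk_surjective c
    refine ⟨C a, ?_⟩
    have h := g.commutes a
    rw [MvPowerSeries.algebraMap_apply, Algebra.algebraMap_self, RingHom.id_apply,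
      PowerSeries.algebraMap_apply] at h
    change PowerSeries.constantCoeff (g (C a)) = _
    rw [h, PowerSeries.constantCoeff_C]
    rfl
  haveI : IsLocalHom ψ := IsLocalHom.of_surjective ψ hψ
  rw [mem_maximalIdeal, mem_nonunits_iff]
  intro hu
  have h1 : IsUnit (X i : MvPowerSeries (Fin 2) A) := (isUnit_map_iff ψ _).mp hu
  rw [MvPowerSeries.isUnit_iff_constantCoeff, constantCoeff_X] at h1
  exact not_isUnit_zero h1

/-- **Main lemma**: an isomorphism of nodes forces `α ∈ (β)`. -/
theorem mem_span_of_algEquiv (α β : A) (hβ : β ∈ maximalIdeal A) (φ : Nd α ≃ₐ[A] Nd β) :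
    α ∈ Ideal.span ({β} : Set A) := by
  obtain ⟨J, hJdef⟩ : ∃ J : Ideal A, J = Ideal.span ({β} : Set A) := ⟨_, rfl⟩
  rw [← hJdef]
  have hβJ : β ∈ J := by rw [hJdef]; exact Ideal.mem_span_singleton_self β
  have hJ : J ≠ ⊤ := by
    intro h
    have h1 : J ≤ maximalIdeal A := by
      rw [hJdef, Ideal.span_singleton_le_iff_mem]; exact hβ
    rw [h] at h1
    exact (maximalIdeal.isMaximal A).ne_top (top_le_iff.mp h1)
  haveI : Nontrivial (A ⧸ J) := Ideal.Quotient.nontrivial_iff.mpr hJ
  haveI : IsLocalRing (A ⧸ J) := IsLocalRing.of_surjective' (Ideal.Quotient.mk J)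
    Ideal.Quotient.mk_surjective
  -- the composite map
  let g : MvPowerSeries (Fin 2) A →ₐ[A] PowerSeries (A ⧸ J) :=
    ((projN hβJ).comp φ.toAlgHom).comp (Ideal.Quotient.mkₐ A _)
  have hg : ∀ f, g f = projN hβJ (φ (Ideal.Quotient.mk _ f)) := fun f => rfl
  obtain ⟨P, hP⟩ : ∃ P, P = g (X 0) := ⟨_, rfl⟩
  obtain ⟨Q, hQ⟩ : ∃ Q, Q = g (X 1) := ⟨_, rfl⟩
  have hp0 : PowerSeries.coeff 0 P ∈ maximalIdeal (A ⧸ J) := by
    rw [PowerSeries.coeff_zero_eq_constantCoeff_apply, hP]
    exact constantCoeff_mem J hJ g 0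
  have hq0 : PowerSeries.coeff 0 Q ∈ maximalIdeal (A ⧸ J) := by
    rw [PowerSeries.coeff_zero_eq_constantCoeff_apply, hQ]
    exact constantCoeff_mem J hJ g 1
  -- the product
  have hPQ : P * Q = PowerSeries.C (Ideal.Quotient.mk J α) := by
    rw [hP, hQ, ← map_mul]
    have h1 : Ideal.Quotient.mk (Ideal.span {(X 0 * X 1 - C α : MvPowerSeries (Fin 2) A)})
        (X 0 * X 1) = Ideal.Quotient.mk _ (C α) := by
      rw [Ideal.Quotient.eq]
      exact Ideal.subset_span rfl
    have h2 : g (C α) = PowerSeries.C (Ideal.Quotient.mk J α) := by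
      have h := g.commutes α
      rw [MvPowerSeries.algebraMap_apply, Algebra.algebraMap_self, RingHom.id_apply,
        PowerSeries.algebraMap_apply] at h
      rw [h]; rfl
    rw [hg, h1, ← hg, h2]
  -- surjectivity gives a unit linear coefficient
  have hunit : IsUnit (PowerSeries.coeff 1 P) ∨ IsUnit (PowerSeries.coeff 1 Q) := by
    obtain ⟨w, hw⟩ := φ.surjective (Ideal.Quotient.mk _ (X 0))
    obtain ⟨W, rfl⟩ := Ideal.Quotient.mk_surjective w
    obtain ⟨W1, W2, hW⟩ := exists_decomp W
    have h1 : g W = PowerSeries.X := by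
      rw [hg, hw, projN_mk, proj₀_X0]
    have h2 : g W = PowerSeries.C (Ideal.Quotient.mk J (constantCoeff W)) + g W1 * P + g W2 * Q := by
      have h := g.commutes (constantCoeff W)
      rw [MvPowerSeries.algebraMap_apply, Algebra.algebraMap_self, RingHom.id_apply,
        PowerSeries.algebraMap_apply] at h
      conv_lhs => rw [hW]
      rw [map_add, map_add, map_mul, map_mul, h, hP, hQ]
      rfl
    have h3 : PowerSeries.coeff 1 (g W) = 1 := by
      rw [h1, PowerSeries.coeff_one_X]
    rw [h2, map_add, map_add, PowerSeries.coeff_one_mul, PowerSeries.coeff_one_mul,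
      PowerSeries.coeff_C] at h3
    simp only [one_ne_zero, if_false, zero_add] at h3
    by_contra hcon
    rw [not_or] at hcon
    obtain ⟨hc1, hc2⟩ := hcon
    have hp1 : PowerSeries.coeff 1 P ∈ maximalIdeal (A ⧸ J) := (mem_maximalIdeal _).mpr hc1
    have hq1 : PowerSeries.coeff 1 Q ∈ maximalIdeal (A ⧸ J) := (mem_maximalIdeal _).mpr hc2
    rw [PowerSeries.coeff_zero_eq_constantCoeff_apply] at hp0 hq0
    have : (1 : A ⧸ J) ∈ maximalIdeal (A ⧸ J) := by
      rw [← h3]
      refine Ideal.add_mem _ (Ideal.add_mem _ ?_ ?_) (Ideal.add_mem _ ?_ ?_)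
      · exact Ideal.mul_mem_left _ _ hp0
      · exact Ideal.mul_mem_right _ _ hp1
      · exact Ideal.mul_mem_left _ _ hq0
      · exact Ideal.mul_mem_right _ _ hq1
    exact (maximalIdeal.isMaximal (A ⧸ J)).ne_top ((Ideal.eq_top_iff_one _).mpr this)
  have hfin : PowerSeries.C (Ideal.Quotient.mk J α) = 0 := by
    rcases hunit with hu | hu
    · have := eq_zero_of_mul_eq_C P Q _ hPQ hp0 hu
      rw [← hPQ, this, mul_zero]
    · have := eq_zero_of_mul_eq_C Q P _ (by rw [mul_comm]; exact hPQ) hq0 hu
      rw [← hPQ, this, zero_mul]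
  have h0 : Ideal.Quotient.mk J α = 0 := by
    have := congrArg PowerSeries.constantCoeff hfin
    rw [PowerSeries.constantCoeff_C, map_zero] at this
    exact this
  exact Ideal.Quotient.eq_zero_iff_mem.mp h0

/-- the thickness ideal of a node is an invariant. -/
theorem span_eq_of_algEquiv (α β : A) (hα : α ∈ maximalIdeal A) (hβ : β ∈ maximalIdeal A)
    (φ : Nd α ≃ₐ[A] Nd β) : Ideal.span ({α} : Set A) = Ideal.span {β} := by
  apply le_antisymm
  · rw [Ideal.span_singleton_le_iff_mem]
    exact mem_span_of_algEquiv α β hβ φ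
  · rw [Ideal.span_singleton_le_iff_mem]
    exact mem_span_of_algEquiv β α hα φ.symm

end Local

end Groth.Agent.H2.NodeInv
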