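import Mathlib
import Groth.Agent.Lib.Helper2.Node9

/-!
# The node `k[[t,e]]/(te)` over a field: fixed-point multiplicities on the branches
-/

set_option autoImplicit false
set_option linter.unusedSectionVars false
set_option linter.style.haveILetI false

namespace Groth.Agent.H2.NodeK

open MvPowerSeries IsLocalRing ArLef

universe u

variable (k : Type u) [Field k]

theorem regular_P : IsRegularLocalRing (MvPowerSeries (Fin 2) k) ∧
    ringKrullDim (MvPowerSeries (Fin 2) k) = ((2 : ℕ) : WithBot ℕ∞) := by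
  obtain ⟨h1, h2⟩ := Groth.Agent.H5.FSm.isRegularLocalRing_mvPowerSeries k 2
  refine ⟨h1, ?_⟩
  rw [h2, ringKrullDim_eq_zero_of_field]
  rfl

theorem maximalIdeal_P : maximalIdeal (MvPowerSeries (Fin 2) k) =
    Ideal.span {(X 0 : MvPowerSeries (Fin 2) k), X 1} := by
  rw [Groth.Agent.H5.Cohen2.maximalIdeal_mvPowerSeries, IsLocalRing.maximalIdeal_eq_bot,
    Ideal.map_bot, bot_sup_eq, Groth.Agent.H5.CA.ker_constantCoeff_eq_span]
  congr 1
  ext x
  simp only [Set.mem_range, Set.mem_insert_iff, Set.mem_singleton_iff, Fin.exists_fin_two]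
  tauto

theorem prime_X0 : Prime (X 0 : MvPowerSeries (Fin 2) k) := by
  haveI := (regular_P k).1
  refine Node.prime_of_not_mem_sq 1 (regular_P k).2 _ ?_ ?_
  · rw [maximalIdeal_P]; exact Ideal.subset_span (by simp)
  · exact Node.not_mem_sq_of_span_pair (regular_P k).2 _ _ (maximalIdeal_P k)

theorem X0_not_dvd_X1 : ¬ (X 0 : MvPowerSeries (Fin 2) k) ∣ X 1 := by
  haveI := (regular_P k).1
  exact Node.not_dvd_of_span_pair (regular_P k).2 _ _ (maximalIdeal_P k)

instance : Nontrivial (NodeAlg k 0) := by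
  apply Ideal.Quotient.nontrivial_iff.mpr
  intro h
  have h1 : (X 0 * X 1 - C 0 : MvPowerSeries (Fin 2) k) ∈ maximalIdeal (MvPowerSeries (Fin 2) k) := by
    rw [map_zero, sub_zero, maximalIdeal_P]
    exact Ideal.mul_mem_right _ _ (Ideal.subset_span (by simp))
  have h2 : Ideal.span {(X 0 * X 1 - C 0 : MvPowerSeries (Fin 2) k)} ≤
      maximalIdeal (MvPowerSeries (Fin 2) k) := (Ideal.span_singleton_le_iff_mem _).mpr h1
  rw [h] at h2
  exact (maximalIdeal.isMaximal _).ne_top (top_le_iff.mp h2)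

instance : IsLocalRing (NodeAlg k 0) :=
  IsLocalRing.of_surjective' (Ideal.Quotient.mk _) Ideal.Quotient.mk_surjective

theorem t_mul_e : NodeAlg.t (0 : k) * NodeAlg.e (0 : k) = 0 := by
  have h : Ideal.Quotient.mk (Ideal.span {(X 0 * X 1 - C 0 : MvPowerSeries (Fin 2) k)})
      (X 0 * X 1 - C 0) = 0 :=
    Ideal.Quotient.eq_zero_iff_mem.mpr (Ideal.subset_span (Set.mem_singleton _))
  rw [map_sub, map_mul] at h
  have h0 : Ideal.Quotient.mk (Ideal.span {(X 0 * X 1 - C 0 : MvPowerSeries (Fin 2) k)})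
      (C 0) = 0 := by
    have : (C (0 : k) : MvPowerSeries (Fin 2) k) = 0 := map_zero _
    rw [this, map_zero]
  rw [h0, sub_zero] at h
  exact h

theorem maximalIdeal_A : maximalIdeal (NodeAlg k 0) =
    Ideal.span {NodeAlg.t (0 : k), NodeAlg.e (0 : k)} := by
  have hsurj : Function.Surjective
      (Ideal.Quotient.mk (Ideal.span {(X 0 * X 1 - C 0 : MvPowerSeries (Fin 2) k)})) :=
    Ideal.Quotient.mk_surjective
  have h2 : Ideal.comap (Ideal.Quotient.mk
      (Ideal.span {(X 0 * X 1 - C 0 : MvPowerSeries (Fin 2) k)})) (maximalIdeal (NodeAlg k 0)) =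
      maximalIdeal (MvPowerSeries (Fin 2) k) :=
    eq_maximalIdeal (Ideal.comap_isMaximal_of_surjective _ hsurj)
  rw [← Ideal.map_comap_of_surjective _ hsurj (maximalIdeal (NodeAlg k 0)), h2, maximalIdeal_P,
    Ideal.map_span, Set.image_pair]

/-- `t` is a non-zero-divisor modulo `e`. -/
theorem nzdMod_t_e : Len.NZDMod (NodeAlg.t (0 : k)) (NodeAlg.e (0 : k)) := by
  intro r hr
  obtain ⟨R, rfl⟩ := Ideal.Quotient.mk_surjective r
  obtain ⟨s, hs⟩ := Ideal.mem_span_singleton'.mp hr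
  obtain ⟨S, rfl⟩ := Ideal.Quotient.mk_surjective s
  rw [← map_mul, ← map_mul, Ideal.Quotient.eq, Ideal.mem_span_singleton'] at hs
  obtain ⟨T, hT⟩ := hs
  rw [map_zero, sub_zero] at hT
  have h1 : (X 0 : MvPowerSeries (Fin 2) k) * (R + T * X 1) = S * X 1 := by
    linear_combination hT
  have h2 : (X 0 : MvPowerSeries (Fin 2) k) ∣ S * X 1 := ⟨_, h1.symm⟩
  rcases (prime_X0 k).dvd_or_dvd h2 with h3 | h3
  · obtain ⟨S', rfl⟩ := h3
    have h4 : (X 0 : MvPowerSeries (Fin 2) k) * (R + T * X 1) = X 0 * (S' * X 1) := by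
      rw [h1]; ring
    have h5 := mul_left_cancel₀ (prime_X0 k).ne_zero h4
    have h6 : R = (S' - T) * X 1 := by linear_combination h5
    rw [h6, map_mul]
    exact Ideal.mul_mem_left _ _ (Ideal.subset_span rfl)
  · exact absurd h3 (X0_not_dvd_X1 k)

theorem algebraMap_eq_mk_C (c : k) :
    algebraMap k (NodeAlg k 0) c =
      Ideal.Quotient.mk (Ideal.span {(X 0 * X 1 - C 0 : MvPowerSeries (Fin 2) k)}) (C c) := rfl

/-- the fixed-point ideal of a `k`-algebra automorphism. -/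
theorem fixIdeal_algEquiv (σ : NodeAlg k 0 ≃ₐ[k] NodeAlg k 0) :
    fixIdeal σ = Ideal.span {σ (NodeAlg.t (0 : k)) - NodeAlg.t (0 : k),
      σ (NodeAlg.e (0 : k)) - NodeAlg.e (0 : k)} := by
  have h := Node.fixIdeal_eq_span_gens
    (Ideal.span {(X 0 * X 1 - C 0 : MvPowerSeries (Fin 2) k)}) σ.toRingEquiv
  have h' : fixIdeal (σ : NodeAlg k 0 → NodeAlg k 0) = fixIdeal (σ.toRingEquiv) := rfl
  rw [h', h]
  apply le_antisymm
  · rw [Ideal.span_le]
    rintro _ (⟨i, rfl⟩ | ⟨b, rfl⟩)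
    · fin_cases i
      · exact Ideal.subset_span (Or.inl rfl)
      · exact Ideal.subset_span (Or.inr rfl)
    · have : σ.toRingEquiv (Ideal.Quotient.mk
          (Ideal.span {(X 0 * X 1 - C 0 : MvPowerSeries (Fin 2) k)}) (C b)) =
          Ideal.Quotient.mk (Ideal.span {(X 0 * X 1 - C 0 : MvPowerSeries (Fin 2) k)}) (C b) := by
        rw [← algebraMap_eq_mk_C]
        exact σ.commutes b
      simp only
      rw [this, sub_self]
      exact zero_mem _
  · apply Ideal.span_mono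
    rintro _ (rfl | rfl)
    · exact Or.inl ⟨0, rfl⟩
    · exact Or.inl ⟨1, rfl⟩

variable {k}

/-- the node formula for fixed-point multiplicities. -/
theorem length_formula (σ : NodeAlg k 0 ≃ₐ[k] NodeAlg k 0) (α β : (NodeAlg k 0)ˣ)
    (ht : σ (NodeAlg.t (0 : k)) = (α : NodeAlg k 0) * NodeAlg.t (0 : k))
    (he : σ (NodeAlg.e (0 : k)) = (β : NodeAlg k 0) * NodeAlg.e (0 : k)) :
    Module.length (NodeAlg k 0) (NodeAlg k 0 ⧸ fixIdeal σ) + 1 =
      Module.length (NodeAlg k 0) (NodeAlg k 0 ⧸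
        (fixIdeal σ ⊔ Ideal.span ({NodeAlg.t (0 : k)} : Set (NodeAlg k 0)))) +
      Module.length (NodeAlg k 0) (NodeAlg k 0 ⧸
        (fixIdeal σ ⊔ Ideal.span ({NodeAlg.e (0 : k)} : Set (NodeAlg k 0)))) := by
  obtain ⟨t, htd⟩ : ∃ t : NodeAlg k 0, t = NodeAlg.t (0 : k) := ⟨_, rfl⟩
  obtain ⟨e, hed⟩ : ∃ e : NodeAlg k 0, e = NodeAlg.e (0 : k) := ⟨_, rfl⟩
  have hte : t * e = 0 := by rw [htd, hed]; exact t_mul_e k
  have hnz : Len.NZDMod t e := by rw [htd, hed]; exact nzdMod_t_e k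
  have hm : maximalIdeal (NodeAlg k 0) = Ideal.span {t, e} := by rw [htd, hed]; exact maximalIdeal_A k
  obtain ⟨a, ha⟩ : ∃ a : NodeAlg k 0, a = (α : NodeAlg k 0) - 1 := ⟨_, rfl⟩
  obtain ⟨b, hb⟩ : ∃ b : NodeAlg k 0, b = (β : NodeAlg k 0) - 1 := ⟨_, rfl⟩
  have hI : fixIdeal σ = Ideal.span {t * a, b * e} := by
    rw [fixIdeal_algEquiv, ht, he, ← htd, ← hed, ha, hb]
    congr 2
    · ring
    · congr 1; ring
  rw [← htd, ← hed]
  -- the colon ideal
  have hcolon : (fixIdeal σ).colon ({t} : Set (NodeAlg k 0)) = Ideal.span {e, a} := by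
    apply le_antisymm
    · intro r hr
      rw [Submodule.mem_colon_singleton, smul_eq_mul, hI, Ideal.mem_span_pair] at hr
      obtain ⟨A', C', hAC⟩ := hr
      have h1 : t * (r - A' * a) ∈ Ideal.span ({e} : Set (NodeAlg k 0)) := by
        rw [Ideal.mem_span_singleton']
        exact ⟨C' * b, by linear_combination hAC⟩
      have h2 := hnz _ h1
      rw [Ideal.mem_span_singleton'] at h2
      obtain ⟨D, hD⟩ := h2
      rw [Ideal.mem_span_pair]
      exact ⟨D, A', by linear_combination hD⟩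
    · rw [Ideal.span_le]
      rintro x (hx | hx)
      · rw [hx, SetLike.mem_coe, Submodule.mem_colon_singleton, smul_eq_mul, mul_comm e t, hte]
        exact zero_mem _
      · rw [Set.mem_singleton_iff] at hx
        rw [hx, SetLike.mem_coe, Submodule.mem_colon_singleton, smul_eq_mul, hI, mul_comm a t]
        exact Ideal.subset_span (Or.inl rfl)
  have hIe : fixIdeal σ ⊔ Ideal.span ({e} : Set (NodeAlg k 0)) = Ideal.span {e, t * a} := by
    rw [hI]
    apply le_antisymm
    · rw [sup_le_iff, Ideal.span_le, Ideal.span_le]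
      refine ⟨?_, ?_⟩
      · rintro x (hx | hx)
        · rw [hx]; exact Ideal.subset_span (Or.inr rfl)
        · rw [Set.mem_singleton_iff] at hx
          rw [hx]; exact Ideal.mul_mem_left _ _ (Ideal.subset_span (Or.inl rfl))
      · rintro x hx
        rw [Set.mem_singleton_iff] at hx
        rw [hx]; exact Ideal.subset_span (Or.inl rfl)
    · rw [Ideal.span_le]
      rintro x (hx | hx)
      · rw [hx]; exact Ideal.mem_sup_right (Ideal.subset_span rfl)
      · rw [Set.mem_singleton_iff] at hx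
        rw [hx]; exact Ideal.mem_sup_left (Ideal.subset_span (Or.inl rfl))
  have h1 := Len.length_quot_eq_add (fixIdeal σ) t
  have h2 := Len.length_quot_pair_mul t e a hnz
  have h3 : Module.length (NodeAlg k 0) (NodeAlg k 0 ⧸ Ideal.span ({e, t} : Set (NodeAlg k 0))) = 1 := by
    rw [Set.pair_comm, ← hm]
    exact Node.length_quot_maximalIdeal
  rw [hcolon] at h1
  rw [hIe, h2, h3, h1]
  ring

end Groth.Agent.H2.NodeK
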