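import Mathlib
import Groth.Prelude.Def_W4c2arithlefschetzNode
import Groth.Agent.Lib.Helper2.Node3
import Groth.Agent.Lib.Helper2.Node9

/-!
# Fixed-point ideals of automorphisms of `B[[t]]` over a DVR
-/

set_option autoImplicit false
set_option linter.unusedSectionVars false
set_option linter.style.haveILetI false

namespace Groth.Agent.H2.NodeP

open PowerSeries IsLocalRing ArLef

universe u

variable {B : Type u} [CommRing B] [IsDomain B] [IsDiscreteValuationRing B] (π : B)
  [hπ : Fact (Irreducible π)]

theorem ker_map_residue :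
    RingHom.ker (PowerSeries.map (IsLocalRing.residue B)) = Ideal.span {(C π : PowerSeries B)} := by
  have hm : maximalIdeal B = Ideal.span {π} :=
    (IsDiscreteValuationRing.irreducible_iff_uniformizer π).mp hπ.out
  ext F
  rw [RingHom.mem_ker, Ideal.mem_span_singleton]
  constructor
  · intro h
    have h1 : ∀ n, π ∣ coeff n F := by
      intro n
      have h2 : IsLocalRing.residue B (coeff n F) = 0 := by
        have := congrArg (coeff n) h
        rwa [coeff_map, map_zero] at this
      rw [IsLocalRing.residue_eq_zero_iff, hm, Ideal.mem_span_singleton] at h2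
      exact h2
    choose g hg using h1
    refine ⟨PowerSeries.mk g, ?_⟩
    ext n
    rw [coeff_C_mul, coeff_mk, hg n]
  · rintro ⟨G, rfl⟩
    rw [map_mul, map_C]
    have : IsLocalRing.residue B π = 0 := by
      rw [IsLocalRing.residue_eq_zero_iff, hm]
      exact Ideal.subset_span rfl
    rw [this, map_zero, zero_mul]

theorem C_pi_ne_zero : (C π : PowerSeries B) ≠ 0 := by
  intro h
  have := congrArg (coeff 0) h
  rw [coeff_zero_C, map_zero] at this
  exact hπ.out.ne_zero this

theorem prime_C_pi : Prime (C π : PowerSeries B) := by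
  have h1 : (RingHom.ker (PowerSeries.map (IsLocalRing.residue B))).IsPrime :=
    RingHom.ker_isPrime _
  rw [ker_map_residue π] at h1
  exact (Ideal.span_singleton_prime (C_pi_ne_zero π)).mp h1

theorem X_mem_maximalIdeal : (X : PowerSeries B) ∈ maximalIdeal (PowerSeries B) := by
  rw [mem_maximalIdeal, mem_nonunits_iff]
  intro h
  have := PowerSeries.isUnit_iff_constantCoeff.mp h
  rw [constantCoeff_X] at this
  exact not_isUnit_zero this

theorem poly_sub_mem (σ : PowerSeries B ≃+* PowerSeries B) (I₀ : Ideal (PowerSeries B))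
    (hX : σ X - X ∈ I₀) (hC : ∀ b : B, σ (C b) - C b ∈ I₀) (q : Polynomial B) :
    σ (q : PowerSeries B) - (q : PowerSeries B) ∈ I₀ := by
  induction q using Polynomial.induction_on with
  | C b => rw [Polynomial.coe_C]; exact hC b
  | add p q hp hq =>
    rw [Polynomial.coe_add, map_add]
    have : σ (p : PowerSeries B) + σ (q : PowerSeries B) - ((p : PowerSeries B) + (q : PowerSeries B)) =
        (σ (p : PowerSeries B) - (p : PowerSeries B)) +
          (σ (q : PowerSeries B) - (q : PowerSeries B)) := by ring
    rw [this]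
    exact add_mem hp hq
  | monomial n a h =>
    have h1 : ((Polynomial.C a * Polynomial.X ^ (n + 1) : Polynomial B) : PowerSeries B) =
        ((Polynomial.C a * Polynomial.X ^ n : Polynomial B) : PowerSeries B) * X := by
      rw [pow_succ, ← mul_assoc, Polynomial.coe_mul _ Polynomial.X, Polynomial.coe_X]
    rw [h1, map_mul]
    have : σ ((Polynomial.C a * Polynomial.X ^ n : Polynomial B) : PowerSeries B) * σ X -
        ((Polynomial.C a * Polynomial.X ^ n : Polynomial B) : PowerSeries B) * X =
        σ ((Polynomial.C a * Polynomial.X ^ n : Polynomial B) : PowerSeries B) * (σ X - X) +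
        (σ ((Polynomial.C a * Polynomial.X ^ n : Polynomial B) : PowerSeries B) -
          ((Polynomial.C a * Polynomial.X ^ n : Polynomial B) : PowerSeries B)) * X := by ring
    rw [this]
    exact add_mem (Ideal.mul_mem_left _ _ hX) (Ideal.mul_mem_right _ _ h)

theorem sub_mem_of_gens (σ : PowerSeries B ≃+* PowerSeries B) (I₀ : Ideal (PowerSeries B))
    (hX : σ X - X ∈ I₀) (hC : ∀ b : B, σ (C b) - C b ∈ I₀) (r : PowerSeries B) :
    σ r - r ∈ I₀ := by
  apply Node.sub_mem_of_dense σ I₀ (Set.range fun q : Polynomial B => (q : PowerSeries B))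
  · intro r m
    refine ⟨_, ⟨trunc m r, rfl⟩, ?_⟩
    have h1 : X ^ m ∣ r - (trunc m r : PowerSeries B) := by
      rw [X_pow_dvd_iff]
      intro i hi
      rw [map_sub, Polynomial.coeff_coe, coeff_trunc, if_pos hi, sub_self]
    obtain ⟨G, hG⟩ := h1
    rw [hG]
    exact Ideal.mul_mem_right _ _ (Ideal.pow_mem_pow X_mem_maximalIdeal m)
  · rintro _ ⟨q, rfl⟩
    exact poly_sub_mem σ I₀ hX hC q

theorem fixIdeal_eq (j : ℕ) (γ : B) (hγ : IsUnit γ) (σ : PowerSeries B ≃+* PowerSeries B)
    (hσB : ∀ b : B, σ (algebraMap B (PowerSeries B) b) - algebraMap B (PowerSeries B) b ∈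
      Ideal.span ({algebraMap B (PowerSeries B) (π ^ j)} : Set (PowerSeries B)))
    (hσπ : σ (algebraMap B (PowerSeries B) π) = algebraMap B (PowerSeries B) (π + γ * π ^ j)) :
    fixIdeal σ = Ideal.span {σ X - X, algebraMap B (PowerSeries B) (π ^ j)} := by
  apply le_antisymm
  · unfold fixIdeal
    rw [Ideal.span_le]
    rintro _ ⟨r, rfl⟩
    apply sub_mem_of_gens σ
    · exact Ideal.subset_span (by simp)
    · intro b
      exact Ideal.span_mono (by simp) (hσB b)
  · rw [Ideal.span_le]
    rintro x (hx | hx)
    · rw [hx]; exact Ideal.subset_span ⟨_, rfl⟩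
    · rw [Set.mem_singleton_iff] at hx
      rw [hx]
      have h1 : σ (algebraMap B (PowerSeries B) π) - algebraMap B (PowerSeries B) π ∈ fixIdeal σ :=
        Ideal.subset_span ⟨_, rfl⟩
      rw [hσπ, map_add, add_sub_cancel_left, map_mul] at h1
      exact (Ideal.unit_mul_mem_iff_mem _ (hγ.map _)).mp h1

/-- `ℓ(B[[t]]/(f, π)) = ℓ(k[[t]]/(f mod π))`. -/
theorem length_quot_pair_eq (f : PowerSeries B) :
    Module.length (PowerSeries B) (PowerSeries B ⧸ Ideal.span {f, (C π : PowerSeries B)}) =
      Module.length (PowerSeries (ResidueField B)) (PowerSeries (ResidueField B) ⧸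
        Ideal.span ({PowerSeries.map (IsLocalRing.residue B) f} :
          Set (PowerSeries (ResidueField B)))) := by
  let φ : PowerSeries B →+* PowerSeries (ResidueField B) := PowerSeries.map (IsLocalRing.residue B)
  have hφ : Function.Surjective φ :=
    PowerSeries.map_surjective _ IsLocalRing.residue_surjective
  letI : Algebra (PowerSeries B) (PowerSeries (ResidueField B)) := φ.toAlgebra
  have halg : algebraMap (PowerSeries B) (PowerSeries (ResidueField B)) = φ := rfl
  rw [← Module.length_eq_of_surjective (S := PowerSeries B) (R := PowerSeries (ResidueField B))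
    (M := PowerSeries (ResidueField B) ⧸ Ideal.span ({φ f} : Set (PowerSeries (ResidueField B))))
    (by rw [halg]; exact hφ)]
  let g : PowerSeries B →ₗ[PowerSeries B]
      (PowerSeries (ResidueField B) ⧸ Ideal.span ({φ f} : Set (PowerSeries (ResidueField B)))) :=
    ((Ideal.span ({φ f} : Set (PowerSeries (ResidueField B)))).mkQ.restrictScalars
      (PowerSeries B)).comp (Algebra.linearMap (PowerSeries B) (PowerSeries (ResidueField B)))
  have hg : Function.Surjective g := by
    intro y
    obtain ⟨z, rfl⟩ := Submodule.mkQ_surjective _ y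
    obtain ⟨x, rfl⟩ := hφ z
    exact ⟨x, rfl⟩
  have hker : LinearMap.ker g = Ideal.span {f, (C π : PowerSeries B)} := by
    ext x
    rw [LinearMap.mem_ker]
    change Submodule.Quotient.mk (φ x) = 0 ↔ _
    rw [Submodule.Quotient.mk_eq_zero]
    have h1 : Ideal.span ({φ f} : Set (PowerSeries (ResidueField B))) =
        (Ideal.span ({f} : Set (PowerSeries B))).map φ := by
      rw [Ideal.map_span, Set.image_singleton]
    rw [h1, ← Ideal.mem_comap, Ideal.comap_map_of_surjective φ hφ, ← RingHom.ker_eq_comap_bot]
    change x ∈ Ideal.span {f} ⊔ RingHom.ker (PowerSeries.map (IsLocalRing.residue B)) ↔ _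
    rw [ker_map_residue π, ← Ideal.span_union, Set.singleton_union]
  exact ((Submodule.quotEquivOfEq _ _ hker.symm).trans
    (LinearMap.quotKerEquivOfSurjective g hg)).length_eq

theorem length_pair_pow (f : PowerSeries B) (hf : ¬ (C π : PowerSeries B) ∣ f) (n : ℕ) :
    Module.length (PowerSeries B) (PowerSeries B ⧸
        Ideal.span {f, (C π : PowerSeries B) ^ n}) =
      (n : ℕ∞) * Module.length (PowerSeries (ResidueField B)) (PowerSeries (ResidueField B) ⧸
        Ideal.span ({PowerSeries.map (IsLocalRing.residue B) f} :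
          Set (PowerSeries (ResidueField B)))) := by
  have h1 := Len.length_pair_pow_mul (C π : PowerSeries B) f 1
    (Len.nzdMod_of_prime (prime_C_pi π) hf) n
  rw [mul_one, Len.length_quot_top' _ (Len.span_pair_one f), zero_add, length_quot_pair_eq] at h1
  exact h1

theorem length_smooth_point (j : ℕ) (γ : B) (hγ : IsUnit γ)
    (σ : PowerSeries B ≃+* PowerSeries B)
    (hσB : ∀ b : B, σ (algebraMap B (PowerSeries B) b) - algebraMap B (PowerSeries B) b ∈
      Ideal.span ({algebraMap B (PowerSeries B) (π ^ j)} : Set (PowerSeries B)))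
    (hσπ : σ (algebraMap B (PowerSeries B) π) = algebraMap B (PowerSeries B) (π + γ * π ^ j))
    (h0 : ¬ (algebraMap B (PowerSeries B) π ∣ σ PowerSeries.X - PowerSeries.X)) :
    Module.length (PowerSeries B) (PowerSeries B ⧸ fixIdeal σ) =
      (j : ℕ∞) * Module.length (PowerSeries (ResidueField B)) (PowerSeries (ResidueField B) ⧸
        Ideal.span ({PowerSeries.map (IsLocalRing.residue B) (σ PowerSeries.X - PowerSeries.X)} :
          Set (PowerSeries (ResidueField B)))) := by
  have hCp : algebraMap B (PowerSeries B) π = C π := rfl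
  rw [fixIdeal_eq π j γ hγ σ hσB hσπ, map_pow, hCp]
  rw [hCp] at h0
  exact length_pair_pow π _ h0 j

theorem length_smooth_point_colon (j i : ℕ) (hij : i < j) (γ : B) (hγ : IsUnit γ)
    (σ : PowerSeries B ≃+* PowerSeries B)
    (hσB : ∀ b : B, σ (algebraMap B (PowerSeries B) b) - algebraMap B (PowerSeries B) b ∈
      Ideal.span ({algebraMap B (PowerSeries B) (π ^ j)} : Set (PowerSeries B)))
    (hσπ : σ (algebraMap B (PowerSeries B) π) = algebraMap B (PowerSeries B) (π + γ * π ^ j))
    (f : PowerSeries B)
    (hf : σ PowerSeries.X - PowerSeries.X = algebraMap B (PowerSeries B) (π ^ i) * f)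
    (hfπ : ¬ (algebraMap B (PowerSeries B) π ∣ f)) :
    Module.length (PowerSeries B) (PowerSeries B ⧸ (fixIdeal σ).colon
        ({algebraMap B (PowerSeries B) (π ^ i)} : Set (PowerSeries B))) =
      ((j - i : ℕ) : ℕ∞) * Module.length (PowerSeries (ResidueField B))
        (PowerSeries (ResidueField B) ⧸
          Ideal.span ({PowerSeries.map (IsLocalRing.residue B) f} :
            Set (PowerSeries (ResidueField B)))) := by
  have hCp : algebraMap B (PowerSeries B) π = C π := rfl
  rw [fixIdeal_eq π j γ hγ σ hσB hσπ, hf, map_pow, map_pow, hCp]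
  rw [hCp] at hfπ
  have h1 : (C π : PowerSeries B) ^ j = (C π : PowerSeries B) ^ i * (C π : PowerSeries B) ^ (j - i) := by
    rw [← pow_add]; congr 1; omega
  have h2 : Ideal.span ({(C π : PowerSeries B) ^ i * f,
      (C π : PowerSeries B) ^ i * (C π : PowerSeries B) ^ (j - i)} : Set (PowerSeries B)) =
      Ideal.span {(C π : PowerSeries B) ^ i} * Ideal.span {f, (C π : PowerSeries B) ^ (j - i)} := by
    rw [Ideal.span_mul_span', Set.singleton_mul, Set.image_pair]
  rw [h1, h2, Len.colon_span_singleton_mul _ (pow_ne_zero _ (C_pi_ne_zero π))]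
  exact length_pair_pow π f hfπ (j - i)

end Groth.Agent.H2.NodeP
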