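import Mathlib
import Groth.Agent.Lib.Helper2.MatRes
import Groth.Agent.Lib.Helper2.PdTor

/-! The 2-periodic minimal free resolution of `A ⧸ (x, y)` over a "node" `A` (`x y = 0`,
`Ann x = (y)`, `Ann y = (x)`, and more precisely `a x + b y = 0 → a ∈ (y), b ∈ (x)`), with the
example `k[x, y] / (x y)`. -/

universe u

namespace Groth.Agent.H2.NodeRes

open CategoryTheory

section Generic

variable {A : Type u} [CommRing A] (x y : A)

/-- ranks `1, 2, 2, 2, …` -/
def rk : ℕ → ℕ
  | 0 => 1
  | _ + 1 => 2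

/-- the alternating diagonal matrices -/
def D (i : ℕ) : Matrix (Fin 2) (Fin 2) A :=
  if Even i then Matrix.diagonal ![y, x] else Matrix.diagonal ![x, y]

/-- the differentials -/
def d : (i : ℕ) → Matrix (Fin (rk i)) (Fin (rk (i + 1))) A
  | 0 => Matrix.of ![![x, y]]
  | i + 1 => D x y i

lemma exact_diag (p q : A) (hpq : p * q = 0) (hp : ∀ a, p * a = 0 → ∃ a', a = q * a')
    (hq : ∀ a, q * a = 0 → ∃ a', a = p * a') :
    LinearMap.ker (Matrix.mulVecLin (Matrix.diagonal ![p, q])) =
      LinearMap.range (Matrix.mulVecLin (Matrix.diagonal ![q, p])) := by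
  ext w
  simp only [LinearMap.mem_ker, LinearMap.mem_range, Matrix.mulVecLin_apply]
  constructor
  · intro h
    have h0 : p * w 0 = 0 := by
      have := congrFun h 0
      simpa [Matrix.mulVec_diagonal] using this
    have h1 : q * w 1 = 0 := by
      have := congrFun h 1
      simpa [Matrix.mulVec_diagonal] using this
    obtain ⟨a, ha⟩ := hp _ h0
    obtain ⟨b, hb⟩ := hq _ h1
    refine ⟨![a, b], ?_⟩
    ext j
    fin_cases j
    · simp [Matrix.mulVec_diagonal, ha]
    · simp [Matrix.mulVec_diagonal, hb]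
  · rintro ⟨u, rfl⟩
    ext j
    fin_cases j
    · simp [Matrix.mulVec_diagonal, ← mul_assoc, hpq]
    · simp [Matrix.mulVec_diagonal, ← mul_assoc, mul_comm q p, hpq]

variable (hxy : x * y = 0)
  (H : ∀ a b : A, a * x + b * y = 0 → ∃ a' b', a = y * a' ∧ b = x * b')

include hxy H

lemma ann_x (a : A) (h : x * a = 0) : ∃ a', a = y * a' := by
  obtain ⟨a', _, ha, _⟩ := H a 0 (by rw [zero_mul, add_zero, mul_comm]; exact h)
  exact ⟨a', ha⟩

lemma ann_y (a : A) (h : y * a = 0) : ∃ a', a = x * a' := by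
  obtain ⟨_, b', _, hb⟩ := H 0 a (by rw [zero_mul, zero_add, mul_comm]; exact h)
  exact ⟨b', hb⟩

lemma exact_D (i : ℕ) :
    LinearMap.ker (Matrix.mulVecLin (D x y i)) =
      LinearMap.range (Matrix.mulVecLin (D x y (i + 1))) := by
  unfold D
  by_cases hi : Even i
  · have hi' : ¬ Even (i + 1) := by
      rw [Nat.even_add_one]; exact not_not.2 hi
    rw [if_pos hi, if_neg hi']
    exact exact_diag y x (by rw [mul_comm]; exact hxy) (ann_y x y hxy H) (ann_x x y hxy H)
  · have hi' : Even (i + 1) := by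
      rw [Nat.even_add_one]; exact hi
    rw [if_neg hi, if_pos hi']
    exact exact_diag x y hxy (ann_x x y hxy H) (ann_y x y hxy H)

lemma aug_surj_aux : Function.Surjective
    (Fintype.linearCombination A (fun _ : Fin 1 => (1 : A ⧸ Ideal.span {x, y}))) := by
  intro c
  obtain ⟨a, rfl⟩ := Ideal.Quotient.mk_surjective c
  refine ⟨fun _ => a, ?_⟩
  rw [Fintype.linearCombination_apply, Fin.sum_univ_one, Algebra.smul_def, mul_one]
  rfl

omit hxy H in
lemma exact_zero_aux :
    LinearMap.ker (Fintype.linearCombination A (fun _ : Fin 1 => (1 : A ⧸ Ideal.span {x, y}))) =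
      LinearMap.range (Matrix.mulVecLin (Matrix.of ![![x, y]] : Matrix (Fin 1) (Fin 2) A)) := by
  ext v
  rw [LinearMap.mem_ker, Fintype.linearCombination_apply, Fin.sum_univ_one, Algebra.smul_def,
    mul_one, Ideal.Quotient.algebraMap_eq, Ideal.Quotient.eq_zero_iff_mem, Ideal.mem_span_pair,
    LinearMap.mem_range]
  constructor
  · rintro ⟨a, b, hab⟩
    refine ⟨![a, b], ?_⟩
    ext j
    obtain rfl : j = 0 := Subsingleton.elim _ _
    simp [Matrix.mulVec, dotProduct, Fin.sum_univ_two, ← hab, mul_comm]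
  · rintro ⟨w, rfl⟩
    refine ⟨w 0, w 1, ?_⟩
    simp [Matrix.mulVec, dotProduct, Fin.sum_univ_two, mul_comm]

lemma exact_one_aux :
    LinearMap.ker (Matrix.mulVecLin (Matrix.of ![![x, y]] : Matrix (Fin 1) (Fin 2) A)) =
      LinearMap.range (Matrix.mulVecLin (D x y 0)) := by
  unfold D
  rw [if_pos (by decide : Even 0)]
  ext w
  simp only [LinearMap.mem_ker, LinearMap.mem_range, Matrix.mulVecLin_apply]
  constructor
  · intro h
    have h0 : w 0 * x + w 1 * y = 0 := by
      have := congrFun h 0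
      simpa [Matrix.mulVec, dotProduct, Fin.sum_univ_two, mul_comm] using this
    obtain ⟨a', b', ha, hb⟩ := H _ _ h0
    refine ⟨![a', b'], ?_⟩
    ext j
    fin_cases j
    · simp [Matrix.mulVec_diagonal, ha]
    · simp [Matrix.mulVec_diagonal, hb]
  · rintro ⟨u, rfl⟩
    ext j
    obtain rfl : j = 0 := Subsingleton.elim _ _
    simp only [Matrix.mulVec, dotProduct, Fin.sum_univ_two, Matrix.of_apply,
      Matrix.cons_val_zero, Matrix.cons_val_one, Matrix.diagonal_apply]
    simp [← mul_assoc, hxy, mul_comm y x]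

/-- The periodic resolution. -/
noncomputable def res : MatRes A (A ⧸ Ideal.span {x, y}) where
  rk := rk
  d := d x y
  aug := fun _ => 1
  aug_surjective := aug_surj_aux x y hxy H
  exact_zero := exact_zero_aux x y
  exact_succ := by
    intro i
    cases i with
    | zero => exact exact_one_aux x y hxy H
    | succ i => exact exact_D x y hxy H i

lemma res_rk_succ (i : ℕ) : (res x y hxy H).rk (i + 1) = 2 := rfl

omit hxy H in
lemma d0_mem (a : Fin 1) (b : Fin 2) :
    (Matrix.of ![![x, y]] : Matrix (Fin 1) (Fin 2) A) a b ∈ Ideal.span {x, y} := by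
  have hx : x ∈ Ideal.span {x, y} := Ideal.subset_span (by simp)
  have hy : y ∈ Ideal.span {x, y} := Ideal.subset_span (by simp)
  obtain rfl : a = 0 := Subsingleton.elim _ _
  fin_cases b
  · exact hx
  · exact hy

omit hxy H in
lemma D_mem (i : ℕ) (a b : Fin 2) : D x y i a b ∈ Ideal.span {x, y} := by
  have hx : x ∈ Ideal.span {x, y} := Ideal.subset_span (by simp)
  have hy : y ∈ Ideal.span {x, y} := Ideal.subset_span (by simp)
  unfold D
  split_ifs
  · rw [Matrix.diagonal_apply]
    split_ifs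
    · fin_cases a
      · exact hy
      · exact hx
    · exact zero_mem _
  · rw [Matrix.diagonal_apply]
    split_ifs
    · fin_cases a
      · exact hx
      · exact hy
    · exact zero_mem _

lemma res_min (i : ℕ) (a : Fin ((res x y hxy H).rk i)) (b : Fin ((res x y hxy H).rk (i + 1))) :
    (res x y hxy H).d i a b ∈ Ideal.span {x, y} := by
  cases i with
  | zero => exact d0_mem x y a b
  | succ i => exact D_mem x y i a b

theorem length_tor [(Ideal.span {x, y}).IsMaximal] (i : ℕ) (hi : 1 ≤ i) :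
    Module.length A (((Tor (ModuleCat.{u} A) i).obj
      (ModuleCat.of A (A ⧸ Ideal.span {x, y}))).obj (ModuleCat.of A (A ⧸ Ideal.span {x, y}))) =
      2 := by
  obtain ⟨j, rfl⟩ : ∃ j, i = j + 1 := ⟨i - 1, by omega⟩
  rw [(res x y hxy H).length_tor (Ideal.span {x, y}) (res_min x y hxy H) (j + 1)]
  rfl

theorem not_hasProjectiveDimensionLT (hne : Ideal.span {x, y} ≠ ⊤) (n : ℕ) :
    ¬ HasProjectiveDimensionLT (ModuleCat.of A (A ⧸ Ideal.span {x, y})) n := by
  intro h
  have h' : HasProjectiveDimensionLE (ModuleCat.of A (A ⧸ Ideal.span {x, y})) n :=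
    hasProjectiveDimensionLT_of_ge _ n (n + 1) (by omega)
  have := ((res x y hxy H).rk_eq_zero_iff_hasProjectiveDimensionLE (Ideal.span {x, y}) hne
    (res_min x y hxy H) n).2 h' (n + 1) (by omega)
  rw [res_rk_succ] at this
  omega

end Generic

section Poly

open MvPolynomial

variable (k : Type u) [Field k]

/-- the ideal `(xy)` of `k[x, y]` -/
noncomputable abbrev I : Ideal (MvPolynomial (Fin 2) k) :=
  Ideal.span {(MvPolynomial.X 0 * MvPolynomial.X 1 : MvPolynomial (Fin 2) k)}

/-- `x̄` -/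
noncomputable abbrev xb : MvPolynomial (Fin 2) k ⧸ I k := Ideal.Quotient.mk (I k) (MvPolynomial.X 0)

/-- `ȳ` -/
noncomputable abbrev yb : MvPolynomial (Fin 2) k ⧸ I k := Ideal.Quotient.mk (I k) (MvPolynomial.X 1)

lemma xb_mul_yb : xb k * yb k = 0 := by
  rw [← map_mul, Ideal.Quotient.eq_zero_iff_mem]
  exact Ideal.subset_span rfl

lemma not_X1_dvd_X0 : ¬ ((X 1 : MvPolynomial (Fin 2) k) ∣ X 0) := by
  rintro ⟨g, hg⟩
  have := congrArg (MvPolynomial.eval (![1, 0] : Fin 2 → k)) hg
  simp at this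

lemma not_X0_dvd_X1 : ¬ ((X 0 : MvPolynomial (Fin 2) k) ∣ X 1) := by
  rintro ⟨g, hg⟩
  have := congrArg (MvPolynomial.eval (![0, 1] : Fin 2 → k)) hg
  simp at this

lemma key (a b : MvPolynomial (Fin 2) k ⧸ I k) (h : a * xb k + b * yb k = 0) :
    ∃ a' b', a = yb k * a' ∧ b = xb k * b' := by
  obtain ⟨p, rfl⟩ := Ideal.Quotient.mk_surjective a
  obtain ⟨q, rfl⟩ := Ideal.Quotient.mk_surjective b
  rw [← map_mul, ← map_mul, ← map_add, Ideal.Quotient.eq_zero_iff_mem,
    Ideal.mem_span_singleton'] at h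
  obtain ⟨c, hc⟩ := h
  have h1 : (X 1 : MvPolynomial (Fin 2) k) ∣ p * X 0 :=
    ⟨c * X 0 - q, by linear_combination (-1 : MvPolynomial (Fin 2) k) * hc⟩
  have h2 : (X 0 : MvPolynomial (Fin 2) k) ∣ q * X 1 :=
    ⟨c * X 1 - p, by linear_combination (-1 : MvPolynomial (Fin 2) k) * hc⟩
  rw [MvPolynomial.X_dvd_mul_iff] at h1 h2
  obtain ⟨p', rfl⟩ := h1.resolve_right (not_X1_dvd_X0 k)
  obtain ⟨q', rfl⟩ := h2.resolve_right (not_X0_dvd_X1 k)
  exact ⟨Ideal.Quotient.mk _ p', Ideal.Quotient.mk _ q', by rw [← map_mul], by rw [← map_mul]⟩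

/-- the augmentation `k[x,y]/(xy) → k` -/
noncomputable def φ : (MvPolynomial (Fin 2) k ⧸ I k) →+* k :=
  Ideal.Quotient.lift (I k) MvPolynomial.constantCoeff (by
    intro a ha
    rw [Ideal.mem_span_singleton'] at ha
    obtain ⟨c, rfl⟩ := ha
    simp)

lemma exists_sub_C_mem (p : MvPolynomial (Fin 2) k) :
    ∃ c : k, p - C c ∈ Ideal.span {(X 0 : MvPolynomial (Fin 2) k), X 1} := by
  induction p using MvPolynomial.induction_on with
  | C a => exact ⟨a, by simp⟩
  | add p q hp hq =>
    obtain ⟨c, hc⟩ := hp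
    obtain ⟨c', hc'⟩ := hq
    refine ⟨c + c', ?_⟩
    have : p + q - C (c + c') = (p - C c) + (q - C c') := by rw [map_add]; ring
    rw [this]
    exact add_mem hc hc'
  | mul_X p i _ =>
    refine ⟨0, ?_⟩
    rw [map_zero, sub_zero]
    apply Ideal.mul_mem_left
    fin_cases i
    · exact Ideal.subset_span (by simp)
    · exact Ideal.subset_span (by simp)

lemma span_eq_ker : Ideal.span {xb k, yb k} = RingHom.ker (φ k) := by
  apply le_antisymm
  · rw [Ideal.span_le]
    rintro z (rfl | rfl)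
    · show φ k (xb k) = 0
      simp [φ, xb]
    · show φ k (yb k) = 0
      simp [φ, yb]
  · intro a ha
    obtain ⟨p, rfl⟩ := Ideal.Quotient.mk_surjective a
    have hp : constantCoeff p = 0 := ha
    obtain ⟨c, hc⟩ := exists_sub_C_mem k p
    have hle : Ideal.span {(X 0 : MvPolynomial (Fin 2) k), X 1} ≤
        RingHom.ker (constantCoeff : MvPolynomial (Fin 2) k →+* k) := by
      rw [Ideal.span_le]
      rintro z (rfl | rfl)
      · simp
      · simp
    have h0 : constantCoeff (p - C c) = 0 := hle hc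
    rw [map_sub, hp, constantCoeff_C, zero_sub, neg_eq_zero] at h0
    rw [h0, map_zero, sub_zero] at hc
    have : Ideal.span {xb k, yb k} =
        Ideal.map (Ideal.Quotient.mk (I k)) (Ideal.span {(X 0 : MvPolynomial (Fin 2) k), X 1}) := by
      rw [Ideal.map_span, Set.image_pair]
    rw [this]
    exact Ideal.mem_map_of_mem _ hc

instance isMaximal_span : (Ideal.span {xb k, yb k}).IsMaximal := by
  rw [span_eq_ker]
  apply RingHom.ker_isMaximal_of_surjective
  intro c
  exact ⟨Ideal.Quotient.mk _ (C c), by simp [φ]⟩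

end Poly

end Groth.Agent.H2.NodeRes
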