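import Mathlib.RingTheory.Noetherian.Basic
import Mathlib.RingTheory.Ideal.Quotient.Operations
import Mathlib.RingTheory.Finiteness.Basic

/-! `R/(a ⊓ b)` is Noetherian if `R/a` and `R/b` are. -/

namespace Groth.Agent.H2

theorem isNoetherian_quotient_of_isNoetherianRing {R : Type*} [CommRing R] (a : Ideal R)
    [IsNoetherianRing (R ⧸ a)] : IsNoetherian R (R ⧸ a) := by
  rw [isNoetherian_def]
  intro N
  -- `N` as an ideal of `R ⧸ a`
  let N' : Ideal (R ⧸ a) :=
    { carrier := N
      add_mem' := N.add_mem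
      zero_mem' := N.zero_mem
      smul_mem' := by
        intro c x hx
        obtain ⟨r, rfl⟩ := Ideal.Quotient.mk_surjective c
        exact N.smul_mem r hx }
  have hfg : N'.FG := IsNoetherian.noetherian N'
  obtain ⟨s, hs⟩ := hfg
  refine ⟨s, ?_⟩
  have h1 := Submodule.restrictScalars_span R (R ⧸ a) (M := R ⧸ a)
    (Ideal.Quotient.mk_surjective (I := a)) (s : Set (R ⧸ a))
  have hs' : Submodule.span (R ⧸ a) (s : Set (R ⧸ a)) = N' := hs
  rw [hs'] at h1
  rw [← h1]
  ext x
  rfl

theorem isNoetherianRing_quotient_inf {R : Type*} [CommRing R] (a b : Ideal R)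
    [IsNoetherianRing (R ⧸ a)] [IsNoetherianRing (R ⧸ b)] : IsNoetherianRing (R ⧸ (a ⊓ b)) := by
  have ha := isNoetherian_quotient_of_isNoetherianRing a
  have hb := isNoetherian_quotient_of_isNoetherianRing b
  let f : (R ⧸ (a ⊓ b)) →ₗ[R] (R ⧸ a) × (R ⧸ b) :=
    LinearMap.prod (Submodule.liftQ _ (Submodule.mkQ a) (by
        intro x hx
        simp only [LinearMap.mem_ker, Submodule.mkQ_apply, Submodule.Quotient.mk_eq_zero]
        exact hx.1))
      (Submodule.liftQ _ (Submodule.mkQ b) (by
        intro x hx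
        simp only [LinearMap.mem_ker, Submodule.mkQ_apply, Submodule.Quotient.mk_eq_zero]
        exact hx.2))
  have hf : Function.Injective f := by
    rw [injective_iff_map_eq_zero]
    intro x hx
    obtain ⟨r, rfl⟩ := Submodule.mkQ_surjective _ x
    have h1 := congrArg Prod.fst hx
    have h2 := congrArg Prod.snd hx
    simp only [f, LinearMap.prod_apply, Function.prod, Submodule.mkQ_apply, Submodule.liftQ_apply,
      Prod.fst_zero, Prod.snd_zero, Submodule.Quotient.mk_eq_zero] at h1 h2
    rw [Submodule.mkQ_apply, Submodule.Quotient.mk_eq_zero]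
    exact ⟨h1, h2⟩
  have h1 : IsNoetherian R (R ⧸ (a ⊓ b)) := isNoetherian_of_injective f hf
  exact isNoetherian_of_tower R h1

end Groth.Agent.H2
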