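import Mathlib
import Groth.Prelude.Def_EtBase
import Groth.Prelude.Def_PBC
import Groth.Agent.Lib.Helper2.ColimD
import Groth.Agent.Lib.Helper2.SubFLCJ

set_option autoImplicit false
set_option linter.style.haveILetI false
set_option linter.unusedSectionVars false
set_option linter.unusedVariables false
universe u

open CategoryTheory CategoryTheory.Limits Opposite AlgebraicGeometry
open scoped ZeroObject

namespace Groth.Agent.H2.Colim

variable {X : Scheme.{u}}

/-- A torsion sheaf on a Noetherian scheme which is a Noetherian object is constructible. -/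
theorem isConstructible_of_isNoetherianObject (X : Scheme.{u}) [IsNoetherian X] (F : EtCoh.Ab X)
    (hF : EtCoh.IsTorsion F) [hN : IsNoetherianObject F] : EtPBC.IsConstructible F := by
  haveI : Nonempty (Obj F) := IsFiltered.nonempty
  let S : Set (Subobject F) := Set.range (fun j : Obj F => Subobject.mk (image.ι j.s))
  have hSne : S.Nonempty := Set.range_nonempty _
  have hwf : WellFounded ((· > ·) : Subobject F → Subobject F → Prop) :=
    (inferInstance : WellFoundedGT (Subobject F)).wf
  obtain ⟨M, ⟨j₀, rfl⟩, hmax⟩ := hwf.has_min S hSne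
  have hle : ∀ j : Obj F, Subobject.mk (image.ι j.s) ≤ Subobject.mk (image.ι j₀.s) := by
    intro j
    let k := IsFiltered.max j₀ j
    have h1 : Subobject.mk (image.ι j₀.s) ≤ Subobject.mk (image.ι k.s) :=
      Subobject.mk_le_mk_of_comm (imgMap F (IsFiltered.leftToMax j₀ j)) (imgMap_ι F _)
    have h2 : Subobject.mk (image.ι j.s) ≤ Subobject.mk (image.ι k.s) :=
      Subobject.mk_le_mk_of_comm (imgMap F (IsFiltered.rightToMax j₀ j)) (imgMap_ι F _)
    have h3 : ¬ (Subobject.mk (image.ι k.s) > Subobject.mk (image.ι j₀.s)) :=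
      hmax _ ⟨k, rfl⟩
    have h4 : Subobject.mk (image.ι k.s) = Subobject.mk (image.ι j₀.s) := by
      by_contra hne
      exact h3 (lt_of_le_of_ne h1 (fun h => hne h.symm))
    exact h2.trans h4.le
  let c : Cocone (Dimg F) :=
    { pt := Limits.image j₀.s
      ι :=
        { app := fun j => Subobject.ofMkLEMk _ _ (hle j)
          naturality := fun j k f => by
            rw [← cancel_mono (image.ι j₀.s)]
            change (imgMap F f ≫ Subobject.ofMkLEMk _ _ (hle k)) ≫ image.ι j₀.s =
              (Subobject.ofMkLEMk _ _ (hle j) ≫ 𝟙 _) ≫ image.ι j₀.s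
            rw [Category.assoc, Subobject.ofMkLEMk_comp, imgMap_ι, Category.comp_id,
              Subobject.ofMkLEMk_comp] } }
  have hfac : colimit.desc (Dimg F) c ≫ image.ι j₀.s = κi F := by
    refine colimit.hom_ext fun j => ?_
    rw [colimit.ι_desc_assoc, ι_κi]
    exact Subobject.ofMkLEMk_comp (hle j)
  haveI := epi_κi F hF
  haveI : Epi (image.ι j₀.s) := epi_of_epi_fac hfac
  haveI : IsIso (image.ι j₀.s) := isIso_of_mono_of_epi _
  have hc : EtPBC.IsConstructible (Limits.image j₀.s) :=
    Groth.Agent.H2.SubFLC.S0141_main X (factorThruImage j₀.s) j₀.p.isConstructible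
  exact Groth.Agent.H2.SubFLC.isConstructible_of_iso (asIso (image.ι j₀.s)) hc

theorem S8540_main (X : Scheme.{u}) [IsNoetherian X] (F : EtCoh.Ab X)
    (hF : EtCoh.IsTorsion F) :
    EtPBC.IsConstructible F ↔ IsNoetherianObject F := by
  constructor
  · intro h
    rw [isNoetherianObject_iff_monotone_chain_condition]
    intro c
    obtain ⟨N, hN⟩ := Groth.Agent.H2.SubFLC.S0142_main X F h c
    exact ⟨N, fun m hm => (hN m hm).symm⟩
  · intro h
    exact isConstructible_of_isNoetherianObject X F hF

end Groth.Agent.H2.Colim
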