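import Groth.Agent.Lib.Helper2.RatExt
import Groth.Agent.Lib.Lead.QC.LocFree
import Groth.Agent.Lib.Lead.QC.GlobGen
import Groth.Agent.Lib.Lead.QC.IdealMod
import Groth.Agent.Lib.Lead.QC.InvBasis
import Groth.Agent.Lib.Lead.Ann.SmulEnd

/-! A bundle of rank `> 1` with a nonzero section and a nonzero cosection is not simple
(towards S11503). -/

universe u
set_option autoImplicit false
open CategoryTheory Limits AlgebraicGeometry TopologicalSpace Opposite

namespace Groth.Agent.H2.NonSimple
open Groth.Agent.LD.QC Groth.Agent.LD.Ann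

attribute [-instance] Groth.Agent.LD.QC.stalkModule

variable {X : Scheme.{u}}

/-- a nonzero morphism has a nonzero value on some section. -/
theorem exists_app_ne_zero {M N : X.Modules} (t : M ⟶ N) (ht : t ≠ 0) :
    ∃ (W : X.Opens) (e : Γ(M, W)), t.app W e ≠ 0 := by
  by_contra hcon
  push Not at hcon
  apply ht
  apply Scheme.Modules.hom_ext
  intro U
  ext e
  exact hcon U e

/-- on an integral scheme, the composite of a nonzero cosection and a nonzero section of a finite
locally free module is nonzero. -/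
theorem comp_ne_zero [IsIntegral X] (E : X.Modules) (hE : FlatMod.IsFinLocFree E)
    (s : unitMod X ⟶ E) (hs : s ≠ 0) (t : E ⟶ unitMod X) (ht : t ≠ 0) : t ≫ s ≠ 0 := by
  intro h0
  obtain ⟨W, e, he⟩ := exists_app_ne_zero t ht
  apply hs
  apply unitHom_eq_zero_of_sectionOfHom
  haveI : E.IsQuasicoherent := qc_of_isFinLocFree E hE
  have hne : (W : Set X).Nonempty := by
    by_contra hcon
    rw [Set.not_nonempty_iff_eq_empty] at hcon
    have hW : W = ⊥ := by
      ext x
      simp [hcon]
    subst hW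
    haveI : Subsingleton Γ(X, (⊥ : X.Opens)) := inferInstance
    exact he (Subsingleton.elim (α := Γ(X, (⊥ : X.Opens))) _ _)
  have hη := RatExt.genericPoint_mem W hne
  have htf : ∀ x : X, Module.IsTorsionFree (X.presheaf.stalk x) (E.presheaf.stalk x) := by
    intro x
    haveI := free_stalk_of_isFinLocFree E hE x
    infer_instance
  apply RatExt.eq_zero_of_germ_generic E htf ⊤ trivial
  have h2 : s.app W (t.app W e) = 0 := by
    have := congrArg (fun f => f.app W e) h0
    exact this
  obtain ⟨a, ha⟩ : ∃ a : Γ(X, W), a = t.app W e := ⟨_, rfl⟩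
  rw [← ha] at h2 he
  rw [unitHom_app E s W a, ← unitHom_app_one_res E s (le_top : W ≤ ⊤)] at h2
  have h3 := congrArg (E.presheaf.germ W (genericPoint X) hη) h2
  rw [germ_smul, map_zero, germ_res E _ (le_top : W ≤ ⊤) hη] at h3
  have hga : X.presheaf.germ W (genericPoint X) hη a ≠ 0 := by
    intro h
    have he' : a ≠ (0 : Γ(X, W)) := he
    apply he'
    apply germ_injective_of_isIntegral X (genericPoint X) hη
    rw [h, map_zero]
  haveI := htf (genericPoint X)
  haveI : IsDomain (X.presheaf.stalk (genericPoint X)) := inferInstance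
  exact (smul_eq_zero.mp h3).resolve_left hga

end Groth.Agent.H2.NonSimple

namespace Groth.Agent.H2.NonSimple
open Groth.Agent.LD.QC Groth.Agent.LD.Ann

variable {X : Scheme.{u}}

/-- the composite of a cosection and a section of a bundle of rank `> 1` is never multiplication by
a unit. -/
theorem comp_ne_smulEnd_of_isUnit [Nonempty X] (r : ℕ) (hr : 1 < r) (E : X.Modules)
    (hE : FlatMod.IsFinLocFreeOfRank r E) (s : unitMod X ⟶ E) (t : E ⟶ unitMod X)
    (a : Γ(X, ⊤)) (ha : IsUnit a) : t ≫ s ≠ smulEnd E a := by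
  intro h
  obtain ⟨x⟩ := ‹Nonempty X›
  have hE' : FlatMod.IsFinLocFree E := fun x => by
    obtain ⟨U, hxU, hU⟩ := hE x
    exact ⟨U, r, hxU, hU⟩
  haveI : E.IsQuasicoherent := qc_of_isFinLocFree E hE'
  obtain ⟨U, hU, hxU, ⟨ε⟩⟩ := (isFinLocFreeOfRank_iff E r).mp hE x
  have hinj : Function.Injective (t.app U) := by
    intro e1 e2 h12
    have h1 : s.app U (t.app U e1) = (smulEnd E a).app U e1 := congrArg (fun f => f.app U e1) h
    have h2 : s.app U (t.app U e2) = (smulEnd E a).app U e2 := congrArg (fun f => f.app U e2) h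
    rw [smulEnd_app] at h1 h2
    have hu : IsUnit (X.presheaf.map (homOfLE (le_top : U ≤ ⊤)).op a) := ha.map _
    have h3 : (X.presheaf.map (homOfLE (le_top : U ≤ ⊤)).op a) • e1 =
        (X.presheaf.map (homOfLE (le_top : U ≤ ⊤)).op a) • e2 := by
      rw [← h1, ← h2, h12]
    exact hu.smul_left_cancel.mp h3
  let T : Γ(E, U) →ₗ[Γ(X, U)] Γ(X, U) :=
    { toFun := t.app U
      map_add' := map_add _
      map_smul' := fun c e => Scheme.Modules.Hom.app_smul t c e }
  let T' : (Fin r → Γ(X, U)) →ₗ[Γ(X, U)] (Fin 1 → Γ(X, U)) :=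
    (LinearEquiv.funUnique (Fin 1) Γ(X, U) Γ(X, U)).symm.toLinearMap ∘ₗ T ∘ₗ ε.symm.toLinearMap
  have hT' : Function.Injective T' := by
    intro p q hpq
    have h1 : T (ε.symm p) = T (ε.symm q) :=
      (LinearEquiv.funUnique (Fin 1) Γ(X, U) Γ(X, U)).symm.injective hpq
    exact ε.symm.injective (hinj h1)
  haveI : Nontrivial Γ(X, U) := by
    haveI : Nonempty U := ⟨⟨x, hxU⟩⟩
    infer_instance
  have := le_of_fin_injective Γ(X, U) T' hT'
  omega

end Groth.Agent.H2.NonSimple
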