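import Mathlib
set_option autoImplicit false
universe u

/-! Pure algebra on second exterior powers (towards S11506). -/

namespace Groth.Agent.H2.NonSimple

section alg
variable {A M : Type*} [CommRing A] [AddCommGroup M] [Module A M]

lemma update_pair_one (a b c : M) : Function.update ![a, b] 1 c = ![a, c] := by
  ext i
  fin_cases i <;> simp

/-- `(a, b) ↦ a ∧ b` as a bilinear map. -/
noncomputable def wedge₂ : M →ₗ[A] M →ₗ[A] ⋀[A]^2 M :=
  LinearMap.mk₂ A (fun a b => exteriorPower.ιMulti A 2 ![a, b])
    (fun a a' b => (exteriorPower.ιMulti A 2).map_vecCons_add ![b] a a')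
    (fun c a b => (exteriorPower.ιMulti A 2).map_vecCons_smul ![b] c a)
    (fun a b b' => by
      have := (exteriorPower.ιMulti A 2).map_update_add ![a, b] 1 b b'
      rw [update_pair_one, update_pair_one, update_pair_one] at this
      exact this)
    (fun c a b => by
      have := (exteriorPower.ιMulti A 2).map_update_smul ![a, b] 1 c b
      rw [update_pair_one, update_pair_one] at this
      exact this)

lemma wedge₂_apply (a b : M) :
    wedge₂ (A := A) a b = exteriorPower.ιMulti A 2 ![a, b] := rfl

/-- if `v ∧ b_j = 0` for both members of a basis `b` of a free module of rank two then `v = 0`. -/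
lemma eq_zero_of_wedge_basis_eq_zero (b : Module.Basis (Fin 2) A M) (v : M)
    (h : ∀ j, exteriorPower.ιMulti A 2 ![v, b j] = 0) : v = 0 := by
  have h1 : ∀ j, b.det ![v, b j] = 0 := by
    intro j
    have := congrArg (exteriorPower.alternatingMapLinearEquiv b.det) (h j)
    rw [exteriorPower.alternatingMapLinearEquiv_apply_ιMulti, map_zero] at this
    exact this
  apply b.repr.injective
  rw [map_zero]
  ext i
  have e0 := h1 0
  have e1 := h1 1
  rw [Module.Basis.det_apply, Matrix.det_fin_two] at e0 e1
  simp [Module.Basis.toMatrix_apply] at e0 e1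
  fin_cases i
  · simpa using e1
  · simpa using e0

/-- variant for a family which is a basis in the sense that linear combinations are bijective. -/
lemma eq_zero_of_wedge_eq_zero_of_bijective (b' : Fin 2 → M)
    (hb : Function.Bijective (fun a : Fin 2 → A => ∑ i, a i • b' i)) (v : M)
    (h : ∀ j, exteriorPower.ιMulti A 2 ![v, b' j] = 0) : v = 0 := by
  have hb' : Function.Bijective (Fintype.linearCombination A b') := hb
  let ε : (Fin 2 → A) ≃ₗ[A] M := LinearEquiv.ofBijective (Fintype.linearCombination A b') hb'
  let b : Module.Basis (Fin 2) A M := Module.Basis.ofEquivFun ε.symm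
  have hbb : ∀ j, b j = b' j := by
    intro j
    rw [Module.Basis.coe_ofEquivFun, LinearEquiv.symm_symm]
    change Fintype.linearCombination A b' (Pi.single j 1) = b' j
    rw [Fintype.linearCombination_apply_single, one_smul]
  apply eq_zero_of_wedge_basis_eq_zero b v
  intro j
  rw [hbb j]
  exact h j

end alg

end Groth.Agent.H2.NonSimple
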