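import Groth.Agent.Lib.Helper2.NonSimpleB
import Groth.Agent.Lib.Helper2.NonSimpleC
import Groth.Agent.Lib.Lead.QC.TensorDesc
import Groth.Prelude.Def_ExtPow2

/-! Wedging with a map from a module `N`: the morphism `E ⊗ N ⟶ ⋀²E` (towards S11506). -/

universe u
set_option autoImplicit false
open CategoryTheory Limits AlgebraicGeometry TopologicalSpace Opposite

namespace Groth.Agent.H2.NonSimple
open Groth.Agent.LD.QC

variable {X : Scheme.{u}} (E N L : X.Modules) [E.IsQuasicoherent] [N.IsQuasicoherent]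
  (φ : ∀ U : X.affineOpens, (L.val.obj (op U.1)) ≃ₗ[Γ(X, U.1)]
    ↥(⋀[Γ(X, U.1)]^2 (E.val.obj (op U.1))))
  (hφ : ∀ (U V : X.affineOpens) (h : V.1 ≤ U.1) (e : Fin 2 → E.val.obj (op U.1)),
      L.val.map (homOfLE h).op ((φ U).symm (exteriorPower.ιMulti _ 2 e)) =
        (φ V).symm (exteriorPower.ιMulti _ 2 (fun j => E.val.map (homOfLE h).op (e j))))
  (s : N ⟶ E)

/-- the bilinear maps `(e, ν) ↦ s(ν) ∧ e` on affine opens. -/
noncomputable def wedgeB (U : X.affineOpens) :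
    Γ(E, U.1) →ₗ[Γ(X, U.1)] Γ(N, U.1) →ₗ[Γ(X, U.1)] Γ(L, U.1) :=
  (((wedge₂ (A := Γ(X, U.1)) (M := Γ(E, U.1))).flip).compl₂ (appLinear s U.1)).compr₂
    (φ U).symm.toLinearMap

lemma wedgeB_apply (U : X.affineOpens) (e : Γ(E, U.1)) (ν : Γ(N, U.1)) :
    wedgeB E N L φ s U e ν =
      (φ U).symm (exteriorPower.ιMulti Γ(X, U.1) 2 ![s.app U.1 ν, e]) := rfl

include hφ in
lemma wedgeB_nat (U V : X.affineOpens) (h : V.1 ≤ U.1) (e : Γ(E, U.1)) (ν : Γ(N, U.1)) :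
    L.presheaf.map (homOfLE h).op (wedgeB E N L φ s U e ν) =
      wedgeB E N L φ s V (E.presheaf.map (homOfLE h).op e) (N.presheaf.map (homOfLE h).op ν) := by
  rw [wedgeB_apply, wedgeB_apply]
  refine (hφ U V h ![s.app U.1 ν, e]).trans ?_
  congr 2
  ext j
  fin_cases j
  · exact (app_res s h ν).symm
  · rfl

/-- wedging with `s : N ⟶ E`: the morphism `E ⊗ N ⟶ ⋀²E`, `e ⊗ ν ↦ s(ν) ∧ e`. -/
noncomputable def wedgeHom : CohB1.tensorMod E N ⟶ L :=
  tensorDesc E N L (wedgeB E N L φ s) (wedgeB_nat E N L φ hφ s)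

lemma wedgeHom_app_tmul (U : X.affineOpens) (e : Γ(E, U.1)) (ν : Γ(N, U.1)) :
    (wedgeHom E N L φ hφ s).app U.1 (SecTwist.tmul E N U.1 e ν) =
      (φ U).symm (exteriorPower.ιMulti Γ(X, U.1) 2 ![s.app U.1 ν, e]) :=
  tensorDesc_app_tmul E N L _ _ U e ν

/-- for `E` of rank two, wedging with `s` vanishes only if `s` does. -/
theorem eq_zero_of_wedgeHom_eq_zero (hE : FlatMod.IsFinLocFreeOfRank 2 E)
    (h : wedgeHom E N L φ hφ s = 0) : s = 0 := by
  apply Scheme.Modules.hom_ext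
  intro W
  ext ν
  change s.app W ν = 0
  apply section_eq_zero_of_germ
  intro x hx
  obtain ⟨U₁, e, hxU₁, he⟩ := exists_isBasisFam_of_rank E 2 hE x
  obtain ⟨V, hV, hxV, hVle⟩ := exists_isAffineOpen_mem_and_subset (x := x) (U := U₁ ⊓ W)
    ⟨hxU₁, hx⟩
  have hVU : V ≤ U₁ := fun y hy => (hVle hy).1
  have hVW : V ≤ W := fun y hy => (hVle hy).2
  have h1 : s.app V (N.presheaf.map (homOfLE hVW).op ν) = 0 := by
    apply eq_zero_of_wedge_eq_zero_of_bijective (A := Γ(X, V))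
      (fun i => E.presheaf.map (homOfLE hVU).op (e i)) (he V hVU)
    intro j
    have h2 := wedgeHom_app_tmul E N L φ hφ s ⟨V, hV⟩ (E.presheaf.map (homOfLE hVU).op (e j))
      (N.presheaf.map (homOfLE hVW).op ν)
    rw [h] at h2
    have h3 : (φ ⟨V, hV⟩).symm (exteriorPower.ιMulti Γ(X, V) 2
        ![s.app V (N.presheaf.map (homOfLE hVW).op ν),
          E.presheaf.map (homOfLE hVU).op (e j)]) = 0 := h2.symm
    exact (φ ⟨V, hV⟩).symm.map_eq_zero_iff.mp h3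
  rw [app_res s hVW] at h1
  rw [← germ_res E _ hVW hxV, h1, map_zero]

end Groth.Agent.H2.NonSimple
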