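import Groth.Agent.Lib.Helper2.NonSimpleD
import Groth.Agent.Lib.Lead.QC.TwistEquiv

/-! Moving invertible modules across `Hom` (towards S11506). -/

universe u
set_option autoImplicit false
open CategoryTheory Limits AlgebraicGeometry TopologicalSpace Opposite

namespace Groth.Agent.H2.NonSimple
open Groth.Agent.LD.QC

variable {X : Scheme.{u}}

/-- tensoring with an invertible module is faithful (on quasi-coherent modules). -/
theorem eq_zero_of_tensorMap_eq_zero {L L' : X.Modules} (hL : PicF.IsInvertible L)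
    (hL' : PicF.IsInvertible L') (e : CohB1.tensorMod L L' ≅ unitMod X)
    {A B : X.Modules} [A.IsQuasicoherent] [B.IsQuasicoherent] (φ : A ⟶ B)
    (h : KoszTw.tensorMap φ (𝟙 L) = 0) : φ = 0 := by
  haveI : L.IsQuasicoherent := qc_of_isInvertible _ hL
  haveI : L'.IsQuasicoherent := qc_of_isInvertible _ hL'
  have h1 := backIso_naturality L L' e hL hL' φ
  rw [h, tensorMap_zero_id hL', zero_comp] at h1
  rw [← cancel_epi (backIso L L' e A).hom, ← h1, comp_zero]

/-- a nonzero section of `E ⊗ M'`, `M'` inverse to `M`, gives a nonzero map `M ⟶ E`. -/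
theorem exists_hom_ne_zero_of_section {E M M' : X.Modules} [E.IsQuasicoherent]
    (hM : PicF.IsInvertible M) (hM' : PicF.IsInvertible M')
    (e : CohB1.tensorMod M' M ≅ unitMod X)
    (τ : unitMod X ⟶ CohB1.tensorMod E M') (hτ : τ ≠ 0) : ∃ g : M ⟶ E, g ≠ 0 := by
  haveI : M.IsQuasicoherent := qc_of_isInvertible _ hM
  haveI : M'.IsQuasicoherent := qc_of_isInvertible _ hM'
  haveI : (unitMod X).IsQuasicoherent := qc_of_isInvertible _ (isInvertible_unit X)
  haveI : (CohB1.tensorMod E M').IsQuasicoherent := inferInstance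
  refine ⟨(unitorL' M).inv ≫ KoszTw.tensorMap τ (𝟙 M) ≫ (backIso M' M e E).hom, fun h0 => hτ ?_⟩
  have h1 : KoszTw.tensorMap τ (𝟙 M) = 0 := by
    rw [← cancel_epi (unitorL' M).inv, ← cancel_mono (backIso M' M e E).hom, Category.assoc,
      h0, comp_zero, zero_comp]
  exact eq_zero_of_tensorMap_eq_zero hM hM' (tensorCommAll M M' ≪≫ e) τ h1

/-- a nonzero map `E ⊗ N ⟶ L`, `N'` inverse to `N`, gives a nonzero map `E ⟶ L ⊗ N'`. -/
theorem exists_hom_ne_zero_of_tensor_hom {E N N' L : X.Modules}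
    (hN : PicF.IsInvertible N) (e : CohB1.tensorMod N N' ≅ unitMod X)
    (u : CohB1.tensorMod E N ⟶ L) (hu : u ≠ 0) : ∃ t : E ⟶ CohB1.tensorMod L N', t ≠ 0 := by
  let adj := (twEquiv N N' e).toAdjunction
  refine ⟨adj.homEquiv E L u, fun h0 => hu ?_⟩
  have h1 : u = (adj.homEquiv E L).symm (adj.homEquiv E L u) := by
    rw [Equiv.symm_apply_apply]
  rw [h1, h0, Adjunction.homEquiv_counit]
  have h2 : (twEquiv N N' e).functor.map (0 : E ⟶ (twEquiv N N' e).inverse.obj L) = 0 := by
    change (twF N).map _ = 0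
    rw [twF_map]
    exact tensorMap_zero_id hN
  change (twEquiv N N' e).functor.map 0 ≫ _ = 0
  rw [h2, zero_comp]

end Groth.Agent.H2.NonSimple
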