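import Groth.Agent.Lib.Helper2.NonSimpleE
import Groth.Agent.Lib.Helper2.HypCohA
import Groth.Agent.Lib.Helper2.PnChart
import Groth.Agent.Lib.Helper2.ConstMorD
import Groth.Agent.Lib.Lead.PN.Main
import Groth.Agent.Lib.Lead.PN.Koszul
import Groth.Agent.Lib.Lead.TW.Zero
import Groth.Agent.Lib.Lead.TW.MulX
import Groth.Agent.Lib.Lead.TW.Deg1
import Groth.Agent.Lib.Lead.CohLES.H0

/-! Simple rank two bundles on projective space have no sections after the normalised twist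
(S11506). -/

universe u
set_option autoImplicit false
open CategoryTheory Limits AlgebraicGeometry TopologicalSpace Opposite

namespace Groth.Agent.H2.NonSimple
open Groth.Agent.LD Groth.Agent.LD.QC Groth.Agent.LD.PN Groth.Agent.LD.TW Groth.Agent.LD.Ann Twist

variable (k : Type u) [Field k] (n : ℕ)

/-- inverse pairs of twisting sheaves on projective space. -/
noncomputable def twistInvIso (a b : ℤ) (h : a + b = 0) :
    CohB1.tensorMod (twist (CohB1.polyGrading n k) a) (twist (CohB1.polyGrading n k) b) ≅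
      unitMod (Proj (CohB1.polyGrading n k)) :=
  haveI := isIso_mulTensor_of_span (X_range_mem n k) (irrelevant_eq_span n k) a b
  asIso (mulTensor (CohB1.polyGrading n k) a b) ≪≫ eqToIso (by rw [h]) ≪≫
    twistZeroIso (CohB1.polyGrading n k)

theorem exists_comp_mulX_ne_zero {E : (Proj (CohB1.polyGrading n k)).Modules} (a : ℤ)
    (g : E ⟶ twist (CohB1.polyGrading n k) a) (hg : g ≠ 0) :
    ∃ j, g ≫ mulX (Xd n k j) a ≠ 0 := by
  haveI : IsIntegral (Proj (CohB1.polyGrading n k)) := Groth.Agent.H2.HypCoh.isIntegral_proj k n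
  obtain ⟨W, e, he⟩ := exists_app_ne_zero g hg
  obtain ⟨x, hxW⟩ := nonempty_of_section_ne_zero _ _ he
  have hx : x ∈ (⨆ i : Fin (n + 1), AlgebraicGeometry.Proj.basicOpen (CohB1.polyGrading n k)
      (MvPolynomial.X i)) := by
    rw [Groth.Agent.H2.PnChart.iSup_basicOpen]; trivial
  obtain ⟨j, hxj⟩ := Opens.mem_iSup.mp hx
  refine ⟨j, fun h0 => he ?_⟩
  obtain ⟨V, hVdef⟩ : ∃ V : (Proj (CohB1.polyGrading n k)).Opens,
    V = W ⊓ AlgebraicGeometry.Proj.basicOpen (CohB1.polyGrading n k) (MvPolynomial.X j) := ⟨_, rfl⟩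
  have hVW : V ≤ W := by rw [hVdef]; exact inf_le_left
  have hVj : V ≤ AlgebraicGeometry.Proj.basicOpen (CohB1.polyGrading n k) (MvPolynomial.X j) := by
    rw [hVdef]; exact inf_le_right
  have hbij := mulX_app_bijective (Xd n k j) a V hVj
  have h1 : (mulX (Xd n k j) a).app V (g.app V (E.presheaf.map (homOfLE hVW).op e)) = 0 :=
    congrArg (fun f => f.app V (E.presheaf.map (homOfLE hVW).op e)) h0
  have h2 : g.app V (E.presheaf.map (homOfLE hVW).op e) = 0 := hbij.1 (h1.trans (map_zero _).symm)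
  rw [app_res g] at h2
  exact eq_zero_of_res_eq_zero _ (isFinLocFree_of_isInvertible _ (isInvertible_twist n k a)) hVW
    ⟨x, by rw [hVdef]; exact ⟨hxW, hxj⟩⟩ _ h2

end Groth.Agent.H2.NonSimple

namespace Groth.Agent.H2.NonSimple
open Groth.Agent.LD Groth.Agent.LD.QC Groth.Agent.LD.PN Groth.Agent.LD.TW Groth.Agent.LD.Ann Twist

variable (k : Type u) [Field k] (n : ℕ)

/-- `O(a) ⊗ O(b) ≅ O(a + b)` on projective space. -/
noncomputable def twistMulIso (a b : ℤ) :
    CohB1.tensorMod (twist (CohB1.polyGrading n k) a) (twist (CohB1.polyGrading n k) b) ≅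
      twist (CohB1.polyGrading n k) (a + b) :=
  haveI := isIso_mulTensor_of_span (X_range_mem n k) (irrelevant_eq_span n k) a b
  asIso (mulTensor (CohB1.polyGrading n k) a b)

theorem exists_hom_of_eq (E : (Proj (CohB1.polyGrading n k)).Modules) (a b : ℤ) (hd : a = b)
    (t₂ : E ⟶ twist (CohB1.polyGrading n k) a) (ht₂ : t₂ ≠ 0) :
    ∃ t : E ⟶ twist (CohB1.polyGrading n k) b, t ≠ 0 := by
  subst hd
  exact ⟨t₂, ht₂⟩

theorem exists_hom_of_succ_eq (E : (Proj (CohB1.polyGrading n k)).Modules) (a b : ℤ)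
    (hd : a + 1 = b) (t₂ : E ⟶ twist (CohB1.polyGrading n k) a) (ht₂ : t₂ ≠ 0) :
    ∃ t : E ⟶ twist (CohB1.polyGrading n k) b, t ≠ 0 := by
  subst hd
  obtain ⟨j, hj⟩ := exists_comp_mulX_ne_zero k n a t₂ ht₂
  exact ⟨_, hj⟩

/-- wedging with a nonzero map `O(-k₀) ⟶ E` gives a nonzero map `E ⟶ ⋀²E ⊗ O(k₀)`. -/
theorem exists_hom_det_twist (E : (Proj (CohB1.polyGrading n k)).Modules)
    (hE : FlatMod.IsFinLocFreeOfRank 2 E) (k₀ : ℤ)
    (L : (Proj (CohB1.polyGrading n k)).Modules) (hL : ExtPow.IsExtPow 2 E L)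
    (s : twist (CohB1.polyGrading n k) (-k₀) ⟶ E) (hs : s ≠ 0) :
    ∃ t₁ : E ⟶ CohB1.tensorMod L (twist (CohB1.polyGrading n k) k₀), t₁ ≠ 0 := by
  have hE' : FlatMod.IsFinLocFree E := fun x => by
    obtain ⟨U, hxU, hU⟩ := hE x
    exact ⟨U, 2, hxU, hU⟩
  haveI : E.IsQuasicoherent := qc_of_isFinLocFree E hE'
  haveI := qc_twist n k (-k₀)
  obtain ⟨φ, hφ⟩ := hL
  have hu : wedgeHom E (twist (CohB1.polyGrading n k) (-k₀)) L φ hφ s ≠ 0 :=
    fun h => hs (eq_zero_of_wedgeHom_eq_zero E _ L φ hφ s hE h)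
  exact exists_hom_ne_zero_of_tensor_hom (isInvertible_twist n k (-k₀))
    (twistInvIso k n (-k₀) k₀ (by omega)) _ hu

/-- a rank two bundle on `P^n` with determinant `O(c)` receiving a nonzero map from `O(-k₀)`,
`c + 2 k₀ ∈ {0, -1}`, has a nonzero map to `O(-k₀)`. -/
theorem exists_cosection (E : (Proj (CohB1.polyGrading n k)).Modules)
    (hE : FlatMod.IsFinLocFreeOfRank 2 E) (c k₀ : ℤ)
    (L : (Proj (CohB1.polyGrading n k)).Modules) (hL : ExtPow.IsExtPow 2 E L)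
    (α : L ≅ twist (CohB1.polyGrading n k) c)
    (hk₀ : c + 2 * k₀ = 0 ∨ c + 2 * k₀ = -1)
    (s : twist (CohB1.polyGrading n k) (-k₀) ⟶ E) (hs : s ≠ 0) :
    ∃ t : E ⟶ twist (CohB1.polyGrading n k) (-k₀), t ≠ 0 := by
  obtain ⟨t₁, ht₁⟩ := exists_hom_det_twist k n E hE k₀ L hL s hs
  obtain ⟨β⟩ : Nonempty (CohB1.tensorMod L (twist (CohB1.polyGrading n k) k₀) ≅
      twist (CohB1.polyGrading n k) (c + k₀)) :=
    ⟨(twF (twist (CohB1.polyGrading n k) k₀)).mapIso α ≪≫ twistMulIso k n c k₀⟩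
  have ht₂ : t₁ ≫ β.hom ≠ 0 := fun h => ht₁ (by rw [← cancel_mono β.hom, h, zero_comp])
  rcases hk₀ with h | h
  · exact exists_hom_of_eq k n E (c + k₀) (-k₀) (by omega) _ ht₂
  · exact exists_hom_of_succ_eq k n E (c + k₀) (-k₀) (by omega) _ ht₂

lemma smulEnd_zero' {X : Scheme.{u}} (M : X.Modules) : smulEnd M 0 = 0 := by
  apply Scheme.Modules.hom_ext
  intro U
  ext m
  rw [smulEnd_app, map_zero, zero_smul]
  rfl

/-- **S11506**: a simple rank two bundle on `P^n` with determinant `O(c)` has no sections after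
twisting by `O(k₀)`, `c + 2 k₀ ∈ {0, -1}`. -/
theorem subsingleton_HH0_of_simple (E : (Proj (CohB1.polyGrading n k)).Modules)
    (hE : FlatMod.IsFinLocFreeOfRank 2 E) (c k₀ : ℤ)
    (L : (Proj (CohB1.polyGrading n k)).Modules) (hL : ExtPow.IsExtPow 2 E L)
    (α : L ≅ twist (CohB1.polyGrading n k) c)
    (hk₀ : c + 2 * k₀ = 0 ∨ c + 2 * k₀ = -1)
    (hsimple : ∀ φ : E ⟶ E, ∃ a : Γ(Proj (CohB1.polyGrading n k), ⊤),
      (a = 0 ∨ IsUnit a) ∧ φ = smulEnd E a) :
    Subsingleton (Coh.HH (Proj (CohB1.polyGrading n k))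
      (CohB1.tensorMod E (twist (CohB1.polyGrading n k) k₀)) 0) := by
  haveI : IsIntegral (Proj (CohB1.polyGrading n k)) := Groth.Agent.H2.HypCoh.isIntegral_proj k n
  haveI : Nonempty (Proj (CohB1.polyGrading n k)) :=
    Groth.Agent.H2.ConstMor.nonempty_projSpace k n
  have hE' : FlatMod.IsFinLocFree E := fun x => by
    obtain ⟨U, hxU, hU⟩ := hE x
    exact ⟨U, 2, hxU, hU⟩
  haveI : E.IsQuasicoherent := qc_of_isFinLocFree E hE'
  by_contra hns
  rw [not_subsingleton_iff_nontrivial] at hns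
  obtain ⟨x, hx⟩ := exists_ne (0 : Coh.HH (Proj (CohB1.polyGrading n k))
      (CohB1.tensorMod E (twist (CohB1.polyGrading n k) k₀)) 0)
  obtain ⟨σ, hσdef⟩ : ∃ σ, σ = CL.HH0Equiv _ x := ⟨_, rfl⟩
  have hσ : σ ≠ 0 := by
    rw [hσdef]
    intro h
    exact hx ((CL.HH0Equiv _).injective (h.trans (map_zero _).symm))
  have hτ : homOfSection (CohB1.tensorMod E (twist (CohB1.polyGrading n k) k₀)) σ ≠ 0 := by
    intro h
    apply hσ
    rw [← sectionOfHom_homOfSection _ σ, h]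
    rfl
  obtain ⟨s, hs⟩ := exists_hom_ne_zero_of_section (isInvertible_twist n k (-k₀))
    (isInvertible_twist n k k₀) (twistInvIso k n k₀ (-k₀) (by omega)) _ hτ
  obtain ⟨t, ht⟩ := exists_cosection k n E hE c k₀ L hL α hk₀ s hs
  obtain ⟨a, ha, hφ⟩ := hsimple (t ≫ s)
  rcases ha with rfl | ha
  · rw [smulEnd_zero'] at hφ
    exact comp_ne_zero_inv E hE' _ (isInvertible_twist n k (-k₀)) s hs t ht hφ
  · exact comp_ne_smulEnd_of_isUnit_inv 2 (by omega) E hE _ (isInvertible_twist n k (-k₀)) s t a ha hφ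

end Groth.Agent.H2.NonSimple
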