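import Mathlib
open CategoryTheory CategoryTheory.Limits
universe v u w

namespace Groth.Agent.H2.NonemptyLimits

variable {C : Type u} [Category.{v} C] [HasBinaryProducts C]

lemma hasProduct_fin_succ : ∀ (n : ℕ) (f : Fin (n + 1) → C), HasProduct f
  | 0, f => by
    have : Nonempty (Fin (0 + 1)) := ⟨0⟩
    have : Subsingleton (Fin (0 + 1)) := inferInstanceAs (Subsingleton (Fin 1))
    exact hasProduct_unique f
  | n + 1, f => by
    have := hasProduct_fin_succ n (fun i : Fin (n + 1) => f i.succ)
    let c₁ : Fan fun i : Fin (n + 1) => f i.succ := limit.cone _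
    let c₂ : BinaryFan (f 0) c₁.pt := limit.cone _
    exact HasLimit.mk ⟨extendFan c₁ c₂, extendFanIsLimit f (limit.isLimit _) (limit.isLimit _)⟩

lemma hasProduct_of_finite_nonempty {α : Type w} [Finite α] [Nonempty α] (f : α → C) :
    HasProduct f := by
  obtain ⟨n, ⟨e⟩⟩ := Finite.exists_equiv_fin α
  have hn : n ≠ 0 := by
    rintro rfl
    exact (e (Classical.arbitrary α)).elim0
  obtain ⟨m, rfl⟩ := Nat.exists_eq_succ_of_ne_zero hn
  have := hasProduct_fin_succ m (fun i => f (e.symm i))
  exact hasProduct_of_equiv_of_iso (fun i => f (e.symm i)) f e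
    (fun j => eqToIso (by simp))

theorem hasLimitsOfShape_of_nonempty [HasEqualizers C]
    (J : Type) [SmallCategory J] [FinCategory J] [Nonempty J] : HasLimitsOfShape J C := by
  refine ⟨fun F => ?_⟩
  have : HasLimit (Discrete.functor F.obj) := hasProduct_of_finite_nonempty F.obj
  have : Nonempty (Σ p : J × J, p.1 ⟶ p.2) :=
    ⟨⟨(Classical.arbitrary J, Classical.arbitrary J), 𝟙 _⟩⟩
  have : HasLimit (Discrete.functor fun f : Σ p : J × J, p.1 ⟶ p.2 => F.obj f.1.2) :=
    hasProduct_of_finite_nonempty _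
  exact hasLimit_of_equalizer_and_product F

end Groth.Agent.H2.NonemptyLimits
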