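import Mathlib
import Groth.Prelude.Def_EtBase
import Groth.Agent.Lib.Helper2.ConstUnitC
import Groth.Agent.Lib.Helper2.NormLCB
import Groth.Agent.Lib.Helper2.NormDomB

set_option autoImplicit false
set_option linter.style.haveILetI false
set_option linter.unusedSectionVars false
universe u
open CategoryTheory CategoryTheory.Limits Opposite AlgebraicGeometry Topology Set

namespace Groth.Agent.H2.NormConst

open Groth.Agent.H2.ConstUnit Groth.Agent.H2.NormLC Groth.Agent.H2.NormDom

/-- Compactness of the preimage of a compact open of an affine open under a morphism from an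
affine open. -/
lemma isCompact_inter_preimage {V X : Scheme.{u}} (h : V ⟶ X) {A : V.Opens} (hA : IsAffineOpen A)
    {W : X.Opens} (hW : IsAffineOpen W) (e : A ≤ h ⁻¹ᵁ W) {U' : X.Opens} (hU'W : U' ≤ W)
    (hU' : IsCompact (U' : Set X)) : IsCompact ((A : Set V) ∩ h ⁻¹' (U' : Set X)) := by
  haveI : IsAffine A.toScheme := hA
  haveI : IsAffine W.toScheme := hW
  let r : A.toScheme ⟶ W.toScheme := h.resLE W A e
  have hr : r ≫ W.ι = A.ι ≫ h := Scheme.Hom.resLE_comp_ι _ _
  have hrange : Set.range W.ι = (W : Set X) := W.range_ι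
  have hc1 : IsCompact ((W.ι ⁻¹ᵁ U' : W.toScheme.Opens) : Set W.toScheme) :=
    (W.ι.isOpenEmbedding.isInducing.isCompact_preimage_iff
      (by rw [hrange]; exact hU'W)).2 hU'
  have hc2 : IsCompact ((r ⁻¹ᵁ (W.ι ⁻¹ᵁ U') : A.toScheme.Opens) : Set A.toScheme) :=
    r.isCompact_preimage hc1
  have hc3 := hc2.image A.ι.continuous
  have heq : A.ι '' ((r ⁻¹ᵁ (W.ι ⁻¹ᵁ U') : A.toScheme.Opens) : Set A.toScheme) =
      (A : Set V) ∩ h ⁻¹' (U' : Set X) := by
    ext a
    constructor
    · rintro ⟨a', ha', rfl⟩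
      refine ⟨?_, ?_⟩
      · have : A.ι a' ∈ Set.range A.ι := ⟨a', rfl⟩
        rwa [A.range_ι] at this
      · have h1 : W.ι (r a') ∈ U' := ha'
        rw [← Scheme.Hom.comp_apply, hr, Scheme.Hom.comp_apply] at h1
        exact h1
    · rintro ⟨haA, haU⟩
      obtain ⟨a', rfl⟩ : a ∈ Set.range A.ι := by rw [A.range_ι]; exact haA
      refine ⟨a', ?_, rfl⟩
      change W.ι (r a') ∈ U'
      rw [← Scheme.Hom.comp_apply, hr, Scheme.Hom.comp_apply]
      exact haU
  rw [← heq]
  exact hc3

set_option backward.isDefEq.respectTransparency.types false in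
/-- Main criterion: on a normal scheme, for an open immersion `j` whose image locally contains a
compact dense open, the constant sheaf agrees with `j_* j^*` of itself. -/
theorem isIso_unit_of_normal {X U : Scheme.{u}}
    (hX : ∀ x : X, IsDomain (X.presheaf.stalk x) ∧ IsIntegrallyClosed (X.presheaf.stalk x))
    (j : U ⟶ X) [IsOpenImmersion j]
    (hloc : ∀ x : X, ∃ (W U' : X.Opens), IsAffineOpen W ∧ x ∈ W ∧ U' ≤ W ∧
      (U' : Set X) ⊆ Set.range j ∧ IsCompact (U' : Set X) ∧ (W : Set X) ⊆ closure U')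
    (M : AddCommGrpCat.{u + 1}) :
    IsIso ((EtCoh.pullPushAdj j).unit.app (cS X M)) := by
  apply isIso_unit_of_bijective
  intro V
  haveI : Etale V.hom := V.prop
  have hdom : ∀ v : V.left, IsDomain (V.left.presheaf.stalk v) :=
    fun v => isDomain_stalk_of_etale V.hom hX v
  have hrange : Set.range (pullback.fst V.hom j : ((EtCoh.bc j).obj V).left ⟶ V.left) =
      V.hom ⁻¹' Set.range j := Scheme.Pullback.range_fst V.hom j
  have hgood : Good ((pullback.fst V.hom j : ((EtCoh.bc j).obj V).left ⟶ V.left) :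
      ((EtCoh.bc j).obj V).left → V.left) := by
    apply good_of_scheme _ hdom
    intro x
    obtain ⟨W, U', hW, hxW, hU'W, hU'j, hU'c, hWU'⟩ := hloc (V.hom x)
    obtain ⟨_, ⟨A, hA : IsAffineOpen A, rfl⟩, hxA, hAW⟩ :=
      V.left.isBasis_affineOpens.exists_subset_of_mem_open
        (show x ∈ ((V.hom ⁻¹ᵁ W : V.left.Opens) : Set V.left) from hxW) (V.hom ⁻¹ᵁ W).isOpen
    have hTc : IsCompact ((A : Set V.left) ∩ V.hom ⁻¹' (U' : Set X)) :=
      isCompact_inter_preimage V.hom hA hW hAW hU'W hU'c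
    have hTo : IsOpen ((A : Set V.left) ∩ V.hom ⁻¹' (U' : Set X)) :=
      A.isOpen.inter (U'.isOpen.preimage V.hom.continuous)
    have hTr : (A : Set V.left) ∩ V.hom ⁻¹' (U' : Set X) ⊆
        Set.range (pullback.fst V.hom j : ((EtCoh.bc j).obj V).left ⟶ V.left) := by
      rw [hrange]
      rintro a ⟨-, ha⟩
      exact hU'j ha
    have himg : (pullback.fst V.hom j : ((EtCoh.bc j).obj V).left ⟶ V.left) ''
        ((pullback.fst V.hom j : ((EtCoh.bc j).obj V).left ⟶ V.left) ⁻¹'
          ((A : Set V.left) ∩ V.hom ⁻¹' (U' : Set X))) =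
        (A : Set V.left) ∩ V.hom ⁻¹' (U' : Set X) :=
      Set.image_preimage_eq_of_subset hTr
    refine ⟨A, hA, hxA, _, hTo.preimage (pullback.fst V.hom j).continuous, ?_, ?_, ?_⟩
    · exact ((pullback.fst V.hom j).isOpenEmbedding.isInducing.isCompact_preimage_iff hTr).2 hTc
    · rw [himg]
      exact Set.inter_subset_left
    · rw [himg]
      intro a haA
      rw [mem_closure_iff]
      intro N hN haN
      have hopen : IsOpen (V.hom '' (N ∩ (A : Set V.left))) :=
        V.hom.isOpenMap _ (hN.inter A.isOpen)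
      have hmem : V.hom a ∈ V.hom '' (N ∩ (A : Set V.left)) := ⟨a, ⟨haN, haA⟩, rfl⟩
      obtain ⟨_, ⟨a', ⟨ha'N, ha'A⟩, rfl⟩, hu⟩ :=
        mem_closure_iff.1 (hWU' (hAW haA)) _ hopen hmem
      exact ⟨a', ha'N, ha'A, hu⟩
  exact comap_bijective (pullback.fst V.hom j).isOpenEmbedding hgood

end Groth.Agent.H2.NormConst
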