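import Mathlib

/-! Normality of a quasi-compact scheme can be checked at closed points. helper2 -/

set_option autoImplicit false
universe u

open CategoryTheory AlgebraicGeometry Topology TopologicalSpace

namespace Groth.Agent.H2.NormalClosedPts

/-- If `x ⤳ y` and the stalk at `y` is an integrally closed domain, so is the stalk at `x`. -/
theorem stalk_normal_of_specializes (X : Scheme.{u}) {x y : X} (h : x ⤳ y)
    (hd : IsDomain (X.presheaf.stalk y)) (hic : IsIntegrallyClosed (X.presheaf.stalk y)) :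
    IsDomain (X.presheaf.stalk x) ∧ IsIntegrallyClosed (X.presheaf.stalk x) := by
  obtain ⟨_, ⟨U, hU : IsAffineOpen U, rfl⟩, hyU, -⟩ :=
    X.isBasis_affineOpens.exists_subset_of_mem_open (Set.mem_univ y) isOpen_univ
  have hxU : x ∈ U := h.mem_open U.isOpen hyU
  let algy : Algebra Γ(X, U) (X.presheaf.stalk y) :=
    X.presheaf.algebra_section_stalk ⟨y, hyU⟩
  let algx : Algebra Γ(X, U) (X.presheaf.stalk x) :=
    X.presheaf.algebra_section_stalk ⟨x, hxU⟩
  have locy : IsLocalization.AtPrime (X.presheaf.stalk y) (hU.primeIdealOf ⟨y, hyU⟩).asIdeal :=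
    hU.isLocalization_stalk ⟨y, hyU⟩
  have locx : IsLocalization.AtPrime (X.presheaf.stalk x) (hU.primeIdealOf ⟨x, hxU⟩).asIdeal :=
    hU.isLocalization_stalk ⟨x, hxU⟩
  let algyx : Algebra (X.presheaf.stalk y) (X.presheaf.stalk x) :=
    (X.presheaf.stalkSpecializes h).hom.toAlgebra
  have tower : IsScalarTower Γ(X, U) (X.presheaf.stalk y) (X.presheaf.stalk x) := by
    apply IsScalarTower.of_algebraMap_eq'
    have := TopCat.Presheaf.germ_stalkSpecializes X.presheaf hyU h
    rw [RingHom.algebraMap_toAlgebra, RingHom.algebraMap_toAlgebra, RingHom.algebraMap_toAlgebra,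
      ← CommRingCat.hom_comp, this]
  have hle : (hU.primeIdealOf ⟨x, hxU⟩).asIdeal ≤ (hU.primeIdealOf ⟨y, hyU⟩).asIdeal := by
    change hU.primeIdealOf ⟨x, hxU⟩ ≤ hU.primeIdealOf ⟨y, hyU⟩
    rw [PrimeSpectrum.le_iff_specializes]
    have h' : (⟨x, hxU⟩ : U) ⤳ ⟨y, hyU⟩ := (subtype_specializes_iff _ _).mpr h
    exact h'.map hU.isoSpec.hom.continuous
  have hcompl : (hU.primeIdealOf ⟨y, hyU⟩).asIdeal.primeCompl ≤
      (hU.primeIdealOf ⟨x, hxU⟩).asIdeal.primeCompl := fun a ha hax => ha (hle hax)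
  have loc : IsLocalization ((hU.primeIdealOf ⟨x, hxU⟩).asIdeal.primeCompl.map
      (algebraMap Γ(X, U) (X.presheaf.stalk y))) (X.presheaf.stalk x) :=
    IsLocalization.isLocalization_of_submonoid_le (X.presheaf.stalk y) (X.presheaf.stalk x)
      (hU.primeIdealOf ⟨y, hyU⟩).asIdeal.primeCompl (hU.primeIdealOf ⟨x, hxU⟩).asIdeal.primeCompl
      hcompl
  have hnzd : (hU.primeIdealOf ⟨x, hxU⟩).asIdeal.primeCompl.map
      (algebraMap Γ(X, U) (X.presheaf.stalk y)) ≤ nonZeroDivisors (X.presheaf.stalk y) := by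
    rintro _ ⟨a, ha, rfl⟩
    rw [mem_nonZeroDivisors_iff_ne_zero]
    intro h0
    have hu : IsUnit (algebraMap Γ(X, U) (X.presheaf.stalk x) a) :=
      IsLocalization.map_units (X.presheaf.stalk x)
        (⟨a, ha⟩ : (hU.primeIdealOf ⟨x, hxU⟩).asIdeal.primeCompl)
    rw [IsScalarTower.algebraMap_apply Γ(X, U) (X.presheaf.stalk y) (X.presheaf.stalk x), h0,
      map_zero] at hu
    exact not_isUnit_zero hu
  have hdx : IsDomain (X.presheaf.stalk x) :=
    IsLocalization.isDomain_of_le_nonZeroDivisors (X.presheaf.stalk x) hnzd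
  exact ⟨hdx, isIntegrallyClosed_of_isLocalization (X.presheaf.stalk x) _ hnzd⟩

theorem normal_of_closedPoints (X : Scheme.{u}) [CompactSpace ↥X]
    (h : ∀ x : X, IsClosed ({x} : Set X) →
      IsDomain (X.presheaf.stalk x) ∧ IsIntegrallyClosed (X.presheaf.stalk x)) (x : X) :
    IsDomain (X.presheaf.stalk x) ∧ IsIntegrallyClosed (X.presheaf.stalk x) := by
  obtain ⟨y, hy, hyc⟩ := IsClosed.exists_closed_singleton (isClosed_closure (s := ({x} : Set X)))
    ⟨x, subset_closure rfl⟩
  have hxy : x ⤳ y := specializes_iff_mem_closure.mpr hy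
  exact stalk_normal_of_specializes X hxy (h y hyc).1 (h y hyc).2

end Groth.Agent.H2.NormalClosedPts
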