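import Groth.Agent.Lib.Helper2.NonSimpleB
import Groth.Agent.H4.LFP1

/-! General lemmas towards S11510: a nonzero map from an invertible module to a finite locally free
module on an integral scheme is a monomorphism; uniqueness of the rank. -/

universe u
set_option autoImplicit false
open CategoryTheory Limits AlgebraicGeometry TopologicalSpace Opposite

namespace Groth.Agent.H2.NullPlane
open Groth.Agent.LD.QC Groth.Agent.LD.Ann Groth.Agent.H2.NonSimple

attribute [-instance] Groth.Agent.LD.QC.stalkModule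

variable {X : Scheme.{u}}

/-- on an integral scheme, the composite of a nonzero map to an invertible module and a nonzero
map from it to a finite locally free module is nonzero (arbitrary source). -/
theorem comp_ne_zero_inv' [IsIntegral X] (E : X.Modules) (hE : FlatMod.IsFinLocFree E)
    (N : X.Modules) (hN : PicF.IsInvertible N) (M : X.Modules)
    (s : N ⟶ E) (hs : s ≠ 0) (t : M ⟶ N) (ht : t ≠ 0) : t ≫ s ≠ 0 := by
  intro h0
  obtain ⟨W, e, he⟩ := exists_app_ne_zero t ht
  obtain ⟨W', ν, hν⟩ := exists_app_ne_zero s hs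
  have hNf : FlatMod.IsFinLocFree N := isFinLocFree_of_isInvertible N hN
  have hW := nonempty_of_section_ne_zero N _ he
  have hW' := nonempty_of_section_ne_zero E _ hν
  obtain ⟨x, hxW, hxW'⟩ := nonempty_preirreducible_inter W.2 W'.2 hW hW'
  obtain ⟨U, ν₀, hxU, hν₀⟩ := (isInvertible_iff_exists_isBasisOver N).mp hN x
  obtain ⟨V, hVdef⟩ : ∃ V : X.Opens, V = U ⊓ W ⊓ W' := ⟨_, rfl⟩
  have hVne : (V : Set X).Nonempty := ⟨x, by rw [hVdef]; exact ⟨⟨hxU, hxW⟩, hxW'⟩⟩
  have hVU : V ≤ U := by rw [hVdef]; exact inf_le_left.trans inf_le_left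
  have hVW : V ≤ W := by rw [hVdef]; exact inf_le_left.trans inf_le_right
  have hVW' : V ≤ W' := by rw [hVdef]; exact inf_le_right
  obtain ⟨α, hα⟩ := (hν₀ V hVU).2 (N.presheaf.map (homOfLE hVW).op (t.app W e))
  obtain ⟨β, hβ⟩ := (hν₀ V hVU).2 (N.presheaf.map (homOfLE hVW').op ν)
  have hα' : α • N.presheaf.map (homOfLE hVU).op ν₀ =
      N.presheaf.map (homOfLE hVW).op (t.app W e) := hα
  have hβ' : β • N.presheaf.map (homOfLE hVU).op ν₀ = N.presheaf.map (homOfLE hVW').op ν := hβ
  have hα0 : α ≠ 0 := by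
    rintro rfl
    rw [zero_smul] at hα'
    exact he (eq_zero_of_res_eq_zero N hNf hVW hVne _ hα'.symm)
  have h1 : s.app V (N.presheaf.map (homOfLE hVW).op (t.app W e)) = 0 := by
    rw [app_res s hVW]
    have : s.app W (t.app W e) = 0 := congrArg (fun f => f.app W e) h0
    rw [this, map_zero]
  rw [← hα', Scheme.Modules.Hom.app_smul] at h1
  have h2 : s.app V (N.presheaf.map (homOfLE hVU).op ν₀) = 0 :=
    eq_zero_of_smul_eq_zero E hE α _ h1 hα0
  have h3 : s.app V (N.presheaf.map (homOfLE hVW').op ν) = 0 := by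
    rw [← hβ', Scheme.Modules.Hom.app_smul, h2, smul_zero]
  rw [app_res s hVW'] at h3
  exact hν (eq_zero_of_res_eq_zero E hE hVW' hVne _ h3)

/-- on an integral scheme, a nonzero map from an invertible module to a finite locally free module
is a monomorphism. -/
theorem mono_of_ne_zero [IsIntegral X] (E : X.Modules) (hE : FlatMod.IsFinLocFree E)
    (N : X.Modules) (hN : PicF.IsInvertible N) (s : N ⟶ E) (hs : s ≠ 0) : Mono s := by
  apply Preadditive.mono_of_cancel_zero
  intro M t ht
  by_contra hne
  exact comp_ne_zero_inv' E hE N hN M s hs t hne ht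

/-- the rank of a finite locally free module on a nonempty scheme is unique. -/
theorem rank_unique [Nonempty X] (E : X.Modules) {r s : ℕ}
    (hr : FlatMod.IsFinLocFreeOfRank r E) (hs : FlatMod.IsFinLocFreeOfRank s E) : r = s := by
  obtain ⟨x⟩ := ‹Nonempty X›
  exact (Groth.Agent.H4.LFP1.stalk_of_isFinLocFreeOfRank r E hr x).2.2.symm.trans
    (Groth.Agent.H4.LFP1.stalk_of_isFinLocFreeOfRank s E hs x).2.2

end Groth.Agent.H2.NullPlane
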