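import Groth.Agent.Lib.Helper2.NullPlaneA
import Groth.Agent.Lib.Helper2.EulerNullE
import Groth.Agent.Lib.Helper2.EulerPbE
import Groth.Agent.Lib.Helper2.HypCohA
import Groth.Agent.Lib.Lead.QC.PullTensorInv

/-! # Restriction of (the dual of) a null-correlation bundle on `P^3` to a plane (towards S11510). -/

set_option autoImplicit false
set_option linter.style.haveILetI false
universe u
open CategoryTheory CategoryTheory.Limits AlgebraicGeometry TopologicalSpace Opposite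

namespace Groth.Agent.H2.NullPlane

open Twist Groth.Agent.LD.TW Groth.Agent.LD.PT Groth.Agent.LD.PN Groth.Agent.H3.Om
open Groth.Agent.LD.QC Groth.Agent.LD.Ann Abelian Groth.Agent.H2.Euler

attribute [local instance] Abelian.hasFiniteBiproducts

/-- **`(O(d)^r ⊕ Ω) ⊗ O(e)` is finite locally free of rank `r + n`.** -/
theorem isFinLocFreeOfRank_biprod_omega_tw (n : ℕ) (R : Type u) [CommRing R] (r : ℕ) (d e : ℤ) :
    FlatMod.IsFinLocFreeOfRank (r + n)
      (CohB1.tensorMod ((⨁ fun _ : Fin r => twist (CohB1.polyGrading n R) d) ⊞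
        Omega.sheaf (pS n R)) (twist (CohB1.polyGrading n R) e)) := by
  haveI h1 : (⨁ fun _ : Fin r => twist (CohB1.polyGrading n R) d).IsQuasicoherent :=
    qc_of_iso (biproduct.isoCoproduct _).symm (qc_sigma_fin (twist (CohB1.polyGrading n R) d) r)
  haveI h2 : ((⨁ fun _ : Fin r => twist (CohB1.polyGrading n R) d) ⊞
      Omega.sheaf (pS n R)).IsQuasicoherent :=
    qc_of_iso (biprod.isoCoprod _ _).symm
      (qc_finColimit (pair _ _) (by
        rintro ⟨_ | _⟩
        · exact h1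
        · exact (inferInstance : (Omega.sheaf (pS n R)).IsQuasicoherent)))
  haveI h3 : (CohB1.tensorMod ((⨁ fun _ : Fin r => twist (CohB1.polyGrading n R) d) ⊞
      Omega.sheaf (pS n R)) (twist (CohB1.polyGrading n R) e)).IsQuasicoherent :=
    tensorMod_isQuasicoherent _ _
  rw [Groth.Agent.H4.FittSheaf.isFinLocFreeOfRank_iff]
  intro x
  obtain ⟨j, hj⟩ := exists_mem_U n R x
  refine ⟨U n R j, isAffineOpen_U j, hj, ?_⟩
  obtain ⟨t⟩ := nonempty_twist_chart_equiv (R := R) d j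
  obtain ⟨w, hw⟩ := exists_isUnitSec_one (𝒜 := CohB1.polyGrading n R) (MvPolynomial.X j)
    (X_mem j) e (V := U n R j) (le_refl _)
  exact ⟨(tmulEquiv _ (twist (CohB1.polyGrading n R) e) hw.isBasisOver).symm.trans
    ((biprodSecEquiv _ _ (U n R j)).trans
    (((biproductSecEquiv _ (U n R j)).trans (LinearEquiv.piCongrRight fun _ => t.symm)).prodCongr
      (omChartEquiv j) |>.trans
    ((LinearEquiv.sumArrowLequivProdArrow (Fin r) (Fin n)
      Γ(Proj (CohB1.polyGrading n R), U n R j)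
      Γ(Proj (CohB1.polyGrading n R), U n R j)).symm.trans
      (LinearEquiv.funCongrLeft _ _ finSumFinEquiv.symm))))⟩

lemma isFinLocFree_of_rank {X : Scheme.{u}} {E : X.Modules} {r : ℕ}
    (hE : FlatMod.IsFinLocFreeOfRank r E) : FlatMod.IsFinLocFree E := fun x => by
  obtain ⟨U, hxU, hU⟩ := hE x
  exact ⟨U, r, hxU, hU⟩

variable {k : Type u} [Field k]

/-- the target of the restricted map: `(O(-1) ⊕ Ω_{P^2}) ⊗ O(1)`. -/
noncomputable abbrev F₂ (k : Type u) [Field k] : (Proj (CohB1.polyGrading 2 k)).Modules :=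
  CohB1.tensorMod ((⨁ fun _ : Fin 1 => twist (CohB1.polyGrading 2 k) (-1)) ⊞
    Omega.sheaf (pS 2 k)) (twist (CohB1.polyGrading 2 k) 1)

/-- **restriction to a plane**: the pullback of `coker (u : O(-1) ⟶ Ω_{P^3}(1))` (locally free of
rank two) along `i : P^2 ⟶ P^3` with `i^* O(1) ≅ O(1)` is the cokernel of a monomorphism
`O(-1) ⟶ (O(-1) ⊕ Ω_{P^2})(1)`. -/
theorem exists_restriction
    (u : twist (CohB1.polyGrading 3 k) (-1) ⟶
      CohB1.tensorMod (Omega.sheaf (pS 3 k)) (twist (CohB1.polyGrading 3 k) 1))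
    (hM : FlatMod.IsFinLocFreeOfRank 2 (cokernel u))
    (i : Proj (CohB1.polyGrading 2 k) ⟶ Proj (CohB1.polyGrading 3 k))
    (hO : Nonempty ((Scheme.Modules.pullback i).obj (twist (CohB1.polyGrading 3 k) 1) ≅
      twist (CohB1.polyGrading 2 k) 1)) :
    ∃ v : twist (CohB1.polyGrading 2 k) (-1) ⟶ F₂ k,
      Mono v ∧ Nonempty (cokernel v ≅ (Scheme.Modules.pullback i).obj (cokernel u)) := by
  obtain ⟨a⟩ := nonempty_pullback_omega_iso i (by norm_num) hO
  obtain ⟨b⟩ := nonempty_pullback_twist_neg_one i hO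
  obtain ⟨c⟩ := hO
  have a' : (Scheme.Modules.pullback i).obj (Omega.sheaf (pS 3 k)) ≅
      (⨁ fun _ : Fin 1 => twist (CohB1.polyGrading 2 k) (-1)) ⊞ Omega.sheaf (pS 2 k) := a
  let eF : (Scheme.Modules.pullback i).obj
      (CohB1.tensorMod (Omega.sheaf (pS 3 k)) (twist (CohB1.polyGrading 3 k) 1)) ≅ F₂ k :=
    pbTensorIsoR i (Omega.sheaf (pS 3 k)) (twist (CohB1.polyGrading 3 k) 1)
      (isInvertible_twist 3 k 1) ≪≫ tensorIso' a' c
  obtain ⟨v, hv⟩ : ∃ v : twist (CohB1.polyGrading 2 k) (-1) ⟶ F₂ k,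
      v = b.inv ≫ (Scheme.Modules.pullback i).map u ≫ eF.hom := ⟨_, rfl⟩
  have φ : cokernel v ≅ (Scheme.Modules.pullback i).obj (cokernel u) := by
    rw [hv]
    exact cokernelEpiComp b.inv _ ≪≫ cokernelCompIsIso _ eF.hom ≪≫
      (PreservesCokernel.iso (Scheme.Modules.pullback i) u).symm
  have hrank2 : FlatMod.IsFinLocFreeOfRank 2 (cokernel v) :=
    isFinLocFreeOfRank_of_iso' φ.symm
      (Groth.Agent.H5.Lim.isFinLocFreeOfRank_pullback i _ hM)
  have hrank3 : FlatMod.IsFinLocFreeOfRank (1 + 2) (F₂ k) :=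
    isFinLocFreeOfRank_biprod_omega_tw 2 k 1 (-1) 1
  haveI : IsIntegral (Proj (CohB1.polyGrading 2 k)) := Groth.Agent.H2.HypCoh.isIntegral_proj k 2
  have hv0 : v ≠ 0 := by
    intro h0
    have ψ : cokernel v ≅ F₂ k := cokernelIsoOfEq h0 ≪≫ cokernelZeroIsoTarget
    have h23 := rank_unique (F₂ k) (isFinLocFreeOfRank_of_iso' ψ hrank2) hrank3
    omega
  exact ⟨v, mono_of_ne_zero (F₂ k) (isFinLocFree_of_rank hrank3) _
    (isInvertible_twist 2 k (-1)) v hv0, ⟨φ⟩⟩

end Groth.Agent.H2.NullPlane
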