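import Groth.Agent.Lib.Helper2.NullPlaneB
import Groth.Agent.Lib.Helper2.BottR

/-! # Cohomology of the restriction of a null-correlation bundle to a plane (S11510). -/

set_option autoImplicit false
set_option linter.style.haveILetI false
universe u
open CategoryTheory CategoryTheory.Limits AlgebraicGeometry TopologicalSpace Opposite

namespace Groth.Agent.H2.NullPlane

open Twist Groth.Agent.LD Groth.Agent.LD.TW Groth.Agent.LD.PT Groth.Agent.LD.PN Groth.Agent.H3.Om
open Groth.Agent.LD.QC Groth.Agent.LD.Ann Abelian Groth.Agent.H2.Euler Groth.Agent.H2.Bott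

attribute [local instance] Abelian.hasFiniteBiproducts

variable (k : Type u) [Field k]

/-- `H^0(P^n_k, Ω) = 0`, `n ≥ 1`. -/
theorem subsingleton_HH0_omega (n : ℕ) (hn : 1 ≤ n) :
    Subsingleton (Coh.HH (Proj (CohB1.polyGrading n k)) (Omega.sheaf (pS n k)) 0) := by
  have hS := eulerSC_shortExact n k
  have hinj := CL.HHmap_f_injective k hS
  haveI : Subsingleton (Coh.HH (Proj (CohB1.polyGrading n k)) (eulerSC n k).X₂ 0) :=
    subsingleton_HH_map_biproduct (𝟭 _)
      (fun _ : Fin (n + 1) => twist (CohB1.polyGrading n k) (-1)) 0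
      (fun _ => subsingleton_HH_twist_all n k (-1) 0 (fun h => by omega) (fun h => by omega))
  exact hinj.subsingleton

/-- `O(-1) ⊕ Ω_{P^2}`. -/
noncomputable abbrev G₂ : (Proj (CohB1.polyGrading 2 k)).Modules :=
  (⨁ fun _ : Fin 1 => twist (CohB1.polyGrading 2 k) (-1)) ⊞ Omega.sheaf (pS 2 k)

instance : (G₂ k).IsQuasicoherent := by
  haveI h1 : (⨁ fun _ : Fin 1 => twist (CohB1.polyGrading 2 k) (-1)).IsQuasicoherent :=
    qc_of_iso (biproduct.isoCoproduct _).symm (qc_sigma_fin (twist (CohB1.polyGrading 2 k) (-1)) 1)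
  exact qc_of_iso (biprod.isoCoprod _ _).symm
      (qc_finColimit (pair _ _) (by
        rintro ⟨_ | _⟩
        · exact h1
        · exact (inferInstance : (Omega.sheaf (pS 2 k)).IsQuasicoherent)))

theorem subsingleton_HH0_G₂ : Subsingleton (Coh.HH (Proj (CohB1.polyGrading 2 k)) (G₂ k) 0) :=
  CL.subsingleton_HH_biprod _ _ 0
    (subsingleton_HH_map_biproduct (𝟭 _)
      (fun _ : Fin 1 => twist (CohB1.polyGrading 2 k) (-1)) 0
      (fun _ => subsingleton_HH_twist_all 2 k (-1) 0 (fun h => by omega) (fun h => by omega)))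
    (subsingleton_HH0_omega k 2 (by norm_num))

theorem subsingleton_HH0_F₂_tw :
    Subsingleton (Coh.HH (Proj (CohB1.polyGrading 2 k))
      (CohB1.tensorMod (F₂ k) (twist (CohB1.polyGrading 2 k) (-1))) 0) :=
  subsingleton_HH_twist_twist 2 k (G₂ k) 1 (-1) 0 (by norm_num) 0
    (CL.subsingleton_of_iso (twZeroIso 2 k (G₂ k)).symm 0 (subsingleton_HH0_G₂ k))

theorem nontrivial_HH0_F₂ : Nontrivial (Coh.HH (Proj (CohB1.polyGrading 2 k)) (F₂ k) 0) := by
  let ι₀ : twist (CohB1.polyGrading 2 k) (-1) ⟶ G₂ k :=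
    biproduct.ι (fun _ : Fin 1 => twist (CohB1.polyGrading 2 k) (-1)) 0 ≫ biprod.inl
  let π₀ : G₂ k ⟶ twist (CohB1.polyGrading 2 k) (-1) :=
    biprod.fst ≫ biproduct.π (fun _ : Fin 1 => twist (CohB1.polyGrading 2 k) (-1)) 0
  have h0 : ι₀ ≫ π₀ = 𝟙 _ := by
    simp only [ι₀, π₀, Category.assoc, biprod.inl_fst_assoc, biproduct.ι_π_self]
  let T := twF (twist (CohB1.polyGrading 2 k) 1)
  have h1 : T.map ι₀ ≫ T.map π₀ = 𝟙 _ := by
    rw [← Functor.map_comp, h0, CategoryTheory.Functor.map_id]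
  have hinj : Function.Injective (CL.HHmap k (T.map ι₀) 0) := by
    have hcomp : (CL.HHmap k (T.map π₀) 0).comp (CL.HHmap k (T.map ι₀) 0) = LinearMap.id := by
      rw [← CL.HHmap_comp, h1, CL.HHmap_id]
    intro x y hxy
    have := congrArg (CL.HHmap k (T.map π₀) 0) hxy
    rw [← LinearMap.comp_apply, ← LinearMap.comp_apply, hcomp] at this
    exact this
  have e : Coh.HH (Proj (CohB1.polyGrading 2 k))
      (T.obj (twist (CohB1.polyGrading 2 k) (-1))) 0 ≃ₗ[k] k :=
    (HHEquivOfIso k (twMulIso' 2 k (-1) 1 0 (by norm_num)) 0).trans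
      ((H0LinearEquiv 2 k 0).trans (homogeneousZeroEquiv 2 k))
  haveI : Nontrivial (Coh.HH (Proj (CohB1.polyGrading 2 k))
      (T.obj (twist (CohB1.polyGrading 2 k) (-1))) 0) := e.toEquiv.nontrivial
  exact hinj.nontrivial

variable {k}
variable (v : twist (CohB1.polyGrading 2 k) (-1) ⟶ F₂ k) [Mono v]

/-- `H^0(coker v) ≠ 0`. -/
theorem nontrivial_HH0_cokernel :
    Nontrivial (Coh.HH (Proj (CohB1.polyGrading 2 k)) (cokernel v) 0) := by
  have hS : (ShortComplex.mk v (cokernel.π v) (cokernel.condition v)).ShortExact :=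
    ShortComplex.ShortExact.mk' (ShortComplex.exact_cokernel v) inferInstance inferInstance
  haveI h1 : Subsingleton (Coh.HH (Proj (CohB1.polyGrading 2 k))
      (twist (CohB1.polyGrading 2 k) (-1)) 0) :=
    subsingleton_HH_twist_all 2 k (-1) 0 (fun h => by omega) (fun h => by omega)
  have hinj : Function.Injective (CL.HHmap k (cokernel.π v) 0) := by
    rw [injective_iff_map_eq_zero]
    intro x hx
    obtain ⟨z, hz⟩ := CL.exact₂ hS k 0 x hx
    rw [← hz, Subsingleton.elim z 0, map_zero]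
  haveI := nontrivial_HH0_F₂ k
  exact hinj.nontrivial

/-- `H^0(coker v ⊗ O(-1)) = 0`. -/
theorem subsingleton_HH0_cokernel_tw :
    Subsingleton (Coh.HH (Proj (CohB1.polyGrading 2 k))
      (CohB1.tensorMod (cokernel v) (twist (CohB1.polyGrading 2 k) (-1))) 0) := by
  have hS : (ShortComplex.mk v (cokernel.π v) (cokernel.condition v)).ShortExact :=
    ShortComplex.ShortExact.mk' (ShortComplex.exact_cokernel v) inferInstance inferInstance
  have hS' := shortExact_tensorMap_of_isInvertible hS (twist (CohB1.polyGrading 2 k) (-1))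
    (isInvertible_twist 2 k (-1))
  refine CL.subsingleton_right hS' 0 (subsingleton_HH0_F₂_tw k) ?_
  exact CL.subsingleton_of_iso (twMulIso' 2 k (-1) (-1) (-2) (by norm_num)).symm 1
    (subsingleton_HH_twist_all 2 k (-2) 1 (fun h => by omega) (fun h => by omega))

omit [Mono v] in
/-- **S11510**: the restriction of (the dual of) a null-correlation bundle to a plane has no
sections after twisting by `O(-1)`, but has a nonzero section. -/
theorem main
    (u : twist (CohB1.polyGrading 3 k) (-1) ⟶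
      CohB1.tensorMod (Omega.sheaf (pS 3 k)) (twist (CohB1.polyGrading 3 k) 1))
    (hM : FlatMod.IsFinLocFreeOfRank 2 (cokernel u))
    (i : Proj (CohB1.polyGrading 2 k) ⟶ Proj (CohB1.polyGrading 3 k))
    (hO : Nonempty ((Scheme.Modules.pullback i).obj (twist (CohB1.polyGrading 3 k) 1) ≅
      twist (CohB1.polyGrading 2 k) 1)) :
    Subsingleton (Coh.HH (Proj (CohB1.polyGrading 2 k))
        (CohB1.tensorMod ((Scheme.Modules.pullback i).obj (cokernel u))
          (twist (CohB1.polyGrading 2 k) (-1))) 0) ∧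
      Nontrivial (Coh.HH (Proj (CohB1.polyGrading 2 k))
        ((Scheme.Modules.pullback i).obj (cokernel u)) 0) := by
  obtain ⟨w, hw, ⟨φ⟩⟩ := exists_restriction u hM i hO
  haveI := hw
  refine ⟨CL.subsingleton_of_iso ((twF (twist (CohB1.polyGrading 2 k) (-1))).mapIso φ) 0
    (subsingleton_HH0_cokernel_tw w), ?_⟩
  haveI := nontrivial_HH0_cokernel w
  exact (HHEquivOfIso k φ 0).symm.toEquiv.nontrivial

end Groth.Agent.H2.NullPlane
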