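import Mathlib

/-!
# Factoring an open immersion of affine schemes through an intermediate subring
-/

set_option autoImplicit false
universe u
open CategoryTheory CategoryTheory.Limits AlgebraicGeometry TensorProduct

namespace Groth.Agent.H2.OpenImmFactor

section Alg

variable (B' C B : Type u) [CommRing B'] [CommRing C] [CommRing B]
  [Algebra B' C] [Algebra C B] [Algebra B' B] [IsScalarTower B' C B]

theorem isPushout_of_flat_epi [Module.Flat B' B] [Algebra.IsEpi B' B]
    (hinj : Function.Injective (algebraMap C B)) : Algebra.IsPushout B' B C B := by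
  constructor
  let incl : C →ₗ[B'] B := (IsScalarTower.toAlgHom B' C B).toLinearMap
  let L : B ⊗[B'] C →ₗ[B'] B := TensorProduct.lift
    (((Algebra.linearMap B <| Module.End B (C →ₗ[B'] B)).flip incl).restrictScalars B')
  show Function.Bijective L
  have hL : ∀ (b : B) (c : C), L (b ⊗ₜ c) = b * algebraMap C B c := fun b c => rfl
  have hincl : Function.Injective incl := hinj
  have h1 : Function.Injective (incl.lTensor B) :=
    Module.Flat.lTensor_preserves_injective_linearMap incl hincl
  have h2 : Function.Injective (TensorProduct.lift (LinearMap.mul B' B)) :=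
    Algebra.IsEpi.injective_lift_mul
  have hcomp : L = (TensorProduct.lift (LinearMap.mul B' B)) ∘ₗ (incl.lTensor B) := by
    apply TensorProduct.ext'
    intro b c
    rfl
  constructor
  · rw [hcomp]
    exact h2.comp h1
  · intro b
    exact ⟨b ⊗ₜ 1, by rw [hL, map_one, mul_one]⟩

end Alg

theorem isOpenImmersion_of_factor (B' C B : Type u) [CommRing B'] [CommRing C] [CommRing B]
    (φ : B' →+* C) (ψ : C →+* B) (hψ : Function.Injective ψ)
    (h : IsOpenImmersion (Spec.map (CommRingCat.ofHom (ψ.comp φ)))) :
    IsOpenImmersion (Spec.map (CommRingCat.ofHom ψ)) := by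
  letI : Algebra B' C := φ.toAlgebra
  letI : Algebra C B := ψ.toAlgebra
  letI : Algebra B' B := (ψ.comp φ).toAlgebra
  haveI : IsScalarTower B' C B := IsScalarTower.of_algebraMap_eq' rfl
  haveI hfl : Module.Flat B' B := by
    have h1 : Flat (Spec.map (CommRingCat.ofHom (ψ.comp φ))) := inferInstance
    have h2 : (ψ.comp φ).Flat := (HasRingHomProperty.Spec_iff (P := @Flat)).mp h1
    exact h2
  haveI hepi : Algebra.IsEpi B' B := by
    have hm : Mono (Spec.map (CommRingCat.ofHom (ψ.comp φ))) := inferInstance
    have hm' : Mono (CommRingCat.ofHom (ψ.comp φ)).op :=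
      Scheme.Spec.mono_of_mono_map (f := (CommRingCat.ofHom (ψ.comp φ)).op) hm
    have he : Epi (CommRingCat.ofHom (algebraMap B' B)) :=
      unop_epi_of_mono (CommRingCat.ofHom (ψ.comp φ)).op
    exact CommRingCat.epi_iff_epi.mp he
  haveI := isPushout_of_flat_epi B' C B hψ
  have hpo := CommRingCat.isPushout_of_isPushout B' B C B
  have hpb := isPullback_SpecMap_of_isPushout _ _ _ _ hpo
  exact MorphismProperty.of_isPullback (P := @IsOpenImmersion) hpb h

theorem main (A B B' B'' : Type u) [CommRing A] [CommRing B] [CommRing B'] [CommRing B'']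
    [Algebra A B] [Algebra A B'] [Algebra A B''] [Algebra B' B] [Algebra B'' B]
    [IsScalarTower A B' B] [IsScalarTower A B'' B] [Module.Finite A B'] [Module.Finite A B'']
    (h' : IsOpenImmersion (Spec.map (CommRingCat.ofHom (algebraMap B' B))))
    (_h'' : IsOpenImmersion (Spec.map (CommRingCat.ofHom (algebraMap B'' B)))) :
    ∃ C : Subalgebra A B, Module.Finite A C ∧ Set.range (algebraMap B' B) ⊆ (C : Set B) ∧
      Set.range (algebraMap B'' B) ⊆ (C : Set B) ∧
      IsOpenImmersion (Spec.map (CommRingCat.ofHom C.val.toRingHom)) := by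
  let f : B' →ₐ[A] B := IsScalarTower.toAlgHom A B' B
  let g : B'' →ₐ[A] B := IsScalarTower.toAlgHom A B'' B
  let P := Algebra.TensorProduct.productMap f g
  have hf : ∀ x : B', f x ∈ P.range := fun x =>
    ⟨x ⊗ₜ 1, Algebra.TensorProduct.productMap_left_apply f g x⟩
  have hg : ∀ x : B'', g x ∈ P.range := fun x =>
    ⟨1 ⊗ₜ x, Algebra.TensorProduct.productMap_right_apply f g x⟩
  refine ⟨P.range, ?_, ?_, ?_, ?_⟩
  · exact Module.Finite.of_surjective P.rangeRestrict.toLinearMap P.rangeRestrict_surjective
  · rintro _ ⟨x, rfl⟩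
    exact hf x
  · rintro _ ⟨x, rfl⟩
    exact hg x
  · let φ : B' →+* P.range := (f.codRestrict P.range hf).toRingHom
    refine isOpenImmersion_of_factor B' P.range B φ P.range.val.toRingHom
      Subtype.val_injective ?_
    have : P.range.val.toRingHom.comp φ = algebraMap B' B := RingHom.ext fun x => rfl
    rw [this]
    exact h'

end Groth.Agent.H2.OpenImmFactor
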