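import Mathlib
import Groth.Prelude.Def_FSch5
import Groth.Agent.Lib.Helper1.ThickAff6

/-!
# `O_𝔛 → O_{X_i}` is surjective on affine opens
-/

set_option autoImplicit false
universe u
open CategoryTheory CategoryTheory.Limits AlgebraicGeometry Opposite TopologicalSpace

namespace Groth.Agent.H2.OshSurj

section Tower

theorem tower_surj (F : ℕᵒᵖ ⥤ Type u)
    (hF : ∀ n, Function.Surjective (F.map (homOfLE (Nat.le_succ n)).op))
    (i : ℕ) (a : F.obj (op i)) : ∃ s : F.sections, s.1 (op i) = a := by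
  choose lift hlift using hF
  let s : ∀ k : ℕ, F.obj (op (i + k)) := fun k =>
    Nat.rec (motive := fun k => F.obj (op (i + k))) a (fun k x => lift (i + k) x) k
  have hs : ∀ k, F.map (homOfLE (Nat.le_succ (i + k))).op (s (k + 1)) = s k :=
    fun k => hlift (i + k) (s k)
  let b : ∀ n : ℕ, F.obj (op n) := fun n => F.map (homOfLE (Nat.le_add_left n i)).op (s n)
  have hstep : ∀ n, F.map (homOfLE (Nat.le_succ n)).op (b (n + 1)) = b n := by
    intro n
    show F.map (homOfLE (Nat.le_succ n)).op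
      (F.map (homOfLE (Nat.le_add_left (n + 1) i)).op (s (n + 1))) =
        F.map (homOfLE (Nat.le_add_left n i)).op (s n)
    rw [← hs n, ← Functor.map_comp_apply, ← Functor.map_comp_apply]
    exact congrArg (fun f => F.map f (s (n + 1))) (Quiver.Hom.unop_inj (Subsingleton.elim _ _))
  have hb : ∀ m n (h : n ≤ m), F.map (homOfLE h).op (b m) = b n := by
    intro m n h
    induction m, h using Nat.le_induction with
    | base =>
      have : (homOfLE (le_refl n)).op = 𝟙 (op n) := rfl
      rw [this, Functor.map_id_apply]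
    | succ m hmn ih =>
      have : (homOfLE (hmn.trans (Nat.le_succ m))).op =
          (homOfLE (Nat.le_succ m)).op ≫ (homOfLE hmn).op :=
        Quiver.Hom.unop_inj (Subsingleton.elim _ _)
      rw [this, Functor.map_comp_apply, hstep, ih]
  have ha : ∀ k, F.map (homOfLE (Nat.le_add_right i k)).op (s k) = a := by
    intro k
    induction k with
    | zero =>
      show (ConcreteCategory.hom (F.map (𝟙 (op i)))) a = a
      exact Functor.map_id_apply F (op i) a
    | succ k ih =>
      rw [← ih, ← hs k, ← Functor.map_comp_apply]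
      exact congrArg (fun f => F.map f (s (k + 1))) (Quiver.Hom.unop_inj (Subsingleton.elim _ _))
  refine ⟨⟨fun j => b j.unop, ?_⟩, ha i⟩
  intro j j' f
  have e : f = (homOfLE (leOfHom f.unop)).op := Quiver.Hom.unop_inj (Subsingleton.elim _ _)
  rw [e]
  exact hb _ _ _

end Tower

theorem surj_appLE {X Y : Scheme.{u}} (f : X ⟶ Y) [IsClosedImmersion f] (V : Y.Opens)
    (hV : IsAffineOpen V) (W : X.Opens) (e : W ≤ f ⁻¹ᵁ V) (e' : f ⁻¹ᵁ V ≤ W) :
    Function.Surjective (f.appLE V W e) := by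
  have hW : W = f ⁻¹ᵁ V := le_antisymm e e'
  subst hW
  have : f.appLE V (f ⁻¹ᵁ V) e = f.app V := by simp [Scheme.Hom.appLE]
  rw [this]
  exact f.app_surjective V hV

variable (𝔛 : FSch.Sys.{u}) (h : 𝔛.IsFormal) (U : (𝔛.X 0).Opens)

theorem isAffineOpen_lvU (hU : IsAffineOpen U) (n : ℕ) : IsAffineOpen (𝔛.lvU h n U) := by
  haveI := 𝔛.toX_isClosedImmersion h n
  apply Groth.Agent.H1.ThickAff.isAffineOpen_of_preimage (𝔛.toX n) (𝔛.toX_surjective h n)
  have : (𝔛.toX n) ⁻¹ᵁ (𝔛.lvU h n U) = U := by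
    change (Opens.map ((𝔛.toX n).base ≫ 𝔛.gInv h n)).obj U = U
    rw [FSch.Sys.toX_base_gInv]
    rfl
  rw [this]
  exact hU

/-- sections over `U`. -/
noncomputable abbrev secF :
    Sheaf (Opens.grothendieckTopology (𝔛.X 0)) CommRingCat.{u} ⥤ CommRingCat.{u} :=
  sheafToPresheaf _ _ ⋙ (evaluation _ _).obj (op U)

theorem main (hU : IsAffineOpen U) (i : ℕ) :
    Function.Surjective ((𝔛.OshProj h i).hom.app (op U)) := by
  let c := (secF 𝔛 U).mapCone (limit.cone (𝔛.levelRing h))
  have hc : IsLimit c := isLimitOfPreserves (secF 𝔛 U) (limit.isLimit (𝔛.levelRing h))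
  let G : ℕᵒᵖ ⥤ Type u := (𝔛.levelRing h ⋙ secF 𝔛 U) ⋙ forget CommRingCat.{u}
  have hc' : IsLimit ((forget CommRingCat.{u}).mapCone c) :=
    isLimitOfPreserves (forget CommRingCat.{u}) hc
  have hG : ∀ n, Function.Surjective (G.map (homOfLE (Nat.le_succ n)).op) := by
    intro n
    have e1 : (𝔛.levelRing h).map (homOfLE (Nat.le_succ n)).op = 𝔛.levelMap h n :=
      𝔛.levelRing_map_succ h n
    show Function.Surjective
      (((𝔛.levelRing h).map (homOfLE (Nat.le_succ n)).op).hom.app (op U))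
    rw [e1]
    haveI := (h n).1
    exact surj_appLE (𝔛.ι n) (𝔛.lvU h (n + 1) U) (isAffineOpen_lvU 𝔛 h U hU (n + 1))
      (𝔛.lvU h n U) (𝔛.lvU_le h n U) (𝔛.lvU_succ h n U).le
  intro y
  obtain ⟨s, hs⟩ := tower_surj G hG i y
  refine ⟨(Types.isLimitEquivSections hc').symm s, ?_⟩
  have := Types.isLimitEquivSections_symm_apply hc' s (op i)
  rw [hs] at this
  exact this

end Groth.Agent.H2.OshSurj
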