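import Groth.Agent.Lib.Helper2.SeeY
import Groth.Agent.Lib.Helper2.ParaFE
import Groth.Agent.Lib.Helper2.ParaFF
import Groth.Agent.Lib.Helper7.SkCartier2
import Groth.Agent.Lib.Helper6.SkLoc
import Groth.Agent.Lib.Lead.FBC.BC0Iso
import Groth.Prelude.Def_CAlg
import Groth.Prelude.Def_Coh
import Groth.Prelude.Def_Pic

/-!
# Extending an invertible module over a closed point of depth two, étale locally (helper2)

`main`: on a locally Noetherian scheme `X`, with `p` a point where the local ring has depth `≥ 2`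
(e.g. `(S₂)` and dimension two), an invertible module on `X ∖ {p}` which extends over an étale
neighbourhood of `p` extends over `X`: the direct image along `U → X` is invertible.
-/

set_option autoImplicit false
set_option linter.style.haveILetI false
universe u

open CategoryTheory CategoryTheory.Limits AlgebraicGeometry Opposite TopologicalSpace TensorProduct

namespace Groth.Agent.H2.PExt

open Groth.Agent.LD Groth.Agent.LD.QC Groth.Agent.H2.See

/-- `(S₂)` and dimension two give depth at least two. -/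
theorem depth_ge_two_of_hasSk {A : Type u} [CommRing A] [IsLocalRing A] [IsNoetherianRing A]
    (h : LocCoh.HasSk 2 A A) (hd : ringKrullDim A = 2) : (2 : ℕ∞) ≤ LocCoh.depth A A := by
  have h1 := Groth.Agent.H6.SkLoc.hasSk_closedPoint (R := A) A 2 h
  rw [Module.supportDim_self_eq_ringKrullDim, hd] at h1
  have h2 : ((2 : ℕ∞) : WithBot ℕ∞) ≤ ((LocCoh.depth A A : ℕ∞) : WithBot ℕ∞) := by
    simpa using h1
  exact_mod_cast h2

/-- transport a basis along an equality of opens -/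
theorem exists_isBasisOver_of_eq {X : Scheme.{u}} (L : X.Modules) {W W' : X.Opens} (h : W = W')
    (σ : Γ(L, W)) (hσ : IsBasisOver L W σ) : ∃ σ' : Γ(L, W'), IsBasisOver L W' σ' := by
  subst h; exact ⟨σ, hσ⟩

set_option maxHeartbeats 1600000 in
/-- the étale-local extension criterion, with the depth hypothesis at `p`. -/
theorem main {X : Scheme.{u}} [IsLocallyNoetherian X] (p : X)
    (hdp : (2 : ℕ∞) ≤ LocCoh.depth (X.presheaf.stalk p) (X.presheaf.stalk p))
    (U : X.Opens) (hU : (U : Set X) = {p}ᶜ)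
    (L : (U : Scheme.{u}).Modules) (hL : PicF.IsInvertible L)
    {V : Scheme.{u}} (j : V ⟶ X) [Etale j] (q : V) (hq : j.base q = p)
    (M : V.Modules) (hM : PicF.IsInvertible M)
    (e : (Scheme.Modules.pullback (j ⁻¹ᵁ U).ι).obj M ≅ (Scheme.Modules.pullback (j ∣_ U)).obj L) :
    PicF.IsInvertible ((Scheme.Modules.pushforward U.ι).obj L) ∧
      IsIso ((Scheme.Modules.pullbackPushforwardAdjunction U.ι).counit.app L) := by
  haveI : IsLocallyNoetherian V := LocallyOfFiniteType.isLocallyNoetherian j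
  haveI : L.IsQuasicoherent := qc_of_isInvertible L hL
  have hnotU : ∀ x : X, x ∉ U → x = p := by
    intro x hx
    by_contra hne
    apply hx
    change x ∈ (U : Set X)
    rw [hU]
    exact hne
  have hpU : p ∉ U := by
    intro h
    have h' : p ∈ (U : Set X) := h
    rw [hU] at h'
    exact h' rfl
  have hfX : ∀ W : X.Opens, Function.Bijective (U.ι.app W) :=
    ParaFK.funBij_ι U (ParaFK.resBij_of_depth U (fun x hx => by rw [hnotU x hx]; exact hdp))
  -- the direct image and its pullback to `V`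
  let N := (Scheme.Modules.pushforward U.ι).obj L
  haveI : N.IsQuasicoherent := qc_pushforward U.ι L
  have H : IsPullback (j ∣_ U) (j ⁻¹ᵁ U).ι U.ι j := isPullback_morphismRestrict j U
  haveI hbc : IsIso (CohBC.bc0 U.ι j (j ⁻¹ᵁ U).ι (j ∣_ U) H.w L) :=
    FBC.isIso_bc0_of_flat U.ι j (j ⁻¹ᵁ U).ι (j ∣_ U) H L
  have hdV : ∀ v : V, v ∉ j ⁻¹ᵁ U →
      (2 : ℕ∞) ≤ LocCoh.depth (V.presheaf.stalk v) (V.presheaf.stalk v) := by
    intro v hv
    have hjv : j v = p := hnotU (j v) hv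
    rw [(Groth.Agent.H7.SkCartier.depth_dim_etale j v).1, hjv]
    exact hdp
  have hfV : ∀ W : V.Opens, Function.Bijective ((j ⁻¹ᵁ U).ι.app W) :=
    ParaFK.funBij_ι (j ⁻¹ᵁ U) (ParaFK.resBij_of_depth (j ⁻¹ᵁ U) hdV)
  haveI hunit := isIso_unit_of_isInvertible (j ⁻¹ᵁ U).ι hfV M hM
  let Φ : M ≅ (Scheme.Modules.pullback j).obj N :=
    @asIso _ _ _ _ ((Scheme.Modules.pullbackPushforwardAdjunction (j ⁻¹ᵁ U).ι).unit.app M) hunit ≪≫
      (Scheme.Modules.pushforward (j ⁻¹ᵁ U).ι).mapIso e ≪≫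
      (@asIso _ _ _ _ (CohBC.bc0 U.ι j (j ⁻¹ᵁ U).ι (j ∣_ U) H.w L) hbc).symm
  have hjN : PicF.IsInvertible ((Scheme.Modules.pullback j).obj N) := isInvertible_of_iso Φ hM
  -- descent to an open neighbourhood of `p`
  obtain ⟨V₀, hV₀, hqV₀, -⟩ := exists_isAffineOpen_mem_and_subset (x := q)
    (U := (⊤ : V.Opens)) trivial
  haveI : UniversallyOpen j := inferInstance
  let W : X.Opens := ⟨j '' (V₀ : Set V), j.isOpenMap _ V₀.2⟩
  have hpW : p ∈ W := ⟨q, hqV₀, hq⟩
  have hrange : Set.range (V₀.ι ≫ j) ⊆ Set.range W.ι := by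
    rintro _ ⟨z, rfl⟩
    rw [Scheme.Opens.range_ι]
    exact ⟨z.1, z.2, rfl⟩
  let j₀ : V₀.toScheme ⟶ W.toScheme := IsOpenImmersion.lift W.ι (V₀.ι ≫ j) hrange
  have hj₀ : j₀ ≫ W.ι = V₀.ι ≫ j := IsOpenImmersion.lift_fac _ _ _
  haveI : Flat j₀ := by
    have h1 : Flat (j₀ ≫ W.ι) := by rw [hj₀]; infer_instance
    exact MorphismProperty.of_postcomp (W := @Flat)
      (W' := MorphismProperty.monomorphisms Scheme) j₀ W.ι (inferInstanceAs (Mono W.ι)) h1
  haveI : Surjective j₀ := by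
    constructor
    intro w
    obtain ⟨z, hz, hzw⟩ := w.2
    refine ⟨⟨z, hz⟩, ?_⟩
    apply Subtype.ext
    have h2 := congr($(hj₀) ⟨z, hz⟩)
    exact h2.trans hzw
  haveI : IsAffine V₀.toScheme := hV₀
  haveI : QuasiSeparatedSpace W.toScheme := inferInstance
  haveI : QuasiCompact j₀ := inferInstance
  let N_W := (Scheme.Modules.pullback W.ι).obj N
  haveI : N_W.IsQuasicoherent := qc_pullback W.ι N
  let Ψ : (Scheme.Modules.pullback j₀).obj N_W ≅
      (Scheme.Modules.pullback V₀.ι).obj ((Scheme.Modules.pullback j).obj N) :=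
    (Scheme.Modules.pullbackComp j₀ W.ι).app N ≪≫
    (Scheme.Modules.pullbackCongr hj₀).app N ≪≫
    ((Scheme.Modules.pullbackComp V₀.ι j).app N).symm
  have hNW : PicF.IsInvertible N_W :=
    isInvertible_of_pullback_fpqc j₀ N_W
      (isInvertible_of_iso Ψ.symm (isInvertible_pullback V₀.ι hjN))
  -- local bases of `L` over preimages of opens of `X`
  have key : ∀ y : X, ∃ (W' : X.Opens) (_ : y ∈ W') (σ : Γ(L, U.ι ⁻¹ᵁ W')),
      IsBasisOver L (U.ι ⁻¹ᵁ W') σ := by
    intro y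
    by_cases hy : y ∈ U
    · obtain ⟨W₀, σ, hmem, hσ⟩ := (isInvertible_iff_exists_isBasisOver L).1 hL ⟨y, hy⟩
      have hpre : W₀ = U.ι ⁻¹ᵁ (U.ι ''ᵁ W₀) := (Scheme.Hom.preimage_image_eq U.ι W₀).symm
      obtain ⟨σ', hσ'⟩ := exists_isBasisOver_of_eq L hpre σ hσ
      exact ⟨U.ι ''ᵁ W₀, ⟨⟨y, hy⟩, hmem, rfl⟩, σ', hσ'⟩
    · have hyp : y = p := hnotU y hy
      subst hyp
      obtain ⟨W'', σ, hmem, hσ⟩ := (isInvertible_iff_exists_isBasisOver N_W).1 hNW ⟨y, hpW⟩
      obtain ⟨σ', hσ'⟩ := exists_isBasisOver_image_of_pullback W.ι N W'' σ hσ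
      exact ⟨W.ι ''ᵁ W'', ⟨⟨y, hpW⟩, hmem, rfl⟩, σ',
        (ParaFK.isBasisOver_pushforward_iff U.ι hfX L (W.ι ''ᵁ W'') σ').1 hσ'⟩
  exact isInvertible_pushforward_and_isIso_counit_of_local_basis U.ι hfX L key

end Groth.Agent.H2.PExt
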