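import Groth.Agent.Lib.Helper2.NFSecA
import Groth.Agent.Lib.Helper5.AG.TildeExact

/-!
# Formal modules locally free over `O/f^n`: the model `(O_U^r)/f^m` as a restricted tilde (helper2)
-/

set_option autoImplicit false
set_option linter.style.haveILetI false
universe u
open CategoryTheory Limits Opposite TopologicalSpace AlgebraicGeometry

noncomputable section

namespace Groth.Agent.H2.PFAlg

open Groth.Agent.H2.FormalQ Groth.Agent.H2.AlgzAff Groth.Agent.H2.AlgzExt
  Groth.Agent.H6.TildePunct Groth.Agent.H2.NFSec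

variable (A : Type u) [CommRing A] (U : (Spec (CommRingCat.of A)).Opens)

attribute [local instance 2000] idOver

/-- the functor `N ↦ N~|_U` -/
abbrev TF : ModuleCat.{u} A ⥤ (U : Scheme.{u}).Modules :=
  tilde.functor (CommRingCat.of A) ⋙ Scheme.Modules.restrictFunctor U.ι

instance : PreservesColimitsOfSize.{0, 0} (tilde.functor (CommRingCat.of A)) :=
  (adj A).leftAdjoint_preservesColimits

instance : PreservesColimitsOfSize.{0, 0} (Scheme.Modules.restrictFunctor U.ι) :=
  (Scheme.Modules.restrictAdjunction U.ι).leftAdjoint_preservesColimits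

/-- `O_U^r ≅ (A^r)~|_U` -/
def freeIso (r : ℕ) :
    FlatMod.freeMod (U : Scheme.{u}) r ≅ (TF A U).obj (ModuleCat.of A (Fin r → A)) :=
  Sigma.mapIso (fun _ : Fin r => θ A U) ≪≫
    (PreservesCoproduct.iso (TF A U) (fun _ : Fin r => ModuleCat.of A A)).symm ≪≫
      (TF A U).mapIso ((biproduct.isoCoproduct (fun _ : Fin r => ModuleCat.of A A)).symm ≪≫
        ModuleCat.biproductIsoPi (fun _ : Fin r => ModuleCat.of A A))

variable {A}

/-- the quotient map `A^r → (A/J)^r` -/
def qF (J : Ideal A) (r : ℕ) :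
    ModuleCat.of A (Fin r → A) ⟶ ModuleCat.of A (Fin r → A ⧸ J) :=
  ModuleCat.ofHom ((Submodule.mkQ J).compLeft (Fin r))

lemma qF_surjective (J : Ideal A) (r : ℕ) : Function.Surjective (qF J r).hom := by
  intro y
  choose x hx using fun i => Submodule.mkQ_surjective J (y i)
  exact ⟨x, funext hx⟩

lemma ker_qF (J : Ideal A) (r : ℕ) :
    LinearMap.ker (qF J r).hom = J • (⊤ : Submodule A (Fin r → A)) := by
  apply le_antisymm
  · intro x hx
    have hx' : ∀ i, x i ∈ J := by
      intro i
      have := congrFun (LinearMap.mem_ker.1 hx) i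
      exact (Submodule.Quotient.mk_eq_zero J).1 this
    rw [pi_eq_sum_univ x]
    refine Submodule.sum_mem _ fun i _ => ?_
    exact Submodule.smul_mem_smul (hx' i) Submodule.mem_top
  · rw [Submodule.smul_le]
    intro a ha y _
    rw [LinearMap.mem_ker]
    funext i
    change Submodule.Quotient.mk (a • y i) = 0
    rw [Submodule.Quotient.mk_eq_zero]
    exact J.mul_mem_right _ ha

variable (A)

/-- `(O_U^r)/J^m ≅ ((A/J^m)^r)~|_U`. -/
theorem exists_iso_T (J : Ideal A) (m r : ℕ) :
    Nonempty (Formal.modPow J m (FlatMod.freeMod (U : Scheme.{u}) r) ≅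
      (TF A U).obj (ModuleCat.of A (Fin r → A ⧸ J ^ m))) := by
  have h1 : IsQ (J ^ m) ((tilde.functor (CommRingCat.of A)).map (qF (J ^ m) r)) :=
    isQ_tilde_map (J ^ m) (qF (J ^ m) r) (qF_surjective _ r) (ker_qF _ r)
  have h2 : IsQ (X := ↑U) (J ^ m) ((Scheme.Modules.restrictFunctor U.ι).map
      ((tilde.functor (CommRingCat.of A)).map (qF (J ^ m) r))) := isQ_restrict' A U (J ^ m) h1
  have h3 := isQ_iso_comp (freeIso A U r).hom h2
  exact ⟨isoOfIsQ J m _ h3⟩

end Groth.Agent.H2.PFAlg
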