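import Groth.Agent.Lib.Helper2.PFSecI

/-!
# Sections over an open `W` with `W = Spec A ∖ V(I)` and the ideal transform (helper2)

Same as `PFSecH`/`PFSecI`, for an arbitrary open `W` satisfying `IsPunct I W`.
-/

set_option autoImplicit false
set_option linter.style.haveILetI false
universe u
open CategoryTheory AlgebraicGeometry TopologicalSpace Opposite

namespace Groth.Agent.H2.PFSec

open Groth.Agent.H6 LocCoh Groth.Agent.H6.TildePunct

variable (A : Type u) [CommRing A] (I : Ideal A) (W : (Spec (CommRingCat.of A)).Opens)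

section Defs

variable (N N' : Type u) [AddCommGroup N] [Module A N] [AddCommGroup N'] [Module A N']

/-- `N → Γ(W, N~)` -/
noncomputable def ηW : N →ₗ[A] TSec A N W :=
  (tilde.toOpen (R := CommRingCat.of A) (ModuleCat.of A N) W).hom

variable {N N'}

/-- functoriality of sections -/
noncomputable def tmapW (φ : N →ₗ[A] N') : TSec A N W →ₗ[A] TSec A N' W :=
  ((modulesSpecToSheaf.map (tilde.map (R := CommRingCat.of A) (ModuleCat.ofHom φ))).1.app
    (op W)).hom

theorem tmapW_η (φ : N →ₗ[A] N') (n : N) : tmapW A W φ (ηW A W N n) = ηW A W N' (φ n) := by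
  have h := tilde.toOpen_map_app (R := CommRingCat.of A) (ModuleCat.ofHom φ) W
  exact congrArg (fun ψ => ψ.hom n) h

theorem tmapW_comp_η (φ : N →ₗ[A] N') : tmapW A W φ ∘ₗ ηW A W N = ηW A W N' ∘ₗ φ :=
  LinearMap.ext (tmapW_η A W φ)

end Defs

variable [IsNoetherianRing A] (hW : IsPunct I (cv W))
  (N N' : Type u) [AddCommGroup N] [Module A N] [AddCommGroup N'] [Module A N']

include hW

theorem dmap_ηW_bijective : Function.Bijective (dmap I (ηW A W N)) := by
  obtain ⟨fs, hfs⟩ := (isNoetherianRing_iff_ideal_fg A).mp ‹_› I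
  apply DT.map_bijective
  · intro x hx
    have h1 : x ∈ LinearMap.ker (tilde.toOpen (R := CommRingCat.of A) (ModuleCat.of A N) W).hom :=
      hx
    rw [toOpen_eq, LinearEquiv.ker_comp, ker_toOpen hW hfs, mem_iSup_torsionBy_iff] at h1
    exact h1
  · intro q
    obtain ⟨s, rfl⟩ := Submodule.Quotient.mk_surjective _ q
    obtain ⟨n, hn⟩ := exists_pow_smul_mem_range hW hfs (eSec A N W s)
    refine ⟨n, fun c hc => ?_⟩
    rw [← Submodule.Quotient.mk_smul, Submodule.Quotient.mk_eq_zero]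
    obtain ⟨y, hy⟩ := hn c hc
    refine ⟨y, ?_⟩
    change (tilde.toOpen (R := CommRingCat.of A) (ModuleCat.of A N) W).hom y = c • s
    rw [toOpen_eq, LinearMap.comp_apply, hy, ← map_smul]
    exact (eSec A N W).symm_apply_apply _

theorem toDT_TSW_bijective : Function.Bijective (toDT I (TSec A N W)) := by
  have hb := Groth.Agent.H1.PunctAff.toDT_sec_bijective (M := N) hW
  let e := eSec A N W
  have hnat := fun t => DT.toDT_naturality (I := I) e.toLinearMap t
  have hinj : Function.Injective (dmap I e.toLinearMap) := dmap_injective _ e.injective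
  constructor
  · rw [injective_iff_map_eq_zero]
    intro t ht
    have h1 := hnat t
    rw [ht, map_zero] at h1
    have h2 : e t = 0 := hb.1 (by rw [map_zero]; exact h1.symm)
    exact (LinearEquiv.map_eq_zero_iff e).mp h2
  · intro y
    obtain ⟨s, hs⟩ := hb.2 (dmap I e.toLinearMap y)
    obtain ⟨t, rfl⟩ := e.surjective s
    refine ⟨t, hinj ?_⟩
    rw [← hs]
    exact hnat t

/-- the comparison `Γ(W, N~) ≃ D_I(N)` -/
noncomputable def ΘW : TSec A N W ≃ DT I N :=
  (Equiv.ofBijective _ (toDT_TSW_bijective A I W hW N)).trans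
    (Equiv.ofBijective _ (dmap_ηW_bijective A I W hW N)).symm

theorem dmap_η_ΘW (t : TSec A N W) :
    dmap I (ηW A W N) (ΘW A I W hW N t) = toDT I (TSec A N W) t := by
  change dmap I (ηW A W N) ((Equiv.ofBijective _ (dmap_ηW_bijective A I W hW N)).symm _) = _
  exact Equiv.ofBijective_apply_symm_apply _ _ _

variable {N N'}

theorem ΘW_tmap (φ : N →ₗ[A] N') (t : TSec A N W) :
    ΘW A I W hW N' (tmapW A W φ t) = dmap I φ (ΘW A I W hW N t) := by
  apply (dmap_ηW_bijective A I W hW N').1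
  rw [dmap_η_ΘW, ← dmap_comp, ← tmapW_comp_η, dmap_comp, dmap_η_ΘW, dmap_toDT]

theorem ΘW_zero : ΘW A I W hW N 0 = 0 := by
  apply (dmap_ηW_bijective A I W hW N).1
  rw [dmap_η_ΘW, (dmap I (ηW A W N)).map_zero, (toDT I (TSec A N W)).map_zero]

omit hW

variable (f : A) (M : Type u) [AddCommGroup M] [Module A M] [Module.Finite A M]

include hW

theorem secW_inj [IsAdicComplete (Ideal.span {f}) A]
    (h₁ : ∃ n : ℕ, ∀ x : LocCoh.H I 1 M, f ^ n • x = 0)
    (h₂ : ∃ n : ℕ, ∀ x : LocCoh.H I 2 M, f ^ n • x = 0) (t : TSec A M W)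
    (ht : ∀ n, tmapW A W (P f M n).mkQ t = 0) : t = 0 := by
  have h0 : ΘW A I W hW M t = 0 := by
    apply core_inj I f M h₁ h₂
    intro n
    rw [← ΘW_tmap, ht, ΘW_zero]
  apply (ΘW A I W hW M).injective
  rw [h0, ΘW_zero]

theorem secW_surj [IsAdicComplete (Ideal.span {f}) A]
    (h₁ : ∃ n : ℕ, ∀ x : LocCoh.H I 1 M, f ^ n • x = 0)
    (h₂ : ∃ n : ℕ, ∀ x : LocCoh.H I 2 M, f ^ n • x = 0)
    (t : ∀ n, TSec A (M ⧸ P f M n) W)
    (ht : ∀ n, tmapW A W (trans f M (Nat.le_succ n)) (t (n + 1)) = t n) :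
    ∃ x : TSec A M W, ∀ n, tmapW A W (P f M n).mkQ x = t n := by
  obtain ⟨x, hx⟩ := core_surj I f M h₁ h₂ (fun n => ΘW A I W hW _ (t n)) (by
    intro n
    rw [← ΘW_tmap, ht])
  refine ⟨(ΘW A I W hW M).symm x, fun n => ?_⟩
  apply (ΘW A I W hW _).injective
  rw [ΘW_tmap, Equiv.apply_symm_apply]
  exact hx n

end Groth.Agent.H2.PFSec
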