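import Groth.Agent.Lib.Helper2.PFAlgA
import Groth.Agent.Lib.Helper2.PFSecJ

/-!
# Sections over a basic open of locally isomorphic restricted tilde modules (helper2)
-/

set_option autoImplicit false
set_option linter.style.haveILetI false
universe u
open CategoryTheory Limits Opposite TopologicalSpace AlgebraicGeometry

noncomputable section

namespace Groth.Agent.H2.PFAlg

open Groth.Agent.H2.FormalQ Groth.Agent.H2.AlgzAff Groth.Agent.H2.AlgzExt
  Groth.Agent.H6.TildePunct Groth.Agent.H2.NFSec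

variable (A : Type u) [CommRing A]

variable {Y : Scheme.{u}} (j : Y ⟶ Spec (CommRingCat.of A)) [IsOpenImmersion j]

/-- sections of `j_* j^* Z` over `D` are sections of `Z` over `j(j⁻¹ D)`, `A`-linearly. -/
def pushRestrEquiv (Z : (Spec (CommRingCat.of A)).Modules)
    (D : (Spec (CommRingCat.of A)).Opens) :
    ((modulesSpecToSheaf.obj ((Scheme.Modules.pushforward j).obj
      ((Scheme.Modules.restrictFunctor j).obj Z))).presheaf.obj (op D)) ≃ₗ[A]
    ((modulesSpecToSheaf.obj Z).presheaf.obj (op (j ''ᵁ (j ⁻¹ᵁ D)))) where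
  toFun s := s
  invFun s := s
  map_add' _ _ := rfl
  map_smul' a s := by
    change (j.appIso (j ⁻¹ᵁ D)).inv (j.app D ((Spec (CommRingCat.of A)).presheaf.map D.leTop.op
        ((Scheme.ΓSpecIso (CommRingCat.of A)).inv a))) • (show Γ(Z, j ''ᵁ (j ⁻¹ᵁ D)) from s) =
      (Spec (CommRingCat.of A)).presheaf.map (j ''ᵁ (j ⁻¹ᵁ D)).leTop.op
        ((Scheme.ΓSpecIso (CommRingCat.of A)).inv a) • (show Γ(Z, j ''ᵁ (j ⁻¹ᵁ D)) from s)
    congr 1
    have h := Scheme.Hom.app_appIso_inv j D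
    have h2 := congrArg (fun φ => φ.hom ((Spec (CommRingCat.of A)).presheaf.map D.leTop.op
        ((Scheme.ΓSpecIso (CommRingCat.of A)).inv a))) h
    refine h2.trans ?_
    change ((Spec (CommRingCat.of A)).presheaf.map D.leTop.op ≫
      (Spec (CommRingCat.of A)).presheaf.map _) _ = _
    rw [← Functor.map_comp]
    rfl
  left_inv _ := rfl
  right_inv _ := rfl

/-- an isomorphism `j^* Z₁ ≅ j^* Z₂` gives `A`-linear isomorphisms of sections over opens
inside the image of `j`. -/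
theorem nonempty_sections_equiv (Z₁ Z₂ : (Spec (CommRingCat.of A)).Modules)
    (ψ : (Scheme.Modules.restrictFunctor j).obj Z₁ ≅ (Scheme.Modules.restrictFunctor j).obj Z₂)
    (D : (Spec (CommRingCat.of A)).Opens) (hD : D ≤ j.opensRange) :
    Nonempty (((modulesSpecToSheaf.obj Z₁).presheaf.obj (op D)) ≃ₗ[A]
      ((modulesSpecToSheaf.obj Z₂).presheaf.obj (op D))) := by
  have hD' : j ''ᵁ (j ⁻¹ᵁ D) = D := by
    rw [Scheme.Hom.image_preimage_eq_opensRange_inf]
    exact inf_eq_right.mpr hD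
  let e₀ := modulesSpecToSheaf.mapIso ((Scheme.Modules.pushforward j).mapIso ψ)
  let e₁ := ((TopCat.Sheaf.forget _ _).mapIso e₀).app (op D)
  let t : ∀ Z : (Spec (CommRingCat.of A)).Modules,
      (modulesSpecToSheaf.obj Z).presheaf.obj (op (j ''ᵁ (j ⁻¹ᵁ D))) ≅
        (modulesSpecToSheaf.obj Z).presheaf.obj (op D) :=
    fun Z => (modulesSpecToSheaf.obj Z).presheaf.mapIso (eqToIso (congrArg op hD'))
  exact ⟨(t Z₁).toLinearEquiv.symm ≪≫ₗ (pushRestrEquiv A j Z₁ D).symm ≪≫ₗ e₁.toLinearEquiv ≪≫ₗ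
    pushRestrEquiv A j Z₂ D ≪≫ₗ (t Z₂).toLinearEquiv⟩

variable (U : (Spec (CommRingCat.of A)).Opens)
  (N₁ N₂ : Type u) [AddCommGroup N₁] [Module A N₁] [AddCommGroup N₂] [Module A N₂]

/-- modules whose restricted tildes are isomorphic near a point have isomorphic sections over a
basic open neighbourhood of the point. -/
theorem exists_basicOpen_sections_equiv (V : (U : Scheme.{u}).Opens)
    (ψ : (Scheme.Modules.restrictFunctor V.ι).obj ((TF A U).obj (ModuleCat.of A N₁)) ≅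
      (Scheme.Modules.restrictFunctor V.ι).obj ((TF A U).obj (ModuleCat.of A N₂)))
    (x : (U : Scheme.{u})) (hx : x ∈ V) :
    ∃ g : A, U.ι x ∈ PrimeSpectrum.basicOpen g ∧
      (PrimeSpectrum.basicOpen g : (Spec (CommRingCat.of A)).Opens) ≤ U ∧
      Nonempty (TSec A N₁ (PrimeSpectrum.basicOpen g) ≃ₗ[A] TSec A N₂ (PrimeSpectrum.basicOpen g)) := by
  let jj : (V : Scheme.{u}) ⟶ Spec (CommRingCat.of A) := V.ι ≫ U.ι
  let ψ' : (Scheme.Modules.restrictFunctor jj).obj (tilde (R := CommRingCat.of A) (ModuleCat.of A N₁)) ≅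
      (Scheme.Modules.restrictFunctor jj).obj (tilde (R := CommRingCat.of A) (ModuleCat.of A N₂)) :=
    (Scheme.Modules.restrictFunctorComp V.ι U.ι).app _ ≪≫ ψ ≪≫
      ((Scheme.Modules.restrictFunctorComp V.ι U.ι).app _).symm
  have hx' : U.ι x ∈ (jj.opensRange : Set (Spec (CommRingCat.of A))) := ⟨⟨x, hx⟩, rfl⟩
  obtain ⟨_, ⟨_, ⟨g, rfl⟩, rfl⟩, hxg, hgU⟩ :=
    PrimeSpectrum.isBasis_basic_opens.exists_subset_of_mem_open hx' jj.opensRange.2
  refine ⟨g, hxg, ?_, ?_⟩
  · intro y hy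
    obtain ⟨z, rfl⟩ := hgU hy
    exact (V.ι z).2
  · exact nonempty_sections_equiv A jj _ _ ψ' (PrimeSpectrum.basicOpen g) hgU

end Groth.Agent.H2.PFAlg
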