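import Groth.Agent.Lib.Helper2.PFAlgB
import Groth.Agent.Lib.Helper2.AlgzFin7

/-!
# Formal modules locally free over `O/I^(n+1)`: local structure of the modules of sections (helper2)
-/

set_option autoImplicit false
set_option linter.style.haveILetI false
universe u
open CategoryTheory Limits Opposite TopologicalSpace AlgebraicGeometry

noncomputable section

namespace Groth.Agent.H2.PFAlg

open Groth.Agent.H2.FormalQ Groth.Agent.H2.AlgzAff Groth.Agent.H2.AlgzExt
  Groth.Agent.H6.TildePunct Groth.Agent.H2.NFSec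

attribute [local instance 2000] idOver

variable {A : Type u} [CommRing A] (U : (Spec (CommRingCat.of A)).Opens) [QuasiCompact U.ι]
  {I : Ideal A} (G : ℕᵒᵖ ⥤ (U : Scheme.{u}).Modules)

omit [QuasiCompact U.ι] in
theorem exists_basicOpen_sections_equiv' (M₁ M₂ : ModuleCat.{u} A) (V : (U : Scheme.{u}).Opens)
    (ψ : (Scheme.Modules.restrictFunctor V.ι).obj ((TF A U).obj M₁) ≅
      (Scheme.Modules.restrictFunctor V.ι).obj ((TF A U).obj M₂))
    (x : (U : Scheme.{u})) (hx : x ∈ V) :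
    ∃ g : A, U.ι x ∈ PrimeSpectrum.basicOpen g ∧
      (PrimeSpectrum.basicOpen g : (Spec (CommRingCat.of A)).Opens) ≤ U ∧
      Nonempty (TSec A M₁ (PrimeSpectrum.basicOpen g) ≃ₗ[A] TSec A M₂ (PrimeSpectrum.basicOpen g)) :=
  exists_basicOpen_sections_equiv A U M₁ M₂ V ψ x hx

/-- (LOC) near every point of `U`, the sections of `G_n` over a basic open are those of
`((A/I^(n+1))^r)~`. -/
theorem exists_loc (hG : Formal.IsCohFormal I G) (n : ℕ)
    (hfree : Formal2.IsFinLocFreeMod I (n + 1) (G.obj (op n))) (x : (U : Scheme.{u})) :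
    ∃ (g : A) (r : ℕ), U.ι x ∈ PrimeSpectrum.basicOpen g ∧
      (PrimeSpectrum.basicOpen g : (Spec (CommRingCat.of A)).Opens) ≤ U ∧
      Nonempty (TSec A ((Algz.sectMod A U G).obj (op n)) (PrimeSpectrum.basicOpen g) ≃ₗ[A]
        TSec A (Fin r → A ⧸ I ^ (n + 1)) (PrimeSpectrum.basicOpen g)) := by
  obtain ⟨V, r, hxV, ⟨ψ₀⟩⟩ := hfree x
  haveI hσ : IsIso (sectRestrict A U G) := isIso_sectRestrict (fun n => (hG.1 n.unop).1)
  let a : (TF A U).obj ((Algz.sectMod A U G).obj (op n)) ≅ G.obj (op n) :=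
    (asIso (sectRestrict A U G)).app (op n)
  obtain ⟨b⟩ := exists_iso_T A U I (n + 1) r
  let ψ := (Scheme.Modules.restrictFunctor V.ι).mapIso a ≪≫ ψ₀ ≪≫
    (Scheme.Modules.restrictFunctor V.ι).mapIso b
  obtain ⟨g, hg1, hg2, hg3⟩ := exists_basicOpen_sections_equiv' U
    ((Algz.sectMod A U G).obj (op n)) (ModuleCat.of A (Fin r → A ⧸ I ^ (n + 1))) V ψ x hxV
  exact ⟨g, r, hg1, hg2, hg3⟩

end Groth.Agent.H2.PFAlg
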