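import Groth.Agent.Lib.Helper2.PFSecB

/-!
# Ideal transforms: functoriality lemmas and the factorisation lemmas (helper2)
-/

set_option autoImplicit false
set_option linter.style.haveILetI false
universe u
open CategoryTheory CategoryTheory.Abelian

namespace Groth.Agent.H2.PFSec

open Groth.Agent.H6 LocCoh

section General

variable {R : Type u} [CommRing R] {I : Ideal R}
  {M M' M'' : Type u} [AddCommGroup M] [Module R M] [AddCommGroup M'] [Module R M']
  [AddCommGroup M''] [Module R M'']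

/-- the map on local cohomology -/
noncomputable abbrev hmap (I : Ideal R) (i : ℕ) (e : M →ₗ[R] M') : LocCoh.H I i M →ₗ[R] LocCoh.H I i M' :=
  ((localCohomology I i).map (ModuleCat.ofHom e)).hom

theorem dmap_comp (e : M →ₗ[R] M') (e' : M' →ₗ[R] M'') (x : DT I M) :
    dmap I (e' ∘ₗ e) x = dmap I e' (dmap I e x) := by
  rw [dmap, ModuleCat.ofHom_comp, Functor.map_comp]
  rfl

theorem dmap_id (x : DT I M) : dmap I (LinearMap.id : M →ₗ[R] M) x = x := by
  rw [dmap, ModuleCat.ofHom_id, CategoryTheory.Functor.map_id]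
  rfl

theorem dmap_smul_id (r : R) (x : DT I M) : dmap I (r • (LinearMap.id : M →ₗ[R] M)) x = r • x := by
  obtain ⟨n, φ, rfl⟩ := DT.ι_surj x
  rw [dmap, DT.map_ι, ← map_smul]
  rfl

theorem dmap_toDT (e : M →ₗ[R] M') (m : M) : dmap I e (toDT I M m) = toDT I M' (e m) :=
  DT.toDT_naturality e m

theorem hmap_comp (i : ℕ) (e : M →ₗ[R] M') (e' : M' →ₗ[R] M'') (x : LocCoh.H I i M) :
    hmap I i (e' ∘ₗ e) x = hmap I i e' (hmap I i e x) := by
  rw [hmap, ModuleCat.ofHom_comp, LC.map_comp_hom]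

theorem hmap_id (i : ℕ) (x : LocCoh.H I i M) : hmap I i (LinearMap.id : M →ₗ[R] M) x = x := by
  rw [hmap, ModuleCat.ofHom_id, CategoryTheory.Functor.map_id]
  rfl

theorem hmap_smul_id (i : ℕ) (r : R) (x : LocCoh.H I i M) :
    hmap I i (r • (LinearMap.id : M →ₗ[R] M)) x = r • x := by
  have h : ModuleCat.ofHom (r • (LinearMap.id : M →ₗ[R] M)) = r • 𝟙 (ModuleCat.of R M) := rfl
  rw [hmap, h, LC.map_smul_id]

variable {Q N N' : Type u} [AddCommGroup Q] [Module R Q] [AddCommGroup N] [Module R N]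
  [AddCommGroup N'] [Module R N']

/-- if `ι ∘ a = a' ∘ r` with `a` an isomorphism and `r` kills `H^i(Q)`, then `H^i(ι) = 0`. -/
theorem hmap_eq_zero_of_factor (a : Q ≃ₗ[R] N) (a' : Q →ₗ[R] N') (ι : N →ₗ[R] N') (r : R)
    (hfac : ∀ q, ι (a q) = a' (r • q)) (i : ℕ) (hr : ∀ z : LocCoh.H I i Q, r • z = 0)
    (w : LocCoh.H I i N) : hmap I i ι w = 0 := by
  have h1 : w = hmap I i a.toLinearMap (hmap I i a.symm.toLinearMap w) := by
    rw [← hmap_comp]
    have : a.toLinearMap ∘ₗ a.symm.toLinearMap = LinearMap.id := by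
      ext x; simp
    rw [this, hmap_id]
  have h2 : ι ∘ₗ a.toLinearMap = a' ∘ₗ (r • (LinearMap.id : Q →ₗ[R] Q)) := by
    ext q
    exact hfac q
  rw [h1, ← hmap_comp, h2, hmap_comp, hmap_smul_id, hr, map_zero]

/-- if `ι ∘ a = a' ∘ r` with `a` an isomorphism and `r` kills `H^1(Q)`, then `D(ι)` has image in
the image of `N'`. -/
theorem dmap_mem_range_of_factor (a : Q ≃ₗ[R] N) (a' : Q →ₗ[R] N') (ι : N →ₗ[R] N') (r : R)
    (hfac : ∀ q, ι (a q) = a' (r • q)) (hr : ∀ z : LocCoh.H I 1 Q, r • z = 0)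
    (x : DT I N) : ∃ p : N', dmap I ι x = toDT I N' p := by
  have h1 : x = dmap I a.toLinearMap (dmap I a.symm.toLinearMap x) := by
    rw [← dmap_comp]
    have : a.toLinearMap ∘ₗ a.symm.toLinearMap = LinearMap.id := by
      ext x; simp
    rw [this, dmap_id]
  have h2 : ι ∘ₗ a.toLinearMap = a' ∘ₗ (r • (LinearMap.id : Q →ₗ[R] Q)) := by
    ext q
    exact hfac q
  set z := dmap I a.symm.toLinearMap x with hz
  have h3 : r • z ∈ LinearMap.range (toDT I Q) := by
    rw [← LC.ker_dtToH1, LinearMap.mem_ker, map_smul]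
    exact hr _
  obtain ⟨q, hq⟩ := h3
  refine ⟨a' q, ?_⟩
  rw [h1, ← dmap_comp, h2, dmap_comp, dmap_smul_id, ← hq, dmap_toDT]

end General

end Groth.Agent.H2.PFSec
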