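import Groth.Agent.Lib.Helper2.LimML
import Groth.Agent.Lib.Helper2.PFSecC
import Groth.Agent.Lib.Helper2.AlgzFin1

/-!
# Inverse systems of `𝔞`-closed modules with division by `f` (helper2)

The module-level skeleton of the algebraization of formal modules that are locally free over
`O/f^n`: an inverse system `(X_n)` of `𝔞`-closed modules with maps `ν_n : X_n → X_{n+1}`
("multiplication by `f`") which are injective and satisfy `t ν = f = ν t`.
-/

set_option autoImplicit false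
set_option linter.style.haveILetI false
universe u
open CategoryTheory Limits Opposite

namespace Groth.Agent.H2.PFAlg

open Groth.Agent.H2.LimAdic Groth.Agent.H6 LocCoh Groth.Agent.H2.AlgzFin Groth.Agent.H2.PFSec

variable {A : Type u} [CommRing A] [IsNoetherianRing A]

/-- single transition map -/
abbrev t1 (X : ℕᵒᵖ ⥤ ModuleCat.{u} A) (n : ℕ) : X.obj (op (n + 1)) →ₗ[A] X.obj (op n) :=
  trl X (Nat.le_succ n)

/-- the structure on the system of sections of a formal module locally free over `O/f^n`. -/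
structure PSys (𝔞 : Ideal A) (f : A) (X : ℕᵒᵖ ⥤ ModuleCat.{u} A)
    (ν : ∀ n, X.obj (op n) →ₗ[A] X.obj (op (n + 1))) : Prop where
  closed : ∀ n, Function.Bijective (toDT 𝔞 (X.obj (op n)))
  kill : ∀ n (x : X.obj (op n)), f ^ (n + 1) • x = 0
  tν : ∀ n (x : X.obj (op n)), t1 X n (ν n x) = f • x
  νt : ∀ n (y : X.obj (op (n + 1))), ν n (t1 X n y) = f • y
  νinj : ∀ n, Function.Injective (ν n)
  cok : ∀ n, ∀ g ∈ 𝔞, ∀ y : X.obj (op n), ∃ k : ℕ, g ^ k • y ∈ LinearMap.range (t1 X n)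
  kerloc : ∀ n, ∀ g ∈ 𝔞, ∀ x : X.obj (op (n + 1)), t1 X n x = 0 →
    ∃ (K : ℕ) (y : X.obj (op (n + 1))), g ^ K • x = f ^ (n + 1) • y

namespace PSys

variable {𝔞 : Ideal A} {f : A} {X : ℕᵒᵖ ⥤ ModuleCat.{u} A}
  {ν : ∀ n, X.obj (op n) →ₗ[A] X.obj (op (n + 1))} (S : PSys 𝔞 f X ν)

include S

/-- the modules are `𝔞`-torsion free. -/
theorem tors (n : ℕ) (x : X.obj (op n)) (h : ∀ g ∈ 𝔞, ∃ k : ℕ, g ^ k • x = 0) : x = 0 := by
  obtain ⟨m, hm⟩ := exists_pow_smul_mem_of_forall 𝔞 (IsNoetherian.noetherian 𝔞) ⊥ x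
    (fun g hg => by
      obtain ⟨k, hk⟩ := h g hg
      exact ⟨k, by rw [hk]; exact Submodule.zero_mem _⟩)
  have h0 : toDT 𝔞 (X.obj (op n)) x = 0 :=
    (DT.toDT_eq_zero_iff x).2 ⟨m, fun a ha => (Submodule.mem_bot A).1 (hm a ha)⟩
  exact (S.closed n).1 (h0.trans (map_zero _).symm)

/-- gluing: an element which is locally in the range of an injective map from a closed module
is in the range. -/
theorem glue {n m : ℕ} (φ : X.obj (op n) →ₗ[A] X.obj (op m)) (hφ : Function.Injective φ)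
    (x : X.obj (op m)) (h : ∀ g ∈ 𝔞, ∃ k : ℕ, g ^ k • x ∈ LinearMap.range φ) :
    x ∈ LinearMap.range φ := by
  obtain ⟨k, hk⟩ := exists_pow_smul_mem_of_forall 𝔞 (IsNoetherian.noetherian 𝔞)
    (LinearMap.range φ) x h
  let e := LinearEquiv.ofInjective φ hφ
  let φ' : ↥(𝔞 ^ k) →ₗ[A] X.obj (op m) :=
    (LinearMap.toSpanSingleton A (X.obj (op m)) x) ∘ₗ (Submodule.subtype (𝔞 ^ k))
  have hrange : ∀ a, φ' a ∈ LinearMap.range φ := fun a => by
    change (LinearMap.toSpanSingleton A (X.obj (op m)) x) (a : A) ∈ _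
    rw [LinearMap.toSpanSingleton_apply]
    exact hk a a.2
  let ψ : ↥(𝔞 ^ k) →ₗ[A] X.obj (op n) :=
    e.symm.toLinearMap ∘ₗ LinearMap.codRestrict (LinearMap.range φ) φ' hrange
  have hψ : ∀ a : ↥(𝔞 ^ k), φ (ψ a) = (a : A) • x := by
    intro a
    have h2 : (e (ψ a) : X.obj (op m)) = φ (ψ a) := rfl
    rw [← h2]
    change ((e (e.symm _) : LinearMap.range φ) : X.obj (op m)) = _
    rw [LinearEquiv.apply_symm_apply]
    change (LinearMap.toSpanSingleton A (X.obj (op m)) x) (a : A) = _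
    rw [LinearMap.toSpanSingleton_apply]
  obtain ⟨y, hy⟩ := (S.closed n).2 (DT.ι 𝔞 (X.obj (op n)) k ψ)
  refine ⟨y, ?_⟩
  have hsub : φ y - x = 0 := by
    apply S.tors m
    intro g hg
    refine ⟨k, ?_⟩
    have hgk : g ^ k ∈ 𝔞 ^ k := Ideal.pow_mem_pow hg k
    have h1 : (g ^ k) • toDT 𝔞 (X.obj (op n)) y = toDT 𝔞 (X.obj (op n)) (ψ ⟨g ^ k, hgk⟩) := by
      rw [hy]
      exact DT.smul_ι k ψ ⟨g ^ k, hgk⟩
    rw [← map_smul] at h1
    have h2 : g ^ k • y = ψ ⟨g ^ k, hgk⟩ := (S.closed n).1 h1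
    rw [smul_sub, ← map_smul, h2, hψ]
    exact sub_self _
  exact sub_eq_zero.1 hsub

/-- `X_0` is killed by `f`. -/
theorem kill0 (z : X.obj (op 0)) : f • z = 0 := by
  have := S.kill 0 z
  rwa [zero_add, pow_one] at this

/-- elements of `X_{n+1}` dying in `X_0` are locally divisible by `f`. -/
theorem ploc (n : ℕ) : ∀ x : X.obj (op (n + 1)), trl X (Nat.zero_le (n + 1)) x = 0 →
    ∀ g ∈ 𝔞, ∃ (K : ℕ) (y : X.obj (op (n + 1))), g ^ K • x = f • y := by
  induction n with
  | zero =>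
    intro x hx g hg
    obtain ⟨K, y, h⟩ := S.kerloc 0 g hg x hx
    rw [show f ^ (0 + 1) = f from by rw [zero_add, pow_one]] at h
    exact ⟨K, y, h⟩
  | succ n ih =>
    intro x hx g hg
    have hx' : trl X (Nat.zero_le (n + 1)) (t1 X (n + 1) x) = 0 := by
      rw [t1, trl_trl]
      exact hx
    obtain ⟨K, y, hy⟩ := ih _ hx' g hg
    obtain ⟨K', u, hu⟩ := S.cok (n + 1) g hg y
    have h0 : t1 X (n + 1) (g ^ (K' + K) • x - f • u) = 0 := by
      rw [map_sub, map_smul, map_smul, hu, pow_add, mul_smul, hy, smul_comm (g ^ K') f y,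
        sub_self]
    obtain ⟨K'', v, hv⟩ := S.kerloc (n + 1) g hg _ h0
    refine ⟨K'' + (K' + K), g ^ K'' • u + f ^ (n + 1) • v, ?_⟩
    rw [smul_sub, sub_eq_iff_eq_add] at hv
    rw [pow_add, mul_smul, hv, smul_add, smul_comm f (g ^ K'') u, ← mul_smul f, ← pow_succ']
    exact add_comm _ _

/-- the range of `ν_n` is the kernel of `X_{n+1} → X_0`. -/
theorem range_ν (n : ℕ) (x : X.obj (op (n + 1))) :
    x ∈ LinearMap.range (ν n) ↔ trl X (Nat.zero_le (n + 1)) x = 0 := by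
  constructor
  · rintro ⟨y, rfl⟩
    have h1 : trl X (Nat.zero_le (n + 1)) (ν n y) = trl X (Nat.zero_le n) (t1 X n (ν n y)) := by
      rw [t1, trl_trl]
    rw [h1, S.tν, map_smul, S.kill0]
  · intro hx
    apply S.glue (ν n) (S.νinj n) x
    intro g hg
    obtain ⟨K, y, hy⟩ := S.ploc n x hx g hg
    exact ⟨K, t1 X n y, by rw [S.νt, hy]⟩

end PSys

/-- the iterated map `X_0 → X_n`. -/
noncomputable def Nn {X : ℕᵒᵖ ⥤ ModuleCat.{u} A}
    (ν : ∀ n, X.obj (op n) →ₗ[A] X.obj (op (n + 1))) : ∀ n, X.obj (op 0) →ₗ[A] X.obj (op n)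
  | 0 => LinearMap.id
  | n + 1 => ν n ∘ₗ Nn ν n

namespace PSys

variable {𝔞 : Ideal A} {f : A} {X : ℕᵒᵖ ⥤ ModuleCat.{u} A}
  {ν : ∀ n, X.obj (op n) →ₗ[A] X.obj (op (n + 1))} (S : PSys 𝔞 f X ν)

include S

theorem Nn_injective (n : ℕ) : Function.Injective (Nn ν n) := by
  induction n with
  | zero => exact fun _ _ h => h
  | succ n ih => exact (S.νinj n).comp ih

/-- `f^k z = N_k (z|_0)`. -/
theorem fpow_eq (k : ℕ) : ∀ z : X.obj (op k), f ^ k • z = Nn ν k (trl X (Nat.zero_le k) z) := by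
  induction k with
  | zero =>
    intro z
    rw [pow_zero, one_smul]
    exact (trl_self X 0 z).symm
  | succ k ih =>
    intro z
    have h1 : trl X (Nat.zero_le (k + 1)) z = trl X (Nat.zero_le k) (t1 X k z) := by
      rw [t1, trl_trl]
    rw [h1]
    change _ = ν k (Nn ν k (trl X (Nat.zero_le k) (t1 X k z)))
    rw [← ih, map_smul, S.νt, ← mul_smul, ← pow_succ]

/-- `t N_{n+1} = 0`. -/
theorem t1_Nn (n : ℕ) (h : X.obj (op 0)) : t1 X n (Nn ν (n + 1) h) = 0 := by
  change t1 X n (ν n (Nn ν n h)) = 0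
  rw [S.tν, ← map_smul, S.kill0, map_zero]

/-- the `f`-torsion of `X_n` and the kernel of `t_n` are the image of `X_0`. -/
theorem tors_ker (n : ℕ) :
    (∀ y : X.obj (op n), f • y = 0 → y ∈ LinearMap.range (Nn ν n)) ∧
      (∀ x : X.obj (op (n + 1)), t1 X n x = 0 → x ∈ LinearMap.range (Nn ν (n + 1))) := by
  induction n with
  | zero =>
    refine ⟨fun y _ => ⟨y, rfl⟩, fun x hx => ?_⟩
    obtain ⟨y, rfl⟩ := (S.range_ν 0 x).2 hx
    exact ⟨y, rfl⟩
  | succ n ih =>
    have hU : ∀ y : X.obj (op (n + 1)), f • y = 0 → y ∈ LinearMap.range (Nn ν (n + 1)) := by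
      intro y hy
      apply ih.2
      apply S.νinj n
      rw [S.νt, hy, map_zero]
    refine ⟨hU, fun x hx => ?_⟩
    have hx0 : trl X (Nat.zero_le (n + 1 + 1)) x = 0 := by
      have h1 : trl X (Nat.zero_le (n + 1 + 1)) x =
          trl X (Nat.zero_le (n + 1)) (t1 X (n + 1) x) := by
        rw [t1, trl_trl]
      rw [h1, hx, map_zero]
    obtain ⟨y, rfl⟩ := (S.range_ν (n + 1) x).2 hx0
    have hy : f • y = 0 := by rw [← S.tν, hx]
    obtain ⟨h, rfl⟩ := hU y hy
    exact ⟨h, rfl⟩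

/-- exactness of `0 → X_0 → X_{n+1} → X_n`. -/
theorem exact_Nn (n : ℕ) : Function.Exact (Nn ν (n + 1)) (t1 X n) := by
  intro x
  constructor
  · intro hx
    exact (S.tors_ker n).2 x hx
  · rintro ⟨h, rfl⟩
    exact S.t1_Nn n h

/-- all the modules are finite as soon as `X_0` is. -/
theorem finite_all (h0 : Module.Finite A (X.obj (op 0))) (n : ℕ) :
    Module.Finite A (X.obj (op n)) := by
  induction n with
  | zero => exact h0
  | succ n ih =>
    haveI := ih
    haveI := h0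
    let q : X.obj (op (n + 1)) →ₗ[A] X.obj (op 0) := trl X (Nat.zero_le (n + 1))
    have hker : LinearMap.ker q = LinearMap.range (ν n) := by
      ext x
      rw [LinearMap.mem_ker]
      exact (S.range_ν n x).symm
    haveI : Module.Finite A ↥(LinearMap.ker q) := by
      rw [hker]
      infer_instance
    haveI : IsNoetherian A (X.obj (op 0)) := isNoetherian_of_isNoetherianRing_of_finite A _
    haveI : Module.Finite A (X.obj (op (n + 1)) ⧸ LinearMap.ker q) :=
      Module.Finite.equiv (LinearMap.quotKerEquivRange q).symm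
    exact Module.Finite.of_submodule_quotient (LinearMap.ker q)

/-- elements of the limit dying in `X_0` are divisible by `f`. -/
theorem top1 (x : (limit X : ModuleCat.{u} A)) (hx : πl X 0 x = 0) :
    ∃ y : (limit X : ModuleCat.{u} A), x = f • y := by
  have h1 : ∀ m, πl X (m + 1) x ∈ LinearMap.range (ν m) := by
    intro m
    rw [S.range_ν, trl_πl]
    exact hx
  choose y hy using h1
  have hcomp : ∀ m, trl X (Nat.le_succ m) (y (m + 1)) = y m := by
    intro m
    apply S.νinj m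
    have e1 : ν m (t1 X m (y (m + 1))) = f • y (m + 1) := S.νt m _
    have e2 : ν m (y m) = f • y (m + 1) := by
      rw [hy m, ← trl_πl X (Nat.le_succ (m + 1)) x, ← hy (m + 1)]
      exact S.tν (m + 1) _
    exact e1.trans e2.symm
  obtain ⟨y', hy'⟩ := lim_exists X y hcomp
  refine ⟨y', lim_ext X _ _ fun n => ?_⟩
  rw [map_smul, hy' n, ← S.tν n, hy n]
  exact (trl_πl X (Nat.le_succ n) x).symm

/-- elements of the limit dying in `X_j`, `j < k`, are divisible by `f^k`. -/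
theorem topk (k : ℕ) : ∀ x : (limit X : ModuleCat.{u} A), (∀ j < k, πl X j x = 0) →
    ∃ y : (limit X : ModuleCat.{u} A), x = f ^ k • y := by
  induction k with
  | zero => exact fun x _ => ⟨x, by rw [pow_zero, one_smul]⟩
  | succ k ih =>
    intro x hx
    obtain ⟨y, rfl⟩ := ih x (fun j hj => hx j (Nat.lt_succ_of_lt hj))
    have hk : f ^ k • πl X k y = 0 := by
      rw [← map_smul]
      exact hx k (Nat.lt_succ_self k)
    have h0 : πl X 0 y = 0 := by
      rw [S.fpow_eq, trl_πl] at hk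
      exact S.Nn_injective k (hk.trans (map_zero _).symm)
    obtain ⟨y', rfl⟩ := S.top1 y h0
    exact ⟨y', by rw [← mul_smul, ← pow_succ]⟩

end PSys

end Groth.Agent.H2.PFAlg
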