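import Groth.Agent.Lib.Helper2.PFAlgD
import Groth.Agent.Lib.Helper2.PFSecB

/-!
# The Mittag-Leffler property of systems of closed modules with division by `f` (helper2)
-/

set_option autoImplicit false
set_option linter.style.haveILetI false
set_option linter.unusedSectionVars false
universe u
open CategoryTheory Limits Opposite

namespace Groth.Agent.H2.PFAlg

open Groth.Agent.H2.LimAdic Groth.Agent.H6 LocCoh Groth.Agent.H2.AlgzFin Groth.Agent.H2.PFSec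

variable {A : Type u} [CommRing A] [IsNoetherianRing A]

section SES

variable {N₁ N₂ N₃ : Type u} [AddCommGroup N₁] [Module A N₁] [AddCommGroup N₂] [Module A N₂]
  [AddCommGroup N₃] [Module A N₃]

theorem ses_w (f : N₁ →ₗ[A] N₂) (g : N₂ →ₗ[A] N₃) (hex : Function.Exact f g) :
    ModuleCat.ofHom f ≫ ModuleCat.ofHom g = 0 := by
  ext x
  exact hex.apply_apply_eq_zero x

theorem ses_mk (f : N₁ →ₗ[A] N₂) (g : N₂ →ₗ[A] N₃) (hf : Function.Injective f)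
    (hg : Function.Surjective g) (hex : Function.Exact f g) :
    (ShortComplex.mk (ModuleCat.ofHom f) (ModuleCat.ofHom g) (ses_w f g hex)).ShortExact where
  exact := (ShortComplex.ShortExact.moduleCat_exact_iff_function_exact _).2 hex
  mono_f := (ModuleCat.mono_iff_injective _).2 hf
  epi_g := (ModuleCat.epi_iff_surjective _).2 hg

end SES

variable {𝔞 : Ideal A} {f : A} {X : ℕᵒᵖ ⥤ ModuleCat.{u} A}
  {ν : ∀ n, X.obj (op n) →ₗ[A] X.obj (op (n + 1))}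

/-- the range of the transition map -/
abbrev Rn (X : ℕᵒᵖ ⥤ ModuleCat.{u} A) (n : ℕ) : Submodule A (X.obj (op n)) :=
  LinearMap.range (t1 X n)

/-- the transition map onto its range -/
abbrev gn (X : ℕᵒᵖ ⥤ ModuleCat.{u} A) (n : ℕ) : X.obj (op (n + 1)) →ₗ[A] Rn X n :=
  (t1 X n).rangeRestrict

namespace PSys

variable (S : PSys 𝔞 f X ν)

include S

theorem exact_gn (n : ℕ) : Function.Exact (Nn ν (n + 1)) (gn X n) := by
  intro x
  rw [← S.exact_Nn n x]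
  constructor
  · intro h
    exact congrArg Subtype.val h
  · intro h
    exact Subtype.ext h

/-- the short exact sequence `0 → X_0 → X_{n+1} → R_n → 0`. -/
theorem ses (n : ℕ) :
    (ShortComplex.mk (ModuleCat.ofHom (Nn ν (n + 1))) (ModuleCat.ofHom (gn X n))
      (ses_w _ _ (S.exact_gn n))).ShortExact :=
  ses_mk _ _ (S.Nn_injective (n + 1)) (LinearMap.surjective_rangeRestrict _) (S.exact_gn n)

theorem ker_subtype_le (n : ℕ) :
    LinearMap.ker (Rn X n).subtype ≤ DRing.torsionSub 𝔞 (Rn X n) := by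
  rw [Submodule.ker_subtype]
  exact bot_le

theorem coker_subtype (n : ℕ) :
    IsPowerTorsion 𝔞 (X.obj (op n) ⧸ LinearMap.range (Rn X n).subtype) := by
  intro z
  obtain ⟨y, rfl⟩ := Submodule.mkQ_surjective _ z
  obtain ⟨m, hm⟩ := exists_pow_smul_mem_of_forall 𝔞 (IsNoetherian.noetherian 𝔞) (Rn X n) y
    (fun g hg => S.cok n g hg y)
  refine ⟨m, fun a ha => ?_⟩
  rw [← map_smul, Submodule.mkQ_apply, Submodule.Quotient.mk_eq_zero, Submodule.range_subtype]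
  exact hm a ha

/-- `X_n → D(R_n)` -/
noncomputable def Ξ (n : ℕ) : X.obj (op n) →ₗ[A] DT 𝔞 (Rn X n) :=
  (DT.mapEquiv (Rn X n).subtype (S.ker_subtype_le n) (S.coker_subtype n)).symm.toLinearMap ∘ₗ
    toDT 𝔞 (X.obj (op n))

theorem dmap_Ξ (n : ℕ) (x : X.obj (op n)) :
    dmap 𝔞 (Rn X n).subtype (S.Ξ n x) = toDT 𝔞 (X.obj (op n)) x :=
  (DT.mapEquiv (Rn X n).subtype (S.ker_subtype_le n) (S.coker_subtype n)).apply_symm_apply _

theorem dmap_subtype_injective (n : ℕ) : Function.Injective (dmap 𝔞 (Rn X n).subtype) :=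
  (DT.mapEquiv (Rn X n).subtype (S.ker_subtype_le n) (S.coker_subtype n)).injective

theorem Ξ_coe (n : ℕ) (r : Rn X n) : S.Ξ n (r : X.obj (op n)) = toDT 𝔞 (Rn X n) r := by
  apply S.dmap_subtype_injective n
  rw [S.dmap_Ξ]
  exact (DT.toDT_naturality (Rn X n).subtype r).symm

/-- the obstruction map `X_n → H²_𝔞(X_0)`. -/
noncomputable def jn (n : ℕ) : X.obj (op n) →ₗ[A] LocCoh.H 𝔞 2 (X.obj (op 0)) :=
  LC.δ (S.ses n) 𝔞 1 ∘ₗ LC.dtToH1 𝔞 (Rn X n) ∘ₗ S.Ξ n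

theorem subsingleton_H1 (n : ℕ) : ∀ y : LocCoh.H 𝔞 1 (X.obj (op n)), y = 0 := by
  intro y
  obtain ⟨η, rfl⟩ := LC.dtToH1_surjective 𝔞 (X.obj (op n)) y
  obtain ⟨y', rfl⟩ := (S.closed n).2 η
  have : toDT 𝔞 (X.obj (op n)) y' ∈ LinearMap.ker (LC.dtToH1 𝔞 (X.obj (op n))) := by
    rw [LC.ker_dtToH1]
    exact ⟨y', rfl⟩
  exact this

/-- the kernel of the obstruction map is the range of the transition map. -/
theorem jn_eq_zero_iff (n : ℕ) (x : X.obj (op n)) :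
    S.jn n x = 0 ↔ x ∈ LinearMap.range (t1 X n) := by
  constructor
  · intro h
    obtain ⟨y, hy⟩ := LC.exact₃ (S.ses n) _ h
    rw [S.subsingleton_H1 (n + 1) y, map_zero] at hy
    have h1 : S.Ξ n x ∈ LinearMap.ker (LC.dtToH1 𝔞 (Rn X n)) := hy.symm
    rw [LC.ker_dtToH1] at h1
    obtain ⟨r, hr⟩ := h1
    have h2 : toDT 𝔞 (X.obj (op n)) (r : X.obj (op n)) = toDT 𝔞 (X.obj (op n)) x := by
      rw [← S.dmap_Ξ n x, ← hr]
      exact (DT.toDT_naturality (Rn X n).subtype r).symm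
    rw [← (S.closed n).1 h2]
    exact r.2
  · intro hx
    have h1 : S.jn n x = LC.δ (S.ses n) 𝔞 1 (LC.dtToH1 𝔞 (Rn X n) (S.Ξ n x)) := rfl
    have h2 : S.Ξ n x = toDT 𝔞 (Rn X n) ⟨x, hx⟩ := S.Ξ_coe n ⟨x, hx⟩
    have h3 : LC.dtToH1 𝔞 (Rn X n) (toDT 𝔞 (Rn X n) ⟨x, hx⟩) = 0 := by
      have : toDT 𝔞 (Rn X n) ⟨x, hx⟩ ∈ LinearMap.ker (LC.dtToH1 𝔞 (Rn X n)) := by
        rw [LC.ker_dtToH1]
        exact ⟨_, rfl⟩
      exact this
    rw [h1, h2, h3, map_zero]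

/-- `ν_n` maps the range of `t_n` into the range of `t_{n+1}`. -/
theorem ν_mem_Rn (n : ℕ) (r : Rn X n) : ν n (r : X.obj (op n)) ∈ Rn X (n + 1) := by
  obtain ⟨y, hy⟩ := r.2
  refine ⟨ν (n + 1) y, ?_⟩
  rw [S.tν, ← hy, S.νt]

/-- the restriction of `ν_n` to the ranges -/
noncomputable def νR (n : ℕ) : Rn X n →ₗ[A] Rn X (n + 1) :=
  LinearMap.codRestrict (Rn X (n + 1)) (ν n ∘ₗ (Rn X n).subtype) (S.ν_mem_Rn n)

theorem Ξ_ν (n : ℕ) (x : X.obj (op n)) :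
    S.Ξ (n + 1) (ν n x) = dmap 𝔞 (S.νR n) (S.Ξ n x) := by
  apply S.dmap_subtype_injective (n + 1)
  rw [S.dmap_Ξ, ← dmap_comp]
  have h1 : (Rn X (n + 1)).subtype ∘ₗ S.νR n = ν n ∘ₗ (Rn X n).subtype := by
    ext r
    rfl
  rw [h1, dmap_comp, S.dmap_Ξ]
  exact (DT.toDT_naturality (ν n) x).symm

/-- the morphism of short exact sequences induced by `ν`. -/
noncomputable def sesHom (n : ℕ) :
    ShortComplex.mk (ModuleCat.ofHom (Nn ν (n + 1))) (ModuleCat.ofHom (gn X n))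
      (ses_w _ _ (S.exact_gn n)) ⟶
    ShortComplex.mk (ModuleCat.ofHom (Nn ν (n + 1 + 1))) (ModuleCat.ofHom (gn X (n + 1)))
      (ses_w _ _ (S.exact_gn (n + 1))) where
  τ₁ := 𝟙 _
  τ₂ := ModuleCat.ofHom (ν (n + 1))
  τ₃ := ModuleCat.ofHom (S.νR n)
  comm₁₂ := by
    ext x
    rfl
  comm₂₃ := by
    ext y
    change t1 X (n + 1) (ν (n + 1) y) = ν n (t1 X n y)
    rw [S.νt, S.tν]

/-- compatibility of the obstruction maps with `ν`. -/
theorem jn_ν (n : ℕ) (x : X.obj (op n)) : S.jn (n + 1) (ν n x) = S.jn n x := by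
  change LC.δ (S.ses (n + 1)) 𝔞 1 (LC.dtToH1 𝔞 (Rn X (n + 1)) (S.Ξ (n + 1) (ν n x))) =
    LC.δ (S.ses n) 𝔞 1 (LC.dtToH1 𝔞 (Rn X n) (S.Ξ n x))
  rw [S.Ξ_ν, dtToH1_naturality]
  have h := δ_naturality (I := 𝔞) (S.ses n) (S.ses (n + 1)) (S.sesHom n) 1
    (LC.dtToH1 𝔞 (Rn X n) (S.Ξ n x))
  refine h.trans ?_
  change ((localCohomology 𝔞 (1 + 1)).map (𝟙 _)).hom _ = _
  rw [CategoryTheory.Functor.map_id]
  rfl

end PSys

end Groth.Agent.H2.PFAlg
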