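import Groth.Agent.Lib.Helper2.PFAlgE

/-!
# The Mittag-Leffler property of systems of closed modules with division by `f`, II (helper2)
-/

set_option autoImplicit false
set_option linter.style.haveILetI false
set_option linter.unusedSectionVars false
universe u
open CategoryTheory Limits Opposite

namespace Groth.Agent.H2.PFAlg

open Groth.Agent.H2.LimAdic Groth.Agent.H6 LocCoh Groth.Agent.H2.AlgzFin Groth.Agent.H2.PFSec
  Groth.Agent.H2.AR ARSys

variable {A : Type u} [CommRing A]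

/-- inclusion of ranges gives `ImLE`. -/
theorem imLE_of_range_le {M N P : ModuleCat.{u} A} (a : M ⟶ P) (b : N ⟶ P)
    (h : LinearMap.range a.hom ≤ LinearMap.range b.hom) : ImLE a b := by
  let E : Submodule A (M × N) :=
    LinearMap.eqLocus (a.hom ∘ₗ LinearMap.fst A M N) (b.hom ∘ₗ LinearMap.snd A M N)
  let π : ModuleCat.of A E ⟶ M := ModuleCat.ofHom (LinearMap.fst A M N ∘ₗ E.subtype)
  let c : ModuleCat.of A E ⟶ N := ModuleCat.ofHom (LinearMap.snd A M N ∘ₗ E.subtype)
  have hπ : Epi π := by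
    rw [ModuleCat.epi_iff_surjective]
    intro x
    obtain ⟨y, hy⟩ := h ⟨x, rfl⟩
    exact ⟨⟨(x, y), hy.symm⟩, rfl⟩
  refine ⟨ModuleCat.of A E, π, hπ, c, ?_⟩
  ext z
  exact z.2

variable [IsNoetherianRing A] {𝔞 : Ideal A} {f : A} {X : ℕᵒᵖ ⥤ ModuleCat.{u} A}
  {ν : ∀ n, X.obj (op n) →ₗ[A] X.obj (op (n + 1))}

/-- the iterated map `X_c → X_{c+k}`. -/
noncomputable def νit (ν : ∀ n, X.obj (op n) →ₗ[A] X.obj (op (n + 1))) (c : ℕ) :
    ∀ k, X.obj (op c) →ₗ[A] X.obj (op (c + k))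
  | 0 => LinearMap.id
  | k + 1 => ν (c + k) ∘ₗ νit ν c k

namespace PSys

variable (S : PSys 𝔞 f X ν)

include S

theorem jn_νit (c k : ℕ) (y : X.obj (op c)) : S.jn (c + k) (νit ν c k y) = S.jn c y := by
  induction k with
  | zero => rfl
  | succ k ih =>
    change S.jn (c + k + 1) (ν (c + k) (νit ν c k y)) = _
    rw [S.jn_ν, ih]

/-- stabilisation of the images of the obstruction maps. -/
theorem exists_stab (hQ : Module.Finite A (LocCoh.H 𝔞 2 (X.obj (op 0)))) :
    ∃ c : ℕ, ∀ (k : ℕ) (x : X.obj (op (c + k))), ∃ (y : X.obj (op c)) (z : X.obj (op (c + k + 1))),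
      x - νit ν c k y = t1 X (c + k) z := by
  haveI : IsNoetherian A (LocCoh.H 𝔞 2 (X.obj (op 0))) :=
    isNoetherian_of_isNoetherianRing_of_finite A _
  have hmono : ∀ n, LinearMap.range (S.jn n) ≤ LinearMap.range (S.jn (n + 1)) := by
    rintro n _ ⟨x, rfl⟩
    exact ⟨ν n x, S.jn_ν n x⟩
  obtain ⟨c, hc⟩ := monotone_stabilizes_iff_noetherian.2 ‹_›
    ⟨fun n => LinearMap.range (S.jn n), monotone_nat_of_le_succ hmono⟩
  refine ⟨c, fun k x => ?_⟩
  have h1 : S.jn (c + k) x ∈ LinearMap.range (S.jn c) := by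
    have := hc (c + k) (Nat.le_add_right c k)
    change LinearMap.range (S.jn c) = LinearMap.range (S.jn (c + k)) at this
    rw [this]
    exact ⟨x, rfl⟩
  obtain ⟨y, hy⟩ := h1
  have h2 : S.jn (c + k) (x - νit ν c k y) = 0 := by
    rw [map_sub, S.jn_νit, hy, sub_self]
  obtain ⟨z, hz⟩ := (S.jn_eq_zero_iff (c + k) _).1 h2
  exact ⟨y, z, hz.symm⟩

/-- `ν^{k+1}` of an element of `X_c` dies in `X_k`. -/
theorem trl_νit (c : ℕ) : ∀ (k : ℕ) (h : k ≤ c + (k + 1)) (y : X.obj (op c)),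
    trl X h (νit ν c (k + 1) y) = 0 := by
  intro k
  induction k with
  | zero =>
    intro h y
    change trl X h (ν (c + 0) y) = 0
    have h1 : trl X h (ν (c + 0) y) = trl X (Nat.zero_le (c + 0)) (t1 X (c + 0) (ν (c + 0) y)) := by
      rw [t1, trl_trl]
    rw [h1, S.tν, map_smul, S.kill0]
  | succ k ih =>
    intro h y
    set w := νit ν c (k + 1) y with hw
    change trl X h (ν (c + (k + 1)) w) = 0
    have h' : k + 1 ≤ c + (k + 1) := Nat.le_add_left _ _
    have h1 : trl X h (ν (c + (k + 1)) w) =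
        trl X h' (t1 X (c + (k + 1)) (ν (c + (k + 1)) w)) := by
      rw [t1, trl_trl]
    rw [h1, S.tν, map_smul, ← S.νt k]
    have h2 : t1 X k (trl X h' w) = 0 := by
      rw [t1, trl_trl]
      exact ih _ y
    rw [h2, map_zero]

theorem range_step {c : ℕ}
    (hc : ∀ (k : ℕ) (x : X.obj (op (c + k))), ∃ (y : X.obj (op c)) (z : X.obj (op (c + k + 1))),
      x - νit ν c k y = t1 X (c + k) z)
    (k : ℕ) (h1 : k ≤ c + (k + 1)) (h2 : k ≤ c + (k + 1) + 1) :
    LinearMap.range (trl X h1) = LinearMap.range (trl X h2) := by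
  apply le_antisymm
  · rintro _ ⟨x, rfl⟩
    obtain ⟨y, z, hz⟩ := hc (k + 1) x
    refine ⟨z, ?_⟩
    have h3 : trl X h2 z = trl X h1 (t1 X (c + (k + 1)) z) := by
      rw [t1, trl_trl]
    rw [h3, ← hz, map_sub, S.trl_νit, sub_zero]
  · rintro _ ⟨z, rfl⟩
    refine ⟨t1 X (c + (k + 1)) z, ?_⟩
    rw [t1, trl_trl]

theorem range_key {c : ℕ}
    (hc : ∀ (k : ℕ) (x : X.obj (op (c + k))), ∃ (y : X.obj (op c)) (z : X.obj (op (c + k + 1))),
      x - νit ν c k y = t1 X (c + k) z) :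
    ∀ (d k m : ℕ) (h : k ≤ m), m = c + k + 1 + d →
      LinearMap.range (trl X h) = LinearMap.range (trl X (Nat.le_add_left k c |>.trans
        (Nat.le_succ (c + k)) : k ≤ c + (k + 1))) := by
  intro d
  induction d with
  | zero =>
    intro k m h hm
    subst hm
    rfl
  | succ d ih =>
    intro k m h hm
    have hm' : m = c + (k + 1) + 1 + d := by omega
    have hk1 : k + 1 ≤ m := by omega
    have e1 := ih (k + 1) m hk1 hm'
    have e2 : trl X h = t1 X k ∘ₗ trl X hk1 := by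
      ext z
      change trl X h z = t1 X k (trl X hk1 z)
      rw [t1, trl_trl]
    have h0' : k + 1 ≤ c + (k + 1 + 1) := (Nat.le_add_left (k + 1) c).trans (Nat.le_succ _)
    have e3 : t1 X k ∘ₗ trl X h0' = trl X (Nat.le_succ_of_le (Nat.le_add_left k c |>.trans
        (Nat.le_succ (c + k))) : k ≤ c + (k + 1) + 1) := by
      ext z
      change t1 X k (trl X h0' z) = _
      rw [t1, trl_trl]
    rw [e2, LinearMap.range_comp, e1, ← LinearMap.range_comp, e3]
    exact (S.range_step hc k _ _).symm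

/-- the Mittag-Leffler property. -/
theorem isML (hQ : Module.Finite A (LocCoh.H 𝔞 2 (X.obj (op 0)))) : ARSys.IsML X := by
  obtain ⟨c, hc⟩ := S.exists_stab hQ
  intro n
  refine ⟨c + 1, fun s hs => ?_⟩
  rw [imageSubobject_eq_iff]
  have e1 : LinearMap.range (trl X (Nat.le_add_right n s)) = _ :=
    S.range_key hc (s - (c + 1)) n (n + s) _ (by omega)
  have e2 : LinearMap.range (trl X (Nat.le_add_right n (c + 1))) = _ :=
    S.range_key hc 0 n (n + (c + 1)) _ (by omega)
  exact ⟨imLE_of_range_le _ _ (e1.trans e2.symm).le, imLE_of_range_le _ _ (e1.trans e2.symm).ge⟩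

end PSys

end Groth.Agent.H2.PFAlg
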