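import Groth.Agent.Lib.Helper2.PFFinA

/-!
# The module of compatible families in `∏ D_I(M/f^(n+1)M)` is finite (helper2)
-/

set_option autoImplicit false
set_option linter.style.haveILetI false
universe u
open CategoryTheory CategoryTheory.Abelian

namespace Groth.Agent.H2.PFFin

open Groth.Agent.H2.PFSec Groth.Agent.H6 LocCoh

section Gen

variable {A : Type u} [CommRing A] {I : Ideal A}
  {N N' : Type u} [AddCommGroup N] [Module A N] [AddCommGroup N'] [Module A N']

theorem dmap_zero (x : DT I N) : dmap I (0 : N →ₗ[A] N') x = 0 := by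
  obtain ⟨n, φ, rfl⟩ := DT.ι_surj x
  rw [dmap, DT.map_ι, LinearMap.zero_comp, map_zero]

/-- `D_I(N)` is finite when `N` and `H^1_I(N)` are. -/
theorem finite_DT [IsNoetherianRing A] [Module.Finite A N]
    (hfin : Module.Finite A (LocCoh.H I 1 N)) : Module.Finite A (DT I N) := by
  haveI : Module.Finite A ↥(LinearMap.range (toDT I N)) := Module.Finite.range _
  haveI : Module.Finite A (DT I N ⧸ LinearMap.range (toDT I N)) := by
    have e1 : (DT I N ⧸ LinearMap.ker (LC.dtToH1 I N)) ≃ₗ[A] LocCoh.H I 1 N :=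
      LinearMap.quotKerEquivOfSurjective _ (LC.dtToH1_surjective I N)
    have e2 : (DT I N ⧸ LinearMap.range (toDT I N)) ≃ₗ[A]
        (DT I N ⧸ LinearMap.ker (LC.dtToH1 I N)) :=
      Submodule.quotEquivOfEq _ _ (LC.ker_dtToH1 I N).symm
    exact Module.Finite.equiv (e2.trans e1).symm
  exact Module.Finite.of_submodule_quotient (LinearMap.range (toDT I N))

end Gen

variable {A : Type u} [CommRing A] (I : Ideal A) (f : A) (M : Type u) [AddCommGroup M]
  [Module A M]

/-- compatible families in `∏ D_I(M/f^(n+1)M)`. -/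
def Hsub : Submodule A (∀ n, DT I (M ⧸ P f M n)) where
  carrier := {s | ∀ n, dmap I (trans f M (Nat.le_succ n)) (s (n + 1)) = s n}
  add_mem' := by
    intro a b ha hb n
    rw [Pi.add_apply, map_add, ha n, hb n]
    rfl
  zero_mem' := by
    intro n
    rw [Pi.zero_apply, map_zero]
    rfl
  smul_mem' := by
    intro c a ha n
    rw [Pi.smul_apply, map_smul, ha n]
    rfl

theorem mem_Hsub {s : ∀ n, DT I (M ⧸ P f M n)} :
    s ∈ Hsub I f M ↔ ∀ n, dmap I (trans f M (Nat.le_succ n)) (s (n + 1)) = s n := Iff.rfl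

/-- the projections -/
noncomputable def pr (n : ℕ) : ↥(Hsub I f M) →ₗ[A] DT I (M ⧸ P f M n) :=
  LinearMap.proj n ∘ₗ (Hsub I f M).subtype

theorem pr_apply (n : ℕ) (s : ↥(Hsub I f M)) : pr I f M n s = s.1 n := rfl

/-- the canonical map from `M`. -/
noncomputable def uMap : M →ₗ[A] ↥(Hsub I f M) :=
  LinearMap.codRestrict (Hsub I f M)
    (LinearMap.pi fun n => toDT I (M ⧸ P f M n) ∘ₗ (P f M n).mkQ) (by
      intro m n
      change dmap I (trans f M (Nat.le_succ n)) (toDT I _ ((P f M (n + 1)).mkQ m)) =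
        toDT I _ ((P f M n).mkQ m)
      rw [dmap_toDT]
      rfl)

theorem pr_uMap (n : ℕ) (m : M) :
    pr I f M n (uMap I f M m) = toDT I (M ⧸ P f M n) ((P f M n).mkQ m) := rfl

theorem pow_smul_DT (n : ℕ) (x : DT I (M ⧸ P f M n)) : f ^ (n + 1) • x = 0 := by
  rw [← dmap_smul_id, pow_smul_id_eq_zero, dmap_zero]

theorem span_pow_smul_le_ker_pr (n : ℕ) :
    (Ideal.span {f}) ^ (n + 1) • (⊤ : Submodule A ↥(Hsub I f M)) ≤ LinearMap.ker (pr I f M n) := by
  rw [Submodule.smul_le]
  intro r hr y _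
  rw [Ideal.span_singleton_pow, Ideal.mem_span_singleton'] at hr
  obtain ⟨c, rfl⟩ := hr
  rw [LinearMap.mem_ker, map_smul, mul_smul, pow_smul_DT, smul_zero]

instance isHausdorff_Hsub : IsHausdorff (Ideal.span {f}) ↥(Hsub I f M) where
  haus' := by
    intro x hx
    apply Subtype.ext
    funext n
    have h1 : x ∈ (Ideal.span {f}) ^ (n + 1) • (⊤ : Submodule A ↥(Hsub I f M)) := by
      have := hx (n + 1)
      rw [SModEq.zero] at this
      exact this
    exact span_pow_smul_le_ker_pr I f M n h1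

variable [IsNoetherianRing A]

omit [IsNoetherianRing A] in
theorem compat (s : ↥(Hsub I f M)) (n m : ℕ) (h : n ≤ m) :
    dmap I (trans f M h) (s.1 m) = s.1 n :=
  compat_of_succ I f M s.1 s.2 n m h

variable {f M}

/-- a compatible family vanishing in degree `0` is divisible by `f`. -/
theorem exists_eq_smul_of_pr_zero (hreg : IsSMulRegular M f) (s : ↥(Hsub I f M))
    (h0 : pr I f M 0 s = 0) : ∃ z : ↥(Hsub I f M), s = f • z := by
  have hz : ∀ n, ∃ z : DT I (M ⧸ P f M n), dmap I (fmul f M n) z = s.1 (n + 1) := by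
    intro n
    apply exists_dmap_eq_of_dmap_eq_zero (fmul f M n) (trans f M (Nat.zero_le (n + 1)))
      (fmul_injective hreg n) (fmul_exact f M n)
    rw [compat I f M s 0 (n + 1) (Nat.zero_le _)]
    exact h0
  choose z hz using hz
  have hzH : z ∈ Hsub I f M := by
    intro n
    apply dmap_injective (fmul f M n) (fmul_injective hreg n)
    rw [← dmap_comp, ← trans_fmul, dmap_comp, hz, hz]
    exact s.2 (n + 1)
  refine ⟨⟨z, hzH⟩, ?_⟩
  apply Subtype.ext
  funext n
  change s.1 n = f • z n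
  cases n with
  | zero =>
    have h1 : f • z 0 = 0 := by
      have := pow_smul_DT I f M 0 (z 0)
      rwa [zero_add, pow_one] at this
    rw [h1]
    exact h0
  | succ n =>
    rw [← dmap_smul_id, ← fmul_trans, dmap_comp, hzH n, hz]

theorem ker_pr_zero (hreg : IsSMulRegular M f) :
    LinearMap.ker (pr I f M 0) = Ideal.span {f} • (⊤ : Submodule A ↥(Hsub I f M)) := by
  apply le_antisymm
  · intro s hs
    obtain ⟨z, rfl⟩ := exists_eq_smul_of_pr_zero I hreg s hs
    exact Submodule.smul_mem_smul (Ideal.mem_span_singleton_self f) Submodule.mem_top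
  · have := span_pow_smul_le_ker_pr I f M 0
    rwa [zero_add, pow_one] at this

/-- finiteness of the module of compatible families. -/
theorem finite_Hsub [IsAdicComplete (Ideal.span {f}) A] [Module.Finite A M]
    (hreg : IsSMulRegular M f)
    (hfin : Module.Finite A (LocCoh.H I 1 (M ⧸ P f M 0))) :
    Module.Finite A ↥(Hsub I f M) := by
  haveI : Module.Finite A (DT I (M ⧸ P f M 0)) := finite_DT hfin
  haveI : IsNoetherian A (DT I (M ⧸ P f M 0)) := isNoetherian_of_isNoetherianRing_of_finite A _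
  apply Groth.Agent.H1.module_finite_of_isHausdorff_of_quotient_finite (Ideal.span {f})
  have e1 : (↥(Hsub I f M) ⧸ LinearMap.ker (pr I f M 0)) ≃ₗ[A] ↥(LinearMap.range (pr I f M 0)) :=
    LinearMap.quotKerEquivRange _
  have e2 : (↥(Hsub I f M) ⧸ (Ideal.span {f} • (⊤ : Submodule A ↥(Hsub I f M)))) ≃ₗ[A]
      (↥(Hsub I f M) ⧸ LinearMap.ker (pr I f M 0)) :=
    Submodule.quotEquivOfEq _ _ (ker_pr_zero I hreg).symm
  exact Module.Finite.equiv (e2.trans e1).symm

end Groth.Agent.H2.PFFin
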