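import Groth.Agent.S0329
import Groth.Agent.Lib.Helper6.LCProps
import Groth.Agent.Lib.Helper6.LCFaltings
import Groth.Agent.Lib.Helper6.LCTorsion
import Groth.Agent.Lib.Helper2.PFFinB
import Groth.Agent.Lib.Helper2.AlgzFin1

/-!
# Finiteness of closed modules which are locally split by finite free `B`-modules (helper2)
-/

set_option autoImplicit false
set_option linter.style.haveILetI false
universe u
open CategoryTheory CategoryTheory.Abelian

namespace Groth.Agent.H2.PFAlg

open Groth.Agent.H6 LocCoh Groth.Agent.H2.AlgzFin Groth.Agent.H2.PFSec Groth.Agent.H2.PFFin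

section Split

variable {R : Type u} [CommRing R] (S : Submonoid R)

/-- two finitely presented modules with isomorphic localizations are split by each other up to
an element of the multiplicative set. -/
theorem exists_split_of_localized_equiv
    {M L Mₛ Lₛ : Type u} [AddCommGroup M] [Module R M] [Module.FinitePresentation R M]
    [AddCommGroup L] [Module R L] [Module.FinitePresentation R L]
    [AddCommGroup Mₛ] [Module R Mₛ] [AddCommGroup Lₛ] [Module R Lₛ]
    (l : M →ₗ[R] Mₛ) [IsLocalizedModule S l] (l' : L →ₗ[R] Lₛ) [IsLocalizedModule S l']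
    (e : Mₛ ≃ₗ[R] Lₛ) :
    ∃ (φ : L →ₗ[R] M) (ψ : M →ₗ[R] L) (s : S), φ ∘ₗ ψ = (s : R) • LinearMap.id := by
  obtain ⟨ψ, s1, hψ⟩ := Module.FinitePresentation.exists_lift_of_isLocalizedModule S l'
    (e.toLinearMap ∘ₗ l)
  obtain ⟨φ, s2, hφ⟩ := Module.FinitePresentation.exists_lift_of_isLocalizedModule S l
    (e.symm.toLinearMap ∘ₗ l')
  have hcomp : l ∘ₗ (φ ∘ₗ ψ) = l ∘ₗ (((s2 : R) * (s1 : R)) • LinearMap.id) := by
    ext m
    have h1 := LinearMap.congr_fun hφ (ψ m)
    have h2 := LinearMap.congr_fun hψ m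
    simp only [LinearMap.coe_comp, Function.comp_apply, LinearMap.smul_apply,
      Submonoid.smul_def, LinearEquiv.coe_coe] at h1 h2
    simp only [LinearMap.coe_comp, Function.comp_apply, LinearMap.smul_apply, LinearMap.id_coe,
      id_eq, map_smul]
    rw [h1, h2, map_smul, LinearEquiv.symm_apply_apply, mul_smul]
  obtain ⟨s3, hs3⟩ := Module.Finite.exists_smul_of_comp_eq_of_isLocalizedModule S l _ _ hcomp
  refine ⟨(s3 : R) • φ, ψ, s3 * s2 * s1, ?_⟩
  ext m
  have h4 := LinearMap.congr_fun hs3 m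
  simp only [LinearMap.smul_apply, Submonoid.smul_def, LinearMap.coe_comp, Function.comp_apply,
    LinearMap.id_coe, id_eq] at h4
  simp only [LinearMap.coe_comp, Function.comp_apply, LinearMap.smul_apply, LinearMap.id_coe,
    id_eq, Submonoid.coe_mul]
  rw [h4, mul_smul, mul_smul, mul_smul]

/-- a cofinal submodule has the same localization. -/
theorem isLocalizedModule_comp_subtype {M M' : Type u} [AddCommGroup M] [Module R M]
    [AddCommGroup M'] [Module R M'] (l : M →ₗ[R] M') [IsLocalizedModule S l]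
    (N : Submodule R M) (hN : ∀ x : M, ∃ s : S, (s : R) • x ∈ N) :
    IsLocalizedModule S (l ∘ₗ N.subtype) where
  map_units s := IsLocalizedModule.map_units l s
  surj y := by
    obtain ⟨⟨x, s⟩, hx⟩ := IsLocalizedModule.surj S l y
    obtain ⟨t, ht⟩ := hN x
    refine ⟨(⟨(t : R) • x, ht⟩, t * s), ?_⟩
    change (t * s) • y = l ((t : R) • x)
    rw [map_smul, ← hx, mul_smul]
    rfl
  exists_of_eq {x₁ x₂} h := by
    obtain ⟨c, hc⟩ := IsLocalizedModule.exists_of_eq (S := S) (f := l) h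
    exact ⟨c, Subtype.ext hc⟩

end Split

variable {A : Type u} [CommRing A] [IsNoetherianRing A] (𝔞 : Ideal A)

/-- finiteness of local cohomology for modules which are locally (away from `V(𝔞)`) split by
finite free `B`-modules. -/
theorem finite_H_of_loc (B : Type u) [AddCommGroup B] [Module A B] [Module.Finite A B] (n : ℕ)
    (hB : ∀ i : ℕ, i ≤ n → Module.Finite A (LocCoh.H 𝔞 i B))
    (N : Type u) [AddCommGroup N] [Module A N] [Module.Finite A N]
    (hloc : ∀ p : Ideal A, p.IsPrime → ¬ 𝔞 ≤ p → ∃ g : A, g ∉ p ∧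
      ∃ (r : ℕ) (φ : (Fin r →₀ B) →ₗ[A] N) (ψ : N →ₗ[A] (Fin r →₀ B)),
        φ ∘ₗ ψ = g • LinearMap.id)
    (i : ℕ) (hi : i ≤ n) : Module.Finite A (LocCoh.H 𝔞 i N) := by
  classical
  obtain ⟨JB, h𝔞JB, hJB⟩ := (Groth.Agent.S0329.result A 𝔞 B n).mp hB
  let J : Ideal A := ⨅ j : Fin (n + 1), Module.annihilator A (LocCoh.H 𝔞 j N)
  have hJmem : ∀ a : A, a ∈ J ↔ ∀ j : Fin (n + 1), ∀ x : LocCoh.H 𝔞 j N, a • x = 0 := by
    intro a
    simp only [J, Ideal.mem_iInf, Module.mem_annihilator]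
  have h𝔞J : 𝔞 ≤ J.radical := by
    rw [Ideal.radical_eq_sInf]
    refine le_sInf ?_
    rintro p ⟨hJp, hp⟩
    by_contra hnp
    obtain ⟨g, hgp, r, φ, ψ, hφψ⟩ := hloc p hp hnp
    have hJBp : ¬ JB ≤ p := by
      intro h
      exact hnp (h𝔞JB.trans ((Ideal.IsPrime.radical_le_iff hp).2 h))
    obtain ⟨b, hb, hbp⟩ := Set.not_subset.mp hJBp
    have hbg : b * g ∈ J := by
      rw [hJmem]
      intro j x
      have hfree : ∀ y : (localCohomology 𝔞 j).obj (ModuleCat.of A (Fin r →₀ B)), b • y = 0 :=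
        Groth.Agent.H6.LC.smul_eq_zero_finsupp (I := 𝔞) (i := j) (X := B) b
          (fun z => hJB j (Nat.lt_succ_iff.mp j.2) b hb z) r
      have hcomp : CategoryTheory.CategoryStruct.comp (ModuleCat.ofHom ψ) (ModuleCat.ofHom φ) =
          g • CategoryTheory.CategoryStruct.id (ModuleCat.of A N) := by
        apply ModuleCat.hom_ext
        exact hφψ
      exact Groth.Agent.H6.LC.smul_eq_zero_of_split (I := 𝔞) (i := j) (ModuleCat.ofHom φ)
        (ModuleCat.ofHom ψ) g b hcomp hfree x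
    rcases hp.mem_or_mem (hJp hbg) with h | h
    · exact hbp h
    · exact hgp h
  have := (Groth.Agent.S0329.result A 𝔞 N n).mpr ⟨J, h𝔞J, fun j hj a ha x =>
    (hJmem a).mp ha ⟨j, Nat.lt_succ_of_le hj⟩ x⟩
  exact this i hi

/-- a closed module with a finitely generated cofinal submodule which is locally split by finite
free `B`-modules is finite, and so is its `H^2`. -/
theorem finite_closed_of_loc (B : Type u) [AddCommGroup B] [Module A B] [Module.Finite A B]
    (hB : ∀ i : ℕ, i ≤ 2 → Module.Finite A (LocCoh.H 𝔞 i B))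
    (H : Type u) [AddCommGroup H] [Module A H] (hcl : Function.Bijective (toDT 𝔞 H))
    (N : Submodule A H) (hfg : N.FG) (hcof : Cof 𝔞 N)
    (hloc : ∀ p : Ideal A, p.IsPrime → ¬ 𝔞 ≤ p → ∃ g : A, g ∉ p ∧
      ∃ (r : ℕ) (φ : (Fin r →₀ B) →ₗ[A] N) (ψ : N →ₗ[A] (Fin r →₀ B)),
        φ ∘ₗ ψ = g • LinearMap.id) :
    Module.Finite A H ∧ Module.Finite A (LocCoh.H 𝔞 2 H) := by
  haveI : Module.Finite A N := Module.Finite.iff_fg.2 hfg
  have h1 : Module.Finite A (LocCoh.H 𝔞 1 N) :=
    finite_H_of_loc 𝔞 B 2 hB N hloc 1 (by norm_num)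
  have h2 : Module.Finite A (LocCoh.H 𝔞 2 N) :=
    finite_H_of_loc 𝔞 B 2 hB N hloc 2 le_rfl
  have hpt : IsPowerTorsion 𝔞 (H ⧸ LinearMap.range N.subtype) := by
    intro q
    obtain ⟨x, rfl⟩ := Submodule.mkQ_surjective _ q
    obtain ⟨m, hm⟩ := hcof x
    refine ⟨m, fun a ha => ?_⟩
    rw [← map_smul, Submodule.mkQ_apply, Submodule.Quotient.mk_eq_zero, Submodule.range_subtype]
    exact hm a ha
  constructor
  · have hb : Function.Bijective (dmap 𝔞 N.subtype) :=
      DT.map_bijective N.subtype (by rw [Submodule.ker_subtype]; exact bot_le) hpt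
    haveI : Module.Finite A (DT 𝔞 N) := finite_DT h1
    let e := LinearEquiv.ofBijective (toDT 𝔞 H) hcl
    refine Module.Finite.of_surjective (e.symm.toLinearMap ∘ₗ dmap 𝔞 N.subtype) ?_
    exact e.symm.surjective.comp hb.2
  · obtain ⟨w, hS⟩ := Depth.shortExact_mk N.subtype N.mkQ N.injective_subtype
      (Submodule.mkQ_surjective N) (by
        intro x
        rw [Submodule.mkQ_apply, Submodule.Quotient.mk_eq_zero]
        exact ⟨fun h => ⟨⟨x, h⟩, rfl⟩, fun ⟨y, hy⟩ => hy ▸ y.2⟩)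
    haveI : Subsingleton ((localCohomology 𝔞 (1 + 1)).obj (ModuleCat.of A (H ⧸ N))) := by
      apply LC.subsingleton_of_torsion 𝔞 1
      intro q
      obtain ⟨x, rfl⟩ := Submodule.mkQ_surjective N q
      obtain ⟨m, hm⟩ := hcof x
      refine ⟨m, fun a ha => ?_⟩
      rw [← map_smul, Submodule.mkQ_apply, Submodule.Quotient.mk_eq_zero]
      exact hm a ha
    refine Module.Finite.of_surjective
      ((localCohomology 𝔞 2).map (ModuleCat.ofHom N.subtype)).hom ?_
    intro y
    exact LC.exact₂ hS y (Subsingleton.elim _ _)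

end Groth.Agent.H2.PFAlg
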