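import Groth.Agent.Lib.Helper2.PFAlgG
import Groth.Agent.Lib.Helper2.PFSecJ

/-!
# Algebraic lemmas for the algebraization of locally free formal modules (helper2)
-/

set_option autoImplicit false
set_option linter.style.haveILetI false
universe u
open CategoryTheory CategoryTheory.Abelian

namespace Groth.Agent.H2.PFAlg

open Groth.Agent.H6 LocCoh Groth.Agent.H2.AlgzFin Groth.Agent.H2.PFSec Groth.Agent.H2.PFFin
  Groth.Agent.H6.TildePunct

variable {A : Type u} [CommRing A]

section Closed

variable [IsNoetherianRing A] {I : Ideal A} {M N : Type u} [AddCommGroup M] [Module A M]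
  [AddCommGroup N] [Module A N]

/-- closedness transfers along linear equivalences. -/
theorem bijective_toDT_of_equiv (e : M ≃ₗ[A] N) (h : Function.Bijective (toDT I N)) :
    Function.Bijective (toDT I M) := by
  have hnat := fun t => DT.toDT_naturality (I := I) e.toLinearMap t
  have hinj : Function.Injective (dmap I e.toLinearMap) := dmap_injective _ e.injective
  constructor
  · rw [injective_iff_map_eq_zero]
    intro t ht
    have h1 := hnat t
    rw [ht, map_zero] at h1
    have h2 : e t = 0 := h.1 (by rw [map_zero]; exact h1.symm)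
    exact (LinearEquiv.map_eq_zero_iff e).mp h2
  · intro y
    obtain ⟨s, hs⟩ := h.2 (dmap I e.toLinearMap y)
    obtain ⟨t, rfl⟩ := e.surjective s
    refine ⟨t, hinj ?_⟩
    rw [← hs]
    exact hnat t

/-- closed modules have no torsion. -/
theorem eq_zero_of_closed (hcl : Function.Bijective (toDT I M)) (x : M)
    (h : x ∈ DRing.torsionSub I M) : x = 0 := by
  obtain ⟨m, hm⟩ := h
  have h0 : toDT I M x = 0 := (DT.toDT_eq_zero_iff x).2 ⟨m, hm⟩
  exact hcl.1 (h0.trans (map_zero _).symm)

end Closed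

section Div

variable {R : Type u} [CommRing R] (S : Submonoid R)
  {M L Mₛ Lₛ : Type u} [AddCommGroup M] [Module R M] [AddCommGroup L] [Module R L]
  [AddCommGroup Mₛ] [Module R Mₛ] [AddCommGroup Lₛ] [Module R Lₛ]

/-- divisibility of the `f`-torsion transfers along an isomorphism of localizations. -/
theorem alg_div (l : M →ₗ[R] Mₛ) [IsLocalizedModule S l] (l' : L →ₗ[R] Lₛ)
    [IsLocalizedModule S l'] (θ : Mₛ ≃ₗ[R] Lₛ) (f c : R)
    (hL : ∀ u : L, f • u = 0 → ∃ w : L, u = c • w)
    (x : M) (hx : f • x = 0) : ∃ (s : S) (v : M), (s : R) • x = c • v := by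
  obtain ⟨⟨u, s1⟩, hu⟩ := IsLocalizedModule.surj S l' (θ (l x))
  replace hu : (s1 : R) • θ (l x) = l' u := hu
  have h1 : l' (f • u) = 0 := by
    rw [LinearMap.map_smul, ← hu, smul_comm, ← LinearEquiv.map_smul θ, ← LinearMap.map_smul l, hx,
      map_zero, map_zero, smul_zero]
  obtain ⟨s2, hs2⟩ := (IsLocalizedModule.eq_zero_iff S l').1 h1
  replace hs2 : (s2 : R) • (f • u) = 0 := hs2
  obtain ⟨w, hw⟩ := hL ((s2 : R) • u) (by rw [smul_comm]; exact hs2)
  obtain ⟨⟨v, s3⟩, hv⟩ := IsLocalizedModule.surj S l (θ.symm (l' w))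
  replace hv : (s3 : R) • θ.symm (l' w) = l v := hv
  have h2 : l (((s3 : R) * (s2 : R) * (s1 : R)) • x) = l (c • v) := by
    apply θ.injective
    calc θ (l (((s3 : R) * s2 * s1) • x)) = ((s3 : R) * s2) • ((s1 : R) • θ (l x)) := by
          rw [LinearMap.map_smul, LinearEquiv.map_smul, mul_smul]
      _ = ((s3 : R) * s2) • l' u := by rw [hu]
      _ = (s3 : R) • l' ((s2 : R) • u) := by rw [LinearMap.map_smul, mul_smul]
      _ = (s3 : R) • l' (c • w) := by rw [hw]
      _ = c • θ ((s3 : R) • θ.symm (l' w)) := by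
          rw [LinearEquiv.map_smul, LinearEquiv.apply_symm_apply, LinearMap.map_smul, smul_comm]
      _ = θ (l (c • v)) := by rw [hv, LinearMap.map_smul, LinearEquiv.map_smul]
  obtain ⟨s4, hs4⟩ := IsLocalizedModule.exists_of_eq (S := S) (f := l) h2
  replace hs4 : (s4 : R) • (((s3 : R) * s2 * s1) • x) = (s4 : R) • (c • v) := hs4
  refine ⟨s4 * s3 * s2 * s1, (s4 : R) • v, ?_⟩
  rw [smul_comm c, ← hs4]
  simp only [Submonoid.coe_mul, mul_smul]

end Div

/-- in `(A/f^(n+2))^r` with `f` a nonzerodivisor, the `f`-torsion is divisible by `f^(n+1)`. -/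
theorem quot_div (f : A) (hnzd : f ∈ nonZeroDivisors A) (n r : ℕ)
    (u : Fin r → A ⧸ (Ideal.span {f}) ^ (n + 1 + 1)) (hu : f • u = 0) :
    ∃ w : Fin r → A ⧸ (Ideal.span {f}) ^ (n + 1 + 1), u = f ^ (n + 1) • w := by
  have key : ∀ i, ∃ b : A ⧸ (Ideal.span {f}) ^ (n + 1 + 1), u i = f ^ (n + 1) • b := by
    intro i
    obtain ⟨a, ha⟩ := Ideal.Quotient.mk_surjective (u i)
    have h1 : f • u i = 0 := by
      have := congrFun hu i
      rwa [Pi.smul_apply] at this
    rw [← ha] at h1
    have h2 : Ideal.Quotient.mk ((Ideal.span {f}) ^ (n + 1 + 1)) (f * a) = 0 := by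
      rw [← h1]
      rfl
    rw [Ideal.Quotient.eq_zero_iff_mem, Ideal.span_singleton_pow, Ideal.mem_span_singleton'] at h2
    obtain ⟨b, hb⟩ := h2
    have h3 : a = f ^ (n + 1) * b := by
      apply (mul_cancel_left_mem_nonZeroDivisors hnzd).1
      rw [← hb]
      ring
    refine ⟨Ideal.Quotient.mk _ b, ?_⟩
    rw [← ha, h3]
    rfl
  choose w hw using key
  exact ⟨w, funext fun i => by rw [Pi.smul_apply]; exact hw i⟩

section Sections

/-- sections over `D(g)` of the sheaf associated with a module form its localization at `g`. -/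
theorem isLocalizedModule_ηW (g : A) (H : Type u) [AddCommGroup H] [Module A H] :
    IsLocalizedModule (Submonoid.powers g) (ηW A (PrimeSpectrum.basicOpen g) H) := by
  unfold ηW
  exact @AlgebraicGeometry.tilde.instAwayCarrierCarrierObjOppositeOpensCarrierCarrierCommRingCatSpecModuleCatPresheafModulesSheafModulesSpecToSheafOpBasicOpenHomToOpen
    (CommRingCat.of A) (ModuleCat.of A H) g

variable [IsNoetherianRing A]

/-- a module whose sections over `D(g)` are those of a finite module `B'` is split by `B'` up to a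
power of `g`, and so is any finitely generated `g`-cofinal submodule. -/
theorem exists_split_sections (g : A) {H B' : Type u} [AddCommGroup H] [Module A H]
    [AddCommGroup B'] [Module A B'] [Module.Finite A B'] (N : Submodule A H) (hfg : N.FG)
    (hN : ∀ x : H, ∃ k : ℕ, g ^ k • x ∈ N)
    (θ : TSec A H (PrimeSpectrum.basicOpen g) ≃ₗ[A] TSec A B' (PrimeSpectrum.basicOpen g)) :
    ∃ (φ : B' →ₗ[A] N) (ψ : N →ₗ[A] B') (k : ℕ), φ ∘ₗ ψ = g ^ k • LinearMap.id := by
  haveI : Module.Finite A N := Module.Finite.iff_fg.2 hfg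
  haveI : Module.FinitePresentation A N := Module.finitePresentation_of_finite A N
  haveI : Module.FinitePresentation A B' := Module.finitePresentation_of_finite A B'
  haveI i1 : IsLocalizedModule (Submonoid.powers g) (ηW A (PrimeSpectrum.basicOpen g) H) :=
    isLocalizedModule_ηW g H
  haveI i2 : IsLocalizedModule (Submonoid.powers g) (ηW A (PrimeSpectrum.basicOpen g) B') :=
    isLocalizedModule_ηW g B'
  haveI i3 : IsLocalizedModule (Submonoid.powers g)
      (ηW A (PrimeSpectrum.basicOpen g) H ∘ₗ N.subtype) :=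
    isLocalizedModule_comp_subtype (Submonoid.powers g) _ N (fun x => by
      obtain ⟨k, hk⟩ := hN x
      exact ⟨⟨g ^ k, k, rfl⟩, hk⟩)
  obtain ⟨φ, ψ, s, h⟩ := exists_split_of_localized_equiv (Submonoid.powers g)
    (ηW A (PrimeSpectrum.basicOpen g) H ∘ₗ N.subtype) (ηW A (PrimeSpectrum.basicOpen g) B') θ
  obtain ⟨k, hk⟩ := s.2
  refine ⟨φ, ψ, k, ?_⟩
  rw [h, ← hk]

end Sections

end Groth.Agent.H2.PFAlg
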