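import Groth.Agent.Lib.Helper2.PFAlgC
import Groth.Agent.Lib.Helper2.PFAlgF
import Groth.Agent.Lib.Helper2.PFAlgH
import Groth.Agent.Lib.Helper2.AlgzFin7
import Groth.Agent.Lib.Helper6.ReflLoc

/-!
# The system of sections of a formal module locally free over `O/f^n` (helper2)
-/

set_option autoImplicit false
set_option linter.style.haveILetI false
universe u
open CategoryTheory Limits Opposite TopologicalSpace AlgebraicGeometry

noncomputable section

namespace Groth.Agent.H2.PFAlg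

open Groth.Agent.LD.FF Groth.Agent.H2.FormalQ Groth.Agent.H2.FormalEq Groth.Agent.LD
  Groth.Agent.H2.AlgzAff Groth.Agent.H2.LimAdic Groth.Agent.LD.QC Groth.Agent.H2.AR ARSys
  Groth.Agent.H2.AlgzEpi Groth.Agent.H2.Mum Groth.Agent.H2.LimSec Groth.Agent.H2.AlgzCan
  Groth.Agent.H2.AlgzExt Groth.Agent.H2.AlgzFin Groth.Agent.H6.TildePunct Groth.Agent.H2.NFSec
  Groth.Agent.H2.PFSec Groth.Agent.H6 LocCoh

attribute [local instance 2000] idOver

variable {A : Type u} [CommRing A] [IsNoetherianRing A] (𝔞 : Ideal A) (f : A)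
  {G : ℕᵒᵖ ⥤ (↑(LocCoh.puncturedOpen A 𝔞) : Scheme.{u}).Modules}

/-- division by `f`: `ν_n : G_n → G_{n+1}` with `p ν = f` and `ν p = f`. -/
theorem exists_ν (hG : Formal.IsCohFormal (Ideal.span {f}) G) (n : ℕ) :
    ∃ ν : G.obj (op n) ⟶ G.obj (op (n + 1)),
      G.map (homOfLE (Nat.le_succ n)).op ≫ ν = Formal.smulMod A (G.obj (op (n + 1))) f ∧
      ν ≫ G.map (homOfLE (Nat.le_succ n)).op = Formal.smulMod A (G.obj (op n)) f := by
  have hp : IsQ ((Ideal.span {f}) ^ (n + 1)) (G.map (homOfLE (Nat.le_succ n)).op) := hG.2.2 n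
  obtain ⟨hepi, hk, hu⟩ := (isQ_iff _ _).1 hp
  obtain ⟨ν, hν⟩ := hu (Formal.smulMod A (G.obj (op (n + 1))) f) (fun b hb => by
    rw [← CohIII.smulMod_mul]
    apply hG.2.1 (n + 1)
    rw [pow_succ' _ (n + 1)]
    exact Ideal.mul_mem_mul (Ideal.mem_span_singleton_self f) hb)
  refine ⟨ν, hν, ?_⟩
  haveI := hepi
  rw [← cancel_epi (G.map (homOfLE (Nat.le_succ n)).op), ← Category.assoc, hν, comp_smulMod]

/-- the functor of global sections on `U`. -/
abbrev Pf : (↑(LocCoh.puncturedOpen A 𝔞) : Scheme.{u}).Modules ⥤ ModuleCat.{u} A :=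
  Scheme.Modules.pushforward (LocCoh.puncturedOpen A 𝔞).ι ⋙
    moduleSpecΓFunctor (R := CommRingCat.of A)

lemma Pf_map_smulMod (F : (↑(LocCoh.puncturedOpen A 𝔞) : Scheme.{u}).Modules) (a : A)
    (x : (Pf 𝔞).obj F) : ((Pf 𝔞).map (Formal.smulMod A F a)).hom x = a • x := by
  have h1 : (Pf 𝔞).map (Formal.smulMod A F a) = a • 𝟙 _ := by
    change (moduleSpecΓFunctor (R := CommRingCat.of A)).map
      ((Scheme.Modules.pushforward (LocCoh.puncturedOpen A 𝔞).ι).map _) = _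
    rw [pushforward_map_smulMod (LocCoh.puncturedOpen A 𝔞).ι (Category.comp_id _) F a,
      Γ_map_smulMod]
    rfl
  rw [h1]
  rfl

/-- the modules of sections are `𝔞`-closed. -/
theorem closed_sectMod {I : Ideal A} (hG : Formal.IsCohFormal I G) (n : ℕ) :
    Function.Bijective
      (toDT 𝔞 ((Algz.sectMod A (LocCoh.puncturedOpen A 𝔞) G).obj (op n))) := by
  let U := LocCoh.puncturedOpen A 𝔞
  haveI hσ : IsIso (sectRestrict A U G) := isIso_sectRestrict (fun n => (hG.1 n.unop).1)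
  let Hn : ModuleCat.{u} A := (Algz.sectMod A U G).obj (op n)
  let a : (TF A U).obj Hn ≅ G.obj (op n) := (asIso (sectRestrict A U G)).app (op n)
  let e₀ := modulesSpecToSheaf.mapIso ((Scheme.Modules.pushforward U.ι).mapIso a.symm)
  let e₁ := ((TopCat.Sheaf.forget _ _).mapIso e₀).app (op ⊤)
  let W : (Spec (CommRingCat.of A)).Opens := U.ι ''ᵁ (U.ι ⁻¹ᵁ ⊤)
  have hW : IsPunct 𝔞 (cv W) := by
    have h : W = U := by
      change U.ι ''ᵁ (U.ι ⁻¹ᵁ ⊤) = U
      rw [Scheme.Hom.image_preimage_eq_opensRange_inf, Scheme.Opens.opensRange_ι]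
      exact inf_top_eq U
    rw [h]
    exact isPunct 𝔞
  have hb := toDT_TSW_bijective A 𝔞 W hW Hn
  exact bijective_toDT_of_equiv (e₁.toLinearEquiv ≪≫ₗ
    pushRestrEquiv A U.ι (tilde (R := CommRingCat.of A) Hn) ⊤) hb

end Groth.Agent.H2.PFAlg
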