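import Groth.Agent.Lib.Helper2.PFAlgI

/-!
# The system of sections of a formal module locally free over `O/f^n` is a `PSys` (helper2)
-/

set_option autoImplicit false
set_option linter.style.haveILetI false
universe u
open CategoryTheory Limits Opposite TopologicalSpace AlgebraicGeometry

noncomputable section

namespace Groth.Agent.H2.PFAlg

open Groth.Agent.LD.FF Groth.Agent.H2.FormalQ Groth.Agent.H2.FormalEq Groth.Agent.LD
  Groth.Agent.H2.AlgzAff Groth.Agent.H2.LimAdic Groth.Agent.LD.QC Groth.Agent.H2.AR ARSys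
  Groth.Agent.H2.AlgzEpi Groth.Agent.H2.Mum Groth.Agent.H2.LimSec Groth.Agent.H2.AlgzCan
  Groth.Agent.H2.AlgzExt Groth.Agent.H2.AlgzFin Groth.Agent.H6.TildePunct Groth.Agent.H2.NFSec
  Groth.Agent.H2.PFSec Groth.Agent.H6 LocCoh

attribute [local instance 2000] idOver

variable {A : Type u} [CommRing A] [IsNoetherianRing A] (𝔞 : Ideal A) (f : A)
  {G : ℕᵒᵖ ⥤ (↑(LocCoh.puncturedOpen A 𝔞) : Scheme.{u}).Modules}

omit [IsNoetherianRing A] in
/-- the point of `U` attached to a prime not containing `𝔞`. -/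
lemma exists_point (p : PrimeSpectrum A) (hnp : ¬ 𝔞 ≤ p.asIdeal) :
    ∃ x : (↑(LocCoh.puncturedOpen A 𝔞) : Scheme.{u}),
      (LocCoh.puncturedOpen A 𝔞).ι x = (p : Spec (CommRingCat.of A)) := by
  have : (p : Spec (CommRingCat.of A)) ∈ Set.range (LocCoh.puncturedOpen A 𝔞).ι := by
    rw [Scheme.Opens.range_ι]
    exact hnp
  exact this

/-- (LFM) the `f`-torsion of `H^0(U, G_{n+1})` dies in `H^0(U, G_n)`. -/
theorem lfm (hnzd : f ∈ nonZeroDivisors A) (hG : Formal.IsCohFormal (Ideal.span {f}) G)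
    (hfree : ∀ n : ℕ, Formal2.IsFinLocFreeMod (Ideal.span {f}) (n + 1) (G.obj (op n))) (n : ℕ)
    (x : (Algz.sectMod A (LocCoh.puncturedOpen A 𝔞) G).obj (op (n + 1))) (hx : f • x = 0) :
    t1 (Algz.sectMod A (LocCoh.puncturedOpen A 𝔞) G) n x = 0 := by
  apply eq_zero_of_closed (closed_sectMod 𝔞 hG n)
  apply Refl.mem_torsionSub_of_forall_prime 𝔞
  intro p hp
  obtain ⟨y, hy⟩ := exists_point 𝔞 p hp
  obtain ⟨g, r, hg1, hg2, ⟨θ⟩⟩ := exists_loc (LocCoh.puncturedOpen A 𝔞) G hG (n + 1)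
    (hfree (n + 1)) y
  haveI := isLocalizedModule_ηW g ((Algz.sectMod A (LocCoh.puncturedOpen A 𝔞) G).obj (op (n + 1)))
  haveI := isLocalizedModule_ηW g (Fin r → A ⧸ (Ideal.span {f}) ^ (n + 1 + 1))
  obtain ⟨s, v, hsv⟩ := alg_div (Submonoid.powers g)
    (ηW A (PrimeSpectrum.basicOpen g) ((Algz.sectMod A (LocCoh.puncturedOpen A 𝔞) G).obj (op (n + 1))))
    (ηW A (PrimeSpectrum.basicOpen g) (Fin r → A ⧸ (Ideal.span {f}) ^ (n + 1 + 1))) θ f
    (f ^ (n + 1)) (quot_div f hnzd n r) x hx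
  refine ⟨(s : A), ?_, ?_⟩
  · obtain ⟨k, hk⟩ := s.2
    rw [← hk]
    have hgp : g ∉ p.asIdeal := by
      rw [hy] at hg1
      exact hg1
    exact fun h => hgp (p.2.mem_of_pow_mem k h)
  · rw [← LinearMap.map_smul, hsv, LinearMap.map_smul]
    exact smul_sectMod_eq_zero 𝔞 hG n (f ^ (n + 1))
      (Ideal.pow_mem_pow (Ideal.mem_span_singleton_self f) (n + 1)) _

/-- division by `f` is injective on sections. -/
theorem ν_injective (hnzd : f ∈ nonZeroDivisors A) (hG : Formal.IsCohFormal (Ideal.span {f}) G)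
    (hfree : ∀ n : ℕ, Formal2.IsFinLocFreeMod (Ideal.span {f}) (n + 1) (G.obj (op n))) (n : ℕ)
    (ν : (Algz.sectMod A (LocCoh.puncturedOpen A 𝔞) G).obj (op n) →ₗ[A]
      (Algz.sectMod A (LocCoh.puncturedOpen A 𝔞) G).obj (op (n + 1)))
    (hνt : ∀ y, ν (t1 (Algz.sectMod A (LocCoh.puncturedOpen A 𝔞) G) n y) = f • y) :
    Function.Injective ν := by
  rw [injective_iff_map_eq_zero]
  intro y hy
  apply eq_zero_of_closed (closed_sectMod 𝔞 hG n)
  obtain ⟨m, hm⟩ := exists_pow_smul_mem_of_forall 𝔞 (IsNoetherian.noetherian 𝔞) ⊥ y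
    (fun g hg => by
      obtain ⟨k, z, hz⟩ := pow_smul_mem_range_tn 𝔞 hG n g hg y
      refine ⟨k, ?_⟩
      have h1 : f • z = 0 := by
        rw [← hνt z]
        change ν (tn _ n z) = 0
        rw [hz, LinearMap.map_smul, hy, smul_zero]
      have h2 := lfm 𝔞 f hnzd hG hfree n z h1
      rw [Submodule.mem_bot, ← hz]
      exact h2)
  exact ⟨m, fun a ha => (Submodule.mem_bot A).1 (hm a ha)⟩

/-- the system of sections is a `PSys`. -/
theorem exists_pSys (hnzd : f ∈ nonZeroDivisors A)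
    (hG : Formal.IsCohFormal (Ideal.span {f}) G)
    (hfree : ∀ n : ℕ, Formal2.IsFinLocFreeMod (Ideal.span {f}) (n + 1) (G.obj (op n))) :
    ∃ ν : ∀ n, (Algz.sectMod A (LocCoh.puncturedOpen A 𝔞) G).obj (op n) →ₗ[A]
        (Algz.sectMod A (LocCoh.puncturedOpen A 𝔞) G).obj (op (n + 1)),
      PSys 𝔞 f (Algz.sectMod A (LocCoh.puncturedOpen A 𝔞) G) ν := by
  choose νs hν1 hν2 using exists_ν 𝔞 f hG
  let ν : ∀ n, (Algz.sectMod A (LocCoh.puncturedOpen A 𝔞) G).obj (op n) →ₗ[A]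
      (Algz.sectMod A (LocCoh.puncturedOpen A 𝔞) G).obj (op (n + 1)) :=
    fun n => ((Pf 𝔞).map (νs n)).hom
  have htν : ∀ n (x : (Algz.sectMod A (LocCoh.puncturedOpen A 𝔞) G).obj (op n)),
      t1 (Algz.sectMod A (LocCoh.puncturedOpen A 𝔞) G) n (ν n x) = f • x := by
    intro n x
    have h1 : (Pf 𝔞).map (νs n) ≫ (Pf 𝔞).map (G.map (homOfLE (Nat.le_succ n)).op) =
        (Pf 𝔞).map (Formal.smulMod A _ f) := by
      rw [← Functor.map_comp, hν2 n]
    have h2 := congrArg (fun φ => φ.hom x) h1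
    exact h2.trans (Pf_map_smulMod 𝔞 _ f x)
  have hνt : ∀ n (y : (Algz.sectMod A (LocCoh.puncturedOpen A 𝔞) G).obj (op (n + 1))),
      ν n (t1 (Algz.sectMod A (LocCoh.puncturedOpen A 𝔞) G) n y) = f • y := by
    intro n y
    have h1 : (Pf 𝔞).map (G.map (homOfLE (Nat.le_succ n)).op) ≫ (Pf 𝔞).map (νs n) =
        (Pf 𝔞).map (Formal.smulMod A _ f) := by
      rw [← Functor.map_comp, hν1 n]
    have h2 := congrArg (fun φ => φ.hom y) h1
    exact h2.trans (Pf_map_smulMod 𝔞 _ f y)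
  refine ⟨ν, ?_⟩
  exact
    { closed := closed_sectMod 𝔞 hG
      kill := fun n x => smul_sectMod_eq_zero 𝔞 hG n (f ^ (n + 1))
        (Ideal.pow_mem_pow (Ideal.mem_span_singleton_self f) (n + 1)) x
      tν := htν
      νt := hνt
      νinj := fun n => ν_injective 𝔞 f hnzd hG hfree n (ν n) (hνt n)
      cok := fun n g hg y => pow_smul_mem_range_tn 𝔞 hG n g hg y
      kerloc := fun n g hg x hx => by
        obtain ⟨K, hK⟩ := pow_smul_mem_smul_of_tn_eq_zero 𝔞 hG n g hg x hx ⊤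
          (fun h => ⟨0, Submodule.mem_top⟩)
        obtain ⟨y, hy⟩ := (mem_P (f := f) (n := n)).1 hK
        exact ⟨K, y, hy⟩ }

end Groth.Agent.H2.PFAlg
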