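import Groth.Agent.Lib.Helper2.PFAlgJ

/-!
# Formal modules locally free over `O/f^n` on a punctured spectrum extend canonically (helper2)
-/

set_option autoImplicit false
set_option linter.style.haveILetI false
universe u
open CategoryTheory Limits Opposite TopologicalSpace AlgebraicGeometry

noncomputable section

namespace Groth.Agent.H2.PFAlg

open Groth.Agent.LD.FF Groth.Agent.H2.FormalQ Groth.Agent.H2.FormalEq Groth.Agent.LD
  Groth.Agent.H2.AlgzAff Groth.Agent.H2.LimAdic Groth.Agent.LD.QC Groth.Agent.H2.AR ARSys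
  Groth.Agent.H2.AlgzEpi Groth.Agent.H2.Mum Groth.Agent.H2.LimSec Groth.Agent.H2.AlgzCan
  Groth.Agent.H2.AlgzExt Groth.Agent.H2.AlgzFin Groth.Agent.H6.TildePunct Groth.Agent.H2.NFSec
  Groth.Agent.H2.PFSec Groth.Agent.H6 LocCoh

attribute [local instance 2000] idOver

variable {A : Type u} [CommRing A] [IsNoetherianRing A] (𝔞 : Ideal A) (f : A)
  {G : ℕᵒᵖ ⥤ (↑(LocCoh.puncturedOpen A 𝔞) : Scheme.{u}).Modules}

/-- finiteness of `H^0(U, G_0)` and of its `H^2_𝔞`. -/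
theorem finite_sect0
    (h₁ : Module.Finite A (LocCoh.H 𝔞 1 (A ⧸ Ideal.span {f})))
    (h₂ : Module.Finite A (LocCoh.H 𝔞 2 (A ⧸ Ideal.span {f})))
    (hG : Formal.IsCohFormal (Ideal.span {f}) G)
    (hfree : ∀ n : ℕ, Formal2.IsFinLocFreeMod (Ideal.span {f}) (n + 1) (G.obj (op n))) :
    Module.Finite A ((Algz.sectMod A (LocCoh.puncturedOpen A 𝔞) G).obj (op 0)) ∧
      Module.Finite A (LocCoh.H 𝔞 2 ((Algz.sectMod A (LocCoh.puncturedOpen A 𝔞) G).obj (op 0))) := by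
  have key : ∀ J : Ideal A, J = Ideal.span {f} → ∀ i : ℕ, i ≤ 2 →
      Module.Finite A (LocCoh.H 𝔞 i (A ⧸ J)) := by
    rintro J rfl i hi
    interval_cases i
    · exact LC.finite_H_zero 𝔞 _
    · exact h₁
    · exact h₂
  have hB := key ((Ideal.span {f}) ^ (0 + 1)) (by rw [zero_add, pow_one])
  obtain ⟨N, hfg, hcof⟩ := exists_fg_cof 𝔞 hG 0
  refine finite_closed_of_loc 𝔞 (A ⧸ (Ideal.span {f}) ^ (0 + 1)) hB _ (closed_sectMod 𝔞 hG 0)
    N hfg hcof ?_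
  intro p hp hnp
  obtain ⟨y, hy⟩ := exists_point 𝔞 ⟨p, hp⟩ hnp
  obtain ⟨g, r, hg1, hg2, ⟨θ⟩⟩ := exists_loc (LocCoh.puncturedOpen A 𝔞) G hG 0 (hfree 0) y
  have hgp : g ∉ p := by
    rw [hy] at hg1
    exact hg1
  have hgr : g ∈ 𝔞.radical := by
    rw [Ideal.radical_eq_sInf, Ideal.mem_sInf]
    rintro q ⟨h𝔞q, hq⟩
    by_contra hgq
    exact (hg2 (show (⟨q, hq⟩ : PrimeSpectrum A) ∈ PrimeSpectrum.basicOpen g from hgq)) h𝔞q
  obtain ⟨c, hc⟩ := hgr
  have hN : ∀ x : (Algz.sectMod A (LocCoh.puncturedOpen A 𝔞) G).obj (op 0),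
      ∃ k : ℕ, g ^ k • x ∈ N := by
    intro x
    obtain ⟨m, hm⟩ := hcof x
    refine ⟨c * m, ?_⟩
    rw [pow_mul]
    exact hm _ (Ideal.pow_mem_pow hc m)
  obtain ⟨φ, ψ, k, hk⟩ := exists_split_sections g N hfg hN θ
  let e := Finsupp.linearEquivFunOnFinite A (A ⧸ (Ideal.span {f}) ^ (0 + 1)) (Fin r)
  refine ⟨g ^ k, fun h => hgp (hp.mem_of_pow_mem k h), r, φ ∘ₗ e.toLinearMap,
    e.symm.toLinearMap ∘ₗ ψ, ?_⟩
  rw [← hk]
  ext x
  simp only [LinearMap.coe_comp, Function.comp_apply, LinearEquiv.coe_coe,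
    LinearEquiv.apply_symm_apply]

/-- the system `(G_n)` extends canonically to `Spec A`. -/
theorem canonicallyExtends_of_locFree (hnzd : f ∈ nonZeroDivisors A)
    (h₁ : Module.Finite A (LocCoh.H 𝔞 1 (A ⧸ Ideal.span {f})))
    (h₂ : Module.Finite A (LocCoh.H 𝔞 2 (A ⧸ Ideal.span {f})))
    (hG : Formal.IsCohFormal (Ideal.span {f}) G)
    (hfree : ∀ n : ℕ, Formal2.IsFinLocFreeMod (Ideal.span {f}) (n + 1) (G.obj (op n))) :
    Algz.CanonicallyExtends A (Ideal.span {f}) (LocCoh.puncturedOpen A 𝔞) G := by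
  obtain ⟨ν, S⟩ := exists_pSys 𝔞 f hnzd hG hfree
  obtain ⟨hfin0, hQ⟩ := finite_sect0 𝔞 f h₁ h₂ hG hfree
  refine canonicallyExtends_of_isML _ _ G hG (S.isML hQ) ?_ ?_
  · intro k
    refine ⟨k, fun x hx => ?_⟩
    have hx' : πl (Algz.sectMod A (LocCoh.puncturedOpen A 𝔞) G) k x = 0 := hx
    obtain ⟨y, hy⟩ := S.topk k x (fun j hj => by
      rw [← trl_πl (Algz.sectMod A (LocCoh.puncturedOpen A 𝔞) G) (le_of_lt hj) x, hx', map_zero])
    rw [hy]
    exact Submodule.smul_mem_smul (Ideal.pow_mem_pow (Ideal.mem_span_singleton_self f) k)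
      Submodule.mem_top
  · intro n
    haveI := S.finite_all hfin0 n
    haveI : IsNoetherian A ((Algz.sectMod A (LocCoh.puncturedOpen A 𝔞) G).obj (op n)) :=
      isNoetherian_of_isNoetherianRing_of_finite A _
    exact Module.IsNoetherian.finite A _

end Groth.Agent.H2.PFAlg
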