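import Mathlib
import Groth.Agent.H4.FA9

/-!
# Annihilation of local cohomology by a power of `f` from the depth + dimension condition (helper2)

A direct corollary of helper4's annihilator theorem (`FA8.S1711_aux`), in the shape of `FA9.S1765`.
-/

set_option autoImplicit false
universe u
open CategoryTheory Category Limits Pretriangulated

namespace Groth.Agent.H2.PFAnn

attribute [local instance] HasDerivedCategory.standard
attribute [local instance] Groth.Agent.H4.LK4.hasLTen Groth.Agent.H4.LK5.hasLTen₃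
  Groth.Agent.H4.KI7.isSymMonoidal Groth.Agent.H4.KI6.hasRHom

open DRing DTen DerivedCategory Groth.Agent.H4.DThick Groth.Agent.H4.DCompl1 Groth.Agent.H4.CF1
  Groth.Agent.H4.InjAmp Groth.Agent.H4.DZ1 Groth.Agent.H4.DZ2 Groth.Agent.H4.DZ3 Groth.Agent.H4.DZ4
  Groth.Agent.H4.DZ5 Groth.Agent.H4.DZ6 Groth.Agent.H4.ProjAmp Groth.Agent.H4.US8 Groth.Agent.H4.US9
  Groth.Agent.H4.US10 Groth.Agent.H4.US11 Groth.Agent.H4.US12 Groth.Agent.H4.US13
  Groth.Agent.H4.US14 Groth.Agent.H4.FB1 Groth.Agent.H4.FB2 Groth.Agent.H4.FB3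
  Groth.Agent.H4.DRing1 Groth.Agent.H4.TL1 Groth.Agent.H4.TL3 Groth.Agent.H4.TL4
  Groth.Agent.H4.FA1 Groth.Agent.H4.FA2 Groth.Agent.H4.FA3 Groth.Agent.H4.FA4 Groth.Agent.H4.FA5
  Groth.Agent.H4.FA6 Groth.Agent.H4.FA8 Groth.Agent.H4.FA9 Groth.Agent.H4.LD3 Groth.Agent.H4.HC6

open scoped Pointwise TensorProduct

theorem exists_pow_kills (A : Type u) [CommRing A] [IsNoetherianRing A]
    (hA : ∃ ω : Dual.D A, Dual.IsDualizing A ω) (I : Ideal A) (f : A) (M : Type u) [AddCommGroup M]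
    [Module A M] [Module.Finite A M] (s : ℕ)
    (h : ∀ p q : PrimeSpectrum A, f ∉ p.asIdeal → I ≤ q.asIdeal → p ≤ q →
      (s : WithBot ℕ∞) < ((LocCoh.depth (Localization.AtPrime p.asIdeal)
        (LocalizedModule p.asIdeal.primeCompl M) : ℕ∞) : WithBot ℕ∞) +
        Order.krullDim (Set.Icc p q)) :
    ∃ n : ℕ, ∀ i : ℕ, i ≤ s → ∀ x : LocCoh.H I i M, f ^ n • x = 0 := by
  obtain ⟨ω, hω⟩ := hA
  choose n hn using fun p : PrimeSpectrum A => exists_degree p ω hω
  let T : Set (PrimeSpectrum A) := PrimeSpectrum.zeroLocus (I : Set A)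
  let T' : Set (PrimeSpectrum A) := PrimeSpectrum.zeroLocus ((Ideal.span {f} : Ideal A) : Set A)
  have hT : StableUnderSpecialization T :=
    (PrimeSpectrum.isClosed_zeroLocus (I : Set A)).stableUnderSpecialization
  have hT' : StableUnderSpecialization T' :=
    (PrimeSpectrum.isClosed_zeroLocus _).stableUnderSpecialization
  obtain ⟨J, hJ, hk⟩ := (S1711_aux ω hω n hn hT hT' s M).2 (by
    intro p q hp hq hpq
    refine h p q ?_ ?_ hpq
    · intro hfp
      apply hp
      rw [PrimeSpectrum.mem_zeroLocus, SetLike.coe_subset_coe, Ideal.span_singleton_le_iff_mem]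
      exact hfp
    · have : q ∈ PrimeSpectrum.zeroLocus (I : Set A) := hq
      rwa [PrimeSpectrum.mem_zeroLocus, SetLike.coe_subset_coe] at this)
  have hrad : Ideal.span {f} ≤ J.radical :=
    (PrimeSpectrum.zeroLocus_subset_zeroLocus_iff J (Ideal.span {f})).1 hJ
  obtain ⟨k, hk'⟩ : f ∈ J.radical := hrad (Ideal.mem_span_singleton_self f)
  refine ⟨k, fun i hi x => ?_⟩
  have hk'' := (kills_HT_iff T M s J).1 hk (i : ℤ) (by omega)
  have h1 := kills_hdi_of_kills_hdt I ((Dual.inD A M)⟦(i : ℤ)⟧) (f ^ k)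
    (fun ξ => hk'' (f ^ k) hk' ξ)
  obtain ⟨e⟩ := Groth.Agent.H4.LD9.nonempty_H_equiv_hdi I i M
  apply e.injective
  rw [map_smul, map_zero]
  exact h1 (e x)

end Groth.Agent.H2.PFAnn
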