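import Mathlib
import Groth.Prelude.Def_Formal2

/-!
# The dimension of `(A/p)_q` as the Krull dimension of the interval `[p, q]` of primes (helper2)
-/

set_option autoImplicit false
set_option linter.style.haveILetI false
universe u

namespace Groth.Agent.H2.PFAnn

variable {A : Type u} [CommRing A]

section

variable (p q : PrimeSpectrum A)

/-- the primes of `A_q` containing `p A_q` correspond to the primes between `p` and `q`. -/
noncomputable def zlIso :
    ↥(PrimeSpectrum.zeroLocus (R := Localization.AtPrime q.asIdeal)
      ((p.asIdeal.map (algebraMap A (Localization.AtPrime q.asIdeal)) :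
        Ideal (Localization.AtPrime q.asIdeal)) : Set (Localization.AtPrime q.asIdeal))) ≃o
      ↥(Set.Icc p q) where
  toFun x := ⟨(IsLocalization.AtPrime.primeSpectrumOrderIso
      (Localization.AtPrime q.asIdeal) q.asIdeal x.1).1, by
    refine ⟨?_, (IsLocalization.AtPrime.primeSpectrumOrderIso
      (Localization.AtPrime q.asIdeal) q.asIdeal x.1).2⟩
    have hx : p.asIdeal.map (algebraMap A (Localization.AtPrime q.asIdeal)) ≤ x.1.asIdeal := x.2
    exact Ideal.map_le_iff_le_comap.mp hx⟩
  invFun y := ⟨(IsLocalization.AtPrime.primeSpectrumOrderIso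
      (Localization.AtPrime q.asIdeal) q.asIdeal).symm ⟨y.1, y.2.2⟩, by
    set P := (IsLocalization.AtPrime.primeSpectrumOrderIso
      (Localization.AtPrime q.asIdeal) q.asIdeal).symm ⟨y.1, y.2.2⟩ with hP
    have h1 : (IsLocalization.AtPrime.primeSpectrumOrderIso
        (Localization.AtPrime q.asIdeal) q.asIdeal P).1 = y.1 := by
      rw [hP, OrderIso.apply_symm_apply]
    have h2 : p.asIdeal ≤ P.asIdeal.comap (algebraMap A (Localization.AtPrime q.asIdeal)) := by
      have h3 : p ≤ (IsLocalization.AtPrime.primeSpectrumOrderIso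
        (Localization.AtPrime q.asIdeal) q.asIdeal P).1 := by
        rw [h1]; exact y.2.1
      exact h3
    change p.asIdeal.map (algebraMap A (Localization.AtPrime q.asIdeal)) ≤ P.asIdeal
    exact Ideal.map_le_iff_le_comap.mpr h2⟩
  left_inv x := by
    refine Subtype.ext ?_
    change (IsLocalization.AtPrime.primeSpectrumOrderIso
      (Localization.AtPrime q.asIdeal) q.asIdeal).symm
        ((IsLocalization.AtPrime.primeSpectrumOrderIso
          (Localization.AtPrime q.asIdeal) q.asIdeal) x.1) = x.1
    exact (IsLocalization.AtPrime.primeSpectrumOrderIso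
      (Localization.AtPrime q.asIdeal) q.asIdeal).symm_apply_apply x.1
  right_inv y := by
    refine Subtype.ext ?_
    change ((IsLocalization.AtPrime.primeSpectrumOrderIso
      (Localization.AtPrime q.asIdeal) q.asIdeal)
        ((IsLocalization.AtPrime.primeSpectrumOrderIso
          (Localization.AtPrime q.asIdeal) q.asIdeal).symm ⟨y.1, y.2.2⟩)).1 = y.1
    rw [OrderIso.apply_symm_apply]
  map_rel_iff' := by
    intro a b
    exact (IsLocalization.AtPrime.primeSpectrumOrderIso
      (Localization.AtPrime q.asIdeal) q.asIdeal).map_rel_iff' (a := a.1) (b := b.1)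

theorem krullDim_Icc_eq_dimBetween :
    Order.krullDim ↥(Set.Icc p q) = Formal2.dimBetween A p.asIdeal q.asIdeal := by
  have e1 := Ideal.primeSpectrumQuotientOrderIsoZeroLocus
    (p.asIdeal.map (algebraMap A (Localization.AtPrime q.asIdeal)))
  rw [Formal2.dimBetween, ringKrullDim]
  exact (Order.krullDim_eq_of_orderIso (e1.trans (zlIso p q))).symm

end

end Groth.Agent.H2.PFAnn
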