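import Groth.Agent.Lib.Helper2.PFSecI
import Groth.Agent.Lib.Lead.CohLES.Basic
import Groth.Agent.Lib.Helper5.AG.TildeExact

/-!
# The cohomology groups `H^i(V, N~)` as a δ-functor in the module `N` (helper2)
-/

set_option autoImplicit false
set_option linter.style.haveILetI false
universe u
open CategoryTheory CategoryTheory.Abelian AlgebraicGeometry TopologicalSpace Opposite

namespace Groth.Agent.H2.PFCoh

open Groth.Agent.LD

variable (A : Type u) [CommRing A] (V : (Spec (CommRingCat.of A)).Opens)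

theorem tildeAdditive (R : CommRingCat.{u}) : (tilde.functor R).Additive := inferInstance

instance instTildeAdd (A : Type u) [CommRing A] :
    (tilde.functor (CommRingCat.of A)).Additive := tildeAdditive _

theorem shortExact_tilde (R : CommRingCat.{u}) {S : ShortComplex (ModuleCat.{u} R)}
    (hS : S.ShortExact) : (S.map (tilde.functor R)).ShortExact := by
  haveI := Groth.Agent.H5.AG.tilde_preservesFiniteLimits R
  haveI := Groth.Agent.H5.AG.tilde_preservesFiniteColimits R
  exact hS.map_of_exact (tilde.functor R)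

section Fun

variable {N N' N'' : Type u} [AddCommGroup N] [Module A N] [AddCommGroup N'] [Module A N']
  [AddCommGroup N''] [Module A N'']

/-- the morphism of abelian sheaves attached to a linear map -/
noncomputable abbrev shfMap (φ : N →ₗ[A] N') :
    Coh.toAb (Formal2.tmod A N) ⟶ Coh.toAb (Formal2.tmod A N') :=
  (SheafOfModules.toSheaf _).map (Formal2.tmodMap A φ)

theorem HVmap_apply (φ : N →ₗ[A] N') (i : ℕ) (x : Formal2.HV A N i V) :
    Formal2.HVmap A φ i V x = x.comp (Ext.mk₀ (shfMap A φ)) (add_zero i) := rfl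

theorem shfMap_comp (φ : N →ₗ[A] N') (ψ : N' →ₗ[A] N'') :
    shfMap A (ψ ∘ₗ φ) = shfMap A φ ≫ shfMap A ψ := by
  have h1 : Formal2.tmodMap A (ψ ∘ₗ φ) = Formal2.tmodMap A φ ≫ Formal2.tmodMap A ψ := by
    unfold Formal2.tmodMap
    rw [ModuleCat.ofHom_comp, tilde.map_comp]
  exact (congrArg (fun t => (SC.toAbF (Spec (CommRingCat.of A))).map t) h1).trans
    ((SC.toAbF (Spec (CommRingCat.of A))).map_comp _ _)

theorem shfMap_id : shfMap A (LinearMap.id : N →ₗ[A] N) = 𝟙 _ := by
  have h1 : Formal2.tmodMap A (LinearMap.id : N →ₗ[A] N) = 𝟙 _ := by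
    unfold Formal2.tmodMap
    rw [ModuleCat.ofHom_id, tilde.map_id]
  exact (congrArg (fun t => (SC.toAbF (Spec (CommRingCat.of A))).map t) h1).trans
    ((SC.toAbF (Spec (CommRingCat.of A))).map_id _)

theorem shfMap_zero : shfMap A (0 : N →ₗ[A] N') = 0 := by
  have h1 : Formal2.tmodMap A (0 : N →ₗ[A] N') = 0 :=
    (tilde.functor (CommRingCat.of A)).map_zero (ModuleCat.of A N) (ModuleCat.of A N')
  exact (congrArg (fun t => (SC.toAbF (Spec (CommRingCat.of A))).map t) h1).trans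
    ((SC.toAbF (Spec (CommRingCat.of A))).map_zero _ _)

theorem HVmap_comp (φ : N →ₗ[A] N') (ψ : N' →ₗ[A] N'') (i : ℕ) (x : Formal2.HV A N i V) :
    Formal2.HVmap A (ψ ∘ₗ φ) i V x = Formal2.HVmap A ψ i V (Formal2.HVmap A φ i V x) := by
  rw [HVmap_apply, HVmap_apply, HVmap_apply, shfMap_comp, ← Ext.mk₀_comp_mk₀,
    Ext.comp_assoc_of_third_deg_zero]

theorem HVmap_id (i : ℕ) (x : Formal2.HV A N i V) :
    Formal2.HVmap A (LinearMap.id : N →ₗ[A] N) i V x = x := by
  rw [HVmap_apply, shfMap_id, Ext.comp_mk₀_id]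

theorem HVmap_zero (i : ℕ) (x : Formal2.HV A N i V) :
    Formal2.HVmap A (0 : N →ₗ[A] N') i V x = 0 := by
  rw [HVmap_apply, shfMap_zero, Ext.mk₀_zero, Ext.comp_zero]
  rfl

end Fun

section LES

variable {N₁ N₂ N₃ : Type u} [AddCommGroup N₁] [Module A N₁] [AddCommGroup N₂] [Module A N₂]
  [AddCommGroup N₃] [Module A N₃] {f : N₁ →ₗ[A] N₂} {g : N₂ →ₗ[A] N₃}
  {w : ModuleCat.ofHom f ≫ ModuleCat.ofHom g = 0}

/-- the short exact sequence of abelian sheaves attached to a short exact sequence of modules -/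
theorem shfExact (hS : (ShortComplex.mk (ModuleCat.ofHom f) (ModuleCat.ofHom g) w).ShortExact) :
    (((ShortComplex.mk (ModuleCat.ofHom f) (ModuleCat.ofHom g) w).map
      (tilde.functor (CommRingCat.of A))).map
        (SC.toAbF (Spec (CommRingCat.of A)))).ShortExact := by
  exact SC.shortExact_toSheaf (shortExact_tilde (CommRingCat.of A) hS)

variable (hS : (ShortComplex.mk (ModuleCat.ofHom f) (ModuleCat.ofHom g) w).ShortExact)

/-- the connecting homomorphism -/
noncomputable def tδ (i : ℕ) : Formal2.HV A N₃ i V →+ Formal2.HV A N₁ (i + 1) V :=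
  AddMonoidHom.mk' (fun x => x.comp (shfExact A hS).extClass rfl)
    (fun x y => Ext.add_comp x y _ _)

theorem tδ_apply (i : ℕ) (x : Formal2.HV A N₃ i V) :
    tδ A V hS i x = x.comp (shfExact A hS).extClass rfl := rfl

theorem t_exact₁ (i : ℕ) (x₁ : Formal2.HV A N₁ (i + 1) V)
    (h : Formal2.HVmap A f (i + 1) V x₁ = 0) : ∃ x₃, tδ A V hS i x₃ = x₁ :=
  Ext.covariant_sequence_exact₁.{u, u, u+1}
    (C := Sheaf (SC.JX (Spec (CommRingCat.of A))) AddCommGrpCat.{u}) _ (shfExact A hS) x₁ h rfl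

include hS in
theorem t_exact₂ (i : ℕ) (x₂ : Formal2.HV A N₂ i V) (h : Formal2.HVmap A g i V x₂ = 0) :
    ∃ x₁, Formal2.HVmap A f i V x₁ = x₂ :=
  Ext.covariant_sequence_exact₂.{u, u, u+1}
    (C := Sheaf (SC.JX (Spec (CommRingCat.of A))) AddCommGrpCat.{u}) _ (shfExact A hS) x₂ h

theorem t_exact₃ (i : ℕ) (x₃ : Formal2.HV A N₃ i V) (h : tδ A V hS i x₃ = 0) :
    ∃ x₂, Formal2.HVmap A g i V x₂ = x₃ :=
  Ext.covariant_sequence_exact₃.{u, u, u+1}
    (C := Sheaf (SC.JX (Spec (CommRingCat.of A))) AddCommGrpCat.{u}) _ (shfExact A hS) x₃ rfl h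

theorem tδ_HVmap (i : ℕ) (x₂ : Formal2.HV A N₂ i V) :
    tδ A V hS i (Formal2.HVmap A g i V x₂) = 0 := by
  rw [tδ_apply, HVmap_apply, Ext.comp_assoc_of_second_deg_zero]
  have h := (shfExact A hS).comp_extClass
  change (Ext.mk₀ (shfMap A g)).comp (shfExact A hS).extClass (zero_add 1) = 0 at h
  rw [h, Ext.comp_zero]
  rfl

end LES

end Groth.Agent.H2.PFCoh
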