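import Groth.Agent.Lib.Helper2.PFCohA

/-!
# Naturality of the connecting map of `H^i(V, N~)` and annihilation lemmas (helper2)
-/

set_option autoImplicit false
set_option linter.style.haveILetI false
universe u
open CategoryTheory CategoryTheory.Abelian AlgebraicGeometry TopologicalSpace Opposite

namespace Groth.Agent.H2.PFCoh

open Groth.Agent.LD

variable (A : Type u) [CommRing A] (V : (Spec (CommRingCat.of A)).Opens)

section ExtNat

universe w v' u'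

variable {C : Type u'} [Category.{v'} C] [Abelian C] [HasExt.{w} C]

theorem ext_nat {S S' : ShortComplex C} (hS : S.ShortExact) (hS' : S'.ShortExact) (φ : S ⟶ S')
    {Z : C} (i : ℕ) (z : Ext Z S.X₃ i) :
    (z.comp (Ext.mk₀ φ.τ₃) (add_zero i)).comp hS'.extClass rfl =
      (z.comp hS.extClass rfl).comp (Ext.mk₀ φ.τ₁) (add_zero (i + 1)) := by
  rw [Ext.comp_assoc_of_second_deg_zero, Ext.comp_assoc_of_third_deg_zero,
    ShortComplex.ShortExact.extClass_naturality hS hS' φ]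

end ExtNat

section Nat

variable {N₁ N₂ N₃ : Type u} [AddCommGroup N₁] [Module A N₁] [AddCommGroup N₂] [Module A N₂]
  [AddCommGroup N₃] [Module A N₃] {f : N₁ →ₗ[A] N₂} {g : N₂ →ₗ[A] N₃}
  {w : ModuleCat.ofHom f ≫ ModuleCat.ofHom g = 0}
  {N₁' N₂' N₃' : Type u} [AddCommGroup N₁'] [Module A N₁'] [AddCommGroup N₂'] [Module A N₂']
  [AddCommGroup N₃'] [Module A N₃'] {f' : N₁' →ₗ[A] N₂'} {g' : N₂' →ₗ[A] N₃'}
  {w' : ModuleCat.ofHom f' ≫ ModuleCat.ofHom g' = 0}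

/-- naturality of the connecting map -/
theorem tδ_naturality
    (hS : (ShortComplex.mk (ModuleCat.ofHom f) (ModuleCat.ofHom g) w).ShortExact)
    (hS' : (ShortComplex.mk (ModuleCat.ofHom f') (ModuleCat.ofHom g') w').ShortExact)
    (τ₁ : N₁ →ₗ[A] N₁') (τ₂ : N₂ →ₗ[A] N₂') (τ₃ : N₃ →ₗ[A] N₃')
    (h₁₂ : f' ∘ₗ τ₁ = τ₂ ∘ₗ f) (h₂₃ : g' ∘ₗ τ₂ = τ₃ ∘ₗ g) (i : ℕ)
    (z : Formal2.HV A N₃ i V) :
    tδ A V hS' i (Formal2.HVmap A τ₃ i V z) = Formal2.HVmap A τ₁ (i + 1) V (tδ A V hS i z) := by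
  let φ : ShortComplex.mk (ModuleCat.ofHom f) (ModuleCat.ofHom g) w ⟶
      ShortComplex.mk (ModuleCat.ofHom f') (ModuleCat.ofHom g') w' :=
    { τ₁ := ModuleCat.ofHom τ₁
      τ₂ := ModuleCat.ofHom τ₂
      τ₃ := ModuleCat.ofHom τ₃
      comm₁₂ := by
        change ModuleCat.ofHom τ₁ ≫ ModuleCat.ofHom f' = ModuleCat.ofHom f ≫ ModuleCat.ofHom τ₂
        rw [← ModuleCat.ofHom_comp, ← ModuleCat.ofHom_comp, h₁₂]
      comm₂₃ := by
        change ModuleCat.ofHom τ₂ ≫ ModuleCat.ofHom g' = ModuleCat.ofHom g ≫ ModuleCat.ofHom τ₃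
        rw [← ModuleCat.ofHom_comp, ← ModuleCat.ofHom_comp, h₂₃] }
  let φ' := (SC.toAbF (Spec (CommRingCat.of A))).mapShortComplex.map
    ((tilde.functor (CommRingCat.of A)).mapShortComplex.map φ)
  exact ext_nat.{u, u, u+1} (C := Sheaf (SC.JX (Spec (CommRingCat.of A))) AddCommGrpCat.{u})
    (shfExact A hS) (shfExact A hS') φ' i z

end Nat

section Kills

variable {N N' Q : Type u} [AddCommGroup N] [Module A N] [AddCommGroup N'] [Module A N']
  [AddCommGroup Q] [Module A Q]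

/-- `r` kills `H^j(V, N~)` -/
def TKills (j : ℕ) (N : Type u) [AddCommGroup N] [Module A N] (r : A) : Prop :=
  ∀ z : Formal2.HV A N j V, Formal2.HVmap A (r • (LinearMap.id : N →ₗ[A] N)) j V z = 0

variable {A V}

theorem HVmap_eq_zero_of_factor (a : Q ≃ₗ[A] N) (a' : Q →ₗ[A] N') (ι : N →ₗ[A] N') (r : A)
    (hfac : ∀ q, ι (a q) = a' (r • q)) (j : ℕ) (hr : TKills A V j Q r)
    (x : Formal2.HV A N j V) : Formal2.HVmap A ι j V x = 0 := by
  have h1 : x = Formal2.HVmap A a.toLinearMap j V (Formal2.HVmap A a.symm.toLinearMap j V x) := by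
    rw [← HVmap_comp]
    have : a.toLinearMap ∘ₗ a.symm.toLinearMap = LinearMap.id := by
      ext x; simp
    rw [this, HVmap_id]
  have h2 : ι ∘ₗ a.toLinearMap = a' ∘ₗ (r • (LinearMap.id : Q →ₗ[A] Q)) := by
    ext q
    exact hfac q
  rw [h1, ← HVmap_comp, h2, HVmap_comp, hr, map_zero]

variable {N₁ N₂ N₃ : Type u} [AddCommGroup N₁] [Module A N₁] [AddCommGroup N₂] [Module A N₂]
  [AddCommGroup N₃] [Module A N₃] {f : N₁ →ₗ[A] N₂} {g : N₂ →ₗ[A] N₃}
  {w : ModuleCat.ofHom f ≫ ModuleCat.ofHom g = 0}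

/-- the endomorphism `r` of a short exact sequence commutes with the connecting map -/
theorem tδ_smul (hS : (ShortComplex.mk (ModuleCat.ofHom f) (ModuleCat.ofHom g) w).ShortExact)
    (r : A) (i : ℕ) (z : Formal2.HV A N₃ i V) :
    tδ A V hS i (Formal2.HVmap A (r • (LinearMap.id : N₃ →ₗ[A] N₃)) i V z) =
      Formal2.HVmap A (r • (LinearMap.id : N₁ →ₗ[A] N₁)) (i + 1) V (tδ A V hS i z) := by
  apply tδ_naturality A V hS hS _ (r • (LinearMap.id : N₂ →ₗ[A] N₂)) _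
  · ext x
    simp
  · ext x
    simp

theorem tkills_quot (hS : (ShortComplex.mk (ModuleCat.ofHom f) (ModuleCat.ofHom g) w).ShortExact)
    (a b : A) (j : ℕ) (ha : ∀ m : N₁, a • m = 0) (hb : TKills A V j N₂ b) :
    TKills A V j N₃ (b * a) := by
  intro z
  have hcomp : ((b * a) • (LinearMap.id : N₃ →ₗ[A] N₃)) =
      (b • (LinearMap.id : N₃ →ₗ[A] N₃)) ∘ₗ (a • (LinearMap.id : N₃ →ₗ[A] N₃)) := by
    ext x
    simp [mul_smul]
  have h0 : (a • (LinearMap.id : N₁ →ₗ[A] N₁)) = 0 := by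
    ext x
    simpa using ha x
  have h1 : tδ A V hS j (Formal2.HVmap A (a • (LinearMap.id : N₃ →ₗ[A] N₃)) j V z) = 0 := by
    rw [tδ_smul, h0, HVmap_zero]
  obtain ⟨y, hy⟩ := t_exact₃ A V hS j _ h1
  have h2 : (b • (LinearMap.id : N₃ →ₗ[A] N₃)) ∘ₗ g = g ∘ₗ (b • (LinearMap.id : N₂ →ₗ[A] N₂)) := by
    ext x
    simp
  rw [hcomp, HVmap_comp, ← hy, ← HVmap_comp, h2, HVmap_comp, hb, map_zero]

end Kills

end Groth.Agent.H2.PFCoh
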