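import Groth.Agent.Lib.Helper2.PFCohB

/-!
# `H^i(V, M~) → lim H^i(V, (M/f^{n+1}M)~)` when `H^i` and `H^{i+1}` are `f`-power torsion (helper2)
-/

set_option autoImplicit false
set_option linter.style.haveILetI false
universe u
open CategoryTheory CategoryTheory.Abelian AlgebraicGeometry TopologicalSpace Opposite

namespace Groth.Agent.H2.PFCoh

open Groth.Agent.LD Groth.Agent.H2.PFSec Groth.Agent.H6

variable {A : Type u} [CommRing A] (V : (Spec (CommRingCat.of A)).Opens)

theorem tkills_mul_left {N : Type u} [AddCommGroup N] [Module A N] (j : ℕ) (r s : A)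
    (h : TKills A V j N r) : TKills A V j N (s * r) := by
  intro z
  have hcomp : ((s * r) • (LinearMap.id : N →ₗ[A] N)) =
      (s • (LinearMap.id : N →ₗ[A] N)) ∘ₗ (r • (LinearMap.id : N →ₗ[A] N)) := by
    ext x
    simp [mul_smul]
  rw [hcomp, HVmap_comp, h, map_zero]

variable [IsNoetherianRing A] (f : A) (M : Type u) [AddCommGroup M] [Module A M]
  [Module.Finite A M]

theorem exists_keysT (i : ℕ) (h₁ : ∃ c : ℕ, TKills A V i M (f ^ c))
    (h₂ : ∃ c : ℕ, TKills A V (i + 1) M (f ^ c)) :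
    ∃ (e C : ℕ),
      (∀ n, e ≤ n → ∀ x : Formal2.HV A ↥(P f M (n + C)) i V,
        Formal2.HVmap A (incl f M (Nat.le_add_right n C)) i V x = 0) ∧
      (∀ n, e ≤ n → ∀ x : Formal2.HV A ↥(P f M (n + C)) (i + 1) V,
        Formal2.HVmap A (incl f M (Nat.le_add_right n C)) (i + 1) V x = 0) := by
  haveI : IsNoetherian A M := isNoetherian_of_isNoetherianRing_of_finite A M
  obtain ⟨e, he⟩ := exists_stable (f := f) (M := M)
  obtain ⟨c1, hc1⟩ := h₁
  obtain ⟨c2, hc2⟩ := h₂
  obtain ⟨w, hS⟩ := Depth.shortExact_mk (Tor f M e).subtype (Tor f M e).mkQ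
    (Submodule.injective_subtype _) (Submodule.mkQ_surjective _) (LinearMap.exact_subtype_mkQ _)
  have hT : ∀ m : ↥(Tor f M e), f ^ e • m = 0 := by
    intro m
    apply Subtype.ext
    rw [Submodule.coe_smul, Submodule.coe_zero]
    exact mem_Tor.mp m.2
  have hb1 : TKills A V i (M ⧸ Tor f M e) (f ^ c1 * f ^ e) :=
    tkills_quot hS (f ^ e) (f ^ c1) i hT hc1
  have hb2 : TKills A V (i + 1) (M ⧸ Tor f M e) (f ^ c2 * f ^ e) :=
    tkills_quot hS (f ^ e) (f ^ c2) (i + 1) hT hc2
  have hC1 : TKills A V i (M ⧸ Tor f M e) (f ^ (c1 + c2 + e)) := by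
    have : f ^ (c1 + c2 + e) = f ^ c2 * (f ^ c1 * f ^ e) := by
      rw [← pow_add, ← pow_add]; congr 1; omega
    rw [this]
    exact tkills_mul_left V i _ _ hb1
  have hC2 : TKills A V (i + 1) (M ⧸ Tor f M e) (f ^ (c1 + c2 + e)) := by
    have : f ^ (c1 + c2 + e) = f ^ c1 * (f ^ c2 * f ^ e) := by
      rw [← pow_add, ← pow_add]; congr 1; omega
    rw [this]
    exact tkills_mul_left V (i + 1) _ _ hb2
  refine ⟨e, c1 + c2 + e, ?_, ?_⟩
  · intro n hn x
    obtain ⟨α, hα⟩ := exists_alpha (f := f) (M := M) e he (n + (c1 + c2 + e)) (by omega)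
    obtain ⟨α', hα'⟩ := exists_alpha (f := f) (M := M) e he n (by omega)
    exact HVmap_eq_zero_of_factor α α'.toLinearMap _ (f ^ (c1 + c2 + e))
      (incl_alpha α hα α' hα') i hC1 x
  · intro n hn x
    obtain ⟨α, hα⟩ := exists_alpha (f := f) (M := M) e he (n + (c1 + c2 + e)) (by omega)
    obtain ⟨α', hα'⟩ := exists_alpha (f := f) (M := M) e he n (by omega)
    exact HVmap_eq_zero_of_factor α α'.toLinearMap _ (f ^ (c1 + c2 + e))
      (incl_alpha α hα α' hα') (i + 1) hC2 x

theorem T_inj (i : ℕ) (h₁ : ∃ c : ℕ, TKills A V i M (f ^ c))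
    (h₂ : ∃ c : ℕ, TKills A V (i + 1) M (f ^ c)) (x : Formal2.HV A M i V)
    (hx : ∀ n, Formal2.HVmap A (P f M n).mkQ i V x = 0) : x = 0 := by
  obtain ⟨e, C, k1, -⟩ := exists_keysT V f M i h₁ h₂
  obtain ⟨w, hS⟩ := Depth.shortExact_mk (P f M (e + C)).subtype (P f M (e + C)).mkQ
    (Submodule.injective_subtype _) (Submodule.mkQ_surjective _) (LinearMap.exact_subtype_mkQ _)
  obtain ⟨y, hy⟩ := t_exact₂ A V hS i x (hx _)
  have hsub : (P f M (e + C)).subtype =
      (P f M e).subtype ∘ₗ incl f M (Nat.le_add_right e C) :=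
    (Submodule.subtype_comp_inclusion _ _ _).symm
  rw [← hy, hsub, HVmap_comp, k1 e le_rfl y, map_zero]

theorem T_compat_of_succ (i : ℕ) (y : ∀ n, Formal2.HV A (M ⧸ P f M n) i V)
    (hy : ∀ n, Formal2.HVmap A (trans f M (Nat.le_succ n)) i V (y (n + 1)) = y n) :
    ∀ (n m : ℕ) (h : n ≤ m), Formal2.HVmap A (trans f M h) i V (y m) = y n := by
  intro n
  refine Nat.le_induction ?_ ?_
  · rw [trans_refl, HVmap_id]
  · intro m h ih
    have : trans f M (Nat.le_succ_of_le h) = trans f M h ∘ₗ trans f M (Nat.le_succ m) :=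
      trans_comp f M h (Nat.le_succ m)
    rw [this, HVmap_comp, hy, ih]

theorem T_lift_stage (i : ℕ) (y : ∀ n, Formal2.HV A (M ⧸ P f M n) i V)
    (hy : ∀ (n m : ℕ) (h : n ≤ m), Formal2.HVmap A (trans f M h) i V (y m) = y n) {n m : ℕ}
    (h : n ≤ m)
    (hv : ∀ w : Formal2.HV A ↥(P f M m) (i + 1) V,
      Formal2.HVmap A (incl f M h) (i + 1) V w = 0) :
    ∃ x : Formal2.HV A M i V, Formal2.HVmap A (P f M n).mkQ i V x = y n := by
  obtain ⟨wn, hSn⟩ := Depth.shortExact_mk (P f M n).subtype (P f M n).mkQ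
    (Submodule.injective_subtype _) (Submodule.mkQ_surjective _) (LinearMap.exact_subtype_mkQ _)
  obtain ⟨wm, hSm⟩ := Depth.shortExact_mk (P f M m).subtype (P f M m).mkQ
    (Submodule.injective_subtype _) (Submodule.mkQ_surjective _) (LinearMap.exact_subtype_mkQ _)
  have hnat := tδ_naturality A V hSm hSn (incl f M h) LinearMap.id (trans f M h)
    (by rw [Submodule.subtype_comp_inclusion]; rfl)
    (by rw [LinearMap.comp_id]; exact trans_mkQ f M h) i (y m)
  rw [hy n m h, hv, ] at hnat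
  exact t_exact₃ A V hSn i (y n) hnat

theorem T_surj (i : ℕ) (h₁ : ∃ c : ℕ, TKills A V i M (f ^ c))
    (h₂ : ∃ c : ℕ, TKills A V (i + 1) M (f ^ c))
    (y : ∀ n, Formal2.HV A (M ⧸ P f M n) i V)
    (hy : ∀ n, Formal2.HVmap A (trans f M (Nat.le_succ n)) i V (y (n + 1)) = y n) :
    ∃ x : Formal2.HV A M i V, ∀ n, Formal2.HVmap A (P f M n).mkQ i V x = y n := by
  obtain ⟨e, C, k1, k2⟩ := exists_keysT V f M i h₁ h₂
  have hy' := T_compat_of_succ V f M i y hy
  have hlift : ∀ n, ∃ x : Formal2.HV A M i V, e ≤ n →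
      Formal2.HVmap A (P f M n).mkQ i V x = y n := by
    intro n
    by_cases hn : e ≤ n
    · obtain ⟨x, hx⟩ := T_lift_stage V f M i y hy' (Nat.le_add_right n C) (k2 n hn)
      exact ⟨x, fun _ => hx⟩
    · exact ⟨0, fun h => absurd h hn⟩
  choose x hx using hlift
  have hdown : ∀ (n m : ℕ) (h : n ≤ m) (z : Formal2.HV A M i V),
      Formal2.HVmap A (P f M m).mkQ i V z = y m → Formal2.HVmap A (P f M n).mkQ i V z = y n := by
    intro n m h z hz
    rw [trans_mkQ f M h, HVmap_comp, hz, hy' n m h]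
  have hstab : ∀ j : ℕ, x (e + j + C + 1) = x (e + j + C) := by
    intro j
    have hz : Formal2.HVmap A (P f M (e + j + C)).mkQ i V
        (x (e + j + C + 1) - x (e + j + C)) = 0 := by
      rw [map_sub, hx (e + j + C) (by omega),
        hdown (e + j + C) (e + j + C + 1) (Nat.le_succ _) _ (hx (e + j + C + 1) (by omega)),
        sub_self]
    obtain ⟨w, hS⟩ := Depth.shortExact_mk (P f M (e + j + C)).subtype (P f M (e + j + C)).mkQ
      (Submodule.injective_subtype _) (Submodule.mkQ_surjective _)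
      (LinearMap.exact_subtype_mkQ _)
    obtain ⟨z, hz'⟩ := t_exact₂ A V hS i _ hz
    have hsub : (P f M (e + j + C)).subtype =
        (P f M (e + j)).subtype ∘ₗ incl f M (Nat.le_add_right (e + j) C) :=
      (Submodule.subtype_comp_inclusion _ _ _).symm
    rw [hsub, HVmap_comp, k1 (e + j) (Nat.le_add_right e j) z, map_zero] at hz'
    exact (sub_eq_zero.mp hz'.symm)
  have hconst : ∀ j : ℕ, x (e + j + C) = x (e + 0 + C) := by
    intro j
    induction j with
    | zero => rfl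
    | succ j ih =>
      have h1 : x (e + (j + 1) + C) = x (e + j + C + 1) := congrArg x (by omega)
      rw [h1, hstab j, ih]
  refine ⟨x (e + 0 + C), fun n => ?_⟩
  have h1 : Formal2.HVmap A (P f M (e + n + C)).mkQ i V (x (e + 0 + C)) = y (e + n + C) := by
    rw [← hconst n]
    exact hx _ (by omega)
  exact hdown n (e + n + C) (by omega) _ h1

end Groth.Agent.H2.PFCoh
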