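import Groth.Agent.Lib.Helper2.PFCohC
import Groth.Agent.Lib.Lead.QC.InjFlasque
import Groth.Agent.Lib.Lead.SC.Flasque

/-!
# From annihilation of local cohomology to annihilation of `H^i(U, N~)` (helper2)
-/

set_option autoImplicit false
set_option linter.style.haveILetI false
universe u
open CategoryTheory CategoryTheory.Abelian AlgebraicGeometry TopologicalSpace Opposite

namespace Groth.Agent.H2.PFCoh

open Groth.Agent.LD Groth.Agent.H2.PFSec Groth.Agent.H6

variable (A : Type u) [CommRing A] [IsNoetherianRing A] (V : (Spec (CommRingCat.of A)).Opens)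

theorem isFlasque_tilde_of_injective (E : ModuleCat.{u} A) [Injective E] :
    TopCat.Sheaf.IsFlasque (X := (Spec (CommRingCat.of A)).carrier)
      (Coh.toAb (tilde (R := CommRingCat.of A) E)) where
  epi {U' V'} i := by
    rw [AddCommGrpCat.epi_iff_surjective]
    have hfl := Groth.Agent.LD.InjFlasque.isFl_tilde_of_injective (CommRingCat.of A) E
    exact hfl (leOfHom i.unop)

theorem subsingleton_HV_of_injective (E : ModuleCat.{u} A) [Injective E] (p : ℕ) :
    Subsingleton (Formal2.HV A ↑E (p + 1) V) := by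
  haveI := isFlasque_tilde_of_injective A E
  exact Groth.Agent.LD.SC.subsingleton_ext_of_isFlasque p
    (Coh.toAb (tilde (R := CommRingCat.of A) E)) V

section Shift

variable {A}
variable {N₁ N₂ N₃ : Type u} [AddCommGroup N₁] [Module A N₁] [AddCommGroup N₂] [Module A N₂]
  [AddCommGroup N₃] [Module A N₃] {f : N₁ →ₗ[A] N₂} {g : N₂ →ₗ[A] N₃}
  {w : ModuleCat.ofHom f ≫ ModuleCat.ofHom g = 0}
  (hS : (ShortComplex.mk (ModuleCat.ofHom f) (ModuleCat.ofHom g) w).ShortExact)

omit [IsNoetherianRing A] in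
include hS in
theorem lc_kills_shift (I : Ideal A) (j : ℕ) (hsub : Subsingleton (LocCoh.H I j N₂)) (r : A)
    (hr : ∀ ξ : LocCoh.H I (j + 1) N₁, r • ξ = 0) (z : LocCoh.H I j N₃) : r • z = 0 := by
  have h1 : LC.δ hS I j (r • z) = 0 := by
    rw [map_smul]
    exact hr _
  obtain ⟨y, hy⟩ := LC.exact₃ hS _ h1
  have hy0 : y = 0 := Subsingleton.elim _ _
  rw [← hy, hy0, map_zero]

omit [IsNoetherianRing A] in
include hS in
theorem tkills_shift (j : ℕ) (hsub : Subsingleton (Formal2.HV A N₂ (j + 1) V)) (r : A)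
    (hr : TKills A V j N₃ r) : TKills A V (j + 1) N₁ r := by
  intro z
  have h0 : Formal2.HVmap A f (j + 1) V z = 0 := Subsingleton.elim _ _
  obtain ⟨q, hq⟩ := t_exact₁ A V hS j z h0
  rw [← hq, ← tδ_smul, hr, map_zero]

include hS in
theorem tkills_one (I : Ideal A)
    (hsub : Subsingleton (Formal2.HV A N₂ (0 + 1) (LocCoh.puncturedOpen A I))) (r : A)
    (hg : Function.Surjective g)
    (hr : ∀ ξ : LocCoh.H I 1 N₃, r • ξ = 0) :
    TKills A (LocCoh.puncturedOpen A I) (0 + 1) N₁ r := by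
  intro z
  have h0 : Formal2.HVmap A f (0 + 1) (LocCoh.puncturedOpen A I) z = 0 := Subsingleton.elim _ _
  obtain ⟨q, hq⟩ := t_exact₁ A _ hS 0 z h0
  have key : ∃ x₂, Formal2.HVmap A g 0 (LocCoh.puncturedOpen A I) x₂ =
      Formal2.HVmap A (r • (LinearMap.id : N₃ →ₗ[A] N₃)) 0 (LocCoh.puncturedOpen A I) q := by
    have h1 : LC.dtToH1 I N₃ (r • Θ A I N₃ (hv A I N₃ q)) = 0 := by
      rw [map_smul]
      exact hr _
    have h2 : r • Θ A I N₃ (hv A I N₃ q) ∈ LinearMap.range (LocCoh.toDT I N₃) := by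
      rw [← LC.ker_dtToH1]
      exact h1
    obtain ⟨q₀, hq₀⟩ := h2
    obtain ⟨e₀, rfl⟩ := hg q₀
    refine ⟨(hv A I N₂).symm ((Θ A I N₂).symm (LocCoh.toDT I N₂ e₀)), ?_⟩
    apply (hv A I N₃).injective
    apply (Θ A I N₃).injective
    rw [hv_map, Θ_tmap, AddEquiv.apply_symm_apply, Equiv.apply_symm_apply, dmap_toDT, hq₀,
      hv_map, Θ_tmap, dmap_smul_id]
  obtain ⟨x₂, hx₂⟩ := key
  rw [← hq, ← tδ_smul, ← hx₂, tδ_HVmap]

end Shift

theorem tkills_of_kills (I : Ideal A) (j : ℕ) :
    ∀ (N : Type u) [AddCommGroup N] [Module A N] (r : A),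
      (∀ ξ : LocCoh.H I (j + 2) N, r • ξ = 0) →
        TKills A (LocCoh.puncturedOpen A I) (j + 1) N r := by
  induction j with
  | zero =>
    intro N _ _ r hr
    let E := Injective.under (ModuleCat.of A N)
    let f : N →ₗ[A] ↑E := (Injective.ι (ModuleCat.of A N)).hom
    have hf : Function.Injective f :=
      (ModuleCat.mono_iff_injective (Injective.ι (ModuleCat.of A N))).mp inferInstance
    obtain ⟨w, hS⟩ := Depth.shortExact_mk f (LinearMap.range f).mkQ hf
      (Submodule.mkQ_surjective _) (LinearMap.exact_map_mkQ_range f)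
    have hE : Subsingleton (LocCoh.H I 1 ↑E) := LC.subsingleton_of_injective E 0
    have hQ : ∀ ξ : LocCoh.H I 1 (↑E ⧸ LinearMap.range f), r • ξ = 0 :=
      lc_kills_shift hS I 1 hE r hr
    exact tkills_one hS I (subsingleton_HV_of_injective A _ E 0) r
      (Submodule.mkQ_surjective _) hQ
  | succ j ih =>
    intro N _ _ r hr
    let E := Injective.under (ModuleCat.of A N)
    let f : N →ₗ[A] ↑E := (Injective.ι (ModuleCat.of A N)).hom
    have hf : Function.Injective f :=
      (ModuleCat.mono_iff_injective (Injective.ι (ModuleCat.of A N))).mp inferInstance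
    obtain ⟨w, hS⟩ := Depth.shortExact_mk f (LinearMap.range f).mkQ hf
      (Submodule.mkQ_surjective _) (LinearMap.exact_map_mkQ_range f)
    have hE : Subsingleton (LocCoh.H I (j + 2) ↑E) := LC.subsingleton_of_injective E (j + 1)
    have hQ : ∀ ξ : LocCoh.H I (j + 2) (↑E ⧸ LinearMap.range f), r • ξ = 0 :=
      lc_kills_shift hS I (j + 2) hE r hr
    exact tkills_shift _ hS (j + 1) (subsingleton_HV_of_injective A _ E (j + 1)) r
      (ih (↑E ⧸ LinearMap.range f) r hQ)

end Groth.Agent.H2.PFCoh
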