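import Groth.Agent.Lib.Helper2.PFCohB

/-!
# Restriction maps of `H^i(V, N~)` and left exactness in degree `0` (helper2)
-/

set_option autoImplicit false
set_option linter.style.haveILetI false
universe u
open CategoryTheory CategoryTheory.Abelian AlgebraicGeometry TopologicalSpace Opposite

namespace Groth.Agent.H2.PFCol

open Groth.Agent.LD Groth.Agent.H2.PFCoh Groth.Agent.H6

variable (A : Type u) [CommRing A]

section Res

variable {N N' : Type u} [AddCommGroup N] [Module A N] [AddCommGroup N'] [Module A N']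

/-- restriction commutes with the maps induced by linear maps -/
theorem HVres_HVmap (φ : N →ₗ[A] N') (i : ℕ) {V V' : (Spec (CommRingCat.of A)).Opens}
    (h : V' ≤ V) (x : Formal2.HV A N i V) :
    Formal2.HVres A N' i h (Formal2.HVmap A φ i V x) =
      Formal2.HVmap A φ i V' (Formal2.HVres A N i h x) := by
  have hn := ((Sheaf.cohomologyPresheafFunctor
    (Opens.grothendieckTopology (Spec (CommRingCat.of A)).toTopCat) i).map
      (shfMap A φ)).naturality (homOfLE h).op
  exact (congrArg (fun t => t.hom x) hn).symm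

theorem HVres_HVres (i : ℕ) {V V' V'' : (Spec (CommRingCat.of A)).Opens}
    (h : V' ≤ V) (h' : V'' ≤ V') (x : Formal2.HV A N i V) :
    Formal2.HVres A N i h' (Formal2.HVres A N i h x) = Formal2.HVres A N i (h'.trans h) x := by
  have hn := (Sheaf.cohomologyPresheaf.{u} (Coh.toAb (Formal2.tmod A N)) i).map_comp
    (homOfLE h).op (homOfLE h').op
  exact (congrArg (fun t => t.hom x) hn).symm

end Res

section Zero

variable (V : (Spec (CommRingCat.of A)).Opens)
variable {N₁ N₂ N₃ : Type u} [AddCommGroup N₁] [Module A N₁] [AddCommGroup N₂] [Module A N₂]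
  [AddCommGroup N₃] [Module A N₃] {f : N₁ →ₗ[A] N₂} {g : N₂ →ₗ[A] N₃}
  {w : ModuleCat.ofHom f ≫ ModuleCat.ofHom g = 0}

/-- left exactness in degree `0` -/
theorem HVmap_zero_injective
    (hS : (ShortComplex.mk (ModuleCat.ofHom f) (ModuleCat.ofHom g) w).ShortExact) :
    Function.Injective (Formal2.HVmap A f 0 V) := by
  rw [injective_iff_map_eq_zero]
  intro x hx
  obtain ⟨a, rfl⟩ := (Ext.mk₀_bijective _ _).2 x
  rw [HVmap_apply, Ext.mk₀_comp_mk₀] at hx
  have h0 : a ≫ shfMap A f = 0 := by
    apply (Ext.mk₀_bijective _ _).1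
    rw [hx, Ext.mk₀_zero]
    rfl
  haveI : Mono (shfMap A f) := (shfExact A hS).mono_f
  have h1 : a = 0 := by
    rw [← cancel_mono (shfMap A f), h0, Limits.zero_comp]
  rw [h1, Ext.mk₀_zero]
  rfl

end Zero

section Inj

variable (V : (Spec (CommRingCat.of A)).Opens)
variable {N N' : Type u} [AddCommGroup N] [Module A N] [AddCommGroup N'] [Module A N']

theorem HVmap_zero_injective_of_injective (φ : N →ₗ[A] N') (hφ : Function.Injective φ) :
    Function.Injective (Formal2.HVmap A φ 0 V) := by
  obtain ⟨w, hS⟩ := Depth.shortExact_mk φ (LinearMap.range φ).mkQ hφ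
    (Submodule.mkQ_surjective _) (LinearMap.exact_map_mkQ_range φ)
  exact HVmap_zero_injective A V hS

/-- a class killed by `φ` comes from the kernel of `φ` -/
theorem exists_of_HVmap_eq_zero (φ : N →ₗ[A] N') (z : Formal2.HV A N 0 V)
    (hz : Formal2.HVmap A φ 0 V z = 0) :
    ∃ w : Formal2.HV A ↥(LinearMap.ker φ) 0 V,
      Formal2.HVmap A (LinearMap.ker φ).subtype 0 V w = z := by
  obtain ⟨w, hS⟩ := Depth.shortExact_mk (LinearMap.ker φ).subtype (LinearMap.ker φ).mkQ
    (Submodule.injective_subtype _) (Submodule.mkQ_surjective _) (LinearMap.exact_subtype_mkQ _)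
  have hfac : φ = (LinearMap.ker φ).liftQ φ le_rfl ∘ₗ (LinearMap.ker φ).mkQ :=
    (Submodule.liftQ_mkQ _ φ le_rfl).symm
  have hinj : Function.Injective ((LinearMap.ker φ).liftQ φ le_rfl) := by
    rw [← LinearMap.ker_eq_bot]
    exact Submodule.ker_liftQ_eq_bot _ _ _ le_rfl
  rw [hfac, HVmap_comp] at hz
  have h1 : Formal2.HVmap A (LinearMap.ker φ).mkQ 0 V z = 0 :=
    HVmap_zero_injective_of_injective A V _ hinj (by rw [hz, map_zero])
  exact t_exact₂ A V hS 0 z h1

end Inj

end Groth.Agent.H2.PFCol
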