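import Groth.Agent.Lib.Helper2.PFColA

/-!
# Quotients by powers of an ideal: transition maps, induced maps, Artin–Rees (helper2)
-/

set_option autoImplicit false
set_option linter.style.haveILetI false
universe u
open CategoryTheory CategoryTheory.Abelian AlgebraicGeometry TopologicalSpace Opposite

namespace Groth.Agent.H2.PFCol

open Groth.Agent.LD Groth.Agent.H2.PFCoh Groth.Agent.H6

variable {A : Type u} [CommRing A] (I : Ideal A)

section Q

variable (N : Type u) [AddCommGroup N] [Module A N]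

/-- `I^(n+1) N` -/
abbrev Q (n : ℕ) : Submodule A N := I ^ (n + 1) • (⊤ : Submodule A N)

theorem Q_anti {n m : ℕ} (h : n ≤ m) : Q I N m ≤ Q I N n :=
  Submodule.smul_mono_left (Ideal.pow_le_pow_right (Nat.succ_le_succ h))

/-- the transition `N/I^(m+1)N → N/I^(n+1)N` for `n ≤ m`. -/
abbrev qtr {n m : ℕ} (h : n ≤ m) : (N ⧸ Q I N m) →ₗ[A] (N ⧸ Q I N n) :=
  Submodule.mapQ _ _ LinearMap.id (by rw [Submodule.comap_id]; exact Q_anti I N h)

theorem qtr_refl (n : ℕ) : qtr I N (le_refl n) = LinearMap.id := by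
  apply LinearMap.ext
  intro q
  obtain ⟨m, rfl⟩ := (Q I N n).mkQ_surjective q
  rfl

theorem qtr_comp {n m l : ℕ} (h : n ≤ m) (h' : m ≤ l) :
    qtr I N (h.trans h') = qtr I N h ∘ₗ qtr I N h' := by
  apply LinearMap.ext
  intro q
  obtain ⟨x, rfl⟩ := (Q I N l).mkQ_surjective q
  rw [LinearMap.comp_apply, Submodule.mkQ_apply, Submodule.mapQ_apply, Submodule.mapQ_apply,
    Submodule.mapQ_apply, LinearMap.id_apply, LinearMap.id_apply]

theorem qtr_mkQ {n m : ℕ} (h : n ≤ m) : (Q I N n).mkQ = qtr I N h ∘ₗ (Q I N m).mkQ := by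
  apply LinearMap.ext
  intro x
  rfl

theorem quotPowTrans_eq (n : ℕ) : Formal2.quotPowTrans A I N n = qtr I N (Nat.le_succ n) := rfl

end Q

section Map

variable {N N' N'' : Type u} [AddCommGroup N] [Module A N] [AddCommGroup N'] [Module A N']
  [AddCommGroup N''] [Module A N''] (φ : N →ₗ[A] N') (ψ : N' →ₗ[A] N'')

theorem Q_le_comap (n : ℕ) : Q I N n ≤ (Q I N' n).comap φ := by
  rw [← Submodule.map_le_iff_le_comap, Submodule.map_smul'']
  exact Submodule.smul_mono le_rfl le_top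

/-- the map `N/I^(n+1)N → N'/I^(n+1)N'` induced by `φ`. -/
abbrev qmap (n : ℕ) : (N ⧸ Q I N n) →ₗ[A] (N' ⧸ Q I N' n) :=
  Submodule.mapQ _ _ φ (Q_le_comap I φ n)

theorem qmap_mkQ (n : ℕ) : qmap I φ n ∘ₗ (Q I N n).mkQ = (Q I N' n).mkQ ∘ₗ φ := by
  apply LinearMap.ext
  intro x
  rfl

theorem qmap_qtr {n m : ℕ} (h : n ≤ m) :
    qtr I N' h ∘ₗ qmap I φ m = qmap I φ n ∘ₗ qtr I N h := by
  apply LinearMap.ext
  intro q
  obtain ⟨x, rfl⟩ := (Q I N m).mkQ_surjective q
  rw [LinearMap.comp_apply, LinearMap.comp_apply, Submodule.mkQ_apply, Submodule.mapQ_apply,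
    Submodule.mapQ_apply, Submodule.mapQ_apply, Submodule.mapQ_apply, LinearMap.id_apply,
    LinearMap.id_apply]

theorem qmap_comp_eq_zero (h : ψ ∘ₗ φ = 0) (n : ℕ) : qmap I ψ n ∘ₗ qmap I φ n = 0 := by
  apply LinearMap.ext
  intro q
  obtain ⟨x, rfl⟩ := (Q I N n).mkQ_surjective q
  rw [LinearMap.comp_apply, Submodule.mkQ_apply, Submodule.mapQ_apply, Submodule.mapQ_apply]
  have h1 : ψ (φ x) = 0 := LinearMap.congr_fun h x
  rw [h1, LinearMap.zero_apply, Submodule.Quotient.mk_zero]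

/-- Artin–Rees for an injective map into a finite module. -/
theorem exists_AR [IsNoetherianRing A] [Module.Finite A N'] (hφ : Function.Injective φ) :
    ∃ c : ℕ, ∀ n : ℕ, (Q I N' (n + c)).comap φ ≤ Q I N n := by
  obtain ⟨k, hk⟩ := Ideal.exists_pow_inf_eq_pow_smul I (LinearMap.range φ)
  refine ⟨k, fun n x hx => ?_⟩
  have h1 : φ x ∈ I ^ (n + k + 1) • (⊤ : Submodule A N') ⊓ LinearMap.range φ :=
    ⟨hx, ⟨x, rfl⟩⟩
  rw [hk (n + k + 1) (by omega)] at h1
  have h2 : n + k + 1 - k = n + 1 := by omega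
  rw [h2] at h1
  have h3 : I ^ (n + 1) • (I ^ k • (⊤ : Submodule A N') ⊓ LinearMap.range φ) ≤
      Submodule.map φ (I ^ (n + 1) • (⊤ : Submodule A N)) := by
    rw [Submodule.map_smul'', Submodule.map_top]
    exact Submodule.smul_mono le_rfl inf_le_right
  obtain ⟨y, hy, hyx⟩ := h3 h1
  have : y = x := hφ hyx
  rw [← this]
  exact hy

theorem qtr_comp_ker_subtype (c : ℕ) (hc : ∀ n : ℕ, (Q I N' (n + c)).comap φ ≤ Q I N n)
    (n : ℕ) :
    qtr I N (Nat.le_add_right n c) ∘ₗ (LinearMap.ker (qmap I φ (n + c))).subtype = 0 := by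
  apply LinearMap.ext
  rintro ⟨q, hq⟩
  obtain ⟨x, rfl⟩ := (Q I N (n + c)).mkQ_surjective q
  have hq' : x ∈ (Q I N' (n + c)).comap φ := by
    rw [LinearMap.mem_ker, Submodule.mkQ_apply, Submodule.mapQ_apply,
      Submodule.Quotient.mk_eq_zero] at hq
    exact hq
  have h1 : x ∈ Q I N n := hc n hq'
  change (qtr I N (Nat.le_add_right n c)) ((Q I N (n + c)).mkQ x) = 0
  rw [Submodule.mkQ_apply, Submodule.mapQ_apply, LinearMap.id_apply,
    Submodule.Quotient.mk_eq_zero]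
  exact h1

end Map

section Compat

variable (V : (Spec (CommRingCat.of A)).Opens) (N : Type u) [AddCommGroup N] [Module A N]

theorem compat_of_succ (i : ℕ) (y : ∀ n, Formal2.HV A (Formal2.quotPow A I N n) i V)
    (hy : ∀ n, Formal2.HVmap A (Formal2.quotPowTrans A I N n) i V (y (n + 1)) = y n) :
    ∀ (n m : ℕ) (h : n ≤ m), Formal2.HVmap A (qtr I N h) i V (y m) = y n := by
  intro n
  refine Nat.le_induction ?_ ?_
  · rw [qtr_refl, HVmap_id]
  · intro m h ih
    have : qtr I N (Nat.le_succ_of_le h) = qtr I N h ∘ₗ qtr I N (Nat.le_succ m) :=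
      qtr_comp I N h (Nat.le_succ m)
    rw [this, HVmap_comp, ← quotPowTrans_eq, hy, ih]

end Compat

end Groth.Agent.H2.PFCol
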