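import Groth.Agent.Lib.Helper2.PFColB

/-!
# Colimit-bijectivity of formal sections: the kernel of a surjection (helper2)
-/

set_option autoImplicit false
set_option linter.style.haveILetI false
universe u
open CategoryTheory CategoryTheory.Abelian AlgebraicGeometry TopologicalSpace Opposite

namespace Groth.Agent.H2.PFCol

open Groth.Agent.LD Groth.Agent.H2.PFCoh Groth.Agent.H6

variable {A : Type u} [CommRing A] [IsNoetherianRing A] (I : Ideal A)
  (U : (Spec (CommRingCat.of A)).Opens)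
  {M' M M'' : Type u} [AddCommGroup M'] [Module A M'] [AddCommGroup M] [Module A M]
  [AddCommGroup M''] [Module A M''] [Module.Finite A M]
  (f : M' →ₗ[A] M) (g : M →ₗ[A] M'')

theorem colimBijective_left (hf : Function.Injective f) (hg : Function.Surjective g)
    (hex : Function.Exact f g)
    (h : Formal2.FormalCohColimBijective A I M 0 U)
    (h'' : Formal2.FormalCohColimBijective A I M'' 0 U) :
    Formal2.FormalCohColimBijective A I M' 0 U := by
  obtain ⟨hMi, hMs⟩ := h
  obtain ⟨hM''i, -⟩ := h''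
  obtain ⟨w, hS⟩ := Depth.shortExact_mk f g hf hg hex
  have hgf : g ∘ₗ f = 0 := by
    apply LinearMap.ext
    intro x
    exact (hex _).mpr ⟨x, rfl⟩
  have hπf : ∀ n, Formal2.quotPowπ A I M n ∘ₗ f = qmap I f n ∘ₗ Formal2.quotPowπ A I M' n :=
    fun n => (qmap_mkQ I f n).symm
  have hπg : ∀ n, Formal2.quotPowπ A I M'' n ∘ₗ g = qmap I g n ∘ₗ Formal2.quotPowπ A I M n :=
    fun n => (qmap_mkQ I g n).symm
  refine ⟨fun V hV x' hx' => ?_, fun y' hy' => ?_⟩
  · have h1 : ∀ n, Formal2.HVmap A (Formal2.quotPowπ A I M n) 0 V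
        (Formal2.HVmap A f 0 V x') = 0 := by
      intro n
      rw [← HVmap_comp, hπf n, HVmap_comp, hx' n, map_zero]
    obtain ⟨V', hV', h2⟩ := hMi V hV (Formal2.HVmap A f 0 V x') h1
    refine ⟨V', hV', ?_⟩
    rw [HVres_HVmap] at h2
    exact HVmap_zero_injective A V' hS (by rw [h2, map_zero])
  · obtain ⟨V, hV, x, hx⟩ := hMs (fun n => Formal2.HVmap A (qmap I f n) 0 U (y' n)) (by
      intro n
      rw [← HVmap_comp, quotPowTrans_eq, qmap_qtr, HVmap_comp, ← quotPowTrans_eq, hy' n])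
    have h3 : ∀ n, Formal2.HVmap A (Formal2.quotPowπ A I M'' n) 0 V
        (Formal2.HVmap A g 0 V x) = 0 := by
      intro n
      rw [← HVmap_comp, hπg n, HVmap_comp, ← hx n, ← HVres_HVmap, ← HVmap_comp,
        qmap_comp_eq_zero I f g hgf n, HVmap_zero, map_zero]
    obtain ⟨V', hV', h4⟩ := hM''i V hV (Formal2.HVmap A g 0 V x) h3
    rw [HVres_HVmap] at h4
    obtain ⟨x', hx'⟩ := t_exact₂ A V' hS 0 _ h4
    refine ⟨V', hV'.1, x', fun n => ?_⟩
    obtain ⟨c, hc⟩ := exists_AR I f hf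
    have hy'' := compat_of_succ I U M' 0 y' hy'
    -- the difference
    have hz1 : ∀ m, Formal2.HVmap A (qmap I f m) 0 V'
        (Formal2.HVres A (Formal2.quotPow A I M' m) 0 hV'.1.1 (y' m) -
          Formal2.HVmap A (Formal2.quotPowπ A I M' m) 0 V' x') = 0 := by
      intro m
      rw [map_sub, ← HVres_HVmap, ← HVmap_comp, ← hπf m, HVmap_comp, hx', ← HVres_HVmap, ← hx m,
        HVres_HVres, sub_self]
    have hz2 : ∀ (n m : ℕ) (hnm : n ≤ m), Formal2.HVmap A (qtr I M' hnm) 0 V'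
        (Formal2.HVres A (Formal2.quotPow A I M' m) 0 hV'.1.1 (y' m) -
          Formal2.HVmap A (Formal2.quotPowπ A I M' m) 0 V' x') =
        Formal2.HVres A (Formal2.quotPow A I M' n) 0 hV'.1.1 (y' n) -
          Formal2.HVmap A (Formal2.quotPowπ A I M' n) 0 V' x' := by
      intro n m hnm
      rw [map_sub, ← HVres_HVmap, hy'' n m hnm, ← HVmap_comp, ← qtr_mkQ]
    obtain ⟨w', hw'⟩ := exists_of_HVmap_eq_zero A V' (qmap I f (n + c)) _ (hz1 (n + c))
    have hz3 := hz2 n (n + c) (Nat.le_add_right n c)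
    rw [← hw', ← HVmap_comp, qtr_comp_ker_subtype I f c hc n, HVmap_zero] at hz3
    exact sub_eq_zero.mp hz3.symm

end Groth.Agent.H2.PFCol
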