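import Groth.Agent.Lib.Helper2.PFColC
import Groth.Agent.Lib.Helper2.PFSecJ
import Groth.Agent.Lib.Lead.SC.CohPsh3

/-!
# Sections of `N~` over an open of `Spec A`: Deligne's formula, gluing, supports (helper2)
-/

set_option autoImplicit false
set_option linter.style.haveILetI false
universe u
open CategoryTheory AlgebraicGeometry TopologicalSpace Opposite

namespace Groth.Agent.H2.PFColD

open Groth.Agent.H6 LocCoh Groth.Agent.H6.TildePunct Groth.Agent.H2.PFSec Groth.Agent.H2.PFCol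
  Groth.Agent.H2.PFCoh

variable (A : Type u) [CommRing A]

section TLevel

variable [IsNoetherianRing A] (L : Ideal A) (W : (Spec (CommRingCat.of A)).Opens)
  (hW : IsPunct L (cv W)) (N : Type u) [AddCommGroup N] [Module A N]

include hW

/-- no `L`-power torsion in `Γ(W, N~)` -/
theorem T_eq_zero (t : TSec A N W) (n : ℕ) (h : ∀ c ∈ L ^ n, c • t = 0) : t = 0 := by
  apply (toDT_TSW_bijective A L W hW N).1
  rw [map_zero, DT.toDT_eq' n]
  have h0 : DT.smulMap L (TSec A N W) n t = 0 :=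
    LinearMap.ext fun c => by
      rw [DT.smulMap_apply, LinearMap.zero_apply]
      exact h c.1 c.2
  rw [h0, map_zero]

/-- Deligne: a power of `L` multiplies a section into the image of `N` -/
theorem T_exists_pow (t : TSec A N W) :
    ∃ n : ℕ, ∀ c ∈ L ^ n, ∃ m : N, c • t = ηW A W N m := by
  obtain ⟨fs, hfs⟩ := (isNoetherianRing_iff_ideal_fg A).mp ‹_› L
  obtain ⟨n, hn⟩ := exists_pow_smul_mem_range hW hfs (eSec A N W t)
  refine ⟨n, fun c hc => ?_⟩
  obtain ⟨y, hy⟩ := hn c hc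
  refine ⟨y, ?_⟩
  symm
  change (tilde.toOpen (R := CommRingCat.of A) (ModuleCat.of A N) W).hom y = c • t
  rw [toOpen_eq, LinearMap.comp_apply, hy, ← map_smul]
  exact (eSec A N W).symm_apply_apply _

/-- closedness of `Γ(W, N~)` -/
theorem T_closed (n : ℕ) (ψ : ↥(L ^ n) →ₗ[A] TSec A N W) :
    ∃ (s : TSec A N W) (k : ℕ) (hk : n ≤ k), ∀ (c : A) (hc : c ∈ L ^ k),
      ψ ⟨c, Ideal.pow_le_pow_right hk hc⟩ = c • s := by
  obtain ⟨s, hs⟩ := (toDT_TSW_bijective A L W hW N).2 (DT.ι L (TSec A N W) n ψ)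
  rw [DT.toDT_eq' n, DT.ι_eq_iff] at hs
  obtain ⟨k, hn, hm, he⟩ := hs
  refine ⟨s, k, hn, fun c hc => ?_⟩
  have h1 := LinearMap.congr_fun he ⟨c, hc⟩
  exact h1.symm

/-- scalar multiplication through `tmapW` -/
theorem tmapW_smul_id (a : A) (t : TSec A N W) :
    tmapW A W (a • (LinearMap.id : N →ₗ[A] N)) t = a • t := by
  obtain ⟨n, hn⟩ := T_exists_pow A L W hW N t
  rw [← sub_eq_zero]
  apply T_eq_zero A L W hW N _ n
  intro c hc
  obtain ⟨m, hm⟩ := hn c hc
  have h1 : c • tmapW A W (a • (LinearMap.id : N →ₗ[A] N)) t = ηW A W N (a • m) := by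
    rw [← map_smul, hm, tmapW_η, LinearMap.smul_apply, LinearMap.id_apply]
  have h2 : c • a • t = ηW A W N (a • m) := by
    rw [smul_comm, hm, map_smul]
  rw [smul_sub, h1, h2, sub_self]

/-- gluing -/
theorem T_glue {r : ℕ} (a : Fin r → A) (σ : Fin r → TSec A N W)
    (hσ : ∀ j k, a k • σ j = a j • σ k) (m : ℕ) (hm : L ^ m ≤ Ideal.span (Set.range a)) :
    ∃ s : TSec A N W, ∀ j, a j • s = σ j := by
  classical
  let p : (Fin r → A) →ₗ[A] A := Fintype.linearCombination A a
  let lam : (Fin r → A) →ₗ[A] TSec A N W := Fintype.linearCombination A σ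
  have hp : ∀ b : Fin r → A, p b = ∑ j, b j * a j := fun b => by
    change Fintype.linearCombination A a b = _
    rw [Fintype.linearCombination_apply]
    rfl
  have hlam : ∀ b : Fin r → A, lam b = ∑ j, b j • σ j := fun b =>
    Fintype.linearCombination_apply A σ b
  have key : ∀ (b : Fin r → A) (k : Fin r), a k • lam b = p b • σ k := by
    intro b k
    rw [hlam, hp, Finset.smul_sum, Finset.sum_smul]
    refine Finset.sum_congr rfl fun j _ => ?_
    rw [smul_comm, hσ j k, smul_smul]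
  have hrange : LinearMap.range p = Ideal.span (Set.range a) :=
    Fintype.range_linearCombination A a
  have hle : L ^ m ≤ LinearMap.range p := by rw [hrange]; exact hm
  have hker : LinearMap.ker p ≤ LinearMap.ker lam := by
    intro b hb
    rw [LinearMap.mem_ker] at hb ⊢
    apply T_eq_zero A L W hW N _ m
    intro c hc
    obtain ⟨b', hb'⟩ := hle hc
    rw [← hb', hp b', Finset.sum_smul]
    refine Finset.sum_eq_zero fun k _ => ?_
    rw [mul_smul, key b k, hb, zero_smul, smul_zero]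
  let q : ((Fin r → A) ⧸ LinearMap.ker p) →ₗ[A] TSec A N W := (LinearMap.ker p).liftQ lam hker
  let θ : ↥(L ^ m) →ₗ[A] TSec A N W :=
    q ∘ₗ p.quotKerEquivRange.symm.toLinearMap ∘ₗ Submodule.inclusion hle
  have hθ : ∀ (b : Fin r → A) (hb : p b ∈ L ^ m), θ ⟨p b, hb⟩ = lam b := by
    intro b hb
    change q (p.quotKerEquivRange.symm ⟨p b, _⟩) = lam b
    rw [LinearMap.quotKerEquivRange_symm_apply_image]
    rfl
  obtain ⟨s, k, hk, hs⟩ := T_closed A L W hW N m θ
  refine ⟨s, fun j => ?_⟩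
  rw [← sub_eq_zero]
  apply T_eq_zero A L W hW N _ k
  intro c hc
  have hcm : c ∈ L ^ m := Ideal.pow_le_pow_right hk hc
  obtain ⟨b, hb⟩ := hle hcm
  have h1 : c • s = lam b := by
    rw [← hs c hc]
    have h2 : (⟨c, Ideal.pow_le_pow_right hk hc⟩ : ↥(L ^ m)) = ⟨p b, hb ▸ hcm⟩ :=
      Subtype.ext hb.symm
    rw [h2, hθ]
  rw [smul_sub, smul_comm, h1, key b j, hb, sub_self]

end TLevel

section Punct

/-- every open is the complement of the zero locus of an ideal -/
theorem exists_isPunct (W : (Spec (CommRingCat.of A)).Opens) : ∃ L : Ideal A, IsPunct L (cv W) := by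
  obtain ⟨I, hI⟩ := (PrimeSpectrum.isClosed_iff_zeroLocus_ideal _).mp (cv W).2.isClosed_compl
  refine ⟨I, fun x => ?_⟩
  have h1 : x ∈ (cv W).carrierᶜ ↔ x ∈ PrimeSpectrum.zeroLocus (I : Set A) := Set.ext_iff.mp hI x
  have h2 : x ∈ PrimeSpectrum.zeroLocus (I : Set A) ↔ I ≤ x.asIdeal := Iff.rfl
  have h3 : x ∈ (cv W).carrierᶜ ↔ ¬ x ∈ cv W := Iff.rfl
  rw [h3, h2] at h1
  exact (not_iff_comm.mp h1).symm

end Punct

section HVLevel

variable (W : (Spec (CommRingCat.of A)).Opens) (N N' : Type u) [AddCommGroup N] [Module A N]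
  [AddCommGroup N'] [Module A N']

/-- `H⁰(W, N~) ≃ Γ(W, N~)` -/
noncomputable def hvW : Formal2.HV A N 0 W ≃+ TSec A N W :=
  Groth.Agent.LD.SC.H0Equiv W (Coh.toAb (Formal2.tmod A N))

variable {N N'}

theorem hvW_map (φ : N →ₗ[A] N') (x : Formal2.HV A N 0 W) :
    hvW A W N' (Formal2.HVmap A φ 0 W x) = tmapW A W φ (hvW A W N x) :=
  Groth.Agent.LD.SC.H0Equiv_comp W x ((SheafOfModules.toSheaf _).map (Formal2.tmodMap A φ))

variable (N)

/-- restriction of sections -/
noncomputable def resT {W W' : (Spec (CommRingCat.of A)).Opens} (h : W' ≤ W) :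
    TSec A N W →ₗ[A] TSec A N W' :=
  ((modulesSpecToSheaf.obj (tilde (R := CommRingCat.of A)
    (ModuleCat.of A N))).presheaf.map (homOfLE h).op).hom

variable {N}

theorem hvW_res {W W' : (Spec (CommRingCat.of A)).Opens} (h : W' ≤ W)
    (x : Formal2.HV A N 0 W) :
    hvW A W' N (Formal2.HVres A N 0 h x) = resT A N h (hvW A W N x) :=
  Groth.Agent.LD.SC.H0Equiv_Hres (homOfLE h) (Coh.toAb (Formal2.tmod A N)) x

theorem resT_ηW {W W' : (Spec (CommRingCat.of A)).Opens} (h : W' ≤ W) (m : N) :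
    resT A N h (ηW A W N m) = ηW A W' N m := by
  have h1 := tilde.toOpen_res (R := CommRingCat.of A) (ModuleCat.of A N) W W' (homOfLE h)
  exact congrArg (fun ψ => ψ.hom m) h1

variable (N)

/-- `N → H⁰(W, N~)` -/
noncomputable def etaV : N →+ Formal2.HV A N 0 W :=
  (hvW A W N).symm.toAddMonoidHom.comp (ηW A W N).toAddMonoidHom

variable {N}

theorem hvW_etaV (m : N) : hvW A W N (etaV A W N m) = ηW A W N m :=
  (hvW A W N).apply_symm_apply _

theorem HVmap_etaV (φ : N →ₗ[A] N') (m : N) :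
    Formal2.HVmap A φ 0 W (etaV A W N m) = etaV A W N' (φ m) := by
  apply (hvW A W N').injective
  rw [hvW_map, hvW_etaV, hvW_etaV, tmapW_η]

theorem HVres_etaV {W W' : (Spec (CommRingCat.of A)).Opens} (h : W' ≤ W) (m : N) :
    Formal2.HVres A N 0 h (etaV A W N m) = etaV A W' N m := by
  apply (hvW A W' N).injective
  rw [hvW_res, hvW_etaV, hvW_etaV, resT_ηW]

end HVLevel

section HVNoeth

variable [IsNoetherianRing A] (L : Ideal A) (W : (Spec (CommRingCat.of A)).Opens)
  (hW : IsPunct L (cv W)) {N : Type u} [AddCommGroup N] [Module A N]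

include hW

theorem hvW_smul (a : A) (x : Formal2.HV A N 0 W) :
    hvW A W N (Formal2.HVmap A (a • (LinearMap.id : N →ₗ[A] N)) 0 W x) = a • hvW A W N x := by
  rw [hvW_map, tmapW_smul_id A L W hW N]

theorem HV_exists_pow (x : Formal2.HV A N 0 W) :
    ∃ n : ℕ, ∀ c ∈ L ^ n, ∃ m : N,
      Formal2.HVmap A (c • (LinearMap.id : N →ₗ[A] N)) 0 W x = etaV A W N m := by
  obtain ⟨n, hn⟩ := T_exists_pow A L W hW N (hvW A W N x)
  refine ⟨n, fun c hc => ?_⟩
  obtain ⟨m, hm⟩ := hn c hc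
  refine ⟨m, (hvW A W N).injective ?_⟩
  rw [hvW_smul A L W hW, hm, hvW_etaV]

theorem HV_eq_zero (x : Formal2.HV A N 0 W) (n : ℕ)
    (h : ∀ c ∈ L ^ n, Formal2.HVmap A (c • (LinearMap.id : N →ₗ[A] N)) 0 W x = 0) : x = 0 := by
  apply (hvW A W N).injective
  rw [map_zero]
  apply T_eq_zero A L W hW N _ n
  intro c hc
  rw [← hvW_smul A L W hW, h c hc, map_zero]

theorem HV_glue {r : ℕ} (a : Fin r → A) (σ : Fin r → Formal2.HV A N 0 W)
    (hσ : ∀ j k, Formal2.HVmap A (a k • (LinearMap.id : N →ₗ[A] N)) 0 W (σ j) =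
      Formal2.HVmap A (a j • (LinearMap.id : N →ₗ[A] N)) 0 W (σ k))
    (m : ℕ) (hm : L ^ m ≤ Ideal.span (Set.range a)) :
    ∃ s : Formal2.HV A N 0 W,
      ∀ j, Formal2.HVmap A (a j • (LinearMap.id : N →ₗ[A] N)) 0 W s = σ j := by
  obtain ⟨s, hs⟩ := T_glue A L W hW N a (fun j => hvW A W N (σ j)) (fun j k => by
    rw [← hvW_smul A L W hW, ← hvW_smul A L W hW, hσ j k]) m hm
  refine ⟨(hvW A W N).symm s, fun j => (hvW A W N).injective ?_⟩
  rw [hvW_smul A L W hW, AddEquiv.apply_symm_apply, hs j]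

end HVNoeth

section Support

variable {N : Type u} [AddCommGroup N] [Module A N]

theorem resT_injective_of_support (I : Ideal A) (k : ℕ) (hN : ∀ c ∈ I ^ k, ∀ n : N, c • n = 0)
    {W W' : (Spec (CommRingCat.of A)).Opens} (h : W' ≤ W)
    (hsupp : ∀ x : Spec (CommRingCat.of A), x ∈ W →
      x ∈ PrimeSpectrum.zeroLocus (R := A) I → x ∈ W')
    (t : TSec A N W) (ht : resT A N h t = 0) : t = 0 := by
  apply (eSec A N W).injective
  rw [map_zero]
  have h3 : res N (cv_le h) (eSec A N W t) = 0 := by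
    have h4 := eSec_res A N h t
    have h5 : eSec A N W' (resT A N h t) = 0 := by rw [ht, map_zero]
    exact h4.symm.trans h5
  refine sec_ext fun x => ?_
  by_cases hx : x.1 ∈ cv W'
  · have h6 := congrArg (fun s : Sec A N (cv W') => s.1 ⟨x.1, hx⟩) h3
    exact h6
  · have hIx : ¬ I ≤ x.1.asIdeal := fun hI => hx (hsupp x.1 x.2 hI)
    have hIk : ¬ I ^ k ≤ x.1.asIdeal := fun hle => hIx (x.1.isPrime.le_of_pow_le hle)
    obtain ⟨c, hcI, hcx⟩ := Set.not_subset.mp hIk
    have h2 := IsLocalizedModule.smul_injective (S := x.1.asIdeal.primeCompl)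
      (LocalizedModule.mkLinearMap x.1.asIdeal.primeCompl N) ⟨c, hcx⟩
    apply h2
    show c • (eSec A N W t).1 x = c • (0 : Sec A N (cv W)).1 x
    rw [zero_val, smul_zero]
    generalize (eSec A N W t).1 x = y
    induction y using LocalizedModule.induction_on with
    | h n s => rw [LocalizedModule.smul'_mk, hN c hcI n, LocalizedModule.zero_mk]

theorem HVres_injective_of_support (I : Ideal A) (k : ℕ)
    (hN : ∀ c ∈ I ^ k, ∀ n : N, c • n = 0)
    {W W' : (Spec (CommRingCat.of A)).Opens} (h : W' ≤ W)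
    (hsupp : ∀ x : Spec (CommRingCat.of A), x ∈ W →
      x ∈ PrimeSpectrum.zeroLocus (R := A) I → x ∈ W')
    (x : Formal2.HV A N 0 W) (hx : Formal2.HVres A N 0 h x = 0) : x = 0 := by
  apply (hvW A W N).injective
  rw [map_zero]
  apply resT_injective_of_support A I k hN h hsupp
  rw [← hvW_res, hx, map_zero]

end Support

end Groth.Agent.H2.PFColD
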