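import Groth.Agent.Lib.Helper2.PFColD

/-!
# Left exactness of the formal limit and the middle term of a short exact sequence (helper2)
-/

set_option autoImplicit false
set_option linter.style.haveILetI false
universe u
open CategoryTheory AlgebraicGeometry TopologicalSpace Opposite

namespace Groth.Agent.H2.PFColD

open Groth.Agent.H6 LocCoh Groth.Agent.H6.TildePunct Groth.Agent.H2.PFSec Groth.Agent.H2.PFCol
  Groth.Agent.H2.PFCoh

section Kappa

variable {A : Type u} [CommRing A] (I : Ideal A)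
  {M' M M'' : Type u} [AddCommGroup M'] [Module A M'] [AddCommGroup M] [Module A M]
  [AddCommGroup M''] [Module A M'']
  (f : M' →ₗ[A] M) (g : M →ₗ[A] M'')

/-- `M' → ker (M/I^(k+1)M → M''/I^(k+1)M'')` -/
def rho (hgf : g ∘ₗ f = 0) (k : ℕ) : M' →ₗ[A] ↥(LinearMap.ker (qmap I g k)) :=
  ((Q I M k).mkQ ∘ₗ f).codRestrict (LinearMap.ker (qmap I g k)) (fun m' => by
    rw [LinearMap.mem_ker, LinearMap.comp_apply, Submodule.mkQ_apply, Submodule.mapQ_apply]
    have h1 : g (f m') = 0 := LinearMap.congr_fun hgf m'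
    rw [h1, Submodule.Quotient.mk_zero])

theorem rho_val (hgf : g ∘ₗ f = 0) (k : ℕ) (m' : M') :
    ((rho I f g hgf k m' : ↥(LinearMap.ker (qmap I g k))) : M ⧸ Q I M k) = (Q I M k).mkQ (f m') :=
  rfl

theorem rho_surjective (hgf : g ∘ₗ f = 0) (hg : Function.Surjective g)
    (hex : Function.Exact f g) (k : ℕ) : Function.Surjective (rho I f g hgf k) := by
  rintro ⟨u, hu⟩
  obtain ⟨m, rfl⟩ := (Q I M k).mkQ_surjective u
  rw [LinearMap.mem_ker, Submodule.mkQ_apply, Submodule.mapQ_apply,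
    Submodule.Quotient.mk_eq_zero] at hu
  have hmap : Q I M'' k = Submodule.map g (Q I M k) := by
    rw [Submodule.map_smul'', Submodule.map_top, LinearMap.range_eq_top.mpr hg]
  rw [hmap] at hu
  obtain ⟨q, hq, hqm⟩ := hu
  have h1 : g (m - q) = 0 := by rw [map_sub, hqm, sub_self]
  obtain ⟨m', hm'⟩ := (hex (m - q)).mp h1
  refine ⟨m', Subtype.ext ?_⟩
  change (Q I M k).mkQ (f m') = (Q I M k).mkQ m
  rw [hm', map_sub, sub_eq_self, Submodule.mkQ_apply]
  exact (Submodule.Quotient.mk_eq_zero _).mpr hq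

theorem rho_ker_le (hgf : g ∘ₗ f = 0) (c : ℕ)
    (hc : ∀ n : ℕ, (Q I M (n + c)).comap f ≤ Q I M' n) (n : ℕ) :
    LinearMap.ker (rho I f g hgf (n + c)) ≤ LinearMap.ker (Q I M' n).mkQ := by
  intro m' hm'
  rw [LinearMap.mem_ker] at hm' ⊢
  rw [Submodule.mkQ_apply, Submodule.Quotient.mk_eq_zero]
  apply hc n
  rw [Submodule.mem_comap]
  have h1 := congrArg Subtype.val hm'
  change (Q I M (n + c)).mkQ (f m') = 0 at h1
  rwa [Submodule.mkQ_apply, Submodule.Quotient.mk_eq_zero] at h1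

variable (hgf : g ∘ₗ f = 0) (hg : Function.Surjective g) (hex : Function.Exact f g) (c : ℕ)
  (hc : ∀ n : ℕ, (Q I M (n + c)).comap f ≤ Q I M' n)

/-- the Artin–Rees map `ker (M/I^(n+c+1) → M''/I^(n+c+1)) → M'/I^(n+1)M'` -/
noncomputable def kappa (n : ℕ) :
    ↥(LinearMap.ker (qmap I g (n + c))) →ₗ[A] (M' ⧸ Q I M' n) :=
  ((LinearMap.ker (rho I f g hgf (n + c))).liftQ (Q I M' n).mkQ
      (rho_ker_le I f g hgf c hc n)) ∘ₗ
    ((rho I f g hgf (n + c)).quotKerEquivOfSurjective
      (rho_surjective I f g hgf hg hex (n + c))).symm.toLinearMap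

theorem kappa_rho (n : ℕ) (m' : M') :
    kappa I f g hgf hg hex c hc n (rho I f g hgf (n + c) m') = (Q I M' n).mkQ m' := by
  have h1 : ((rho I f g hgf (n + c)).quotKerEquivOfSurjective
      (rho_surjective I f g hgf hg hex (n + c))).symm (rho I f g hgf (n + c) m') =
      (LinearMap.ker (rho I f g hgf (n + c))).mkQ m' := by
    rw [LinearEquiv.symm_apply_eq]
    rfl
  have h2 : kappa I f g hgf hg hex c hc n (rho I f g hgf (n + c) m') =
      (LinearMap.ker (rho I f g hgf (n + c))).liftQ (Q I M' n).mkQ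
        (rho_ker_le I f g hgf c hc n)
        (((rho I f g hgf (n + c)).quotKerEquivOfSurjective
          (rho_surjective I f g hgf hg hex (n + c))).symm (rho I f g hgf (n + c) m')) := rfl
  rw [h2, h1]
  rfl

theorem qmap_kappa (n : ℕ) :
    qmap I f n ∘ₗ kappa I f g hgf hg hex c hc n =
      qtr I M (Nat.le_add_right n c) ∘ₗ (LinearMap.ker (qmap I g (n + c))).subtype := by
  apply LinearMap.ext
  intro u
  obtain ⟨m', rfl⟩ := rho_surjective I f g hgf hg hex (n + c) u
  rw [LinearMap.comp_apply, kappa_rho, LinearMap.comp_apply]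
  rfl

/-- the transition map on kernels -/
noncomputable def tau (n : ℕ) :
    ↥(LinearMap.ker (qmap I g (n + 1 + c))) →ₗ[A] ↥(LinearMap.ker (qmap I g (n + c))) :=
  (qtr I M (show n + c ≤ n + 1 + c by omega) ∘ₗ
    (LinearMap.ker (qmap I g (n + 1 + c))).subtype).codRestrict
      (LinearMap.ker (qmap I g (n + c))) (fun u => by
        rw [LinearMap.mem_ker, LinearMap.comp_apply, Submodule.subtype_apply]
        have h1 := LinearMap.congr_fun
          (qmap_qtr I g (show n + c ≤ n + 1 + c by omega)) (u : M ⧸ Q I M (n + 1 + c))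
        rw [LinearMap.comp_apply, LinearMap.comp_apply] at h1
        rw [← h1, LinearMap.mem_ker.mp u.2, map_zero])

theorem subtype_tau (n : ℕ) :
    (LinearMap.ker (qmap I g (n + c))).subtype ∘ₗ tau I g c n =
      qtr I M (show n + c ≤ n + 1 + c by omega) ∘ₗ
        (LinearMap.ker (qmap I g (n + 1 + c))).subtype :=
  LinearMap.ext fun _ => rfl

theorem tau_rho (n : ℕ) (m' : M') :
    tau I g c n (rho I f g hgf (n + 1 + c) m') = rho I f g hgf (n + c) m' :=
  Subtype.ext rfl

theorem kappa_tau (n : ℕ) :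
    kappa I f g hgf hg hex c hc n ∘ₗ tau I g c n =
      Formal2.quotPowTrans A I M' n ∘ₗ kappa I f g hgf hg hex c hc (n + 1) := by
  apply LinearMap.ext
  intro u
  obtain ⟨m', rfl⟩ := rho_surjective I f g hgf hg hex (n + 1 + c) u
  rw [LinearMap.comp_apply, tau_rho, kappa_rho, LinearMap.comp_apply, kappa_rho]
  rfl

end Kappa

section Family

variable {A : Type u} [CommRing A] [IsNoetherianRing A] (I : Ideal A)
  (U : (Spec (CommRingCat.of A)).Opens)
  {M' M M'' : Type u} [AddCommGroup M'] [Module A M'] [AddCommGroup M] [Module A M]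
  [AddCommGroup M''] [Module A M''] [Module.Finite A M]
  (f : M' →ₗ[A] M) (g : M →ₗ[A] M'')

/-- left exactness of the formal limit of sections -/
theorem exists_lift_family (hf : Function.Injective f) (hg : Function.Surjective g)
    (hex : Function.Exact f g)
    (y : ∀ n, Formal2.HV A (Formal2.quotPow A I M n) 0 U)
    (hy : ∀ n, Formal2.HVmap A (Formal2.quotPowTrans A I M n) 0 U (y (n + 1)) = y n)
    (hy0 : ∀ n, Formal2.HVmap A (qmap I g n) 0 U (y n) = 0) :
    ∃ y' : ∀ n, Formal2.HV A (Formal2.quotPow A I M' n) 0 U,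
      (∀ n, Formal2.HVmap A (Formal2.quotPowTrans A I M' n) 0 U (y' (n + 1)) = y' n) ∧
        ∀ n, Formal2.HVmap A (qmap I f n) 0 U (y' n) = y n := by
  have hgf : g ∘ₗ f = 0 := by
    apply LinearMap.ext
    intro x
    exact (hex _).mpr ⟨x, rfl⟩
  obtain ⟨c, hc⟩ := exists_AR I f hf
  have hyc := compat_of_succ I U M 0 y hy
  choose w hw using fun n =>
    exists_of_HVmap_eq_zero A U (qmap I g (n + c)) (y (n + c)) (hy0 (n + c))
  refine ⟨fun n => Formal2.HVmap A (kappa I f g hgf hg hex c hc n) 0 U (w n),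
    fun n => ?_, fun n => ?_⟩
  · have hτ : Formal2.HVmap A (tau I g c n) 0 U (w (n + 1)) = w n := by
      apply HVmap_zero_injective_of_injective A U _ (Submodule.injective_subtype _)
      rw [← HVmap_comp, subtype_tau, HVmap_comp, hw (n + 1), hw n]
      exact hyc (n + c) (n + 1 + c) (by omega)
    rw [← HVmap_comp, ← kappa_tau, HVmap_comp, hτ]
  · rw [← HVmap_comp, qmap_kappa, HVmap_comp, hw n]
    exact hyc n (n + c) (Nat.le_add_right n c)

variable {I U f g}

/-- injectivity for the middle term -/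
theorem colim_injective_mid (hf : Function.Injective f) (hg : Function.Surjective g)
    (hex : Function.Exact f g)
    (h' : Formal2.FormalCohColimBijective A I M' 0 U)
    (h'' : Formal2.FormalCohColimBijective A I M'' 0 U)
    (V : (Spec (CommRingCat.of A)).Opens) (hV : Formal2.Admissible A I U V)
    (x : Formal2.HV A M 0 V)
    (hx : ∀ n, Formal2.HVmap A (Formal2.quotPowπ A I M n) 0 V x = 0) :
    ∃ (V' : (Spec (CommRingCat.of A)).Opens) (h : Formal2.Admissible A I U V' ∧ V' ≤ V),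
      Formal2.HVres A M 0 h.2 x = 0 := by
  obtain ⟨w, hS⟩ := Depth.shortExact_mk f g hf hg hex
  have hπf : ∀ n, Formal2.quotPowπ A I M n ∘ₗ f = qmap I f n ∘ₗ Formal2.quotPowπ A I M' n :=
    fun n => (qmap_mkQ I f n).symm
  have hπg : ∀ n, Formal2.quotPowπ A I M'' n ∘ₗ g = qmap I g n ∘ₗ Formal2.quotPowπ A I M n :=
    fun n => (qmap_mkQ I g n).symm
  have h1 : ∀ n, Formal2.HVmap A (Formal2.quotPowπ A I M'' n) 0 V
      (Formal2.HVmap A g 0 V x) = 0 := by
    intro n
    rw [← HVmap_comp, hπg n, HVmap_comp, hx n, map_zero]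
  obtain ⟨V₁, hV₁, h2⟩ := h''.1 V hV (Formal2.HVmap A g 0 V x) h1
  rw [HVres_HVmap] at h2
  obtain ⟨x', hx'⟩ := t_exact₂ A V₁ hS 0 _ h2
  obtain ⟨c, hc⟩ := exists_AR I f hf
  have h3 : ∀ n, Formal2.HVmap A (Formal2.quotPowπ A I M' n) 0 V₁ x' = 0 := by
    intro n
    have h4 : Formal2.HVmap A (qmap I f (n + c)) 0 V₁
        (Formal2.HVmap A (Formal2.quotPowπ A I M' (n + c)) 0 V₁ x') = 0 := by
      rw [← HVmap_comp, ← hπf (n + c), HVmap_comp, hx', ← HVres_HVmap, hx (n + c), map_zero]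
    obtain ⟨w', hw'⟩ := exists_of_HVmap_eq_zero A V₁ (qmap I f (n + c)) _ h4
    have h5 : Formal2.quotPowπ A I M' n =
        qtr I M' (Nat.le_add_right n c) ∘ₗ Formal2.quotPowπ A I M' (n + c) := qtr_mkQ I M' _
    rw [h5, HVmap_comp, ← hw', ← HVmap_comp, qtr_comp_ker_subtype I f c hc n, HVmap_zero]
  obtain ⟨V₂, hV₂, h6⟩ := h'.1 V₁ hV₁.1 x' h3
  refine ⟨V₂, ⟨hV₂.1, hV₂.2.trans hV₁.2⟩, ?_⟩
  rw [← HVres_HVres A 0 hV₁.2 hV₂.2 x, ← hx', HVres_HVmap, h6, map_zero]

end Family

end Groth.Agent.H2.PFColD
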