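import Groth.Agent.Lib.Helper2.PFColE

/-!
# The middle term of a short exact sequence: the colimit comparison map is bijective (helper2)
-/

set_option autoImplicit false
set_option linter.style.haveILetI false
universe u
open CategoryTheory AlgebraicGeometry TopologicalSpace Opposite

namespace Groth.Agent.H2.PFColD

open Groth.Agent.H6 LocCoh Groth.Agent.H6.TildePunct Groth.Agent.H2.PFSec Groth.Agent.H2.PFCol
  Groth.Agent.H2.PFCoh

section Adm

variable {A : Type u} [CommRing A] (I : Ideal A) {U : (Spec (CommRingCat.of A)).Opens}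

theorem admissible_inf {V₁ V₂ : (Spec (CommRingCat.of A)).Opens}
    (h₁ : Formal2.Admissible A I U V₁) (h₂ : Formal2.Admissible A I U V₂) :
    Formal2.Admissible A I U (V₁ ⊓ V₂) :=
  ⟨inf_le_left.trans h₁.1, fun p hp hpI => ⟨h₁.2 p hp hpI, h₂.2 p hp hpI⟩⟩

theorem exists_admissible_le {ι : Type*} (s : Finset ι)
    (Vs : ι → (Spec (CommRingCat.of A)).Opens)
    (h : ∀ i, Formal2.Admissible A I U (Vs i)) (V₀ : (Spec (CommRingCat.of A)).Opens)
    (h₀ : Formal2.Admissible A I U V₀) :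
    ∃ W : (Spec (CommRingCat.of A)).Opens,
      Formal2.Admissible A I U W ∧ W ≤ V₀ ∧ ∀ i ∈ s, W ≤ Vs i := by
  classical
  induction s using Finset.induction_on with
  | empty => exact ⟨V₀, h₀, le_rfl, fun i hi => absurd hi (Finset.notMem_empty i)⟩
  | insert i s hi ih =>
    obtain ⟨W, hW, hW₀, hWs⟩ := ih
    refine ⟨W ⊓ Vs i, admissible_inf I hW (h i), inf_le_left.trans hW₀, fun j hj => ?_⟩
    rcases Finset.mem_insert.mp hj with rfl | hj'
    · exact inf_le_right
    · exact inf_le_left.trans (hWs j hj')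

end Adm

section Smul

variable (A : Type u) [CommRing A] (V : (Spec (CommRingCat.of A)).Opens)
  {N N' : Type u} [AddCommGroup N] [Module A N] [AddCommGroup N'] [Module A N']

theorem HVmap_smul_comm (φ : N →ₗ[A] N') (a : A) (i : ℕ) (x : Formal2.HV A N i V) :
    Formal2.HVmap A φ i V (Formal2.HVmap A (a • (LinearMap.id : N →ₗ[A] N)) i V x) =
      Formal2.HVmap A (a • (LinearMap.id : N' →ₗ[A] N')) i V (Formal2.HVmap A φ i V x) := by
  have h : φ ∘ₗ (a • (LinearMap.id : N →ₗ[A] N)) = (a • (LinearMap.id : N' →ₗ[A] N')) ∘ₗ φ :=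
    LinearMap.ext fun x => by simp
  rw [← HVmap_comp, h, HVmap_comp]

theorem quotPow_smul (I : Ideal A) (N : Type u) [AddCommGroup N] [Module A N] (n : ℕ) :
    ∀ c ∈ I ^ (n + 1), ∀ q : Formal2.quotPow A I N n, c • q = 0 := by
  intro c hc q
  obtain ⟨x, rfl⟩ := (Q I N n).mkQ_surjective q
  rw [← map_smul, Submodule.mkQ_apply, Submodule.Quotient.mk_eq_zero]
  exact Submodule.smul_mem_smul hc Submodule.mem_top

variable [IsNoetherianRing A] (L : Ideal A) (W : (Spec (CommRingCat.of A)).Opens)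
  (hW : IsPunct L (cv W))

include hW in
theorem HV_eq_zero_of_gens {r : ℕ} (a : Fin r → A) (m : ℕ)
    (hm : L ^ m ≤ Ideal.span (Set.range a)) (x : Formal2.HV A N 0 W)
    (h : ∀ j, Formal2.HVmap A (a j • (LinearMap.id : N →ₗ[A] N)) 0 W x = 0) : x = 0 := by
  apply (hvW A W N).injective
  rw [map_zero]
  apply T_eq_zero A L W hW N _ m
  intro c hc
  have h1 : Ideal.span (Set.range a) ≤ (Submodule.span A {hvW A W N x}).annihilator := by
    rw [Ideal.span_le]
    rintro _ ⟨j, rfl⟩
    rw [SetLike.mem_coe, Submodule.mem_annihilator_span_singleton, ← hvW_smul A L W hW, h j,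
      map_zero]
  exact (Submodule.mem_annihilator_span_singleton _ _).mp (h1 (hm hc))

end Smul

section Main

variable {A : Type u} [CommRing A] [IsNoetherianRing A] {I : Ideal A}
  {U : (Spec (CommRingCat.of A)).Opens}
  {M' M M'' : Type u} [AddCommGroup M'] [Module A M'] [AddCommGroup M] [Module A M]
  [AddCommGroup M''] [Module A M''] [Module.Finite A M]
  {f : M' →ₗ[A] M} {g : M →ₗ[A] M''}

/-- surjectivity for the middle term -/
theorem colim_surjective_mid (hf : Function.Injective f) (hg : Function.Surjective g)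
    (hex : Function.Exact f g)
    (h' : Formal2.FormalCohColimBijective A I M' 0 U)
    (h'' : Formal2.FormalCohColimBijective A I M'' 0 U)
    (y : ∀ n, Formal2.HV A (Formal2.quotPow A I M n) 0 U)
    (hy : ∀ n, Formal2.HVmap A (Formal2.quotPowTrans A I M n) 0 U (y (n + 1)) = y n) :
    ∃ (V : (Spec (CommRingCat.of A)).Opens) (hV : Formal2.Admissible A I U V)
      (x : Formal2.HV A M 0 V),
      ∀ n, Formal2.HVres A (Formal2.quotPow A I M n) 0 hV.1 (y n) =
        Formal2.HVmap A (Formal2.quotPowπ A I M n) 0 V x := by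
  classical
  have hπf : ∀ n, Formal2.quotPowπ A I M n ∘ₗ f = qmap I f n ∘ₗ Formal2.quotPowπ A I M' n :=
    fun n => (qmap_mkQ I f n).symm
  -- Step 1: push to `M''` and algebraize there
  obtain ⟨V, hV, x'', hx''0⟩ := h''.2 (fun n => Formal2.HVmap A (qmap I g n) 0 U (y n)) (by
    intro n
    rw [← HVmap_comp, quotPowTrans_eq, qmap_qtr, HVmap_comp, ← quotPowTrans_eq, hy n])
  have hx'' : ∀ n, Formal2.HVres A (Formal2.quotPow A I M'' n) 0 hV.1
      (Formal2.HVmap A (qmap I g n) 0 U (y n)) =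
      Formal2.HVmap A (Formal2.quotPowπ A I M'' n) 0 V x'' := hx''0
  -- Step 2: Deligne's formula for `x''`
  obtain ⟨K, hK⟩ := exists_isPunct A V
  obtain ⟨n₀, hn₀⟩ := HV_exists_pow A K V hK x''
  obtain ⟨r, a, ha⟩ := Submodule.fg_iff_exists_fin_generating_family.mp
    (IsNoetherian.noetherian (K ^ n₀))
  have ha_mem : ∀ j, a j ∈ K ^ n₀ := fun j => ha ▸ Submodule.subset_span ⟨j, rfl⟩
  choose m2 hm2 using fun j => hn₀ (a j) (ha_mem j)
  choose m1 hm1 using fun j => hg (m2 j)
  -- Step 3: the families `δ j`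
  let δ : Fin r → ∀ n, Formal2.HV A (Formal2.quotPow A I M n) 0 U := fun j n =>
    etaV A U (Formal2.quotPow A I M n) (Formal2.quotPowπ A I M n (m1 j)) -
      Formal2.HVmap A (a j • (LinearMap.id :
        Formal2.quotPow A I M n →ₗ[A] Formal2.quotPow A I M n)) 0 U (y n)
  have hδc : ∀ j n, Formal2.HVmap A (Formal2.quotPowTrans A I M n) 0 U (δ j (n + 1)) = δ j n := by
    intro j n
    simp only [δ]
    rw [map_sub, HVmap_etaV, HVmap_smul_comm, hy n]
    rfl
  have hδ0 : ∀ j n, Formal2.HVmap A (qmap I g n) 0 U (δ j n) = 0 := by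
    intro j n
    have e1 : Formal2.HVmap A (qmap I g n) 0 U (δ j n) =
        etaV A U (Formal2.quotPow A I M'' n) (Formal2.quotPowπ A I M'' n (m2 j)) -
          Formal2.HVmap A (a j • (LinearMap.id :
            Formal2.quotPow A I M'' n →ₗ[A] Formal2.quotPow A I M'' n)) 0 U
            (Formal2.HVmap A (qmap I g n) 0 U (y n)) := by
      simp only [δ]
      rw [map_sub, HVmap_etaV, HVmap_smul_comm, ← hm1 j]
      rfl
    apply HVres_injective_of_support A I (n + 1) (quotPow_smul A I M'' n) hV.1 hV.2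
    rw [e1, map_sub, HVres_etaV, HVres_HVmap, hx'' n, ← HVmap_smul_comm, hm2 j, HVmap_etaV,
      sub_self]
  choose y' hy'c hy'f using fun j =>
    exists_lift_family I U f g hf hg hex (δ j) (hδc j) (hδ0 j)
  -- Step 4: algebraize the families for `M'`
  choose Vj hVj d hd using fun j => h'.2 (y' j) (hy'c j)
  -- Step 5
  obtain ⟨W₀, hW₀, hW₀V, hW₀j⟩ := exists_admissible_le I Finset.univ Vj hVj V hV
  have hW₀j' : ∀ j, W₀ ≤ Vj j := fun j => hW₀j j (Finset.mem_univ j)
  let σ₀ : Fin r → Formal2.HV A M 0 W₀ := fun j =>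
    etaV A W₀ M (m1 j) - Formal2.HVmap A f 0 W₀ (Formal2.HVres A M' 0 (hW₀j' j) (d j))
  have hσ₀ : ∀ j n, Formal2.HVmap A (Formal2.quotPowπ A I M n) 0 W₀ (σ₀ j) =
      Formal2.HVmap A (a j • (LinearMap.id :
        Formal2.quotPow A I M n →ₗ[A] Formal2.quotPow A I M n)) 0 W₀
        (Formal2.HVres A (Formal2.quotPow A I M n) 0 hW₀.1 (y n)) := by
    intro j n
    have e1 : Formal2.HVmap A (Formal2.quotPowπ A I M n) 0 W₀
        (Formal2.HVmap A f 0 W₀ (Formal2.HVres A M' 0 (hW₀j' j) (d j))) =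
        Formal2.HVres A (Formal2.quotPow A I M n) 0 hW₀.1 (δ j n) := by
      rw [← HVmap_comp, hπf n, HVmap_comp, ← HVres_HVmap, ← hd j n, HVres_HVres,
        ← HVres_HVmap, hy'f j n]
    simp only [σ₀]
    rw [map_sub, HVmap_etaV, e1]
    simp only [δ]
    rw [map_sub, HVres_etaV, HVres_HVmap, sub_sub_cancel]
  -- Step 6: the pairwise relations hold after shrinking
  let ε : Fin r × Fin r → Formal2.HV A M 0 W₀ := fun jk =>
    Formal2.HVmap A (a jk.2 • (LinearMap.id : M →ₗ[A] M)) 0 W₀ (σ₀ jk.1) -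
      Formal2.HVmap A (a jk.1 • (LinearMap.id : M →ₗ[A] M)) 0 W₀ (σ₀ jk.2)
  have hε : ∀ jk n, Formal2.HVmap A (Formal2.quotPowπ A I M n) 0 W₀ (ε jk) = 0 := by
    intro jk n
    simp only [ε]
    rw [map_sub, HVmap_smul_comm, HVmap_smul_comm, hσ₀, hσ₀,
      HVmap_smul_comm A W₀ (a jk.1 • (LinearMap.id :
        Formal2.quotPow A I M n →ₗ[A] Formal2.quotPow A I M n)) (a jk.2), sub_self]
  choose Vjk hVjk hεjk using fun jk =>
    colim_injective_mid hf hg hex h' h'' W₀ hW₀ (ε jk) (hε jk)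
  obtain ⟨W, hWadm, hWW₀, hWjk⟩ :=
    exists_admissible_le I Finset.univ Vjk (fun jk => (hVjk jk).1) W₀ hW₀
  let σ : Fin r → Formal2.HV A M 0 W := fun j => Formal2.HVres A M 0 hWW₀ (σ₀ j)
  have hσ : ∀ j k, Formal2.HVmap A (a k • (LinearMap.id : M →ₗ[A] M)) 0 W (σ j) =
      Formal2.HVmap A (a j • (LinearMap.id : M →ₗ[A] M)) 0 W (σ k) := by
    intro j k
    have h3 := HVres_HVres A 0 (hVjk (j, k)).2 (hWjk (j, k) (Finset.mem_univ _)) (ε (j, k))
    rw [hεjk (j, k), map_zero] at h3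
    have h2 : Formal2.HVres A M 0 hWW₀ (ε (j, k)) = 0 := h3.symm
    simp only [ε] at h2
    rw [map_sub, HVres_HVmap, HVres_HVmap, sub_eq_zero] at h2
    exact h2
  -- Step 7
  obtain ⟨L, hL⟩ := exists_isPunct A W
  have hWV : W ≤ V := hWW₀.trans hW₀V
  have hrad : L ≤ (K ^ n₀).radical := by
    rw [← PrimeSpectrum.zeroLocus_subset_zeroLocus_iff]
    intro x hx
    rw [PrimeSpectrum.mem_zeroLocus, SetLike.coe_subset_coe] at hx ⊢
    by_contra hLx
    have hxW : x ∈ cv W := (hL x).mpr hLx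
    have hxV : x ∈ cv V := cv_le hWV hxW
    exact ((hK x).mp hxV) (x.isPrime.le_of_pow_le hx)
  obtain ⟨m, hm⟩ := Ideal.exists_pow_le_of_le_radical_of_fg hrad (IsNoetherian.noetherian L)
  have hm' : L ^ m ≤ Ideal.span (Set.range a) := hm.trans (le_of_eq ha.symm)
  -- Step 8: glue
  obtain ⟨s, hs⟩ := HV_glue A L W hL a σ hσ m hm'
  -- Step 9
  refine ⟨W, hWadm, s, fun n => ?_⟩
  rw [← sub_eq_zero]
  apply HV_eq_zero_of_gens A L W hL a m hm'
  intro j
  have e2 : Formal2.HVmap A (a j • (LinearMap.id :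
      Formal2.quotPow A I M n →ₗ[A] Formal2.quotPow A I M n)) 0 W
      (Formal2.HVmap A (Formal2.quotPowπ A I M n) 0 W s) =
      Formal2.HVmap A (a j • (LinearMap.id :
        Formal2.quotPow A I M n →ₗ[A] Formal2.quotPow A I M n)) 0 W
        (Formal2.HVres A (Formal2.quotPow A I M n) 0 hWadm.1 (y n)) := by
    rw [← HVmap_smul_comm, hs j]
    simp only [σ]
    rw [← HVres_HVmap, hσ₀ j n, HVres_HVmap, HVres_HVres]
  rw [map_sub, e2, sub_self]

/-- **The comparison map is bijective for the middle term of a short exact sequence.** -/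
theorem colimBijective_mid (hf : Function.Injective f) (hg : Function.Surjective g)
    (hex : Function.Exact f g)
    (h' : Formal2.FormalCohColimBijective A I M' 0 U)
    (h'' : Formal2.FormalCohColimBijective A I M'' 0 U) :
    Formal2.FormalCohColimBijective A I M 0 U :=
  ⟨fun V hV x hx => colim_injective_mid hf hg hex h' h'' V hV x hx,
    fun y hy => colim_surjective_mid hf hg hex h' h'' y hy⟩

end Main

end Groth.Agent.H2.PFColD
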