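import Groth.Agent.Lib.Helper2.PFColC
import Groth.Agent.Lib.Helper1.Adic

/-!
# Multiplication by a regular element on the quotients `M/f^(n+1)M` (helper2)
-/

set_option autoImplicit false
set_option linter.style.haveILetI false
universe u
open CategoryTheory CategoryTheory.Abelian

namespace Groth.Agent.H2.PFFin

open Groth.Agent.H2.PFSec Groth.Agent.H6

variable {A : Type u} [CommRing A] (f : A) (M : Type u) [AddCommGroup M] [Module A M]

theorem P_le_comap_smul (n : ℕ) :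
    P f M n ≤ (P f M (n + 1)).comap (f • (LinearMap.id : M →ₗ[A] M)) := by
  intro x hx
  obtain ⟨m, rfl⟩ := mem_P.mp hx
  rw [Submodule.mem_comap]
  apply mem_P.mpr
  refine ⟨m, ?_⟩
  rw [LinearMap.smul_apply, LinearMap.id_apply, smul_smul, ← pow_succ']

/-- multiplication by `f`, as a map `M/f^(n+1)M → M/f^(n+2)M`. -/
def fmul (n : ℕ) : (M ⧸ P f M n) →ₗ[A] (M ⧸ P f M (n + 1)) :=
  Submodule.mapQ _ _ (f • (LinearMap.id : M →ₗ[A] M)) (P_le_comap_smul f M n)

theorem fmul_mk (n : ℕ) (m : M) :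
    fmul f M n ((P f M n).mkQ m) = (P f M (n + 1)).mkQ (f • m) := rfl

variable {f M}

theorem fmul_injective (hreg : IsSMulRegular M f) (n : ℕ) : Function.Injective (fmul f M n) := by
  rw [← LinearMap.ker_eq_bot, eq_bot_iff]
  intro q hq
  obtain ⟨m, rfl⟩ := (P f M n).mkQ_surjective q
  rw [LinearMap.mem_ker, fmul_mk, Submodule.mkQ_apply, Submodule.Quotient.mk_eq_zero] at hq
  obtain ⟨m', hm'⟩ := mem_P.mp hq
  have h1 : f • m = f • (f ^ (n + 1) • m') := by
    rw [hm', smul_smul, ← pow_succ']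
  have h2 : m = f ^ (n + 1) • m' := hreg h1
  rw [Submodule.mem_bot, Submodule.mkQ_apply, Submodule.Quotient.mk_eq_zero]
  exact mem_P.mpr ⟨m', h2⟩

variable (f M)

theorem fmul_exact (n : ℕ) :
    Function.Exact (fmul f M n) (trans f M (Nat.zero_le (n + 1))) := by
  intro q
  obtain ⟨m, rfl⟩ := (P f M (n + 1)).mkQ_surjective q
  constructor
  · intro h
    have h1 : m ∈ P f M 0 := by
      rw [Submodule.mkQ_apply, Submodule.mapQ_apply, LinearMap.id_apply,
        Submodule.Quotient.mk_eq_zero] at h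
      exact h
    obtain ⟨m', hm'⟩ := mem_P.mp h1
    refine ⟨(P f M n).mkQ m', ?_⟩
    rw [fmul_mk, hm', zero_add, pow_one]
  · rintro ⟨q', hq'⟩
    obtain ⟨m', rfl⟩ := (P f M n).mkQ_surjective q'
    rw [← hq', fmul_mk, Submodule.mkQ_apply, Submodule.mapQ_apply, LinearMap.id_apply,
      Submodule.Quotient.mk_eq_zero]
    exact mem_P.mpr ⟨m', by rw [zero_add, pow_one]⟩

theorem fmul_trans (n : ℕ) :
    fmul f M n ∘ₗ trans f M (Nat.le_succ n) =
      f • (LinearMap.id : (M ⧸ P f M (n + 1)) →ₗ[A] (M ⧸ P f M (n + 1))) := by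
  apply LinearMap.ext
  intro q
  obtain ⟨m, rfl⟩ := (P f M (n + 1)).mkQ_surjective q
  rw [LinearMap.comp_apply, LinearMap.smul_apply, LinearMap.id_apply]
  have h1 : trans f M (Nat.le_succ n) ((P f M (n + 1)).mkQ m) = (P f M n).mkQ m := rfl
  rw [h1, fmul_mk, map_smul]

theorem trans_fmul (n : ℕ) :
    trans f M (Nat.le_succ (n + 1)) ∘ₗ fmul f M (n + 1) =
      fmul f M n ∘ₗ trans f M (Nat.le_succ n) := by
  apply LinearMap.ext
  intro q
  obtain ⟨m, rfl⟩ := (P f M (n + 1)).mkQ_surjective q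
  rw [LinearMap.comp_apply, LinearMap.comp_apply, fmul_mk]
  have h1 : trans f M (Nat.le_succ n) ((P f M (n + 1)).mkQ m) = (P f M n).mkQ m := rfl
  have h2 : trans f M (Nat.le_succ (n + 1)) ((P f M (n + 1 + 1)).mkQ (f • m)) =
      (P f M (n + 1)).mkQ (f • m) := rfl
  rw [h1, h2, fmul_mk]

theorem pow_smul_id_eq_zero (n : ℕ) :
    (f ^ (n + 1)) • (LinearMap.id : (M ⧸ P f M n) →ₗ[A] (M ⧸ P f M n)) = 0 := by
  apply LinearMap.ext
  intro q
  obtain ⟨m, rfl⟩ := (P f M n).mkQ_surjective q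
  rw [LinearMap.smul_apply, LinearMap.id_apply, LinearMap.zero_apply, ← map_smul,
    Submodule.mkQ_apply, Submodule.Quotient.mk_eq_zero]
  exact mem_P.mpr ⟨m, rfl⟩

end Groth.Agent.H2.PFFin
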