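import Groth.Agent.Lib.Helper2.PFFinB

/-!
# The kernel and cokernel of `M → lim D_I(M/f^(n+1)M)` vanish near `V(f) ∖ V(I)` (helper2)
-/

set_option autoImplicit false
set_option linter.style.haveILetI false
universe u
open CategoryTheory CategoryTheory.Abelian

namespace Groth.Agent.H2.PFFin

open Groth.Agent.H2.PFSec Groth.Agent.H6 LocCoh

section CH

variable {A : Type u} [CommRing A] {N : Type u} [AddCommGroup N] [Module A N]

/-- if `L N ⊆ f N` for a finite module `N`, then every prime containing `Ann N` and `f`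
contains `L`. -/
theorem le_of_annihilator_le [Module.Finite A N] (L : Ideal A) (f : A)
    (h : ∀ a ∈ L, ∀ x : N, a • x ∈ Ideal.span {f} • (⊤ : Submodule A N))
    (p : Ideal A) [hp : p.IsPrime] (hann : Module.annihilator A N ≤ p) (hf : f ∈ p) : L ≤ p := by
  let pp : PrimeSpectrum A := ⟨p, hp⟩
  have h1 : pp ∈ Module.support A N := Module.mem_support_iff_of_finite.mpr hann
  have h2 : pp ∈ PrimeSpectrum.zeroLocus ((Ideal.span {f} : Ideal A) : Set A) := by
    rw [PrimeSpectrum.mem_zeroLocus]
    exact (Ideal.span_singleton_le_iff_mem (I := p)).mpr hf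
  have h3 : pp ∈ Module.support A (N ⧸ (Ideal.span {f} • (⊤ : Submodule A N))) := by
    rw [Module.support_quotient]
    exact ⟨h1, h2⟩
  have h4 : Module.annihilator A (N ⧸ (Ideal.span {f} • (⊤ : Submodule A N))) ≤ p :=
    Module.annihilator_le_of_mem_support h3
  intro a ha
  apply h4
  rw [Module.mem_annihilator]
  intro q
  obtain ⟨x, rfl⟩ := Submodule.mkQ_surjective _ q
  rw [← map_smul, Submodule.mkQ_apply, Submodule.Quotient.mk_eq_zero]
  exact h a ha x

/-- uniform exponent for a finite module. -/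
theorem exists_pow_uniform [Module.Finite A N] (I : Ideal A) (S : Submodule A N)
    (h : ∀ x : N, ∃ n : ℕ, ∀ a ∈ I ^ n, a • x ∈ S) :
    ∃ k : ℕ, ∀ a ∈ I ^ k, ∀ x : N, a • x ∈ S := by
  classical
  obtain ⟨s, hs⟩ := (Module.Finite.fg_top : (⊤ : Submodule A N).FG)
  choose n hn using h
  refine ⟨s.sup n, fun a ha x => ?_⟩
  have hle : Submodule.span A (s : Set N) ≤ S.comap (a • (LinearMap.id : N →ₗ[A] N)) := by
    rw [Submodule.span_le]
    intro y hy
    rw [SetLike.mem_coe, Submodule.mem_comap, LinearMap.smul_apply, LinearMap.id_apply]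
    exact hn y a (Ideal.pow_le_pow_right (Finset.le_sup hy) ha)
  rw [hs] at hle
  exact hle (Submodule.mem_top : x ∈ ⊤)

end CH

variable {A : Type u} [CommRing A] [IsNoetherianRing A] (I : Ideal A) {f : A}
  {M : Type u} [AddCommGroup M] [Module A M] [Module.Finite A M]

/-- the cokernel of `M → H`: `I^k` maps it into `f` times itself. -/
theorem exists_pow_smul_coker (hreg : IsSMulRegular M f)
    (hfin : Module.Finite A (LocCoh.H I 1 (M ⧸ P f M 0))) :
    ∃ k : ℕ, ∀ a ∈ I ^ k, ∀ x : ↥(Hsub I f M) ⧸ LinearMap.range (uMap I f M),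
      a • x ∈ Ideal.span {f} •
        (⊤ : Submodule A (↥(Hsub I f M) ⧸ LinearMap.range (uMap I f M))) := by
  haveI : Module.Finite A (DT I (M ⧸ P f M 0)) := finite_DT hfin
  obtain ⟨k, hk⟩ := exists_pow_uniform I (LinearMap.range (toDT I (M ⧸ P f M 0)))
    (fun x => DT.coker_toDT_torsion x)
  refine ⟨k, fun a ha x => ?_⟩
  obtain ⟨y, rfl⟩ := Submodule.mkQ_surjective _ x
  obtain ⟨q, hq⟩ := hk a ha (pr I f M 0 y)
  obtain ⟨m, rfl⟩ := (P f M 0).mkQ_surjective q
  have h0 : pr I f M 0 (a • y - uMap I f M m) = 0 := by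
    rw [map_sub, map_smul, pr_uMap, hq, sub_self]
  obtain ⟨z, hz⟩ := exists_eq_smul_of_pr_zero I hreg _ h0
  have h1 : a • y = f • z + uMap I f M m := by
    rw [← hz]
    abel
  have h2 : (LinearMap.range (uMap I f M)).mkQ (a • y) =
      f • (LinearMap.range (uMap I f M)).mkQ z := by
    rw [h1, map_add, map_smul]
    have : (LinearMap.range (uMap I f M)).mkQ (uMap I f M m) = 0 := by
      rw [Submodule.mkQ_apply, Submodule.Quotient.mk_eq_zero]
      exact ⟨m, rfl⟩
    rw [this, add_zero]
  rw [← map_smul, h2]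
  exact Submodule.smul_mem_smul (Ideal.mem_span_singleton_self f) Submodule.mem_top

/-- the kernel of `M → H`: `I^k` maps it into `f` times itself. -/
theorem exists_pow_smul_ker :
    ∃ k : ℕ, ∀ a ∈ I ^ k, ∀ x : ↥(LinearMap.ker (uMap I f M)),
      a • x ∈ Ideal.span {f} • (⊤ : Submodule A ↥(LinearMap.ker (uMap I f M))) := by
  haveI : IsNoetherian A M := isNoetherian_of_isNoetherianRing_of_finite A M
  haveI : Module.Finite A ↥(LinearMap.ker (uMap I f M)) := Module.Finite.of_injective
    (LinearMap.ker (uMap I f M)).subtype (Submodule.injective_subtype _)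
  obtain ⟨c, hc⟩ := Groth.Agent.H2.PFCol.exists_AR (Ideal.span {f})
    (LinearMap.ker (uMap I f M)).subtype (Submodule.injective_subtype _)
  have hc0 := hc 0
  obtain ⟨k, hk⟩ := exists_pow_uniform I
    ((P f M (0 + c)).comap (LinearMap.ker (uMap I f M)).subtype) (by
      intro x
      have h1 : pr I f M (0 + c) (uMap I f M x.1) = 0 := by
        rw [x.2, map_zero]
      rw [pr_uMap, DT.toDT_eq_zero_iff] at h1
      obtain ⟨n, hn⟩ := h1
      refine ⟨n, fun a ha => ?_⟩
      rw [Submodule.mem_comap, map_smul, Submodule.subtype_apply]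
      have h2 := hn a ha
      rw [← map_smul, Submodule.mkQ_apply, Submodule.Quotient.mk_eq_zero] at h2
      exact h2)
  refine ⟨k, fun a ha x => ?_⟩
  have h3 : a • x ∈ (Ideal.span {f}) ^ (0 + 1) •
      (⊤ : Submodule A ↥(LinearMap.ker (uMap I f M))) := hc0 (hk a ha x)
  rw [zero_add, pow_one] at h3
  exact h3

/-- the ideal cutting out the locus where `M → H` is not an isomorphism. -/
noncomputable def Jid (I : Ideal A) (f : A) (M : Type u) [AddCommGroup M] [Module A M] :
    Ideal A :=
  I * (Module.annihilator A (↥(Hsub I f M) ⧸ LinearMap.range (uMap I f M)) *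
    Module.annihilator A ↥(LinearMap.ker (uMap I f M)))

omit [IsNoetherianRing A] [Module.Finite A M] in
theorem Jid_le : Jid I f M ≤ I := Ideal.mul_le_left

omit [IsNoetherianRing A] [Module.Finite A M] in
theorem Jid_le_ann_coker :
    Jid I f M ≤ Module.annihilator A (↥(Hsub I f M) ⧸ LinearMap.range (uMap I f M)) :=
  Ideal.mul_le_right.trans Ideal.mul_le_left

omit [IsNoetherianRing A] [Module.Finite A M] in
theorem Jid_le_ann_ker :
    Jid I f M ≤ Module.annihilator A ↥(LinearMap.ker (uMap I f M)) :=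
  Ideal.mul_le_right.trans Ideal.mul_le_right

/-- admissibility of the complement of `V(Jid)`. -/
theorem not_Jid_le [IsAdicComplete (Ideal.span {f}) A] (hreg : IsSMulRegular M f)
    (hfin : Module.Finite A (LocCoh.H I 1 (M ⧸ P f M 0)))
    (p : Ideal A) [hp : p.IsPrime] (hI : ¬ I ≤ p) (hf : f ∈ p) : ¬ Jid I f M ≤ p := by
  haveI : IsNoetherian A M := isNoetherian_of_isNoetherianRing_of_finite A M
  haveI : Module.Finite A ↥(LinearMap.ker (uMap I f M)) := Module.Finite.of_injective
    (LinearMap.ker (uMap I f M)).subtype (Submodule.injective_subtype _)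
  haveI : Module.Finite A ↥(Hsub I f M) := finite_Hsub I hreg hfin
  intro hJ
  rcases (Ideal.IsPrime.mul_le hp).mp hJ with h | h
  · exact hI h
  · rcases (Ideal.IsPrime.mul_le hp).mp h with h | h
    · obtain ⟨k, hk⟩ := exists_pow_smul_coker I hreg hfin
      have := le_of_annihilator_le (I ^ k) f hk p h hf
      exact hI (hp.le_of_pow_le this)
    · obtain ⟨k, hk⟩ := exists_pow_smul_ker (M := M) (f := f) I
      have := le_of_annihilator_le (I ^ k) f hk p h hf
      exact hI (hp.le_of_pow_le this)

omit [Module.Finite A M] in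
/-- `M → H` induces a bijection on ideal transforms with respect to `Jid`. -/
theorem dmap_uMap_bijective :
    Function.Bijective (dmap (Jid I f M) (uMap I f M)) := by
  apply DT.map_bijective
  · intro x hx
    refine ⟨1, fun a ha => ?_⟩
    rw [pow_one] at ha
    have h1 := Jid_le_ann_ker I ha
    rw [Module.mem_annihilator] at h1
    have h2 := h1 ⟨x, hx⟩
    exact congrArg Subtype.val h2
  · intro q
    refine ⟨1, fun a ha => ?_⟩
    rw [pow_one] at ha
    have h1 := Jid_le_ann_coker I ha
    rw [Module.mem_annihilator] at h1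
    exact h1 q

end Groth.Agent.H2.PFFin
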