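import Groth.Agent.Lib.Helper2.PFFinC
import Groth.Agent.Lib.Helper2.PFSecJ
import Groth.Agent.Lib.Lead.SC.CohPsh3

/-!
# Bridges between `Formal2.HV` in degree `0`, sections and ideal transforms on varying opens
(helper2)
-/

set_option autoImplicit false
set_option linter.style.haveILetI false
universe u
open CategoryTheory AlgebraicGeometry TopologicalSpace Opposite

namespace Groth.Agent.H2.PFFin

open Groth.Agent.H2.PFSec Groth.Agent.H6 LocCoh Groth.Agent.H6.TildePunct

variable (A : Type u) [CommRing A]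

section Bridge

variable (W : (Spec (CommRingCat.of A)).Opens)
  (N N' : Type u) [AddCommGroup N] [Module A N] [AddCommGroup N'] [Module A N']

/-- `H⁰(W, N~) ≃ Γ(W, N~)` -/
noncomputable def hvW : Formal2.HV A N 0 W ≃+ TSec A N W :=
  Groth.Agent.LD.SC.H0Equiv W (Coh.toAb (Formal2.tmod A N))

variable {N N'}

theorem hvW_map (φ : N →ₗ[A] N') (x : Formal2.HV A N 0 W) :
    hvW A W N' (Formal2.HVmap A φ 0 W x) = tmapW A W φ (hvW A W N x) :=
  Groth.Agent.LD.SC.H0Equiv_comp W x
    ((SheafOfModules.toSheaf _).map (Formal2.tmodMap A φ))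

variable (N)

/-- restriction of sections -/
noncomputable def resW {W W' : (Spec (CommRingCat.of A)).Opens} (h : W' ≤ W) :
    TSec A N W →ₗ[A] TSec A N W' :=
  ((modulesSpecToSheaf.obj (tilde (R := CommRingCat.of A)
    (ModuleCat.of A N))).presheaf.map (homOfLE h).op).hom

theorem resW_η {W W' : (Spec (CommRingCat.of A)).Opens} (h : W' ≤ W) (z : N) :
    resW A N h (ηW A W N z) = ηW A W' N z := rfl

theorem hvW_res {W W' : (Spec (CommRingCat.of A)).Opens} (h : W' ≤ W)
    (x : Formal2.HV A N 0 W) :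
    hvW A W' N (Formal2.HVres A N 0 h x) = resW A N h (hvW A W N x) :=
  Groth.Agent.LD.SC.H0Equiv_Hres (homOfLE h) (Coh.toAb (Formal2.tmod A N)) x

end Bridge

section Lin

variable [IsNoetherianRing A] (I : Ideal A) (W : (Spec (CommRingCat.of A)).Opens)
  (hW : IsPunct I (cv W)) (N : Type u) [AddCommGroup N] [Module A N]

/-- the linear version of `ΘW` -/
noncomputable def ΘWL : TSec A N W ≃ₗ[A] DT I N :=
  (LinearEquiv.ofBijective (toDT I (TSec A N W)) (toDT_TSW_bijective A I W hW N)).trans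
    (LinearEquiv.ofBijective (dmap I (ηW A W N)) (dmap_ηW_bijective A I W hW N)).symm

theorem dmap_η_ΘWL (t : TSec A N W) :
    dmap I (ηW A W N) (ΘWL A I W hW N t) = toDT I (TSec A N W) t := by
  change dmap I (ηW A W N) ((LinearEquiv.ofBijective (dmap I (ηW A W N))
    (dmap_ηW_bijective A I W hW N)).symm _) = _
  exact LinearEquiv.apply_symm_apply (LinearEquiv.ofBijective (dmap I (ηW A W N))
    (dmap_ηW_bijective A I W hW N)) _

theorem ΘWL_apply (t : TSec A N W) : ΘWL A I W hW N t = ΘW A I W hW N t := by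
  apply (dmap_ηW_bijective A I W hW N).1
  rw [dmap_η_ΘWL, dmap_η_ΘW]

theorem ΘWL_η (z : N) : ΘWL A I W hW N (ηW A W N z) = toDT I N z := by
  apply (dmap_ηW_bijective A I W hW N).1
  rw [dmap_η_ΘWL, dmap_toDT]

theorem ΘW_smul (a : A) (t : TSec A N W) :
    ΘW A I W hW N (a • t) = a • ΘW A I W hW N t := by
  rw [← ΘWL_apply, ← ΘWL_apply, map_smul]

end Lin

end Groth.Agent.H2.PFFin
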