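import Groth.Agent.Lib.Helper2.PFFinD

/-!
# Surjectivity: compatible families of sections come from a section over an admissible open
(helper2)
-/

set_option autoImplicit false
set_option linter.style.haveILetI false
universe u
open CategoryTheory AlgebraicGeometry TopologicalSpace Opposite

namespace Groth.Agent.H2.PFFin

open Groth.Agent.H2.PFSec Groth.Agent.H6 LocCoh Groth.Agent.H6.TildePunct

variable (A : Type u) [CommRing A] [IsNoetherianRing A] (I : Ideal A) (f : A)
  (M : Type u) [AddCommGroup M] [Module A M]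

/-- the admissible open on which `M~ → H~` is an isomorphism. -/
noncomputable def Vopen : (Spec (CommRingCat.of A)).Opens :=
  LocCoh.puncturedOpen A (Jid I f M)

omit [IsNoetherianRing A] in
theorem Vopen_le : Vopen A I f M ≤ LocCoh.puncturedOpen A I := by
  intro p hp hI
  apply hp
  intro a ha
  exact hI (Jid_le I ha)

omit [IsNoetherianRing A] in
theorem isPunct_Vopen : IsPunct (Jid I f M) (cv (Vopen A I f M)) := isPunct _

/-- the family of ideal-transform elements attached to a compatible family of classes. -/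
theorem mem_Hsub_of_compat
    (y : ∀ n, Formal2.HV A (M ⧸ P f M n) 0 (LocCoh.puncturedOpen A I))
    (hy : ∀ n, Formal2.HVmap A (trans f M (Nat.le_succ n)) 0 (LocCoh.puncturedOpen A I)
      (y (n + 1)) = y n) :
    (fun n => ΘW A I (LocCoh.puncturedOpen A I) (isPunct I) (M ⧸ P f M n)
      (hvW A (LocCoh.puncturedOpen A I) (M ⧸ P f M n) (y n))) ∈ Hsub I f M := by
  intro n
  change dmap I (trans f M (Nat.le_succ n)) (ΘW A I _ (isPunct I) _ (hvW A _ _ (y (n + 1)))) =
    ΘW A I _ (isPunct I) _ (hvW A _ _ (y n))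
  rw [← ΘW_tmap, ← hvW_map, hy n]

variable [Module.Finite A M]

theorem exists_section_of_compat
    (y : ∀ n, Formal2.HV A (M ⧸ P f M n) 0 (LocCoh.puncturedOpen A I))
    (hy : ∀ n, Formal2.HVmap A (trans f M (Nat.le_succ n)) 0 (LocCoh.puncturedOpen A I)
      (y (n + 1)) = y n) :
    ∃ x : Formal2.HV A M 0 (Vopen A I f M), ∀ n,
      Formal2.HVres A (M ⧸ P f M n) 0 (Vopen_le A I f M) (y n) =
        Formal2.HVmap A (P f M n).mkQ 0 (Vopen A I f M) x := by
  have hWU : IsPunct I (cv (LocCoh.puncturedOpen A I)) := isPunct I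
  have hWV : IsPunct (Jid I f M) (cv (Vopen A I f M)) := isPunct_Vopen A I f M
  let s : ↥(Hsub I f M) := ⟨_, mem_Hsub_of_compat A I f M y hy⟩
  obtain ⟨ξ, hξ⟩ := (dmap_uMap_bijective (f := f) (M := M) I).2 (toDT (Jid I f M) _ s)
  let t : TSec A M (Vopen A I f M) := (ΘW A (Jid I f M) (Vopen A I f M) hWV M).symm ξ
  have ht : ΘW A (Jid I f M) (Vopen A I f M) hWV M t = ξ := Equiv.apply_symm_apply _ _
  refine ⟨(hvW A (Vopen A I f M) M).symm t, fun n => ?_⟩
  apply (hvW A (Vopen A I f M) (M ⧸ P f M n)).injective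
  rw [hvW_res, hvW_map, AddEquiv.apply_symm_apply]
  -- the linear map `q_n`
  let q : ↥(Hsub I f M) →ₗ[A] TSec A (M ⧸ P f M n) (Vopen A I f M) :=
    resW A (M ⧸ P f M n) (Vopen_le A I f M) ∘ₗ
      (ΘWL A I (LocCoh.puncturedOpen A I) hWU (M ⧸ P f M n)).symm.toLinearMap ∘ₗ pr I f M n
  have hqs : q s = resW A (M ⧸ P f M n) (Vopen_le A I f M)
      (hvW A (LocCoh.puncturedOpen A I) (M ⧸ P f M n) (y n)) := by
    change resW A _ _ ((ΘWL A I (LocCoh.puncturedOpen A I) hWU (M ⧸ P f M n)).symm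
      (ΘW A I (LocCoh.puncturedOpen A I) hWU _ (hvW A (LocCoh.puncturedOpen A I) _ (y n)))) = _
    rw [← ΘWL_apply, LinearEquiv.symm_apply_apply]
  have hkey : q ∘ₗ uMap I f M =
      tmapW A (Vopen A I f M) (P f M n).mkQ ∘ₗ ηW A (Vopen A I f M) M := by
    apply LinearMap.ext
    intro m
    change resW A _ _ ((ΘWL A I (LocCoh.puncturedOpen A I) hWU (M ⧸ P f M n)).symm
      (toDT I _ ((P f M n).mkQ m))) =
        tmapW A (Vopen A I f M) (P f M n).mkQ (ηW A (Vopen A I f M) M m)
    rw [← ΘWL_η A I (LocCoh.puncturedOpen A I) hWU, LinearEquiv.symm_apply_apply, resW_η,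
      tmapW_η]
  rw [← hqs]
  apply (toDT_TSW_bijective A (Jid I f M) (Vopen A I f M) hWV (M ⧸ P f M n)).1
  rw [← dmap_toDT, ← hξ, ← dmap_comp, hkey, dmap_comp, ← ht, dmap_η_ΘW, dmap_toDT]

end Groth.Agent.H2.PFFin
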