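import Groth.Agent.Lib.Helper2.PFFinE

/-!
# Injectivity: a section over an admissible open that dies in all `M/f^(n+1)M` vanishes on a
smaller admissible open (helper2)
-/

set_option autoImplicit false
set_option linter.style.haveILetI false
universe u
open CategoryTheory AlgebraicGeometry TopologicalSpace Opposite

namespace Groth.Agent.H2.PFFin

open Groth.Agent.H2.PFSec Groth.Agent.H6 LocCoh Groth.Agent.H6.TildePunct

variable (A : Type u) [CommRing A]

/-- the underlying set of an open of `Spec A`, as a set of primes. -/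
def cset (V : (Spec (CommRingCat.of A)).Opens) : Set (PrimeSpectrum A) := {x | x ∈ cv V}

theorem isOpen_cset (V : (Spec (CommRingCat.of A)).Opens) : IsOpen (cset A V) := (cv V).2

theorem isPunct_vanishingIdeal (V : (Spec (CommRingCat.of A)).Opens) :
    IsPunct (PrimeSpectrum.vanishingIdeal (cset A V)ᶜ) (cv V) := by
  intro x
  have hcl : IsClosed (cset A V)ᶜ := (isOpen_cset A V).isClosed_compl
  have h1 : PrimeSpectrum.zeroLocus
      ((PrimeSpectrum.vanishingIdeal (cset A V)ᶜ : Ideal A) : Set A) = (cset A V)ᶜ := by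
    rw [PrimeSpectrum.zeroLocus_vanishingIdeal_eq_closure, hcl.closure_eq]
  constructor
  · intro hx hle
    have h2 : x ∈ PrimeSpectrum.zeroLocus
        ((PrimeSpectrum.vanishingIdeal (cset A V)ᶜ : Ideal A) : Set A) := hle
    rw [h1] at h2
    exact h2 hx
  · intro hle
    by_contra hx
    apply hle
    have h2 : x ∈ PrimeSpectrum.zeroLocus
        ((PrimeSpectrum.vanishingIdeal (cset A V)ᶜ : Ideal A) : Set A) := by
      rw [h1]
      exact hx
    exact h2

variable {A}
variable [IsNoetherianRing A] {M : Type u} [AddCommGroup M] [Module A M] [Module.Finite A M]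

theorem exists_ideal_kills (J : Ideal A) (f : A) (ξ : DT J M)
    (hξ : ∀ n, dmap J (P f M n).mkQ ξ = 0) :
    ∃ J₀ : Ideal A, (∀ (p : Ideal A) [p.IsPrime], J₀ ≤ p → f ∈ p → J ≤ p) ∧
      ∀ c ∈ J₀, c • ξ = 0 := by
  haveI : IsNoetherian A M := isNoetherian_of_isNoetherianRing_of_finite A M
  obtain ⟨k, φ, rfl⟩ := DT.ι_surj ξ
  haveI : Module.Finite A ↥(LinearMap.range φ) := Module.Finite.of_injective
    (LinearMap.range φ).subtype (Submodule.injective_subtype _)
  obtain ⟨c, hc⟩ := Groth.Agent.H2.PFCol.exists_AR (Ideal.span {f})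
    (LinearMap.range φ).subtype (Submodule.injective_subtype _)
  have hc0 := hc 0
  have h1 := hξ (0 + c)
  rw [dmap, DT.map_ι, DT.ι_eq_zero_iff] at h1
  obtain ⟨k', hk', h0⟩ := h1
  refine ⟨Module.annihilator A ↥(LinearMap.range φ), ?_, ?_⟩
  · intro p hp hann hf
    have hL : J ^ (k' - k) ≤ p := by
      apply le_of_annihilator_le (J ^ (k' - k)) f _ p hann hf
      intro a ha x
      obtain ⟨j, hj⟩ := x.2
      have h2 : a • x ∈ (Ideal.span {f}) ^ (0 + 1) •
          (⊤ : Submodule A ↥(LinearMap.range φ)) := by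
        apply hc0
        rw [Submodule.mem_comap, map_smul, Submodule.subtype_apply, ← hj, ← map_smul]
        have h3 : ((a • j : ↥(J ^ k)) : A) ∈ J ^ k' := by
          have h3' : ((a • j : ↥(J ^ k)) : A) = a * (j : A) := rfl
          rw [h3']
          have h3'' := Ideal.mul_mem_mul ha j.2
          rwa [← pow_add, Nat.sub_add_cancel hk'] at h3''
        have h4 := LinearMap.congr_fun h0 ⟨_, h3⟩
        rw [LinearMap.comp_apply, LinearMap.comp_apply, LinearMap.zero_apply,
          Submodule.mkQ_apply, Submodule.Quotient.mk_eq_zero] at h4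
        have h5 : Submodule.inclusion (Ideal.pow_le_pow_right hk')
            (⟨_, h3⟩ : ↥(J ^ k')) = a • j := Subtype.ext rfl
        rw [h5] at h4
        exact h4
      rwa [zero_add, pow_one] at h2
    exact hp.le_of_pow_le hL
  · intro a ha
    rw [← map_smul]
    have h6 : a • φ = 0 := by
      apply LinearMap.ext
      intro j
      rw [LinearMap.smul_apply, LinearMap.zero_apply]
      have h7 := Module.mem_annihilator.mp ha ⟨φ j, ⟨j, rfl⟩⟩
      exact congrArg Subtype.val h7
    rw [h6, map_zero]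

theorem exists_open_res_eq_zero (f : A) (U V : (Spec (CommRingCat.of A)).Opens)
    (hV : Formal2.Admissible A (Ideal.span {f}) U V) (x : Formal2.HV A M 0 V)
    (hx : ∀ n, Formal2.HVmap A (P f M n).mkQ 0 V x = 0) :
    ∃ (V' : (Spec (CommRingCat.of A)).Opens)
      (h : Formal2.Admissible A (Ideal.span {f}) U V' ∧ V' ≤ V),
        Formal2.HVres A M 0 h.2 x = 0 := by
  set J : Ideal A := PrimeSpectrum.vanishingIdeal (cset A V)ᶜ with hJ
  have hWV : IsPunct J (cv V) := isPunct_vanishingIdeal A V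
  have hξ : ∀ n, dmap J (P f M n).mkQ (ΘW A J V hWV M (hvW A V M x)) = 0 := by
    intro n
    rw [← ΘW_tmap, ← hvW_map, hx n, map_zero, ΘW_zero]
  obtain ⟨J₀, hJ₀a, hJ₀b⟩ := exists_ideal_kills J f _ hξ
  have hWV' : IsPunct (J * J₀) (cv (LocCoh.puncturedOpen A (J * J₀))) := isPunct _
  have hV'V : LocCoh.puncturedOpen A (J * J₀) ≤ V := by
    intro p hp
    apply (hWV p).mpr
    intro hle
    apply hp
    intro a ha
    exact hle (Ideal.mul_le_left ha)
  have hadm : Formal2.Admissible A (Ideal.span {f}) U (LocCoh.puncturedOpen A (J * J₀)) := by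
    refine ⟨hV'V.trans hV.1, fun p hpU hpf => ?_⟩
    have hpV : p ∈ V := hV.2 p hpU hpf
    have hnJ : ¬ J ≤ (p : PrimeSpectrum A).asIdeal := (hWV p).mp hpV
    intro hle
    have hle' : J * J₀ ≤ (p : PrimeSpectrum A).asIdeal := hle
    have hfp : f ∈ (p : PrimeSpectrum A).asIdeal :=
      hpf (Ideal.mem_span_singleton_self f)
    rcases (Ideal.IsPrime.mul_le (p : PrimeSpectrum A).2).mp hle' with h | h
    · exact hnJ h
    · exact hnJ (hJ₀a _ h hfp)
  refine ⟨LocCoh.puncturedOpen A (J * J₀), ⟨hadm, hV'V⟩, ?_⟩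
  apply (hvW A _ M).injective
  rw [hvW_res, map_zero]
  apply (toDT_TSW_bijective A (J * J₀) _ hWV' M).1
  rw [map_zero, DT.toDT_eq_zero_iff]
  refine ⟨1, fun a ha => ?_⟩
  rw [pow_one] at ha
  rw [← map_smul]
  have h0 : a • hvW A V M x = 0 := by
    apply (ΘW A J V hWV M).injective
    rw [ΘW_smul, ΘW_zero]
    exact hJ₀b a (Ideal.mul_le_right ha)
  rw [h0, map_zero]

end Groth.Agent.H2.PFFin
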