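import Groth.Agent.Lib.Helper6.LCDT
import Groth.Agent.Lib.Helper6.LCExact
import Groth.Agent.Lib.Helper6.LCProps
import Groth.Agent.Lib.Helper6.DTThm
import Groth.Agent.Lib.Helper6.DepthKit

/-!
# Ideal transforms and local cohomology: naturality and lifting (helper2)
-/

set_option autoImplicit false
set_option linter.style.haveILetI false
universe u
open CategoryTheory CategoryTheory.Abelian

namespace Groth.Agent.H2.PFSec

open Groth.Agent.H6 LocCoh

variable {R : Type u} [CommRing R] {I : Ideal R}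

/-- naturality of the connecting homomorphism of local cohomology. -/
theorem δ_naturality {S S' : ShortComplex (ModuleCat.{u} R)} (hS : S.ShortExact)
    (hS' : S'.ShortExact) (φ : S ⟶ S') (i : ℕ) (z : (localCohomology I i).obj S.X₃) :
    LC.δ hS' I i (((localCohomology I i).map φ.τ₃).hom z) =
      ((localCohomology I (i + 1)).map φ.τ₁).hom (LC.δ hS I i z) := by
  obtain ⟨n, x, rfl⟩ := LC.lcι_surj z
  rw [LC.map_lcι, LC.δ_lcι, LC.δ_lcι, LC.map_lcι]
  congr 1
  rw [Ext.comp_assoc_of_second_deg_zero, Ext.comp_assoc_of_third_deg_zero,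
    ShortComplex.ShortExact.extClass_naturality hS hS' φ]

section DT

variable {M M' : Type u} [AddCommGroup M] [Module R M] [AddCommGroup M'] [Module R M']

/-- the map on ideal transforms -/
noncomputable abbrev dmap (I : Ideal R) (e : M →ₗ[R] M') : DT I M →ₗ[R] DT I M' :=
  ((idealTransform I).map (ModuleCat.ofHom e)).hom

theorem dtToH1_naturality (e : M →ₗ[R] M') (x : DT I M) :
    LC.dtToH1 I M' (dmap I e x) =
      ((localCohomology I 1).map (ModuleCat.ofHom e)).hom (LC.dtToH1 I M x) := by
  obtain ⟨n, φ, rfl⟩ := DT.ι_surj x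
  rw [dmap, DT.map_ι, LC.dtToH1_ι, LC.dtToH1_ι, LC.map_lcι]
  congr 1
  rw [LC.conn_apply, LC.conn_apply, Ext.comp_assoc_of_third_deg_zero, Ext.mk₀_comp_mk₀]
  rfl

end DT

end Groth.Agent.H2.PFSec
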