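import Groth.Agent.Lib.Helper2.PFSecC

/-!
# The submodules `f^(n+1) M` and the `f`-power torsion (helper2)
-/

set_option autoImplicit false
set_option linter.style.haveILetI false
universe u
open CategoryTheory CategoryTheory.Abelian

namespace Groth.Agent.H2.PFSec

open Groth.Agent.H6 LocCoh

section Setup

variable {R : Type u} [CommRing R] (f : R) (M : Type u) [AddCommGroup M] [Module R M]

/-- `P n = (f)^(n+1) M`. -/
abbrev P (n : ℕ) : Submodule R M := (Ideal.span {f}) ^ (n + 1) • (⊤ : Submodule R M)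

variable {f M}

theorem mem_P {n : ℕ} {x : M} : x ∈ P f M n ↔ ∃ m : M, x = f ^ (n + 1) • m := by
  rw [P, Ideal.span_singleton_pow, Submodule.ideal_span_singleton_smul]
  constructor
  · intro h
    obtain ⟨m, -, hm⟩ := (Submodule.mem_smul_pointwise_iff_exists _ _ _).mp h
    exact ⟨m, hm.symm⟩
  · rintro ⟨m, rfl⟩
    exact Submodule.smul_mem_pointwise_smul m _ ⊤ Submodule.mem_top

theorem P_anti {n m : ℕ} (h : n ≤ m) : P f M m ≤ P f M n :=
  Submodule.smul_mono_left (Ideal.pow_le_pow_right (by omega))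

variable (f M)

/-- the inclusion `P m → P n` for `n ≤ m`. -/
abbrev incl {n m : ℕ} (h : n ≤ m) : ↥(P f M m) →ₗ[R] ↥(P f M n) := Submodule.inclusion (P_anti h)

/-- the transition `M/P m → M/P n` for `n ≤ m`. -/
abbrev trans {n m : ℕ} (h : n ≤ m) : (M ⧸ P f M m) →ₗ[R] (M ⧸ P f M n) :=
  Submodule.mapQ _ _ LinearMap.id (by rw [Submodule.comap_id]; exact P_anti h)

/-- the `f^e`-torsion. -/
abbrev Tor (e : ℕ) : Submodule R M := LinearMap.ker ((f ^ e) • (LinearMap.id : M →ₗ[R] M))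

variable {f M}

theorem mem_Tor {e : ℕ} {x : M} : x ∈ Tor f M e ↔ f ^ e • x = 0 := by
  rw [Tor, LinearMap.mem_ker]
  rfl

theorem exists_stable [IsNoetherian R M] :
    ∃ e : ℕ, ∀ (n : ℕ) (x : M), f ^ (e + n) • x = 0 → f ^ e • x = 0 := by
  let F : ℕ →o Submodule R M :=
    ⟨fun n => Tor f M n, by
      intro a b hab x hx
      rw [mem_Tor] at hx ⊢
      obtain ⟨k, rfl⟩ := Nat.exists_eq_add_of_le hab
      rw [pow_add, mul_comm, mul_smul, hx, smul_zero]⟩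
  obtain ⟨e, he⟩ := monotone_stabilizes_iff_noetherian.mpr ‹IsNoetherian R M› F
  refine ⟨e, fun n x hx => ?_⟩
  have h1 : x ∈ F (e + n) := mem_Tor.mpr hx
  rw [← he (e + n) (Nat.le_add_right e n)] at h1
  exact mem_Tor.mp h1

/-- the isomorphism `M/T ≅ P n`, `[m] ↦ f^(n+1) m`. -/
theorem exists_alpha (e : ℕ) (he : ∀ (n : ℕ) (x : M), f ^ (e + n) • x = 0 → f ^ e • x = 0)
    (n : ℕ) (hn : e ≤ n + 1) :
    ∃ α : (M ⧸ Tor f M e) ≃ₗ[R] ↥(P f M n), ∀ m : M, ((α ((Tor f M e).mkQ m) : ↥(P f M n)) : M) =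
      f ^ (n + 1) • m := by
  obtain ⟨k, hk⟩ := Nat.exists_eq_add_of_le hn
  let β : M →ₗ[R] ↥(P f M n) :=
    LinearMap.codRestrict (P f M n) ((f ^ (n + 1)) • (LinearMap.id : M →ₗ[R] M))
      (fun m => mem_P.mpr ⟨m, rfl⟩)
  have hβ : ∀ m, ((β m : ↥(P f M n)) : M) = f ^ (n + 1) • m := fun m => rfl
  have hle : Tor f M e ≤ LinearMap.ker β := by
    intro x hx
    rw [mem_Tor] at hx
    rw [LinearMap.mem_ker]
    apply Subtype.ext
    rw [hβ, hk, pow_add, mul_comm, mul_smul, hx, smul_zero]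
    rfl
  let γ : (M ⧸ Tor f M e) →ₗ[R] ↥(P f M n) := (Tor f M e).liftQ β hle
  have hγ : ∀ m, γ ((Tor f M e).mkQ m) = β m := fun m => rfl
  have hinj : Function.Injective γ := by
    rw [← LinearMap.ker_eq_bot, eq_bot_iff]
    intro q hq
    obtain ⟨m, rfl⟩ := (Tor f M e).mkQ_surjective q
    rw [LinearMap.mem_ker, hγ] at hq
    have h1 : f ^ (n + 1) • m = 0 := by
      rw [← hβ, hq]; rfl
    rw [hk] at h1
    have h2 := he k m h1
    rw [Submodule.mem_bot]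
    exact (Submodule.Quotient.mk_eq_zero _).mpr (mem_Tor.mpr h2)
  have hsurj : Function.Surjective γ := by
    rintro ⟨p, hp⟩
    obtain ⟨m, rfl⟩ := mem_P.mp hp
    exact ⟨(Tor f M e).mkQ m, Subtype.ext rfl⟩
  exact ⟨LinearEquiv.ofBijective γ ⟨hinj, hsurj⟩, fun m => rfl⟩

theorem incl_alpha {e : ℕ} {n k : ℕ}
    (α : (M ⧸ Tor f M e) ≃ₗ[R] ↥(P f M (n + k)))
    (hα : ∀ m : M, ((α ((Tor f M e).mkQ m) : ↥(P f M (n + k))) : M) = f ^ (n + k + 1) • m)
    (α' : (M ⧸ Tor f M e) ≃ₗ[R] ↥(P f M n))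
    (hα' : ∀ m : M, ((α' ((Tor f M e).mkQ m) : ↥(P f M n)) : M) = f ^ (n + 1) • m)
    (q : M ⧸ Tor f M e) :
    incl f M (Nat.le_add_right n k) (α q) = α'.toLinearMap (f ^ k • q) := by
  obtain ⟨m, rfl⟩ := (Tor f M e).mkQ_surjective q
  apply Subtype.ext
  have h1 : f ^ k • (Tor f M e).mkQ m = (Tor f M e).mkQ (f ^ k • m) := (map_smul _ _ _).symm
  have h2 : ((incl f M (Nat.le_add_right n k) (α ((Tor f M e).mkQ m)) : ↥(P f M n)) : M) =
      ((α ((Tor f M e).mkQ m) : ↥(P f M (n + k))) : M) := Submodule.coe_inclusion _ _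
  have h3 : f ^ (n + k + 1) = f ^ (n + 1) * f ^ k := by
    rw [← pow_add]
    congr 1
    omega
  rw [h2, hα, h1, LinearEquiv.coe_coe, hα', smul_smul, h3]

end Setup

end Groth.Agent.H2.PFSec
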