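import Groth.Agent.Lib.Helper2.PFSecD

/-!
# The key vanishing statements and injectivity (helper2)
-/

set_option autoImplicit false
set_option linter.style.haveILetI false
universe u
open CategoryTheory CategoryTheory.Abelian

namespace Groth.Agent.H2.PFSec

open Groth.Agent.H6 LocCoh

variable {R : Type u} [CommRing R] [IsNoetherianRing R] (I : Ideal R) (f : R)
  (M : Type u) [AddCommGroup M] [Module R M] [Module.Finite R M]

theorem exists_keys (h₁ : ∃ n : ℕ, ∀ x : LocCoh.H I 1 M, f ^ n • x = 0)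
    (h₂ : ∃ n : ℕ, ∀ x : LocCoh.H I 2 M, f ^ n • x = 0) :
    ∃ (e C : ℕ),
      (∀ n, e ≤ n → ∀ x : DT I ↥(P f M (n + C)), ∃ p : ↥(P f M n),
        dmap I (incl f M (Nat.le_add_right n C)) x = toDT I ↥(P f M n) p) ∧
      (∀ n, e ≤ n → ∀ w : LocCoh.H I 2 ↥(P f M (n + C)),
        hmap I 2 (incl f M (Nat.le_add_right n C)) w = 0) := by
  haveI : IsNoetherian R M := isNoetherian_of_isNoetherianRing_of_finite R M
  obtain ⟨e, he⟩ := exists_stable (f := f) (M := M)
  obtain ⟨c1, hc1⟩ := h₁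
  obtain ⟨c2, hc2⟩ := h₂
  obtain ⟨w, hS⟩ := Depth.shortExact_mk (Tor f M e).subtype (Tor f M e).mkQ
    (Submodule.injective_subtype _) (Submodule.mkQ_surjective _) (LinearMap.exact_subtype_mkQ _)
  have hT : ∀ m : ↥(Tor f M e), f ^ e • m = 0 := by
    intro m
    apply Subtype.ext
    rw [Submodule.coe_smul, Submodule.coe_zero]
    exact mem_Tor.mp m.2
  have hb1 : ∀ z : LocCoh.H I 1 (M ⧸ Tor f M e), (f ^ c1 * f ^ e) • z = 0 :=
    smul_H_eq_zero_of_ses _ _ hS (f ^ e) (f ^ c1) 1 hT hc1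
  have hb2 : ∀ z : LocCoh.H I 2 (M ⧸ Tor f M e), (f ^ c2 * f ^ e) • z = 0 :=
    smul_H_eq_zero_of_ses _ _ hS (f ^ e) (f ^ c2) 2 hT hc2
  refine ⟨e, c1 + c2 + e, ?_, ?_⟩
  · intro n hn x
    obtain ⟨α, hα⟩ := exists_alpha (f := f) (M := M) e he (n + (c1 + c2 + e)) (by omega)
    obtain ⟨α', hα'⟩ := exists_alpha (f := f) (M := M) e he n (by omega)
    refine dmap_mem_range_of_factor α α'.toLinearMap _ (f ^ (c1 + c2 + e))
      (incl_alpha α hα α' hα') ?_ x
    intro z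
    have : f ^ (c1 + c2 + e) = f ^ c2 * (f ^ c1 * f ^ e) := by
      rw [← pow_add, ← pow_add]; congr 1; omega
    rw [this, mul_smul, hb1, smul_zero]
  · intro n hn x
    obtain ⟨α, hα⟩ := exists_alpha (f := f) (M := M) e he (n + (c1 + c2 + e)) (by omega)
    obtain ⟨α', hα'⟩ := exists_alpha (f := f) (M := M) e he n (by omega)
    refine hmap_eq_zero_of_factor α α'.toLinearMap _ (f ^ (c1 + c2 + e))
      (incl_alpha α hα α' hα') 2 ?_ x
    intro z
    have : f ^ (c1 + c2 + e) = f ^ c1 * (f ^ c2 * f ^ e) := by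
      rw [← pow_add, ← pow_add]; congr 1; omega
    rw [this, mul_smul, hb2, smul_zero]

theorem core_inj [IsAdicComplete (Ideal.span {f}) R]
    (h₁ : ∃ n : ℕ, ∀ x : LocCoh.H I 1 M, f ^ n • x = 0)
    (h₂ : ∃ n : ℕ, ∀ x : LocCoh.H I 2 M, f ^ n • x = 0) (x : DT I M)
    (hx : ∀ n, dmap I (P f M n).mkQ x = 0) : x = 0 := by
  obtain ⟨e, C, k1, -⟩ := exists_keys I f M h₁ h₂
  have step : ∀ j : ℕ, ∃ m : M, m ∈ P f M (e + j) ∧ x = toDT I M m := by
    intro j
    obtain ⟨y, hy⟩ := exists_dmap_eq_of_dmap_eq_zero (I := I) (P f M (e + j + C)).subtype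
      (P f M (e + j + C)).mkQ (Submodule.injective_subtype _) (LinearMap.exact_subtype_mkQ _) x
      (hx _)
    obtain ⟨p, hp⟩ := k1 (e + j) (Nat.le_add_right e j) y
    refine ⟨(p : M), p.2, ?_⟩
    have hsub : (P f M (e + j + C)).subtype =
        (P f M (e + j)).subtype ∘ₗ incl f M (Nat.le_add_right (e + j) C) :=
      (Submodule.subtype_comp_inclusion _ _ _).symm
    rw [← hy, hsub, dmap_comp, hp, dmap_toDT]
    rfl
  obtain ⟨m0, -, hx0⟩ := step 0
  have hJ : Ideal.span {f} ≤ Ideal.jacobson (⊥ : Ideal R) := IsAdicComplete.le_jacobson_bot _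
  have hK := Ideal.iInf_pow_smul_eq_bot_of_le_jacobson (M := M ⧸ DRing.torsionSub I M)
    (Ideal.span {f}) hJ
  have hmem : (DRing.torsionSub I M).mkQ m0 ∈
      (⨅ i : ℕ, Ideal.span {f} ^ i • ⊤ : Submodule R (M ⧸ DRing.torsionSub I M)) := by
    rw [Submodule.mem_iInf]
    intro i
    obtain ⟨m, hm, hxm⟩ := step i
    have h1 : m0 - m ∈ DRing.torsionSub I M := by
      rw [← DT.ker_toDT, LinearMap.mem_ker, map_sub, ← hx0, ← hxm, sub_self]
    have h2 : (DRing.torsionSub I M).mkQ m0 = (DRing.torsionSub I M).mkQ m := by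
      rw [← sub_eq_zero, ← map_sub]
      exact (Submodule.Quotient.mk_eq_zero _).mpr h1
    rw [h2]
    have h3 : m ∈ (Ideal.span {f} ^ i • ⊤ : Submodule R M) :=
      Submodule.smul_mono_left (Ideal.pow_le_pow_right (by omega)) hm
    have h4 := Submodule.mem_map_of_mem (f := (DRing.torsionSub I M).mkQ) h3
    rw [Submodule.map_smul''] at h4
    exact Submodule.smul_mono le_rfl le_top h4
  rw [hK, Submodule.mem_bot] at hmem
  have h5 : m0 ∈ DRing.torsionSub I M := (Submodule.Quotient.mk_eq_zero _).mp hmem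
  rw [hx0]
  exact (DT.toDT_eq_zero_iff m0).mpr h5

end Groth.Agent.H2.PFSec
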