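import Groth.Agent.Lib.Helper2.PFSecE
import Groth.Agent.Lib.Helper9.ChevMod

/-!
# Surjectivity onto compatible families (helper2)
-/

set_option autoImplicit false
set_option linter.style.haveILetI false
universe u
open CategoryTheory CategoryTheory.Abelian

namespace Groth.Agent.H2.PFSec

open Groth.Agent.H6 LocCoh

section Trans

variable {R : Type u} [CommRing R] (f : R) (M : Type u) [AddCommGroup M] [Module R M]

theorem trans_refl (n : ℕ) : trans f M (le_refl n) = LinearMap.id := by
  apply LinearMap.ext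
  intro q
  obtain ⟨m, rfl⟩ := (P f M n).mkQ_surjective q
  rfl

theorem trans_comp {n m l : ℕ} (h : n ≤ m) (h' : m ≤ l) :
    trans f M (h.trans h') = trans f M h ∘ₗ trans f M h' := by
  apply LinearMap.ext
  intro q
  obtain ⟨x, rfl⟩ := (P f M l).mkQ_surjective q
  rw [LinearMap.comp_apply, Submodule.mkQ_apply, Submodule.mapQ_apply, Submodule.mapQ_apply,
    Submodule.mapQ_apply, LinearMap.id_apply, LinearMap.id_apply]

theorem trans_mkQ {n m : ℕ} (h : n ≤ m) : (P f M n).mkQ = trans f M h ∘ₗ (P f M m).mkQ := by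
  apply LinearMap.ext
  intro x
  rfl

end Trans

variable {R : Type u} [CommRing R] [IsNoetherianRing R] (I : Ideal R) (f : R)
  (M : Type u) [AddCommGroup M] [Module R M]

omit [IsNoetherianRing R] in
theorem compat_of_succ (s : ∀ n, DT I (M ⧸ P f M n))
    (hs : ∀ n, dmap I (trans f M (Nat.le_succ n)) (s (n + 1)) = s n) :
    ∀ (n m : ℕ) (h : n ≤ m), dmap I (trans f M h) (s m) = s n := by
  intro n
  refine Nat.le_induction ?_ ?_
  · rw [trans_refl, dmap_id]
  · intro m h ih
    have : trans f M (Nat.le_succ_of_le h) = trans f M h ∘ₗ trans f M (Nat.le_succ m) :=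
      trans_comp f M h (Nat.le_succ m)
    rw [this, dmap_comp, hs, ih]

/-- the stage-wise lifting: if `H²(P m) → H²(P n)` vanishes then `s n` lifts to `D(M)`. -/
theorem exists_lift_stage (s : ∀ n, DT I (M ⧸ P f M n))
    (hs : ∀ (n m : ℕ) (h : n ≤ m), dmap I (trans f M h) (s m) = s n) {n m : ℕ} (h : n ≤ m)
    (hv : ∀ w : LocCoh.H I 2 ↥(P f M m), hmap I 2 (incl f M h) w = 0) :
    ∃ x : DT I M, dmap I (P f M n).mkQ x = s n := by
  obtain ⟨wn, hSn⟩ := Depth.shortExact_mk (P f M n).subtype (P f M n).mkQ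
    (Submodule.injective_subtype _) (Submodule.mkQ_surjective _) (LinearMap.exact_subtype_mkQ _)
  obtain ⟨wm, hSm⟩ := Depth.shortExact_mk (P f M m).subtype (P f M m).mkQ
    (Submodule.injective_subtype _) (Submodule.mkQ_surjective _) (LinearMap.exact_subtype_mkQ _)
  let φ : ShortComplex.mk (ModuleCat.ofHom (P f M m).subtype) (ModuleCat.ofHom (P f M m).mkQ) wm ⟶
      ShortComplex.mk (ModuleCat.ofHom (P f M n).subtype) (ModuleCat.ofHom (P f M n).mkQ) wn :=
    { τ₁ := ModuleCat.ofHom (incl f M h)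
      τ₂ := 𝟙 _
      τ₃ := ModuleCat.ofHom (trans f M h)
      comm₁₂ := by
        change ModuleCat.ofHom (incl f M h) ≫ ModuleCat.ofHom (P f M n).subtype =
          ModuleCat.ofHom (P f M m).subtype ≫ 𝟙 _
        rw [Category.comp_id, ← ModuleCat.ofHom_comp, Submodule.subtype_comp_inclusion]
      comm₂₃ := by
        change 𝟙 _ ≫ ModuleCat.ofHom (P f M n).mkQ =
          ModuleCat.ofHom (P f M m).mkQ ≫ ModuleCat.ofHom (trans f M h)
        rw [Category.id_comp, ← ModuleCat.ofHom_comp, ← trans_mkQ] }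
  have hnat := δ_naturality (I := I) hSm hSn φ 1 (LC.dtToH1 I _ (s m))
  have h1 : ((localCohomology I 1).map φ.τ₃).hom (LC.dtToH1 I _ (s m)) =
      LC.dtToH1 I _ (s n) := by
    rw [← hs n m h]
    exact (dtToH1_naturality (trans f M h) (s m)).symm
  rw [h1] at hnat
  have h0 : LC.δ hSn I 1 (LC.dtToH1 I _ (s n)) = 0 := by
    rw [hnat]
    exact hv _
  exact exists_dmap_eq_of_δ_eq_zero _ _ hSn (Submodule.mkQ_surjective _) (s n) h0

end Groth.Agent.H2.PFSec
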