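import Groth.Agent.Lib.Helper2.PFSecF

/-!
# Surjectivity onto compatible families: the summation argument (helper2)
-/

set_option autoImplicit false
set_option linter.style.haveILetI false
universe u
open CategoryTheory CategoryTheory.Abelian

namespace Groth.Agent.H2.PFSec

open Groth.Agent.H6 LocCoh

variable {R : Type u} [CommRing R] [IsNoetherianRing R] (I : Ideal R) (f : R)
  (M : Type u) [AddCommGroup M] [Module R M] [Module.Finite R M]

theorem core_surj [IsAdicComplete (Ideal.span {f}) R]
    (h₁ : ∃ n : ℕ, ∀ x : LocCoh.H I 1 M, f ^ n • x = 0)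
    (h₂ : ∃ n : ℕ, ∀ x : LocCoh.H I 2 M, f ^ n • x = 0)
    (s : ∀ n, DT I (M ⧸ P f M n))
    (hs : ∀ n, dmap I (trans f M (Nat.le_succ n)) (s (n + 1)) = s n) :
    ∃ x : DT I M, ∀ n, dmap I (P f M n).mkQ x = s n := by
  obtain ⟨e, C, k1, k2⟩ := exists_keys I f M h₁ h₂
  have hs' := compat_of_succ I f M s hs
  -- stage-wise lifts
  have hlift : ∀ n, ∃ x : DT I M, e ≤ n → dmap I (P f M n).mkQ x = s n := by
    intro n
    by_cases hn : e ≤ n
    · obtain ⟨x, hx⟩ := exists_lift_stage I f M s hs' (Nat.le_add_right n C) (k2 n hn)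
      exact ⟨x, fun _ => hx⟩
    · exact ⟨0, fun h => absurd h hn⟩
  choose x hx using hlift
  -- push down
  have hdown : ∀ (n m : ℕ) (h : n ≤ m) (z : DT I M), dmap I (P f M m).mkQ z = s m →
      dmap I (P f M n).mkQ z = s n := by
    intro n m h z hz
    rw [trans_mkQ f M h, dmap_comp, hz, hs' n m h]
  -- differences
  have hdiff : ∀ j : ℕ, ∃ d : M, d ∈ P f M (e + j) ∧
      x (e + j + C + 1) - x (e + j + C) = toDT I M d := by
    intro j
    have hz : dmap I (P f M (e + j + C)).mkQ (x (e + j + C + 1) - x (e + j + C)) = 0 := by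
      rw [map_sub, hx (e + j + C) (by omega),
        hdown (e + j + C) (e + j + C + 1) (Nat.le_succ _) _ (hx (e + j + C + 1) (by omega)),
        sub_self]
    obtain ⟨y, hy⟩ := exists_dmap_eq_of_dmap_eq_zero (I := I) (P f M (e + j + C)).subtype
      (P f M (e + j + C)).mkQ (Submodule.injective_subtype _) (LinearMap.exact_subtype_mkQ _) _ hz
    obtain ⟨p, hp⟩ := k1 (e + j) (Nat.le_add_right e j) y
    refine ⟨(p : M), p.2, ?_⟩
    have hsub : (P f M (e + j + C)).subtype =
        (P f M (e + j)).subtype ∘ₗ incl f M (Nat.le_add_right (e + j) C) :=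
      (Submodule.subtype_comp_inclusion _ _ _).symm
    rw [← hy, hsub, dmap_comp, hp, dmap_toDT]
    rfl
  choose d hd using hdiff
  -- partial sums
  let S : ℕ → M := fun j => ∑ i ∈ Finset.range j, d i
  have hS_succ : ∀ j, S (j + 1) = S j + d j := fun j => Finset.sum_range_succ _ _
  have hA : ∀ j, x (e + j + C) = x (e + 0 + C) + toDT I M (S j) := by
    intro j
    induction j with
    | zero =>
      have : S 0 = 0 := Finset.sum_range_zero _
      rw [this, map_zero]
      exact (add_zero _).symm
    | succ j ih =>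
      have h1 : x (e + (j + 1) + C) = x (e + j + C + 1) := congrArg x (by omega)
      have h2 : x (e + j + C + 1) = x (e + j + C) + toDT I M (d j) := by
        rw [← (hd j).2]; abel
      rw [h1, h2, ih, hS_succ, map_add, add_assoc]
  have hB : ∀ (j N : ℕ), j ≤ N → S N - S j ∈ P f M (e + j) := by
    intro j
    refine Nat.le_induction ?_ ?_
    · rw [sub_self]; exact Submodule.zero_mem _
    · intro N hN ih
      have : S (N + 1) - S j = (S N - S j) + d N := by rw [hS_succ]; abel
      rw [this]
      exact Submodule.add_mem _ ih (P_anti (by omega) (hd N).1)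
  haveI : IsAdicComplete (Ideal.span {f}) M :=
    Groth.Agent.H9.ChevMod.isAdicComplete_of_finite R (Ideal.span {f}) M
  have hcauchy : ∀ {m n : ℕ}, m ≤ n →
      S m ≡ S n [SMOD (Ideal.span {f} ^ m • ⊤ : Submodule R M)] := by
    intro m n hmn
    rw [SModEq.comm, SModEq.sub_mem]
    have h1 := hB m n hmn
    exact Submodule.smul_mono_left (Ideal.pow_le_pow_right (by omega)) h1
  obtain ⟨L, hL⟩ := IsPrecomplete.prec (I := Ideal.span {f}) (M := M) inferInstance hcauchy
  have hC : ∀ j, L - S j ∈ P f M (e + j) := by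
    intro j
    have h1 : S (e + j + 1) - L ∈ (Ideal.span {f} ^ (e + j + 1) • ⊤ : Submodule R M) :=
      SModEq.sub_mem.mp (hL (e + j + 1))
    have h2 : S (e + j + 1) - S j ∈ P f M (e + j) := hB j (e + j + 1) (by omega)
    have h3 : L - S j = (S (e + j + 1) - S j) - (S (e + j + 1) - L) := by abel
    rw [h3]
    exact Submodule.sub_mem _ h2 h1
  refine ⟨x (e + 0 + C) + toDT I M L, ?_⟩
  have hmain : ∀ j, dmap I (P f M (e + j)).mkQ (x (e + 0 + C) + toDT I M L) = s (e + j) := by
    intro j
    have h1 : x (e + 0 + C) + toDT I M L = x (e + j + C) + toDT I M (L - S j) := by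
      rw [hA j, map_sub]; abel
    have h2 : dmap I (P f M (e + j)).mkQ (toDT I M (L - S j)) = 0 := by
      rw [dmap_toDT]
      have : (P f M (e + j)).mkQ (L - S j) = 0 := (Submodule.Quotient.mk_eq_zero _).mpr (hC j)
      rw [this, map_zero]
    rw [h1, map_add, h2, add_zero]
    exact hdown (e + j) (e + j + C) (Nat.le_add_right _ _) _ (hx (e + j + C) (by omega))
  intro n
  have h1 : n ≤ e + n := Nat.le_add_left n e
  exact hdown n (e + n) h1 _ (hmain n)

end Groth.Agent.H2.PFSec
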