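import Groth.Agent.Lib.Helper2.PFSecG
import Groth.Agent.Lib.Helper1.PunctGlue
import Groth.Agent.Lib.Helper6.TildePunct2

/-!
# Sections over the punctured spectrum and the ideal transform (helper2)
-/

set_option autoImplicit false
set_option linter.style.haveILetI false
universe u
open CategoryTheory AlgebraicGeometry TopologicalSpace Opposite

namespace Groth.Agent.H2.PFSec

open Groth.Agent.H6 LocCoh Groth.Agent.H6.TildePunct

variable (A : Type u) [CommRing A] (I : Ideal A)

section Defs

variable (N N' : Type u) [AddCommGroup N] [Module A N] [AddCommGroup N'] [Module A N']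

/-- sections of `N~` over the punctured spectrum -/
abbrev TS : Type u := TSec A N (LocCoh.puncturedOpen A I)

/-- `N → Γ(U, N~)` -/
noncomputable def η : N →ₗ[A] TS A I N :=
  (tilde.toOpen (R := CommRingCat.of A) (ModuleCat.of A N) (LocCoh.puncturedOpen A I)).hom

variable {N N'}

/-- functoriality of sections -/
noncomputable def tmap (φ : N →ₗ[A] N') : TS A I N →ₗ[A] TS A I N' :=
  ((modulesSpecToSheaf.map (tilde.map (R := CommRingCat.of A) (ModuleCat.ofHom φ))).1.app
    (op (LocCoh.puncturedOpen A I))).hom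

theorem tmap_η (φ : N →ₗ[A] N') (n : N) : tmap A I φ (η A I N n) = η A I N' (φ n) := by
  have h := tilde.toOpen_map_app (R := CommRingCat.of A) (ModuleCat.ofHom φ)
    (LocCoh.puncturedOpen A I)
  exact congrArg (fun ψ => ψ.hom n) h

theorem tmap_comp_η (φ : N →ₗ[A] N') : tmap A I φ ∘ₗ η A I N = η A I N' ∘ₗ φ :=
  LinearMap.ext (tmap_η A I φ)

end Defs

variable [IsNoetherianRing A] (N N' : Type u) [AddCommGroup N] [Module A N]
  [AddCommGroup N'] [Module A N']

theorem dmap_η_bijective : Function.Bijective (dmap I (η A I N)) := by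
  apply DT.map_bijective
  · intro x hx
    have h1 : x ∈ LinearMap.ker (tilde.toOpen (R := CommRingCat.of A) (ModuleCat.of A N)
        (LocCoh.puncturedOpen A I)).hom := hx
    rw [main1, mem_iSup_torsionBy_iff] at h1
    exact h1
  · exact main3 (M := N) I

theorem toDT_TS_bijective : Function.Bijective (toDT I (TS A I N)) := by
  have hb := Groth.Agent.H1.PunctAff.toDT_sec_bijective (M := N) (isPunct I)
  let e := eSec A N (LocCoh.puncturedOpen A I)
  have hnat := fun t => DT.toDT_naturality (I := I) e.toLinearMap t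
  have hinj : Function.Injective (dmap I e.toLinearMap) := dmap_injective _ e.injective
  constructor
  · rw [injective_iff_map_eq_zero]
    intro t ht
    have h1 := hnat t
    rw [ht, map_zero] at h1
    have h2 : e t = 0 := hb.1 (by rw [map_zero]; exact h1.symm)
    exact (LinearEquiv.map_eq_zero_iff e).mp h2
  · intro y
    obtain ⟨s, hs⟩ := hb.2 (dmap I e.toLinearMap y)
    obtain ⟨t, rfl⟩ := e.surjective s
    refine ⟨t, hinj ?_⟩
    rw [← hs]
    exact hnat t

/-- the comparison `Γ(U, N~) ≃ D_I(N)` -/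
noncomputable def Θ : TS A I N ≃ DT I N :=
  (Equiv.ofBijective _ (toDT_TS_bijective A I N)).trans
    (Equiv.ofBijective _ (dmap_η_bijective A I N)).symm

theorem dmap_η_Θ (t : TS A I N) : dmap I (η A I N) (Θ A I N t) = toDT I (TS A I N) t := by
  change dmap I (η A I N) ((Equiv.ofBijective _ (dmap_η_bijective A I N)).symm _) = _
  exact Equiv.ofBijective_apply_symm_apply _ _ _

variable {N N'}

theorem Θ_tmap (φ : N →ₗ[A] N') (t : TS A I N) :
    Θ A I N' (tmap A I φ t) = dmap I φ (Θ A I N t) := by
  apply (dmap_η_bijective A I N').1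
  rw [dmap_η_Θ, ← dmap_comp, ← tmap_comp_η, dmap_comp, dmap_η_Θ, dmap_toDT]

theorem Θ_sub (t t' : TS A I N) : Θ A I N (t - t') = Θ A I N t - Θ A I N t' := by
  apply (dmap_η_bijective A I N).1
  rw [dmap_η_Θ, (dmap I (η A I N)).map_sub, dmap_η_Θ, dmap_η_Θ, (toDT I (TS A I N)).map_sub]

theorem Θ_zero : Θ A I N 0 = 0 := by
  apply (dmap_η_bijective A I N).1
  rw [dmap_η_Θ, (dmap I (η A I N)).map_zero, (toDT I (TS A I N)).map_zero]

end Groth.Agent.H2.PFSec
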