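import Groth.Agent.Lib.Helper2.PFSecH
import Groth.Agent.Lib.Lead.SC.Shift
import Groth.Prelude.Def_Formal2

/-!
# Sections-level statement and the bridge to `Formal2.HV` (helper2)
-/

set_option autoImplicit false
set_option linter.style.haveILetI false
universe u
open CategoryTheory AlgebraicGeometry TopologicalSpace Opposite

namespace Groth.Agent.H2.PFSec

open Groth.Agent.H6 LocCoh Groth.Agent.H6.TildePunct

section Sec

variable (A : Type u) [CommRing A] [IsNoetherianRing A] (I : Ideal A) (f : A)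
  (M : Type u) [AddCommGroup M] [Module A M] [Module.Finite A M]

theorem sec_inj [IsAdicComplete (Ideal.span {f}) A]
    (h₁ : ∃ n : ℕ, ∀ x : LocCoh.H I 1 M, f ^ n • x = 0)
    (h₂ : ∃ n : ℕ, ∀ x : LocCoh.H I 2 M, f ^ n • x = 0) (t : TS A I M)
    (ht : ∀ n, tmap A I (P f M n).mkQ t = 0) : t = 0 := by
  have h0 : Θ A I M t = 0 := by
    apply core_inj I f M h₁ h₂
    intro n
    rw [← Θ_tmap, ht, Θ_zero]
  apply (Θ A I M).injective
  rw [h0, Θ_zero]

theorem sec_surj [IsAdicComplete (Ideal.span {f}) A]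
    (h₁ : ∃ n : ℕ, ∀ x : LocCoh.H I 1 M, f ^ n • x = 0)
    (h₂ : ∃ n : ℕ, ∀ x : LocCoh.H I 2 M, f ^ n • x = 0)
    (t : ∀ n, TS A I (M ⧸ P f M n))
    (ht : ∀ n, tmap A I (trans f M (Nat.le_succ n)) (t (n + 1)) = t n) :
    ∃ x : TS A I M, ∀ n, tmap A I (P f M n).mkQ x = t n := by
  obtain ⟨x, hx⟩ := core_surj I f M h₁ h₂ (fun n => Θ A I _ (t n)) (by
    intro n
    rw [← Θ_tmap, ht])
  refine ⟨(Θ A I M).symm x, fun n => ?_⟩
  apply (Θ A I _).injective
  rw [Θ_tmap, Equiv.apply_symm_apply]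
  exact hx n

end Sec

section Bridge

variable (A : Type u) [CommRing A] (I : Ideal A)
  (N N' : Type u) [AddCommGroup N] [Module A N] [AddCommGroup N'] [Module A N']

/-- `H⁰(U, N~) ≃ Γ(U, N~)` -/
noncomputable def hv : Formal2.HV A N 0 (LocCoh.puncturedOpen A I) ≃+ TS A I N :=
  Groth.Agent.LD.SC.H0Equiv (LocCoh.puncturedOpen A I) (Coh.toAb (Formal2.tmod A N))

variable {N N'}

theorem hv_map (φ : N →ₗ[A] N') (x : Formal2.HV A N 0 (LocCoh.puncturedOpen A I)) :
    hv A I N' (Formal2.HVmap A φ 0 (LocCoh.puncturedOpen A I) x) = tmap A I φ (hv A I N x) :=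
  Groth.Agent.LD.SC.H0Equiv_comp (LocCoh.puncturedOpen A I) x
    ((SheafOfModules.toSheaf _).map (Formal2.tmodMap A φ))

end Bridge

end Groth.Agent.H2.PFSec
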