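import Groth.Agent.Lib.Helper2.PFSecJ
import Groth.Agent.Lib.Helper2.NFSecC

/-!
# Formal sections of the structure sheaf of a punctured spectrum, principal ideal (helper2)
-/

set_option autoImplicit false
set_option linter.style.haveILetI false
universe u
open CategoryTheory Limits Opposite TopologicalSpace AlgebraicGeometry

noncomputable section

namespace Groth.Agent.H2.PFSec

open Groth.Agent.H2.FormalQ Groth.Agent.H2.AlgzAff Groth.Agent.H2.AlgzExt
  Groth.Agent.H6.TildePunct Groth.Agent.H2.GW Groth.Agent.H2.NFSec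

variable (A : Type u) [CommRing A] (U : (Spec (CommRingCat.of A)).Opens) (f : A)

attribute [local instance 2000] idOver

/-- the quotient map `A → A ⧸ f^(n+1) A` -/
def qP (n : ℕ) : ModuleCat.of A A ⟶ ModuleCat.of A (A ⧸ P f A n) :=
  ModuleCat.ofHom (P f A n).mkQ

/-- the transition `A ⧸ f^(n+2) A → A ⧸ f^(n+1) A` -/
def qT (n : ℕ) : ModuleCat.of A (A ⧸ P f A (n + 1)) ⟶ ModuleCat.of A (A ⧸ P f A n) :=
  ModuleCat.ofHom (trans f A (Nat.le_succ n))

lemma qP_qT (n : ℕ) : qP A f (n + 1) ≫ qT A f n = qP A f n := by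
  rw [qP, qT, ← ModuleCat.ofHom_comp, ← trans_mkQ]
  rfl

/-- the map `O_U → (A ⧸ f^(n+1))~|_U` -/
def pP (n : ℕ) : Coh.structureModule (U : Scheme.{u}) ⟶ T A U (ModuleCat.of A (A ⧸ P f A n)) :=
  (θ A U).hom ≫ (Scheme.Modules.restrictFunctor U.ι).map
    ((tilde.functor (CommRingCat.of A)).map (qP A f n))

lemma isQ_pP (n : ℕ) : IsQ (X := ↑U) (Ideal.span {f} ^ (n + 1)) (pP A U f n) := by
  have h1 : IsQ (Ideal.span {f} ^ (n + 1)) ((tilde.functor (CommRingCat.of A)).map (qP A f n)) := by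
    apply isQ_tilde_map
    · exact Submodule.mkQ_surjective _
    · change LinearMap.ker (Submodule.mkQ (P f A n)) = _
      rw [Submodule.ker_mkQ]
  exact isQ_iso_comp _ (isQ_restrict' A U (Ideal.span {f} ^ (n + 1)) h1)

/-- `O_U / f^(n+1) O_U ≅ (A ⧸ f^(n+1))~|_U` -/
def eP (n : ℕ) : Formal.modPow (Ideal.span {f}) (n + 1) (Coh.structureModule (U : Scheme.{u})) ≅
    T A U (ModuleCat.of A (A ⧸ P f A n)) :=
  isoOfIsQ (Ideal.span {f}) (n + 1) (pP A U f n) (isQ_pP A U f n)

lemma modPowπ_eP (n : ℕ) :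
    Formal.modPowπ (Ideal.span {f}) (n + 1) (Coh.structureModule (U : Scheme.{u})) ≫
      (eP A U f n).hom = pP A U f n :=
  modPowπ_isoOfIsQ_hom _ _ _ _

lemma pP_trans (n : ℕ) : pP A U f (n + 1) ≫ (Scheme.Modules.restrictFunctor U.ι).map
    ((tilde.functor (CommRingCat.of A)).map (qT A f n)) = pP A U f n := by
  rw [pP, Category.assoc, ← Functor.map_comp, ← Functor.map_comp, qP_qT]
  rfl

lemma modPowTrans_eP (n : ℕ) :
    Formal.modPowTrans (Ideal.span {f}) (n + 1) (Coh.structureModule (U : Scheme.{u})) ≫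
      (eP A U f n).hom = (eP A U f (n + 1)).hom ≫ (Scheme.Modules.restrictFunctor U.ι).map
        ((tilde.functor (CommRingCat.of A)).map (qT A f n)) := by
  haveI : Epi (Formal.modPowπ (Ideal.span {f}) (n + 1 + 1)
      (Coh.structureModule (U : Scheme.{u}))) := (isQ_modPowπ _ _ _).epi
  rw [← cancel_epi (Formal.modPowπ (Ideal.span {f}) (n + 1 + 1)
    (Coh.structureModule (U : Scheme.{u}))), ← Category.assoc, Formal.modPowπ_trans,
    ← Category.assoc, modPowπ_eP, modPowπ_eP, pP_trans]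

end Groth.Agent.H2.PFSec
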