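import Groth.Agent.Lib.Helper2.PFSecK

/-!
# Formal sections of finite locally free modules on a punctured spectrum, principal ideal (helper2)
-/

set_option autoImplicit false
set_option linter.style.haveILetI false
universe u
open CategoryTheory Limits Opposite TopologicalSpace AlgebraicGeometry

noncomputable section

namespace Groth.Agent.H2.PFSec

open Groth.Agent.H2.FormalQ Groth.Agent.H2.AlgzAff Groth.Agent.H2.AlgzExt
  Groth.Agent.H6.TildePunct Groth.Agent.H2.GW Groth.Agent.H2.NFSec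

variable (A : Type u) [CommRing A] [IsNoetherianRing A] (U : (Spec (CommRingCat.of A)).Opens)
  (I : Ideal A) (f : A) [IsAdicComplete (Ideal.span {f}) A]

attribute [local instance 2000] idOver

omit [IsNoetherianRing A] in
lemma isPunct_image (hU : IsPunct I (cv U)) : IsPunct I (cv (U.ι ''ᵁ ⊤)) := by
  rw [Scheme.Opens.ι_image_top]
  exact hU

omit [IsNoetherianRing A] [IsAdicComplete (Ideal.span {f}) A] in
/-- `(e n) ∘ π_{n+1} = tmap (mkQ) ∘ θ` on global sections -/
lemma eP_app (n : ℕ) (s : Γ(Coh.structureModule (U : Scheme.{u}), ⊤)) :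
    (eP A U f n).hom.app ⊤ ((Formal.modPowπ (Ideal.span {f}) (n + 1)
      (Coh.structureModule (U : Scheme.{u}))).app ⊤ s) =
      tmapW A (U.ι ''ᵁ ⊤) (P f A n).mkQ ((θ A U).hom.app ⊤ s) := by
  have h := congrArg (fun φ => (Scheme.Modules.Hom.app φ ⊤) s) (modPowπ_eP A U f n)
  exact h

omit [IsNoetherianRing A] [IsAdicComplete (Ideal.span {f}) A] in
lemma eP_trans_app (n : ℕ)
    (x : Γ(Formal.modPow (Ideal.span {f}) (n + 1 + 1) (Coh.structureModule (U : Scheme.{u})), ⊤)) :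
    (eP A U f n).hom.app ⊤ ((Formal.modPowTrans (Ideal.span {f}) (n + 1)
      (Coh.structureModule (U : Scheme.{u}))).app ⊤ x) =
      tmapW A (U.ι ''ᵁ ⊤) (trans f A (Nat.le_succ n)) ((eP A U f (n + 1)).hom.app ⊤ x) := by
  have h := congrArg (fun φ => (Scheme.Modules.Hom.app φ ⊤) x) (modPowTrans_eP A U f n)
  exact h

theorem secUniq_structure' (hU : IsPunct I (cv U))
    (h₁ : ∃ n : ℕ, ∀ x : LocCoh.H I 1 A, f ^ n • x = 0)
    (h₂ : ∃ n : ℕ, ∀ x : LocCoh.H I 2 A, f ^ n • x = 0) :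
    SecUniq (Ideal.span {f}) (Coh.structureModule (U : Scheme.{u})) := by
  intro s s' h
  have hW := isPunct_image A U I hU
  let t : TSec A A (U.ι ''ᵁ ⊤) := (θ A U).hom.app ⊤ s
  let t' : TSec A A (U.ι ''ᵁ ⊤) := (θ A U).hom.app ⊤ s'
  have h0 : t - t' = 0 := by
    apply secW_inj A I (U.ι ''ᵁ ⊤) hW f A h₁ h₂
    intro n
    have e1 : _ = tmapW A (U.ι ''ᵁ ⊤) (P f A n).mkQ t := eP_app A U f n s
    have e2 : _ = tmapW A (U.ι ''ᵁ ⊤) (P f A n).mkQ t' := eP_app A U f n s'
    rw [h n] at e1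
    rw [(tmapW A (U.ι ''ᵁ ⊤) (P f A n).mkQ).map_sub, ← e1, ← e2, sub_self]
  have h1 : t = t' := sub_eq_zero.mp h0
  exact (app_hom_bijective (θ A U) ⊤).1 h1

theorem secEx_structure' (hU : IsPunct I (cv U))
    (h₁ : ∃ n : ℕ, ∀ x : LocCoh.H I 1 A, f ^ n • x = 0)
    (h₂ : ∃ n : ℕ, ∀ x : LocCoh.H I 2 A, f ^ n • x = 0) :
    SecEx (Ideal.span {f}) (Coh.structureModule (U : Scheme.{u})) := by
  intro x hx
  have hW := isPunct_image A U I hU
  obtain ⟨y, hy⟩ := secW_surj A I (U.ι ''ᵁ ⊤) hW f A h₁ h₂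
    (fun n => (eP A U f n).hom.app ⊤ (x n)) (by
      intro n
      rw [← eP_trans_app, hx n])
  refine ⟨(θ A U).inv.app ⊤ y, fun n => ?_⟩
  apply (app_hom_bijective (eP A U f n) ⊤).1
  rw [eP_app, app_inv_hom]
  exact hy n

/-- formal sections of the structure sheaf on a punctured spectrum. -/
theorem toHHlim_bijective_structure' (hU : IsPunct I (cv U))
    (h₁ : ∃ n : ℕ, ∀ x : LocCoh.H I 1 A, f ^ n • x = 0)
    (h₂ : ∃ n : ℕ, ∀ x : LocCoh.H I 2 A, f ^ n • x = 0) :
    Function.Bijective (Formal.toHHlim (Ideal.span {f})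
      (Coh.structureModule (U : Scheme.{u})) 0) :=
  toHHlim_bijective_of_sections _ _ (secUniq_structure' A U I f hU h₁ h₂)
    (secEx_structure' A U I f hU h₁ h₂)

/-- formal sections of finite locally free modules on a punctured spectrum. -/
theorem toHHlim_bijective_finLocFree'' (hU : IsPunct I (cv U))
    (h₁ : ∃ n : ℕ, ∀ x : LocCoh.H I 1 A, f ^ n • x = 0)
    (h₂ : ∃ n : ℕ, ∀ x : LocCoh.H I 2 A, f ^ n • x = 0)
    (F : (U : Scheme.{u}).Modules) (hF : FlatMod.IsFinLocFree F) :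
    Function.Bijective (Formal.toHHlim (Ideal.span {f}) F 0) := by
  haveI : IsLocallyNoetherian (U : Scheme.{u}) := isLocallyNoetherian_of_isOpenImmersion U.ι
  haveI : CompactSpace (U : Scheme.{u}) := by
    haveI : TopologicalSpace.NoetherianSpace (PrimeSpectrum A) := inferInstance
    exact isCompact_iff_compactSpace.mp
      (TopologicalSpace.NoetherianSpace.isCompact (α := PrimeSpectrum A) U.1)
  haveI : AlgebraicGeometry.IsNoetherian (U : Scheme.{u}) := {}
  haveI : (U : Scheme.{u}).IsQuasiAffine := Scheme.IsQuasiAffine.of_isImmersion U.ι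
  exact toHHlim_bijective_finLocFree _ (toHHlim_bijective_structure' A U I f hU h₁ h₂) F hF

end Groth.Agent.H2.PFSec
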