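import Mathlib

/-!
# Finite purely inseparable extensions are towers of degree-`p` steps
-/

set_option autoImplicit false
universe u

namespace Groth.Agent.H2.PInsepTower
open IntermediateField Module

/-- existence of an element `y ∉ F` with `y ^ p ∈ F` -/
theorem exists_pow_mem {F E : Type u} [Field F] [Field E] [Algebra F E] (p : ℕ) [Fact p.Prime]
    [CharP F p] [IsPurelyInseparable F E] (x : E) (hx : x ∉ (algebraMap F E).range) :
    ∃ y : E, y ∉ (algebraMap F E).range ∧ y ^ p ∈ (algebraMap F E).range := by
  classical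
  haveI : ExpChar F p := ExpChar.prime (Fact.out : p.Prime)
  have h := IsPurelyInseparable.pow_mem F p x
  have hm0 : Nat.find h ≠ 0 := by
    intro h0
    have := Nat.find_spec h
    rw [h0, pow_zero, pow_one] at this
    exact hx this
  obtain ⟨m, hm⟩ := Nat.exists_eq_succ_of_ne_zero hm0
  refine ⟨x ^ p ^ m, ?_, ?_⟩
  · exact Nat.find_min h (by rw [hm]; exact Nat.lt_succ_self m)
  · have := Nat.find_spec h
    rwa [hm, pow_succ, pow_mul] at this

theorem finrank_adjoin_eq {F E : Type u} [Field F] [Field E] [Algebra F E] (p : ℕ) [Fact p.Prime]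
    [CharP F p] [FiniteDimensional F E] [IsPurelyInseparable F E] (y : E)
    (hy : y ∉ (algebraMap F E).range) (hyp : y ^ p ∈ (algebraMap F E).range) :
    finrank F F⟮y⟯ = p := by
  haveI : ExpChar F p := ExpChar.prime (Fact.out : p.Prime)
  have hint : IsIntegral F y := Algebra.IsIntegral.isIntegral y
  rw [adjoin.finrank hint]
  obtain ⟨n, c, hmin⟩ := IsPurelyInseparable.minpoly_eq_X_pow_sub_C F p y
  obtain ⟨c', hc'⟩ := hyp
  have hdvd : minpoly F y ∣ Polynomial.X ^ p - Polynomial.C c' := by
    apply minpoly.dvd
    simp [hc']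
  have hdeg : (minpoly F y).natDegree = p ^ n := by
    rw [hmin, Polynomial.natDegree_X_pow_sub_C]
  have hp1 : 1 < p := (Fact.out : p.Prime).one_lt
  have hle : p ^ n ≤ p := by
    rw [← hdeg]
    have := Polynomial.natDegree_le_of_dvd hdvd
      (Polynomial.X_pow_sub_C_ne_zero (Fact.out : p.Prime).pos c')
    rwa [Polynomial.natDegree_X_pow_sub_C] at this
  have hn1 : n ≤ 1 := by
    by_contra hcon
    push Not at hcon
    have : p ^ 2 ≤ p ^ n := Nat.pow_le_pow_right (by omega) hcon
    nlinarith
  rcases Nat.le_one_iff_eq_zero_or_eq_one.1 hn1 with h0 | h1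
  · exfalso
    rw [h0, pow_zero] at hdeg
    exact hy (minpoly.natDegree_eq_one_iff.1 hdeg)
  · rw [hdeg, h1, pow_one]

theorem main (p : ℕ) [Fact p.Prime] : ∀ (d : ℕ) (F E : Type u) [Field F] [Field E] [Algebra F E]
    [CharP F p] [FiniteDimensional F E] [IsPurelyInseparable F E], finrank F E = d →
    ∃ (n : ℕ) (a : Fin n → E), adjoin F (Set.range a) = ⊤ ∧
      (∀ i : Fin n, a i ^ p ∈ adjoin F (a '' {j | j < i}) ∧ a i ∉ adjoin F (a '' {j | j < i})) ∧
      finrank F E = p ^ n := by
  intro d
  induction d using Nat.strong_induction_on with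
  | _ d ih =>
    intro F E _ _ _ _ _ _ hd
    by_cases htop : (⊥ : IntermediateField F E) = ⊤
    · refine ⟨0, Fin.elim0, ?_, fun i => i.elim0, ?_⟩
      · rw [← htop]
        simp
      · rw [pow_zero, ← IntermediateField.finrank_top', ← htop, IntermediateField.finrank_bot]
    · obtain ⟨x, hx⟩ : ∃ x : E, x ∉ (algebraMap F E).range := by
        by_contra hcon
        push Not at hcon
        apply htop
        rw [eq_top_iff]
        intro z _
        rw [IntermediateField.mem_bot]
        exact hcon z
      obtain ⟨y, hy, hyp⟩ := exists_pow_mem p x hx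
      have hF' : finrank F F⟮y⟯ = p := finrank_adjoin_eq p y hy hyp
      have hmul : finrank F F⟮y⟯ * finrank F⟮y⟯ E = finrank F E := Module.finrank_mul_finrank F F⟮y⟯ E
      have hpos : 0 < finrank F⟮y⟯ E := Module.finrank_pos
      have hp1 : 1 < p := (Fact.out : p.Prime).one_lt
      have hlt : finrank F⟮y⟯ E < d := by
        rw [← hd, ← hmul, hF']
        nlinarith
      haveI : IsPurelyInseparable F⟮y⟯ E := IsPurelyInseparable.tower_top F F⟮y⟯ E
      haveI : CharP F⟮y⟯ p := IntermediateField.charP _ p
      obtain ⟨n, a, ha1, ha2, ha3⟩ := ih _ hlt F⟮y⟯ E rfl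
      have himg : ∀ j : Fin n, (Fin.cons y a : Fin (n + 1) → E) '' {k | k < j.succ} =
          {y} ∪ a '' {k | k < j} := by
        intro j
        ext z
        constructor
        · rintro ⟨k, hk, rfl⟩
          rcases Fin.eq_zero_or_eq_succ k with rfl | ⟨k', rfl⟩
          · left
            simp
          · right
            exact ⟨k', by simpa using hk, by simp⟩
        · rintro (hz | ⟨k, hk, rfl⟩)
          · rw [Set.mem_singleton_iff] at hz
            subst hz
            exact ⟨0, by simp [Fin.succ_pos], by simp⟩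
          · exact ⟨k.succ, by simpa using hk, by simp⟩
      have hrange : Set.range (Fin.cons y a : Fin (n + 1) → E) = {y} ∪ Set.range a := by
        ext z
        constructor
        · rintro ⟨k, rfl⟩
          rcases Fin.eq_zero_or_eq_succ k with rfl | ⟨k', rfl⟩
          · left; simp
          · right; exact ⟨k', by simp⟩
        · rintro (hz | ⟨k, rfl⟩)
          · rw [Set.mem_singleton_iff] at hz
            subst hz
            exact ⟨0, by simp⟩
          · exact ⟨k.succ, by simp⟩
      refine ⟨n + 1, Fin.cons y a, ?_, ?_, ?_⟩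
      · rw [hrange, ← adjoin_adjoin_left, ha1]
        rfl
      · intro i
        rcases Fin.eq_zero_or_eq_succ i with rfl | ⟨j, rfl⟩
        · have h0 : (Fin.cons y a : Fin (n + 1) → E) '' {k | k < 0} = ∅ := by
            ext z
            simp
          rw [h0, Fin.cons_zero, adjoin_empty]
          refine ⟨?_, ?_⟩
          · rw [IntermediateField.mem_bot]
            obtain ⟨c, hc⟩ := hyp
            exact ⟨c, hc⟩
          · rw [IntermediateField.mem_bot]
            rintro ⟨c, hc⟩
            exact hy ⟨c, hc⟩
        · rw [himg j, Fin.cons_succ, ← adjoin_adjoin_left]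
          exact ha2 j
      · rw [← hmul, hF', ha3, pow_succ']

end Groth.Agent.H2.PInsepTower
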