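import Groth.Agent.Lib.Helper2.JacobsonAssoc
import Groth.Agent.Lib.Lead.PLie

/-!
# `p`-mappings from associative embeddings

* `iterate_ad_p`: `(ad c)^p d = c^p d - d c^p` in a ring with `p = 0`.
* `exists_pmap_of_assoc`: Strade–Farnsteiner style construction of a `p`-mapping on `L` from an
  injective bracket-preserving linear map `e : L → A` into an associative algebra together with a
  `p`-semilinear correction `g` commuting with `e L` such that `e x ^ p - g x ∈ e L` on a spanning set.
-/

set_option autoImplicit false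
universe u v w

namespace Groth.Agent.H2.PLieAssoc
open PLie

attribute [local instance] LieRing.ofAssociativeRing

section iter
variable {B : Type v} [Ring B] (p : ℕ) [hp : Fact p.Prime] (hpB : (p : B) = 0)
include hpB

theorem iterate_ad_p (c d : B) :
    (fun z => c * z - z * c)^[p] d = c ^ p * d - d * c ^ p := by
  have hp1 : p - 1 + 1 = p := Nat.sub_add_cancel hp.out.one_le
  conv_lhs => rw [← hp1, Function.iterate_succ_apply',
    ← JacAssoc.sum_pow_mul_pow_eq_iterate p hpB c d]
  rw [Finset.mul_sum, Finset.sum_mul, ← Finset.sum_sub_distrib]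
  have : ∀ j ∈ Finset.range p, c * (c ^ j * d * c ^ (p - 1 - j)) - c ^ j * d * c ^ (p - 1 - j) * c
      = c ^ (j + 1) * d * c ^ (p - (j + 1)) - c ^ j * d * c ^ (p - j) := by
    intro j hj
    have hj' := Finset.mem_range.1 hj
    rw [show p - (j + 1) = p - 1 - j by omega, pow_succ' c j, mul_assoc (c ^ j * d), ← pow_succ,
      show p - 1 - j + 1 = p - j by omega]
    simp only [mul_assoc]
  rw [Finset.sum_congr rfl this, Finset.sum_range_sub (fun j => c ^ j * d * c ^ (p - j))]
  simp

end iter

section main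
variable {R : Type u} [CommRing R] {p : ℕ} [hp : Fact p.Prime] [CharP R p]
variable {L : Type v} [LieRing L] [LieAlgebra R L] {A : Type w} [Ring A] [Algebra R A]

/-- a bracket-preserving linear map as a Lie hom into the commutator Lie algebra -/
def toLieHom (e : L →ₗ[R] A) (he : ∀ x y, e ⁅x, y⁆ = e x * e y - e y * e x) : L →ₗ⁅R⁆ A :=
  { e with
    map_lie' := fun {x y} => by
      rw [Ring.lie_def]
      exact he x y }

theorem ad_pow_apply_assoc (a v : A) :
    (LieAlgebra.ad R A a ^ p) v = a ^ p * v - v * a ^ p := by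
  have hpA : (p : A) = 0 := JacAssoc.natCast_p_eq_zero R p
  rw [Module.End.pow_apply]
  have : ⇑(LieAlgebra.ad R A a) = fun z => a * z - z * a := by
    funext z
    rw [LieAlgebra.ad_apply, Ring.lie_def]
  rw [this, iterate_ad_p p hpA]

theorem map_ad_pow_assoc (e : L →ₗ[R] A) (he : ∀ x y, e ⁅x, y⁆ = e x * e y - e y * e x)
    (x w : L) : e ((LieAlgebra.ad R L x ^ p) w) = e x ^ p * e w - e w * e x ^ p := by
  have := Groth.Agent.LD.PL.map_ad_pow (toLieHom e he) x w p
  rw [ad_pow_apply_assoc] at this
  exact this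

theorem exists_pmap_of_assoc (e : L →ₗ[R] A) (he : ∀ x y, e ⁅x, y⁆ = e x * e y - e y * e x)
    (hinj : Function.Injective e) (g : L → A)
    (hg_add : ∀ x y, g (x + y) = g x + g y) (hg_smul : ∀ (c : R) x, g (c • x) = c ^ p • g x)
    (hg_comm : ∀ x w, g x * e w = e w * g x)
    (S : Set L) (hS : Submodule.span R S = ⊤) (hSmem : ∀ s ∈ S, ∃ l, e l = e s ^ p - g s) :
    ∃ φ : PMap R p L, ∀ x, e (φ x) = e x ^ p - g x := by
  have hp0 : p ≠ 0 := hp.out.ne_zero
  have hg0 : g 0 = 0 := by
    have := hg_smul 0 0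
    rwa [zero_smul, zero_pow hp0, zero_smul] at this
  have hJ : ∀ x y, e (jacobson R p x y) = jacobson R p (e x) (e y) := fun x y =>
    Groth.Agent.LD.PL.map_jacobson p (toLieHom e he) x y
  have hall : ∀ x : L, ∃ l, e l = e x ^ p - g x := by
    intro x
    have hx : x ∈ Submodule.span R S := by rw [hS]; trivial
    induction hx using Submodule.span_induction with
    | mem s hs => exact hSmem s hs
    | zero => exact ⟨0, by rw [map_zero, hg0, zero_pow hp0, sub_zero]⟩
    | add x y _ _ hx hy =>
      obtain ⟨l, hl⟩ := hx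
      obtain ⟨l', hl'⟩ := hy
      refine ⟨l + l' - jacobson R p x y, ?_⟩
      rw [map_sub, map_add, hl, hl', hJ, map_add, JacAssoc.add_pow_char_eq_jacobson R p, hg_add]
      abel
    | smul c x _ hx =>
      obtain ⟨l, hl⟩ := hx
      refine ⟨c ^ p • l, ?_⟩
      rw [map_smul, hl, map_smul, smul_pow, hg_smul, smul_sub]
  choose φ hφ using hall
  refine ⟨⟨φ, ?_, ?_, ?_⟩, hφ⟩
  · intro c x
    apply hinj
    rw [hφ, map_smul, map_smul, hφ, smul_pow, hg_smul, smul_sub]
  · intro x
    apply LinearMap.ext
    intro w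
    apply hinj
    rw [LieAlgebra.ad_apply, he, hφ, map_ad_pow_assoc e he, sub_mul, mul_sub, hg_comm]
    abel
  · intro x y
    apply hinj
    rw [hφ, map_add, map_sub, map_add, hφ, hφ, hJ, JacAssoc.add_pow_char_eq_jacobson R p, hg_add]
    abel

end main

end Groth.Agent.H2.PLieAssoc
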