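import Mathlib

/-!
# Étaleness of `A[X]/(X_j^p - Σ h_ij X_i)` iff `det h` unit (S15365)
-/

namespace Groth.Agent.H2.PLieEtale

open MvPolynomial

universe u

variable (p : ℕ) [Fact p.Prime] (A : Type u) [CommRing A] [CharP A p] (n : ℕ)
  (h : Matrix (Fin n) (Fin n) A)

/-- the relations -/
noncomputable def v : Fin n → MvPolynomial (Fin n) A := fun j =>
  (X j : MvPolynomial (Fin n) A) ^ p - ∑ i : Fin n, C (h i j) * X i

abbrev Q : Type u := MvPolynomial (Fin n) A ⧸ Ideal.span (Set.range (v p A n h))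

lemma pderiv_v (i j : Fin n) : pderiv i (v p A n h j) = - C (h i j) := by
  have hp : ((p : ℕ) : MvPolynomial (Fin n) A) = 0 := CharP.cast_eq_zero _ p
  unfold v
  rw [map_sub, Derivation.leibniz_pow, map_sum]
  have h1 : ∀ k : Fin n, pderiv i (C (h k j) * X k : MvPolynomial (Fin n) A) =
      if k = i then C (h k j) else 0 := by
    intro k
    rw [Derivation.leibniz, pderiv_C, pderiv_X]
    by_cases hk : k = i
    · subst hk; simp
    · simp [hk]
  simp_rw [h1]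
  rw [Finset.sum_ite_eq' Finset.univ i, if_pos (Finset.mem_univ i)]
  rw [nsmul_eq_mul, hp, zero_mul, zero_sub]

theorem etale_of_isUnit (hdet : IsUnit h.det) : Algebra.Etale A (Q p A n h) := by
  classical
  let P : Algebra.PreSubmersivePresentation A (Q p A n h) (Fin n) (Fin n) :=
    Algebra.PreSubmersivePresentation.naive (v := v p A n h) id Function.injective_id
  have hJ : P.jacobiMatrix = - (C : A →+* MvPolynomial (Fin n) A).mapMatrix h := by
    ext i j
    rw [Algebra.PreSubmersivePresentation.jacobiMatrix_naive, id, pderiv_v]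
    rfl
  have hu : IsUnit P.jacobian := by
    rw [Algebra.PreSubmersivePresentation.jacobian_eq_jacobiMatrix_det, hJ, Matrix.det_neg,
      ← RingHom.map_det]
    apply IsUnit.map
    refine IsUnit.mul ?_ (hdet.map C)
    exact (isUnit_one.neg).pow _
  let P' : Algebra.SubmersivePresentation A (Q p A n h) (Fin n) (Fin n) :=
    { toPreSubmersivePresentation := P, jacobian_isUnit := hu }
  have hdim : P'.dimension = 0 := by
    simp [Algebra.Presentation.dimension]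
  have := P'.isStandardSmoothOfRelativeDimension hdim
  infer_instance

section converse

variable {A n}
variable (𝔪 : Ideal A) [𝔪.IsMaximal]

/-- the dual numbers over the residue field -/
abbrev D : Type u := TrivSqZeroExt (A ⧸ 𝔪) (A ⧸ 𝔪)

lemma inr_pow (a : A ⧸ 𝔪) : (TrivSqZeroExt.inr a : D 𝔪) ^ p = 0 := by
  have h2 : 2 ≤ p := (Fact.out : p.Prime).two_le
  obtain ⟨k, rfl⟩ := Nat.exists_eq_add_of_le h2
  rw [pow_add, pow_two, TrivSqZeroExt.inr_mul_inr, zero_mul]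

/-- the map `X_i ↦ c_i ε` -/
noncomputable def gc (c : Fin n → A ⧸ 𝔪)
    (hc : Matrix.vecMul c (h.map (Ideal.Quotient.mk 𝔪)) = 0) : Q p A n h →ₐ[A] D 𝔪 :=
  Ideal.Quotient.liftₐ _ (aeval fun i => (TrivSqZeroExt.inr (c i) : D 𝔪)) (by
    intro x hx
    have hle : Ideal.span (Set.range (v p A n h)) ≤
        RingHom.ker (aeval fun i => (TrivSqZeroExt.inr (c i) : D 𝔪) :
          MvPolynomial (Fin n) A →ₐ[A] D 𝔪) := by
      rw [Ideal.span_le]
      rintro _ ⟨j, rfl⟩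
      rw [SetLike.mem_coe, RingHom.mem_ker]
      unfold v
      rw [map_sub, map_pow, aeval_X, inr_pow, map_sum, zero_sub, neg_eq_zero]
      have h1 : ∀ i : Fin n, (aeval fun i => (TrivSqZeroExt.inr (c i) : D 𝔪))
          (C (h i j) * X i : MvPolynomial (Fin n) A) =
          TrivSqZeroExt.inr (c i * Ideal.Quotient.mk 𝔪 (h i j)) := by
        intro i
        rw [map_mul, aeval_C, aeval_X, Algebra.algebraMap_eq_smul_one, smul_mul_assoc, one_mul,
          ← TrivSqZeroExt.inr_smul]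
        congr 1
        rw [Algebra.smul_def, mul_comm]
        rfl
      simp_rw [h1]
      rw [← TrivSqZeroExt.inr_sum]
      have h2 := congrFun hc j
      simp only [Matrix.vecMul, dotProduct, Matrix.map_apply, Pi.zero_apply] at h2
      rw [h2, TrivSqZeroExt.inr_zero]
    exact hle hx)

lemma gc_mk_X (c : Fin n → A ⧸ 𝔪)
    (hc : Matrix.vecMul c (h.map (Ideal.Quotient.mk 𝔪)) = 0) (i : Fin n) :
    gc p h 𝔪 c hc (Ideal.Quotient.mk _ (X i)) = TrivSqZeroExt.inr (c i) := by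
  change (aeval fun i => (TrivSqZeroExt.inr (c i) : D 𝔪)) (X i) = _
  rw [aeval_X]

lemma ker_fst_nilpotent :
    IsNilpotent (RingHom.ker (TrivSqZeroExt.fstHom (A ⧸ 𝔪) (A ⧸ 𝔪) (A ⧸ 𝔪) : D 𝔪 →+* A ⧸ 𝔪)) := by
  refine ⟨2, ?_⟩
  have hsq := sq (RingHom.ker (TrivSqZeroExt.fstHom (A ⧸ 𝔪) (A ⧸ 𝔪) (A ⧸ 𝔪) : D 𝔪 →+* A ⧸ 𝔪))
  rw [hsq, Ideal.zero_eq_bot, eq_bot_iff, Ideal.mul_le]
  intro x hx y hy
  rw [RingHom.mem_ker] at hx hy
  have hx' : x.fst = 0 := hx
  have hy' : y.fst = 0 := hy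
  rw [Ideal.mem_bot]
  ext
  · simp [hx']
  · simp [hx', hy']

theorem isUnit_of_etale [Algebra.FormallyUnramified A (Q p A n h)] : IsUnit h.det := by
  classical
  by_contra hnu
  obtain ⟨𝔪, h𝔪, hmem⟩ := exists_max_ideal_of_mem_nonunits hnu
  have := h𝔪
  let _ : Field (A ⧸ 𝔪) := Ideal.Quotient.field 𝔪
  have hdet0 : (h.map (Ideal.Quotient.mk 𝔪)).det = 0 := by
    have : (h.map (Ideal.Quotient.mk 𝔪)) = (Ideal.Quotient.mk 𝔪).mapMatrix h := rfl
    rw [this, ← RingHom.map_det]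
    exact Ideal.Quotient.eq_zero_iff_mem.2 hmem
  obtain ⟨c, hc0, hc⟩ := Matrix.exists_vecMul_eq_zero_iff.2 hdet0
  have h0 : Matrix.vecMul (0 : Fin n → A ⧸ 𝔪) (h.map (Ideal.Quotient.mk 𝔪)) = 0 :=
    Matrix.zero_vecMul _
  have heq : gc p h 𝔪 c hc = gc p h 𝔪 0 h0 := by
    apply Algebra.FormallyUnramified.ext'
      (TrivSqZeroExt.fstHom (A ⧸ 𝔪) (A ⧸ 𝔪) (A ⧸ 𝔪) : D 𝔪 →+* A ⧸ 𝔪) (ker_fst_nilpotent 𝔪)
    intro x
    have : ((TrivSqZeroExt.fstHom (A ⧸ 𝔪) (A ⧸ 𝔪) (A ⧸ 𝔪)).restrictScalars A).comp (gc p h 𝔪 c hc) =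
        ((TrivSqZeroExt.fstHom (A ⧸ 𝔪) (A ⧸ 𝔪) (A ⧸ 𝔪)).restrictScalars A).comp (gc p h 𝔪 0 h0) := by
      apply Ideal.Quotient.algHom_ext
      apply MvPolynomial.algHom_ext
      intro i
      simp only [AlgHom.comp_apply, Ideal.Quotient.mkₐ_eq_mk, gc_mk_X]
      simp
    exact AlgHom.congr_fun this x
  apply hc0
  funext i
  have h1 := AlgHom.congr_fun heq (Ideal.Quotient.mk _ (X i))
  rw [gc_mk_X, gc_mk_X] at h1
  exact TrivSqZeroExt.inr_injective h1

end converse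

theorem main : Algebra.Etale A (Q p A n h) ↔ IsUnit h.det := by
  constructor
  · intro he
    exact isUnit_of_etale p h
  · exact etale_of_isUnit p A n h

end Groth.Agent.H2.PLieEtale
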