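import Mathlib

/-! The punctured projective line `P¹ ∖ {degree-two point}`: the quadratic extension `K'` and the
Laurent polynomial ring `K'[T;T⁻¹]` (units, semilinear involution). -/

universe u
open Polynomial

namespace Groth.Agent.H2.PLine

section Quad
variable {K : Type u} [Field K] (B C₀ : K)

/-- the monic quadratic `X² + B X + C₀` -/
noncomputable def p0 : K[X] := X ^ 2 + C B * X + C C₀

theorem p0_natDegree : (p0 B C₀).natDegree = 2 := by
  unfold p0
  compute_degree!

theorem p0_monic : (p0 B C₀).Monic := by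
  unfold p0
  monicity!

theorem p0_ne_one : p0 B C₀ ≠ 1 := by
  intro h
  have := p0_natDegree B C₀
  rw [h, natDegree_one] at this
  exact absurd this (by decide)

theorem eval₂_p0 {S : Type*} [CommRing S] (f : K →+* S) (x : S) :
    (p0 B C₀).eval₂ f x = x ^ 2 + f B * x + f C₀ := by
  unfold p0
  simp only [eval₂_add, eval₂_mul, eval₂_pow, eval₂_X, eval₂_C]

/-- the root `θ` -/
noncomputable def th : AdjoinRoot (p0 B C₀) := AdjoinRoot.root (p0 B C₀)

/-- the conjugate root `θ' = -B - θ` -/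
noncomputable def th' : AdjoinRoot (p0 B C₀) := - algebraMap K _ B - th B C₀

theorem th_sq : th B C₀ ^ 2 + algebraMap K _ B * th B C₀ + algebraMap K _ C₀ = 0 := by
  have := AdjoinRoot.eval₂_root (p0 B C₀)
  rw [eval₂_p0] at this
  rw [AdjoinRoot.algebraMap_eq]
  exact this

theorem th'_sq : th' B C₀ ^ 2 + algebraMap K _ B * th' B C₀ + algebraMap K _ C₀ = 0 := by
  unfold th'
  linear_combination th_sq B C₀

theorem th_add_th' : th B C₀ + th' B C₀ = - algebraMap K _ B := by
  unfold th'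
  ring

theorem th_mul_th' : th B C₀ * th' B C₀ = algebraMap K _ C₀ := by
  unfold th'
  linear_combination -(th_sq B C₀)

theorem th_sub_th'_sq :
    (th B C₀ - th' B C₀) ^ 2 = algebraMap K (AdjoinRoot (p0 B C₀)) (B ^ 2 - 4 * C₀) := by
  unfold th'
  rw [map_sub, map_mul, map_pow, map_ofNat]
  linear_combination 4 * th_sq B C₀

/-- the conjugation `σ : θ ↦ θ'` -/
noncomputable def sig : AdjoinRoot (p0 B C₀) →ₐ[K] AdjoinRoot (p0 B C₀) :=
  AdjoinRoot.liftAlgHom (p0 B C₀) (Algebra.ofId K _) (th' B C₀) (by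
    have := th'_sq B C₀
    rw [eval₂_p0]
    exact this)

theorem sig_th : sig B C₀ (th B C₀) = th' B C₀ := by
  unfold sig th
  rw [AdjoinRoot.liftAlgHom_root]

theorem sig_th' : sig B C₀ (th' B C₀) = th B C₀ := by
  have h : th' B C₀ = - algebraMap K _ B - th B C₀ := rfl
  rw [h, map_sub, map_neg, AlgHom.commutes, sig_th, h]
  ring

/-- every element of `K'` is `k₁ + k₂ θ` -/
theorem exists_repr (x : AdjoinRoot (p0 B C₀)) :
    ∃ k₁ k₂ : K, x = algebraMap K _ k₁ + algebraMap K _ k₂ * th B C₀ := by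
  obtain ⟨f, rfl⟩ := AdjoinRoot.mk_surjective x
  have h1 := modByMonic_add_div f (p0 B C₀)
  have h2 : AdjoinRoot.mk (p0 B C₀) f = AdjoinRoot.mk (p0 B C₀) (f %ₘ p0 B C₀) := by
    nth_rewrite 1 [← h1]
    rw [map_add, map_mul, AdjoinRoot.mk_self, zero_mul, add_zero]
  have h3 : (f %ₘ p0 B C₀).natDegree ≤ 1 := by
    have := natDegree_modByMonic_lt f (p0_monic B C₀) (p0_ne_one B C₀)
    rw [p0_natDegree] at this
    omega
  obtain ⟨a, b, hab⟩ := exists_eq_X_add_C_of_natDegree_le_one h3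
  refine ⟨b, a, ?_⟩
  rw [h2, hab, map_add, map_mul, AdjoinRoot.mk_C, AdjoinRoot.mk_C, AdjoinRoot.mk_X,
    AdjoinRoot.algebraMap_eq]
  unfold th
  ring

variable [hirr : Fact (Irreducible (p0 B C₀))]

theorem algebraMap_injective :
    Function.Injective (algebraMap K (AdjoinRoot (p0 B C₀))) :=
  (algebraMap K (AdjoinRoot (p0 B C₀))).injective

theorem th_sub_th'_ne_zero (hD : B ^ 2 - 4 * C₀ ≠ 0) : th B C₀ - th' B C₀ ≠ 0 := by
  intro h
  have h1 := th_sub_th'_sq B C₀
  rw [h, zero_pow two_ne_zero] at h1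
  apply hD
  apply algebraMap_injective B C₀
  rw [← h1, map_zero]

end Quad

section Laurent
open LaurentPolynomial
variable {F : Type u} [Field F]

/-- units of the Laurent polynomial ring over a field are monomials -/
theorem exists_eq_C_mul_T_of_isUnit {l : F[T;T⁻¹]} (hl : IsUnit l) :
    ∃ (c : F) (n : ℤ), c ≠ 0 ∧ l = LaurentPolynomial.C c * T n := by
  obtain ⟨l', hl'⟩ := hl.exists_right_inv
  obtain ⟨n, f, hf⟩ := exists_T_pow l
  obtain ⟨n', f', hf'⟩ := exists_T_pow l'
  have h1 : f * f' = X ^ (n + n') := by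
    apply toLaurent_injective
    rw [map_mul, hf, hf', toLaurent_X_pow]
    calc l * T n * (l' * T n') = (l * l') * (T n * T n') := by ring
      _ = T ((n + n' : ℕ) : ℤ) := by rw [hl', one_mul, ← T_add]; push_cast; rfl
  have h2 : f ∣ X ^ (n + n') := Dvd.intro _ h1
  obtain ⟨i, -, hi⟩ := (dvd_prime_pow prime_X _).mp h2
  obtain ⟨u, hu⟩ := hi.symm
  obtain ⟨c, hc, hcu⟩ := Polynomial.isUnit_iff.mp u.isUnit
  refine ⟨c, (i : ℤ) - n, hc.ne_zero, ?_⟩
  have h3 : l * T n = T i * LaurentPolynomial.C c := by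
    rw [← hf, ← hu, ← hcu, map_mul, toLaurent_X_pow, toLaurent_C]
  calc l = l * T n * T (-n) := by rw [mul_assoc, ← T_add, add_neg_cancel, T_zero, mul_one]
    _ = LaurentPolynomial.C c * T ((i : ℤ) - n) := by rw [h3, sub_eq_add_neg, T_add]; ring

theorem T_neg_one_mul_T_one : (T (-1) : F[T;T⁻¹]) * T 1 = 1 := by
  rw [← T_add]
  simp

/-- ring homs out of the Laurent ring agreeing on constants and on `T` agree -/
theorem ringHom_ext_of_T {A : Type*} [CommRing A] (f g : F[T;T⁻¹] →+* A)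
    (hC : ∀ c, f (LaurentPolynomial.C c) = g (LaurentPolynomial.C c)) (hT : f (T 1) = g (T 1)) : f = g := by
  have hT' : f (T (-1)) = g (T (-1)) := by
    have h1 : f (T (-1)) * f (T 1) = 1 := by rw [← map_mul, T_neg_one_mul_T_one, map_one]
    have h2 : g (T (-1)) * g (T 1) = 1 := by rw [← map_mul, T_neg_one_mul_T_one, map_one]
    calc f (T (-1)) = f (T (-1)) * (g (T 1) * g (T (-1))) := by
            rw [mul_comm (g (T 1)), h2, mul_one]
      _ = (f (T (-1)) * f (T 1)) * g (T (-1)) := by rw [hT]; ring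
      _ = g (T (-1)) := by rw [h1, one_mul]
  apply RingHom.ext
  intro l
  induction l using LaurentPolynomial.induction_on' with
  | add p q hp hq => rw [map_add, map_add, hp, hq]
  | C_mul_T n a =>
    rw [map_mul, map_mul, hC]
    congr 1
    obtain ⟨m, rfl | rfl⟩ := Int.eq_nat_or_neg n
    · have : (T (m : ℤ) : F[T;T⁻¹]) = T 1 ^ m := by rw [T_pow, mul_one]
      rw [this, map_pow, map_pow, hT]
    · have : (T (-(m : ℤ)) : F[T;T⁻¹]) = T (-1) ^ m := by rw [T_pow, mul_neg, mul_one]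
      rw [this, map_pow, map_pow, hT']

end Laurent

section SigL
open LaurentPolynomial
variable {F : Type u} [Field F] (s : F →+* F)

/-- the semilinear inversion `Σ cₙ Tⁿ ↦ Σ s(cₙ) T⁻ⁿ` -/
noncomputable def sigL : F[T;T⁻¹] →+* F[T;T⁻¹] :=
  (invert (R := F) : F[T;T⁻¹] →+* F[T;T⁻¹]).comp (AddMonoidAlgebra.mapRingHom ℤ s)

theorem sigL_C (c : F) : sigL s (LaurentPolynomial.C c) = LaurentPolynomial.C (s c) := by
  unfold sigL
  rw [RingHom.comp_apply]
  change (invert (R := F)) (AddMonoidAlgebra.mapRingHom ℤ s (AddMonoidAlgebra.single 0 c)) = _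
  rw [AddMonoidAlgebra.mapRingHom_single]
  exact invert_C (s c)

theorem sigL_T (n : ℤ) : sigL s (T n) = T (-n) := by
  unfold sigL
  rw [RingHom.comp_apply]
  change (invert (R := F)) (AddMonoidAlgebra.mapRingHom ℤ s (AddMonoidAlgebra.single n 1)) = _
  rw [AddMonoidAlgebra.mapRingHom_single, map_one]
  exact invert_T n

end SigL

end Groth.Agent.H2.PLine
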