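import Mathlib
import Groth.Agent.Lib.Helper2.PLine1

/-! Binary forms: explicit sum representation, the normal form of a binary quadratic form, and
irreducibility of the dehomogenized quadratic. -/

universe u
open MvPolynomial

namespace Groth.Agent.H2.PLine

section Forms
variable {K : Type u} [Field K]

/-- the exponent vector `(i, j)` -/
noncomputable def ex (i j : ℕ) : Fin 2 →₀ ℕ := Finsupp.single 0 i + Finsupp.single 1 j

@[simp] theorem ex_zero (i j : ℕ) : ex i j 0 = i := by simp [ex]
@[simp] theorem ex_one (i j : ℕ) : ex i j 1 = j := by simp [ex]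

theorem ex_degree (i j : ℕ) : (ex i j).degree = i + j := by
  rw [Finsupp.degree_eq_sum, Fin.sum_univ_two, ex_zero, ex_one]

theorem eq_ex (d : Fin 2 →₀ ℕ) : d = ex (d 0) (d 1) := by
  ext i
  fin_cases i
  · simp
  · simp

theorem ex_injective {i j i' j' : ℕ} (h : ex i j = ex i' j') : i = i' ∧ j = j' := by
  constructor
  · have := congrArg (fun d : Fin 2 →₀ ℕ => d 0) h
    simpa using this
  · have := congrArg (fun d : Fin 2 →₀ ℕ => d 1) h
    simpa using this

/-- a binary form of degree `m` is the sum of its `m + 1` monomials -/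
theorem eq_sum_of_isHomogeneous (f : MvPolynomial (Fin 2) K) (m : ℕ) (hf : f.IsHomogeneous m) :
    f = ∑ i ∈ Finset.range (m + 1), monomial (ex i (m - i)) (f.coeff (ex i (m - i))) := by
  classical
  ext d
  rw [coeff_sum]
  simp only [coeff_monomial]
  by_cases hd : d.degree = m
  · have hd' : d 0 + d 1 = m := by
      rw [eq_ex d, ex_degree] at hd
      exact hd
    rw [Finset.sum_eq_single (d 0)]
    · have : ex (d 0) (m - d 0) = d := by
        have h2 : m - d 0 = d 1 := by omega
        rw [h2]
        exact (eq_ex d).symm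
      rw [if_pos this, this]
    · intro i _ hi
      rw [if_neg]
      intro h
      apply hi
      have := congrArg (fun e : Fin 2 →₀ ℕ => e 0) h
      simpa using this
    · intro h
      exfalso
      apply h
      rw [Finset.mem_range]
      omega
  · rw [hf.coeff_eq_zero hd]
    symm
    apply Finset.sum_eq_zero
    intro i hi
    rw [if_neg]
    intro h
    apply hd
    rw [← h, ex_degree]
    rw [Finset.mem_range] at hi
    omega

theorem monomial_ex (i j : ℕ) (a : K) :
    monomial (ex i j) a = C a * X 0 ^ i * X 1 ^ j := by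
  unfold ex
  rw [mul_assoc, X_pow_eq_monomial, X_pow_eq_monomial, monomial_mul, C_mul_monomial, one_mul,
    mul_one]

/-- evaluation of a binary form -/
theorem aeval_eq_sum {S : Type*} [CommRing S] [Algebra K S] (g : Fin 2 → S)
    (f : MvPolynomial (Fin 2) K) (m : ℕ) (hf : f.IsHomogeneous m) :
    aeval g f = ∑ i ∈ Finset.range (m + 1),
      algebraMap K S (f.coeff (ex i (m - i))) * g 0 ^ i * g 1 ^ (m - i) := by
  nth_rewrite 1 [eq_sum_of_isHomogeneous f m hf]
  rw [map_sum]
  apply Finset.sum_congr rfl
  intro i _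
  rw [monomial_ex, map_mul, map_mul, map_pow, map_pow, aeval_C, aeval_X, aeval_X]

/-- scaling: `f(u ξ, u η) = u^m f(ξ, η)` -/
theorem aeval_smul_of_isHomogeneous {S : Type*} [CommRing S] [Algebra K S] (g : Fin 2 → S)
    (u : S) (f : MvPolynomial (Fin 2) K) (m : ℕ) (hf : f.IsHomogeneous m) :
    aeval (fun i => u * g i) f = u ^ m * aeval g f := by
  rw [aeval_eq_sum _ f m hf, aeval_eq_sum g f m hf, Finset.mul_sum]
  apply Finset.sum_congr rfl
  intro i hi
  rw [Finset.mem_range] at hi
  have : u ^ m = u ^ i * u ^ (m - i) := by rw [← pow_add]; congr 1; omega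
  rw [this, mul_pow, mul_pow]
  ring

theorem not_isUnit_of_isHomogeneous {f : MvPolynomial (Fin 2) K} {n : ℕ}
    (hf : f.IsHomogeneous n) (hn : 0 < n) : ¬ IsUnit f := by
  intro hu
  have hf0 : f ≠ 0 := hu.ne_zero
  obtain ⟨g, hg⟩ := hu.exists_right_inv
  have hg0 : g ≠ 0 := by
    rintro rfl
    rw [mul_zero] at hg
    exact zero_ne_one hg
  have h1 := totalDegree_mul_of_isDomain hf0 hg0
  rw [hg, totalDegree_one, hf.totalDegree hf0] at h1
  omega

end Forms

section Quadratic
variable {K : Type u} [Field K] (q : MvPolynomial (Fin 2) K)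

/-- the coefficients of a binary quadratic form -/
noncomputable def qa : K := q.coeff (Finsupp.single 0 2)
noncomputable def qb : K := q.coeff (Finsupp.single 0 1 + Finsupp.single 1 1)
noncomputable def qc : K := q.coeff (Finsupp.single 1 2)

theorem qa_eq : qa q = q.coeff (ex 2 0) := by
  unfold qa ex
  simp

theorem qb_eq : qb q = q.coeff (ex 1 1) := rfl

theorem qc_eq : qc q = q.coeff (ex 0 2) := by
  unfold qc ex
  simp

variable {q}

theorem q_eq (hq : q.IsHomogeneous 2) :
    q = C (qa q) * X 0 ^ 2 + C (qb q) * (X 0 * X 1) + C (qc q) * X 1 ^ 2 := by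
  nth_rewrite 1 [eq_sum_of_isHomogeneous q 2 hq]
  rw [Finset.sum_range_succ, Finset.sum_range_succ, Finset.sum_range_one]
  simp only [monomial_ex, Nat.sub_zero, Nat.sub_self, pow_zero, mul_one, pow_one]
  rw [← qa_eq, ← qc_eq, show (2 - 1 : ℕ) = 1 from rfl, ← qb_eq, pow_one]
  ring

theorem aeval_q {S : Type*} [CommRing S] [Algebra K S] (hq : q.IsHomogeneous 2) (g : Fin 2 → S) :
    aeval g q = algebraMap K S (qa q) * g 0 ^ 2 + algebraMap K S (qb q) * (g 0 * g 1) +
      algebraMap K S (qc q) * g 1 ^ 2 := by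
  nth_rewrite 1 [q_eq hq]
  simp only [map_add, map_mul, map_pow, aeval_C, aeval_X]

theorem qa_ne_zero (hq : q.IsHomogeneous 2) (hirr : Irreducible q) : qa q ≠ 0 := by
  intro h0
  have h1 : q = X 1 * (C (qb q) * X 0 + C (qc q) * X 1) := by
    nth_rewrite 1 [q_eq hq]
    rw [h0]
    simp only [map_zero, zero_mul, zero_add]
    ring
  have hX : ¬ IsUnit (X 1 : MvPolynomial (Fin 2) K) :=
    not_isUnit_of_isHomogeneous (isHomogeneous_X K 1) one_pos
  have hl : (C (qb q) * X 0 + C (qc q) * X 1 : MvPolynomial (Fin 2) K).IsHomogeneous 1 :=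
    (isHomogeneous_C_mul_X _ _).add (isHomogeneous_C_mul_X _ _)
  rcases hirr.isUnit_or_isUnit h1 with h | h
  · exact hX h
  · exact not_isUnit_of_isHomogeneous hl one_pos h

/-- the dehomogenized (monic) quadratic is irreducible -/
theorem irreducible_p0 (hq : q.IsHomogeneous 2) (hirr : Irreducible q) :
    Irreducible (p0 (qb q / qa q) (qc q / qa q)) := by
  have ha := qa_ne_zero hq hirr
  apply Polynomial.irreducible_of_degree_le_three_of_not_isRoot
  · rw [p0_natDegree]
    decide
  · intro r hr
    rw [Polynomial.IsRoot, p0] at hr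
    simp only [Polynomial.eval_add, Polynomial.eval_mul, Polynomial.eval_pow, Polynomial.eval_X,
      Polynomial.eval_C] at hr
    have hr' : qa q * r ^ 2 + qb q * r + qc q = 0 := by
      have : qa q * (r ^ 2 + qb q / qa q * r + qc q / qa q) = 0 := by rw [hr, mul_zero]
      rw [← this]
      field_simp
    have h1 : q = (X 0 - C r * X 1) * (C (qa q) * X 0 + C (qb q + qa q * r) * X 1) := by
      nth_rewrite 1 [q_eq hq]
      have hc : qc q = - (qa q * r ^ 2 + qb q * r) := by linear_combination hr'
      rw [hc]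
      simp only [map_add, map_mul, map_neg, map_pow]
      ring
    have hl1 : (X 0 - C r * X 1 : MvPolynomial (Fin 2) K).IsHomogeneous 1 :=
      (isHomogeneous_X K 0).sub (isHomogeneous_C_mul_X _ _)
    have hl2 : (C (qa q) * X 0 + C (qb q + qa q * r) * X 1 :
        MvPolynomial (Fin 2) K).IsHomogeneous 1 :=
      (isHomogeneous_C_mul_X _ _).add (isHomogeneous_C_mul_X _ _)
    rcases hirr.isUnit_or_isUnit h1 with h | h
    · exact not_isUnit_of_isHomogeneous hl1 one_pos h
    · exact not_isUnit_of_isHomogeneous hl2 one_pos h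

end Quadratic

end Groth.Agent.H2.PLine
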