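import Mathlib
import Groth.Agent.Lib.Helper2.PLine2

/-! The coordinate ring `R` of `P¹ ∖ {q = 0}` and its embedding into `K'[T;T⁻¹]`. -/

universe u
open MvPolynomial LaurentPolynomial
attribute [local instance] MvPolynomial.gradedAlgebra

namespace Groth.Agent.H2.PLine

section Ev
variable {K : Type u} [Field K] (B C₀ : K)

/-- `ξ = θ' T − θ` -/
noncomputable def xi : LaurentPolynomial (AdjoinRoot (p0 B C₀)) :=
  LaurentPolynomial.C (th' B C₀) * T 1 - LaurentPolynomial.C (th B C₀)

/-- `η = T − 1` -/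
noncomputable def eta : LaurentPolynomial (AdjoinRoot (p0 B C₀)) := T 1 - 1

/-- the evaluation point -/
noncomputable def evv : Fin 2 → LaurentPolynomial (AdjoinRoot (p0 B C₀)) :=
  ![xi B C₀, eta B C₀]

/-- the evaluation `x ↦ ξ, y ↦ η` -/
noncomputable def ev :
    MvPolynomial (Fin 2) K →ₐ[K] LaurentPolynomial (AdjoinRoot (p0 B C₀)) :=
  aeval (evv B C₀)

theorem algebraMap_eq_C (k : K) :
    algebraMap K (LaurentPolynomial (AdjoinRoot (p0 B C₀))) k =
      LaurentPolynomial.C (algebraMap K (AdjoinRoot (p0 B C₀)) k) :=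
  LaurentPolynomial.algebraMap_apply k

/-- the key identity `ξ² + B ξ η + C₀ η² = (B² - 4 C₀) T` -/
theorem quad_identity :
    xi B C₀ ^ 2 + algebraMap K _ B * (xi B C₀ * eta B C₀) + algebraMap K _ C₀ * eta B C₀ ^ 2 =
      algebraMap K _ (B ^ 2 - 4 * C₀) * T 1 := by
  have h := congrArg (LaurentPolynomial.C (R := AdjoinRoot (p0 B C₀))) (th_sq B C₀)
  rw [map_add, map_add, map_mul, map_pow, map_zero] at h
  have h' : LaurentPolynomial.C (th' B C₀) =
      - LaurentPolynomial.C (algebraMap K (AdjoinRoot (p0 B C₀)) B) -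
        LaurentPolynomial.C (th B C₀) := by
    rw [th', map_sub, map_neg]
  rw [algebraMap_eq_C, algebraMap_eq_C, algebraMap_eq_C, map_sub, map_mul, map_pow, map_sub,
    map_mul, map_pow, map_ofNat, map_ofNat]
  unfold xi eta
  rw [h']
  linear_combination (T 1 + 1) ^ 2 * h

theorem ev_X0 : ev B C₀ (X 0 : MvPolynomial (Fin 2) K) = xi B C₀ := by
  unfold ev evv
  rw [aeval_X]
  rfl

theorem ev_X1 : ev B C₀ (X 1 : MvPolynomial (Fin 2) K) = eta B C₀ := by
  unfold ev evv
  rw [aeval_X]
  rfl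

end Ev

section EvQ
variable {K : Type u} [Field K] (B C₀ : K) {q : MvPolynomial (Fin 2) K}

theorem ev_q (hq : q.IsHomogeneous 2) (hB : qb q = qa q * B) (hC : qc q = qa q * C₀) :
    ev B C₀ q = algebraMap K _ (qa q * (B ^ 2 - 4 * C₀)) * T 1 := by
  unfold ev
  rw [aeval_q hq]
  have h := quad_identity B C₀
  have e0 : evv B C₀ 0 = xi B C₀ := rfl
  have e1 : evv B C₀ 1 = eta B C₀ := rfl
  rw [e0, e1, map_mul (algebraMap K _) (qa q), mul_assoc, ← h, hB, hC, map_mul, map_mul]
  ring

theorem isUnit_ev_q [Fact (Irreducible (p0 B C₀))] (hq : q.IsHomogeneous 2) (ha : qa q ≠ 0)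
    (hB : qb q = qa q * B) (hC : qc q = qa q * C₀) (hD : B ^ 2 - 4 * C₀ ≠ 0) :
    IsUnit (ev B C₀ q) := by
  rw [ev_q B C₀ hq hB hC]
  apply IsUnit.mul _ (isUnit_T 1)
  apply IsUnit.map
  exact (mul_ne_zero ha hD).isUnit

end EvQ

section Iota
variable {K : Type u} [Field K] (B C₀ : K) (q : MvPolynomial (Fin 2) K)

/-- the coordinate ring of `P¹ ∖ {q = 0}` -/
abbrev RR := HomogeneousLocalization.Away (homogeneousSubmodule (Fin 2) K) q

variable {q}

/-- the embedding of the coordinate ring into the Laurent ring -/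
noncomputable def iota (hu : IsUnit (ev B C₀ q)) :
    RR q →+* LaurentPolynomial (AdjoinRoot (p0 B C₀)) :=
  (IsLocalization.Away.lift (S := Localization.Away q) q
    (g := (ev B C₀ : MvPolynomial (Fin 2) K →+* _)) hu).comp
    (algebraMap (RR q) (Localization.Away q))

theorem iota_mk (hu : IsUnit (ev B C₀ q)) (hq' : q ∈ homogeneousSubmodule (Fin 2) K 2) (n : ℕ)
    (f : MvPolynomial (Fin 2) K) (hf : f ∈ homogeneousSubmodule (Fin 2) K (n • 2)) :
    iota B C₀ hu (HomogeneousLocalization.Away.mk _ hq' n f hf) * ev B C₀ q ^ n = ev B C₀ f := by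
  unfold iota
  rw [RingHom.comp_apply, HomogeneousLocalization.algebraMap_apply,
    HomogeneousLocalization.Away.val_mk, Localization.mk_eq_mk']
  have h1 : (ev B C₀ q ^ n : LaurentPolynomial (AdjoinRoot (p0 B C₀))) =
      IsLocalization.Away.lift (S := Localization.Away q) q
        (g := (ev B C₀ : MvPolynomial (Fin 2) K →+* _)) hu
        (algebraMap _ (Localization.Away q) (q ^ n)) := by
    rw [IsLocalization.Away.lift_eq]
    simp
  rw [h1, ← map_mul]
  have h2 : IsLocalization.mk' (Localization.Away q) f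
      (⟨q ^ n, n, rfl⟩ : Submonoid.powers q) * algebraMap _ (Localization.Away q) (q ^ n) =
      algebraMap _ (Localization.Away q) f :=
    IsLocalization.mk'_spec (Localization.Away q) f (⟨q ^ n, n, rfl⟩ : Submonoid.powers q)
  rw [h2, IsLocalization.Away.lift_eq]
  rfl

end Iota

end Groth.Agent.H2.PLine
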