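import Mathlib
import Groth.Agent.Lib.Helper2.PLine3

/-! The embedding `ι : R → K'[T;T⁻¹]` is `K`-linear, injective, and lands in the fixed points of
the semilinear involution. -/

universe u
open MvPolynomial LaurentPolynomial
attribute [local instance] MvPolynomial.gradedAlgebra
set_option linter.unusedSectionVars false

namespace Groth.Agent.H2.PLine

section Alg
variable {K : Type u} [Field K] (q : MvPolynomial (Fin 2) K)

/-- the `K`-algebra structure on the coordinate ring (with the existing scalar action) -/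
@[reducible] noncomputable def algRR : Algebra K (RR q) where
  toSMul := inferInstance
  algebraMap := (HomogeneousLocalization.fromZeroRingHom (homogeneousSubmodule (Fin 2) K)
    (Submonoid.powers q)).comp (algebraMap K (homogeneousSubmodule (Fin 2) K 0))
  commutes' := fun _ _ => mul_comm _ _
  smul_def' := by
    intro k x
    apply HomogeneousLocalization.val_injective
    rw [HomogeneousLocalization.val_smul, HomogeneousLocalization.val_mul, RingHom.comp_apply]
    change _ = (HomogeneousLocalization.mk _).val * _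
    rw [HomogeneousLocalization.val_mk]
    simp only
    rw [Algebra.smul_def, IsScalarTower.algebraMap_apply K (MvPolynomial (Fin 2) K)
      (Localization (Submonoid.powers q))]
    congr 1

attribute [local instance] algRR

theorem val_algebraMap (k : K) :
    (algebraMap K (RR q) k).val = algebraMap (MvPolynomial (Fin 2) K)
      (Localization (Submonoid.powers q)) (MvPolynomial.C k) := by
  change (HomogeneousLocalization.mk _).val = _
  rw [HomogeneousLocalization.val_mk]
  simp only
  rw [Localization.mk_eq_mk', IsLocalization.mk'_eq_iff_eq_mul]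
  change _ = _ * algebraMap _ _ (1 : MvPolynomial (Fin 2) K)
  rw [map_one, mul_one]
  rfl

end Alg

attribute [local instance] algRR

section Indep
variable {K : Type u} [Field K] (B C₀ : K) [Fact (Irreducible (p0 B C₀))]

/-- evaluation at `T = 1` -/
noncomputable def eps1 : LaurentPolynomial (AdjoinRoot (p0 B C₀)) →+* AdjoinRoot (p0 B C₀) :=
  LaurentPolynomial.eval₂ (RingHom.id _) (1 : (AdjoinRoot (p0 B C₀))ˣ)

theorem eps1_C (c : AdjoinRoot (p0 B C₀)) : eps1 B C₀ (LaurentPolynomial.C c) = c := by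
  unfold eps1
  rw [LaurentPolynomial.eval₂_C]
  rfl

theorem eps1_T (n : ℤ) : eps1 B C₀ (T n) = 1 := by
  unfold eps1
  rw [LaurentPolynomial.eval₂_T]
  simp

theorem eps1_xi : eps1 B C₀ (xi B C₀) = th' B C₀ - th B C₀ := by
  unfold xi
  rw [map_sub, map_mul, eps1_C, eps1_C, eps1_T, mul_one]

theorem eps1_eta : eps1 B C₀ (eta B C₀) = 0 := by
  unfold eta
  rw [map_sub, eps1_T, map_one, sub_self]

theorem eta_ne_zero : eta B C₀ ≠ 0 := by
  intro h
  have h1 : (T 1 : LaurentPolynomial (AdjoinRoot (p0 B C₀))) = T 0 := by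
    rw [T_zero]
    unfold eta at h
    exact sub_eq_zero.mp h
  have h2 := congrArg (fun l : LaurentPolynomial (AdjoinRoot (p0 B C₀)) => l.coeff 1) h1
  simp only [T_apply] at h2
  norm_num at h2

/-- the monomials `ξ^i η^(m-i)` are linearly independent over `K'` -/
theorem indep (hD : B ^ 2 - 4 * C₀ ≠ 0) (m : ℕ) : ∀ (c : ℕ → AdjoinRoot (p0 B C₀)),
    (∑ i ∈ Finset.range (m + 1),
      LaurentPolynomial.C (c i) * xi B C₀ ^ i * eta B C₀ ^ (m - i)) = 0 → ∀ i ≤ m, c i = 0 := by
  have hδ : th' B C₀ - th B C₀ ≠ 0 := by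
    intro h
    apply th_sub_th'_ne_zero B C₀ hD
    rw [← neg_sub, h, neg_zero]
  induction m with
  | zero =>
    intro c h i hi
    rw [zero_add, Finset.sum_range_one, pow_zero, pow_zero, mul_one, mul_one] at h
    have := congrArg (eps1 B C₀) h
    rw [eps1_C, map_zero] at this
    rw [Nat.le_zero.mp hi]
    exact this
  | succ m ih =>
    intro c h
    rw [Finset.sum_range_succ] at h
    have h1 : ∑ i ∈ Finset.range (m + 1),
        LaurentPolynomial.C (c i) * xi B C₀ ^ i * eta B C₀ ^ (m + 1 - i) =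
        eta B C₀ * ∑ i ∈ Finset.range (m + 1),
          LaurentPolynomial.C (c i) * xi B C₀ ^ i * eta B C₀ ^ (m - i) := by
      rw [Finset.mul_sum]
      apply Finset.sum_congr rfl
      intro i hi
      rw [Finset.mem_range] at hi
      have : m + 1 - i = (m - i) + 1 := by omega
      rw [this, pow_succ]
      ring
    rw [h1, Nat.sub_self, pow_zero, mul_one] at h
    have h2 := congrArg (eps1 B C₀) h
    rw [map_add, map_mul, eps1_eta, zero_mul, zero_add, map_mul, map_pow, eps1_C, eps1_xi,
      map_zero] at h2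
    have h3 : c (m + 1) = 0 := by
      rcases mul_eq_zero.mp h2 with h | h
      · exact h
      · exact absurd (pow_eq_zero_iff (Nat.succ_ne_zero m) |>.mp h) hδ
    rw [h3, map_zero, zero_mul, add_zero] at h
    have h4 := (mul_eq_zero.mp h).resolve_left (eta_ne_zero B C₀)
    intro i hi
    rcases Nat.lt_or_ge i (m + 1) with hlt | hge
    · exact ih c h4 i (by omega)
    · have : i = m + 1 := by omega
      rw [this]
      exact h3

/-- `ev` is injective on binary forms -/
theorem eq_zero_of_ev_eq_zero (hD : B ^ 2 - 4 * C₀ ≠ 0) (f : MvPolynomial (Fin 2) K) (m : ℕ)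
    (hf : f.IsHomogeneous m) (h : ev B C₀ f = 0) : f = 0 := by
  unfold ev at h
  rw [aeval_eq_sum _ f m hf] at h
  have h1 := indep B C₀ hD m (fun i => algebraMap K _ (f.coeff (ex i (m - i)))) (by
    rw [← h]
    apply Finset.sum_congr rfl
    intro i _
    rw [algebraMap_eq_C]
    rfl)
  rw [eq_sum_of_isHomogeneous f m hf]
  apply Finset.sum_eq_zero
  intro i hi
  rw [Finset.mem_range] at hi
  have h2 := h1 i (by omega)
  have h3 : f.coeff (ex i (m - i)) = 0 := by
    apply algebraMap_injective B C₀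
    rw [h2, map_zero]
  rw [h3, map_zero]

end Indep

section IotaProps
variable {K : Type u} [Field K] (B C₀ : K) [Fact (Irreducible (p0 B C₀))]
  {q : MvPolynomial (Fin 2) K}

theorem iota_algebraMap (hu : IsUnit (ev B C₀ q)) (k : K) :
    iota B C₀ hu (algebraMap K (RR q) k) = algebraMap K _ k := by
  unfold iota
  rw [RingHom.comp_apply, HomogeneousLocalization.algebraMap_apply, val_algebraMap,
    IsLocalization.Away.lift_eq]
  change ev B C₀ (MvPolynomial.C k) = _
  unfold ev
  rw [aeval_C]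

/-- `ι` as a `K`-algebra map -/
noncomputable def iotaAlg (hu : IsUnit (ev B C₀ q)) :
    RR q →ₐ[K] LaurentPolynomial (AdjoinRoot (p0 B C₀)) :=
  { iota B C₀ hu with commutes' := iota_algebraMap B C₀ hu }

theorem iotaAlg_apply (hu : IsUnit (ev B C₀ q)) (r : RR q) :
    iotaAlg B C₀ hu r = iota B C₀ hu r := rfl

theorem iota_injective (hD : B ^ 2 - 4 * C₀ ≠ 0) (hq : q.IsHomogeneous 2)
    (hu : IsUnit (ev B C₀ q)) : Function.Injective (iota B C₀ hu) := by
  rw [injective_iff_map_eq_zero]
  intro r hr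
  have hq' : q ∈ homogeneousSubmodule (Fin 2) K 2 := (mem_homogeneousSubmodule 2 q).mpr hq
  obtain ⟨n, f, hf, rfl⟩ := HomogeneousLocalization.Away.mk_surjective _ hq' r
  have h1 := iota_mk B C₀ hu hq' n f hf
  rw [hr, zero_mul] at h1
  have h2 : f = 0 := eq_zero_of_ev_eq_zero B C₀ hD f (n • 2)
    ((mem_homogeneousSubmodule _ f).mp hf) h1.symm
  apply HomogeneousLocalization.val_injective
  rw [HomogeneousLocalization.Away.val_mk, HomogeneousLocalization.val_zero]
  subst h2
  exact Localization.mk_zero _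

/-- the semilinear involution on the Laurent ring -/
noncomputable def sL : LaurentPolynomial (AdjoinRoot (p0 B C₀)) →+*
    LaurentPolynomial (AdjoinRoot (p0 B C₀)) :=
  sigL (sig B C₀ : AdjoinRoot (p0 B C₀) →+* AdjoinRoot (p0 B C₀))

theorem sL_C (c : AdjoinRoot (p0 B C₀)) :
    sL B C₀ (LaurentPolynomial.C c) = LaurentPolynomial.C (sig B C₀ c) := by
  unfold sL
  rw [sigL_C]
  rfl

theorem sL_T (n : ℤ) : sL B C₀ (T n) = T (-n) := sigL_T _ n

theorem sL_algebraMap (k : K) : sL B C₀ (algebraMap K _ k) = algebraMap K _ k := by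
  rw [algebraMap_eq_C, sL_C, AlgHom.commutes]

/-- the twisting unit `u = -T⁻¹` -/
noncomputable def uu : LaurentPolynomial (AdjoinRoot (p0 B C₀)) := - T (-1)

theorem sL_xi : sL B C₀ (xi B C₀) = uu B C₀ * xi B C₀ := by
  unfold xi uu
  rw [map_sub, map_mul, sL_C, sL_C, sL_T, sig_th, sig_th']
  have h : (T (-1) : LaurentPolynomial (AdjoinRoot (p0 B C₀))) * T 1 = 1 :=
    T_neg_one_mul_T_one
  linear_combination (LaurentPolynomial.C (th' B C₀)) * h

theorem sL_eta : sL B C₀ (eta B C₀) = uu B C₀ * eta B C₀ := by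
  unfold eta uu
  rw [map_sub, map_one, sL_T]
  have h : (T (-1) : LaurentPolynomial (AdjoinRoot (p0 B C₀))) * T 1 = 1 :=
    T_neg_one_mul_T_one
  linear_combination h

theorem sL_ev (f : MvPolynomial (Fin 2) K) (m : ℕ) (hf : f.IsHomogeneous m) :
    sL B C₀ (ev B C₀ f) = uu B C₀ ^ m * ev B C₀ f := by
  unfold ev
  rw [← aeval_smul_of_isHomogeneous (evv B C₀) (uu B C₀) f m hf, aeval_eq_sum _ f m hf,
    aeval_eq_sum _ f m hf, map_sum]
  apply Finset.sum_congr rfl
  intro i _
  rw [map_mul, map_mul, map_pow, map_pow, sL_algebraMap]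
  have e0 : evv B C₀ 0 = xi B C₀ := rfl
  have e1 : evv B C₀ 1 = eta B C₀ := rfl
  rw [e0, e1, sL_xi, sL_eta]

theorem isUnit_uu : IsUnit (uu B C₀) := by
  unfold uu
  exact (isUnit_T (-1)).neg

theorem sL_iota (hq : q.IsHomogeneous 2) (hu : IsUnit (ev B C₀ q)) (r : RR q) :
    sL B C₀ (iota B C₀ hu r) = iota B C₀ hu r := by
  have hq' : q ∈ homogeneousSubmodule (Fin 2) K 2 := (mem_homogeneousSubmodule 2 q).mpr hq
  obtain ⟨n, f, hf, rfl⟩ := HomogeneousLocalization.Away.mk_surjective _ hq' r
  have h1 := iota_mk B C₀ hu hq' n f hf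
  have h2 := congrArg (sL B C₀) h1
  rw [map_mul, map_pow, sL_ev B C₀ q 2 hq, sL_ev B C₀ f (n • 2) ((mem_homogeneousSubmodule _ f).mp hf),
    ← h1] at h2
  have h3 : (uu B C₀ ^ 2 * ev B C₀ q) ^ n = uu B C₀ ^ (n • 2) * ev B C₀ q ^ n := by
    rw [mul_pow, ← pow_mul, smul_eq_mul, mul_comm 2 n]
  rw [h3] at h2
  have hunit : IsUnit (uu B C₀ ^ (n • 2) * ev B C₀ q ^ n) :=
    ((isUnit_uu B C₀).pow _).mul (hu.pow _)
  apply hunit.mul_left_cancel
  rw [mul_comm, h2]
  ring

end IotaProps

end Groth.Agent.H2.PLine
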