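import Mathlib
import Groth.Agent.Lib.Helper2.PLine4

/-! The comparison isomorphism `K' ⊗_K R ≃ K'[T;T⁻¹]` and extension of automorphisms. -/

universe u
open MvPolynomial LaurentPolynomial TensorProduct
attribute [local instance] MvPolynomial.gradedAlgebra
attribute [local instance] Groth.Agent.H2.PLine.algRR
set_option linter.unusedSectionVars false

namespace Groth.Agent.H2.PLine

section Psi
variable {K : Type u} [Field K] (B C₀ : K) [Fact (Irreducible (p0 B C₀))]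
  {q : MvPolynomial (Fin 2) K}

/-- the comparison map `K' ⊗ R → K'[T;T⁻¹]` -/
noncomputable def Psi (hu : IsUnit (ev B C₀ q)) :
    AdjoinRoot (p0 B C₀) ⊗[K] RR q →ₐ[AdjoinRoot (p0 B C₀)]
      LaurentPolynomial (AdjoinRoot (p0 B C₀)) :=
  Algebra.TensorProduct.lift (Algebra.ofId _ _) (iotaAlg B C₀ hu) (fun _ _ => Commute.all _ _)

theorem Psi_tmul (hu : IsUnit (ev B C₀ q)) (c : AdjoinRoot (p0 B C₀)) (r : RR q) :
    Psi B C₀ hu (c ⊗ₜ r) = LaurentPolynomial.C c * iota B C₀ hu r := by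
  unfold Psi
  rw [Algebra.TensorProduct.lift_tmul, iotaAlg_apply]
  rfl

theorem exists_decomp (t : AdjoinRoot (p0 B C₀) ⊗[K] RR q) :
    ∃ r₁ r₂ : RR q, t = 1 ⊗ₜ r₁ + th B C₀ ⊗ₜ r₂ := by
  induction t using TensorProduct.induction_on with
  | zero => exact ⟨0, 0, by rw [tmul_zero, tmul_zero, add_zero]⟩
  | tmul c r =>
    obtain ⟨k₁, k₂, rfl⟩ := exists_repr B C₀ c
    refine ⟨k₁ • r, k₂ • r, ?_⟩
    rw [add_tmul, Algebra.algebraMap_eq_smul_one, Algebra.algebraMap_eq_smul_one, smul_mul_assoc,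
      one_mul, TensorProduct.smul_tmul, TensorProduct.smul_tmul]
  | add x y hx hy =>
    obtain ⟨a₁, a₂, rfl⟩ := hx
    obtain ⟨b₁, b₂, rfl⟩ := hy
    refine ⟨a₁ + b₁, a₂ + b₂, ?_⟩
    rw [tmul_add, tmul_add]
    abel

theorem isUnit_C_th_sub_th' (hD : B ^ 2 - 4 * C₀ ≠ 0) :
    IsUnit (LaurentPolynomial.C (th B C₀) - LaurentPolynomial.C (th' B C₀) :
      LaurentPolynomial (AdjoinRoot (p0 B C₀))) := by
  rw [← map_sub]
  exact IsUnit.map _ (th_sub_th'_ne_zero B C₀ hD).isUnit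

theorem Psi_injective (hD : B ^ 2 - 4 * C₀ ≠ 0) (hq : q.IsHomogeneous 2)
    (hu : IsUnit (ev B C₀ q)) : Function.Injective (Psi B C₀ hu) := by
  rw [injective_iff_map_eq_zero]
  intro t ht
  obtain ⟨r₁, r₂, rfl⟩ := exists_decomp B C₀ t
  rw [map_add, Psi_tmul, Psi_tmul, map_one, one_mul] at ht
  have h2 := congrArg (sL B C₀) ht
  rw [map_add, map_mul, sL_iota B C₀ hq hu, sL_iota B C₀ hq hu, sL_C, sig_th, map_zero] at h2
  have h3 : (LaurentPolynomial.C (th B C₀) - LaurentPolynomial.C (th' B C₀)) *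
      iota B C₀ hu r₂ = 0 := by
    linear_combination ht - h2
  have h4 : iota B C₀ hu r₂ = 0 := by
    exact (isUnit_C_th_sub_th' B C₀ hD).mul_right_eq_zero.mp h3
  have h5 : iota B C₀ hu r₁ = 0 := by
    rw [h4, mul_zero, add_zero] at ht
    exact ht
  have e1 : r₁ = 0 := iota_injective B C₀ hD hq hu (by rw [h5, map_zero])
  have e2 : r₂ = 0 := iota_injective B C₀ hD hq hu (by rw [h4, map_zero])
  rw [e1, e2, tmul_zero, tmul_zero, add_zero]

theorem iota_mem_range (hu : IsUnit (ev B C₀ q)) (r : RR q) :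
    iota B C₀ hu r ∈ (Psi B C₀ hu).range :=
  (AlgHom.mem_range _).mpr ⟨1 ⊗ₜ r, by rw [Psi_tmul, map_one, one_mul]⟩

theorem C_mem_range (hu : IsUnit (ev B C₀ q)) (c : AdjoinRoot (p0 B C₀)) :
    LaurentPolynomial.C c ∈ (Psi B C₀ hu).range :=
  (AlgHom.mem_range _).mpr ⟨c ⊗ₜ 1, by rw [Psi_tmul, map_one, mul_one]⟩

theorem exists_vw (hq : q.IsHomogeneous 2) (hu : IsUnit (ev B C₀ q)) :
    ∃ v w : RR q, iota B C₀ hu v * ev B C₀ q = xi B C₀ * eta B C₀ ∧
      iota B C₀ hu w * ev B C₀ q = eta B C₀ ^ 2 := by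
  have hq' : q ∈ homogeneousSubmodule (Fin 2) K 2 := (mem_homogeneousSubmodule 2 q).mpr hq
  have hv : (X 0 * X 1 : MvPolynomial (Fin 2) K) ∈ homogeneousSubmodule (Fin 2) K (1 • 2) := by
    rw [mem_homogeneousSubmodule]
    exact (isHomogeneous_X K 0).mul (isHomogeneous_X K 1)
  have hw : (X 1 ^ 2 : MvPolynomial (Fin 2) K) ∈ homogeneousSubmodule (Fin 2) K (1 • 2) := by
    rw [mem_homogeneousSubmodule]
    exact (isHomogeneous_X K 1).pow 2
  refine ⟨HomogeneousLocalization.Away.mk _ hq' 1 _ hv,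
    HomogeneousLocalization.Away.mk _ hq' 1 _ hw, ?_, ?_⟩
  · have := iota_mk B C₀ hu hq' 1 _ hv
    rw [pow_one, map_mul, ev_X0, ev_X1] at this
    exact this
  · have := iota_mk B C₀ hu hq' 1 _ hw
    rw [pow_one, map_pow, ev_X1] at this
    exact this


theorem T_one_mem_range (hD : B ^ 2 - 4 * C₀ ≠ 0) (hq : q.IsHomogeneous 2)
    (hB : qb q = qa q * B) (hC : qc q = qa q * C₀) (hu : IsUnit (ev B C₀ q)) :
    (T 1 : LaurentPolynomial (AdjoinRoot (p0 B C₀))) ∈ (Psi B C₀ hu).range := by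
  obtain ⟨v, w, hv, hw⟩ := exists_vw B C₀ hq hu
  have hE := ev_q B C₀ hq hB hC
  rw [algebraMap_eq_C] at hE
  obtain ⟨d, hd⟩ := (isUnit_C_th_sub_th' B C₀ hD).exists_right_inv
  have hdm : d ∈ (Psi B C₀ hu).range := by
    have h1 : d = LaurentPolynomial.C ((th B C₀ - th' B C₀)⁻¹) := by
      apply (isUnit_C_th_sub_th' B C₀ hD).mul_left_cancel
      rw [hd, ← map_sub, ← map_mul, mul_inv_cancel₀ (th_sub_th'_ne_zero B C₀ hD), map_one]
    rw [h1]
    exact C_mem_range B C₀ hu _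
  set A : LaurentPolynomial (AdjoinRoot (p0 B C₀)) :=
    LaurentPolynomial.C (algebraMap K (AdjoinRoot (p0 B C₀)) (qa q * (B ^ 2 - 4 * C₀))) with hA
  have key : (T 1 : LaurentPolynomial (AdjoinRoot (p0 B C₀))) =
      1 + d * A * (LaurentPolynomial.C (th B C₀) * iota B C₀ hu w - iota B C₀ hu v) := by
    apply ((isUnit_C_th_sub_th' B C₀ hD).mul (isUnit_T 1)).mul_left_cancel
    unfold xi eta at hv
    unfold eta at hw
    linear_combination (-(A * T 1 * (LaurentPolynomial.C (th B C₀) * iota B C₀ hu w - iota B C₀ hu v))) * hd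
      + (LaurentPolynomial.C (th B C₀) * iota B C₀ hu w - iota B C₀ hu v) * hE
      - LaurentPolynomial.C (th B C₀) * hw + hv
  rw [key]
  exact Subalgebra.add_mem _ (Subalgebra.one_mem _) (Subalgebra.mul_mem _
    (Subalgebra.mul_mem _ hdm (C_mem_range B C₀ hu _))
    (Subalgebra.sub_mem _ (Subalgebra.mul_mem _ (C_mem_range B C₀ hu _) (iota_mem_range B C₀ hu w))
      (iota_mem_range B C₀ hu v)))


theorem T_neg_one_mem_range (hD : B ^ 2 - 4 * C₀ ≠ 0) (hq : q.IsHomogeneous 2)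
    (hB : qb q = qa q * B) (hC : qc q = qa q * C₀) (hu : IsUnit (ev B C₀ q)) :
    (T (-1) : LaurentPolynomial (AdjoinRoot (p0 B C₀))) ∈ (Psi B C₀ hu).range := by
  obtain ⟨v, w, hv, hw⟩ := exists_vw B C₀ hq hu
  have hE := ev_q B C₀ hq hB hC
  rw [algebraMap_eq_C] at hE
  obtain ⟨d, hd⟩ := (isUnit_C_th_sub_th' B C₀ hD).exists_right_inv
  have hdm : d ∈ (Psi B C₀ hu).range := by
    have h1 : d = LaurentPolynomial.C ((th B C₀ - th' B C₀)⁻¹) := by
      apply (isUnit_C_th_sub_th' B C₀ hD).mul_left_cancel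
      rw [hd, ← map_sub, ← map_mul, mul_inv_cancel₀ (th_sub_th'_ne_zero B C₀ hD), map_one]
    rw [h1]
    exact C_mem_range B C₀ hu _
  set A : LaurentPolynomial (AdjoinRoot (p0 B C₀)) :=
    LaurentPolynomial.C (algebraMap K (AdjoinRoot (p0 B C₀)) (qa q * (B ^ 2 - 4 * C₀))) with hA
  have hT : (T (-1) : LaurentPolynomial (AdjoinRoot (p0 B C₀))) * T 1 = 1 :=
    T_neg_one_mul_T_one
  have key : (T (-1) : LaurentPolynomial (AdjoinRoot (p0 B C₀))) =
      1 - d * A * (LaurentPolynomial.C (th' B C₀) * iota B C₀ hu w - iota B C₀ hu v) := by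
    apply ((isUnit_C_th_sub_th' B C₀ hD).mul (isUnit_T 1)).mul_left_cancel
    unfold xi eta at hv
    unfold eta at hw
    linear_combination (LaurentPolynomial.C (th B C₀) - LaurentPolynomial.C (th' B C₀)) * hT
      + (A * T 1 * (LaurentPolynomial.C (th' B C₀) * iota B C₀ hu w - iota B C₀ hu v)) * hd
      - (LaurentPolynomial.C (th' B C₀) * iota B C₀ hu w - iota B C₀ hu v) * hE
      + LaurentPolynomial.C (th' B C₀) * hw - hv
  rw [key]
  exact Subalgebra.sub_mem _ (Subalgebra.one_mem _) (Subalgebra.mul_mem _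
    (Subalgebra.mul_mem _ hdm (C_mem_range B C₀ hu _))
    (Subalgebra.sub_mem _ (Subalgebra.mul_mem _ (C_mem_range B C₀ hu _) (iota_mem_range B C₀ hu w))
      (iota_mem_range B C₀ hu v)))

theorem Psi_surjective (hD : B ^ 2 - 4 * C₀ ≠ 0) (hq : q.IsHomogeneous 2)
    (hB : qb q = qa q * B) (hC : qc q = qa q * C₀) (hu : IsUnit (ev B C₀ q)) :
    Function.Surjective (Psi B C₀ hu) := by
  intro l
  rw [← AlgHom.mem_range]
  induction l using LaurentPolynomial.induction_on' with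
  | add p q hp hq => exact Subalgebra.add_mem _ hp hq
  | C_mul_T n a =>
    apply Subalgebra.mul_mem _ (C_mem_range B C₀ hu a)
    obtain ⟨m, rfl | rfl⟩ := Int.eq_nat_or_neg n
    · have : (T (m : ℤ) : LaurentPolynomial (AdjoinRoot (p0 B C₀))) = T 1 ^ m := by
        rw [T_pow, mul_one]
      rw [this]
      exact Subalgebra.pow_mem _ (T_one_mem_range B C₀ hD hq hB hC hu) m
    · have : (T (-(m : ℤ)) : LaurentPolynomial (AdjoinRoot (p0 B C₀))) = T (-1) ^ m := by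
        rw [T_pow, mul_neg, mul_one]
      rw [this]
      exact Subalgebra.pow_mem _ (T_neg_one_mem_range B C₀ hD hq hB hC hu) m


/-- `K' ⊗ R ≃ K'[T;T⁻¹]` -/
noncomputable def PsiE (hD : B ^ 2 - 4 * C₀ ≠ 0) (hq : q.IsHomogeneous 2)
    (hB : qb q = qa q * B) (hC : qc q = qa q * C₀) (hu : IsUnit (ev B C₀ q)) :
    AdjoinRoot (p0 B C₀) ⊗[K] RR q ≃ₐ[AdjoinRoot (p0 B C₀)]
      LaurentPolynomial (AdjoinRoot (p0 B C₀)) :=
  AlgEquiv.ofBijective (Psi B C₀ hu)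
    ⟨Psi_injective B C₀ hD hq hu, Psi_surjective B C₀ hD hq hB hC hu⟩

theorem PsiE_apply (hD : B ^ 2 - 4 * C₀ ≠ 0) (hq : q.IsHomogeneous 2)
    (hB : qb q = qa q * B) (hC : qc q = qa q * C₀) (hu : IsUnit (ev B C₀ q))
    (t : AdjoinRoot (p0 B C₀) ⊗[K] RR q) :
    PsiE B C₀ hD hq hB hC hu t = Psi B C₀ hu t := rfl

/-- the extension of a `K`-algebra endomorphism of `R` to a `K'`-algebra endomorphism of
`K'[T;T⁻¹]` -/
noncomputable def extL (hD : B ^ 2 - 4 * C₀ ≠ 0) (hq : q.IsHomogeneous 2)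
    (hB : qb q = qa q * B) (hC : qc q = qa q * C₀) (hu : IsUnit (ev B C₀ q))
    (φ : RR q →ₐ[K] RR q) :
    LaurentPolynomial (AdjoinRoot (p0 B C₀)) →ₐ[AdjoinRoot (p0 B C₀)]
      LaurentPolynomial (AdjoinRoot (p0 B C₀)) :=
  ((Psi B C₀ hu).comp (Algebra.TensorProduct.map (AlgHom.id _ _) φ)).comp
    (PsiE B C₀ hD hq hB hC hu).symm.toAlgHom

theorem extL_iota (hD : B ^ 2 - 4 * C₀ ≠ 0) (hq : q.IsHomogeneous 2)
    (hB : qb q = qa q * B) (hC : qc q = qa q * C₀) (hu : IsUnit (ev B C₀ q))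
    (φ : RR q →ₐ[K] RR q) (r : RR q) :
    extL B C₀ hD hq hB hC hu φ (iota B C₀ hu r) = iota B C₀ hu (φ r) := by
  have h1 : iota B C₀ hu r = PsiE B C₀ hD hq hB hC hu (1 ⊗ₜ r) := by
    rw [PsiE_apply, Psi_tmul, map_one, one_mul]
  unfold extL
  rw [h1, AlgHom.comp_apply, AlgHom.comp_apply]
  have h2 : (PsiE B C₀ hD hq hB hC hu).symm.toAlgHom (PsiE B C₀ hD hq hB hC hu (1 ⊗ₜ r)) =
      1 ⊗ₜ r := (PsiE B C₀ hD hq hB hC hu).symm_apply_apply _
  rw [h2, Algebra.TensorProduct.map_tmul, Psi_tmul, AlgHom.id_apply, map_one, one_mul]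

/-- `K'`-algebra maps out of `K'[T;T⁻¹]` are determined by their values on `ι(R)` -/
theorem algHom_ext_iota (hD : B ^ 2 - 4 * C₀ ≠ 0) (hq : q.IsHomogeneous 2)
    (hB : qb q = qa q * B) (hC : qc q = qa q * C₀) (hu : IsUnit (ev B C₀ q))
    (Φ₁ Φ₂ : LaurentPolynomial (AdjoinRoot (p0 B C₀)) →ₐ[AdjoinRoot (p0 B C₀)]
      LaurentPolynomial (AdjoinRoot (p0 B C₀)))
    (h : ∀ r, Φ₁ (iota B C₀ hu r) = Φ₂ (iota B C₀ hu r)) : Φ₁ = Φ₂ := by
  have h1 : Φ₁.comp (Psi B C₀ hu) = Φ₂.comp (Psi B C₀ hu) := by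
    apply Algebra.TensorProduct.ext'
    intro a b
    rw [AlgHom.comp_apply, AlgHom.comp_apply, Psi_tmul, map_mul, map_mul, h]
    congr 1
    have : (LaurentPolynomial.C a : LaurentPolynomial (AdjoinRoot (p0 B C₀))) =
      algebraMap (AdjoinRoot (p0 B C₀)) _ a := rfl
    rw [this, AlgHom.commutes, AlgHom.commutes]
  apply AlgHom.ext
  intro l
  obtain ⟨t, rfl⟩ := Psi_surjective B C₀ hD hq hB hC hu l
  exact AlgHom.congr_fun h1 t

end Psi

end Groth.Agent.H2.PLine
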