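import Mathlib
import Groth.Agent.Lib.Helper2.PLine5

/-! Analysis of algebra endomorphisms of `F[T;T⁻¹]`, and compatibility of the extension `extL`
with the semilinear involution. -/

universe u
open MvPolynomial LaurentPolynomial TensorProduct
attribute [local instance] MvPolynomial.gradedAlgebra
attribute [local instance] Groth.Agent.H2.PLine.algRR
set_option linter.unusedSectionVars false

namespace Groth.Agent.H2.PLine

section LaurentAut
variable {F : Type u} [Field F]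

theorem C_mul_T_inj {a b : F} {n m : ℤ} (ha : a ≠ 0)
    (h : (LaurentPolynomial.C a * T n : F[T;T⁻¹]) = LaurentPolynomial.C b * T m) :
    n = m ∧ a = b := by
  have hb : b ≠ 0 := by
    rintro rfl
    rw [map_zero, zero_mul] at h
    have := congrArg LaurentPolynomial.degree h
    rw [degree_C_mul_T n a ha, degree_zero] at this
    exact WithBot.coe_ne_bot this
  have h1 := congrArg LaurentPolynomial.degree h
  rw [degree_C_mul_T n a ha, degree_C_mul_T m b hb] at h1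
  have h2 : n = m := WithBot.coe_injective h1
  subst h2
  refine ⟨rfl, ?_⟩
  have h3 : (LaurentPolynomial.C a : F[T;T⁻¹]) = LaurentPolynomial.C b :=
    (isUnit_T n).mul_right_cancel h
  have h4 := congrArg (fun l : F[T;T⁻¹] => l.coeff 0) h3
  simpa using h4

theorem map_T_nat (Φ : F[T;T⁻¹] →+* F[T;T⁻¹]) {c : F} {n : ℤ}
    (h : Φ (T 1) = LaurentPolynomial.C c * T n) (k : ℕ) :
    Φ (T (k : ℤ)) = LaurentPolynomial.C (c ^ k) * T (n * k) := by
  induction k with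
  | zero =>
    rw [Nat.cast_zero, T_zero, map_one, pow_zero, map_one, mul_zero, T_zero, mul_one]
  | succ k ih =>
    rw [Nat.cast_succ, T_add, map_mul, ih, h, pow_succ, map_mul, mul_add, mul_one, T_add]
    ring

theorem map_T_int (Φ : F[T;T⁻¹] →+* F[T;T⁻¹]) {c : F} {n : ℤ} (hc : c ≠ 0)
    (h : Φ (T 1) = LaurentPolynomial.C c * T n) (m : ℤ) :
    Φ (T m) = LaurentPolynomial.C (c ^ m) * T (n * m) := by
  obtain ⟨k, rfl | rfl⟩ := Int.eq_nat_or_neg m
  · rw [map_T_nat Φ h k, zpow_natCast]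
  · have hunit : IsUnit (Φ (T (k : ℤ))) := (isUnit_T (k : ℤ)).map Φ
    apply hunit.mul_right_cancel
    rw [← map_mul, ← T_add, neg_add_cancel, T_zero, map_one, map_T_nat Φ h k, zpow_neg,
      zpow_natCast]
    have h1 : (LaurentPolynomial.C (c ^ k)⁻¹ * T (n * -(k : ℤ)) : F[T;T⁻¹]) *
        (LaurentPolynomial.C (c ^ k) * T (n * k)) =
        LaurentPolynomial.C ((c ^ k)⁻¹ * c ^ k) * (T (n * -(k : ℤ)) * T (n * k)) := by
      rw [map_mul]
      ring
    rw [h1, inv_mul_cancel₀ (pow_ne_zero k hc), map_one, one_mul, ← T_add, mul_neg,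
      neg_add_cancel, T_zero]

theorem map_T_int' (Φ : F[T;T⁻¹] →ₐ[F] F[T;T⁻¹]) {c : F} {n : ℤ} (hc : c ≠ 0)
    (h : Φ (T 1) = LaurentPolynomial.C c * T n) (m : ℤ) :
    Φ (T m) = LaurentPolynomial.C (c ^ m) * T (n * m) :=
  map_T_int (Φ : F[T;T⁻¹] →+* F[T;T⁻¹]) hc h m

theorem algHom_C (Φ : F[T;T⁻¹] →ₐ[F] F[T;T⁻¹]) (a : F) :
    Φ (LaurentPolynomial.C a) = LaurentPolynomial.C a := by
  have : (LaurentPolynomial.C a : F[T;T⁻¹]) = algebraMap F _ a := rfl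
  rw [this, AlgHom.commutes]

/-- an invertible algebra endomorphism sends `T` to `c T^{±1}` -/
theorem exists_c_n (Φ Φ' : F[T;T⁻¹] →ₐ[F] F[T;T⁻¹]) (hΦ : ∀ l, Φ' (Φ l) = l) :
    ∃ (c : F) (n : ℤ), c ≠ 0 ∧ (n = 1 ∨ n = -1) ∧ Φ (T 1) = LaurentPolynomial.C c * T n := by
  obtain ⟨c, n, hc, h⟩ := exists_eq_C_mul_T_of_isUnit ((isUnit_T (R := F) 1).map Φ)
  obtain ⟨c', n', hc', h'⟩ := exists_eq_C_mul_T_of_isUnit ((isUnit_T (R := F) 1).map Φ')
  refine ⟨c, n, hc, ?_, h⟩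
  have h1 := hΦ (T 1)
  rw [h, map_mul, algHom_C, map_T_int' Φ' hc' h' n, ← mul_assoc,
    ← map_mul] at h1
  have h2 : (T 1 : F[T;T⁻¹]) = LaurentPolynomial.C 1 * T 1 := by rw [map_one, one_mul]
  rw [h2] at h1
  have h3 := (C_mul_T_inj (mul_ne_zero hc (zpow_ne_zero n hc')) h1).1
  exact (Int.eq_one_or_neg_one_of_mul_eq_one' h3).imp And.right And.right

theorem algHom_ext_T (Φ₁ Φ₂ : F[T;T⁻¹] →ₐ[F] F[T;T⁻¹]) (h : Φ₁ (T 1) = Φ₂ (T 1)) : Φ₁ = Φ₂ := by
  have := ringHom_ext_of_T (Φ₁ : F[T;T⁻¹] →+* F[T;T⁻¹]) (Φ₂ : F[T;T⁻¹] →+* F[T;T⁻¹])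
    (fun c => by
      change Φ₁ (LaurentPolynomial.C c) = Φ₂ (LaurentPolynomial.C c)
      rw [algHom_C, algHom_C]) h
  apply AlgHom.ext
  intro l
  exact RingHom.congr_fun this l

/-- an algebra endomorphism inverting `T` (up to a constant) is an involution -/
theorem comp_self_of_neg (Φ : F[T;T⁻¹] →ₐ[F] F[T;T⁻¹]) {c : F} (hc : c ≠ 0)
    (h : Φ (T 1) = LaurentPolynomial.C c * T (-1)) : Φ.comp Φ = AlgHom.id F _ := by
  apply algHom_ext_T
  rw [AlgHom.comp_apply, h, map_mul, algHom_C,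
    map_T_int' Φ hc h (-1), AlgHom.id_apply, ← mul_assoc, ← map_mul,
    zpow_neg_one, mul_inv_cancel₀ hc, map_one, one_mul]
  norm_num

theorem pow_T_one (Φ : F[T;T⁻¹] →ₐ[F] F[T;T⁻¹]) {c : F}
    (h : Φ (T 1) = LaurentPolynomial.C c * T 1) (m : ℕ) :
    (Φ ^ m) (T 1) = LaurentPolynomial.C (c ^ m) * T 1 := by
  induction m with
  | zero => rw [pow_zero, pow_zero, map_one, one_mul, AlgHom.one_apply]
  | succ m ih =>
    rw [pow_succ, AlgHom.mul_apply, h, map_mul, algHom_C, ih, pow_succ, map_mul]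
    ring

end LaurentAut

section SL
variable {K : Type u} [Field K] (B C₀ : K) [Fact (Irreducible (p0 B C₀))]
  {q : MvPolynomial (Fin 2) K}

theorem sig_sig (x : AdjoinRoot (p0 B C₀)) : sig B C₀ (sig B C₀ x) = x := by
  obtain ⟨k₁, k₂, rfl⟩ := exists_repr B C₀ x
  rw [map_add, map_mul, AlgHom.commutes, AlgHom.commutes, sig_th, map_add, map_mul,
    AlgHom.commutes, AlgHom.commutes, sig_th']

theorem sL_sL (l : LaurentPolynomial (AdjoinRoot (p0 B C₀))) : sL B C₀ (sL B C₀ l) = l := by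
  have := ringHom_ext_of_T ((sL B C₀).comp (sL B C₀)) (RingHom.id _)
    (fun c => by rw [RingHom.comp_apply, sL_C, sL_C, sig_sig, RingHom.id_apply])
    (by rw [RingHom.comp_apply, sL_T, sL_T, neg_neg, RingHom.id_apply])
  exact RingHom.congr_fun this l

/-- the data of the situation -/
structure Setup (B C₀ : K) (q : MvPolynomial (Fin 2) K) : Prop where
  hD : B ^ 2 - 4 * C₀ ≠ 0
  hq : q.IsHomogeneous 2
  hB : qb q = qa q * B
  hC : qc q = qa q * C₀
  ha : qa q ≠ 0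

variable {B C₀}

theorem Setup.hu (S : Setup B C₀ q) : IsUnit (ev B C₀ q) :=
  isUnit_ev_q B C₀ S.hq S.ha S.hB S.hC S.hD

/-- the embedding `R → K'[T;T⁻¹]` -/
noncomputable def io (S : Setup B C₀ q) : RR q →+* LaurentPolynomial (AdjoinRoot (p0 B C₀)) :=
  iota B C₀ S.hu

/-- extension of endomorphisms -/
noncomputable def EL (S : Setup B C₀ q) (φ : RR q →ₐ[K] RR q) :
    LaurentPolynomial (AdjoinRoot (p0 B C₀)) →ₐ[AdjoinRoot (p0 B C₀)]
      LaurentPolynomial (AdjoinRoot (p0 B C₀)) :=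
  extL B C₀ S.hD S.hq S.hB S.hC S.hu φ

theorem EL_io (S : Setup B C₀ q) (φ : RR q →ₐ[K] RR q) (r : RR q) :
    EL S φ (io S r) = io S (φ r) :=
  extL_iota B C₀ S.hD S.hq S.hB S.hC S.hu φ r

theorem EL_ext (S : Setup B C₀ q)
    (Φ₁ Φ₂ : LaurentPolynomial (AdjoinRoot (p0 B C₀)) →ₐ[AdjoinRoot (p0 B C₀)]
      LaurentPolynomial (AdjoinRoot (p0 B C₀)))
    (h : ∀ r, Φ₁ (io S r) = Φ₂ (io S r)) : Φ₁ = Φ₂ :=
  algHom_ext_iota B C₀ S.hD S.hq S.hB S.hC S.hu Φ₁ Φ₂ h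

theorem io_injective (S : Setup B C₀ q) : Function.Injective (io S) :=
  iota_injective B C₀ S.hD S.hq S.hu

theorem sL_io (S : Setup B C₀ q) (r : RR q) : sL B C₀ (io S r) = io S r :=
  sL_iota B C₀ S.hq S.hu r

theorem sL_EL (S : Setup B C₀ q) (φ : RR q →ₐ[K] RR q)
    (l : LaurentPolynomial (AdjoinRoot (p0 B C₀))) :
    sL B C₀ (EL S φ l) = EL S φ (sL B C₀ l) := by
  let Φ' : LaurentPolynomial (AdjoinRoot (p0 B C₀)) →ₐ[AdjoinRoot (p0 B C₀)]
      LaurentPolynomial (AdjoinRoot (p0 B C₀)) :=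
    { (sL B C₀).comp ((EL S φ : LaurentPolynomial (AdjoinRoot (p0 B C₀)) →+*
        LaurentPolynomial (AdjoinRoot (p0 B C₀))).comp (sL B C₀)) with
      commutes' := by
        intro c
        change sL B C₀ (EL S φ (sL B C₀ (LaurentPolynomial.C c))) = LaurentPolynomial.C c
        rw [sL_C, algHom_C, sL_C, sig_sig] }
  have h1 : Φ' = EL S φ := by
    apply EL_ext S
    intro r
    change sL B C₀ (EL S φ (sL B C₀ (io S r))) = _
    rw [sL_io, EL_io, sL_io]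
  have h2 : sL B C₀ (EL S φ (sL B C₀ (sL B C₀ l))) = EL S φ (sL B C₀ l) :=
    AlgHom.congr_fun h1 (sL B C₀ l)
  rw [sL_sL] at h2
  exact h2

theorem sig_eq_inv (Φ : LaurentPolynomial (AdjoinRoot (p0 B C₀)) →ₐ[AdjoinRoot (p0 B C₀)]
      LaurentPolynomial (AdjoinRoot (p0 B C₀)))
    (hcomm : sL B C₀ (Φ (T 1)) = Φ (sL B C₀ (T 1))) {c : AdjoinRoot (p0 B C₀)} {n : ℤ}
    (hc : c ≠ 0) (h : Φ (T 1) = LaurentPolynomial.C c * T n) : sig B C₀ c = c⁻¹ := by
  rw [h, map_mul, sL_C, sL_T, sL_T, map_T_int' Φ hc h (-1), zpow_neg_one, mul_neg_one] at hcomm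
  have hsc : sig B C₀ c ≠ 0 := by
    intro h0
    apply hc
    have := sig_sig B C₀ c
    rw [h0, map_zero] at this
    exact this.symm
  exact (C_mul_T_inj hsc hcomm).2

theorem exists_of_pow_eq_one (hK : ∀ n : ℕ, 0 < n → (Polynomial.X ^ n - 1 : Polynomial K).Splits)
    (c : AdjoinRoot (p0 B C₀)) (m : ℕ) (hm : 0 < m) (hc : c ^ m = 1) :
    ∃ k : K, algebraMap K (AdjoinRoot (p0 B C₀)) k = c := by
  have h0 : (Polynomial.X ^ m - 1 : Polynomial K) ≠ 0 := by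
    have := Polynomial.X_pow_sub_C_ne_zero hm (1 : K)
    rwa [map_one] at this
  have := (hK m hm).mem_range_of_isRoot h0 (i := algebraMap K (AdjoinRoot (p0 B C₀))) (x := c) (by
    rw [Polynomial.IsRoot.def, Polynomial.eval_map]
    simp [hc])
  exact this

end SL

end Groth.Agent.H2.PLine
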