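import Mathlib
import Groth.Agent.Lib.Helper2.PLine6

/-! Finite groups of `K`-automorphisms of `P¹ ∖ {degree-two point}`: exponent two, order ≤ 4. -/

universe u
open MvPolynomial LaurentPolynomial TensorProduct
attribute [local instance] MvPolynomial.gradedAlgebra
attribute [local instance] Groth.Agent.H2.PLine.algRR
set_option linter.unusedSectionVars false

namespace Groth.Agent.H2.PLine

section Grp
variable {K : Type u} [Field K] {B C₀ : K} [Fact (Irreducible (p0 B C₀))]
  {q : MvPolynomial (Fin 2) K}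

/-- `K`-linearity of a ring automorphism -/
def IsLin (g : RR q ≃+* RR q) : Prop := ∀ (k : K) (z : RR q), g (k • z) = k • g z

theorem IsLin.symm {g : RR q ≃+* RR q} (h : IsLin g) : IsLin g.symm := by
  intro k z
  apply g.injective
  rw [h, RingEquiv.apply_symm_apply, RingEquiv.apply_symm_apply]

theorem IsLin.mul {g g' : RR q ≃+* RR q} (h : IsLin g) (h' : IsLin g') : IsLin (g * g') := by
  intro k z
  rw [RingAut.mul_apply, RingAut.mul_apply, h', h]

/-- a `K`-linear ring automorphism as an algebra map -/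
noncomputable def toAlg (g : RR q ≃+* RR q) (h : IsLin g) : RR q →ₐ[K] RR q :=
  { (g : RR q →+* RR q) with
    commutes' := fun k => by
      change g (algebraMap K (RR q) k) = _
      rw [Algebra.algebraMap_eq_smul_one, h, map_one] }

theorem toAlg_apply (g : RR q ≃+* RR q) (h : IsLin g) (r : RR q) : toAlg g h r = g r := rfl

/-- the extension of a `K`-linear ring automorphism to `K'[T;T⁻¹]` -/
noncomputable def EG (S : Setup B C₀ q) (g : RR q ≃+* RR q) (h : IsLin g) :
    LaurentPolynomial (AdjoinRoot (p0 B C₀)) →ₐ[AdjoinRoot (p0 B C₀)]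
      LaurentPolynomial (AdjoinRoot (p0 B C₀)) :=
  EL S (toAlg g h)

theorem EG_io (S : Setup B C₀ q) (g : RR q ≃+* RR q) (h : IsLin g) (r : RR q) :
    EG S g h (io S r) = io S (g r) :=
  EL_io S _ r

theorem EG_mul (S : Setup B C₀ q) (g g' : RR q ≃+* RR q) (h : IsLin g) (h' : IsLin g')
    (l : LaurentPolynomial (AdjoinRoot (p0 B C₀))) :
    EG S (g * g') (h.mul h') l = EG S g h (EG S g' h' l) := by
  have : EG S (g * g') (h.mul h') = (EG S g h).comp (EG S g' h') := by
    apply EL_ext S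
    intro r
    rw [AlgHom.comp_apply, EG_io, EG_io, EG_io, RingAut.mul_apply]
  rw [this, AlgHom.comp_apply]

theorem EG_symm (S : Setup B C₀ q) (g : RR q ≃+* RR q) (h : IsLin g)
    (l : LaurentPolynomial (AdjoinRoot (p0 B C₀))) :
    EG S g.symm h.symm (EG S g h l) = l := by
  have : (EG S g.symm h.symm).comp (EG S g h) = AlgHom.id _ _ := by
    apply EL_ext S
    intro r
    rw [AlgHom.comp_apply, EG_io, EG_io, RingEquiv.symm_apply_apply, AlgHom.id_apply]
  exact AlgHom.congr_fun this l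

theorem EG_pow_io (S : Setup B C₀ q) (g : RR q ≃+* RR q) (h : IsLin g) (m : ℕ) (r : RR q) :
    ((EG S g h) ^ m) (io S r) = io S ((g ^ m) r) := by
  induction m generalizing r with
  | zero => rw [pow_zero, pow_zero, AlgHom.one_apply, RingAut.one_apply]
  | succ m ih => rw [pow_succ, pow_succ, AlgHom.mul_apply, EG_io, ih, RingAut.mul_apply]

theorem EG_T (S : Setup B C₀ q) (g : RR q ≃+* RR q) (h : IsLin g) :
    ∃ (c : AdjoinRoot (p0 B C₀)) (n : ℤ), c ≠ 0 ∧ (n = 1 ∨ n = -1) ∧
      EG S g h (T 1) = LaurentPolynomial.C c * T n ∧ sig B C₀ c = c⁻¹ := by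
  obtain ⟨c, n, hc, hn, hT⟩ := exists_c_n (EG S g h) (EG S g.symm h.symm) (EG_symm S g h)
  exact ⟨c, n, hc, hn, hT, sig_eq_inv (EG S g h) (sL_EL S _ _) hc hT⟩

theorem eq_of_EG_T (S : Setup B C₀ q) (g g' : RR q ≃+* RR q) (h : IsLin g) (h' : IsLin g')
    (e : EG S g h (T 1) = EG S g' h' (T 1)) : g = g' := by
  have := algHom_ext_T _ _ e
  apply RingEquiv.ext
  intro r
  apply io_injective S
  rw [← EG_io S g h, ← EG_io S g' h', this]

theorem one_eq_C_mul_T : (T 1 : LaurentPolynomial (AdjoinRoot (p0 B C₀))) =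
    LaurentPolynomial.C 1 * T 1 := by rw [map_one, one_mul]

/-- for an automorphism of finite order fixing the two geometric punctures, the multiplier is
`± 1` -/
theorem c_mul_self (hK : ∀ n : ℕ, 0 < n → (Polynomial.X ^ n - 1 : Polynomial K).Splits)
    (S : Setup B C₀ q) (g : RR q ≃+* RR q) (h : IsLin g) (m : ℕ) (hm : 0 < m) (hgm : g ^ m = 1)
    {c : AdjoinRoot (p0 B C₀)} (hc : c ≠ 0)
    (hT : EG S g h (T 1) = LaurentPolynomial.C c * T 1) : c * c = 1 := by
  obtain ⟨c', n', hc', -, hT', hsig⟩ := EG_T S g h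
  have hcc : c = c' := by
    rw [hT] at hT'
    exact (C_mul_T_inj hc hT').2
  subst hcc
  have h1 : (EG S g h) ^ m = 1 := by
    apply EL_ext S
    intro r
    rw [EG_pow_io, hgm, RingAut.one_apply, AlgHom.one_apply]
  have h2 := pow_T_one (EG S g h) hT m
  rw [h1, AlgHom.one_apply] at h2
  nth_rewrite 1 [one_eq_C_mul_T] at h2
  have h3 : c ^ m = 1 := ((C_mul_T_inj one_ne_zero h2).2).symm
  obtain ⟨k, rfl⟩ := exists_of_pow_eq_one hK c m hm h3
  rw [AlgHom.commutes] at hsig
  nth_rewrite 2 [hsig]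
  exact mul_inv_cancel₀ hc

theorem sq_eq_one (hK : ∀ n : ℕ, 0 < n → (Polynomial.X ^ n - 1 : Polynomial K).Splits)
    (S : Setup B C₀ q) (g : RR q ≃+* RR q) (h : IsLin g) (m : ℕ) (hm : 0 < m) (hgm : g ^ m = 1) :
    g ^ 2 = 1 := by
  obtain ⟨c, n, hc, hn, hT, -⟩ := EG_T S g h
  have hcomp : (EG S g h).comp (EG S g h) = AlgHom.id _ _ := by
    rcases hn with rfl | rfl
    · have hcc := c_mul_self hK S g h m hm hgm hc hT
      apply algHom_ext_T
      rw [AlgHom.comp_apply, hT, map_mul, algHom_C, hT, ← mul_assoc, ← map_mul, hcc, map_one,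
        one_mul, AlgHom.id_apply]
    · exact comp_self_of_neg _ hc hT
  apply RingEquiv.ext
  intro r
  apply io_injective S
  rw [pow_two, RingAut.mul_apply, ← EG_io S g h, ← EG_io S g h, RingAut.one_apply]
  exact AlgHom.congr_fun hcomp (io S r)

end Grp

end Groth.Agent.H2.PLine
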