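import Mathlib
import Groth.Agent.Lib.Helper2.PLine7

/-! Counting: a finite group of `K`-automorphisms of `P¹ ∖ {degree-two point}` has at most four
elements; the final statement. -/

universe u
open MvPolynomial LaurentPolynomial TensorProduct
attribute [local instance] MvPolynomial.gradedAlgebra
attribute [local instance] Groth.Agent.H2.PLine.algRR
set_option linter.unusedSectionVars false

namespace Groth.Agent.H2.PLine

section Count
variable {K : Type u} [Field K] {B C₀ : K} [Fact (Irreducible (p0 B C₀))]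
  {q : MvPolynomial (Fin 2) K}

theorem exists_pow_eq_one (G : Subgroup (RR q ≃+* RR q)) [Finite G] (g : RR q ≃+* RR q)
    (hg : g ∈ G) : ∃ m : ℕ, 0 < m ∧ g ^ m = 1 := by
  refine ⟨Nat.card G, Nat.card_pos, ?_⟩
  have h1 : (⟨g, hg⟩ : G) ^ Nat.card G = 1 := pow_card_eq_one'
  have h2 := congrArg Subtype.val h1
  rwa [Subgroup.coe_pow, Subgroup.coe_one] at h2

/-- for a finite-order automorphism preserving the punctures, `Φ(T) = ± T` -/
theorem EG_T_of_one (hK : ∀ n : ℕ, 0 < n → (Polynomial.X ^ n - 1 : Polynomial K).Splits)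
    (S : Setup B C₀ q) (g : RR q ≃+* RR q) (h : IsLin g) (m : ℕ) (hm : 0 < m) (hgm : g ^ m = 1)
    {c : AdjoinRoot (p0 B C₀)} (hc : c ≠ 0)
    (hT : EG S g h (T 1) = LaurentPolynomial.C c * T 1) :
    EG S g h (T 1) = T 1 ∨ EG S g h (T 1) = - T 1 := by
  rcases mul_self_eq_one_iff.mp (c_mul_self hK S g h m hm hgm hc hT) with rfl | rfl
  · left
    rw [hT, map_one, one_mul]
  · right
    rw [hT, map_neg, map_one, neg_mul, one_mul]

theorem card_le_four (hK : ∀ n : ℕ, 0 < n → (Polynomial.X ^ n - 1 : Polynomial K).Splits)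
    (S : Setup B C₀ q) (G : Subgroup (RR q ≃+* RR q)) [Finite G] (hG : ∀ g ∈ G, IsLin g) :
    Nat.card G ≤ 4 := by
  classical
  let t : G → LaurentPolynomial (AdjoinRoot (p0 B C₀)) := fun g => EG S g.1 (hG g.1 g.2) (T 1)
  have ht : Function.Injective t := by
    intro g g' e
    exact Subtype.ext (eq_of_EG_T S g.1 g'.1 _ _ e)
  have key : ∃ s : Finset (LaurentPolynomial (AdjoinRoot (p0 B C₀))), s.card ≤ 4 ∧
      ∀ g : G, t g ∈ s := by
    by_cases hex : ∃ (g₀ : G) (c₀ : AdjoinRoot (p0 B C₀)), c₀ ≠ 0 ∧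
        t g₀ = LaurentPolynomial.C c₀ * T (-1)
    · obtain ⟨g₀, c₀, hc₀, hg₀⟩ := hex
      refine ⟨{T 1, - T 1, LaurentPolynomial.C c₀ * T (-1), - (LaurentPolynomial.C c₀ * T (-1))},
        Finset.card_le_four, ?_⟩
      intro g
      obtain ⟨c, n, hc, hn, hT, -⟩ := EG_T S g.1 (hG g.1 g.2)
      rcases hn with rfl | rfl
      · obtain ⟨m, hm, hgm⟩ := exists_pow_eq_one G g.1 g.2
        rcases EG_T_of_one hK S g.1 (hG g.1 g.2) m hm hgm hc hT with h | h
        · simp only [Finset.mem_insert, Finset.mem_singleton]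
          left
          exact h
        · simp only [Finset.mem_insert, Finset.mem_singleton]
          right; left
          exact h
      · -- both `g₀` and `g` swap the punctures
        have hmem : g₀.1 * g.1 ∈ G := G.mul_mem g₀.2 g.2
        have h1 : EG S (g₀.1 * g.1) ((hG g₀.1 g₀.2).mul (hG g.1 g.2)) (T 1) =
            LaurentPolynomial.C (c * c₀⁻¹) * T 1 := by
          rw [EG_mul S g₀.1 g.1 (hG g₀.1 g₀.2) (hG g.1 g.2), hT, map_mul, algHom_C, map_T_int' _ hc₀ hg₀ (-1), zpow_neg_one,
            ← mul_assoc, ← map_mul]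
          norm_num
        obtain ⟨m, hm, hgm⟩ := exists_pow_eq_one G _ hmem
        have h2 := c_mul_self hK S _ _ m hm hgm (mul_ne_zero hc (inv_ne_zero hc₀)) h1
        rcases mul_self_eq_one_iff.mp h2 with h3 | h3
        · have : c = c₀ := by
            field_simp at h3
            exact h3
          simp only [Finset.mem_insert, Finset.mem_singleton]
          right; right; left
          change EG S g.1 (hG g.1 g.2) (T 1) = _
          rw [hT, this]
        · have : c = - c₀ := by
            field_simp at h3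
            exact h3
          simp only [Finset.mem_insert, Finset.mem_singleton]
          right; right; right
          change EG S g.1 (hG g.1 g.2) (T 1) = _
          rw [hT, this, map_neg, neg_mul]
    · refine ⟨{T 1, - T 1}, Finset.card_le_two.trans (by norm_num), ?_⟩
      intro g
      obtain ⟨c, n, hc, hn, hT, -⟩ := EG_T S g.1 (hG g.1 g.2)
      rcases hn with rfl | rfl
      · obtain ⟨m, hm, hgm⟩ := exists_pow_eq_one G g.1 g.2
        rcases EG_T_of_one hK S g.1 (hG g.1 g.2) m hm hgm hc hT with h | h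
        · simp only [Finset.mem_insert, Finset.mem_singleton]
          left
          exact h
        · simp only [Finset.mem_insert, Finset.mem_singleton]
          right
          exact h
      · exact absurd ⟨g, c, hc, hT⟩ hex
  obtain ⟨s, hs, hts⟩ := key
  have h1 : Nat.card G ≤ Nat.card s :=
    Nat.card_le_card_of_injective (fun g => (⟨t g, hts g⟩ : s)) (by
      intro g g' e
      exact ht (congrArg Subtype.val e))
  rw [Nat.card_eq_finsetCard] at h1
  exact h1.trans hs

end Count

section Main

theorem main (K : Type u) [Field K]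
    (hK : ∀ n : ℕ, 0 < n → (Polynomial.X ^ n - 1 : Polynomial K).Splits)
    (q : MvPolynomial (Fin 2) K) (hq : q.IsHomogeneous 2) (hirr : Irreducible q)
    (hdisc : (q.coeff (Finsupp.single 0 1 + Finsupp.single 1 1)) ^ 2 -
      4 * q.coeff (Finsupp.single 0 2) * q.coeff (Finsupp.single 1 2) ≠ 0)
    (G : Subgroup (RR q ≃+* RR q)) [Finite G]
    (hG : ∀ g ∈ G, ∀ (k : K) (z : RR q), g (k • z) = k • g z) :
    (∀ g ∈ G, g ^ 2 = 1) ∧ Nat.card G ≤ 4 := by
  have ha : qa q ≠ 0 := qa_ne_zero hq hirr
  have : Fact (Irreducible (p0 (qb q / qa q) (qc q / qa q))) := ⟨irreducible_p0 hq hirr⟩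
  have hdisc' : qb q ^ 2 - 4 * qa q * qc q ≠ 0 := hdisc
  have S : Setup (qb q / qa q) (qc q / qa q) q :=
    { hD := by
        have : (qb q / qa q) ^ 2 - 4 * (qc q / qa q) =
            (qb q ^ 2 - 4 * qa q * qc q) / (qa q) ^ 2 := by
          field_simp
        rw [this]
        exact div_ne_zero hdisc' (pow_ne_zero 2 ha)
      hq := hq
      hB := by field_simp
      hC := by field_simp
      ha := ha }
  have hG' : ∀ g ∈ G, IsLin g := hG
  refine ⟨?_, card_le_four hK S G hG'⟩
  intro g hg
  obtain ⟨m, hm, hgm⟩ := exists_pow_eq_one G g hg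
  exact sq_eq_one hK S g (hG' g hg) m hm hgm

end Main

end Groth.Agent.H2.PLine
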