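import Mathlib
import Groth.Prelude.Def_PP16

/-!
# Base change of principal parts
-/

noncomputable section

namespace Groth.Agent.H2.PPBase

open scoped TensorProduct
open PP16

attribute [local instance] PP16.mapAlgebra PP16.isScalarTower_mapAlgebra

universe u

variable (n : ℕ) (A B A' B' : Type u) [CommRing A] [CommRing B] [Algebra A B]
    [CommRing A'] [CommRing B'] [Algebra A' B'] [Algebra A A'] [Algebra B B'] [Algebra A B']
    [IsScalarTower A A' B'] [IsScalarTower A B B']

/-- `tensorMap` as a `B`-linear map (first factor structures). -/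
def tmB : B ⊗[A] B →ₗ[B] B' ⊗[A'] B' where
  toFun := tensorMap A B A' B'
  map_add' := map_add _
  map_smul' := by
    intro b x
    rw [Algebra.smul_def, map_mul, RingHom.id_apply, Algebra.smul_def]
    congr 1
    rw [Algebra.TensorProduct.algebraMap_apply, Algebra.TensorProduct.algebraMap_apply,
      tensorMap_tmul, map_one]
    rfl

@[simp] theorem tmB_apply (x : B ⊗[A] B) : tmB A B A' B' x = tensorMap A B A' B' x := rfl

theorem isBaseChange_tmB [Algebra.IsPushout A B A' B'] : IsBaseChange B' (tmB A B A' B') := by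
  have hf0 : IsBaseChange B (TensorProduct.mk A B B 1) := TensorProduct.isBaseChange A B B
  rw [← IsBaseChange.comp_iff hf0]
  have h1 : IsBaseChange A' (IsScalarTower.toAlgHom A B B').toLinearMap :=
    (Algebra.IsPushout.symm (inferInstance : Algebra.IsPushout A B A' B')).out
  have h2 : IsBaseChange B' (TensorProduct.mk A' B' B' 1) := TensorProduct.isBaseChange A' B' B'
  have h3 := IsBaseChange.comp h1 h2
  convert h3 using 1
  ext b
  simp [tensorMap_tmul]


theorem ideal_eq_map [Algebra.IsPushout A B A' B'] :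
    KaehlerDifferential.ideal A' B' =
      (KaehlerDifferential.ideal A B).map (tensorMap A B A' B') := by
  apply le_antisymm _ (ideal_map_tensorMap_le A B A' B')
  rw [← KaehlerDifferential.span_range_eq_ideal, Ideal.span_le]
  rintro _ ⟨b', rfl⟩
  have h1 : IsBaseChange A' (IsScalarTower.toAlgHom A B B').toLinearMap :=
    (Algebra.IsPushout.symm (inferInstance : Algebra.IsPushout A B A' B')).out
  change (1 : B') ⊗ₜ[A'] b' - b' ⊗ₜ[A'] (1 : B') ∈
    (KaehlerDifferential.ideal A B).map (tensorMap A B A' B')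
  induction b' using h1.inductionOn with
  | zero => simp
  | tmul b =>
    have : (1 : B') ⊗ₜ[A'] (IsScalarTower.toAlgHom A B B').toLinearMap b -
        (IsScalarTower.toAlgHom A B B').toLinearMap b ⊗ₜ[A'] (1 : B') =
        tensorMap A B A' B' ((1 : B) ⊗ₜ[A] b - b ⊗ₜ[A] (1 : B)) := by
      rw [map_sub, tensorMap_tmul, tensorMap_tmul, map_one]
      rfl
    rw [this]
    exact Ideal.mem_map_of_mem _ (KaehlerDifferential.one_smul_sub_smul_one_mem_ideal A b)
  | smul a' b' h =>
    have : (1 : B') ⊗ₜ[A'] (a' • b') - (a' • b') ⊗ₜ[A'] (1 : B') =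
        a' • ((1 : B') ⊗ₜ[A'] b' - b' ⊗ₜ[A'] (1 : B')) := by
      rw [smul_sub, TensorProduct.tmul_smul, ← TensorProduct.smul_tmul' a' b' (1 : B')]
    rw [this]
    exact Submodule.smul_of_tower_mem _ a' h
  | add x y hx hy =>
    have : (1 : B') ⊗ₜ[A'] (x + y) - (x + y) ⊗ₜ[A'] (1 : B') =
        ((1 : B') ⊗ₜ[A'] x - x ⊗ₜ[A'] (1 : B')) + ((1 : B') ⊗ₜ[A'] y - y ⊗ₜ[A'] (1 : B')) := by
      rw [TensorProduct.tmul_add, TensorProduct.add_tmul]
      abel
    rw [this]
    exact add_mem hx hy

theorem ideal_pow_eq_map [Algebra.IsPushout A B A' B'] :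
    (KaehlerDifferential.ideal A' B') ^ (n + 1) =
      ((KaehlerDifferential.ideal A B) ^ (n + 1)).map (tensorMap A B A' B') := by
  rw [ideal_eq_map A B A' B', Ideal.map_pow]

/-- The `B`-submodule `I^(n+1)` of `B ⊗ B`. -/
abbrev M₁ : Submodule B (B ⊗[A] B) := ((KaehlerDifferential.ideal A B) ^ (n + 1)).restrictScalars B

/-- The map `B' ⊗_B I^(n+1) → B' ⊗_{A'} B'`. -/
def f' : B' ⊗[B] (M₁ n A B) →ₗ[B'] B' ⊗[A'] B' :=
  LinearMap.liftBaseChange B' ((tmB A B A' B') ∘ₗ (M₁ n A B).subtype)

theorem f'_tmul (b' : B') (x : M₁ n A B) :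
    f' n A B A' B' (b' ⊗ₜ x) = b' • tensorMap A B A' B' (x : B ⊗[A] B) := by
  simp [f']

theorem mul_mem_range_f' [Algebra.IsPushout A B A' B'] (t' : B' ⊗[A'] B')
    (z : B' ⊗[A'] B') (hz : z ∈ LinearMap.range (f' n A B A' B')) :
    t' * z ∈ LinearMap.range (f' n A B A' B') := by
  induction t' using (isBaseChange_tmB A B A' B').inductionOn generalizing z with
  | zero => simp
  | tmul t =>
    obtain ⟨w, rfl⟩ := hz
    induction w using TensorProduct.induction_on with
    | zero => simp
    | add x y hx hy =>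
      rw [map_add, mul_add]
      exact add_mem hx hy
    | tmul b' x =>
      refine ⟨b' ⊗ₜ ⟨t * (x : B ⊗[A] B), Ideal.mul_mem_left _ _ x.2⟩, ?_⟩
      rw [f'_tmul, f'_tmul, tmB_apply, map_mul, mul_smul_comm]
  | smul b' t' h =>
    rw [smul_mul_assoc]
    exact Submodule.smul_mem _ _ (h z hz)
  | add x y hx hy =>
    rw [add_mul]
    exact add_mem (hx z hz) (hy z hz)

theorem range_f' [Algebra.IsPushout A B A' B'] (y : B' ⊗[A'] B') :
    y ∈ LinearMap.range (f' n A B A' B') ↔ y ∈ (KaehlerDifferential.ideal A' B') ^ (n + 1) := by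
  rw [ideal_pow_eq_map n A B A' B']
  constructor
  · rintro ⟨w, rfl⟩
    induction w using TensorProduct.induction_on with
    | zero => simp
    | add x y hx hy =>
      rw [map_add]
      exact add_mem hx hy
    | tmul b' x =>
      rw [f'_tmul]
      exact Submodule.smul_of_tower_mem _ b' (Ideal.mem_map_of_mem _ x.2)
  · intro hy
    rw [Ideal.map] at hy
    induction hy using Submodule.span_induction with
    | mem y hy =>
      obtain ⟨x, hx, rfl⟩ := hy
      refine ⟨1 ⊗ₜ ⟨x, hx⟩, ?_⟩
      rw [f'_tmul, one_smul]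
    | zero => exact zero_mem _
    | add x y _ _ hx hy => exact add_mem hx hy
    | smul t' y _ hy => exact mul_mem_range_f' n A B A' B' t' y hy

theorem main [Algebra.IsPushout A B A' B'] :
    Algebra.IsPushout B (PP16.P n A B) B' (PP16.P n A' B') := by
  apply Algebra.IsPushout.symm
  constructor
  -- h₃ : P → P' as B-linear map
  let g : B ⊗[A] B →ₗ[B] P n A B :=
    (Ideal.Quotient.mkₐ B ((KaehlerDifferential.ideal A B) ^ (n + 1))).toLinearMap
  let g' : B' ⊗[A'] B' →ₗ[B'] P n A' B' :=
    (Ideal.Quotient.mkₐ B' ((KaehlerDifferential.ideal A' B') ^ (n + 1))).toLinearMap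
  refine IsBaseChange.of_right_exact (R := B) B' (TensorProduct.mk B B' (M₁ n A B) 1)
    (tmB A B A' B') _
    (f := (M₁ n A B).subtype) (g := g) (f' := f' n A B A' B') (g' := g')
    ?_ ?_ (TensorProduct.isBaseChange B (M₁ n A B) B') (isBaseChange_tmB A B A' B') ?_ ?_ ?_ ?_
  · ext x
    simp [f'_tmul]
  · ext x
    rfl
  · intro y
    change (Ideal.Quotient.mk _ y = 0) ↔ _
    rw [Ideal.Quotient.eq_zero_iff_mem]
    constructor
    · intro h
      exact ⟨⟨y, h⟩, rfl⟩
    · rintro ⟨x, rfl⟩
      exact x.2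
  · exact Ideal.Quotient.mk_surjective
  · intro y
    change (Ideal.Quotient.mk _ y = 0) ↔ _
    rw [Ideal.Quotient.eq_zero_iff_mem, ← range_f' n A B A' B' y]
    rfl
  · exact Ideal.Quotient.mk_surjective

end Groth.Agent.H2.PPBase
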