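import Mathlib
import Groth.Prelude.Def_PP16
import Groth.Prelude.Def_DiffOp

/-!
# Differential operators and principal parts (universal property)
-/

noncomputable section

namespace Groth.Agent.H2.PPDiff

open scoped TensorProduct
open PP16 Diff16

universe u

variable (n : ℕ) (A B : Type u) [CommRing A] [CommRing B] [Algebra A B]
  (M N : Type u) [AddCommGroup M] [Module A M] [Module B M] [IsScalarTower A B M]
  [AddCommGroup N] [Module A N] [Module B N] [IsScalarTower A B N]

/-- `g_D : B ⊗_A B → Hom_A(M, N)`, `b ⊗ c ↦ (m ↦ b • D (c • m))`. -/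
def g (D : M →ₗ[A] N) : B ⊗[A] B →ₗ[A] (M →ₗ[A] N) :=
  TensorProduct.lift
    { toFun := fun b =>
        { toFun := fun c => ((LinearMap.lsmul B N b).restrictScalars A) ∘ₗ D ∘ₗ
            ((LinearMap.lsmul B M c).restrictScalars A)
          map_add' := fun c c' => by
            ext m; simp [add_smul]
          map_smul' := fun a c => by
            ext m; simp [smul_assoc] }
      map_add' := fun b b' => by
        ext c m; simp [add_smul]
      map_smul' := fun a b => by
        ext c m; simp [smul_assoc] }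

@[simp] theorem g_tmul (D : M →ₗ[A] N) (b c : B) (m : M) :
    g A B M N D (b ⊗ₜ c) m = b • D (c • m) := by
  simp [g]

theorem g_mul_gen (D : M →ₗ[A] N) (b : B) (t : B ⊗[A] B) :
    g A B M N D (t * ((1 : B) ⊗ₜ[A] b - b ⊗ₜ[A] (1 : B))) =
      g A B M N (Diff16.commutator A B M N D b) t := by
  induction t using TensorProduct.induction_on with
  | zero => simp
  | add x y hx hy => rw [add_mul, map_add, map_add, hx, hy]
  | tmul b' c =>
    ext m
    rw [mul_sub, map_sub, Algebra.TensorProduct.tmul_mul_tmul, Algebra.TensorProduct.tmul_mul_tmul,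
      LinearMap.sub_apply, g_tmul, g_tmul, g_tmul]
    simp [Diff16.commutator, mul_smul, smul_sub, mul_comm b' b, smul_comm b b']

theorem g_zero : g A B M N (0 : M →ₗ[A] N) = 0 := by
  apply TensorProduct.ext'
  intro b c
  ext m
  simp

theorem g_vanish_mul (D : M →ₗ[A] N) (J : Ideal (B ⊗[A] B))
    (h : ∀ (b : B), ∀ x ∈ J, g A B M N D (x * ((1 : B) ⊗ₜ[A] b - b ⊗ₜ[A] (1 : B))) = 0) :
    ∀ t ∈ J * KaehlerDifferential.ideal A B, g A B M N D t = 0 := by
  intro t ht
  refine Submodule.mul_induction_on ht ?_ ?_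
  · intro x hx y hy
    rw [← KaehlerDifferential.span_range_eq_ideal] at hy
    induction hy using Submodule.span_induction generalizing x with
    | mem y hy =>
      obtain ⟨b, rfl⟩ := hy
      exact h b x hx
    | zero => simp
    | add y z _ _ hy hz => rw [mul_add, map_add, hy x hx, hz x hx, add_zero]
    | smul s y _ hy =>
      rw [smul_eq_mul, ← mul_assoc]
      exact hy _ (Ideal.mul_mem_right _ _ hx)
  · intro x y hx hy
    rw [map_add, hx, hy, add_zero]

theorem isDiffOpLE_iff (D : M →ₗ[A] N) :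
    IsDiffOpLE A B M N n D ↔
      ∀ t ∈ (KaehlerDifferential.ideal A B) ^ (n + 1), g A B M N D t = 0 := by
  induction n generalizing D with
  | zero =>
    rw [zero_add, pow_one]
    constructor
    · intro h t ht
      have hc : ∀ b : B, Diff16.commutator A B M N D b = 0 := by
        intro b
        ext m
        have := h b m
        simp [Diff16.commutator, this]
      rw [← Ideal.top_mul (KaehlerDifferential.ideal A B)] at ht
      refine g_vanish_mul A B M N D ⊤ ?_ t ht
      intro b x _
      rw [g_mul_gen, hc b, g_zero, LinearMap.zero_apply]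
    · intro h b m
      have h1 := h _ (KaehlerDifferential.one_smul_sub_smul_one_mem_ideal A b)
      have h2 := LinearMap.congr_fun h1 m
      rw [map_sub, LinearMap.sub_apply, g_tmul, g_tmul] at h2
      simpa [sub_eq_zero] using h2
  | succ n ih =>
    constructor
    · intro h t ht
      rw [pow_succ] at ht
      refine g_vanish_mul A B M N D _ ?_ t ht
      intro b x hx
      rw [g_mul_gen]
      exact (ih _).1 (h b) x hx
    · intro h b
      refine (ih _).2 ?_
      intro t ht
      rw [← g_mul_gen]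
      apply h
      rw [pow_succ]
      exact Ideal.mul_mem_mul ht (KaehlerDifferential.one_smul_sub_smul_one_mem_ideal A b)


/-- The class of `t : B ⊗ B` in the synonym `Pr n A B`. -/
def mkPr (t : B ⊗[A] B) : Pr n A B :=
  (show P n A B from Ideal.Quotient.mk ((KaehlerDifferential.ideal A B) ^ (n + 1)) t)

theorem mkPr_surjective : Function.Surjective (mkPr n A B) := by
  intro p
  obtain ⟨t, ht⟩ := Ideal.Quotient.mk_surjective (I := (KaehlerDifferential.ideal A B) ^ (n + 1))
    (show P n A B from p)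
  exact ⟨t, ht⟩

theorem mkPr_zero : mkPr n A B 0 = 0 := rfl

theorem mkPr_add (x y : B ⊗[A] B) : mkPr n A B (x + y) = mkPr n A B x + mkPr n A B y := rfl

theorem mkPr_one : mkPr n A B ((1 : B) ⊗ₜ[A] (1 : B)) = 1 := rfl

theorem mkPr_eq_zero {t : B ⊗[A] B} (ht : t ∈ (KaehlerDifferential.ideal A B) ^ (n + 1)) :
    mkPr n A B t = 0 :=
  Ideal.Quotient.eq_zero_iff_mem.2 ht

theorem smul_mkPr (c : B) (t : B ⊗[A] B) :
    c • mkPr n A B t = mkPr n A B (((1 : B) ⊗ₜ[A] c) * t) := by
  change (Ideal.Quotient.mk _ ((1 : B) ⊗ₜ[A] c) : P n A B) * (Ideal.Quotient.mk _ t : P n A B) =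
    (Ideal.Quotient.mk _ (((1 : B) ⊗ₜ[A] c) * t) : P n A B)
  rw [map_mul]

theorem algebraMap_smul_mkPr (b : B) (t : B ⊗[A] B) :
    algebraMap B (P n A B) b • mkPr n A B t = mkPr n A B ((b ⊗ₜ[A] (1 : B)) * t) := by
  change (Ideal.Quotient.mk _ (b ⊗ₜ[A] (1 : B)) : P n A B) * (Ideal.Quotient.mk _ t : P n A B) =
    (Ideal.Quotient.mk _ ((b ⊗ₜ[A] (1 : B)) * t) : P n A B)
  rw [map_mul]

/-- `mk (b ⊗ c) ⊗ m = algebraMap b • (1 ⊗ c • m)` in `P^n(M)`. -/
theorem mk_tmul_tmul (b c : B) (m : M) :
    (mkPr n A B (b ⊗ₜ[A] c) ⊗ₜ[B] m : PM n A B M) =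
      algebraMap B (P n A B) b • ((1 : Pr n A B) ⊗ₜ[B] (c • m)) := by
  rw [TensorProduct.smul_tmul', ← TensorProduct.smul_tmul, ← mkPr_one,
    algebraMap_smul_mkPr, smul_mkPr, Algebra.TensorProduct.tmul_mul_tmul,
    Algebra.TensorProduct.tmul_mul_tmul, mul_one, mul_one, one_mul, mul_one]

/-- Any `u` with the two properties is computed by `g`. -/
theorem u_eq_g (D : M →ₗ[A] N) (u : PM n A B M →+ N)
    (hu1 : ∀ (b : B) (t : PM n A B M), u (algebraMap B (P n A B) b • t) = b • u t)
    (hu2 : ∀ m : M, u (dM n A B M m) = D m) (t : B ⊗[A] B) (m : M) :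
    u (mkPr n A B t ⊗ₜ[B] m) = g A B M N D t m := by
  induction t using TensorProduct.induction_on with
  | zero =>
    rw [map_zero, mkPr_zero, LinearMap.zero_apply, TensorProduct.zero_tmul, map_zero]
  | add x y hx hy =>
    rw [map_add, mkPr_add, LinearMap.add_apply, ← hx, ← hy, ← map_add, TensorProduct.add_tmul]
  | tmul b c =>
    rw [mk_tmul_tmul, hu1, g_tmul]
    congr 1
    exact hu2 (c • m)

theorem g_mul_left (D : M →ₗ[A] N) (b : B) (t : B ⊗[A] B) (m : M) :
    g A B M N D ((b ⊗ₜ[A] (1 : B)) * t) m = b • g A B M N D t m := by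
  induction t using TensorProduct.induction_on with
  | zero => simp
  | add x y hx hy => rw [mul_add, map_add, map_add, LinearMap.add_apply, LinearMap.add_apply,
      hx, hy, smul_add]
  | tmul b' c =>
    rw [Algebra.TensorProduct.tmul_mul_tmul, g_tmul, g_tmul, one_mul, mul_smul]

theorem g_mul_right (D : M →ₗ[A] N) (c : B) (t : B ⊗[A] B) (m : M) :
    g A B M N D (((1 : B) ⊗ₜ[A] c) * t) m = g A B M N D t (c • m) := by
  induction t using TensorProduct.induction_on with
  | zero => simp
  | add x y hx hy => rw [mul_add, map_add, map_add, LinearMap.add_apply, LinearMap.add_apply,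
      hx, hy]
  | tmul b' c' =>
    rw [Algebra.TensorProduct.tmul_mul_tmul, g_tmul, g_tmul, one_mul, mul_smul,
      smul_comm c c' m]

variable {n A B M N} in
/-- The additive map `P n A B → (M →+ N)` induced by `g` when it kills `I^(n+1)`. -/
def f (D : M →ₗ[A] N)
    (h : ∀ t ∈ (KaehlerDifferential.ideal A B) ^ (n + 1), g A B M N D t = 0) :
    Pr n A B →+ M →+ N :=
  (QuotientAddGroup.lift (((KaehlerDifferential.ideal A B) ^ (n + 1)).toAddSubgroup)
    ((LinearMap.toAddMonoidHom' (M := M) (M₂ := N) (σ₁₂ := RingHom.id A)).comp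
      (g A B M N D).toAddMonoidHom)
    (by
      intro t ht
      rw [AddMonoidHom.mem_ker, AddMonoidHom.comp_apply]
      have := h t ht
      change LinearMap.toAddMonoidHom' (g A B M N D t) = 0
      rw [this, map_zero]) :)

variable {n A B M N} in
theorem f_mk (D : M →ₗ[A] N)
    (h : ∀ t ∈ (KaehlerDifferential.ideal A B) ^ (n + 1), g A B M N D t = 0) (t : B ⊗[A] B) (m : M) :
    f D h (mkPr n A B t) m = g A B M N D t m := rfl

theorem main (D : M →ₗ[A] N) :
    Diff16.IsDiffOpLE A B M N n D ↔
      ∃! u : PP16.PM n A B M →+ N,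
        (∀ (b : B) (t : PP16.PM n A B M), u (algebraMap B (PP16.P n A B) b • t) = b • u t) ∧
          ∀ m : M, u (PP16.dM n A B M m) = D m := by
  rw [isDiffOpLE_iff]
  constructor
  · intro h
    have hf : ∀ (c : B) (p : Pr n A B) (m : M), f D h (c • p) m = f D h p (c • m) := by
      intro c p m
      obtain ⟨t, rfl⟩ := mkPr_surjective n A B p
      rw [smul_mkPr, f_mk, f_mk, g_mul_right]
    refine ⟨TensorProduct.liftAddHom (f D h) hf, ⟨?_, ?_⟩, ?_⟩
    · intro b t
      induction t using TensorProduct.induction_on with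
      | zero => simp
      | add x y hx hy => rw [smul_add, map_add, map_add, hx, hy, smul_add]
      | tmul p m =>
        obtain ⟨t, rfl⟩ := mkPr_surjective n A B p
        rw [TensorProduct.smul_tmul', TensorProduct.liftAddHom_tmul, TensorProduct.liftAddHom_tmul,
          algebraMap_smul_mkPr, f_mk, f_mk, g_mul_left]
    · intro m
      change TensorProduct.liftAddHom (f D h) hf ((1 : Pr n A B) ⊗ₜ[B] m) = D m
      rw [TensorProduct.liftAddHom_tmul, ← mkPr_one, f_mk, g_tmul, one_smul, one_smul]
    · rintro u' ⟨hu1, hu2⟩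
      refine AddMonoidHom.ext fun t => ?_
      induction t using TensorProduct.induction_on with
      | zero => simp
      | add x y hx hy => rw [map_add, map_add, hx, hy]
      | tmul p m =>
        obtain ⟨t, rfl⟩ := mkPr_surjective n A B p
        rw [u_eq_g n A B M N D u' hu1 hu2, TensorProduct.liftAddHom_tmul, f_mk]
  · rintro ⟨u, ⟨hu1, hu2⟩, -⟩ t ht
    ext m
    rw [← u_eq_g n A B M N D u hu1 hu2, LinearMap.zero_apply, mkPr_eq_zero n A B ht,
      TensorProduct.zero_tmul, map_zero]

end Groth.Agent.H2.PPDiff
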