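import Mathlib
import Groth.Agent.Lib.Helper2.SecOrdRef
import Groth.Agent.Lib.Helper2.SecOrdTensor
import Groth.Agent.Lib.Helper2.DepthRes7
import Groth.Agent.Lib.Lead.QC.TensorQC
import Groth.Agent.Lib.Lead.QC.LocFree2

/-! Orders of rational sections of reflexive tensor products; S16090. -/

universe u
set_option autoImplicit false
set_option linter.style.haveILetI false
open CategoryTheory AlgebraicGeometry TopologicalSpace Opposite IsLocalRing WithZero

namespace Groth.Agent.H2.SecOrd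
open Groth.Agent.LD.QC Groth.Agent.H1.StalkGen Groth.Agent.H2.StalkSpec Groth.Agent.H2.OrdBridge
open Groth.Agent.H1.CDivKit

attribute [-instance] Groth.Agent.LD.QC.stalkModule

variable {X : Scheme.{u}}

/-- a module with a local basis has reflexive stalks there -/
theorem isReflexiveAt_of_isBasisOver (L : X.Modules) (U : X.Opens) (e : Γ(L, U))
    (he : IsBasisOver L U e) (x : X) (hxU : x ∈ U) : RefHull.IsReflexiveAt L x := by
  have hb := Groth.Agent.H2.PicCodim2.bijective_toSpanSingleton_germ L U e he x hxU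
  let E := LinearEquiv.ofBijective _ hb
  haveI : Module.Free (X.presheaf.stalk x) (L.presheaf.stalk x) := Module.Free.of_equiv E
  haveI : Module.Finite (X.presheaf.stalk x) (L.presheaf.stalk x) := Module.Finite.equiv E
  change Module.IsReflexive _ _
  infer_instance

/-- a morphism of quasi-coherent modules with bijective stalk maps on `U` is bijective on sections
over opens of `U` -/
theorem bijective_app_of_stalkMap {F G : X.Modules} (φ : F ⟶ G) (hF : F.IsQuasicoherent)
    (hG : G.IsQuasicoherent) (U : X.Opens)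
    (h : ∀ y ∈ U, Function.Bijective (RefHull.stalkMapₗ φ y)) (V : X.Opens) (hV : V ≤ U) :
    Function.Bijective (φ.app V) :=
  Groth.Agent.H2.DepthRes.bijective_app_of_stalks φ U
    (fun y hy => (Groth.Agent.H2.IsoLocus.injective_iff φ y).mp (h y hy).1)
    (fun y hy => (Groth.Agent.H2.IsoLocus.surjective_iff φ hF hG y).mp (h y hy).2) V hV

/-- the biduality map carries local bases to local bases -/
theorem isBasisOver_bidualMap [IsLocallyNoetherian X] (M : X.Modules) (hM : Coh.IsCoh M)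
    (U : X.Opens) (e : Γ(M, U)) (he : IsBasisOver M U e) :
    IsBasisOver (RefHull.ddual M) U ((RefHull.bidualMap M).app U e) := by
  have hbij : ∀ V : X.Opens, V ≤ U → Function.Bijective ((RefHull.bidualMap M).app V) := by
    apply bijective_app_of_stalkMap _ hM.1 (Groth.Agent.H2.HomSh.isCoh_ddual hM).1
    intro y hy
    rw [Groth.Agent.H2.HomSh.stalkMap_bidualMap_bijective_iff hM y]
    exact isReflexiveAt_of_isBasisOver M U e he y hy
  intro V hV
  have h1 := he V hV
  have h2 := hbij V hV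
  have h3 : (fun a : Γ(X, V) => a • (RefHull.ddual M).presheaf.map (homOfLE hV).op
      ((RefHull.bidualMap M).app U e)) =
      (fun m : Γ(M, V) => (RefHull.bidualMap M).app V m) ∘
        (fun a : Γ(X, V) => a • M.presheaf.map (homOfLE hV).op e) := by
    funext a
    rw [Function.comp_apply, Scheme.Modules.Hom.app_smul, app_res]
  rw [h3]
  exact h2.comp h1

/-- a coherent module of generic rank one whose stalk at `x` is free has a basis near `x` -/
theorem exists_isBasisOver_of_free [IsIntegral X] [IsLocallyNoetherian X] (F : X.Modules) (hF : Coh.IsCoh F)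
    (hrk : RefHull.GenInvertible F) (x : X)
    (hfree : Module.Free (X.presheaf.stalk x) (F.presheaf.stalk x)) :
    ∃ (U : X.Opens) (ε : Γ(F, U)), x ∈ U ∧ IsBasisOver F U ε := by
  haveI : F.IsQuasicoherent := hF.1
  have hFP : F.IsFinitePresentation := isFinitePresentation_of_qc_ft F hF.1 hF.2
  have h1 := Groth.Agent.H2.RankStalk.finrank_stalk_eq_one F hrk x
  obtain ⟨V, n, hxV, ⟨e⟩⟩ := exists_restrict_iso_freeMod_of_flat_stalk F hFP x
    (@Module.Flat.of_free _ _ _ _ _ hfree)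
  have hn : n = 1 := by
    rw [← Groth.Agent.H2.RankStalk.finrank_stalk_of_iso_freeMod F V n e x hxV, h1]
  subst hn
  exact ⟨V, _, hxV, isBasisOver_basisOfIso F V (e ≪≫ freeModOneIso _).symm⟩

variable [IsIntegral X] [IsLocallyNoetherian X]

/-- local bases of rank one reflexive modules at the generic point and in codimension one -/
theorem exists_isBasisOver_of_isRef1 (hX : Pi1.IsNormalScheme X) (F : X.Modules)
    (hF : RefHull.IsRef1 F) (x : X) (hx : x = genericPoint X ∨ Order.coheight x = 1) :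
    ∃ (U : X.Opens) (ε : Γ(F, U)), x ∈ U ∧ IsBasisOver F U ε := by
  haveI := hF.1.1
  apply exists_isBasisOver_of_free F hF.1 hF.2.2 x
  rcases hx with rfl | hx
  · letI : Field (X.presheaf.stalk (genericPoint X)) := inferInstanceAs (Field X.functionField)
    exact Module.Free.of_divisionRing _ _
  · obtain ⟨e, he⟩ := exists_generator hX F hF x hx
    haveI := isDVR_stalk hX x hx
    haveI : Module.Finite (X.presheaf.stalk x) (F.presheaf.stalk x) :=
      Groth.Agent.H1.CohLen.finite_stalk F hF.1.2 x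
    haveI : Module.IsReflexive (X.presheaf.stalk x) (F.presheaf.stalk x) :=
      isReflexiveAt_of_isRef1 F hF x
    have h1 := Groth.Agent.H2.RankStalk.finrank_stalk_eq_one F hF.2.2 x
    obtain ⟨E⟩ := Groth.Agent.H2.RankOneUFD.nonempty_equiv_of_isReflexive
      (X.presheaf.stalk x) (F.presheaf.stalk x) h1
    exact Module.Free.of_equiv E.symm

/-- **additivity of orders along a bilinear pairing carrying bases to bases** -/
theorem secOrd_add_of_bases (L N P : X.Modules) [L.IsQuasicoherent] [N.IsQuasicoherent]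
    [P.IsQuasicoherent]
    (μ : ∀ U : X.Opens, Γ(L, U) → Γ(N, U) → Γ(P, U))
    (hμres : ∀ {U V : X.Opens} (h : V ≤ U) (m : Γ(L, U)) (n : Γ(N, U)),
      P.presheaf.map (homOfLE h).op (μ U m n) =
        μ V (L.presheaf.map (homOfLE h).op m) (N.presheaf.map (homOfLE h).op n))
    (hμl : ∀ (U : X.Opens) (a : Γ(X, U)) (m : Γ(L, U)) (n : Γ(N, U)),
      μ U (a • m) n = a • μ U m n)
    (hμr : ∀ (U : X.Opens) (a : Γ(X, U)) (m : Γ(L, U)) (n : Γ(N, U)),
      μ U m (a • n) = a • μ U m n)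
    (hμb : ∀ (U : X.Opens) (m : Γ(L, U)) (n : Γ(N, U)), IsBasisOver L U m → IsBasisOver N U n →
      IsBasisOver P U (μ U m n))
    (hLb : ∀ x : X, (x = genericPoint X ∨ Order.coheight x = 1) →
      ∃ (U : X.Opens) (ε : Γ(L, U)), x ∈ U ∧ IsBasisOver L U ε)
    (hNb : ∀ x : X, (x = genericPoint X ∨ Order.coheight x = 1) →
      ∃ (U : X.Opens) (ε : Γ(N, U)), x ∈ U ∧ IsBasisOver N U ε)
    (s : Cyc.secFibre L (genericPoint X)) (hs : s ≠ 0)
    (t : Cyc.secFibre N (genericPoint X)) (ht : t ≠ 0) :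
    ∃ w : Cyc.secFibre P (genericPoint X), w ≠ 0 ∧
      ∀ x : X, Order.coheight x = 1 →
        Cyc.secOrdAt P (genericPoint X) x (gspec x) w =
          Cyc.secOrdAt L (genericPoint X) x (gspec x) s +
            Cyc.secOrdAt N (genericPoint X) x (gspec x) t := by
  -- bases near the generic point
  obtain ⟨U₁, ε₁, hη₁, hε₁⟩ := hLb (genericPoint X) (Or.inl rfl)
  obtain ⟨U₂, ε₂, hη₂, hε₂⟩ := hNb (genericPoint X) (Or.inl rfl)
  set U₀ := U₁ ⊓ U₂ with hU₀
  have hη₀ : genericPoint X ∈ U₀ := ⟨hη₁, hη₂⟩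
  set ε := L.presheaf.map (homOfLE (inf_le_left : U₀ ≤ U₁)).op ε₁ with hεdef
  set ε' := N.presheaf.map (homOfLE (inf_le_right : U₀ ≤ U₂)).op ε₂ with hε'def
  have hε : IsBasisOver L U₀ ε := hε₁.mono inf_le_left
  have hε' : IsBasisOver N U₀ ε' := hε₂.mono inf_le_right
  obtain ⟨a, hsa⟩ := exists_eq_smul_fibGerm L U₀ ε hε hη₀ s
  obtain ⟨b, htb⟩ := exists_eq_smul_fibGerm N U₀ ε' hε' hη₀ t
  have ha0 : a ≠ 0 := by rintro rfl; exact hs (by rw [hsa, zero_smul])
  have hb0 : b ≠ 0 := by rintro rfl; exact ht (by rw [htb, zero_smul])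
  have hbas := hμb U₀ ε ε' hε hε'
  refine ⟨(a * b) • fibGerm P U₀ hη₀ (μ U₀ ε ε'), ?_, ?_⟩
  · intro h0
    have := smul_cancel _ _ _ (fibGerm_ne_zero _ U₀ _ hbas hη₀) h0
    exact mul_ne_zero ha0 hb0 this
  · intro x hx
    obtain ⟨V₁, δ₁, hx₁, hδ₁⟩ := hLb x (Or.inr hx)
    obtain ⟨V₂, δ₂, hx₂, hδ₂⟩ := hNb x (Or.inr hx)
    set Ux := V₁ ⊓ V₂ with hUx
    have hxU : x ∈ Ux := ⟨hx₁, hx₂⟩
    have hηx : genericPoint X ∈ Ux := (gspec x).mem_open Ux.2 hxU
    set δ := L.presheaf.map (homOfLE (inf_le_left : Ux ≤ V₁)).op δ₁ with hδdef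
    set δ' := N.presheaf.map (homOfLE (inf_le_right : Ux ≤ V₂)).op δ₂ with hδ'def
    have hδ : IsBasisOver L Ux δ := hδ₁.mono inf_le_left
    have hδ' : IsBasisOver N Ux δ' := hδ₂.mono inf_le_right
    set V := U₀ ⊓ Ux with hV
    have hηV : genericPoint X ∈ V := ⟨hη₀, hηx⟩
    obtain ⟨γ, hγ⟩ := (hδ V inf_le_right).2 (L.presheaf.map (homOfLE (inf_le_left : V ≤ U₀)).op ε)
    obtain ⟨γ', hγ'⟩ := (hδ' V inf_le_right).2
      (N.presheaf.map (homOfLE (inf_le_left : V ≤ U₀)).op ε')
    have hγ1 : γ • L.presheaf.map (homOfLE (inf_le_right : V ≤ Ux)).op δ =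
        L.presheaf.map (homOfLE (inf_le_left : V ≤ U₀)).op ε := hγ
    have hγ'1 : γ' • N.presheaf.map (homOfLE (inf_le_right : V ≤ Ux)).op δ' =
        N.presheaf.map (homOfLE (inf_le_left : V ≤ U₀)).op ε' := hγ'
    set c := X.presheaf.germ V (genericPoint X) hηV γ with hc
    set c' := X.presheaf.germ V (genericPoint X) hηV γ' with hc'
    have h1 : fibGerm L U₀ hη₀ ε = c • fibGerm L Ux hηx δ := by
      rw [← fibGerm_res L (inf_le_left : V ≤ U₀) hηV ε, ← hγ1, fibGerm_smul,
        fibGerm_res L (inf_le_right : V ≤ Ux) hηV δ]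
    have h2 : fibGerm N U₀ hη₀ ε' = c' • fibGerm N Ux hηx δ' := by
      rw [← fibGerm_res N (inf_le_left : V ≤ U₀) hηV ε', ← hγ'1, fibGerm_smul,
        fibGerm_res N (inf_le_right : V ≤ Ux) hηV δ']
    have e1 : P.presheaf.map (homOfLE (inf_le_left : V ≤ U₀)).op (μ U₀ ε ε') =
        (γ * γ') • P.presheaf.map (homOfLE (inf_le_right : V ≤ Ux)).op (μ Ux δ δ') := by
      rw [hμres, ← hγ1, ← hγ'1, hμl, hμr, hμres, mul_smul]
    have h3 : fibGerm P U₀ hη₀ (μ U₀ ε ε') = (c * c') • fibGerm P Ux hηx (μ Ux δ δ') := by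
      rw [← fibGerm_res _ (inf_le_left : V ≤ U₀) hηV, e1, fibGerm_smul,
        fibGerm_res _ (inf_le_right : V ≤ Ux) hηV, map_mul]
    have hs' : s = (a * c) • fibGerm L Ux hηx δ := by rw [hsa, h1, smul_smul]
    have ht' : t = (b * c') • fibGerm N Ux hηx δ' := by rw [htb, h2, smul_smul]
    have hw' : (a * b) • fibGerm P U₀ hη₀ (μ U₀ ε ε') =
        ((a * c) * (b * c')) • fibGerm P Ux hηx (μ Ux δ δ') := by
      rw [h3, smul_smul]
      congr 1
      ring
    have hac : a * c ≠ 0 := by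
      intro h0; apply hs; rw [hs', h0, zero_smul]
    have hbc : b * c' ≠ 0 := by
      intro h0; apply ht; rw [ht', h0, zero_smul]
    have hw0 : (a * b) • fibGerm P U₀ hη₀ (μ U₀ ε ε') ≠ 0 := by
      intro h0
      have := smul_cancel _ _ _ (fibGerm_ne_zero _ U₀ _ hbas hη₀) h0
      exact mul_ne_zero ha0 hb0 this
    rw [secOrdAt_of_basis L Ux δ hδ hηx (a * c) s hs hs' x hxU hx,
      secOrdAt_of_basis N Ux δ' hδ' hηx (b * c') t ht ht' x hxU hx,
      secOrdAt_of_basis P Ux _ (hμb Ux δ δ' hδ hδ') hηx ((a * c) * (b * c')) _ hw0 hw'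
        x hxU hx, Scheme.ord_mul hac hbc]

/-- **S16090** -/
theorem s16090 (hX : Pi1.IsNormalScheme X) (F G : X.Modules) (hF : RefHull.IsRef1 F)
    (hG : RefHull.IsRef1 G) (s : Cyc.secFibre F (genericPoint X)) (hs : s ≠ 0)
    (t : Cyc.secFibre G (genericPoint X)) (ht : t ≠ 0) :
    ∃ w : Cyc.secFibre (RefHull.ddual (CohB1.tensorMod F G)) (genericPoint X), w ≠ 0 ∧
      ∀ x : X, Order.coheight x = 1 →
        Cyc.secOrdAt (RefHull.ddual (CohB1.tensorMod F G)) (genericPoint X) x (gspec x) w =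
          Cyc.secOrdAt F (genericPoint X) x (gspec x) s +
            Cyc.secOrdAt G (genericPoint X) x (gspec x) t := by
  haveI := hF.1.1
  haveI := hG.1.1
  have hM : Coh.IsCoh (CohB1.tensorMod F G) :=
    ⟨inferInstance, tensorMod_isFiniteType F G hF.1.2 hG.1.2⟩
  haveI := (Groth.Agent.H2.HomSh.isCoh_ddual hM).1
  apply secOrd_add_of_bases F G (RefHull.ddual (CohB1.tensorMod F G))
    (fun U m n => (RefHull.bidualMap (CohB1.tensorMod F G)).app U (SecTwist.tmul F G U m n))
    ?_ ?_ ?_ ?_ (exists_isBasisOver_of_isRef1 hX F hF) (exists_isBasisOver_of_isRef1 hX G hG)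
    s hs t ht
  · intro U V h m n
    rw [← app_res, tmul_res]
  · intro U a m n
    rw [tmul_smul_left]
    exact Scheme.Modules.Hom.app_smul _ _ _
  · intro U a m n
    rw [tmul_smul_right]
    exact Scheme.Modules.Hom.app_smul _ _ _
  · intro U m n hm hn
    exact isBasisOver_bidualMap _ hM U _ (hm.tmul hn)

end Groth.Agent.H2.SecOrd
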