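import Mathlib
import Groth.Agent.Lib.Helper2.SecOrdHull
import Groth.Agent.Lib.Helper2.RefSch8
import Groth.Agent.Lib.Lead.QC.AmpleIso
import Groth.Agent.Lib.Lead.QC.TensorPow
import Groth.Prelude.Def_PicGrp

/-! The group of rank one reflexive modules; S16085. -/

universe u
set_option autoImplicit false
set_option linter.style.haveILetI false
open CategoryTheory AlgebraicGeometry TopologicalSpace Opposite IsLocalRing WithZero

namespace Groth.Agent.H2.SecOrd
open Groth.Agent.LD.QC Groth.Agent.H1.StalkGen Groth.Agent.H2.StalkSpec Groth.Agent.H2.OrdBridge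
open Groth.Agent.H1.CDivKit

attribute [-instance] Groth.Agent.LD.QC.stalkModule

variable {X : Scheme.{u}} [IsIntegral X] [IsLocallyNoetherian X]

/-- a module with a basis near the generic point is generically invertible -/
theorem genInvertible_of_isBasisOver (H : X.Modules) (U : X.Opens) (ε : Γ(H, U))
    (hε : IsBasisOver H U ε) (hη : genericPoint X ∈ U) : RefHull.GenInvertible H := by
  refine ⟨U, ?_, ?_⟩
  · exact U.2.dense ⟨_, hη⟩
  · exact isInvertible_of_iso (isoOfBasis H U ε hε) (isInvertible_unit U)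

/-- `F` has a nonzero rational section with divisor `d` -/
def HasDiv (F : X.Modules) (d : X → ℤ) : Prop :=
  ∃ s : Cyc.secFibre F (genericPoint X), s ≠ 0 ∧ ∀ x : X, Order.coheight x = 1 →
    Cyc.secOrdAt F (genericPoint X) x (gspec x) s = d x

theorem exists_hasDiv (F : X.Modules) (hF : RefHull.IsRef1 F) : ∃ d : X → ℤ, HasDiv F d := by
  haveI := hF.1.1
  have h1 := Groth.Agent.H2.RankStalk.finrank_stalk_eq_one F hF.2.2 (genericPoint X)
  letI : Field (X.presheaf.stalk (genericPoint X)) := inferInstanceAs (Field X.functionField)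
  obtain ⟨v, hv0, -⟩ := finrank_eq_one_iff'.mp h1
  exact ⟨fun x => Cyc.secOrdAt F (genericPoint X) x (gspec x) (Submodule.Quotient.mk v),
    Submodule.Quotient.mk v, (mk_ne_zero_iff F v).mpr hv0, fun x _ => rfl⟩

theorem iso_of_hasDiv (hX : Pi1.IsNormalScheme X) (F G : X.Modules) (hF : RefHull.IsRef1 F)
    (hG : RefHull.IsRef1 G) (d : X → ℤ) (h1 : HasDiv F d) (h2 : HasDiv G d) :
    Nonempty (F ≅ G) := by
  obtain ⟨s, hs, hsd⟩ := h1
  obtain ⟨t, ht, htd⟩ := h2
  refine (s16086 hX F G hF hG s hs t ht).mpr ⟨1, one_ne_zero, fun x hx => ?_⟩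
  rw [hsd x hx, htd x hx, ord_one, add_zero]

/-- orders of rational sections are preserved by isomorphisms -/
theorem secOrdAt_iso (hX : Pi1.IsNormalScheme X) (F G : X.Modules) (hF : RefHull.IsRef1 F)
    (hG : RefHull.IsRef1 G) (φ : F ≅ G) (s₀ : F.presheaf.stalk (genericPoint X))
    (hs : (Submodule.Quotient.mk s₀ : Cyc.secFibre F (genericPoint X)) ≠ 0)
    (x : X) (hx : Order.coheight x = 1) :
    Cyc.secOrdAt G (genericPoint X) x (gspec x)
        (Submodule.Quotient.mk (RefHull.stalkMapₗ φ.hom (genericPoint X) s₀)) =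
      Cyc.secOrdAt F (genericPoint X) x (gspec x) (Submodule.Quotient.mk s₀) := by
  haveI := hF.1.1
  haveI := hG.1.1
  have hbij := stalkMapₗ_bijective_of_iso φ
  have hs0 := (mk_ne_zero_iff F s₀).mp hs
  have ht : (Submodule.Quotient.mk (RefHull.stalkMapₗ φ.hom (genericPoint X) s₀) :
      Cyc.secFibre G (genericPoint X)) ≠ 0 := by
    rw [mk_ne_zero_iff]
    intro h0
    apply hs0
    apply (hbij _).1
    rw [h0, map_zero]
  obtain ⟨e, he⟩ := exists_generator hX F hF x hx
  obtain ⟨a, ha0, hsa, horda⟩ := exists_coeff F x hx e he s₀ hs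
  have he' : Submodule.span (X.presheaf.stalk x) {RefHull.stalkMapₗ φ.hom x e} = ⊤ := by
    rw [eq_top_iff]
    intro m _
    obtain ⟨m', rfl⟩ := (hbij x).2 m
    obtain ⟨r, rfl⟩ : ∃ r : X.presheaf.stalk x, r • e = m' :=
      Submodule.mem_span_singleton.mp (by rw [he]; trivial)
    rw [map_smul]
    exact Submodule.smul_mem _ _ (Submodule.mem_span_singleton_self _)
  have htb : RefHull.stalkMapₗ φ.hom (genericPoint X) s₀ = a •
      (G.presheaf.stalkSpecializes (gspec x)).hom (RefHull.stalkMapₗ φ.hom x e) := by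
    rw [Groth.Agent.H2.RefSch.spec_stalkMapₗ, ← map_smul, ← hsa]
  rw [horda, secOrdAt_eq G x hx _ ht _ he' a (congrArg Submodule.Quotient.mk htb)]

theorem hasDiv_of_iso (hX : Pi1.IsNormalScheme X) (F G : X.Modules) (hF : RefHull.IsRef1 F)
    (hG : RefHull.IsRef1 G) (φ : F ≅ G) (d : X → ℤ) (h : HasDiv F d) : HasDiv G d := by
  obtain ⟨s, hs, hsd⟩ := h
  obtain ⟨s₀, rfl⟩ := Submodule.Quotient.mk_surjective _ s
  have hbij := stalkMapₗ_bijective_of_iso φ
  have hs0 := (mk_ne_zero_iff F s₀).mp hs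
  refine ⟨Submodule.Quotient.mk (RefHull.stalkMapₗ φ.hom (genericPoint X) s₀), ?_, fun x hx => ?_⟩
  · rw [mk_ne_zero_iff]
    intro h0
    apply hs0
    apply (hbij _).1
    rw [h0, map_zero]
  · rw [secOrdAt_iso hX F G hF hG φ s₀ hs x hx, hsd x hx]

theorem hasDiv_refTensor (hX : Pi1.IsNormalScheme X) (F G : X.Modules) (hF : RefHull.IsRef1 F)
    (hG : RefHull.IsRef1 G) (d e : X → ℤ) (h1 : HasDiv F d) (h2 : HasDiv G e) :
    HasDiv (RefHull.ddual (CohB1.tensorMod F G)) (d + e) := by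
  obtain ⟨s, hs, hsd⟩ := h1
  obtain ⟨t, ht, htd⟩ := h2
  obtain ⟨w, hw, hwd⟩ := s16090 hX F G hF hG s hs t ht
  refine ⟨w, hw, fun x hx => ?_⟩
  rw [hwd x hx, hsd x hx, htd x hx]
  rfl

theorem hasDiv_one : HasDiv (Coh.structureModule X) 0 := by
  have hη : genericPoint X ∈ (⊤ : X.Opens) := trivial
  have hb : IsBasisOver (unitMod X) ⊤ (1 : Γ(X, ⊤)) := isBasisOver_one ⊤
  have hne := fibGerm_ne_zero (unitMod X) ⊤ _ hb hη
  refine ⟨fibGerm (unitMod X) ⊤ hη (1 : Γ(X, ⊤)), hne, fun x hx => ?_⟩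
  rw [secOrdAt_of_basis (unitMod X) ⊤ _ hb hη 1 _ hne (one_smul _ _).symm x trivial hx, ord_one]
  rfl

theorem isRef1_structureModule : RefHull.IsRef1 (Coh.structureModule X) := by
  have hcoh := Groth.Agent.H2.HomSh.isCoh_structureModule X
  refine ⟨hcoh, ?_, ?_⟩
  · exact (Groth.Agent.H2.HomSh.isReflexive_iff_stalk hcoh).mpr
      (fun x => Groth.Agent.H2.RefSch.isReflexiveAt_structureModule x)
  · exact genInvertible_of_isBasisOver (unitMod X) ⊤ (1 : Γ(X, ⊤)) (isBasisOver_one ⊤) trivial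

theorem isRef1_refTensor (hX : Pi1.IsNormalScheme X) (F G : X.Modules) (hF : RefHull.IsRef1 F)
    (hG : RefHull.IsRef1 G) : RefHull.IsRef1 (RefHull.ddual (CohB1.tensorMod F G)) := by
  haveI := hF.1.1
  haveI := hG.1.1
  have hM : Coh.IsCoh (CohB1.tensorMod F G) :=
    ⟨inferInstance, tensorMod_isFiniteType F G hF.1.2 hG.1.2⟩
  have hcoh := Groth.Agent.H2.HomSh.isCoh_ddual hM
  refine ⟨hcoh, ?_, ?_⟩
  · exact (Groth.Agent.H2.HomSh.isReflexive_iff_stalk hcoh).mpr
      (fun x => Groth.Agent.H2.RefSch.isReflexiveAt_ddual _ hM x inferInstance)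
  · obtain ⟨U₁, ε₁, hη₁, hε₁⟩ := exists_isBasisOver_of_isRef1 hX F hF (genericPoint X) (Or.inl rfl)
    obtain ⟨U₂, ε₂, hη₂, hε₂⟩ := exists_isBasisOver_of_isRef1 hX G hG (genericPoint X) (Or.inl rfl)
    have h1 := hε₁.mono (inf_le_left : U₁ ⊓ U₂ ≤ U₁)
    have h2 := hε₂.mono (inf_le_right : U₁ ⊓ U₂ ≤ U₂)
    exact genInvertible_of_isBasisOver _ (U₁ ⊓ U₂) _
      (isBasisOver_bidualMap _ hM _ _ (h1.tmul h2)) ⟨hη₁, hη₂⟩

omit [IsIntegral X] [IsLocallyNoetherian X] in
/-- evaluation of germs of the sheaf Hom commutes with specialization -/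
theorem evalStalk_spec (F G : X.Modules) {x z : X} (h : z ⤳ x)
    (θ : (RefHull.homSh F G).presheaf.stalk x) (m : F.presheaf.stalk x) :
    RefHull.evalStalk F G z (((RefHull.homSh F G).presheaf.stalkSpecializes h).hom θ)
        ((F.presheaf.stalkSpecializes h).hom m) =
      (G.presheaf.stalkSpecializes h).hom (RefHull.evalStalk F G x θ m) := by
  obtain ⟨U₁, hx₁, φ, rfl⟩ := TopCat.Presheaf.exists_germ_eq (RefHull.homSh F G).presheaf θ
  obtain ⟨U₂, hx₂, μ, rfl⟩ := TopCat.Presheaf.exists_germ_eq F.presheaf m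
  obtain ⟨W, hxW, j, n, hn⟩ := RefHull.isLocSect_of_mem φ (U₁ ⊓ U₂) (homOfLE inf_le_left)
    (F.presheaf.map (homOfLE (inf_le_right : U₁ ⊓ U₂ ≤ U₂)).op μ) ⟨x, hx₁, hx₂⟩
  have hzW : z ∈ W := h.mem_open W.2 hxW
  have e1 := hn ⟨x, hxW⟩
  have e2 := hn ⟨z, hzW⟩
  dsimp only at e1 e2
  rw [TopCat.Presheaf.germ_res_apply] at e1 e2
  rw [stalkSpecializes_germ, stalkSpecializes_germ, RefHull.evalStalk_germ, RefHull.evalStalk_germ]
  refine (e2.trans ?_).trans (congrArg (G.presheaf.stalkSpecializes h).hom e1).symm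
  exact (stalkSpecializes_germ G h W hxW n).symm

/-- a coherent module whose stalk at `x` is free on one generator has a basis near `x` -/
theorem exists_isBasisOver_of_generator (F : X.Modules) (hF : Coh.IsCoh F) (x : X)
    (e : F.presheaf.stalk x) (he : Submodule.span (X.presheaf.stalk x) {e} = ⊤)
    (hfree : ∀ a : X.presheaf.stalk x, a • e = 0 → a = 0) :
    ∃ (U : X.Opens) (ε : Γ(F, U)), x ∈ U ∧ IsBasisOver F U ε := by
  haveI : F.IsQuasicoherent := hF.1
  have hFP : F.IsFinitePresentation := isFinitePresentation_of_qc_ft F hF.1 hF.2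
  have hbij : Function.Bijective (LinearMap.toSpanSingleton (X.presheaf.stalk x)
      (F.presheaf.stalk x) e) := by
    constructor
    · rw [injective_iff_map_eq_zero]
      intro a ha
      exact hfree a ha
    · intro m
      exact Submodule.mem_span_singleton.mp (by rw [he]; trivial)
  let E := LinearEquiv.ofBijective _ hbij
  have hfr : Module.Free (X.presheaf.stalk x) (F.presheaf.stalk x) := Module.Free.of_equiv E
  obtain ⟨V, n, hxV, ⟨φ⟩⟩ := exists_restrict_iso_freeMod_of_flat_stalk F hFP x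
    (@Module.Flat.of_free _ _ _ _ _ hfr)
  have hn : n = 1 := by
    rw [← Groth.Agent.H2.RankStalk.finrank_stalk_of_iso_freeMod F V n φ x hxV,
      ← LinearEquiv.finrank_eq E, Module.finrank_self]
  subst hn
  exact ⟨V, _, hxV, isBasisOver_basisOfIso F V (φ ≪≫ freeModOneIso _).symm⟩

/-- the dual generator of the stalk of the dual module -/
theorem exists_dualGen (F : X.Modules) (hF : Coh.IsCoh F) (x : X)
    (e : F.presheaf.stalk x) (he : Submodule.span (X.presheaf.stalk x) {e} = ⊤)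
    (hfree : ∀ a : X.presheaf.stalk x, a • e = 0 → a = 0) :
    ∃ h : (RefHull.dual F).presheaf.stalk x,
      Submodule.span (X.presheaf.stalk x) {h} = ⊤ ∧
      (∀ a : X.presheaf.stalk x, a • h = 0 → a = 0) ∧
      RefHull.evalStalk F (Coh.structureModule X) x h e =
        Groth.Agent.H2.HomSh.unitStalkEquiv x 1 := by
  haveI : F.IsQuasicoherent := hF.1
  have hFP : F.IsFinitePresentation := isFinitePresentation_of_qc_ft F hF.1 hF.2
  have hev := Groth.Agent.H2.HomSh.evalStalk_bijective (G := Coh.structureModule X) hFP x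
  have hbij : Function.Bijective (LinearMap.toSpanSingleton (X.presheaf.stalk x)
      (F.presheaf.stalk x) e) := by
    constructor
    · rw [injective_iff_map_eq_zero]
      intro a ha
      exact hfree a ha
    · intro m
      exact Submodule.mem_span_singleton.mp (by rw [he]; trivial)
  let E := LinearEquiv.ofBijective _ hbij
  have hE1 : E.symm e = 1 := by
    rw [LinearEquiv.symm_apply_eq]
    change e = (1 : X.presheaf.stalk x) • e
    rw [one_smul]
  let u := Groth.Agent.H2.HomSh.unitStalkEquiv x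
  let ev : RefHull.StalkHom F (Coh.structureModule X) x := u.toLinearMap.comp E.symm.toLinearMap
  have hev1 : ev e = u 1 := by
    change u (E.symm e) = u 1
    rw [hE1]
  obtain ⟨h, hh⟩ := hev.2 ev
  have key : ∀ h' : (RefHull.dual F).presheaf.stalk x,
      h' = u.symm (RefHull.evalStalk F (Coh.structureModule X) x h' e) • h := by
    intro h'
    apply hev.1
    apply LinearMap.ext
    intro m
    obtain ⟨r, rfl⟩ : ∃ r : X.presheaf.stalk x, r • e = m :=
      Submodule.mem_span_singleton.mp (by rw [he]; trivial)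
    set c := u.symm (RefHull.evalStalk F (Coh.structureModule X) x h' e) with hc
    have hc' : RefHull.evalStalk F (Coh.structureModule X) x h' e = c • u 1 := by
      rw [← map_smul, smul_eq_mul, mul_one, hc, LinearEquiv.apply_symm_apply]
    have h1 : RefHull.evalStalk F (Coh.structureModule X) x h' (r • e) = r • c • u 1 := by
      rw [map_smul, hc']
    have h2 : RefHull.evalStalk F (Coh.structureModule X) x (c • h) (r • e) = c • r • u 1 := by
      rw [map_smul (RefHull.evalStalk F (Coh.structureModule X) x) c h, LinearMap.smul_apply, hh,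
        map_smul, hev1]
    rw [h1, h2, smul_comm]
  refine ⟨h, ?_, ?_, ?_⟩
  · rw [eq_top_iff]
    intro h' _
    rw [key h']
    exact Submodule.smul_mem _ _ (Submodule.mem_span_singleton_self _)
  · intro a ha
    have h1 : RefHull.evalStalk F (Coh.structureModule X) x (a • h) e = 0 := by
      rw [ha, map_zero, LinearMap.zero_apply]
    rw [map_smul, LinearMap.smul_apply, hh, hev1, ← map_smul, smul_eq_mul, mul_one] at h1
    exact (LinearEquiv.map_eq_zero_iff u).mp h1
  · rw [hh, hev1]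

/-- free generators of the stalks of a rank one reflexive module in codimension one -/
theorem exists_free_generator (hX : Pi1.IsNormalScheme X) (F : X.Modules) (hF : RefHull.IsRef1 F)
    (x : X) (hx : Order.coheight x = 1) :
    ∃ e : F.presheaf.stalk x, Submodule.span (X.presheaf.stalk x) {e} = ⊤ ∧
      ∀ a : X.presheaf.stalk x, a • e = 0 → a = 0 := by
  haveI := hF.1.1
  haveI := isDVR_stalk hX x hx
  haveI : Module.Finite (X.presheaf.stalk x) (F.presheaf.stalk x) :=
    Groth.Agent.H1.CohLen.finite_stalk F hF.1.2 x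
  haveI : Module.IsReflexive (X.presheaf.stalk x) (F.presheaf.stalk x) :=
    isReflexiveAt_of_isRef1 F hF x
  have h1 := Groth.Agent.H2.RankStalk.finrank_stalk_eq_one F hF.2.2 x
  obtain ⟨E⟩ := Groth.Agent.H2.RankOneUFD.nonempty_equiv_of_isReflexive
    (X.presheaf.stalk x) (F.presheaf.stalk x) h1
  refine ⟨E.symm 1, ?_, ?_⟩
  · rw [eq_top_iff]
    intro m _
    rw [Submodule.mem_span_singleton]
    refine ⟨E m, ?_⟩
    rw [← map_smul, smul_eq_mul, mul_one, LinearEquiv.symm_apply_apply]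
  · intro a ha
    rw [← map_smul, smul_eq_mul, mul_one] at ha
    exact (LinearEquiv.map_eq_zero_iff E.symm).mp ha

/-- a nonzero vector of the generic stalk is a free generator -/
theorem generic_free_generator (F : X.Modules) (hF : RefHull.IsRef1 F)
    (s₀ : F.presheaf.stalk (genericPoint X)) (hs0 : s₀ ≠ 0) :
    Submodule.span (X.presheaf.stalk (genericPoint X)) {s₀} = ⊤ ∧
      ∀ a : X.presheaf.stalk (genericPoint X), a • s₀ = 0 → a = 0 := by
  haveI := hF.1.1
  constructor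
  · rw [eq_top_iff]
    intro m _
    obtain ⟨c, rfl⟩ := exists_smul_eq_generic F hF.2.2 s₀ hs0 m
    exact Submodule.smul_mem _ _ (Submodule.mem_span_singleton_self _)
  · intro a ha
    apply smul_left_cancel_generic F s₀ hs0 a 0
    rw [ha, zero_smul]

theorem isRef1_dual (F : X.Modules) (hF : RefHull.IsRef1 F) : RefHull.IsRef1 (RefHull.dual F) := by
  haveI := hF.1.1
  have hcoh := Groth.Agent.H2.HomSh.isCoh_dual hF.1
  refine ⟨hcoh, ?_, ?_⟩
  · exact (Groth.Agent.H2.HomSh.isReflexive_iff_stalk hcoh).mpr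
      (fun x => Groth.Agent.H2.RefSch.isReflexiveAt_homSh F _ hF.1
        (Groth.Agent.H2.HomSh.isCoh_structureModule X) x inferInstance
        (Groth.Agent.H2.RefSch.isReflexiveAt_structureModule x))
  · obtain ⟨d, s, hs, -⟩ := exists_hasDiv F hF
    obtain ⟨s₀, rfl⟩ := Submodule.Quotient.mk_surjective _ s
    have hs0 := (mk_ne_zero_iff F s₀).mp hs
    obtain ⟨he, hfree⟩ := generic_free_generator F hF s₀ hs0
    obtain ⟨h, hh, hhfree, -⟩ := exists_dualGen F hF.1 (genericPoint X) s₀ he hfree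
    obtain ⟨U, ε, hηU, hε⟩ := exists_isBasisOver_of_generator _ hcoh (genericPoint X) h hh hhfree
    exact genInvertible_of_isBasisOver _ U ε hε hηU

theorem hasDiv_dual (hX : Pi1.IsNormalScheme X) (F : X.Modules) (hF : RefHull.IsRef1 F)
    (d : X → ℤ) (hd : HasDiv F d) : HasDiv (RefHull.dual F) (-d) := by
  haveI := hF.1.1
  have hcoh := Groth.Agent.H2.HomSh.isCoh_dual hF.1
  haveI := hcoh.1
  have hFP : F.IsFinitePresentation := isFinitePresentation_of_qc_ft F hF.1.1 hF.1.2
  obtain ⟨s, hs, hsd⟩ := hd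
  obtain ⟨s₀, rfl⟩ := Submodule.Quotient.mk_surjective _ s
  have hs0 := (mk_ne_zero_iff F s₀).mp hs
  obtain ⟨he, hfree⟩ := generic_free_generator F hF s₀ hs0
  obtain ⟨σ, hσspan, hσfree, hσev⟩ := exists_dualGen F hF.1 (genericPoint X) s₀ he hfree
  have hσ0 : σ ≠ 0 := by
    rintro rfl
    have := hσfree 1 (smul_zero _)
    exact one_ne_zero this
  have hσ : (Submodule.Quotient.mk σ : Cyc.secFibre (RefHull.dual F) (genericPoint X)) ≠ 0 :=
    (mk_ne_zero_iff _ σ).mpr hσ0
  refine ⟨Submodule.Quotient.mk σ, hσ, fun x hx => ?_⟩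
  obtain ⟨e, hespan, hefree⟩ := exists_free_generator hX F hF x hx
  obtain ⟨a, ha0, hsa, horda⟩ := exists_coeff F x hx e hespan s₀ hs
  obtain ⟨h, hhspan, -, hhev⟩ := exists_dualGen F hF.1 x e hespan hefree
  have hevη := Groth.Agent.H2.HomSh.evalStalk_bijective (G := Coh.structureModule X) hFP
    (genericPoint X)
  have key : σ = a⁻¹ • ((RefHull.dual F).presheaf.stalkSpecializes (gspec x)).hom h := by
    apply hevη.1
    apply LinearMap.ext
    intro m
    obtain ⟨c, rfl⟩ := exists_smul_eq_generic F hF.2.2 s₀ hs0 m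
    rw [map_smul, map_smul, hσev,
      map_smul (RefHull.evalStalk F (Coh.structureModule X) (genericPoint X)) a⁻¹,
      LinearMap.smul_apply]
    congr 1
    rw [hsa, map_smul, evalStalk_spec, hhev, smul_smul, inv_mul_cancel₀ ha0, one_smul]
    change Groth.Agent.H2.HomSh.unitStalkEquiv (genericPoint X) 1 =
      ((Coh.structureModule X).presheaf.stalkSpecializes (gspec x)).hom
        (Groth.Agent.H2.HomSh.unitStalkEquiv x 1)
    unfold Groth.Agent.H2.HomSh.unitStalkEquiv
    rw [LinearEquiv.ofBijective_apply, LinearEquiv.ofBijective_apply,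
      LinearMap.toSpanSingleton_apply, LinearMap.toSpanSingleton_apply, one_smul, one_smul,
      stalkSpecializes_germ]
  rw [secOrdAt_eq (RefHull.dual F) x hx _ hσ h hhspan a⁻¹ (congrArg Submodule.Quotient.mk key),
    ord_inv x a ha0, ← horda, hsd x hx]
  rfl

/-- isomorphism classes of rank one coherent reflexive modules -/
abbrev RCl (X : Scheme.{u}) : Type (u + 1) :=
  {c : PicF.Cl X // ∃ F : X.Modules, PicF.cl F = c ∧ RefHull.IsRef1 F}

/-- a representative -/
noncomputable def rep (a : RCl X) : X.Modules := a.2.choose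

omit [IsIntegral X] [IsLocallyNoetherian X] in
theorem rep_cl (a : RCl X) : PicF.cl (rep a) = a.1 := a.2.choose_spec.1

omit [IsIntegral X] [IsLocallyNoetherian X] in
theorem rep_isRef1 (a : RCl X) : RefHull.IsRef1 (rep a) := a.2.choose_spec.2

/-- the class `a` has divisor `d` -/
def HasDivCl (a : RCl X) (d : X → ℤ) : Prop :=
  ∃ F : X.Modules, PicF.cl F = a.1 ∧ RefHull.IsRef1 F ∧ HasDiv F d

theorem hasDiv_rep (hX : Pi1.IsNormalScheme X) (a : RCl X) (d : X → ℤ) (h : HasDivCl a d) :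
    HasDiv (rep a) d := by
  obtain ⟨F, hcl, hF, hd⟩ := h
  have h1 : PicF.cl F = PicF.cl (rep a) := by rw [hcl, rep_cl]
  obtain ⟨φ⟩ := (PicGrp.cl_eq_cl_iff _ _).mp h1
  exact hasDiv_of_iso hX F (rep a) hF (rep_isRef1 a) φ d hd

theorem exists_hasDivCl (a : RCl X) : ∃ d : X → ℤ, HasDivCl a d := by
  obtain ⟨d, hd⟩ := exists_hasDiv (rep a) (rep_isRef1 a)
  exact ⟨d, rep a, rep_cl a, rep_isRef1 a, hd⟩

theorem eq_of_hasDivCl (hX : Pi1.IsNormalScheme X) (a b : RCl X) (d : X → ℤ)
    (ha : HasDivCl a d) (hb : HasDivCl b d) : a = b := by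
  obtain ⟨F, hclF, hF, hdF⟩ := ha
  obtain ⟨G, hclG, hG, hdG⟩ := hb
  apply Subtype.ext
  rw [← hclF, ← hclG, PicGrp.cl_eq_cl_iff]
  exact iso_of_hasDiv hX F G hF hG d hdF hdG

/-- the product of classes -/
noncomputable def mulR (hX : Pi1.IsNormalScheme X) (a b : RCl X) : RCl X :=
  ⟨PicF.cl (RefHull.ddual (CohB1.tensorMod (rep a) (rep b))), _, rfl,
    isRef1_refTensor hX _ _ (rep_isRef1 a) (rep_isRef1 b)⟩

/-- the unit class -/
noncomputable def oneR : RCl X :=
  ⟨PicF.cl (Coh.structureModule X), _, rfl, isRef1_structureModule⟩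

/-- the inverse class -/
noncomputable def invR (a : RCl X) : RCl X :=
  ⟨PicF.cl (RefHull.dual (rep a)), _, rfl, isRef1_dual _ (rep_isRef1 a)⟩

theorem hasDivCl_mul (hX : Pi1.IsNormalScheme X) (a b : RCl X) (d e : X → ℤ)
    (ha : HasDivCl a d) (hb : HasDivCl b e) : HasDivCl (mulR hX a b) (d + e) :=
  ⟨_, rfl, isRef1_refTensor hX _ _ (rep_isRef1 a) (rep_isRef1 b),
    hasDiv_refTensor hX _ _ (rep_isRef1 a) (rep_isRef1 b) d e (hasDiv_rep hX a d ha)
      (hasDiv_rep hX b e hb)⟩

theorem hasDivCl_one : HasDivCl (oneR : RCl X) 0 :=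
  ⟨_, rfl, isRef1_structureModule, hasDiv_one⟩

theorem hasDivCl_inv (hX : Pi1.IsNormalScheme X) (a : RCl X) (d : X → ℤ) (ha : HasDivCl a d) :
    HasDivCl (invR a) (-d) :=
  ⟨_, rfl, isRef1_dual _ (rep_isRef1 a), hasDiv_dual hX _ (rep_isRef1 a) d (hasDiv_rep hX a d ha)⟩

/-- **S16085** -/
theorem s16085 (hX : Pi1.IsNormalScheme X) :
    ∃ (mul : RCl X → RCl X → RCl X) (one : RCl X) (inv : RCl X → RCl X),
      (∀ a b, mul a b = mul b a) ∧ (∀ a b c, mul (mul a b) c = mul a (mul b c)) ∧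
        (∀ a, mul one a = a) ∧ (∀ a, mul (inv a) a = one) ∧
        (∀ (F G : X.Modules) (hF : RefHull.IsRef1 F) (hG : RefHull.IsRef1 G),
          (mul ⟨PicF.cl F, F, rfl, hF⟩ ⟨PicF.cl G, G, rfl, hG⟩).1 =
            PicF.cl (RefHull.ddual (CohB1.tensorMod F G))) ∧
        one.1 = PicF.cl (Coh.structureModule X) ∧
        (∀ (F : X.Modules) (hF : RefHull.IsRef1 F),
          (inv ⟨PicF.cl F, F, rfl, hF⟩).1 = PicF.cl (RefHull.dual F)) := by
  refine ⟨mulR hX, oneR, invR, ?_, ?_, ?_, ?_, ?_, rfl, ?_⟩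
  · intro a b
    obtain ⟨d, hd⟩ := exists_hasDivCl a
    obtain ⟨e, he⟩ := exists_hasDivCl b
    apply eq_of_hasDivCl hX _ _ (d + e) (hasDivCl_mul hX a b d e hd he)
    rw [add_comm]
    exact hasDivCl_mul hX b a e d he hd
  · intro a b c
    obtain ⟨d, hd⟩ := exists_hasDivCl a
    obtain ⟨e, he⟩ := exists_hasDivCl b
    obtain ⟨f, hf⟩ := exists_hasDivCl c
    apply eq_of_hasDivCl hX _ _ (d + e + f)
      (hasDivCl_mul hX _ c _ f (hasDivCl_mul hX a b d e hd he) hf)
    rw [add_assoc]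
    exact hasDivCl_mul hX a _ d _ hd (hasDivCl_mul hX b c e f he hf)
  · intro a
    obtain ⟨d, hd⟩ := exists_hasDivCl a
    apply eq_of_hasDivCl hX _ _ d _ hd
    have := hasDivCl_mul hX oneR a 0 d hasDivCl_one hd
    rwa [zero_add] at this
  · intro a
    obtain ⟨d, hd⟩ := exists_hasDivCl a
    apply eq_of_hasDivCl hX _ _ 0 _ hasDivCl_one
    have := hasDivCl_mul hX (invR a) a (-d) d (hasDivCl_inv hX a d hd) hd
    rwa [neg_add_cancel] at this
  · intro F G hF hG
    obtain ⟨d, hd⟩ := exists_hasDiv F hF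
    obtain ⟨e, he⟩ := exists_hasDiv G hG
    have h1 : HasDivCl (mulR hX ⟨PicF.cl F, F, rfl, hF⟩ ⟨PicF.cl G, G, rfl, hG⟩) (d + e) :=
      hasDivCl_mul hX _ _ d e ⟨F, rfl, hF, hd⟩ ⟨G, rfl, hG, he⟩
    have h2 : HasDivCl (⟨PicF.cl (RefHull.ddual (CohB1.tensorMod F G)), _, rfl,
        isRef1_refTensor hX F G hF hG⟩ : RCl X) (d + e) :=
      ⟨_, rfl, isRef1_refTensor hX F G hF hG, hasDiv_refTensor hX F G hF hG d e hd he⟩
    exact congrArg Subtype.val (eq_of_hasDivCl hX _ _ (d + e) h1 h2)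
  · intro F hF
    obtain ⟨d, hd⟩ := exists_hasDiv F hF
    have h1 : HasDivCl (invR ⟨PicF.cl F, F, rfl, hF⟩) (-d) :=
      hasDivCl_inv hX _ d ⟨F, rfl, hF, hd⟩
    have h2 : HasDivCl (⟨PicF.cl (RefHull.dual F), _, rfl, isRef1_dual F hF⟩ : RCl X) (-d) :=
      ⟨_, rfl, isRef1_dual F hF, hasDiv_dual hX F hF d hd⟩
    exact congrArg Subtype.val (eq_of_hasDivCl hX _ _ (-d) h1 h2)

end Groth.Agent.H2.SecOrd
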