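import Mathlib
import Groth.Agent.Lib.Lead.QC.IdealMod
import Groth.Agent.Lib.Lead.QC.Stalk

/-! The ideal sheaf of an effective, locally finite Weil divisor (towards S16087, S5105). -/

universe u
set_option autoImplicit false
set_option linter.style.haveILetI false
open CategoryTheory AlgebraicGeometry TopologicalSpace Opposite IsLocalRing

namespace Groth.Agent.H2.Weil
open Groth.Agent.LD.QC

variable {X : Scheme.{u}}

/-- functions vanishing to order at least `D z` along every codimension-one point `z` of `U` -/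
noncomputable def pointIdeal (D : X → ℕ) (U : X.Opens) : Ideal Γ(X, U) :=
  ⨅ z : {z : X // z ∈ U ∧ Order.coheight z = 1},
    Ideal.comap (X.presheaf.germ U z.1 z.2.1).hom (maximalIdeal (X.presheaf.stalk z.1) ^ D z.1)

theorem mem_pointIdeal (D : X → ℕ) (U : X.Opens) (f : Γ(X, U)) :
    f ∈ pointIdeal D U ↔ ∀ (z : X) (hz : z ∈ U), Order.coheight z = 1 →
      X.presheaf.germ U z hz f ∈ maximalIdeal (X.presheaf.stalk z) ^ D z := by
  unfold pointIdeal
  rw [Ideal.mem_iInf]
  constructor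
  · intro h z hz hco
    exact h ⟨z, hz, hco⟩
  · intro h z
    exact h z.1 z.2.1 z.2.2

/-- a locally finite function is bounded on quasi-compact opens -/
theorem exists_bound (D : X → ℕ)
    (hD : ∀ x : X, ∃ W : X.Opens, x ∈ W ∧ {z : X | z ∈ W ∧ D z ≠ 0}.Finite)
    (U : X.Opens) (hU : IsCompact (U : Set X)) : ∃ N : ℕ, ∀ z ∈ U, D z ≤ N := by
  choose W hxW hfin using hD
  obtain ⟨t, ht⟩ := hU.elim_finite_subcover (fun x : X => (W x : Set X)) (fun x => (W x).2)
    (fun x _ => Set.mem_iUnion.mpr ⟨x, hxW x⟩)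
  have hfinU : {z : X | z ∈ U ∧ D z ≠ 0}.Finite := by
    apply Set.Finite.subset (t.finite_toSet.biUnion (fun x _ => hfin x))
    rintro z ⟨hzU, hz0⟩
    obtain ⟨x, hxt, hzx⟩ := Set.mem_iUnion₂.mp (ht hzU)
    exact Set.mem_iUnion₂.mpr ⟨x, hxt, hzx, hz0⟩
  obtain ⟨N, hN⟩ := (hfinU.image D).bddAbove
  refine ⟨N, fun z hz => ?_⟩
  by_cases h0 : D z = 0
  · rw [h0]; exact Nat.zero_le _
  · exact hN ⟨z, ⟨hz, h0⟩, rfl⟩

theorem map_pointIdeal_basicOpen (D : X → ℕ)
    (hD : ∀ x : X, ∃ W : X.Opens, x ∈ W ∧ {z : X | z ∈ W ∧ D z ≠ 0}.Finite)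
    (U : X.affineOpens) (f : Γ(X, U.1)) :
    (pointIdeal D U.1).map (X.presheaf.map (homOfLE (X.basicOpen_le f)).op).hom =
      pointIdeal D (X.basicOpen f) := by
  have hUaff : IsAffineOpen U.1 := U.2
  apply le_antisymm
  · rw [Ideal.map_le_iff_le_comap]
    intro a ha
    rw [Ideal.mem_comap, mem_pointIdeal]
    intro z hz hco
    rw [mem_pointIdeal] at ha
    have := ha z (X.basicOpen_le f hz) hco
    rwa [← sgerm_res z (X.basicOpen_le f) hz a] at this
  · intro g hg
    rw [mem_pointIdeal] at hg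
    haveI : IsLocalization.Away f Γ(X, X.basicOpen f) := hUaff.isLocalization_basicOpen f
    obtain ⟨n, a, hna⟩ := IsLocalization.Away.surj f g
    obtain ⟨N, hN⟩ := exists_bound D hD U.1 hUaff.isCompact
    set ρ := (X.presheaf.map (homOfLE (X.basicOpen_le f)).op).hom with hρ
    have hna' : g * ρ f ^ n = ρ a := hna
    have hb : a * f ^ N ∈ pointIdeal D U.1 := by
      rw [mem_pointIdeal]
      intro z hz hco
      by_cases hzf : z ∈ X.basicOpen f
      · have h1 : X.presheaf.germ U.1 z hz (a * f ^ N) =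
            X.presheaf.germ (X.basicOpen f) z hzf (g * ρ f ^ n * ρ f ^ N) := by
          rw [hna', ← map_pow, ← map_mul, hρ]
          exact (sgerm_res z (X.basicOpen_le f) hzf (a * f ^ N)).symm
        rw [h1, mul_assoc, map_mul]
        exact Ideal.mul_mem_right _ _ (hg z hzf hco)
      · have hnu : ¬ IsUnit (X.presheaf.germ U.1 z hz f) := fun h =>
          hzf ((X.mem_basicOpen f z hz).mpr h)
        have hm : X.presheaf.germ U.1 z hz f ∈ maximalIdeal (X.presheaf.stalk z) :=
          (IsLocalRing.mem_maximalIdeal _).mpr hnu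
        rw [map_mul, map_pow]
        apply Ideal.mul_mem_left
        exact Ideal.pow_le_pow_right (hN z hz) (Ideal.pow_mem_pow hm N)
    have hu : IsUnit (ρ f) := by
      have := IsLocalization.Away.algebraMap_isUnit (S := Γ(X, X.basicOpen f)) f
      exact this
    have hg' : g = ρ (a * f ^ N) * ((hu.unit ^ (n + N))⁻¹ : (Γ(X, X.basicOpen f))ˣ) := by
      rw [Units.eq_mul_inv_iff_mul_eq, Units.val_pow_eq_pow_val, IsUnit.unit_spec, map_mul,
        map_pow, ← hna', pow_add, mul_assoc]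
    rw [hg']
    exact Ideal.mul_mem_right _ _ (Ideal.mem_map_of_mem _ hb)

/-- the ideal sheaf of an effective locally finite Weil divisor -/
noncomputable def weilIdeal (D : X → ℕ)
    (hD : ∀ x : X, ∃ W : X.Opens, x ∈ W ∧ {z : X | z ∈ W ∧ D z ≠ 0}.Finite) :
    X.IdealSheafData where
  ideal U := pointIdeal D U.1
  map_ideal_basicOpen U f := map_pointIdeal_basicOpen D hD U f

theorem weilIdeal_ideal (D : X → ℕ)
    (hD : ∀ x : X, ∃ W : X.Opens, x ∈ W ∧ {z : X | z ∈ W ∧ D z ≠ 0}.Finite) (U : X.affineOpens) :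
    (weilIdeal D hD).ideal U = pointIdeal D U.1 := rfl

end Groth.Agent.H2.Weil
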