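import Mathlib
import Groth.Agent.Lib.Helper2.WeilIdeal
import Groth.Agent.Lib.Helper2.SecOrdGroup
import Groth.Agent.Lib.Lead.QC.GlobGen
import Groth.Agent.Lib.Lead.QC.SuppSES
import Groth.Agent.Lib.Helper1.CDivKit6

/-! Stalks of the ideal module of an effective Weil divisor (towards S16087, S5105). -/

universe u
set_option autoImplicit false
set_option linter.style.haveILetI false
open CategoryTheory AlgebraicGeometry TopologicalSpace Opposite IsLocalRing

namespace Groth.Agent.H2.Weil
open Groth.Agent.LD.QC Groth.Agent.H2.StalkSpec Groth.Agent.H2.SecOrd Groth.Agent.H2.OrdBridge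
open Groth.Agent.H2.HomSh

attribute [-instance] Groth.Agent.LD.QC.stalkModule

variable {X : Scheme.{u}}

/-- the module germ of a function is the image of its ring germ -/
theorem unitStalkEquiv_germ (V : X.Opens) (x : X) (hx : x ∈ V) (α : Γ(X, V)) :
    unitStalkEquiv x (X.presheaf.germ V x hx α) = (unitMod X).presheaf.germ V x hx α := by
  unfold unitStalkEquiv
  rw [LinearEquiv.ofBijective_apply, LinearMap.toSpanSingleton_apply,
    ← germ_res (unitMod X) x (le_top : V ≤ ⊤) hx (1 : Γ(X, ⊤)), ← Mero.germ_smul]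
  congr 1
  have h1 : (X.presheaf.map (homOfLE (le_top : V ≤ ⊤)).op).hom (1 : Γ(X, ⊤)) = 1 := map_one _
  change α * (X.presheaf.map (homOfLE le_top).op).hom 1 = α
  exact (congrArg (fun w => α * w) h1).trans (mul_one α)

theorem unitStalkEquiv_spec {x z : X} (h : z ⤳ x) (a : X.presheaf.stalk x) :
    ((unitMod X).presheaf.stalkSpecializes h).hom (unitStalkEquiv x a) =
      unitStalkEquiv z ((X.presheaf.stalkSpecializes h).hom a) := by
  obtain ⟨V, hxV, α, rfl⟩ := TopCat.Presheaf.exists_germ_eq X.presheaf a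
  rw [unitStalkEquiv_germ, stalkSpecializes_germ, stalkSpecializes_sgerm, unitStalkEquiv_germ]

theorem stalkSpecializes_refl (x : X) (a : X.presheaf.stalk x) :
    (X.presheaf.stalkSpecializes (specializes_refl x)).hom a = a := by
  obtain ⟨V, hxV, α, rfl⟩ := TopCat.Presheaf.exists_germ_eq X.presheaf a
  rw [stalkSpecializes_sgerm]

variable [IsIntegral X] [IsLocallyNoetherian X]

theorem coheight_genericPoint : Order.coheight (genericPoint X) = 0 := by
  have h := ringKrullDim_stalk_eq_coheight (genericPoint X)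
  letI : Field (X.presheaf.stalk (genericPoint X)) := inferInstanceAs (Field X.functionField)
  rw [ringKrullDim_eq_zero_of_field] at h
  exact_mod_cast h.symm

theorem eq_genericPoint_of_specializes {z : X} (h : z ⤳ genericPoint X) : z = genericPoint X :=
  (h.antisymm (gspec z)).eq

variable (D : X → ℕ)
  (hD : ∀ x : X, ∃ W : X.Opens, x ∈ W ∧ {z : X | z ∈ W ∧ D z ≠ 0}.Finite)

/-- the ideal module of the divisor -/
noncomputable abbrev wMod : X.Modules := ClSub.idealMod (weilIdeal D hD)

/-- its inclusion -/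
noncomputable abbrev wι : wMod D hD ⟶ Coh.structureModule X := ClSub.idealModι (weilIdeal D hD)

theorem isCoh_wMod : Coh.IsCoh (wMod D hD) := by
  refine ⟨inferInstance, isFiniteType_idealMod _ fun U => ?_⟩
  haveI : IsNoetherianRing Γ(X, U.1) := IsLocallyNoetherian.component_noetherian U
  exact (isNoetherianRing_iff_ideal_fg _).mp inferInstance _

theorem wι_injective (x : X) : Function.Injective (RefHull.stalkMapₗ (wι D hD) x) :=
  stalkMap_injective_of_mono (wι D hD) x

/-- elements of the local ring satisfying the conditions of the divisor come from the ideal -/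
theorem exists_stalk_of_mem (x : X) (a : X.presheaf.stalk x)
    (ha : ∀ (z : X) (hz : z ⤳ x), Order.coheight z = 1 →
      (X.presheaf.stalkSpecializes hz).hom a ∈ maximalIdeal (X.presheaf.stalk z) ^ D z) :
    ∃ m : (wMod D hD).presheaf.stalk x,
      RefHull.stalkMapₗ (wι D hD) x m = unitStalkEquiv x a := by
  classical
  obtain ⟨V₀, hxV₀, α₀, rfl⟩ := TopCat.Presheaf.exists_germ_eq X.presheaf a
  obtain ⟨W, hxW, hWfin⟩ := hD x
  set B : Set X := {z : X | z ∈ W ∧ D z ≠ 0 ∧ ¬ z ⤳ x} with hB
  have hBfin : B.Finite := hWfin.subset (fun z hz => ⟨hz.1, hz.2.1⟩)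
  set C : Set X := ⋃ z ∈ B, closure ({z} : Set X) with hC
  have hCclosed : IsClosed C := hBfin.isClosed_biUnion (fun z _ => isClosed_closure)
  have hxC : x ∉ C := by
    intro hx
    obtain ⟨z, hzB, hxz⟩ := Set.mem_iUnion₂.mp hx
    exact hzB.2.2 (specializes_iff_mem_closure.mpr hxz)
  let V' : X.Opens := (V₀ ⊓ W) ⊓ ⟨Cᶜ, hCclosed.isOpen_compl⟩
  have hxV' : x ∈ V' := ⟨⟨hxV₀, hxW⟩, hxC⟩
  obtain ⟨V, hV, hxV, hVV''⟩ := exists_isAffineOpen_mem_and_subset (x := x) (U := V') hxV'
  have hVV' : V ≤ V' := hVV''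
  have hVV₀ : V ≤ V₀ := hVV'.trans (inf_le_left.trans inf_le_left)
  set α := X.presheaf.map (homOfLE hVV₀).op α₀ with hα
  have hmem : α ∈ (weilIdeal D hD).ideal ⟨V, hV⟩ := by
    rw [weilIdeal_ideal, mem_pointIdeal]
    intro z hz hco
    by_cases hDz : D z = 0
    · rw [hDz, pow_zero, Ideal.one_eq_top]
      trivial
    · have hzV' := hVV' hz
      have hzx : z ⤳ x := by
        by_contra hnot
        apply hzV'.2
        exact Set.mem_iUnion₂.mpr ⟨z, ⟨hzV'.1.2, hDz, hnot⟩, subset_closure rfl⟩
      have := ha z hzx hco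
      rw [stalkSpecializes_sgerm] at this
      rw [hα, sgerm_res]
      exact this
  obtain ⟨t, ht⟩ := (exists_idealModι_app_eq_iff (weilIdeal D hD) ⟨V, hV⟩ α).mpr hmem
  refine ⟨(wMod D hD).presheaf.germ V x hxV t, ?_⟩
  rw [RefHull.stalkMapₗ_germ]
  have ht' : (wι D hD).app V t = α := ht
  rw [ht', ← unitStalkEquiv_germ, hα, sgerm_res]

/-- elements of the stalk of the ideal satisfy the conditions of the divisor -/
theorem mem_of_stalk (x : X) (m : (wMod D hD).presheaf.stalk x) (z : X) (hz : z ⤳ x)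
    (hco : Order.coheight z = 1) :
    (X.presheaf.stalkSpecializes hz).hom
        ((unitStalkEquiv x).symm (RefHull.stalkMapₗ (wι D hD) x m)) ∈
      maximalIdeal (X.presheaf.stalk z) ^ D z := by
  obtain ⟨V₀, hxV₀, t₀, rfl⟩ := TopCat.Presheaf.exists_germ_eq (wMod D hD).presheaf m
  obtain ⟨V, hV, hxV, hVV₀'⟩ := exists_isAffineOpen_mem_and_subset (x := x) (U := V₀) hxV₀
  have hVV₀ : V ≤ V₀ := hVV₀'
  set t := (wMod D hD).presheaf.map (homOfLE hVV₀).op t₀ with ht
  have hmem : (wι D hD).app V t ∈ (weilIdeal D hD).ideal ⟨V, hV⟩ :=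
    (exists_idealModι_app_eq_iff (weilIdeal D hD) ⟨V, hV⟩ _).mp ⟨t, rfl⟩
  have hzV : z ∈ V := hz.mem_open V.2 hxV
  have h1 := (mem_pointIdeal D V (show Γ(X, V) from (wι D hD).app V t)).mp hmem z hzV hco
  rw [← germ_res (wMod D hD) x hVV₀ hxV t₀, RefHull.stalkMapₗ_germ]
  have h2 : (unitMod X).presheaf.germ V x hxV ((wι D hD).app V t) =
      unitStalkEquiv x (X.presheaf.germ V x hxV ((wι D hD).app V t)) :=
    (unitStalkEquiv_germ V x hxV _).symm
  rw [← ht, h2, LinearEquiv.symm_apply_apply, stalkSpecializes_sgerm]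
  exact h1

omit [IsLocallyNoetherian X] in
theorem stalkMap_wι_smul (x : X) (c : X.presheaf.stalk x) (b : X.presheaf.stalk x) :
    c • unitStalkEquiv x b = unitStalkEquiv x (c * b) := by
  rw [← smul_eq_mul, map_smul]

/-- generators of the stalks of the ideal module in codimension one -/
theorem exists_generator_wMod (hX : Pi1.IsNormalScheme X) (z : X) (hz : Order.coheight z = 1) :
    ∃ (π : X.presheaf.stalk z) (e : (wMod D hD).presheaf.stalk z), Irreducible π ∧
      RefHull.stalkMapₗ (wι D hD) z e = unitStalkEquiv z (π ^ D z) ∧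
      Submodule.span (X.presheaf.stalk z) {e} = ⊤ ∧
      ∀ a : X.presheaf.stalk z, a • e = 0 → a = 0 := by
  haveI := Groth.Agent.H1.CDivKit.isDVR_stalk hX z hz
  obtain ⟨π, hπ⟩ := IsDiscreteValuationRing.exists_irreducible (X.presheaf.stalk z)
  have hm : maximalIdeal (X.presheaf.stalk z) = Ideal.span {π} := hπ.maximalIdeal_eq
  have hself : ∀ (z' : X) (hz' : z' ⤳ z), Order.coheight z' = 1 → z = z' := fun z' hz' hco =>
    Groth.Agent.H1.CDivKit.eq_of_specializes_of_coheight hz' hco hz
  obtain ⟨e, he⟩ := exists_stalk_of_mem D hD z (π ^ D z) (by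
    intro z' hz' hco
    obtain rfl := hself z' hz' hco
    rw [stalkSpecializes_refl]
    exact Ideal.pow_mem_pow (hm ▸ Ideal.mem_span_singleton_self π) _)
  have hinj := wι_injective D hD z
  refine ⟨π, e, hπ, he, ?_, ?_⟩
  · rw [eq_top_iff]
    intro m _
    have hb := mem_of_stalk D hD z m z (specializes_refl z) hz
    rw [stalkSpecializes_refl, hm, Ideal.span_singleton_pow, Ideal.mem_span_singleton'] at hb
    obtain ⟨c, hc⟩ := hb
    have : m = c • e := by
      apply hinj
      rw [map_smul, he, stalkMap_wι_smul, hc, LinearEquiv.apply_symm_apply]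
    rw [this]
    exact Submodule.smul_mem _ _ (Submodule.mem_span_singleton_self _)
  · intro a ha
    have h1 : RefHull.stalkMapₗ (wι D hD) z (a • e) = 0 := by rw [ha, map_zero]
    rw [map_smul, he, stalkMap_wι_smul, LinearEquiv.map_eq_zero_iff] at h1
    rcases mul_eq_zero.mp h1 with h | h
    · exact h
    · exact absurd (eq_zero_of_pow_eq_zero h) hπ.ne_zero

theorem ord_pow (z : X) (f : X.functionField) (hf : f ≠ 0) (n : ℕ) :
    Scheme.ord (f ^ n) z = n * Scheme.ord f z := by
  induction n with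
  | zero => rw [pow_zero, ord_one]; simp
  | succ k ih =>
    rw [pow_succ, Scheme.ord_mul (pow_ne_zero k hf) hf, ih]
    push_cast
    ring

/-- the rational section `1` of the ideal module -/
theorem exists_generic_wMod :
    ∃ s₀ : (wMod D hD).presheaf.stalk (genericPoint X),
      RefHull.stalkMapₗ (wι D hD) (genericPoint X) s₀ = unitStalkEquiv (genericPoint X) 1 := by
  apply exists_stalk_of_mem D hD (genericPoint X) 1
  intro z hz hco
  rw [eq_genericPoint_of_specializes hz, coheight_genericPoint] at hco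
  exact absurd hco (by decide)

/-- **the divisor of the ideal module of an effective Weil divisor** -/
theorem hasDiv_wMod (hX : Pi1.IsNormalScheme X) :
    HasDiv (wMod D hD) (fun z => -(D z : ℤ)) := by
  haveI := (isCoh_wMod D hD).1
  obtain ⟨s₀, hs₀⟩ := exists_generic_wMod D hD
  have hinjη := wι_injective D hD (genericPoint X)
  have hs0 : s₀ ≠ 0 := by
    rintro rfl
    rw [map_zero] at hs₀
    have := (LinearEquiv.map_eq_zero_iff (unitStalkEquiv (genericPoint X))).mp hs₀.symm
    exact one_ne_zero this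
  have hs : (Submodule.Quotient.mk s₀ : Cyc.secFibre (wMod D hD) (genericPoint X)) ≠ 0 :=
    (mk_ne_zero_iff _ s₀).mpr hs0
  refine ⟨Submodule.Quotient.mk s₀, hs, fun z hz => ?_⟩
  obtain ⟨π, e, hπ, he, hspan, -⟩ := exists_generator_wMod D hD hX z hz
  have hπK : algebraMap (X.presheaf.stalk z) X.functionField π ≠ 0 := by
    intro h0
    apply hπ.ne_zero
    apply IsFractionRing.injective (X.presheaf.stalk z) X.functionField
    rw [h0, map_zero]
  set c : X.functionField := algebraMap (X.presheaf.stalk z) X.functionField (π ^ D z) with hc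
  have hc0 : c ≠ 0 := by
    rw [hc, map_pow]
    exact pow_ne_zero _ hπK
  have hrel : ((wMod D hD).presheaf.stalkSpecializes (gspec z)).hom e = c • s₀ := by
    apply hinjη
    rw [← Groth.Agent.H2.RefSch.spec_stalkMapₗ, he, unitStalkEquiv_spec, map_smul, hs₀,
      stalkMap_wι_smul, mul_one]
    rfl
  have hkey : s₀ = c⁻¹ • ((wMod D hD).presheaf.stalkSpecializes (gspec z)).hom e := by
    rw [hrel, smul_smul, inv_mul_cancel₀ hc0, one_smul]
  have hord1 : Scheme.ord (algebraMap (X.presheaf.stalk z) X.functionField π) z = 1 :=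
    (Groth.Agent.H1.CDivKit.ord_eq_one_iff hX z hz (Units.mk0 _ hπK)).mpr ⟨π, hπ, rfl⟩
  rw [secOrdAt_eq (wMod D hD) z hz _ hs e hspan c⁻¹ (congrArg Submodule.Quotient.mk hkey),
    ord_inv z c hc0, hc, map_pow, ord_pow z _ hπK, hord1, mul_one]

/-- local bases of the ideal module at the generic point and in codimension one -/
theorem exists_isBasisOver_wMod (hX : Pi1.IsNormalScheme X) (x : X)
    (hx : x = genericPoint X ∨ Order.coheight x = 1) :
    ∃ (U : X.Opens) (ε : Γ(wMod D hD, U)), x ∈ U ∧ IsBasisOver (wMod D hD) U ε := by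
  rcases hx with rfl | hx
  · obtain ⟨s₀, hs₀⟩ := exists_generic_wMod D hD
    have hinjη := wι_injective D hD (genericPoint X)
    apply exists_isBasisOver_of_generator _ (isCoh_wMod D hD) (genericPoint X) s₀
    · rw [eq_top_iff]
      intro m _
      set b := (unitStalkEquiv (genericPoint X)).symm
        (RefHull.stalkMapₗ (wι D hD) (genericPoint X) m) with hb
      have : m = b • s₀ := by
        apply hinjη
        rw [map_smul, hs₀, stalkMap_wι_smul, mul_one, hb, LinearEquiv.apply_symm_apply]
      rw [this]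
      exact Submodule.smul_mem _ _ (Submodule.mem_span_singleton_self _)
    · intro a ha
      have h1 : RefHull.stalkMapₗ (wι D hD) (genericPoint X) (a • s₀) = 0 := by
        rw [ha, map_zero]
      rw [map_smul, hs₀, stalkMap_wι_smul, mul_one, LinearEquiv.map_eq_zero_iff] at h1
      exact h1
  · obtain ⟨π, e, -, -, hspan, hfree⟩ := exists_generator_wMod D hD hX x hx
    exact exists_isBasisOver_of_generator _ (isCoh_wMod D hD) x e hspan hfree

end Groth.Agent.H2.Weil
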