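import Mathlib

/-!
# Parity decomposition of `R[u, v]` over `R[u², v²]` in characteristic 2

Helper library (helper2) for the KumFam cluster: every polynomial in two variables is uniquely
`E a + E b * u + E c * v + E d * (u * v)` with `E = expand 2`; derivations kill the image of `E`
in characteristic two.
-/

namespace Groth.Agent.H2.Parity2

open MvPolynomial

variable {R : Type*} [CommRing R]

/-- `E = expand 2`, i.e. `u ↦ u²`, `v ↦ v²`. -/
noncomputable abbrev E : MvPolynomial (Fin 2) R →ₐ[R] MvPolynomial (Fin 2) R := expand 2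

/-- the parity combination -/
noncomputable def comb (a b c d : MvPolynomial (Fin 2) R) : MvPolynomial (Fin 2) R :=
  E a + E b * X 0 + E c * X 1 + E d * (X 0 * X 1)

lemma E_X (i : Fin 2) : (E (X i) : MvPolynomial (Fin 2) R) = X i ^ 2 := expand_X _ _

lemma E_injective : Function.Injective (E : MvPolynomial (Fin 2) R → MvPolynomial (Fin 2) R) :=
  expand_injective (by norm_num)

lemma comb_add (a b c d a' b' c' d' : MvPolynomial (Fin 2) R) :
    comb a b c d + comb a' b' c' d' = comb (a + a') (b + b') (c + c') (d + d') := by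
  simp only [comb, map_add]; ring

lemma comb_zero : comb (0 : MvPolynomial (Fin 2) R) 0 0 0 = 0 := by simp [comb]

lemma E_mul_comb (q a b c d : MvPolynomial (Fin 2) R) :
    E q * comb a b c d = comb (q * a) (q * b) (q * c) (q * d) := by
  simp only [comb, map_mul]; ring

lemma comb_mul_X0 (a b c d : MvPolynomial (Fin 2) R) :
    comb a b c d * X 0 = comb (b * X 0) a (d * X 0) c := by
  simp only [comb, map_mul, E_X]; ring

lemma comb_mul_X1 (a b c d : MvPolynomial (Fin 2) R) :
    comb a b c d * X 1 = comb (c * X 1) (d * X 1) a b := by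
  simp only [comb, map_mul, E_X]; ring

lemma comb_mul (a b c d a' b' c' d' : MvPolynomial (Fin 2) R) :
    comb a b c d * comb a' b' c' d' =
      comb (a * a' + b * b' * X 0 + c * c' * X 1 + d * d' * (X 0 * X 1))
        (a * b' + b * a' + (c * d' + d * c') * X 1)
        (a * c' + c * a' + (b * d' + d * b') * X 0)
        (a * d' + d * a' + b * c' + c * b') := by
  simp only [comb, map_mul, map_add, E_X]; ring

lemma comb_surj (p : MvPolynomial (Fin 2) R) : ∃ a b c d, p = comb a b c d := by
  induction p using MvPolynomial.induction_on with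
  | C r => exact ⟨C r, 0, 0, 0, by simp [comb]⟩
  | add p q hp hq =>
    obtain ⟨a, b, c, d, rfl⟩ := hp
    obtain ⟨a', b', c', d', rfl⟩ := hq
    exact ⟨_, _, _, _, comb_add _ _ _ _ _ _ _ _⟩
  | mul_X p i hp =>
    obtain ⟨a, b, c, d, rfl⟩ := hp
    fin_cases i
    · exact ⟨_, _, _, _, comb_mul_X0 a b c d⟩
    · exact ⟨_, _, _, _, comb_mul_X1 a b c d⟩

section CharTwo

variable [CharP R 2]

lemma two_eq_zero' : (2 : MvPolynomial (Fin 2) R) = 0 := CharTwo.two_eq_zero

/-- derivations kill the image of `E` in characteristic two -/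
lemma deriv_E (D : Derivation R (MvPolynomial (Fin 2) R) (MvPolynomial (Fin 2) R))
    (q : MvPolynomial (Fin 2) R) : D (E q) = 0 := by
  induction q using MvPolynomial.induction_on with
  | C r =>
    rw [expand_C]
    exact D.map_algebraMap r
  | add p q hp hq => rw [map_add, map_add, hp, hq, add_zero]
  | mul_X p i hp =>
    rw [map_mul, E_X, Derivation.leibniz, hp, smul_zero, add_zero, Derivation.leibniz_pow]
    rw [two_nsmul, ← two_smul (MvPolynomial (Fin 2) R), two_eq_zero', zero_smul, smul_zero]

lemma deriv_comb (D : Derivation R (MvPolynomial (Fin 2) R) (MvPolynomial (Fin 2) R))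
    (a b c d : MvPolynomial (Fin 2) R) :
    D (comb a b c d) = E b * D (X 0) + E c * D (X 1) + E d * (X 1 * D (X 0) + X 0 * D (X 1)) := by
  simp only [comb, map_add, Derivation.leibniz, deriv_E, smul_zero, add_zero, smul_eq_mul]
  ring

lemma comb_eq_zero {a b c d : MvPolynomial (Fin 2) R} (h : comb a b c d = 0) :
    a = 0 ∧ b = 0 ∧ c = 0 ∧ d = 0 := by
  have h0 := deriv_comb (pderiv 0) a b c d
  have h1 := deriv_comb (pderiv 1) a b c d
  rw [h, map_zero] at h0 h1
  simp only [pderiv_X_self, pderiv_X_of_ne (show (1 : Fin 2) ≠ 0 by decide),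
    pderiv_X_of_ne (show (0 : Fin 2) ≠ 1 by decide), mul_one, mul_zero, add_zero, zero_add]
    at h0 h1
  -- h0 : 0 = E b + E d * X 1 ; h1 : 0 = E c + E d * X 0
  have hd : d = 0 := by
    have h01 := congrArg (pderiv (1 : Fin 2)) h0
    rw [map_zero, map_add, deriv_E, zero_add, Derivation.leibniz, deriv_E, smul_zero, add_zero,
      pderiv_X_self, smul_eq_mul, mul_one] at h01
    exact E_injective (by rw [← h01, map_zero])
  have hb : b = 0 := by
    rw [hd, map_zero, zero_mul, add_zero] at h0
    exact E_injective (by rw [← h0, map_zero])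
  have hc : c = 0 := by
    rw [hd, map_zero, zero_mul, add_zero] at h1
    exact E_injective (by rw [← h1, map_zero])
  refine ⟨?_, hb, hc, hd⟩
  rw [hb, hc, hd] at h
  simp only [comb, map_zero, zero_mul, add_zero] at h
  exact E_injective (by rw [h, map_zero])

lemma comb_sub (a b c d a' b' c' d' : MvPolynomial (Fin 2) R) :
    comb a b c d - comb a' b' c' d' = comb (a - a') (b - b') (c - c') (d - d') := by
  simp only [comb, map_sub]; ring

lemma comb_inj {a b c d a' b' c' d' : MvPolynomial (Fin 2) R}
    (h : comb a b c d = comb a' b' c' d') : a = a' ∧ b = b' ∧ c = c' ∧ d = d' := by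
  have := comb_eq_zero (by rw [← comb_sub, h, sub_self] :
    comb (a - a') (b - b') (c - c') (d - d') = 0)
  exact ⟨sub_eq_zero.mp this.1, sub_eq_zero.mp this.2.1, sub_eq_zero.mp this.2.2.1,
    sub_eq_zero.mp this.2.2.2⟩

end CharTwo

end Groth.Agent.H2.Parity2
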