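import Groth.Agent.Lib.Helper2.Parity2Ker

/-!
# The cuspidal subring `R[u², u³, v², v³]` in parity coordinates

Helper library (helper2) for S13120.
-/

namespace Groth.Agent.H2.Parity2

open MvPolynomial

variable {R : Type*} [CommRing R]

/-- parity shape of elements of `R[u², u³, v², v³]` -/
def IsCusp (a : MvPolynomial (Fin 2) R) : Prop :=
  ∃ p0 p1 p2 p3 : MvPolynomial (Fin 2) R,
    a = comb p0 (X 0 * p1) (X 1 * p2) (X 0 * X 1 * p3)

lemma isCusp_of_mem {a : MvPolynomial (Fin 2) R}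
    (ha : a ∈ Algebra.adjoin R
      ({X 0 ^ 2, X 0 ^ 3, X 1 ^ 2, X 1 ^ 3} : Set (MvPolynomial (Fin 2) R))) : IsCusp a := by
  induction ha using Algebra.adjoin_induction with
  | mem x hx =>
    simp only [Set.mem_insert_iff, Set.mem_singleton_iff] at hx
    rcases hx with rfl | rfl | rfl | rfl
    · exact ⟨X 0, 0, 0, 0, by simp [comb, E_X]⟩
    · refine ⟨0, 1, 0, 0, ?_⟩
      simp only [comb, mul_one, mul_zero, map_zero, zero_mul, add_zero, zero_add, E_X]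
      ring
    · exact ⟨X 1, 0, 0, 0, by simp [comb, E_X]⟩
    · refine ⟨0, 0, 1, 0, ?_⟩
      simp only [comb, mul_one, mul_zero, map_zero, zero_mul, add_zero, zero_add, E_X]
      ring
  | algebraMap r =>
    exact ⟨C r, 0, 0, 0, by simp [comb, MvPolynomial.algebraMap_eq]⟩
  | add x y _ _ hx hy =>
    obtain ⟨p0, p1, p2, p3, rfl⟩ := hx
    obtain ⟨q0, q1, q2, q3, rfl⟩ := hy
    refine ⟨p0 + q0, p1 + q1, p2 + q2, p3 + q3, ?_⟩
    rw [comb_add]
    congr 1 <;> ring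
  | mul x y _ _ hx hy =>
    obtain ⟨p0, p1, p2, p3, rfl⟩ := hx
    obtain ⟨q0, q1, q2, q3, rfl⟩ := hy
    refine ⟨p0 * q0 + X 0 * p1 * (X 0 * q1) * X 0 + X 1 * p2 * (X 1 * q2) * X 1 +
        X 0 * X 1 * p3 * (X 0 * X 1 * q3) * (X 0 * X 1),
      p0 * q1 + p1 * q0 + X 1 ^ 3 * (p2 * q3 + p3 * q2),
      p0 * q2 + p2 * q0 + X 0 ^ 3 * (p1 * q3 + p3 * q1),
      p0 * q3 + p3 * q0 + p1 * q2 + p2 * q1, ?_⟩
    rw [comb_mul]
    congr 1 <;> ring

end Groth.Agent.H2.Parity2
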