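import Groth.Agent.Lib.Helper2.Parity2

/-!
# Kernel and image of `R[a,b,c] → R[u,v]`, `a ↦ u²`, `b ↦ v²`, `c ↦ g` (char 2)

Helper library (helper2) for the KumFam cluster.
-/

namespace Groth.Agent.H2.Parity2

open MvPolynomial

variable {R : Type*} [CommRing R]

/-- inclusion `R[a,b] → R[a,b,c]` -/
noncomputable abbrev ι : MvPolynomial (Fin 2) R →ₐ[R] MvPolynomial (Fin 3) R :=
  rename Fin.castSucc

/-- the element `g = E α * u + E β * v + E γ * u v` -/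
noncomputable def gEl (α β γ : MvPolynomial (Fin 2) R) : MvPolynomial (Fin 2) R :=
  E α * X 0 + E β * X 1 + E γ * (X 0 * X 1)

lemma gEl_eq_comb (α β γ : MvPolynomial (Fin 2) R) : gEl α β γ = comb 0 α β γ := by
  simp [gEl, comb]

/-- the homomorphism `a ↦ u², b ↦ v², c ↦ g` -/
noncomputable def Φ (g : MvPolynomial (Fin 2) R) :
    MvPolynomial (Fin 3) R →ₐ[R] MvPolynomial (Fin 2) R :=
  aeval ![X 0 ^ 2, X 1 ^ 2, g]

lemma Φ_X2 (g : MvPolynomial (Fin 2) R) : Φ g (X 2) = g := by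
  simp [Φ]

lemma Φ_ι (g : MvPolynomial (Fin 2) R) (P : MvPolynomial (Fin 2) R) : Φ g (ι P) = E P := by
  have : (Φ g).comp ι = (E : MvPolynomial (Fin 2) R →ₐ[R] MvPolynomial (Fin 2) R) := by
    apply MvPolynomial.algHom_ext
    intro i
    fin_cases i <;> simp [Φ, E_X]
  exact DFunLike.congr_fun this P

/-- the polynomial `G = α² a + β² b + γ² a b` -/
noncomputable def GEl (α β γ : MvPolynomial (Fin 2) R) : MvPolynomial (Fin 2) R :=
  α ^ 2 * X 0 + β ^ 2 * X 1 + γ ^ 2 * (X 0 * X 1)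

/-- the relation `F = c² + G(a,b)` -/
noncomputable def FEl (α β γ : MvPolynomial (Fin 2) R) : MvPolynomial (Fin 3) R :=
  X 2 ^ 2 + ι (GEl α β γ)

lemma exists_reduce (α β γ : MvPolynomial (Fin 2) R) (Q : MvPolynomial (Fin 3) R) :
    ∃ (P0 P1 : MvPolynomial (Fin 2) R) (W : MvPolynomial (Fin 3) R),
      Q = ι P0 + ι P1 * X 2 + FEl α β γ * W := by
  induction Q using MvPolynomial.induction_on with
  | C r => exact ⟨C r, 0, 0, by simp⟩
  | add p q hp hq =>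
    obtain ⟨P0, P1, W, rfl⟩ := hp
    obtain ⟨P0', P1', W', rfl⟩ := hq
    exact ⟨P0 + P0', P1 + P1', W + W', by simp only [map_add]; ring⟩
  | mul_X p i hp =>
    obtain ⟨P0, P1, W, rfl⟩ := hp
    have h0 : (ι (X 0) : MvPolynomial (Fin 3) R) = X 0 := by simp
    have h1 : (ι (X 1) : MvPolynomial (Fin 3) R) = X 1 := by
      simp only [rename_X]; rfl
    fin_cases i
    · refine ⟨P0 * X 0, P1 * X 0, W * X 0, ?_⟩
      simp only [map_mul, h0]
      change _ * X 0 = _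
      ring
    · refine ⟨P0 * X 1, P1 * X 1, W * X 1, ?_⟩
      simp only [map_mul, h1]
      change _ * X 1 = _
      ring
    · refine ⟨-(P1 * GEl α β γ), P0, ι P1 + W * X 2, ?_⟩
      simp only [map_mul, map_neg, FEl]
      change _ * X 2 = _
      ring

section CharTwo

variable [CharP R 2]

lemma Φ_FEl (α β γ : MvPolynomial (Fin 2) R) : Φ (gEl α β γ) (FEl α β γ) = 0 := by
  rw [FEl, map_add, map_pow, Φ_X2, Φ_ι, gEl, GEl]
  simp only [map_add, map_mul, map_pow, E_X]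
  have h2 := two_eq_zero' (R := R)
  linear_combination (E α * X 0 * (E β * X 1) + E α * X 0 * (E γ * (X 0 * X 1)) +
    E β * X 1 * (E γ * (X 0 * X 1)) + (E α) ^ 2 * X 0 ^ 2 + (E β) ^ 2 * X 1 ^ 2 +
    (E γ) ^ 2 * (X 0 ^ 2 * X 1 ^ 2)) * h2

lemma Φ_reduce (α β γ : MvPolynomial (Fin 2) R) (P0 P1 : MvPolynomial (Fin 2) R)
    (W : MvPolynomial (Fin 3) R) :
    Φ (gEl α β γ) (ι P0 + ι P1 * X 2 + FEl α β γ * W) = comb P0 (P1 * α) (P1 * β) (P1 * γ) := by
  rw [map_add, map_add, map_mul, map_mul, Φ_FEl, zero_mul, add_zero, Φ_ι, Φ_ι, Φ_X2,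
    gEl_eq_comb, E_mul_comb, mul_zero]
  have : (E P0 : MvPolynomial (Fin 2) R) = comb P0 0 0 0 := by simp [comb]
  rw [this, comb_add]
  simp

theorem ker_Φ (α β γ : MvPolynomial (Fin 2) R)
    (hγ : ∀ P : MvPolynomial (Fin 2) R, P * γ = 0 → P = 0) :
    RingHom.ker (Φ (gEl α β γ)) = Ideal.span {FEl α β γ} := by
  apply le_antisymm
  · intro Q hQ
    rw [RingHom.mem_ker] at hQ
    obtain ⟨P0, P1, W, rfl⟩ := exists_reduce α β γ Q
    rw [Φ_reduce] at hQ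
    obtain ⟨h0, -, -, h3⟩ := comb_eq_zero hQ
    have h1 := hγ P1 h3
    rw [h0, h1, map_zero, zero_mul, zero_add, zero_add]
    exact Ideal.mul_mem_right _ _ (Ideal.subset_span rfl)
  · rw [Ideal.span_le, Set.singleton_subset_iff]
    exact Φ_FEl α β γ

theorem mem_range_Φ (α β γ : MvPolynomial (Fin 2) R) (p : MvPolynomial (Fin 2) R) :
    p ∈ (Φ (gEl α β γ)).range ↔
      ∃ P0 P1 : MvPolynomial (Fin 2) R, p = comb P0 (P1 * α) (P1 * β) (P1 * γ) := by
  constructor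
  · rintro ⟨Q, rfl⟩
    obtain ⟨P0, P1, W, rfl⟩ := exists_reduce α β γ Q
    exact ⟨P0, P1, Φ_reduce α β γ P0 P1 W⟩
  · rintro ⟨P0, P1, rfl⟩
    refine ⟨ι P0 + ι P1 * X 2 + FEl α β γ * 0, ?_⟩
    exact Φ_reduce α β γ P0 P1 0

end CharTwo

end Groth.Agent.H2.Parity2
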