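import Mathlib

/-! Pencil argument, algebra part (helper2): a homogeneous prime of a polynomial ring whose linear
forms have codimension one is maximal among the relevant homogeneous primes. -/

set_option autoImplicit false
open MvPolynomial

namespace Groth.Agent.H2.Pencil

variable {k : Type*} [Field k] {σ : Type*}

attribute [local instance] MvPolynomial.gradedAlgebra

/-- the substitution `X j ↦ c j • ℓ`. -/
noncomputable def subst (c : σ → k) (ℓ : MvPolynomial σ k) : MvPolynomial σ k →ₐ[k] MvPolynomial σ k :=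
  aeval (fun j => C (c j) * ℓ)

theorem sub_subst_mem (c : σ → k) (ℓ : MvPolynomial σ k) (p : Ideal (MvPolynomial σ k))
    (h : ∀ j, X j - C (c j) * ℓ ∈ p) (f : MvPolynomial σ k) : f - subst c ℓ f ∈ p := by
  induction f using MvPolynomial.induction_on with
  | C a =>
    have : subst c ℓ (C a) = C a := by
      unfold subst
      rw [aeval_C]; rfl
    rw [this, sub_self]; exact p.zero_mem
  | add f g hf hg =>
    have : f + g - subst c ℓ (f + g) = (f - subst c ℓ f) + (g - subst c ℓ g) := by
      rw [map_add]; ring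
    rw [this]; exact p.add_mem hf hg
  | mul_X f j hf =>
    have h1 : subst c ℓ (X j) = C (c j) * ℓ := by
      unfold subst
      rw [aeval_X]
    have : f * X j - subst c ℓ (f * X j) =
        (f - subst c ℓ f) * X j + subst c ℓ f * (X j - C (c j) * ℓ) := by
      rw [map_mul, h1]; ring
    rw [this]
    exact p.add_mem (p.mul_mem_right _ hf) (p.mul_mem_left _ (h j))

theorem subst_monomial [Fintype σ] (c : σ → k) (ℓ : MvPolynomial σ k) (m : σ →₀ ℕ) (a : k) :
    subst c ℓ (monomial m a) = C (eval c (monomial m a)) * ℓ ^ (m.degree) := by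
  unfold subst
  rw [aeval_monomial, eval_monomial, Finsupp.prod_fintype _ _ (fun i => by simp),
    Finsupp.prod_fintype _ _ (fun i => by simp)]
  simp only [mul_pow, Finset.prod_mul_distrib, Finset.prod_pow_eq_pow_sum]
  rw [Finsupp.degree_eq_sum, map_mul, map_prod]
  simp only [map_pow]
  rw [mul_assoc]
  rfl

theorem subst_of_isHomogeneous [Fintype σ] (c : σ → k) (ℓ : MvPolynomial σ k) {d : ℕ}
    {f : MvPolynomial σ k} (hf : f.IsHomogeneous d) :
    subst c ℓ f = C (eval c f) * ℓ ^ d := by
  conv_lhs => rw [f.as_sum]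
  rw [map_sum]
  have h1 : ∀ m ∈ f.support, subst c ℓ (monomial m (coeff m f)) =
      C (eval c (monomial m (coeff m f))) * ℓ ^ d := by
    intro m hm
    rw [subst_monomial]
    have : m.degree = d := by
      have := hf (mem_support_iff.mp hm)
      rwa [Finsupp.degree_eq_weight_one] 
    rw [this]
  rw [Finset.sum_congr rfl h1, ← Finset.sum_mul, ← map_sum, ← map_sum, ← f.as_sum]

/-- **Lemma A.** -/
theorem le_of_le_of_span [Fintype σ] (p q : Ideal (MvPolynomial σ k))
    (hq : q.IsHomogeneous (homogeneousSubmodule σ k)) [q.IsPrime] (hpq : p ≤ q)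
    (ℓ : MvPolynomial σ k) (c : σ → k) (h : ∀ j, X j - C (c j) * ℓ ∈ p)
    (hX : ∃ j, X j ∉ q) : q ≤ p := by
  classical
  have hℓ : ℓ ∉ q := by
    intro hl
    obtain ⟨j, hj⟩ := hX
    apply hj
    have : X j = (X j - C (c j) * ℓ) + C (c j) * ℓ := by ring
    rw [this]
    exact q.add_mem (hpq (h j)) (q.mul_mem_left _ hl)
  intro f hf
  -- reduce to homogeneous components
  rw [← DirectSum.sum_support_decompose (homogeneousSubmodule σ k) f]
  refine p.sum_mem (fun d _ => ?_)
  have hfd : (DirectSum.decompose (homogeneousSubmodule σ k) f d : MvPolynomial σ k) ∈ q := hq d hf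
  set fd : MvPolynomial σ k := (DirectSum.decompose (homogeneousSubmodule σ k) f d : MvPolynomial σ k)
    with hfd_def
  have hhom : fd.IsHomogeneous d :=
    (mem_homogeneousSubmodule d fd).mp (DirectSum.decompose (homogeneousSubmodule σ k) f d).2
  have h1 : fd - subst c ℓ fd ∈ p := sub_subst_mem c ℓ p h fd
  have h2 : subst c ℓ fd ∈ q := by
    have : subst c ℓ fd = fd - (fd - subst c ℓ fd) := by ring
    rw [this]
    exact q.sub_mem hfd (hpq h1)
  rw [subst_of_isHomogeneous c ℓ hhom] at h2 h1
  by_cases he : eval c fd = 0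
  · rw [he, map_zero, zero_mul, sub_zero] at h1
    exact h1
  · exfalso
    rcases (Ideal.IsPrime.mem_or_mem inferInstance h2) with h3 | h3
    · have : (1 : MvPolynomial σ k) ∈ q := by
        have h4 : C (eval c fd)⁻¹ * C (eval c fd) = (1 : MvPolynomial σ k) := by
          rw [← map_mul, inv_mul_cancel₀ he, map_one]
        rw [← h4]
        exact q.mul_mem_left _ h3
      exact (Ideal.IsPrime.ne_top inferInstance) ((Ideal.eq_top_iff_one q).mpr this)
    · exact hℓ (Ideal.IsPrime.mem_of_pow_mem inferInstance d h3)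

end Groth.Agent.H2.Pencil
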