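import Mathlib

/-! Pencil argument, linear algebra part (helper2). -/

set_option autoImplicit false

namespace Groth.Agent.H2.Pencil

section avoid

variable {k E ι : Type*} [Field k] [Infinite k] [AddCommGroup E] [Module k E] [Finite ι]

theorem exists_notMem (V : ι → Submodule k E) (hV : ∀ i, V i ≠ ⊤) : ∃ v : E, ∀ i, v ∉ V i := by
  by_contra h
  push Not at h
  have hc : ⋃ i, (V i : Set E) = Set.univ :=
    Set.eq_univ_of_forall (fun v => Set.mem_iUnion.mpr (h v))
  obtain ⟨i, hi⟩ := Subspace.exists_eq_top_of_iUnion_eq_univ hc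
  exact hV i hi

/-- finitely many subspaces of codimension at least two are avoided by all nonzero members of
some pencil. -/
theorem exists_pencil (V : ι → Submodule k E) (hV : ∀ i, V i ≠ ⊤)
    (hV2 : ∀ i, ∀ ℓ : E, ℓ ∉ V i → V i ⊔ Submodule.span k {ℓ} ≠ ⊤) :
    ∃ ℓ ℓ' : E, ∀ a b : k, (a ≠ 0 ∨ b ≠ 0) → ∀ i, a • ℓ + b • ℓ' ∉ V i := by
  obtain ⟨ℓ, hℓ⟩ := exists_notMem V hV
  obtain ⟨ℓ', hℓ'⟩ := exists_notMem (fun i => V i ⊔ Submodule.span k {ℓ}) (fun i => hV2 i ℓ (hℓ i))
  refine ⟨ℓ, ℓ', fun a b hab i hmem => ?_⟩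
  by_cases hb : b = 0
  · subst hb
    have ha : a ≠ 0 := by
      rcases hab with h | h
      · exact h
      · exact absurd rfl h
    rw [zero_smul, add_zero] at hmem
    apply hℓ i
    have := (V i).smul_mem a⁻¹ hmem
    rwa [smul_smul, inv_mul_cancel₀ ha, one_smul] at this
  · apply hℓ' i
    have h1 : b • ℓ' ∈ V i ⊔ Submodule.span k {ℓ} := by
      have : b • ℓ' = (a • ℓ + b • ℓ') + (-a) • ℓ := by
        rw [neg_smul]; abel
      rw [this]
      exact Submodule.add_mem _ (Submodule.mem_sup_left hmem)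
        (Submodule.mem_sup_right (Submodule.smul_mem _ _ (Submodule.mem_span_singleton_self ℓ)))
    have := (V i ⊔ Submodule.span k {ℓ}).smul_mem b⁻¹ h1
    rwa [smul_smul, inv_mul_cancel₀ hb, one_smul] at this

end avoid

section eigen

variable {k E V W : Type*} [Field k] [IsAlgClosed k] [AddCommGroup E] [Module k E]
  [AddCommGroup V] [Module k V] [AddCommGroup W] [Module k W]

/-- a pencil of injective maps `V → W` forces `dim V < dim W` (eigenvalue argument). -/
theorem finrank_succ_le [Module.Finite k W] [Nontrivial V]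
    (T : E →ₗ[k] V →ₗ[k] W) (ℓ ℓ' : E)
    (h : ∀ a b : k, (a ≠ 0 ∨ b ≠ 0) → Function.Injective (T (a • ℓ + b • ℓ'))) :
    Module.finrank k V + 1 ≤ Module.finrank k W := by
  have hℓ : Function.Injective (T ℓ) := by
    have := h 1 0 (Or.inl one_ne_zero)
    rwa [one_smul, zero_smul, add_zero] at this
  haveI : Module.Finite k V := Module.Finite.of_injective (T ℓ) hℓ
  have hle : Module.finrank k V ≤ Module.finrank k W :=
    LinearMap.finrank_le_finrank_of_injective hℓ
  by_contra hlt
  have heq : Module.finrank k V = Module.finrank k W := by omega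
  have hbij : Function.Bijective (T ℓ) :=
    ⟨hℓ, (LinearMap.injective_iff_surjective_of_finrank_eq_finrank heq).mp hℓ⟩
  let e : V ≃ₗ[k] W := LinearEquiv.ofBijective (T ℓ) hbij
  let S : Module.End k V := e.symm.toLinearMap.comp (T ℓ')
  obtain ⟨c, hc⟩ := Module.End.exists_eigenvalue S
  obtain ⟨v, hv⟩ := hc.exists_hasEigenvector
  have h1 : S v = c • v := hv.apply_eq_smul
  have h2 : T ℓ' v = c • T ℓ v := by
    have : e (S v) = T ℓ' v := by
      change e (e.symm (T ℓ' v)) = T ℓ' v
      exact e.apply_symm_apply _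
    rw [← this, h1, map_smul]
    rfl
  have h3 : T ((-c) • ℓ + (1 : k) • ℓ') v = 0 := by
    rw [map_add, map_smul, map_smul, LinearMap.add_apply, LinearMap.smul_apply,
      LinearMap.smul_apply, one_smul, h2, neg_smul, neg_add_cancel]
  have h4 := h (-c) 1 (Or.inr one_ne_zero)
  exact hv.2 (h4 (h3.trans (map_zero _).symm))

end eigen

end Groth.Agent.H2.Pencil
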