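import Mathlib
import Groth.Agent.Lib.Helper2.PencilA
import Groth.Agent.Lib.Helper2.HypIdC

/-! Pencil argument: linear forms vanishing at a point of `P^N_k` (helper2). -/

set_option autoImplicit false
universe u
open CategoryTheory AlgebraicGeometry TopologicalSpace Opposite MvPolynomial

namespace Groth.Agent.H2.Pencil

variable (N : ℕ) (k : Type u) [Field k]

/-- the space of linear forms vanishing at the point `x` of `P^N_k`. -/
noncomputable def Vx (x : ProjectiveSpectrum (CohB1.polyGrading N k)) :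
    Submodule k (CohB1.polyGrading N k 1) :=
  Submodule.comap (CohB1.polyGrading N k 1).subtype
    (x.asHomogeneousIdeal.toIdeal.restrictScalars k)

theorem mem_Vx (x : ProjectiveSpectrum (CohB1.polyGrading N k)) (g : CohB1.polyGrading N k 1) :
    g ∈ Vx N k x ↔ (g : MvPolynomial (Fin (N + 1)) k) ∈ x.asHomogeneousIdeal := Iff.rfl

theorem exists_X_notMem (x : ProjectiveSpectrum (CohB1.polyGrading N k)) :
    ∃ j : Fin (N + 1), (X j : MvPolynomial (Fin (N + 1)) k) ∉ x.asHomogeneousIdeal := by
  obtain ⟨f, ⟨i, rfl⟩, hx⟩ :=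
    Groth.Agent.LD.TW.exists_mem_basicOpen_of_span (Groth.Agent.LD.PN.irrelevant_eq_span N k) x
  exact ⟨i, hx⟩

theorem Vx_ne_top (x : ProjectiveSpectrum (CohB1.polyGrading N k)) : Vx N k x ≠ ⊤ := by
  intro h
  obtain ⟨j, hj⟩ := exists_X_notMem N k x
  apply hj
  have : (⟨X j, LefPen.X_mem N k j⟩ : CohB1.polyGrading N k 1) ∈ Vx N k x := by
    rw [h]; trivial
  exact this

/-- a point whose linear forms have codimension one is closed. -/
theorem isClosed_singleton_of_sup_eq_top (x : ProjectiveSpectrum (CohB1.polyGrading N k))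
    (ℓ : CohB1.polyGrading N k 1) (h : Vx N k x ⊔ Submodule.span k {ℓ} = ⊤) :
    IsClosed ({x} : Set (ProjectiveSpectrum (CohB1.polyGrading N k))) := by
  have hc : ∀ j : Fin (N + 1), ∃ c : k,
      (X j - C c * (ℓ : MvPolynomial (Fin (N + 1)) k)) ∈ x.asHomogeneousIdeal.toIdeal := by
    intro j
    have hj : (⟨X j, LefPen.X_mem N k j⟩ : CohB1.polyGrading N k 1) ∈
        Vx N k x ⊔ Submodule.span k {ℓ} := by rw [h]; trivial
    obtain ⟨v, hv, w, hw, hvw⟩ := Submodule.mem_sup.1 hj
    obtain ⟨c, rfl⟩ := Submodule.mem_span_singleton.1 hw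
    refine ⟨c, ?_⟩
    have h1 : (X j : MvPolynomial (Fin (N + 1)) k) = (v : MvPolynomial (Fin (N + 1)) k) +
        c • (ℓ : MvPolynomial (Fin (N + 1)) k) := by
      have := congrArg (fun t : CohB1.polyGrading N k 1 => (t : MvPolynomial (Fin (N + 1)) k)) hvw
      exact this.symm
    rw [h1, MvPolynomial.smul_eq_C_mul, add_sub_cancel_right]
    exact hv
  choose c hc using hc
  rw [← closure_subset_iff_isClosed]
  intro y hy
  rw [← ProjectiveSpectrum.le_iff_mem_closure] at hy
  have hxy : x.asHomogeneousIdeal.toIdeal ≤ y.asHomogeneousIdeal.toIdeal := hy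
  haveI := y.isPrime
  have hyx : y.asHomogeneousIdeal.toIdeal ≤ x.asHomogeneousIdeal.toIdeal :=
    le_of_le_of_span x.asHomogeneousIdeal.toIdeal y.asHomogeneousIdeal.toIdeal
      y.asHomogeneousIdeal.isHomogeneous hxy (ℓ : MvPolynomial (Fin (N + 1)) k) c hc
      (exists_X_notMem N k y)
  have : y = x := by
    apply ProjectiveSpectrum.ext
    apply HomogeneousIdeal.toIdeal_injective
    exact le_antisymm hyx hxy
  exact this

/-- at a non-closed point the linear forms vanishing there have codimension at least two. -/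
theorem sup_span_ne_top (x : ProjectiveSpectrum (CohB1.polyGrading N k))
    (hx : ¬ IsClosed ({x} : Set (ProjectiveSpectrum (CohB1.polyGrading N k))))
    (ℓ : CohB1.polyGrading N k 1) : Vx N k x ⊔ Submodule.span k {ℓ} ≠ ⊤ :=
  fun h => hx (isClosed_singleton_of_sup_eq_top N k x ℓ h)

end Groth.Agent.H2.Pencil
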