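import Mathlib
import Groth.Agent.Lib.Helper2.DepthS1Sch
import Groth.Agent.Lib.Lead.QC.FinType

/-! Finiteness of the set of associated points of a coherent module (helper2). -/

set_option autoImplicit false
set_option linter.style.haveILetI false
universe u
open CategoryTheory AlgebraicGeometry TopologicalSpace Opposite

namespace Groth.Agent.H2.Pencil

open Groth.Agent.LD.QC Groth.Agent.H2.DepthS1

variable {X : Scheme.{u}} [IsLocallyNoetherian X] (F : X.Modules) [F.IsQuasicoherent]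

theorem finite_assPoints_of_affine {U : X.Opens} (hU : IsAffineOpen U) (hF : F.IsFiniteType) :
    {x : X | x ∈ U ∧ Curv2.IsAssPoint F x}.Finite := by
  haveI : IsNoetherianRing Γ(X, U) := IsLocallyNoetherian.component_noetherian ⟨U, hU⟩
  haveI : Module.Finite Γ(X, U) Γ(F, U) := finite_sections_of_isFiniteType F hF hU
  have hfin := associatedPrimes.finite Γ(X, U) Γ(F, U)
  haveI : Finite (associatedPrimes Γ(X, U) Γ(F, U)) := hfin.to_subtype
  rw [← Set.finite_coe_iff]
  let f : {x : X | x ∈ U ∧ Curv2.IsAssPoint F x} → associatedPrimes Γ(X, U) Γ(F, U) :=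
    fun x => ⟨(hU.primeIdealOf ⟨x.1, x.2.1⟩).asIdeal, (isAssPoint_iff F hU x.1 x.2.1).mp x.2.2⟩
  apply Finite.of_injective f
  intro x y hxy
  have h1 : hU.primeIdealOf ⟨x.1, x.2.1⟩ = hU.primeIdealOf ⟨y.1, y.2.1⟩ :=
    PrimeSpectrum.ext (congrArg Subtype.val hxy)
  have h2 := congrArg (fun p => hU.fromSpec.base p) h1
  simp only [IsAffineOpen.fromSpec_primeIdealOf] at h2
  exact Subtype.ext h2

theorem finite_assPoints {ι : Type*} [Finite ι] (U : ι → X.Opens) (hU : ∀ i, IsAffineOpen (U i))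
    (hcov : ⨆ i, U i = ⊤) (hF : F.IsFiniteType) : {x : X | Curv2.IsAssPoint F x}.Finite := by
  have hsub : {x : X | Curv2.IsAssPoint F x} ⊆ ⋃ i, {x : X | x ∈ U i ∧ Curv2.IsAssPoint F x} := by
    intro x hx
    have hxt : x ∈ (⊤ : X.Opens) := trivial
    rw [← hcov] at hxt
    obtain ⟨i, hi⟩ := Opens.mem_iSup.1 hxt
    exact Set.mem_iUnion.2 ⟨i, hi, hx⟩
  exact (Set.finite_iUnion (fun i => finite_assPoints_of_affine F (hU i) hF)).subset hsub

end Groth.Agent.H2.Pencil
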