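import Mathlib
import Groth.Agent.Lib.Helper2.HypIdC
import Groth.Agent.Lib.Helper2.DepthRes7
import Groth.Agent.Lib.Lead.TW.MulX

/-! Pencil argument: multiplication by a linear form `F(-1) ⟶ F` (helper2). -/

set_option autoImplicit false
set_option linter.style.haveILetI false
universe u
open CategoryTheory CategoryTheory.Limits AlgebraicGeometry TopologicalSpace Opposite

namespace Groth.Agent.H2.Pencil

open Groth.Agent.LD Twist TW Groth.Agent.H2.HypId

variable (N : ℕ) (k : Type u) [Field k]

/-- the section `1/g` of `O(-1)` over `D₊(g)`. -/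
noncomputable def gSec (g : CohB1.polyGrading N k 1) :
    sectN (𝒜 := CohB1.polyGrading N k) (-((1 : ℕ) : ℤ))
      (op (ProjectiveSpectrum.basicOpen (CohB1.polyGrading N k)
        (g : MvPolynomial (Fin (N + 1)) k))) :=
  invSec g

theorem isUnitSec_gSec (g : CohB1.polyGrading N k 1) : IsUnitSec (gSec N k g) := by
  refine IsUnitSec.inv (u := resSec (le_top : _ ≤ ⊤) (globalOf (CohB1.polyGrading N k) g))
    (v := gSec N k g) ?_
  intro x
  exact mk_mul_mk_inv (x := x.1) g.1 x.2
    (fun h => x.1.isPrime.ne_top ((Ideal.eq_top_iff_one _).mpr h))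

theorem isBasisOver_gSec (g : CohB1.polyGrading N k 1) :
    QC.IsBasisOver (twist (CohB1.polyGrading N k) (-((1 : ℕ) : ℤ)))
      (Proj.basicOpen (CohB1.polyGrading N k) (g : MvPolynomial (Fin (N + 1)) k))
      (show Γ(twist (CohB1.polyGrading N k) (-((1 : ℕ) : ℤ)),
        Proj.basicOpen (CohB1.polyGrading N k) (g : MvPolynomial (Fin (N + 1)) k)) from gSec N k g) :=
  (isUnitSec_gSec N k g).isBasisOver

/-- `ψ_g(1/g) = 1`. -/
theorem psi_gSec (g : CohB1.polyGrading N k 1) :
    (psi N k g).app (Proj.basicOpen (CohB1.polyGrading N k) (g : MvPolynomial (Fin (N + 1)) k))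
      (show Γ(twist (CohB1.polyGrading N k) (-((1 : ℕ) : ℤ)),
        Proj.basicOpen (CohB1.polyGrading N k) (g : MvPolynomial (Fin (N + 1)) k)) from gSec N k g) =
      (1 : Γ(Proj (CohB1.polyGrading N k),
        Proj.basicOpen (CohB1.polyGrading N k) (g : MvPolynomial (Fin (N + 1)) k))) := by
  apply O_ext
  intro y
  rw [psi_val, globalOf_val]
  refine (mk_mul_mk_inv (x := y.1) g.1 y.2
    (fun h => y.1.isPrime.ne_top ((Ideal.eq_top_iff_one _).mpr h))).trans ?_
  exact (HomogeneousLocalization.val_one (𝒜 := CohB1.polyGrading N k)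
    (x := y.1.asHomogeneousIdeal.toIdeal.primeCompl)).symm

/-- `ψ_g` is bijective on sections over opens inside `D₊(g)`. -/
theorem psi_app_bijective (g : CohB1.polyGrading N k 1) (W : (Proj (CohB1.polyGrading N k)).Opens)
    (hW : W ≤ Proj.basicOpen (CohB1.polyGrading N k) (g : MvPolynomial (Fin (N + 1)) k)) :
    Function.Bijective ((psi N k g).app W) := by
  have he := isBasisOver_gSec N k g W hW
  refine (Function.Bijective.of_comp_iff _ he).mp ?_
  have h1 : (fun t => (psi N k g).app W t) ∘ (fun a : Γ(Proj (CohB1.polyGrading N k), W) =>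
      a • (twist (CohB1.polyGrading N k) (-((1 : ℕ) : ℤ))).presheaf.map (homOfLE hW).op
        (show Γ(twist (CohB1.polyGrading N k) (-((1 : ℕ) : ℤ)),
          Proj.basicOpen (CohB1.polyGrading N k) (g : MvPolynomial (Fin (N + 1)) k)) from
            gSec N k g)) = id := by
    funext a
    rw [Function.comp_apply, Scheme.Modules.Hom.app_smul, QC.app_res, psi_gSec]
    change a * (Proj (CohB1.polyGrading N k)).presheaf.map (homOfLE hW).op 1 = a
    rw [map_one, mul_one]
  exact h1 ▸ Function.bijective_id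

variable {N k}

/-- multiplication by the linear form `g` : `F(-1) ⟶ F`. -/
noncomputable def mu (F : (Proj (CohB1.polyGrading N k)).Modules) (g : CohB1.polyGrading N k 1) :
    CohB1.tensorMod F (twist (CohB1.polyGrading N k) (-((1 : ℕ) : ℤ))) ⟶ F :=
  KoszTw.tensorMap (𝟙 F) (psi N k g) ≫ (SecTwist.unitorR F).hom

theorem mu_app_tmul (F : (Proj (CohB1.polyGrading N k)).Modules) (g : CohB1.polyGrading N k 1)
    (V : (Proj (CohB1.polyGrading N k)).Opens) (m : Γ(F, V))
    (c : Γ(twist (CohB1.polyGrading N k) (-((1 : ℕ) : ℤ)), V)) :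
    (mu F g).app V (SecTwist.tmul F (twist (CohB1.polyGrading N k) (-((1 : ℕ) : ℤ))) V m c) =
      (show Γ(Proj (CohB1.polyGrading N k), V) from (psi N k g).app V c) • m := by
  change (SecTwist.unitorR F).hom.app V ((KoszTw.tensorMap (𝟙 F) (psi N k g)).app V
    (SecTwist.tmul F (twist (CohB1.polyGrading N k) (-((1 : ℕ) : ℤ))) V m c)) = _
  rw [KoszTw.tensorMap_tmul]
  exact SecTwist.unitorR_tmul F V _ _

/-- `μ_g` is bijective on sections over opens inside `D₊(g)`. -/
theorem mu_app_bijective (F : (Proj (CohB1.polyGrading N k)).Modules) (g : CohB1.polyGrading N k 1)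
    (W : (Proj (CohB1.polyGrading N k)).Opens)
    (hW : W ≤ Proj.basicOpen (CohB1.polyGrading N k) (g : MvPolynomial (Fin (N + 1)) k)) :
    Function.Bijective ((mu F g).app W) := by
  have h1 := QC.bijective_tensorMap_app F (psi N k g) (isBasisOver_gSec N k g)
    (fun W' hW' => psi_app_bijective N k g W' hW') W hW
  have h2 : Function.Bijective ((SecTwist.unitorR F).hom.app W) :=
    QC.app_bijective_of_isIso (SecTwist.unitorR F).hom W
  have h3 : ⇑(ConcreteCategory.hom ((mu F g).app W)) =
      (fun t => (SecTwist.unitorR F).hom.app W t) ∘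
        (fun t => (KoszTw.tensorMap (𝟙 F) (psi N k g)).app W t) := rfl
  rw [h3]
  exact h2.comp h1

/-- `μ_g` is bijective on stalks at the points of `D₊(g)`. -/
theorem mu_stalk_bijective (F : (Proj (CohB1.polyGrading N k)).Modules)
    (g : CohB1.polyGrading N k 1) (x : (Proj (CohB1.polyGrading N k)))
    (hx : x ∈ Proj.basicOpen (CohB1.polyGrading N k) (g : MvPolynomial (Fin (N + 1)) k)) :
    Function.Bijective (RefHull.stalkMapₗ (mu F g) x) :=
  Groth.Agent.H2.DepthRes.bijective_stalkMap_of_app (mu F g) _ x hx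
    (fun V hV => mu_app_bijective F g V hV)

end Groth.Agent.H2.Pencil
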