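import Mathlib
import Groth.Agent.Lib.Helper2.PencilE
import Groth.Agent.Lib.Lead.PN.H0Lin
import Groth.Agent.Lib.Lead.PN.Finite
import Groth.Agent.Lib.Lead.QC.FreeData
import Groth.Prelude.Def_KLin

/-! Pencil argument: linearity of `g ↦ μ_g` (helper2). -/

set_option autoImplicit false
set_option linter.style.haveILetI false
universe u
open CategoryTheory CategoryTheory.Limits AlgebraicGeometry TopologicalSpace Opposite

namespace Groth.Agent.H2.Pencil

open Groth.Agent.LD Twist TW Groth.Agent.H2.HypId

variable {N : ℕ} {k : Type u} [Field k]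

theorem val_add' {U : (Proj (CohB1.polyGrading N k)).Opens}
    (a b : Γ(Proj (CohB1.polyGrading N k), U)) (y : U) :
    ((show O (𝒜 := CohB1.polyGrading N k) (op U) from a + b).1 y).val =
      ((show O (𝒜 := CohB1.polyGrading N k) (op U) from a).1 y).val +
        ((show O (𝒜 := CohB1.polyGrading N k) (op U) from b).1 y).val :=
  HomogeneousLocalization.val_add _ _

theorem val_mul' {U : (Proj (CohB1.polyGrading N k)).Opens}
    (a b : Γ(Proj (CohB1.polyGrading N k), U)) (y : U) :
    ((show O (𝒜 := CohB1.polyGrading N k) (op U) from a * b).1 y).val =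
      ((show O (𝒜 := CohB1.polyGrading N k) (op U) from a).1 y).val *
        ((show O (𝒜 := CohB1.polyGrading N k) (op U) from b).1 y).val :=
  HomogeneousLocalization.val_mul _ _

theorem globalOf_add_val (g g' : CohB1.polyGrading N k 1)
    (y : ProjectiveSpectrum (CohB1.polyGrading N k)) :
    (((globalOf (CohB1.polyGrading N k) (g + g')).1 ⟨y, trivial⟩).1 :
      Loc (CohB1.polyGrading N k) y) =
      ((globalOf (CohB1.polyGrading N k) g).1 ⟨y, trivial⟩).1 +
        ((globalOf (CohB1.polyGrading N k) g').1 ⟨y, trivial⟩).1 := by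
  rw [globalOf_val, globalOf_val, globalOf_val, Localization.add_mk_self]
  rfl

theorem globalOf_smul_val (a : k) (g : CohB1.polyGrading N k 1)
    (y : ProjectiveSpectrum (CohB1.polyGrading N k)) :
    (((globalOf (CohB1.polyGrading N k) (a • g)).1 ⟨y, trivial⟩).1 :
      Loc (CohB1.polyGrading N k) y) =
      Localization.mk (MvPolynomial.C a) 1 *
        ((globalOf (CohB1.polyGrading N k) g).1 ⟨y, trivial⟩).1 := by
  rw [globalOf_val, globalOf_val, Localization.mk_mul]
  have : ((a • g : CohB1.polyGrading N k 1) : MvPolynomial (Fin (N + 1)) k) =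
      MvPolynomial.C a * (g : MvPolynomial (Fin (N + 1)) k) := by
    rw [Submodule.coe_smul, MvPolynomial.smul_eq_C_mul]
  rw [this]
  congr 1
  exact (one_mul _).symm

theorem psi_add (g g' : CohB1.polyGrading N k 1) (U : (Proj (CohB1.polyGrading N k)).Opens)
    (c : Γ(twist (CohB1.polyGrading N k) (-((1 : ℕ) : ℤ)), U)) :
    (show Γ(Proj (CohB1.polyGrading N k), U) from (psi N k (g + g')).app U c) =
      (show Γ(Proj (CohB1.polyGrading N k), U) from (psi N k g).app U c) +
        (show Γ(Proj (CohB1.polyGrading N k), U) from (psi N k g').app U c) := by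
  apply O_ext
  intro y
  have e1 := psi_val N k (g + g') U c y
  have e2 := psi_val N k g U c y
  have e3 := psi_val N k g' U c y
  refine e1.trans (Eq.trans ?_ (val_add' _ _ y).symm)
  rw [globalOf_add_val, add_mul]
  exact congrArg₂ (· + ·) e2.symm e3.symm

theorem psi_smul (a : k) (g : CohB1.polyGrading N k 1) (U : (Proj (CohB1.polyGrading N k)).Opens)
    (c : Γ(twist (CohB1.polyGrading N k) (-((1 : ℕ) : ℤ)), U)) :
    (show Γ(Proj (CohB1.polyGrading N k), U) from (psi N k (a • g)).app U c) =
      (Proj (CohB1.polyGrading N k)).presheaf.map (homOfLE (le_top : U ≤ ⊤)).op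
        (Coh.toGlobal (CohB1.ProjSpace.toSpec N k) a) *
        (show Γ(Proj (CohB1.polyGrading N k), U) from (psi N k g).app U c) := by
  apply O_ext
  intro y
  have e1 := psi_val N k (a • g) U c y
  have e2 := psi_val N k g U c y
  have h4 : ((show O (𝒜 := CohB1.polyGrading N k) (op U) from
      (Proj (CohB1.polyGrading N k)).presheaf.map (homOfLE (le_top : U ≤ ⊤)).op
        (Coh.toGlobal (CohB1.ProjSpace.toSpec N k) a)).1 y).val =
      Localization.mk (MvPolynomial.C a) 1 := PN.toGlobal_val a y.1
  refine e1.trans (Eq.trans ?_ (val_mul' _ _ y).symm)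
  rw [globalOf_smul_val, mul_assoc, h4]
  exact congrArg _ e2.symm

theorem mu_add (F : (Proj (CohB1.polyGrading N k)).Modules) (g g' : CohB1.polyGrading N k 1) :
    mu F (g + g') = mu F g + mu F g' := by
  apply QC.hom_ext_tmul
  intro U m c
  have h1 : (mu F g + mu F g').app U
      (SecTwist.tmul F (twist (CohB1.polyGrading N k) (-((1 : ℕ) : ℤ))) U m c) =
      (mu F g).app U (SecTwist.tmul F (twist (CohB1.polyGrading N k) (-((1 : ℕ) : ℤ))) U m c) +
      (mu F g').app U (SecTwist.tmul F (twist (CohB1.polyGrading N k) (-((1 : ℕ) : ℤ))) U m c) :=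
    rfl
  rw [h1, mu_app_tmul, mu_app_tmul, mu_app_tmul, psi_add, add_smul]

theorem mu_smul (F : (Proj (CohB1.polyGrading N k)).Modules) (a : k)
    (g : CohB1.polyGrading N k 1) : mu F (a • g) = a • mu F g := by
  apply QC.hom_ext_tmul
  intro U m c
  rw [KLin.smul_app_apply, mu_app_tmul, mu_app_tmul, psi_smul, mul_smul]
  rfl

end Groth.Agent.H2.Pencil
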