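import Mathlib
import Groth.Agent.Lib.Helper2.PencilF
import Groth.Agent.Lib.Helper2.PencilC
import Groth.Agent.Lib.Helper2.HomSh1
import Groth.Agent.Lib.Helper3.AssSupp
import Groth.Agent.Lib.Lead.QC.Closure
import Groth.Agent.Lib.Helper5.Curve2.C

/-! Pencil argument: `μ_g` is a monomorphism when `g` avoids the associated points (helper2). -/

set_option autoImplicit false
set_option linter.style.haveILetI false
universe u
open CategoryTheory CategoryTheory.Limits AlgebraicGeometry TopologicalSpace Opposite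

namespace Groth.Agent.H2.Pencil

open Groth.Agent.LD Twist TW Groth.Agent.H2.HypId

variable {N : ℕ} {k : Type u} [Field k]

/-- the coordinate `X_j` as a linear form. -/
noncomputable def Xl (j : Fin (N + 1)) : CohB1.polyGrading N k 1 :=
  ⟨MvPolynomial.X j, LefPen.X_mem N k j⟩

theorem isAssPoint_of_twist (F : (Proj (CohB1.polyGrading N k)).Modules)
    (x : (Proj (CohB1.polyGrading N k)))
    (h : Curv2.IsAssPoint
      (CohB1.tensorMod F (twist (CohB1.polyGrading N k) (-((1 : ℕ) : ℤ)))) x) :
    Curv2.IsAssPoint F x := by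
  obtain ⟨j, hj⟩ := exists_X_notMem N k x
  have hb := mu_stalk_bijective F (Xl j) x hj
  let e := LinearEquiv.ofBijective (RefHull.stalkMapₗ (mu F (Xl j)) x) hb
  exact (LinearEquiv.isAssociatedPrime_iff e).mp h

theorem stalk_injective_of_mono {X : Scheme.{u}} {M M' : X.Modules} (φ : M ⟶ M') [Mono φ]
    (x : X) : Function.Injective (RefHull.stalkMapₗ φ x) := by
  rw [injective_iff_map_eq_zero]
  intro a ha
  obtain ⟨U, hxU, s, rfl⟩ := TopCat.Presheaf.exists_germ_eq M.presheaf a
  rw [RefHull.stalkMapₗ_germ] at ha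
  have ha' : M'.presheaf.germ U x hxU (φ.app U s) = M'.presheaf.germ U x hxU 0 := by
    rw [ha, map_zero]
  obtain ⟨W, hxW, iU, iV, hW⟩ := TopCat.Presheaf.germ_eq M'.presheaf x hxU hxU _ _ ha'
  have h1 : φ.app W (M.presheaf.map iU.op s) = 0 := by
    have := QC.app_res φ iU.le s
    rw [map_zero] at hW
    exact this.trans hW
  have h2 : M.presheaf.map iU.op s = 0 :=
    QC.mono_app φ W (h1.trans (map_zero _).symm)
  rw [← TopCat.Presheaf.germ_res_apply M.presheaf iU x hxW s, h2, map_zero]

/-- `μ_g` is a monomorphism when `g` vanishes at no associated point of `F`. -/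
theorem mono_mu (F : (Proj (CohB1.polyGrading N k)).Modules) [F.IsQuasicoherent]
    (g : CohB1.polyGrading N k 1)
    (hg : ∀ x : (Proj (CohB1.polyGrading N k)), Curv2.IsAssPoint F x →
      (g : MvPolynomial (Fin (N + 1)) k) ∉ x.asHomogeneousIdeal) : Mono (mu F g) := by
  haveI hq1 : (CohB1.tensorMod F (twist (CohB1.polyGrading N k) (-((1 : ℕ) : ℤ)))).IsQuasicoherent :=
    QC.tensorMod_isQuasicoherent _ _
  have hinj : ∀ y : (Proj (CohB1.polyGrading N k)),
      Function.Injective (RefHull.stalkMapₗ (mu F g) y) := by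
    intro y
    rw [Groth.Agent.H2.IsoLocus.injective_iff]
    by_contra hns
    rw [not_subsingleton_iff_nontrivial] at hns
    haveI : (kernel (mu F g)).IsQuasicoherent := QC.qc_kernel _ hq1 inferInstance
    obtain ⟨x, -, hx⟩ := Groth.Agent.H3.AssSupp.exists_ass_generization (kernel (mu F g)) y hns
    have h1 : Curv2.IsAssPoint
        (CohB1.tensorMod F (twist (CohB1.polyGrading N k) (-((1 : ℕ) : ℤ)))) x :=
      IsAssociatedPrime.map_of_injective (RefHull.stalkMapₗ (kernel.ι (mu F g)) x) hx
        (stalk_injective_of_mono (kernel.ι (mu F g)) x)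
    have h2 := isAssPoint_of_twist F x h1
    have h4 := mu_stalk_bijective F g x (hg x h2)
    have h5 : Subsingleton ((kernel (mu F g)).presheaf.stalk x) :=
      (Groth.Agent.H2.IsoLocus.injective_iff _ x).mp h4.1
    haveI := Groth.Agent.H3.AssSupp.nontrivial_stalk_of_isAssPoint _ x hx
    exact not_subsingleton _ h5
  apply QC.mono_of_injective_app
  intro W
  rw [injective_iff_map_eq_zero]
  intro s hs
  apply Groth.Agent.H2.HomSh.section_ext_germ
  intro y hy
  apply hinj y
  rw [RefHull.stalkMapₗ_germ, hs, map_zero, map_zero, map_zero]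

end Groth.Agent.H2.Pencil
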