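import Mathlib
import Groth.Agent.Lib.Helper2.PencilB
import Groth.Agent.Lib.Helper2.PencilD
import Groth.Agent.Lib.Helper2.PencilG
import Groth.Agent.Lib.Lead.PN.SerreDualExt
import Groth.Agent.Lib.Lead.CohLES.DualLin

/-! Pencil argument: `h⁰(F(-1)) < h⁰(F)` for coherent `F` on `P^N` without closed associated
points (helper2). -/

set_option autoImplicit false
set_option linter.style.haveILetI false
universe u
open CategoryTheory CategoryTheory.Limits AlgebraicGeometry TopologicalSpace Opposite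

namespace Groth.Agent.H2.Pencil

open Groth.Agent.LD Twist TW Groth.Agent.H2.HypId

variable {N : ℕ} {k : Type u} [Field k]

/-- a pencil of linear forms all of whose nonzero members avoid the associated points. -/
theorem exists_good_pencil [Infinite k] (F : (Proj (CohB1.polyGrading N k)).Modules)
    (hF : Coh.IsCoh F)
    (hass : ∀ x : (Proj (CohB1.polyGrading N k)), Curv2.IsAssPoint F x →
      ¬ IsClosed ({x} : Set (Proj (CohB1.polyGrading N k)))) :
    ∃ ℓ ℓ' : CohB1.polyGrading N k 1, ∀ a b : k, (a ≠ 0 ∨ b ≠ 0) →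
      Mono (mu F (a • ℓ + b • ℓ')) := by
  haveI : F.IsQuasicoherent := hF.1
  have hfin : {x : (Proj (CohB1.polyGrading N k)) | Curv2.IsAssPoint F x}.Finite :=
    finite_assPoints F (fun i : Fin (N + 1) => LefPen.chart N k i)
      (fun i => isAffineOpen_chart N k i) (iSup_chart N k) hF.2
  haveI : Finite {x : (Proj (CohB1.polyGrading N k)) | Curv2.IsAssPoint F x} := hfin.to_subtype
  obtain ⟨ℓ, ℓ', h⟩ := exists_pencil
    (fun i : {x : (Proj (CohB1.polyGrading N k)) | Curv2.IsAssPoint F x} => Vx N k i.1)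
    (fun i => Vx_ne_top N k i.1)
    (fun i ℓ _ => sup_span_ne_top N k i.1 (hass i.1 i.2) ℓ)
  refine ⟨ℓ, ℓ', fun a b hab => ?_⟩
  apply mono_mu
  intro x hx hmem
  exact h a b hab ⟨x, hx⟩ hmem

/-- the linear family `g ↦ H⁰(μ_g)`. -/
noncomputable def Tmap (F : (Proj (CohB1.polyGrading N k)).Modules) :
    CohB1.polyGrading N k 1 →ₗ[k]
      (Coh.HH (Proj (CohB1.polyGrading N k))
        (CohB1.tensorMod F (twist (CohB1.polyGrading N k) (-((1 : ℕ) : ℤ)))) 0 →ₗ[k]
        Coh.HH (Proj (CohB1.polyGrading N k)) F 0) where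
  toFun g := CL.HHmap k (mu F g) 0
  map_add' g g' := by rw [mu_add, CL.HHmap_add]
  map_smul' a g := by rw [mu_smul, CL.HHmap_smul]; rfl

theorem Tmap_apply (F : (Proj (CohB1.polyGrading N k)).Modules) (g : CohB1.polyGrading N k 1) :
    Tmap F g = CL.HHmap k (mu F g) 0 := rfl

/-- **S5638** on `Proj`. -/
theorem finrank_twist_succ_le [IsAlgClosed k] (F : (Proj (CohB1.polyGrading N k)).Modules)
    (hF : Coh.IsCoh F)
    (hass : ∀ x : (Proj (CohB1.polyGrading N k)), Curv2.IsAssPoint F x →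
      ¬ IsClosed ({x} : Set (Proj (CohB1.polyGrading N k))))
    (h0 : 1 ≤ Module.finrank k (Coh.HH (Proj (CohB1.polyGrading N k)) F 0)) :
    Module.finrank k (Coh.HH (Proj (CohB1.polyGrading N k))
      (CohB1.tensorMod F (twist (CohB1.polyGrading N k) (-((1 : ℕ) : ℤ)))) 0) + 1 ≤
      Module.finrank k (Coh.HH (Proj (CohB1.polyGrading N k)) F 0) := by
  haveI : Infinite k := IsAlgClosed.instInfinite
  obtain ⟨ℓ, ℓ', h⟩ := exists_good_pencil F hF hass
  haveI : Module.Finite k (Coh.HH (Proj (CohB1.polyGrading N k)) F 0) :=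
    PN.finite_HH_coh' N k F hF 0
  by_cases hnt : Nontrivial (Coh.HH (Proj (CohB1.polyGrading N k))
      (CohB1.tensorMod F (twist (CohB1.polyGrading N k) (-((1 : ℕ) : ℤ)))) 0)
  · refine finrank_succ_le (Tmap F) ℓ ℓ' (fun a b hab => ?_)
    haveI := h a b hab
    rw [Tmap_apply]
    exact PN.injective_HHmap_zero k (mu F (a • ℓ + b • ℓ'))
  · rw [not_nontrivial_iff_subsingleton] at hnt
    rw [Module.finrank_zero_of_subsingleton]
    exact h0

end Groth.Agent.H2.Pencil
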