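import Mathlib
import Groth.Agent.Lib.Helper2.PencilH
import Groth.Agent.Lib.Lead.PN.SerreVanish
import Groth.Agent.Lib.Lead.PN.H0

/-! Pencil argument: vanishing of `H⁰(F(-n))` for `n ≥ h⁰(F)` (helper2). -/

set_option autoImplicit false
set_option linter.style.haveILetI false
universe u
open CategoryTheory CategoryTheory.Limits AlgebraicGeometry TopologicalSpace Opposite

namespace Groth.Agent.H2.Pencil

open Groth.Agent.LD Twist TW Groth.Agent.H2.HypId

variable {N : ℕ} {k : Type u} [Field k]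

theorem isCoh_twist (F : (Proj (CohB1.polyGrading N k)).Modules) (hF : Coh.IsCoh F) (d : ℤ) :
    Coh.IsCoh (CohB1.tensorMod F (twist (CohB1.polyGrading N k) d)) :=
  Groth.Agent.H5.Curve2.isCoh_tensor_of_isInvertible hF (PN.isInvertible_twist N k d)

theorem finrank_twist_le [IsAlgClosed k] (F : (Proj (CohB1.polyGrading N k)).Modules)
    (hF : Coh.IsCoh F)
    (hass : ∀ x : (Proj (CohB1.polyGrading N k)), Curv2.IsAssPoint F x →
      ¬ IsClosed ({x} : Set (Proj (CohB1.polyGrading N k)))) :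
    Module.finrank k (Coh.HH (Proj (CohB1.polyGrading N k))
      (CohB1.tensorMod F (twist (CohB1.polyGrading N k) (-((1 : ℕ) : ℤ)))) 0) ≤
      Module.finrank k (Coh.HH (Proj (CohB1.polyGrading N k)) F 0) := by
  haveI : Infinite k := IsAlgClosed.instInfinite
  obtain ⟨ℓ, ℓ', h⟩ := exists_good_pencil F hF hass
  haveI : Module.Finite k (Coh.HH (Proj (CohB1.polyGrading N k)) F 0) :=
    PN.finite_HH_coh' N k F hF 0
  haveI := h 1 0 (Or.inl one_ne_zero)
  exact LinearMap.finrank_le_finrank_of_injective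
    (PN.injective_HHmap_zero k (mu F ((1 : k) • ℓ + (0 : k) • ℓ')))

/-- **S5639** on `Proj`. -/
theorem subsingleton_H0_twist [IsAlgClosed k] : ∀ (n : ℕ)
    (F : (Proj (CohB1.polyGrading N k)).Modules) (_ : Coh.IsCoh F)
    (_ : ∀ x : (Proj (CohB1.polyGrading N k)), Curv2.IsAssPoint F x →
      ¬ IsClosed ({x} : Set (Proj (CohB1.polyGrading N k))))
    (_ : Module.finrank k (Coh.HH (Proj (CohB1.polyGrading N k)) F 0) ≤ n),
    Subsingleton (Coh.HH (Proj (CohB1.polyGrading N k))
      (CohB1.tensorMod F (twist (CohB1.polyGrading N k) (-(n : ℤ)))) 0)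
  | 0, F, hF, _, hn => by
    haveI : F.IsQuasicoherent := hF.1
    haveI : Module.Finite k (Coh.HH (Proj (CohB1.polyGrading N k)) F 0) :=
      PN.finite_HH_coh' N k F hF 0
    have h1 : Subsingleton (Coh.HH (Proj (CohB1.polyGrading N k)) F 0) :=
      Module.finrank_zero_iff.mp (Nat.le_zero.mp hn)
    let e0 : CohB1.tensorMod F (twist (CohB1.polyGrading N k) (-((0 : ℕ) : ℤ))) ≅ F :=
      QC.tensorIso' (Iso.refl F) (twistCongr (by simp) ≪≫ twistZeroIso (CohB1.polyGrading N k)) ≪≫
        SecTwist.unitorR F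
    exact PN.subsingleton_HH_of_iso e0.symm 0 h1
  | n + 1, F, hF, hass, hn => by
    haveI : F.IsQuasicoherent := hF.1
    have hG := isCoh_twist F hF (-((1 : ℕ) : ℤ))
    have hassG : ∀ x : (Proj (CohB1.polyGrading N k)),
        Curv2.IsAssPoint (CohB1.tensorMod F (twist (CohB1.polyGrading N k) (-((1 : ℕ) : ℤ)))) x →
        ¬ IsClosed ({x} : Set (Proj (CohB1.polyGrading N k))) :=
      fun x hx => hass x (isAssPoint_of_twist F x hx)
    have hnG : Module.finrank k (Coh.HH (Proj (CohB1.polyGrading N k))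
        (CohB1.tensorMod F (twist (CohB1.polyGrading N k) (-((1 : ℕ) : ℤ)))) 0) ≤ n := by
      by_cases h0 : 1 ≤ Module.finrank k (Coh.HH (Proj (CohB1.polyGrading N k)) F 0)
      · have := finrank_twist_succ_le F hF hass h0
        omega
      · have := finrank_twist_le F hF hass
        omega
    have ih := subsingleton_H0_twist n _ hG hassG hnG
    let e : CohB1.tensorMod (CohB1.tensorMod F (twist (CohB1.polyGrading N k) (-((1 : ℕ) : ℤ))))
        (twist (CohB1.polyGrading N k) (-(n : ℤ))) ≅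
        CohB1.tensorMod F (twist (CohB1.polyGrading N k) (-((n + 1 : ℕ) : ℤ))) :=
      QC.tensorAssoc F _ _ ≪≫ QC.tensorIso' (Iso.refl F)
        (PN.twistMulIso N k _ _ _ (by push_cast; ring))
    exact PN.subsingleton_HH_of_iso e 0 ih

end Groth.Agent.H2.Pencil
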