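import Mathlib

/-!
# Perfection preserves flatness and faithful flatness
-/

namespace Groth.Agent.H2.PerfFlat

universe u

section

variable (p : ℕ) [Fact p.Prime] {K L : Type*} [CommRing K] [CommRing L] (i : K →+* L)
  [IsPRadical i p]

lemma pow_mem_ge (x : L) : ∃ n, ∀ N, n ≤ N → ∃ y, i y = x ^ p ^ N := by
  obtain ⟨n, y, hy⟩ := IsPRadical.pow_mem i p x
  refine ⟨n, fun N hN => ⟨y ^ p ^ (N - n), ?_⟩⟩
  rw [map_pow, hy, ← pow_mul, ← pow_add, Nat.add_sub_cancel' hN]

lemma exists_common {ι : Type*} [Fintype ι] (x : ι → L) :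
    ∃ N, ∀ N', N ≤ N' → ∃ y : ι → K, ∀ k, i (y k) = x k ^ p ^ N' := by
  choose n hn using fun k => pow_mem_ge p i (x k)
  refine ⟨Finset.univ.sup n, fun N' hN' => ?_⟩
  have : ∀ k, ∃ y, i y = x k ^ p ^ N' := fun k =>
    hn k N' ((Finset.le_sup (Finset.mem_univ k)).trans hN')
  choose y hy using this
  exact ⟨y, hy⟩

end

theorem flat (p : ℕ) [Fact p.Prime]
    {A B A' B' : Type u} [CommRing A] [CommRing B] [CommRing A'] [CommRing B']
    [CharP A p] [CharP B p] [CharP A' p] [CharP B' p] [PerfectRing A' p] [PerfectRing B' p]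
    (φ : A →+* B) (hflat : φ.Flat) (i : A →+* A') (j : B →+* B') [IsPerfectClosure i p]
    [IsPerfectClosure j p] (φ' : A' →+* B') (hφ : φ'.comp i = j.comp φ) : φ'.Flat := by
  letI := φ.toAlgebra
  letI := φ'.toAlgebra
  have hflat' : Module.Flat A B := hflat
  change Module.Flat A' B'
  apply Module.Flat.of_forall_isTrivialRelation
  intro l a' b' hrel
  have hφ' : ∀ x, φ' (i x) = j (φ x) := fun x => RingHom.congr_fun hφ x
  have hrel' : ∑ k, φ' (a' k) * b' k = 0 := by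
    simpa [Algebra.smul_def, RingHom.algebraMap_toAlgebra] using hrel
  obtain ⟨N1, h1⟩ := exists_common p i a'
  obtain ⟨N2, h2⟩ := exists_common p j b'
  obtain ⟨α0, hα0⟩ := h1 (max N1 N2) (le_max_left _ _)
  obtain ⟨β0, hβ0⟩ := h2 (max N1 N2) (le_max_right _ _)
  have hker : ∑ k, φ (α0 k) * β0 k ∈ RingHom.ker j := by
    rw [RingHom.mem_ker, map_sum]
    have : ∀ k, j (φ (α0 k) * β0 k) = (φ' (a' k) * b' k) ^ p ^ (max N1 N2) := by
      intro k
      rw [map_mul, ← hφ', hα0, hβ0, map_pow, mul_pow]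
    simp_rw [this]
    rw [← sum_pow_char_pow, hrel', zero_pow (pow_ne_zero _ (Fact.out : p.Prime).ne_zero)]
  obtain ⟨m, hm⟩ := mem_pNilradical.mp (IsPRadical.ker_le j p hker)
  rw [sum_pow_char_pow] at hm
  have hαβ : ∑ k, (α0 k ^ p ^ m) • (β0 k ^ p ^ m) = 0 := by
    simp only [Algebra.smul_def, RingHom.algebraMap_toAlgebra, map_pow, ← mul_pow]
    exact hm
  obtain ⟨κ, γ, y, hy, hγ⟩ := Module.Flat.isTrivialRelation_of_sum_smul_eq_zero (R := A) (M := B)
    (f := fun k => α0 k ^ p ^ m) (x := fun k => β0 k ^ p ^ m) hαβ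
  replace hy : ∀ k, β0 k ^ p ^ m = ∑ t, γ k t • y t := hy
  replace hγ : ∀ t, ∑ k, α0 k ^ p ^ m * γ k t = 0 := hγ
  have hα : ∀ k, i (α0 k ^ p ^ m) = a' k ^ p ^ (max N1 N2 + m) := by
    intro k
    rw [map_pow, hα0, ← pow_mul, ← pow_add]
  have hβ : ∀ k, j (β0 k ^ p ^ m) = b' k ^ p ^ (max N1 N2 + m) := by
    intro k
    rw [map_pow, hβ0, ← pow_mul, ← pow_add]
  refine ⟨κ, fun k t => (iterateFrobeniusEquiv A' p (max N1 N2 + m)).symm (i (γ k t)),
    fun t => (iterateFrobeniusEquiv B' p (max N1 N2 + m)).symm (j (y t)), ?_, ?_⟩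
  · intro k
    apply (iterateFrobeniusEquiv B' p (max N1 N2 + m)).injective
    rw [map_sum]
    have e1 : iterateFrobeniusEquiv B' p (max N1 N2 + m) (b' k) =
        ∑ t, φ' (i (γ k t)) * j (y t) := by
      rw [iterateFrobeniusEquiv_def, ← hβ, hy k, map_sum]
      refine Finset.sum_congr rfl fun t _ => ?_
      rw [Algebra.smul_def, RingHom.algebraMap_toAlgebra, map_mul, hφ']
    rw [e1]
    refine Finset.sum_congr rfl fun t _ => ?_
    rw [Algebra.smul_def, RingHom.algebraMap_toAlgebra, map_mul, RingEquiv.apply_symm_apply]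
    congr 1
    rw [iterateFrobeniusEquiv_def, ← map_pow, ← iterateFrobeniusEquiv_def (R := A'),
      RingEquiv.apply_symm_apply]
  · intro t
    apply (iterateFrobeniusEquiv A' p (max N1 N2 + m)).injective
    rw [map_zero, map_sum]
    have : ∀ k, iterateFrobeniusEquiv A' p (max N1 N2 + m)
        (a' k * (iterateFrobeniusEquiv A' p (max N1 N2 + m)).symm (i (γ k t))) =
          i (α0 k ^ p ^ m * γ k t) := by
      intro k
      rw [map_mul, RingEquiv.apply_symm_apply, iterateFrobeniusEquiv_def, ← hα, map_mul]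
    simp_rw [this]
    rw [← map_sum, hγ t, map_zero]

theorem faithfullyFlat (p : ℕ) [Fact p.Prime]
    {A B A' B' : Type u} [CommRing A] [CommRing B] [CommRing A'] [CommRing B']
    [CharP A p] [CharP B p] [CharP A' p] [CharP B' p] [PerfectRing A' p] [PerfectRing B' p]
    (φ : A →+* B) (hflat : φ.FaithfullyFlat) (i : A →+* A') (j : B →+* B') [IsPerfectClosure i p]
    [IsPerfectClosure j p] (φ' : A' →+* B') (hφ : φ'.comp i = j.comp φ) : φ'.FaithfullyFlat := by
  have hfl : φ'.Flat := flat p φ hflat.flat i j φ' hφ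
  have hφ' : ∀ x, φ' (i x) = j (φ x) := fun x => RingHom.congr_fun hφ x
  have hp0 : ∀ n, p ^ n ≠ 0 := fun n => pow_ne_zero _ (Fact.out : p.Prime).ne_zero
  letI := φ.toAlgebra
  letI := φ'.toAlgebra
  have hff : Module.FaithfullyFlat A B := hflat
  change Module.FaithfullyFlat A' B'
  have hfl' : Module.Flat A' B' := hfl
  refine (Module.FaithfullyFlat.iff_flat_and_ideal_smul_eq_top A' B').mpr ⟨hfl', ?_⟩
  intro I hI
  have h1 : (1 : B') ∈ I.map φ' := by
    have : (1 : B') ∈ (I • ⊤ : Submodule A' B') := by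
      rw [hI]
      trivial
    rw [Ideal.smul_top_eq_map] at this
    exact this
  have key : ∀ b' ∈ I.map φ', ∃ n b, j b = b' ^ p ^ n ∧ b ∈ (I.comap i).map φ := by
    intro b' hb'
    induction hb' using Submodule.span_induction with
    | mem x hx =>
      obtain ⟨a', ha', rfl⟩ := hx
      obtain ⟨n, α, hα⟩ := IsPRadical.pow_mem i p a'
      refine ⟨n, φ α, ?_, Ideal.mem_map_of_mem φ ?_⟩
      · rw [← hφ', hα, map_pow]
      · rw [Ideal.mem_comap, hα]
        exact Ideal.pow_mem_of_mem I ha' _ (Nat.pos_of_ne_zero (hp0 n))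
    | zero =>
      exact ⟨0, 0, by simp, Ideal.zero_mem _⟩
    | add x y _ _ hx hy =>
      obtain ⟨n1, b1, h1, hb1⟩ := hx
      obtain ⟨n2, b2, h2, hb2⟩ := hy
      refine ⟨n1 + n2, b1 ^ p ^ n2 + b2 ^ p ^ n1, ?_, Ideal.add_mem _ ?_ ?_⟩
      · rw [map_add, map_pow, map_pow, h1, h2, add_pow_char_pow, ← pow_mul, ← pow_mul, ← pow_add,
          ← pow_add, add_comm n2 n1]
      · exact Ideal.pow_mem_of_mem _ hb1 _ (Nat.pos_of_ne_zero (hp0 n2))
      · exact Ideal.pow_mem_of_mem _ hb2 _ (Nat.pos_of_ne_zero (hp0 n1))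
    | smul c x _ hx =>
      obtain ⟨n1, b1, h1, hb1⟩ := hx
      obtain ⟨n0, γ, hγ⟩ := IsPRadical.pow_mem j p c
      refine ⟨n0 + n1, γ ^ p ^ n1 * b1 ^ p ^ n0, ?_, Ideal.mul_mem_left _ _ ?_⟩
      · rw [map_mul, map_pow, map_pow, h1, hγ, smul_eq_mul, mul_pow, ← pow_mul, ← pow_mul,
          ← pow_add, ← pow_add, add_comm n1 n0]
      · exact Ideal.pow_mem_of_mem _ hb1 _ (Nat.pos_of_ne_zero (hp0 n0))
  obtain ⟨n, b, hb, hbq⟩ := key 1 h1
  rw [one_pow] at hb
  have hnil : IsNilpotent (b - 1) := by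
    have : b - 1 ∈ RingHom.ker j := by
      rw [RingHom.mem_ker, map_sub, hb, map_one, sub_self]
    obtain ⟨m, hm⟩ := mem_pNilradical.mp (IsPRadical.ker_le j p this)
    exact ⟨p ^ m, hm⟩
  have hunit : IsUnit b := by
    have := hnil.isUnit_add_one
    simpa using this
  have htop : (I.comap i).map φ = ⊤ := Ideal.eq_top_of_isUnit_mem _ hbq hunit
  have hq : I.comap i = ⊤ := by
    apply ((Module.FaithfullyFlat.iff_flat_and_ideal_smul_eq_top A B).mp hff).2
    rw [Ideal.smul_top_eq_map]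
    change Submodule.restrictScalars A ((I.comap i).map φ) = ⊤
    rw [htop]
    rfl
  rw [Ideal.eq_top_iff_one] at hq ⊢
  simpa using hq

end Groth.Agent.H2.PerfFlat
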