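import Mathlib
import Groth.Agent.Lib.Helper2.PerfFlat

/-!
# A ring with flat Frobenius maps faithfully flatly to its perfect closure
-/

namespace Groth.Agent.H2.PerfFlat

universe u

theorem flat_of_iterateFrobenius_flat (p : ℕ) [Fact p.Prime] {R R' : Type u} [CommRing R]
    [CommRing R'] [CharP R p] [CharP R' p] [PerfectRing R' p] (i : R →+* R')
    [IsPerfectClosure i p] (hF : ∀ N, (iterateFrobenius R p N).Flat) : i.Flat := by
  letI := i.toAlgebra
  change Module.Flat R R'
  apply Module.Flat.of_forall_isTrivialRelation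
  intro l r y hrel
  have hrel' : ∑ k, i (r k) * y k = 0 := by
    simpa [Algebra.smul_def, RingHom.algebraMap_toAlgebra] using hrel
  obtain ⟨N1, h1⟩ := exists_common p i y
  obtain ⟨s0, hs0⟩ := h1 N1 le_rfl
  have hker : ∑ k, r k ^ p ^ N1 * s0 k ∈ RingHom.ker i := by
    rw [RingHom.mem_ker, map_sum]
    have : ∀ k, i (r k ^ p ^ N1 * s0 k) = (i (r k) * y k) ^ p ^ N1 := by
      intro k
      rw [map_mul, hs0, map_pow, mul_pow]
    simp_rw [this]
    rw [← sum_pow_char_pow, hrel', zero_pow (pow_ne_zero _ (Fact.out : p.Prime).ne_zero)]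
  obtain ⟨m, hm⟩ := mem_pNilradical.mp (IsPRadical.ker_le i p hker)
  rw [sum_pow_char_pow] at hm
  -- the relation in `R` viewed as a module over itself through the iterated Frobenius
  letI algF : Algebra R R := (iterateFrobenius R p (N1 + m)).toAlgebra
  have hflatF : @Module.Flat R R _ _ algF.toModule := hF (N1 + m)
  have hrelF : ∑ k, @HSMul.hSMul R R R (@instHSMul R R algF.toSMul) (r k) (s0 k ^ p ^ m) = 0 := by
    have : ∀ k, @HSMul.hSMul R R R (@instHSMul R R algF.toSMul) (r k) (s0 k ^ p ^ m) =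
        (r k ^ p ^ N1 * s0 k) ^ p ^ m := by
      intro k
      change (iterateFrobenius R p (N1 + m)) (r k) * s0 k ^ p ^ m = _
      rw [iterateFrobenius_def, mul_pow, ← pow_mul, ← pow_add]
    simp_rw [this]
    exact hm
  obtain ⟨κ, c, z, hz, hc⟩ := @Module.Flat.isTrivialRelation_of_sum_smul_eq_zero R R _ _
    algF.toModule hflatF _ _ (fun k => r k) (fun k => s0 k ^ p ^ m) hrelF
  replace hz : ∀ k, s0 k ^ p ^ m = ∑ t, c k t ^ p ^ (N1 + m) * z t := by
    intro k
    exact hz k
  have hy : ∀ k, i (s0 k ^ p ^ m) = y k ^ p ^ (N1 + m) := by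
    intro k
    rw [map_pow, hs0, ← pow_mul, ← pow_add]
  refine ⟨κ, c, fun t => (iterateFrobeniusEquiv R' p (N1 + m)).symm (i (z t)), ?_, hc⟩
  intro k
  apply (iterateFrobeniusEquiv R' p (N1 + m)).injective
  rw [map_sum, iterateFrobeniusEquiv_def, ← hy, hz k, map_sum]
  refine Finset.sum_congr rfl fun t _ => ?_
  change i (c k t ^ p ^ (N1 + m) * z t) = (iterateFrobeniusEquiv R' p (N1 + m))
    (i (c k t) * (iterateFrobeniusEquiv R' p (N1 + m)).symm (i (z t)))
  rw [map_mul (iterateFrobeniusEquiv R' p (N1 + m)), RingEquiv.apply_symm_apply,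
    iterateFrobeniusEquiv_def, map_mul, map_pow]

theorem faithfullyFlat_of_flat (p : ℕ) [Fact p.Prime] {R R' : Type u} [CommRing R]
    [CommRing R'] [CharP R p] [CharP R' p] [PerfectRing R' p] (i : R →+* R')
    [IsPerfectClosure i p] (hfl : i.Flat) : i.FaithfullyFlat := by
  have hp0 : ∀ n, p ^ n ≠ 0 := fun n => pow_ne_zero _ (Fact.out : p.Prime).ne_zero
  letI := i.toAlgebra
  change Module.FaithfullyFlat R R'
  have hfl' : Module.Flat R R' := hfl
  refine (Module.FaithfullyFlat.iff_flat_and_ideal_smul_eq_top R R').mpr ⟨hfl', ?_⟩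
  intro I hI
  have h1 : (1 : R') ∈ I.map i := by
    have : (1 : R') ∈ (I • ⊤ : Submodule R R') := by
      rw [hI]
      trivial
    rw [Ideal.smul_top_eq_map] at this
    exact this
  have key : ∀ y ∈ I.map i, ∃ n s, i s = y ^ p ^ n ∧ s ∈ I := by
    intro y hy
    induction hy using Submodule.span_induction with
    | mem x hx =>
      obtain ⟨a, ha, rfl⟩ := hx
      exact ⟨0, a, by simp, ha⟩
    | zero =>
      exact ⟨0, 0, by simp, Ideal.zero_mem _⟩
    | add x y _ _ hx hy =>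
      obtain ⟨n1, b1, h1, hb1⟩ := hx
      obtain ⟨n2, b2, h2, hb2⟩ := hy
      refine ⟨n1 + n2, b1 ^ p ^ n2 + b2 ^ p ^ n1, ?_, Ideal.add_mem _ ?_ ?_⟩
      · rw [map_add, map_pow, map_pow, h1, h2, add_pow_char_pow, ← pow_mul, ← pow_mul, ← pow_add,
          ← pow_add, add_comm n2 n1]
      · exact Ideal.pow_mem_of_mem _ hb1 _ (Nat.pos_of_ne_zero (hp0 n2))
      · exact Ideal.pow_mem_of_mem _ hb2 _ (Nat.pos_of_ne_zero (hp0 n1))
    | smul c x _ hx =>
      obtain ⟨n1, b1, h1, hb1⟩ := hx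
      obtain ⟨n0, γ, hγ⟩ := IsPRadical.pow_mem i p c
      refine ⟨n0 + n1, γ ^ p ^ n1 * b1 ^ p ^ n0, ?_, Ideal.mul_mem_left _ _ ?_⟩
      · rw [map_mul, map_pow, map_pow, h1, hγ, smul_eq_mul, mul_pow, ← pow_mul, ← pow_mul,
          ← pow_add, ← pow_add, add_comm n1 n0]
      · exact Ideal.pow_mem_of_mem _ hb1 _ (Nat.pos_of_ne_zero (hp0 n0))
  obtain ⟨n, b, hb, hbI⟩ := key 1 h1
  rw [one_pow] at hb
  have hnil : IsNilpotent (b - 1) := by
    have : b - 1 ∈ RingHom.ker i := by
      rw [RingHom.mem_ker, map_sub, hb, map_one, sub_self]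
    obtain ⟨m, hm⟩ := mem_pNilradical.mp (IsPRadical.ker_le i p this)
    exact ⟨p ^ m, hm⟩
  have hunit : IsUnit b := by
    have := hnil.isUnit_add_one
    simpa using this
  exact Ideal.eq_top_of_isUnit_mem _ hbI hunit

theorem iterateFrobenius_flat (p : ℕ) [Fact p.Prime] {R : Type u} [CommRing R] [CharP R p]
    (hF : (frobenius R p).Flat) (N : ℕ) : (iterateFrobenius R p N).Flat := by
  induction N with
  | zero =>
    rw [iterateFrobenius_zero]
    exact RingHom.Flat.id R
  | succ N ih =>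
    rw [iterateFrobenius_add, iterateFrobenius_one]
    exact RingHom.Flat.comp hF ih

end Groth.Agent.H2.PerfFlat
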