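import Mathlib
import Groth.Agent.Lib.Helper2.PerfFlat2

/-!
# A ring with a `p`-basis has flat Frobenius, hence maps faithfully flatly to its perfect closure
-/

namespace Groth.Agent.H2.PerfFlat

universe u

/-- `R` viewed as an algebra over itself through the Frobenius. -/
def Tw (R : Type u) (_p : ℕ) : Type u := R

instance (R : Type u) (p : ℕ) [CommRing R] : CommRing (Tw R p) := inferInstanceAs (CommRing R)

noncomputable instance (R : Type u) (p : ℕ) [CommRing R] [Fact p.Prime] [CharP R p] :
    Algebra R (Tw R p) := (frobenius R p).toAlgebra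

lemma tw_smul_def (R : Type u) (p : ℕ) [CommRing R] [Fact p.Prime] [CharP R p] (r : R)
    (y : Tw R p) : r • y = (show Tw R p from r ^ p) * y := rfl

theorem frobenius_flat_of_pbasis (p : ℕ) [Fact p.Prime] (R : Type u) [CommRing R] [CharP R p]
    (ι : Type u) (x : ι → R)
    (hx : Function.Bijective
      (fun c : {e : ι →₀ ℕ // ∀ i, e i < p} →₀ R =>
        c.sum (fun e r => r ^ p * e.1.prod (fun i n => x i ^ n)))) :
    (frobenius R p).Flat := by
  let mon : {e : ι →₀ ℕ // ∀ i, e i < p} → Tw R p := fun e => e.1.prod (fun i n => x i ^ n)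
  let Φ : ({e : ι →₀ ℕ // ∀ i, e i < p} →₀ R) →ₗ[R] Tw R p := Finsupp.linearCombination R mon
  have hΦ : (Φ : ({e : ι →₀ ℕ // ∀ i, e i < p} →₀ R) → Tw R p) =
      (fun c : {e : ι →₀ ℕ // ∀ i, e i < p} →₀ R =>
        c.sum (fun e r => r ^ p * e.1.prod (fun i n => x i ^ n))) := by
    funext c
    rw [Finsupp.linearCombination_apply]
    rfl
  have hbij : Function.Bijective Φ := by
    rw [hΦ]
    exact hx
  have hfree : Module.Free R (Tw R p) := Module.Free.of_equiv (LinearEquiv.ofBijective Φ hbij)
  have hflat : Module.Flat R (Tw R p) := inferInstance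
  exact hflat

theorem main (p : ℕ) [Fact p.Prime] (R : Type u) [CommRing R] [CharP R p] (ι : Type u)
    (x : ι → R)
    (hx : Function.Bijective
      (fun c : {e : ι →₀ ℕ // ∀ i, e i < p} →₀ R =>
        c.sum (fun e r => r ^ p * e.1.prod (fun i n => x i ^ n)))) :
    (PerfectClosure.of R p).FaithfullyFlat := by
  have hF := frobenius_flat_of_pbasis p R ι x hx
  exact faithfullyFlat_of_flat p _
    (flat_of_iterateFrobenius_flat p _ (iterateFrobenius_flat p hF))

end Groth.Agent.H2.PerfFlat
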