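import Mathlib

/-!
# The radical of a principal ideal of a perfect ring is flat
-/

namespace Groth.Agent.H2.PerfRad

universe u

variable (p : ℕ) [Fact p.Prime] (A : Type u) [CommRing A] [CharP A p] [PerfectRing A p] (f : A)

/-- The `p^n`-th root of `f`. -/
noncomputable def root (n : ℕ) : A := (iterateFrobeniusEquiv A p n).symm f

lemma root_pow (n : ℕ) : root p A f n ^ p ^ n = f := by
  have := (iterateFrobeniusEquiv A p n).apply_symm_apply f
  rwa [iterateFrobeniusEquiv_def] at this

lemma root_succ_pow (n : ℕ) : root p A f (n + 1) ^ p = root p A f n := by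
  apply (iterateFrobeniusEquiv A p n).injective
  rw [iterateFrobeniusEquiv_def, iterateFrobeniusEquiv_def, root_pow, ← pow_mul, ← pow_succ',
    root_pow]

lemma root_mem (n : ℕ) : root p A f n ∈ (Ideal.span {f}).radical :=
  ⟨p ^ n, by rw [root_pow]; exact Ideal.subset_span rfl⟩

lemma exists_eq_mul_root {x : A} (hx : x ∈ (Ideal.span {f}).radical) :
    ∃ n b, x = b * root p A f n := by
  obtain ⟨m, hm⟩ := hx
  obtain ⟨c, hc⟩ := Ideal.mem_span_singleton'.mp hm
  have hp : 1 < p := (Fact.out : p.Prime).one_lt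
  obtain ⟨n, hn⟩ : ∃ n, m ≤ p ^ n := ⟨m, (Nat.lt_pow_self hp).le⟩
  refine ⟨n, (iterateFrobeniusEquiv A p n).symm (x ^ (p ^ n - m) * c), ?_⟩
  apply (iterateFrobeniusEquiv A p n).injective
  rw [map_mul, RingEquiv.apply_symm_apply, iterateFrobeniusEquiv_def, iterateFrobeniusEquiv_def,
    root_pow, mul_assoc, hc, ← pow_add]
  congr 1
  omega

lemma mul_root_le {n k : ℕ} (hnk : n ≤ k) (b : A) :
    ∃ b', b * root p A f n = b' * root p A f k := by
  induction k, hnk using Nat.le_induction with
  | base => exact ⟨b, rfl⟩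
  | succ k _ ih =>
    obtain ⟨b', hb'⟩ := ih
    have hp : 1 ≤ p := (Fact.out : p.Prime).one_lt.le
    refine ⟨b' * root p A f (k + 1) ^ (p - 1), ?_⟩
    rw [hb', mul_assoc, ← pow_succ, Nat.sub_add_cancel hp, root_succ_pow]

theorem flat (p : ℕ) [Fact p.Prime] (A : Type u) [CommRing A] [CharP A p] [PerfectRing A p]
    (f : A) : Module.Flat A ((Ideal.span {f}).radical) := by
  apply Module.Flat.of_forall_isTrivialRelation
  intro l a x hax
  have hp2 : 2 ≤ p := (Fact.out : p.Prime).two_le
  -- common exponent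
  have h1 : ∀ i, ∃ n b, (x i : A) = b * root p A f n := fun i => exists_eq_mul_root p A f (x i).2
  choose n b hb using h1
  obtain ⟨N, hN⟩ : ∃ N, ∀ i, n i ≤ N := ⟨Finset.univ.sup n, fun i => Finset.le_sup (Finset.mem_univ i)⟩
  have h2 : ∀ i, ∃ b', (x i : A) = b' * root p A f N := by
    intro i
    obtain ⟨b', hb'⟩ := mul_root_le p A f (hN i) (b i)
    exact ⟨b', (hb i).trans hb'⟩
  choose c hc using h2
  have hs : (∑ i, a i * c i) * root p A f N = 0 := by
    have := congrArg (Subtype.val) hax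
    simp only [Submodule.coe_sum, Submodule.coe_smul, smul_eq_mul, Submodule.coe_zero] at this
    rw [Finset.sum_mul, ← this]
    refine Finset.sum_congr rfl fun i _ => ?_
    rw [hc i, mul_assoc]
  have hs' : (∑ i, a i * c i) * root p A f (N + 1) = 0 := by
    apply injective_frobenius A p
    rw [map_zero, frobenius_def, mul_pow, root_succ_pow]
    obtain ⟨q, rfl⟩ : ∃ q, p = q + 1 := ⟨p - 1, by omega⟩
    rw [pow_succ, mul_assoc, hs, mul_zero]
  refine ⟨1, fun i _ => c i * root p A f (N + 1) ^ (p - 1),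
    fun _ => ⟨root p A f (N + 1), root_mem p A f (N + 1)⟩, ?_, ?_⟩
  · intro i
    apply Subtype.ext
    simp only [Finset.univ_unique, Finset.sum_singleton, Submodule.coe_smul, smul_eq_mul]
    rw [hc i, mul_assoc, ← pow_succ, Nat.sub_add_cancel (by omega), root_succ_pow]
  · intro _
    obtain ⟨q, hq⟩ : ∃ q, p - 1 = q + 1 := ⟨p - 2, by omega⟩
    have : ∀ i, a i * (c i * root p A f (N + 1) ^ (p - 1)) =
        (a i * c i) * root p A f (N + 1) * root p A f (N + 1) ^ q := by
      intro i
      rw [hq, pow_succ']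
      ring
    simp_rw [this]
    rw [← Finset.sum_mul, ← Finset.sum_mul, hs', zero_mul]

end Groth.Agent.H2.PerfRad
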