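import Mathlib
import Groth.Agent.Lib.Helper2.PicPnE
import Groth.Agent.Lib.Lead.PN.Duality

set_option autoImplicit false
universe u
open CategoryTheory AlgebraicGeometry TopologicalSpace Opposite AddMonoidAlgebra

namespace Groth.Agent.H2.PicPn

open Groth.Agent.LD Groth.Agent.LD.PN Groth.Agent.LD.TW Twist Groth.Agent.LD.QC

variable {n : ℕ} {R : Type u} [CommRing R]

lemma section_eq_zero_of_isZero' {X : Scheme.{u}} {M : X.Modules} (h : Limits.IsZero M)
    {U : X.Opens} (s : Γ(M, U)) : s = 0 := by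
  have h1 : (𝟙 M : M ⟶ M) = 0 := h.eq_of_src _ _
  have h2 := congrArg (fun φ : M ⟶ M => φ.app U s) h1
  simpa using h2

lemma not_isZero_of_isBasisOver {X : Scheme.{u}} {L : X.Modules} {U : X.Opens} {e : Γ(L, U)}
    (he : IsBasisOver L U e) [Nontrivial Γ(X, U)] : ¬ Limits.IsZero L := by
  intro hz
  have h1 := (he U le_rfl).1
  have h2 : (1 : Γ(X, U)) = 0 :=
    h1 ((section_eq_zero_of_isZero' hz _).trans (section_eq_zero_of_isZero' hz _).symm)
  exact one_ne_zero h2

/-- the twisting sheaves are nonzero over a nontrivial ring. -/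
theorem not_isZero_twist [Nontrivial R] (d : ℤ) :
    ¬ Limits.IsZero (twist (CohB1.polyGrading n R) d) := by
  obtain ⟨u, hu, -⟩ := exists_unit_basis (R := R) (0 : Fin (n+1)) d
  haveI : Nontrivial Γ(Proj (CohB1.polyGrading n R), DD n R 0) :=
    (chartEquiv n R 0).toEquiv.nontrivial
  exact not_isZero_of_isBasisOver hu.isBasisOver

variable (R) in
/-- on `P^{m+1}`, the twisting sheaves `O(d)` are pairwise non-isomorphic. -/
theorem twist_iso_unique [Nontrivial R] (m : ℕ) {d d' : ℤ}
    (φ : twist (CohB1.polyGrading (m+1) R) d ≅ twist (CohB1.polyGrading (m+1) R) d') : d = d' := by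
  by_contra hne
  rcases lt_or_gt_of_ne hne with h | h
  · have h1 := hom_eq_zero R m h φ.inv
    apply not_isZero_twist (n := m+1) (R := R) d'
    rw [Limits.IsZero.iff_id_eq_zero, ← φ.inv_hom_id, h1, Limits.zero_comp]
  · have h1 := hom_eq_zero R m h φ.hom
    apply not_isZero_twist (n := m+1) (R := R) d
    rw [Limits.IsZero.iff_id_eq_zero, ← φ.hom_inv_id, h1, Limits.zero_comp]

end Groth.Agent.H2.PicPn
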