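import Mathlib
import Groth.Agent.Lib.Helper2.PicPnE
import Groth.Agent.Lib.Lead.PN.ExtSplit

/-! # Extensions of invertible modules on `P^n`, `n ≥ 2`, over a factorial ring split. -/

set_option autoImplicit false
universe u
open CategoryTheory AlgebraicGeometry TopologicalSpace Opposite Limits

namespace Groth.Agent.H2.PicPn

open Groth.Agent.LD Groth.Agent.LD.PN Twist

variable {n : ℕ} {R : Type u} [CommRing R]

/-- a rank-2 bundle on `P^n_R`, `n ≥ 2`, `R` factorial, which is an extension of two invertible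
modules is a direct sum of two twisting sheaves. -/
theorem exists_iso_biprod_of_shortExact [IsDomain R] [UniqueFactorizationMonoid R] (hn : 2 ≤ n)
    (S : ShortComplex (Proj (CohB1.polyGrading n R)).Modules) (hS : S.ShortExact)
    (h₁ : PicF.IsInvertible S.X₁) (h₃ : PicF.IsInvertible S.X₃) :
    ∃ a b : ℤ, Nonempty (S.X₂ ≅ twist (CohB1.polyGrading n R) a ⊞ twist (CohB1.polyGrading n R) b) := by
  obtain ⟨a, ⟨α⟩⟩ := exists_iso_twist (n := n) (R := R) S.X₁ h₁
  obtain ⟨b, ⟨β⟩⟩ := exists_iso_twist (n := n) (R := R) S.X₃ h₃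
  obtain ⟨σ⟩ := nonempty_splitting n R hn a b S hS ⟨α⟩ ⟨β⟩
  exact ⟨a, b, ⟨σ.isoBinaryBiproduct ≪≫ biprod.mapIso α β⟩⟩

end Groth.Agent.H2.PicPn
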