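import Groth.Agent.Lib.Helper2.GrassChartE

/-! # Plücker coordinates: minors of the matrices parametrising the charts of the Grassmannian. -/

universe u
open TensorProduct Module Module.Grassmannian Matrix

namespace Groth.Agent.H2.Pluecker
open Groth.Agent.H2.GrassAlg Groth.Agent.H2.GrassChart

variable {R : Type u} [CommRing R] {n q : ℕ} {A : Type u} [CommRing A] [Algebra R A]

/-- the `q × q` submatrix of rows `y`. -/
def sub (t : Fin n → Fin q → A) (y : Fin q → Fin n) : Matrix (Fin q) (Fin q) A :=
  Matrix.of fun a b => t (y a) b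

/-- the minor of rows `y`. -/
def minor (t : Fin n → Fin q → A) (y : Fin q → Fin n) : A := (sub t y).det

omit [CommRing A] in
lemma sub_apply (t : Fin n → Fin q → A) (y : Fin q → Fin n) (a b : Fin q) :
    sub t y a b = t (y a) b := rfl

lemma minor_map {B : Type u} [CommRing B] (φ : A →+* B) (t : Fin n → Fin q → A)
    (y : Fin q → Fin n) : minor (fun j i => φ (t j i)) y = φ (minor t y) := by
  rw [minor, minor, RingHom.map_det]
  rfl

lemma T_sum_smul (t : Fin n → Fin q → A) (y : Fin q → Fin n) (c : Fin q → A) :
    T R A t (∑ a, c a • ε R A (y a)) = c ᵥ* sub t y := by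
  rw [map_sum]
  simp_rw [map_smul, T_ε]
  funext b
  simp [Matrix.vecMul, dotProduct, sub_apply, Finset.sum_apply]

/-- if the minor is a unit, the chosen basis vectors generate the quotient. -/
lemma sup_L_eq_top_of_isUnit (t : Fin n → Fin q → A) (y : Fin q → Fin n)
    (hu : IsUnit (minor t y)) : LinearMap.ker (T R A t) ⊔ L R y A = ⊤ := by
  rw [eq_top_iff]
  intro v _
  have hM : IsUnit (sub t y).det := hu
  let c : Fin q → A := (T R A t v) ᵥ* (sub t y)⁻¹
  have hc : c ᵥ* sub t y = T R A t v := by
    change ((T R A t v) ᵥ* (sub t y)⁻¹) ᵥ* sub t y = _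
    rw [Matrix.vecMul_vecMul, Matrix.nonsing_inv_mul _ hM, Matrix.vecMul_one]
  have h1 : v - ∑ a, c a • ε R A (y a) ∈ LinearMap.ker (T R A t) := by
    rw [LinearMap.mem_ker, map_sub, T_sum_smul, hc, sub_self]
  have h2 : ∑ a, c a • ε R A (y a) ∈ L R y A :=
    Submodule.sum_mem _ (fun a _ => Submodule.smul_mem _ _ (Submodule.subset_span ⟨a, rfl⟩))
  have := Submodule.add_mem_sup h1 h2
  rwa [sub_add_cancel] at this

/-- conversely, for a valid matrix, if the chosen basis vectors generate the quotient then the
minor is a unit. -/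
lemma isUnit_of_sup_L_eq_top {x : Fin q → Fin n} (t : Fin n → Fin q → A) (ht : Valid A x t)
    (y : Fin q → Fin n) (h : LinearMap.ker (T R A t) ⊔ L R y A = ⊤) : IsUnit (minor t y) := by
  classical
  have key : ∀ b : Fin q, ∃ c : Fin q → A, c ᵥ* sub t y = Pi.single b 1 := by
    intro b
    obtain ⟨v, hv⟩ := T_surjective (R := R) ht (Pi.single b 1)
    have hv' : v ∈ LinearMap.ker (T R A t) ⊔ L R y A := h ▸ Submodule.mem_top
    obtain ⟨v1, hv1, v2, hv2, rfl⟩ := Submodule.mem_sup.mp hv'
    rw [L, Submodule.mem_span_range_iff_exists_fun] at hv2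
    obtain ⟨c, rfl⟩ := hv2
    refine ⟨c, ?_⟩
    rw [← T_sum_smul (R := R), ← hv, map_add, LinearMap.mem_ker.mp hv1, zero_add]
  choose C hC using key
  have hmul : Matrix.of C * sub t y = 1 := by
    ext b b'
    have := congrFun (hC b) b'
    rw [Matrix.one_apply]
    have h2 : (Matrix.of C * sub t y) b b' = (C b ᵥ* sub t y) b' := by
      simp [Matrix.mul_apply, Matrix.vecMul, dotProduct]
    rw [h2, this, Pi.single_apply]
    by_cases hbb : b = b'
    · subst hbb; simp
    · simp [hbb, Ne.symm hbb]
  have hdet : (Matrix.of C).det * (sub t y).det = 1 := by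
    rw [← Matrix.det_mul, hmul, Matrix.det_one]
  exact IsUnit.of_mul_eq_one _ (by rw [mul_comm]; exact hdet)

/-- **Change of chart.** -/
lemma exists_transition {x : Fin q → Fin n} (t : Fin n → Fin q → A) (ht : Valid A x t)
    (y : Fin q → Fin n) (hu : IsUnit (minor t y)) :
    ∃ (t' : Fin n → Fin q → A) (ht' : Valid A y t'),
      chartPt R t' ht' = chartPt R t ht ∧ ∀ z, minor t z = minor t y * minor t' z := by
  classical
  have hM : IsUnit (sub t y).det := hu
  let t' : Fin n → Fin q → A := fun j => (t j) ᵥ* (sub t y)⁻¹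
  have hsub : ∀ z : Fin q → Fin n, sub t' z = sub t z * (sub t y)⁻¹ := by
    intro z
    ext a b
    rfl
  have ht' : Valid A y t' := by
    intro a
    have h1 : sub t' y = 1 := by rw [hsub, Matrix.mul_nonsing_inv _ hM]
    funext b
    have := congrFun (congrFun h1 a) b
    rw [sub_apply, Matrix.one_apply] at this
    rw [this, Pi.single_apply]
    by_cases hab : a = b
    · subst hab; simp
    · simp [hab, Ne.symm hab]
  have hT : ∀ v, T R A t' v = (T R A t v) ᵥ* (sub t y)⁻¹ := by
    have : T R A t' = (Matrix.vecMulLinear (sub t y)⁻¹) ∘ₗ T R A t := by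
      apply (bA R A).ext
      intro j
      rw [bA_apply, T_ε, LinearMap.comp_apply, T_ε]
      rfl
    intro v
    rw [this]
    rfl
  refine ⟨t', ht', ?_, ?_⟩
  · apply Grassmannian.ext
    rw [chartPt_toSubmodule, chartPt_toSubmodule]
    ext v
    rw [LinearMap.mem_ker, LinearMap.mem_ker, hT]
    constructor
    · intro h
      have := congrArg (fun w => w ᵥ* sub t y) h
      simp only [Matrix.vecMul_vecMul, Matrix.nonsing_inv_mul _ hM, Matrix.vecMul_one,
        Matrix.zero_vecMul] at this
      exact this
    · intro h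
      rw [h, Matrix.zero_vecMul]
  · intro z
    rw [minor, minor, minor, hsub, Matrix.det_mul, Matrix.det_nonsing_inv, ← mul_assoc,
      mul_comm (sub t y).det, mul_assoc, Ring.mul_inverse_cancel _ hM, mul_one]

/-- minors for two enumerations of the same set of rows differ by a sign. -/
lemma minor_eq_sign_mul (t : Fin n → Fin q → A) (y y' : Fin q → Fin n)
    (hy' : Function.Injective y')
    (h : Set.range y = Set.range y') :
    ∃ ε : ℤˣ, minor t y' = ((ε : ℤ) : A) * minor t y := by
  classical
  have hex : ∀ a, ∃ b, y b = y' a := fun a => by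
    have : y' a ∈ Set.range y := h ▸ ⟨a, rfl⟩
    exact this
  choose π hπ using hex
  have hπinj : Function.Injective π := by
    intro a a' haa
    apply hy'
    rw [← hπ a, ← hπ a', haa]
  let πe : Equiv.Perm (Fin q) := Equiv.ofBijective π (Finite.injective_iff_bijective.mp hπinj)
  refine ⟨Equiv.Perm.sign πe, ?_⟩
  rw [minor, minor, ← Matrix.det_permute πe]
  congr 1
  ext a b
  change t (y' a) b = t (y (π a)) b
  rw [hπ]

lemma isUnit_intCast_units (ε : ℤˣ) : IsUnit (((ε : ℤ) : A)) :=
  (ε.isUnit.map (Int.castRingHom A))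

/-- the minor of the distinguished rows of a valid matrix is `1`. -/
lemma minor_valid {x : Fin q → Fin n} (t : Fin n → Fin q → A) (ht : Valid A x t) :
    minor t x = 1 := by
  classical
  have h1 : sub t x = 1 := by
    ext a b
    rw [sub_apply, ht a, Matrix.one_apply, Pi.single_apply]
    by_cases hab : a = b
    · subst hab; simp
    · simp [hab, Ne.symm hab]
  rw [minor, h1, Matrix.det_one]

lemma L_congr (y y' : Fin q → Fin n) (h : Set.range y = Set.range y') : L R y A = L R y' A := by
  rw [L, L]
  congr 1
  have : ∀ z : Fin q → Fin n, Set.range (fun i => ε R A (z i)) = ε R A '' Set.range z := by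
    intro z
    rw [← Set.range_comp]
    rfl
  rw [this, this, h]

/-- replacing one row of the identity: the corresponding minor is a matrix entry. -/
lemma minor_update {x : Fin q → Fin n} (t : Fin n → Fin q → A) (ht : Valid A x t)
    (i : Fin q) (j : Fin n) : minor t (Function.update x i j) = t j i := by
  classical
  have h1 : sub t (Function.update x i j) = (1 : Matrix (Fin q) (Fin q) A).updateRow i (t j) := by
    ext a b
    rw [sub_apply, Matrix.updateRow_apply]
    by_cases hai : a = i
    · subst hai
      simp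
    · rw [Function.update_of_ne hai, if_neg hai, ht a, Matrix.one_apply, Pi.single_apply]
      by_cases hab : a = b
      · subst hab; simp
      · simp [hab, Ne.symm hab]
  rw [minor, h1, ← Matrix.cramer_transpose_apply, Matrix.transpose_one, Matrix.cramer_one]
  rfl

end Groth.Agent.H2.Pluecker
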