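import Groth.Agent.Lib.Helper2.ProjUPG
import Groth.Agent.Lib.Helper2.ProjUPE
import Groth.Agent.Lib.Helper2.AffRepH

/-! # Points of projective space over `Spec R` with values in an `R`-algebra, from unimodular
tuples. -/

universe u
open CategoryTheory CategoryTheory.Limits AlgebraicGeometry HomogeneousLocalization Opposite
  TopologicalSpace

namespace Groth.Agent.H2.Pluecker
open Groth.Agent.H2.PUP Groth.Agent.H2.AffRep

variable (R : Type u) [CommRing R] (N : ℕ)

/-- projective space over `Spec R` as an object over `Spec R`. -/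
noncomputable abbrev PnO : Over (Spec (CommRingCat.of R)) :=
  Over.mk (projStr (CohB1.polyGrading N R))

variable {R N}

/-- the ring map `R[T_0, …, T_N] → Γ(Spec B, ⊤)` of a tuple. -/
noncomputable def gOf (B : CommAlgCat.{u} R) (a : Fin (N + 1) → B) :
    MvPolynomial (Fin (N + 1)) R →+* Γ(Spec (CommRingCat.of B), ⊤) :=
  (Scheme.ΓSpecIso (CommRingCat.of B)).inv.hom.comp (MvPolynomial.aeval a).toRingHom

lemma gOf_apply (B : CommAlgCat.{u} R) (a : Fin (N + 1) → B) (p : MvPolynomial (Fin (N + 1)) R) :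
    gOf B a p = (Scheme.ΓSpecIso (CommRingCat.of B)).inv.hom (MvPolynomial.aeval a p) := rfl

lemma gOf_X (B : CommAlgCat.{u} R) (a : Fin (N + 1) → B) (i : Fin (N + 1)) :
    gOf B a (MvPolynomial.X i) = (Scheme.ΓSpecIso (CommRingCat.of B)).inv.hom (a i) := by
  rw [gOf_apply, MvPolynomial.aeval_X]

lemma gOf_ι (B : CommAlgCat.{u} R) (a : Fin (N + 1) → B) (m : Fin (N + 1) → R) :
    gOf B a (ιPn N R m) =
      (Scheme.ΓSpecIso (CommRingCat.of B)).inv.hom (∑ i, algebraMap R B (m i) * a i) := by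
  rw [gOf_apply, ιPn_apply, map_sum]
  congr 1
  apply Finset.sum_congr rfl
  intro i _
  rw [map_smul, MvPolynomial.aeval_X, Algebra.smul_def]

lemma hgOf (B : CommAlgCat.{u} R) (a : Fin (N + 1) → B)
    (ha : Ideal.span (Set.range a) = ⊤) :
    (HomogeneousIdeal.irrelevant (CohB1.polyGrading N R)).toIdeal.map (gOf B a) = ⊤ := by
  rw [irrelevant_eq_span (CohB1.polyGrading N R) (ιPn N R) (ιPn_mem N R)
    (isSymmetricAlgebra_ιPn N R), Ideal.map_span, eq_top_iff]
  have h1 : (⊤ : Ideal Γ(Spec (CommRingCat.of B), ⊤)) =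
      (Ideal.span (Set.range a)).map (Scheme.ΓSpecIso (CommRingCat.of B)).inv.hom := by
    rw [ha, Ideal.map_top]
  rw [h1, Ideal.map_span]
  apply Ideal.span_mono
  rintro _ ⟨_, ⟨i, rfl⟩, rfl⟩
  refine ⟨ιPn N R (Pi.single i 1), ⟨_, rfl⟩, ?_⟩
  rw [ιPn_single, gOf_X]

/-- the point of projective space attached to a unimodular tuple. -/
noncomputable def tuplePt (B : CommAlgCat.{u} R) (a : Fin (N + 1) → B)
    (ha : Ideal.span (Set.range a) = ⊤) : SpecO B ⟶ PnO R N :=
  Over.homMk (Proj.fromOfGlobalSections (CohB1.polyGrading N R) (gOf B a) (hgOf B a ha)) (by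
    change _ ≫ projStr (CohB1.polyGrading N R) = Spec.map _
    rw [FG_projStr, ← SpecMap_ΓSpecIso_hom, ← Spec.map_comp]
    congr 1
    ext r
    change (Scheme.ΓSpecIso (CommRingCat.of B)).hom.hom
      ((Scheme.ΓSpecIso (CommRingCat.of B)).inv.hom
        (MvPolynomial.aeval a (algebraMap R (MvPolynomial (Fin (N + 1)) R) r))) = _
    rw [AlgHom.commutes]
    exact Iso.inv_hom_id_apply _ _)

lemma tuplePt_left (B : CommAlgCat.{u} R) (a : Fin (N + 1) → B)
    (ha : Ideal.span (Set.range a) = ⊤) :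
    (tuplePt B a ha).left =
      Proj.fromOfGlobalSections (CohB1.polyGrading N R) (gOf B a) (hgOf B a ha) := rfl

lemma fromGS_congr {P : Scheme.{u}} {g g' : MvPolynomial (Fin (N + 1)) R →+* Γ(P, ⊤)}
    (hg : (HomogeneousIdeal.irrelevant (CohB1.polyGrading N R)).toIdeal.map g = ⊤)
    (hg' : (HomogeneousIdeal.irrelevant (CohB1.polyGrading N R)).toIdeal.map g' = ⊤)
    (h : g = g') :
    Proj.fromOfGlobalSections (CohB1.polyGrading N R) g hg =
      Proj.fromOfGlobalSections (CohB1.polyGrading N R) g' hg' := by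
  subst h
  rfl

/-- **naturality**. -/
lemma tuplePt_comp {B C : CommAlgCat.{u} R} (φ : B ⟶ C) (a : Fin (N + 1) → B)
    (ha : Ideal.span (Set.range a) = ⊤) (ha' : Ideal.span (Set.range fun i => φ.hom (a i)) = ⊤) :
    SpecOmap φ ≫ tuplePt B a ha = tuplePt C (fun i => φ.hom (a i)) ha' := by
  apply Over.OverMorphism.ext
  rw [Over.comp_left, tuplePt_left, tuplePt_left, SpecOmap_left,
    comp_FG (CohB1.polyGrading N R) (ιPn N R) (ιPn_mem N R) (isSymmetricAlgebra_ιPn N R)]
  apply fromGS_congr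
  apply MvPolynomial.ringHom_ext
  · intro r
    change (Spec.map (CommRingCat.ofHom φ.hom.toRingHom)).appTop.hom
      ((Scheme.ΓSpecIso (CommRingCat.of B)).inv.hom (MvPolynomial.aeval a (MvPolynomial.C r))) =
      (Scheme.ΓSpecIso (CommRingCat.of C)).inv.hom
        (MvPolynomial.aeval (fun i => φ.hom (a i)) (MvPolynomial.C r))
    rw [MvPolynomial.aeval_C, MvPolynomial.aeval_C]
    have h1 := Scheme.ΓSpecIso_inv_naturality (CommRingCat.ofHom φ.hom.toRingHom)
    have h2 := congrArg (fun ψ => ψ.hom (algebraMap R B r)) h1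
    refine Eq.trans h2.symm ?_
    change (Scheme.ΓSpecIso (CommRingCat.of C)).inv.hom (φ.hom (algebraMap R B r)) = _
    rw [AlgHom.commutes]
  · intro i
    change (Spec.map (CommRingCat.ofHom φ.hom.toRingHom)).appTop.hom
      ((Scheme.ΓSpecIso (CommRingCat.of B)).inv.hom (MvPolynomial.aeval a (MvPolynomial.X i))) =
      (Scheme.ΓSpecIso (CommRingCat.of C)).inv.hom
        (MvPolynomial.aeval (fun i => φ.hom (a i)) (MvPolynomial.X i))
    rw [MvPolynomial.aeval_X, MvPolynomial.aeval_X]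
    have h1 := Scheme.ΓSpecIso_inv_naturality (CommRingCat.ofHom φ.hom.toRingHom)
    have h2 := congrArg (fun ψ => ψ.hom (a i)) h1
    exact h2.symm

/-- **scaling invariance**. -/
lemma tuplePt_smul (B : CommAlgCat.{u} R) (a a' : Fin (N + 1) → B)
    (ha : Ideal.span (Set.range a) = ⊤) (ha' : Ideal.span (Set.range a') = ⊤)
    (u : B) (hu : IsUnit u) (h : ∀ i, a' i = u * a i) :
    tuplePt B a' ha' = tuplePt B a ha := by
  apply Over.OverMorphism.ext
  rw [tuplePt_left, tuplePt_left]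
  apply FG_congr (CohB1.polyGrading N R) (ιPn N R) (ιPn_mem N R) (isSymmetricAlgebra_ιPn N R)
    (gOf B a) (hgOf B a ha) (gOf B a') (hgOf B a' ha')
    ((Scheme.ΓSpecIso (CommRingCat.of B)).inv.hom u) (hu.map _)
  · intro m
    rw [gOf_ι, gOf_ι, ← map_mul]
    congr 1
    rw [Finset.mul_sum]
    apply Finset.sum_congr rfl
    intro i _
    rw [h i]
    ring
  · ext r
    change gOf B a' (algebraMap R _ r) = gOf B a (algebraMap R _ r)
    rw [gOf_apply, gOf_apply, AlgHom.commutes, AlgHom.commutes]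

/-- the preimage of the standard chart. -/
lemma tuplePt_preimage (B : CommAlgCat.{u} R) (a : Fin (N + 1) → B)
    (ha : Ideal.span (Set.range a) = ⊤) (i : Fin (N + 1)) :
    (tuplePt B a ha).left ⁻¹ᵁ Proj.basicOpen (CohB1.polyGrading N R) (MvPolynomial.X i) =
      PrimeSpectrum.basicOpen (a i) := by
  rw [tuplePt_left, Proj.fromOfGlobalSections_preimage_basicOpen _ _ _ Nat.one_pos
    (MvPolynomial.isHomogeneous_X R i), gOf_X]
  exact basicOpen_eq_of_affine (R := CommRingCat.of B) (a i)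

end Groth.Agent.H2.Pluecker
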