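import Groth.Agent.Lib.Helper2.PlB

/-! # A tuple point with one coordinate `1` whose coordinates generate the algebra is a closed
immersion into the corresponding standard chart of projective space. -/

universe u
open CategoryTheory CategoryTheory.Limits AlgebraicGeometry HomogeneousLocalization Opposite
  TopologicalSpace

namespace Groth.Agent.H2.Pluecker
open Groth.Agent.H2.PUP Groth.Agent.H2.AffRep

variable {R : Type u} [CommRing R] {N : ℕ}

/-- the chart values of a tuple point whose `i`-th coordinate is `1`. -/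
lemma tuplePt_chartHom (B : CommAlgCat.{u} R) (a : Fin (N + 1) → B)
    (ha : Ideal.span (Set.range a) = ⊤) (i : Fin (N + 1)) (hi : a i = 1)
    (e : (⊤ : (Spec (CommRingCat.of B)).Opens) ≤
      Proj.fromOfGlobalSections (CohB1.polyGrading N R) (gOf B a) (hgOf B a ha) ⁻¹ᵁ
        Proj.basicOpen (CohB1.polyGrading N R) (ιPn N R (Pi.single i 1)))
    (m' : Fin (N + 1) → R) :
    chartHom (CohB1.polyGrading N R)
      (Proj.fromOfGlobalSections (CohB1.polyGrading N R) (gOf B a) (hgOf B a ha))
      (ιPn N R (Pi.single i 1)) e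
      (frac1 (CohB1.polyGrading N R) (ιPn N R) (ιPn_mem N R) (ιPn_mem N R (Pi.single i 1)) m') =
    (Scheme.ΓSpecIso (CommRingCat.of B)).inv.hom (∑ j, algebraMap R B (m' j) * a j) := by
  have h1 : gOf B a (ιPn N R (Pi.single i 1)) = 1 := by
    rw [ιPn_single, gOf_X, hi, map_one]
  have hV : (⊤ : (Spec (CommRingCat.of B)).Opens) ≤
      (Spec (CommRingCat.of B)).basicOpen (gOf B a (ιPn N R (Pi.single i 1))) := by
    rw [h1, Scheme.basicOpen_one]
  have h := FG_chartHom' (CohB1.polyGrading N R) (ιPn N R) (ιPn_mem N R) (gOf B a) (hgOf B a ha)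
    (Pi.single i 1) m' hV
  have hid : ∀ t : Γ(Spec (CommRingCat.of B), ⊤),
      (Spec (CommRingCat.of B)).presheaf.map
        (homOfLE (le_top : (⊤ : (Spec (CommRingCat.of B)).Opens) ≤ ⊤)).op t = t := by
    intro t
    have : (homOfLE (le_top : (⊤ : (Spec (CommRingCat.of B)).Opens) ≤ ⊤)).op = 𝟙 _ := rfl
    rw [this, CategoryTheory.Functor.map_id]
    rfl
  rw [hid, hid] at h
  have h2 : chartHom (CohB1.polyGrading N R)
      (Proj.fromOfGlobalSections (CohB1.polyGrading N R) (gOf B a) (hgOf B a ha))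
      (ιPn N R (Pi.single i 1)) e
      (frac1 (CohB1.polyGrading N R) (ιPn N R) (ιPn_mem N R) (ιPn_mem N R (Pi.single i 1)) m') *
      gOf B a (ιPn N R (Pi.single i 1)) = gOf B a (ιPn N R m') := h
  rw [h1, mul_one, gOf_ι] at h2
  exact h2

/-- surjectivity of the chart ring map when the coordinates generate. -/
lemma tuplePt_chartHom_surjective (B : CommAlgCat.{u} R) (a : Fin (N + 1) → B)
    (ha : Ideal.span (Set.range a) = ⊤) (i : Fin (N + 1)) (hi : a i = 1)
    (hgen : Algebra.adjoin R (Set.range a) = ⊤)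
    (e : (⊤ : (Spec (CommRingCat.of B)).Opens) ≤
      Proj.fromOfGlobalSections (CohB1.polyGrading N R) (gOf B a) (hgOf B a ha) ⁻¹ᵁ
        Proj.basicOpen (CohB1.polyGrading N R) (ιPn N R (Pi.single i 1))) :
    Function.Surjective (chartHom (CohB1.polyGrading N R)
      (Proj.fromOfGlobalSections (CohB1.polyGrading N R) (gOf B a) (hgOf B a ha))
      (ιPn N R (Pi.single i 1)) e) := by
  classical
  set ψ := chartHom (CohB1.polyGrading N R)
      (Proj.fromOfGlobalSections (CohB1.polyGrading N R) (gOf B a) (hgOf B a ha))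
      (ιPn N R (Pi.single i 1)) e with hψ
  have key : ∀ b : B, (Scheme.ΓSpecIso (CommRingCat.of B)).inv.hom b ∈ ψ.range := by
    intro b
    have hb : b ∈ Algebra.adjoin R (Set.range a) := by
      rw [hgen]
      trivial
    induction hb using Algebra.adjoin_induction with
    | mem x hx =>
      obtain ⟨j, rfl⟩ := hx
      refine ⟨_, (tuplePt_chartHom B a ha i hi e (Pi.single j 1)).trans ?_⟩
      congr 1
      rw [Finset.sum_eq_single j]
      · rw [Pi.single_eq_same, map_one, one_mul]
      · intro j' _ hj'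
        rw [Pi.single_eq_of_ne hj', map_zero, zero_mul]
      · intro hj
        exact (hj (Finset.mem_univ j)).elim
    | algebraMap r =>
      refine ⟨_, (tuplePt_chartHom B a ha i hi e (Pi.single i r)).trans ?_⟩
      congr 1
      rw [Finset.sum_eq_single i]
      · rw [Pi.single_eq_same, hi, mul_one]
      · intro j' _ hj'
        rw [Pi.single_eq_of_ne hj', map_zero, zero_mul]
      · intro hj
        exact (hj (Finset.mem_univ i)).elim
    | add x y _ _ hx hy =>
      rw [map_add]
      exact ψ.range.add_mem hx hy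
    | mul x y _ _ hx hy =>
      rw [map_mul]
      exact ψ.range.mul_mem hx hy
  intro γ
  have h := key ((Scheme.ΓSpecIso (CommRingCat.of B)).hom.hom γ)
  rw [Iso.hom_inv_id_apply] at h
  exact h

/-- **Chart factorization**: a tuple point whose `i`-th coordinate is `1` and whose coordinates
generate the algebra factors as a closed immersion into `D₊(T_i)`. -/
theorem tuplePt_chart (B : CommAlgCat.{u} R) (a : Fin (N + 1) → B)
    (ha : Ideal.span (Set.range a) = ⊤) (i : Fin (N + 1)) (hi : a i = 1)
    (hgen : Algebra.adjoin R (Set.range a) = ⊤) :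
    ∃ k : Spec (CommRingCat.of B) ⟶
        (Proj.basicOpen (CohB1.polyGrading N R) (MvPolynomial.X i)).toScheme,
      IsClosedImmersion k ∧
      (tuplePt B a ha).left =
        k ≫ (Proj.basicOpen (CohB1.polyGrading N R) (MvPolynomial.X i)).ι := by
  rw [tuplePt_left, ← ιPn_single N R i]
  set r := Proj.fromOfGlobalSections (CohB1.polyGrading N R) (gOf B a) (hgOf B a ha) with hr
  have hf : ιPn N R (Pi.single i 1) ∈ CohB1.polyGrading N R 1 := ιPn_mem N R _
  have hpre : r ⁻¹ᵁ Proj.basicOpen (CohB1.polyGrading N R) (ιPn N R (Pi.single i 1)) = ⊤ := by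
    have h1 := tuplePt_preimage B a ha i
    rw [tuplePt_left, hi, ← ιPn_single N R i] at h1
    rw [hr, h1]
    exact PrimeSpectrum.basicOpen_one
  have e : (⊤ : (Spec (CommRingCat.of B)).Opens) ≤
      r ⁻¹ᵁ Proj.basicOpen (CohB1.polyGrading N R) (ιPn N R (Pi.single i 1)) := hpre.ge
  let km := chartMor (CohB1.polyGrading N R) r hf Nat.one_pos e
  have hkm : km ≫ Proj.awayι (CohB1.polyGrading N R) _ hf Nat.one_pos =
      (⊤ : (Spec (CommRingCat.of B)).Opens).ι ≫ r :=
    chartMor_awayι (CohB1.polyGrading N R) r hf Nat.one_pos e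
  have hsurj : Function.Surjective km.appTop := by
    have h1 := chartMor_appTop (CohB1.polyGrading N R) r hf Nat.one_pos e
    have h2 : km.appTop = (Scheme.ΓSpecIso (CommRingCat.of (Away (CohB1.polyGrading N R)
        (ιPn N R (Pi.single i 1))))).hom ≫
        CommRingCat.ofHom (chartHom (CohB1.polyGrading N R) r (ιPn N R (Pi.single i 1)) e) ≫
          (⊤ : (Spec (CommRingCat.of B)).Opens).topIso.inv := by
      rw [← h1, Iso.hom_inv_id_assoc]
    rw [h2]
    intro γ
    obtain ⟨y, hy⟩ := tuplePt_chartHom_surjective B a ha i hi hgen e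
      ((⊤ : (Spec (CommRingCat.of B)).Opens).topIso.hom.hom γ)
    refine ⟨(Scheme.ΓSpecIso (CommRingCat.of (Away (CohB1.polyGrading N R)
        (ιPn N R (Pi.single i 1))))).inv.hom y, ?_⟩
    rw [CommRingCat.comp_apply, CommRingCat.comp_apply, Iso.inv_hom_id_apply]
    change (⊤ : (Spec (CommRingCat.of B)).Opens).topIso.inv.hom
      (chartHom (CohB1.polyGrading N R) r (ιPn N R (Pi.single i 1)) e y) = γ
    rw [hy, Iso.hom_inv_id_apply]
  have haff : IsAffine ((⊤ : (Spec (CommRingCat.of B)).Opens).toScheme) :=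
    isAffineOpen_top (Spec (CommRingCat.of B))
  have hci : IsClosedImmersion km := IsClosedImmersion.of_surjective_of_isAffine km hsurj
  refine ⟨(Spec (CommRingCat.of B)).topIso.inv ≫ km ≫
    (Proj.basicOpenIsoSpec (CohB1.polyGrading N R) _ hf Nat.one_pos).inv, inferInstance, ?_⟩
  rw [Category.assoc, Category.assoc]
  change r = (Spec (CommRingCat.of B)).topIso.inv ≫ km ≫
    Proj.awayι (CohB1.polyGrading N R) _ hf Nat.one_pos
  rw [hkm, ← Category.assoc, Scheme.toIso_inv_ι, Category.id_comp]

end Groth.Agent.H2.Pluecker
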