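import Groth.Agent.Lib.Helper2.PlA
import Groth.Agent.Lib.Helper2.PlB2
import Groth.Agent.Lib.Helper2.AffRepI

/-! # The Plücker morphism on a scheme representing the Grassmannian functor of `R^n`. -/

universe u
open TensorProduct Module Module.Grassmannian CategoryTheory AlgebraicGeometry

namespace Groth.Agent.H2.Pluecker
open Groth.Agent.H2.GrassAlg Groth.Agent.H2.GrassChart Groth.Agent.H2.AffRep Groth.Agent.H2.PUP

variable {R : Type u} [CommRing R] {n q N : ℕ}
variable (σ : Fin (N + 1) → (Fin q ↪ Fin n))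

/-- the tuple of Plücker coordinates of a matrix. -/
def pl {A : Type u} [CommRing A] (t : Fin n → Fin q → A) : Fin (N + 1) → A :=
  fun l => minor t (σ l)

lemma pl_apply {A : Type u} [CommRing A] (t : Fin n → Fin q → A) (l : Fin (N + 1)) :
    pl σ t l = minor t (σ l) := rfl

lemma pl_map {A B : Type u} [CommRing A] [CommRing B] {F : Type*} [FunLike F A B]
    [RingHomClass F A B] (φ : F) (t : Fin n → Fin q → A) :
    pl σ (fun j i => φ (t j i)) = fun l => φ (pl σ t l) :=
  funext fun _ => minor_map (φ : A →+* B) t _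

variable (hσ : ∀ x : Fin q ↪ Fin n, ∃ l, Set.range (σ l) = Set.range x)

include hσ in
lemma pl_unimodular {A : Type u} [CommRing A] {x : Fin q ↪ Fin n} (t : Fin n → Fin q → A)
    (ht : Valid A x t) : Ideal.span (Set.range (pl σ t)) = ⊤ := by
  obtain ⟨l, hl⟩ := hσ x
  obtain ⟨ε, hε⟩ := minor_eq_sign_mul t x (σ l) (σ l).injective hl.symm
  rw [minor_valid t ht, mul_one] at hε
  have hmem : pl σ t l ∈ Ideal.span (Set.range (pl σ t)) := Ideal.subset_span ⟨l, rfl⟩
  apply Ideal.eq_top_of_isUnit_mem _ hmem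
  rw [pl_apply, hε]
  exact isUnit_intCast_units ε

/-- **Independence of the chart**: the Plücker point only depends on the point of the
Grassmannian. -/
lemma tuplePt_pl_eq (A : CommAlgCat.{u} R) {x x' : Fin q → Fin n}
    (t t' : Fin n → Fin q → A) (ht : Valid A x t) (ht' : Valid A x' t')
    (h : chartPt R t ht = chartPt R t' ht')
    (hu : Ideal.span (Set.range (pl σ t)) = ⊤) (hu' : Ideal.span (Set.range (pl σ t')) = ⊤) :
    tuplePt A (pl σ t) hu = tuplePt A (pl σ t') hu' := by
  have h1 : LinearMap.ker (T R A t) ⊔ L R x' A = ⊤ := by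
    have h2 : LinearMap.ker (T R A t) = LinearMap.ker (T R A t') :=
      congrArg Grassmannian.toSubmodule h
    rw [h2]
    exact ker_T_sup_L ht'
  have hunit : IsUnit (minor t x') := isUnit_of_sup_L_eq_top (R := R) t ht x' h1
  obtain ⟨t'', ht'', h3, h4⟩ := exists_transition (R := R) t ht x' hunit
  have h5 : t'' = t' := chartPt_injective ht'' ht' (h3.trans h)
  subst h5
  exact tuplePt_smul A (pl σ t'') (pl σ t) hu' hu (minor t x') hunit (fun l => h4 (σ l))

variable (R n q) in
/-- the small points: those lying in some standard chart. -/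
def Sm (A : CommAlgCat.{u} R) (ξ : (functor (R := R) (M := Fin n → R) q).obj A) : Prop :=
  ∃ x : Fin q ↪ Fin n, IsChart R x A ξ

lemma Sm_map {A B : CommAlgCat.{u} R} (φ : A ⟶ B)
    (ξ : (functor (R := R) (M := Fin n → R) q).obj A) (h : Sm R n q A ξ) :
    Sm R n q B ((functor (R := R) (M := Fin n → R) q).map φ ξ) := by
  obtain ⟨x, hx⟩ := h
  exact ⟨x, opred_map (isOpenPred_isChart x) φ ξ hx⟩

lemma exists_of_Sm {A : CommAlgCat.{u} R} {ξ : (functor (R := R) (M := Fin n → R) q).obj A}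
    (h : Sm R n q A ξ) :
    ∃ (x : Fin q ↪ Fin n) (t : Fin n → Fin q → A) (ht : Valid A x t), chartPt R t ht = ξ := by
  obtain ⟨x, hx⟩ := h
  obtain ⟨t, ht, h1⟩ := exists_chartPt ξ hx
  exact ⟨x, t, ht, h1⟩

/-- the Plücker point of a small point of the Grassmannian. -/
noncomputable def plT (A : CommAlgCat.{u} R) (ξ : (functor (R := R) (M := Fin n → R) q).obj A)
    (h : Sm R n q A ξ) : SpecO A ⟶ PnO R N :=
  tuplePt A (pl σ (exists_of_Sm h).choose_spec.choose)
    (pl_unimodular σ hσ _ (exists_of_Sm h).choose_spec.choose_spec.choose)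

lemma plT_eq (A : CommAlgCat.{u} R) (ξ : (functor (R := R) (M := Fin n → R) q).obj A)
    (h : Sm R n q A ξ) {x : Fin q → Fin n} (t : Fin n → Fin q → A) (ht : Valid A x t)
    (hξ : chartPt R t ht = ξ) (hu : Ideal.span (Set.range (pl σ t)) = ⊤) :
    plT σ hσ A ξ h = tuplePt A (pl σ t) hu := by
  unfold plT
  apply tuplePt_pl_eq σ A _ _ (exists_of_Sm h).choose_spec.choose_spec.choose ht
  rw [(exists_of_Sm h).choose_spec.choose_spec.choose_spec, hξ]

/-- **Naturality of the Plücker point.** -/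
lemma plT_nat {A B : CommAlgCat.{u} R} (φ : A ⟶ B)
    (ξ : (functor (R := R) (M := Fin n → R) q).obj A) (h : Sm R n q A ξ)
    (ξ' : (functor (R := R) (M := Fin n → R) q).obj B) (h' : Sm R n q B ξ')
    (hξ : ξ' = (functor (R := R) (M := Fin n → R) q).map φ ξ) :
    plT σ hσ B ξ' h' = SpecOmap φ ≫ plT σ hσ A ξ h := by
  obtain ⟨x, t, ht, h1⟩ := exists_of_Sm h
  have hu := pl_unimodular σ hσ t ht
  rw [plT_eq σ hσ A ξ h t ht h1 hu]
  have hv : Valid B x (fun j i => φ.hom (t j i)) := by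
    intro i
    funext i'
    change φ.hom (t (x i) i') = _
    rw [ht i, Pi.single_apply, Pi.single_apply]
    split_ifs <;> simp
  have hu' : Ideal.span (Set.range (pl σ (fun j i => φ.hom (t j i)))) = ⊤ :=
    pl_unimodular σ hσ _ hv
  have h2 : chartPt R (fun j i => φ.hom (t j i)) hv = ξ' := by
    rw [hξ, ← h1]
    exact (map_chartPt φ.hom t ht hv).symm
  rw [plT_eq σ hσ B ξ' h' _ hv h2 hu']
  have hu'' : Ideal.span (Set.range fun l => φ.hom (pl σ t l)) = ⊤ := by
    have := hu'
    rw [pl_map σ φ.hom t] at this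
    exact this
  rw [tuplePt_comp φ (pl σ t) hu hu'']
  congr 1
  exact pl_map σ φ.hom t

/-- a scheme representing the Grassmannian is covered by small affine opens. -/
lemma exists_small_affine (X : Over (Spec (CommRingCat.of R)))
    (ρ : Rep (functor (R := R) (M := Fin n → R) q) X) (p : X.left) :
    ∃ (U : X.left.Opens) (hU : IsAffineOpen U), p ∈ U ∧ Sm R n q _ (ρ.ξ U hU) := by
  obtain ⟨K, _, _, g, y, hy⟩ := exists_field_point X p
  obtain ⟨x, hx⟩ := exists_isChart_of_field K (ρ.e (CommAlgCat.of R K) g)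
  have hO := mem_openOf_iff (isOpenPred_isChart (R := R) (n := n) (k := q) x) ρ
  have hp : p ∈ openOf (isOpenPred_isChart (R := R) (n := n) (k := q) x) ρ := by
    rw [← hy]
    exact (hO _ g).mpr hx y
  obtain ⟨_, ⟨V, hV, rfl⟩, hpV, hVO⟩ := X.left.isBasis_affineOpens.exists_subset_of_mem_open
    hp (openOf (isOpenPred_isChart (R := R) (n := n) (k := q) x) ρ).2
  refine ⟨V, hV, hpV, x, ?_⟩
  apply (hO _ (chart X V hV)).mp
  intro y'
  apply hVO
  rw [chart_left]
  have : hV.fromSpec y' ∈ Set.range hV.fromSpec := Set.mem_range_self y'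
  rw [hV.range_fromSpec] at this
  exact this

include hσ in
/-- **The Plücker morphism.** -/
theorem exists_pluecker (X : Over (Spec (CommRingCat.of R)))
    (ρ : Rep (functor (R := R) (M := Fin n → R) q) X) :
    ∃ c : X ⟶ PnO R N, ∀ (A : CommAlgCat.{u} R) (g : SpecO A ⟶ X) (x : Fin q ↪ Fin n)
      (t : Fin n → Fin q → A) (ht : Valid A x t) (hu : Ideal.span (Set.range (pl σ t)) = ⊤),
      chartPt R t ht = ρ.e A g → g ≫ c = tuplePt A (pl σ t) hu := by
  obtain ⟨c, hc⟩ := exists_hom_of_partial ρ (Sm R n q) (exists_small_affine X ρ)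
    (fun φ ξ h => Sm_map φ ξ h) (plT σ hσ) (fun φ ξ h ξ' h' hξ => plT_nat σ hσ φ ξ h ξ' h' hξ)
  refine ⟨c, ?_⟩
  intro A g x t ht hu h1
  have hsm : Sm R n q A (ρ.e A g) := ⟨x, by
    change (ρ.e A g).toSubmodule ⊔ L R x A = ⊤
    rw [← h1, chartPt_toSubmodule]
    exact ker_T_sup_L ht⟩
  rw [hc A g hsm]
  exact plT_eq σ hσ A _ hsm t ht h1 hu

end Groth.Agent.H2.Pluecker
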