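import Groth.Agent.Lib.Helper2.PlC
import Groth.Agent.Lib.Helper2.PnChart

/-! # The Plücker morphism is a closed immersion. -/

universe u
open TensorProduct Module Module.Grassmannian CategoryTheory AlgebraicGeometry

namespace Groth.Agent.H2.Pluecker
open Groth.Agent.H2.GrassAlg Groth.Agent.H2.GrassChart Groth.Agent.H2.AffRep Groth.Agent.H2.PUP

/-- a morphism is a closed immersion if it is so over an open cover of the target, where the
preimages of the cover are identified with auxiliary schemes. -/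
lemma isClosedImmersion_of_charts {X Y : Scheme.{u}} (c : X ⟶ Y) {ι : Type*} (D : ι → Y.Opens)
    (hD : ⨆ i, D i = ⊤)
    (h : ∀ i, ∃ (Z : Scheme.{u}) (θ : Z ⟶ (c ⁻¹ᵁ D i).toScheme) (k : Z ⟶ (D i).toScheme),
      IsIso θ ∧ IsClosedImmersion k ∧ θ ≫ (c ⁻¹ᵁ D i).ι ≫ c = k ≫ (D i).ι) :
    IsClosedImmersion c := by
  apply IsZariskiLocalAtTarget.of_iSup_eq_top (P := @IsClosedImmersion) D hD
  intro i
  obtain ⟨Z, θ, k, hθ, hk, hfac⟩ := h i
  have h1 : θ ≫ (c ∣_ D i) = k := by
    rw [← cancel_mono (D i).ι, Category.assoc, morphismRestrict_ι]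
    exact hfac
  have h2 : c ∣_ D i = inv θ ≫ k := by
    rw [← h1, IsIso.inv_hom_id_assoc]
  rw [h2]
  infer_instance

variable {R : Type u} [CommRing R] {n q N : ℕ}
variable (σ : Fin (N + 1) → (Fin q ↪ Fin n))
variable (hσ : ∀ x : Fin q ↪ Fin n, ∃ l, Set.range (σ l) = Set.range x)

include hσ in
/-- the preimage of the standard chart `D₊(T_l)` under the Plücker morphism is the chart of the
Grassmannian attached to `σ l`. -/
lemma preimage_basicOpen (X : Over (Spec (CommRingCat.of R)))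
    (ρ : Rep (functor (R := R) (M := Fin n → R) q) X) (c : X ⟶ PnO R N)
    (hc : ∀ (A : CommAlgCat.{u} R) (g : SpecO A ⟶ X) (x : Fin q ↪ Fin n)
      (t : Fin n → Fin q → A) (ht : Valid A x t) (hu : Ideal.span (Set.range (pl σ t)) = ⊤),
      chartPt R t ht = ρ.e A g → g ≫ c = tuplePt A (pl σ t) hu)
    (l : Fin (N + 1)) (U : X.left.Opens)
    (hU : ∀ (B : CommAlgCat.{u} R) (g : SpecO B ⟶ X),
      (∀ y, g.left y ∈ U) ↔ IsChart R (σ l) B (ρ.e B g)) :
    c.left ⁻¹ᵁ Proj.basicOpen (CohB1.polyGrading N R) (MvPolynomial.X l) = U := by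
  ext p
  obtain ⟨K, _, _, g, y, hy⟩ := exists_field_point X p
  obtain ⟨x, hx⟩ := exists_isChart_of_field K (ρ.e (CommAlgCat.of R K) g)
  obtain ⟨t, ht, h1⟩ := exists_chartPt (ρ.e (CommAlgCat.of R K) g) hx
  have hu := pl_unimodular σ hσ t ht
  have hgc := hc (CommAlgCat.of R K) g x t ht hu h1
  have hmem : p ∈ c.left ⁻¹ᵁ Proj.basicOpen (CohB1.polyGrading N R) (MvPolynomial.X l) ↔
      y ∈ PrimeSpectrum.basicOpen (pl σ t l) := by
    rw [← tuplePt_preimage (CommAlgCat.of R K) (pl σ t) hu l, ← hgc, ← hy]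
    rfl
  have hchart : IsChart R (σ l) (CommAlgCat.of R K) (ρ.e (CommAlgCat.of R K) g) ↔
      LinearMap.ker (T R K t) ⊔ L R (σ l) K = ⊤ := by
    rw [← h1]
    rfl
  change p ∈ c.left ⁻¹ᵁ Proj.basicOpen (CohB1.polyGrading N R) (MvPolynomial.X l) ↔ p ∈ U
  rw [hmem]
  constructor
  · intro hmin
    have hne : minor t (σ l) ≠ 0 := by
      intro h0
      apply hmin
      change pl σ t l ∈ y.asIdeal
      rw [pl_apply, h0]
      exact zero_mem _
    have hunit : IsUnit (minor t (σ l)) := isUnit_iff_ne_zero.mpr hne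
    have h2 := sup_L_eq_top_of_isUnit (R := R) t (σ l) hunit
    rw [← hy]
    exact (hU _ g).mpr (hchart.mpr h2) y
  · intro hp
    have hall : ∀ y', g.left y' ∈ U := by
      intro y'
      have hss : Subsingleton (PrimeSpectrum K) := inferInstance
      have : y' = y := hss.elim _ _
      rw [this, hy]
      exact hp
    have h2 := hchart.mp ((hU _ g).mp hall)
    have hunit : IsUnit (minor t (σ l)) := isUnit_of_sup_L_eq_top (R := R) t ht (σ l) h2
    intro hmem'
    have hmem'' : pl σ t l ∈ y.asIdeal := hmem'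
    exact y.isPrime.ne_top (Ideal.eq_top_of_isUnit_mem _ hmem'' hunit)

lemma update_injective (x : Fin q ↪ Fin n) (i : Fin q) (j : Fin n) (hj : j ∉ Set.range x) :
    Function.Injective (Function.update (x : Fin q → Fin n) i j) := by
  intro a b hab
  by_cases ha : a = i
  · by_cases hb : b = i
    · rw [ha, hb]
    · rw [ha, Function.update_self, Function.update_of_ne hb] at hab
      exact (hj ⟨b, hab.symm⟩).elim
  · by_cases hb : b = i
    · rw [hb, Function.update_self, Function.update_of_ne ha] at hab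
      exact (hj ⟨a, hab⟩).elim
    · rw [Function.update_of_ne ha, Function.update_of_ne hb] at hab
      exact x.injective hab

include hσ in
/-- the Plücker coordinates of the generic matrix of a chart generate the polynomial ring. -/
lemma adjoin_pl_generic (x : Fin q ↪ Fin n) {J : Type u}
    (β : {j : Fin n // j ∉ Set.range x} × Fin q ≃ J) :
    Algebra.adjoin R (Set.range (pl σ (decode x β (MvPolynomial.X : J → MvPolynomial J R)))) =
      ⊤ := by
  rw [eq_top_iff, ← MvPolynomial.adjoin_range_X, Algebra.adjoin_le_iff]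
  rintro _ ⟨j', rfl⟩
  obtain ⟨⟨⟨j, hj⟩, i⟩, rfl⟩ := β.surjective j'
  set t₀ := decode x β (MvPolynomial.X : J → MvPolynomial J R) with ht₀
  have ht : Valid (MvPolynomial J R) x t₀ := decode_valid x β _
  have h1 : t₀ j i = MvPolynomial.X (β (⟨j, hj⟩, i)) := by
    rw [ht₀, decode, dif_neg hj]
  have h2 : minor t₀ (Function.update (x : Fin q → Fin n) i j) = t₀ j i := minor_update t₀ ht i j
  let x' : Fin q ↪ Fin n := ⟨Function.update (x : Fin q → Fin n) i j, update_injective x i j hj⟩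
  obtain ⟨l', hl'⟩ := hσ x'
  obtain ⟨ε, hε⟩ := minor_eq_sign_mul t₀ (σ l') x' x'.injective hl'
  rw [SetLike.mem_coe, ← h1, ← h2]
  change minor t₀ x' ∈ _
  rw [hε]
  apply Subalgebra.mul_mem
  · exact Subalgebra.intCast_mem _ _
  · exact Algebra.subset_adjoin ⟨l', rfl⟩

include hσ in
/-- the Plücker morphism over a standard chart of projective space. -/
lemma exists_chart_data (X : Over (Spec (CommRingCat.of R)))
    (ρ : Rep (functor (R := R) (M := Fin n → R) q) X) (c : X ⟶ PnO R N)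
    (hc : ∀ (A : CommAlgCat.{u} R) (g : SpecO A ⟶ X) (x : Fin q ↪ Fin n)
      (t : Fin n → Fin q → A) (ht : Valid A x t) (hu : Ideal.span (Set.range (pl σ t)) = ⊤),
      chartPt R t ht = ρ.e A g → g ≫ c = tuplePt A (pl σ t) hu)
    (l : Fin (N + 1)) :
    ∃ (Z : Scheme.{u})
      (θ : Z ⟶ (c.left ⁻¹ᵁ Proj.basicOpen (CohB1.polyGrading N R) (MvPolynomial.X l)).toScheme)
      (k : Z ⟶ (Proj.basicOpen (CohB1.polyGrading N R) (MvPolynomial.X l)).toScheme),
      IsIso θ ∧ IsClosedImmersion k ∧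
        θ ≫ (c.left ⁻¹ᵁ Proj.basicOpen (CohB1.polyGrading N R) (MvPolynomial.X l)).ι ≫ c.left =
          k ≫ (Proj.basicOpen (CohB1.polyGrading N R) (MvPolynomial.X l)).ι := by
  obtain ⟨U, ρU, hU, hτ⟩ := exists_rep_of_open ρ (isOpenPred_isChart (σ l))
    (chartNat R (σ l) (βEquiv (σ l))) (chartNat_injective R (σ l) (βEquiv (σ l)))
    (isChart_iff_range R (σ l) (βEquiv (σ l)))
  obtain ⟨d, hd⟩ := Rep.exists_iso ρU (affRep R (ULift.{u} (Fin (q * (n - q)))))
  have hpre := preimage_basicOpen σ hσ X ρ c hc l U hU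
  let J := ULift.{u} (Fin (q * (n - q)))
  let P : CommAlgCat.{u} R := CommAlgCat.of R (MvPolynomial J R)
  let w : SpecO P ⟶ affO R J :=
    Over.homMk (AffineSpace.SpecIso J (CommRingCat.of R)).inv
      (AffineSpace.SpecIso_inv_over (CommRingCat.of R))
  let u : SpecO P ⟶ Over.mk (U.ι ≫ X.hom) := w ≫ d.inv
  have hu1 : ρU.e P u = (MvPolynomial.X : J → MvPolynomial J R) := by
    rw [← hd P u]
    have h1 : u ≫ d.hom = w := by rw [Category.assoc, Iso.inv_hom_id, Category.comp_id]
    rw [h1]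
    funext j
    change (Scheme.ΓSpecIso (CommRingCat.of P)).hom
      ((AffineSpace.SpecIso J (CommRingCat.of R)).inv.appTop
        (AffineSpace.coord (Spec (CommRingCat.of R)) j)) = MvPolynomial.X j
    rw [AffineSpace.SpecIso_inv_appTop_coord]
    exact Iso.inv_hom_id_apply _ _
  let g₀ : SpecO P ⟶ X := u ≫ (Over.homMk U.ι rfl : Over.mk (U.ι ≫ X.hom) ⟶ X)
  let t₀ := decode (σ l) (βEquiv (σ l)) (MvPolynomial.X : J → MvPolynomial J R)
  have ht₀ : Valid (MvPolynomial J R) (σ l) t₀ := decode_valid _ _ _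
  have h2 : chartPt R t₀ ht₀ = ρ.e P g₀ := by
    rw [← hτ P u, hu1]
    rfl
  have hunim := pl_unimodular σ hσ t₀ ht₀
  have hgc := hc P g₀ (σ l) t₀ ht₀ hunim h2
  obtain ⟨k, hk, hkfac⟩ := tuplePt_chart P (pl σ t₀) hunim l (minor_valid t₀ ht₀)
    (adjoin_pl_generic σ hσ (σ l) (βEquiv (σ l)))
  have hiso : IsIso u.left := by
    have h1 : u.left = (AffineSpace.SpecIso J (CommRingCat.of R)).inv ≫ d.inv.left := rfl
    rw [h1]
    infer_instance
  refine ⟨Spec (CommRingCat.of P), u.left ≫ (X.left.isoOfEq hpre.symm).hom, k, inferInstance,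
    hk, ?_⟩
  rw [Category.assoc, Scheme.isoOfEq_hom_ι_assoc, ← hkfac, ← hgc]
  rfl

include hσ in
/-- **The Plücker morphism is a closed immersion.** -/
theorem exists_pluecker_closedImmersion (X : Over (Spec (CommRingCat.of R)))
    (ρ : Rep (functor (R := R) (M := Fin n → R) q) X) :
    ∃ c : X ⟶ PnO R N, IsClosedImmersion c.left := by
  obtain ⟨c, hc⟩ := exists_pluecker σ hσ X ρ
  refine ⟨c, ?_⟩
  exact isClosedImmersion_of_charts c.left
    (fun l : Fin (N + 1) => Proj.basicOpen (CohB1.polyGrading N R) (MvPolynomial.X l))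
    (Groth.Agent.H2.PnChart.iSup_basicOpen N R)
    (fun l => exists_chart_data σ hσ X ρ c hc l)

end Groth.Agent.H2.Pluecker
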