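import Groth.Agent.Lib.Helper2.PlD
import Groth.Agent.Lib.Lead.PN.OverBridge

/-! # The Plücker closed immersion into projective space of dimension `C(n, q) - 1`. -/

universe u
open TensorProduct Module Module.Grassmannian CategoryTheory AlgebraicGeometry

namespace Groth.Agent.H2.Pluecker
open Groth.Agent.H2.GrassAlg Groth.Agent.H2.GrassChart Groth.Agent.H2.AffRep Groth.Agent.H2.PUP

/-- an enumeration of the `q`-element subsets of `Fin n` by order embeddings. -/
lemma exists_enumeration (n q N : ℕ) (hN : N + 1 = n.choose q) :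
    ∃ σ : Fin (N + 1) → (Fin q ↪ Fin n),
      ∀ x : Fin q ↪ Fin n, ∃ l, Set.range (σ l) = Set.range x := by
  classical
  have hcard : Fintype.card {s : Finset (Fin n) // s.card = q} = N + 1 := by
    rw [Fintype.card_finset_len, Fintype.card_fin, hN]
  let eqv : Fin (N + 1) ≃ {s : Finset (Fin n) // s.card = q} :=
    (Fintype.equivFinOfCardEq hcard).symm
  refine ⟨fun l => ((eqv l).1.orderEmbOfFin (eqv l).2).toEmbedding, ?_⟩
  intro x
  have hs : (Finset.univ.map x).card = q := by
    rw [Finset.card_map, Finset.card_univ, Fintype.card_fin]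
  refine ⟨eqv.symm ⟨Finset.univ.map x, hs⟩, ?_⟩
  change Set.range ((eqv (eqv.symm ⟨Finset.univ.map x, hs⟩)).1.orderEmbOfFin _) = _
  rw [Finset.range_orderEmbOfFin]
  rw [Equiv.apply_symm_apply]
  rw [Finset.coe_map, Finset.coe_univ, Set.image_univ]

/-- **Plücker embedding** for a scheme representing the Grassmannian functor of `R^n`. -/
theorem exists_closedImmersion_projSpaceOver (R : Type u) [CommRing R] (n q : ℕ) (hqn : q ≤ n)
    (X : Over (Spec (CommRingCat.of R)))
    (ρ : Rep (functor (R := R) (M := Fin n → R) q) X) :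
    ∃ c : X.left ⟶ CohB1.ProjSpaceOver (n.choose q - 1) (Spec (CommRingCat.of R)),
      IsClosedImmersion c ∧
        c ≫ CohB1.ProjSpaceOver.toBase (n.choose q - 1) (Spec (CommRingCat.of R)) = X.hom := by
  have hN : (n.choose q - 1) + 1 = n.choose q := Nat.sub_add_cancel (Nat.choose_pos hqn)
  obtain ⟨σ, hσ⟩ := exists_enumeration n q (n.choose q - 1) hN
  obtain ⟨c, hc⟩ := exists_pluecker_closedImmersion σ hσ X ρ
  let c' : X.left ⟶ CohB1.ProjSpace (n.choose q - 1) R := c.left
  have hc' : IsClosedImmersion c' := hc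
  have hw : c' ≫ CohB1.ProjSpace.toSpec (n.choose q - 1) R = X.hom := Over.w c
  refine ⟨c' ≫ (Groth.Agent.LD.PN.OB.bridge (n.choose q - 1) R).hom, inferInstance, ?_⟩
  rw [Category.assoc, Groth.Agent.LD.PN.OB.bridge_hom_toBase]
  exact hw

end Groth.Agent.H2.Pluecker
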