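import Mathlib

/-!
# Points in the projective plane and forms of degree `n - 1`

Helper library (helper2): linear forms attached to functionals on `k^3`, separating forms,
and the dimension count for homogeneous forms vanishing on `n` points.
-/

namespace Groth.Agent.H2.PlanePoints

open MvPolynomial

variable {k : Type*} [Field k]

/-- the linear form attached to a functional -/
noncomputable def linForm (f : (Fin 3 → k) →ₗ[k] k) : MvPolynomial (Fin 3) k :=
  ∑ i, C (f (fun j => if i = j then 1 else 0)) * X i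

lemma linForm_isHomogeneous (f : (Fin 3 → k) →ₗ[k] k) : (linForm f).IsHomogeneous 1 := by
  refine IsHomogeneous.sum _ _ _ (fun i _ => ?_)
  simpa using (isHomogeneous_C (Fin 3) (f (fun j => if i = j then 1 else 0))).mul
    (isHomogeneous_X k i)

lemma aeval_linForm (f : (Fin 3 → k) →ₗ[k] k) (u : Fin 3 → k) :
    aeval u (linForm f) = f u := by
  rw [LinearMap.pi_apply_eq_sum_univ f u]
  simp [linForm, mul_comm]

/-- separating functional: vanishing on `w`, nonzero at `v`. -/
lemma exists_sep {v w : Fin 3 → k} (h : ∀ c : k, v ≠ c • w) :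
    ∃ f : (Fin 3 → k) →ₗ[k] k, f v ≠ 0 ∧ f w = 0 := by
  have hv : v ∉ Submodule.span k {w} := by
    intro hv
    obtain ⟨c, hc⟩ := Submodule.mem_span_singleton.mp hv
    exact h c hc.symm
  obtain ⟨f, hf, hf'⟩ := Submodule.exists_dual_map_eq_bot_of_notMem hv inferInstance
  refine ⟨f, hf, ?_⟩
  have : f w ∈ (Submodule.span k {w}).map f := ⟨w, Submodule.mem_span_singleton_self w, rfl⟩
  rw [hf'] at this
  simpa using this

/-- functional vanishing on `w₁, w₂`, nonzero at `v`. -/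
lemma exists_sep₂ {v w₁ w₂ : Fin 3 → k} (h : v ∉ Submodule.span k {w₁, w₂}) :
    ∃ f : (Fin 3 → k) →ₗ[k] k, f v ≠ 0 ∧ f w₁ = 0 ∧ f w₂ = 0 := by
  obtain ⟨f, hf, hf'⟩ := Submodule.exists_dual_map_eq_bot_of_notMem h inferInstance
  refine ⟨f, hf, ?_, ?_⟩
  · have : f w₁ ∈ (Submodule.span k {w₁, w₂}).map f :=
      ⟨w₁, Submodule.subset_span (by simp), rfl⟩
    rw [hf'] at this
    simpa using this
  · have : f w₂ ∈ (Submodule.span k {w₁, w₂}).map f :=
      ⟨w₂, Submodule.subset_span (by simp), rfl⟩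
    rw [hf'] at this
    simpa using this

/-- nonzero functional vanishing on two given vectors. -/
lemma exists_plane (v w : Fin 3 → k) :
    ∃ f : (Fin 3 → k) →ₗ[k] k, f ≠ 0 ∧ f v = 0 ∧ f w = 0 := by
  have hlt : Submodule.span k {v, w} < ⊤ := by
    rw [lt_top_iff_ne_top]
    intro htop
    have h1 : Module.finrank k (Submodule.span k ({v, w} : Set (Fin 3 → k))) ≤ 2 := by
      classical
      have := finrank_span_finset_le_card (R := k) ({v, w} : Finset (Fin 3 → k))
      have h2 : ({v, w} : Finset (Fin 3 → k)).card ≤ 2 := Finset.card_le_two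
      unfold Set.finrank at this
      rw [Finset.coe_insert, Finset.coe_singleton] at this
      omega
    rw [htop, finrank_top, Module.finrank_fin_fun] at h1
    omega
  obtain ⟨f, hf, hf'⟩ := Submodule.exists_dual_map_eq_bot_of_lt_top hlt inferInstance
  refine ⟨f, hf, ?_, ?_⟩
  · have : f v ∈ (Submodule.span k {v, w}).map f :=
      ⟨v, Submodule.subset_span (by simp), rfl⟩
    rw [hf'] at this
    simpa using this
  · have : f w ∈ (Submodule.span k {v, w}).map f :=
      ⟨w, Submodule.subset_span (by simp), rfl⟩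
    rw [hf'] at this
    simpa using this

/-- product of linear forms is homogeneous of degree the cardinality. -/
lemma prod_linForm_isHomogeneous {ι : Type*} (s : Finset ι) (φ : ι → ((Fin 3 → k) →ₗ[k] k)) :
    (∏ w ∈ s, linForm (φ w)).IsHomogeneous s.card := by
  have := IsHomogeneous.prod s (fun w => linForm (φ w)) (fun _ => 1)
    (fun w _ => linForm_isHomogeneous (φ w))
  simpa using this

lemma aeval_prod_linForm {ι : Type*} (s : Finset ι) (φ : ι → ((Fin 3 → k) →ₗ[k] k))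
    (u : Fin 3 → k) : aeval u (∏ w ∈ s, linForm (φ w)) = ∏ w ∈ s, φ w u := by
  rw [map_prod]
  exact Finset.prod_congr rfl (fun w _ => aeval_linForm _ _)

/-- the space of forms of degree `m` vanishing on `Λ`. -/
noncomputable abbrev vanishing (Λ : Finset (Fin 3 → k)) (m : ℕ) :
    Submodule k (MvPolynomial (Fin 3) k) :=
  MvPolynomial.homogeneousSubmodule (Fin 3) k m ⊓
    ⨅ v ∈ Λ, LinearMap.ker (MvPolynomial.aeval v).toLinearMap

lemma mem_vanishing {Λ : Finset (Fin 3 → k)} {m : ℕ} {P : MvPolynomial (Fin 3) k} :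
    P ∈ vanishing Λ m ↔ P.IsHomogeneous m ∧ ∀ v ∈ Λ, aeval v P = 0 := by
  simp [vanishing, Submodule.mem_iInf]

lemma finrank_homogeneousSubmodule (m : ℕ) :
    Module.finrank k (MvPolynomial.homogeneousSubmodule (Fin 3) k m) = (m + 2).choose 2 := by
  classical
  rw [homogeneousSubmodule_eq_finsupp_supported,
    LinearEquiv.finrank_eq (AddMonoidAlgebra.supportedEquivFinsupp _)]
  have hS : {d : Fin 3 →₀ ℕ | d.degree = m} =
      ↑((Finset.univ : Finset (Fin 3)).finsuppAntidiag m) := by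
    ext d
    simp [Finsupp.degree_eq_sum]
  have hfin : Fintype {d : Fin 3 →₀ ℕ | d.degree = m} := by
    rw [hS]; infer_instance
  rw [Module.finrank_finsupp_self, ← Nat.card_eq_fintype_card]
  rw [hS, Nat.card_coe_set_eq, Set.ncard_coe_finset,
    Finset.card_finsuppAntidiag_nat_eq_choose]
  simp only [Finset.card_univ, Fintype.card_fin]
  rw [show 3 + m - 1 = m + 2 by omega]
  exact Nat.choose_symm_of_eq_add (by omega)

end Groth.Agent.H2.PlanePoints

namespace Groth.Agent.H2.PlanePoints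

open MvPolynomial

variable {k : Type*} [Field k]

lemma not_smul_of_linearIndependent {v w : Fin 3 → k} (h : LinearIndependent k ![v, w]) :
    ∀ c : k, v ≠ c • w := by
  intro c hc
  rw [LinearIndependent.pair_iff] at h
  have := h 1 (-c) (by rw [hc]; simp)
  exact one_ne_zero this.1

/-- the evaluation map on forms of degree `m` -/
noncomputable def evMap (Λ : Finset (Fin 3 → k)) (m : ℕ) :
    MvPolynomial.homogeneousSubmodule (Fin 3) k m →ₗ[k] (Λ → k) :=
  LinearMap.pi (fun v => (MvPolynomial.aeval v.1).toLinearMap ∘ₗ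
    (MvPolynomial.homogeneousSubmodule (Fin 3) k m).subtype)

lemma map_ker_evMap (Λ : Finset (Fin 3 → k)) (m : ℕ) :
    (LinearMap.ker (evMap Λ m)).map (MvPolynomial.homogeneousSubmodule (Fin 3) k m).subtype =
      vanishing Λ m := by
  ext P
  rw [mem_vanishing]
  constructor
  · rintro ⟨Q, hQ, rfl⟩
    refine ⟨Q.2, fun v hv => ?_⟩
    have := congrFun (LinearMap.mem_ker.mp hQ) ⟨v, hv⟩
    simpa [evMap] using this
  · rintro ⟨hP, hv⟩
    refine ⟨⟨P, hP⟩, ?_, rfl⟩
    change (⟨P, hP⟩ : MvPolynomial.homogeneousSubmodule (Fin 3) k m) ∈ LinearMap.ker (evMap Λ m)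
    rw [LinearMap.mem_ker]
    ext ⟨v, hv'⟩
    simpa [evMap] using hv v hv'

lemma evMap_surjective (Λ : Finset (Fin 3 → k))
    (hprop : ∀ v ∈ Λ, ∀ w ∈ Λ, v ≠ w → ∀ c : k, v ≠ c • w) :
    Function.Surjective (evMap Λ (Λ.card - 1)) := by
  classical
  -- separating forms
  have hsep : ∀ v ∈ Λ, ∀ w ∈ Λ, v ≠ w → ∃ f : (Fin 3 → k) →ₗ[k] k, f v ≠ 0 ∧ f w = 0 :=
    fun v hv w hw hvw => exists_sep (hprop v hv w hw hvw)
  choose! φ hφ using hsep
  -- the form P_v
  let P : (Fin 3 → k) → MvPolynomial (Fin 3) k := fun v => ∏ w ∈ Λ.erase v, linForm (φ v w)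
  have hPhom : ∀ v ∈ Λ, (P v).IsHomogeneous (Λ.card - 1) := by
    intro v hv
    have := prod_linForm_isHomogeneous (Λ.erase v) (φ v)
    rwa [Finset.card_erase_of_mem hv] at this
  have hPv : ∀ v ∈ Λ, aeval v (P v) ≠ 0 := by
    intro v hv
    rw [aeval_prod_linForm]
    refine Finset.prod_ne_zero_iff.mpr (fun w hw => ?_)
    rw [Finset.mem_erase] at hw
    exact (hφ v hv w hw.2 (Ne.symm hw.1)).1
  have hPw : ∀ v ∈ Λ, ∀ u ∈ Λ, u ≠ v → aeval u (P v) = 0 := by
    intro v hv u hu huv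
    rw [aeval_prod_linForm]
    exact Finset.prod_eq_zero (Finset.mem_erase.mpr ⟨huv, hu⟩) (hφ v hv u hu (Ne.symm huv)).2
  intro t
  refine ⟨⟨∑ v : Λ, (t v / aeval v.1 (P v.1)) • P v.1, ?_⟩, ?_⟩
  · refine Submodule.sum_mem _ (fun v _ => Submodule.smul_mem _ _ ?_)
    exact hPhom v.1 v.2
  · ext ⟨u, hu⟩
    simp only [evMap, LinearMap.pi_apply, LinearMap.coe_comp, Function.comp_apply,
      Submodule.subtype_apply, AlgHom.toLinearMap_apply, map_sum, map_smul]
    rw [Finset.sum_eq_single (⟨u, hu⟩ : Λ)]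
    · simp only [smul_eq_mul]
      exact div_mul_cancel₀ _ (hPv u hu)
    · rintro ⟨v, hv⟩ _ hne
      have : u ≠ v := fun h => hne (Subtype.ext h.symm)
      simp only [smul_eq_mul]
      rw [hPw v hv u hu this, mul_zero]
    · intro h; exact absurd (Finset.mem_univ _) h

theorem finrank_vanishing (Λ : Finset (Fin 3 → k))
    (hprop : ∀ v ∈ Λ, ∀ w ∈ Λ, v ≠ w → ∀ c : k, v ≠ c • w) :
    Module.finrank k (vanishing Λ (Λ.card - 1)) = (Λ.card - 1 + 2).choose 2 - Λ.card := by
  haveI : FiniteDimensional k (MvPolynomial.homogeneousSubmodule (Fin 3) k (Λ.card - 1)) :=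
    Module.Finite.iff_fg.mpr (homogeneousSubmodule_fg (Fin 3) k _)
  have h1 := LinearMap.finrank_range_add_finrank_ker (evMap Λ (Λ.card - 1))
  rw [LinearMap.range_eq_top.mpr (evMap_surjective Λ hprop), finrank_top,
    finrank_homogeneousSubmodule, Module.finrank_fintype_fun_eq_card, Fintype.card_coe] at h1
  rw [← map_ker_evMap, Submodule.finrank_map_subtype_eq]
  omega

end Groth.Agent.H2.PlanePoints

namespace Groth.Agent.H2.PlanePoints

open MvPolynomial

variable {k : Type*} [Field k]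

theorem exists_smul_of_vanishing_le (Λ Λ' : Finset (Fin 3 → k)) (n : ℕ) (hn : 3 ≤ n)
    (hcard' : Λ'.card = n)
    (hline' : ¬ ∃ ℓ : (Fin 3 → k) →ₗ[k] k, ℓ ≠ 0 ∧ ∀ v ∈ Λ', ℓ v = 0)
    (hle : vanishing Λ' (n - 1) ≤ vanishing Λ (n - 1)) :
    ∀ v ∈ Λ, ∃ w ∈ Λ', ∃ c : k, v = c • w := by
  classical
  intro v hv
  by_contra hcon
  push Not at hcon
  -- a first point
  have hne : Λ'.Nonempty := Finset.card_pos.mp (by omega)
  obtain ⟨w₁, hw₁⟩ := hne
  obtain ⟨ψ, hψ0, hψv, hψw₁⟩ := exists_plane v w₁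
  -- a second point off the plane
  obtain ⟨w₂, hw₂, hψw₂⟩ : ∃ w₂ ∈ Λ', ψ w₂ ≠ 0 := by
    by_contra h
    push Not at h
    exact hline' ⟨ψ, hψ0, h⟩
  have hw₁₂ : w₂ ≠ w₁ := by
    rintro rfl
    exact hψw₂ hψw₁
  have hvspan : v ∉ Submodule.span k {w₁, w₂} := by
    intro hmem
    obtain ⟨a, b, hab⟩ := Submodule.mem_span_pair.mp hmem
    have h1 : ψ v = a * ψ w₁ + b * ψ w₂ := by
      rw [← hab]; simp
    rw [hψv, hψw₁, mul_zero, zero_add] at h1
    have hb : b = 0 := by
      rcases mul_eq_zero.mp h1.symm with h | h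
      · exact h
      · exact absurd h hψw₂
    rw [hb, zero_smul, add_zero] at hab
    exact hcon w₁ hw₁ a hab.symm
  obtain ⟨χ, hχv, hχw₁, hχw₂⟩ := exists_sep₂ hvspan
  have hsep : ∀ w ∈ Λ', ∃ f : (Fin 3 → k) →ₗ[k] k, f v ≠ 0 ∧ f w = 0 :=
    fun w hw => exists_sep (hcon w hw)
  choose! φ hφ using hsep
  let s : Finset (Fin 3 → k) := (Λ'.erase w₁).erase w₂
  have hs : s.card = n - 2 := by
    rw [Finset.card_erase_of_mem (Finset.mem_erase.mpr ⟨hw₁₂, hw₂⟩),
      Finset.card_erase_of_mem hw₁, hcard']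
    omega
  let P : MvPolynomial (Fin 3) k := linForm χ * ∏ w ∈ s, linForm (φ w)
  have hPhom : P.IsHomogeneous (n - 1) := by
    have := (linForm_isHomogeneous χ).mul (prod_linForm_isHomogeneous s φ)
    rwa [hs, show 1 + (n - 2) = n - 1 by omega] at this
  have hPΛ' : P ∈ vanishing Λ' (n - 1) := by
    rw [mem_vanishing]
    refine ⟨hPhom, fun u hu => ?_⟩
    rw [map_mul, aeval_linForm, aeval_prod_linForm]
    by_cases h1 : u = w₁
    · rw [h1, hχw₁, zero_mul]
    by_cases h2 : u = w₂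
    · rw [h2, hχw₂, zero_mul]
    have hus : u ∈ s := Finset.mem_erase.mpr ⟨h2, Finset.mem_erase.mpr ⟨h1, hu⟩⟩
    rw [Finset.prod_eq_zero (f := fun w => φ w u) hus (hφ u hu).2, mul_zero]
  have hPv := (mem_vanishing.mp (hle hPΛ')).2 v hv
  rw [map_mul, aeval_linForm, aeval_prod_linForm] at hPv
  rcases mul_eq_zero.mp hPv with h | h
  · exact hχv h
  · rw [Finset.prod_eq_zero_iff] at h
    obtain ⟨w, hw, hw0⟩ := h
    have hwΛ' : w ∈ Λ' := Finset.mem_of_mem_erase (Finset.mem_of_mem_erase hw)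
    exact (hφ w hwΛ').1 hw0

end Groth.Agent.H2.PlanePoints
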