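import Groth.Agent.Lib.Helper2.PoincPolyB

/-!
# The Poincaré lemma for polynomial rings, exterior algebra form (helper2)
-/

universe u

set_option autoImplicit false

open exteriorPower MvPolynomial

namespace Groth.Agent.H2.PoincExt

open Groth.Agent.H2.PoincPoly

variable {k : Type u} [Field k] {n : ℕ}

section
variable
  (d : ExteriorAlgebra (MvPolynomial (Fin n) k) (KaehlerDifferential k (MvPolynomial (Fin n) k)) →ₗ[k]
      ExteriorAlgebra (MvPolynomial (Fin n) k) (KaehlerDifferential k (MvPolynomial (Fin n) k)))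
  (h0 : ∀ a : MvPolynomial (Fin n) k,
      d (algebraMap (MvPolynomial (Fin n) k) _ a) =
        ExteriorAlgebra.ι (MvPolynomial (Fin n) k) (KaehlerDifferential.D k (MvPolynomial (Fin n) k) a))
  (hdeg : ∀ (p : ℕ) (ω : ExteriorAlgebra (MvPolynomial (Fin n) k) (KaehlerDifferential k (MvPolynomial (Fin n) k))),
      ω ∈ ExteriorAlgebra.exteriorPower (MvPolynomial (Fin n) k) p (KaehlerDifferential k (MvPolynomial (Fin n) k)) →
        d ω ∈ ExteriorAlgebra.exteriorPower (MvPolynomial (Fin n) k) (p + 1) (KaehlerDifferential k (MvPolynomial (Fin n) k)))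
  (hder : ∀ (p : ℕ) (ω η : ExteriorAlgebra (MvPolynomial (Fin n) k) (KaehlerDifferential k (MvPolynomial (Fin n) k))),
      ω ∈ ExteriorAlgebra.exteriorPower (MvPolynomial (Fin n) k) p (KaehlerDifferential k (MvPolynomial (Fin n) k)) →
        d (ω * η) = d ω * η + (-1) ^ p * ω * d η)
  (hdd : ∀ ω, d (d ω) = 0)

include h0 hdd in
lemma d_ι_D (a : MvPolynomial (Fin n) k) :
    d (ExteriorAlgebra.ι (MvPolynomial (Fin n) k)
      (KaehlerDifferential.D k (MvPolynomial (Fin n) k) a)) = 0 := by
  rw [← h0, hdd]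

include h0 hder hdd in
/-- products of exact one-forms are closed. -/
lemma d_ιMulti_D : ∀ (p : ℕ) (b : Fin p → MvPolynomial (Fin n) k),
    d (ExteriorAlgebra.ιMulti (MvPolynomial (Fin n) k) p
      (fun i => KaehlerDifferential.D k (MvPolynomial (Fin n) k) (b i))) = 0
  | 0, b => by
    rw [ExteriorAlgebra.ιMulti_zero_apply]
    have h1 := h0 1
    rw [Derivation.map_one_eq_zero, map_zero] at h1
    have h2 : algebraMap (MvPolynomial (Fin n) k)
        (ExteriorAlgebra (MvPolynomial (Fin n) k)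
          (KaehlerDifferential k (MvPolynomial (Fin n) k))) 1 = 1 := map_one _
    rw [h2] at h1
    exact h1
  | p + 1, b => by
    rw [ExteriorAlgebra.ιMulti_succ_apply]
    rw [hder 1 _ _ (by
      change _ ∈ LinearMap.range (ExteriorAlgebra.ι (MvPolynomial (Fin n) k)) ^ 1
      rw [pow_one]
      exact LinearMap.mem_range_self _ _)]
    rw [d_ι_D d h0 hdd, zero_mul, zero_add]
    have h2 : (Matrix.vecTail fun i => KaehlerDifferential.D k (MvPolynomial (Fin n) k) (b i)) =
        fun i => KaehlerDifferential.D k (MvPolynomial (Fin n) k) (b i.succ) := rfl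
    rw [h2, d_ιMulti_D p (fun i => b i.succ), mul_zero]

/-- the graded pieces of the differential. -/
noncomputable def dp (p : ℕ) :
    ↥(⋀[MvPolynomial (Fin n) k]^p (KaehlerDifferential k (MvPolynomial (Fin n) k))) →ₗ[k]
      ↥(⋀[MvPolynomial (Fin n) k]^(p + 1) (KaehlerDifferential k (MvPolynomial (Fin n) k))) where
  toFun ω := ⟨d ω.1, hdeg p ω.1 ω.2⟩
  map_add' x y := by
    apply Subtype.ext
    change d (x.1 + y.1) = d x.1 + d y.1
    rw [map_add]
  map_smul' c x := by
    apply Subtype.ext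
    change d (c • x.1) = c • d x.1
    rw [map_smul]

include h0 hder hdd in
theorem isDiff_dp : DeRham.IsDiff (KaehlerDifferential.D k (MvPolynomial (Fin n) k))
    (dp d hdeg) := by
  refine ⟨?_, ?_⟩
  · intro p b₀ b
    apply Subtype.ext
    change d (b₀ • ExteriorAlgebra.ιMulti (MvPolynomial (Fin n) k) p
        (fun i => KaehlerDifferential.D k (MvPolynomial (Fin n) k) (b i))) =
      ExteriorAlgebra.ιMulti (MvPolynomial (Fin n) k) (p + 1)
        (Fin.cons (KaehlerDifferential.D k (MvPolynomial (Fin n) k) b₀)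
          (fun i => KaehlerDifferential.D k (MvPolynomial (Fin n) k) (b i)))
    rw [Algebra.smul_def, hder 0 _ _ (by
      change _ ∈ LinearMap.range (ExteriorAlgebra.ι (MvPolynomial (Fin n) k)) ^ 0
      rw [pow_zero, Submodule.mem_one]
      exact ⟨b₀, rfl⟩)]
    rw [d_ιMulti_D d h0 hder hdd p b, mul_zero, add_zero, h0, ExteriorAlgebra.ιMulti_succ_apply]
    rfl
  · intro p
    ext ω
    exact hdd ω.1

include h0 hdeg hder hdd in
/-- **Poincaré lemma, exterior algebra form.** -/
theorem poincare_ext [CharZero k] :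
    (∀ a : MvPolynomial (Fin n) k, d (algebraMap (MvPolynomial (Fin n) k) _ a) = 0 →
        ∃ c : k, a = MvPolynomial.C c) ∧
    ∀ (p : ℕ) (ω : ExteriorAlgebra (MvPolynomial (Fin n) k) (KaehlerDifferential k (MvPolynomial (Fin n) k))),
      ω ∈ ExteriorAlgebra.exteriorPower (MvPolynomial (Fin n) k) (p + 1) (KaehlerDifferential k (MvPolynomial (Fin n) k)) →
        d ω = 0 →
          ∃ θ ∈ ExteriorAlgebra.exteriorPower (MvPolynomial (Fin n) k) p (KaehlerDifferential k (MvPolynomial (Fin n) k)),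
            d θ = ω := by
  refine ⟨?_, ?_⟩
  · intro a ha
    rw [h0] at ha
    have h1 : KaehlerDifferential.D k (MvPolynomial (Fin n) k) a = 0 := by
      have h2 := ExteriorAlgebra.ι_inj (R := MvPolynomial (Fin n) k)
        (x := KaehlerDifferential.D k (MvPolynomial (Fin n) k) a) (y := 0)
      rw [map_zero] at h2
      exact h2.mp ha
    have h3 : euler a = 0 := by
      rw [← eps_D, h1, map_zero]
    exact ⟨_, eq_C_of_euler_eq_zero a h3⟩
  · intro p ω hω hω0
    have hd := isDiff_dp d h0 hdeg hder hdd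
    have hmem : (⟨ω, hω⟩ : ↥(⋀[MvPolynomial (Fin n) k]^(p + 1)
        (KaehlerDifferential k (MvPolynomial (Fin n) k)))) ∈
        DeRham.cocycles (dp d hdeg) (p + 1) := by
      change dp d hdeg (p + 1) ⟨ω, hω⟩ = 0
      apply Subtype.ext
      exact hω0
    obtain ⟨θ, hθ⟩ := poincare_poly (dp d hdeg) hd p hmem
    exact ⟨θ.1, θ.2, congrArg Subtype.val hθ⟩

end

end Groth.Agent.H2.PoincExt
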