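import Mathlib
import Groth.Prelude.Def_DeRham
import Groth.Agent.Lib.Helper5.Poinc.D

/-!
# The Euler derivation of a polynomial ring (helper2)
-/

universe u v

set_option autoImplicit false
set_option linter.unusedSectionVars false

open exteriorPower MvPolynomial

namespace Groth.Agent.H2.PoincPoly

variable {k : Type u} [Field k] {σ : Type v} [Fintype σ]

/-- the Euler derivation `Σ X_i ∂/∂X_i`. -/
noncomputable def euler : Derivation k (MvPolynomial σ k) (MvPolynomial σ k) :=
  ∑ i, (X i : MvPolynomial σ k) • (pderiv i : Derivation k (MvPolynomial σ k) (MvPolynomial σ k))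

lemma euler_apply (f : MvPolynomial σ k) : euler f = ∑ i, X i * pderiv i f := by
  have h : ((∑ i, (X i : MvPolynomial σ k) •
      (pderiv i : Derivation k (MvPolynomial σ k) (MvPolynomial σ k)) :
      Derivation k (MvPolynomial σ k) (MvPolynomial σ k)) : MvPolynomial σ k → MvPolynomial σ k) =
      ∑ i, (((X i : MvPolynomial σ k) •
        (pderiv i : Derivation k (MvPolynomial σ k) (MvPolynomial σ k)) :
        Derivation k (MvPolynomial σ k) (MvPolynomial σ k)) : MvPolynomial σ k → MvPolynomial σ k) :=
    map_sum (Derivation.coeFnAddMonoidHom (R := k) (A := MvPolynomial σ k)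
      (M := MvPolynomial σ k)) _ _
  rw [euler, h, Finset.sum_apply]
  rfl

lemma euler_monomial (m : σ →₀ ℕ) (r : k) :
    euler (monomial m r) = (∑ i, m i) • monomial m r := by
  rw [euler_apply, Finset.sum_smul]
  exact Finset.sum_congr rfl fun i _ => X_mul_pderiv_monomial

lemma coeff_euler (f : MvPolynomial σ k) (α : σ →₀ ℕ) :
    coeff α (euler f) = ((∑ i, α i : ℕ) : k) * coeff α f := by
  classical
  induction f using MvPolynomial.induction_on' with
  | monomial m r =>
    rw [euler_monomial, coeff_smul, coeff_monomial]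
    by_cases h : m = α
    · subst h
      rw [if_pos rfl, nsmul_eq_mul]
    · rw [if_neg h, smul_zero, mul_zero]
  | add p q hp hq => rw [map_add, coeff_add, hp, hq, coeff_add, mul_add]

lemma coeff_euler_add (q : ℕ) (f : MvPolynomial σ k) (α : σ →₀ ℕ) :
    coeff α (euler f + q • f) = (((∑ i, α i) + q : ℕ) : k) * coeff α f := by
  rw [coeff_add, coeff_euler, coeff_smul, nsmul_eq_mul, Nat.cast_add]
  ring

theorem euler_add_injective [CharZero k] (q : ℕ) (hq : 1 ≤ q) (f : MvPolynomial σ k)
    (h : euler f + q • f = 0) : f = 0 := by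
  ext α
  have h1 := congrArg (coeff α) h
  rw [coeff_euler_add, coeff_zero] at h1
  rw [coeff_zero]
  rcases mul_eq_zero.mp h1 with h2 | h2
  · exfalso
    have : ((∑ i, α i) + q : ℕ) ≠ 0 := by omega
    exact this (by exact_mod_cast h2)
  · exact h2

theorem euler_add_surjective [CharZero k] (q : ℕ) (hq : 1 ≤ q) (g : MvPolynomial σ k) :
    ∃ f : MvPolynomial σ k, euler f + q • f = g := by
  classical
  refine ⟨∑ α ∈ g.support, monomial α (coeff α g / (((∑ i, α i) + q : ℕ) : k)), ?_⟩
  ext β
  rw [coeff_euler_add, coeff_sum]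
  simp only [coeff_monomial]
  rw [Finset.sum_ite_eq' g.support β]
  have hne : (((∑ i, β i) + q : ℕ) : k) ≠ 0 := by
    have : ((∑ i, β i) + q : ℕ) ≠ 0 := by omega
    exact_mod_cast this
  by_cases hβ : β ∈ g.support
  · rw [if_pos hβ]
    field_simp
  · rw [if_neg hβ, mul_zero]
    exact (notMem_support_iff.mp hβ).symm

/-- a polynomial killed by the Euler derivation is constant (characteristic zero). -/
theorem eq_C_of_euler_eq_zero [CharZero k] (f : MvPolynomial σ k) (h : euler f = 0) :
    f = C (coeff 0 f) := by
  classical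
  ext α
  have h1 := congrArg (coeff α) h
  rw [coeff_euler, coeff_zero] at h1
  rw [coeff_C]
  by_cases hα : 0 = α
  · subst hα
    rw [if_pos rfl]
  · rw [if_neg hα]
    rcases mul_eq_zero.mp h1 with h2 | h2
    · exfalso
      have h3 : (∑ i, α i : ℕ) = 0 := by exact_mod_cast h2
      apply hα
      ext i
      have := Finset.sum_eq_zero_iff.mp h3 i (Finset.mem_univ i)
      simp [this]
    · exact h2

/-- the contraction with the Euler field on Kähler differentials. -/
noncomputable def eps : Ω[MvPolynomial σ k⁄k] →ₗ[MvPolynomial σ k] MvPolynomial σ k :=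
  (euler (k := k) (σ := σ)).liftKaehlerDifferential

lemma eps_D (f : MvPolynomial σ k) :
    eps (KaehlerDifferential.D k (MvPolynomial σ k) f) = euler f :=
  Derivation.liftKaehlerDifferential_comp_D _ f

lemma eps_D_X (i : σ) :
    eps (KaehlerDifferential.D k (MvPolynomial σ k) (X i)) = 1 • (X i : MvPolynomial σ k) := by
  rw [eps_D, X, euler_monomial, one_smul]
  have : (∑ j, (Finsupp.single i 1 : σ →₀ ℕ) j) = 1 := by
    classical
    rw [Finset.sum_eq_single i]
    · simp
    · intro j _ hj
      simp [hj.symm]
    · intro h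
      exact absurd (Finset.mem_univ i) h
  rw [this, one_smul]

end Groth.Agent.H2.PoincPoly
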