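import Mathlib
import Groth.Agent.Lib.Helper2.Serre4

/-! The Grothendieck–Serre formula, final form. -/

universe u
open DirectSum GrLC Groth.Agent.H6 Groth.Agent.H6.Gr
set_option linter.unusedSectionVars false

namespace Groth.Agent.H2.Serre

variable {R : Type u} [CommRing R] [IsNoetherianRing R] {𝒜 : ℤ → AddSubgroup R} [GradedRing 𝒜]

/-- finitely many generators of degree one for the irrelevant ideal of a standard graded ring -/
theorem exists_gens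
    (hstd : Ideal.span (⋃ n ∈ Set.Ioi (0 : ℤ), (𝒜 n : Set R)) =
      Ideal.span ((𝒜 1 : AddSubgroup R) : Set R)) :
    ∃ T : Finset R, (∀ t ∈ T, t ∈ 𝒜 1) ∧
      ∀ k : ℤ, 0 < k → ∀ r ∈ 𝒜 k, r ∈ Ideal.span (T : Set R) := by
  have hfg : (Submodule.span R ((𝒜 1 : AddSubgroup R) : Set R)).FG :=
    IsNoetherian.noetherian _
  obtain ⟨T, hT1, hT2⟩ := (Submodule.fg_span_iff_fg_span_finset_subset _).mp hfg
  refine ⟨T, fun t ht => hT1 ht, fun k hk r hr => ?_⟩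
  have h1 : r ∈ Ideal.span (⋃ n ∈ Set.Ioi (0 : ℤ), (𝒜 n : Set R)) := by
    apply Ideal.subset_span
    simp only [Set.mem_iUnion, Set.mem_Ioi, SetLike.mem_coe]
    exact ⟨k, hk, hr⟩
  rw [hstd] at h1
  change r ∈ Submodule.span R ((𝒜 1 : AddSubgroup R) : Set R) at h1
  rw [hT2] at h1
  exact h1

/-- **the Grothendieck–Serre formula** -/
theorem serre_formula (hpos : ∀ n : ℤ, n < 0 → 𝒜 n = ⊥)
    (hstd : Ideal.span (⋃ n ∈ Set.Ioi (0 : ℤ), (𝒜 n : Set R)) =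
      Ideal.span ((𝒜 1 : AddSubgroup R) : Set R))
    [IsArtinianRing (GrLC.deg0 𝒜)] (m : HomogeneousIdeal 𝒜) (hm : GrLC.IsStarLocal 𝒜 m) (d : ℕ)
    (hd : ringKrullDim R = d) (M : Type u) [AddCommGroup M] [Module R M] [Module.Finite R M]
    (ℳ : ℤ → AddSubgroup M) [DirectSum.Decomposition ℳ] [SetLike.GradedSMul 𝒜 ℳ]
    (E : GrLC.StarInjRes 𝒜 ℳ) (P : Polynomial ℚ)
    (hP : ∃ N : ℤ, ∀ n : ℤ, N ≤ n → P.eval (n : ℚ) =
      ((Module.length (GrLC.deg0 𝒜) (GrLC.comp 𝒜 ℳ n)).toNat : ℚ)) (n : ℤ) :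
    ((Module.length (GrLC.deg0 𝒜) (GrLC.comp 𝒜 ℳ n)).toNat : ℚ) - P.eval (n : ℚ) =
      ∑ i ∈ Finset.range (d + 1),
        (-1 : ℚ) ^ i * ((Module.length (GrLC.deg0 𝒜) (E.Hcomp m i n)).toNat : ℚ) := by
  obtain ⟨T, hT, hgen⟩ := exists_gens hstd
  have hG := good hpos m hm d hd
  let X : GMod.{u} 𝒜 := GMod.of 𝒜 M ℳ
  haveI : Module.Finite R X.carrier := ‹Module.Finite R M›
  have hP' : ∃ N : ℤ, ∀ n : ℤ, N ≤ n → P.eval (n : ℚ) = (hil X n : ℚ) := by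
    obtain ⟨N, hN⟩ := hP
    refine ⟨N, fun n hn => ?_⟩
    rw [hN n hn]
    unfold hil len
    push_cast
    rfl
  have key := formula hG T hT hgen X E P hP' n
  have h1 : (hil X n : ℚ) = ((Module.length (GrLC.deg0 𝒜) (GrLC.comp 𝒜 ℳ n)).toNat : ℚ) := by
    unfold hil len
    push_cast
    rfl
  rw [h1] at key
  rw [key]
  rfl

end Groth.Agent.H2.Serre
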