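import Mathlib
import Groth.Agent.Lib.Helper2.Serre5
import Groth.Agent.Lib.Helper2.GrHt
import Groth.Agent.Lib.Helper6.LCMaxLoc
import Groth.Agent.Lib.Helper6.GrLCCompare

/-! The Grothendieck–Serre formula for Cohen–Macaulay standard graded rings: only the top local
cohomology contributes; the a-invariant is the last degree in which the Hilbert function and the
Hilbert polynomial differ. -/

universe u
open DirectSum GrLC Groth.Agent.H6 Groth.Agent.H6.Gr
set_option linter.unusedSectionVars false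

namespace Groth.Agent.H2.Serre

variable {R : Type u} [CommRing R] [hR : LocCoh.IsCohenMacaulayRing R] {𝒜 : ℤ → AddSubgroup R}
  [GradedRing 𝒜] (hpos : ∀ n : ℤ, n < 0 → 𝒜 n = ⊥) [IsArtinianRing (GrLC.deg0 𝒜)]
  (m : HomogeneousIdeal 𝒜) (hm : GrLC.IsStarLocal 𝒜 m) (d : ℕ) (hd : ringKrullDim R = d)

include hpos hm hd in
/-- local cohomology of a Cohen–Macaulay *local ring vanishes outside the dimension -/
theorem cm_subsingleton (I : GrLC.StarInjRes 𝒜 𝒜) (j : ℕ) (hj : j ≠ d) :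
    Subsingleton (I.H m j) := by
  haveI hmax : m.toIdeal.IsMaximal := isMaximal_of_isCoatom hpos m hm.1
  have hh := height_starMaximal hpos m hm d hd
  obtain ⟨e⟩ := nonempty_H_equiv 𝒜 𝒜 I m j
  haveI := MaxLoc.cm_vanish m.toIdeal d hh j hj
  exact e.toEquiv.subsingleton

include hpos hm hd in
theorem cm_Hcomp_eq_bot (I : GrLC.StarInjRes 𝒜 𝒜) (j : ℕ) (hj : j ≠ d) (n : ℤ) :
    I.Hcomp m j n = ⊥ := by
  haveI := cm_subsingleton hpos m hm d hd I j hj
  rw [eq_bot_iff]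
  intro y _
  rw [Submodule.mem_bot]
  exact Subsingleton.elim _ _

variable (hstd : Ideal.span (⋃ n ∈ Set.Ioi (0 : ℤ), (𝒜 n : Set R)) =
      Ideal.span ((𝒜 1 : AddSubgroup R) : Set R))

include hpos hm hd hstd in
/-- the Grothendieck–Serre formula for a Cohen–Macaulay ring -/
theorem cm_formula (I : GrLC.StarInjRes 𝒜 𝒜) (P : Polynomial ℚ)
    (hP : ∃ N : ℤ, ∀ n : ℤ, N ≤ n → P.eval (n : ℚ) =
      ((Module.length (GrLC.deg0 𝒜) (GrLC.comp 𝒜 𝒜 n)).toNat : ℚ)) (n : ℤ) :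
    ((Module.length (GrLC.deg0 𝒜) (GrLC.comp 𝒜 𝒜 n)).toNat : ℚ) - P.eval (n : ℚ) =
      (-1 : ℚ) ^ d * ((Module.length (GrLC.deg0 𝒜) (I.Hcomp m d n)).toNat : ℚ) := by
  rw [serre_formula hpos hstd m hm d hd R 𝒜 I P hP n, Finset.sum_range_succ]
  have h1 : ∀ i ∈ Finset.range d,
      (-1 : ℚ) ^ i * ((Module.length (GrLC.deg0 𝒜) (I.Hcomp m i n)).toNat : ℚ) = 0 := by
    intro i hi
    rw [cm_Hcomp_eq_bot hpos m hm d hd I i (ne_of_lt (Finset.mem_range.mp hi)) n]
    have : Module.length (GrLC.deg0 𝒜) ↥(⊥ : Submodule (GrLC.deg0 𝒜) (I.H m i)) = 0 :=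
      Module.length_eq_zero
    rw [this]
    simp
  rw [Finset.sum_eq_zero h1, zero_add]

include hpos hm hd in
/-- the pieces of the top local cohomology have finite length -/
theorem cm_length_ne_top (I : GrLC.StarInjRes 𝒜 𝒜) (q : ℕ) (n : ℤ) :
    Module.length (GrLC.deg0 𝒜) (I.Hcomp m q n) ≠ ⊤ := by
  haveI : Module.Finite R (GMod.of 𝒜 R 𝒜).carrier := (inferInstance : Module.Finite R R)
  exact (good hpos m hm d hd).fin_H (GMod.of 𝒜 R 𝒜) I q n

include hpos hm hd hstd in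
/-- the pieces of the top local cohomology vanish exactly where the Hilbert function and the
Hilbert polynomial agree -/
theorem cm_Hgr_ne_bot_iff (I : GrLC.StarInjRes 𝒜 𝒜) (P : Polynomial ℚ)
    (hP : ∃ N : ℤ, ∀ n : ℤ, N ≤ n → P.eval (n : ℚ) =
      ((Module.length (GrLC.deg0 𝒜) (GrLC.comp 𝒜 𝒜 n)).toNat : ℚ)) (n : ℤ) :
    I.Hgr m d n ≠ ⊥ ↔
      P.eval (n : ℚ) ≠ ((Module.length (GrLC.deg0 𝒜) (GrLC.comp 𝒜 𝒜 n)).toNat : ℚ) := by
  have hf := cm_formula hpos m hm d hd hstd I P hP n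
  have hfin := cm_length_ne_top hpos m hm d hd I d n
  have hzero : I.Hgr m d n = ⊥ ↔ (Module.length (GrLC.deg0 𝒜) (I.Hcomp m d n)).toNat = 0 := by
    rw [ENat.toNat_eq_zero]
    constructor
    · intro h
      left
      rw [Module.length_eq_zero_iff]
      refine ⟨fun a b => ?_⟩
      have ha : (a : I.H m d) ∈ I.Hgr m d n := a.2
      have hb : (b : I.H m d) ∈ I.Hgr m d n := b.2
      rw [h, AddSubgroup.mem_bot] at ha hb
      exact Subtype.ext (ha.trans hb.symm)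
    · rintro (h | h)
      · rw [Module.length_eq_zero_iff] at h
        rw [eq_bot_iff]
        intro y hy
        rw [AddSubgroup.mem_bot]
        have : (⟨y, hy⟩ : I.Hcomp m d n) = 0 := Subsingleton.elim _ _
        exact congrArg Subtype.val this
      · exact absurd h hfin
  rw [Ne, hzero]
  constructor
  · intro h1 h2
    apply h1
    rw [h2, sub_self] at hf
    have h3 : ((Module.length (GrLC.deg0 𝒜) (I.Hcomp m d n)).toNat : ℚ) = 0 := by
      rcases mul_eq_zero.mp hf.symm with h | h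
      · exact absurd h (pow_ne_zero d (by norm_num))
      · exact h
    exact_mod_cast h3
  · intro h1 h2
    apply h1
    rw [h2] at hf
    simp only [Nat.cast_zero, mul_zero] at hf
    linarith

include hpos hm hd hstd in
/-- **S17772** -/
theorem endDeg_eq_iSup (I : GrLC.StarInjRes 𝒜 𝒜) (P : Polynomial ℚ)
    (hP : ∃ N : ℤ, ∀ n : ℤ, N ≤ n → P.eval (n : ℚ) =
      ((Module.length (GrLC.deg0 𝒜) (GrLC.comp 𝒜 𝒜 n)).toNat : ℚ)) :
    GrLC.endDeg (I.Hgr m d) = ⨆ (n : ℤ) (_ : P.eval (n : ℚ) ≠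
      ((Module.length (GrLC.deg0 𝒜) (GrLC.comp 𝒜 𝒜 n)).toNat : ℚ)),
        ((n : WithTop ℤ) : WithBot (WithTop ℤ)) := by
  unfold GrLC.endDeg
  apply iSup_congr
  intro n
  have h := cm_Hgr_ne_bot_iff hpos m hm d hd hstd I P hP n
  by_cases hc : I.Hgr m d n ≠ ⊥
  · rw [iSup_pos hc, iSup_pos (h.mp hc)]
  · rw [iSup_neg hc, iSup_neg (fun h' => hc (h.mpr h'))]

end Groth.Agent.H2.Serre
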